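import Groth.Statements.S14014
import Groth.Agent.L28.ProEt.Kernels

set_option autoImplicit false
open CategoryTheory CategoryTheory.Limits AlgebraicGeometry Opposite
universe u
open EtModW

namespace Groth.Agent.S14014

/-- Let X be a Noetherian scheme, Λ a Noetherian commutative ring, I an ideal of Λ and F an I-adic
pro-étale sheaf of Λ-modules on X: F has a compatible tower of quotient maps F ⟶ Q_n modulo I^(n+1),
every Q_n isomorphic to the pro-étale pullback of a constructible étale sheaf of Λ-modules, and the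
canonical map F ⟶ lim_n Q_n is an isomorphism. Then every increasing chain Z_0 ≤ Z_1 ≤ ⋯ of
subobjects of F (subsheaves of Λ-modules on the small pro-étale site) all of whose underlying
sheaves are I-adic pro-étale sheaves becomes constant: Z_k = Z_(k₀) for all k ≥ k₀. (Continuity of
the inclusion of the étale site into the pro-étale site is carried as a binder.) -/
theorem result
    (Λ : Type (u + 1)) [CommRing Λ] [IsNoetherianRing Λ] (I : Ideal Λ)
    (X : Scheme.{u}) [IsNoetherian X] [ProEtS.EpsCont X]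
    (F : EtModW.ModP Λ X)
    (hF : (∃ (Q : ℕᵒᵖ ⥤ EtModW.ModP Λ X) (p : (Functor.const ℕᵒᵖ).obj F ⟶ Q),
        (∀ n : ℕ, ARSys.IsQuot (I ^ (n + 1)) (p.app (op n))) ∧
        (∀ n : ℕ, ∃ E : EtModW.Mod Λ X, EtModW.IsConstructible Λ E ∧
          Nonempty ((EtModW.epsPullMod Λ X).obj E ≅ Q.obj (op n))) ∧
        IsIso (limit.lift Q (Cone.mk F p))))
    (Z : ℕ →o Subobject F)
    (hZ : ∀ k : ℕ, (∃ (Q : ℕᵒᵖ ⥤ EtModW.ModP Λ X) (p : (Functor.const ℕᵒᵖ).obj (Subobject.underlying.obj (Z k)) ⟶ Q),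
        (∀ n : ℕ, ARSys.IsQuot (I ^ (n + 1)) (p.app (op n))) ∧
        (∀ n : ℕ, ∃ E : EtModW.Mod Λ X, EtModW.IsConstructible Λ E ∧
          Nonempty ((EtModW.epsPullMod Λ X).obj E ≅ Q.obj (op n))) ∧
        IsIso (limit.lift Q (Cone.mk (Subobject.underlying.obj (Z k)) p)))) :
    ∃ k₀ : ℕ, ∀ k : ℕ, k₀ ≤ k → Z k = Z k₀ := by
  have hP : ∀ {A B : EtModW.Mod Λ X}, (A ≅ B) → EtModW.IsConstructible Λ A → EtModW.IsConstructible Λ B :=
    fun e h => Groth.L28.Noeth.isConstructible_quot h e.hom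
  have hI : I.FG := IsNoetherian.noetherian I
  obtain ⟨A, hA, hAc, ⟨eF⟩⟩ := (Groth.L28.ProEt.isAdicP_iff hI (EtModW.IsConstructible Λ) hP F).1 hF
  exact Groth.L28.ProEt.chain_stable_limit hA hAc eF Z fun k =>
    (Groth.L28.ProEt.isAdicP_iff hI (EtModW.IsConstructible Λ) hP _).1 (hZ k)

end Groth.Agent.S14014
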