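import Groth.Statements.S14018
import Mathlib.CategoryTheory.Sites.LocallySurjective
import Mathlib.CategoryTheory.Sites.Limits
import Mathlib.CategoryTheory.Limits.Types.Limits

set_option autoImplicit false
open CategoryTheory CategoryTheory.Limits Opposite
universe w v u
open CohSite

namespace Groth.Agent.S14018

/-- Let (C, J) be a site with enough weakly contractible objects — every object V has a covering sieve
all of whose arrows factor through some weakly contractible object, an object U being weakly
contractible when every epimorphism of sheaves of sets (valued in a fixed universe) is surjective on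
sections over U. Then the topos of sheaves of sets is replete: if (F_n) is an inverse system of
sheaves of sets indexed by ℕ with every transition map F_(n+1) ⟶ F_n an epimorphism, then each
projection lim_n F_n ⟶ F_n is an epimorphism; the limit is taken as any limit cone. (The small
pro-étale site of a scheme is such a site.) -/
theorem result
    {C : Type u} [Category.{v} C] (J : GrothendieckTopology C)
    (hwc : ∀ V : C, ∃ S : Sieve V, S ∈ J V ∧ ∀ ⦃W : C⦄ (f : W ⟶ V), S.arrows f →
      ∃ (U : C) (g : W ⟶ U) (h : U ⟶ V), (∀ (A B : Sheaf J (Type w)) (ψ : A ⟶ B), Epi ψ → Function.Surjective (ψ.hom.app (op U))) ∧ g ≫ h = f)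
    (F : ℕᵒᵖ ⥤ Sheaf J (Type w))
    (hF : ∀ n : ℕ, Epi (F.map (homOfLE (Nat.le_succ n)).op))
    (c : Cone F) (hc : IsLimit c) (n : ℕ) :
    Epi (c.π.app (op n)) := by
  suffices Sheaf.IsLocallySurjective (c.π.app (op n)) by infer_instance
  refine ⟨fun {V} s => ?_⟩
  obtain ⟨R, hR, hRf⟩ := hwc V
  refine J.superset_covering (fun W f hf => ?_) hR
  obtain ⟨U, g, h, hU, rfl⟩ := hRf f hf
  let ev := sheafToPresheaf J (Type w) ⋙ (evaluation Cᵒᵖ (Type w)).obj (op U)
  let t : ∀ m : ℕ, (F.obj (op (n + m))).obj.obj (op U) := fun m =>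
    m.rec ((F.obj (op n)).obj.map h.op s) (fun k a => (hU _ _ _ (hF (n + k)) a).choose)
  have ht : ∀ m, (F.map (homOfLE (Nat.le_succ (n + m))).op).hom.app (op U) (t (m + 1)) = t m := fun m =>
    (hU _ _ _ (hF (n + m)) (t m)).choose_spec
  have htr : ∀ a b : ℕ, a ≤ b → ∀ (hab : n + a ≤ n + b), (F.map (homOfLE hab).op).hom.app (op U) (t b) = t a := by
    intro a b hle
    induction b, hle using Nat.le_induction with
    | base => intro hab; simp [Subsingleton.elim (homOfLE hab) (𝟙 _)]
    | succ b hb ih =>
      intro hab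
      rw [← ih (by omega), ← ht b, ← ConcreteCategory.comp_apply, ← NatTrans.comp_app, ← ObjectProperty.FullSubcategory.comp_hom, ← F.map_comp]
      rfl
  let sec : ∀ m : ℕᵒᵖ, (F ⋙ ev).obj m := fun m =>
    (F.map (homOfLE (show m.unop ≤ n + m.unop by omega)).op).hom.app (op U) (t m.unop)
  have hsec : sec ∈ (F ⋙ ev).sections := by
    rintro ⟨a⟩ ⟨b⟩ φ
    have hle : b ≤ a := leOfHom φ.unop
    change (F.map φ).hom.app (op U) (sec ⟨a⟩) = sec ⟨b⟩
    simp only [sec]
    rw [← htr b a hle (by omega), ← ConcreteCategory.comp_apply, ← ConcreteCategory.comp_apply, ← NatTrans.comp_app,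
      ← NatTrans.comp_app, ← ObjectProperty.FullSubcategory.comp_hom, ← ObjectProperty.FullSubcategory.comp_hom, ← F.map_comp, ← F.map_comp]
    rfl
  obtain ⟨x, hx, -⟩ := (Types.isLimit_iff (ev.mapCone c)).1 ⟨isLimitOfPreserves ev hc⟩ sec hsec
  refine ⟨c.pt.obj.map g.op x, ?_⟩
  have hxn : (c.π.app (op n)).hom.app (op U) x = (F.obj (op n)).obj.map h.op s := by
    refine (hx (op n)).trans ?_
    exact htr 0 n (Nat.zero_le n) (by omega)
  change (c.π.app (op n)).hom.app (op W) _ = (F.obj (op n)).obj.map (g ≫ h).op s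
  erw [NatTrans.naturality_apply (c.π.app (op n)).hom g.op x, hxn]
  rw [op_comp, Functor.map_comp, ConcreteCategory.comp_apply]

end Groth.Agent.S14018
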