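import Groth.Statements.S14019
import Groth.Agent.L28.ProEt.WeakSerre

set_option autoImplicit false
open CategoryTheory CategoryTheory.Limits AlgebraicGeometry Opposite
universe u
open EtModW

namespace Groth.Agent.S14019

/-- Let X be a scheme and Λ a Noetherian commutative ring. A sheaf of Λ-modules on the small pro-étale
site of X is called constructible when it is isomorphic to the pro-étale pullback ε⁻¹G of a
constructible sheaf G of Λ-modules on the small étale site. Then the constructible sheaves form a
weak Serre subcategory of the category of all sheaves of Λ-modules on the small pro-étale site: the
property holds for zero, for the kernel and cokernel of any morphism between constructible sheaves,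
and for any extension of two constructible sheaves. (Continuity of the inclusion of the étale site
into the pro-étale site is carried as a binder.) -/
theorem result
    (Λ : Type (u + 1)) [CommRing Λ] [IsNoetherianRing Λ]
    (X : Scheme.{u}) [ProEtS.EpsCont X] :
    WSerre.IsWeakSerre (fun F : EtModW.ModP Λ X =>
      ∃ E : EtModW.Mod Λ X, EtModW.IsConstructible Λ E ∧ Nonempty ((EtModW.epsPullMod Λ X).obj E ≅ F)) := by
  haveI := Groth.L28.ProEt.isWeakSerre_isConstructible (Λ := Λ) (X := X)
  exact Groth.L28.ProEt.isWeakSerre_mod Λ X _

end Groth.Agent.S14019
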