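import Groth.Statements.S14020
import Mathlib.RingTheory.HopkinsLevitzki
import Mathlib.RingTheory.Noetherian.OfPrime
import Mathlib.RingTheory.Finiteness.Ideal

set_option autoImplicit false
universe u
open CAlg

namespace Groth.Agent.S14020

/-- Let R be a commutative ring and I a finitely generated ideal such that the quotient ring R/I is
artinian. Then R/I^n is artinian for every n. -/
theorem result
    (R : Type u) [CommRing R] (I : Ideal R) (hI : I.FG) [IsArtinianRing (R ⧸ I)] (n : ℕ) :
    IsArtinianRing (R ⧸ I ^ n) := by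
  rcases Nat.eq_zero_or_pos n with rfl | hn
  · have : Subsingleton (R ⧸ I ^ 0) :=
      Ideal.Quotient.subsingleton_iff.mpr (by rw [pow_zero, Ideal.one_eq_top])
    infer_instance
  have hle : ∀ P : Ideal (R ⧸ I ^ n), P.IsPrime → I ≤ P.comap (Ideal.Quotient.mk (I ^ n)) := by
    intro P hP
    refine Ideal.IsPrime.le_of_pow_le (n := n) ?_
    conv_lhs => rw [← Ideal.mk_ker (I := I ^ n)]
    exact Ideal.comap_mono bot_le
  let π : R ⧸ I ^ n →+* R ⧸ I := Ideal.Quotient.factor (Ideal.pow_le_self hn.ne')
  have hπ : Function.Surjective π := Ideal.Quotient.factor_surjective _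
  have hker : RingHom.ker π = I.map (Ideal.Quotient.mk _) := by
    exact (Ideal.ker_quotient_lift (Ideal.Quotient.mk I) _).trans (by rw [Ideal.mk_ker])
  have hkle : ∀ P : Ideal (R ⧸ I ^ n), P.IsPrime → RingHom.ker π ≤ P := by
    intro P hP
    rw [hker, Ideal.map_le_iff_le_comap]
    exact hle P hP
  have : IsNoetherianRing (R ⧸ I ^ n) := by
    refine IsNoetherianRing.of_prime fun P hP => ?_
    refine Ideal.fg_of_fg_map_of_fg_inf_ker_of_surjective (f := π) ((P.map π).fg_of_isNoetherianRing) ?_ hπ
    rw [inf_eq_right.mpr (hkle P hP), hker]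
    exact hI.map _
  rw [isArtinianRing_iff_isNoetherianRing_krullDimLE_zero]
  refine ⟨inferInstance, Ring.KrullDimLE.mk₀ fun P hP => ?_⟩
  have := Ideal.map_isPrime_of_surjective hπ (hkle P hP)
  have hm : (P.map π).IsMaximal := IsArtinianRing.isMaximal_of_isPrime _
  rw [← sup_eq_left.mpr (hkle P hP), RingHom.ker_eq_comap_bot, ← Ideal.comap_map_of_surjective π hπ]
  exact Ideal.comap_isMaximal_of_surjective π hπ

end Groth.Agent.S14020
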