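import Groth.Statements.S14023
import Mathlib.CategoryTheory.Functor.OfSequence
import Mathlib.CategoryTheory.Limits.FunctorCategory.Basic
import Mathlib.CategoryTheory.Preadditive.Injective.Basic
import Mathlib.CategoryTheory.Limits.FunctorCategory.EpiMono
import Mathlib.CategoryTheory.Limits.Shapes.BinaryBiproducts

set_option autoImplicit false
open CategoryTheory CategoryTheory.Limits Opposite
universe v u
open ARSys

namespace Groth.Agent.S14023

variable {A : Type u} [Category.{v} A] [Abelian A]

/-- Levels of the cofree system on a sequence of objects. -/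
noncomputable def cofreeObj (I : ℕ → A) : ℕ → A
  | 0 => I 0
  | n + 1 => cofreeObj I n ⊞ I (n + 1)

/-- The cofree system. -/
noncomputable def cofree (I : ℕ → A) : ℕᵒᵖ ⥤ A :=
  Functor.ofOpSequence (X := cofreeObj I) fun n => (biprod.fst : cofreeObj I n ⊞ I (n + 1) ⟶ cofreeObj I n)

/-- A morphism into the cofree system from its coordinates. -/
noncomputable def toCofreeApp {F : ℕᵒᵖ ⥤ A} (I : ℕ → A) (t : ∀ n, F.obj (op n) ⟶ I n) :
    ∀ n, F.obj (op n) ⟶ cofreeObj I n
  | 0 => t 0
  | n + 1 => biprod.lift (F.map (homOfLE (Nat.le_add_right n 1)).op ≫ toCofreeApp I t n) (t (n + 1))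

/-- The morphism into the cofree system. -/
noncomputable def toCofree {F : ℕᵒᵖ ⥤ A} (I : ℕ → A) (t : ∀ n, F.obj (op n) ⟶ I n) : F ⟶ cofree I :=
  NatTrans.ofOpSequence (toCofreeApp I t) fun n => by
    have hm : (cofree I).map (homOfLE (Nat.le_add_right n 1)).op =
        (biprod.fst : cofreeObj I n ⊞ I (n + 1) ⟶ cofreeObj I n) :=
      Functor.ofOpSequence_map_homOfLE_succ (X := cofreeObj I) _ n
    rw [hm]
    exact (biprod.lift_fst _ _).symm

/-- Coordinates of the cofree system. -/
noncomputable def coord (I : ℕ → A) : ∀ n, (cofree I).obj (op n) ⟶ I n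
  | 0 => 𝟙 _
  | n + 1 => (biprod.snd : cofreeObj I n ⊞ I (n + 1) ⟶ I (n + 1))

theorem cofree_hom_ext {F : ℕᵒᵖ ⥤ A} (I : ℕ → A) {a b : F ⟶ cofree I}
    (h : ∀ n, a.app (op n) ≫ coord I n = b.app (op n) ≫ coord I n) : a = b := by
  refine NatTrans.ext (funext fun ⟨n⟩ => ?_)
  induction n with
  | zero => exact (Category.comp_id _).symm.trans ((h 0).trans (Category.comp_id _))
  | succ n ih =>
    have hm : (cofree I).map (homOfLE (Nat.le_add_right n 1)).op =
        (biprod.fst : cofreeObj I n ⊞ I (n + 1) ⟶ cofreeObj I n) :=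
      Functor.ofOpSequence_map_homOfLE_succ (X := cofreeObj I) _ n
    refine biprod.hom_ext (X := cofreeObj I n) (Y := I (n + 1)) _ _ ?_ (h (n + 1))
    have ha := a.naturality (homOfLE (Nat.le_add_right n 1)).op
    have hb := b.naturality (homOfLE (Nat.le_add_right n 1)).op
    rw [hm] at ha hb
    exact ha.symm.trans ((congrArg (F.map _ ≫ ·) ih).trans hb)

theorem toCofree_coord {F : ℕᵒᵖ ⥤ A} (I : ℕ → A) (t : ∀ n, F.obj (op n) ⟶ I n) (n : ℕ) :
    (toCofree I t).app (op n) ≫ coord I n = t n := by
  rcases n with _ | n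
  · exact Category.comp_id _
  · exact biprod.lift_snd _ _

theorem injective_cofree (I : ℕ → A) [∀ n, Injective (I n)] : Injective (cofree I) := by
  refine ⟨fun {F G} g f _ => ⟨toCofree I fun n =>
    haveI : Mono (f.app (op n)) := inferInstance
    Injective.factorThru (g.app (op n) ≫ coord I n) (f.app (op n)), ?_⟩⟩
  refine cofree_hom_ext I fun n => ?_
  rw [NatTrans.comp_app, Category.assoc, toCofree_coord, Injective.comp_factorThru]

/-- The skyscraper at `0`. -/
noncomputable def skyObj (Q : A) : ℕ → A
  | 0 => Q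
  | _ + 1 => open ZeroObject in (0 : A)

/-- The skyscraper at `0` as a system. -/
noncomputable def sky (Q : A) : ℕᵒᵖ ⥤ A := Functor.ofOpSequence (X := skyObj Q) fun _ => 0

theorem sky_isZero (Q : A) (n : ℕ) : IsZero ((sky Q).obj (op (n + 1))) := isZero_zero A

theorem sky_map_succ (Q : A) (n : ℕ) : (sky Q).map (homOfLE (Nat.le_add_right n 1)).op = 0 :=
  Functor.ofOpSequence_map_homOfLE_succ (X := skyObj Q) _ n

/-- Extend a morphism out of the degree `0` part. -/
noncomputable def skyHom {Q : A} {J : ℕᵒᵖ ⥤ A} (φ : Q ⟶ J.obj (op 0)) : sky Q ⟶ J :=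
  NatTrans.ofOpSequence (fun n => match n with | 0 => φ | _ + 1 => 0) fun n => by
    rw [sky_map_succ, zero_comp]
    exact ((zero_comp).symm : (0 : (sky Q).obj (op (n + 1)) ⟶ J.obj (op n)) =
      (0 : (sky Q).obj (op (n + 1)) ⟶ J.obj (op (n + 1))) ≫ J.map (homOfLE (Nat.le_add_right n 1)).op)

theorem sky_mono {X Y : A} (f : X ⟶ Y) [Mono f] : Mono (skyHom (J := sky Y) f : sky X ⟶ sky Y) := by
  have : ∀ n : ℕᵒᵖ, Mono ((skyHom (J := sky Y) f : sky X ⟶ sky Y).app n) := by
    rintro ⟨_ | n⟩
    · exact inferInstanceAs (Mono f)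
    · exact (sky_isZero X n).mono _
  exact NatTrans.mono_of_mono_app _

/-- For an abelian category A, the category of inverse systems (A_n)_n indexed by ℕ, i.e. of functors
ℕᵒᵖ ⥤ A, has enough injectives if and only if A has enough injectives. (The second assertion of the
published proposition, describing the injective systems, is not part of this row.) -/
theorem result
    (A : Type u) [Category.{v} A] [Abelian A] :
    EnoughInjectives (ℕᵒᵖ ⥤ A) ↔ EnoughInjectives A := by
  constructor
  · intro _
    refine ⟨fun X => ?_⟩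
    obtain ⟨p⟩ := EnoughInjectives.presentation (sky X)
    have hinj : Injective (p.J.obj (op 0)) := by
      refine ⟨fun {W Y} g f _ => ?_⟩
      haveI := sky_mono f
      refine ⟨(Injective.factorThru (skyHom g) (skyHom (J := sky Y) f)).app (op 0), ?_⟩
      exact congrArg (fun t => t.app (op 0)) (Injective.comp_factorThru (skyHom g) (skyHom (J := sky Y) f))
    haveI : Mono (p.f.app (op 0)) := inferInstance
    exact ⟨{ J := p.J.obj (op 0), f := p.f.app (op 0), injective := hinj, mono := this }⟩
  · intro _
    refine ⟨fun F => ⟨{ J := cofree fun n => Injective.under (F.obj (op n))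
                        injective := injective_cofree _
                        f := toCofree _ fun n => Injective.ι (F.obj (op n))
                        mono := ?_ }⟩⟩
    have : ∀ n : ℕᵒᵖ, Mono ((toCofree (fun n => Injective.under (F.obj (op n)))
        fun n => Injective.ι (F.obj (op n))).app n) := fun n =>
      haveI : Mono ((toCofree (fun n => Injective.under (F.obj (op n)))
          fun n => Injective.ι (F.obj (op n))).app (op n.unop) ≫ coord _ n.unop) := by
        rw [toCofree_coord]; infer_instance
      mono_of_mono _ (coord _ n.unop)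
    exact NatTrans.mono_of_mono_app _

end Groth.Agent.S14023
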