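import Groth.Statements.S14025
import Groth.Agent.L28.ProEt.StrataImage
import Groth.Agent.L28.Strata.EtMod

set_option linter.style.haveILetI false
set_option backward.isDefEq.respectTransparency.types false

set_option autoImplicit false
open CategoryTheory CategoryTheory.Limits AlgebraicGeometry Opposite
universe u
open EtModW Groth.L28

namespace Groth.Agent.S14025

/-- Let X be a scheme, Λ a Noetherian commutative ring and F a sheaf of Λ-modules on the small pro-étale
site of X. Then F is constructible — isomorphic to the pro-étale pullback ε⁻¹E of a constructible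
sheaf E of Λ-modules on the small étale site — exactly when each affine open U ⊆ X can be split into
finitely many constructible locally closed strata, the images of immersions g_i : T_i ⟶ X, such that
for each i the pullback of F to the small pro-étale site of T_i is isomorphic to the pro-étale
pullback of a finite-type locally constant sheaf of Λ-modules on the small étale site of T_i.
(Continuity of the inclusions of étale into pro-étale sites and of the base-change functors between
pro-étale sites is carried as binders.) -/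
theorem result
    (Λ : Type (u + 1)) [CommRing Λ] [IsNoetherianRing Λ]
    (X : Scheme.{u}) [∀ T : Scheme.{u}, ProEtS.EpsCont T]
    [∀ (T : Scheme.{u}) (g : T ⟶ X), ProEtS.PCont g]
    (F : EtModW.ModP Λ X) :
    (∃ E : EtModW.Mod Λ X, EtModW.IsConstructible Λ E ∧ Nonempty ((EtModW.epsPullMod Λ X).obj E ≅ F)) ↔
      ∀ U : X.Opens, IsAffineOpen U →
        ∃ (m : ℕ) (T : Fin m → Scheme.{u}) (g : ∀ i, T i ⟶ X),
          (∀ i, IsImmersion (g i)) ∧
          (∀ i, Topology.IsConstructible ((Subtype.val : ↥(U : Set X) → X) ⁻¹' Set.range (fun t => (g i).base t))) ∧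
          Pairwise (fun i j => Disjoint (Set.range (fun t => (g i).base t)) (Set.range (fun t => (g j).base t))) ∧
          (⋃ i, Set.range (fun t => (g i).base t)) = (U : Set X) ∧
          ∀ i, ∃ E : EtModW.Mod Λ (T i), EtModW.IsFTLocConst Λ E ∧
            Nonempty ((EtModW.epsPullMod Λ (T i)).obj E ≅ (((ProEtS.bcP (g i)).sheafPullback (ModuleCat.{u + 1} Λ) (Scheme.ProEt.topology X) (Scheme.ProEt.topology (T i)))).obj F) := by
  constructor
  · rintro ⟨E, hE, ⟨e⟩⟩ U hU
    obtain ⟨m, T, g, h1, h2, h3, h4, h5⟩ := hE U hU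
    exact ⟨m, T, g, h1, h2, h3, h4, fun i => ⟨_, h5 i, ProEt.nonempty_pull_iso (g i) e⟩⟩
  intro h
  haveI := ProEt.isIso_unit Λ X
  haveI := ProEt.isIso_unit_ab X
  have hloc : ∀ U : X.Opens, IsAffineOpen U →
      (ProEtS.epsPull U.toScheme).essImage
        ((ProEtS.pullP U.ι).obj ((ProEt.forgetSh Λ (Scheme.ProEt.topology X)).obj F)) := by
    intro U hU
    obtain ⟨m, T, g, h1, h2, h3, h4, h5⟩ := h U hU
    have hsub : ∀ i, Set.range (g i) ⊆ Set.range U.ι := fun i =>
      (Scheme.Opens.range_ι U).symm ▸ (h4 ▸ Set.subset_iUnion (fun i => Set.range (g i)) i)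
    let q : ∀ i, T i ⟶ U.toScheme := fun i => IsOpenImmersion.lift U.ι (g i) (hsub i)
    have hq : ∀ i, q i ≫ U.ι = g i := fun i => IsOpenImmersion.lift_fac _ _ _
    have hqr : ∀ i, Set.range (q i) = U.ι ⁻¹' Set.range (g i) := fun i => by
      rw [← hq i, Scheme.Hom.comp_base, TopCat.coe_comp, Set.range_comp,
        Set.preimage_image_eq _ U.ι.isOpenEmbedding.injective]
    haveI : CompactSpace U.toScheme := isCompact_iff_compactSpace.mp hU.isCompact
    haveI : IsAffine U.toScheme := hU
    have hqc : ∀ i, Topology.IsConstructible (Set.range (q i)) := fun i => hqr i ▸ h2 i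
    choose S hSr hS using fun i => Strata.exists_opens_determining (hqc i)
    classical
    let O : Finset U.toScheme.Opens := Finset.univ.biUnion S
    refine ProEt.StrataImage.mem_of_strata O.card U.toScheme _ (fun k => (O.equivFin.symm k).1) (fun k => ?_) m T q
      (fun i => ?_) ?_ (fun i x y hxy => hS i x y fun o ho => ?_) fun i => ?_
    · obtain ⟨i, -, hi⟩ := Finset.mem_biUnion.1 (O.equivFin.symm k).2
      exact (hSr i _ hi).isCompact
    · haveI := h1 i
      haveI : IsImmersion (q i ≫ U.ι) := (hq i).symm ▸ h1 i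
      exact IsImmersion.of_comp (q i) U.ι
    · refine (Set.iUnion_congr hqr).trans ?_
      rw [← Set.preimage_iUnion, h4]
      exact Set.eq_univ_of_forall fun x => x.2
    · simpa using hxy (O.equivFin ⟨o, Finset.mem_biUnion.2 ⟨i, Finset.mem_univ _, ho⟩⟩)
    · obtain ⟨E, -, ⟨e⟩⟩ := h5 i
      haveI := L27.ProEt.pCont (q i)
      haveI := L27.ProEt.pCont (q i ≫ U.ι)
      refine Functor.essImage.ofIso ((ProEt.pullCompP (q i) U.ι).app _) ?_
      refine Functor.essImage.ofIso ((ProEt.forgetPull Λ (q i ≫ U.ι)).app F).symm ?_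
      have h6 : ∀ (a : T i ⟶ X), a = g i → (ProEtS.epsPull (T i)).essImage
          ((ProEt.forgetSh Λ (Scheme.ProEt.topology (T i))).obj ((ProEt.pullPMod Λ a).obj F)) := by
        rintro _ rfl
        exact ⟨_, ⟨(ProEt.theta Λ (T i)).app E ≪≫ (ProEt.forgetSh Λ (Scheme.ProEt.topology (T i))).mapIso e⟩⟩
      exact h6 _ (hq i)
  haveI hG := ProEt.StrataImage.isIso_counit_of_local _ hloc
  let η := (ProEt.epsAdjMod Λ X).counit.app F
  haveI : IsIso ((ProEtS.epsPush X).map ((ProEt.forgetSh Λ (Scheme.ProEt.topology X)).map η)) := by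
    haveI := ProEt.StrataImage.isIso_map_counit (ProEt.epsAdjMod Λ X) F
    exact inferInstanceAs (IsIso ((ProEt.forgetSh Λ X.smallEtaleTopology).map
      ((ProEt.epsPushMod Λ X).map η)))
  haveI : (ProEtS.epsPull X).Full := ((ProEtS.epsAdj X).fullyFaithfulLOfIsIsoUnit).full
  haveI : (ProEtS.epsPull X).Faithful := ((ProEtS.epsAdj X).fullyFaithfulLOfIsIsoUnit).faithful
  haveI : IsIso ((ProEt.forgetSh Λ (Scheme.ProEt.topology X)).map η) :=
    ProEt.StrataImage.isIso_of_map_right (ProEtS.epsAdj X) _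
      ⟨_, ⟨(ProEt.theta Λ X).app _⟩⟩ ((ProEtS.epsAdj X).isIso_counit_app_iff_mem_essImage.mp hG)
  haveI : IsIso η := isIso_of_reflects_iso η (ProEt.forgetSh Λ (Scheme.ProEt.topology X))
  refine ⟨(ProEt.epsPushMod Λ X).obj F, fun U hU => ?_, ⟨asIso η⟩⟩
  obtain ⟨m, T, g, h1, h2, h3, h4, h5⟩ := h U hU
  refine ⟨m, T, g, h1, h2, h3, h4, fun i => ?_⟩
  obtain ⟨E, hE, ⟨e⟩⟩ := h5 i
  obtain ⟨e'⟩ := ProEt.nonempty_pull_iso (g i) (asIso η)
  haveI := ProEt.isIso_unit Λ (T i)
  exact Strata.isFT_of_iso ((ProEt.epsAdjMod Λ (T i)).fullyFaithfulLOfIsIsoUnit.preimageIso (e ≪≫ e'.symm)) hE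

end Groth.Agent.S14025
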