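import Groth.Statements.S14029
import Groth.Agent.L28.SiteOpen.Unit
import Mathlib.CategoryTheory.Limits.Types.Limits

set_option linter.style.haveILetI false

set_option autoImplicit false
open CategoryTheory CategoryTheory.Limits Opposite
universe v u
open CohSite

namespace Groth.Agent.S14029

/-- Let (C, J) be a site and U an object such that every object has at most one morphism to U; assume
extension by the empty set j_! from sheaves of sets on the localized site C/U to sheaves of sets on
C exists (through sheafification on C and left Kan extensions along C/U → C). If V is weakly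
contractible in C — every epimorphism of sheaves of sets on C is surjective on sections over V —
then for any morphism a : V ⟶ U the object V → U of C/U is weakly contractible in C/U: every
epimorphism of sheaves of sets on C/U is surjective on sections over it. Hence C/U has enough weakly
contractible objects when C does. -/
theorem result
    {C : Type u} [Category.{v} C] (J : GrothendieckTopology C) (U : C)
    (hU : ∀ W : C, Subsingleton (W ⟶ U))
    [HasWeakSheafify J (Type (max u v))]
    [∀ (P : (Over U)ᵒᵖ ⥤ Type (max u v)), (Over.forget U).op.HasLeftKanExtension P]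
    (V : C) (hV : (∀ (A B : Sheaf J (Type (max u v))) (ψ : A ⟶ B), Epi ψ → Function.Surjective (ψ.hom.app (op V)))) (a : V ⟶ U) :
    ∀ (A B : Sheaf (J.over U) (Type (max u v))) (ψ : A ⟶ B), Epi ψ →
      Function.Surjective (ψ.hom.app (op (Over.mk a))) := by
  intro A B ψ hψ b
  let adj := (Over.forget U).sheafAdjunctionContinuous (Type (max u v)) (J.over U) J
  haveI : IsIso adj.unit := L28.SiteOpen.isIso_unit J U hU
  haveI := hψ
  haveI := adj.leftAdjoint_preservesColimits.{0, 0}
  let L := (Over.forget U).sheafPullback (Type (max u v)) (J.over U) J
  obtain ⟨a', ha'⟩ := hV _ _ (L.map ψ) inferInstance ((adj.unit.app B).hom.app (op (Over.mk a)) b)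
  haveI : IsIso ((sheafToPresheaf (J.over U) (Type (max u v))).map (adj.unit.app A)) := inferInstance
  haveI : IsIso ((sheafToPresheaf (J.over U) (Type (max u v))).map (adj.unit.app B)) := inferInstance
  haveI hA : IsIso ((adj.unit.app A).hom.app (op (Over.mk a))) :=
    NatIso.isIso_app_of_isIso ((sheafToPresheaf (J.over U) (Type (max u v))).map (adj.unit.app A)) _
  haveI hB : IsIso ((adj.unit.app B).hom.app (op (Over.mk a))) :=
    NatIso.isIso_app_of_isIso ((sheafToPresheaf (J.over U) (Type (max u v))).map (adj.unit.app B)) _
  obtain ⟨a0, rfl⟩ := (ConcreteCategory.bijective_of_isIso ((adj.unit.app A).hom.app (op (Over.mk a)))).2 a'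
  refine ⟨a0, (ConcreteCategory.bijective_of_isIso ((adj.unit.app B).hom.app (op (Over.mk a)))).1 ?_⟩
  refine Eq.trans ?_ ha'
  exact congr($(adj.unit.naturality ψ).hom.app (op (Over.mk a)) a0)

end Groth.Agent.S14029
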