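import Groth.Statements.S14032
import Mathlib.LinearAlgebra.TensorProduct.Quotient
import Mathlib.RingTheory.Noetherian.Nilpotent
import Mathlib.LinearAlgebra.Basis.Basic
import Mathlib.RingTheory.Ideal.Operations
import Mathlib.RingTheory.Ideal.Quotient.Operations

set_option autoImplicit false
set_option maxHeartbeats 800000
universe u v
open W4c1frobunstiva

namespace Groth.Agent.S14032

open TensorProduct in
/-- Let R be a commutative Noetherian ring with nilradical n, M an R-module and r a natural number. Then
M is NR-free of rank r — generated by r elements such that every linear relation among them has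
nilpotent coefficients — if and only if (R/n) ⊗_R M is free of rank r over R/n, in the sense of
admitting a basis indexed by r elements. (The published statement assumes M finitely generated and
also gives the converse when R is local; over a Noetherian ring the nilradical is nilpotent, the
case used here, and finite generation is not needed.) -/
theorem result (R : Type u) [CommRing R]
    [IsNoetherianRing R] (M : Type v) [AddCommGroup M] [Module R M] (r : ℕ) :
    W4c1frobunstiva.IsNRFree R M r ↔
      Nonempty (Module.Basis (Fin r) (R ⧸ nilradical R) ((R ⧸ nilradical R) ⊗[R] M)) := by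
  classical
  let n := nilradical R
  let e : (R ⧸ n) ⊗[R] M ≃ₗ[R] M ⧸ (n • ⊤ : Submodule R M) := TensorProduct.quotTensorEquivQuotSMul M n
  have he : ∀ x : M, e ((1 : R ⧸ n) ⊗ₜ[R] x) = Submodule.Quotient.mk x := fun x =>
    (TensorProduct.quotTensorEquivQuotSMul_mk_tmul n 1 x).trans (by rw [one_smul])
  constructor
  · rintro ⟨m, hspan, hind⟩
    let w : Fin r → (R ⧸ n) ⊗[R] M := fun i => 1 ⊗ₜ m i
    have hs : ⊤ ≤ Submodule.span (R ⧸ n) (Set.range w) := by
      rintro z -
      induction z using TensorProduct.induction_on with
      | zero => exact zero_mem _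
      | tmul q x =>
        have h1 : (1 : R ⧸ n) ⊗ₜ[R] x ∈ Submodule.span (R ⧸ n) (Set.range w) := by
          have hx : x ∈ Submodule.span R (Set.range m) := by rw [hspan]; trivial
          induction hx using Submodule.span_induction with
          | mem y hy => obtain ⟨i, rfl⟩ := hy; exact Submodule.subset_span ⟨i, rfl⟩
          | zero => rw [TensorProduct.tmul_zero]; exact zero_mem _
          | add y y' _ _ hy hy' => rw [TensorProduct.tmul_add]; exact add_mem hy hy'
          | smul c y _ hy => rw [TensorProduct.tmul_smul]; exact Submodule.smul_of_tower_mem _ c hy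
        have h2 : q ⊗ₜ[R] x = q • ((1 : R ⧸ n) ⊗ₜ[R] x) := by rw [TensorProduct.smul_tmul', smul_eq_mul, mul_one]
        rw [h2]
        exact Submodule.smul_mem _ _ h1
      | add y y' hy hy' => exact add_mem hy hy'
    refine ⟨Module.Basis.mk (v := w) ?_ hs⟩
    rw [Fintype.linearIndependent_iff]
    intro g hg i
    choose a ha using fun j => Ideal.Quotient.mk_surjective (g j)
    have h0 : e (∑ j, g j • w j) = Submodule.Quotient.mk (∑ j, a j • m j) := by
      rw [map_sum, ← Submodule.mkQ_apply, map_sum]
      refine Finset.sum_congr rfl fun j _ => ?_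
      have h3 : g j • w j = (Ideal.Quotient.mk n (a j)) ⊗ₜ[R] m j := by
        rw [ha j, TensorProduct.smul_tmul', smul_eq_mul, mul_one]
      rw [h3, TensorProduct.quotTensorEquivQuotSMul_mk_tmul, Submodule.mkQ_apply]
    rw [hg, map_zero, eq_comm, Submodule.Quotient.mk_eq_zero] at h0
    have hb : ∀ x ∈ (n • ⊤ : Submodule R M), ∃ b : Fin r → R, (∀ j, b j ∈ n) ∧ x = ∑ j, b j • m j := by
      intro x hx
      refine Submodule.smul_induction_on hx (fun c hc y _ => ?_) (fun x y hx hy => ?_)
      · obtain ⟨b, rfl⟩ := (Submodule.mem_span_range_iff_exists_fun R).1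
          (show y ∈ Submodule.span R (Set.range m) by rw [hspan]; trivial)
        exact ⟨fun j => c * b j, fun j => n.mul_mem_right _ hc, by simp [Finset.smul_sum, mul_smul]⟩
      · obtain ⟨b, hb, rfl⟩ := hx
        obtain ⟨b', hb', rfl⟩ := hy
        exact ⟨fun j => b j + b' j, fun j => add_mem (hb j) (hb' j), by simp [add_smul, Finset.sum_add_distrib]⟩
    obtain ⟨b, hbn, hbe⟩ := hb _ h0
    have h4 : IsNilpotent (a i - b i) := hind (fun j => a j - b j)
      (by simp only [sub_smul, Finset.sum_sub_distrib, hbe, sub_self]) i
    rw [← ha i]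
    refine Ideal.Quotient.eq_zero_iff_mem.2 ?_
    have := n.add_mem (mem_nilradical.2 h4) (hbn i)
    rwa [sub_add_cancel] at this
  · rintro ⟨b⟩
    choose m hm using fun i => Submodule.Quotient.mk_surjective (n • ⊤ : Submodule R M) (e (b i))
    have hb : ∀ i, b i = 1 ⊗ₜ[R] m i := fun i => e.injective (by rw [he, hm])
    refine ⟨m, ?_, ?_⟩
    · let N := Submodule.span R (Set.range m)
      have h1 : (⊤ : Submodule R M) ≤ N ⊔ n • ⊤ := by
        intro x _
        obtain ⟨c, hc⟩ := Ideal.Quotient.mk_surjective.comp_left
          (b.repr ((1 : R ⧸ n) ⊗ₜ[R] x) : Fin r → R ⧸ n)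
        have hx : Submodule.Quotient.mk (p := (n • ⊤ : Submodule R M)) (∑ j, c j • m j) = Submodule.Quotient.mk x := by
          rw [← Submodule.mkQ_apply, map_sum, ← he x]
          conv_rhs => rw [← b.sum_repr ((1 : R ⧸ n) ⊗ₜ[R] x), map_sum]
          refine Finset.sum_congr rfl fun j _ => ?_
          rw [Submodule.mkQ_apply, ← congrFun hc j]
          beta_reduce
          rw [Function.comp_apply, hb j, TensorProduct.smul_tmul', smul_eq_mul, mul_one,
            TensorProduct.quotTensorEquivQuotSMul_mk_tmul]
        rw [Submodule.Quotient.eq] at hx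
        refine Submodule.mem_sup.2 ⟨∑ j, c j • m j, ?_, x - ∑ j, c j • m j, ?_, add_sub_cancel _ _⟩
        · exact Submodule.sum_mem _ fun j _ => Submodule.smul_mem _ _ (Submodule.subset_span ⟨j, rfl⟩)
        · simpa using Submodule.neg_mem _ hx
      have hk : ∀ k : ℕ, (⊤ : Submodule R M) ≤ N ⊔ n ^ k • ⊤ := by
        intro k
        induction k with
        | zero => simp
        | succ k ih =>
          refine ih.trans (sup_le le_sup_left ?_)
          calc n ^ k • (⊤ : Submodule R M) ≤ n ^ k • (N ⊔ n • ⊤) := Submodule.smul_mono le_rfl h1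
            _ ≤ _ := by
              rw [Submodule.smul_sup, ← Submodule.smul_assoc, smul_eq_mul, ← pow_succ]
              exact sup_le_sup_right Submodule.smul_le_right _
      obtain ⟨k, hn⟩ := IsNoetherianRing.isNilpotent_nilradical R
      have := hk k
      rw [show n ^ k = 0 from hn] at this
      exact top_unique (by simpa using this)
    · intro a ha i
      have h : ∑ j, Ideal.Quotient.mk n (a j) • b j = 0 := by
        calc ∑ j, Ideal.Quotient.mk n (a j) • b j = ∑ j, (1 : R ⧸ n) ⊗ₜ[R] (a j • m j) :=
              Finset.sum_congr rfl fun j _ => by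
                rw [hb j, TensorProduct.smul_tmul', smul_eq_mul, mul_one, ← TensorProduct.smul_tmul]
                congr 1
                exact (Algebra.algebraMap_eq_smul_one (A := R ⧸ n) (a j))
          _ = 0 := by rw [← TensorProduct.tmul_sum, ha, TensorProduct.tmul_zero]
      exact mem_nilradical.1 (Ideal.Quotient.eq_zero_iff_mem.1 (Fintype.linearIndependent_iff.1 b.linearIndependent _ h i))

end Groth.Agent.S14032
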