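import Mathlib.Algebra.DualNumber
import Mathlib.LinearAlgebra.Basis.Defs
import Mathlib.LinearAlgebra.Quotient.Defs
import Mathlib.Algebra.Algebra.Operations
import Mathlib.LinearAlgebra.Basis.Basic
import Mathlib.RingTheory.Finiteness.Basic
import Mathlib.RingTheory.OrzechProperty
import Mathlib.LinearAlgebra.InvariantBasisNumber
import Mathlib.RingTheory.FiniteType
import Mathlib.LinearAlgebra.FreeModule.Finite.Basic

set_option autoImplicit false
set_option linter.style.haveILetI false
namespace W4c1frobunstiva
end W4c1frobunstiva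
universe u v
open W4c1frobunstiva

namespace Groth.Agent.S14033

open DualNumber Pointwise in
/-- Let R be a commutative ring, R[ε] its ring of dual numbers (ε² = 0), M an R[ε]-module and r a
natural number. Then M is free of rank r over R[ε] (admits a basis of r elements) if and only if the
R-modules M/εM and εM are both free of rank r. (The published statement concerns a coherent sheaf on
the product of a scheme S with Spec ℤ[ε] and local freeness of rank r; that assertion is local, and
this row is its form over one ring, with no finiteness assumption on M and no hypothesis on R.) -/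
theorem result (R : Type u) [CommRing R] (M : Type v)
    [AddCommGroup M] [Module R[ε] M] [Module R M] [IsScalarTower R R[ε] M] (r : ℕ) :
    Nonempty (Module.Basis (Fin r) R[ε] M) ↔
      (Nonempty (Module.Basis (Fin r) R (M ⧸ ((ε : R[ε]) • (⊤ : Submodule R[ε] M)))) ∧
        Nonempty (Module.Basis (Fin r) R (((ε : R[ε]) • (⊤ : Submodule R[ε] M)).restrictScalars R))) := by
  classical
  set Q : Submodule R[ε] M := (ε : R[ε]) • (⊤ : Submodule R[ε] M) with hQdef
  have hQ : ∀ m : M, m ∈ Q ↔ ∃ y : M, (ε : R[ε]) • y = m := fun m => by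
    simp [hQdef, Submodule.mem_smul_pointwise_iff_exists]
  have hεQ : ∀ y : M, (ε : R[ε]) • y ∈ Q := fun y => (hQ _).2 ⟨y, rfl⟩
  have hεε : ∀ y : M, (ε : R[ε]) • (ε : R[ε]) • y = 0 := fun y => by
    rw [smul_smul, DualNumber.eps_mul_eps, zero_smul]
  have hdec : ∀ (a : R[ε]) (m : M),
      a • m = TrivSqZeroExt.fst a • m + TrivSqZeroExt.snd a • ((ε : R[ε]) • m) := by
    intro a m
    have e : a = algebraMap R R[ε] (TrivSqZeroExt.fst a)
        + algebraMap R R[ε] (TrivSqZeroExt.snd a) * ε := by
      apply TrivSqZeroExt.ext <;> simp [TrivSqZeroExt.algebraMap_eq_inl]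
    conv_lhs => rw [e]
    rw [add_smul, mul_smul, algebraMap_smul, algebraMap_smul]
  have hsm : ∀ (c : R) (m : M), (ε : R[ε]) • (c • m) = c • ((ε : R[ε]) • m) :=
    fun c m => smul_comm _ _ _
  constructor
  · rintro ⟨b⟩
    refine ⟨⟨Module.Basis.mk (v := fun i => Q.mkQ (b i)) ?_ ?_⟩,
      ⟨Module.Basis.mk (v := fun i => (⟨(ε : R[ε]) • b i, hεQ _⟩ : Q.restrictScalars R)) ?_ ?_⟩⟩
    · rw [Fintype.linearIndependent_iff]
      intro g hg i
      have hz : Q.mkQ (∑ k, g k • b k) = 0 := by
        rw [map_sum]; simpa [LinearMap.map_smul_of_tower] using hg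
      obtain ⟨y, hy⟩ := (hQ _).1 ((Submodule.Quotient.mk_eq_zero Q).1 hz)
      have he : (ε : R[ε]) • ∑ k, g k • b k = 0 := by rw [← hy, hεε]
      have h0 : ∑ k, (algebraMap R R[ε] (g k) * ε) • b k = 0 := by
        rw [Finset.smul_sum] at he
        simpa [mul_smul, hsm] using he
      have := congrArg TrivSqZeroExt.snd (Fintype.linearIndependent_iff.1 b.linearIndependent _ h0 i)
      simpa [TrivSqZeroExt.algebraMap_eq_inl] using this
    · rintro z -
      obtain ⟨x, rfl⟩ := Submodule.mkQ_surjective Q z
      rw [← b.sum_repr x, map_sum]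
      refine sum_mem fun i _ => ?_
      rw [hdec, map_add, LinearMap.map_smul_of_tower, LinearMap.map_smul_of_tower,
        show Q.mkQ ((ε : R[ε]) • b i) = 0 from (Submodule.Quotient.mk_eq_zero Q).2 (hεQ _),
        smul_zero, add_zero]
      exact Submodule.smul_mem _ _ (Submodule.subset_span ⟨i, rfl⟩)
    · rw [Fintype.linearIndependent_iff]
      intro g hg i
      have h0 : ∑ k, (algebraMap R R[ε] (g k) * ε) • b k = 0 := by
        have := congrArg Subtype.val hg
        simpa [mul_smul] using this
      have := congrArg TrivSqZeroExt.snd (Fintype.linearIndependent_iff.1 b.linearIndependent _ h0 i)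
      simpa [TrivSqZeroExt.algebraMap_eq_inl] using this
    · rintro ⟨z, hz⟩ -
      obtain ⟨x, rfl⟩ := (hQ z).1 hz
      have e : (⟨(ε : R[ε]) • x, hz⟩ : Q.restrictScalars R)
          = ∑ i, TrivSqZeroExt.fst (b.repr x i) • ⟨(ε : R[ε]) • b i, hεQ _⟩ := by
        apply Subtype.ext
        simp only [Submodule.coe_sum, Submodule.coe_smul_of_tower]
        conv_lhs => rw [← b.sum_repr x, Finset.smul_sum]
        exact Finset.sum_congr rfl fun i _ => by
          rw [smul_comm (ε : R[ε]) (b.repr x i), hdec (b.repr x i), hεε, smul_zero, add_zero]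
      rw [e]
      exact sum_mem fun i _ => Submodule.smul_mem _ _ (Submodule.subset_span ⟨i, rfl⟩)
  · rintro ⟨⟨b1⟩, ⟨b2⟩⟩
    choose m hm using fun i => Submodule.mkQ_surjective Q (b1 i)
    let v : Fin r → Q.restrictScalars R := fun i => ⟨(ε : R[ε]) • m i, hεQ _⟩
    have hrep : ∀ x : M, ∃ (g : Fin r → R) (y : M), x = (∑ i, g i • m i) + (ε : R[ε]) • y := by
      intro x
      refine ⟨fun i => b1.repr (Q.mkQ x) i, ?_⟩
      have hz : Q.mkQ (x - ∑ i, b1.repr (Q.mkQ x) i • m i) = 0 := by
        rw [map_sub, map_sum]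
        simp only [LinearMap.map_smul_of_tower, hm, b1.sum_repr, sub_self]
      obtain ⟨y, hy⟩ := (hQ _).1 ((Submodule.Quotient.mk_eq_zero Q).1 hz)
      exact ⟨y, by rw [hy]; abel⟩
    let T : Q.restrictScalars R →ₗ[R] Q.restrictScalars R := b2.constr R v
    have hT : Function.Surjective T := by
      rintro ⟨z, hz⟩
      obtain ⟨x, rfl⟩ := (hQ z).1 hz
      obtain ⟨g, y, rfl⟩ := hrep x
      refine ⟨∑ i, g i • b2 i, Subtype.ext ?_⟩
      simp [T, v, smul_add, hεε, Finset.smul_sum, hsm]
    haveI : Module.Finite R (Q.restrictScalars R) := Module.Finite.of_basis b2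
    have hTi : Function.Injective T := OrzechProperty.injective_of_surjective_endomorphism T hT
    refine ⟨Module.Basis.mk (v := m) ?_ ?_⟩
    · rw [Fintype.linearIndependent_iff]
      intro a ha i
      have h1 : ∀ k, TrivSqZeroExt.fst (a k) = 0 := by
        refine Fintype.linearIndependent_iff.1 b1.linearIndependent _ ?_
        have := congrArg Q.mkQ ha
        rw [map_sum, map_zero] at this
        rw [← this]
        refine Finset.sum_congr rfl fun k _ => ?_
        rw [hdec (a k), map_add, LinearMap.map_smul_of_tower, LinearMap.map_smul_of_tower, hm,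
          show Q.mkQ ((ε : R[ε]) • m k) = 0 from (Submodule.Quotient.mk_eq_zero Q).2 (hεQ _),
          smul_zero, add_zero]
      have h2 : ∀ k, TrivSqZeroExt.snd (a k) = 0 := by
        refine Fintype.linearIndependent_iff.1 b2.linearIndependent _ (hTi ?_)
        apply Subtype.ext
        have e : ∀ k, a k • m k = TrivSqZeroExt.snd (a k) • ((ε : R[ε]) • m k) := fun k => by
          rw [hdec (a k), h1, zero_smul, zero_add]
        rw [Finset.sum_congr rfl fun k _ => e k] at ha
        simpa [T, v] using ha
      exact TrivSqZeroExt.ext (h1 i) (h2 i)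
    · rintro x -
      obtain ⟨g, y, rfl⟩ := hrep x
      obtain ⟨g', y', rfl⟩ := hrep y
      refine add_mem (sum_mem fun i _ => ?_) ?_
      · rw [← algebraMap_smul R[ε] (g i)]
        exact Submodule.smul_mem _ _ (Submodule.subset_span ⟨i, rfl⟩)
      · rw [smul_add, hεε, add_zero, Finset.smul_sum]
        refine sum_mem fun i _ => ?_
        rw [← algebraMap_smul R[ε] (g' i), smul_smul]
        exact Submodule.smul_mem _ _ (Submodule.subset_span ⟨i, rfl⟩)

end Groth.Agent.S14033
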