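import Groth.Statements.S14034
import Mathlib.RingTheory.LocalRing.Module
import Mathlib.RingTheory.Nakayama
import Mathlib.LinearAlgebra.Dimension.Constructions
import Mathlib.Algebra.Module.Projective
import Mathlib.LinearAlgebra.Basis.Basic
import Mathlib.RingTheory.OrzechProperty

set_option autoImplicit false
universe u
open W4c1frobunstiva

namespace Groth.Agent.S14034

/-- Let R be a Noetherian local ring and f an element of R whose annihilator consists of nilpotent
elements (a f = 0 forces a nilpotent), r, s and l ≤ s natural numbers, N the quotient of the free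
module R^s by the submodule spanned by f e_1, …, f e_l (e_i the standard basis vectors), and φ : R^r
→ N a surjective linear map. Then the kernel of φ is NR-free of rank r + l − s: it is generated by r
+ l − s elements every linear relation among which has nilpotent coefficients; and when l = 0 the
kernel is free of rank r − s. (The published statement takes R Noetherian with irreducible spectrum
and R_red a domain, not necessarily local, and f arbitrary. Over the coordinate ring of the real
2-sphere the kernel of (x, y, z) : R³ → R is not free, and over k[x, y]/(y², xy) localised at (x, y)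
with f = y the kernel of R → R/(y) is spanned by y with the non-nilpotent relation x·y = 0. The
published argument uses that the kernel of a surjection of free modules is free, true over a local
ring, and that a f = 0 forces a nilpotent, which is the hypothesis taken here; it holds when R_red
is a domain and f is not nilpotent, and also for f = ε in A[ε] with A a domain, so primality of the
nilradical is not assumed.) -/
theorem result (R : Type u)
    [CommRing R] [IsNoetherianRing R] [IsLocalRing R] (f : R)
    (hann : ∀ a : R, a * f = 0 → IsNilpotent a) (r s l : ℕ) (hls : l ≤ s)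
    (φ : (Fin r → R) →ₗ[R]
      ((Fin s → R) ⧸ Submodule.span R (Set.range fun i : Fin l => (Pi.single (Fin.castLE hls i) f : Fin s → R))))
    (hφ : Function.Surjective φ) :
    W4c1frobunstiva.IsNRFree R (LinearMap.ker φ) (r + l - s) ∧
      (l = 0 → Nonempty (Module.Basis (Fin (r - s)) R (LinearMap.ker φ))) := by
  classical
  let W := Submodule.span R (Set.range fun i : Fin l => (Pi.single (Fin.castLE hls i) f : Fin s → R))
  have hW : W = Submodule.span R (Set.range fun i : Fin l => (Pi.single (Fin.castLE hls i) f : Fin s → R)) := rfl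
  -- a general fact about surjections of free modules
  have gen : ∀ {t : ℕ} (g : (Fin r → R) →ₗ[R] (Fin t → R)), Function.Surjective g →
      t ≤ r ∧ Nonempty (Module.Basis (Fin (r - t)) R (LinearMap.ker g)) := by
    intro t g hg
    obtain ⟨u, hu⟩ := LinearMap.exists_rightInverse_of_surjective g (LinearMap.range_eq_top.2 hg)
    haveI : Module.Finite R (LinearMap.ker g) := Module.Finite.iff_fg.2 (IsNoetherian.noetherian _)
    haveI : Module.Projective R (LinearMap.ker g) := Module.Projective.of_split (LinearMap.ker g).subtype
      ((LinearMap.id - u ∘ₗ g).codRestrict _ fun x => by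
        have := LinearMap.congr_fun hu (g x)
        simp only [LinearMap.comp_apply, LinearMap.id_apply] at this
        simp [this])
      (LinearMap.ext fun x => Subtype.ext (by simp [LinearMap.mem_ker.1 x.2]))
    haveI : Module.Free R (LinearMap.ker g) := Module.free_of_flat_of_isLocalRing
    have e : (LinearMap.ker g × (Fin t → R)) ≃ₗ[R] (Fin r → R) :=
      LinearEquiv.ofBijective ((LinearMap.ker g).subtype.coprod u) ⟨by
        rw [injective_iff_map_eq_zero]
        rintro ⟨x, y⟩ h
        simp only [LinearMap.coprod_apply, Submodule.subtype_apply] at h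
        have h' := congrArg g h
        have hy : g (u y) = y := LinearMap.congr_fun hu y
        rw [map_add, LinearMap.mem_ker.1 x.2, zero_add, hy, map_zero] at h'
        subst h'
        simpa using h, fun z => ⟨(⟨z - u (g z), by
          have hy : g (u (g z)) = g z := LinearMap.congr_fun hu _
          simp [hy]⟩, g z), by simp⟩⟩
    have h := e.finrank_eq
    rw [Module.finrank_prod, Module.finrank_fin_fun, Module.finrank_fin_fun] at h
    refine ⟨by omega, ⟨(Module.finBasis R _).reindex (finCongr ?_)⟩⟩
    omega
  obtain ⟨ψ, hψ⟩ := Module.projective_lifting_property W.mkQ φ W.mkQ_surjective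
  have hψ' : ∀ x, Submodule.Quotient.mk (ψ x) = φ x := fun x => LinearMap.congr_fun hψ x
  by_cases hl0 : IsUnit f ∧ 0 < l
  · -- `f` is a unit
    obtain ⟨hfu, hl⟩ := hl0
    let π : (Fin s → R) →ₗ[R] (Fin (s - l) → R) :=
      LinearMap.funLeft R R fun j => (⟨l + j, by omega⟩ : Fin s)
    have hWker : W = LinearMap.ker π := by
      refine le_antisymm ?_ fun x hx => ?_
      · rw [hW, Submodule.span_le]
        rintro _ ⟨i, rfl⟩
        refine LinearMap.mem_ker.2 (funext fun j => ?_)
        simp only [π, LinearMap.funLeft_apply, Pi.zero_apply]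
        exact Pi.single_eq_of_ne (fun h => by have := congrArg Fin.val h; simp at this; omega) _
      · rw [show x = ∑ i : Fin s, Pi.single i (x i) from (Finset.univ_sum_single x).symm]
        refine Submodule.sum_mem _ fun i _ => ?_
        by_cases hi : i.val < l
        · obtain ⟨v, rfl⟩ := hfu
          have : (Pi.single i (x i) : Fin s → R) = (x i * ↑v⁻¹) • Pi.single (Fin.castLE hls ⟨i, hi⟩) (v : R) := by
            rw [← Pi.single_smul']
            simp [show Fin.castLE hls ⟨i.val, hi⟩ = i from Fin.ext rfl]
          rw [this]
          exact Submodule.smul_mem _ _ (Submodule.subset_span ⟨⟨i, hi⟩, rfl⟩)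
        · have h0 := congrFun (LinearMap.mem_ker.1 hx) ⟨i - l, by omega⟩
          simp only [π, LinearMap.funLeft_apply, Pi.zero_apply] at h0
          rw [show (⟨l + (i.val - l), by omega⟩ : Fin s) = i from Fin.ext (by simp; omega)] at h0
          simp [h0]
    have hπs : Function.Surjective π :=
      LinearMap.funLeft_surjective_of_injective R R _ fun a b h => Fin.ext (by simpa using congrArg Fin.val h)
    let eN : ((Fin s → R) ⧸ W) ≃ₗ[R] (Fin (s - l) → R) :=
      (Submodule.quotEquivOfEq _ _ hWker).trans (π.quotKerEquivOfSurjective hπs)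
    obtain ⟨hle, ⟨b⟩⟩ := gen (eN.toLinearMap ∘ₗ φ) (eN.surjective.comp hφ)
    refine ⟨?_, fun h => absurd h (by omega)⟩
    let b' := (b.reindex (finCongr (show r - (s - l) = r + l - s by omega))).map
      (LinearEquiv.ofEq _ _ (by rw [LinearMap.ker_comp, LinearEquiv.ker, Submodule.comap_bot]))
    exact ⟨b', b'.span_eq, fun a ha i => by
      rw [show a = 0 from funext (Fintype.linearIndependent_iff.1 b'.linearIndependent a ha)]
      exact IsNilpotent.zero⟩
  · have hψs : Function.Surjective ψ := by
      rcases Nat.eq_zero_or_pos l with hl | hl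
      · intro y
        obtain ⟨x, hx⟩ := hφ (Submodule.Quotient.mk y)
        refine ⟨x, ?_⟩
        have : ψ x - y ∈ W := (Submodule.Quotient.eq W).1 ((hψ' x).trans hx)
        subst hl
        simpa [hW, sub_eq_zero] using this
      · have hfm : f ∈ IsLocalRing.maximalIdeal R := fun h => hl0 ⟨h, hl⟩
        rw [← LinearMap.range_eq_top, eq_top_iff]
        refine Submodule.le_of_le_smul_of_le_jacobson_bot Module.Finite.fg_top
          (IsLocalRing.maximalIdeal_le_jacobson ⊥) fun y _ => ?_
        obtain ⟨x, hx⟩ := hφ (Submodule.Quotient.mk y)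
        have h1 : y - ψ x ∈ W := (Submodule.Quotient.eq W).1 (hx.symm.trans (hψ' x).symm)
        have h2 : W ≤ IsLocalRing.maximalIdeal R • (⊤ : Submodule R (Fin s → R)) := by
          rw [hW, Submodule.span_le]
          rintro _ ⟨i, rfl⟩
          change (Pi.single (Fin.castLE hls i) f : Fin s → R) ∈ _
          rw [show (Pi.single (Fin.castLE hls i) f : Fin s → R) = f • Pi.single (Fin.castLE hls i) (1 : R) by
            rw [← Pi.single_smul', smul_eq_mul, mul_one]]
          exact Submodule.smul_mem_smul hfm trivial
        exact Submodule.mem_sup.2 ⟨ψ x, ⟨x, rfl⟩, y - ψ x, h2 h1, add_sub_cancel _ _⟩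
    obtain ⟨hle, ⟨b⟩⟩ := gen ψ hψs
    have hKle : LinearMap.ker ψ ≤ LinearMap.ker φ := fun x hx => by
      rw [LinearMap.mem_ker, ← hψ', LinearMap.mem_ker.1 hx, Submodule.Quotient.mk_zero]
    choose u hu using fun i : Fin l => hψs (Pi.single (Fin.castLE hls i) 1)
    have hfu : ∀ i, ψ (f • u i) = Pi.single (Fin.castLE hls i) f := fun i => by
      rw [map_smul, hu, ← Pi.single_smul', smul_eq_mul, mul_one]
    have hfker : ∀ i, f • u i ∈ LinearMap.ker φ := fun i => by
      rw [LinearMap.mem_ker, ← hψ', hfu, Submodule.Quotient.mk_eq_zero]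
      exact Submodule.subset_span ⟨i, rfl⟩
    let m₁ : Fin l → LinearMap.ker φ := fun i => ⟨f • u i, hfker i⟩
    let m₂ : Fin (r - s) → LinearMap.ker φ := fun j => ⟨b j, hKle (b j).2⟩
    let σ : Fin (r + l - s) ≃ Fin l ⊕ Fin (r - s) := (finCongr (by omega)).trans finSumFinEquiv.symm
    have hspan : Submodule.span R (Set.range (Sum.elim m₁ m₂)) = ⊤ := by
      rw [eq_top_iff]
      rintro ⟨x, hx⟩ -
      have h1 : ψ x ∈ W := (Submodule.Quotient.mk_eq_zero W).1 ((hψ' x).trans hx)
      rw [hW, Submodule.mem_span_range_iff_exists_fun] at h1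
      obtain ⟨c, hc⟩ := h1
      have hk : x - ∑ i, c i • (f • u i) ∈ LinearMap.ker ψ := by
        simp only [LinearMap.mem_ker, map_sub, map_sum, map_smul ψ (c _), hfu, hc, sub_self]
      have hx' : (⟨x, hx⟩ : LinearMap.ker φ) =
          ∑ i, c i • m₁ i + ∑ j, b.repr ⟨_, hk⟩ j • m₂ j := by
        refine Subtype.ext ?_
        have := congrArg Subtype.val (b.sum_repr ⟨_, hk⟩)
        simp only [Submodule.coe_sum, Submodule.coe_smul] at this
        simp only [Submodule.coe_add, Submodule.coe_sum, Submodule.coe_smul, m₁, m₂, this]
        abel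
      rw [hx']
      exact add_mem (sum_mem fun i _ => Submodule.smul_mem _ _ (Submodule.subset_span ⟨.inl i, rfl⟩))
        (sum_mem fun j _ => Submodule.smul_mem _ _ (Submodule.subset_span ⟨.inr j, rfl⟩))
    refine ⟨⟨Sum.elim m₁ m₂ ∘ σ, by rwa [Set.range_comp, σ.range_eq_univ, Set.image_univ], fun a ha i => ?_⟩, ?_⟩
    · set a' := a ∘ σ.symm with ha'
      have h0 : ∑ i, a' (.inl i) • m₁ i + ∑ j, a' (.inr j) • m₂ j = 0 := by
        rw [← ha, ← σ.symm.sum_comp (fun i => a i • (Sum.elim m₁ m₂ ∘ σ) i), Fintype.sum_sum_type]
        simp [ha']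
      have h1 := congrArg Subtype.val h0
      simp only [Submodule.coe_add, Submodule.coe_sum, Submodule.coe_smul, Submodule.coe_zero, m₁, m₂] at h1
      have h2 := congrArg ψ h1
      rw [map_add, map_sum, map_sum, map_zero] at h2
      simp only [map_smul ψ (a' _), hfu] at h2
      rw [show ∑ j, a' (.inr j) • ψ (b j) = 0 from
        Finset.sum_eq_zero fun j _ => by rw [LinearMap.mem_ker.1 (b j).2, smul_zero], add_zero] at h2
      have haf : ∀ i, a' (.inl i) * f = 0 := fun i => by
        have := congrFun h2 (Fin.castLE hls i)
        simpa [Finset.sum_apply, Pi.single_apply] using this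
      have hb : ∀ j, a' (.inr j) = 0 := by
        refine Fintype.linearIndependent_iff.1 b.linearIndependent (fun j => a' (.inr j)) (Subtype.ext ?_)
        simp only [Submodule.coe_sum, Submodule.coe_smul, Submodule.coe_zero]
        rw [← h1, right_eq_add]
        exact Finset.sum_eq_zero fun i _ => by rw [smul_smul, haf, zero_smul]
      rw [show a i = a' (σ i) by simp [ha']]
      rcases σ i with i | j
      · exact hann _ (haf i)
      · exact (hb j).symm ▸ IsNilpotent.zero
    · intro hl
      subst hl
      refine ⟨b.map (LinearEquiv.ofEq _ _ (le_antisymm hKle fun x hx => ?_))⟩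
      have := (Submodule.Quotient.mk_eq_zero W).1 ((hψ' x).trans hx)
      simpa [hW] using this

end Groth.Agent.S14034
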