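import Groth.Statements.S14035
import Mathlib.RingTheory.Flat.Equalizer
import Mathlib.RingTheory.LocalRing.Module
import Mathlib.RingTheory.LocalRing.ResidueField.Ideal
import Mathlib.RingTheory.Support
import Mathlib.RingTheory.TensorProduct.Basic

set_option autoImplicit false
universe u v
open W4c1frobunstiva

namespace Groth.Agent.S14035

open TensorProduct in
/-- Let A → B be a ring homomorphism with B Noetherian. If B modulo its nilradical is flat over A and
every fibre ring κ(p) ⊗_A B, p a prime of A, is reduced, then B is reduced. (This is the affine form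
of the statement for a morphism of schemes X → Y all of whose fibres are reduced and whose
restriction to the reduced closed subscheme X_red is flat. The published statement does not say X is
locally Noetherian, but its proof applies Nakayama's lemma to the nilradical as a finitely generated
ideal; without it the square-zero extension of a discrete valuation ring A by Frac(A)/A is a
counterexample.) -/
theorem result (A : Type u) (B : Type v)
    [CommRing A] [CommRing B] [Algebra A B] [IsNoetherianRing B]
    [Module.Flat A (B ⧸ nilradical B)]
    (hfib : ∀ p : PrimeSpectrum A, IsReduced (p.asIdeal.ResidueField ⊗[A] B)) :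
    IsReduced B := by
  let N := nilradical B
  let π : B →ₗ[A] B ⧸ N := (Ideal.Quotient.mkₐ A N).toLinearMap
  let ιN : N →ₗ[A] B := N.subtype.restrictScalars A
  have hex : Function.Exact ιN π := by
    intro b
    refine ⟨fun h => ⟨⟨b, Ideal.Quotient.eq_zero_iff_mem.1 h⟩, rfl⟩, ?_⟩
    rintro ⟨⟨b, hb⟩, rfl⟩
    exact Ideal.Quotient.eq_zero_iff_mem.2 hb
  have hzero : ∀ (q : PrimeSpectrum B) (n : N), (1 : q.asIdeal.ResidueField) ⊗ₜ[B] n = 0 := by
    intro q n
    let p : PrimeSpectrum A := ⟨q.asIdeal.comap (algebraMap A B), inferInstance⟩
    haveI := hfib p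
    have hinj := LinearMap.lTensor_injective_of_exact_of_flat π Ideal.Quotient.mk_surjective ιN
      Subtype.val_injective hex p.asIdeal.ResidueField
    have h0 : (1 : p.asIdeal.ResidueField) ⊗ₜ[A] n = 0 := by
      refine hinj ?_
      rw [map_zero, LinearMap.lTensor_tmul]
      have hn : IsNilpotent (n : B) := mem_nilradical.1 n.2
      exact (hn.map (Algebra.TensorProduct.includeRight : B →ₐ[A] p.asIdeal.ResidueField ⊗[A] B)).eq_zero
    let φ := Ideal.ResidueField.mapₐ (A := A) (B := B) p.asIdeal q.asIdeal (Algebra.ofId A B) rfl
    let β : p.asIdeal.ResidueField →ₗ[A] N →ₗ[A] q.asIdeal.ResidueField ⊗[B] N :=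
      LinearMap.mk₂ A (fun w x => φ w ⊗ₜ[B] x) (fun a b x => by simp [map_add, TensorProduct.add_tmul])
        (fun r a x => by rw [map_smul, TensorProduct.smul_tmul']) (fun a x y => by rw [TensorProduct.tmul_add])
        (fun r a x => by rw [TensorProduct.tmul_smul])
    have := congrArg (TensorProduct.lift β) h0
    rw [map_zero, TensorProduct.lift.tmul] at this
    have h1 : φ 1 ⊗ₜ[B] n = 0 := this
    rwa [map_one] at h1
  have hsub : Subsingleton N := by
    rw [← Module.support_eq_empty_iff (R := B), Set.eq_empty_iff_forall_notMem]
    intro q hq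
    rw [Module.mem_support_iff_nontrivial_residueField_tensorProduct] at hq
    refine not_subsingleton_iff_nontrivial.2 hq (subsingleton_of_forall_eq 0 fun t => ?_)
    induction t using TensorProduct.induction_on with
    | zero => rfl
    | add a b ha hb => rw [ha, hb, add_zero]
    | tmul w n =>
      have h := congrArg (fun t => w • t) (hzero q n)
      simp only [TensorProduct.smul_tmul', smul_eq_mul, mul_one, smul_zero] at h
      exact h
  refine ⟨fun b hb => ?_⟩
  have : (⟨b, mem_nilradical.2 hb⟩ : N) = 0 := Subsingleton.elim _ _
  exact congrArg Subtype.val this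


end Groth.Agent.S14035
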