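import Groth.Statements.S14036
import Groth.Agent.L15.Frob.RelFlat
-- import your own Groth.Agent.* helpers here

set_option autoImplicit false
universe u v
open W4c1frobunstiva

namespace Groth.Agent.S14036

/-- Let p be a prime number, A a commutative ring of characteristic p and B a smooth A-algebra of
characteristic p. Then the relative Frobenius homomorphism from the Frobenius twist B ⊗_A A (right
factor A through its p-th power map) to B, sending b ⊗ a to b^p a, is flat. (Affine form of the
statement that the relative Frobenius X → X^(p) of a smooth S-scheme in characteristic p is flat;
flatness and the relative Frobenius are both local on affine opens.) -/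
theorem result (p : ℕ) [Fact p.Prime] (A : Type u) [CommRing A]
    [CharP A p] (B : Type v) [CommRing B] [Algebra A B] [CharP B p] [Algebra.Smooth A B] :
    (FrobAlg.relFrob p A B).Flat := by
  exact Groth.L15.Frob.flat_relFrob p A B

end Groth.Agent.S14036
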