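import Groth.Statements.S14037
import Groth.Agent.L27.ProperFibres.Main

set_option autoImplicit false
universe u
open CategoryTheory CategoryTheory.Limits AlgebraicGeometry
open W4c1frobunstiva

namespace Groth.Agent.S14037

/-- Let f : X → Y be separated and of finite type, with X and Y integral, Y Noetherian and normal.
Suppose that every geometric fibre of f — the base change of X along any morphism from the spectrum
of an algebraically closed field to Y — is proper over that field and connected (so non-empty). Then
f is proper. -/
theorem result {X Y : Scheme.{u}}
    (f : X ⟶ Y) [IsSeparated f] [LocallyOfFiniteType f] [QuasiCompact f]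
    [IsIntegral X] [IsIntegral Y] [IsNoetherian Y] (hY : Pi1.IsNormalScheme Y)
    (hfib : ∀ (Ω : Type u) [Field Ω] [IsAlgClosed Ω] (y : Spec (CommRingCat.of Ω) ⟶ Y),
      IsProper (pullback.snd f y) ∧ ConnectedSpace ↥(pullback f y)) :
    IsProper f := by
  exact Groth.L27.ProperFibres.isProper f hY hfib

end Groth.Agent.S14037
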