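import Groth.Statements.S14038
import Mathlib.RingTheory.PowerSeries.Inverse
import Mathlib.RingTheory.PowerSeries.NoZeroDivisors
import Mathlib.LinearAlgebra.Matrix.NonsingularInverse
import Mathlib.LinearAlgebra.Matrix.ToLin
import Mathlib.Algebra.BigOperators.Fin
-- import your own Groth.Agent.* helpers here

set_option autoImplicit false
universe u
open W4c1frobunstiva

namespace Groth.Agent.S14038

section Aux

variable {k : Type u} [Field k] {r : ℕ}

/-- A row reduced matrix spans its row space triangularly. -/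
theorem vecMul_low (H : Matrix (Fin r) (Fin r) (PowerSeries k)) (hd : ∀ i, H i i ≠ 0)
    (hu : ∀ i j, j < i → H i j = 0) (c : Fin r → PowerSeries k) (m : ℕ)
    (hz : ∀ i : Fin r, (i : ℕ) < m → Matrix.vecMul c H i = 0) : ∀ i : Fin r, (i : ℕ) < m → c i = 0 := by
  intro i
  induction i using WellFoundedLT.induction with
  | _ i ih =>
    intro hi
    have h := hz i hi
    rw [Matrix.vecMul, dotProduct, Finset.sum_eq_single i (fun l _ hl => ?_) (by simp)] at h
    · exact (mul_eq_zero.1 h).resolve_right (hd i)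
    · rcases lt_or_gt_of_ne hl with hl' | hl'
      · rw [ih l hl' (lt_trans hl' hi), zero_mul]
      · rw [hu l i hl', mul_zero]

theorem vecMul_at (H : Matrix (Fin r) (Fin r) (PowerSeries k)) (hu : ∀ i j, j < i → H i j = 0)
    (c : Fin r → PowerSeries k) (i : Fin r) (hc : ∀ l, l < i → c l = 0) :
    Matrix.vecMul c H i = c i * H i i := by
  rw [Matrix.vecMul, dotProduct, Finset.sum_eq_single i (fun l _ hl => ?_) (by simp)]
  rcases lt_or_gt_of_ne hl with hl' | hl'
  · rw [hc l hl', zero_mul]
  · rw [hu l i hl', mul_zero]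

theorem exists_reduced (M : Matrix (Fin r) (Fin r) (PowerSeries k)) (hM : M.det ≠ 0) :
    ∃ (e : Fin r → ℕ) (H A B : Matrix (Fin r) (Fin r) (PowerSeries k)), (∀ i, H i i = PowerSeries.X ^ e i) ∧
      (∀ i j, j < i → H i j = 0) ∧ (∀ i j, i < j → ∀ n, e j ≤ n → PowerSeries.coeff n (H i j) = 0) ∧
      A * M = H ∧ B * H = M := by
  classical
  let L : Submodule (PowerSeries k) (Fin r → PowerSeries k) := LinearMap.range M.vecMulLinear
  let lead : Fin r → ℕ → Prop := fun j n => ∃ v ∈ L, (∀ i, i < j → v i = 0) ∧ v j = PowerSeries.X ^ n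
  have hdvr : ∀ x : PowerSeries k, x ≠ 0 → ∃ (n : ℕ) (w : (PowerSeries k)ˣ), x = (w : PowerSeries k) * PowerSeries.X ^ n :=
    fun x hx => IsDiscreteValuationRing.eq_unit_mul_pow_irreducible hx PowerSeries.X_irreducible
  have hne : ∀ j, ∃ n, lead j n := fun j => by
    obtain ⟨n, w, hw⟩ := hdvr _ hM
    refine ⟨n, Matrix.vecMul (((↑w⁻¹ : PowerSeries k) • M.adjugate) j) M, ⟨_, rfl⟩, fun i hi => ?_, ?_⟩
    all_goals
      rw [show Matrix.vecMul (((↑w⁻¹ : PowerSeries k) • M.adjugate) j) M = ((↑w⁻¹ : PowerSeries k) • M.adjugate * M) j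
        from rfl, Matrix.smul_mul, Matrix.adjugate_mul, Matrix.smul_apply, Matrix.smul_apply]
    · simp [Matrix.one_apply_ne hi.ne']
    · rw [hw, Matrix.one_apply_eq, smul_eq_mul, smul_eq_mul, mul_one, ← mul_assoc, Units.inv_mul, one_mul]
  let e : Fin r → ℕ := fun j => Nat.find (hne j)
  choose T hTL hT0 hTj using fun j => Nat.find_spec (hne j)
  have hdiv : ∀ j, ∀ v ∈ L, (∀ i, i < j → v i = 0) → ∃ q, v j = q * PowerSeries.X ^ e j := by
    intro j v hv hz
    rcases eq_or_ne (v j) 0 with h | h
    · exact ⟨0, by rw [h, zero_mul]⟩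
    obtain ⟨n, w, hw⟩ := hdvr _ h
    have hle : e j ≤ n := Nat.find_le ⟨(↑w⁻¹ : PowerSeries k) • v, L.smul_mem _ hv,
      fun i hi => by rw [Pi.smul_apply, hz i hi, smul_zero],
      by rw [Pi.smul_apply, smul_eq_mul, hw, ← mul_assoc, Units.inv_mul, one_mul]⟩
    obtain ⟨d, rfl⟩ := Nat.exists_eq_add_of_le hle
    exact ⟨(w : PowerSeries k) * PowerSeries.X ^ d, by rw [hw, add_comm, pow_add, mul_assoc]⟩
  have hred : ∀ j : Fin r, ∀ m : ℕ, ∃ w ∈ L, (∀ i, i < j → w i = 0) ∧ w j = PowerSeries.X ^ e j ∧
      ∀ l, j < l → (l : ℕ) < m → ∀ n, e l ≤ n → PowerSeries.coeff n (w l) = 0 := by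
    intro j m
    induction m with
    | zero => exact ⟨T j, hTL j, hT0 j, hTj j, fun l _ h => absurd h (Nat.not_lt_zero _)⟩
    | succ m ih =>
      obtain ⟨w, hwL, hw0, hwj, hwr⟩ := ih
      by_cases hm : ∃ l : Fin r, (l : ℕ) = m ∧ j < l
      · obtain ⟨l, rfl, hjl⟩ := hm
        let q : PowerSeries k := PowerSeries.mk fun n => PowerSeries.coeff (n + e l) (w l)
        refine ⟨w - q • T l, L.sub_mem hwL (L.smul_mem _ (hTL l)), fun i hi => ?_, ?_, fun l' hl' hlm n hn => ?_⟩
        · simp [hw0 i hi, hT0 l i (hi.trans hjl)]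
        · simp [hwj, hT0 l j hjl]
        rcases lt_or_eq_of_le (Nat.lt_succ_iff.1 hlm) with h | h
        · have hlt : l' < l := h
          simp [hT0 l l' hlt, hwr l' hl' h n hn]
        · obtain rfl : l' = l := Fin.ext h
          obtain ⟨d, rfl⟩ := Nat.exists_eq_add_of_le hn
          simp only [Pi.sub_apply, Pi.smul_apply, smul_eq_mul, hTj, map_sub]
          show PowerSeries.coeff (e l' + d) (w l') - PowerSeries.coeff (e l' + d) (q * PowerSeries.X ^ e l') = 0
          rw [add_comm, PowerSeries.coeff_mul_X_pow, PowerSeries.coeff_mk, sub_self]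
      · refine ⟨w, hwL, hw0, hwj, fun l hl hlm => hwr l hl ?_⟩
        rcases lt_or_eq_of_le (Nat.lt_succ_iff.1 hlm) with h | h
        · exact h
        · exact absurd ⟨l, h, hl⟩ hm
  choose H hHL hH0 hHj hHr using fun j => hred j r
  choose A hA using fun j => (LinearMap.mem_range.1 (hHL j))
  have hspan : ∀ m : ℕ, ∀ v ∈ L, (∀ i : Fin r, (i : ℕ) < r - m → v i = 0) → ∃ c, Matrix.vecMul c (Matrix.of H) = v := by
    intro m
    induction m with
    | zero => exact fun v _ hv => ⟨0, by rw [Matrix.zero_vecMul]; exact funext fun i => (hv i (by omega)).symm⟩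
    | succ m ih =>
      intro v hv hz
      by_cases hm : m < r
      · let i₀ : Fin r := ⟨r - (m + 1), by omega⟩
        obtain ⟨q, hq⟩ := hdiv i₀ v hv fun i hi => hz i hi
        obtain ⟨c, hc⟩ := ih (v - q • H i₀) (L.sub_mem hv (L.smul_mem _ (hHL i₀))) fun i hi => by
          rcases lt_trichotomy i i₀ with h | h | h
          · simp [hz i h, hH0 i₀ i h]
          · subst h; simp [hq, hHj]
          · exfalso
            have h' : r - (m + 1) < (i : ℕ) := h
            omega
        refine ⟨c + Pi.single i₀ q, ?_⟩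
        rw [Matrix.add_vecMul, hc, Matrix.single_vecMul]
        exact sub_add_cancel v _
      · exact ih v hv fun i hi => hz i (by omega)
  have hB : ∀ i, ∃ c, Matrix.vecMul c (Matrix.of H) = M i := fun i =>
    hspan r (M i) ⟨Pi.single i 1, by simp [Matrix.single_one_vecMul, Matrix.row_def]⟩ fun l hl => absurd hl (by simp)
  choose B hB using hB
  refine ⟨e, Matrix.of H, Matrix.of A, Matrix.of B, hHj, fun i j hij => hH0 i j hij,
    fun i j hij => hHr i j hij j.2, ?_, ?_⟩
  · exact funext fun i => hA i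
  · exact funext fun i => hB i

end Aux

/-- Let k be a field and M a square matrix of size r over the formal power series ring k[[t]] with
non-zero determinant. Call a matrix H over k[[t]] row-reduced when it is upper triangular, each
diagonal entry is a power t^{e_i} of the variable, and every entry above the diagonal in column j is
a polynomial of degree less than e_j (all its coefficients in degrees ≥ e_j vanish). Then there is
exactly one row-reduced H obtainable from M by left multiplication with an invertible matrix over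
k[[t]]. (The published statement takes k algebraically closed; the row-reduction argument needs only
a field.) -/
theorem result (k : Type u) [Field k] (r : ℕ)
    (M : Matrix (Fin r) (Fin r) (PowerSeries k)) (hM : M.det ≠ 0) :
    ∃! H : Matrix (Fin r) (Fin r) (PowerSeries k),
      (∃ e : Fin r → ℕ, (∀ i, H i i = PowerSeries.X ^ e i) ∧ (∀ i j, j < i → H i j = 0) ∧
        (∀ i j, i < j → ∀ n, e j ≤ n → PowerSeries.coeff n (H i j) = 0)) ∧
      ∃ N : Matrix (Fin r) (Fin r) (PowerSeries k), IsUnit N ∧ N * M = H := by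
  classical
  obtain ⟨e, H, A, B, hd, hu, hc, hAH, hBM⟩ := exists_reduced M hM
  have hBA : B * A = 1 := by
    have h : (B * A - 1) * M = 0 := by rw [sub_mul, Matrix.mul_assoc, hAH, hBM, Matrix.one_mul, sub_self]
    have h2 := congrArg (· * M.adjugate) h
    simp only [Matrix.mul_assoc, Matrix.mul_adjugate, Matrix.mul_smul, Matrix.mul_one, Matrix.zero_mul] at h2
    exact sub_eq_zero.1 ((smul_eq_zero.1 h2).resolve_left hM)
  refine ⟨H, ⟨⟨e, hd, hu, hc⟩, A, IsUnit.of_mul_eq_one_right B hBA, hAH⟩, ?_⟩
  rintro H' ⟨⟨e', hd', hu', hc'⟩, N, hN, hNH⟩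
  obtain ⟨Ni, hNi⟩ := hN.exists_left_inv
  let C := N * B
  let D := A * Ni
  have hC : C * H = H' := by rw [Matrix.mul_assoc, hBM, hNH]
  have hD : D * H' = H := by rw [← hNH, Matrix.mul_assoc, ← Matrix.mul_assoc Ni, hNi, Matrix.one_mul, hAH]
  have hX : ∀ n : ℕ, (PowerSeries.X : PowerSeries k) ^ n ≠ 0 := fun n => pow_ne_zero _ PowerSeries.X_ne_zero
  have hCz : ∀ j i, i < j → C j i = 0 := fun j i hij =>
    vecMul_low H (fun l => by rw [hd]; exact hX _) hu (C j) j
      (fun l hl => (congrFun (congrFun hC j) l).trans (hu' j l hl)) i hij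
  have hDz : ∀ j i, i < j → D j i = 0 := fun j i hij =>
    vecMul_low H' (fun l => by rw [hd']; exact hX _) hu' (D j) j
      (fun l hl => (congrFun (congrFun hD j) l).trans (hu j l hl)) i hij
  have h1 : ∀ j, C j j * PowerSeries.X ^ e j = PowerSeries.X ^ e' j := fun j => by
    rw [← hd j, ← vecMul_at H hu (C j) j (hCz j), ← hd' j]
    exact congrFun (congrFun hC j) j
  have h2 : ∀ j, D j j * PowerSeries.X ^ e' j = PowerSeries.X ^ e j := fun j => by
    rw [← hd' j, ← vecMul_at H' hu' (D j) j (hDz j), ← hd j]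
    exact congrFun (congrFun hD j) j
  have hee : ∀ j, e' j = e j := fun j => by
    have a1 : (PowerSeries.X : PowerSeries k) ^ e j ∣ PowerSeries.X ^ e' j := Dvd.intro_left _ (h1 j)
    have a2 : (PowerSeries.X : PowerSeries k) ^ e' j ∣ PowerSeries.X ^ e j := Dvd.intro_left _ (h2 j)
    rw [pow_dvd_pow_iff PowerSeries.X_ne_zero PowerSeries.X_irreducible.not_isUnit] at a1 a2
    omega
  have hdiag : ∀ j, C j j = 1 := fun j => by
    have := h1 j
    rw [hee] at this
    exact mul_right_cancel₀ (hX (e j)) (this.trans (one_mul _).symm)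
  have hrest : ∀ j l, j < l → C j l = 0 := by
    intro j l
    induction l using WellFoundedLT.induction with
    | _ l ih =>
      intro hjl
      have key : H' j l - H j l = C j l * PowerSeries.X ^ e l := by
        rw [← hd l]
        have := congrFun (congrFun hC j) l
        rw [← this, Matrix.mul_apply, ← Finset.sum_erase_add _ _ (Finset.mem_univ j), hdiag, one_mul,
          add_sub_cancel_right, Finset.sum_eq_single l]
        · intro i hi hil
          rcases lt_trichotomy i j with h | h | h
          · rw [hCz j i h, zero_mul]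
          · exact absurd h (Finset.ne_of_mem_erase hi)
          · rcases lt_or_gt_of_ne hil with h' | h'
            · rw [ih i h' h, zero_mul]
            · rw [hu i l h', mul_zero]
        · exact fun h => absurd (Finset.mem_erase.2 ⟨hjl.ne', Finset.mem_univ _⟩) h
      refine PowerSeries.ext fun n => ?_
      rw [← PowerSeries.coeff_mul_X_pow (C j l) (e l) n, ← key, map_sub,
        hc' j l hjl _ (by rw [hee]; omega), hc j l hjl _ (by omega), sub_zero, map_zero]
  have hC1 : C = 1 := by
    refine Matrix.ext fun i j => ?_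
    rcases lt_trichotomy i j with h | h | h
    · rw [hrest i j h, Matrix.one_apply_ne h.ne]
    · rw [h, hdiag, Matrix.one_apply_eq]
    · rw [hCz i j h, Matrix.one_apply_ne h.ne']
  rw [← hC, hC1, Matrix.one_mul]

end Groth.Agent.S14038
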