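import Groth.Statements.S14039
import Mathlib.RingTheory.PowerSeries.WellKnown
import Mathlib.Algebra.BigOperators.Ring.Finset
import Mathlib.Algebra.Ring.GeomSum
import Mathlib.Data.Fintype.BigOperators
import Mathlib.Tactic.LinearCombination
import Mathlib.Tactic.Ring

set_option autoImplicit false
open W4c1frobunstiva

namespace Groth.Agent.S14039

variable {_unused : Unit}

open W4c1frobunstiva in

/-- For natural numbers p, n ≥ 1 and s, the number of monomials of degree s in n variables in which
every variable occurs with a positive exponent strictly less than p — that is, of exponent vectors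
(e_1, …, e_n) with sum s and 1 ≤ e_i ≤ p − 1 — equals the inclusion–exclusion sum over i from 0 to n
of (−1)^i · C(n, i) · C(s − i(p − 1) − 1, n − 1), the last factor counting monomials of degree s −
i(p − 1) − n in n variables and read as 0 when s < i(p − 1) + n. (A companion count, by how many
exponents lie below p/2, and a remark on polynomiality in s and p are not part of this row.) -/
theorem result (p n s : ℕ)
    (hn : 1 ≤ n) :
    (Fintype.card {e : Fin n → Fin p // (∀ i, 1 ≤ (e i : ℕ)) ∧ ∑ i, (e i : ℕ) = s} : ℤ) =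
      ∑ i ∈ Finset.range (n + 1),
        (-1 : ℤ) ^ i * (n.choose i : ℤ) *
          (if i * (p - 1) + n ≤ s then (((s - i * (p - 1) - 1).choose (n - 1) : ℕ) : ℤ) else 0) := by
  classical
  set G : PowerSeries ℤ := ∑ e ∈ Finset.univ.filter (fun e : Fin p => 1 ≤ (e : ℕ)), PowerSeries.X ^ (e : ℕ) with hG
  have hcount : (Fintype.card {e : Fin n → Fin p // (∀ i, 1 ≤ (e i : ℕ)) ∧ ∑ i, (e i : ℕ) = s} : ℤ) =
      PowerSeries.coeff s (G ^ n) := by
    have hp : G ^ n = ∏ _i : Fin n, G := by simp
    rw [hp, hG, Finset.prod_univ_sum, map_sum]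
    simp only [Finset.prod_pow_eq_pow_sum, PowerSeries.coeff_X_pow]
    rw [Finset.sum_boole, Fintype.card_subtype]
    congr 2
    ext e
    simp [Fintype.mem_piFinset, eq_comm]
  have hgeom : G * (1 - PowerSeries.X) = PowerSeries.X * (1 - PowerSeries.X ^ (p - 1)) := by
    rcases Nat.eq_zero_or_pos p with rfl | hp
    · simp [hG]
    have : G = PowerSeries.X * ∑ j ∈ Finset.range (p - 1), PowerSeries.X ^ j := by
      rw [hG, Finset.mul_sum]
      refine Finset.sum_bij' (fun e _ => (e : ℕ) - 1) (fun j hj => ⟨j + 1, by have := Finset.mem_range.mp hj; omega⟩)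
        ?_ ?_ ?_ ?_ ?_
      · intro e he; have := e.isLt; simp at he ⊢; omega
      · intro j hj; simp
      · intro e he; simp at he; ext; simp; omega
      · intro j hj; simp
      · intro e he
        simp only [Finset.mem_filter] at he
        rw [← pow_succ', Nat.sub_add_cancel he.2]
    rw [this, mul_assoc, geom_sum_mul_neg]
  have hGn : G ^ n = PowerSeries.X ^ n * (1 - PowerSeries.X ^ (p - 1)) ^ n * (PowerSeries.invOneSubPow ℤ n).val := by
    rw [← mul_pow, ← hgeom, mul_pow, mul_assoc, ← PowerSeries.invOneSubPow_inv_eq_one_sub_pow, (PowerSeries.invOneSubPow ℤ n).inv_val, mul_one]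
  rw [hcount, hGn, sub_eq_add_neg, add_comm (1 : PowerSeries ℤ), add_pow, Finset.mul_sum, Finset.sum_mul, map_sum]
  refine Finset.sum_congr rfl fun i _ => ?_
  have e1 : PowerSeries.X ^ n * ((-PowerSeries.X ^ (p - 1)) ^ i * (1 : PowerSeries ℤ) ^ (n - i) * (n.choose i : PowerSeries ℤ)) * (PowerSeries.invOneSubPow ℤ n).val =
      PowerSeries.C ((-1 : ℤ) ^ i * (n.choose i : ℤ)) * (PowerSeries.X ^ (i * (p - 1) + n) * (PowerSeries.invOneSubPow ℤ n).val) := by
    rw [map_mul, map_pow, map_neg, map_one, map_natCast, one_pow, pow_add, pow_mul', neg_pow (PowerSeries.X ^ (p - 1))]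
    ring
  rw [e1, PowerSeries.coeff_C_mul, PowerSeries.coeff_X_pow_mul']
  congr 1
  split_ifs with h
  · rw [PowerSeries.invOneSubPow_val_eq_mk_sub_one_add_choose_of_pos ℤ n hn, PowerSeries.coeff_mk]
    congr 2
    omega
  · rfl

end Groth.Agent.S14039
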