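import Groth.Statements.S14040
import Mathlib.RingTheory.Flat.TorsionFree
import Mathlib.RingTheory.LocalRing.ResidueField.Ideal
import Mathlib.RingTheory.DiscreteValuationRing.Basic
import Mathlib.RingTheory.Localization.BaseChange
import Mathlib.LinearAlgebra.TensorProduct.Quotient

set_option autoImplicit false
universe u v
open W4c1frobunstiva

namespace Groth.Agent.S14040

open TensorProduct in
/-- Let A be a discrete valuation ring and B a Noetherian A-algebra such that the nilradical of B is
prime and meets the image of A only in 0 — the spectrum of B is irreducible and its generic point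
lies over the generic point of A. If every fibre ring κ(p) ⊗_A B, p a prime of A, is reduced, then B
is reduced and flat over A. (Affine form of the statement for a dominant morphism from an
irreducible scheme to the spectrum of a discrete valuation ring with reduced fibres. The published
statement also covers a scheme that is already reduced and does not assume it locally Noetherian;
this row treats reduced fibres with B Noetherian, without which the square-zero extension A ⊕
Frac(A)/A is a counterexample.) -/
theorem result (A : Type u) [CommRing A]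
    [IsDomain A] [IsDiscreteValuationRing A] (B : Type v) [CommRing B] [Algebra A B]
    [IsNoetherianRing B] (hirr : (nilradical B).IsPrime)
    (hdom : (nilradical B).comap (algebraMap A B) = ⊥)
    (hfib : ∀ p : PrimeSpectrum A, IsReduced (p.asIdeal.ResidueField ⊗[A] B)) :
    IsReduced B ∧ Module.Flat A B := by
  classical
  obtain ⟨t, ht⟩ := IsDiscreteValuationRing.exists_irreducible A
  have hmem : ∀ c : A, c ≠ 0 → algebraMap A B c ∉ nilradical B := fun c hc hcP => hc (by
    have h1 : c ∈ (nilradical B).comap (algebraMap A B) := hcP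
    rwa [hdom] at h1)
  -- the generic fibre
  have hgen : ∀ x ∈ nilradical B, ∃ e : ℕ, algebraMap A B t ^ e * x = 0 := by
    intro x hx
    let p : Ideal A := (⊥ : Ideal A)
    let κ := p.ResidueField
    haveI hfr : IsFractionRing A κ := by
      have hinj : Function.Injective (algebraMap A κ) :=
        (RingHom.injective_iff_ker_eq_bot _).2 (Ideal.ker_algebraMap_residueField p)
      haveI : FaithfulSMul A κ := (faithfulSMul_iff_algebraMap_injective A κ).2 hinj
      exact {
        map_units := fun c => isUnit_iff_ne_zero.2 fun h0 =>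
          nonZeroDivisors.coe_ne_zero c (hinj (h0.trans (map_zero _).symm))
        surj := fun z => by
          obtain ⟨a, b, hb, rfl⟩ := IsFractionRing.div_surjective (A := A ⧸ p) z
          obtain ⟨a, rfl⟩ := Ideal.Quotient.mk_surjective a
          obtain ⟨b, rfl⟩ := Ideal.Quotient.mk_surjective b
          have hb0 : b ≠ 0 := fun h0 => nonZeroDivisors.ne_zero hb (by rw [h0, map_zero])
          refine ⟨(a, ⟨b, mem_nonZeroDivisors_of_ne_zero hb0⟩), ?_⟩
          show _ * algebraMap A κ b = algebraMap A κ a
          exact div_mul_cancel₀ _ fun h0 => hb0 (hinj (h0.trans (map_zero _).symm))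
        exists_of_eq := fun {a b} h => ⟨1, by rw [hinj h]⟩ }
    haveI : IsReduced (κ ⊗[A] B) := hfib ⟨p, inferInstance⟩
    have h0 : TensorProduct.mk A κ B 1 x = 0 := by
      obtain ⟨e, he⟩ := mem_nilradical.1 hx
      refine IsNilpotent.eq_zero ⟨e, ?_⟩
      show ((1 : κ) ⊗ₜ[A] x) ^ e = 0
      rw [Algebra.TensorProduct.tmul_pow, one_pow, he, TensorProduct.tmul_zero]
    haveI : IsLocalizedModule (nonZeroDivisors A) (TensorProduct.mk A κ B 1) :=
      (isLocalizedModule_iff_isBaseChange (nonZeroDivisors A) κ _).2 (TensorProduct.isBaseChange A B κ)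
    obtain ⟨⟨c, hc⟩, hcx⟩ := (IsLocalizedModule.eq_zero_iff (nonZeroDivisors A) _).1 h0
    obtain ⟨e, u, hu⟩ := IsDiscreteValuationRing.eq_unit_mul_pow_irreducible (nonZeroDivisors.ne_zero hc) ht
    refine ⟨e, ?_⟩
    have h1 : algebraMap A B c * x = 0 := by rw [← Algebra.smul_def]; exact hcx
    rw [hu, map_mul, map_pow, mul_assoc] at h1
    exact (u.isUnit.map (algebraMap A B)).mul_right_eq_zero.1 h1
  -- the closed fibre
  have hcl : ∀ x ∈ nilradical B, ∃ y ∈ nilradical B, x = algebraMap A B t * y := by
    intro x hx
    let p : Ideal A := IsLocalRing.maximalIdeal A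
    haveI : IsReduced (p.ResidueField ⊗[A] B) := hfib ⟨p, inferInstance⟩
    have h0 : ((1 : p.ResidueField) ⊗ₜ[A] x) = 0 := by
      obtain ⟨e, he⟩ := mem_nilradical.1 hx
      refine IsNilpotent.eq_zero ⟨e, ?_⟩
      rw [Algebra.TensorProduct.tmul_pow, one_pow, he, TensorProduct.tmul_zero]
    let ε : (A ⧸ p) ≃ₐ[A] p.ResidueField :=
      AlgEquiv.ofBijective (IsScalarTower.toAlgHom A (A ⧸ p) p.ResidueField) p.bijective_algebraMap_quotient_residueField
    have h1 := congrArg (TensorProduct.congr ε.toLinearEquiv (LinearEquiv.refl A B)).symm h0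
    rw [map_zero, TensorProduct.congr_symm_tmul] at h1
    have h2 : (Ideal.Quotient.mk p (1 : A)) ⊗ₜ[A] x = (0 : (A ⧸ p) ⊗[A] B) := by
      rw [map_one, ← map_one ε.symm]
      exact h1
    have h3 := congrArg (TensorProduct.quotTensorEquivQuotSMul B p) h2
    rw [map_zero, TensorProduct.quotTensorEquivQuotSMul_mk_tmul, one_smul, Submodule.Quotient.mk_eq_zero] at h3
    have h4 : x ∈ Ideal.span {algebraMap A B t} := by
      refine Submodule.smul_induction_on h3 (fun a ha b _ => ?_) (fun _ _ => add_mem)
      obtain ⟨c, rfl⟩ := Ideal.mem_span_singleton.1 (ht.maximalIdeal_eq ▸ ha : a ∈ Ideal.span {t})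
      rw [Algebra.smul_def, map_mul, mul_assoc]
      exact Ideal.mul_mem_right _ _ (Ideal.mem_span_singleton_self _)
    obtain ⟨y, rfl⟩ := Ideal.mem_span_singleton.1 h4
    exact ⟨y, (hirr.mem_or_mem hx).resolve_left (hmem t ht.ne_zero), rfl⟩
  -- combine
  have hP : nilradical B = ⊥ := by
    obtain ⟨S, hS⟩ := (IsNoetherian.noetherian (nilradical B) : (nilradical B).FG)
    have hgen' : ∀ s : S, ∃ e : ℕ, algebraMap A B t ^ e * (s : B) = 0 := fun s =>
      hgen s (hS ▸ Submodule.subset_span s.2)
    choose e he using hgen'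
    let N := Finset.univ.sup e
    have hkill : ∀ y ∈ nilradical B, algebraMap A B t ^ N * y = 0 := by
      intro y hy
      rw [← hS] at hy
      induction hy using Submodule.span_induction with
      | mem s hs =>
        obtain ⟨d, hd⟩ := Nat.exists_eq_add_of_le (Finset.le_sup (f := e) (Finset.mem_univ (⟨s, hs⟩ : S)))
        show algebraMap A B t ^ (Finset.univ.sup e) * s = 0
        rw [hd, pow_add, mul_right_comm, he ⟨s, hs⟩, zero_mul]
      | zero => rw [mul_zero]
      | add a b _ _ ha hb => rw [mul_add, ha, hb, add_zero]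
      | smul r a _ ha => rw [smul_eq_mul, mul_left_comm, ha, mul_zero]
    have hdiv : ∀ m : ℕ, ∀ x ∈ nilradical B, ∃ y ∈ nilradical B, x = algebraMap A B t ^ m * y := by
      intro m
      induction m with
      | zero => exact fun x hx => ⟨x, hx, by rw [pow_zero, one_mul]⟩
      | succ m ih =>
        intro x hx
        obtain ⟨y, hy, rfl⟩ := ih x hx
        obtain ⟨z, hz, rfl⟩ := hcl y hy
        exact ⟨z, hz, by rw [pow_succ, mul_assoc]⟩
    rw [eq_bot_iff]
    intro x hx
    obtain ⟨y, hy, rfl⟩ := hdiv N x hx
    exact Submodule.mem_bot B |>.2 (hkill y hy)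
  haveI hred : IsReduced B := ⟨fun x hx => by
    have h1 : x ∈ nilradical B := mem_nilradical.2 hx
    rw [hP] at h1
    exact h1⟩
  refine ⟨hred, ?_⟩
  rw [IsDedekindDomain.flat_iff_torsion_eq_bot, eq_bot_iff]
  rintro x ⟨⟨c, hc⟩, hcx⟩
  have h1 : algebraMap A B c * x ∈ nilradical B := by
    rw [← Algebra.smul_def]
    exact (show c • x = 0 from hcx) ▸ zero_mem _
  have h2 := (hirr.mem_or_mem h1).resolve_left (hmem c (nonZeroDivisors.ne_zero hc))
  rw [hP] at h2
  exact h2


end Groth.Agent.S14040
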