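import Groth.Statements.S2081
import Groth.Agent.L19.GenericFinite

set_option autoImplicit false
set_option backward.isDefEq.respectTransparency.types false
set_option backward.isDefEq.respectTransparency false
set_option linter.style.haveILetI false
universe u
open CategoryTheory AlgebraicGeometry
open Mor

namespace Groth.Agent.S2081

/-- Let `f : X → Y` be locally of finite type and quasi-compact. Suppose `X` and `Y` have finitely many
irreducible components and that a point of `X` is a generic point of an irreducible component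
exactly when its image is one in `Y`. Then `f⁻¹(V) → V` is finite for some dense open `V ⊆ Y`. -/
theorem result {X Y : Scheme.{u}} (f : X ⟶ Y) [LocallyOfFiniteType f]
    [QuasiCompact f] (hX : (irreducibleComponents (X : Type u)).Finite) (hY : (irreducibleComponents (Y : Type u)).Finite)
    (hgen : ∀ x : X, closure {x} ∈ irreducibleComponents (X : Type u) ↔
      closure {f.base x} ∈ irreducibleComponents (Y : Type u)) :
    ∃ V : Y.Opens, Dense (V : Set Y) ∧ IsFinite (f ∣_ V) := by
  obtain ⟨WY, hWY₁, hWY₂, hWY₃⟩ := Groth.L19.GenericIso.exists_isolating_open hY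
  obtain ⟨WX, hWX₁, hWX₂, hWX₃⟩ := Groth.L19.GenericIso.exists_isolating_open hX
  have key : ∀ η : {y : Y // closure {y} ∈ irreducibleComponents (Y : Type u)},
      ∃ V : Y.Opens, η.1 ∈ V ∧ V ≤ WY η.1 ∧ IsFinite (f ∣_ V) := by
    rintro ⟨η, hη⟩
    have hmin : ∀ y : Y, y ⤳ η → y = η := fun y => Groth.L19.GenericIso.eq_of_specializes hη
    have hgenF : ∀ x, f x = η → closure {x} ∈ irreducibleComponents (X : Type u) := fun x hx =>
      (hgen x).mpr (show closure {f x} ∈ _ from hx.symm ▸ hη)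
    have hfin : (f ⁻¹' {η}).Finite :=
      (genericPoints.finite hX).subset fun x hx => hgenF x hx
    have hloc : ∀ x : ↥(f ⁻¹' {η}), ∃ A : X.Opens, IsAffineOpen A ∧ x.1 ∈ A ∧ A ≤ WX x.1 := fun x => by
      obtain ⟨_, ⟨A, hA, rfl⟩, hxA, hAW⟩ := X.isBasis_affineOpens.exists_subset_of_mem_open
        (hWX₁ x.1 (hgenF x.1 x.2)) (WX x.1).isOpen
      exact ⟨A, hA, hxA, hAW⟩
    choose A hA hxA hAW using hloc
    haveI := hfin.to_subtype
    have hAff : IsAffineOpen (⨆ x, A x) := IsAffineOpen.iSup_of_disjoint hA fun a b hab =>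
      disjoint_iff_inf_le.2 fun z hz =>
        (hab (Subtype.ext (hWX₃ a.1 b.1 z (hgenF a.1 a.2) (hgenF b.1 b.2) (hAW a hz.1) (hAW b hz.2)))).elim
    obtain ⟨V, hV, hηV, hVf⟩ := Groth.L19.GenericFinite.exists_affine_nhd_isFinite f hmin hfin _ hAff
      fun x hx => TopologicalSpace.Opens.mem_iSup.mpr ⟨⟨x, hx⟩, hxA _⟩
    refine ⟨V ⊓ WY η, ⟨hηV, hWY₁ η hη⟩, inf_le_right, ?_⟩
    have h3 := IsZariskiLocalAtTarget.restrict (P := @IsFinite) hVf (V.ι ⁻¹ᵁ WY η)
    refine (MorphismProperty.arrow_mk_iso_iff @IsFinite (morphismRestrictRestrict f _ _ ≪≫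
      eqToIso (by rw [Scheme.Hom.image_preimage_eq_opensRange_inf, Scheme.Opens.opensRange_ι]))).mp h3
  choose V hηV hVW hVf using key
  refine ⟨⨆ η, V η, ?_, ?_⟩
  · refine Dense.mono (s₁ := {y : Y | closure {y} ∈ irreducibleComponents (Y : Type u)})
      (fun y hy => TopologicalSpace.Opens.mem_iSup.mpr ⟨⟨y, hy⟩, hηV _⟩) ?_
    rw [dense_iff_closure_eq]
    exact genericPoints.closure
  · refine IsZariskiLocalAtTarget.of_iSup_eq_top (P := @IsFinite) (fun η => (⨆ η, V η).ι ⁻¹ᵁ V η) ?_ fun η => ?_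
    · rw [← Scheme.Hom.preimage_iSup, Scheme.Opens.ι_preimage_self]
    · exact (MorphismProperty.arrow_mk_iso_iff @IsFinite (morphismRestrictRestrict f _ _ ≪≫
        eqToIso (by rw [Scheme.Hom.image_preimage_eq_opensRange_inf, Scheme.Opens.opensRange_ι,
          inf_eq_right.mpr (le_iSup V η)]))).mpr (hVf η)

end Groth.Agent.S2081
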