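import Groth.Statements.S14041
import Groth.Agent.S2081
import Groth.Agent.L20.GenericFlatScheme
import Groth.Agent.L22.FibreDim
import Groth.Agent.L18.CurveDimension
import Groth.Agent.L22.Cyc.FiniteDeg
import Groth.Agent.L26.KL.RankScheme

set_option autoImplicit false
set_option backward.isDefEq.respectTransparency.types false
set_option backward.isDefEq.respectTransparency false
set_option linter.style.haveILetI false
universe u
open CategoryTheory CategoryTheory.Limits AlgebraicGeometry
open W4c1frobunstiva

namespace Groth.Agent.S14041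

/-- Let k be a field, X and Y integral schemes of finite type over k of the same (topological Krull)
dimension, and f : X → Y a dominant k-morphism, so that f sends the generic point ξ of X to the
generic point of Y. Then κ(ξ) is a finite extension of the residue field at f(ξ), say of degree d,
and there is a non-empty open subset U of Y such that for every point y of U the fibre X_y = X ×_Y
Spec κ(y) is finite over κ(y) and its ring of global sections has dimension exactly d over κ(y).
(The published statement speaks of the length of X_y; the κ(y)-dimension of Γ(X_y, O) is the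
invariant for which the equality holds on U, including at the generic point.) -/
theorem result (k : Type u) [Field k] {X Y : Scheme.{u}}
    [X.Over (Spec (CommRingCat.of k))] [Y.Over (Spec (CommRingCat.of k))]
    [LocallyOfFiniteType (X ↘ Spec (CommRingCat.of k))] [QuasiCompact (X ↘ Spec (CommRingCat.of k))]
    [LocallyOfFiniteType (Y ↘ Spec (CommRingCat.of k))] [QuasiCompact (Y ↘ Spec (CommRingCat.of k))]
    [IsIntegral X] [IsIntegral Y] (f : X ⟶ Y) [IsDominant f]
    (hf : f ≫ (Y ↘ Spec (CommRingCat.of k)) = X ↘ Spec (CommRingCat.of k))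
    (hdim : topologicalKrullDim ↥X = topologicalKrullDim ↥Y) :
    (letI := (f.residueFieldMap (genericPoint ↥X)).hom.toAlgebra;
      Module.Finite (Y.residueField (f.base (genericPoint ↥X))) (X.residueField (genericPoint ↥X))) ∧
    ∃ U : Y.Opens, Nonempty ↥U ∧ ∀ y : Y, y ∈ U →
      IsFinite (pullback.snd f (Y.fromSpecResidueField y)) ∧
        (letI := ((Scheme.ΓSpecIso (CommRingCat.of (Y.residueField y))).inv ≫
            (pullback.snd f (Y.fromSpecResidueField y)).appTop).hom.toAlgebra;
          Module.finrank (Y.residueField y) ↑(Γ(pullback f (Y.fromSpecResidueField y), ⊤))) =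
        (letI := (f.residueFieldMap (genericPoint ↥X)).hom.toAlgebra;
          Module.finrank (Y.residueField (f.base (genericPoint ↥X))) (X.residueField (genericPoint ↥X))) := by
  classical
  set ξ := genericPoint ↥X with hξdef
  set η := genericPoint ↥Y with hηdef
  haveI : LocallyOfFiniteType (f ≫ (Y ↘ Spec (CommRingCat.of k))) := by rw [hf]; infer_instance
  haveI : LocallyOfFiniteType f := locallyOfFiniteType_of_comp f (Y ↘ Spec (CommRingCat.of k))
  haveI : QuasiCompact (f ≫ (Y ↘ Spec (CommRingCat.of k))) := by rw [hf]; infer_instance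
  haveI : IsLocallyNoetherian Y :=
    LocallyOfFiniteType.isLocallyNoetherian (Y ↘ Spec (CommRingCat.of k))
  haveI : QuasiCompact f := QuasiCompact.of_comp f (Y ↘ Spec (CommRingCat.of k))
  have hfξ : f ξ = η := by
    refine (genericPoint_spec Y).eq ?_ |>.symm
    show closure {f ξ} = Set.univ
    refine Set.eq_univ_of_univ_subset ?_
    calc Set.univ = closure (Set.range f) := f.denseRange.closure_range.symm
      _ ⊆ closure {f ξ} := closure_minimal (by
          rintro _ ⟨x, rfl⟩
          exact ((genericPoint_specializes x).map f.continuous).mem_closure) isClosed_closure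
  -- the only point over `η` is `ξ`
  have honly : ∀ x : X, f x = η → x = ξ := by
    intro x hx
    by_contra hne
    obtain ⟨nY, hY1, -, -⟩ := Groth.L22.SchemeDim.exists_dim_eq_trdeg k Y
    obtain ⟨nX, hX1, hX2, -⟩ := Groth.L22.SchemeDim.exists_dim_eq_trdeg k X
    obtain ⟨a, b, ha, -, hab⟩ := Groth.L22.FibreDim.exists_dim_closure_add k f hf x
    rw [hx, genericPoint_closure] at ha
    have hclY : (a : WithBot ℕ∞) = nY := by
      rw [← ha, ← hY1]
      exact (Homeomorph.Set.univ Y).isHomeomorph.topologicalKrullDim_eq
    obtain ⟨c, hc, hct⟩ := Groth.L22.SchemeDim.exists_dim_closure_eq_trdeg k X x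
    obtain ⟨n, m, hn, hm, hlt⟩ := Groth.L18.CurveDim.trdeg_lt_of_specializes (k := k)
      (genericPoint_specializes x) (Ne.symm hne)
    have e1 : a = nY := by exact_mod_cast hclY
    have e2 : c = a + b := by exact_mod_cast hc.symm.trans hab
    have e3 : n = c := by exact_mod_cast hn.symm.trans hct
    have e4 : m = nX := by exact_mod_cast hm.symm.trans hX2
    have e5 : nX = nY := by
      have := hX1.symm.trans (hdim.trans hY1)
      exact_mod_cast this
    omega
  have hirrX : irreducibleComponents (X : Type u) = {Set.univ} := irreducibleComponents_eq_singleton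
  have hirrY : irreducibleComponents (Y : Type u) = {Set.univ} := irreducibleComponents_eq_singleton
  have hgen : ∀ x : X, closure {x} ∈ irreducibleComponents (X : Type u) ↔
      closure {f.base x} ∈ irreducibleComponents (Y : Type u) := by
    intro x
    rw [hirrX, hirrY, Set.mem_singleton_iff, Set.mem_singleton_iff]
    constructor
    · intro h
      rw [show x = ξ from ((genericPoint_spec X).eq h).symm]
      show closure {f ξ} = Set.univ
      rw [hfξ]
      exact genericPoint_closure _
    · intro h
      rw [honly x ((genericPoint_spec Y).eq h).symm]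
      exact genericPoint_closure _
  obtain ⟨V₁, hV₁d, hV₁⟩ := Groth.Agent.S2081.result f (by rw [hirrX]; exact Set.finite_singleton _)
    (by rw [hirrY]; exact Set.finite_singleton _) hgen
  obtain ⟨V₂, hV₂d, hV₂f, hV₂p⟩ := Groth.L20.GFR.exists_dense_flat_lfp f
  let U : Y.Opens := V₁ ⊓ V₂
  have hηU : η ∈ U := by
    have key : ∀ W : Y.Opens, Dense (W : Set Y) → η ∈ W := fun W hW => by
      obtain ⟨y, hy⟩ := hW.nonempty
      exact ((genericPoint_spec Y).mem_open_set_iff W.2).mpr ⟨y, trivial, hy⟩
    exact ⟨key V₁ hV₁d, key V₂ hV₂d⟩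
  have hres : ∀ (P : MorphismProperty Scheme.{u}) [P.IsStableUnderBaseChange] (W : Y.Opens),
      U ≤ W → P (f ∣_ W) → P (f ∣_ U) := by
    intro P _ W hUW hP
    refine P.of_isPullback (IsPullback.of_right (h₁₁ := X.homOfLE (f.preimage_mono hUW))
      (v₁₁ := f ∣_ U) (h₂₁ := Y.homOfLE hUW) ?_ ?_ (isPullback_morphismRestrict f W).flip) hP
    · rw [Scheme.homOfLE_ι, Scheme.homOfLE_ι]; exact (isPullback_morphismRestrict f U).flip
    · rw [← cancel_mono W.ι]; simp
  haveI hUfin : IsFinite (f ∣_ U) := hres @IsFinite V₁ inf_le_left hV₁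
  haveI hUflat : Flat (f ∣_ U) := hres @Flat V₂ inf_le_right hV₂f
  haveI hUlfp : LocallyOfFinitePresentation (f ∣_ U) :=
    hres @LocallyOfFinitePresentation V₂ inf_le_right hV₂p
  let ηU : (U : Scheme.{u}) := ⟨η, hηU⟩
  have hξU : f ξ ∈ U := hfξ ▸ hηU
  let ξU : ((f ⁻¹ᵁ U : X.Opens) : Scheme.{u}) := ⟨ξ, hξU⟩
  -- the rank at the generic point
  have hrank : (f ∣_ U).finrank ((f ∣_ U) ξU) = f.residueDegree ξ := by
    rw [Groth.L22.Cyc.finrank_eq_sum]
    have hset : ⇑(f ∣_ U) ⁻¹' {(f ∣_ U) ξU} = {ξU} := by
      ext z
      simp only [Set.mem_preimage, Set.mem_singleton_iff]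
      refine ⟨fun h => Subtype.ext ?_, fun h => by rw [h]⟩
      have h' := congrArg U.ι h
      rw [← Scheme.Hom.comp_apply, ← Scheme.Hom.comp_apply, morphismRestrict_ι,
        Scheme.Hom.comp_apply, Scheme.Hom.comp_apply] at h'
      exact honly _ (h'.trans hfξ)
    rw [hset, finsum_mem_singleton]
    have hfld : IsField (((f ⁻¹ᵁ U : X.Opens) : Scheme.{u}).presheaf.stalk ξU) := by
      let e := (asIso ((f ⁻¹ᵁ U).ι.stalkMap ξU)).commRingCatIsoToRingEquiv
      have hX : IsField (X.presheaf.stalk ξ) := Field.toIsField X.functionField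
      exact MulEquiv.isField hX e.symm.toMulEquiv
    have hbot : Groth.L22.Cyc.fibIdeal (f ∣_ U) ξU = ⊥ := by
      have h1 := Groth.L22.Cyc.fibIdeal_le (f ∣_ U) ξU
      rw [IsLocalRing.isField_iff_maximalIdeal_eq.mp hfld] at h1
      exact le_bot_iff.mp h1
    have hm : Groth.L22.Cyc.mult (f ∣_ U) ξU = 1 := by
      letI := hfld.toField
      rw [Groth.L22.Cyc.mult, (Submodule.quotEquivOfEqBot _ hbot).length_eq, Module.length_eq_one_iff]
      infer_instance
    rw [hm]
    simp only [ENat.toNat_one, mul_one]
    have h1 := Groth.L22.Cyc.residueDegree_comp (f ∣_ U) U.ι ξU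
    rw [Groth.L22.Cyc.residueDegree_congr _ (morphismRestrict_ι f U) ξU,
      Groth.L22.Cyc.residueDegree_comp,
      Groth.L22.Cyc.residueDegree_eq_one (f ⁻¹ᵁ U).ι ξU
        (Groth.L22.FibreDim.residueFieldMap_bijective _ _),
      Groth.L22.Cyc.residueDegree_eq_one U.ι _
        (Groth.L22.FibreDim.residueFieldMap_bijective _ _), one_mul, mul_one] at h1
    exact h1.symm
  have hpos : 0 < f.residueDegree ξ := hrank ▸ Scheme.Hom.one_le_finrank_map (f ∣_ U) ξU
  haveI : IrreducibleSpace U := by
    haveI : Nonempty U := ⟨⟨η, hηU⟩⟩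
    infer_instance
  have hconst : ∀ z : (U : Scheme.{u}), (f ∣_ U).finrank z = f.residueDegree ξ := fun z => by
    rw [← hrank]
    exact (Scheme.Hom.isLocallyConstant_finrank (f ∣_ U)).apply_eq_of_preconnectedSpace _ _
  refine ⟨?_, U, ⟨⟨η, hηU⟩⟩, fun y hy => ?_⟩
  · letI := (f.residueFieldMap (genericPoint ↥X)).hom.toAlgebra
    exact Module.finite_of_finrank_pos hpos
  · let g : Spec (Y.residueField y) ⟶ (U : Scheme.{u}) :=
      IsOpenImmersion.lift U.ι (Y.fromSpecResidueField y) (by
        rw [Scheme.range_fromSpecResidueField, Scheme.Opens.range_ι]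
        exact Set.singleton_subset_iff.mpr hy)
    have hg : g ≫ U.ι = Y.fromSpecResidueField y := IsOpenImmersion.lift_fac _ _ _
    have hr : Set.range (pullback.fst f (Y.fromSpecResidueField y)) ⊆ Set.range (f ⁻¹ᵁ U).ι := by
      rintro _ ⟨z, rfl⟩
      rw [Scheme.Opens.range_ι]
      show f _ ∈ U
      rw [← Scheme.Hom.comp_apply, pullback.condition, Scheme.Hom.comp_apply,
        show Y.fromSpecResidueField y (pullback.snd f (Y.fromSpecResidueField y) z) = y from
          Scheme.fromSpecResidueField_apply _ _]
      exact hy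
    let l := IsOpenImmersion.lift (f ⁻¹ᵁ U).ι (pullback.fst f (Y.fromSpecResidueField y)) hr
    have hl : l ≫ (f ⁻¹ᵁ U).ι = pullback.fst f (Y.fromSpecResidueField y) :=
      IsOpenImmersion.lift_fac _ _ _
    have hsq : IsPullback l (pullback.snd f (Y.fromSpecResidueField y)) (f ∣_ U) g :=
      IsPullback.of_right (by rw [hl, hg]; exact IsPullback.of_hasPullback _ _)
        (by rw [← cancel_mono U.ι, Category.assoc, morphismRestrict_ι, ← Category.assoc, hl,
          pullback.condition, Category.assoc, hg])
        (isPullback_morphismRestrict f U).flip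
    haveI hfin : IsFinite (pullback.snd f (Y.fromSpecResidueField y)) :=
      MorphismProperty.of_isPullback hsq hUfin
    refine ⟨hfin, ?_⟩
    let s : Spec (Y.residueField y) := default
    have h1 := Scheme.Hom.finrank_of_isPullback _ _ _ _ hsq s
    rw [hconst] at h1
    haveI : IsFinite (Over.mk (pullback.snd f (Y.fromSpecResidueField y))).hom := hfin
    have h2 := Groth.Agent.KLRank.finrank_hom_eq (k := (Y.residueField y : Type u))
      (Over.mk (pullback.snd f (Y.fromSpecResidueField y))) s
    exact (h2.symm.trans h1 :)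

end Groth.Agent.S14041
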