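import Groth.Statements.S14042
import Groth.Agent.L19.FibreRankBound

set_option autoImplicit false
set_option backward.isDefEq.respectTransparency.types false
set_option backward.isDefEq.respectTransparency false
set_option linter.style.haveILetI false
universe u
open CategoryTheory CategoryTheory.Limits AlgebraicGeometry
open W4c1frobunstiva

namespace Groth.Agent.S14042

/-- Let k be a field, X and Y integral schemes of finite type over k of the same dimension whose local
rings are all regular, and f : X → Y a dominant and separated k-morphism; let d be the degree of the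
residue field of the generic point of X over that of the generic point of Y, a finite extension.
Then for every point y of Y, either the fibre X_y has positive dimension — it is not finite over
κ(y) — or its ring of global sections has dimension at most d over κ(y). (The published statement
speaks of length; the κ(y)-rank used here is at least the length, so this form implies the printed
one. The published statement does not mention separatedness: for the affine line with doubled origin
mapping to the affine line — regular, dominant, degree 1 — the fibre over the origin is two reduced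
points, of rank 2; the étale-local splitting of a quasi-finite morphism used in the published proof
needs f separated, so f is taken separated here.) -/
theorem result (k : Type u) [Field k] {X Y : Scheme.{u}}
    [X.Over (Spec (CommRingCat.of k))] [Y.Over (Spec (CommRingCat.of k))]
    [LocallyOfFiniteType (X ↘ Spec (CommRingCat.of k))] [QuasiCompact (X ↘ Spec (CommRingCat.of k))]
    [LocallyOfFiniteType (Y ↘ Spec (CommRingCat.of k))] [QuasiCompact (Y ↘ Spec (CommRingCat.of k))]
    [IsIntegral X] [IsIntegral Y] (f : X ⟶ Y) [IsDominant f]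
    (hf : f ≫ (Y ↘ Spec (CommRingCat.of k)) = X ↘ Spec (CommRingCat.of k))
    (hdim : topologicalKrullDim ↥X = topologicalKrullDim ↥Y)
    [IsSeparated f] (hX : ∀ x : X, IsRegularLocalRing (X.presheaf.stalk x))
    (hY : ∀ y : Y, IsRegularLocalRing (Y.presheaf.stalk y)) (y : Y)
    (hy : IsFinite (pullback.snd f (Y.fromSpecResidueField y))) :
    (letI := ((Scheme.ΓSpecIso (CommRingCat.of (Y.residueField y))).inv ≫
            (pullback.snd f (Y.fromSpecResidueField y)).appTop).hom.toAlgebra;
          Module.finrank (Y.residueField y) ↑(Γ(pullback f (Y.fromSpecResidueField y), ⊤))) ≤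
      (letI := (f.residueFieldMap (genericPoint ↥X)).hom.toAlgebra;
          Module.finrank (Y.residueField (f.base (genericPoint ↥X))) (X.residueField (genericPoint ↥X))) := by
  classical
  haveI : LocallyOfFiniteType (f ≫ (Y ↘ Spec (CommRingCat.of k))) := by rw [hf]; infer_instance
  haveI : LocallyOfFiniteType f := locallyOfFiniteType_of_comp f (Y ↘ Spec (CommRingCat.of k))
  haveI : IsLocallyNoetherian Y :=
    LocallyOfFiniteType.isLocallyNoetherian (Y ↘ Spec (CommRingCat.of k))
  haveI : IsLocallyNoetherian X :=
    LocallyOfFiniteType.isLocallyNoetherian (X ↘ Spec (CommRingCat.of k))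
  haveI : CompactSpace X := QuasiCompact.compactSpace_of_compactSpace (X ↘ Spec (CommRingCat.of k))
  haveI : IsNoetherian X := ⟨⟩
  haveI : Finite (f.fiber y) := by
    haveI : IsFinite (f.fiberToSpecResidueField y) := hy
    exact Set.finite_univ_iff.mp <| ((f.fiberToSpecResidueField y).finite_preimage_singleton
      (default : Spec (Y.residueField y))).subset
        fun z _ => Subsingleton.elim (f.fiberToSpecResidueField y z) _
  let W : X.Opens := f.quasiFiniteLocus
  have hW : ∀ x, f x = y → x ∈ W := by
    rintro x rfl
    haveI : IsFinite (f.fiberToSpecResidueField (f x)) := hy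
    haveI : DiscreteTopology (f.fiber (f x)) := by
      haveI : T1Space (f.fiber (f x)) := by
        refine ⟨fun z => ?_⟩
        haveI : IsArtinianRing Γ(f.fiber (f x), ⊤) := by
          letI := ((Scheme.ΓSpecIso (Y.residueField (f x))).inv ≫
            (f.fiberToSpecResidueField (f x)).appTop).hom.toAlgebra
          haveI : Module.Finite (Y.residueField (f x)) Γ(f.fiber (f x), ⊤) :=
            (f.fiberToSpecResidueField (f x)).finite_appTop.comp (RingHom.Finite.of_surjective _
              (Scheme.ΓSpecIso (Y.residueField (f x))).commRingCatIsoToRingEquiv.symm.surjective)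
          exact IsArtinianRing.of_finite (Y.residueField (f x)) _
        haveI : IsAffine (f.fiber (f x)) :=
          isAffine_of_isAffineHom (f.fiberToSpecResidueField (f x))
        rw [← (f.fiber (f x)).isoSpec.hom.homeomorph.isClosed_image, Set.image_singleton]
        exact (PrimeSpectrum.isClosed_singleton_iff_isMaximal _).mpr inferInstance
      infer_instance
    exact Scheme.Hom.quasiFiniteAt_iff_isOpen_singleton_asFiber.mpr (isOpen_discrete _)
  let ξ := genericPoint ↥X
  -- the open subscheme as a variety
  let g : (W : Scheme.{u}) ⟶ Y := W.ι ≫ f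
  letI : (W : Scheme.{u}).Over (Spec (CommRingCat.of k)) := ⟨W.ι ≫ (X ↘ Spec (CommRingCat.of k))⟩
  haveI : LocallyOfFiniteType ((W : Scheme.{u}) ↘ Spec (CommRingCat.of k)) :=
    inferInstanceAs (LocallyOfFiniteType (W.ι ≫ (X ↘ Spec (CommRingCat.of k))))
  have hg : g ≫ (Y ↘ Spec (CommRingCat.of k)) = (W : Scheme.{u}) ↘ Spec (CommRingCat.of k) := by
    show (W.ι ≫ f) ≫ _ = W.ι ≫ _
    rw [Category.assoc, hf]
  by_cases hne : ∃ x, f x = y
  swap
  · -- empty fibre
    haveI : IsEmpty (f.fiber y) := ⟨fun z => hne ⟨f.fiberι y z, (f.range_fiberι y).subset ⟨z, rfl⟩⟩⟩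
    haveI : Subsingleton Γ(pullback f (Y.fromSpecResidueField y), ⊤) := by
      haveI : IsEmpty ↥(pullback f (Y.fromSpecResidueField y)) := ‹IsEmpty (f.fiber y)›
      infer_instance
    letI := ((Scheme.ΓSpecIso (CommRingCat.of (Y.residueField y))).inv ≫
      (pullback.snd f (Y.fromSpecResidueField y)).appTop).hom.toAlgebra
    exact (Module.finrank_zero_of_subsingleton).trans_le (Nat.zero_le _)
  obtain ⟨x₀, hx₀⟩ := hne
  have hξW : ξ ∈ W := ((genericPoint_spec X).mem_open_set_iff W.2).mpr ⟨x₀, trivial, hW x₀ hx₀⟩
  haveI : Nonempty W := ⟨⟨ξ, hξW⟩⟩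
  haveI : IsIntegral (W : Scheme.{u}) := inferInstance
  haveI : CompactSpace W :=
    isCompact_iff_compactSpace.mp (TopologicalSpace.NoetherianSpace.isCompact (W : Set X))
  haveI : LocallyQuasiFinite g := inferInstance
  haveI : QuasiCompact g :=
    haveI : QuasiCompact (g ≫ (Y ↘ Spec (CommRingCat.of k))) := by rw [hg]; exact HasAffineProperty.iff_of_isAffine.mpr ‹CompactSpace W›
    QuasiCompact.of_comp g (Y ↘ Spec (CommRingCat.of k))
  haveI : LocallyOfFinitePresentation g := inferInstance
  have hdimW : topologicalKrullDim ↥W = topologicalKrullDim ↥Y := by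
    obtain ⟨nX, hnX, -, hoX⟩ := Groth.L22.SchemeDim.exists_dim_eq_trdeg k X
    rw [← hdim, hnX]
    exact hoX W ⟨ξ, hξW⟩
  haveI : Flat g := Groth.L19.FibreRank.flat_of_locallyQuasiFinite k g hg hdimW
    (fun x => by
      haveI := hX (W.ι x)
      exact IsRegularLocalRing.of_ringEquiv (asIso (W.ι.stalkMap x)).commRingCatIsoToRingEquiv) hY
  have hfin : ∀ z : Y, (g ⁻¹' {z}).Finite := fun z => g.finite_preimage_singleton z
  obtain ⟨hwt, hpos⟩ := Groth.Agent.S1421.result g
  have hlsc : LowerSemicontinuous (MoreMor.fibreIntegral g (Groth.L19.FibreRank.wt g)) :=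
    Groth.Agent.S1426.result g hfin _ hwt hpos
  -- the fibre integral at the generic point
  have hfξ : f ξ = genericPoint ↥Y := by
    refine (genericPoint_spec Y).eq ?_ |>.symm
    show closure {f ξ} = Set.univ
    refine Set.eq_univ_of_univ_subset ?_
    calc Set.univ = closure (Set.range f) := f.denseRange.closure_range.symm
      _ ⊆ closure {f ξ} := closure_minimal (by
          rintro _ ⟨x, rfl⟩
          exact ((genericPoint_specializes x).map f.continuous).mem_closure) isClosed_closure
  let ξW : (W : Scheme.{u}) := ⟨ξ, hξW⟩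
  have hgξ : g ξW = genericPoint ↥Y := hfξ
  have honly : ∀ u : (W : Scheme.{u}), g u = genericPoint ↥Y → u = ξW := by
    intro u hu
    apply Subtype.ext
    by_contra hne
    obtain ⟨nY, hY1, -, -⟩ := Groth.L22.SchemeDim.exists_dim_eq_trdeg k Y
    obtain ⟨nX, hX1, hX2, -⟩ := Groth.L22.SchemeDim.exists_dim_eq_trdeg k X
    obtain ⟨a, b, ha, -, hab⟩ := Groth.L22.FibreDim.exists_dim_closure_add k f hf u.1
    rw [show f u.1 = genericPoint ↥Y from hu, genericPoint_closure] at ha
    have hclY : (a : WithBot ℕ∞) = nY := by
      rw [← ha, ← hY1]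
      exact (Homeomorph.Set.univ Y).isHomeomorph.topologicalKrullDim_eq
    obtain ⟨c, hc, hct⟩ := Groth.L22.SchemeDim.exists_dim_closure_eq_trdeg k X u.1
    obtain ⟨n, m, hn, hm, hlt⟩ := Groth.L18.CurveDim.trdeg_lt_of_specializes (k := k)
      (genericPoint_specializes u.1) (Ne.symm hne)
    have e1 : a = nY := by exact_mod_cast hclY
    have e2 : c = a + b := by exact_mod_cast hc.symm.trans hab
    have e3 : n = c := by exact_mod_cast hn.symm.trans hct
    have e4 : m = nX := by exact_mod_cast hm.symm.trans hX2
    have e5 : nX = nY := by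
      have := hX1.symm.trans (hdim.trans hY1)
      exact_mod_cast this
    omega
  have hgen : MoreMor.fibreIntegral g (Groth.L19.FibreRank.wt g) (genericPoint ↥Y) =
      (f.residueDegree ξ : ℤ) := by
    rw [MoreMor.fibreIntegral]
    letI : Unique {u : (W : Scheme.{u}) // g u = genericPoint ↥Y} :=
      ⟨⟨⟨ξW, hgξ⟩⟩, fun u => Subtype.ext (honly u.1 u.2)⟩
    rw [finsum_unique, Groth.L19.FibreRank.wt_mul_sep]
    have hfld : IsField ((W : Scheme.{u}).presheaf.stalk ξW) :=
      MulEquiv.isField (Field.toIsField X.functionField)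
        (asIso (W.ι.stalkMap ξW)).commRingCatIsoToRingEquiv.symm.toMulEquiv
    have hm : Groth.L22.Cyc.mult g ξW = 1 := by
      have hbot : Groth.L22.Cyc.fibIdeal g ξW = ⊥ := by
        have h1 := Groth.L22.Cyc.fibIdeal_le g ξW
        rw [IsLocalRing.isField_iff_maximalIdeal_eq.mp hfld] at h1
        exact le_bot_iff.mp h1
      letI := hfld.toField
      rw [Groth.L22.Cyc.mult, (Submodule.quotEquivOfEqBot _ hbot).length_eq, Module.length_eq_one_iff]
      infer_instance
    show ((g.residueDegree ξW * (Groth.L22.Cyc.mult g ξW).toNat : ℕ) : ℤ) = _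
    rw [hm, ENat.toNat_one, mul_one, Groth.L22.Cyc.residueDegree_comp,
      Groth.L22.Cyc.residueDegree_eq_one W.ι ξW (Groth.L22.FibreDim.residueFieldMap_bijective _ _),
      mul_one]
    rfl
  have hle : MoreMor.fibreIntegral g (Groth.L19.FibreRank.wt g) y ≤ (f.residueDegree ξ : ℤ) := by
    by_contra hlt
    push Not at hlt
    obtain ⟨O, hO, hOo, hyO⟩ := mem_nhds_iff.mp (hlsc y _ hlt)
    have hη : genericPoint ↥Y ∈ O := ((genericPoint_spec Y).mem_open_set_iff hOo).mpr ⟨y, trivial, hyO⟩
    have := hO hη
    simp only [Set.mem_setOf_eq, hgen] at this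
    exact lt_irrefl _ this
  -- the two fibres agree
  let h : g.fiber y ⟶ f.fiber y :=
    pullback.map g (Y.fromSpecResidueField y) f (Y.fromSpecResidueField y) W.ι (𝟙 _) (𝟙 _)
      (by simp [g]) (by simp)
  have h1 : h ≫ pullback.fst f (Y.fromSpecResidueField y) = g.fiberι y ≫ W.ι := pullback.lift_fst _ _ _
  have h2 : h ≫ f.fiberToSpecResidueField y = g.fiberToSpecResidueField y := by
    show pullback.lift _ _ _ ≫ pullback.snd _ _ = _
    rw [pullback.lift_snd, Category.comp_id]
    rfl
  have hsq : IsPullback (g.fiberι y) h W.ι (pullback.fst f (Y.fromSpecResidueField y)) :=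
    IsPullback.of_bot (v₁₁ := h) (v₂₁ := pullback.snd f (Y.fromSpecResidueField y))
      (by rw [show h ≫ pullback.snd f (Y.fromSpecResidueField y) = g.fiberToSpecResidueField y from h2]
          exact IsPullback.of_hasPullback g (Y.fromSpecResidueField y))
      h1.symm (IsPullback.of_hasPullback f (Y.fromSpecResidueField y))
  haveI : IsOpenImmersion h := MorphismProperty.of_isPullback hsq inferInstance
  haveI : Surjective h := ⟨fun z => by
    have hz : f (f.fiberι y z) = y := (f.range_fiberι y).subset ⟨z, rfl⟩
    obtain ⟨w, -, hw⟩ := Scheme.exists_preimage_of_isPullback hsq ⟨f.fiberι y z, hW _ hz⟩ z rfl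
    exact ⟨w, hw⟩⟩
  haveI : IsIso h := (isIso_iff_isOpenImmersion_and_surjective h).mpr ⟨inferInstance, inferInstance⟩
  haveI : IsFinite (f.fiberToSpecResidueField y) := hy
  haveI : IsFinite (g.fiberToSpecResidueField y) := by rw [← h2]; infer_instance
  let s : Spec (Y.residueField y) := default
  have h3 := Groth.L19.FibreRank.finrank_fibre_eq_integral g y s
  have h4 : (g.fiberToSpecResidueField y).finrank s = (f.fiberToSpecResidueField y).finrank s := by
    rw [← h2, Scheme.Hom.finrank_comp_left_of_isIso]
  haveI : IsFinite (Over.mk (pullback.snd f (Y.fromSpecResidueField y))).hom := hy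
  have h5 := Groth.Agent.KLRank.finrank_hom_eq (k := (Y.residueField y : Type u))
    (Over.mk (pullback.snd f (Y.fromSpecResidueField y))) s
  rw [h4] at h3
  rw [← h3] at hle
  have h6 : (f.fiberToSpecResidueField y).finrank s ≤ f.residueDegree ξ := by exact_mod_cast hle
  exact (h5.symm.trans_le h6 :)

end Groth.Agent.S14042
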