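import Groth.Statements.S14043
import Mathlib.RingTheory.Nilpotent.Basic
import Mathlib.RingTheory.Nilpotent.Lemmas
import Mathlib.RingTheory.Nilpotent.Lemmas
import Mathlib.LinearAlgebra.Matrix.ToLin
import Mathlib.Tactic.Ring
import Mathlib.Tactic.LinearCombination
import Mathlib.Tactic.FieldSimp
import Mathlib.Algebra.BigOperators.Ring.Finset

set_option autoImplicit false
universe u v
open W4c1frobunstiva

namespace Groth.Agent.S14043

theorem coordMat {R : Type*} [CommRing R] {M : Type*} [AddCommGroup M] [Module R M] {r : ℕ}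
    (m m' : Fin r → M) (hm : Submodule.span R (Set.range m) = ⊤) :
    ∃ T : Matrix (Fin r) (Fin r) R, ∀ j, m' j = ∑ i, T j i • m i := by
  have : ∀ j, ∃ c : Fin r → R, ∑ i, c i • m i = m' j :=
    fun j => (Submodule.mem_span_range_iff_exists_fun R).1 (hm ▸ Submodule.mem_top)
  choose c hc using this
  exact ⟨c, fun j => (hc j).symm⟩

theorem unit_of_two_gen {R : Type*} [CommRing R] {M : Type*} [AddCommGroup M] [Module R M] {r : ℕ}
    (m0 m : Fin r → M) (hrel : ∀ a : Fin r → R, (∑ i, a i • m0 i) = 0 → ∀ i, IsNilpotent (a i))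
    (U S : Matrix (Fin r) (Fin r) R) (hU : ∀ j, m0 j = ∑ i, U j i • m i) (hS : ∀ j, m j = ∑ i, S j i • m0 i) :
    IsUnit S := by
  have key : ∀ j i, IsNilpotent ((U * S - 1) j i) := by
    intro j
    apply hrel
    simp only [Matrix.sub_apply, Matrix.mul_apply, sub_smul, Finset.sum_sub_distrib, Finset.sum_smul]
    rw [Finset.sum_comm]
    simp only [← smul_smul, ← Finset.smul_sum, ← hS, ← hU]
    simp [Matrix.one_apply, ite_smul]
  have hdet : IsUnit (U * S).det := by
    have h1 : (U * S).map (Ideal.Quotient.mk (nilradical R)) = 1 := by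
      ext j i
      have := Ideal.Quotient.eq_zero_iff_mem.2 (mem_nilradical.2 (key j i))
      rw [Matrix.sub_apply, map_sub, sub_eq_zero] at this
      rw [Matrix.map_apply, this, Matrix.one_apply, Matrix.one_apply]
      split <;> simp
    have h2 : (Ideal.Quotient.mk (nilradical R)) (U * S).det = 1 := by
      rw [RingHom.map_det, RingHom.mapMatrix_apply, h1, Matrix.det_one]
    have h3 : IsNilpotent ((U * S).det - 1) := by
      rw [← mem_nilradical, ← Ideal.Quotient.eq_zero_iff_mem, map_sub, h2, map_one, sub_self]
    simpa using h3.isUnit_one_add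
  rw [Matrix.det_mul] at hdet
  exact (Matrix.isUnit_iff_isUnit_det S).2 (isUnit_of_mul_isUnit_right hdet)

/-- Let R be a commutative Noetherian ring, M an R-module that is NR-free of rank r — generated by some
r elements all of whose linear relations have nilpotent coefficients — and m, m' two generating
families of M, each indexed by the same finite set of size r. Then some invertible r × r matrix T
over R expresses m' in terms of m, m'_j = Σ_i T_{ji} m_i; reducing modulo the nilradical n, such a T
induces the change-of-basis matrix between the bases of M/nM given by the images of m and m' (an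
r-element generating family of M is itself an NR-basis), so only the existence of an invertible T is
asserted here. (T is not unique.) -/
theorem result (R : Type u) [CommRing R]
    [IsNoetherianRing R] (M : Type v) [AddCommGroup M] [Module R M] (r : ℕ)
    (hM : W4c1frobunstiva.IsNRFree R M r) (m m' : Fin r → M)
    (hm : Submodule.span R (Set.range m) = ⊤) (hm' : Submodule.span R (Set.range m') = ⊤) :
    ∃ T : Matrix (Fin r) (Fin r) R, IsUnit T ∧ ∀ j, m' j = ∑ i, T j i • m i := by
  obtain ⟨m0, hm0, hrel⟩ := hM
  obtain ⟨U, hU⟩ := coordMat m m0 hm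
  obtain ⟨S, hS⟩ := coordMat m0 m hm0
  obtain ⟨U', hU'⟩ := coordMat m' m0 hm'
  obtain ⟨S', hS'⟩ := coordMat m0 m' hm0
  have hSu := unit_of_two_gen m0 m hrel U S hU hS
  have hS'u := unit_of_two_gen m0 m' hrel U' S' hU' hS'
  obtain ⟨V, hSV⟩ := hSu.exists_right_inv
  have hVu : IsUnit V := IsUnit.of_mul_eq_one_right _ hSV
  refine ⟨S' * V, hS'u.mul hVu, fun j => ?_⟩
  have hVS : V * S = 1 := mul_eq_one_comm.1 hSV
  have hV : ∀ l, ∑ i, V l i • m i = m0 l := by
    intro l
    simp only [hS, Finset.smul_sum, smul_smul]
    rw [Finset.sum_comm]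
    simp only [← Finset.sum_smul, ← Matrix.mul_apply, hVS]
    simp [Matrix.one_apply, ite_smul]
  simp only [Matrix.mul_apply, Finset.sum_smul]
  rw [Finset.sum_comm]
  simp only [← smul_smul, ← Finset.smul_sum, hV]
  exact hS' j

end Groth.Agent.S14043
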