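import Groth.Statements.S14044
import Groth.Agent.S14038
import Mathlib.RingTheory.PowerSeries.Inverse
-- import your own Groth.Agent.* helpers here

set_option autoImplicit false
universe u
open W4c1frobunstiva

namespace Groth.Agent.S14044

section Aux

variable {k : Type u} [Field k] {r : ℕ}

/-- The elementary matrix supported in one column. -/
noncomputable def E (j : Fin r) (q : Fin r → PowerSeries k) : Matrix (Fin r) (Fin r) (PowerSeries k) :=
  1 + Matrix.of fun i l => if l = j then q i else 0

theorem mul_E (A : Matrix (Fin r) (Fin r) (PowerSeries k)) (j : Fin r) (q : Fin r → PowerSeries k) (i l : Fin r) :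
    (A * E j q) i l = A i l + if l = j then ∑ a, A i a * q a else 0 := by
  rw [E, Matrix.mul_add, Matrix.mul_one, Matrix.add_apply, Matrix.mul_apply]
  split_ifs with h <;> simp [h]

theorem E_mul (A : Matrix (Fin r) (Fin r) (PowerSeries k)) (j : Fin r) (q : Fin r → PowerSeries k) (i l : Fin r) :
    (E j q * A) i l = A i l + q i * A j l := by
  rw [E, Matrix.add_mul, Matrix.one_mul, Matrix.add_apply, Matrix.mul_apply, Finset.sum_eq_single j]
  · simp
  · intro b _ hb; simp [hb]
  · simp

theorem isUnit_E (j : Fin r) (q : Fin r → PowerSeries k) (hq : q j = 0) : IsUnit (E j q) := by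
  refine IsUnit.of_mul_eq_one (E j (-q)) (Matrix.ext fun i l => ?_)
  rw [E_mul, E, Matrix.add_apply, Matrix.add_apply, Matrix.of_apply, Matrix.of_apply]
  split_ifs with h
  · subst h; simp [hq]
  · simp [Matrix.one_apply_ne (Ne.symm h)]

/-- Supported in degrees divisible by `p`. -/
def Sp (p : ℕ) (f : PowerSeries k) : Prop := ∀ n, ¬ p ∣ n → PowerSeries.coeff n f = 0

theorem Sp.sum {p : ℕ} {ι : Type*} (s : Finset ι) (f : ι → PowerSeries k) (h : ∀ i ∈ s, Sp p (f i)) :
    Sp p (∑ i ∈ s, f i) := fun n hn => by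
  rw [map_sum]
  exact Finset.sum_eq_zero fun i hi => h i hi n hn

theorem Sp.mul {p : ℕ} {f g : PowerSeries k} (hf : Sp p f) (hg : Sp p g) : Sp p (f * g) := fun n hn => by
  rw [PowerSeries.coeff_mul]
  refine Finset.sum_eq_zero fun x hx => ?_
  rw [Finset.mem_antidiagonal] at hx
  by_cases h : p ∣ x.1
  · rw [hg x.2 (fun h' => hn (hx ▸ dvd_add h h')), mul_zero]
  · rw [hf x.1 h, zero_mul]

theorem Sp.matMul {p : ℕ} {A B : Matrix (Fin r) (Fin r) (PowerSeries k)} (hA : ∀ i j, Sp p (A i j))
    (hB : ∀ i j, Sp p (B i j)) (i j : Fin r) : Sp p ((A * B) i j) := by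
  rw [Matrix.mul_apply]
  exact Sp.sum _ _ fun a _ => (hA i a).mul (hB a j)

theorem Sp.one_apply (p : ℕ) (i j : Fin r) : Sp p ((1 : Matrix (Fin r) (Fin r) (PowerSeries k)) i j) := fun n hn => by
  rw [Matrix.one_apply]
  split_ifs
  · rw [PowerSeries.coeff_one, if_neg]
    rintro rfl
    exact hn (dvd_zero p)
  · simp

theorem exists_col (p : ℕ) (H : Matrix (Fin r) (Fin r) (PowerSeries k)) (e : Fin r → ℕ)
    (hd : ∀ i, H i i = PowerSeries.X ^ e i) (hu : ∀ i j, j < i → H i j = 0) (j : Fin r) :
    ∀ m : ℕ, ∃ q : Fin r → PowerSeries k, (∀ a, Sp p (q a)) ∧ (∀ a, j ≤ a → q a = 0) ∧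
      (∀ a : Fin r, (a : ℕ) + m < j → q a = 0) ∧
      ∀ i : Fin r, i < j → (j : ℕ) ≤ i + m → ∀ n, e i ≤ n → n % p = e i % p →
        PowerSeries.coeff n (H i j + ∑ a, H i a * q a) = 0 := by
  classical
  intro m
  induction m with
  | zero => exact ⟨0, fun a n _ => by simp, fun a _ => rfl, fun a _ => rfl, fun i hi hm => absurd hm (by have : (i:ℕ) < j := hi; omega)⟩
  | succ m ih =>
    obtain ⟨q, hq1, hq2, hq3, hq4⟩ := ih
    by_cases hm : m < (j : ℕ)
    · let i₀ : Fin r := ⟨j - (m + 1), by omega⟩
      let v := H i₀ j + ∑ a, H i₀ a * q a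
      let c : PowerSeries k := PowerSeries.mk fun d => if p ∣ d then - PowerSeries.coeff (d + e i₀) v else 0
      have hi₀ : q i₀ = 0 := hq3 i₀ (by simp only [i₀]; omega)
      refine ⟨Function.update q i₀ c, fun a => ?_, fun a ha => ?_, fun a ha => ?_, fun i hi him n hn hmod => ?_⟩
      · rcases eq_or_ne a i₀ with rfl | h
        · intro n hn
          simp [c, hn]
        · rw [Function.update_of_ne h]; exact hq1 a
      · rw [Function.update_of_ne]
        · exact hq2 a ha
        · rintro rfl
          have : (j : ℕ) ≤ j - (m + 1) := ha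
          omega
      · rw [Function.update_of_ne]
        · exact hq3 a (by omega)
        · rintro rfl
          simp only [i₀] at ha
          omega
      · have hs : ∑ a, H i a * Function.update q i₀ c a = ∑ a, H i a * q a + H i i₀ * c := by
          rw [← Finset.sum_erase_add _ _ (Finset.mem_univ i₀), Function.update_self,
            ← Finset.sum_erase_add Finset.univ (fun a => H i a * q a) (Finset.mem_univ i₀), hi₀, mul_zero, add_zero]
          refine congrArg (· + _) (Finset.sum_congr rfl fun a ha => ?_)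
          rw [Function.update_of_ne (Finset.ne_of_mem_erase ha)]
        rw [hs, ← add_assoc]
        rcases eq_or_ne i i₀ with rfl | hne
        · obtain ⟨d, rfl⟩ := Nat.exists_eq_add_of_le hn
          rw [map_add, hd, PowerSeries.coeff_X_pow_mul', if_pos (by omega), Nat.add_sub_cancel_left]
          have hpd : p ∣ d := Nat.dvd_of_mod_eq_zero (by
            have := Nat.sub_mod_eq_zero_of_mod_eq hmod
            rwa [Nat.add_sub_cancel_left] at this)
          simp only [c, PowerSeries.coeff_mk, if_pos hpd, add_comm d]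
          exact add_neg_cancel _
        · have hlt : (j : ℕ) ≤ i + m := by
            have : (i : ℕ) ≠ j - (m + 1) := fun h => hne (Fin.ext h)
            omega
          rw [hu i i₀ (show (i₀ : ℕ) < i by simp only [i₀]; omega), zero_mul, add_zero]
          exact hq4 i hi hlt n hn hmod
    · exact ⟨q, hq1, hq2, fun a ha => hq3 a (by omega), fun i hi him => hq4 i hi (by omega)⟩

theorem exists_step (p : ℕ) (H : Matrix (Fin r) (Fin r) (PowerSeries k)) (e : Fin r → ℕ)
    (hd : ∀ i, H i i = PowerSeries.X ^ e i) (hu : ∀ i j, j < i → H i j = 0) (j : Fin r) :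
    ∃ N P : Matrix (Fin r) (Fin r) (PowerSeries k), IsUnit N ∧ IsUnit P ∧ (∀ a b, Sp p (P a b)) ∧
      (∀ i, (N * H * P) i i = PowerSeries.X ^ e i) ∧ (∀ i l, l < i → (N * H * P) i l = 0) ∧
      (∀ i l, l < j → (N * H * P) i l = H i l) ∧
      (∀ i, i < j → ∀ n, (e j ≤ n ∨ (e i ≤ n ∧ n % p = e i % p)) → PowerSeries.coeff n ((N * H * P) i j) = 0) := by
  classical
  obtain ⟨q, hq1, hq2, -, hq4⟩ := exists_col p H e hd hu j j
  have hHP : ∀ i l, (H * E j q) i l = H i l + if l = j then ∑ a, H i a * q a else 0 := mul_E H j q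
  have hjj : ∑ a, H j a * q a = 0 := Finset.sum_eq_zero fun a _ => by
    rcases lt_or_ge a j with h | h
    · rw [hu j a h, zero_mul]
    · rw [hq2 a h, mul_zero]
  let w : Fin r → PowerSeries k := fun i =>
    if i < j then - PowerSeries.mk fun n => PowerSeries.coeff (n + e j) ((H * E j q) i j) else 0
  have hwj : w j = 0 := if_neg (lt_irrefl j)
  have hA : ∀ i l, (E j w * H * E j q) i l = (H * E j q) i l + w i * (H * E j q) j l := fun i l => by
    rw [Matrix.mul_assoc, E_mul]
  have hjl : ∀ l, l ≤ j → (H * E j q) j l = if l = j then PowerSeries.X ^ e j else 0 := fun l hl => by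
    rw [hHP]
    rcases eq_or_ne l j with rfl | h
    · simp [hd, hjj]
    · simp [h, hu j l (lt_of_le_of_ne hl h)]
  refine ⟨E j w, E j q, isUnit_E j w hwj, isUnit_E j q (hq2 j le_rfl), fun a b => ?_, fun i => ?_, fun i l hl => ?_,
    fun i l hl => ?_, fun i hi n hn => ?_⟩
  · intro n hn
    rw [E, Matrix.add_apply, map_add, Sp.one_apply p a b n hn, Matrix.of_apply, zero_add]
    split_ifs
    · exact hq1 a n hn
    · simp
  · rw [hA, hHP, hd]
    rcases lt_trichotomy i j with h | h | h
    · rw [if_neg h.ne, hjl i h.le, if_neg h.ne]; simp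
    · subst h; simp [hjj, hwj]
    · simp [h.ne', w, not_lt.2 h.le]
  · rw [hA, hHP, hu i l hl]
    have h0 : l = j → ∑ a, H i a * q a = 0 := fun h => Finset.sum_eq_zero fun a _ => by
      rcases lt_or_ge a j with h' | h'
      · rw [hu i a (h'.trans (h ▸ hl)), zero_mul]
      · rw [hq2 a h', mul_zero]
    have h1 : w i * (H * E j q) j l = 0 := by
      rcases lt_or_ge i j with h | h
      · rw [hjl l (hl.trans h).le, if_neg (hl.trans h).ne, mul_zero]
      · rw [show w i = 0 from if_neg (not_lt.2 h), zero_mul]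
    rw [h1]
    split_ifs with h
    · simp [h0 h]
    · simp
  · rw [hA, hHP, if_neg hl.ne, hjl l hl.le, if_neg hl.ne]; simp
  · rw [hA, hjl j le_rfl, if_pos rfl, map_add, PowerSeries.coeff_mul_X_pow']
    simp only [w, if_pos hi]
    by_cases hej : e j ≤ n
    · rw [if_pos hej, map_neg, PowerSeries.coeff_mk, Nat.sub_add_cancel hej, add_neg_cancel]
    · rw [if_neg hej, add_zero, hHP, if_pos rfl]
      obtain ⟨h1, h2⟩ := hn.resolve_left hej
      exact hq4 i hi (Nat.le_add_left _ _) n h1 h2

end Aux

/-- Let k be a field, p a prime number and M a square matrix of size r over k[[t]] with non-zero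
determinant. Allowing, besides invertible row operations over k[[t]], invertible column operations
by matrices with entries in k[[t^p]] (power series whose coefficients vanish in all degrees not
divisible by p), M can be brought to a row-reduced form — upper triangular, diagonal entries
t^{e_i}, entries above the diagonal in column j polynomials of degree less than e_j — in which in
addition the (i, j) entry (i < j) has no term in a degree that is at least e_i and congruent to e_i
modulo p. (Existence only; the form is not unique. The published statement asks that no term in any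
degree congruent to e_i modulo p remain; the published reduction — adding k[[t^p]]-multiples of
column i to column j — removes exactly the terms of degree at least e_i, which is what is asserted
here. The published statement takes k algebraically closed of characteristic p, where k[[t^p]] is
the ring of p-th powers; neither assumption is used.) -/
theorem result (k : Type u)
    [Field k] (p : ℕ) [Fact p.Prime] (r : ℕ) (M : Matrix (Fin r) (Fin r) (PowerSeries k))
    (hM : M.det ≠ 0) :
    ∃ (N P : Matrix (Fin r) (Fin r) (PowerSeries k)) (e : Fin r → ℕ), IsUnit N ∧ IsUnit P ∧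
      (∀ i j n, ¬ p ∣ n → PowerSeries.coeff n (P i j) = 0) ∧
      (∀ i, (N * M * P) i i = PowerSeries.X ^ e i) ∧ (∀ i j, j < i → (N * M * P) i j = 0) ∧
      (∀ i j, i < j → ∀ n, (e j ≤ n ∨ (e i ≤ n ∧ n % p = e i % p)) →
        PowerSeries.coeff n ((N * M * P) i j) = 0) := by
  classical
  obtain ⟨e, H, A, B, hd, hu, -, hAH, hBM⟩ := Groth.Agent.S14038.exists_reduced M hM
  have hBA : B * A = 1 := by
    have h : (B * A - 1) * M = 0 := by rw [sub_mul, Matrix.mul_assoc, hAH, hBM, Matrix.one_mul, sub_self]
    have h2 := congrArg (· * M.adjugate) h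
    simp only [Matrix.mul_assoc, Matrix.mul_adjugate, Matrix.mul_smul, Matrix.mul_one, Matrix.zero_mul] at h2
    exact sub_eq_zero.1 ((smul_eq_zero.1 h2).resolve_left hM)
  suffices hmain : ∀ m : ℕ, ∃ N P : Matrix (Fin r) (Fin r) (PowerSeries k), IsUnit N ∧ IsUnit P ∧
      (∀ i j, Sp p (P i j)) ∧ (∀ i, (N * M * P) i i = PowerSeries.X ^ e i) ∧
      (∀ i j, j < i → (N * M * P) i j = 0) ∧
      (∀ i j : Fin r, i < j → (j : ℕ) < m → ∀ n, (e j ≤ n ∨ (e i ≤ n ∧ n % p = e i % p)) →
        PowerSeries.coeff n ((N * M * P) i j) = 0) by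
    obtain ⟨N, P, h1, h2, h3, h4, h5, h6⟩ := hmain r
    exact ⟨N, P, e, h1, h2, h3, h4, h5, fun i j hij => h6 i j hij j.2⟩
  intro m
  induction m with
  | zero =>
    refine ⟨A, 1, IsUnit.of_mul_eq_one_right B hBA, isUnit_one, Sp.one_apply p, ?_, ?_, fun i j _ h => absurd h (Nat.not_lt_zero _)⟩
    · rw [Matrix.mul_one, hAH]; exact hd
    · rw [Matrix.mul_one, hAH]; exact hu
  | succ m ih =>
    obtain ⟨N, P, h1, h2, h3, h4, h5, h6⟩ := ih
    by_cases hm : m < r
    · obtain ⟨N', P', g1, g2, g3, g4, g5, g6, g7⟩ := exists_step p (N * M * P) e h4 h5 ⟨m, hm⟩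
      have hassoc : N' * N * M * (P * P') = N' * (N * M * P) * P' := by simp only [Matrix.mul_assoc]
      refine ⟨N' * N, P * P', g1.mul h1, h2.mul g2, Sp.matMul h3 g3, ?_, ?_, fun i j hij hjm n hn => ?_⟩
      · rw [hassoc]; exact g4
      · rw [hassoc]; exact g5
      · rw [hassoc]
        rcases lt_or_eq_of_le (Nat.lt_succ_iff.1 hjm) with h | h
        · rw [g6 i j h]; exact h6 i j hij h n hn
        · obtain rfl : j = ⟨m, hm⟩ := Fin.ext h
          exact g7 i hij n hn
    · exact ⟨N, P, h1, h2, h3, h4, h5, fun i j hij _ => h6 i j hij (by omega)⟩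

end Groth.Agent.S14044
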