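import Groth.Statements.S14045
import Groth.Agent.L03.Frobun.Prep
import Groth.Agent.L03.Frobun.Local

set_option autoImplicit false
universe u
open W4c1frobunstiva

namespace Groth.Agent.S14045

open MvPolynomial Groth.L03.Frobun

theorem height_line {k : Type u} [Field k] {n : ℕ} {ℓ : MvPolynomial (Fin (n + 1)) k} (hℓ : ℓ.IsHomogeneous 1)
    {q : Ideal (MvPolynomial (Fin (n + 1)) k)} [q.IsPrime] {a : Fin (n + 1) → k} (ha : eval a ℓ = 1)
    (hq : q = RingHom.ker (pt a)) : q.height = n := by
  obtain ⟨h, e, hh, he, hsum⟩ := Groth.L07.CIField.exists_height_add q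
  have hsurj : Function.Surjective (pt a) := fun p =>
    ⟨Polynomial.aeval ℓ p, by rw [← Polynomial.aeval_algHom_apply, pt_aux a hℓ ha, Polynomial.aeval_X_left_apply]⟩
  have h1 : ringKrullDim (MvPolynomial (Fin (n + 1)) k ⧸ q) = 1 := by
    rw [hq, ringKrullDim_eq_of_ringEquiv (Ideal.quotientKerAlgEquivOfSurjective hsurj).toRingEquiv,
      Polynomial.ringKrullDim_of_isNoetherianRing, ringKrullDim_eq_zero_of_field, zero_add]
  rw [h1] at he
  have : 1 = e := by exact_mod_cast he
  rw [hh, show h = n by omega]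

theorem height_vertex {k : Type u} [Field k] {n : ℕ}
    {q : Ideal (MvPolynomial (Fin (n + 1)) k)} [q.IsPrime] (h : ∀ j, X j ∈ q) : q.height = (n + 1 : ℕ) := by
  obtain ⟨h', e, hh, he, hsum⟩ := Groth.L07.CIField.exists_height_add q
  have := isMaximal_of_X_mem (Ideal.IsPrime.ne_top ‹_›) h
  rw [ringKrullDim_eq_zero_of_isField ((Ideal.Quotient.maximal_ideal_iff_isField_quotient q).1 this)] at he
  have : 0 = e := by exact_mod_cast he
  rw [hh, show h' = n + 1 by omega]

/-- The two local conditions at a point of the base scheme. -/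
theorem local_iff {k : Type u} [Field k] [Infinite k] {n : ℕ}
    {F : Fin (n + 1) → MvPolynomial (Fin (n + 1)) k} {ℓ : MvPolynomial (Fin (n + 1)) k} (hℓ : ℓ.IsHomogeneous 1)
    (hbad : ∀ q ∈ (Ideal.span (Set.range F)).minimalPrimes, ℓ ∈ q → ∀ j, X j ∈ q)
    (hpt : ∀ q ∈ (Ideal.span (Set.range F)).minimalPrimes, ℓ ∉ q →
      ∃ a : Fin (n + 1) → k, eval a ℓ = 1 ∧ q = RingHom.ker (pt a))
    (qb : Ideal (MvPolynomial (Fin (n + 1)) k ⧸ Ideal.span (Set.range F))) [qb.IsPrime]
    (hq : qb.comap (Ideal.Quotient.mk _) ∈ (Ideal.span (Set.range F)).minimalPrimes) :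
    (Pi1.IsCompleteIntersection (Localization.AtPrime qb) ↔
      (ℓ ∉ qb.comap (Ideal.Quotient.mk _) → Syz F (qb.comap (Ideal.Quotient.mk _)))) ∧
    (LocCoh.IsGorensteinLocalRing (Localization.AtPrime qb) ↔
      (ℓ ∉ qb.comap (Ideal.Quotient.mk _) → Syz F (qb.comap (Ideal.Quotient.mk _)))) := by
  set q := qb.comap (Ideal.Quotient.mk (Ideal.span (Set.range F))) with hqdef
  let p := Localization.localRingHom q qb (Ideal.Quotient.mk (Ideal.span (Set.range F))) rfl
  have hp : Function.Surjective p := Groth.L02.FlatEnvelope.localRingHom_surjective _ Ideal.Quotient.mk_surjective q qb rfl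
  have hker : RingHom.ker p = locIdeal F q :=
    (Groth.L02.FlatEnvelope.ker_localRingHom _ Ideal.Quotient.mk_surjective q qb rfl).trans (by rw [Ideal.mk_ker]; rfl)
  let e := (Ideal.quotEquivOfEq hker.symm).trans (RingHom.quotientKerEquivOfSurjective hp)
  have hci : Pi1.IsCompleteIntersection (Localization.AtPrime qb) ↔ CInt.IsRegularIdeal (locIdeal F q) :=
    ⟨fun h => hker ▸ Groth.L07.RegQuot.isRegularIdeal_of_isCompleteIntersection p hp h,
      fun h => Groth.L07.RegQuot.isCompleteIntersection_of_isRegularIdeal p hp (hker.symm ▸ h)⟩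
  have hgo : LocCoh.IsGorensteinLocalRing (Localization.AtPrime qb) ↔
      LocCoh.IsGorensteinLocalRing (Localization.AtPrime q ⧸ locIdeal F q) :=
    ⟨fun h => Groth.L21.GorensteinAscend.isGorensteinLocalRing_of_ringEquiv e.symm h,
      fun h => Groth.L21.GorensteinAscend.isGorensteinLocalRing_of_ringEquiv e h⟩
  rw [hci, hgo]
  by_cases hℓq : ℓ ∈ q
  · obtain ⟨h1, h2⟩ := isRegular_of_gens hq (height_vertex (hbad q hq hℓq)) (locIdeal_eq (F := F) (q := q)).symm
    exact ⟨iff_of_true h1 fun h => absurd hℓq h, iff_of_true h2 fun h => absurd hℓq h⟩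
  · obtain ⟨a, ha, hqa⟩ := hpt q hq hℓq
    have hht := height_line hℓ ha hqa
    refine ⟨⟨fun h _ => ?_, fun h => ?_⟩, ⟨fun h _ => ?_, fun h => ?_⟩⟩
    · obtain ⟨K, hK⟩ := gens_of_isRegularIdeal hq hht h; exact syz_of_gens hK
    · obtain ⟨K, hK⟩ := gens_of_syz (h hℓq); exact (isRegular_of_gens hq hht hK).1
    · obtain ⟨K, hK⟩ := gens_of_gorenstein hq hht h; exact syz_of_gens hK
    · obtain ⟨K, hK⟩ := gens_of_syz (h hℓq); exact (isRegular_of_gens hq hht hK).2

/-- Let k be an algebraically closed field, n ≥ 0 and d ≥ 1 integers, and F_0, …, F_n forms of degree d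
in R = k[X_0, …, X_n] that are algebraically independent over k — so that they define a dominant
rational self-map f of projective n-space — and such that R/(F_0, …, F_n) has Krull dimension at
most one — so that f is undefined at only finitely many points. Let δ be the total length of the
base scheme E_f cut out by the F_i, which is the eventually constant value of dim_k of the degree-m
part of R/(F), and let D be the degree of the fraction field of R over the subfield generated by the
F_i, which is d times the degree of f. Then D + d·δ ≤ d^{n+1}, that is, deg f ≤ d^n − δ. Moreover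
equality holds if and only if E_f is a local complete intersection, if and only if E_f is
Gorenstein; here both conditions are imposed on the localisations of the affine cone R/(F) at its
minimal primes, local rings which are localisations of polynomial rings in one variable over the
local rings of E_f at its points. (The particular case where every point of E_f has length 1 or 2 is
not restated.) -/
theorem result (k : Type u) [Field k]
    [IsAlgClosed k] (n d : ℕ) (hd : 1 ≤ d)
    (F : Fin (n + 1) → MvPolynomial (Fin (n + 1)) k) (hF : ∀ i, (F i).IsHomogeneous d)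
    (hind : AlgebraicIndependent k F)
    (hdim : ringKrullDim (MvPolynomial (Fin (n + 1)) k ⧸ Ideal.span (Set.range F)) ≤ 1)
    (δ : ℕ) (hδ : ∃ m₀ : ℕ, ∀ m : ℕ, m₀ ≤ m →
      Module.finrank k ↥(CohB1.polyGrading n k m) -
        Module.finrank k ↥(Submodule.restrictScalars k (Ideal.span (Set.range F)) ⊓
          CohB1.polyGrading n k m) = δ) :
    let R := MvPolynomial (Fin (n + 1)) k
    let I : Ideal R := Ideal.span (Set.range F)
    let L := FractionRing R
    let K := IntermediateField.adjoin k (Set.range fun i => algebraMap R L (F i))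
    let D := Module.finrank ↥K L
    let lci := ∀ q : Ideal (R ⧸ I), ∀ hq : q ∈ minimalPrimes (R ⧸ I),
      letI : q.IsPrime := hq.1.1; Pi1.IsCompleteIntersection (Localization.AtPrime q)
    let gor := ∀ q : Ideal (R ⧸ I), ∀ hq : q ∈ minimalPrimes (R ⧸ I),
      letI : q.IsPrime := hq.1.1; LocCoh.IsGorensteinLocalRing (Localization.AtPrime q)
    D + d * δ ≤ d ^ (n + 1) ∧ (D + d * δ = d ^ (n + 1) ↔ lci) ∧ (lci ↔ gor) := by
  classical
  intro R I L K D lci gor
  have hhom : Groth.L12.GrCI.Homog (1 : Fin (n + 1) → ℕ) I :=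
    Groth.L12.GrCI.homog_span (by rintro _ ⟨i, rfl⟩; exact ⟨d, hF i⟩)
  obtain ⟨ℓ, hℓ, hℓ0, ⟨N, hN⟩, hbad⟩ := exists_linear I hhom hdim
  obtain ⟨m₀, hδ⟩ := hδ
  have hδ' : ∀ u, m₀ ≤ u → Module.finrank k (Groth.L12.GrCI.piece (1 : Fin (n + 1) → ℕ) I u) = δ := fun u hu => by
    have h1 : _ + Module.finrank k ↥(Submodule.restrictScalars k I ⊓ homogeneousSubmodule (Fin (n + 1)) k u) =
      Module.finrank k (homogeneousSubmodule (Fin (n + 1)) k u) := finrank_piece_add I u
    have h2 : Module.finrank k (homogeneousSubmodule (Fin (n + 1)) k u) -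
      Module.finrank k ↥(Submodule.restrictScalars k I ⊓ homogeneousSubmodule (Fin (n + 1)) k u) = δ := hδ u hu
    omega
  have hpt := fun q hq => exists_point I hhom hδ' hℓ (q := q) hq
  obtain ⟨K0, L0, ⟨M⟩, hfin⟩ := exists_model hd hF hind hℓ hℓ0
  obtain ⟨hle, hiff⟩ := M.bound hd hF hℓ hN hδ'
  have hD : D + d * δ = d * (Module.finrank K0 L0 + δ) := by
    rw [Nat.mul_add]; exact congrArg (· + d * δ) hfin
  have hmin : ∀ qb : Ideal (R ⧸ I), qb ∈ minimalPrimes (R ⧸ I) →
      qb.comap (Ideal.Quotient.mk I) ∈ I.minimalPrimes := fun qb hqb => by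
    rw [Ideal.minimalPrimes_eq_comap]; exact ⟨qb, hqb, rfl⟩
  have hall : ∀ q ∈ I.minimalPrimes, ∃ qb ∈ minimalPrimes (R ⧸ I), qb.comap (Ideal.Quotient.mk I) = q := fun q hq => by
    rw [Ideal.minimalPrimes_eq_comap] at hq; exact hq
  have hl : lci ↔ ∀ q ∈ I.minimalPrimes, ℓ ∉ q → Syz F q := by
    constructor
    · intro h q hq
      obtain ⟨qb, hqb, rfl⟩ := hall q hq
      have := hqb.1.1
      exact (local_iff hℓ hbad hpt qb hq).1.1 (h qb hqb)
    · intro h qb hqb
      have := hqb.1.1
      exact (local_iff hℓ hbad hpt qb (hmin qb hqb)).1.2 (h _ (hmin qb hqb))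
  have hg : gor ↔ ∀ q ∈ I.minimalPrimes, ℓ ∉ q → Syz F q := by
    constructor
    · intro h q hq
      obtain ⟨qb, hqb, rfl⟩ := hall q hq
      have := hqb.1.1
      exact (local_iff hℓ hbad hpt qb hq).2.1 (h qb hqb)
    · intro h qb hqb
      have := hqb.1.1
      exact (local_iff hℓ hbad hpt qb (hmin qb hqb)).2.2 (h _ (hmin qb hqb))
  refine ⟨?_, ?_, hl.trans hg.symm⟩
  · rw [hD, pow_succ']
    exact Nat.mul_le_mul_left d hle
  · rw [hD, pow_succ', Nat.mul_left_cancel_iff (by omega), hiff, hl]
    refine ⟨fun hT q hq hℓq => ?_, fun h => M.tight_of_syz hF hℓ hbad hpt h⟩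
    obtain ⟨a, ha, hqa⟩ := hpt q hq hℓq
    exact M.syz_of_tight hF hℓ hT ha hqa hq.1.2

end Groth.Agent.S14045
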