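import Groth.Statements.S14046
import Mathlib.RingTheory.Flat.Equalizer
import Mathlib.LinearAlgebra.TensorProduct.Prod
import Mathlib.RingTheory.TensorProduct.Maps
import Mathlib.RingTheory.Ideal.Quotient.Operations
import Mathlib.Tactic.Ring
import Mathlib.Tactic.LinearCombination
import Mathlib.Tactic.FieldSimp
import Mathlib.Algebra.BigOperators.Ring.Finset

set_option autoImplicit false
universe u v w
open W4c1frobunstiva

namespace Groth.Agent.S14046

open TensorProduct in
theorem fib (R : Type u) (A : Type v) [CommRing R] [CommRing A] [Algebra R A] (I J : Ideal A)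
    (hIJ : I ⊓ J = ⊥) [Module.Flat R (A ⧸ (I ⊔ J))] (R' : Type w) [CommRing R'] [Algebra R R']
    (z : R' ⊗[R] A) (h1 : (Ideal.Quotient.mkₐ R I).toLinearMap.lTensor R' z = 0)
    (h2 : (Ideal.Quotient.mkₐ R J).toLinearMap.lTensor R' z = 0) : z = 0 := by
  let g : A →ₗ[R] (A ⧸ I) × (A ⧸ J) :=
    (Ideal.Quotient.mkₐ R I).toLinearMap.prod (Ideal.Quotient.mkₐ R J).toLinearMap
  let pI : (A ⧸ I) →ₐ[R] A ⧸ (I ⊔ J) := Ideal.Quotient.factorₐ R le_sup_left
  let pJ : (A ⧸ J) →ₐ[R] A ⧸ (I ⊔ J) := Ideal.Quotient.factorₐ R le_sup_right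
  let f : (A ⧸ I) × (A ⧸ J) →ₗ[R] A ⧸ (I ⊔ J) :=
    pI.toLinearMap.comp (LinearMap.fst R _ _) - pJ.toLinearMap.comp (LinearMap.snd R _ _)
  have hg : Function.Injective g := by
    rw [injective_iff_map_eq_zero]
    intro a ha
    simp only [g, LinearMap.prod_apply, Function.prod_apply, AlgHom.toLinearMap_apply, Prod.mk_eq_zero,
      Ideal.Quotient.mkₐ_eq_mk, Ideal.Quotient.eq_zero_iff_mem] at ha
    have : a ∈ I ⊓ J := ha
    rwa [hIJ, Ideal.mem_bot] at this
  have hf : Function.Surjective f := by
    intro q
    obtain ⟨a, rfl⟩ := Ideal.Quotient.mk_surjective q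
    exact ⟨(Ideal.Quotient.mk I a, 0), by simp [f, pI]⟩
  have hex : Function.Exact g f := by
    rintro ⟨x, y⟩
    obtain ⟨a, rfl⟩ := Ideal.Quotient.mk_surjective x
    obtain ⟨b, rfl⟩ := Ideal.Quotient.mk_surjective y
    constructor
    · intro h
      have h' : Ideal.Quotient.mk (I ⊔ J) a - Ideal.Quotient.mk (I ⊔ J) b = 0 := h
      rw [← map_sub, Ideal.Quotient.eq_zero_iff_mem] at h'
      obtain ⟨i, hi, j, hj, hij⟩ := Submodule.mem_sup.1 h'
      refine ⟨a - i, Prod.ext (Ideal.Quotient.eq.2 (by simpa using hi)) (Ideal.Quotient.eq.2 ?_)⟩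
      rw [show a - i - b = j by linear_combination -hij]
      exact hj
    · rintro ⟨c, hc⟩
      rw [← hc]
      show Ideal.Quotient.mk (I ⊔ J) c - Ideal.Quotient.mk (I ⊔ J) c = 0
      rw [sub_self]
  have hinj := LinearMap.lTensor_injective_of_exact_of_flat f hf g hg hex R'
  apply hinj
  rw [map_zero]
  apply (TensorProduct.prodRight R R R' (A ⧸ I) (A ⧸ J)).injective
  rw [map_zero]
  have key : ∀ w : R' ⊗[R] A, TensorProduct.prodRight R R R' (A ⧸ I) (A ⧸ J) (g.lTensor R' w) =
      ((Ideal.Quotient.mkₐ R I).toLinearMap.lTensor R' w,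
        (Ideal.Quotient.mkₐ R J).toLinearMap.lTensor R' w) := by
    intro w
    induction w with
    | zero => simp only [map_zero]; rfl
    | add a b ha hb => simp only [map_add, ha, hb]; rfl
    | tmul r a => simp [g]
  rw [key, h1, h2]
  rfl

open TensorProduct in
/-- Let R → A be a homomorphism of commutative rings and I, J ideals of A with I ∩ J = 0 — so that A is
the fibre product of A/I and A/J over A/(I + J), i.e. Spec A is the union of the two closed
subschemes in the strong sense — and suppose A/(I + J) is flat over R. Then this persists under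
every base change: for every commutative R-algebra R', the ideals generated by I and J in R' ⊗_R A
again meet in 0. (This is the ideal-theoretic, affine form of the base-change step; the exact
sequence of unit sheaves deduced from it in the published statement — restriction of units to a
closed subscheme being surjective locally — is not restated. Without flatness of A/(I + J) the
conclusion fails: for A = k[x, y]/(xy) over R = k[u] with u ↦ x + y, I = (x) and J = (y), the base
change to R/(u) gives k[x]/(x²), in which both ideals become (x).) -/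
theorem result (R : Type u) (A : Type v)
    [CommRing R] [CommRing A] [Algebra R A] (I J : Ideal A) (hIJ : I ⊓ J = ⊥)
    [Module.Flat R (A ⧸ (I ⊔ J))] (R' : Type w) [CommRing R'] [Algebra R R'] :
    I.map (Algebra.TensorProduct.includeRight : A →ₐ[R] R' ⊗[R] A) ⊓
      J.map (Algebra.TensorProduct.includeRight : A →ₐ[R] R' ⊗[R] A) = ⊥ := by
  rw [eq_bot_iff]
  intro z hz
  rw [Ideal.mem_bot]
  have hk : ∀ K : Ideal A, K.map (Algebra.TensorProduct.includeRight : A →ₐ[R] TensorProduct R R' A) ≤
      RingHom.ker (Algebra.TensorProduct.map (AlgHom.id R R') (Ideal.Quotient.mkₐ R K)).toRingHom := by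
    intro K
    rw [Ideal.map_le_iff_le_comap]
    intro a ha
    simp [RingHom.mem_ker, Ideal.Quotient.eq_zero_iff_mem.2 ha]
  have hco : ∀ (K : Ideal A) (w : TensorProduct R R' A),
      Algebra.TensorProduct.map (AlgHom.id R R') (Ideal.Quotient.mkₐ R K) w =
        (Ideal.Quotient.mkₐ R K).toLinearMap.lTensor R' w := by
    intro K w
    induction w with
    | zero => simp
    | add a b ha hb => simp only [map_add, ha, hb]
    | tmul r a => simp
  exact fib R A I J hIJ R' z ((hco I z).symm.trans (hk I hz.1)) ((hco J z).symm.trans (hk J hz.2))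

end Groth.Agent.S14046
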