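import Groth.Statements.S14047
import Groth.Agent.L05.SingLocus.Main
import Groth.Agent.L19.OmegaSh.Universal
import Groth.Agent.L23.QFDescent
import Mathlib.AlgebraicGeometry.ZariskisMainTheorem

set_option autoImplicit false
universe u
open CategoryTheory AlgebraicGeometry
open W4c1frobunstiva

namespace Groth.Agent.S14047
set_option backward.isDefEq.respectTransparency false
set_option backward.isDefEq.respectTransparency.types false
set_option linter.style.haveILetI false

/-- Let f : X → B be a proper family of nodal curves — flat, locally of finite presentation, each fibre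
having all its irreducible components of dimension one and at worst nodes as singularities. Let Ω be
an O_X-module equipped with a universal B-derivation (a sheaf of relative differentials of X over B)
and let Z be the closed subscheme of X cut out by the first Fitting ideal sheaf of Ω, the singular
locus of f. Then the composite Z → X → B is finite and formally unramified, so unramified. -/
theorem result {X B : Scheme.{u}}
    (f : X ⟶ B) (hf : Curv2.IsNodalFamily f) [IsProper f] (Ω : X.Modules) (d : OmegaSh.Der f Ω)
    (hd : OmegaSh.IsUniversal d) :
    IsFinite ((Fitt.sheafIdeal Ω 1).subschemeι ≫ f) ∧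
      FormallyUnramified ((Fitt.sheafIdeal Ω 1).subschemeι ≫ f) := by
  haveI := hf.1
  haveI := hf.2.1
  obtain ⟨e, -⟩ := Groth.L19.OmegaSh.exists_iso_of_isUniversal hd (Groth.L19.OmegaSh.isUniversal_dOmega (f := f))
  rw [Groth.L05.SingLocus.sheafIdeal_congr e 1]
  haveI hu := Groth.L05.SingLocus.formallyUnramified_fittOne f hf
  refine ⟨?_, hu⟩
  haveI : LocallyOfFiniteType ((Fitt.sheafIdeal (Omega.sheaf f) 1).subschemeι ≫ f) := inferInstance
  haveI := Groth.L23.locallyQuasiFinite_of_unramified ((Fitt.sheafIdeal (Omega.sheaf f) 1).subschemeι ≫ f)
  haveI : IsProper ((Fitt.sheafIdeal (Omega.sheaf f) 1).subschemeι ≫ f) := inferInstance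
  exact IsFinite.of_isProper_of_locallyQuasiFinite _

end Groth.Agent.S14047
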