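import Groth.Statements.S14048
import Mathlib.RingTheory.TensorProduct.Maps
import Mathlib.Algebra.Polynomial.Taylor
import Mathlib.RingTheory.Noetherian.Defs
import Mathlib.Tactic.NormNum
import Mathlib.Data.Nat.Prime.Infinite
import Mathlib.Data.Nat.Prime.Basic
import Mathlib.Data.Nat.Prime.Int
import Mathlib.RingTheory.Localization.Away.Basic
import Mathlib.Algebra.Ring.Subring.Basic
import Mathlib.RingTheory.Ideal.Quotient.Operations

set_option autoImplicit false
universe u
open TensorProduct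
open CAlg

namespace Groth.Agent.S14048

/-- Let A be an integral domain in which 2 is invertible and let t be an element of A, so that Spec A is
a scheme over the affine line Spec ℤ[1/2][t]. Assume that (1) the ℚ-algebra map ℚ[X] → ℚ ⊗_ℤ A
sending X to 1 ⊗ t is bijective (the map Spec A → Spec ℤ[1/2][t] becomes an isomorphism after base
change to ℚ); (2) every prime number is invertible in A/(t) (the fibre over t = 0 is of pure
characteristic zero); and (3) there is a ring homomorphism s : A → ℤ[1/2] with s(t) = 1 (the fibre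
over t = 1 admits a section). Then A is not Noetherian. -/
theorem result (A : Type u) [CommRing A]
    [IsDomain A] (h2 : IsUnit (2 : A)) (t : A)
    (h1 : Function.Bijective (Polynomial.aeval (R := ℚ) ((1 : ℚ) ⊗ₜ[ℤ] t : ℚ ⊗[ℤ] A)))
    (h0 : ∀ p : ℕ, p.Prime → IsUnit ((p : ℕ) : A ⧸ Ideal.span ({t} : Set A)))
    (s : A →+* Localization.Away (2 : ℤ)) (hs : s t = 1) :
    ¬ IsNoetherianRing A := by
  classical
  intro hN
  let e : Polynomial ℚ ≃ₐ[ℚ] ℚ ⊗[ℤ] A := AlgEquiv.ofBijective _ h1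
  let ι : A →+* ℚ ⊗[ℤ] A := (Algebra.TensorProduct.includeRight (R := ℤ) (A := ℚ) (B := A)).toRingHom
  let ρ : A →+* Polynomial ℚ := e.symm.toRingEquiv.toRingHom.comp ι
  have hρt : ρ t = Polynomial.X := by
    show e.symm (ι t) = _
    rw [AlgEquiv.symm_apply_eq]
    show ι t = Polynomial.aeval _ Polynomial.X
    rw [Polynomial.aeval_X]; rfl
  let sQ : A →+* ℚ := (IsLocalization.Away.lift (2 : ℤ) (g := algebraMap ℤ ℚ) (by simp)).comp s
  have hs1 : ∀ a, Polynomial.eval 1 (ρ a) = sQ a := by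
    let T : ℚ ⊗[ℤ] A →ₐ[ℚ] ℚ := Algebra.TensorProduct.lift (AlgHom.id ℚ ℚ) sQ.toIntAlgHom fun _ _ => Commute.all _ _
    have hT : T.comp e.toAlgHom = Polynomial.aeval (1 : ℚ) := by
      apply Polynomial.algHom_ext
      show T (Polynomial.aeval ((1 : ℚ) ⊗ₜ[ℤ] t) Polynomial.X) = _
      rw [Polynomial.aeval_X, Polynomial.aeval_X, Algebra.TensorProduct.lift_tmul, map_one, one_mul]
      show sQ t = 1
      simp only [sQ, RingHom.comp_apply, hs, map_one]
    intro a
    have h := AlgHom.congr_fun hT (ρ a)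
    rw [Polynomial.coe_aeval_eq_eval] at h
    rw [← h]
    show T (e (e.symm (ι a))) = _
    rw [e.apply_symm_apply]
    show T ((1 : ℚ) ⊗ₜ[ℤ] a) = _
    rw [Algebra.TensorProduct.lift_tmul, map_one, one_mul]
    rfl
  let ρ' : A →+* Polynomial ℚ := (Polynomial.taylorEquiv (1 : ℚ)).toAlgHom.toRingHom.comp ρ
  have hρ'0 : ∀ a, (ρ' a).coeff 0 = sQ a := fun a => by
    show (Polynomial.taylor 1 (ρ a)).coeff 0 = _
    rw [Polynomial.taylor_coeff_zero, hs1]
  -- generators of the kernel
  obtain ⟨G, hG⟩ := (IsNoetherian.noetherian (RingHom.ker s) : (RingHom.ker s).FG)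
  obtain ⟨D, hD, hhalf⟩ : ∃ D : Finset ℚ, (∀ g ∈ G, ∀ n ∈ (ρ' g).support, (ρ' g).coeff n ∈ D) ∧ (1 / 2 : ℚ) ∈ D :=
    ⟨insert (1 / 2 : ℚ) (G.biUnion fun g => (ρ' g).support.image (ρ' g).coeff),
      fun g hg n hn => Finset.mem_insert_of_mem (Finset.mem_biUnion.mpr ⟨g, hg, Finset.mem_image_of_mem _ hn⟩),
      Finset.mem_insert_self _ _⟩
  let R' : Subring ℚ := Subring.closure (D : Set ℚ)
  have hs_mem : ∀ z : Localization.Away (2 : ℤ), IsLocalization.Away.lift (2 : ℤ) (g := algebraMap ℤ ℚ) (by simp) z ∈ R' := by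
    intro z
    obtain ⟨⟨x, ⟨_, k, rfl⟩⟩, hx⟩ := IsLocalization.surj (Submonoid.powers (2 : ℤ)) z
    have h := congrArg (IsLocalization.Away.lift (2 : ℤ) (g := algebraMap ℤ ℚ) (by simp)) hx
    simp only [map_mul, IsLocalization.Away.lift_eq, map_pow] at h
    have hh : IsLocalization.Away.lift (2 : ℤ) (g := algebraMap ℤ ℚ) (by simp) z = (x : ℚ) * (1 / 2) ^ k := by
      simp only [map_ofNat, algebraMap_int_eq, eq_intCast] at h
      rw [← h, mul_assoc, ← mul_pow]
      norm_num
    rw [hh]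
    exact mul_mem (intCast_mem _ _) (pow_mem (Subring.subset_closure hhalf) _)
  have hG0 : ∀ g ∈ G, (ρ' g).coeff 0 = 0 := fun g hg => by
    rw [hρ'0]
    have h0' : s g = 0 := hG.le (Ideal.subset_span hg)
    simp only [sQ, RingHom.comp_apply, h0', map_zero]
  have hcoef : ∀ n, ∀ a, (ρ' a).coeff n ∈ R' := by
    intro n
    induction n using Nat.strong_induction_on with
    | _ n ih =>
      have hz : ∀ a ∈ RingHom.ker s, (ρ' a).coeff n ∈ R' := by
        intro a ha
        rw [← hG] at ha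
        obtain ⟨f, -, rfl⟩ := Submodule.mem_span_finset.mp ha
        rw [map_sum, Polynomial.finset_sum_coeff]
        refine Subring.sum_mem _ fun g hg => ?_
        rw [smul_eq_mul, map_mul, Polynomial.coeff_mul]
        refine Subring.sum_mem _ fun ij hij => ?_
        rw [Finset.HasAntidiagonal.mem_antidiagonal] at hij
        by_cases hj : (ρ' g).coeff ij.2 = 0
        · rw [hj, mul_zero]; exact zero_mem _
        · have h2 : ij.2 ≠ 0 := fun h => hj (h ▸ hG0 g hg)
          exact mul_mem (ih ij.1 (by omega) _) (Subring.subset_closure (hD g hg ij.2 (Polynomial.mem_support_iff.mpr hj)))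
      rcases Nat.eq_zero_or_pos n with rfl | hn
      · intro a
        rw [hρ'0]
        exact hs_mem _
      · intro a
        obtain ⟨⟨x, ⟨_, k, rfl⟩⟩, hx⟩ := IsLocalization.surj (Submonoid.powers (2 : ℤ)) (s a)
        obtain ⟨v, hv⟩ := h2.exists_left_inv
        have ha : a - (x : A) * v ^ k ∈ RingHom.ker s := by
          rw [RingHom.mem_ker, map_sub, sub_eq_zero, map_mul, map_intCast]
          have hvs : s v * 2 = 1 := by rw [← map_ofNat s 2, ← map_mul, hv, map_one]
          simp only [map_pow, map_ofNat, algebraMap_int_eq, eq_intCast] at hx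
          calc s a = s a * (2 ^ k * (s v) ^ k) := by rw [← mul_pow, mul_comm 2 (s v), hvs, one_pow, mul_one]
            _ = (s a * 2 ^ k) * (s v) ^ k := by ring
            _ = _ := by rw [hx, map_pow]
        have h3 := hz _ ha
        have hconst : ρ' ((x : A) * v ^ k) = Polynomial.C ((x : ℚ) * (1 / 2) ^ k) := by
          have h2v : ρ' v = Polynomial.C (1 / 2 : ℚ) := by
            have h := congrArg ρ' hv
            rw [map_mul, map_ofNat, map_one] at h
            calc ρ' v = ρ' v * ((2 : Polynomial ℚ) * Polynomial.C (1 / 2 : ℚ)) := by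
                  rw [← Polynomial.C_ofNat, ← Polynomial.C_mul]; norm_num
              _ = (ρ' v * 2) * Polynomial.C (1 / 2 : ℚ) := by ring
              _ = _ := by rw [h, one_mul]
          rw [map_mul, map_intCast, map_pow, h2v, Polynomial.C_mul, Polynomial.C_pow, Polynomial.C_eq_intCast]
        rw [map_sub, Polynomial.coeff_sub, hconst, Polynomial.coeff_C_ne_zero (by omega), sub_zero] at h3
        exact h3
  obtain ⟨M, hM0, hM⟩ : ∃ M : ℕ, 0 < M ∧ ∀ x ∈ R', ∃ (k : ℕ) (z : ℤ), x * (M : ℚ) ^ k = z := by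
    refine ⟨∏ q ∈ D, q.den, Finset.prod_pos fun q _ => q.den_pos, fun x hx => ?_⟩
    induction hx using Subring.closure_induction with
    | mem q hq =>
      obtain ⟨r, hr⟩ := Finset.dvd_prod_of_mem (fun q : ℚ => q.den) hq
      refine ⟨1, q.num * r, ?_⟩
      rw [hr]; push_cast; rw [pow_one, ← mul_assoc, Rat.mul_den_eq_num]
    | zero => exact ⟨0, 0, by simp⟩
    | one => exact ⟨0, 1, by simp⟩
    | neg y _ hy => obtain ⟨k, z, h⟩ := hy; exact ⟨k, -z, by rw [neg_mul, h]; push_cast; rfl⟩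
    | add y w _ _ hy hw =>
      obtain ⟨k, z, h⟩ := hy
      obtain ⟨l, z', h'⟩ := hw
      refine ⟨k + l, z * (∏ q ∈ D, q.den : ℕ) ^ l + z' * (∏ q ∈ D, q.den : ℕ) ^ k, ?_⟩
      push_cast at h h' ⊢
      rw [← h, ← h']; ring
    | mul y w _ _ hy hw =>
      obtain ⟨k, z, h⟩ := hy
      obtain ⟨l, z', h'⟩ := hw
      refine ⟨k + l, z * z', ?_⟩
      push_cast at h h' ⊢
      rw [← h, ← h']; ring
  obtain ⟨p, hpM, hp⟩ := Nat.exists_infinite_primes (M + 1)
  obtain ⟨c, hc⟩ := (h0 p hp).exists_right_inv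
  obtain ⟨c, rfl⟩ := Ideal.Quotient.mk_surjective c
  rw [← map_natCast (Ideal.Quotient.mk (Ideal.span ({t} : Set A))), ← map_mul,
    ← map_one (Ideal.Quotient.mk (Ideal.span ({t} : Set A))), Ideal.Quotient.eq, Ideal.mem_span_singleton] at hc
  obtain ⟨b, hb⟩ := hc
  have he : (ρ c).eval 0 ∈ R' := by
    have : Polynomial.eval (-1) (Polynomial.taylor 1 (ρ c)) = (ρ c).eval 0 := by
      rw [Polynomial.taylor_eval]; norm_num
    rw [← this, Polynomial.eval_eq_sum]
    exact Subring.sum_mem _ fun n _ => mul_mem (hcoef n c) (pow_mem (neg_mem (one_mem _)) _)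
  have hpc : (p : ℚ) * (ρ c).eval 0 = 1 := by
    have h := congrArg (fun a => (ρ a).eval 0) hb
    simp only [map_sub, map_mul, map_natCast, map_one, hρt, Polynomial.eval_sub, Polynomial.eval_mul,
      Polynomial.eval_natCast, Polynomial.eval_one, Polynomial.eval_X, zero_mul] at h
    exact sub_eq_zero.mp h
  obtain ⟨k, z, hz⟩ := hM _ he
  have hdvd : (p : ℤ) ∣ (M : ℤ) ^ k := ⟨z, by
    have : ((M : ℚ)) ^ k = (p : ℚ) * z := by rw [← hz, ← mul_assoc, hpc, one_mul]
    exact_mod_cast this⟩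
  have hdvd' : p ∣ M ^ k := by exact_mod_cast hdvd
  have := Nat.le_of_dvd hM0 (Nat.Prime.dvd_of_dvd_pow hp hdvd')
  omega

end Groth.Agent.S14048
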