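import Groth.Statements.S14051
import Mathlib.RingTheory.GradedAlgebra.Basic
import Mathlib.Algebra.DirectSum.Decomposition
import Mathlib.Algebra.GradedMulAction
import Mathlib.Algebra.Module.BigOperators
import Mathlib.Algebra.Algebra.Operations

set_option autoImplicit false
universe u
open CAlg

namespace Groth.Agent.S14051

/-- Let A be a commutative ℕ-graded algebra over a base ring R which is generated by A_1 as an
A_0-algebra, written as A_{n+1} = A_1 · A_n for every n, and let M be a graded A-module: an A-module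
with R-submodules M_n giving a direct-sum decomposition and A_i · M_j ⊆ M_{i+j}. If M is spanned
over A by a set of homogeneous elements all of degree at most n₀, then for every n ≥ n₀ and every k
≥ 0 the degree-(n+k) part of M is A_k · M_n. -/
theorem result
    (R : Type u) [CommRing R] (A : Type u) [CommRing A] [Algebra R A]
    (𝒜 : ℕ → Submodule R A) [GradedAlgebra 𝒜]
    (hA : ∀ n : ℕ, 𝒜 (n + 1) = 𝒜 1 * 𝒜 n)
    (M : Type u) [AddCommGroup M] [Module R M] [Module A M] [IsScalarTower R A M]
    (ℳ : ℕ → Submodule R M) [DirectSum.Decomposition ℳ] [SetLike.GradedSMul 𝒜 ℳ]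
    (s : Set M) (n₀ : ℕ) (hs : ∀ y ∈ s, ∃ d : ℕ, d ≤ n₀ ∧ y ∈ ℳ d)
    (hspan : Submodule.span A s = ⊤)
    (n k : ℕ) (hn : n₀ ≤ n) :
    ℳ (n + k) = 𝒜 k • ℳ n := by
  classical
  refine le_antisymm (fun z hz => ?_) (Submodule.smul_le.mpr fun a ha b hb => ?_)
  swap
  · rw [add_comm]
    exact SetLike.GradedSMul.smul_mem ha hb
  have hpow : ∀ i j : ℕ, 𝒜 (i + j) ≤ 𝒜 i * 𝒜 j := by
    intro i j
    induction i with
    | zero =>
      intro a ha
      rw [← one_mul a]
      exact Submodule.mul_mem_mul (SetLike.one_mem_graded 𝒜) (by simpa using ha)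
    | succ i ih =>
      rw [Nat.add_right_comm, hA (i + j), hA i, mul_assoc]
      exact Submodule.mul_le.mpr fun a ha b hb => Submodule.mul_mem_mul ha (ih hb)
  obtain ⟨c, hc⟩ := (Finsupp.mem_span_iff_linearCombination A s z).mp (hspan ▸ Submodule.mem_top)
  have hz' := DirectSum.decompose_of_mem_same ℳ hz
  rw [← hz', ← hc, Finsupp.linearCombination_apply, Finsupp.sum, DirectSum.decompose_sum, DFinsupp.finsetSum_apply,
    Submodule.coe_sum]
  refine Submodule.sum_mem _ fun y _ => ?_
  obtain ⟨d, hd, hy⟩ := hs y.1 y.2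
  rw [← DirectSum.sum_support_decompose 𝒜 (c y), Finset.sum_smul, DirectSum.decompose_sum, DFinsupp.finsetSum_apply,
    Submodule.coe_sum]
  refine Submodule.sum_mem _ fun i _ => ?_
  have hmem : ((DirectSum.decompose 𝒜 (c y) i : A) • (y : M)) ∈ ℳ (i + d) :=
    SetLike.GradedSMul.smul_mem (DirectSum.decompose 𝒜 (c y) i).2 hy
  by_cases hid : i + d = n + k
  · rw [hid] at hmem
    rw [DirectSum.decompose_of_mem_same ℳ hmem]
    have hi : (DirectSum.decompose 𝒜 (c y) i : A) ∈ 𝒜 k * 𝒜 (n - d) :=
      hpow k (n - d) (by rw [show k + (n - d) = i by omega]; exact (DirectSum.decompose 𝒜 (c y) i).2)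
    refine Submodule.mul_induction_on hi (fun a ha b hb => ?_) (fun a b ha hb => by rw [add_smul]; exact add_mem ha hb)
    rw [mul_smul]
    refine Submodule.smul_mem_smul ha ?_
    have := SetLike.GradedSMul.smul_mem (A := 𝒜) (B := ℳ) hb hy
    rwa [show (n - d) +ᵥ d = n by change n - d + d = n; omega] at this
  · rw [DirectSum.decompose_of_mem_ne ℳ hmem hid]
    exact zero_mem _

end Groth.Agent.S14051
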