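import Groth.Statements.S14053
import Mathlib.RingTheory.GradedAlgebra.Basic
import Mathlib.Algebra.Algebra.Operations
import Mathlib.RingTheory.Adjoin.Basic
import Mathlib.LinearAlgebra.Span.Basic

set_option autoImplicit false
universe u
open CAlg

namespace Groth.Agent.S14053

/-- Let k be a field and R a commutative ℕ-graded k-algebra with R_0 = k · 1 which is generated as a
k-algebra by R_1, R_2 and R_3, each a finite-dimensional k-vector space, of dimensions d_1, d_2,
d_3. Then for every natural number e ≥ 5 d_1 + 4 d_2 + 3 d_3 the (6e)-th Veronese subring of R is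
generated in degree one over k: R_{6em} = (R_{6e})^m for every m > 0. -/
theorem result
    (k : Type u) [Field k] (R : Type u) [CommRing R] [Algebra k R]
    (ℛ : ℕ → Submodule k R) [GradedAlgebra ℛ]
    (h0 : ℛ 0 = 1)
    (hgen : Algebra.adjoin k ((ℛ 1 : Set R) ∪ (ℛ 2 : Set R) ∪ (ℛ 3 : Set R)) = ⊤)
    [Module.Finite k (ℛ 1)] [Module.Finite k (ℛ 2)] [Module.Finite k (ℛ 3)]
    (e : ℕ) (he : 5 * Module.finrank k (ℛ 1) + 4 * Module.finrank k (ℛ 2) + 3 * Module.finrank k (ℛ 3) ≤ e)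
    (m : ℕ) (hm : 0 < m) :
    ℛ (m * (6 * e)) = ℛ (6 * e) ^ m := by
  classical
  let T : ℕ → Submodule k R := fun n => ⨆ (a : ℕ) (b : ℕ) (c : ℕ) (_ : a + 2 * b + 3 * c = n), ℛ 1 ^ a * ℛ 2 ^ b * ℛ 3 ^ c
  have hT : ∀ a b c n, a + 2 * b + 3 * c = n → ℛ 1 ^ a * ℛ 2 ^ b * ℛ 3 ^ c ≤ T n := fun a b c n h =>
    le_iSup_of_le a (le_iSup_of_le b (le_iSup_of_le c (le_iSup_of_le h le_rfl)))
  have hmul : ∀ i j, ℛ i * ℛ j ≤ ℛ (i + j) := fun i j => Submodule.mul_le.mpr fun x hx y hy => SetLike.mul_mem_graded hx hy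
  have hpow : ∀ i a, ℛ i ^ a ≤ ℛ (a * i) := fun i a => by
    induction a with
    | zero => rw [pow_zero, zero_mul, h0]
    | succ a ih =>
      rw [pow_succ, Nat.succ_mul]
      exact (mul_le_mul' ih le_rfl).trans (hmul _ _)
  have hmon : ∀ a b c, ℛ 1 ^ a * ℛ 2 ^ b * ℛ 3 ^ c ≤ ℛ (a + 2 * b + 3 * c) := fun a b c => by
    rw [show a + 2 * b + 3 * c = a * 1 + b * 2 + c * 3 by ring]
    exact (mul_le_mul' ((mul_le_mul' (hpow 1 a) (hpow 2 b)).trans (hmul _ _)) (hpow 3 c)).trans (hmul _ _)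
  have hTle : ∀ n, T n ≤ ℛ n := fun n => iSup_le fun a => iSup_le fun b => iSup_le fun c => iSup_le fun h => h ▸ hmon a b c
  have hTmul : ∀ i j, T i * T j ≤ T (i + j) := fun i j => by
    simp only [T, Submodule.iSup_mul, Submodule.mul_iSup]
    refine iSup_le fun a => iSup_le fun b => iSup_le fun c => iSup_le fun h => iSup_le fun a' => iSup_le fun b' =>
      iSup_le fun c' => iSup_le fun h' => ?_
    refine le_trans (le_of_eq ?_) (hT (a + a') (b + b') (c + c') (i + j) (by omega))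
    rw [pow_add, pow_add, pow_add]; ring
  have hU : ∀ x : R, x ∈ ⨆ n, T n := by
    intro x
    have hx : x ∈ Algebra.adjoin k ((ℛ 1 : Set R) ∪ (ℛ 2 : Set R) ∪ (ℛ 3 : Set R)) := hgen ▸ Algebra.mem_top
    induction hx using Algebra.adjoin_induction with
    | mem y hy =>
      rcases hy with (hy | hy) | hy
      · exact Submodule.mem_iSup_of_mem 1 (hT 1 0 0 1 rfl (by simpa using hy))
      · exact Submodule.mem_iSup_of_mem 2 (hT 0 1 0 2 rfl (by simpa using hy))
      · exact Submodule.mem_iSup_of_mem 3 (hT 0 0 1 3 rfl (by simpa using hy))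
    | algebraMap r =>
      refine Submodule.mem_iSup_of_mem 0 (hT 0 0 0 0 rfl ?_)
      simp only [pow_zero, one_mul]
      exact Submodule.algebraMap_mem r
    | add y z _ _ hy hz => exact add_mem hy hz
    | mul y z _ _ hy hz =>
      have := Submodule.mul_mem_mul hy hz
      rw [Submodule.iSup_mul] at this
      refine SetLike.le_def.mp (iSup_le fun i => ?_) this
      rw [Submodule.mul_iSup]
      exact iSup_le fun j => (hTmul i j).trans (le_iSup T (i + j))
  have hgT : ∀ n, ℛ n ≤ T n := by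
    intro n x hx
    have h : ∀ y ∈ ⨆ j, T j, ((DirectSum.decompose ℛ y n : ℛ n) : R) ∈ T n := by
      intro y hy
      induction hy using Submodule.iSup_induction' with
      | mem j z hz =>
        by_cases hj : j = n
        · subst hj; rwa [DirectSum.decompose_of_mem_same ℛ (hTle j hz)]
        · rw [DirectSum.decompose_of_mem_ne ℛ (hTle j hz) hj]; exact zero_mem _
      | zero => simp
      | add y z _ _ hy hz => simpa [DirectSum.decompose_add] using add_mem hy hz
    simpa [DirectSum.decompose_of_mem_same ℛ hx] using h x (hU x)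
  have key : ∀ K a b c, a + 2 * b + 3 * c = 6 * K → ℛ 1 ^ a * ℛ 2 ^ b * ℛ 3 ^ c ≤ ℛ 6 ^ K := by
    intro K
    induction K with
    | zero =>
      intro a b c h
      have : a = 0 ∧ b = 0 ∧ c = 0 := by omega
      obtain ⟨rfl, rfl, rfl⟩ := this
      simp
    | succ K ih =>
      intro a b c h
      obtain ⟨a', b', c', ha, hb, hc, hw⟩ : ∃ a' b' c', a' ≤ a ∧ b' ≤ b ∧ c' ≤ c ∧ a' + 2 * b' + 3 * c' = 6 := by
        by_cases h1 : 6 ≤ a
        · exact ⟨6, 0, 0, h1, Nat.zero_le _, Nat.zero_le _, rfl⟩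
        by_cases h2 : 3 ≤ b
        · exact ⟨0, 3, 0, Nat.zero_le _, h2, Nat.zero_le _, rfl⟩
        by_cases h3 : 2 ≤ c
        · exact ⟨0, 0, 2, Nat.zero_le _, Nat.zero_le _, h3, rfl⟩
        by_cases h4 : a + 2 * b + 3 * c = 6
        · exact ⟨a, b, c, le_rfl, le_rfl, le_rfl, h4⟩
        · exact ⟨1, 1, 1, by omega, by omega, by omega, rfl⟩
      obtain ⟨a₀, rfl⟩ := Nat.exists_eq_add_of_le ha
      obtain ⟨b₀, rfl⟩ := Nat.exists_eq_add_of_le hb
      obtain ⟨c₀, rfl⟩ := Nat.exists_eq_add_of_le hc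
      rw [pow_succ']
      refine le_trans (le_of_eq ?_) (mul_le_mul' (hw ▸ hmon a' b' c') (ih a₀ b₀ c₀ (by omega)))
      rw [pow_add, pow_add, pow_add]; ring
  have h6 : ∀ K, ℛ (6 * K) = ℛ 6 ^ K := fun K => le_antisymm
    ((hgT _).trans (iSup_le fun a => iSup_le fun b => iSup_le fun c => iSup_le fun h => key K a b c h))
    ((hpow 6 K).trans (le_of_eq (by rw [mul_comm])))
  rw [show m * (6 * e) = 6 * (e * m) by ring, h6, h6, pow_mul]

end Groth.Agent.S14053
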