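import Groth.Statements.S14055
import Groth.Agent.L03.SurfAdj.Tools
-- import your own Groth.Agent.* helpers here

set_option autoImplicit false
universe u
open CategoryTheory CategoryTheory.Limits AlgebraicGeometry TopologicalSpace
open Surf

namespace Groth.Agent.S14055

open Groth.L22.Inter Groth.L22.Nef Groth.L22.Big Groth.L03.Euler Groth.L03.SurfNum Groth.L03.SurfAdj
open Groth.L00.Tensor (tensorIso tensorComm tensorUnitLeft tensorUnitRight tensorAssoc)


/-- Let k be an algebraically closed field and X a smooth surface over k: an integral scheme, proper and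
smooth over k, of dimension 2; let W be its canonical module, a second exterior power of Ω_{X/k}.
For an invertible module L and an integral closed one-dimensional subscheme C ⊆ X write (L·C) =
χ(O_C ⊗ L) − χ(O_C). If W is nef, that is (W·C) ≥ 0 for every such C, then X is minimal: it contains
no (−1)-curve, where a (−1)-curve is taken, through its numerical characterization, to be an
integral closed one-dimensional subscheme E with H¹(E, O_E) = 0 and (O_X(E)·E) = −1, O_X(E) being a
tensor inverse of the ideal sheaf of E. -/
theorem result (k : Type u) [Field k] [IsAlgClosed k] (X : Scheme.{u})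
    [X.Over (Spec (CommRingCat.of k))] [IsProper (X ↘ (Spec (CommRingCat.of k)))] [Smooth (X ↘ (Spec (CommRingCat.of k)))]
    [IsIntegral X] (hdim : topologicalKrullDim X = 2)
    (W : X.Modules) (hW : ExtPow.IsExtPow 2 (Omega.sheaf (X ↘ (Spec (CommRingCat.of k)))) W)
    (hnef : (∀ C : X.IdealSheafData, IsIntegral C.subscheme → topologicalKrullDim (C.support : Set X) = 1 →
      0 ≤ Curv2.euler k X (CohB1.tensorMod (ClSub.quotMod C) W) - Curv2.euler k X (ClSub.quotMod C))) :
    (∀ (E : X.IdealSheafData) (N : X.Modules), IsIntegral E.subscheme →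
      topologicalKrullDim (E.support : Set X) = 1 → ClSub.IsInverseOf N (ClSub.idealMod E) →
      Subsingleton (Coh.HH E.subscheme (Coh.structureModule E.subscheme) 1) →
      Curv2.euler k X (CohB1.tensorMod (ClSub.quotMod E) N) - Curv2.euler k X (ClSub.quotMod E) ≠ -1) := by
  intro E N hE hE1 hN hH1 hEN
  haveI := hE
  have hd2 : topologicalKrullDim X = (2 : ℕ) := hdim.trans Nat.cast_ofNat.symm
  have hreg := reg_of_smooth k (X := X)
  have hI := isInvertible_idealMod k hd2 hreg E hE1
  obtain ⟨e⟩ := hN
  let e' : CohB1.tensorMod (ClSub.idealMod E) N ≅ Coh.structureModule X := tensorComm _ _ ≪≫ e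
  have hNinv := Groth.L22.EnrSev.isInvertible_of_inverse hI e'
  have hadj := adj_num k hdim hreg hW E hI
  rw [(curve_euler k E hE1).2.2 hH1] at hadj
  have hWd := Gram.deg_eq k E hI (canonical k hdim hreg hW).1
  have hNd := Gram.deg_eq k E hI hNinv
  rw [hEN, ii_comm, Gram.ii_inverse k hd2.le hI hNinv hI e'] at hNd
  have h0 : (0 : ℚ) ≤ ((Curv2.euler k X (CohB1.tensorMod (ClSub.quotMod E) W) -
      Curv2.euler k X (ClSub.quotMod E) : ℤ) : ℚ) := by exact_mod_cast hnef E hE hE1
  push_cast at hadj hNd
  linarith

end Groth.Agent.S14055
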