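import Groth.Statements.S14056
import Groth.Agent.L03.SurfAdj.Tools
-- import your own Groth.Agent.* helpers here

set_option autoImplicit false
universe u
open CategoryTheory CategoryTheory.Limits AlgebraicGeometry TopologicalSpace
open Surf

namespace Groth.Agent.S14056

open Groth.L22.Inter Groth.L22.Nef Groth.L22.Big Groth.L03.Euler Groth.L03.SurfNum Groth.L03.SurfAdj
open Groth.L00.Tensor (tensorIso tensorComm tensorUnitLeft tensorUnitRight tensorAssoc)


/-- Let k be an algebraically closed field and X a smooth surface over k: an integral scheme, proper and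
smooth over k, of dimension 2; let W be its canonical module, a second exterior power of Ω_{X/k}.
For an invertible module L and an integral closed one-dimensional subscheme C ⊆ X write (L·C) =
χ(O_C ⊗ L) − χ(O_C). Suppose that X has non-negative Kodaira dimension, that is some tensor power
W^{⊗m} with m > 0 has a nonzero global section, and that X is minimal: it contains no (−1)-curve,
where a (−1)-curve is taken, through its numerical characterization, to be an integral closed
one-dimensional subscheme E with H¹(E, O_E) = 0 and (O_X(E)·E) = −1, O_X(E) being a tensor inverse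
of the ideal sheaf of E. Then W is nef: (W·C) ≥ 0 for every integral closed one-dimensional C ⊆ X.
(Together with the first assertion: under non-negative Kodaira dimension, X is minimal if and only
if W is nef.) -/
theorem result (k : Type u) [Field k] [IsAlgClosed k] (X : Scheme.{u})
    [X.Over (Spec (CommRingCat.of k))] [IsProper (X ↘ (Spec (CommRingCat.of k)))] [Smooth (X ↘ (Spec (CommRingCat.of k)))]
    [IsIntegral X] (hdim : topologicalKrullDim X = 2)
    (W : X.Modules) (hW : ExtPow.IsExtPow 2 (Omega.sheaf (X ↘ (Spec (CommRingCat.of k)))) W)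
    (m : ℕ) (hm : 0 < m) (hsec : Nontrivial (Coh.HH X (CohB1.tensorPow W m) 0))
    (hmin : (∀ (E : X.IdealSheafData) (N : X.Modules), IsIntegral E.subscheme →
      topologicalKrullDim (E.support : Set X) = 1 → ClSub.IsInverseOf N (ClSub.idealMod E) →
      Subsingleton (Coh.HH E.subscheme (Coh.structureModule E.subscheme) 1) →
      Curv2.euler k X (CohB1.tensorMod (ClSub.quotMod E) N) - Curv2.euler k X (ClSub.quotMod E) ≠ -1)) :
    (∀ C : X.IdealSheafData, IsIntegral C.subscheme → topologicalKrullDim (C.support : Set X) = 1 →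
      0 ≤ Curv2.euler k X (CohB1.tensorMod (ClSub.quotMod C) W) - Curv2.euler k X (ClSub.quotMod C)) := by
  intro C hC hC1
  haveI := hC
  have hd2 : topologicalKrullDim X = (2 : ℕ) := hdim.trans Nat.cast_ofNat.symm
  have hreg := reg_of_smooth k (X := X)
  have hWi := (canonical k hdim hreg hW).1
  have hI := isInvertible_idealMod k hd2 hreg C hC1
  have hd := Gram.deg_eq k C hI hWi
  by_contra hlt
  rw [not_le] at hlt
  have hpos : 0 < ii k (ClSub.idealMod C) W := by
    have h : ((Curv2.euler k X (CohB1.tensorMod (ClSub.quotMod C) W) - Curv2.euler k X (ClSub.quotMod C) : ℤ) : ℚ) < 0 := by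
      exact_mod_cast hlt
    linarith
  have hII := selfInt_neg k hd2 hreg (Groth.L18.Ample.isInvertible_tensorPow hWi m) hsec C hC1 (by
    rw [ii_pow k hd2.le hWi hI, ii_comm]
    exact mul_pos (by exact_mod_cast hm) hpos)
  rw [← intNum_eq_ii k hd2.le] at hpos hII
  have hadj := adj_num k hdim hreg hW C hI
  rw [← intNum_eq_ii k hd2.le, ← intNum_eq_ii k hd2.le] at hadj
  obtain ⟨hle, hiff⟩ := curve_euler k C hC1
  have h : 2 * Curv2.euler k X (ClSub.quotMod C) =
      FGA.intNum k X 2 ![ClSub.idealMod C, W] (Coh.structureModule X) -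
      FGA.intNum k X 2 ![ClSub.idealMod C, ClSub.idealMod C] (Coh.structureModule X) := by
    exact_mod_cast hadj
  have hpos' : 0 < FGA.intNum k X 2 ![ClSub.idealMod C, W] (Coh.structureModule X) := by exact_mod_cast hpos
  have hII' : FGA.intNum k X 2 ![ClSub.idealMod C, ClSub.idealMod C] (Coh.structureModule X) < 0 := by
    exact_mod_cast hII
  obtain ⟨N, hNi, ⟨e⟩⟩ := Groth.L08.Cube.exists_inverse hI
  refine hmin C N hC hC1 ⟨tensorComm _ _ ≪≫ e⟩ (hiff.1 (by omega)) ?_
  have hNd := Gram.deg_eq k C hI hNi
  rw [ii_comm, Gram.ii_inverse k hd2.le hI hNi hI e, neg_neg, ← intNum_eq_ii k hd2.le] at hNd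
  have hN' : Curv2.euler k X (CohB1.tensorMod (ClSub.quotMod C) N) - Curv2.euler k X (ClSub.quotMod C) =
      FGA.intNum k X 2 ![ClSub.idealMod C, ClSub.idealMod C] (Coh.structureModule X) := by exact_mod_cast hNd
  omega

end Groth.Agent.S14056
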