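import Groth.Statements.S14057
import Groth.Agent.L03.SurfAdj.Tools
import Groth.Agent.L22.Nakai.Main
-- import your own Groth.Agent.* helpers here

set_option autoImplicit false
universe u
open CategoryTheory CategoryTheory.Limits AlgebraicGeometry TopologicalSpace
open Surf

namespace Groth.Agent.S14057

open Groth.L22.Inter Groth.L22.Nef Groth.L22.Big Groth.L03.Euler Groth.L03.SurfNum Groth.L03.SurfAdj
open Groth.L00.Tensor (tensorIso tensorComm tensorUnitLeft tensorUnitRight tensorAssoc)


/-- Let k be an algebraically closed field and X a smooth surface over k: an integral scheme, proper and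
smooth over k, of dimension 2; let W be its canonical module, a second exterior power of Ω_{X/k}.
For an invertible module L and an integral closed one-dimensional subscheme C ⊆ X write (L·C) =
χ(O_C ⊗ L) − χ(O_C), and (W·W) for the self-intersection number of W (the alternating sum χ(O_X) −
2χ(W) + χ(W ⊗ W)). Suppose W is nef and (W·W) > 0. Then W is ample if and only if X contains no
(−2)-curve, where a (−2)-curve is taken, through its numerical characterization, to be an integral
closed one-dimensional subscheme E with H¹(E, O_E) = 0 and (O_X(E)·E) = −2, O_X(E) being a tensor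
inverse of the ideal sheaf of E. (The published statement is for a minimal surface of general type;
its proof uses exactly that the canonical module is nef with positive self-intersection, which is
how the hypothesis is written here.) -/
theorem result (k : Type u) [Field k] [IsAlgClosed k] (X : Scheme.{u})
    [X.Over (Spec (CommRingCat.of k))] [IsProper (X ↘ (Spec (CommRingCat.of k)))] [Smooth (X ↘ (Spec (CommRingCat.of k)))]
    [IsIntegral X] (hdim : topologicalKrullDim X = 2)
    (W : X.Modules) (hW : ExtPow.IsExtPow 2 (Omega.sheaf (X ↘ (Spec (CommRingCat.of k)))) W)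
    (hnef : (∀ C : X.IdealSheafData, IsIntegral C.subscheme → topologicalKrullDim (C.support : Set X) = 1 →
      0 ≤ Curv2.euler k X (CohB1.tensorMod (ClSub.quotMod C) W) - Curv2.euler k X (ClSub.quotMod C)))
    (hpos : 0 < FGA.intNum k X 2 ![W, W] (Coh.structureModule X)) :
    CohB1.IsAmple W ↔
    (∀ (E : X.IdealSheafData) (N : X.Modules), IsIntegral E.subscheme →
      topologicalKrullDim (E.support : Set X) = 1 → ClSub.IsInverseOf N (ClSub.idealMod E) →
      Subsingleton (Coh.HH E.subscheme (Coh.structureModule E.subscheme) 1) →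
      Curv2.euler k X (CohB1.tensorMod (ClSub.quotMod E) N) - Curv2.euler k X (ClSub.quotMod E) ≠ -2) := by
  have hd2 : topologicalKrullDim X = (2 : ℕ) := hdim.trans Nat.cast_ofNat.symm
  have hreg := reg_of_smooth k (X := X)
  have hWi := (canonical k hdim hreg hW).1
  constructor
  · intro hamp E N hE hE1 hN hH1 hEN
    haveI := hE
    have hI := isInvertible_idealMod k hd2 hreg E hE1
    obtain ⟨e⟩ := hN
    let e' : CohB1.tensorMod (ClSub.idealMod E) N ≅ Coh.structureModule X := tensorComm _ _ ≪≫ e
    have hNinv := Groth.L22.EnrSev.isInvertible_of_inverse hI e'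
    have hadj := adj_num k hdim hreg hW E hI
    rw [(curve_euler k E hE1).2.2 hH1] at hadj
    have hNd := Gram.deg_eq k E hI hNinv
    rw [hEN, ii_comm, Gram.ii_inverse k hd2.le hI hNinv hI e'] at hNd
    have hlt := Gram.curve_ample_neg k hd2.le hamp E hE1 hI
    push_cast at hadj hNd
    linarith
  · intro hno
    haveI := Groth.L21.RR.isNoetherian_of_proper (X := X) k
    have hd : topologicalKrullDim (Set.univ : Set X) = (2 : ℕ) :=
      (IsHomeomorph.topologicalKrullDim_eq _ (Homeomorph.Set.univ X).isHomeomorph).trans hd2
    have hWW : 0 < ii k W W := by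
      rw [← intNum_eq_ii k hd2.le]
      exact_mod_cast hpos
    refine Groth.L22.Nakai.isAmple_of_pos k hWi fun y d hd0 hyd => ?_
    have hdle : d ≤ 2 := by
      have := hyd.symm.trans_le ((topologicalKrullDim_set_mono (Set.subset_univ _)).trans hd.le)
      exact_mod_cast this
    rcases (show d = 1 ∨ d = 2 by omega) with rfl | rfl
    · haveI := isIntegral_pt y
      have hy1 : topologicalKrullDim ((pt y).support : Set X) = 1 := by
        rw [dim_support (pt y), genericPoint_pt, hyd, Nat.cast_one]
      have hI := isInvertible_idealMod k hd2 hreg (pt y) hy1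
      rw [altT_quotMod_eq k hWi (pt y) hI, Left.neg_pos_iff]
      have hn : (0 : ℚ) ≤ ((Curv2.euler k X (CohB1.tensorMod (ClSub.quotMod (pt y)) W) -
          Curv2.euler k X (ClSub.quotMod (pt y)) : ℤ) : ℚ) := by exact_mod_cast hnef (pt y) inferInstance hy1
      rw [Gram.deg_eq k (pt y) hI hWi] at hn
      by_contra hge
      have h0 : ii k W (ClSub.idealMod (pt y)) = 0 := by rw [ii_comm]; linarith
      obtain ⟨H, hH⟩ := Groth.L03.SurfAmple.exists_ample k X hd2 hreg
      obtain ⟨hle0, hz⟩ := eq_zero_of_orth_ii k hd2.le hWi hI hH hd2 hWW h0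
      have hII : ii k (ClSub.idealMod (pt y)) (ClSub.idealMod (pt y)) < 0 := lt_of_le_of_ne hle0 fun he => by
        have := hz he H hH.1
        linarith [Gram.curve_ample_neg k hd2.le hH (pt y) hy1 hI]
      rw [← intNum_eq_ii k hd2.le] at hII
      have hadj := adj_num k hdim hreg hW (pt y) hI
      rw [ii_comm k (ClSub.idealMod (pt y)) W, h0, zero_sub, ← intNum_eq_ii k hd2.le] at hadj
      obtain ⟨hle, hiff⟩ := curve_euler k (pt y) hy1
      have h : 2 * Curv2.euler k X (ClSub.quotMod (pt y)) =
          - FGA.intNum k X 2 ![ClSub.idealMod (pt y), ClSub.idealMod (pt y)] (Coh.structureModule X) := by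
        exact_mod_cast hadj
      have hII' : FGA.intNum k X 2 ![ClSub.idealMod (pt y), ClSub.idealMod (pt y)] (Coh.structureModule X) < 0 := by
        exact_mod_cast hII
      obtain ⟨N, hNi, ⟨e⟩⟩ := Groth.L08.Cube.exists_inverse hI
      refine hno (pt y) N inferInstance hy1 ⟨tensorComm _ _ ≪≫ e⟩ (hiff.1 (by omega)) ?_
      have hNd := Gram.deg_eq k (pt y) hI hNi
      rw [ii_comm, Gram.ii_inverse k hd2.le hI hNi hI e, neg_neg, ← intNum_eq_ii k hd2.le] at hNd
      have hN' : Curv2.euler k X (CohB1.tensorMod (ClSub.quotMod (pt y)) N) - Curv2.euler k X (ClSub.quotMod (pt y)) =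
          FGA.intNum k X 2 ![ClSub.idealMod (pt y), ClSub.idealMod (pt y)] (Coh.structureModule X) := by
        exact_mod_cast hNd
      omega
    · have hy : genericPoint X = y := eq_of_specializes_top isClosed_univ hd.le hyd trivial (genericPoint_specializes y)
      rw [← hy, altT_integral k hd2 fun _ => hWi, show (fun _ : Fin 2 => W) = ![W, W] from
        funext fun i => by fin_cases i <;> rfl, ii_vec]
      exact hWW

end Groth.Agent.S14057
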