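import Groth.Statements.S14058
import Groth.Agent.L16.LerayEuler.Resolution

set_option autoImplicit false
universe u
open CategoryTheory CategoryTheory.Limits AlgebraicGeometry TopologicalSpace
open Surf

namespace Groth.Agent.S14058

/-- Let k be an algebraically closed field and X a normal surface over k: an integral normal scheme,
proper over k, of dimension 2. Let π : S → X be a resolution of X: S is an integral scheme of
dimension 2 smooth over k, π is proper, the map O_X → π_*O_S is an isomorphism, and π restricts to
an isomorphism over the open subset of regular points of X. Then R¹π_*O_S = 0 if and only if χ(S,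
O_S) = χ(X, O_X). Here R¹π_* is the first right derived functor of the direct image on abelian
sheaves, applied to the abelian sheaf underlying O_S. -/
theorem result (k : Type u) [Field k] [IsAlgClosed k]
    (X : Scheme.{u}) [X.Over (Spec (CommRingCat.of k))] [IsProper (X ↘ (Spec (CommRingCat.of k)))] [IsIntegral X]
    (hdimX : topologicalKrullDim X = 2) (hnorm : Pi1.IsNormalScheme X)
    (S : Scheme.{u}) (π : S ⟶ X) [IsProper π] [IsIntegral S] (hdimS : topologicalKrullDim S = 2)
    [Smooth (π ≫ (X ↘ (Spec (CommRingCat.of k))))]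
    (hO : IsIso (ClSub.unitToPush π))
    (U : X.Opens) (hU : ∀ x : X, x ∈ U ↔ IsRegularLocalRing (X.presheaf.stalk x)) (hiso : IsIso (π ∣_ U)) :
    letI : S.Over (Spec (CommRingCat.of k)) := ⟨π ≫ (X ↘ (Spec (CommRingCat.of k)))⟩
    IsZero ((Coh.RpushAb π 1).obj (Coh.toAb (Coh.structureModule S))) ↔
      Curv2.euler k S (Coh.structureModule S) = Curv2.euler k X (Coh.structureModule X) := by
  letI : S.Over (Spec (CommRingCat.of k)) := ⟨π ≫ (X ↘ (Spec (CommRingCat.of k)))⟩
  haveI : IsProper (S ↘ Spec (CommRingCat.of k)) := inferInstanceAs (IsProper (π ≫ _))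
  haveI := hiso
  haveI := hO
  have hU' : ∀ x : X, ¬ IsClosed ({x} : Set X) → x ∈ U := fun x hx =>
    (hU x).2 (Groth.L16.LerayEuler.regular_of_not_isClosed k hdimX.le hnorm hx)
  have hgen : genericPoint X ∈ U := hU' _ fun hc => by
    have hs : Subsingleton X := ⟨fun a b => by
      have ha := (genericPoint_specializes a).mem_closed hc rfl
      have hb := (genericPoint_specializes b).mem_closed hc rfl
      exact ha.trans hb.symm⟩
    have h0 := topologicalKrullDim_zero_of_discreteTopology X
    rw [hdimX] at h0
    norm_num at h0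
  refine Groth.L16.LerayEuler.isZero_RpushAb_one_iff π k rfl (asIso (ClSub.unitToPush π)).symm U hU' fun x => ?_
  by_cases hx : x ∈ U
  · exact (Groth.L16.LerayEuler.fiber_dim_le_zero π U hx).trans (by norm_num)
  · obtain ⟨⟨z, hz⟩, hzg⟩ := (Scheme.homeoOfIso (asIso (π ∣_ U))).surjective ⟨genericPoint X, hgen⟩
    have hz' : π z = genericPoint X := (morphismRestrict_base_coe π U ⟨z, hz⟩).symm.trans (congrArg Subtype.val hzg)
    exact Groth.L16.LerayEuler.fiber_dim_le_one π hdimS (not_not.1 fun hc => hx (hU' x hc))
      ⟨z, fun h => hx (h ▸ hz'.symm ▸ hgen)⟩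
end Groth.Agent.S14058
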