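import Groth.Statements.S14059
import Groth.Agent.L21.Disc.Hurwitz
-- import your own Groth.Agent.* helpers here

set_option autoImplicit false
universe u
open CategoryTheory MonoidalCategory CartesianMonoidalCategory MonObj GrpObj AlgebraicGeometry
open GrpSch

namespace Groth.Agent.S14059

/-- Let k be an algebraically closed field and G a group scheme of finite type over k, with unit point e
(the image of the unit section). Then the tangent space of G at e is zero, that is the cotangent
space m_e/m_e² of the local ring O_{G,e} vanishes, if and only if G is isomorphic over k to a finite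
disjoint union of copies of Spec k, stated as: the underlying space of G is finite and discrete and
the structure map k → O_{G,g} is bijective for every point g. (The published statement is over an
arbitrary field; the group scheme of cube roots of unity over the rationals has zero tangent space
at the unit but a point with residue field larger than the base field, and the printed argument
translates by rational points, so the base field is taken algebraically closed here.) -/
theorem result (k : Type u) [Field k] [IsAlgClosed k]
    (G : Over (Spec (CommRingCat.of k))) [GrpObj G] [LocallyOfFiniteType G.hom] [QuasiCompact G.hom]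
    (e : G.left) (he : e ∈ Set.range (η[G]).left.base) :
    letI : G.left.Over (Spec (CommRingCat.of k)) := ⟨G.hom⟩
    Subsingleton (IsLocalRing.CotangentSpace (G.left.presheaf.stalk e)) ↔
      (Finite G.left ∧ DiscreteTopology G.left ∧
        ∀ g : G.left, Function.Bijective (Curv2.stalkMap k G.left g)) := by
  letI : G.left.Over (Spec (CommRingCat.of k)) := ⟨G.hom⟩
  haveI : LocallyOfFiniteType (G.left ↘ Spec (CommRingCat.of k)) := inferInstanceAs (LocallyOfFiniteType G.hom)
  haveI : IsLocallyNoetherian G.left := LocallyOfFiniteType.isLocallyNoetherian G.hom
  constructor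
  · intro hsub
    have hOe : IsField (G.left.presheaf.stalk e) := IsLocalRing.subsingleton_cotangentSpace_iff.1 hsub
    obtain ⟨c₀, hc₀⟩ := he
    have hfield : ∀ g : G.left, IsClosed ({g} : Set G.left) → IsField (G.left.presheaf.stalk g) := by
      intro g hg
      let p : 𝟙_ (Over (Spec (CommRingCat.of k))) ⟶ G :=
        Over.homMk (pointOfClosedPoint G.hom g hg) (pointOfClosedPoint_comp G.hom g hg)
      let T : G ⟶ G := (toUnit G ≫ p) * 𝟙 G
      let T' : G ⟶ G := (toUnit G ≫ p)⁻¹ * 𝟙 G
      have h1 : T ≫ T' = 𝟙 G := by
        simp only [T, T', MonObj.comp_mul, GrpObj.comp_inv, Category.comp_id]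
        rw [← Category.assoc, toUnit_unique (((toUnit G ≫ p) * 𝟙 G) ≫ toUnit G) (toUnit G)]
        group
      have h2 : T' ≫ T = 𝟙 G := by
        simp only [T, T', MonObj.comp_mul, GrpObj.comp_inv, Category.comp_id]
        rw [← Category.assoc, toUnit_unique (((toUnit G ≫ p)⁻¹ * 𝟙 G) ≫ toUnit G) (toUnit G)]
        group
      have hη : η[G] ≫ T = p := by
        simp only [T, MonObj.comp_mul, Category.comp_id]
        rw [← Category.assoc, toUnit_unique (η[G] ≫ toUnit G) (𝟙 _), Category.id_comp]
        rw [show η[G] = (1 : 𝟙_ (Over (Spec (CommRingCat.of k))) ⟶ G) by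
          rw [Hom.one_def, toUnit_unit, Category.id_comp]]
        exact mul_one _
      haveI : IsIso T := ⟨T', h1, h2⟩
      haveI : IsIso T.left := inferInstanceAs (IsIso ((Over.forget _).map T))
      have hTe : T.left e = g := by
        rw [← hc₀]
        have h3 := congr(($hη).left c₀)
        exact h3.trans (pointOfClosedPoint_apply G.hom g hg c₀)
      rw [← hTe]
      exact MulEquiv.isField hOe (asIso (T.left.stalkMap e)).commRingCatIsoToRingEquiv.toMulEquiv
    haveI : JacobsonSpace G.left := LocallyOfFiniteType.jacobsonSpace G.hom
    have hmin : ∀ g : G.left, IsClosed ({g} : Set G.left) → ∀ z, z ⤳ g → z = g := by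
      intro g hg z hz
      obtain ⟨q, rfl⟩ : z ∈ Set.range (G.left.fromSpecStalk g) := by
        rw [Scheme.range_fromSpecStalk]; exact hz
      letI := (hfield g hg).toField
      rw [Subsingleton.elim (α := PrimeSpectrum (G.left.presheaf.stalk g)) q (IsLocalRing.closedPoint _)]
      exact Scheme.fromSpecStalk_closedPoint
    have hcl : ∀ x : G.left, IsClosed ({x} : Set G.left) := fun x => by
      obtain ⟨g, hg, hgc⟩ := nonempty_inter_closedPoints (Z := closure ({x} : Set G.left))
        ⟨x, subset_closure rfl⟩ isClosed_closure.isLocallyClosed
      rw [hmin g hgc x (specializes_iff_mem_closure.2 hg)]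
      exact hgc
    haveI : CompactSpace G.left := QuasiCompact.compactSpace_of_compactSpace G.hom
    haveI : AlgebraicGeometry.IsNoetherian G.left := {}
    haveI : T1Space G.left := ⟨hcl⟩
    have hfin : Finite G.left := by
      have hmem : ∀ x : G.left, ({x} : Set G.left) ∈ irreducibleComponents G.left := fun x => by
        refine ⟨isIrreducible_singleton, fun W hW hle w hw => ?_⟩
        obtain ⟨C, hC, hWC⟩ := exists_mem_irreducibleComponents_subset_of_isIrreducible W hW
        have hgen := hC.1.isGenericPoint_genericPoint (isClosed_of_mem_irreducibleComponents C hC)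
        have hgx := hmin x (hcl x) hC.1.genericPoint (hgen.specializes (hWC (hle rfl)))
        have hCx : C = {x} := by rw [← hgen.def, hgx, (hcl x).closure_eq]
        exact hCx ▸ hWC hw
      haveI := (TopologicalSpace.NoetherianSpace.finite_irreducibleComponents (α := G.left)).to_subtype
      exact Finite.of_injective (fun x => (⟨{x}, hmem x⟩ : irreducibleComponents G.left))
        fun a b h => Set.singleton_injective (congrArg Subtype.val h)
    refine ⟨hfin, inferInstance, fun g => ?_⟩
    letI := Curv2.resAlgebra k G.left g
    haveI := Groth.L21.Disc.finite_residueField_of_isClosed k (hcl g)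
    have hb : Function.Bijective (Curv2.resMap k G.left g) :=
      IsAlgClosed.algebraMap_bijective_of_isIntegral (k := k) (K := G.left.residueField g)
    letI := (hfield g (hcl g)).toField
    have hr : Function.Bijective (G.left.residue g).hom :=
      ⟨RingHom.injective (R := G.left.presheaf.stalk g) (G.left.residue g).hom, G.left.residue_surjective g⟩
    exact (Function.Bijective.of_comp_iff' hr (Curv2.stalkMap k G.left g)).1 hb
  · rintro ⟨-, -, hb⟩
    rw [IsLocalRing.subsingleton_cotangentSpace_iff]
    exact MulEquiv.isField (Field.toIsField k) (RingEquiv.ofBijective _ (hb e)).symm.toMulEquiv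


end Groth.Agent.S14059
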