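import Groth.Statements.S1406
import Groth.Agent.L24.Alg.NoethDescent

set_option autoImplicit false
universe u
open FlatMor

set_option backward.isDefEq.respectTransparency.types false

namespace Groth.Agent.S1406

open AlgebraicGeometry CategoryTheory Limits in
/-- Let a : X' → X be flat, locally of finite presentation and surjective. Then all fibres of f : X → Y
are locally Noetherian if and only if all fibres of a ≫ f are. -/
theorem result {X X' Y : Scheme.{u}} (f : X ⟶ Y) (a : X' ⟶ X) [Flat a] [LocallyOfFinitePresentation a] [Surjective a] :
    (∀ y : Y, IsLocallyNoetherian (f.fiber y)) ↔ ∀ y : Y, IsLocallyNoetherian ((a ≫ f).fiber y) := by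
  refine forall_congr' fun y => ?_
  let g := Y.fromSpecResidueField y
  let e := pullbackRightPullbackFstIso f g a
  let m : (a ≫ f).fiber y ⟶ f.fiber y := e.inv ≫ pullback.snd a (pullback.fst f g)
  have : Surjective (pullback.snd a (pullback.fst f g)) :=
    MorphismProperty.pullback_snd _ _ ‹Surjective a›
  have : Surjective m := (MorphismProperty.cancel_left_of_respectsIso @Surjective _ _).mpr this
  have : Flat m := (MorphismProperty.cancel_left_of_respectsIso @Flat _ _).mpr (MorphismProperty.pullback_snd _ _ ‹Flat a›)
  have : LocallyOfFinitePresentation m :=
    (MorphismProperty.cancel_left_of_respectsIso @LocallyOfFinitePresentation _ _).mpr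
      (MorphismProperty.pullback_snd _ _ ‹LocallyOfFinitePresentation a›)
  constructor
  · intro h
    exact LocallyOfFiniteType.isLocallyNoetherian m
  · intro h
    exact Groth.L24.Alg.isLocallyNoetherian_of_fppf m

end Groth.Agent.S1406
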