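import Groth.Statements.S14060
import Mathlib.CategoryTheory.Abelian.Exact
import Mathlib.Algebra.Homology.DerivedCategory.Ext.ExactSequences
-- import your own Groth.Agent.* helpers here

set_option autoImplicit false
universe u
open CategoryTheory CategoryTheory.Limits TopologicalSpace
open CohTop

namespace Groth.Agent.S14060

universe w

theorem ext_kernel_vanish {A : Type*} [Category A] [Abelian A] [HasExt.{w} A] (X : A) (F : ChainComplex A ℕ)
    (r : ℕ) (hmono : Mono (F.d r (r - 1))) (hex : ∀ j : ℕ, 1 ≤ j → j < r → F.ExactAt j)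
    (hvan : ∀ j : ℕ, 2 ≤ j → j ≤ r → Subsingleton (Abelian.Ext X (F.X j) (j - 1))) :
    ∀ j, 1 ≤ j → j ≤ r → Subsingleton (Abelian.Ext X (kernel (F.d j (j - 1))) j) := by
  intro j hj hjr
  induction hjr using Nat.decreasingInduction with
  | self =>
    haveI := hmono
    refine subsingleton_of_forall_eq 0 fun x => ?_
    rw [← x.comp_mk₀_id, (isZero_kernel_of_mono (F.d r (r - 1))).eq_of_src (𝟙 _) 0, Abelian.Ext.mk₀_zero, Abelian.Ext.comp_zero]
  | of_succ j hjr ih =>
    haveI := ih (by omega)
    haveI : Subsingleton (Abelian.Ext X (F.X (j + 1)) j) := hvan (j + 1) (by omega) (by omega)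
    let g : F.X (j + 1) ⟶ kernel (F.d j (j - 1)) := kernel.lift _ (F.d (j + 1) j) (F.d_comp_d _ _ _)
    let S : ShortComplex A := ShortComplex.mk (kernel.ι (F.d (j + 1) (j + 1 - 1))) g (by
      rw [← cancel_mono (kernel.ι (F.d j (j - 1))), Category.assoc, kernel.lift_ι, zero_comp]
      exact kernel.condition (F.d (j + 1) (j + 1 - 1)))
    have hS : S.ShortExact := by
      have he := (F.exactAt_iff' (j + 1) j (j - 1) ((ComplexShape.down ℕ).prev_eq' rfl)
        ((ComplexShape.down ℕ).next_eq' (show j - 1 + 1 = j by omega))).1 (hex j hj hjr)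
      haveI : Epi g := (ShortComplex.exact_iff_epi_kernel_lift _).1 he
      refine { exact := ShortComplex.exact_of_f_is_kernel _ ?_, epi_g := ‹Epi g› }
      refine KernelFork.IsLimit.ofι' _ _ fun {T} k hk => ⟨kernel.lift _ k ?_, kernel.lift_ι _ _ _⟩
      change k ≫ F.d (j + 1) j = 0
      rw [← kernel.lift_ι (F.d j (j - 1)) (F.d (j + 1) j) (F.d_comp_d _ _ _), ← Category.assoc, hk, zero_comp]
    refine subsingleton_of_forall_eq 0 fun x => ?_
    obtain ⟨y, rfl⟩ := Abelian.Ext.covariant_sequence_exact₃ X hS x (rfl : j + 1 = j + 1)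
      (@Subsingleton.elim (Abelian.Ext X S.X₁ (j + 1)) (ih (by omega)) _ _)
    rw [@Subsingleton.elim (Abelian.Ext X S.X₂ j) (hvan (j + 1) (by omega) (by omega)) y 0, Abelian.Ext.zero_comp]

theorem surjective_d {A : Type*} [Category A] [Abelian A] [HasExt.{w} A] (X : A) (F : ChainComplex A ℕ)
    (r : ℕ) (hr : 1 ≤ r) (hmono : Mono (F.d r (r - 1))) [Epi (F.d 1 0)] (hex : ∀ j : ℕ, 1 ≤ j → j < r → F.ExactAt j)
    (hvan : ∀ j : ℕ, 2 ≤ j → j ≤ r → Subsingleton (Abelian.Ext X (F.X j) (j - 1))) :
    Function.Surjective (fun x : Abelian.Ext X (F.X 1) 0 => x.comp (Abelian.Ext.mk₀ (F.d 1 0)) (add_zero 0)) := by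
  let S : ShortComplex A := ShortComplex.mk (kernel.ι (F.d 1 0)) (F.d 1 0) (kernel.condition _)
  have hS : S.ShortExact := { exact := ShortComplex.exact_of_f_is_kernel _ (kernelIsKernel _) }
  intro x
  exact Abelian.Ext.covariant_sequence_exact₃ X hS x (rfl : 0 + 1 = 1)
    (@Subsingleton.elim _ (ext_kernel_vanish X F r hmono hex hvan 1 le_rfl hr) _ _)

/-- Let X be a topological space, r ≥ 1 an integer and 0 → F_r → ⋯ → F_2 → F_1 → F_0 → 0 an exact
sequence of sheaves of abelian groups on X, presented as a chain complex F of abelian sheaves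
indexed by the natural numbers whose differential F_r → F_{r−1} is a monomorphism, whose
differential F_1 → F_0 is an epimorphism of sheaves, and which is exact at F_j for 1 ≤ j ≤ r − 1
(for r = 1 the single map F_1 → F_0 is mono and epi). Assume the sheaf cohomology groups H^{j−1}(X,
F_j) vanish for 2 ≤ j ≤ r. Then the map on global sections F_1(X) → F_0(X) is surjective. (The
instance hypothesis that the category of abelian sheaves on X has Ext groups in the universe of X
holds for every X, abelian sheaves on a space forming a Grothendieck abelian category; it is the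
setting in which sheaf cohomology is defined.) -/
theorem result (X : TopCat.{u})
    [HasExt.{u} (Sheaf (Opens.grothendieckTopology X) AddCommGrpCat.{u})]
    (r : ℕ) (hr : 1 ≤ r)
    (F : ChainComplex (Sheaf (Opens.grothendieckTopology X) AddCommGrpCat.{u}) ℕ)
    (hmono : Mono (F.d r (r - 1))) (hepi : Epi (F.d 1 0))
    (hex : ∀ j : ℕ, 1 ≤ j → j < r → F.ExactAt j)
    (hvan : ∀ j : ℕ, 2 ≤ j → j ≤ r → Subsingleton (Sheaf.H (F.X j) (j - 1))) :
    Function.Surjective ((F.d 1 0).hom.app (Opposite.op ⊤)) := by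
  intro s
  let hT : Limits.IsTerminal (⊤ : Opens X) := Limits.IsTerminal.ofUniqueHom (fun Y => homOfLE le_top) fun _ _ => Subsingleton.elim _ _
  haveI := hepi
  obtain ⟨x, hx⟩ := surjective_d _ F r hr hmono hex hvan ((Sheaf.H.equiv₀ (F.X 0) hT).symm s)
  refine ⟨Sheaf.H.equiv₀ (F.X 1) hT x, ?_⟩
  rw [Sheaf.H.equiv₀_naturality]
  exact (congrArg _ hx).trans (AddEquiv.apply_symm_apply _ s)

end Groth.Agent.S14060
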