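import Groth.Statements.S14064
import Groth.Agent.L03.SurfAmple.Curve
import Groth.Agent.L22.CurveAmple.Section
import Groth.Agent.L22.Big.SurfaceBasic
import Groth.Agent.L22.Big.Nef
-- import your own Groth.Agent.* helpers here

set_option autoImplicit false
universe u
open CategoryTheory CategoryTheory.Limits AlgebraicGeometry TopologicalSpace
open Surf

namespace Groth.Agent.S14064

open Groth.L00.Tensor (tensorIso tensorComm tensorUnitLeft tensorUnitRight tensorMiddleFour tensorPowAdd tensorAssoc)

/-- Fix a field k, an integral proper k-scheme X, and an invertible O_X-module L with tensor inverse M.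
Suppose that L^{⊗j} has a nonzero global section for every j ≥ 4 and that no tensor power L^{⊗j}
with j ≥ 1 is isomorphic to O_X. Then H⁰(X, M^{⊗i}) = 0 for every i ≥ 1: the negative powers of L
have no nonzero global sections. (The published statement is for the canonical module of a minimal
surface of general type over an algebraically closed field, where the fourth and higher powers are
globally generated by a deep result quoted without proof, and non-triviality of the positive powers
comes from bigness; the published deduction of this part uses exactly the two hypotheses carried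
here, on an integral proper X.) -/
theorem result (k : Type u) [Field k]
    (X : Scheme.{u}) [X.Over (Spec (CommRingCat.of k))] [IsProper (X ↘ (Spec (CommRingCat.of k)))] [IsIntegral X]
    (L M : X.Modules) (hL : PicF.IsInvertible L) (hM : ClSub.IsInverseOf M L)
    (hsec : ∀ j : ℕ, 4 ≤ j → Nontrivial (Coh.HH X (CohB1.tensorPow L j) 0))
    (hnt : ∀ j : ℕ, 1 ≤ j → IsEmpty (CohB1.tensorPow L j ≅ Coh.structureModule X))
    (i : ℕ) (hi : 1 ≤ i) :
    Subsingleton (Coh.HH X (CohB1.tensorPow M i) 0) := by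
  haveI := Groth.L21.RR.isNoetherian_of_proper (X := X) k
  obtain ⟨eM⟩ := hM
  have hMi : PicF.IsInvertible M := Groth.L22.Big.isInvertible_inv hL ⟨eM⟩
  have hpL := Groth.L18.Ample.isInvertible_tensorPow hL
  have hpM := Groth.L18.Ample.isInvertible_tensorPow hMi
  have hinv : ∀ n, Nonempty (CohB1.tensorMod (CohB1.tensorPow L n) (CohB1.tensorPow M n) ≅ Coh.structureModule X) := by
    intro n
    induction n with
    | zero => exact ⟨tensorUnitLeft _⟩
    | succ n ih =>
      obtain ⟨e⟩ := ih
      exact ⟨tensorMiddleFour _ _ _ _ ≪≫ tensorIso e (tensorComm L M ≪≫ eM) ≪≫ tensorUnitLeft _⟩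
  have this : ∀ N : X.Modules, Nontrivial (Coh.HH X N 0) → Nonempty {φ : Coh.structureModule X ⟶ N // φ ≠ 0} :=
    fun N hN => by
      haveI := hN
      obtain ⟨φ, hφ⟩ := Groth.L21.RR.exists_hom_ne_zero (L := N)
      exact ⟨⟨φ, hφ⟩⟩
  have hprod : ∀ {A B C : X.Modules}, PicF.IsInvertible A → PicF.IsInvertible B →
      ∀ e : CohB1.tensorMod A B ≅ C, Nontrivial (Coh.HH X A 0) → Nontrivial (Coh.HH X B 0) →
      ∃ (a : Coh.structureModule X ⟶ A) (b : Coh.structureModule X ⟶ B),
        genericPoint X ∈ CohB1.genLocus C (Groth.L18.GenLoc.tensHom a b ≫ e.hom) ∧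
          CohB1.genLocus C (Groth.L18.GenLoc.tensHom a b ≫ e.hom) = CohB1.genLocus A a ⊓ CohB1.genLocus B b := by
    intro A B C hA hB e hnA hnB
    obtain ⟨⟨a, ha⟩⟩ := this A hnA
    obtain ⟨⟨b, hb⟩⟩ := this B hnB
    have h := Groth.L16.genLocus_comp_iso (Groth.L18.GenLoc.tensHom a b) e
    rw [Groth.L18.GenLoc.genLocus_tensHom hA hB] at h
    refine ⟨a, b, ?_, h⟩
    rw [h]
    exact ⟨Groth.L22.CurveAmple.genericPoint_mem_genLocus hA ha, Groth.L22.CurveAmple.genericPoint_mem_genLocus hB hb⟩
  have hnz : ∀ {C : X.Modules}, PicF.IsInvertible C → ∀ φ : Coh.structureModule X ⟶ C,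
      genericPoint X ∈ CohB1.genLocus C φ → φ ≠ 0 := by
    intro C hC φ hη h0
    haveI : Coh.IsQCoh C := Groth.L21.Extend.isQCoh_of_isInvertible hC
    obtain ⟨e, he⟩ := Groth.L21.RR.exists_frame_stalk hC (genericPoint X)
    obtain ⟨v, hv⟩ := (Groth.L21.RR.mem_genLocus_iff hC φ _).1 hη e
    rw [h0] at hv
    have h1 : Groth.L21.RR.st (0 : Coh.structureModule X ⟶ C) (genericPoint X) v = 0 := by
      have h : (Groth.L00.Stk.F X (genericPoint X)).map (0 : Coh.structureModule X ⟶ C) = 0 := Functor.map_zero _ _ _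
      exact congr($h v)
    refine one_ne_zero (α := X.presheaf.stalk (genericPoint X)) (he.1 ?_)
    show (1 : X.presheaf.stalk (genericPoint X)) • e = (0 : X.presheaf.stalk (genericPoint X)) • e
    rw [zero_smul]
    exact (one_smul _ e).trans (hv.symm.trans h1)
  rw [← not_nontrivial_iff_subsingleton]
  intro hn
  have hQ : ∀ n j, 4 ≤ j + n * i → Nontrivial (Coh.HH X (CohB1.tensorPow L j) 0) := by
    intro n
    induction n with
    | zero => intro j hj; exact hsec j (by simpa using hj)
    | succ n ih =>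
      intro j hj
      obtain ⟨e⟩ := hinv i
      let e' : CohB1.tensorMod (CohB1.tensorPow L (j + i)) (CohB1.tensorPow M i) ≅ CohB1.tensorPow L j :=
        tensorIso (tensorPowAdd L j i).symm (Iso.refl _) ≪≫ tensorAssoc _ _ _ ≪≫ tensorIso (Iso.refl _) e ≪≫
          tensorUnitRight _
      obtain ⟨a, b, hη, -⟩ := hprod (hpL _) (hpM _) e' (ih (j + i) (by rw [Nat.succ_mul] at hj; omega)) hn
      refine ⟨⟨(Groth.L21.RR.e0 _).symm ((Groth.L18.GenLoc.tensHom a b ≫ e'.hom).app ⊤ (Groth.L21.RR.oneSec X)), 0,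
        fun h0 => hnz (hpL j) _ hη (Groth.L21.RR.eq_zero_of_st_one _ fun z => ?_)⟩⟩
      rw [AddEquiv.map_eq_zero_iff] at h0
      rw [Groth.L21.RR.st_one _ z (W := ⊤) trivial, h0]
      simp [Groth.L18.Frame.rs]
  obtain ⟨e⟩ := hinv i
  obtain ⟨a, b, hη, hg⟩ := hprod (hpL i) (hpM i) e (hQ 4 i (by nlinarith)) hn
  refine (hnt i hi).false (Groth.L03.SurfAmple.nonempty_iso_of_genLocus_top a ?_).some
  rw [Groth.L16.genLocus_endo] at hg hη
  have hne : (show Γ(X, ⊤) from (Groth.L18.GenLoc.tensHom a b ≫ e.hom).app ⊤ (1 : Γ(X, ⊤))) ≠ 0 := fun h0 => by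
    rw [h0, Scheme.basicOpen_zero] at hη
    exact hη
  obtain ⟨c, hc⟩ := (AlgebraicGeometry.isField_of_universallyClosed (K := k)
    (X ↘ Spec (CommRingCat.of k))).mul_inv_cancel hne
  rw [X.basicOpen_of_isUnit (IsUnit.of_mul_eq_one _ hc)] at hg
  exact top_le_iff.1 (hg.le.trans inf_le_left)

end Groth.Agent.S14064
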