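import Groth.Statements.S14065
import Groth.Agent.L22.EnrSev.Basic
import Groth.Agent.L21.Bundle.Sections
import Groth.Agent.L21.Bundle.Twist
import Groth.Agent.L21.Bundle.Calc
import Groth.Agent.L21.Duality.Main
import Groth.Agent.L21.Smooth.Scheme
import Groth.Agent.L21.RR.GeomGenusZero
import Groth.Agent.L21.Bundle.Results

set_option autoImplicit false
set_option backward.isDefEq.respectTransparency false
set_option backward.isDefEq.respectTransparency.types false
universe u
open CategoryTheory CategoryTheory.Limits AlgebraicGeometry TopologicalSpace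
open Curves

namespace Groth.Agent.S14065

/-- Let k be an algebraically closed field and C a smooth projective connected curve over k — an
integral scheme, proper and smooth over k, of dimension 1 — of genus g = dim_k H¹(C, O_C) with g ≥
2, and let T be the tangent module of C, a tensor inverse of the module of differentials Ω_{C/k}.
Then dim_k H¹(C, T) = 3g − 3. (The published proof makes this computation, together with the
vanishing of H⁰(C, T), to find the dimension of the tangent space of the moduli stack of genus-g
curves at C; only the dimension of H¹(C, T) is stated here.) -/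
theorem result (k : Type u) [Field k] [IsAlgClosed k]
    (C : Scheme.{u}) [C.Over (Spec (CommRingCat.of k))] [IsProper (C ↘ (Spec (CommRingCat.of k)))] [Smooth (C ↘ (Spec (CommRingCat.of k)))] [IsIntegral C]
    (hdim : topologicalKrullDim C = 1) (g : ℕ) (hg : Curv2.genus k C = g) (h2 : 2 ≤ g)
    (T : C.Modules) (hT : ClSub.IsInverseOf T (Omega.sheaf (C ↘ (Spec (CommRingCat.of k))))) :
    Module.finrank k (Coh.HH C T 1) = 3 * g - 3 := by
  haveI := Groth.L21.RR.isNoetherian_of_proper (X := C) k
  have hreg := Groth.L21.Smooth.regular_stalk (k := k) (C ↘ Spec (CommRingCat.of k))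
  have h0 : Groth.L21.RR.h k 0 (Coh.structureModule C) = 1 := Groth.L21.RR.h0_eq_one_of_isAlgClosed k
  have hΩ := Groth.L21.Duality.isInvertible_omega (X := C) (k := k) hdim
  obtain ⟨e⟩ := hT
  have hTi : PicF.IsInvertible T :=
    Groth.L22.EnrSev.isInvertible_of_inverse hΩ (Groth.L00.Tensor.tensorComm _ _ ≪≫ e)
  have hF := Groth.L21.Bundle.locFree_one hTi
  have hdT : Curv2.deg k C T 1 = -(2 * (Curv2.genus k C : ℤ) - 2) := by
    rw [Groth.L21.Bundle.deg_inverse k hdim hΩ hTi (Groth.L00.Tensor.tensorComm _ _ ≪≫ e),
      (Groth.L21.Duality.omega_invariants (k := k) hdim).2.2 h0]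
  have hdg := Groth.L21.Bundle.dg_eq k hF
  have hb : Groth.L21.Bundle.Bd k T (Groth.L21.Bundle.dg k T) 1 := fun G i hi hG => by
    haveI := hi
    have hle := Groth.L21.Bundle.rk_le_of_mono i hG (Groth.L21.Bundle.isCoh_of_rank hF)
    rw [Groth.L21.Bundle.rk_eq hF] at hle
    rcases Nat.eq_zero_or_pos (Groth.L21.Bundle.rk G) with h | h
    · have h1 := Groth.L21.Bundle.locFree_of_mono hreg hdim.le i hG hF
      rw [h] at h1
      rw [(Groth.L21.Bundle.zero_facts k hdim.le (Groth.L21.Bundle.isZero_of_rank_zero h1)).2, h]
      simp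
    · have h2 : Groth.L21.Bundle.rk G = 1 := by omega
      rw [h2]
      simpa using (Groth.L21.Bundle.dg_le_of_mono hdim.le k i hG (Groth.L21.Bundle.isCoh_of_rank hF)
        (h2.trans (Groth.L21.Bundle.rk_eq hF).symm)).1
  have hz := Groth.L21.Bundle.h0_eq_zero_of_bd_neg k hreg hdim hF hb (by rw [← hdg, hdT, hg]; omega)
  have hd := hdT
  rw [Curv2.deg, Groth.L21.RR.euler_eq k hdim.le, Groth.L21.RR.euler_eq k hdim.le, hz, h0] at hd
  have h3 : Groth.L21.RR.h k 1 T = 3 * g - 3 := by
    have hgg : (Groth.L21.RR.h k 1 (Coh.structureModule C) : ℤ) = g := by exact_mod_cast hg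
    push_cast at hd
    omega
  exact h3

end Groth.Agent.S14065
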