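import Groth.Prelude.Def_CohB1
import Mathlib.AlgebraicGeometry.Limits
import Mathlib.AlgebraicGeometry.Morphisms.ClosedImmersion
import Groth.Agent.L02.EquivQuot.Blocks
import Mathlib.Data.Fintype.EquivFin

set_option autoImplicit false
set_option linter.style.haveILetI false
namespace Variety
end Variety
universe u
open CategoryTheory CategoryTheory.Limits AlgebraicGeometry TopologicalSpace
open Variety

namespace Groth.Agent.S14066

/-- Let k be a field, and let X₁ and X₂ be k-schemes with closed immersions i₁ : X₁ → P^n_k and i₂ : X₂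
→ P^m_k over k. Then there is a closed immersion of the disjoint union X₁ ⨿ X₂ into P^{n+m+1}_k over
k, that is, compatible with the structure morphism of the coproduct induced by those of X₁ and X₂.
(Stated as the step of the published proof showing that a disjoint union of two projective k-schemes
is projective.) -/
theorem result (k : Type u) [Field k] (n m : ℕ)
    (X₁ X₂ : Scheme.{u}) [X₁.Over (Spec (CommRingCat.of k))] [X₂.Over (Spec (CommRingCat.of k))]
    (i₁ : X₁ ⟶ CohB1.ProjSpace n k) [IsClosedImmersion i₁] (h₁ : i₁ ≫ CohB1.ProjSpace.toSpec n k = X₁ ↘ (Spec (CommRingCat.of k)))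
    (i₂ : X₂ ⟶ CohB1.ProjSpace m k) [IsClosedImmersion i₂] (h₂ : i₂ ≫ CohB1.ProjSpace.toSpec m k = X₂ ↘ (Spec (CommRingCat.of k))) :
    ∃ j : X₁ ⨿ X₂ ⟶ CohB1.ProjSpace (n + m + 1) k, IsClosedImmersion j ∧
      j ≫ CohB1.ProjSpace.toSpec (n + m + 1) k = coprod.desc (X₁ ↘ (Spec (CommRingCat.of k))) (X₂ ↘ (Spec (CommRingCat.of k))) := by
  let r : Bool → ℕ := fun b => cond b n m
  have hcard : Fintype.card (Σ b, Fin (r b + 1)) = n + m + 1 + 1 := by
    simp [Fintype.card_sigma, r]; omega
  obtain ⟨d, hd, hdisj⟩ := Groth.L02.EquivQuot.exists_disjoint_embeddings r (n + m + 1)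
    (Fintype.equivFinOfCardEq hcard).toEmbedding (Spec (CommRingCat.of k))
  haveI : IsClosedImmersion (d true) := (hd true).1
  haveI : IsClosedImmersion (d false) := (hd false).1
  have hiso : ∀ l, (Groth.L16.ProjSpace.isoOver l k).hom ≫ CohB1.ProjSpaceOver.toBase l (Spec (CommRingCat.of k)) =
      CohB1.ProjSpace.toSpec l k := fun l => (Groth.L16.ProjSpace.isPullback_over l).isoPullback_hom_snd
  have hinv : ∀ l, (Groth.L16.ProjSpace.isoOver l k).inv ≫ CohB1.ProjSpace.toSpec l k =
      CohB1.ProjSpaceOver.toBase l (Spec (CommRingCat.of k)) := fun l => by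
    rw [Iso.inv_comp_eq]; exact (hiso l).symm
  let a₁ := i₁ ≫ (Groth.L16.ProjSpace.isoOver n k).hom ≫ d true
  let a₂ := i₂ ≫ (Groth.L16.ProjSpace.isoOver m k).hom ≫ d false
  haveI : IsClosedImmersion a₁ := inferInstance
  haveI : IsClosedImmersion a₂ := inferInstance
  haveI := Groth.L02.EquivQuot.isClosedImmersion_coprodDesc a₁ a₂ (by
    refine (hdisj true false (by simp)).mono ?_ ?_
    · rintro _ ⟨x, rfl⟩
      exact ⟨(i₁ ≫ (Groth.L16.ProjSpace.isoOver n k).hom) x, by simp [a₁, Scheme.Hom.comp_apply]⟩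
    · rintro _ ⟨x, rfl⟩
      exact ⟨(i₂ ≫ (Groth.L16.ProjSpace.isoOver m k).hom) x, by simp [a₂, Scheme.Hom.comp_apply]⟩)
  refine ⟨coprod.desc a₁ a₂ ≫ (Groth.L16.ProjSpace.isoOver (n + m + 1) k).inv, inferInstance, ?_⟩
  rw [Category.assoc, hinv]
  apply coprod.hom_ext
  · rw [coprod.inl_desc_assoc, coprod.inl_desc, show a₁ = _ from rfl, Category.assoc, Category.assoc, (hd true).2]
    exact (congrArg (i₁ ≫ ·) (hiso n)).trans h₁
  · rw [coprod.inr_desc_assoc, coprod.inr_desc, show a₂ = _ from rfl, Category.assoc, Category.assoc, (hd false).2]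
    exact (congrArg (i₂ ≫ ·) (hiso m)).trans h₂

end Groth.Agent.S14066
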