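import Groth.Statements.S14067
import Groth.Agent.L19.EtaleSlices

set_option autoImplicit false
set_option backward.isDefEq.respectTransparency.types false
set_option backward.isDefEq.respectTransparency false
set_option linter.style.haveILetI false
universe u
open CategoryTheory AlgebraicGeometry
open FamCyc

namespace Groth.Agent.S14067

/-- Let p : X ⟶ S be a smooth morphism of schemes. The family of all immersions j : Z ⟶ X such that Z is
étale over S is schematically dominant: if t is a section of the structure sheaf of X over an open V
whose pullback along every such j is zero, then t = 0. -/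
theorem result {X S : Scheme.{u}} (p : X ⟶ S) [Smooth p]
    (V : X.Opens) (t : Γ(X, V))
    (h : ∀ (Z : Scheme.{u}) (j : Z ⟶ X), IsImmersion j → Etale (j ≫ p) → j.app V t = 0) : t = 0 := by
  refine Groth.L19.EtaleSlices.eq_zero_of_forall_baseChange p (𝟙 X) V t fun Z j hj he => ?_
  have hsq : Limits.pullback.snd j (𝟙 X) = Limits.pullback.fst j (𝟙 X) ≫ j := by
    rw [Limits.pullback.condition, Category.comp_id]
  have h1 : (Limits.pullback.snd j (𝟙 X)).app V t = 0 ↔
      (Limits.pullback.fst j (𝟙 X) ≫ j).app V t = 0 := by rw [hsq]
  refine h1.mpr ?_
  change (Limits.pullback.fst j (𝟙 X)).app _ (j.app V t) = 0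
  rw [h Z j hj he, map_zero]

end Groth.Agent.S14067
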