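import Groth.Statements.S14069
import Mathlib.AlgebraicGeometry.Morphisms.Smooth
import Mathlib.AlgebraicGeometry.Morphisms.Etale
import Mathlib.AlgebraicGeometry.Morphisms.FlatMono
import Mathlib.AlgebraicGeometry.Morphisms.ClosedImmersion
import Mathlib.RingTheory.RingHom.StandardSmooth
import Mathlib.AlgebraicGeometry.PullbackCarrier

set_option autoImplicit false
set_option backward.isDefEq.respectTransparency.types false
set_option backward.isDefEq.respectTransparency false
set_option linter.style.haveILetI false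
universe u
open CategoryTheory AlgebraicGeometry
open FamCyc

namespace Groth.Agent.S14069

/-- Let i : S₀ ⟶ S be a closed immersion, p : X ⟶ S a scheme over S, q : Y ⟶ S a smooth morphism, X₀ = X
×_S S₀, x₀ a point of X₀ and f₀ : X₀ ⟶ Y a morphism over S. Then there are a scheme U, an étale
morphism e : U ⟶ X whose base change U ×_X X₀ ⟶ X₀ is an open immersion whose image contains x₀, and
a morphism f : U ⟶ Y over S whose restriction to U ×_X X₀ equals the restriction of f₀. -/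
theorem result {S S₀ X Y : Scheme.{u}} (i : S₀ ⟶ S) [IsClosedImmersion i]
    (p : X ⟶ S) (q : Y ⟶ S) [Smooth q] (f₀ : Limits.pullback p i ⟶ Y)
    (hf₀ : f₀ ≫ q = Limits.pullback.fst p i ≫ p) (x₀ : ↥(Limits.pullback p i)) :
    ∃ (U : Scheme.{u}) (e : U ⟶ X) (f : U ⟶ Y), Etale e ∧ f ≫ q = e ≫ p ∧
      IsOpenImmersion (Limits.pullback.snd e (Limits.pullback.fst p i)) ∧
      x₀ ∈ Set.range (Limits.pullback.snd e (Limits.pullback.fst p i)).base ∧
      Limits.pullback.snd e (Limits.pullback.fst p i) ≫ f₀ =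
        Limits.pullback.fst e (Limits.pullback.fst p i) ≫ f := by
  -- affine charts of `S` and `Y` with an étale map to affine space
  obtain ⟨W, hW, U, hU, hyU, hle, hs⟩ := Smooth.exists_isStandardSmooth q (f₀ x₀)
  obtain ⟨n, φ, hφC, hφ⟩ := hs.exists_etale_mvPolynomial
  let j := Limits.pullback.fst p i
  haveI : IsClosedImmersion j := MorphismProperty.pullback_fst _ _ inferInstance
  -- an affine chart `V` of `X` with `j⁻¹ V` inside `f₀⁻¹ U`
  obtain ⟨O, hO, hO'⟩ := j.isClosedEmbedding.isInducing.isOpen_iff.mp (f₀ ⁻¹ᵁ U).isOpen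
  have hjW : j x₀ ∈ p ⁻¹ᵁ W := by
    have h1 : q (f₀ x₀) = p (j x₀) := by
      rw [← Scheme.Hom.comp_apply, hf₀, Scheme.Hom.comp_apply]
    have h2 : q (f₀ x₀) ∈ W := hle hyU
    rwa [h1] at h2
  have hjO : j x₀ ∈ O := by
    have : x₀ ∈ (⇑j ⁻¹' O) := by rw [hO']; exact hyU
    exact this
  obtain ⟨V, hV, hxV, hVle⟩ := exists_isAffineOpen_mem_and_subset
    (U := (⟨O, hO⟩ : X.Opens) ⊓ p ⁻¹ᵁ W) (x := j x₀) ⟨hjO, hjW⟩
  have hVW : V ≤ p ⁻¹ᵁ W := fun z hz => (hVle hz).2
  have hV₀ : IsAffineOpen (j ⁻¹ᵁ V) := hV.preimage j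
  have hV₀U : j ⁻¹ᵁ V ≤ f₀ ⁻¹ᵁ U := fun z hz => by
    have : z ∈ ⇑j ⁻¹' O := (hVle hz).1
    rw [hO'] at this
    exact this
  have hsurj : Function.Surjective (j.app V) := j.app_surjective V hV
  -- lift the coordinates
  let R₀ := Γ(Limits.pullback p i, j ⁻¹ᵁ V)
  choose a ha using fun k : Fin n => hsurj ((f₀.appLE U (j ⁻¹ᵁ V) hV₀U).hom (φ (MvPolynomial.X k)))
  let α : MvPolynomial (Fin n) Γ(S, W) →+* Γ(X, V) :=
    MvPolynomial.eval₂Hom (p.appLE W V hVW).hom a
  have hαC : α.comp MvPolynomial.C = (p.appLE W V hVW).hom :=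
    RingHom.ext fun r => MvPolynomial.eval₂Hom_C _ _ r
  have hcomp : (j.app V).hom.comp α = (f₀.appLE U (j ⁻¹ᵁ V) hV₀U).hom.comp φ := by
    refine MvPolynomial.ringHom_ext (fun r => ?_) (fun k => ?_)
    · have h1 : (φ (MvPolynomial.C r)) = (q.appLE W U hle).hom r := RingHom.congr_fun hφC r
      simp only [RingHom.comp_apply, h1, α, MvPolynomial.eval₂Hom_C]
      rw [← CommRingCat.comp_apply, ← CommRingCat.comp_apply, Scheme.Hom.app_eq_appLE,
        Scheme.Hom.appLE_comp_appLE, Scheme.Hom.appLE_comp_appLE]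
      simp only [hf₀, j]
    · simp only [RingHom.comp_apply, α, MvPolynomial.eval₂Hom_X', ha k]
  let A' : CommRingCat.{u} := CommRingCat.of (MvPolynomial (Fin n) Γ(S, W))
  let eY : Spec Γ(Y, U) ⟶ Spec A' := Spec.map (CommRingCat.ofHom φ)
  haveI : Etale eY := (HasRingHomProperty.Spec_iff (P := @Etale)).mpr hφ
  let eX : Spec Γ(X, V) ⟶ Spec A' := Spec.map (CommRingCat.ofHom α)
  let T := Limits.pullback eX eY
  haveI : Etale (Limits.pullback.fst eX eY) := MorphismProperty.pullback_fst _ _ inferInstance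
  let e' : T ⟶ X := Limits.pullback.fst eX eY ≫ hV.fromSpec
  let f' : T ⟶ Y := Limits.pullback.snd eX eY ≫ hU.fromSpec
  haveI : Etale e' := inferInstanceAs (Etale (_ ≫ _))
  have hXf : eX ≫ Spec.map (CommRingCat.ofHom MvPolynomial.C) ≫ hW.fromSpec = hV.fromSpec ≫ p := by
    rw [← hW.SpecMap_appLE_fromSpec p hV hVW, ← Category.assoc, ← Spec.map_comp,
      ← CommRingCat.ofHom_comp, hαC]
    rfl
  have hYf : eY ≫ Spec.map (CommRingCat.ofHom MvPolynomial.C) ≫ hW.fromSpec = hU.fromSpec ≫ q := by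
    rw [← hW.SpecMap_appLE_fromSpec q hU hle, ← Category.assoc, ← Spec.map_comp,
      ← CommRingCat.ofHom_comp, hφC]
    rfl
  have hf' : f' ≫ q = e' ≫ p := by
    simp only [f', e', Category.assoc]
    rw [← hYf, ← hXf, Limits.pullback.condition_assoc]
  -- the section over the closed subscheme
  let β : Spec R₀ ⟶ T := Limits.pullback.lift (Spec.map (j.app V))
    (Spec.map (f₀.appLE U (j ⁻¹ᵁ V) hV₀U)) (by
      simp only [eX, eY]
      rw [← Spec.map_comp, ← Spec.map_comp]
      congr 1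
      exact CommRingCat.hom_ext hcomp)
  have hjV : Spec.map (j.app V) ≫ hV.fromSpec = hV₀.fromSpec ≫ j := by
    rw [Scheme.Hom.app_eq_appLE]
    exact hV.SpecMap_appLE_fromSpec j hV₀ le_rfl
  have hfU : Spec.map (f₀.appLE U (j ⁻¹ᵁ V) hV₀U) ≫ hU.fromSpec = hV₀.fromSpec ≫ f₀ :=
    hU.SpecMap_appLE_fromSpec f₀ hV₀ hV₀U
  let σ : Spec R₀ ⟶ Limits.pullback e' j := Limits.pullback.lift β hV₀.fromSpec (by
    simp only [e', β, Limits.pullback.lift_fst_assoc, hjV])
  have hσfst : σ ≫ Limits.pullback.fst e' j = β := Limits.pullback.lift_fst _ _ _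
  have hσsnd : σ ≫ Limits.pullback.snd e' j = hV₀.fromSpec := Limits.pullback.lift_snd _ _ _
  haveI : Etale (Limits.pullback.snd e' j) := MorphismProperty.pullback_snd _ _ inferInstance
  haveI : Etale (σ ≫ Limits.pullback.snd e' j) := by rw [hσsnd]; infer_instance
  haveI : Etale σ := Etale.of_comp σ (Limits.pullback.snd e' j)
  haveI : Mono (σ ≫ Limits.pullback.snd e' j) := by rw [hσsnd]; infer_instance
  haveI : Mono σ := mono_of_mono σ (Limits.pullback.snd e' j)
  haveI : IsOpenImmersion σ := IsOpenImmersion.of_flat_of_mono σ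
  haveI : IsClosedImmersion (Limits.pullback.fst e' j) :=
    MorphismProperty.pullback_fst _ _ inferInstance
  obtain ⟨G, hG, hG'⟩ := (Limits.pullback.fst e' j).isClosedEmbedding.isInducing.isOpen_iff.mp
    σ.opensRange.isOpen
  let O' : T.Opens := ⟨G, hG⟩
  let m : Limits.pullback (O'.ι ≫ e') j ⟶ Limits.pullback e' j :=
    Limits.pullback.lift (Limits.pullback.fst _ _ ≫ O'.ι) (Limits.pullback.snd _ _)
      (by rw [Category.assoc, Limits.pullback.condition])
  have hm1 : m ≫ Limits.pullback.fst e' j = Limits.pullback.fst _ _ ≫ O'.ι :=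
    Limits.pullback.lift_fst _ _ _
  have hm2 : m ≫ Limits.pullback.snd e' j = Limits.pullback.snd _ _ :=
    Limits.pullback.lift_snd _ _ _
  have hmr : Set.range m ⊆ Set.range σ := by
    rintro _ ⟨z, rfl⟩
    have h1 : Limits.pullback.fst e' j (m z) ∈ G := by
      rw [← Scheme.Hom.comp_apply, hm1, Scheme.Hom.comp_apply]
      exact (Limits.pullback.fst (O'.ι ≫ e') j z).2
    have h2 : m z ∈ ⇑(Limits.pullback.fst e' j) ⁻¹' G := h1
    rw [hG'] at h2
    exact h2
  have hsqm : IsPullback (Limits.pullback.fst (O'.ι ≫ e') j) m O'.ι (Limits.pullback.fst e' j) :=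
    IsPullback.of_bot (by rw [hm2]; exact IsPullback.of_hasPullback _ _) hm1.symm
      (IsPullback.of_hasPullback e' j)
  haveI : IsOpenImmersion m := MorphismProperty.of_isPullback hsqm inferInstance
  let l := IsOpenImmersion.lift σ m hmr
  have hl : l ≫ σ = m := IsOpenImmersion.lift_fac _ _ _
  haveI : IsOpenImmersion (l ≫ σ) := by rw [hl]; infer_instance
  haveI : IsOpenImmersion l := IsOpenImmersion.of_comp l σ
  have hsnd : Limits.pullback.snd (O'.ι ≫ e') j = l ≫ hV₀.fromSpec := by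
    rw [← hm2, ← hl, Category.assoc, hσsnd]
  have hf'' : (O'.ι ≫ f') ≫ q = (O'.ι ≫ e') ≫ p := by simp only [Category.assoc, hf']
  refine ⟨O', O'.ι ≫ e', O'.ι ≫ f', inferInstance, hf'', ?_, ?_, ?_⟩
  · change IsOpenImmersion (Limits.pullback.snd (O'.ι ≫ e') j)
    rw [hsnd]; infer_instance
  · obtain ⟨w, hw⟩ : x₀ ∈ Set.range hV₀.fromSpec := by rw [hV₀.range_fromSpec]; exact hxV
    have hβO : Set.range β ⊆ Set.range O'.ι := by
      rintro _ ⟨z, rfl⟩
      rw [Scheme.Opens.range_ι]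
      have : σ z ∈ ⇑(Limits.pullback.fst e' j) ⁻¹' G := by rw [hG']; exact ⟨z, rfl⟩
      rw [Set.mem_preimage, ← Scheme.Hom.comp_apply, hσfst] at this
      exact this
    let s : Spec R₀ ⟶ Limits.pullback (O'.ι ≫ e') j :=
      Limits.pullback.lift (IsOpenImmersion.lift O'.ι β hβO) hV₀.fromSpec (by
        rw [IsOpenImmersion.lift_fac_assoc]
        simp only [e', β, Limits.pullback.lift_fst_assoc, hjV])
    refine ⟨s w, ?_⟩
    change Limits.pullback.snd (O'.ι ≫ e') j (s w) = x₀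
    rw [← Scheme.Hom.comp_apply, Limits.pullback.lift_snd, hw]
  · change Limits.pullback.snd (O'.ι ≫ e') j ≫ f₀ = Limits.pullback.fst (O'.ι ≫ e') j ≫ O'.ι ≫ f'
    rw [hsnd, Category.assoc, ← hfU, ← Category.assoc (Limits.pullback.fst (O'.ι ≫ e') j), ← hm1,
      ← hl]
    simp only [Category.assoc]
    rw [← Category.assoc σ (Limits.pullback.fst e' j), hσfst]
    simp only [f', β, Category.assoc, Limits.pullback.lift_snd_assoc]

end Groth.Agent.S14069
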