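import Groth.Statements.S14073
import Mathlib.LinearAlgebra.Charpoly.ToMatrix
import Mathlib.LinearAlgebra.Charpoly.BaseChange
import Mathlib.LinearAlgebra.Determinant
import Mathlib.RingTheory.Localization.Module
import Mathlib.RingTheory.LocalRing.Module
import Mathlib.RingTheory.Ideal.AssociatedPrime.Finiteness
import Mathlib.Algebra.Module.LocalizedModule.Exact
import Mathlib.Algebra.Module.Projective
import Mathlib.RingTheory.Ideal.AssociatedPrime.Localization
import Mathlib.RingTheory.LocalRing.ResidueField.Basic
import Mathlib.RingTheory.Polynomial.Basic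
-- import your own Groth.Agent.* helpers here

set_option autoImplicit false
universe u
open FamCyc

namespace Groth.Agent.S14073

open Polynomial Module

section Ses

variable {R : Type u} [CommRing R]

open Module.Basis in
theorem charpoly_eq_mul {V : Type u} [AddCommGroup V] [Module R V] [Module.Finite R V] [Module.Free R V]
    (W : Submodule R V) [Module.Free R W] [Module.Finite R W] [Module.Free R (V ⧸ W)]
    (e : V →ₗ[R] V) (he : W ≤ W.comap e) :
    e.charpoly = (e.restrict he).charpoly * (W.mapQ W e he).charpoly := by
  classical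
  let m := Module.Free.ChooseBasisIndex R W
  let bW : Basis m R W := Module.Free.chooseBasis R W
  let n := Module.Free.ChooseBasisIndex R (V ⧸ W)
  let bQ : Basis n R (V ⧸ W) := Module.Free.chooseBasis R (V ⧸ W)
  let b := sumQuot bW bQ
  let A : Matrix m m R := LinearMap.toMatrix bW bW (e.restrict he)
  let B : Matrix m n R := Matrix.of fun i l ↦
    ((sumQuot bW bQ).repr (e ((sumQuot bW bQ) (Sum.inr l)))) (Sum.inl i)
  let D : Matrix n n R := LinearMap.toMatrix bQ bQ (W.mapQ W e he)
  suffices LinearMap.toMatrix b b e = Matrix.fromBlocks A B 0 D by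
    rw [← LinearMap.charpoly_toMatrix e b, this, ← LinearMap.charpoly_toMatrix (e.restrict he) bW,
      ← LinearMap.charpoly_toMatrix (W.mapQ W e he) bQ, Matrix.charpoly_fromBlocks_zero₂₁]
  ext u v
  cases u with
  | inl i =>
    cases v with
    | inl k =>
      simp only [b, sumQuot_inl, Matrix.fromBlocks_apply₁₁, A, LinearMap.toMatrix_apply]
      apply sumQuot_repr_inl_of_mem
    | inr l => simp [b, LinearMap.toMatrix_apply, Matrix.fromBlocks_apply₁₂, B]
  | inr j =>
    cases v with
    | inl k =>
      suffices W.mkQ (e (bW k)) = 0 by simp [LinearMap.toMatrix_apply, b, this]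
      rw [← LinearMap.mem_ker, Submodule.ker_mkQ]
      exact he (Submodule.coe_mem (bW k))
    | inr l =>
      simp only [LinearMap.toMatrix_apply, sumQuot_repr_inr,
        Matrix.fromBlocks_apply₂₂, b, D]
      rw [← sumQuot_inr bW bQ l, W.mapQ_apply]
      simp

theorem charpoly_exact {W V Q : Type u} [AddCommGroup W] [Module R W] [AddCommGroup V] [Module R V]
    [AddCommGroup Q] [Module R Q] [Module.Free R W] [Module.Finite R W] [Module.Free R V] [Module.Finite R V]
    [Module.Free R Q] [Module.Finite R Q]
    (i : W →ₗ[R] V) (π : V →ₗ[R] Q) (hi : Function.Injective i) (hπ : Function.Surjective π)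
    (hex : Function.Exact i π) (fW : W →ₗ[R] W) (fV : V →ₗ[R] V) (fQ : Q →ₗ[R] Q)
    (h1 : ∀ x, fV (i x) = i (fW x)) (h2 : ∀ x, π (fV x) = fQ (π x)) :
    fV.charpoly = fW.charpoly * fQ.charpoly := by
  let eW : W ≃ₗ[R] LinearMap.range i := LinearEquiv.ofInjective i hi
  haveI : Module.Free R (LinearMap.range i) := Module.Free.of_equiv eW
  haveI : Module.Finite R (LinearMap.range i) := Module.Finite.equiv eW
  let eQ : (V ⧸ LinearMap.range i) ≃ₗ[R] Q :=
    (Submodule.quotEquivOfEq _ _ (LinearMap.exact_iff.mp hex).symm).trans (π.quotKerEquivOfSurjective hπ)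
  haveI : Module.Free R (V ⧸ LinearMap.range i) := Module.Free.of_equiv eQ.symm
  haveI : Module.Finite R (V ⧸ LinearMap.range i) := Module.Finite.equiv eQ.symm
  have he : LinearMap.range i ≤ (LinearMap.range i).comap fV := by
    rintro _ ⟨x, rfl⟩
    exact ⟨fW x, (h1 x).symm⟩
  rw [charpoly_eq_mul _ fV he]
  congr 1
  · rw [← eW.charpoly_conj fW]
    congr 1
    ext z
    obtain ⟨x, rfl⟩ := eW.surjective z
    rw [LinearEquiv.conj_apply_apply, eW.symm_apply_apply]
    exact h1 x
  · rw [← eQ.charpoly_conj]
    congr 1
    ext z
    obtain ⟨x, rfl⟩ := hπ z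
    have hx : eQ (Submodule.Quotient.mk x) = π x := rfl
    rw [LinearEquiv.conj_apply_apply, ← hx, eQ.symm_apply_apply, Submodule.mapQ_apply, hx, ← h2]
    rfl

theorem free_ker {R : Type u} [CommRing R] [IsLocalRing R] {W V Q : Type u} [AddCommGroup W] [Module R W]
    [AddCommGroup V] [Module R V] [AddCommGroup Q] [Module R Q] [Module.Finite R W] [Module.Free R V]
    [Module.Projective R Q]
    (i : W →ₗ[R] V) (π : V →ₗ[R] Q) (hi : Function.Injective i) (hπ : Function.Surjective π)
    (hex : Function.Exact i π) : Module.Free R W := by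
  obtain ⟨sec, hsec⟩ := Module.projective_lifting_property π LinearMap.id hπ
  have hk : LinearMap.range i = LinearMap.ker π := (LinearMap.exact_iff.mp hex).symm
  let pr : V →ₗ[R] LinearMap.range i :=
    LinearMap.codRestrict _ (LinearMap.id - sec ∘ₗ π) fun v => by
      rw [hk, LinearMap.mem_ker]
      have h1 := LinearMap.congr_fun hsec (π v)
      simp only [LinearMap.comp_apply, LinearMap.id_apply] at h1
      simp [map_sub, h1]
  haveI : Module.Projective R W := by
    refine Module.Projective.of_split i ((LinearEquiv.ofInjective i hi).symm.toLinearMap ∘ₗ pr) ?_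
    refine LinearMap.ext fun w => ?_
    rw [LinearMap.comp_apply, LinearMap.comp_apply, LinearMap.id_apply]
    apply (LinearEquiv.ofInjective i hi).injective
    rw [LinearEquiv.coe_coe, LinearEquiv.apply_symm_apply]
    refine Subtype.ext ?_
    change i w - sec (π (i w)) = i w
    rw [hex.apply_apply_eq_zero, map_zero, sub_zero]
  exact Module.free_of_flat_of_isLocalRing

theorem map_exact' {R : Type u} [CommRing R] (S : Submonoid R) {M₀ M₁ M₂ : Type u} [AddCommGroup M₀] [Module R M₀]
    [AddCommGroup M₁] [Module R M₁] [AddCommGroup M₂] [Module R M₂] (g : M₀ →ₗ[R] M₁) (h : M₁ →ₗ[R] M₂)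
    (ex : Function.Exact g h) : Function.Exact (LocalizedModule.map S g) (LocalizedModule.map S h) :=
  LocalizedModule.map_exact S g h ex

end Ses

variable {A : Type u} [CommRing A]

theorem charpoly_localized {k : ℕ} (g : (Fin k → A) →ₗ[A] (Fin k → A)) (p : Ideal A) [p.IsPrime]
    [Module.Free (Localization.AtPrime p) (LocalizedModule p.primeCompl (Fin k → A))]
    [Module.Finite (Localization.AtPrime p) (LocalizedModule p.primeCompl (Fin k → A))] :
    (LocalizedModule.map p.primeCompl g).charpoly = g.charpoly.map (algebraMap A (Localization.AtPrime p)) := by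
  classical
  let b := Pi.basisFun A (Fin k)
  let f := LocalizedModule.mkLinearMap p.primeCompl (Fin k → A)
  let bL := b.ofIsLocalizedModule (Localization.AtPrime p) p.primeCompl f
  rw [← LinearMap.charpoly_toMatrix g b, ← Matrix.charpoly_map,
    ← LinearMap.charpoly_toMatrix (LocalizedModule.map p.primeCompl g) bL]
  congr 1
  ext i j
  rw [LinearMap.toMatrix_apply, Matrix.map_apply, LinearMap.toMatrix_apply,
    Module.Basis.ofIsLocalizedModule_apply]
  have hg : LocalizedModule.map p.primeCompl g (f (b j)) = f (g (b j)) := LocalizedModule.map_mk p.primeCompl g _ _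
  rw [hg]
  exact Module.Basis.ofIsLocalizedModule_repr_apply (Localization.AtPrime p) p.primeCompl f b (g (b j)) i

theorem finite_of_ffr : ∀ (n : ℕ) (M : Type u) [AddCommGroup M] [Module A M],
    FamCyc.HasFiniteFreeResolutionLE A n M → Module.Finite A M
  | 0, _, _, _, h => h.2
  | _ + 1, _, _, _, ⟨_, f, hf, _⟩ => Module.Finite.of_surjective f hf

/-- characteristic polynomials at the free points, as a quotient of two monic polynomials -/
theorem exists_pq : ∀ (n : ℕ) (M : Type u) [AddCommGroup M] [Module A M],
    FamCyc.HasFiniteFreeResolutionLE A n M → ∀ φ : M →ₗ[A] M,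
    ∃ P Q : A[X], P.Monic ∧ Q.Monic ∧ ∀ (p : Ideal A) [p.IsPrime]
      [Module.Free (Localization.AtPrime p) (LocalizedModule p.primeCompl M)]
      [Module.Finite (Localization.AtPrime p) (LocalizedModule p.primeCompl M)],
      (LocalizedModule.map p.primeCompl φ).charpoly * Q.map (algebraMap A (Localization.AtPrime p)) =
        P.map (algebraMap A (Localization.AtPrime p)) := by
  intro n
  induction n with
  | zero =>
    intro M _ _ h φ
    obtain ⟨hfree, hfin⟩ := h
    haveI := hfree
    haveI := hfin
    refine ⟨φ.charpoly, 1, φ.charpoly_monic, monic_one, ?_⟩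
    intro p _ _ _
    rw [Polynomial.map_one, mul_one]
    classical
    let b := Module.Free.chooseBasis A M
    let f := LocalizedModule.mkLinearMap p.primeCompl M
    let bL := b.ofIsLocalizedModule (Localization.AtPrime p) p.primeCompl f
    rw [← LinearMap.charpoly_toMatrix φ b, ← Matrix.charpoly_map,
      ← LinearMap.charpoly_toMatrix (LocalizedModule.map p.primeCompl φ) bL]
    congr 1
    ext i j
    rw [LinearMap.toMatrix_apply, Matrix.map_apply, LinearMap.toMatrix_apply,
      Module.Basis.ofIsLocalizedModule_apply]
    have hg : LocalizedModule.map p.primeCompl φ (f (b j)) = f (φ (b j)) := LocalizedModule.map_mk p.primeCompl φ _ _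
    rw [hg]
    exact Module.Basis.ofIsLocalizedModule_repr_apply (Localization.AtPrime p) p.primeCompl f b (φ (b j)) i
  | succ n ih =>
    intro M _ _ h φ
    obtain ⟨k, f, hf, hK⟩ := h
    obtain ⟨φ0, hφ0⟩ := Module.projective_lifting_property f (φ ∘ₗ f) hf
    have hres : ∀ x ∈ LinearMap.ker f, φ0 x ∈ LinearMap.ker f := fun x hx => by
      have := LinearMap.congr_fun hφ0 x
      rw [LinearMap.comp_apply, LinearMap.comp_apply, LinearMap.mem_ker.mp hx, map_zero] at this
      exact this
    obtain ⟨P', Q', hP', hQ', hPQ⟩ := ih (LinearMap.ker f) hK (φ0.restrict hres)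
    refine ⟨φ0.charpoly * Q', P', φ0.charpoly_monic.mul hQ', hP', ?_⟩
    intro p _ _ _
    let S := p.primeCompl
    haveI := finite_of_ffr n _ hK
    haveI : Module.Finite (Localization.AtPrime p) (LocalizedModule S (LinearMap.ker f)) :=
      Module.Finite.of_isLocalizedModule S (LocalizedModule.mkLinearMap S (LinearMap.ker f))
    haveI : Module.Free (Localization.AtPrime p) (LocalizedModule S (Fin k → A)) :=
      .of_basis ((Pi.basisFun A (Fin k)).ofIsLocalizedModule (Localization.AtPrime p) S
        (LocalizedModule.mkLinearMap S (Fin k → A)))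
    haveI : Module.Finite (Localization.AtPrime p) (LocalizedModule S (Fin k → A)) :=
      Module.Finite.of_isLocalizedModule S (LocalizedModule.mkLinearMap S (Fin k → A))
    let i := LocalizedModule.map S (LinearMap.ker f).subtype
    let π := LocalizedModule.map S f
    have hi : Function.Injective i := LocalizedModule.map_injective S _ (Submodule.injective_subtype _)
    have hπ : Function.Surjective π := LocalizedModule.map_surjective S _ hf
    have hex : Function.Exact i π := map_exact' S _ _ (LinearMap.exact_subtype_ker_map f)
    haveI : Module.Free (Localization.AtPrime p) (LocalizedModule S (LinearMap.ker f)) :=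
      free_ker (R := Localization.AtPrime p) (W := LocalizedModule S (LinearMap.ker f))
        (V := LocalizedModule S (Fin k → A)) (Q := LocalizedModule S M) i π hi hπ hex
    have h1 : ∀ x, LocalizedModule.map S φ0 (i x) = i (LocalizedModule.map S (φ0.restrict hres) x) := fun x => by
      induction x using LocalizedModule.induction_on with
      | _ m s => rw [LocalizedModule.map_mk, LocalizedModule.map_mk, LocalizedModule.map_mk, LocalizedModule.map_mk]; rfl
    have h2 : ∀ x, π (LocalizedModule.map S φ0 x) = LocalizedModule.map S φ (π x) := fun x => by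
      induction x using LocalizedModule.induction_on with
      | _ m s =>
        rw [LocalizedModule.map_mk, LocalizedModule.map_mk, LocalizedModule.map_mk, LocalizedModule.map_mk,
          ← LinearMap.comp_apply, hφ0, LinearMap.comp_apply]
    have key := charpoly_exact (R := Localization.AtPrime p) (W := LocalizedModule S (LinearMap.ker f))
      (V := LocalizedModule S (Fin k → A)) (Q := LocalizedModule S M) i π hi hπ hex _ _ _ h1 h2
    rw [Polynomial.map_mul, ← charpoly_localized φ0 p, key, ← hPQ p]
    ring


open IsLocalRing in
/-- over a local ring with a non-zero element killed by the maximal ideal, an injection of finite free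
modules has free cokernel -/
theorem free_of_socle {R : Type u} [CommRing R] [IsLocalRing R] (t : R) (ht : t ≠ 0)
    (hm : ∀ a ∈ IsLocalRing.maximalIdeal R, a * t = 0)
    {K F Q : Type u} [AddCommGroup K] [Module R K] [AddCommGroup F] [Module R F] [AddCommGroup Q] [Module R Q]
    [Module.Free R K] [Module.Finite R K] [Module.Free R F] [Module.Finite R F]
    (i : K →ₗ[R] F) (π : F →ₗ[R] Q) (hi : Function.Injective i) (hπ : Function.Surjective π)
    (hex : Function.Exact i π) : Module.Free R Q := by
  classical
  refine Module.free_of_lTensor_residueField_injective i π hπ hex ?_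
  rw [← LinearMap.ker_eq_bot, LinearMap.ker_eq_bot']
  intro z hz
  obtain ⟨v, rfl⟩ := TensorProduct.mk_surjective R K (ResidueField R) Ideal.Quotient.mk_surjective z
  rw [TensorProduct.mk_apply, LinearMap.lTensor_tmul] at hz
  let c := Module.Free.chooseBasis R F
  have h1 : ∀ j, c.coord j (i v) ∈ maximalIdeal R := fun j => by
    have h2 := congrArg (fun w => TensorProduct.rid R (ResidueField R) ((c.coord j).lTensor (ResidueField R) w)) hz
    simp only [LinearMap.lTensor_tmul, map_zero, TensorProduct.rid_tmul] at h2
    rw [Algebra.smul_def, mul_one] at h2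
    exact (residue_eq_zero_iff _).mp h2
  have h3 : t • v = 0 := by
    refine hi (c.ext_elem fun j => ?_)
    rw [map_smul, map_zero, map_smul, map_zero, Finsupp.smul_apply, Finsupp.zero_apply, smul_eq_mul, mul_comm]
    exact hm _ (h1 j)
  let b := Module.Free.chooseBasis R K
  have h4 : ∀ j, b.repr v j ∈ maximalIdeal R := fun j => by
    by_contra hj
    have h5 := congrArg (fun w => b.repr w j) h3
    simp only [map_smul, map_zero, Finsupp.smul_apply, Finsupp.zero_apply, smul_eq_mul] at h5
    exact ht ((notMem_maximalIdeal.mp hj).mul_left_eq_zero.mp h5)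
  rw [TensorProduct.mk_apply, ← b.sum_repr v, TensorProduct.tmul_sum]
  refine Finset.sum_eq_zero fun j _ => ?_
  rw [TensorProduct.tmul_smul, TensorProduct.smul_tmul', Algebra.smul_def, mul_one]
  rw [show algebraMap R (ResidueField R) (b.repr v j) = 0 from (residue_eq_zero_iff _).mpr (h4 j),
    TensorProduct.zero_tmul]

theorem free_at_ass [IsNoetherianRing A] : ∀ (n : ℕ) (M : Type u) [AddCommGroup M] [Module A M],
    FamCyc.HasFiniteFreeResolutionLE A n M → ∀ (p : Ideal A) [p.IsPrime], p ∈ associatedPrimes A A →
      Module.Free (Localization.AtPrime p) (LocalizedModule p.primeCompl M) := by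
  intro n
  induction n with
  | zero =>
    intro M _ _ h p _ _
    haveI := h.1
    exact .of_basis ((Module.Free.chooseBasis A M).ofIsLocalizedModule (Localization.AtPrime p) p.primeCompl
      (LocalizedModule.mkLinearMap p.primeCompl M))
  | succ n ih =>
    intro M _ _ h p _ hp
    obtain ⟨k, f, hf, hK⟩ := h
    haveI := finite_of_ffr n _ hK
    haveI := ih _ hK p hp
    haveI : Module.Finite (Localization.AtPrime p) (LocalizedModule p.primeCompl (LinearMap.ker f)) :=
      Module.Finite.of_isLocalizedModule p.primeCompl (LocalizedModule.mkLinearMap p.primeCompl (LinearMap.ker f))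
    haveI : Module.Free (Localization.AtPrime p) (LocalizedModule p.primeCompl (Fin k → A)) :=
      .of_basis ((Pi.basisFun A (Fin k)).ofIsLocalizedModule (Localization.AtPrime p) p.primeCompl
        (LocalizedModule.mkLinearMap p.primeCompl (Fin k → A)))
    haveI : Module.Finite (Localization.AtPrime p) (LocalizedModule p.primeCompl (Fin k → A)) :=
      Module.Finite.of_isLocalizedModule p.primeCompl (LocalizedModule.mkLinearMap p.primeCompl (Fin k → A))
    have hmax : IsLocalRing.maximalIdeal (Localization.AtPrime p) ∈
        associatedPrimes (Localization.AtPrime p) (Localization.AtPrime p) := by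
      apply Module.associatedPrimes.mem_associatedPrimes_of_comap_mem_associatedPrimes_of_isLocalizedModule
        p.primeCompl (Algebra.linearMap A (Localization.AtPrime p))
      rw [← Ideal.under_def, Localization.AtPrime.under_maximalIdeal]
      exact hp
    haveI : IsNoetherianRing (Localization.AtPrime p) :=
      IsLocalization.isNoetherianRing p.primeCompl _ inferInstance
    obtain ⟨hprime, t, ht⟩ := isAssociatedPrime_iff.mp hmax
    have ht0 : t ≠ 0 := by
      rintro rfl
      exact hprime.ne_top (by rw [ht]; ext a; simp)
    refine free_of_socle (R := Localization.AtPrime p) (K := LocalizedModule p.primeCompl (LinearMap.ker f))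
      (F := LocalizedModule p.primeCompl (Fin k → A)) (Q := LocalizedModule p.primeCompl M) t ht0 (fun a ha => ?_) (LocalizedModule.map p.primeCompl (LinearMap.ker f).subtype)
      (LocalizedModule.map p.primeCompl f) (LocalizedModule.map_injective _ _ (Submodule.injective_subtype _))
      (LocalizedModule.map_surjective _ _ hf) (map_exact' _ _ _ (LinearMap.exact_subtype_ker_map f))
    rw [ht] at ha
    simpa [Submodule.mem_colon_singleton] using ha

/-- Let A be a Noetherian ring, M an A-module with a finite resolution by finite free modules, and φ an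
endomorphism of M. Then there is a unique element of A (the determinant of φ) whose image in A_p is
the determinant of the localized endomorphism φ_p of the free A_p-module M_p, for every prime p of A
at which M_p is free. -/
theorem result (A : Type u) [CommRing A] [IsNoetherianRing A]
    (M : Type u) [AddCommGroup M] [Module A M] (n : ℕ) (hM : FamCyc.HasFiniteFreeResolutionLE A n M)
    (φ : M →ₗ[A] M) :
    ∃! a : A, ∀ (p : Ideal A) [p.IsPrime],
      Module.Free (Localization.AtPrime p) (LocalizedModule p.primeCompl M) →
        algebraMap A (Localization.AtPrime p) a =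
          LinearMap.det (LocalizedModule.map p.primeCompl φ) := by
  haveI : Module.Finite A M := finite_of_ffr n M hM
  obtain ⟨P, Q, hP, hQ, hPQ⟩ := exists_pq n M hM φ
  obtain hsub | hnt := subsingleton_or_nontrivial A
  · exact ⟨0, fun p hp _ => absurd (Subsingleton.elim p ⊤) hp.ne_top, fun a _ => Subsingleton.elim _ _⟩
  have hinj : ∀ a : A, (∀ p ∈ associatedPrimes A A, ∀ _ : p.IsPrime,
      algebraMap A (Localization.AtPrime p) a = 0) → a = 0 := by
    intro a h
    by_contra hne
    obtain ⟨p, hp, hle⟩ := exists_le_isAssociatedPrime_of_isNoetherianRing A a hne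
    haveI := hp.isPrime
    obtain ⟨⟨t, ht⟩, hta⟩ := (IsLocalization.map_eq_zero_iff p.primeCompl (Localization.AtPrime p) a).mp (h p hp hp.isPrime)
    exact ht (hle (by simpa [Submodule.mem_colon_singleton] using hta))
  have hfree : ∀ p ∈ associatedPrimes A A, ∀ _ : p.IsPrime,
      Module.Free (Localization.AtPrime p) (LocalizedModule p.primeCompl M) := fun p hp _ => free_at_ass n M hM p hp
  have hmon : ∀ (p : Ideal A) [p.IsPrime], (Q.map (algebraMap A (Localization.AtPrime p))).Monic := fun p _ => hQ.map _
  have hR : P %ₘ Q = 0 := Polynomial.ext fun i => by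
    rw [Polynomial.coeff_zero]
    refine hinj _ fun p hp hpp => ?_
    haveI := hfree p hp hpp
    haveI : Module.Finite (Localization.AtPrime p) (LocalizedModule p.primeCompl M) :=
      Module.Finite.of_isLocalizedModule p.primeCompl (LocalizedModule.mkLinearMap p.primeCompl M)
    rw [← Polynomial.coeff_map, Polynomial.map_modByMonic _ hQ, ← hPQ p,
      (Polynomial.modByMonic_eq_zero_iff_dvd (hmon p)).mpr ⟨_, mul_comm _ _⟩, Polynomial.coeff_zero]
  refine ⟨(-1) ^ (P /ₘ Q).natDegree * (P /ₘ Q).coeff 0, ?_, ?_⟩
  · intro p _ hfr
    haveI : Module.Finite (Localization.AtPrime p) (LocalizedModule p.primeCompl M) :=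
      Module.Finite.of_isLocalizedModule p.primeCompl (LocalizedModule.mkLinearMap p.primeCompl M)
    have hdiv : P = Q * (P /ₘ Q) := by
      conv_lhs => rw [← Polynomial.modByMonic_add_div P Q]
      rw [hR, zero_add]
    have hc : (P /ₘ Q).map (algebraMap A (Localization.AtPrime p)) = (LocalizedModule.map p.primeCompl φ).charpoly := by
      have h := hPQ p
      rw [hdiv, Polynomial.map_mul, mul_comm] at h
      exact ((hmon p).isRegular.left h).symm
    have hmonD : (P /ₘ Q).Monic := hQ.of_mul_monic_left (hdiv ▸ hP)
    rw [LinearMap.det_eq_sign_charpoly_coeff, ← LinearMap.charpoly_natDegree, ← hc, hmonD.natDegree_map,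
      Polynomial.coeff_map, map_mul, map_pow, map_neg, map_one]
  · intro a ha
    refine sub_eq_zero.mp (hinj _ fun p hp hpp => ?_)
    haveI := hfree p hp hpp
    haveI : Module.Finite (Localization.AtPrime p) (LocalizedModule p.primeCompl M) :=
      Module.Finite.of_isLocalizedModule p.primeCompl (LocalizedModule.mkLinearMap p.primeCompl M)
    have hdiv : P = Q * (P /ₘ Q) := by
      conv_lhs => rw [← Polynomial.modByMonic_add_div P Q]
      rw [hR, zero_add]
    have hc : (P /ₘ Q).map (algebraMap A (Localization.AtPrime p)) = (LocalizedModule.map p.primeCompl φ).charpoly := by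
      have h := hPQ p
      rw [hdiv, Polynomial.map_mul, mul_comm] at h
      exact ((hmon p).isRegular.left h).symm
    have hmonD : (P /ₘ Q).Monic := hQ.of_mul_monic_left (hdiv ▸ hP)
    rw [map_sub, ha p (hfree p hp hpp), LinearMap.det_eq_sign_charpoly_coeff, ← LinearMap.charpoly_natDegree,
      ← hc, hmonD.natDegree_map, Polynomial.coeff_map, map_mul, map_pow, map_neg, map_one, sub_self]

end Groth.Agent.S14073
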