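import Groth.Statements.S14074
import Groth.Agent.Lead.SmoothStalkCx

set_option linter.style.haveILetI false
set_option backward.isDefEq.respectTransparency false
set_option backward.isDefEq.respectTransparency.types false
set_option backward.defeqAttrib.useBackward true


set_option autoImplicit false
open CategoryTheory AlgebraicGeometry
universe u
attribute [local instance] HasDerivedCategory.standard
open FamCyc

namespace Groth.Agent.S14074

/-- Let h : B ⟶ S be a smooth morphism, φ : X ⟶ B a morphism locally of finite type and F a
quasi-coherent O_X-module of pointwise finite tor dimension over S, i.e. at every point x of X the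
stalk F_x is, over the local ring of S below x, isomorphic in the derived category to a bounded
complex of flat modules. Then F has finite tor dimension over B pointwise in the same sense. -/
theorem result {X B S : Scheme.{u}} (h : B ⟶ S) [Smooth h]
    (φ : X ⟶ B) [LocallyOfFiniteType φ] (F : X.Modules) (hF : Coh.IsQCoh F)
    (hS : ∀ x : X, ∃ a b : ℤ,
      DerSch.HasTorAmplitudeAt (φ ≫ h) a b ((HomologicalComplex.single X.Modules (ComplexShape.up ℤ) 0).obj F) x) :
    ∀ x : X, ∃ a b : ℤ,
      DerSch.HasTorAmplitudeAt φ a b ((HomologicalComplex.single X.Modules (ComplexShape.up ℤ) 0).obj F) x := by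

  intro x
  obtain ⟨a, b, hab⟩ := hS x
  obtain ⟨W, n, hxW, hn⟩ := Groth.Lead.SmoothStalkCx.exists_relativeDimension h (φ x)
  haveI := hn
  let G := (HomologicalComplex.single X.Modules (ComplexShape.up ℤ) 0).obj F
  refine ⟨a - n, b, Groth.Lead.SmoothStalkCx.amp_stalk_cx h (n := n) (V := W) hxW a b
    ((DerSch.stalkCxOver φ x).obj G) (Groth.L10.DR.amp_of_iso (DerivedCategory.Q.mapIso ?_) hab)⟩
  exact ((NatIso.mapHomologicalComplex (CategoryTheory.Functor.isoWhiskerLeft (DerSch.stalkFunctor X x)
      (((ModuleCat.restrictScalarsComp.{u} (h.stalkMap (φ x)).hom (φ.stalkMap x).hom).symm ≪≫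
        ModuleCat.restrictScalarsCongr (by rw [Scheme.Hom.stalkMap_comp]; rfl))))
      (ComplexShape.up ℤ)).app G).symm

end Groth.Agent.S14074
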