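import Groth.Statements.S14077
import Groth.Agent.L11.FlatDesc.Descent

set_option autoImplicit false
open CategoryTheory CategoryTheory.Limits AlgebraicGeometry
universe u
open FamCyc

namespace Groth.Agent.S14077

/-- Let p : X ⟶ S be flat and locally of finite presentation and g : G ⟶ S proper and smooth with
geometrically connected fibres. Let S₀ ⟶ S be the closed subscheme defined by the nilradical, X₀ = X
×_S S₀, and Z₀ a closed subscheme of X₀, locally of finite presentation and flat over S₀. Let W be a
closed subscheme of X ×_S G, flat and locally of finite presentation over G, whose preimage in (X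
×_S G) ×_S S₀ coincides with the preimage of Z₀. Then there is exactly one closed subscheme Z of X,
flat and locally of finite presentation over S, whose preimage in X₀ is Z₀ and whose preimage in X
×_S G is W. (The published statement allows locally closed subschemes and asks W ⟶ G to be flat and
finitely presented only over a schematically dense open subset containing all points of relative
codimension one over Z₀; this row states the case where that open subset is all of W and the
subschemes are closed.) -/
theorem result {S X G : Scheme.{u}}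
    (p : X ⟶ S) [Flat p] [LocallyOfFinitePresentation p]
    (g : G ⟶ S) [IsProper g] [Smooth g] [GeometricallyConnected g]
    (Z₀ : (pullback p S.nilradical.subschemeι).IdealSheafData)
    [Flat (Z₀.subschemeι ≫ pullback.snd p S.nilradical.subschemeι)]
    [LocallyOfFinitePresentation (Z₀.subschemeι ≫ pullback.snd p S.nilradical.subschemeι)]
    (W : (pullback p g).IdealSheafData)
    [Flat (W.subschemeι ≫ pullback.snd p g)] [LocallyOfFinitePresentation (W.subschemeι ≫ pullback.snd p g)]
    (hW : W.comap (pullback.fst (pullback.fst p g ≫ p) S.nilradical.subschemeι) =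
      Z₀.comap (pullback.map (pullback.fst p g ≫ p) S.nilradical.subschemeι p S.nilradical.subschemeι
        (pullback.fst p g) (𝟙 _) (𝟙 S) (Category.comp_id _)
        ((Category.comp_id _).trans (Category.id_comp _).symm))) :
    ∃! Z : X.IdealSheafData, Flat (Z.subschemeι ≫ p) ∧ LocallyOfFinitePresentation (Z.subschemeι ≫ p) ∧
      Z.comap (pullback.fst p S.nilradical.subschemeι) = Z₀ ∧ Z.comap (pullback.fst p g) = W := by
  let b := pullback.fst p g
  let i₀ := S.nilradical.subschemeι
  let mapP := pullback.map (b ≫ p) i₀ p i₀ b (𝟙 _) (𝟙 S) (Category.comp_id _)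
    ((Category.comp_id _).trans (Category.id_comp _).symm)
  have hm1 : mapP ≫ pullback.fst p i₀ = pullback.fst (b ≫ p) i₀ ≫ b := pullback.lift_fst _ _ _
  have hm2 : mapP ≫ pullback.snd p i₀ = pullback.snd (b ≫ p) i₀ :=
    (pullback.lift_snd _ _ _).trans (Category.comp_id _)
  haveI : Flat b := inferInstance
  haveI : Surjective b := inferInstance
  haveI : QuasiCompact b := inferInstance
  have hsym : W.comap (pullback.fst b b) = W.comap (pullback.snd b b) := by
    refine Groth.L11.FlatDesc.comap_fst_eq_comap_snd p g W fun {E} u v huv hnil => ?_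
    haveI : IsClosedImmersion i₀ := inferInstance
    have hu : i₀.ker ≤ (u ≫ b ≫ p).ker := by
      simp only [i₀, Scheme.IdealSheafData.ker_subschemeι]
      exact hnil
    let t := IsClosedImmersion.lift i₀ (u ≫ b ≫ p) hu
    have ht : t ≫ i₀ = u ≫ b ≫ p := IsClosedImmersion.lift_fac _ _ _
    let u' : E ⟶ pullback (b ≫ p) i₀ := pullback.lift u t ht.symm
    let v' : E ⟶ pullback (b ≫ p) i₀ := pullback.lift v t (by rw [ht, ← Category.assoc, ← huv, Category.assoc])
    have e : u' ≫ mapP = v' ≫ mapP := pullback.hom_ext
      (by rw [Category.assoc, Category.assoc, hm1, pullback.lift_fst_assoc, pullback.lift_fst_assoc, huv])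
      (by rw [Category.assoc, Category.assoc, hm2, pullback.lift_snd, pullback.lift_snd])
    rw [show u = u' ≫ pullback.fst _ _ from (pullback.lift_fst _ _ _).symm,
      show v = v' ≫ pullback.fst _ _ from (pullback.lift_fst _ _ _).symm,
      Scheme.IdealSheafData.comap_comp, Scheme.IdealSheafData.comap_comp, hW, ← Scheme.IdealSheafData.comap_comp,
      ← Scheme.IdealSheafData.comap_comp, e]
  have hcomap : (W.map b).comap b = W :=
    Groth.L02.Hilb.comap_map_of_symmetric (IsPullback.of_hasPullback b b) W hsym
  have sq' := (Groth.L02.Hilb.isPullback_comap (IsPullback.of_hasPullback p g) (W.map b))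
  have hQ : (@Surjective ⊓ @Flat ⊓ @QuasiCompact : MorphismProperty Scheme.{u}) g :=
    ⟨⟨(inferInstance : Surjective g), (inferInstance : Flat g)⟩, (inferInstance : QuasiCompact g)⟩
  have hfl : Flat ((W.map b).subschemeι ≫ p) := by
    haveI hf1 : Flat (((W.map b).comapIso b).hom ≫ pullback.snd _ _) :=
      MorphismProperty.of_isPullback (P := @Flat) sq'.flip (inferInstance : Flat g)
    haveI hf2 : Surjective (((W.map b).comapIso b).hom ≫ pullback.snd _ _) :=
      MorphismProperty.of_isPullback (P := @Surjective) sq'.flip (inferInstance : Surjective g)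
    haveI : Flat ((((W.map b).comapIso b).hom ≫ pullback.snd _ _) ≫ (W.map b).subschemeι ≫ p) := by
      haveI : Flat (((W.map b).comap b).subschemeι ≫ pullback.snd p g) := by rw [hcomap]; infer_instance
      rw [sq'.w]
      infer_instance
    exact Groth.Agent.S1128.result (((W.map b).comapIso b).hom ≫ pullback.snd _ _) _
  haveI := Groth.Agent.S0084.result.{u}
  have hfp : LocallyOfFinitePresentation ((W.map b).subschemeι ≫ p) :=
    MorphismProperty.of_isPullback_of_descendsAlong (P := @LocallyOfFinitePresentation)
      (Q := (@Surjective ⊓ @Flat ⊓ @QuasiCompact : MorphismProperty Scheme.{u})) sq'.flip hQ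
      (show LocallyOfFinitePresentation (((W.map b).comap b).subschemeι ≫ pullback.snd p g) by
        rw [hcomap]; infer_instance)
  have sqP : IsPullback (pullback.fst (b ≫ p) i₀) mapP b (pullback.fst p i₀) := by
    refine IsPullback.of_bot ?_ hm1.symm (IsPullback.of_hasPullback p i₀)
    rw [hm2]
    exact IsPullback.of_hasPullback (b ≫ p) i₀
  haveI : Flat mapP := MorphismProperty.of_isPullback (P := @Flat) sqP ‹Flat b›
  haveI : Surjective mapP := MorphismProperty.of_isPullback (P := @Surjective) sqP ‹Surjective b›
  have h0 : (W.map b).comap (pullback.fst p i₀) = Z₀ := by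
    rw [← Groth.L02.Hilb.map_comap_flat_surjective mapP ((W.map b).comap (pullback.fst p i₀)),
      ← Scheme.IdealSheafData.comap_comp, show mapP ≫ pullback.fst p i₀ = pullback.fst (b ≫ p) i₀ ≫ b from sqP.w.symm,
      Scheme.IdealSheafData.comap_comp, hcomap, hW]
    exact Groth.L02.Hilb.map_comap_flat_surjective mapP Z₀
  refine ⟨W.map b, ⟨hfl, hfp, h0, hcomap⟩, fun Z hZ => ?_⟩
  rw [← Groth.L02.Hilb.map_comap_flat_surjective b Z, show Z.comap b = W from hZ.2.2.2]

end Groth.Agent.S14077
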