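import Groth.Statements.S14079
import Groth.Agent.L22.CondT
-- import your own Groth.Agent.* helpers here

set_option autoImplicit false
open CategoryTheory AlgebraicGeometry
universe u
open FamCyc

namespace Groth.Agent.S14079

/-- (iv) ⇒ (iii): let f : X ⟶ S be locally of finite type. Suppose that every point x of X which is a
maximal point of its fibre (no other point of the fibre over f x specializes to x) lies on an
irreducible component W of X, given its reduced subscheme structure, with W ⟶ S equidimensional at
x. Then every point of X lies on such an irreducible component. -/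
theorem result {X S : Scheme.{u}} (f : X ⟶ S) [LocallyOfFiniteType f]
    (h : ∀ x : X, (∀ x' : X, f.base x' = f.base x → x ∈ closure ({x'} : Set X) → x' = x) →
      ∃ W : TopologicalSpace.Closeds X, (W : Set X) ∈ irreducibleComponents (X : Type u) ∧
      ∃ w : ↥((Scheme.IdealSheafData.vanishingIdeal W).subscheme),
        (Scheme.IdealSheafData.vanishingIdeal W).subschemeι.base w = x ∧
        EGA43.IsEquidimAt ((Scheme.IdealSheafData.vanishingIdeal W).subschemeι ≫ f) w)
    (x : X) :
    ∃ W : TopologicalSpace.Closeds X, (W : Set X) ∈ irreducibleComponents (X : Type u) ∧
      ∃ w : ↥((Scheme.IdealSheafData.vanishingIdeal W).subscheme),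
        (Scheme.IdealSheafData.vanishingIdeal W).subschemeι.base w = x ∧
        EGA43.IsEquidimAt ((Scheme.IdealSheafData.vanishingIdeal W).subschemeι ≫ f) w := by
  exact Groth.L22.CondT.exists_component_of_fibre_maximal f h x

end Groth.Agent.S14079
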