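import Groth.Statements.S14080
import Groth.Agent.L13.PSAut

set_option autoImplicit false
universe u
open ArSing

namespace Groth.Agent.S14080

/-- Let k be a field in which 2 is invertible and σ an involutive k-algebra automorphism of the power
series ring k[[t]], with ξ the coefficient of t in σ(t). Then ξ^2 = 1, the k-algebra endomorphism φ
with φ(t) = (t + ξ σ(t))/2 is an automorphism, and φ⁻¹ σ φ is the automorphism t ↦ ξ t. (The
published statement is over an algebraically closed field of characteristic prime to 2; only the
invertibility of 2 is used, so any field with 2 ≠ 0 is allowed here.) -/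
theorem result (k : Type u) [Field k] (h2 : (2 : k) ≠ 0)
    (σ : PowerSeries k ≃ₐ[k] PowerSeries k) (hσ : ∀ f, σ (σ f) = f) :
    (PowerSeries.coeff 1 (σ PowerSeries.X)) ^ 2 = 1 ∧
    ∃ φ : PowerSeries k ≃ₐ[k] PowerSeries k,
      φ PowerSeries.X = PowerSeries.C (2⁻¹ : k) *
        (PowerSeries.X + PowerSeries.C (PowerSeries.coeff 1 (σ PowerSeries.X)) * σ PowerSeries.X) ∧
      ∀ f, φ.symm (σ (φ f)) = PowerSeries.rescale (PowerSeries.coeff 1 (σ PowerSeries.X)) f := by
  exact Groth.L13.PSAut.main h2 σ hσ

end Groth.Agent.S14080
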