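import Groth.Statements.S14083
import Groth.Agent.L13.ArSingClassify

set_option autoImplicit false
universe u
open ArSing
open Groth.Agent.L13

namespace Groth.Agent.S14083

/-- Over an algebraically closed field k of characteristic different from 2, every non-trivial k-algebra
involution σ of the node algebra A_1 = k[[x,y]]/(y^2 - x^2) is conjugate, by a k-algebra
automorphism φ of A_1, to one of the three involutions (x, y) ↦ (x, -y), (x, y) ↦ (-x, -y), (x, y) ↦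
(y, x). -/
theorem result (k : Type u) [Field k] [IsAlgClosed k]
    (h2 : (2 : k) ≠ 0)
    (σ : ArSing.ring k 1 ≃ₐ[k] ArSing.ring k 1) (hσ : ∀ a, σ (σ a) = a) (hne : σ ≠ AlgEquiv.refl) :
    ∃ φ : ArSing.ring k 1 ≃ₐ[k] ArSing.ring k 1,
      (φ.symm (σ (φ (ArSing.x k 1))) = ArSing.x k 1 ∧ φ.symm (σ (φ (ArSing.y k 1))) = -ArSing.y k 1) ∨
      (φ.symm (σ (φ (ArSing.x k 1))) = -ArSing.x k 1 ∧ φ.symm (σ (φ (ArSing.y k 1))) = -ArSing.y k 1) ∨
      (φ.symm (σ (φ (ArSing.x k 1))) = ArSing.y k 1 ∧ φ.symm (σ (φ (ArSing.y k 1))) = ArSing.x k 1) := by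
  obtain ⟨φ, h | h | ⟨hm, _⟩ | h⟩ :=
    ArSingClassify.classify (r := 1) (m := 1) one_pos rfl h2 σ hσ hne
  · exact ⟨φ, Or.inl ⟨by simp [h.1], by simp [h.2]⟩⟩
  · have e : ((-1 : ArSing.ring k 1)) * φ (ArSing.y k 1) = -φ (ArSing.y k 1) := neg_one_mul (φ (ArSing.y k 1))
    exact ⟨φ, Or.inr (Or.inl ⟨by simp [h.1], by rw [h.2, pow_one, e]; simp⟩)⟩
  · omega
  · exact ⟨φ, Or.inr (Or.inr ⟨by simp [h.2.1], by simp [h.2.2]⟩)⟩

end Groth.Agent.S14083
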