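import Groth.Statements.S14084
import Groth.Agent.L13.NodeInvolution
import Groth.Agent.L13.NodeDeform
import Mathlib.RingTheory.Ideal.MinimalPrime.Localization

set_option autoImplicit false
universe u
open ArSing
open Groth.Agent.L13

namespace Groth.Agent.S14084

/-- Let k be an algebraically closed field with 2 invertible, R → S a flat local homomorphism of
complete Noetherian local k-algebras whose closed fibre S/m_R S is isomorphic over k to the node
algebra k[[x,y]]/(y^2 - x^2), and σ an R-algebra involution of S whose reduction to the closed fibre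
does not exchange the two branches (it maps each minimal prime ideal over m_R S to itself). Then
there are t in R, signs ξ₁, ξ₂ in k and an R-algebra isomorphism of S with R[[x,y]]/(xy - t)
transporting σ to x ↦ ξ₂ x, y ↦ ξ₁ y; moreover t = 0 when ξ₁ = -ξ₂. -/
theorem result (k R S : Type u) [Field k] [IsAlgClosed k]
    (h2 : (2 : k) ≠ 0)
    [CommRing R] [IsLocalRing R] [IsNoetherianRing R] [IsAdicComplete (IsLocalRing.maximalIdeal R) R]
    [CommRing S] [IsLocalRing S] [IsNoetherianRing S] [IsAdicComplete (IsLocalRing.maximalIdeal S) S]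
    [Algebra k R] [Algebra R S] [Algebra k S] [IsScalarTower k R S]
    [IsLocalHom (algebraMap R S)] [Module.Flat R S]
    (e : (S ⧸ Ideal.map (algebraMap R S) (IsLocalRing.maximalIdeal R)) ≃ₐ[k]
      (MvPowerSeries (Fin 2) k ⧸
        Ideal.span {(MvPowerSeries.X 1 ^ 2 - MvPowerSeries.X 0 ^ 2 : MvPowerSeries (Fin 2) k)}))
    (σ : S ≃ₐ[R] S) (hσ : ∀ s, σ (σ s) = s)
    (hbr : ∀ P ∈ (Ideal.map (algebraMap R S) (IsLocalRing.maximalIdeal R)).minimalPrimes,
      Ideal.map (σ : S →+* S) P = P) :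
    ∃ (t : R) (ξ₁ ξ₂ : k), ξ₁ ^ 2 = 1 ∧ ξ₂ ^ 2 = 1 ∧ (ξ₁ = -ξ₂ → t = 0) ∧
      ∃ f : S ≃ₐ[R] (MvPowerSeries (Fin 2) R ⧸
          Ideal.span {(MvPowerSeries.X 0 * MvPowerSeries.X 1 - MvPowerSeries.C t : MvPowerSeries (Fin 2) R)}),
        f (σ (f.symm (Ideal.Quotient.mk _ (MvPowerSeries.X 0)))) =
          algebraMap k R ξ₂ • Ideal.Quotient.mk _ (MvPowerSeries.X 0) ∧
        f (σ (f.symm (Ideal.Quotient.mk _ (MvPowerSeries.X 1)))) =
          algebraMap k R ξ₁ • Ideal.Quotient.mk _ (MvPowerSeries.X 1) := by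
  set J := Ideal.map (algebraMap R S) (IsLocalRing.maximalIdeal R) with hJ
  let e' : (S ⧸ J) ≃ₐ[k] ArSing.ring k 1 := e.trans (Ideal.quotientEquivAlgOfEq k
    (by simp [ArSing.eqn]))
  let π : S →ₐ[k] ArSing.ring k 1 := e'.toAlgHom.comp (Ideal.Quotient.mkₐ k J)
  have hπs : Function.Surjective π := e'.surjective.comp Ideal.Quotient.mk_surjective
  have hker : RingHom.ker π.toRingHom = J := Ideal.ext fun s => by
    show e' (Ideal.Quotient.mk J s) = 0 ↔ s ∈ J
    rw [map_eq_zero_iff e' e'.injective, Ideal.Quotient.eq_zero_iff_mem]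
  have hσJ : J.map (σ.restrictScalars k : S →+* S) = J := by
    rw [hJ, Ideal.map_map]
    congr 1
    exact RingHom.ext fun r => σ.commutes r
  let σ₀ : ArSing.ring k 1 ≃ₐ[k] ArSing.ring k 1 :=
    e'.symm.trans ((Ideal.quotientEquivAlg J J (σ.restrictScalars k) hσJ.symm).trans e')
  have hσ₀ : ∀ s, π (σ s) = σ₀ (π s) := fun s => by
    show e' (Ideal.Quotient.mk J (σ s)) = e' (Ideal.quotientEquivAlg J J _ hσJ.symm
      (e'.symm (e' (Ideal.Quotient.mk J s))))
    rw [AlgEquiv.symm_apply_apply]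
    rfl
  have hσ₀2 : ∀ z, σ₀ (σ₀ z) = z := fun z => by
    obtain ⟨s, rfl⟩ := hπs z
    rw [← hσ₀, ← hσ₀, hσ]
  have hmin : ∀ p ∈ minimalPrimes (ArSing.ring k 1), ∀ z ∈ p, σ₀ z ∈ p := by
    intro p hp z hz
    obtain ⟨s, rfl⟩ := hπs z
    have hP : Ideal.comap π.toRingHom p ∈ J.minimalPrimes := by
      have : Ideal.comap π.toRingHom ⊥ = J := hker
      rw [← this, Ideal.comap_minimalPrimes_eq_of_surjective hπs]
      exact Set.mem_image_of_mem _ hp
    have := hbr _ hP
    rw [← hσ₀]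
    have hmem : σ s ∈ Ideal.comap π.toRingHom p := by
      rw [← this]; exact Ideal.mem_map_of_mem _ hz
    exact hmem
  obtain ⟨α, ξ₁, ξ₂, hα, hαk, h₁, h₂, hX, hY⟩ :=
    NodeInvolution.exists_coords h2 σ₀ hσ₀2 hmin
  have : IsLocalRing (ArSing.ring k 1) :=
    have := hπs
    have : Nontrivial (ArSing.ring k 1) := Ideal.Quotient.nontrivial_iff.mpr (by
      rw [Ne, Ideal.span_singleton_eq_top, MvPowerSeries.isUnit_iff_constantCoeff]
      simp [ArSing.eqn])
    IsLocalRing.of_surjective' π.toRingHom hπs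
  obtain ⟨t, Φ, ht, hΦ, hΦk, hΦX, hΦY⟩ := NodeDeform.exists_iso (R := R) h2 π.toRingHom hπs hker
    (fun c => π.commutes c) α hα hαk σ hσ σ₀.toAlgHom hσ₀ ξ₁ ξ₂ h₁ h₂ hX hY
  let g := (Ideal.quotientEquivAlgOfEq R hΦk.symm).trans
    (Ideal.quotientKerAlgEquivOfSurjective hΦ)
  have hg : ∀ i, g (Ideal.Quotient.mk _ (MvPowerSeries.X i)) = Φ (MvPowerSeries.X i) := fun i => rfl
  refine ⟨t, ξ₁, ξ₂, h₁, h₂, ht, g.symm, ?_, ?_⟩
  · apply g.injective
    rw [AlgEquiv.apply_symm_apply, AlgEquiv.symm_symm, hg, map_smul, hg, hΦX, Algebra.smul_def,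
      ← IsScalarTower.algebraMap_apply]
  · apply g.injective
    rw [AlgEquiv.apply_symm_apply, AlgEquiv.symm_symm, hg, map_smul, hg, hΦY, Algebra.smul_def,
      ← IsScalarTower.algebraMap_apply]

end Groth.Agent.S14084
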