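import Groth.Statements.S14086
import Groth.Agent.L20.FibreProduct
import Mathlib.LinearAlgebra.TensorProduct.Prod

set_option autoImplicit false
universe u
open FlatMor

namespace Groth.Agent.S14086

/-- Let R be a ring, A and B flat R-algebras, I an ideal of A, B → A/I an injective finite flat map of
R-algebras and P = B ×_{A/I} A the fibre product ring (pairs in B × A with equal image in A/I). For
any R-algebra R' the base change R' ⊗_R P maps injectively to R' ⊗_R A, and any b' in R' ⊗_R B and
a' in R' ⊗_R A with the same image in R' ⊗_R (A/I) are the two components of some element of R' ⊗_R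
P; that is, R' ⊗_R P is the fibre product of R' ⊗_R B and R' ⊗_R A over R' ⊗_R (A/I). -/
theorem result (R A B R' : Type u) [CommRing R] [CommRing A]
    [CommRing B] [CommRing R'] [Algebra R A] [Algebra R B] [Algebra R R'] [Module.Flat R A] [Module.Flat R B]
    (I : Ideal A) [Algebra B (A ⧸ I)] [IsScalarTower R B (A ⧸ I)] [Module.Finite B (A ⧸ I)] [Module.Flat B (A ⧸ I)]
    (hinj : Function.Injective (algebraMap B (A ⧸ I))) :
    Function.Injective (Algebra.TensorProduct.map (AlgHom.id R' R')
        ((AlgHom.snd R B A).comp (AlgHom.equalizer ((IsScalarTower.toAlgHom R B (A ⧸ I)).comp (AlgHom.fst R B A))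
          ((Ideal.Quotient.mkₐ R I).comp (AlgHom.snd R B A))).val)) ∧
    ∀ (b : TensorProduct R R' B) (a : TensorProduct R R' A),
      Algebra.TensorProduct.map (AlgHom.id R' R') (IsScalarTower.toAlgHom R B (A ⧸ I)) b =
        Algebra.TensorProduct.map (AlgHom.id R' R') (Ideal.Quotient.mkₐ R I) a →
      ∃ x : TensorProduct R R' ↥(AlgHom.equalizer ((IsScalarTower.toAlgHom R B (A ⧸ I)).comp (AlgHom.fst R B A))
          ((Ideal.Quotient.mkₐ R I).comp (AlgHom.snd R B A))),
        Algebra.TensorProduct.map (AlgHom.id R' R') ((AlgHom.fst R B A).comp (AlgHom.equalizer ((IsScalarTower.toAlgHom R B (A ⧸ I)).comp (AlgHom.fst R B A))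
          ((Ideal.Quotient.mkₐ R I).comp (AlgHom.snd R B A))).val) x = b ∧
        Algebra.TensorProduct.map (AlgHom.id R' R') ((AlgHom.snd R B A).comp (AlgHom.equalizer ((IsScalarTower.toAlgHom R B (A ⧸ I)).comp (AlgHom.fst R B A))
          ((Ideal.Quotient.mkₐ R I).comp (AlgHom.snd R B A))).val) x = a := by
  have := Groth.L20.faithfullyFlat_of_injective_of_finite hinj
  let P := AlgHom.equalizer ((IsScalarTower.toAlgHom R B (A ⧸ I)).comp (AlgHom.fst R B A))
        ((Ideal.Quotient.mkₐ R I).comp (AlgHom.snd R B A))
  let v : P →ₗ[R] B × A := P.val.toLinearMap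
  let u := Algebra.TensorProduct.map (AlgHom.id R' R') (IsScalarTower.toAlgHom R B (A ⧸ I))
  let w := Algebra.TensorProduct.map (AlgHom.id R' R') (Ideal.Quotient.mkₐ R I)
  let m₁ := Algebra.TensorProduct.map (AlgHom.id R' R') ((AlgHom.fst R B A).comp P.val)
  let m₂ := Algebra.TensorProduct.map (AlgHom.id R' R') ((AlgHom.snd R B A).comp P.val)
  let π := TensorProduct.prodRight R R R' B A
  have hu : ∀ b, u b = (IsScalarTower.toAlgHom R B (A ⧸ I)).toLinearMap.lTensor R' b := fun b => by
    induction b using TensorProduct.induction_on with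
    | zero => simp [Prod.ext_iff]
    | tmul r b => simp [u]
    | add x y hx hy => simp only [map_add, hx, hy]
  have hv : ∀ z, π (v.lTensor R' z) = (m₁ z, m₂ z) := fun z => by
    induction z using TensorProduct.induction_on with
    | zero => simp [Prod.ext_iff]
    | tmul r b => simp [π, m₁, m₂, v]
    | add x y hx hy => simp only [map_add, hx, hy, Prod.mk_add_mk]
  have hg : ∀ y, (Groth.L20.fibreDiff R A B I).lTensor R' y = u (π y).1 - w (π y).2 := fun y => by
    induction y using TensorProduct.induction_on with
    | zero => simp [Prod.ext_iff]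
    | tmul r x => simp [π, u, w, Groth.L20.fibreDiff, TensorProduct.tmul_sub]
    | add x y hx hy => simp only [map_add, hx, hy, Prod.fst_add, Prod.snd_add]; abel
  have hu_inj : Function.Injective u := fun a b h =>
    Groth.L20.lTensor_injective_of_faithfullyFlat R (by rw [← hu, ← hu]; exact h)
  refine ⟨?_, fun b a h => ?_⟩
  · intro x y hxy
    have h2 : m₂ x = m₂ y := hxy
    have hv_inj : Function.Injective (v.lTensor R') := fun p q hpq => by
      apply (TensorProduct.comm R R' P).injective
      apply (Groth.L20.fibreProduct_universallyInjective R A B I) R'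
      have hc : ∀ z : TensorProduct R R' P, v.rTensor R' (TensorProduct.comm R R' P z) = TensorProduct.comm R R' (B × A) (v.lTensor R' z) := fun z => by
        induction z using TensorProduct.induction_on with
        | zero => simp
        | tmul r b => simp
        | add x y hx hy => simp only [map_add, hx, hy]
      show v.rTensor R' _ = v.rTensor R' _
      rw [hc, hc, hpq]
    have h0 : ∀ z : TensorProduct R R' P, u (m₁ z) = w (m₂ z) := fun z => by
      induction z using TensorProduct.induction_on with
      | zero => simp
      | tmul r p =>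
        have : algebraMap B (A ⧸ I) (p : B × A).1 = Ideal.Quotient.mk I (p : B × A).2 := p.2
        simp [m₁, m₂, u, w, this]
      | add x y hx hy => simp only [map_add, hx, hy]
    have h1 : m₁ x = m₁ y := hu_inj (by rw [h0, h0, h2])
    apply hv_inj
    apply π.injective
    rw [hv, hv, h1, h2]
  · have hy : (Groth.L20.fibreDiff R A B I).lTensor R' (π.symm (b, a)) = 0 := by
      rw [hg, LinearEquiv.apply_symm_apply, sub_eq_zero]
      exact h
    obtain ⟨x, hx⟩ := ((lTensor_exact R' (Groth.L20.fibreDiff_exact R A B I)
      (Groth.L20.fibreDiff_surjective R A B I)) _).mp hy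
    have hx' : v.lTensor R' x = π.symm (b, a) := hx
    have := hv x
    rw [hx', LinearEquiv.apply_symm_apply] at this
    exact ⟨x, (congrArg Prod.fst this).symm, (congrArg Prod.snd this).symm⟩

end Groth.Agent.S14086
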