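import Groth.Statements.S14088
import Mathlib.Tactic.Ring
import Mathlib.Tactic.LinearCombination
import Mathlib.Tactic.Linarith
import Mathlib.Tactic.FieldSimp
import Mathlib.Tactic.Abel
import Mathlib.Algebra.BigOperators.Intervals
import Mathlib.Algebra.BigOperators.Ring.Finset

set_option autoImplicit false
universe u
open ArSing

namespace Groth.Agent.S14088

theorem rising_mul {A : Type u} [CommRing A] (h τ : A) (m : ℕ) : ∀ n : ℕ,
    (∏ i ∈ Finset.range n, (h + (i : A) * τ)) * ∏ i ∈ Finset.range m, (h + (i : A) * τ) =
      ∑ s ∈ Finset.range (n + 1), (-1 : A) ^ s * (Nat.factorial s : A) * (Nat.choose n s : A) *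
        (Nat.choose m s : A) * τ ^ s * ∏ i ∈ Finset.range (m + n - s), (h + (i : A) * τ) := by
  intro n
  induction n with
  | zero => simp
  | succ n ih =>
    rw [Finset.prod_range_succ, mul_comm _ (h + (n : A) * τ), mul_assoc, ih, Finset.mul_sum]
    let c : ℕ → ℕ → A := fun a s => (-1 : A) ^ s * (Nat.factorial s : A) * (Nat.choose a s : A) *
      (Nat.choose m s : A) * τ ^ s
    let P : ℕ → A := fun N => ∏ i ∈ Finset.range N, (h + (i : A) * τ)
    show ∑ s ∈ Finset.range (n + 1), (h + (n : A) * τ) * (c n s * P (m + n - s)) =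
      ∑ s ∈ Finset.range (n + 1 + 1), c (n + 1) s * P (m + (n + 1) - s)
    have hstep : ∀ s ∈ Finset.range (n + 1), (h + (n : A) * τ) * (c n s * P (m + n - s)) =
        c n s * P (m + (n + 1) - s) - ((m : A) - (s : A)) * τ * c n s * P (m + n - s) := fun s hs => by
      have hs' : s ≤ n := Nat.lt_succ_iff.mp (Finset.mem_range.mp hs)
      have e : P (m + (n + 1) - s) = P (m + n - s) * (h + ((m + n - s : ℕ) : A) * τ) := by
        rw [show m + (n + 1) - s = (m + n - s) + 1 by omega]
        exact Finset.prod_range_succ _ _
      rw [e, Nat.cast_sub (by omega), Nat.cast_add]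
      ring
    have hrec : ∀ s, c (n + 1) (s + 1) = c n (s + 1) - ((m : A) - (s : A)) * τ * c n s := fun s => by
      have hm : ((m : A) - (s : A)) * (m.choose s : A) = ((s : A) + 1) * (m.choose (s + 1) : A) := by
        rcases le_or_gt s m with hsm | hsm
        · have := congr_arg (fun x : ℕ => (x : A)) (Nat.choose_succ_right_eq m s)
          simp only [Nat.cast_mul, Nat.cast_succ, Nat.cast_sub hsm] at this
          linear_combination -this
        · simp [Nat.choose_eq_zero_of_lt hsm, Nat.choose_eq_zero_of_lt (Nat.lt_succ_of_lt hsm)]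
      simp only [c, Nat.factorial_succ, Nat.choose_succ_succ, Nat.cast_mul, Nat.cast_succ, Nat.cast_add, pow_succ]
      linear_combination (-1 : A) ^ s * (s.factorial : A) * (n.choose s : A) * τ ^ s * τ * hm
    rw [Finset.sum_congr rfl hstep, Finset.sum_sub_distrib, Finset.sum_range_succ' (fun s => c (n + 1) s * _)]
    simp only [hrec, sub_mul, Finset.sum_sub_distrib, show ∀ s, m + (n + 1) - (s + 1) = m + n - s from
      fun s => by omega]
    have e0 : ∑ s ∈ Finset.range (n + 1), c n s * P (m + (n + 1) - s) =
        ∑ s ∈ Finset.range (n + 1), c n (s + 1) * P (m + n - s) + c (n + 1) 0 * P (m + (n + 1) - 0) := by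
      have hz : c n (n + 1) = 0 := by simp [c]
      rw [Finset.sum_range_succ', Finset.sum_range_succ (fun s => c n (s + 1) * P (m + n - s)), hz,
        zero_mul, add_zero]
      simp only [show ∀ s, m + (n + 1) - (s + 1) = m + n - s from fun s => by omega]
      simp [c]
    rw [e0]
    abel


/-- The identity behind the torus-equivariant classes h_i = h_0 + i τ of the coordinate hyperplanes of a
projective space of binary forms, stated in an arbitrary commutative ring: for n ≤ m, (h_0 ⋯
h_(n-1))^2 · h_n ⋯ h_(m-1) equals the sum over s = 0, …, n of (-1)^s s! (n choose s) (m choose s)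
τ^s h_0 ⋯ h_(m+n-s-1), where h_i = h + i τ. (The published statement is in the equivariant Chow ring
of that projective space; only the relations h_i = h_j + (j - i) τ are used, so it holds in any
commutative ring.) -/
theorem result (A : Type u) [CommRing A] (h τ : A) (n m : ℕ) (hnm : n ≤ m) :
    (∏ i ∈ Finset.range n, (h + (i : A) * τ) ^ 2) * ∏ i ∈ Finset.Ico n m, (h + (i : A) * τ) =
      ∑ s ∈ Finset.range (n + 1), (-1 : A) ^ s * (Nat.factorial s : A) * (Nat.choose n s : A) *
        (Nat.choose m s : A) * τ ^ s * ∏ i ∈ Finset.range (m + n - s), (h + (i : A) * τ) := by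
  rw [← rising_mul h τ m n, ← Finset.prod_range_mul_prod_Ico _ hnm, Finset.prod_pow]
  ring

end Groth.Agent.S14088
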