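import Groth.Statements.S1409
import Mathlib.Algebra.Colimit.Ring
import Mathlib.RingTheory.Flat.FaithfullyFlat.Algebra
import Mathlib.RingTheory.Ideal.GoingDown
import Mathlib.Data.Set.Card

set_option autoImplicit false
universe u
open FlatMor

namespace Groth.Agent.S1409
open Ring in
private theorem exists_notMem_mul_pow_eq_zero {S : Type u} [CommRing S] {P : Ideal S} (hP : P ∈ minimalPrimes S)
    {z : S} (hz : z ∈ P) : ∃ y ∉ P, ∃ n : ℕ, y * z ^ n = 0 := by
  have hPp : P.IsPrime := hP.1.1
  by_contra hne
  push Not at hne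
  obtain ⟨q, hq, -, hdis⟩ := Ideal.exists_le_prime_disjoint (⊥ : Ideal S) (P.primeCompl ⊔ Submonoid.powers z)
    (Set.disjoint_left.mpr fun w hw hw' => by
      obtain ⟨y, hy, _, ⟨n, rfl⟩, rfl⟩ := Submonoid.mem_sup.mp hw'
      exact hne y hy n hw)
  have hle : q ≤ P := fun w hw => by
    by_contra hwP
    exact Set.disjoint_left.mp hdis hw (Submonoid.mem_sup_left hwP)
  exact Set.disjoint_left.mp hdis (hP.2 ⟨hq, bot_le⟩ hle hz) (Submonoid.mem_sup_right (Submonoid.mem_powers z))


/-- Let (R_i) be a directed system of commutative rings whose transition maps are faithfully flat, with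
colimit R. Then, counting in the extended natural numbers, the minimal primes of R are exactly as
numerous as the supremum over i of the count of minimal primes of R_i. -/
theorem result {ι : Type u} [Preorder ι] [IsDirected ι (· ≤ ·)] [Nonempty ι] (G : ι → Type u) [∀ i, CommRing (G i)]
    (f : ∀ i j, i ≤ j → G i →+* G j) [DirectedSystem G fun i j h => f i j h]
    (hf : ∀ i j (h : i ≤ j), letI := (f i j h).toAlgebra
      Module.FaithfullyFlat (G i) (G j)) :
    (minimalPrimes (Ring.DirectLimit G fun i j h => ⇑(f i j h))).encard = ⨆ i, (minimalPrimes (G i)).encard := by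
  classical
  let R := Ring.DirectLimit G fun i j h => ⇑(f i j h)
  let of : ∀ i, G i →+* R := Ring.DirectLimit.of G fun i j h => ⇑(f i j h)
  have hof : ∀ i j (h : i ≤ j) x, of j (f i j h x) = of i x := fun i j h x => Ring.DirectLimit.of_f h x
  have hmin : ∀ P ∈ minimalPrimes R, ∀ i, P.comap (of i) ∈ minimalPrimes (G i) := by
    intro P hP i
    have hPp : P.IsPrime := hP.1.1
    refine ⟨⟨Ideal.comap_isPrime _ _, bot_le⟩, ?_⟩
    rintro q ⟨hq, -⟩ hqle x hx
    obtain ⟨y, hy, n, hn⟩ := exists_notMem_mul_pow_eq_zero hP (show of i x ∈ P from hx)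
    obtain ⟨j, y', rfl⟩ := Ring.DirectLimit.exists_of y
    obtain ⟨k, hik, hjk⟩ := exists_ge_ge i j
    have h0 : of k (f j k hjk y' * f i k hik x ^ n) = 0 := by
      rw [map_mul, map_pow, hof, hof]; exact hn
    obtain ⟨l, hkl, hl⟩ := Ring.DirectLimit.of.zero_exact h0
    rw [map_mul, map_pow] at hl
    algebraize [(f k l hkl).comp (f i k hik)]
    have hcomp : (f k l hkl).comp (f i k hik) = f i l (hik.trans hkl) :=
      RingHom.ext fun w => DirectedSystem.map_map' (f := fun i j h => f i j h) hik hkl w
    have : Module.FaithfullyFlat (G i) (G l) := by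
      have := hf i l (hik.trans hkl)
      convert this using 2
      exact Algebra.algebra_ext _ _ fun w => RingHom.congr_fun hcomp w
    have hPl : (P.comap (of l)).LiesOver (P.comap (of i)) := ⟨by
      rw [Ideal.under_def, Ideal.comap_comap]
      congr 1
      ext w
      show of i w = of l (f k l hkl (f i k hik w))
      rw [hof, hof]⟩
    obtain ⟨Q, hQle, hQp, hQ⟩ := Ideal.exists_ideal_le_liesOver_of_le (P.comap (of l)) hqle
    have hy' : f k l hkl (f j k hjk y') ∉ Q := fun h => hy (by
      have := hQle h
      rwa [Ideal.mem_comap, hof, hof] at this)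
    have : f k l hkl (f i k hik x) ∈ Q := by
      refine hQp.mem_of_pow_mem n ((hQp.mem_or_mem ?_).resolve_left hy')
      rw [hl]; exact Q.zero_mem
    rw [hQ.over]
    exact this
  refine le_antisymm ?_ (iSup_le fun i => ?_)
  · refine ENat.forall_natCast_le_iff_le.mp fun n hn => ?_
    obtain ⟨t, ht, htn⟩ := Set.exists_subset_encard_eq hn
    have htf : t.Finite := Set.finite_of_encard_eq_coe htn
    have hd : ∀ pq : t × t, ∃ i, pq.1 = pq.2 ∨ ∀ j, i ≤ j → pq.1.1.comap (of j) ≠ pq.2.1.comap (of j) := by
      rintro ⟨p, q⟩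
      by_cases hpq : p = q
      · exact ⟨Classical.arbitrary ι, Or.inl hpq⟩
      obtain ⟨z, hz⟩ := not_forall.mp (mt SetLike.ext (fun h => hpq (Subtype.ext h) : p.1 ≠ q.1))
      obtain ⟨i, x, rfl⟩ := Ring.DirectLimit.exists_of z
      refine ⟨i, Or.inr fun j hij he => hz ?_⟩
      have := SetLike.ext_iff.mp he (f i j hij x)
      rw [Ideal.mem_comap, Ideal.mem_comap, hof] at this
      exact this
    choose i hi using hd
    have := htf.to_subtype
    obtain ⟨m, hm⟩ := Finite.exists_le i
    refine le_trans ?_ (le_iSup (fun i => (minimalPrimes (G i)).encard) m)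
    rw [← htn]
    refine Set.encard_le_encard_of_injOn (f := fun P => P.comap (of m)) (fun P hP => hmin P (ht hP) m) ?_
    intro p hp q hq he
    rcases hi (⟨p, hp⟩, ⟨q, hq⟩) with h | h
    · exact congrArg Subtype.val h
    · exact absurd he (h m (hm _))
  · have hsurj : ∀ q ∈ minimalPrimes (G i), ∃ P ∈ minimalPrimes R, P.comap (of i) = q := by
      intro q hq
      have hqp : q.IsPrime := hq.1.1
      have hcm : (q.map (of i)).comap (of i) = q := by
        refine le_antisymm (fun x hx => ?_) Ideal.le_comap_map
        have key : ∀ z ∈ q.map (of i), ∃ (j : ι) (h : i ≤ j), ∃ w ∈ q.map (f i j h), of j w = z := by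
          intro z hz
          refine Submodule.span_induction ?_ ?_ ?_ ?_ hz
          · rintro _ ⟨w, hw, rfl⟩
            exact ⟨i, le_rfl, f i i le_rfl w, Ideal.mem_map_of_mem _ hw, hof i i le_rfl w⟩
          · exact ⟨i, le_rfl, 0, zero_mem _, map_zero _⟩
          · rintro _ _ - - ⟨j, hj, a, ha, rfl⟩ ⟨j', hj', b, hb, rfl⟩
            obtain ⟨k, hjk, hjk'⟩ := exists_ge_ge j j'
            have hmap : ∀ (j : ι) (hj : i ≤ j) (hjk : j ≤ k), (q.map (f i j hj)).map (f j k hjk) = q.map (f i k (hj.trans hjk)) := by
              intro j hj hjk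
              rw [Ideal.map_map]
              congr 1
              exact RingHom.ext fun w => DirectedSystem.map_map' (f := fun i j h => f i j h) hj hjk w
            refine ⟨k, hj.trans hjk, f j k hjk a + f j' k hjk' b, add_mem ?_ ?_, by rw [map_add, hof, hof]⟩
            · exact hmap j hj hjk ▸ Ideal.mem_map_of_mem _ ha
            · exact hmap j' hj' hjk' ▸ Ideal.mem_map_of_mem _ hb
          · rintro c _ - ⟨j, hj, a, ha, rfl⟩
            obtain ⟨j', c', rfl⟩ := Ring.DirectLimit.exists_of c
            obtain ⟨k, hjk, hjk'⟩ := exists_ge_ge j j'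
            refine ⟨k, hj.trans hjk, f j' k hjk' c' * f j k hjk a, Ideal.mul_mem_left _ _ ?_,
              by rw [map_mul, hof, hof]; rfl⟩
            have : (q.map (f i j hj)).map (f j k hjk) = q.map (f i k (hj.trans hjk)) := by
              rw [Ideal.map_map]
              congr 1
              exact RingHom.ext fun w => DirectedSystem.map_map' (f := fun i j h => f i j h) hj hjk w
            exact this ▸ Ideal.mem_map_of_mem _ ha
        obtain ⟨j, hj, w, hw, hwx⟩ := key _ hx
        have h0 : of j (w - f i j hj x) = 0 := by rw [map_sub, hof, hwx, sub_self]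
        obtain ⟨l, hjl, hl⟩ := Ring.DirectLimit.of.zero_exact h0
        rw [map_sub, sub_eq_zero] at hl
        let _ := (f i l (hj.trans hjl)).toAlgebra
        have : Module.FaithfullyFlat (G i) (G l) := hf i l (hj.trans hjl)
        have h2 : f i l (hj.trans hjl) x ∈ q.map (f i l (hj.trans hjl)) := by
          have h3 := Ideal.mem_map_of_mem (f j l hjl) hw
          rw [hl, Ideal.map_map] at h3
          have hc : (f j l hjl).comp (f i j hj) = f i l (hj.trans hjl) :=
            RingHom.ext fun w => DirectedSystem.map_map' (f := fun i j h => f i j h) hj hjl w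
          rw [hc] at h3
          convert h3 using 1
          exact (RingHom.congr_fun hc x).symm
        rw [← Ideal.comap_map_eq_self_of_faithfullyFlat (B := G l) q]
        exact h2
      obtain ⟨P, hP, hPq⟩ := (Ideal.comap_map_eq_self_iff_of_isPrime (f := of i) q).mp hcm
      obtain ⟨P', hP', hP'le⟩ := Ideal.exists_minimalPrimes_le (bot_le : ⊥ ≤ P)
      refine ⟨P', hP', le_antisymm ?_ (hq.2 ⟨(hmin P' hP' i).1.1, bot_le⟩ ?_)⟩
      · exact (Ideal.comap_mono hP'le).trans hPq.le
      · exact (Ideal.comap_mono hP'le).trans hPq.le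
    choose g hg hg' using hsurj
    refine Set.encard_le_encard_of_injOn (f := fun q => if h : q ∈ minimalPrimes (G i) then g q h else ⊤)
      (fun q hq => by simp only [dif_pos hq]; exact hg q hq) ?_
    intro p hp q hq he
    simp only [dif_pos hp, dif_pos hq] at he
    rw [← hg' p hp, ← hg' q hq, he]

end Groth.Agent.S1409
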