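import Groth.Statements.S14093
import Groth.Agent.L13.ArSingFree

set_option autoImplicit false
universe u
open ArSing
open Groth.Agent.L13 Groth.Agent.L13.ArSingBase Groth.Agent.L13.ArSingFree

namespace Groth.Agent.S14093

/-- For an algebraically closed field k of characteristic prime to 2 and to r+1 and the involution σ of
A_r = k[[x,y]]/(y^2 - x^(r+1)) with σ(x) = x, σ(y) = -y: the invariant subalgebra is k[[x]] (the
image of t ↦ x from k[[t]]), the inclusion k[[x]] → A_r is faithfully flat (flat, and the maximal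
ideal of k[[t]] does not generate the unit ideal of A_r), and the fixed locus (the closed subscheme
cut out by all σ(a) - a) is a Cartier divisor of length r + 1, i.e. its ideal is generated by one
nonzerodivisor and the quotient has length r + 1. -/
theorem result (k : Type u) [Field k] [IsAlgClosed k] (r : ℕ)
    (h2 : (2 : k) ≠ 0) (hr : ((r + 1 : ℕ) : k) ≠ 0)
    (σ : ArSing.ring k r ≃ₐ[k] ArSing.ring k r) (hx : σ (ArSing.x k r) = ArSing.x k r)
    (hy : σ (ArSing.y k r) = -ArSing.y k r) :
    (∀ a : ArSing.ring k r, σ a = a ↔ a ∈ (ArSing.xMap k r).range) ∧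
    ((ArSing.xMap k r).toRingHom.Flat ∧
      Ideal.map (ArSing.xMap k r) (IsLocalRing.maximalIdeal (PowerSeries k)) ≠ ⊤) ∧
    (∃ g : ArSing.ring k r, g ∈ nonZeroDivisors (ArSing.ring k r) ∧
      Ideal.span (Set.range fun a : ArSing.ring k r => σ a - a) = Ideal.span {g}) ∧
    Module.length (ArSing.ring k r)
      (ArSing.ring k r ⧸ Ideal.span (Set.range fun a : ArSing.ring k r => σ a - a)) = r + 1 := by
  have hσx : (σ : ArSing.ring k r →ₐ[k] ArSing.ring k r).comp (ArSing.xMap k r) = ArSing.xMap k r := by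
    refine ext_X ?_ ?_ <;> simp [xMap_X, hx]
  have hσ : ∀ a b : PowerSeries k, σ (nf k r (a, b)) = nf k r (a, -b) := by
    intro a b
    have ha : σ (ArSing.xMap k r a) = ArSing.xMap k r a := AlgHom.congr_fun hσx a
    have hb : σ (ArSing.xMap k r b) = ArSing.xMap k r b := AlgHom.congr_fun hσx b
    simp only [nf_apply, map_add, map_mul, ha, hb, hy, map_neg]
    ring
  have hinv : ∀ a : ArSing.ring k r, σ a = a ↔ a ∈ (ArSing.xMap k r).range := by
    intro z
    refine ⟨fun h => ?_, by rintro ⟨a, rfl⟩; exact AlgHom.congr_fun hσx a⟩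
    rw [← nf_co z] at h ⊢
    generalize co k r z = q at h ⊢
    obtain ⟨a, b⟩ := q
    rw [hσ] at h
    have hb := congrArg Prod.snd ((nf_bijective (k := k) (r := r)).1 h)
    simp only at hb
    have : (2 : PowerSeries k) * b = 0 := by linear_combination -hb
    rw [(mul_eq_zero.1 this).resolve_left (ArSingOdd.two_ne h2)]
    exact ⟨a, by simp [nf_apply]⟩
  have hfl := flat_of_basis (ArSing.xMap k r).toRingHom (ArSing.y k r) (nf_bijective (k := k) (r := r))
  refine ⟨hinv, ⟨hfl.1, hfl.2 _ (IsLocalRing.maximalIdeal.isMaximal _).ne_top⟩, ⟨ArSing.y k r, y_mem_nzd, ?_⟩, ?_⟩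
  all_goals
    have hspan : Ideal.span (Set.range fun a : ArSing.ring k r => σ a - a) = Ideal.span {ArSing.y k r} := by
      refine le_antisymm (Ideal.span_le.2 ?_) (Ideal.span_le.2 (Set.singleton_subset_iff.2 ?_))
      · rintro _ ⟨z, rfl⟩
        show σ z - z ∈ Ideal.span {ArSing.y k r}
        rw [← nf_co z]
        generalize co k r z = q
        obtain ⟨a, b⟩ := q
        rw [hσ, Ideal.mem_span_singleton]
        exact ⟨-(2 * ArSing.xMap k r b), by simp only [nf_apply, map_neg]; ring⟩
      · refine Ideal.subset_span ⟨algebraMap k _ (-2⁻¹ : k) * ArSing.y k r, ?_⟩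
        simp only [map_mul, AlgEquiv.commutes, hy]
        have : algebraMap k (ArSing.ring k r) (2⁻¹ : k) * 2 = 1 := by
          rw [show (2 : ArSing.ring k r) = algebraMap k _ 2 from (map_ofNat _ 2).symm, ← map_mul, inv_mul_cancel₀ h2, map_one]
        rw [map_neg]
        linear_combination (ArSing.y k r) * this
  · exact hspan
  · let l : ArSing.ring k r →ₗ[k] (Fin (r + 1) → k) :=
      (LinearMap.pi fun i : Fin (r + 1) => (PowerSeries.coeff (R := k) (i : ℕ))).comp
        ((LinearMap.fst k _ _).comp (co k r).toLinearMap)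
    have hl : ∀ z i, l z i = PowerSeries.coeff (i : ℕ) (co k r z).1 := fun z i => rfl
    refine length_quot _ l (fun v => ?_) (fun z => ?_)
    · refine ⟨ArSing.xMap k r (PowerSeries.mk fun n => if h : n < r + 1 then v ⟨n, h⟩ else 0), funext fun i => ?_⟩
      rw [hl, co_xMap]
      rw [PowerSeries.coeff_mk, dif_pos i.isLt]
    · rw [hspan, Ideal.mem_span_singleton]
      constructor
      · intro h
        obtain ⟨g, hg⟩ : PowerSeries.X ^ (r + 1) ∣ (co k r z).1 :=
          PowerSeries.X_pow_dvd_iff.2 fun i hi => by simpa [hl] using congrFun h ⟨i, hi⟩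
        refine ⟨nf k r ((co k r z).2, g), ?_⟩
        apply (co k r).injective
        rw [co_y_mul, co_nf, ← hg]
      · rintro ⟨w, rfl⟩
        funext i
        rw [hl, co_y_mul, Pi.zero_apply]
        exact PowerSeries.X_pow_dvd_iff.1 (Dvd.intro _ rfl) i i.isLt

end Groth.Agent.S14093
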