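import Groth.Statements.S14094
import Groth.Agent.L13.ArSingFree

set_option autoImplicit false
universe u
open ArSing
open Groth.Agent.L13 Groth.Agent.L13.ArSingBase Groth.Agent.L13.ArSingFree

namespace Groth.Agent.S14094

/-- K algebraically closed of characteristic prime to 2 and to r+1, r = 2m - 1 with m ≥ 2, σ the
involution x ↦ -x, y ↦ y of A_r = k[[x,y]]/(y^2 - x^(r+1)), and φ : A_(m-1) → A_r the k-algebra map
x ↦ x^2, y ↦ y. Then the invariant subalgebra of σ is the image of φ (so A_r^σ ≅ A_(m-1)), φ is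
faithfully flat (flat, and the maximal ideal of A_(m-1) does not generate the unit ideal), and the
fixed locus of σ is a Cartier divisor of length 2: its ideal, generated by the elements σ(a) - a, is
generated by one nonzerodivisor and has quotient of length 2. -/
theorem result (k : Type u) [Field k] [IsAlgClosed k] (m r : ℕ)
    (hm : 2 ≤ m) (hr : r = 2 * m - 1) (h2 : (2 : k) ≠ 0) (hr1 : ((r + 1 : ℕ) : k) ≠ 0)
    (σ : ArSing.ring k r ≃ₐ[k] ArSing.ring k r) (hx : σ (ArSing.x k r) = -ArSing.x k r)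
    (hy : σ (ArSing.y k r) = ArSing.y k r)
    (φ : ArSing.ring k (m - 1) →ₐ[k] ArSing.ring k r) (hφx : φ (ArSing.x k (m - 1)) = ArSing.x k r ^ 2)
    (hφy : φ (ArSing.y k (m - 1)) = ArSing.y k r) :
    (∀ a : ArSing.ring k r, σ a = a ↔ a ∈ φ.range) ∧
    (φ.toRingHom.Flat ∧ ∀ I : Ideal (ArSing.ring k (m - 1)), I.IsMaximal → Ideal.map φ I ≠ ⊤) ∧
    (∃ g : ArSing.ring k r, g ∈ nonZeroDivisors (ArSing.ring k r) ∧ Ideal.span (Set.range fun a : ArSing.ring k r => σ a - a) = Ideal.span {g}) ∧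
    Module.length (ArSing.ring k r) (ArSing.ring k r ⧸ Ideal.span (Set.range fun a : ArSing.ring k r => σ a - a)) = 2 := by
  have hm' : r + 1 = 2 * m := by omega
  have hσc : ∀ a, σ (ArSing.xMap k r a) = ArSing.xMap k r (ng a) := by
    intro a
    refine AlgHom.congr_fun (ext_X (F := (σ : ArSing.ring k r →ₐ[k] ArSing.ring k r).comp (ArSing.xMap k r))
      (G := (ArSing.xMap k r).comp ng) ?_ ?_) a
    · simp [xMap_X, hx, ng, comp_X]
    · simp only [AlgHom.comp_apply, AlgEquiv.coe_toAlgHom, xMap_X, hx]; exact ⟨-1, by ring⟩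
  have hφc : ∀ a, φ (ArSing.xMap k (m - 1) a) = ArSing.xMap k r (sqS a) := by
    intro a
    refine AlgHom.congr_fun (ext_X (F := φ.comp (ArSing.xMap k (m - 1)))
      (G := (ArSing.xMap k r).comp sqS) ?_ ?_) a
    · simp [xMap_X, hφx, sqS_X]
    · simp [xMap_X, hφx, pow_two]
  have hσ : ∀ a b, σ (nf k r (a, b)) = nf k r (ng a, ng b) := by
    intro a b; simp [nf_apply, hσc, hy]
  have hφ : ∀ a b, φ (nf k (m - 1) (a, b)) = nf k r (sqS a, sqS b) := by
    intro a b; simp [nf_apply, hφc, hφy]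
  have hbij : Function.Bijective fun p : ArSing.ring k (m - 1) × ArSing.ring k (m - 1) =>
      φ.toRingHom p.1 + ArSing.x k r * φ.toRingHom p.2 := by
    have key : ∀ a b c d, φ (nf k (m - 1) (a, b)) + ArSing.x k r * φ (nf k (m - 1) (c, d)) =
        nf k r (sqS a + PowerSeries.X * sqS c, sqS b + PowerSeries.X * sqS d) := by
      intro a b c d
      rw [hφ, hφ]
      simp only [nf_apply, map_add, map_mul, xMap_X]
      ring
    constructor
    · intro p q h
      obtain ⟨p1, p2⟩ := p
      obtain ⟨q1, q2⟩ := q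
      obtain ⟨⟨a, b⟩, rfl⟩ := (nf_bijective (k := k) (r := m - 1)).2 p1
      obtain ⟨⟨c, d⟩, rfl⟩ := (nf_bijective (k := k) (r := m - 1)).2 p2
      obtain ⟨⟨a', b'⟩, rfl⟩ := (nf_bijective (k := k) (r := m - 1)).2 q1
      obtain ⟨⟨c', d'⟩, rfl⟩ := (nf_bijective (k := k) (r := m - 1)).2 q2
      simp only [AlgHom.toRingHom_eq_coe, RingHom.coe_coe, key] at h
      have h' := (nf_bijective (k := k) (r := r)).1 h
      have h1 := sq_split_bijective.1 (a₁ := (a, c)) (a₂ := (a', c')) (congrArg Prod.fst h')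
      have h2 := sq_split_bijective.1 (a₁ := (b, d)) (a₂ := (b', d')) (congrArg Prod.snd h')
      simp only [Prod.mk.injEq] at h1 h2
      rw [h1.1, h1.2, h2.1, h2.2]
    · intro z
      obtain ⟨⟨f, g⟩, rfl⟩ := (nf_bijective (k := k) (r := r)).2 z
      obtain ⟨⟨a, c⟩, rfl⟩ := sq_split_bijective.2 f
      obtain ⟨⟨b, d⟩, rfl⟩ := sq_split_bijective.2 g
      exact ⟨(nf k (m - 1) (a, b), nf k (m - 1) (c, d)), key a b c d⟩
  have hfl := flat_of_basis φ.toRingHom (ArSing.x k r) hbij
  have hspan : Ideal.span (Set.range fun a : ArSing.ring k r => σ a - a) = Ideal.span {ArSing.x k r} := by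
    refine le_antisymm (Ideal.span_le.2 ?_) (Ideal.span_le.2 (Set.singleton_subset_iff.2 ?_))
    · rintro _ ⟨z, rfl⟩
      show σ z - z ∈ Ideal.span {ArSing.x k r}
      rw [← nf_co z]
      generalize co k r z = q
      obtain ⟨a, b⟩ := q
      obtain ⟨a', ha⟩ : PowerSeries.X ∣ ng a - a := by
        rw [PowerSeries.X_dvd_iff, map_sub, ArSingNode.constantCoeff_map, sub_self]
      obtain ⟨b', hb⟩ : PowerSeries.X ∣ ng b - b := by
        rw [PowerSeries.X_dvd_iff, map_sub, ArSingNode.constantCoeff_map, sub_self]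
      rw [hσ, ← map_sub, Prod.mk_sub_mk, ha, hb, Ideal.mem_span_singleton]
      exact ⟨nf k r (a', b'), by simp only [nf_apply, map_mul, xMap_X]; ring⟩
    · refine Ideal.subset_span ⟨algebraMap k _ (-2⁻¹ : k) * ArSing.x k r, ?_⟩
      simp only [map_mul, AlgEquiv.commutes, hx]
      have : algebraMap k (ArSing.ring k r) (2⁻¹ : k) * 2 = 1 := by
        rw [show (2 : ArSing.ring k r) = algebraMap k _ 2 from (map_ofNat _ 2).symm, ← map_mul, inv_mul_cancel₀ h2, map_one]
      rw [map_neg]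
      linear_combination (ArSing.x k r) * this
  refine ⟨fun z => ?_, ⟨hfl.1, fun I hI => hfl.2 I hI.ne_top⟩, ⟨ArSing.x k r, x_mem_nzd, hspan⟩, ?_⟩
  · rw [← nf_co z]
    generalize co k r z = q
    obtain ⟨a, b⟩ := q
    rw [hσ]
    constructor
    · intro h
      have h' := (nf_bijective (k := k) (r := r)).1 h
      simp only [Prod.mk.injEq] at h'
      obtain ⟨a', rfl⟩ := (ng_eq_self_iff h2 a).1 h'.1
      obtain ⟨b', rfl⟩ := (ng_eq_self_iff h2 b).1 h'.2
      exact ⟨nf k (m - 1) (a', b'), hφ a' b'⟩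
    · rintro ⟨w, hw⟩
      obtain ⟨⟨a', b'⟩, rfl⟩ := (nf_bijective (k := k) (r := m - 1)).2 w
      have h' := (nf_bijective (k := k) (r := r)).1 ((hφ a' b').symm.trans hw)
      simp only [Prod.mk.injEq] at h'
      rw [← h'.1, ← h'.2, ng_sqS, ng_sqS]
  · let l : ArSing.ring k r →ₗ[k] (Fin 2 → k) :=
      LinearMap.pi fun i : Fin 2 => (PowerSeries.coeff (R := k) 0).comp
        (if i = 0 then (LinearMap.fst k _ _).comp (co k r).toLinearMap
          else (LinearMap.snd k _ _).comp (co k r).toLinearMap)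
    have hl0 : ∀ z, l z 0 = PowerSeries.constantCoeff (co k r z).1 := fun z => by simp [l]
    have hl1 : ∀ z, l z 1 = PowerSeries.constantCoeff (co k r z).2 := fun z => by simp [l]
    refine length_quot _ l (fun v => ?_) (fun z => ?_)
    · refine ⟨nf k r (PowerSeries.C (v 0), PowerSeries.C (v 1)), funext fun i => ?_⟩
      fin_cases i
      · exact (hl0 _).trans (by simp [co_nf])
      · exact (hl1 _).trans (by simp [co_nf])
    · rw [hspan, Ideal.mem_span_singleton]
      constructor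
      · intro h
        obtain ⟨a, ha⟩ : PowerSeries.X ∣ (co k r z).1 :=
          PowerSeries.X_dvd_iff.2 (by rw [← hl0, h]; rfl)
        obtain ⟨b, hb⟩ : PowerSeries.X ∣ (co k r z).2 :=
          PowerSeries.X_dvd_iff.2 (by rw [← hl1, h]; rfl)
        refine ⟨nf k r (a, b), (co k r).injective ?_⟩
        rw [co_x_mul, co_nf, ← ha, ← hb]
      · rintro ⟨w, rfl⟩
        funext i
        fin_cases i
        · exact (hl0 _).trans (by simp [co_x_mul])
        · exact (hl1 _).trans (by simp [co_x_mul])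

end Groth.Agent.S14094
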