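import Groth.Statements.S14095
import Groth.Agent.L13.ArSingFree
import Mathlib.RingTheory.Flat.EquationalCriterion

set_option autoImplicit false
universe u
open ArSing
open Groth.Agent.L13 Groth.Agent.L13.ArSingBase Groth.Agent.L13.ArSingFree

namespace Groth.Agent.S14095

/-- K algebraically closed of characteristic prime to 2 and to r+1, r = 2m - 1 with m ≥ 1, σ the
involution x ↦ -x, y ↦ -y of A_r = k[[x,y]]/(y^2 - x^(r+1)), and φ : A_m → A_r the k-algebra map x ↦
x^2, y ↦ xy. Then the invariant subalgebra of σ is the image of φ and φ is injective (so A_r^σ ≅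
A_m), φ is not flat, and the fixed locus of σ is the reduced closed point and is not a Cartier
divisor: the ideal generated by the elements σ(a) - a has quotient of length 1 and is not generated
by one nonzerodivisor. -/
theorem result (k : Type u) [Field k] [IsAlgClosed k] (m r : ℕ)
    (hm : 1 ≤ m) (hr : r = 2 * m - 1) (h2 : (2 : k) ≠ 0) (hr1 : ((r + 1 : ℕ) : k) ≠ 0)
    (σ : ArSing.ring k r ≃ₐ[k] ArSing.ring k r) (hx : σ (ArSing.x k r) = -ArSing.x k r)
    (hy : σ (ArSing.y k r) = -ArSing.y k r)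
    (φ : ArSing.ring k m →ₐ[k] ArSing.ring k r) (hφx : φ (ArSing.x k m) = ArSing.x k r ^ 2)
    (hφy : φ (ArSing.y k m) = ArSing.x k r * ArSing.y k r) :
    (∀ a : ArSing.ring k r, σ a = a ↔ a ∈ φ.range) ∧ Function.Injective φ ∧
    ¬ φ.toRingHom.Flat ∧
    Module.length (ArSing.ring k r) (ArSing.ring k r ⧸ Ideal.span (Set.range fun a : ArSing.ring k r => σ a - a)) = 1 ∧
    ¬ (∃ g : ArSing.ring k r, g ∈ nonZeroDivisors (ArSing.ring k r) ∧ Ideal.span (Set.range fun a : ArSing.ring k r => σ a - a) = Ideal.span {g}) := by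
  have hm' : r + 1 = 2 * m := by omega
  have hσc : ∀ a, σ (ArSing.xMap k r a) = ArSing.xMap k r (ng a) := by
    intro a
    refine AlgHom.congr_fun (ext_X (F := (σ : ArSing.ring k r →ₐ[k] ArSing.ring k r).comp (ArSing.xMap k r))
      (G := (ArSing.xMap k r).comp ng) ?_ ?_) a
    · simp [xMap_X, hx, ng, comp_X]
    · simp only [AlgHom.comp_apply, AlgEquiv.coe_toAlgHom, xMap_X, hx]; exact ⟨-1, by ring⟩
  have hφc : ∀ a, φ (ArSing.xMap k m a) = ArSing.xMap k r (sqS a) := by
    intro a
    refine AlgHom.congr_fun (ext_X (F := φ.comp (ArSing.xMap k m))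
      (G := (ArSing.xMap k r).comp sqS) ?_ ?_) a
    · simp [xMap_X, hφx, sqS_X]
    · simp [xMap_X, hφx, pow_two]
  have hσ : ∀ a b, σ (nf k r (a, b)) = nf k r (ng a, -ng b) := by
    intro a b; simp only [nf_apply, map_add, map_mul, hσc, hy, map_neg]; ring
  have hφ : ∀ a b, φ (nf k m (a, b)) = nf k r (sqS a, PowerSeries.X * sqS b) := by
    intro a b
    simp only [nf_apply, map_add, map_mul, hφc, hφy, xMap_X]
    ring
  have hmem : ∀ z : ArSing.ring k r, PowerSeries.constantCoeff (co k r z).1 = 0 →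
      z ∈ Ideal.span {ArSing.x k r, ArSing.y k r} := by
    intro z hz
    obtain ⟨a, ha⟩ := PowerSeries.X_dvd_iff.2 hz
    have : z = ArSing.xMap k r a * ArSing.x k r + ArSing.xMap k r (co k r z).2 * ArSing.y k r := by
      conv_lhs => rw [← nf_co z, nf_apply, ha, map_mul, xMap_X]
      ring
    rw [this]
    exact Ideal.mem_span_pair.2 ⟨_, _, rfl⟩
  have hspan : Ideal.span (Set.range fun a : ArSing.ring k r => σ a - a) =
      Ideal.span {ArSing.x k r, ArSing.y k r} := by
    refine le_antisymm (Ideal.span_le.2 ?_) (Ideal.span_le.2 ?_)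
    · rintro _ ⟨z, rfl⟩
      refine hmem _ ?_
      show PowerSeries.constantCoeff (co k r (σ z - z)).1 = 0
      rw [← nf_co z]
      generalize co k r z = q
      obtain ⟨a, b⟩ := q
      rw [hσ, map_sub, co_nf, co_nf]
      simp [ArSingNode.constantCoeff_map]
    · have : algebraMap k (ArSing.ring k r) (2⁻¹ : k) * 2 = 1 := by
        rw [show (2 : ArSing.ring k r) = algebraMap k _ 2 from (map_ofNat _ 2).symm, ← map_mul, inv_mul_cancel₀ h2, map_one]
      rintro z (rfl | rfl)
      · refine Ideal.subset_span ⟨algebraMap k _ (-2⁻¹ : k) * ArSing.x k r, ?_⟩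
        simp only [map_mul, AlgEquiv.commutes, hx, map_neg]
        linear_combination (ArSing.x k r) * this
      · refine Ideal.subset_span ⟨algebraMap k _ (-2⁻¹ : k) * ArSing.y k r, ?_⟩
        simp only [map_mul, AlgEquiv.commutes, hy, map_neg]
        linear_combination (ArSing.y k r) * this
  refine ⟨fun z => ?_, ?_, ?_, ?_, ?_⟩
  · rw [← nf_co z]
    generalize co k r z = q
    obtain ⟨a, b⟩ := q
    rw [hσ]
    constructor
    · intro h
      have h' := (nf_bijective (k := k) (r := r)).1 h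
      simp only [Prod.mk.injEq] at h'
      obtain ⟨a', rfl⟩ := (ng_eq_self_iff h2 a).1 h'.1
      obtain ⟨b', rfl⟩ := (ng_eq_neg_iff h2 b).1 (by rw [← neg_neg (ng b), h'.2])
      exact ⟨nf k m (a', b'), hφ a' b'⟩
    · rintro ⟨w, hw⟩
      obtain ⟨⟨a', b'⟩, rfl⟩ := (nf_bijective (k := k) (r := m)).2 w
      have h' := (nf_bijective (k := k) (r := r)).1 ((hφ a' b').symm.trans hw)
      simp only [Prod.mk.injEq] at h'
      rw [← h'.1, ← h'.2, ng_sqS, (ng_eq_neg_iff h2 _).2 ⟨b', rfl⟩, neg_neg]
  · intro p q h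
    obtain ⟨⟨a, b⟩, rfl⟩ := (nf_bijective (k := k) (r := m)).2 p
    obtain ⟨⟨a', b'⟩, rfl⟩ := (nf_bijective (k := k) (r := m)).2 q
    rw [hφ, hφ] at h
    have h' := (nf_bijective (k := k) (r := r)).1 h
    simp only [Prod.mk.injEq] at h'
    have := sq_split_bijective.1 (a₁ := (a, b)) (a₂ := (a', b')) (by simp [h'.1, h'.2])
    rw [this]
  · intro hflat
    let g : ArSing.ring k m →+* ArSing.ring k r := φ.toRingHom
    algebraize [g]
    have hfl : Module.Flat (ArSing.ring k m) (ArSing.ring k r) := hflat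
    obtain ⟨l, c, t, h₁, h₂⟩ := Module.Flat.isTrivialRelation_of_sum_smul_eq_zero
      (f := ![ArSing.x k m, -ArSing.y k m]) (x := ![ArSing.y k r, ArSing.x k r])
      (by
        simp only [Fin.sum_univ_two, Matrix.cons_val_zero, Matrix.cons_val_one, Algebra.smul_def,
          RingHom.algebraMap_toAlgebra, g, AlgHom.toRingHom_eq_coe, RingHom.coe_coe, map_neg, hφx, hφy]
        ring)
    have hy' : ArSing.y k r = ∑ j, φ (c 0 j) * t j := by
      have := h₁ 0
      simpa [Algebra.smul_def, RingHom.algebraMap_toAlgebra, g] using this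
    have hc0 : ∀ j, ∃ w, φ (c 0 j) = ArSing.x k r * w := by
      intro j
      have hj := h₂ j
      simp only [Fin.sum_univ_two, Matrix.cons_val_zero, Matrix.cons_val_one] at hj
      rw [show -ArSing.y k m * c 1 j = -(ArSing.y k m * c 1 j) by ring] at hj
      have hj' := congrArg (fun z => (co k m z).1) hj
      simp only [map_add, map_zero, map_neg, co_x_mul, co_y_mul, Prod.fst_add, Prod.fst_zero, Prod.fst_neg] at hj'
      have hA : (co k m (c 0 j)).1 = PowerSeries.X ^ m * (co k m (c 1 j)).2 := by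
        refine mul_left_cancel₀ PowerSeries.X_ne_zero ?_
        linear_combination hj'
      obtain ⟨B, hB⟩ : ∃ B, (co k m (c 0 j)).1 = PowerSeries.X * B :=
        ⟨PowerSeries.X ^ (m - 1) * (co k m (c 1 j)).2, by
          rw [← mul_assoc, ← pow_succ', Nat.sub_add_cancel hm, hA]⟩
      refine ⟨nf k r (PowerSeries.X * sqS B, sqS (co k m (c 0 j)).2), ?_⟩
      rw [← nf_co (c 0 j), hφ, hB, co_nf]
      simp only [nf_apply, map_mul, sqS_X, xMap_X, map_pow]
      ring
    choose w hw using hc0
    have : ArSing.y k r = ArSing.x k r * ∑ j, w j * t j := by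
      conv_lhs => rw [hy']
      rw [Finset.mul_sum]
      exact Finset.sum_congr rfl fun j _ => by rw [hw, mul_assoc]
    have h' := congrArg (fun z => PowerSeries.constantCoeff (co k r z).2) this
    simp [co_y, co_x_mul] at h'
  · let l : ArSing.ring k r →ₗ[k] (Fin 1 → k) :=
      LinearMap.pi fun _ : Fin 1 => (PowerSeries.coeff (R := k) 0).comp
        ((LinearMap.fst k _ _).comp (co k r).toLinearMap)
    have hl : ∀ z i, l z i = PowerSeries.constantCoeff (co k r z).1 := fun z i => by simp [l]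
    refine length_quot _ l (fun v => ?_) (fun z => ?_)
    · refine ⟨nf k r (PowerSeries.C (v 0), 0), funext fun i => ?_⟩
      rw [hl, co_nf, Subsingleton.elim i 0]; simp
    · rw [hspan]
      constructor
      · intro h; exact hmem z (by rw [← hl z 0, h]; rfl)
      · intro h
        obtain ⟨u, v, rfl⟩ := Ideal.mem_span_pair.1 h
        funext i
        rw [hl, mul_comm u, mul_comm v, map_add, co_x_mul, co_y_mul]
        simp
  · rintro ⟨g, -, hg⟩
    rw [hspan] at hg
    obtain ⟨g₀, g₁, hg'⟩ := Ideal.mem_span_pair.1 (hg ▸ Ideal.mem_span_singleton_self g)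
    obtain ⟨u, hu⟩ := Ideal.mem_span_singleton.1 (hg ▸ Ideal.subset_span (Or.inl rfl) : ArSing.x k r ∈ Ideal.span {g})
    obtain ⟨v, hv⟩ := Ideal.mem_span_singleton.1 (hg ▸ Ideal.subset_span (Or.inr rfl) : ArSing.y k r ∈ Ideal.span {g})
    have hg0 : PowerSeries.constantCoeff (co k r g).1 = 0 := by
      rw [← hg', mul_comm g₀, mul_comm g₁, map_add, co_x_mul, co_y_mul]
      simp
    have e1 := congrArg (co k r) hu
    have e2 := congrArg (co k r) hv
    rw [co_mul] at e1 e2
    rw [co_x] at e1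
    rw [co_y] at e2
    simp only [Prod.mk.injEq] at e1 e2
    have a1 := congrArg (PowerSeries.coeff 1) e1.1
    have a2 := congrArg PowerSeries.constantCoeff e1.2
    have a3 := congrArg PowerSeries.constantCoeff e2.2
    obtain ⟨g', hg''⟩ := PowerSeries.X_dvd_iff.2 hg0
    rw [hg''] at a1 a2 a3
    rw [hm', show 2 * m = 2 * m - 1 + 1 by omega, pow_succ', mul_assoc, map_add, mul_assoc,
      PowerSeries.coeff_one_X, PowerSeries.coeff_succ_X_mul, PowerSeries.coeff_succ_X_mul] at a1
    simp [zero_pow (show 2 * m - 1 ≠ 0 by omega)] at a1 a2 a3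
    rcases a2 with h | h
    · rw [h] at a3; simp at a3
    · rw [h] at a1; simp at a1

end Groth.Agent.S14095
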