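import Groth.Statements.S14096
import Groth.Agent.L13.ArSingNode
import Mathlib.RingTheory.Flat.EquationalCriterion

set_option autoImplicit false
universe u
open ArSing
open Groth.Agent.L13.ArSingBase Groth.Agent.L13.ArSingOdd Groth.Agent.L13.ArSingNode

namespace Groth.Agent.S14096

/-- A single relation along a flat ring map is trivial. -/
lemma flat_trivial_relation {R S : Type u} [CommRing R] [CommRing S] (f : R →+* S) (hf : f.Flat)
    (r : R) (s : S) (h : f r * s = 0) :
    ∃ (l : ℕ) (c : Fin l → R) (t : Fin l → S), s = ∑ j, f (c j) * t j ∧ ∀ j, r * c j = 0 := by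
  algebraize [f]
  have : Module.Flat R S := hf
  obtain ⟨l, c, t, h₁, h₂⟩ := Module.Flat.isTrivialRelation_of_sum_smul_eq_zero
    (f := fun _ : Fin 1 => r) (x := fun _ : Fin 1 => s)
    (by simpa [Algebra.smul_def, RingHom.algebraMap_toAlgebra] using h)
  refine ⟨l, c 0, t, ?_, fun j => by simpa using h₂ j⟩
  simpa [Algebra.smul_def, RingHom.algebraMap_toAlgebra] using h₁ 0

/-- K algebraically closed of characteristic ≠ 2, σ the involution of the node algebra A_1 =
k[[x,y]]/(y^2 - x^2) exchanging x and y, and φ : A_1 → A_1 the k-algebra map with φ(x + y) = x + y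
and φ(y - x) = (y - x)^2 (in the branch coordinates u = x + y, v = y - x with uv = 0: u ↦ u, v ↦
v^2). Then the invariant subalgebra of σ is the image of φ and φ is injective (so A_1^σ ≅ A_1), and
the fixed locus of σ is the branch v = 0: the ideal generated by the elements σ(a) - a is the ideal
(y - x), a minimal prime ideal generated by a zero-divisor (so not a Cartier divisor). Moreover φ is
not flat. (The published statement asserts that this extension is faithfully flat; it is not: as a
module over the invariant subalgebra B = k[[u,w]]/(uw), w = v^2, A_1 is B ⊕ (B/uB)·v, and B/uB is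
not flat over B — equivalently the fibre length jumps from 1 on the branch w = 0 to 2 at the closed
point.) -/
theorem result (k : Type u) [Field k] [IsAlgClosed k]
    (h2 : (2 : k) ≠ 0)
    (σ : ArSing.ring k 1 ≃ₐ[k] ArSing.ring k 1) (hx : σ (ArSing.x k 1) = ArSing.y k 1)
    (hy : σ (ArSing.y k 1) = ArSing.x k 1)
    (φ : ArSing.ring k 1 →ₐ[k] ArSing.ring k 1) (hφu : φ (ArSing.x k 1 + ArSing.y k 1) = ArSing.x k 1 + ArSing.y k 1)
    (hφv : φ (ArSing.y k 1 - ArSing.x k 1) = (ArSing.y k 1 - ArSing.x k 1) ^ 2) :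
    (∀ a : ArSing.ring k 1, σ a = a ↔ a ∈ φ.range) ∧ Function.Injective φ ∧
    Ideal.span (Set.range fun a : ArSing.ring k 1 => σ a - a) = Ideal.span {ArSing.y k 1 - ArSing.x k 1} ∧
    (ArSing.y k 1 - ArSing.x k 1) ∉ nonZeroDivisors (ArSing.ring k 1) ∧
    Ideal.span {ArSing.y k 1 - ArSing.x k 1} ∈ minimalPrimes (ArSing.ring k 1) ∧
    ¬ φ.toRingHom.Flat := by
  have hm : 0 < 1 := one_pos
  have hr : 1 + 1 = 2 * 1 := rfl
  set P := p₁ (k := k) hm hr with hP
  set Q := p₂ (k := k) hm hr with hQ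
  have Px : P (ArSing.x k 1) = PowerSeries.X := p₁_x hm hr
  have Py : P (ArSing.y k 1) = PowerSeries.X := by simpa using p₁_y (k := k) hm hr
  have Qx : Q (ArSing.x k 1) = PowerSeries.X := p₂_x hm hr
  have Qy : Q (ArSing.y k 1) = -PowerSeries.X := by simpa using p₂_y (k := k) hm hr
  have ext' : ∀ {z w : ArSing.ring k 1}, P z = P w → Q z = Q w → z = w :=
    fun h h' => eq_of_branches hm hr h2 h h'
  have mk' : ∀ A B : PowerSeries k, PowerSeries.constantCoeff A = PowerSeries.constantCoeff B →
      ∃ z, P z = A ∧ Q z = B := fun A B h =>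
    (exists_eq_iff hm hr h2 A B).mpr ((X_dvd_sub_iff A B).mpr h)
  have cPQ : ∀ z, PowerSeries.constantCoeff (P z) = PowerSeries.constantCoeff (Q z) := fun z =>
    (X_dvd_sub_iff _ _).mp (branches_congr hm hr h2 z)
  -- σ
  have σP : ∀ z, P (σ z) = P z := AlgHom.congr_fun (ring_hom_ext (F := P.comp σ.toAlgHom)
    (by simp [hx, Px, Py]) (by simp [hy, Px, Py]))
  have σQ : ∀ z, Q (σ z) = comp (-PowerSeries.X) (by simp) (Q z) :=
    AlgHom.congr_fun (ring_hom_ext (F := Q.comp σ.toAlgHom)
      (G := (comp (-PowerSeries.X) (by simp)).comp Q)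
      (by simp [hx, Qx, Qy, comp_X]) (by simp [hy, Qx, Qy, comp_X]))
  -- φ
  have hxx : (2 : ArSing.ring k 1) * φ (ArSing.x k 1) = (ArSing.x k 1 + ArSing.y k 1) -
      (ArSing.y k 1 - ArSing.x k 1) ^ 2 := by
    rw [← hφv, map_sub]; rw [map_add] at hφu; linear_combination hφu
  have hyy : (2 : ArSing.ring k 1) * φ (ArSing.y k 1) = (ArSing.x k 1 + ArSing.y k 1) +
      (ArSing.y k 1 - ArSing.x k 1) ^ 2 := by
    rw [← hφv, map_sub]; rw [map_add] at hφu; linear_combination hφu
  have h2' : (2 : PowerSeries k) ≠ 0 := two_ne h2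
  have φPx : P (φ (ArSing.x k 1)) = PowerSeries.X := mul_left_cancel₀ h2' (by
    have := congrArg P hxx
    simp only [map_mul, map_sub, map_add, map_pow, map_ofNat, Px, Py] at this
    linear_combination this)
  have φPy : P (φ (ArSing.y k 1)) = PowerSeries.X := mul_left_cancel₀ h2' (by
    have := congrArg P hyy
    simp only [map_mul, map_sub, map_add, map_pow, map_ofNat, Px, Py] at this
    linear_combination this)
  set c : PowerSeries k := -2 * PowerSeries.X ^ 2 with hc
  have hc0 : PowerSeries.constantCoeff c = 0 := by simp [hc]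
  have φQx : Q (φ (ArSing.x k 1)) = c := mul_left_cancel₀ h2' (by
    have := congrArg Q hxx
    simp only [map_mul, map_sub, map_add, map_pow, map_ofNat, Qx, Qy] at this
    linear_combination this)
  have φQy : Q (φ (ArSing.y k 1)) = -c := mul_left_cancel₀ h2' (by
    have := congrArg Q hyy
    simp only [map_mul, map_sub, map_add, map_pow, map_ofNat, Qx, Qy] at this
    linear_combination this)
  have φP : ∀ z, P (φ z) = P z := AlgHom.congr_fun (ring_hom_ext (F := P.comp φ)
    (by simp [φPx, Px]) (by simp [φPy, Py]))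
  have φQ : ∀ z, Q (φ z) = comp c hc0 (Q z) :=
    AlgHom.congr_fun (ring_hom_ext (F := Q.comp φ) (G := (comp c hc0).comp Q)
      (by simp [φQx, Qx, comp_X]) (by simp [φQy, Qy, comp_X]))
  set d : PowerSeries k := -2 * PowerSeries.X with hd
  set d' : PowerSeries k := PowerSeries.C (-2⁻¹ : k) * PowerSeries.X with hd'
  have hd0 : PowerSeries.constantCoeff d = 0 := by simp [hd]
  have hd0' : PowerSeries.constantCoeff d' = 0 := by simp [hd']
  have hC : (-2 : PowerSeries k) * PowerSeries.C (-2⁻¹ : k) = 1 := by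
    rw [show (-2 : PowerSeries k) = PowerSeries.C (-2 : k) by rw [map_neg, map_ofNat], ← map_mul, neg_mul_neg,
      mul_inv_cancel₀ h2, map_one]
  have compC : ∀ (a : PowerSeries k) (ha : PowerSeries.constantCoeff a = 0) (r : k),
      comp a ha (PowerSeries.C r) = PowerSeries.C r := fun a ha r => by
    rw [PowerSeries.C_eq_algebraMap, AlgHom.commutes]
  have hcd : ∀ f, comp (PowerSeries.X ^ 2) (by simp) (comp d hd0 f) = comp c hc0 f := fun f =>
    comp_comp_X d _ hd0 _ f c hc0 (by simp [hd, hc, comp_X, map_ofNat])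
  have hdd' : ∀ f, comp d hd0 (comp d' hd0' f) = f := fun f => by
    rw [comp_comp_X d' d hd0' hd0 f PowerSeries.X PowerSeries.constantCoeff_X (by
      rw [hd', map_mul, compC, comp_X, hd, ← mul_assoc, mul_comm (PowerSeries.C _), hC, one_mul]),
      comp_X_self]
  have hd'd : ∀ f, comp d' hd0' (comp d hd0 f) = f := fun f => by
    rw [comp_comp_X d d' hd0 hd0' f PowerSeries.X PowerSeries.constantCoeff_X (by
      rw [hd, map_mul, map_neg, map_ofNat, comp_X, hd', ← mul_assoc, hC, one_mul]),
      comp_X_self]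
  have c_inj : ∀ f g, comp c hc0 f = comp c hc0 g → f = g := fun f g h => by
    rw [← hcd, ← hcd] at h
    simpa [hd'd] using congrArg (comp d' hd0') (comp_X_sq_injective h)
  have φinj : Function.Injective φ := fun z w h =>
    ext' (by simpa [φP] using congrArg P h) (c_inj _ _ (by simpa [φQ] using congrArg Q h))
  -- the branch
  set v := ArSing.y k 1 - ArSing.x k 1 with hv
  have Pv : P v = 0 := by simp [hv, Px, Py]
  have Qv : Q v = -2 * PowerSeries.X := by simp [hv, Qx, Qy]; ring
  have ker_le : ∀ z, P z = 0 → z ∈ Ideal.span {v} := by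
    intro z hz
    obtain ⟨S, hS⟩ : (PowerSeries.X : PowerSeries k) ∣ Q z := by
      rw [PowerSeries.X_dvd_iff, ← cPQ, hz, map_zero]
    obtain ⟨w, hw₁, hw₂⟩ := mk'
      (PowerSeries.C (PowerSeries.constantCoeff (PowerSeries.C (-2⁻¹ : k) * S)))
      (PowerSeries.C (-2⁻¹ : k) * S) (by simp)
    refine Ideal.mem_span_singleton.mpr ⟨w, ext' (by simp [hz, Pv]) ?_⟩
    rw [map_mul, Qv, hw₂, hS]
    linear_combination -(PowerSeries.X * S) * hC
  have hker : Ideal.span {v} = RingHom.ker P := by
    refine le_antisymm ?_ (fun z hz => ker_le z hz)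
    rw [Ideal.span_le]
    intro z hz
    rw [Set.mem_singleton_iff.mp hz]
    exact Pv
  have hprime : (Ideal.span {v}).IsPrime := hker ▸ RingHom.ker_isPrime P
  set u := ArSing.x k 1 + ArSing.y k 1 with hu
  have Pu : P u = 2 * PowerSeries.X := by simp [hu, Px, Py]; ring
  have Qu : Q u = 0 := by simp [hu, Qx, Qy]
  have uv : u * v = 0 := ext' (by simp [Pv]) (by simp [Qu])
  have Pu0 : P u ≠ 0 := by
    rw [Pu]; exact mul_ne_zero h2' PowerSeries.X_ne_zero
  have u_not_mem : u ∉ Ideal.span {v} := fun h => Pu0 (by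
    obtain ⟨w, e⟩ := Ideal.mem_span_singleton.mp h
    rw [e, map_mul, Pv, zero_mul])
  refine ⟨fun a => ⟨fun h => ?_, ?_⟩, φinj, ?_, ?_, ⟨⟨hprime, bot_le⟩, ?_⟩, ?_⟩
  · obtain ⟨E, hE⟩ := exists_comp_X_sq h2 (Q := Q a) (by rw [← σQ, h])
    have hQ' : comp c hc0 (comp d' hd0' E) = Q a := by rw [← hcd, hdd', hE]
    obtain ⟨b, hb₁, hb₂⟩ := mk' (P a) (comp d' hd0' E)
      (by rw [cPQ a, ← hQ', constantCoeff_map])
    exact ⟨b, ext' ((φP b).trans hb₁) ((φQ b).trans (hb₂ ▸ hQ'))⟩
  · rintro ⟨b, rfl⟩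
    refine ext' (σP _) ?_
    show Q (σ (φ b)) = Q (φ b)
    rw [σQ, φQ]
    exact comp_comp_X c _ hc0 _ _ c hc0 (by simp [hc, comp_X, map_ofNat])
  · refine le_antisymm (Ideal.span_le.mpr ?_) (Ideal.span_le.mpr ?_)
    · rintro _ ⟨a, rfl⟩
      exact ker_le _ (by simp [σP])
    · rintro _ rfl
      refine Ideal.subset_span ⟨algebraMap k _ (-2⁻¹ : k) * v, ext' ?_ ?_⟩
      · simp [σP, Pv]
      · simp only [map_sub, map_mul, σQ, map_neg, map_ofNat, AlgHom.commutes, Qv, comp_X]
        rw [← PowerSeries.C_eq_algebraMap]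
        simp only [map_neg] at hC ⊢
        linear_combination (-2 * PowerSeries.X : PowerSeries k) * hC
  · intro h
    exact u_not_mem ((mem_nonZeroDivisors_iff_right.mp h u uv).symm ▸ Submodule.zero_mem _)
  · intro p hp hle
    obtain h | h := hp.1.mem_or_mem (show u * v ∈ p by rw [uv]; exact Submodule.zero_mem p)
    · exact absurd (hle h) u_not_mem
    · rw [Ideal.span_le]; intro z hz; rw [Set.mem_singleton_iff.mp hz]; exact h
  · intro hflat
    obtain ⟨l, a, y, hxy, hy0⟩ := flat_trivial_relation φ.toRingHom hflat u v (by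
      show φ u * v = 0
      rw [hφu, uv])
    have hv' := congrArg Q hxy
    have hdvd : (PowerSeries.X : PowerSeries k) ^ 2 ∣ Q v := by
      rw [hv', map_sum]
      refine Finset.dvd_sum fun j _ => ?_
      show _ ∣ Q (φ (a j) * y j)
      rw [map_mul, φQ]
      refine dvd_mul_of_dvd_left ?_ _
      have ha : P u * P (a j) = 0 := by
        simpa using congrArg P (hy0 j)
      have ha' : P (a j) = 0 := (mul_eq_zero.mp ha).resolve_left Pu0
      obtain ⟨S, hS⟩ : (PowerSeries.X : PowerSeries k) ∣ Q (a j) := by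
        rw [PowerSeries.X_dvd_iff, ← cPQ, ha', map_zero]
      rw [hS, map_mul, comp_X]
      exact dvd_mul_of_dvd_left ⟨-2, by rw [hc]; ring⟩ _
    rw [Qv] at hdvd
    have := PowerSeries.X_pow_dvd_iff.mp hdvd 1 one_lt_two
    rw [show (-2 : PowerSeries k) = PowerSeries.C (-2 : k) by rw [map_neg, map_ofNat]] at this
    simp at this
    exact h2 this

end Groth.Agent.S14096
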