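import Groth.Statements.S14097
import Mathlib.Tactic.Ring
import Mathlib.Tactic.LinearCombination
import Mathlib.Tactic.Linarith
import Mathlib.Tactic.FieldSimp
import Mathlib.RingTheory.MvPolynomial.Symmetric.Defs
import Mathlib.Algebra.BigOperators.Ring.Finset

set_option autoImplicit false
universe u
open ArSing

namespace Groth.Agent.S14097

theorem esymm_range_succ {A : Type u} [CommRing A] (h : ℕ → A) (N j : ℕ) :
    (((Finset.range (N + 1)).val.map h).esymm (j + 1)) =
      ((Finset.range N).val.map h).esymm (j + 1) + h N * ((Finset.range N).val.map h).esymm j := by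
  rw [Finset.range_val, Multiset.range_succ, Multiset.map_cons, Multiset.esymm, Multiset.powersetCard_cons,
    Multiset.map_add, Multiset.sum_add, Multiset.map_map]
  simp only [Finset.range_val, Multiset.esymm, Function.comp_def, Multiset.prod_cons, Multiset.sum_map_mul_left]

theorem esymm_zero' {A : Type u} [CommRing A] (s : Multiset A) : s.esymm 0 = 1 := by
  simp [Multiset.esymm, Multiset.powersetCard_zero_left]

theorem key {A : Type u} [CommRing A] (τ : A) (h : ℕ → A) : ∀ m : ℕ,
    (∀ i, i ≤ m → h i ^ 2 + τ * h i = 0) →
    (∏ i ∈ Finset.range m, (h i + h (i + 1) + τ)) * h m = ((Finset.range (m + 1)).val.map h).esymm (m + 1) ∧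
    ∏ i ∈ Finset.range m, (h i + h (i + 1) + τ) =
      ∑ j ∈ Finset.range (m + 1), τ ^ (m - j) * (((Finset.range (m + 1)).val.map h).esymm j) := by
  intro m
  induction m with
  | zero =>
    intro _
    constructor
    · simp [Multiset.esymm, Multiset.powersetCard_one]
    · simp [esymm_zero']
  | succ m ih =>
    intro hr
    obtain ⟨ih1, ih2⟩ := ih fun i hi => hr i (hi.trans (Nat.le_succ m))
    have htop : ((Finset.range (m + 1)).val.map h).esymm (m + 2) = 0 := by
      rw [Multiset.esymm, Multiset.powersetCard_eq_empty _ (by simp)]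
      simp
    constructor
    · rw [Finset.prod_range_succ, esymm_range_succ h (m + 1) (m + 1), htop, zero_add, ← ih1]
      linear_combination (∏ i ∈ Finset.range m, (h i + h (i + 1) + τ)) * hr (m + 1) le_rfl
    · rw [Finset.prod_range_succ, Finset.sum_range_succ']
      simp only [esymm_range_succ h (m + 1), esymm_zero', Nat.add_sub_add_right, mul_add,
        Finset.sum_add_distrib, Nat.sub_zero, mul_one, mul_left_comm _ (h (m + 1)), ← Finset.mul_sum]
      have e1 : ∑ j ∈ Finset.range (m + 1), τ ^ (m - j) * ((Finset.range (m + 1)).val.map h).esymm j =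
          ∑ j ∈ Finset.range m, τ ^ (m - (j + 1)) * ((Finset.range (m + 1)).val.map h).esymm (j + 1) + τ ^ m := by
        rw [Finset.sum_range_succ', esymm_zero', mul_one, Nat.sub_zero]
      have e2 : ∑ j ∈ Finset.range (m + 1), τ ^ (m - j) * ((Finset.range (m + 1)).val.map h).esymm (j + 1) =
          τ * (∑ j ∈ Finset.range m, τ ^ (m - (j + 1)) * ((Finset.range (m + 1)).val.map h).esymm (j + 1)) +
            ((Finset.range (m + 1)).val.map h).esymm (m + 1) := by
        rw [Finset.sum_range_succ, Nat.sub_self, pow_zero, one_mul, Finset.mul_sum]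
        congr 1
        refine Finset.sum_congr rfl fun j hj => ?_
        rw [Finset.mem_range] at hj
        rw [show m - j = (m - (j + 1)) + 1 by omega, pow_succ]; ring
      rw [e2]
      linear_combination ih1 + (τ + h (m + 1)) * ih2 + τ * e1


/-- In any commutative ring, if h_0, …, h_(k-1) (k ≥ 2) and τ satisfy h_i^2 + τ h_i = 0, then ∏_(i ≤
k-2) (h_i + h_(i+1) + τ) = Σ_(j ≤ k-1) τ^(k-1-j) e_j(h), e_j the elementary symmetric functions.
(The published statement is the resulting formula for the class of the small diagonal in the Chow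
ring of (P^1)^k, where the h_i are the hyperplane classes of the factors and satisfy these
relations; only the ring identity is asserted here.) -/
theorem result (A : Type u) [CommRing A] (k : ℕ) (hk : 2 ≤ k) (τ : A)
    (h : ℕ → A) (hrel : ∀ i, i < k → h i ^ 2 + τ * h i = 0) :
    ∏ i ∈ Finset.range (k - 1), (h i + h (i + 1) + τ) =
      ∑ j ∈ Finset.range k, τ ^ (k - 1 - j) * (((Finset.range k).val.map h).esymm j) := by
  obtain ⟨m, rfl⟩ : ∃ m, k = m + 1 := ⟨k - 1, by omega⟩
  simp only [Nat.add_sub_cancel]
  exact (key τ h m fun i hi => hrel i (by omega)).2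

end Groth.Agent.S14097
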