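import Groth.Statements.S1410
import Groth.Agent.L12.GenusZero.Local

set_option autoImplicit false
universe u
open FlatMor

namespace Groth.Agent.S1410

open AlgebraicGeometry CategoryTheory Limits in
/-- Let f : X → Y be proper with every fibre of dimension at most 1 and with H^1(X_y, O) = 0 for all y,
and assume O_Y → f_* O_X is surjective (checked on affine opens). Then for every base change f' : X'
→ Y' of f, O_{Y'} → f'_* O_{X'} is surjective on every affine open of Y'. -/
theorem result {X Y : Scheme.{u}} (f : X ⟶ Y) [IsProper f]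
    (hdim : ∀ y : Y, topologicalKrullDim ↑(f.fiber y) ≤ 1) (hH1 : ∀ y : Y, Subsingleton (Coh.HH (f.fiber y) (Coh.structureModule (f.fiber y)) 1))
    (hsurj : ∀ U : Y.Opens, IsAffineOpen U → Function.Surjective (f.app U))
    {X' Y' : Scheme.{u}} (f' : X' ⟶ Y') (g' : X' ⟶ X) (g : Y' ⟶ Y) (hc : IsPullback g' f' f g) :
    ∀ U' : Y'.Opens, IsAffineOpen U' → Function.Surjective (f'.app U') := by
  haveI : IsProper f' := MorphismProperty.of_isPullback hc inferInstance
  let u := ClSub.unitToPush f'
  have hepi : Epi u := by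
    refine (Groth.L21.Mod.epi_iff_stalk_surjective u).2 fun y v => ?_
    obtain ⟨W, hyW, s, rfl⟩ := TopCat.Presheaf.exists_germ_eq
      ((Scheme.Modules.pushforward f').obj (Coh.structureModule X')).presheaf v
    obtain ⟨_, ⟨V, hV, rfl⟩, hyV, -⟩ :=
      Y.isBasis_affineOpens.exists_subset_of_mem_open (Set.mem_univ (g y)) isOpen_univ
    obtain ⟨O, hO, hyO, hle⟩ := exists_isAffineOpen_mem_and_subset (x := y) (U := W ⊓ g ⁻¹ᵁ V) ⟨hyW, hyV⟩
    haveI := Groth.L12.GenusZero.isProper_fV f hV
    have h1 := Groth.L12.GenusZero.subsingleton_h1_over f hV (fun z _ => hdim z) (fun z _ => hH1 z)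
    have hs : Function.Surjective (Coh.toGlobal (A := Γ(Y, V)) (Groth.L17.BC.fV f hV)) :=
      Groth.L12.GenusZero.surjective_toGlobal_fV f hV (hsurj V hV)
    let b : Spec Γ(Y', O) ⟶ Spec Γ(Y, V) := Spec.map (g.appLE V O (hle.trans inf_le_right))
    have hb : b ≫ hV.fromSpec = hO.fromSpec ≫ g :=
      IsAffineOpen.SpecMap_appLE_fromSpec g hV hO (hle.trans inf_le_right)
    have sqV := Groth.L17.BC.Classes.isPullback_fV f hV
    have sqO := (Groth.L17.BC.Classes.isPullback_fV f' hO).paste_horiz hc
    let j := sqV.lift ((f' ⁻¹ᵁ O).ι ≫ g') (Groth.L17.BC.fV f' hO ≫ b) (by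
      rw [Category.assoc, Category.assoc, hb]; exact (Category.assoc _ _ _).symm.trans sqO.w)
    have sq : IsPullback j (Groth.L17.BC.fV f' hO) (Groth.L17.BC.fV f hV) b := IsPullback.of_right
      (show IsPullback (j ≫ (f ⁻¹ᵁ V).ι) (Groth.L17.BC.fV f' hO) f (b ≫ hV.fromSpec) by
        rw [sqV.lift_fst, hb]; exact sqO)
      (sqV.lift_snd _ _ _) sqV
    have hs' := (Groth.L12.GenusZero.baseChange_spec (Groth.L17.BC.fV f hV)
      (Groth.L12.GenusZero.fiber_dim_fV f hV fun z _ => hdim z) h1 (Groth.L17.BC.fV f' hO) j b sq).2 hs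
    obtain ⟨r, hr⟩ := Groth.L12.GenusZero.surjective_app_of_toGlobal f' hO hs'
      (((Scheme.Modules.pushforward f').obj (Coh.structureModule X')).presheaf.map
        (homOfLE (hle.trans inf_le_left)).op s)
    refine ⟨(Coh.structureModule Y').presheaf.germ O y hyO r, ?_⟩
    refine (TopCat.Presheaf.stalkFunctor_map_germ_apply O y hyO ((Scheme.Modules.toPresheaf Y').map u) r).trans ?_
    refine (congrArg (((Scheme.Modules.pushforward f').obj (Coh.structureModule X')).presheaf.germ O y hyO) hr).trans ?_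
    exact TopCat.Presheaf.germ_res_apply _ _ _ _ _
  intro U' hU'
  haveI : Coh.IsQCoh (Coh.structureModule Y') := (Groth.L12.GenusZero.isCoh_structure_any Y').1
  haveI : Coh.IsQCoh (Coh.structureModule X') := (Groth.L12.GenusZero.isCoh_structure_any X').1
  haveI : Coh.IsQCoh ((Scheme.Modules.pushforward f').obj (Coh.structureModule X')) :=
    Groth.L16.QcqsPush.isQCoh_push (Coh.structureModule X') f'
  exact Groth.L16.AffineBC.surjective_app_of_epi u hU'

end Groth.Agent.S1410
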