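import Groth.Statements.S14100
import Mathlib.CategoryTheory.Triangulated.TStructure.TruncLEGT
import Mathlib.Algebra.Homology.DerivedCategory.FullyFaithful

set_option autoImplicit false
universe w v u
open DCoh


namespace Groth.Agent.S14100

open CategoryTheory CategoryTheory.Limits DerivedCategory Pretriangulated
open DerivedCategory.TStructure (t)

variable {C : Type u} [Category.{v} C] [Abelian C] [HasDerivedCategory.{w} C]

lemma eq_zero_of_concentrated {X Y : DerivedCategory C} (m : ℤ) (f : X ⟶ Y) [X.IsGE m] [X.IsLE m]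
    [Y.IsGE m] [Y.IsLE m] (h : (homologyFunctor C m).map f = 0) : f = 0 := by
  obtain ⟨A, ⟨eA⟩⟩ := exists_iso_singleFunctor_obj_of_isGE_of_isLE X m
  obtain ⟨B, ⟨eB⟩⟩ := exists_iso_singleFunctor_obj_of_isGE_of_isLE Y m
  obtain ⟨g, hg⟩ := (singleFunctor C m).map_surjective (eA.inv ≫ f ≫ eB.hom)
  have hf : f = eA.hom ≫ (singleFunctor C m).map g ≫ eB.inv := by rw [hg]; simp
  have h2 : (homologyFunctor C m).map ((singleFunctor C m).map g) = 0 := by
    rw [hg, Functor.map_comp, Functor.map_comp, h]; simp
  have h3 : g = 0 := by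
    have := NatIso.naturality_1 (singleFunctorCompHomologyFunctorIso C m) g
    rw [Functor.comp_map, h2] at this
    simpa using this.symm
  rw [hf, h3]; simp

lemma mono_homology_ι (m q : ℤ) (X : DerivedCategory C) :
    Mono ((homologyFunctor C q).map ((t.truncLEι m).app X)) := by
  have hT := t.triangleLEGT_distinguished m X
  rcases le_or_gt q m with hq | hq
  · refine (HomologySequence.mono_homologyMap_mor₁_iff _ hT (q - 1) q (by lia)).2
      (IsZero.eq_of_src ?_ _ _)
    exact DerivedCategory.isZero_of_isGE ((t.truncGT m).obj X) (m + 1) (q - 1) (by lia)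
  · exact (DerivedCategory.isZero_of_isLE ((t.truncLE m).obj X) m q hq).mono _

lemma epi_homology_π (m q : ℤ) (X : DerivedCategory C) :
    Epi ((homologyFunctor C q).map ((t.truncGTπ m).app X)) := by
  have hT := t.triangleLEGT_distinguished m X
  rcases le_or_gt q m with hq | hq
  · exact (DerivedCategory.isZero_of_isGE ((t.truncGT m).obj X) (m + 1) q (by lia)).epi _
  · refine (HomologySequence.epi_homologyMap_mor₂_iff _ hT q (q + 1) (by lia)).2
      (IsZero.eq_of_tgt ?_ _ _)
    exact DerivedCategory.isZero_of_isLE ((t.truncLE m).obj X) m (q + 1) (by lia)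

lemma ghost_comp (n : ℕ) : ∀ (a : ℤ) (K : ℕ ⥤ DerivedCategory C),
    (∀ i : ℕ, i ≤ n + 1 → (K.obj i).IsGE a) →
    (∀ i : ℕ, i ≤ n + 1 → (K.obj i).IsLE (a + n)) →
    (∀ i : ℕ, i ≤ n → ∀ q : ℤ,
      (homologyFunctor C q).map (K.map (homOfLE (Nat.le_succ i))) = 0) →
    K.map (homOfLE (Nat.zero_le (n + 1))) = 0 := by
  induction n with
  | zero =>
    intro a K hGE hLE hz
    have := hGE 0 (by lia); have := hGE 1 (by lia)
    have : (K.obj 0).IsLE a := by simpa using hLE 0 (by lia)
    have : (K.obj 1).IsLE a := by simpa using hLE 1 (by lia)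
    exact eq_zero_of_concentrated a _ (hz 0 le_rfl a)
  | succ n ih =>
    intro a K hGE hLE hz
    let m : ℤ := a + n
    have hzL : ∀ i : ℕ, i ≤ n + 1 → ∀ q : ℤ, (homologyFunctor C q).map
        ((t.truncLE m).map (K.map (homOfLE (Nat.le_succ i)))) = 0 := by
      intro i hi q
      have := mono_homology_ι m q (K.obj (i + 1))
      rw [← cancel_mono ((homologyFunctor C q).map ((t.truncLEι m).app (K.obj (i + 1)))),
        zero_comp, ← Functor.map_comp]
      erw [(t.truncLEι m).naturality]
      rw [Functor.map_comp, Functor.id_map, hz i hi q, comp_zero]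
    have hzT : (homologyFunctor C (m + 1)).map
        ((t.truncGT m).map (K.map (homOfLE (Nat.le_succ 0)))) = 0 := by
      have := epi_homology_π m (m + 1) (K.obj 0)
      rw [← cancel_epi ((homologyFunctor C (m + 1)).map ((t.truncGTπ m).app (K.obj 0))),
        comp_zero, ← Functor.map_comp]
      erw [← (t.truncGTπ m).naturality]
      rw [Functor.map_comp, Functor.id_map, hz 0 (by lia) (m + 1), zero_comp]
    -- the top truncation of the first map vanishes
    have hT0 : (t.truncGT m).map (K.map (homOfLE (Nat.le_succ 0))) = 0 := by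
      have h0 := hLE 0 (by lia)
      have h1 := hLE (0 + 1) (by lia)
      have e : a + ((n + 1 : ℕ) : ℤ) = m + 1 := by simp [m, add_assoc]
      rw [e] at h0 h1
      exact eq_zero_of_concentrated (m + 1) _ hzT
    obtain ⟨g, hg⟩ := Triangle.coyoneda_exact₂ _ (t.triangleLEGT_distinguished m (K.obj 1))
      (K.map (homOfLE (Nat.le_succ 0))) (by
        have := (t.truncGTπ m).naturality (K.map (homOfLE (Nat.le_succ 0)))
        rw [hT0, comp_zero] at this
        exact this)
    let sh : ℕ ⥤ ℕ := Monotone.functor (f := fun i => i + 1) (fun _ _ hij => Nat.succ_le_succ hij)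
    have hL : (sh ⋙ K ⋙ t.truncLE m).map (homOfLE (Nat.zero_le (n + 1))) = 0 := by
      refine ih a (sh ⋙ K ⋙ t.truncLE m) (fun i hi => ?_) (fun i hi => ?_) (fun i hi q => ?_)
      · have := hGE (i + 1) (by lia)
        exact inferInstanceAs (t.IsGE ((t.truncLE m).obj (K.obj (i + 1))) a)
      · exact inferInstanceAs (t.IsLE ((t.truncLE m).obj (K.obj (i + 1))) m)
      · exact hzL (i + 1) (by lia) q
    have key : K.map (homOfLE (Nat.zero_le (n + 1 + 1))) =
        K.map (homOfLE (Nat.le_succ 0)) ≫ K.map (sh.map (homOfLE (Nat.zero_le (n + 1)))) := by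
      rw [← K.map_comp]; congr 1
    rw [key, hg]
    have h2 : (t.truncLEι m).app (K.obj 1) ≫ K.map (sh.map (homOfLE (Nat.zero_le (n + 1)))) =
        (sh ⋙ K ⋙ t.truncLE m).map (homOfLE (Nat.zero_le (n + 1))) ≫ (t.truncLEι m).app _ :=
      ((t.truncLEι m).naturality (K.map (sh.map (homOfLE (Nat.zero_le (n + 1)))))).symm
    rw [hL, zero_comp] at h2
    exact (Category.assoc _ _ _).trans ((congrArg (g ≫ ·) h2).trans comp_zero)

end Groth.Agent.S14100

namespace Groth.Agent.S14100

open CategoryTheory in
/-- Let C be an abelian category, a an integer and n a natural number, and let K_0 → K_1 → ⋯ → K_{n+1}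
be composable morphisms in the derived category of C such that each K_i has cohomology concentrated
in degrees a, …, a+n and each map K_i → K_{i+1} induces zero on every cohomology object. Then the
composite K_0 → K_{n+1} is zero. (The chain is given as a functor from the ordered set of natural
numbers; only its values on 0, …, n+1 matter.) -/
theorem result
    (C : Type u) [Category.{v} C] [Abelian C] [HasDerivedCategory.{w} C]
    (a : ℤ) (n : ℕ) (K : ℕ ⥤ DerivedCategory C)
    (hGE : ∀ i : ℕ, i ≤ n + 1 → (K.obj i).IsGE a)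
    (hLE : ∀ i : ℕ, i ≤ n + 1 → (K.obj i).IsLE (a + n))
    (hzero : ∀ i : ℕ, i ≤ n → ∀ q : ℤ,
      (DerivedCategory.homologyFunctor C q).map (K.map (homOfLE (Nat.le_succ i))) = 0) :
    K.map (homOfLE (Nat.zero_le (n + 1))) = 0 := by
  exact ghost_comp n a K hGE hLE hzero

end Groth.Agent.S14100
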