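import Groth.Statements.S14101
import Groth.Agent.L21.Smooth.EtaleRegular
import Groth.Agent.L01.Regular
import Mathlib.Algebra.Field.ULift
import Mathlib.Algebra.Algebra.Rat
import Mathlib.Algebra.Field.ZMod
import Mathlib.RingTheory.Smooth.Field
import Mathlib.RingTheory.Smooth.StandardSmoothOfFree

set_option autoImplicit false
universe u
open CAlg

namespace Groth.Agent.S14101

theorem exists_torsion_bound {A : Type u} [CommRing A] {M : Type u} [AddCommGroup M] [Module A M]
    [IsNoetherian A M] (W : Submodule A M) :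
    ∃ N : ℕ, N ≠ 0 ∧ ∀ (y : M) (n : ℕ), n ≠ 0 → (n : A) • y ∈ W → (N : A) • y ∈ W := by
  classical
  let J : Submodule A M :=
    { carrier := {y | ∃ n : ℕ, n ≠ 0 ∧ (n : A) • y ∈ W}
      zero_mem' := ⟨1, one_ne_zero, by simp⟩
      add_mem' := by
        rintro a b ⟨n, hn, ha⟩ ⟨m, hm, hb⟩
        refine ⟨n * m, mul_ne_zero hn hm, ?_⟩
        rw [smul_add, Nat.cast_mul]
        refine W.add_mem ?_ ?_
        · rw [mul_comm, mul_smul]; exact W.smul_mem _ ha
        · rw [mul_smul]; exact W.smul_mem _ hb
      smul_mem' := by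
        rintro c a ⟨n, hn, ha⟩
        exact ⟨n, hn, by rw [smul_comm]; exact W.smul_mem _ ha⟩ }
  obtain ⟨s, hs⟩ := IsNoetherian.noetherian J
  have hJ : ∀ y ∈ s, ∃ n : ℕ, n ≠ 0 ∧ (n : A) • y ∈ W := fun y hy =>
    (hs ▸ Submodule.subset_span hy : y ∈ J)
  choose n hn0 hn using hJ
  refine ⟨∏ y ∈ s.attach, n y.1 y.2, Finset.prod_ne_zero_iff.2 fun y _ => hn0 y.1 y.2, ?_⟩
  intro y m hm hy
  have hle : J ≤ W.comap (((∏ y ∈ s.attach, n y.1 y.2 : ℕ) : A) • LinearMap.id) := by
    rw [← hs, Submodule.span_le]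
    intro z hz
    change ((∏ y ∈ s.attach, n y.1 y.2 : ℕ) : A) • z ∈ W
    obtain ⟨c, hc⟩ := Finset.dvd_prod_of_mem (fun y : s => n y.1 y.2) (s.mem_attach ⟨z, hz⟩)
    rw [hc, Nat.cast_mul, mul_comm, mul_smul]
    exact W.smul_mem _ (hn z hz)
  exact hle ⟨m, hm, hy⟩

open TensorProduct in
theorem isReduced_quotient_of_isStandardSmooth (B : Type u) [CommRing B] [Algebra.IsStandardSmooth ℤ B]
    (p : ℕ) [Fact p.Prime] : IsReduced (B ⧸ Ideal.span {(p : B)}) := by
  let K : Type u := ULift.{u} (ZMod p)
  letI : Field K := inferInstanceAs (Field (ULift.{u} (ZMod p)))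
  haveI : Algebra.IsStandardSmooth K (K ⊗[ℤ] B) := inferInstance
  haveI : IsReduced (K ⊗[ℤ] B) := by
    constructor
    intro x hx
    apply eq_zero_of_localization
    intro J hJ
    haveI := Groth.L21.Smooth.regular_of_isStandardSmooth K (A := K ⊗[ℤ] B) (algebraMap K (K ⊗[ℤ] B))
      (RingHom.isStandardSmooth_algebraMap.2 (inferInstance : Algebra.IsStandardSmooth K (K ⊗[ℤ] B))) J
    haveI := Groth.L01.isDomain_of_regular (Localization.AtPrime J)
    exact (hx.map (algebraMap (K ⊗[ℤ] B) (Localization.AtPrime J))).eq_zero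
  refine isReduced_of_injective (S := K ⊗[ℤ] B) (F := (B ⧸ Ideal.span {(p : B)}) →+* K ⊗[ℤ] B) ?_ ?_
  · exact Ideal.Quotient.lift _ (Algebra.TensorProduct.includeRight (R := ℤ) (A := K)).toRingHom
      (by
        intro b hb
        obtain ⟨c, rfl⟩ := Ideal.mem_span_singleton.1 hb
        have : ((p : K ⊗[ℤ] B)) = 0 := by
          rw [← map_natCast (algebraMap K (K ⊗[ℤ] B)), show ((p : K)) = 0 from ULift.ext _ _ (by simp)]
          exact map_zero _
        change (Algebra.TensorProduct.includeRight (R := ℤ) (A := K) (B := B)) ((p : B) * c) = 0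
        rw [map_mul, map_natCast, this, zero_mul])
  · skip
    -- a left inverse
    have hp0 : ((p : ℕ) : B ⧸ Ideal.span {(p : B)}) = 0 := by
      rw [← map_natCast (Ideal.Quotient.mk _)]
      exact Ideal.Quotient.eq_zero_iff_mem.2 (Ideal.subset_span rfl)
    haveI := ringChar.charP (B ⧸ Ideal.span {(p : B)})
    let q : K →+* B ⧸ Ideal.span {(p : B)} :=
      (ZMod.castHom (m := ringChar (B ⧸ Ideal.span {(p : B)})) (ringChar.dvd hp0) _).comp
        ULift.ringEquiv.toRingHom
    let inv : K ⊗[ℤ] B →ₐ[ℤ] B ⧸ Ideal.span {(p : B)} :=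
      Algebra.TensorProduct.lift q.toIntAlgHom (Ideal.Quotient.mk _).toIntAlgHom
        (fun _ _ => Commute.all _ _)
    refine Function.LeftInverse.injective (g := inv) fun x => ?_
    obtain ⟨b, rfl⟩ := Ideal.Quotient.mk_surjective x
    exact (Algebra.TensorProduct.lift_tmul _ _ _ (1 : K) b).trans
      ((congrArg (· * Ideal.Quotient.mk _ b) (map_one q)).trans (one_mul _))

theorem finite_bad_of_domain (A : Type u) [CommRing A] [IsDomain A] [Algebra.FiniteType ℤ A] :
    ∃ S : Finset ℕ, ∀ p : ℕ, p.Prime → p ∉ S → IsReduced (A ⧸ Ideal.span {(p : A)}) := by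
  classical
  rcases eq_or_ne (ringChar A) 0 with h0 | h0
  · haveI : CharP A 0 := by rw [← h0]; exact ringChar.charP A
    haveI : CharZero A := CharP.charP_to_charZero A
    haveI : IsNoetherianRing A := Algebra.FiniteType.isNoetherianRing ℤ A
    let L := Localization.AtPrime (⊥ : Ideal A)
    haveI : IsFractionRing A L := by
      have : (⊥ : Ideal A).primeCompl = nonZeroDivisors A := by
        ext x; simp [Ideal.primeCompl, mem_nonZeroDivisors_iff_ne_zero]
      exact (this ▸ (inferInstance : IsLocalization (⊥ : Ideal A).primeCompl L) :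
        IsLocalization (nonZeroDivisors A) L)
    letI : Field L := IsFractionRing.toField A
    haveI : CharZero L := charZero_of_injective_algebraMap (IsFractionRing.injective A L)
    haveI : Algebra.EssFiniteType A L :=
      Algebra.EssFiniteType.of_isLocalization L (⊥ : Ideal A).primeCompl
    haveI : Algebra.EssFiniteType ℤ L := Algebra.EssFiniteType.comp ℤ A L
    letI : Algebra ℚ L := DivisionRing.toRatAlgebra
    haveI : @IsScalarTower ℤ ℚ L Algebra.toSMul Algebra.toSMul Algebra.toSMul :=
      IsScalarTower.of_algebraMap_eq fun a => by simp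
    haveI : Algebra.EssFiniteType ℚ L := Algebra.EssFiniteType.of_comp ℤ ℚ L
    haveI : Algebra.FormallySmooth ℤ ℚ := Algebra.FormallySmooth.of_isLocalization (nonZeroDivisors ℤ)
    haveI : Algebra.FormallySmooth ℤ L := Algebra.FormallySmooth.comp ℤ ℚ L
    haveI : Algebra.FinitePresentation ℤ A := Algebra.FinitePresentation.of_finiteType.1 inferInstance
    haveI : Algebra.IsSmoothAt ℤ (⊥ : Ideal A) := ‹Algebra.FormallySmooth ℤ L›
    obtain ⟨f, hf, hsm⟩ := Algebra.IsSmoothAt.exists_notMem_isStandardSmooth ℤ (⊥ : Ideal A)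
    have hf0 : f ≠ 0 := by simpa using hf
    obtain ⟨N, hN0, hN⟩ := exists_torsion_bound (Ideal.span {f} : Submodule A A)
    refine ⟨N.primeFactors, fun p hp hpN => ?_⟩
    haveI := Fact.mk hp
    have hdvd : ¬ p ∣ N := fun h => hpN (Nat.mem_primeFactors.2 ⟨hp, h, hN0⟩)
    have hco : IsCoprime ((N : A)) (p : A) := ((Nat.Coprime.cast (R := A))
      ((hp.coprime_iff_not_dvd.2 hdvd).symm))
    have hstep : ∀ z : A, f * z ∈ Ideal.span {(p : A)} → z ∈ Ideal.span {(p : A)} := by
      intro z hz
      obtain ⟨y, hy⟩ := Ideal.mem_span_singleton.1 hz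
      obtain ⟨w, hw⟩ := Ideal.mem_span_singleton.1
        (hN y p hp.ne_zero (Ideal.mem_span_singleton.2 ⟨z, by rw [smul_eq_mul, hy]⟩))
      obtain ⟨u, v, huv⟩ := hco
      rw [smul_eq_mul] at hw
      have hNz : (N : A) * z = p * w := mul_left_cancel₀ hf0 (by
        linear_combination (N : A) * hy + (p : A) * hw)
      exact Ideal.mem_span_singleton.2 ⟨u * w + v * z, by linear_combination u * hNz - z * huv⟩
    haveI : IsReduced (Localization.Away f ⧸ Ideal.span {(p : Localization.Away f)}) :=
      @isReduced_quotient_of_isStandardSmooth (Localization.Away f) _ (by convert hsm; exact Subsingleton.elim _ _) p _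
    constructor
    intro x hx
    obtain ⟨x, rfl⟩ := Ideal.Quotient.mk_surjective x
    rw [Ideal.Quotient.eq_zero_iff_mem]
    let φ : A ⧸ Ideal.span {(p : A)} →+*
        Localization.Away f ⧸ Ideal.span {(p : Localization.Away f)} :=
      Ideal.quotientMap _ (algebraMap A (Localization.Away f)) (by
        rw [Ideal.span_le, Set.singleton_subset_iff]
        simp [Ideal.mem_comap, Ideal.mem_span_singleton_self])
    have h1 := (hx.map φ).eq_zero
    rw [Ideal.quotientMap_mk, Ideal.Quotient.eq_zero_iff_mem] at h1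
    obtain ⟨c, hc⟩ := Ideal.mem_span_singleton.1 h1
    obtain ⟨⟨a, s⟩, hs⟩ := IsLocalization.surj (Submonoid.powers f) c
    obtain ⟨k, hk⟩ := s.2
    simp only at hs
    have h2 : algebraMap A (Localization.Away f) (f ^ k * x) =
        algebraMap A (Localization.Away f) ((p : A) * a) := by
      have hk' : algebraMap A (Localization.Away f) (f ^ k) = algebraMap A _ (s : A) := by rw [← hk]
      simp only [map_mul, map_natCast, hk', ← hs, hc]
      ring
    have h3 := IsLocalization.injective (Localization.Away f)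
      (powers_le_nonZeroDivisors_of_noZeroDivisors hf0) h2
    have : ∀ k z, f ^ k * z ∈ Ideal.span {(p : A)} → z ∈ Ideal.span {(p : A)} := by
      intro k
      induction k with
      | zero => intro z hz; simpa using hz
      | succ k ih => intro z hz; exact hstep _ (ih _ (by rw [← mul_assoc]; convert hz using 2; rw [pow_succ]))
    exact this k x (Ideal.mem_span_singleton.2 ⟨a, h3⟩)
  · refine ⟨{ringChar A}, fun p hp hpS => ?_⟩
    haveI := ringChar.charP A
    have hq : (ringChar A).Prime := (CharP.char_is_prime_or_zero A (ringChar A)).resolve_right h0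
    have hco := ((Nat.coprime_primes hp hq).2 (by simpa using hpS)).cast (R := A)
    rw [CharP.cast_eq_zero (R := A) (p := ringChar A), isCoprime_zero_right] at hco
    haveI : Subsingleton (A ⧸ Ideal.span {(p : A)}) :=
      Ideal.Quotient.subsingleton_iff.2 (Ideal.span_singleton_eq_top.2 hco)
    exact isReduced_of_subsingleton


/-- Affine form — let A be a reduced commutative ring of finite type over ℤ. Then for all but finitely
many prime numbers p the reduction A/pA is reduced. (The published statement is for a reduced scheme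
of finite type over ℤ; such a scheme has a finite affine open cover, so the affine form carries the
same content.) -/
theorem result
    (A : Type u) [CommRing A] [Algebra.FiniteType ℤ A] [IsReduced A] :
    {p : ℕ | p.Prime ∧ ¬ IsReduced (A ⧸ Ideal.span {(p : A)})}.Finite := by
  classical
  haveI : IsNoetherianRing A := Algebra.FiniteType.isNoetherianRing ℤ A
  haveI : Fintype (minimalPrimes A) := (minimalPrimes.finite_of_isNoetherianRing A).fintype
  let I := minimalPrimes A
  have hprime : ∀ P : I, (P.1).IsPrime := fun P => Ideal.minimalPrimes_isPrime P.2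
  have hcore : ∀ P : I, ∃ S : Finset ℕ, ∀ p : ℕ, p.Prime → p ∉ S →
      IsReduced ((A ⧸ P.1) ⧸ Ideal.span {(p : A ⧸ P.1)}) := fun P => by
    haveI := hprime P
    exact @finite_bad_of_domain (A ⧸ P.1) _ _ (Algebra.FiniteType.of_surjective (R := ℤ) (A := A)
      (Ideal.Quotient.mk P.1).toIntAlgHom Ideal.Quotient.mk_surjective)
  choose S hS using hcore
  let φ : A →ₗ[A] (∀ P : I, A ⧸ P.1) := LinearMap.pi fun P => Submodule.mkQ P.1
  have hφ : Function.Injective φ := by
    rw [injective_iff_map_eq_zero]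
    intro a ha
    have : a ∈ sInf (minimalPrimes A) := by
      simp only [Ideal.mem_sInf]
      intro P hP
      exact (Submodule.Quotient.mk_eq_zero P).1 (congrFun ha ⟨P, hP⟩)
    rw [minimalPrimes, Ideal.sInf_minimalPrimes, Ideal.radical_bot_of_isReduced] at this
    simpa using this
  haveI : IsNoetherian A (∀ P : I, A ⧸ P.1) := inferInstance
  obtain ⟨N, hN0, hN⟩ := exists_torsion_bound (LinearMap.range φ)
  refine Set.Finite.subset ((N.primeFactors ∪ Finset.univ.biUnion S).finite_toSet) ?_
  rintro p ⟨hp, hred⟩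
  by_contra hmem
  simp only [Finset.coe_union, Set.mem_union, Finset.mem_coe, Finset.mem_biUnion, Finset.mem_univ,
    true_and, not_or, not_exists] at hmem
  apply hred
  have hco : IsCoprime ((N : A)) (p : A) := ((Nat.Coprime.cast (R := A))
      ((hp.coprime_iff_not_dvd.2 fun h => hmem.1 (Nat.mem_primeFactors.2 ⟨hp, h, hN0⟩)).symm))
  constructor
  intro x hx
  obtain ⟨x, rfl⟩ := Ideal.Quotient.mk_surjective x
  rw [Ideal.Quotient.eq_zero_iff_mem]
  have hy : ∀ P : I, ∃ y : A, Ideal.Quotient.mk P.1 x = Ideal.Quotient.mk P.1 (p * y) := by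
    intro P
    haveI := hS P p hp (hmem.2 P)
    let ψ : A ⧸ Ideal.span {(p : A)} →+* (A ⧸ P.1) ⧸ Ideal.span {(p : A ⧸ P.1)} :=
      Ideal.quotientMap _ (Ideal.Quotient.mk P.1) (by
        rw [Ideal.span_le, Set.singleton_subset_iff]
        simp [Ideal.mem_comap, Ideal.mem_span_singleton_self])
    have h1 := (hx.map ψ).eq_zero
    rw [Ideal.quotientMap_mk, Ideal.Quotient.eq_zero_iff_mem] at h1
    obtain ⟨c, hc⟩ := Ideal.mem_span_singleton.1 h1
    obtain ⟨y, rfl⟩ := Ideal.Quotient.mk_surjective c
    exact ⟨y, by simpa using hc⟩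
  choose y hy using hy
  let Y : ∀ P : I, A ⧸ P.1 := fun P => Submodule.Quotient.mk (y P)
  have hxY : φ x = (p : A) • Y := funext fun P => hy P
  obtain ⟨w, hw⟩ := hN Y p hp.ne_zero ⟨x, hxY⟩
  have hNx : (N : A) * x = p * w := hφ (by
    rw [← smul_eq_mul, ← smul_eq_mul, map_smul, map_smul, hxY, hw, smul_comm])
  obtain ⟨u, v, huv⟩ := hco
  exact Ideal.mem_span_singleton.2 ⟨u * w + v * x, by linear_combination u * hNx - x * huv⟩

end Groth.Agent.S14101
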