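import Groth.Statements.S14104
import Mathlib.AlgebraicGeometry.Morphisms.Flat
import Groth.Agent.L20.FibreStalk
import Groth.Agent.L06.FlatFibre
-- import your own Groth.Agent.* helpers here

set_option autoImplicit false
universe u
open CategoryTheory CategoryTheory.Limits AlgebraicGeometry Opposite TopologicalSpace
open CInt

namespace Groth.Agent.S14104

theorem aux {X S : Scheme.{u}} (f : X ⟶ S) (s : S) (z : ↥(f.fiber s)) {x : X} (hx : f.fiberι s z = x) :
    letI : Algebra (S.presheaf.stalk (f x)) (X.presheaf.stalk x) := (f.stalkMap x).hom.toAlgebra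
    Nonempty (EGA4.FibRing (S.presheaf.stalk (f x)) (X.presheaf.stalk x) ≃+* (f.fiber s).presheaf.stalk z) := by
  subst hx
  exact ⟨(Ideal.quotEquivOfEq (Groth.L18.stalkMap_fiberι f s z).2.symm).trans
    (RingHom.quotientKerEquivOfSurjective (Groth.L18.stalkMap_fiberι f s z).1)⟩

/-- Let f : X → S be a flat morphism of locally Noetherian schemes, Y a closed subset of X and d a
natural number. If for every point y of Y the local ring at y of the fibre of f through y has depth
at least d (the depth of O_{X_s} along Y_s is at least d for every s), then for every y ∈ Y the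
local ring O_{X,y} has depth at least d (the depth of O_X along Y is at least d). -/
theorem result {X S : Scheme.{u}} [IsLocallyNoetherian X] [IsLocallyNoetherian S]
    (f : X ⟶ S) [Flat f] (Y : Set ↥X) (hY : IsClosed Y) (d : ℕ)
    (h : ∀ y : ↥X, y ∈ Y → (d : ℕ∞) ≤ LocCoh.depth ↑(CInt.fiberStalk f y) ↑(CInt.fiberStalk f y)) :
    ∀ y : ↥X, y ∈ Y → (d : ℕ∞) ≤ LocCoh.depth ↑(X.presheaf.stalk y) ↑(X.presheaf.stalk y) := by
  intro y hy
  letI : Algebra (S.presheaf.stalk (f y)) (X.presheaf.stalk y) := (f.stalkMap y).hom.toAlgebra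
  haveI : IsLocalHom (algebraMap (S.presheaf.stalk (f y)) (X.presheaf.stalk y)) := f.toLRSHom.prop y
  haveI : Module.Flat (S.presheaf.stalk (f y)) (X.presheaf.stalk y) := Flat.stalkMap f y
  obtain ⟨e⟩ : Nonempty (EGA4.FibRing (S.presheaf.stalk (f y)) (X.presheaf.stalk y) ≃+* CInt.fiberStalk f y) :=
    aux f (f y) (f.asFiber y) (f.fiberι_asFiber y)
  haveI : IsNoetherianRing (CInt.fiberStalk f y) := isNoetherianRing_of_ringEquiv _ e
  refine le_trans ?_ (Groth.L06.FlatFibre.depth_add_le (S.presheaf.stalk (f y)) (X.presheaf.stalk y))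
  rw [← Groth.L06.FlatFibre.depth_eq_of_ringEquiv e]
  exact (h y hy).trans le_add_self

end Groth.Agent.S14104
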