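import Groth.Statements.S1411
import Groth.Agent.L20.QfCurve

set_option autoImplicit false
universe u
open FlatMor

set_option backward.isDefEq.respectTransparency.types false
namespace Groth.Agent.S1411

open AlgebraicGeometry CategoryTheory Limits in
/-- Let f : X → S be locally of finite type with S locally Noetherian, x a point closed in its fibre,
and U an open of X containing a point x' specializing to x with f x' ≠ f x. Then there is a closed
subscheme Z of X passing through x such that Z → S is quasi-finite at x and Z contains a point z ∈ U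
with z ⤳ x and f z ≠ f x. -/
theorem result {X S : Scheme.{u}} (f : X ⟶ S) [LocallyOfFiniteType f] [IsLocallyNoetherian S] (x : X)
    (hcl : IsClosed (Subtype.val ⁻¹' {x} : Set ↑(f ⁻¹' {f x}))) (U : X.Opens) (hx' : ∃ x' : X, x' ∈ U ∧ x' ⤳ x ∧ f x' ≠ f x) :
    ∃ (I : X.IdealSheafData) (z₀ x₀ : ↑I.subscheme), I.subschemeι x₀ = x ∧ (I.subschemeι ≫ f).QuasiFiniteAt x₀ ∧
      I.subschemeι z₀ ∈ U ∧ I.subschemeι z₀ ⤳ x ∧ f (I.subschemeι z₀) ≠ f x := by
  exact Groth.L20.QfCurve.exists_qf_curve f x hcl U hx'

end Groth.Agent.S1411
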