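import Groth.Statements.S14113
import Groth.Agent.L29.DCoh.AffineKMap
import Groth.Agent.L29.DCoh.PCQCoh

set_option autoImplicit false
set_option backward.isDefEq.respectTransparency false
universe u
open CategoryTheory CategoryTheory.Limits AlgebraicGeometry Opposite TopologicalSpace
attribute [local instance] HasDerivedCategory.standard
open DCoh

namespace Groth.Agent.S14113

/-- Let X be an affine scheme and E a bounded above cochain complex of finite locally free O_X-modules
(a strictly pseudo-coherent complex). Then E is acyclic if and only if the identity of E is null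
homotopic. -/
theorem result {X : Scheme.{u}} [IsAffine X]
    (E : CochainComplex X.Modules ℤ) (b : ℤ) (hEb : ∀ i : ℤ, b < i → IsZero (E.X i))
    (hE : ∀ i : ℤ, FlatMod.IsFinLocFree (E.X i)) :
    E.Acyclic ↔ Nonempty (Homotopy (𝟙 E) 0) := by
  constructor
  · intro hac
    have hq := Groth.L29.DC.AffineKMap.kd_affine E E b hEb hE
      fun i => Groth.L29.DC.PCQCoh.isQCoh_of_isFinLocFree (hE i)
    let q := HomotopyCategory.quotient X.Modules (ComplexShape.up ℤ)
    haveI : QuasiIso (0 : E ⟶ E) := ⟨fun i => by
      rw [quasiIsoAt_iff_isIso_homologyMap]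
      have hz : IsZero (E.homology i) := (hac i).isZero_homology
      exact ⟨0, hz.eq_of_src _ _, hz.eq_of_src _ _⟩⟩
    haveI : IsIso ((DerivedCategory.Q (C := X.Modules)).map (0 : E ⟶ E)) :=
      (DerivedCategory.isIso_Q_map_iff_quasiIso (C := X.Modules) _).2 inferInstance
    have hzD : IsZero ((DerivedCategory.Q (C := X.Modules)).obj E) := by
      refine (IsZero.iff_id_eq_zero _).2 ?_
      exact (IsIso.hom_inv_id ((DerivedCategory.Q (C := X.Modules)).map (0 : E ⟶ E))).symm.trans
        ((congrArg (· ≫ _) (Functor.map_zero _ _ _)).trans zero_comp)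
    exact ⟨HomotopyCategory.homotopyOfEq _ _ (hq.1
      ((hzD.of_iso ((DerivedCategory.quotientCompQhIso X.Modules).app E)).eq_of_src _ _))⟩
  · rintro ⟨H⟩ i
    rw [HomologicalComplex.exactAt_iff_isZero_homology, IsZero.iff_id_eq_zero, ← HomologicalComplex.homologyMap_id,
      H.homologyMap_eq, HomologicalComplex.homologyMap_zero]

end Groth.Agent.S14113
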