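import Groth.Statements.S14116
import Groth.Agent.L04.SupportSh.Affine
import Groth.Agent.L18.LocFreeTilde
import Groth.Agent.L04.Depth2
import Groth.Agent.L16.CohClosedPush

set_option autoImplicit false
universe u
open CategoryTheory CategoryTheory.Limits AlgebraicGeometry Opposite TopologicalSpace
open LocCohZ

namespace Groth.Agent.S14116

/-- Let X be a locally Noetherian scheme, U ⊆ X open with closed complement Y, d a natural number such
that the depth of O_X along Y is at least d (every local ring O_{X,y}, y ∈ Y, has depth at least d),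
and M a finite locally free O_X-module. Then Γ(X, ℋ^d_Y(M)) is isomorphic to H^d_Y(X, M), where
ℋ^d_Y is the d-th right derived functor of the sheaf of sections with support in Y (applied to the
underlying abelian sheaf of M) and H^d_Y(X, M) is cohomology with support in Y. Existence of an
additive isomorphism only; the published statement asserts a canonical functorial isomorphism that
is linear over the global functions Γ(X, O_X) (obtained in its proof as the edge map of the
local-to-global spectral sequence), and adds that U ↦ H^d_{Y∩U}(U, M), U ⊆ X open, is a sheaf; none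
of this is part of this row. (The published statement assumes a flat morphism X → S with
Cohen–Macaulay fibres and relative codimension of Y at least d; these enter only through the depth
bound, which is the hypothesis of this row.) -/
theorem result (X : Scheme.{u}) [IsLocallyNoetherian X]
    (U : X.Opens) (d : ℕ)
    (hdepth : ∀ x : ↥X, x ∉ (U : Set ↥X) → (d : ℕ∞) ≤ LocCoh.depth ↑(X.presheaf.stalk x) ↑(X.presheaf.stalk x))
    (M : X.Modules) (hM : FlatMod.IsFinLocFree M) :
    Nonempty (↑(((LocCohZ.HZsh (X := X.carrier) U d).obj (Coh.toAb M)).obj.obj (op ⊤)) ≃+ LocCohZ.HZM X M d U) := by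
  have hFP := Groth.L18.LFP.isFP_of_isFinLocFree M hM
  haveI hqc : Coh.IsQCoh M := { nonempty_quasicoherentData := ⟨hFP.exists_quasicoherentData.choose⟩ }
  have hcoh : Coh.IsCoh M := Groth.L16.CohClosedPush.isCoh_of_finite_sections M fun x => by
    obtain ⟨V, hV, hxV, -⟩ := exists_isAffineOpen_mem_and_subset (x := x) (U := ⊤) trivial
    haveI := Groth.L20.ModStalk.finitePresentation_sections M hFP hV
    exact ⟨V, hxV, hV, inferInstance⟩
  haveI : Coh.IsQCoh M := hcoh.1
  have hdM : ∀ x : X, x ∉ (U : Set X) → (d : ℕ∞) ≤ LocCoh.depth (X.presheaf.stalk x) (M.presheaf.stalk x) := fun x hx => by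
    haveI := Groth.L18.LFP.finite_stalk M hFP x
    haveI := Groth.L18.LFP.free_stalk M hM x
    exact Groth.L04.le_idealDepth_free _ _ (hdepth x hx)
  refine Groth.L04.SupportSh.nonempty_HZc_addEquiv U (Coh.toAb M) d fun q hq => ?_
  have hvan : ∀ V : X.Opens, IsAffineOpen V → ∀ q, 1 ≤ q → Subsingleton (CohTop.HU (X := X.toTopCat) (Coh.toAb M) q V) :=
    fun V hV q hq => by
      obtain ⟨k, rfl⟩ : ∃ k, q = k + 1 := ⟨q - 1, by omega⟩
      exact subsingleton_of_forall_eq 0 (Groth.L17.hu_affine_eq_zero M hV k)
  have hd := fun (V : X.Opens) (hV : IsAffineOpen V) =>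
    (Groth.L04.SupportSh.depth_affine_iff U M hcoh hV d).1 fun x _ hx => hdM x hx
  exact Groth.L04.SupportSh.isZero_HZsh_of_basis U (Coh.toAb M) _ X.isBasis_affineOpens hvan d
    (fun hn V hV => (hd V hV).1 hn) (fun hn V hV => (hd V hV).2.1 hn) (fun p hp hpn V hV => (hd V hV).2.2 p hp hpn) q hq

end Groth.Agent.S14116
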