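import Groth.Statements.S14118
import Groth.Agent.L13.SuperTrace

set_option autoImplicit false
universe u v w
open SuperComm

namespace Groth.Agent.S14118

/-- Let R be a commutative ring and M a finitely ℤ-graded R-module with finitely many nonzero graded
pieces, each finite free, presented as a finite family of finite free R-modules M_i with integer
degrees deg i (the piece of degree n being the product of the M_i with deg i = n); an endomorphism φ
of the total module Π_i M_i has degree a when its (i, j) block vanishes unless deg j = deg i + a;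
the supertrace of an endomorphism is the trace of its composite with the grading involution ε = Σ_i
(-1)^{deg i} pr_i. If φ and ψ have degrees a and b, the supertrace of the supercommutator φψ -
(-1)^{ab} ψφ vanishes. (The published statement allows the graded pieces to be finitely generated
projective; this row takes them finite free, where the trace is the ordinary trace of a free
module.) -/
theorem result {R : Type u} [CommRing R] {ι : Type v} [Fintype ι] [DecidableEq ι]
    (deg : ι → ℤ) (M : ι → Type w) [∀ i, AddCommGroup (M i)] [∀ i, Module R (M i)]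
    [∀ i, Module.Free R (M i)] [∀ i, Module.Finite R (M i)]
    (a b : ℤ) (φ ψ : (Π k, M k) →ₗ[R] (Π k, M k))
    (hφ : ∀ i j : ι, deg j ≠ deg i + a → (LinearMap.proj j) ∘ₗ φ ∘ₗ (LinearMap.single R M i) = 0)
    (hψ : ∀ i j : ι, deg j ≠ deg i + b → (LinearMap.proj j) ∘ₗ ψ ∘ₗ (LinearMap.single R M i) = 0) :
    LinearMap.trace R (Π k, M k)
      ((∑ i : ι, (LinearMap.single R M i) ∘ₗ (((-1 : R) ^ (deg i).natAbs) • (LinearMap.proj i : (Π k, M k) →ₗ[R] M i))) ∘ₗ (φ ∘ₗ ψ - ((-1 : R) ^ (a * b).natAbs) • (ψ ∘ₗ φ))) = 0 := by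
  change LinearMap.trace R (Π k, M k) (Groth.L13.SuperTrace.eps deg M ∘ₗ
    (φ ∘ₗ ψ - ((-1 : R) ^ (a * b).natAbs) • (ψ ∘ₗ φ))) = 0
  have hcomp : ∀ (a b : ℤ) (φ ψ : (Π k, M k) →ₗ[R] (Π k, M k)),
      (∀ i j : ι, deg j ≠ deg i + a → (LinearMap.proj j) ∘ₗ φ ∘ₗ (LinearMap.single R M i) = 0) →
      (∀ i j : ι, deg j ≠ deg i + b → (LinearMap.proj j) ∘ₗ ψ ∘ₗ (LinearMap.single R M i) = 0) →
      ∀ i j : ι, deg j ≠ deg i + (a + b) →
        (LinearMap.proj j) ∘ₗ (φ ∘ₗ ψ) ∘ₗ (LinearMap.single R M i) = 0 := by
    intro a b φ ψ hφ hψ i j hij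
    apply LinearMap.ext
    intro m
    simp only [LinearMap.comp_apply, LinearMap.proj_apply, LinearMap.zero_apply]
    rw [← Finset.univ_sum_single (ψ (LinearMap.single R M i m)), map_sum, Finset.sum_apply]
    refine Finset.sum_eq_zero fun l _ => ?_
    by_cases hl : deg l = deg i + b
    · exact LinearMap.congr_fun (hφ l j (by omega)) _
    · have := LinearMap.congr_fun (hψ i l hl) m
      simp only [LinearMap.comp_apply, LinearMap.proj_apply, LinearMap.zero_apply] at this
      rw [this, Pi.single_zero, map_zero]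
      rfl
  rw [LinearMap.comp_sub, LinearMap.comp_smul, map_sub, map_smul]
  by_cases hab : a + b = 0
  · have e := Groth.L13.SuperTrace.eps_comm deg M φ a hφ
    rw [← LinearMap.comp_assoc ψ φ (Groth.L13.SuperTrace.eps deg M), e, LinearMap.smul_comp, map_smul,
      LinearMap.comp_assoc, LinearMap.trace_comp_comm', LinearMap.comp_assoc,
      show (a * b).natAbs = a.natAbs * a.natAbs by
        rw [Int.natAbs_mul, show b = -a by omega, Int.natAbs_neg],
      show (-1 : R) ^ (a.natAbs * a.natAbs) = (-1) ^ a.natAbs by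
        apply neg_one_pow_congr; rw [Nat.even_mul, or_self], smul_eq_mul, sub_self]
  · rw [Groth.L13.SuperTrace.trace_eq_zero deg M _ (a + b) (hcomp a b φ ψ hφ hψ) hab,
      Groth.L13.SuperTrace.trace_eq_zero deg M _ (b + a) (hcomp b a ψ φ hψ hφ) (by omega),
      smul_zero, sub_zero]

end Groth.Agent.S14118
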