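import Groth.Agent.L18.ValCritEss
import Groth.Statements.S14121
-- import your own Groth.Agent.* helpers here

set_option autoImplicit false
universe u
open CategoryTheory AlgebraicGeometry
open ValCrit

namespace Groth.Agent.S14121

/-- For schemes, let every affine open of the base `S` have excellent coordinate ring, let `g : Y ⟶ S`
be locally of finite type and `f : X ⟶ Y` quasi-compact and locally of finite type. Then the
uniqueness part of the valuative criterion for `f` over discrete valuation rings (every commutative
square `Spec K ⟶ X`, `Spec R ⟶ Y` with `R` a discrete valuation ring and `K` its fraction field has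
at most one lift `Spec R ⟶ X`) holds as soon as it holds for the squares whose ring `R` is
essentially of finite type over `S`, i.e. `Spec R ⟶ Y ⟶ S` factors through some affine open `U` of
`S` by a ring map `Γ(S, U) ⟶ R` that is essentially of finite type; and conversely. (The published
statement is for algebraic spaces and treats existence and uniqueness together; this row is the
uniqueness half for schemes.) -/
theorem result (S : Scheme.{u})
    (hS : ∀ U : S.affineOpens, EGA4.IsExcellent Γ(S, U.1))
    {X Y : Scheme.{u}} (f : X ⟶ Y) (g : Y ⟶ S)
    [QuasiCompact f] [LocallyOfFiniteType f] [LocallyOfFiniteType g] :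
    (∀ sq : ValuativeCommSq f, IsDiscreteValuationRing sq.R → Subsingleton sq.commSq.LiftStruct) ↔
    (∀ sq : ValuativeCommSq f, IsDiscreteValuationRing sq.R →
      (∃ (U : S.affineOpens) (φ : Γ(S, U.1) ⟶ CommRingCat.of sq.R),
        Spec.map φ ≫ U.2.fromSpec = sq.i₂ ≫ g ∧ φ.hom.EssFiniteType) →
      Subsingleton sq.commSq.LiftStruct) := by
  refine ⟨fun h sq hR _ => h sq hR, fun H sq _ => ?_⟩
  haveI := Groth.L18.ValCritEss.uniqueness f g hS H
  exact IsSeparated.valuativeCriterion f sq

end Groth.Agent.S14121
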