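import Mathlib.Algebra.Module.Lattice
import Mathlib.LinearAlgebra.Matrix.Basis
import Mathlib.LinearAlgebra.Matrix.GeneralLinearGroup.Defs
import Groth.Statements.S14122
-- import your own Groth.Agent.* helpers here

set_option autoImplicit false
universe u
open ValCrit

namespace Groth.Agent.S14122

/-- Let `R` be a discrete valuation ring with fraction field `K` and `g ∈ GL_N(K)` an element of finite
order. Then after passing to a finite extension `K'` of `K` and a discrete valuation ring `R'` of
`K'` dominating `R`, the element `g` becomes conjugate in `GL_N(K')` to an element of `GL_N(R')`.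
(The published statement is that the classifying stack of `GL_N` over the integers satisfies a
valuative condition, for discrete valuation rings essentially of finite type over the integers, on
extending finite-order generic automorphisms along nearby modifications; since vector bundles over a
discrete valuation ring are trivial, that condition is this conjugacy statement for such rings, and
this row states it for every discrete valuation ring, as the printed argument gives.) -/
theorem result
    (R : Type u) [CommRing R] [IsDomain R] [IsDiscreteValuationRing R]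
    (K : Type u) [Field K] [Algebra R K] [IsFractionRing R K]
    (N : ℕ) (g : GL (Fin N) K) (hg : IsOfFinOrder g) :
    ∃ (R' : Type u) (_ : CommRing R') (_ : IsDomain R') (_ : IsDiscreteValuationRing R')
      (K' : Type u) (_ : Field K') (_ : Algebra R' K') (_ : IsFractionRing R' K')
      (_ : Algebra R R') (_ : Algebra K K') (_ : Algebra R K')
      (_ : IsScalarTower R R' K') (_ : IsScalarTower R K K')
      (_ : Module.Finite K K') (_ : IsLocalHom (algebraMap R R'))
      (h : GL (Fin N) K') (g' : GL (Fin N) R'),
      h * Matrix.GeneralLinearGroup.map (algebraMap K K') g * h⁻¹ =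
        Matrix.GeneralLinearGroup.map (algebraMap R' K') g' := by
  obtain ⟨d, hd, hgd⟩ := isOfFinOrder_iff_pow_eq_one.1 hg
  let f : (Fin N → K) →ₗ[R] (Fin N → K) := (Matrix.mulVecLin (g : Matrix (Fin N) (Fin N) K)).restrictScalars R
  have hfp : ∀ (i : ℕ) (v : Fin N → K), (f ^ i) v = ((g ^ i : GL (Fin N) K) : Matrix (Fin N) (Fin N) K).mulVec v := by
    intro i
    induction i with
    | zero => intro v; simp
    | succ i ih =>
      intro v
      rw [pow_succ', Module.End.mul_apply, ih, pow_succ', Units.val_mul, ← Matrix.mulVec_mulVec]
      rfl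
  let S : Set (Fin N → K) := Set.range fun q : Fin d × Fin N => (f ^ (q.1 : ℕ)) (Pi.single q.2 1)
  let M : Submodule R (Fin N → K) := Submodule.span R S
  haveI : Submodule.IsLattice K M :=
    { fg := Submodule.fg_span (Set.finite_range _)
      span_eq_top := by
        refine top_le_iff.1 ?_
        rw [← (Pi.basisFun K (Fin N)).span_eq, Submodule.span_le]
        rintro _ ⟨j, rfl⟩
        refine Submodule.subset_span (Submodule.subset_span ⟨(⟨0, hd⟩, j), ?_⟩)
        simp [Pi.basisFun_apply] }
  have hstab : ∀ v ∈ M, f v ∈ M := by
    intro v hv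
    refine (Submodule.span_le.2 ?_ : M ≤ M.comap f) hv
    rintro _ ⟨⟨i, j⟩, rfl⟩
    show f ((f ^ (i : ℕ)) (Pi.single j 1)) ∈ M
    rw [← Module.End.mul_apply, ← pow_succ']
    by_cases h : (i : ℕ) + 1 < d
    · exact Submodule.subset_span ⟨(⟨(i : ℕ) + 1, h⟩, j), rfl⟩
    · refine Submodule.subset_span ⟨(⟨0, hd⟩, j), ?_⟩
      show (f ^ 0) (Pi.single j 1) = _
      rw [show (i : ℕ) + 1 = d by omega, hfp 0, hfp d, hgd, pow_zero]
  haveI : Module.IsTorsionFree R K := inferInstance
  haveI : Module.Free R M := Submodule.IsLattice.free (K := K) M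
  let b : Module.Basis (Fin N) R M :=
    (Module.finBasis R M).reindex (finCongr ((Submodule.IsLattice.finrank_of_pi (K := K) M).trans (Fintype.card_fin N)))
  let bK : Module.Basis (Fin N) K (Fin N → K) := b.extendOfIsLattice K
  let φ : M →ₗ[R] M := f.restrict hstab
  let A : Matrix (Fin N) (Fin N) R := LinearMap.toMatrix b b φ
  have hA : A.map (algebraMap R K) = LinearMap.toMatrix bK bK (Matrix.mulVecLin (g : Matrix (Fin N) (Fin N) K)) := by
    ext i j
    rw [Matrix.map_apply, show A i j = b.repr (φ (b j)) i from LinearMap.toMatrix_apply b b φ i j, LinearMap.toMatrix_apply]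
    have hv : Matrix.mulVecLin (g : Matrix (Fin N) (Fin N) K) (bK j) = ∑ l, algebraMap R K (b.repr (φ (b j)) l) • bK l := by
      have h1 : Matrix.mulVecLin (g : Matrix (Fin N) (Fin N) K) (bK j) = ((φ (b j) : M) : Fin N → K) := by
        simp only [bK, Module.Basis.extendOfIsLattice_apply]
        rfl
      rw [h1]
      have h2 := congrArg M.subtype (b.sum_repr (φ (b j)))
      simp only [map_sum, map_smul, Submodule.subtype_apply] at h2
      simp only [bK, Module.Basis.extendOfIsLattice_apply, IsScalarTower.algebraMap_smul]
      exact h2.symm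
    rw [hv, map_sum, Finsupp.finsetSum_apply]
    simp only [map_smul, Module.Basis.repr_self, Finsupp.smul_single, smul_eq_mul, mul_one, Finsupp.single_apply]
    simp
  let P : Matrix (Fin N) (Fin N) K := bK.toMatrix (Pi.basisFun K (Fin N))
  let P' : Matrix (Fin N) (Fin N) K := (Pi.basisFun K (Fin N)).toMatrix bK
  have hPP' : P * P' = 1 := Module.Basis.toMatrix_mul_toMatrix_flip _ _
  have hP'P : P' * P = 1 := Module.Basis.toMatrix_mul_toMatrix_flip _ _
  let h : GL (Fin N) K := ⟨P, P', hPP', hP'P⟩
  have hconj : P * (g : Matrix (Fin N) (Fin N) K) * P' = A.map (algebraMap R K) := by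
    rw [hA, ← basis_toMatrix_mul_linearMap_toMatrix_mul_basis_toMatrix bK (Pi.basisFun K (Fin N)) bK (Pi.basisFun K (Fin N))]
    congr 2
    exact (LinearMap.toMatrix'_toLin' _).symm
  let F := (algebraMap R K).mapMatrix (m := Fin N)
  have hinj : Function.Injective F := fun X Y h => Matrix.map_injective (IsFractionRing.injective R K) h
  have hAd : A ^ d = 1 := by
    refine hinj ?_
    rw [map_pow, map_one]
    show (A.map (algebraMap R K)) ^ d = 1
    rw [← hconj, show P * (g : Matrix (Fin N) (Fin N) K) * P' = ((h * g * h⁻¹ : GL (Fin N) K) : Matrix (Fin N) (Fin N) K) from rfl,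
      ← Units.val_pow_eq_pow_val, conj_pow, hgd, mul_one, mul_inv_cancel, Units.val_one]
  let g' : GL (Fin N) R := ⟨A, A ^ (d - 1), by rw [← pow_succ', Nat.sub_add_cancel hd, hAd],
    by rw [← pow_succ, Nat.sub_add_cancel hd, hAd]⟩
  refine ⟨R, inferInstance, inferInstance, inferInstance, K, inferInstance, inferInstance, inferInstance,
    Algebra.id R, Algebra.id K, inferInstance, inferInstance, inferInstance, inferInstance, ⟨fun a ha => ha⟩, h, g', ?_⟩
  ext1
  simpa [Matrix.GeneralLinearGroup.map, h, g'] using hconj

end Groth.Agent.S14122
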