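import Groth.Statements.S1987
import Mathlib.RingTheory.DiscreteValuationRing.TFAE
import Mathlib.RingTheory.Polynomial.Eisenstein.Basic
import Mathlib.RingTheory.AdjoinRoot
import Mathlib.RingTheory.Valuation.ValuationSubring
import Mathlib.RingTheory.IntegralClosure.IntegralRestrict
import Mathlib.RingTheory.Polynomial.UniqueFactorization
import Mathlib.RingTheory.Valuation.Integral
import Mathlib.RingTheory.Ideal.GoingUp
import Mathlib.RingTheory.Polynomial.RationalRoot
import Mathlib.RingTheory.Bezout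

set_option autoImplicit false
universe u
open Polynomial
open EtAlg

namespace Groth.Agent.S1987

/-- Let A be a discrete valuation ring with uniformizer π and n ≥ 2, and let A' = A[x]/(x^n - π). Then
x^n - π is irreducible over A, A' is an integrally closed discrete valuation ring (so it is the
integral closure of A in its fraction field K₁ = K(π^{1/n}), of degree n over K), the maximal ideal
of A generates the n-th power of the maximal ideal of A' (ramification index n), and K₁ is totally
ramified with respect to A. -/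
theorem result (A : Type u) [CommRing A] [IsDomain A] [IsDiscreteValuationRing A] (π : A)
    (hπ : Irreducible π) (n : ℕ) (hn : 2 ≤ n) :
    Irreducible (X ^ n - C π : A[X]) ∧
    ∃ (_ : IsDomain (AdjoinRoot (X ^ n - C π : A[X]))) (_ : IsDiscreteValuationRing (AdjoinRoot (X ^ n - C π : A[X]))),
      IsIntegrallyClosed (AdjoinRoot (X ^ n - C π : A[X])) ∧
      (IsLocalRing.maximalIdeal A).map (algebraMap A (AdjoinRoot (X ^ n - C π : A[X]))) = IsLocalRing.maximalIdeal (AdjoinRoot (X ^ n - C π : A[X])) ^ n ∧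
      ∀ (K₁ : Type u) [Field K₁] [Algebra (AdjoinRoot (X ^ n - C π : A[X])) K₁] [IsFractionRing (AdjoinRoot (X ^ n - C π : A[X])) K₁],
        EtRam.IsTotallyRamified A ((algebraMap (AdjoinRoot (X ^ n - C π : A[X])) K₁).comp (algebraMap A (AdjoinRoot (X ^ n - C π : A[X])))) := by
  classical
  open IsLocalRing in
  set f : A[X] := X ^ n - C π with hf
  have hn0 : n ≠ 0 := by omega
  have hfm : f.Monic := monic_X_pow_sub_C π hn0
  have hdeg : f.natDegree = n := natDegree_X_pow_sub_C
  have hπm : maximalIdeal A = Ideal.span {π} := hπ.maximalIdeal_eq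
  have hpm : π ∈ maximalIdeal A := hπm ▸ Ideal.mem_span_singleton_self π
  have hE : f.IsEisensteinAt (maximalIdeal A) := by
    refine hfm.isEisensteinAt_of_mem_of_notMem (maximalIdeal.isMaximal A).ne_top (fun {i} hi => ?_) ?_
    · rw [hdeg] at hi
      rw [hf, coeff_sub, coeff_X_pow, if_neg hi.ne, zero_sub, coeff_C]
      split
      · exact neg_mem hpm
      · simp
    · rw [hf, coeff_sub, coeff_X_pow, if_neg hn0.symm, coeff_C_zero, zero_sub]
      intro h
      rw [neg_mem_iff, hπm, Ideal.span_singleton_pow, Ideal.mem_span_singleton] at h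
      obtain ⟨c, hc⟩ := h
      refine hπ.not_isUnit (IsUnit.of_mul_eq_one c (mul_left_cancel₀ hπ.ne_zero ?_))
      linear_combination -hc
  have hirr : Irreducible f := hE.irreducible (maximalIdeal.isMaximal A).isPrime hfm.isPrimitive (by rw [hdeg]; omega)
  haveI hdom : IsDomain (AdjoinRoot f) := AdjoinRoot.isDomain_of_prime hirr.prime
  haveI : Module.Finite A (AdjoinRoot f) := hfm.finite_adjoinRoot
  let x := AdjoinRoot.root f
  let al := algebraMap A (AdjoinRoot f)
  have hinj : Function.Injective al :=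
    AdjoinRoot.of.injective_of_degree_ne_zero (by rw [degree_eq_natDegree hfm.ne_zero, hdeg]; exact_mod_cast hn0)
  have hxn : x ^ n = al π := by
    have h := AdjoinRoot.eval₂_root f
    rw [hf, eval₂_sub, eval₂_pow, eval₂_X, eval₂_C, sub_eq_zero] at h
    exact h
  have hxu : ¬ IsUnit x := fun hu => by
    have h1 : IsUnit (al π) := hxn ▸ hu.pow n
    haveI : IsLocalHom al := RingHom.IsIntegral.isLocalHom (Algebra.IsIntegral.isIntegral (R := A)) hinj
    exact hπ.not_isUnit (isUnit_of_map_unit al π h1)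
  have hrep : ∀ r : AdjoinRoot f, ∃ a : A, r - al a ∈ Ideal.span ({x} : Set (AdjoinRoot f)) := fun r => by
    obtain ⟨g, rfl⟩ := AdjoinRoot.mk_surjective r
    refine ⟨g.coeff 0, ?_⟩
    obtain ⟨q, hq⟩ := X_dvd_sub_C (p := g)
    rw [show al (g.coeff 0) = AdjoinRoot.mk f (C (g.coeff 0)) from rfl, ← map_sub, hq, map_mul, AdjoinRoot.mk_X]
    exact Ideal.mul_mem_right _ _ (Ideal.mem_span_singleton_self x)
  haveI hmax : (Ideal.span ({x} : Set (AdjoinRoot f))).IsMaximal := by
    refine Ideal.isMaximal_iff.mpr ⟨fun h1 => hxu (isUnit_of_dvd_one (Ideal.mem_span_singleton.mp h1)), fun M r hM hr hrM => ?_⟩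
    obtain ⟨a, ha⟩ := hrep r
    have haM : al a ∈ M := by simpa using sub_mem hrM (hM ha)
    have hau : IsUnit a := by
      rw [← notMem_maximalIdeal]
      intro ham
      rw [hπm, Ideal.mem_span_singleton] at ham
      obtain ⟨c, rfl⟩ := ham
      refine hr ?_
      have h2 : al (π * c) ∈ Ideal.span ({x} : Set (AdjoinRoot f)) := by
        rw [map_mul, ← hxn]
        exact Ideal.mul_mem_right _ _ (Ideal.pow_mem_of_mem _ (Ideal.mem_span_singleton_self x) n (by omega))
      simpa using add_mem ha h2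
    exact (Ideal.eq_top_of_isUnit_mem M haM (hau.map al)) ▸ Submodule.mem_top
  haveI hloc : IsLocalRing (AdjoinRoot f) := by
    refine IsLocalRing.of_unique_max_ideal ⟨_, hmax, fun M hM => ?_⟩
    refine (hmax.eq_of_le hM.ne_top ?_).symm
    haveI := hM
    haveI : (M.comap al).IsMaximal := Ideal.isMaximal_comap_of_isIntegral_of_isMaximal M
    have hπM : al π ∈ M := by
      rw [← Ideal.mem_comap, IsLocalRing.eq_maximalIdeal (I := M.comap al) inferInstance]
      exact hpm
    rw [Ideal.span_singleton_le_iff_mem]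
    exact hM.isPrime.mem_of_pow_mem n (hxn ▸ hπM)
  have hm : maximalIdeal (AdjoinRoot f) = Ideal.span {x} := (IsLocalRing.eq_maximalIdeal hmax).symm
  have hx0 : x ≠ 0 := fun h0 => hπ.ne_zero (hinj (by rw [← hxn, h0, zero_pow hn0, map_zero]))
  have hnf : ¬ IsField (AdjoinRoot f) := fun hF => hx0 (by
    have := (IsLocalRing.isField_iff_maximalIdeal_eq.mp hF)
    rw [hm, Ideal.span_singleton_eq_bot] at this
    exact this)
  haveI : IsNoetherianRing (AdjoinRoot f) := IsNoetherianRing.of_finite A (AdjoinRoot f)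
  haveI hdvr : IsDiscreteValuationRing (AdjoinRoot f) :=
    ((IsDiscreteValuationRing.TFAE (AdjoinRoot f) hnf).out 4 0 rfl rfl).mp ⟨⟨x, hm⟩⟩
  refine ⟨hirr, hdom, hdvr, inferInstance, ?_, ?_⟩
  · rw [hπm, Ideal.map_span, Set.image_singleton, hm, Ideal.span_singleton_pow, hxn]
  intro K₁ _ _ _
  let j := algebraMap (AdjoinRoot f) K₁
  let g := j.comp al
  let V₀ : ValuationSubring K₁ := ValuationSubring.ofSubring j.range fun z => by
    rcases ValuationRing.isInteger_or_isInteger (AdjoinRoot f) z with h | h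
    · exact Or.inl h
    · exact Or.inr h
  have hkey : ∀ V : ValuationSubring K₁, EtRam.Dominates A g V →
      ∀ r, j r ∈ V ∧ (r ∈ maximalIdeal (AdjoinRoot f) → V.valuation (j r) < 1) := by
    intro V hV
    have hall : ∀ r, j r ∈ V := fun r => by
      have hr : (algebraMap A (AdjoinRoot f)).IsIntegralElem r := Algebra.IsIntegral.isIntegral r
      obtain ⟨p, hp, hpr⟩ := hr
      let g' : A →+* V := RingHom.codRestrict g V hV.1
      have hint : IsIntegral V (j r) := ⟨p.map g', hp.map g', by
        rw [eval₂_map, show (algebraMap V K₁).comp g' = j.comp al from RingHom.ext fun a => rfl]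
        exact (hom_eval₂ p al j r).symm.trans (by rw [hpr, map_zero])⟩
      have hv : V.valuation.Integers V :=
        ⟨Subtype.val_injective, fun a => V.valuation_le_one a, fun z hz => ⟨⟨z, V.mem_of_valuation_le_one z hz⟩, rfl⟩⟩
      exact V.mem_of_valuation_le_one _ (hv.mem_of_integral hint)
    refine fun r => ⟨hall r, fun hr => ?_⟩
    have hvx : V.valuation (j x) < 1 := by
      by_contra hge
      refine absurd (hV.2 π hpm) (not_lt.mpr ?_)
      show 1 ≤ V.valuation (j (al π))
      rw [← hxn, map_pow, map_pow]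
      exact one_le_pow₀ (not_lt.mp hge)
    rw [hm, Ideal.mem_span_singleton] at hr
    obtain ⟨c, rfl⟩ := hr
    rw [map_mul, map_mul]
    exact mul_lt_one_of_lt_of_le hvx ((V.valuation_le_one_iff _).mpr (hall c))
  have hdom₀ : EtRam.Dominates A g V₀ := by
    refine ⟨fun a => ⟨al a, rfl⟩, fun a ha => ?_⟩
    have hle : V₀.valuation (g a) ≤ 1 := (V₀.valuation_le_one_iff _).mpr ⟨al a, rfl⟩
    refine lt_of_le_of_ne hle fun h1 => ?_
    obtain ⟨y, hy⟩ := (V₀.valuation_eq_one_iff ⟨g a, ⟨al a, rfl⟩⟩).mpr h1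
    obtain ⟨w, hw⟩ := ((y⁻¹ : V₀ˣ) : V₀).2
    have hu : IsUnit (al a) := by
      refine IsUnit.of_mul_eq_one w (IsFractionRing.injective (AdjoinRoot f) K₁ ?_)
      rw [map_mul, map_one]
      have hya : ((y : V₀) : K₁) = g a := congrArg Subtype.val hy
      show g a * j w = 1
      rw [hw, ← hya]
      exact congrArg Subtype.val y.mul_inv
    haveI : IsLocalHom al := RingHom.IsIntegral.isLocalHom (Algebra.IsIntegral.isIntegral (R := A)) hinj
    exact (IsLocalRing.mem_maximalIdeal a).mp ha (isUnit_of_map_unit al a hu)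
  have huniq : ∀ V, EtRam.Dominates A g V → V = V₀ := by
    intro V hV
    refine SetLike.ext fun z => ⟨fun hz => ?_, ?_⟩
    swap
    · rintro ⟨r, rfl⟩
      exact ((hkey V hV) r).1
    rcases eq_or_ne z 0 with rfl | hz0
    · exact ⟨0, map_zero _⟩
    rcases ValuationRing.isInteger_or_isInteger (AdjoinRoot f) z with h | ⟨r, hr⟩
    · exact h
    · by_cases hu : IsUnit r
      · obtain ⟨u, rfl⟩ := hu
        refine ⟨(u⁻¹ : (AdjoinRoot f)ˣ), ?_⟩
        rw [← inv_inv z, ← hr]
        exact map_units_inv j u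
      · exfalso
        have h2 := ((hkey V hV) r).2 ((IsLocalRing.mem_maximalIdeal r).mpr hu)
        rw [show j r = z⁻¹ from hr, map_inv₀] at h2
        exact absurd h2 (not_lt.mpr (one_le_inv_iff₀.mpr ⟨zero_lt_iff.mpr ((Valuation.ne_zero_iff _).mpr hz0), (V.valuation_le_one_iff z).mpr hz⟩))
  refine ⟨⟨V₀, hdom₀⟩, fun V V' h h' => (huniq V h).trans (huniq V' h').symm, fun V h => ?_⟩
  obtain rfl := huniq V h
  intro q
  obtain ⟨⟨z, r, rfl⟩, rfl⟩ := IsLocalRing.residue_surjective q
  obtain ⟨a, ha⟩ := hrep r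
  refine ⟨a, ?_⟩
  rw [← sub_eq_zero, ← map_sub, IsLocalRing.residue_eq_zero_iff]
  refine (V₀.valuation_lt_one_iff _).mpr ?_
  show V₀.valuation (j (al a) - j r) < 1
  rw [← map_sub j]
  exact ((hkey V₀ hdom₀) _).2 (by rw [hm, ← neg_sub]; exact neg_mem ha)

end Groth.Agent.S1987
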