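import Groth.Statements.S14123
import Groth.Agent.S1987

set_option autoImplicit false
universe u v
open GmQuot

namespace Groth.Agent.S14123

open Polynomial

/-- Divisibility in every positive degree from divisibility on generators. -/
theorem pow_dvd_of_gen {A : Type u} [CommRing A] (𝒜 : ℤ → AddSubgroup A) [GradedRing 𝒜]
    {B : Type v} [CommRing B] (ψ : A →+* B) (W : B) (T : Finset A)
    (hT : ∀ t ∈ T, ∃ d : ℤ, 0 < d ∧ t ∈ 𝒜 d ∧ W ^ d.toNat ∣ ψ t)
    (hspan : ∀ (e : ℤ) (a : A), 0 < e → a ∈ 𝒜 e → a ∈ Ideal.span (T : Set A))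
    (e : ℤ) (a : A) (ha : a ∈ 𝒜 e) : W ^ e.toNat ∣ ψ a := by
  suffices H : ∀ (N : ℕ) (e : ℤ) (a : A), e ≤ N → a ∈ 𝒜 e → W ^ e.toNat ∣ ψ a from
    H e.toNat e a (Int.self_le_toNat e) ha
  intro N
  induction N with
  | zero => intro e a he _; rw [Int.toNat_of_nonpos (by simpa using he)]; simp
  | succ N ih =>
    intro e a he ha
    rcases le_or_gt e 0 with h0 | h0
    · rw [Int.toNat_of_nonpos h0]; simp
    suffices H : ∀ b ∈ Ideal.span (T : Set A), W ^ e.toNat ∣ ψ (DirectSum.decompose 𝒜 b e : A) by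
      simpa [DirectSum.decompose_of_mem_same 𝒜 ha] using H a (hspan e a h0 ha)
    intro b hb
    suffices H : ∀ r : A, W ^ e.toNat ∣ ψ (DirectSum.decompose 𝒜 (r * b) e : A) by simpa using H 1
    induction hb using Submodule.span_induction with
    | mem t ht =>
      intro r
      obtain ⟨d, hd, htd, hdvd⟩ := hT t ht
      have h1 := DirectSum.coe_decompose_mul_add_of_right_mem 𝒜 (i := e - d) (a := r) htd
      rw [sub_add_cancel] at h1
      rw [h1, map_mul]
      refine dvd_trans ?_ (mul_dvd_mul (ih (e - d) _ (by omega) (SetLike.coe_mem _)) hdvd)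
      rw [← pow_add]
      exact pow_dvd_pow _ (by omega)
    | zero => intro r; simp
    | add b c _ _ hb hc =>
      intro r
      rw [mul_add, DirectSum.decompose_add, DirectSum.add_apply, AddSubgroup.coe_add, map_add]
      exact dvd_add (hb r) (hc r)
    | smul s b _ hb =>
      intro r
      rw [smul_eq_mul, ← mul_assoc]
      exact hb (r * s)

/-- Rescaling a ring map along the grading. -/
theorem exists_rescale {A : Type u} [CommRing A] (𝒜 : ℤ → AddSubgroup A) [GradedRing 𝒜]
    {B : Type v} [CommRing B] [IsDomain B] (L : Type v) [Field L] [Algebra B L] [IsFractionRing B L]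
    (ψ : A →+* B) (W : B) (hW : W ≠ 0) (h : ∀ e, ∀ a ∈ 𝒜 e, W ^ e.toNat ∣ ψ a) :
    ∃ g : A →+* B, ∀ (d : ℤ) (a : A), a ∈ 𝒜 d →
      algebraMap B L (g a) * algebraMap B L W ^ d = algebraMap B L (ψ a) := by
  classical
  have hw : algebraMap B L W ≠ 0 := (map_ne_zero_iff _ (IsFractionRing.injective B L)).mpr hW
  let f : ∀ i, 𝒜 i →+ L := fun i =>
    AddMonoidHom.mk' (fun a => algebraMap B L (ψ a) * algebraMap B L W ^ (-i)) fun a b => by
      simp only [AddSubgroup.coe_add, map_add, add_mul]
  have h1 : f 0 (GradedMonoid.GOne.one (A := fun i => 𝒜 i)) = 1 := by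
    simp [f, SetLike.coe_gOne]
  have hm : ∀ {i j} (ai : 𝒜 i) (aj : 𝒜 j), f (i + j) (GradedMonoid.GMul.mul (A := fun i => 𝒜 i) ai aj) = f _ ai * f _ aj := by
    intro i j ai aj
    simp only [f, AddMonoidHom.mk'_apply, SetLike.coe_gMul, map_mul, neg_add, zpow_add₀ hw]
    ring
  let G : A →+* L := (DirectSum.toSemiring f h1 hm).comp (DirectSum.decomposeRingEquiv 𝒜).toRingHom
  have hG : ∀ (d : ℤ) (a : A), a ∈ 𝒜 d →
      G a = algebraMap B L (ψ a) * algebraMap B L W ^ (-d) := by
    intro d a ha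
    show DirectSum.toSemiring f h1 hm (DirectSum.decompose 𝒜 a) = _
    rw [DirectSum.decompose_of_mem 𝒜 ha, DirectSum.toSemiring_of]
    rfl
  have hr : ∀ a, G a ∈ (algebraMap B L).range := by
    intro a
    induction a using DirectSum.Decomposition.inductionOn 𝒜 with
    | zero => rw [map_zero]; exact zero_mem _
    | @homogeneous d m =>
      obtain ⟨c, hc⟩ := h d m m.2
      rw [hG d m m.2]
      rcases le_or_gt d 0 with h0 | h0
      · refine ⟨ψ m * W ^ (-d).toNat, ?_⟩
        rw [map_mul, map_pow, ← zpow_natCast, Int.toNat_of_nonneg (by omega)]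
      · refine ⟨c, ?_⟩
        rw [hc, map_mul, map_pow, ← zpow_natCast, Int.toNat_of_nonneg h0.le, mul_comm (_ ^ d),
          mul_assoc, ← zpow_add₀ hw, add_neg_cancel, zpow_zero, mul_one]
    | add a b ha hb => rw [map_add]; exact add_mem ha hb
  let e : B ≃+* (algebraMap B L).range := RingEquiv.ofBijective (algebraMap B L).rangeRestrict
    ⟨fun x y hxy => IsFractionRing.injective B L (congrArg Subtype.val hxy),
      RingHom.rangeRestrict_surjective _⟩
  refine ⟨e.symm.toRingHom.comp (G.codRestrict _ hr), fun d a ha => ?_⟩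
  have : algebraMap B L (e.symm (G.codRestrict _ hr a)) = G a :=
    congrArg Subtype.val (e.apply_symm_apply (G.codRestrict _ hr a))
  show algebraMap B L (e.symm (G.codRestrict _ hr a)) * _ = _
  rw [this, hG d a ha, mul_assoc, ← zpow_add₀ hw, neg_add_cancel, zpow_zero, mul_one]


/-- Let `A = ⊕_{d ∈ ℤ} A_d` be a graded commutative ring whose ideal `I₊` generated by the homogeneous
elements of positive degree is finitely generated, `R` a discrete valuation ring with fraction field
`K`, and `φ : A → R` a ring map with `φ(I₊) ≠ 0` and `φ(I₊)` inside the maximal ideal. Then after a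
finite extension `K'/K` and a discrete valuation ring `R'` of `K'` dominating `R` there are a
nonzero non-unit `ϖ ∈ R'` and a ring map `g : A → R'` with `g(a) ϖ^d = φ(a)` for every homogeneous
`a` of degree `d` (so `g` is `φ` rescaled through the grading by `ϖ`), such that `g(I₊) R' = R'`.
(The published statement is phrased for the quotient stack of `Spec A` by the multiplicative group
and its closed substack cut out by `I₊`, in a setting where `A` is Noetherian, being of finite type
over a Noetherian base: an `R`-point whose closed point lies in that substack and whose generic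
point does not admits, after a finite extension, an elementary modification avoiding the substack;
this row is the graded-ring statement the printed argument proves, assuming only that `I₊` is
finitely generated, which is all that argument uses, and with `ϖ` not required to be a uniformizer.) -/
theorem result
    {A : Type u} [CommRing A] (𝒜 : ℤ → AddSubgroup A) [GradedRing 𝒜]
    (hfg : (Ideal.span {a : A | ∃ d : ℤ, 0 < d ∧ a ∈ 𝒜 d}).FG)
    (R : Type v) [CommRing R] [IsDomain R] [IsDiscreteValuationRing R]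
    (K : Type v) [Field K] [Algebra R K] [IsFractionRing R K]
    (φ : A →+* R)
    (hle : Ideal.map φ (Ideal.span {a : A | ∃ d : ℤ, 0 < d ∧ a ∈ 𝒜 d}) ≤ IsLocalRing.maximalIdeal R)
    (hne : Ideal.map φ (Ideal.span {a : A | ∃ d : ℤ, 0 < d ∧ a ∈ 𝒜 d}) ≠ ⊥) :
    ∃ (R' : Type v) (_ : CommRing R') (_ : IsDomain R') (_ : IsDiscreteValuationRing R')
      (K' : Type v) (_ : Field K') (_ : Algebra R' K') (_ : IsFractionRing R' K')
      (_ : Algebra R R') (_ : Algebra K K') (_ : Algebra R K')
      (_ : IsScalarTower R R' K') (_ : IsScalarTower R K K')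
      (_ : Module.Finite K K') (_ : IsLocalHom (algebraMap R R'))
      (ϖ : R') (g : A →+* R'),
      ϖ ≠ 0 ∧ ϖ ∈ IsLocalRing.maximalIdeal R' ∧
      (∀ (d : ℤ) (a : A), a ∈ 𝒜 d →
        algebraMap R' K' (g a) * algebraMap R' K' ϖ ^ d = algebraMap R K' (φ a)) ∧
      Ideal.map g (Ideal.span {a : A | ∃ d : ℤ, 0 < d ∧ a ∈ 𝒜 d}) = ⊤ := by
  classical
  obtain ⟨T, hTsub, hTspan⟩ := (Submodule.fg_span_iff_fg_span_finset_subset _).mp hfg
  change Ideal.span _ = Ideal.span (T : Set A) at hTspan
  have hTd : ∀ t : T, ∃ d : ℤ, 0 < d ∧ (t : A) ∈ 𝒜 d := fun t => hTsub t.2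
  choose dd hd0 hdm using hTd
  obtain ⟨π, hπ⟩ := IsDiscreteValuationRing.exists_irreducible R
  have hv : ∀ t : T, φ t ≠ 0 → ∃ v : ℕ, ∃ u : Rˣ, φ t = u * π ^ v := fun t ht =>
    IsDiscreteValuationRing.eq_unit_mul_pow_irreducible ht hπ
  let S : Finset T := Finset.univ.filter fun t => φ t ≠ 0
  have hS : S.Nonempty := by
    by_contra hS
    refine hne ?_
    rw [hTspan, Ideal.map_span, Ideal.span_eq_bot]
    rintro _ ⟨t, ht, rfl⟩
    by_contra h
    exact hS ⟨⟨t, ht⟩, Finset.mem_filter.mpr ⟨Finset.mem_univ _, h⟩⟩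
  choose v uu hvu using hv
  let vv : T → ℕ := fun t => if h : φ t ≠ 0 then v t h else 0
  obtain ⟨j, hjS, hj⟩ := S.exists_min_image (fun t => (vv t : ℚ) / (dd t : ℚ)) hS
  have hj0 : φ j ≠ 0 := (Finset.mem_filter.mp hjS).2
  have hmin : ∀ t ∈ S, (vv j : ℤ) * dd t ≤ (vv t : ℤ) * dd j := by
    intro t ht
    have := hj t ht
    rw [div_le_div_iff₀ (by exact_mod_cast hd0 j) (by exact_mod_cast hd0 t)] at this
    exact_mod_cast this
  have hvj : 1 ≤ vv j := by
    by_contra h
    have h0 : vv j = 0 := by omega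
    simp only [vv, dif_pos hj0] at h0
    have hmem : φ j ∈ IsLocalRing.maximalIdeal R := hle (Ideal.mem_map_of_mem φ
      (Ideal.subset_span ⟨dd j, hd0 j, hdm j⟩))
    rw [hvu j hj0, h0, pow_zero, mul_one] at hmem
    exact (IsLocalRing.mem_maximalIdeal _).mp hmem (Units.isUnit _)
  obtain ⟨n, hn⟩ : ∃ n : ℕ, (n : ℤ) = 2 * dd j := ⟨(2 * dd j).toNat, by have := hd0 j; omega⟩
  have hn2 : 2 ≤ n := by have := hd0 j; omega
  obtain ⟨hirr, hdom, hdvr, -, hmax, -⟩ := Groth.Agent.S1987.result R π hπ n hn2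
  set f : R[X] := X ^ n - C π with hf
  have hfm : f.Monic := monic_X_pow_sub_C π (by omega)
  haveI : Module.Finite R (AdjoinRoot f) := hfm.finite_adjoinRoot
  have hinj : Function.Injective (algebraMap R (AdjoinRoot f)) :=
    AdjoinRoot.of.injective_of_degree_ne_zero (by
      rw [hf, degree_X_pow_sub_C (by omega)]; exact_mod_cast (by omega : n ≠ 0))
  have hloc : IsLocalHom (algebraMap R (AdjoinRoot f)) :=
    RingHom.IsIntegral.isLocalHom (Algebra.IsIntegral.isIntegral (R := R)) hinj
  set x := AdjoinRoot.root f with hxdef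
  have hxn : x ^ n = algebraMap R (AdjoinRoot f) π := by
    have h := AdjoinRoot.eval₂_root f
    rw [hf, eval₂_sub, eval₂_pow, eval₂_X, eval₂_C, sub_eq_zero] at h
    exact h
  have hxm : x ∈ IsLocalRing.maximalIdeal (AdjoinRoot f) :=
    (IsLocalRing.maximalIdeal.isMaximal _).isPrime.mem_of_pow_mem n (hxn ▸
      map_nonunit _ π ((IsLocalRing.mem_maximalIdeal _).mpr hπ.not_isUnit))
  have hx0 : x ≠ 0 := fun h => hπ.ne_zero (hinj (by rw [← hxn, h, zero_pow (by omega), map_zero]))
  let W := x ^ (2 * vv j)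
  have hW : W ≠ 0 := pow_ne_zero _ hx0
  have hgen : ∀ t ∈ T, ∃ d : ℤ, 0 < d ∧ t ∈ 𝒜 d ∧
      W ^ d.toNat ∣ (algebraMap R (AdjoinRoot f)).comp φ t := by
    intro t ht
    refine ⟨dd ⟨t, ht⟩, hd0 _, hdm ⟨t, ht⟩, ?_⟩
    by_cases h : φ t = 0
    · simp [h]
    · show W ^ _ ∣ algebraMap R (AdjoinRoot f) (φ t)
      rw [show φ t = _ from hvu ⟨t, ht⟩ h, map_mul, map_pow, ← hxn, ← pow_mul, ← pow_mul]
      refine Dvd.dvd.mul_left (pow_dvd_pow _ ?_) _
      have h2 := hmin ⟨t, ht⟩ (Finset.mem_filter.mpr ⟨Finset.mem_univ _, h⟩)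
      have h3 : vv ⟨t, ht⟩ = v ⟨t, ht⟩ h := dif_pos h
      rw [h3] at h2
      have h4 := hd0 ⟨t, ht⟩
      zify
      rw [Int.toNat_of_nonneg h4.le, hn]
      nlinarith
  have hdvd : ∀ e, ∀ a ∈ 𝒜 e, W ^ e.toNat ∣ (algebraMap R (AdjoinRoot f)).comp φ a := fun e a =>
    pow_dvd_of_gen 𝒜 _ W T hgen (fun e a he ha => hTspan ▸ Ideal.subset_span ⟨e, he, ha⟩) e a
  let L := FractionRing (AdjoinRoot f)
  obtain ⟨g, hg⟩ := exists_rescale 𝒜 L ((algebraMap R (AdjoinRoot f)).comp φ) W hW hdvd
  have hRL : Function.Injective (algebraMap R L) := by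
    rw [IsScalarTower.algebraMap_eq R (AdjoinRoot f) L]
    exact (IsFractionRing.injective (AdjoinRoot f) L).comp hinj
  letI algKL : Algebra K L := (IsFractionRing.lift (A := R) (K := K) hRL).toAlgebra
  haveI : IsScalarTower R K L := IsScalarTower.of_algebraMap_eq fun r =>
    (IsFractionRing.lift_algebraMap hRL r).symm
  have hfin : Module.Finite K L := by
    have hint : IsIntegral K (algebraMap (AdjoinRoot f) L x) :=
      ((Algebra.IsIntegral.isIntegral (R := R) x).map (IsScalarTower.toAlgHom R (AdjoinRoot f) L)).tower_top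
    haveI := IntermediateField.adjoin.finiteDimensional hint
    have htop : IntermediateField.adjoin K {algebraMap (AdjoinRoot f) L x} = ⊤ := by
      refine eq_top_iff.mpr fun z _ => ?_
      obtain ⟨r, s, hs, rfl⟩ := IsFractionRing.div_surjective (AdjoinRoot f) z
      have hall : ∀ b : AdjoinRoot f, algebraMap (AdjoinRoot f) L b ∈
          IntermediateField.adjoin K {algebraMap (AdjoinRoot f) L x} := by
        intro b
        obtain ⟨q, rfl⟩ := AdjoinRoot.mk_surjective b
        rw [← AdjoinRoot.aeval_eq, ← Polynomial.aeval_algebraMap_apply, ← aeval_map_algebraMap K]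
        exact IntermediateField.algebra_adjoin_le_adjoin K _ (aeval_mem_adjoin_singleton K _)
      exact div_mem (hall r) (hall s)
    exact Module.Finite.equiv
      ((IntermediateField.equivOfEq htop).trans IntermediateField.topEquiv).toLinearEquiv
  refine ⟨AdjoinRoot f, inferInstance, hdom, hdvr, L, inferInstance, inferInstance, inferInstance,
    inferInstance, algKL, inferInstance, inferInstance, inferInstance, hfin, hloc, W, g, hW,
    Ideal.pow_mem_of_mem _ hxm _ (by omega), fun d a ha => ?_, ?_⟩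
  · rw [hg d a ha]
    exact (IsScalarTower.algebraMap_apply R (AdjoinRoot f) L (φ a)).symm
  · refine Ideal.eq_top_of_isUnit_mem _ (Ideal.mem_map_of_mem g
      (Ideal.subset_span ⟨dd j, hd0 j, hdm j⟩)) ?_
    have h1 := hg (dd j) j (hdm j)
    have h2 : g j * W ^ (dd j).toNat = algebraMap R (AdjoinRoot f) (φ j) := by
      refine IsFractionRing.injective (AdjoinRoot f) L ?_
      rw [map_mul, map_pow, ← zpow_natCast, Int.toNat_of_nonneg (hd0 j).le]
      exact h1
    rw [hvu j hj0, map_mul, map_pow, ← hxn, ← pow_mul, ← pow_mul,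
      show n * v j hj0 = 2 * vv j * (dd j).toNat by
        simp only [vv, dif_pos hj0]
        zify
        rw [Int.toNat_of_nonneg (hd0 j).le, hn]; ring] at h2
    rw [mul_right_cancel₀ (pow_ne_zero _ hx0) h2]
    exact (uu j hj0).isUnit.map _

end Groth.Agent.S14123
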