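import Groth.Statements.S14127
import Groth.Agent.L26.Mumford.Sky
import Groth.Agent.L26.AbDual.LamSurj
import Groth.Agent.L26.AbDual.Bidual

set_option autoImplicit false
universe u
open CategoryTheory CategoryTheory.Limits MonoidalCategory CartesianMonoidalCategory MonObj GrpObj AlgebraicGeometry
open AbVar

namespace Groth.Agent.S14127

open Groth.Agent.L26.Mumford

/-- Let k be a field, A an abelian variety over k (a proper smooth k-group scheme with geometrically
connected fibres) of dimension g, (A^t, φ) a given dual abelian variety of A for the fppf topology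
with A^t itself an abelian variety, and P an invertible module on A ×_k A^t whose class is a
Poincaré class. Then H^i(A ×_k A^t, P) vanishes for every i ≠ g and H^g(A ×_k A^t, P) has dimension
1 over k. Moreover, for the projection pr_2 : A ×_k A^t → A^t, the higher direct images R^i pr_{2,*}
P vanish for i < g, and R^g pr_{2,*} P is isomorphic to the skyscraper e_* O_{Spec k} at the unit e
of A^t (existence of an isomorphism). -/
theorem result (k : Type u) [Field k]
    (A At : Over (Spec (CommRingCat.of k))) [GrpObj A] [IsProper A.hom] [Smooth A.hom] [GeometricallyConnected A.hom]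
    [GrpObj At] [IsProper At.hom] [Smooth At.hom] [GeometricallyConnected At.hom]
    (φ : ∀ T : Over (Spec (CommRingCat.of k)), PicF.Cl (PicF.XT A.hom T) → (T ⟶ At))
    (hφ : AbDual.IsDualAV Scheme.fppfPrecoverage A At φ)
    (P : (pullback A.hom At.hom).Modules) (hP : PicF.IsInvertible P)
    (hPξ : AbDual.IsPoincareCl A At φ (PicF.cl P))
    (g : ℕ) (hg : topologicalKrullDim ↥A.left = g)
    [HasInjectiveResolutions (pullback A.hom At.hom).Modules] :
    (∀ i : ℕ, i ≠ g → Subsingleton (Coh.HH (pullback A.hom At.hom) P i)) ∧
      @Module.finrank k (Coh.HH (pullback A.hom At.hom) P g) _ _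
        (@Coh.moduleOver k _ (pullback A.hom At.hom) ⟨pullback.fst A.hom At.hom ≫ A.hom⟩ P g) = 1 ∧
      (∀ i : ℕ, i < g → IsZero ((Coh.Rpush (pullback.snd A.hom At.hom) i).obj P)) ∧
      Nonempty ((Coh.Rpush (pullback.snd A.hom At.hom) g).obj P ≅
        (Coh.push η[At].left).obj (Coh.structureModule (Spec (CommRingCat.of k)))) := by
  haveI : GeometricallyIntegral A.hom := geometricallyIntegral_av A
  haveI : IsCommMonObj A := isCommMonObj_of_isProper_of_geometricallyIntegral A
  haveI : GeometricallyIntegral At.hom := geometricallyIntegral_av At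
  haveI : IsCommMonObj At := isCommMonObj_of_isProper_of_geometricallyIntegral At
  -- the dimension of the dual
  have hgt : topologicalKrullDim ↥At.left = g := by
    obtain ⟨L, hL⟩ := Groth.Agent.AV.Degree.exists_isAmple A
    obtain ⟨K, i, -, hKf, hKer⟩ := Groth.Agent.LamSurj.exists_kernel hφ L hL
    haveI := hKf
    haveI := Groth.Agent.LamSurj.surjective_lamOf hφ L hL
    haveI := Groth.Agent.Poincare.Pairing.isMonHom_lamOf hφ hPξ L hL.1
    haveI := (Groth.L00.TransIsog.isFinite_flat (Groth.Agent.Poincare.Pairing.lamOf φ L hL.1) i hKer).1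
    exact (Groth.Agent.Bidual.dim_eq_of_finite (Groth.Agent.Poincare.Pairing.lamOf φ L hL.1)).symm.trans hg
  have hc := poincareLike_of_isDualAV hφ hPξ
  have hH := finrank_HH (A := A) (Q := At) hc P rfl hP g hg hgt (pullback.fst A.hom At.hom ≫ A.hom)
    pullback.condition.symm
  refine ⟨fun i hi => (hH i).1 hi, (hH g).2 rfl,
    fun i hi => isZero_Rpush (A := A) (Q := At) hc P rfl hP g hg hgt i (ne_of_lt hi),
    nonempty_Rpush_top (A := A) (Q := At) hc P rfl hP g hg hgt⟩

end Groth.Agent.S14127
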