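import Groth.Statements.S14129
import Groth.Agent.L26.Mumford.Index

set_option autoImplicit false
universe u
open CategoryTheory CategoryTheory.Limits MonoidalCategory CartesianMonoidalCategory MonObj GrpObj AlgebraicGeometry
open AbVar

namespace Groth.Agent.S14129

/-- Let k be an algebraically closed field, A an abelian variety over k (a proper smooth k-group scheme
with geometrically connected fibres) of dimension g, and L an invertible O_A-module which is
non-degenerate, i.e. only finitely many k-rational points x of A satisfy t_x^*L ≅ L, where t_x : A →
A is translation by x (the product of the identity and the constant map x in the group Hom(A, A)).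
Then there is a natural number i ≤ g, the index of L, such that H^j(A, L) vanishes for every j ≠ i
while H^i(A, L) is non-zero. (The published statement also identifies the square of dim H^i(A, L)
with the order of the finite group scheme K(L); that part is recorded separately.) -/
theorem result (k : Type u) [Field k] [IsAlgClosed k]
    (A : Over (Spec (CommRingCat.of k))) [GrpObj A] [IsProper A.hom] [Smooth A.hom] [GeometricallyConnected A.hom]
    (g : ℕ) (hg : topologicalKrullDim ↥A.left = g) (L : A.left.Modules) (hL : PicF.IsInvertible L)
    (hnd : Set.Finite {x : 𝟙_ (Over (Spec (CommRingCat.of k))) ⟶ A |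
      Nonempty ((Scheme.Modules.pullback (𝟙 A * (toUnit A ≫ x)).left).obj L ≅ L)}) :
    ∃ i : ℕ, i ≤ g ∧ (∀ j : ℕ, j ≠ i → Subsingleton (Coh.HH A.left L j)) ∧ Nontrivial (Coh.HH A.left L i) := by
  exact Groth.Agent.L26.Mumford.exists_index hg L hL hnd

end Groth.Agent.S14129
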