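import Groth.Statements.S1413
import Mathlib.AlgebraicGeometry.Morphisms.Flat
import Mathlib.RingTheory.Flat.FaithfullyFlat.Algebra
import Mathlib.RingTheory.Flat.Tensor

set_option autoImplicit false
universe u
open FlatMor

namespace Groth.Agent.S1413
open CategoryTheory CategoryTheory.Limits AlgebraicGeometry

open TensorProduct in
private theorem flat_of_comp_faithfullyFlat {R S T : Type u} [CommRing R] [CommRing S] [CommRing T]
    [Algebra R S] [Algebra S T] [Algebra R T] [IsScalarTower R S T] [Module.Flat R T]
    [Module.FaithfullyFlat S T] : Module.Flat R S := by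
  rw [Module.Flat.iff_lTensor_injective']
  intro I
  rw [injective_iff_map_eq_zero]
  intro z hz
  apply Module.FaithfullyFlat.tensorProduct_mk_injective (A := S) (B := T) (S ⊗[R] I)
  rw [map_zero]
  apply (AlgebraTensorModule.cancelBaseChange R S S T I).injective
  rw [map_zero]
  apply Module.Flat.lTensor_preserves_injective_linearMap (M := T) I.subtype Subtype.val_injective
  rw [map_zero]
  have key : ∀ w : S ⊗[R] I, (I.subtype.lTensor T)
      (AlgebraTensorModule.cancelBaseChange R S S T I ((1 : T) ⊗ₜ[S] w)) =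
      ((IsScalarTower.toAlgHom R S T).toLinearMap.rTensor R) (I.subtype.lTensor S w) := by
    intro w
    induction w using TensorProduct.induction_on with
    | zero => simp
    | tmul s a => simp [Algebra.smul_def]
    | add a b ha hb => simp only [TensorProduct.tmul_add, map_add, ha, hb]
  exact (key z).trans (by rw [hz, map_zero])

private theorem descend {X Y Z : Scheme.{u}} (f : X ⟶ Y) (g : Y ⟶ Z) [Flat f] [Surjective f]
    [Flat (f ≫ g)] : Flat g := by
  refine Flat.of_stalkMap g fun y => ?_
  obtain ⟨x, rfl⟩ := f.surjective y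
  have h1 := Flat.stalkMap f x
  have h2 : (g.stalkMap (f x) ≫ f.stalkMap x).hom.Flat := by
    rw [← Scheme.Hom.stalkMap_comp]; exact Flat.stalkMap _ x
  rw [CommRingCat.hom_comp] at h2
  algebraize [(g.stalkMap (f x)).hom, (f.stalkMap x).hom,
    (f.stalkMap x).hom.comp (g.stalkMap (f x)).hom]
  have : Module.FaithfullyFlat (Y.presheaf.stalk (f x)) (X.presheaf.stalk x) :=
    @Module.FaithfullyFlat.of_flat_of_isLocalHom _ _ _ _ _ _ _ (h1 : _) (by
      rw [RingHom.algebraMap_toAlgebra]; infer_instance)
  exact flat_of_comp_faithfullyFlat (T := X.presheaf.stalk x)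


open AlgebraicGeometry CategoryTheory Limits in
/-- Let X → Y → Z be morphisms with X → Y flat and surjective and with the diagonal of X over Z flat.
Then the diagonal of Y over Z is flat. -/
theorem result {X Y Z : Scheme.{u}} (f : X ⟶ Y) (g : Y ⟶ Z) [Flat f] [Surjective f] [Flat (pullback.diagonal (f ≫ g))] :
    Flat (pullback.diagonal g) := by
  let m : pullback (f ≫ g) (f ≫ g) ⟶ pullback g g :=
    pullback.lift (pullback.fst _ _ ≫ f) (pullback.snd _ _ ≫ f) (by
      rw [Category.assoc, Category.assoc, pullback.condition])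
  let m₁ : pullback (f ≫ g) (f ≫ g) ⟶ pullback g (f ≫ g) :=
    pullback.lift (pullback.fst _ _ ≫ f) (pullback.snd _ _) (by
      rw [Category.assoc, pullback.condition])
  let m₂ : pullback g (f ≫ g) ⟶ pullback g g :=
    pullback.lift (pullback.fst _ _) (pullback.snd _ _ ≫ f) (by
      rw [Category.assoc, pullback.condition])
  have hm₁f : m₁ ≫ pullback.fst g (f ≫ g) = pullback.fst _ _ ≫ f := pullback.lift_fst _ _ _
  have hm₁s : m₁ ≫ pullback.snd g (f ≫ g) = pullback.snd _ _ := pullback.lift_snd _ _ _
  have hm₂f : m₂ ≫ pullback.fst g g = pullback.fst _ _ := pullback.lift_fst _ _ _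
  have hm₂s : m₂ ≫ pullback.snd g g = pullback.snd _ _ ≫ f := pullback.lift_snd _ _ _
  have h₁ : Flat m₁ :=
    MorphismProperty.of_isPullback (P := @Flat)
      (IsPullback.of_bot (v₁₁ := m₁) (v₁₂ := f)
        (by rw [hm₁s]; exact IsPullback.of_hasPullback (f ≫ g) (f ≫ g))
        hm₁f.symm (IsPullback.of_hasPullback g (f ≫ g))) ‹Flat f›
  have h₂ : Flat m₂ :=
    MorphismProperty.of_isPullback (P := @Flat)
      (IsPullback.of_bot (v₁₁ := m₂) (v₁₂ := f)
        (by rw [hm₂f]; exact (IsPullback.of_hasPullback g (f ≫ g)).flip)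
        hm₂s.symm (IsPullback.of_hasPullback g g).flip) ‹Flat f›
  have e : pullback.diagonal (f ≫ g) ≫ m₁ ≫ m₂ = f ≫ pullback.diagonal g := by
    apply pullback.hom_ext
    · simp only [Category.assoc, hm₂f, hm₁f, pullback.diagonal_fst, pullback.diagonal_fst_assoc,
        Category.comp_id]
    · simp only [Category.assoc, hm₂s, reassoc_of% hm₁s, pullback.diagonal_snd,
        pullback.diagonal_snd_assoc, Category.comp_id]
  have : Flat (f ≫ pullback.diagonal g) := by rw [← e]; infer_instance
  exact descend f _

end Groth.Agent.S1413
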