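import Groth.Statements.S14131
import Groth.Agent.S14129
import Groth.Agent.S14130
import Groth.Agent.L26.Pic0.QuasiSection
import Groth.Agent.L26.Pic0.Mumford
import Groth.Agent.L26.AbDual.Additive

set_option autoImplicit false
universe u
open CategoryTheory CategoryTheory.Limits MonoidalCategory CartesianMonoidalCategory MonObj GrpObj AlgebraicGeometry
open AbVar

namespace Groth.Agent.S14131

set_option maxHeartbeats 1600000
set_option synthInstance.maxHeartbeats 400000
set_option backward.isDefEq.respectTransparency false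
attribute [local instance] Groth.L08.Cube.clMonoid
open Groth.Agent.AbDualLib (oneCl)

/-- Let k be an algebraically closed field, A an abelian variety over k (a proper smooth k-group scheme
with geometrically connected fibres) of dimension g, (A^t, φ) a given dual abelian variety of A for
the fppf topology with A^t an abelian variety, L an invertible O_A-module with an inverse L', and Λ
a module on A ×_k A isomorphic to the Mumford module m^*L ⊗ pr_1^*L' ⊗ pr_2^*L', whose class is
assumed algebraically trivial on every geometric fibre of the second projection. Let φ_L = φ(Λ) : A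
→ A^t and assume L non-degenerate in the sense that φ_L is finite and flat, of constant rank d. Then
there is a natural number i ≤ g such that H^j(A, L) vanishes for all j ≠ i and the square of dim_k
H^i(A, L) equals d. (The published statement moreover writes the Fourier–Mukai transform of L as a
vector bundle on A^t placed in degree i; only the cohomological consequences are stated here.) -/
theorem result (k : Type u) [Field k] [IsAlgClosed k]
    (A At : Over (Spec (CommRingCat.of k))) [GrpObj A] [IsProper A.hom] [Smooth A.hom] [GeometricallyConnected A.hom]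
    [GrpObj At] [IsProper At.hom] [Smooth At.hom] [GeometricallyConnected At.hom]
    (φ : ∀ T : Over (Spec (CommRingCat.of k)), PicF.Cl (PicF.XT A.hom T) → (T ⟶ At))
    (hφ : AbDual.IsDualAV Scheme.fppfPrecoverage A At φ)
    (g : ℕ) (hg : topologicalKrullDim ↥A.left = g)
    (L : A.left.Modules) (hL : PicF.IsInvertible L) (L' : A.left.Modules) (hL' : Nonempty (CohB1.tensorMod L L' ≅ Coh.structureModule A.left))
    (Λ : (PicF.XT A.hom A).Modules)
    (hΛ : Nonempty (Λ ≅ CohB1.tensorMod (CohB1.tensorMod ((Scheme.Modules.pullback μ[A].left).obj L)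
      ((Scheme.Modules.pullback (fst A A).left).obj L')) ((Scheme.Modules.pullback (snd A A).left).obj L')))
    (hΛ0 : AbDual.IsPicZeroCl A.hom A (PicF.cl Λ))
    [IsFinite (φ A (PicF.cl Λ)).left] [Flat (φ A (PicF.cl Λ)).left]
    (d : ℕ) (hd : ∀ y : ↥At.left, Scheme.Hom.finrank (φ A (PicF.cl Λ)).left y = d) :
    ∃ i : ℕ, i ≤ g ∧ (∀ j : ℕ, j ≠ i → Subsingleton (Coh.HH A.left L j)) ∧
      @Module.finrank k (Coh.HH A.left L i) _ _ (@Coh.moduleOver k _ A.left ⟨A.hom⟩ L i) ^ 2 = d := by
  haveI : GeometricallyIntegral A.hom := Groth.Agent.L26.Mumford.geometricallyIntegral_av A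
  haveI : GeometricallyIntegral At.hom := Groth.Agent.L26.Mumford.geometricallyIntegral_av At
  obtain ⟨eL⟩ := hL'
  have hLL : PicF.cl L * PicF.cl L' = 1 := Groth.Agent.AbDualLib.cl_congr eL
  have hnd : Set.Finite {x : 𝟙_ (Over (Spec (CommRingCat.of k))) ⟶ A |
      Nonempty ((Scheme.Modules.pullback (𝟙 A * (toUnit A ≫ x)).left).obj L ≅ L)} := by
    refine (Groth.Agent.Pic0.finite_ker_of_isFinite (φ A (PicF.cl Λ))).subset fun x hx => ?_
    show x ≫ φ A (PicF.cl Λ) = 1
    rw [← hφ.relPic.natural _ _ x _ hΛ0]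
    have h : PicF.pullCl (PicF.XTmap A.hom x) (PicF.cl Λ) = oneCl _ := by
      have h1 : PicF.pullCl (𝟙 A * (toUnit A ≫ x)).left (PicF.cl L) = PicF.cl L :=
        (PicGrp.cl_eq_cl_iff _ _).2 hx
      rw [Groth.Agent.AbDualLib.cl_congr hΛ.some]
      show PicF.pullCl (PicF.XTmap A.hom x) (PicF.pullCl μ[A].left (PicF.cl L) *
        PicF.pullCl (fst A A).left (PicF.cl L') * PicF.pullCl (snd A A).left (PicF.cl L')) = _
      rw [Groth.Agent.AbDualLib.XTmap_eq_whiskerLeft, Groth.L08.Cube.pullCl_mul, Groth.L08.Cube.pullCl_mul]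
      erw [Groth.Agent.AbDualLib.pullCl_left_comp (A ◁ x) μ[A],
        Groth.Agent.AbDualLib.pullCl_left_comp (A ◁ x) (fst A A),
        Groth.Agent.AbDualLib.pullCl_left_comp (A ◁ x) (snd A A)]
      rw [whiskerLeft_fst, whiskerLeft_snd, Groth.Agent.KLLib.whiskerLeft_comp_mul,
        show fst A (𝟙_ (Over (Spec (CommRingCat.of k)))) * (snd A _ ≫ x) = fst A _ ≫ (𝟙 A * (toUnit A ≫ x)) by
          rw [MonObj.comp_mul, Category.comp_id, ← Category.assoc, toUnit_unique (fst A _ ≫ toUnit A) (snd A _)]]
      rw [show snd A (𝟙_ (Over (Spec (CommRingCat.of k)))) ≫ x = toUnit _ ≫ x from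
        congrArg (· ≫ x) (toUnit_unique _ _)]
      rw [show PicF.pullCl (fst A (𝟙_ (Over (Spec (CommRingCat.of k)))) ≫ (𝟙 A * (toUnit A ≫ x))).left (PicF.cl L) =
          PicF.pullCl (fst A (𝟙_ (Over (Spec (CommRingCat.of k))))).left (PicF.cl L) by
            rw [Over.comp_left, PicLoc.pullCl_comp, h1],
        ← Groth.L08.Cube.pullCl_mul, hLL, Groth.L08.Cube.pullCl_one, _root_.one_mul]
      refine Groth.Agent.Pic0.pc_const L' ?_ x
      obtain ⟨D', hD', ⟨i⟩⟩ := Groth.L08.Cube.exists_inverse hL
      refine Groth.L18.Ample.isInvertible_of_iso ?_ hD'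
      exact (Groth.L00.Tensor.tensorUnitLeft D').symm ≪≫ Groth.L00.Tensor.tensorIso eL.symm (Iso.refl D') ≪≫
        Groth.L00.Tensor.tensorIso (Groth.L00.Tensor.tensorComm L L') (Iso.refl D') ≪≫
        Groth.L00.Tensor.tensorAssoc L' L D' ≪≫ Groth.L00.Tensor.tensorIso (Iso.refl L') i ≪≫
        Groth.L00.Tensor.tensorUnitRight L'
    rw [h, Groth.Agent.AbDualLib.map_oneCl hφ]
  obtain ⟨i, hig, hvan, -⟩ := Groth.Agent.S14129.result k A g hg L hL hnd
  refine ⟨i, hig, hvan, ?_⟩
  letI : A.left.Over (Spec (CommRingCat.of k)) := ⟨A.hom⟩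
  have h := Groth.Agent.S14130.result k A At φ hφ L hL L' ⟨eL⟩ Λ hΛ hΛ0 d hd
  unfold Curv2.euler at h
  rw [finsum_eq_single _ i fun j hj => by
    haveI := hvan j hj
    rw [Module.finrank_zero_of_subsingleton, Nat.cast_zero, mul_zero], mul_pow, ← pow_mul, pow_mul',
    neg_one_sq, one_pow, _root_.one_mul] at h
  exact_mod_cast h

end Groth.Agent.S14131
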