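import Groth.Statements.S14135
import Groth.Agent.L10.FMBC.Translate

set_option autoImplicit false
set_option linter.style.haveILetI false
set_option linter.unusedVariables false
set_option backward.defeqAttrib.useBackward true
set_option backward.isDefEq.respectTransparency false
universe u
open CategoryTheory CategoryTheory.Limits MonoidalCategory CartesianMonoidalCategory MonObj GrpObj AlgebraicGeometry
attribute [local instance] HasDerivedCategory.standard
open AbVar

namespace Groth.Agent.S14135

/-- Let k be a field, A an abelian variety over k (a proper smooth k-group scheme with geometrically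
connected fibres), (A^t, φ) a given dual abelian variety of A for the fppf topology with A^t an
abelian variety, P an invertible module on A ×_k A^t whose class is a Poincaré class, and x a
k-rational point of A with translation t_x : A → A. Let N_{−x} be the restriction of P along A^t =
{−x} × A^t → A ×_k A^t, the line bundle on A^t attached to the point −x. Write Φ_P =
Rpr_{2,*}(Lpr_1^*(−) ⊗^L P) : D(O_A) → D(O_{A^t}); the derived functors involved are assumed to
exist. Then, restricted to objects of D(O_A) with quasi-coherent cohomology sheaves, the functor F ↦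
Φ_P(Lt_x^*F) is isomorphic to F ↦ Φ_P(F) ⊗^L N_{−x} (existence of an isomorphism of functors). -/
theorem result (k : Type u) [Field k]
    (A At : Over (Spec (CommRingCat.of k))) [GrpObj A] [IsProper A.hom] [Smooth A.hom] [GeometricallyConnected A.hom]
    [GrpObj At] [IsProper At.hom] [Smooth At.hom] [GeometricallyConnected At.hom]
    (φ : ∀ T : Over (Spec (CommRingCat.of k)), PicF.Cl (PicF.XT A.hom T) → (T ⟶ At))
    (hφ : AbDual.IsDualAV Scheme.fppfPrecoverage A At φ)
    (P : (pullback A.hom At.hom).Modules) (hP : PicF.IsInvertible P)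
    (hPξ : AbDual.IsPoincareCl A At φ (PicF.cl P))
    (x : 𝟙_ (Over (Spec (CommRingCat.of k))) ⟶ A)
    [DCoh.HasLpull (pullback.fst A.hom At.hom)] [DCoh.HasLTensorMod P] [DCoh.HasRpush (pullback.snd A.hom At.hom)]
    [DCoh.HasLpull (𝟙 A * (toUnit A ≫ x)).left]
    [DCoh.HasLTensorMod ((Scheme.Modules.pullback (CartesianMonoidalCategory.lift (toUnit At ≫ x⁻¹) (𝟙 At)).left).obj P)] :
    Nonempty (ObjectProperty.ι (DCoh.IsQCohD (X := A.left)) ⋙ DCoh.Lpull (𝟙 A * (toUnit A ≫ x)).left ⋙ (DCoh.Lpull (pullback.fst A.hom At.hom) ⋙ DCoh.LTensorMod P ⋙ DCoh.Rpush (pullback.snd A.hom At.hom)) ≅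
      ObjectProperty.ι (DCoh.IsQCohD (X := A.left)) ⋙ (DCoh.Lpull (pullback.fst A.hom At.hom) ⋙ DCoh.LTensorMod P ⋙ DCoh.Rpush (pullback.snd A.hom At.hom)) ⋙
        DCoh.LTensorMod ((Scheme.Modules.pullback (CartesianMonoidalCategory.lift (toUnit At ≫ x⁻¹) (𝟙 At)).left).obj P)) := by
  haveI := fun {A B : Scheme.{u}} (k : A ⟶ B) => Groth.L00.KFlat.hasLpull k
  haveI := fun {V : Scheme.{u}} (M : V.Modules) => Groth.L00.DerivedApi.hasLTensorMod M
  let p₂ : pullback A.hom At.hom ⟶ At.left := pullback.snd A.hom At.hom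
  let t := 𝟙 A * (toUnit A ≫ x)
  haveI : IsIso t := Groth.L10.FMBC.isIso_translation x
  haveI : IsIso t.left := inferInstanceAs (IsIso ((Over.forget _).map t))
  let u' : pullback A.hom At.hom ⟶ pullback A.hom At.hom := (lift (fst A At ≫ t) (snd A At)).left
  have hu₁ : u' ≫ pullback.fst A.hom At.hom = pullback.fst A.hom At.hom ≫ t.left :=
    congrArg CommaMorphism.left (lift_fst (fst A At ≫ t) (snd A At))
  have hu₂ : u' ≫ pullback.snd A.hom At.hom = pullback.snd A.hom At.hom :=
    congrArg CommaMorphism.left (lift_snd (fst A At ≫ t) (snd A At))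
  have hc : IsPullback u' p₂ p₂ (𝟙 At.left) := by
    refine IsPullback.of_right ?_ (hu₂.trans (Category.comp_id _).symm) (IsPullback.of_hasPullback A.hom At.hom)
    rw [hu₁, Category.id_comp]
    have h := (IsPullback.of_hasPullback A.hom At.hom).paste_horiz
      (IsPullback.of_horiz_isIso (fst := t.left) (snd := A.hom) (f := A.hom) (g := 𝟙 _) ⟨by simp [Over.w t]⟩)
    rwa [Category.comp_id] at h
  let N := (Scheme.Modules.pullback (lift (toUnit At ≫ x⁻¹) (𝟙 At)).left).obj P
  have hN : PicF.IsInvertible N := Groth.L18.Ample.isInvertible_pullback _ hP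
  let N' : (pullback A.hom At.hom).Modules := (Scheme.Modules.pullback p₂).obj N
  have hN' : PicF.IsInvertible N' := Groth.L18.Ample.isInvertible_pullback _ hN
  obtain ⟨i⟩ := Groth.L10.FMBC.nonempty_pull_kernelMod (π := t.left) (p₁ := pullback.fst A.hom At.hom)
    (q₁ := pullback.fst A.hom At.hom) (h := u') hu₁.symm hc (CohB1.tensorMod P N')
    (Groth.L18.GenLoc.isInvertible_tensor hP hN') P (Groth.L10.FMBC.nonempty_translate hφ P hPξ x)
  obtain ⟨τ, hτ⟩ := Groth.L10.FMBC.exists_projectionMod p₂ hN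
  obtain ⟨as⟩ := Groth.L10.FMBC.nonempty_assocMod (A := P) (B := N') hP hN'
  obtain ⟨e⟩ := Groth.L10.FMDiag.nonempty_Lpull_id (X := At.left)
  let U := ObjectProperty.ι (DCoh.IsQCohD (X := A.left)) ⋙ DCoh.Lpull (pullback.fst A.hom At.hom) ⋙ DCoh.LTensorMod P
  haveI : ∀ E, IsIso ((Functor.whiskerLeft U τ).app E) := fun E =>
    hτ _ (Groth.L10.FMBC.isQCohD_ltm hP (Groth.L29.DC.isQCohD_Lpull _ E.property))
  haveI := NatIso.isIso_of_isIso_app (Functor.whiskerLeft U τ)
  let V := ObjectProperty.ι (DCoh.IsQCohD (X := A.left)) ⋙ DCoh.Lpull (pullback.fst A.hom At.hom)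
  exact ⟨i ≪≫ Functor.isoWhiskerLeft (V ⋙ DCoh.LTensorMod (CohB1.tensorMod P N') ⋙ DCoh.Rpush p₂) e ≪≫
    Functor.rightUnitor _ ≪≫ Functor.isoWhiskerLeft V (Functor.isoWhiskerRight as.symm (DCoh.Rpush p₂)) ≪≫
    (asIso (Functor.whiskerLeft U τ)).symm⟩

end Groth.Agent.S14135
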