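import Groth.Statements.S14139
import Groth.Agent.L21.Bundle.Results

set_option autoImplicit false
set_option backward.isDefEq.respectTransparency false
universe u
open CategoryTheory CategoryTheory.Limits AlgebraicGeometry
open VBCurve

namespace Groth.Agent.S14139

/-- Let C be a smooth proper geometrically connected curve over a field k (proper, smooth and
geometrically connected over k, of dimension one), and 0 → E₁ → E → E₂ → 0 a short exact sequence of
finite locally free O_C-modules of ranks r₁, r, r₂ ≥ 1 whose slopes are all equal: deg E₁ · r = deg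
E · r₁ and deg E₂ · r = deg E · r₂, the degree of a rank-n locally free module being χ − n·χ(O_C).
Then E is semistable (deg G · r ≤ deg E · r' for every finite locally free submodule G of E of rank
r' ≥ 1) if and only if both E₁ and E₂ are semistable in the same sense. -/
theorem result (k : Type u) [Field k] (X : Scheme.{u}) [X.Over (Spec (CommRingCat.of k))]
    [IsProper (X ↘ Spec (CommRingCat.of k))] [Smooth (X ↘ Spec (CommRingCat.of k))]
    [GeometricallyConnected (X ↘ Spec (CommRingCat.of k))] (hdim : topologicalKrullDim ↥X = 1)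
    (T : ShortComplex X.Modules) (hT : T.ShortExact)
    (r₁ r r₂ : ℕ) (hr₁ : 0 < r₁) (hr : 0 < r) (hr₂ : 0 < r₂)
    (hE₁ : FlatMod.IsFinLocFreeOfRank r₁ T.X₁) (hE : FlatMod.IsFinLocFreeOfRank r T.X₂) (hE₂ : FlatMod.IsFinLocFreeOfRank r₂ T.X₃)
    (hμ₁ : Curv2.deg k X T.X₁ r₁ * (r : ℤ) = Curv2.deg k X T.X₂ r * (r₁ : ℤ))
    (hμ₂ : Curv2.deg k X T.X₃ r₂ * (r : ℤ) = Curv2.deg k X T.X₂ r * (r₂ : ℤ)) :
    (∀ (G : X.Modules) (r' : ℕ) (i : G ⟶ T.X₂), Mono i → 0 < r' → FlatMod.IsFinLocFreeOfRank r' G →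
      Curv2.deg k X G r' * (r : ℤ) ≤ Curv2.deg k X T.X₂ r * (r' : ℤ)) ↔
      ((∀ (G : X.Modules) (r' : ℕ) (i : G ⟶ T.X₁), Mono i → 0 < r' → FlatMod.IsFinLocFreeOfRank r' G →
      Curv2.deg k X G r' * (r₁ : ℤ) ≤ Curv2.deg k X T.X₁ r₁ * (r' : ℤ)) ∧
       (∀ (G : X.Modules) (r' : ℕ) (i : G ⟶ T.X₃), Mono i → 0 < r' → FlatMod.IsFinLocFreeOfRank r' G →
      Curv2.deg k X G r' * (r₂ : ℤ) ≤ Curv2.deg k X T.X₃ r₂ * (r' : ℤ))) := by
  haveI : ConnectedSpace X := GeometricallyConnected.connectedSpace_of_subsingleton (X ↘ Spec (CommRingCat.of k))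
  haveI := Groth.L21.RR.isNoetherian_of_proper (X := X) k
  haveI : IsIntegral X := Groth.L21.NormalTotal.isIntegral_of_connected fun x =>
    Groth.L21.Smooth.isDomain_stalk (X ↘ Spec (CommRingCat.of k)) x
  haveI : IsLocallyNoetherian X := LocallyOfFiniteType.isLocallyNoetherian (X ↘ Spec (CommRingCat.of k))
  have hreg : ∀ x : X, IsRegularLocalRing (X.presheaf.stalk x) := (fun x => Groth.L21.Smooth.regular_stalk (X ↘ Spec (CommRingCat.of k)) x)
  have h := Groth.L21.Bundle.bd_extension_iff k hreg hdim.le hT hr₁ hr₂ hr hE₁ hE hE₂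
    (by rw [← Groth.L21.Bundle.dg_eq k hE₁, ← Groth.L21.Bundle.dg_eq k hE]; exact hμ₁)
    (by rw [← Groth.L21.Bundle.dg_eq k hE₂, ← Groth.L21.Bundle.dg_eq k hE]; exact hμ₂)
  exact ⟨fun hs => ⟨Groth.L21.Bundle.ss_of_bd k hE₁ (h.1 (Groth.L21.Bundle.bd_of_ss k hreg hdim.le hE hs)).1,
      Groth.L21.Bundle.ss_of_bd k hE₂ (h.1 (Groth.L21.Bundle.bd_of_ss k hreg hdim.le hE hs)).2⟩,
    fun ⟨h₁, h₂⟩ => Groth.L21.Bundle.ss_of_bd k hE (h.2 ⟨Groth.L21.Bundle.bd_of_ss k hreg hdim.le hE₁ h₁, Groth.L21.Bundle.bd_of_ss k hreg hdim.le hE₂ h₂⟩)⟩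

end Groth.Agent.S14139
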