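import Groth.Statements.S14140
import Groth.Agent.L26.Pic0.Mumford
import Groth.Agent.L08.Cube.RelCubical
import Groth.Agent.L26.AbSch.Bilinear

set_option autoImplicit false
universe u
open CategoryTheory CategoryTheory.Limits MonoidalCategory CartesianMonoidalCategory MonObj GrpObj AlgebraicGeometry
open AbVar

namespace Groth.Agent.S14140

attribute [local instance] Groth.L08.Cube.clMonoid

/-- Let k be an algebraically closed field, A an abelian variety over k (a proper smooth k-group scheme
with geometrically connected fibres), L an ample invertible O_A-module with an inverse L' (L ⊗ L' ≅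
O_A), and M an invertible O_A-module in Pic⁰(A), meaning that t_x^*M ≅ M for every k-rational point
x of A, where t_x : A → A is the translation by x (the product of the identity and the constant map
x in the group Hom(A, A)). Then there is a k-rational point x of A with M ≅ t_x^*L ⊗ L'. -/
theorem result (k : Type u) [Field k] [IsAlgClosed k]
    (A : Over (Spec (CommRingCat.of k))) [GrpObj A] [IsProper A.hom] [Smooth A.hom] [GeometricallyConnected A.hom]
    (L L' : A.left.Modules) (hLa : CohB1.IsAmple L) (hLL' : Nonempty (CohB1.tensorMod L L' ≅ Coh.structureModule A.left))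
    (M : A.left.Modules) (hM : PicF.IsInvertible M)
    (hM0 : ∀ x : 𝟙_ (Over (Spec (CommRingCat.of k))) ⟶ A, Nonempty ((Scheme.Modules.pullback (𝟙 A * (toUnit A ≫ x)).left).obj M ≅ M)) :
    ∃ x : 𝟙_ (Over (Spec (CommRingCat.of k))) ⟶ A,
      Nonempty (M ≅ CohB1.tensorMod ((Scheme.Modules.pullback (𝟙 A * (toUnit A ≫ x)).left).obj L) L') := by
  haveI : GeometricallyReduced A.hom := Groth.Agent.AV.geometricallyReduced_of_smooth A.hom
  haveI : GeometricallyIntegral A.hom := Groth.L08.Cube.geometricallyIntegral_of_group A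
  obtain ⟨e⟩ := hLL'
  have h1 : PicF.cl L * PicF.cl L' = 1 := Groth.Agent.AbDualLib.cl_congr e
  obtain ⟨b, ⟨N, rfl, hN⟩, hLN⟩ := Groth.L08.Cube.exists_inverseCl (⟨L, rfl, hLa.1⟩ : PicF.IsInvertibleCl (PicF.cl L))
  have hL'N : PicF.cl L' = PicF.cl N := calc
    PicF.cl L' = PicF.cl L' * (PicF.cl L * PicF.cl N) := by rw [hLN, _root_.mul_one]
    _ = (PicF.cl L * PicF.cl L') * PicF.cl N := by ac_rfl
    _ = _ := by rw [h1, _root_.one_mul]
  obtain ⟨a, ha⟩ := Groth.Agent.Pic0.exists_translate_of_isAmple L N M hLa hN hLN hM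
    fun x => (PicGrp.cl_eq_cl_iff _ _).2 (hM0 x)
  exact ⟨a, (PicGrp.cl_eq_cl_iff _ _).1 (ha.trans (congrArg (_ * ·) hL'N.symm))⟩

end Groth.Agent.S14140
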