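import Groth.Statements.S14142
import Groth.Agent.L26.AV.PRank
import Groth.Agent.L26.AV.Hom
import Groth.Agent.L26.AV.SmoothField

set_option autoImplicit false
universe u
open CategoryTheory CategoryTheory.Limits MonoidalCategory CartesianMonoidalCategory MonObj GrpObj AlgebraicGeometry
open AbVar

namespace Groth.Agent.S14142

open CategoryTheory CategoryTheory.Limits MonoidalCategory CartesianMonoidalCategory MonObj AlgebraicGeometry

/-- Let k be an algebraically closed field of characteristic p > 0 and A an abelian variety over k (a
proper smooth k-group scheme with geometrically connected fibres) of dimension g. Then there is an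
integer i with 0 ≤ i ≤ g, the p-rank of A, such that for every m ≥ 0 the group A[p^m](k) of
k-rational points of A killed by p^m is isomorphic to (ℤ/p^m)^i (existence of a group isomorphism;
the group of k-points is written multiplicatively). (The published statement of this part assumes
only that k has characteristic p and does not assume k algebraically closed; it is false without
that assumption — for an elliptic curve over the prime field with exactly p rational points the
rational p-torsion is cyclic of order p while the rational p²-torsion has only p elements — and this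
row assumes k algebraically closed, which the printed proof's divisibility argument requires.) -/
theorem result (k : Type u) [Field k] [IsAlgClosed k] (p : ℕ) [Fact p.Prime] [CharP k p]
    (A : Over (Spec (CommRingCat.of k))) [GrpObj A] [IsProper A.hom] [Smooth A.hom] [GeometricallyConnected A.hom] [IsCommMonObj A]
    (g : ℕ) (hg : topologicalKrullDim ↥A.left = g) :
    ∃ i : ℕ, i ≤ g ∧ ∀ m : ℕ,
      Nonempty (AbDual.torsPts A (p ^ m) (𝟙_ (Over (Spec (CommRingCat.of k)))) ≃* Multiplicative (Fin i → ZMod (p ^ m))) := by
  haveI : ConnectedSpace A.left := GeometricallyConnected.connectedSpace A.hom A.hom.isOpenMap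
  haveI : GeometricallyReduced A.hom := Groth.Agent.AV.geometricallyReduced_of_smooth A.hom
  haveI : GeometricallyIntegral A.hom := Groth.Agent.AV.geometricallyIntegral_of_connected A
  have hp1 : 1 ≤ p := (Fact.out : p.Prime).one_le
  haveI := Groth.Agent.AV.TorsPts.finite_torsPts (A := A) hp1
  have hdiv : ∀ Q : Groth.Agent.AV.TorsPts.ptk k ⟶ A, ∃ P, P ^ p = Q :=
    fun Q => Groth.Agent.AV.TorsPts.exists_pow_eq hp1 Q
  refine ⟨Module.finrank ℤ_[p] (AbDual.TateMod A p (Groth.Agent.AV.TorsPts.ptk k)), ?_, fun m => ?_⟩
  · have h1 := Groth.Agent.AV.TorsStructure.model_primePow hdiv 1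
    haveI : NeZero (p ^ 1) := ⟨pow_ne_zero _ (Fact.out : p.Prime).ne_zero⟩
    have h2 := Groth.Agent.AV.TorsStructure.card_eq_of_model h1
    rw [pow_one] at h2
    have h3 := Groth.Agent.AV.PRank.card_torsPts_char_le (A := A) p hg
    rw [h2] at h3
    exact (Nat.pow_le_pow_iff_right (Fact.out : p.Prime).one_lt).1 h3
  · obtain ⟨e⟩ := Groth.Agent.AV.TorsStructure.model_primePow hdiv m
    exact ⟨AddEquiv.toMultiplicativeRight e.symm⟩

end Groth.Agent.S14142
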