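import Groth.Statements.S14145
import Groth.Agent.L26.Mumford.IndexPow

set_option autoImplicit false
universe u
open CategoryTheory CategoryTheory.Limits MonoidalCategory CartesianMonoidalCategory MonObj GrpObj AlgebraicGeometry
open AbVar

namespace Groth.Agent.S14145

/-- Let k be an algebraically closed field, A an abelian variety over k (a proper smooth k-group scheme
with geometrically connected fibres) and L an invertible O_A-module which is non-degenerate: only
finitely many k-rational points x satisfy t_x^*L ≅ L. Then for every m ≥ 1 the index of L^{⊗m²}
equals that of L: for each j, H^j(A, L) vanishes if and only if H^j(A, L^{⊗m²}) vanishes. (The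
published statement is for every power L^n, n > 0; the printed proof treats n a perfect square, the
case stated here.) -/
theorem result (k : Type u) [Field k] [IsAlgClosed k]
    (A : Over (Spec (CommRingCat.of k))) [GrpObj A] [IsProper A.hom] [Smooth A.hom] [GeometricallyConnected A.hom]
    (L : A.left.Modules) (hL : PicF.IsInvertible L) (hnd : (Set.Finite {x : 𝟙_ (Over (Spec (CommRingCat.of k))) ⟶ A |
      Nonempty ((Scheme.Modules.pullback (𝟙 A * (toUnit A ≫ x)).left).obj L ≅ L)}))
    (m : ℕ) (hm : 0 < m) (j : ℕ) :
    Subsingleton (Coh.HH A.left L j) ↔ Subsingleton (Coh.HH A.left (CohB1.tensorPow L (m ^ 2)) j) := by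
  haveI : GeometricallyIntegral A.hom := Groth.Agent.L26.Mumford.geometricallyIntegral_av A
  haveI : IsCommMonObj A := isCommMonObj_of_isProper_of_geometricallyIntegral A
  exact Groth.Agent.L26.Mumford.index_pow_sq L hL hnd m hm j

end Groth.Agent.S14145
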