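import Groth.Statements.S14146
import Groth.Agent.L10.FMBC.Mumford
import Groth.Agent.L08.Cube.Inverse

set_option autoImplicit false
set_option linter.style.haveILetI false
set_option linter.unusedVariables false
set_option backward.defeqAttrib.useBackward true
set_option backward.isDefEq.respectTransparency false
universe u
open CategoryTheory CategoryTheory.Limits MonoidalCategory CartesianMonoidalCategory MonObj GrpObj AlgebraicGeometry
attribute [local instance] HasDerivedCategory.standard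
open AbVar

namespace Groth.Agent.S14146

/-- Let k be an algebraically closed field, A an abelian variety over k (a proper smooth k-group scheme
with geometrically connected fibres) with structure map a : A → Spec k, (A^t, φ) a given dual
abelian variety for the fppf topology with A^t an abelian variety, P an invertible module on A ×_k
A^t whose class is a Poincaré class, L an invertible O_A-module with an inverse L', and Λ a module
on A ×_k A isomorphic to the Mumford module m^*L ⊗ pr_1^*L' ⊗ pr_2^*L', whose class is assumed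
algebraically trivial on every geometric fibre of the second projection. Let φ_L = φ(Λ) : A → A^t
and assume L non-degenerate in the sense that φ_L is finite and flat. Write Φ_P =
Rpr_{2,*}(Lpr_1^*(−) ⊗^L P); the derived functors involved are assumed to exist. Then Lφ_L^*(Φ_P(L))
is isomorphic in D(O_A) to La^*(Ra_*L) ⊗^L L', that is, to RΓ(A, L) ⊗_k L^{-1} (existence of an
isomorphism). -/
theorem result (k : Type u) [Field k] [IsAlgClosed k]
    (A At : Over (Spec (CommRingCat.of k))) [GrpObj A] [IsProper A.hom] [Smooth A.hom] [GeometricallyConnected A.hom]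
    [GrpObj At] [IsProper At.hom] [Smooth At.hom] [GeometricallyConnected At.hom]
    (φ : ∀ T : Over (Spec (CommRingCat.of k)), PicF.Cl (PicF.XT A.hom T) → (T ⟶ At))
    (hφ : AbDual.IsDualAV Scheme.fppfPrecoverage A At φ)
    (P : (pullback A.hom At.hom).Modules) (hP : PicF.IsInvertible P)
    (hPξ : AbDual.IsPoincareCl A At φ (PicF.cl P))
    (L : A.left.Modules) (hL : PicF.IsInvertible L) (L' : A.left.Modules) (hL' : Nonempty (CohB1.tensorMod L L' ≅ Coh.structureModule A.left))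
    (Λ : (PicF.XT A.hom A).Modules)
    (hΛ : Nonempty (Λ ≅ CohB1.tensorMod (CohB1.tensorMod ((Scheme.Modules.pullback μ[A].left).obj L)
      ((Scheme.Modules.pullback (fst A A).left).obj L')) ((Scheme.Modules.pullback (snd A A).left).obj L')))
    (hΛ0 : AbDual.IsPicZeroCl A.hom A (PicF.cl Λ))
    [IsFinite (φ A (PicF.cl Λ)).left] [Flat (φ A (PicF.cl Λ)).left]
    [DCoh.HasLpull (pullback.fst A.hom At.hom)] [DCoh.HasLTensorMod P] [DCoh.HasRpush (pullback.snd A.hom At.hom)]
    [DCoh.HasLpull (φ A (PicF.cl Λ)).left] [DCoh.HasRpush A.hom] [DCoh.HasLpull A.hom] [DCoh.HasLTensorMod L'] :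
    Nonempty ((DCoh.Lpull (φ A (PicF.cl Λ)).left).obj ((DCoh.Lpull (pullback.fst A.hom At.hom) ⋙ DCoh.LTensorMod P ⋙ DCoh.Rpush (pullback.snd A.hom At.hom)).obj (DCoh.inD A.left L)) ≅
      (DCoh.LTensorMod L').obj ((DCoh.Lpull A.hom).obj ((DCoh.Rpush A.hom).obj (DCoh.inD A.left L)))) := by
  haveI := fun {A B : Scheme.{u}} (k : A ⟶ B) => Groth.L00.KFlat.hasLpull k
  haveI := fun {V : Scheme.{u}} (M : V.Modules) => Groth.L00.DerivedApi.hasLTensorMod M
  haveI := fun {A B : Scheme.{u}} (k : A ⟶ B) => Groth.L29.DC.RpushQC.hasRpush k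
  haveI := fun {V : Scheme.{u}} (E : CochainComplex V.Modules ℤ) => Groth.L00.KFlat.hasLTensorCx E
  have hL'inv : PicF.IsInvertible L' := by
    obtain ⟨D', hD', ⟨i⟩⟩ := Groth.L08.Cube.exists_inverse hL
    refine Groth.L18.Ample.isInvertible_of_iso ?_ hD'
    exact (Groth.L00.Tensor.tensorUnitLeft D').symm ≪≫ Groth.L00.Tensor.tensorIso hL'.some.symm (Iso.refl D') ≪≫
      Groth.L00.Tensor.tensorIso (Groth.L00.Tensor.tensorComm L L') (Iso.refl D') ≪≫
      Groth.L00.Tensor.tensorAssoc L' L D' ≪≫ Groth.L00.Tensor.tensorIso (Iso.refl L') i ≪≫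
      Groth.L00.Tensor.tensorUnitRight L'
  let lamL := φ A (PicF.cl Λ)
  let h : pullback A.hom A.hom ⟶ pullback A.hom At.hom := (A ◁ lamL).left
  let q₁ : pullback A.hom A.hom ⟶ A.left := pullback.fst A.hom A.hom
  let q₂ : pullback A.hom A.hom ⟶ A.left := pullback.snd A.hom A.hom
  let m : pullback A.hom A.hom ⟶ A.left := μ[A].left
  have hh₁ : h ≫ pullback.fst A.hom At.hom = q₁ := congrArg CommaMorphism.left (whiskerLeft_fst A lamL)
  have hh₂ : h ≫ pullback.snd A.hom At.hom = q₂ ≫ lamL.left := congrArg CommaMorphism.left (whiskerLeft_snd A lamL)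
  have hc : IsPullback h q₂ (pullback.snd A.hom At.hom) lamL.left := by
    refine IsPullback.of_right ?_ hh₂ (IsPullback.of_hasPullback A.hom At.hom)
    rw [hh₁, Over.w lamL]
    exact IsPullback.of_hasPullback A.hom A.hom
  have hsh : IsPullback m q₂ A.hom A.hom := Groth.L10.FMBC.isPullback_mul
  let Λ' : (pullback A.hom A.hom).Modules := Λ
  have hΛinv : PicF.IsInvertible Λ' :=
    Groth.Agent.AbDualLib.isInvertible_of_isInvertibleCl (Groth.Agent.AbDualLib.isInvertibleCl_of_isPicZeroCl hΛ0)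
  obtain ⟨i⟩ := Groth.L10.FMBC.nonempty_pull_kernelMod (π := 𝟙 A.left) (p₁ := pullback.fst A.hom At.hom)
    (q₁ := q₁) (h := h) ((Category.comp_id _).trans hh₁.symm) hc P hP Λ'
    (Groth.L10.FMBC.nonempty_mumford hφ P hPξ hL'inv hL' hΛ hΛ0)
  have hq : DCoh.IsQCohD (DCoh.inD A.left L) := Groth.Lead.LTMod.isQCohD_inD_of
    (Groth.L29.DC.PCQCoh.isQCoh_of_isFinLocFree (Groth.L10.FMBC.isFinLocFree_of_invertible hL))
  obtain ⟨e⟩ := Groth.L10.FMDiag.nonempty_Lpull_id (X := A.left)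
  let sQ := (DerivedCategory.singleFunctorIsoCompQ A.left.Modules 0).app L
  let M₁ := (Scheme.Modules.pullback q₁).obj L
  let Mm := (Scheme.Modules.pullback m).obj L
  let N := (Scheme.Modules.pullback q₂).obj L'
  obtain ⟨e₁⟩ := Groth.L10.FMBC.nonempty_S0_pull q₁ hL (Iso.refl M₁)
  obtain ⟨e₂⟩ := Groth.L10.FMBC.nonempty_S0_pull m hL (Iso.refl Mm)
  obtain ⟨s₁⟩ := Groth.L10.FMBC.nonempty_singleTensor M₁ Λ'
  obtain ⟨s₂⟩ := Groth.L10.FMBC.nonempty_singleTensor Mm N
  have habs : Nonempty (CohB1.tensorMod M₁ Λ' ≅ CohB1.tensorMod Mm N) :=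
    Groth.L10.FMBC.nonempty_mumford_absorb hL' hΛ
  have hN : PicF.IsInvertible N := Groth.L18.Ample.isInvertible_pullback _ hL'inv
  obtain ⟨τ, hτ⟩ := Groth.L10.FMBC.exists_projectionMod q₂ hL'inv
  let Z := (DCoh.Lpull m).obj (DCoh.inD A.left L)
  have hZ : DCoh.IsQCohD Z := Groth.L29.DC.isQCohD_Lpull m hq
  haveI := hτ Z hZ
  haveI : IsIso (Groth.L29.BC.β hsh.w (DCoh.inD A.left L)) :=
    Groth.L10.FMBC.bc_of_flat_or hsh (Or.inl inferInstance) _ hq
  let K₁ := Groth.Lead.LTMod.S0 Λ'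
  let K₂ := Groth.Lead.LTMod.S0 N
  let mid : (DCoh.LTensorMod Λ').obj ((DCoh.Lpull q₁).obj (DCoh.inD A.left L)) ≅ (DCoh.LTensorMod N).obj Z :=
    (Groth.Lead.LTMod.iso Λ').app _ ≪≫ (DCoh.LTensorCx K₁).mapIso ((DCoh.Lpull q₁).mapIso sQ ≪≫ e₁.symm) ≪≫
      (Groth.L29.DC.Assoc.allIso K₁ (Groth.L10.FMBC.isKFlat_S0 hΛinv)).app _ ≪≫
      DerivedCategory.Q.mapIso (s₁ ≪≫
        (HomologicalComplex.single (pullback A.hom A.hom).Modules (ComplexShape.up ℤ) 0).mapIso habs.some ≪≫ s₂.symm) ≪≫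
      ((Groth.L29.DC.Assoc.allIso K₂ (Groth.L10.FMBC.isKFlat_S0 hN)).app _).symm ≪≫
      (DCoh.LTensorCx K₂).mapIso (e₂ ≪≫ (DCoh.Lpull m).mapIso sQ.symm) ≪≫ ((Groth.Lead.LTMod.iso N).app Z).symm
  exact ⟨(i.app ⟨DCoh.inD A.left L, hq⟩).symm ≪≫
    (DCoh.Rpush q₂).mapIso ((DCoh.LTensorMod Λ').mapIso ((DCoh.Lpull q₁).mapIso (e.app _)) ≪≫ mid) ≪≫
    (asIso (τ.app Z)).symm ≪≫
    (DCoh.LTensorMod L').mapIso (asIso (Groth.L29.BC.β hsh.w (DCoh.inD A.left L))).symm⟩

end Groth.Agent.S14146
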