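import Groth.Statements.S14147
import Groth.Agent.L10.FMBC.Point

set_option autoImplicit false
set_option linter.unusedVariables false
set_option linter.style.haveILetI false
set_option backward.defeqAttrib.useBackward true
set_option backward.isDefEq.respectTransparency false
universe u
open CategoryTheory CategoryTheory.Limits MonoidalCategory CartesianMonoidalCategory MonObj GrpObj AlgebraicGeometry
attribute [local instance] HasDerivedCategory.standard
open AbVar

namespace Groth.Agent.S14147

/-- Let k be a field, A an abelian variety over k (a proper smooth k-group scheme with geometrically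
connected fibres) with structure map a : A → Spec k, (A^t, φ) a given dual abelian variety for the
fppf topology with A^t an abelian variety, P an invertible module on A ×_k A^t whose class is a
Poincaré class, x : Spec k → A^t a k-rational point and M_x the restriction of P along A = A × {x} →
A ×_k A^t. Write Φ_P = Rpr_{2,*}(Lpr_1^*(−) ⊗^L P); the derived functors involved are assumed to
exist. Then, restricted to objects of D(O_A) with quasi-coherent cohomology sheaves, the functor F ↦
Ra_*(F ⊗^L M_x) (global sections RΓ(A, F ⊗ M_x) as an object over Spec k) is isomorphic to F ↦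
Lx^*(Φ_P(F)) (existence of an isomorphism of functors). -/
theorem result (k : Type u) [Field k]
    (A At : Over (Spec (CommRingCat.of k))) [GrpObj A] [IsProper A.hom] [Smooth A.hom] [GeometricallyConnected A.hom]
    [GrpObj At] [IsProper At.hom] [Smooth At.hom] [GeometricallyConnected At.hom]
    (φ : ∀ T : Over (Spec (CommRingCat.of k)), PicF.Cl (PicF.XT A.hom T) → (T ⟶ At))
    (hφ : AbDual.IsDualAV Scheme.fppfPrecoverage A At φ)
    (P : (pullback A.hom At.hom).Modules) (hP : PicF.IsInvertible P)
    (hPξ : AbDual.IsPoincareCl A At φ (PicF.cl P))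
    (x : 𝟙_ (Over (Spec (CommRingCat.of k))) ⟶ At)
    [DCoh.HasLpull (pullback.fst A.hom At.hom)] [DCoh.HasLTensorMod P] [DCoh.HasRpush (pullback.snd A.hom At.hom)]
    [DCoh.HasLTensorMod ((Scheme.Modules.pullback (CartesianMonoidalCategory.lift (𝟙 A) (toUnit A ≫ x)).left).obj P)]
    [DCoh.HasRpush A.hom] [DCoh.HasLpull x.left] :
    Nonempty (ObjectProperty.ι (DCoh.IsQCohD (X := A.left)) ⋙
        DCoh.LTensorMod ((Scheme.Modules.pullback (CartesianMonoidalCategory.lift (𝟙 A) (toUnit A ≫ x)).left).obj P) ⋙ DCoh.Rpush A.hom ≅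
      ObjectProperty.ι (DCoh.IsQCohD (X := A.left)) ⋙ (DCoh.Lpull (pullback.fst A.hom At.hom) ⋙ DCoh.LTensorMod P ⋙ DCoh.Rpush (pullback.snd A.hom At.hom)) ⋙ DCoh.Lpull x.left) := by
  let j : A.left ⟶ pullback A.hom At.hom := (CartesianMonoidalCategory.lift (𝟙 A) (toUnit A ≫ x)).left
  have hj : j ≫ pullback.fst A.hom At.hom = 𝟙 A.left :=
    congrArg CommaMorphism.left (CartesianMonoidalCategory.lift_fst (𝟙 A) (toUnit A ≫ x))
  have h₂ : j ≫ pullback.snd A.hom At.hom = A.hom ≫ x.left :=
    congrArg CommaMorphism.left (CartesianMonoidalCategory.lift_snd (𝟙 A) (toUnit A ≫ x))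
  have hx : x.left ≫ At.hom = 𝟙 _ := Over.w x
  have hc : IsPullback j A.hom (pullback.snd A.hom At.hom) x.left := by
    refine IsPullback.of_right ?_ h₂ (IsPullback.of_hasPullback A.hom At.hom)
    rw [hj, hx]
    haveI : IsIso (𝟙 (𝟙_ (Over (Spec (CommRingCat.of k)))).left) := IsIso.id _
    exact @IsPullback.of_horiz_isIso _ _ _ _ _ _ _ _ _ _ inferInstance (IsIso.id _) ⟨by simp⟩
  exact Groth.L10.FMBC.nonempty_point (p₁ := pullback.fst A.hom At.hom) (p₂ := pullback.snd A.hom At.hom) (j := j) hj hc P hP

end Groth.Agent.S14147
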