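import Groth.Statements.S14148
import Groth.Agent.L26.Pic0.TwistInv
import Groth.Agent.L26.Pic0.InvisibleCurve
import Groth.Agent.L26.Poincare.Pairing
import Groth.Agent.L26.AbDual.LamSurj
import Groth.Agent.L26.AV.Degree
import Groth.Agent.L19.SupportPullback
import Groth.Agent.L16.AffineBC.Pullback
import Groth.Agent.L16.CohSupport
import Groth.Agent.L08.Albanese.ChowImage
import Groth.Agent.L08.Cube.MulSurj

set_option autoImplicit false
universe u
open CategoryTheory CategoryTheory.Limits MonoidalCategory CartesianMonoidalCategory MonObj GrpObj AlgebraicGeometry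
attribute [local instance] HasDerivedCategory.standard
open AbVar

namespace Groth.Agent.S14148

open Groth.Agent.AV Groth.Agent.AbDualLib Groth.L08.Cube Groth.Agent.Pic0 Groth.Agent.Poincare
attribute [local instance] Groth.L08.Cube.clMonoid InterPic.picLaw

/-- Let k be an algebraically closed field, A an abelian variety over k (a proper smooth k-group scheme
with geometrically connected fibres), (A^t, φ) a given dual abelian variety for the fppf topology
with A^t an abelian variety, P an invertible module on A ×_k A^t whose class is a Poincaré class,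
and for a k-rational point x of A^t let M_x denote the restriction of P along A = A × {x} → A ×_k
A^t (these are the degree-zero line bundles on A). Let G be an object of D(O_A) which is bounded
with coherent cohomology sheaves and invariant under tensoring with degree-zero line bundles: G ⊗^L
M_x ≅ G for every x (the derived tensor functors are assumed to exist). Then every cohomology sheaf
H^i(G) has finite support. -/
theorem result (k : Type u) [Field k] [IsAlgClosed k]
    (A At : Over (Spec (CommRingCat.of k))) [GrpObj A] [IsProper A.hom] [Smooth A.hom] [GeometricallyConnected A.hom]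
    [GrpObj At] [IsProper At.hom] [Smooth At.hom] [GeometricallyConnected At.hom]
    (φ : ∀ T : Over (Spec (CommRingCat.of k)), PicF.Cl (PicF.XT A.hom T) → (T ⟶ At))
    (hφ : AbDual.IsDualAV Scheme.fppfPrecoverage A At φ)
    (P : (pullback A.hom At.hom).Modules) (hP : PicF.IsInvertible P)
    (hPξ : AbDual.IsPoincareCl A At φ (PicF.cl P))
    [∀ x : 𝟙_ (Over (Spec (CommRingCat.of k))) ⟶ At,
      DCoh.HasLTensorMod ((Scheme.Modules.pullback (CartesianMonoidalCategory.lift (𝟙 A) (toUnit A ≫ x)).left).obj P)]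
    (G : DCoh.D A.left) (hG : DCoh.IsCohD G) (m n : ℤ) (hGm : DerivedCategory.IsGE G m) (hGn : DerivedCategory.IsLE G n)
    (hinv : ∀ x : 𝟙_ (Over (Spec (CommRingCat.of k))) ⟶ At,
      Nonempty ((DCoh.LTensorMod ((Scheme.Modules.pullback (CartesianMonoidalCategory.lift (𝟙 A) (toUnit A ≫ x)).left).obj P)).obj G ≅ G))
    (i : ℤ) : (CohB1.support (DCoh.HD G i)).Finite := by
  classical
  haveI : ConnectedSpace A.left := GeometricallyConnected.connectedSpace_of_subsingleton A.hom
  haveI : ConnectedSpace At.left := GeometricallyConnected.connectedSpace_of_subsingleton At.hom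
  haveI : GeometricallyIntegral A.hom := Groth.L08.Albanese.geometricallyIntegral_of_smooth A
  haveI : GeometricallyIntegral At.hom := Groth.L08.Albanese.geometricallyIntegral_of_smooth At
  haveI : IsCommMonObj A := isCommMonObj_of_isProper_of_geometricallyIntegral A
  haveI : IsCommMonObj At := isCommMonObj_of_isProper_of_geometricallyIntegral At
  by_contra hcon
  have hH : Coh.IsCoh (DCoh.HD G i) := hG i
  obtain ⟨X, _, _, _, hX1, ν, c, c', hne, hν⟩ :=
    Groth.Agent.L26.InvisibleCurve.exists_curve (Groth.L16.CohSupport.isClosed_support _ hH.2) hcon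
  haveI : AlgebraicGeometry.IsIntegral X.left := GeometricallyIntegral.isIntegral_of_subsingleton X.hom
  haveI : IsLocallyNoetherian X.left := LocallyOfFiniteType.isLocallyNoetherian X.hom
  have hreg := Groth.L26.Weil.regular_stalk X.hom
  let C := (Scheme.Modules.pullback ν.left).obj (DCoh.HD G i)
  have hC : Coh.IsCoh C := Groth.L16.AffineBC.isCoh_pullback ν.left hH
  haveI : Coh.IsQCoh (DCoh.HD G i) := hH.1
  have hr : 0 < Groth.L21.Bundle.rk C := Groth.Agent.L26.TwistInv.rk_pos_of_mem_support hC (by
    rw [Groth.L19.SupportPullback.support_pullback ν.left _ hH.2]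
    exact hν _)
  let Ξ : (b : 𝟙_ (Over (Spec (CommRingCat.of k))) ⟶ At) → Additive (PicLoc.PicSet X.left) := fun b =>
    Pairing.xi hPξ ν (toUnit X ≫ b)
  have hker : ∀ b : 𝟙_ (Over (Spec (CommRingCat.of k))) ⟶ At, Groth.L21.Bundle.rk C • Ξ b = 0 := by
    intro b
    let M := (Scheme.Modules.pullback (lift (𝟙 A) (toUnit A ≫ b)).left).obj P
    have hM : PicF.IsInvertible M := Groth.L18.Ample.isInvertible_pullback _ hP
    let N := (Scheme.Modules.pullback ν.left).obj M
    obtain ⟨e₁⟩ := Groth.Agent.L26.TwistInv.nonempty_HD_twist hM G i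
    obtain ⟨e₂⟩ := hinv b
    obtain ⟨eC⟩ : Nonempty (CohB1.tensorMod C N ≅ C) := by
      refine (PicGrp.cl_eq_cl_iff _ _).1 ?_
      show PicF.cl C * PicF.cl N = PicF.cl C
      rw [show PicF.cl C = PicF.pullCl ν.left (PicF.cl (DCoh.HD G i)) from rfl,
        show PicF.cl N = PicF.pullCl ν.left (PicF.cl M) from rfl, ← pullCl_mul]
      exact congrArg _ ((PicGrp.cl_eq_cl_iff _ _).2
        ⟨e₁.symm ≪≫ (DerivedCategory.homologyFunctor A.left.Modules i).mapIso e₂⟩)
    have h := Groth.Agent.L26.TwistInv.pow_rk_eq_one_of_twist_iso hreg hX1 hC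
      (Groth.L18.Ample.isInvertible_pullback _ hM) eC
    have hv : (Ξ b).toMul.1 = PicF.cl N := by
      show AbDualLib.bil (PicF.cl P) ν (toUnit X ≫ b) =
        PicF.pullCl ν.left (AbDualLib.bil (PicF.cl P) (𝟙 A) (toUnit A ≫ b))
      rw [AbDualLib.pullCl_bil, Category.comp_id, ← Category.assoc, toUnit_unique (ν ≫ toUnit A) (toUnit X)]
    apply Rosati.ext_val
    have hpow : ∀ n : ℕ, (n • Ξ b).toMul.1 = PicF.cl N ^ n := fun n => by
      induction n with
      | zero => rw [zero_smul, pow_zero]; rfl
      | succ n ih =>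
        rw [succ_nsmul, pow_succ, ← ih, ← hv]
        rfl
    rw [hpow, h]
    rfl
  have hzero : ∀ b : 𝟙_ (Over (Spec (CommRingCat.of k))) ⟶ At, Ξ b = 0 := by
    intro b
    haveI := Groth.L08.Cube.surjective_pow (A := At) (n := Groth.L21.Bundle.rk C) hr
    haveI : JacobsonSpace At.left := LocallyOfFiniteType.jacobsonSpace At.hom
    obtain ⟨w, hw⟩ := Surjective.surj (f := (𝟙 At ^ Groth.L21.Bundle.rk C).left) (kpt b)
    obtain ⟨w', hw', hw'c⟩ := nonempty_inter_closedPoints
      (Z := (𝟙 At ^ Groth.L21.Bundle.rk C).left ⁻¹' {kpt b}) ⟨w, hw⟩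
      ((isClosed_kpt b).preimage (𝟙 At ^ Groth.L21.Bundle.rk C).left.continuous).isLocallyClosed
    obtain ⟨y, rfl⟩ := exists_kpt w' hw'c
    obtain rfl : y ^ Groth.L21.Bundle.rk C = b := by
      refine kpt_injective ((?_ : _ = _).trans hw')
      show kpt (y ^ _) = _
      rw [show y ^ Groth.L21.Bundle.rk C = y ≫ (𝟙 At ^ Groth.L21.Bundle.rk C) by
        rw [MonObj.comp_pow, Category.comp_id]]
      exact Scheme.Hom.comp_apply _ _ _
    show Pairing.xi hPξ ν (toUnit X ≫ y ^ _) = 0
    rw [MonObj.comp_pow, Pairing.xi_pow_right hφ hPξ]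
    exact hker y
  obtain ⟨L, hL⟩ := Groth.Agent.AV.Degree.exists_isAmple A
  refine hne (Groth.Agent.L26.InvisibleCurve.const_of_forall_fix L hL ν (fun a => ?_) c c')
  have h := Pairing.xi_lamOf hφ hPξ L hL.1 ν (toUnit X ≫ a)
  rw [Category.assoc] at h
  rw [show Pairing.xi hPξ ν (toUnit X ≫ a ≫ Pairing.lamOf φ L hL.1) = 0 from hzero _] at h
  have hm := congrArg (fun z => (Additive.toMul z).1) (Rosati.F_mul L hL.1 ν (toUnit X ≫ a))
  change pc L (ν * (toUnit X ≫ a)) =
    pc L ν * pc L (toUnit X ≫ a) * (Orth.bil L hL.1 ν (toUnit X ≫ a)).toMul.1 at hm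
  rw [← h, pc_const L hL.1, _root_.mul_one] at hm
  exact hm.trans (_root_.mul_one _)

end Groth.Agent.S14148
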