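import Groth.Statements.S1415
import Mathlib.AlgebraicGeometry.Morphisms.QuasiFinite
import Mathlib.AlgebraicGeometry.Fiber
import Mathlib.RingTheory.ZariskisMainTheorem
import Mathlib.RingTheory.Spectrum.Prime.Noetherian
import Mathlib.Topology.Connected.TotallyDisconnected

set_option autoImplicit false
universe u
open FlatMor

set_option linter.style.haveILetI false
set_option backward.isDefEq.respectTransparency.types false

namespace Groth.Agent.S1415
open AlgebraicGeometry CategoryTheory Limits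
open scoped TensorProduct

/-- A finite algebra over a field has at most as many primes as its dimension. -/
theorem card_primeSpectrum_le (F T : Type u) [Field F] [CommRing T] [Algebra F T] [Module.Finite F T] :
    Finite (PrimeSpectrum T) ∧ Nat.card (PrimeSpectrum T) ≤ Module.finrank F T := by
  haveI : IsArtinianRing T := IsArtinianRing.of_finite F T
  haveI : Finite (PrimeSpectrum T) := inferInstance
  haveI := Fintype.ofFinite (PrimeSpectrum T)
  refine ⟨inferInstance, ?_⟩
  rw [IsArtinianRing.finrank_eq_sum_primeSpectrum (R := T) F, Nat.card_eq_fintype_card, Fintype.card_eq_sum_ones]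
  refine Finset.sum_le_sum fun p _ => ?_
  haveI : Module.Finite F (Localization.AtPrime p.asIdeal) :=
    Module.Finite.of_surjective (Algebra.algHom F T (Localization.AtPrime p.asIdeal)).toLinearMap
      (IsArtinianRing.localization_surjective p.asIdeal.primeCompl (Localization.AtPrime p.asIdeal))
  exact Module.finrank_pos

/-- The number of points of a base change to a field of a quasi-finite algebra is bounded. -/
theorem exists_bound (R S : Type u) [CommRing R] [CommRing S] [Algebra R S] [Algebra.FiniteType R S]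
    [Algebra.QuasiFinite R S] : ∃ d : ℕ, ∀ (K : Type u) [Field K] [Algebra R K],
      ∀ (T : Finset (PrimeSpectrum (K ⊗[R] S))), T.card ≤ d := by
  classical
  have h := fun p : PrimeSpectrum S =>
    Algebra.QuasiFiniteAt.exists_fg_and_exists_notMem_and_awayMap_bijective (R := R) p.asIdeal
  choose S' hfg r hr hbij using h
  obtain ⟨P, hP⟩ := (CompactSpace.isCompact_univ : IsCompact (Set.univ : Set (PrimeSpectrum S))).elim_finite_subcover
    (fun p => (PrimeSpectrum.basicOpen (r p).1 : Set (PrimeSpectrum S))) (fun p => PrimeSpectrum.isOpen_basicOpen)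
    (fun p _ => Set.mem_iUnion.mpr ⟨p, hr p⟩)
  have hn : ∀ p, ∃ n : ℕ, ∀ (K : Type u) [Field K] [Algebra R K],
      ∀ (T : Finset (PrimeSpectrum (K ⊗[R] S))), (∀ z ∈ T, (1 : K) ⊗ₜ[R] (r p).1 ∉ z.asIdeal) → T.card ≤ n := by
    intro p
    haveI : Module.Finite R (S' p) := ⟨(Submodule.fg_top _).mpr (hfg p)⟩
    obtain ⟨n, v, hv⟩ := Module.Finite.exists_fin (R := R) (M := S' p)
    refine ⟨n, fun K _ _ T hT => ?_⟩
    let ψ : K ⊗[R] S' p →ₐ[K] K ⊗[R] S := Algebra.TensorProduct.map (AlgHom.id K K) (S' p).val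
    obtain ⟨hfin, hcard⟩ := card_primeSpectrum_le K (K ⊗[R] S' p)
    have hdim : Module.finrank K (K ⊗[R] S' p) ≤ n := by
      have hspan : Submodule.span K (Set.range fun i => (1 : K) ⊗ₜ[R] v i) = ⊤ := by
        rw [eq_top_iff]
        rintro x -
        induction x using TensorProduct.induction_on with
        | zero => exact zero_mem _
        | tmul a b =>
          have hb : b ∈ Submodule.span R (Set.range v) := hv ▸ Submodule.mem_top
          induction hb using Submodule.span_induction with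
          | mem b hb =>
            obtain ⟨i, rfl⟩ := hb
            rw [show a ⊗ₜ[R] v i = a • ((1 : K) ⊗ₜ[R] v i) by rw [TensorProduct.smul_tmul', smul_eq_mul, mul_one]]
            exact Submodule.smul_mem _ _ (Submodule.subset_span ⟨i, rfl⟩)
          | zero => rw [TensorProduct.tmul_zero]; exact zero_mem _
          | add x y _ _ hx hy => rw [TensorProduct.tmul_add]; exact add_mem hx hy
          | smul c x _ hx =>
            rw [TensorProduct.tmul_smul, ← algebraMap_smul K c (a ⊗ₜ[R] x)]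
            exact Submodule.smul_mem _ _ hx
        | add x y hx hy => exact add_mem hx hy
      have h1 := finrank_range_le_card (R := K) (fun i => (1 : K) ⊗ₜ[R] v i)
      rw [Set.finrank, hspan, finrank_top, Fintype.card_fin] at h1
      exact h1
    have key : ∀ t : K ⊗[R] S, ∃ (k : ℕ) (u : K ⊗[R] S' p), ψ u = t * ((1 : K) ⊗ₜ[R] (r p).1) ^ k := by
      intro t
      induction t using TensorProduct.induction_on with
      | zero => exact ⟨0, 0, by simp⟩
      | tmul a s =>
        obtain ⟨y, hy⟩ := (hbij p).2 (algebraMap S (Localization.Away (r p).1) s)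
        obtain ⟨w, ⟨_, k, rfl⟩, rfl⟩ := IsLocalization.exists_mk'_eq (Submonoid.powers (r p)) y
        simp only [Localization.awayMap, IsLocalization.Away.map, IsLocalization.map_mk'] at hy
        replace hy : algebraMap S (Localization.Away (r p).1) w.1 =
            algebraMap S (Localization.Away (r p).1) s * algebraMap S (Localization.Away (r p).1) ((r p).1 ^ k) :=
          IsLocalization.mk'_eq_iff_eq_mul.mp hy
        rw [← map_mul] at hy
        obtain ⟨⟨_, m, rfl⟩, hm⟩ := (IsLocalization.eq_iff_exists (Submonoid.powers (r p).1) _).mp hy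
        refine ⟨m + k, a ⊗ₜ[R] ((r p) ^ m * w), ?_⟩
        rw [Algebra.TensorProduct.tmul_pow, one_pow, Algebra.TensorProduct.tmul_mul_tmul, mul_one]
        simp only [ψ, Algebra.TensorProduct.map_tmul, AlgHom.id_apply]
        congr 1
        change (r p).1 ^ m * w.1 = _
        exact hm.trans (by ring)
      | add x y hx hy =>
        obtain ⟨k, u, hu⟩ := hx
        obtain ⟨k', u', hu'⟩ := hy
        refine ⟨k + k', u * ((1 : K) ⊗ₜ[R] r p) ^ k' + u' * ((1 : K) ⊗ₜ[R] r p) ^ k, ?_⟩
        simp only [map_add, map_mul, map_pow, hu, hu']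
        simp only [ψ, Algebra.TensorProduct.map_tmul, AlgHom.id_apply, Subalgebra.coe_val, pow_add]
        ring
    have hinj : ∀ z ∈ T, ∀ z' ∈ T, z.asIdeal.comap ψ = z'.asIdeal.comap ψ → z = z' := by
      have hle : ∀ z ∈ T, ∀ z' ∈ T, z.asIdeal.comap ψ = z'.asIdeal.comap ψ → z.asIdeal ≤ z'.asIdeal := by
        intro z _ z' hz' he t ht
        obtain ⟨k, u, hu⟩ := key t
        have h1 : u ∈ z'.asIdeal.comap ψ := he ▸ (show ψ u ∈ z.asIdeal from hu ▸ Ideal.mul_mem_right _ _ ht)
        have h2 : t * ((1 : K) ⊗ₜ[R] (r p).1) ^ k ∈ z'.asIdeal := hu ▸ h1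
        exact (z'.isPrime.mem_or_mem h2).resolve_right fun h => hT z' hz' (z'.isPrime.mem_of_pow_mem k h)
      exact fun z hz z' hz' he => PrimeSpectrum.ext (le_antisymm (hle z hz z' hz' he) (hle z' hz' z hz he.symm))
    haveI := Fintype.ofFinite (PrimeSpectrum (K ⊗[R] S' p))
    calc T.card ≤ (Finset.univ : Finset (PrimeSpectrum (K ⊗[R] S' p))).card :=
          Finset.card_le_card_of_injOn (fun z => PrimeSpectrum.comap ψ.toRingHom z) (fun _ _ => Finset.mem_univ _)
            fun z hz z' hz' he => hinj z hz z' hz' (congrArg PrimeSpectrum.asIdeal he)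
      _ ≤ n := by rw [Finset.card_univ, ← Nat.card_eq_fintype_card]; exact hcard.trans hdim
  choose n hn using hn
  refine ⟨∑ p ∈ P, n p, fun K _ _ T => ?_⟩
  calc T.card ≤ (P.biUnion fun p => T.filter fun z => (1 : K) ⊗ₜ[R] (r p).1 ∉ z.asIdeal).card := by
        refine Finset.card_le_card fun z hz => ?_
        have := hP (Set.mem_univ (PrimeSpectrum.comap (Algebra.TensorProduct.includeRight : S →ₐ[R] K ⊗[R] S).toRingHom z))
        simp only [Set.mem_iUnion] at this
        obtain ⟨p, hp, hzp⟩ := this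
        exact Finset.mem_biUnion.mpr ⟨p, hp, Finset.mem_filter.mpr ⟨hz, hzp⟩⟩
    _ ≤ ∑ p ∈ P, (T.filter fun z => (1 : K) ⊗ₜ[R] (r p).1 ∉ z.asIdeal).card := Finset.card_biUnion_le
    _ ≤ ∑ p ∈ P, n p := Finset.sum_le_sum fun p _ => hn p K _ fun z hz => (Finset.mem_filter.mp hz).2

/-- The geometric fibre of a locally quasi-finite morphism is discrete. -/
theorem discreteTopology_geomFiber {X Y : Scheme.{u}} (f : X ⟶ Y) [LocallyQuasiFinite f] (y : Y) :
    DiscreteTopology ↥(MoreMor.geomFiber f y) := by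
  haveI : LocallyQuasiFinite (f.fiberToSpecResidueField y) := by
    exact MorphismProperty.pullback_snd f (Y.fromSpecResidueField y) ‹LocallyQuasiFinite f›
  let g₂ := Spec.map (CommRingCat.ofHom (algebraMap (Y.residueField y) (SeparableClosure (Y.residueField y))))
  have h2 : LocallyQuasiFinite (pullback.snd (f.fiberToSpecResidueField y) g₂) :=
    MorphismProperty.pullback_snd _ _ ‹LocallyQuasiFinite (f.fiberToSpecResidueField y)›
  haveI : IsLocallyArtinian (MoreMor.geomFiber f y) :=
    @IsLocallyArtinian.of_locallyQuasiFinite _ _ (pullback.snd (f.fiberToSpecResidueField y) g₂) h2 _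
  infer_instance

/-- An affine chart bounds the number of points of a base change to a field over it. -/
theorem exists_bound_square {X Y : Scheme.{u}} (f : X ⟶ Y) [LocallyQuasiFinite f] [LocallyOfFiniteType f]
    {V : Y.Opens} (hV : IsAffineOpen V) {U : X.Opens} (hU : IsAffineOpen U) (e : U ≤ f ⁻¹ᵁ V) :
    ∃ d : ℕ, ∀ (K : Type u) [Field K] (q : Spec (CommRingCat.of K) ⟶ Y) (P : Scheme.{u}) (π : P ⟶ X)
      (πK : P ⟶ Spec (CommRingCat.of K)), IsPullback π πK f q →
      ∀ T : Finset P, (∀ z ∈ T, π z ∈ U) → T.card ≤ d := by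
  algebraize [(f.appLE V U e).hom]
  haveI : Algebra.FiniteType Γ(Y, V) Γ(X, U) := f.finiteType_appLE hV hU e
  haveI : Algebra.QuasiFinite Γ(Y, V) Γ(X, U) :=
    RingHom.quasiFinite_algebraMap.mp (HasRingHomProperty.appLE @LocallyQuasiFinite f inferInstance ⟨V, hV⟩ ⟨U, hU⟩ e)
  obtain ⟨d, hd⟩ := exists_bound Γ(Y, V) Γ(X, U)
  refine ⟨d, fun K _ q P π πK hsq T hT => ?_⟩
  classical
  rcases T.eq_empty_or_nonempty with rfl | ⟨z₀, hz₀⟩
  · simp
  haveI : Subsingleton (Spec (CommRingCat.of K)) := inferInstanceAs (Subsingleton (PrimeSpectrum K))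
  have eW : (⊤ : (Spec (CommRingCat.of K)).Opens) ≤ q ⁻¹ᵁ V := by
    intro w _
    have h1 : (π ≫ f) z₀ ∈ V := e (hT z₀ hz₀)
    rw [hsq.w] at h1
    show q w ∈ V
    rw [Subsingleton.elim w (πK z₀)]
    exact h1
  have hpb := Scheme.Hom.isPullback_resLE hsq (UT := ⊤) eW e (UY := π ⁻¹ᵁ U ⊓ πK ⁻¹ᵁ ⊤) rfl
  haveI : IsAffine V.toScheme := hV
  haveI : IsAffine U.toScheme := hU
  haveI : IsAffine (⊤ : (Spec (CommRingCat.of K)).Opens).toScheme := isAffineOpen_top _
  have hZ : IsAffineOpen (π ⁻¹ᵁ U ⊓ πK ⁻¹ᵁ ⊤) := IsAffine.of_isPullback hpb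
  have hpo : IsPushout (f.appLE V U e) (q.appLE V ⊤ eW) (π.appLE U (π ⁻¹ᵁ U ⊓ πK ⁻¹ᵁ ⊤) inf_le_left)
      (πK.appLE ⊤ (π ⁻¹ᵁ U ⊓ πK ⁻¹ᵁ ⊤) inf_le_right) := by
    refine (isPushout_appTop_of_isPullback hpb).of_iso V.topIso U.topIso
      (⊤ : (Spec (CommRingCat.of K)).Opens).topIso (π ⁻¹ᵁ U ⊓ πK ⁻¹ᵁ ⊤).topIso ?_ ?_ ?_ ?_ <;>
    simp only [Scheme.Hom.appTop, Scheme.Hom.resLE_app_top, Category.assoc, Iso.inv_hom_id, Category.comp_id]
  letI : Algebra Γ(Y, V) K := (q.appLE V ⊤ eW ≫ (Scheme.ΓSpecIso (CommRingCat.of K)).hom).hom.toAlgebra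
  have hpo' : IsPushout (CommRingCat.ofHom (algebraMap Γ(Y, V) K)) (f.appLE V U e)
      ((Scheme.ΓSpecIso (CommRingCat.of K)).inv ≫ πK.appLE ⊤ (π ⁻¹ᵁ U ⊓ πK ⁻¹ᵁ ⊤) inf_le_right)
      (π.appLE U (π ⁻¹ᵁ U ⊓ πK ⁻¹ᵁ ⊤) inf_le_left) := by
    refine hpo.flip.of_iso (Iso.refl _) (Scheme.ΓSpecIso (CommRingCat.of K)) (Iso.refl _) (Iso.refl _) ?_ ?_ ?_ ?_ <;>
    simp [RingHom.algebraMap_toAlgebra]
  let eT := ((CommRingCat.isPushout_tensorProduct Γ(Y, V) K Γ(X, U)).isoPushout ≪≫ hpo'.isoPushout.symm).commRingCatIsoToRingEquiv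
  let ι : {z // z ∈ T} → PrimeSpectrum (K ⊗[Γ(Y, V)] Γ(X, U)) := fun z =>
    PrimeSpectrum.comap eT.toRingHom (hZ.primeIdealOf ⟨z.1, ⟨hT z.1 z.2, trivial⟩⟩)
  have hι : Function.Injective ι := fun a b h => by
    have h1 := (PrimeSpectrum.comap_injective_of_surjective eT.toRingHom eT.surjective) h
    have h2 := congrArg hZ.fromSpec h1
    rw [hZ.fromSpec_primeIdealOf, hZ.fromSpec_primeIdealOf] at h2
    exact Subtype.ext h2
  have := hd K (Finset.univ.image ι)
  rwa [Finset.card_image_of_injective _ hι, Finset.card_univ, Fintype.card_coe] at this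

/-- An affine chart bounds the number of geometric points over it. -/
theorem exists_bound_chart {X Y : Scheme.{u}} (f : X ⟶ Y) [LocallyQuasiFinite f] [LocallyOfFiniteType f]
    {V : Y.Opens} (hV : IsAffineOpen V) {U : X.Opens} (hU : IsAffineOpen U) (e : U ≤ f ⁻¹ᵁ V) :
    ∃ d : ℕ, ∀ (y : Y) (T : Finset ↥(MoreMor.geomFiber f y)),
      (∀ z ∈ T, (pullback.fst _ _ ≫ f.fiberι y : MoreMor.geomFiber f y ⟶ X) z ∈ U) → T.card ≤ d := by
  obtain ⟨d, hd⟩ := exists_bound_square f hV hU e
  refine ⟨d, fun y T hT => hd (SeparableClosure (Y.residueField y))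
    (Spec.map (CommRingCat.ofHom (algebraMap (Y.residueField y) (SeparableClosure (Y.residueField y)))) ≫
      Y.fromSpecResidueField y) _ _ _ ((IsPullback.of_hasPullback (f.fiberToSpecResidueField y) _).paste_horiz
      (IsPullback.of_hasPullback f (Y.fromSpecResidueField y))) T hT⟩

open AlgebraicGeometry CategoryTheory Limits in
/-- Let f : X → Y be locally quasi-finite. Then (1) for every y the number of irreducible components and
the number of connected components of the geometric fibre over y agree, and (2) if X is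
quasi-compact these numbers are bounded by some natural number. -/
theorem result {X Y : Scheme.{u}} (f : X ⟶ Y) [LocallyQuasiFinite f] [LocallyOfFiniteType f] :
    (∀ y : Y, MoreMor.nGeomIrredComp f y = MoreMor.nGeomConnComp f y) ∧
      (CompactSpace ↑X → ∃ d : ℕ, ∀ y : Y, MoreMor.nGeomConnComp f y ≤ d) := by
  constructor
  · intro y
    haveI := discreteTopology_geomFiber f y
    have h1 : irreducibleComponents ↥(MoreMor.geomFiber f y) = Set.range fun x => ({x} : Set _) := by
      ext s
      constructor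
      · intro hs
        obtain ⟨x, rfl⟩ := isIrreducible_iff_singleton.mp hs.1
        exact ⟨x, rfl⟩
      · rintro ⟨x, rfl⟩
        refine ⟨isIrreducible_singleton, fun t ht hxt => ?_⟩
        obtain ⟨x', rfl⟩ := isIrreducible_iff_singleton.mp ht
        rw [Set.mem_singleton_iff.mp (hxt rfl)]
    have e1 : ↥(MoreMor.geomFiber f y) ≃ ConnectedComponents ↥(MoreMor.geomFiber f y) :=
      Equiv.ofBijective _ ⟨fun a b h => by
        have h2 := ConnectedComponents.coe_eq_coe.mp h
        rw [connectedComponent_eq_singleton, connectedComponent_eq_singleton] at h2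
        exact Set.singleton_eq_singleton_iff.mp h2, ConnectedComponents.surjective_coe⟩
    rw [MoreMor.nGeomIrredComp, MoreMor.nGeomConnComp, h1, ← ENat.card_congr e1,
      ← Set.image_univ, Set.InjOn.encard_image Set.singleton_injective.injOn, Set.encard_univ]
  · intro hX
    classical
    have hch : ∀ x : X, ∃ (U : X.Opens) (V : Y.Opens), IsAffineOpen U ∧ IsAffineOpen V ∧ U ≤ f ⁻¹ᵁ V ∧ x ∈ U := by
      intro x
      obtain ⟨_, ⟨V, hV, rfl⟩, hxV, -⟩ :=
        Y.isBasis_affineOpens.exists_subset_of_mem_open (Set.mem_univ (f x)) isOpen_univ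
      obtain ⟨_, ⟨U, hU, rfl⟩, hxU, hUV⟩ :=
        X.isBasis_affineOpens.exists_subset_of_mem_open (a := x) (show x ∈ f ⁻¹ᵁ V from hxV) (f ⁻¹ᵁ V).2
      exact ⟨U, V, hU, hV, hUV, hxU⟩
    choose U V hU hV hUV hxU using hch
    obtain ⟨s, hs⟩ := isCompact_univ.elim_finite_subcover (fun x => (U x : Set X)) (fun x => (U x).2)
      fun x _ => Set.mem_iUnion.mpr ⟨x, hxU x⟩
    choose d hd using fun x => exists_bound_chart f (hV x) (hU x) (hUV x)
    refine ⟨∑ x ∈ s, d x, fun y => ?_⟩
    haveI := discreteTopology_geomFiber f y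
    have key : ∀ T : Finset ↥(MoreMor.geomFiber f y), T.card ≤ ∑ x ∈ s, d x := by
      intro T
      let π : MoreMor.geomFiber f y ⟶ X := pullback.fst _ _ ≫ f.fiberι y
      calc T.card ≤ (s.biUnion fun x => T.filter fun z => π z ∈ U x).card := by
            refine Finset.card_le_card fun z hz => ?_
            obtain ⟨x, hx⟩ := Set.mem_iUnion.mp (hs (Set.mem_univ (π z)))
            obtain ⟨hxs, hx⟩ := Set.mem_iUnion.mp hx
            exact Finset.mem_biUnion.mpr ⟨x, hxs, Finset.mem_filter.mpr ⟨hz, hx⟩⟩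
        _ ≤ ∑ x ∈ s, (T.filter fun z => π z ∈ U x).card := Finset.card_biUnion_le
        _ ≤ ∑ x ∈ s, d x := Finset.sum_le_sum fun x _ => hd x y _ fun z hz => (Finset.mem_filter.mp hz).2
    have hfin : Finite ↥(MoreMor.geomFiber f y) := by
      by_contra h
      haveI := not_finite_iff_infinite.mp h
      obtain ⟨T, hT⟩ := Infinite.exists_subset_card_eq ↥(MoreMor.geomFiber f y) ((∑ x ∈ s, d x) + 1)
      exact absurd (key T) (by omega)
    haveI := Fintype.ofFinite ↥(MoreMor.geomFiber f y)
    haveI := Fintype.ofSurjective (ConnectedComponents.mk (α := ↥(MoreMor.geomFiber f y))) ConnectedComponents.surjective_coe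
    rw [MoreMor.nGeomConnComp, ENat.card_eq_coe_fintype_card, Nat.cast_le]
    exact (Fintype.card_le_of_surjective _ ConnectedComponents.surjective_coe).trans (by simpa using key Finset.univ)

end Groth.Agent.S1415
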