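import Groth.Statements.S14150
import Groth.Agent.L26.AV.TorsPts
import Groth.Agent.L26.AV.Hom

set_option autoImplicit false
universe u
open CategoryTheory CategoryTheory.Limits MonoidalCategory CartesianMonoidalCategory MonObj GrpObj AlgebraicGeometry
open AbVar

namespace Groth.Agent.S14150

open CategoryTheory CategoryTheory.Limits MonoidalCategory CartesianMonoidalCategory MonObj AlgebraicGeometry

/-- Let k be an algebraically closed field, A an abelian variety over k (a proper smooth k-group scheme
with geometrically connected fibres) of dimension g, and n ≥ 1 an integer invertible in k. Then the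
group A[n](k) of k-rational points of A killed by n is isomorphic to (ℤ/n)^{2g} (existence of a
group isomorphism; the group of k-points is written multiplicatively). -/
theorem result (k : Type u) [Field k] [IsAlgClosed k]
    (A : Over (Spec (CommRingCat.of k))) [GrpObj A] [IsProper A.hom] [Smooth A.hom] [GeometricallyConnected A.hom] [IsCommMonObj A]
    (g : ℕ) (hg : topologicalKrullDim ↥A.left = g) (n : ℕ) (hn : 0 < n) (hnk : IsUnit (n : k)) :
    Nonempty (AbDual.torsPts A n (𝟙_ (Over (Spec (CommRingCat.of k)))) ≃* Multiplicative (Fin (2 * g) → ZMod n)) := by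
  haveI : GeometricallyReduced A.hom :=
    ⟨fun L _ y W fst snd h =>
      haveI : Smooth snd := MorphismProperty.of_isPullback h ‹Smooth A.hom›
      Groth.Agent.AV.isReduced_of_smooth_field snd⟩
  haveI : ConnectedSpace A.left := GeometricallyConnected.connectedSpace_of_subsingleton A.hom
  haveI := Groth.Agent.AV.geometricallyIntegral_of_connected A
  have hn0 : (n : k) ≠ 0 := hnk.ne_zero
  have h : Groth.Agent.AV.TorsStructure.Model A (Groth.Agent.AV.TorsPts.ptk k) (2 * g) n := by
    refine Groth.Agent.AV.TorsStructure.model_of_primePow hn fun p e hp hd => ?_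
    haveI : Fact p.Prime := ⟨hp⟩
    rcases Nat.eq_zero_or_pos e with he | he
    · subst he
      rw [pow_zero]
      haveI : Subsingleton (Additive (AbDual.torsPts A 1 (Groth.Agent.AV.TorsPts.ptk k))) := ⟨fun a b => by
        refine congrArg Additive.ofMul (Subtype.ext ?_ : a.toMul = b.toMul)
        have ha : a.toMul.1 ^ 1 = 1 := a.toMul.2
        have hb : b.toMul.1 ^ 1 = 1 := b.toMul.2
        rw [pow_one] at ha hb
        rw [ha, hb]⟩
      exact ⟨{ toFun := fun _ => 0
               invFun := fun _ => 0
               left_inv := fun _ => Subsingleton.elim _ _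
               right_inv := fun _ => Subsingleton.elim _ _
               map_add' := fun _ _ => Subsingleton.elim _ _ }⟩
    have hp0 : (p : k) ≠ 0 := fun h0 => hn0 (by
      obtain ⟨c, rfl⟩ := hd
      rw [Nat.cast_mul, Nat.cast_pow, h0, zero_pow (by omega), zero_mul])
    haveI := Groth.Agent.AV.TorsPts.finite_torsPts (A := A) hp.one_lt.le
    have hr := Groth.Agent.AV.TorsStructure.finrank_eq
      (fun Q => Groth.Agent.AV.TorsPts.exists_pow_eq hp.one_lt.le Q)
      (Groth.Agent.AV.TorsCard.card_torsPts (A := A) hg p hp0)
    rw [← hr]
    exact Groth.Agent.AV.TorsStructure.model_primePow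
      (fun Q => Groth.Agent.AV.TorsPts.exists_pow_eq hp.one_lt.le Q) e
  obtain ⟨e⟩ := h
  exact ⟨(AddEquiv.toMultiplicative e.symm).trans (MulEquiv.refl _)⟩

end Groth.Agent.S14150
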