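import Groth.Statements.S14151
import Groth.Agent.L21.Bundle.Results

set_option autoImplicit false
set_option backward.isDefEq.respectTransparency false
universe u
open CategoryTheory CategoryTheory.Limits AlgebraicGeometry
open VBCurve

namespace Groth.Agent.S14151

/-- Let C be a smooth proper geometrically connected curve over a field k (proper, smooth and
geometrically connected over k, of dimension one) and E a finite locally free O_C-module of rank r ≥
1; degrees of rank-n locally free modules are χ − n·χ(O_C) and slopes are compared by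
cross-multiplication. Then: E is semistable in the sense of quotients (μ(E) ≤ μ(F) for every locally
free quotient E ↠ F of rank s ≥ 1) if and only if μ(G) ≤ μ(E) for every finite locally free
submodule G of E of rank r' ≥ 1; and E is stable in the sense of quotients (μ(E) < μ(F) for every
such quotient map which is not an isomorphism) if and only if μ(G) < μ(E) for every such submodule
whose inclusion is not an isomorphism. (The printed lemma says every nonzero subsheaf; for the
strict inequalities the subsheaf and the quotient must be proper, as its proof uses.) -/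
theorem result (k : Type u) [Field k] (X : Scheme.{u}) [X.Over (Spec (CommRingCat.of k))]
    [IsProper (X ↘ Spec (CommRingCat.of k))] [Smooth (X ↘ Spec (CommRingCat.of k))]
    [GeometricallyConnected (X ↘ Spec (CommRingCat.of k))] (hdim : topologicalKrullDim ↥X = 1)
    (r : ℕ) (hr : 0 < r) (E : X.Modules) (hE : FlatMod.IsFinLocFreeOfRank r E) :
    ((∀ (F : X.Modules) (s : ℕ) (p : E ⟶ F), Epi p → 0 < s → FlatMod.IsFinLocFreeOfRank s F →
      Curv2.deg k X E r * (s : ℤ) ≤ Curv2.deg k X F s * (r : ℤ)) ↔
      (∀ (G : X.Modules) (r' : ℕ) (i : G ⟶ E), Mono i → 0 < r' → FlatMod.IsFinLocFreeOfRank r' G →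
      Curv2.deg k X G r' * (r : ℤ) ≤ Curv2.deg k X E r * (r' : ℤ))) ∧
    ((∀ (F : X.Modules) (s : ℕ) (p : E ⟶ F), Epi p → 0 < s → FlatMod.IsFinLocFreeOfRank s F → (¬ IsIso p) →
      Curv2.deg k X E r * (s : ℤ) < Curv2.deg k X F s * (r : ℤ)) ↔
      (∀ (G : X.Modules) (r' : ℕ) (i : G ⟶ E), Mono i → 0 < r' → FlatMod.IsFinLocFreeOfRank r' G → (¬ IsIso i) →
      Curv2.deg k X G r' * (r : ℤ) < Curv2.deg k X E r * (r' : ℤ))) := by
  haveI : ConnectedSpace X := GeometricallyConnected.connectedSpace_of_subsingleton (X ↘ Spec (CommRingCat.of k))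
  haveI := Groth.L21.RR.isNoetherian_of_proper (X := X) k
  haveI : IsIntegral X := Groth.L21.NormalTotal.isIntegral_of_connected fun x =>
    Groth.L21.Smooth.isDomain_stalk (X ↘ Spec (CommRingCat.of k)) x
  haveI : IsLocallyNoetherian X := LocallyOfFiniteType.isLocallyNoetherian (X ↘ Spec (CommRingCat.of k))
  have hreg : ∀ x : X, IsRegularLocalRing (X.presheaf.stalk x) := (fun x => Groth.L21.Smooth.regular_stalk (X ↘ Spec (CommRingCat.of k)) x)
  exact Groth.L21.Bundle.quotient_iff_sub k hreg hdim.le hr hE

end Groth.Agent.S14151
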