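import Groth.Statements.S14153
import Groth.Agent.L26.AbDual.ThetaReduced
import Groth.Agent.L22.SchemeDim

set_option autoImplicit false
universe u
open CategoryTheory CategoryTheory.Limits MonoidalCategory CartesianMonoidalCategory MonObj GrpObj AlgebraicGeometry
open AbVar

namespace Groth.Agent.S14153

set_option maxHeartbeats 1000000
set_option backward.isDefEq.respectTransparency false

attribute [local instance] Groth.L08.Cube.clMonoid Groth.Agent.AV.InterPic.picLaw

open Groth.Agent.AV Groth.Agent.AbDualLib Groth.Agent.Poincare Groth.Agent.Poincare.Rosati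

/-- Let k be an algebraically closed field of characteristic 0, A an abelian variety over k (a proper
smooth k-group scheme with geometrically connected fibres), (A^t, φ) a given dual abelian variety
for the fppf topology with A^t an abelian variety, L an ample invertible O_A-module with an inverse
L', and Λ a module on A ×_k A isomorphic to the Mumford module m^*L ⊗ pr_1^*L' ⊗ pr_2^*L', whose
class is assumed algebraically trivial on every geometric fibre of the second projection. Assume
that φ_L = φ(Λ) : A → A^t is an isomorphism, i.e. L defines a principal polarization, and let s be a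
nonzero global section of L with zero scheme Θ ⊆ A (the theta divisor). If Θ is irreducible then Θ
is reduced. -/
theorem result (k : Type u) [Field k] [IsAlgClosed k] [CharZero k]
    (A At : Over (Spec (CommRingCat.of k))) [GrpObj A] [IsProper A.hom] [Smooth A.hom] [GeometricallyConnected A.hom]
    [GrpObj At] [IsProper At.hom] [Smooth At.hom] [GeometricallyConnected At.hom]
    (φ : ∀ T : Over (Spec (CommRingCat.of k)), PicF.Cl (PicF.XT A.hom T) → (T ⟶ At))
    (hφ : AbDual.IsDualAV Scheme.fppfPrecoverage A At φ)
    (L : A.left.Modules) (hLa : CohB1.IsAmple L) (L' : A.left.Modules) (hL' : Nonempty (CohB1.tensorMod L L' ≅ Coh.structureModule A.left))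
    (Λ : (PicF.XT A.hom A).Modules)
    (hΛ : Nonempty (Λ ≅ CohB1.tensorMod (CohB1.tensorMod ((Scheme.Modules.pullback μ[A].left).obj L)
      ((Scheme.Modules.pullback (fst A A).left).obj L')) ((Scheme.Modules.pullback (snd A A).left).obj L')))
    (hΛ0 : AbDual.IsPicZeroCl A.hom A (PicF.cl Λ))
    [IsIso (φ A (PicF.cl Λ))]
    (s : Coh.structureModule A.left ⟶ L) (hs : s ≠ 0)
    [IrreducibleSpace ↥(PicF2.zeroScheme L s).subscheme] :
    IsReduced (PicF2.zeroScheme L s).subscheme := by
  haveI : GeometricallyReduced A.hom := geometricallyReduced_of_smooth A.hom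
  haveI : GeometricallyReduced At.hom := geometricallyReduced_of_smooth At.hom
  haveI : GeometricallyIntegral A.hom := Groth.L08.Cube.geometricallyIntegral_of_group A
  haveI : GeometricallyIntegral At.hom := Groth.L08.Cube.geometricallyIntegral_of_group At
  haveI : IsCommMonObj A := isCommMonObj_of_isProper_of_geometricallyIntegral A
  haveI : Subsingleton ↥(Spec (CommRingCat.of k)) := inferInstanceAs (Subsingleton (PrimeSpectrum k))
  haveI : AlgebraicGeometry.IsIntegral A.left := GeometricallyIntegral.isIntegral_of_subsingleton A.hom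
  haveI : IsLocallyNoetherian A.left := LocallyOfFiniteType.isLocallyNoetherian A.hom
  haveI : CompactSpace ↥A.left := QuasiCompact.compactSpace_of_compactSpace A.hom
  haveI : AlgebraicGeometry.IsNoetherian A.left := ⟨⟩
  have hLinv : PicF.IsInvertible L := hLa.1
  -- the reduced divisor
  let I := PicF2.zeroScheme L s
  have hI : BlowUp.IsEffCartierIdeal I := Groth.Agent.ThetaRed.isEffCartier_zeroScheme hLinv hs
  let J := Scheme.IdealSheafData.vanishingIdeal I.support
  have hJs : (J.support : Set A.left) = I.support := by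
    rw [Scheme.IdealSheafData.coe_support_vanishingIdeal]
  haveI : AlgebraicGeometry.IsReduced J.subscheme := Groth.L18.isReduced_vanishingIdeal_subscheme I.support
  haveI hIirr : IrreducibleSpace ↥I.subscheme := ‹_›
  have hirr : IsIrreducible (I.support : Set A.left) := by
    rw [← Scheme.IdealSheafData.range_subschemeι, ← Set.image_univ]
    exact (IrreducibleSpace.isIrreducible_univ I.subscheme).image _ I.subschemeι.continuous.continuousOn
  haveI : IrreducibleSpace ↥J.subscheme := by
    have h1 : IsIrreducible (Set.range J.subschemeι) := by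
      rw [Scheme.IdealSheafData.range_subschemeι, hJs]; exact hirr
    haveI : IrreducibleSpace (Set.range J.subschemeι) := Subtype.irreducibleSpace h1
    let e := J.subschemeι.isEmbedding.toHomeomorph
    rw [irreducibleSpace_def]
    have h2 := (IrreducibleSpace.isIrreducible_univ (Set.range J.subschemeι)).image e.symm e.symm.continuous.continuousOn
    rwa [Set.image_univ, e.symm.surjective.range_eq] at h2
  haveI : AlgebraicGeometry.IsIntegral J.subscheme := isIntegral_of_irreducibleSpace_of_isReduced _
  -- codimension one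
  let ξ : A.left := J.subschemeι (genericPoint ↥J.subscheme)
  have hξI : ξ ∈ (I.support : Set A.left) := by
    rw [← hJs, ← Scheme.IdealSheafData.range_subschemeι]; exact ⟨_, rfl⟩
  have hgen : ∀ y ∈ (I.support : Set A.left), y ⤳ ξ → y = ξ := fun y hy hyξ => by
    rw [← hJs, ← Scheme.IdealSheafData.range_subschemeι] at hy
    obtain ⟨z, rfl⟩ := hy
    exact hyξ.antisymm (((genericPoint_spec ↥J.subscheme).specializes trivial).map J.subschemeι.continuous) |>.eq
  have hcodim : ringKrullDim (A.left.presheaf.stalk ξ) = 1 := Groth.Agent.S1568.result A.left I hI ξ hξI hgen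
  have hJ : BlowUp.IsEffCartierIdeal J := Groth.Agent.S1684.result A.left J hcodim fun x _ => by
    haveI : IsRegularLocalRing ((Spec (CommRingCat.of k)).presheaf.stalk (A.hom x)) := by
      generalize A.hom x = p
      let e1 : (Spec (CommRingCat.of k)).presheaf.stalk p ≃+* Localization.AtPrime (R := k) p.asIdeal :=
        (Spec.stalkIso (CommRingCat.of k) p).commRingCatIsoToRingEquiv
      let e2 : k ≃+* Localization.AtPrime (R := k) p.asIdeal :=
        (IsLocalization.atUnits k p.asIdeal.primeCompl
          (fun a ha => isUnit_iff_ne_zero.mpr fun h => ha (h ▸ Ideal.zero_mem _))).toRingEquiv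
      exact IsRegularLocalRing.of_ringEquiv (e2.trans e1.symm)
    haveI := Groth.L11.SmRegular.isRegularLocalRing_stalk A.hom x
    exact Groth.Agent.S2821.result _
  obtain ⟨a, ha⟩ := Groth.Agent.S1659.result A.left I hI 1 (fun _ => J) (fun _ => hJ) (fun _ => inferInstance)
    (fun x hx => Set.mem_iUnion.2 ⟨0, hJs ▸ hx⟩)
  rw [Fin.prod_univ_one] at ha
  have hm : a 0 ≠ 0 := fun h0 => by
    rw [h0, pow_zero] at ha
    have : I = ⊤ := ha
    rw [this, Scheme.IdealSheafData.support_top] at hξI
    exact hξI
  -- it is not a proper power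
  obtain ⟨M, hM, hLM⟩ := Groth.Agent.ThetaRed.exists_root hLinv s J hJ (a 0) ha
  letI : A.left.Over (Spec (CommRingCat.of k)) := ⟨A.hom⟩
  haveI : LocallyOfFiniteType (A.left ↘ Spec (CommRingCat.of k)) := inferInstanceAs (LocallyOfFiniteType A.hom)
  obtain ⟨g, hg, -⟩ := Groth.L22.SchemeDim.exists_dim_closure_eq_trdeg k A.left (genericPoint A.left)
  rw [(genericPoint_spec A.left).def, IsHomeomorph.topologicalKrullDim_eq _ (Homeomorph.Set.univ _).isHomeomorph] at hg
  have hg1 : 1 ≤ g := by
    have h := (Groth.L21.SmoothDescent.ringKrullDim_stalk_le ξ).trans_eq hg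
    rw [hcodim] at h
    exact_mod_cast h
  obtain ⟨N, hN, ⟨eN⟩⟩ := Groth.L08.Cube.exists_inverse hLinv
  have hL'1 : PicF.cl L * PicF.cl L' = 1 := cl_congr hL'.some
  have hN1 : PicF.cl L * PicF.cl N = 1 := cl_congr eN
  have hL'N : PicF.cl L' = PicF.cl N := by
    rw [← _root_.one_mul (PicF.cl L'), ← hN1, _root_.mul_comm (PicF.cl L) (PicF.cl N), _root_.mul_assoc, hL'1,
      _root_.mul_one]
  have hΛc : PicF.cl Λ = PicF.pullCl μ[A].left (PicF.cl L) * PicF.pullCl (fst A A).left (PicF.cl L') *
      PicF.pullCl (snd A A).left (PicF.cl L') := cl_congr hΛ.some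
  have hinv : ∀ q : (A ⊗ A).left ⟶ A.left, PicF.pullCl q (PicF.cl L') * PicF.pullCl q (PicF.cl L) = 1 := fun q => by
    rw [← Groth.L08.Cube.pullCl_mul, _root_.mul_comm, hL'1, Groth.L08.Cube.pullCl_one]
  have hΛinv : PicF.IsInvertible Λ := by
    obtain ⟨eL'⟩ := (PicGrp.cl_eq_cl_iff _ _).1 hL'N
    refine Groth.L18.Ample.isInvertible_of_iso hΛ.some.symm (Groth.L18.GenLoc.isInvertible_tensor
      (Groth.L18.GenLoc.isInvertible_tensor (PicLoc.isInvertible_pullback _ hLinv)
        (PicLoc.isInvertible_pullback _ ?_)) (PicLoc.isInvertible_pullback _ ?_)) <;>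
    exact Groth.L18.Ample.isInvertible_of_iso eL'.symm hN
  have hlam : AgPol.IsLambda A At φ L (φ A (PicF.cl Λ)) := by
    refine ⟨Λ, hΛinv, (PicGrp.cl_eq_cl_iff _ _).1 ?_, rfl⟩
    show (PicF.cl Λ : PicF.Cl (A ⊗ A).left) * PicF.pullCl (fst A A).left (PicF.cl L) * PicF.pullCl (snd A A).left (PicF.cl L) =
      PicF.pullCl μ[A].left (PicF.cl L)
    rw [hΛc, mul_right_comm _ _ (PicF.pullCl (fst A A).left (PicF.cl L)), _root_.mul_assoc (PicF.pullCl μ[A].left (PicF.cl L)),
      hinv, _root_.mul_one, _root_.mul_assoc, hinv, _root_.mul_one]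
  haveI : IsIso (Pairing.lamOf φ L hLinv) := Groth.Agent.LamLinear.eq_lamOf L hLinv hlam ▸ ‹IsIso (φ A (PicF.cl Λ))›
  have h1 := Groth.Agent.ThetaRed.eq_one_of_isIso hφ hg hg1 L M hLinv hM (a 0) hm hLM
  rw [h1, pow_one] at ha
  show AlgebraicGeometry.IsReduced I.subscheme
  rw [ha]
  infer_instance

end Groth.Agent.S14153
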