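import Groth.Statements.S14155
import Groth.Agent.L21.Bundle.StableCoprime

set_option autoImplicit false
set_option backward.isDefEq.respectTransparency false
set_option backward.isDefEq.respectTransparency.types false
universe u
open CategoryTheory CategoryTheory.Limits AlgebraicGeometry
open VBCurve

namespace Groth.Agent.S14155

/-- Let k be an algebraically closed field, X a smooth proper integral curve over k (proper and smooth
over k, integral, of dimension one) of genus one, i.e. dim_k H^1(X, O_X) = 1 (an elliptic curve once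
a base point is chosen), and F a finite locally free O_X-module of rank r ≥ 1 which is
indecomposable (nonzero, and in any decomposition F ≅ F₁ ⊕ F₂ one summand is zero), of degree d =
χ(F) − r·χ(O_X). Then F is stable — deg G · r < d · r' for every finite locally free submodule G of
F of rank r' ≥ 1 whose inclusion is not an isomorphism — if and only if gcd(d, r) = 1. (The
published corollary also identifies stability with simplicity in two senses; those equivalences are
not restated.) -/
theorem result (k : Type u) [Field k] [IsAlgClosed k]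
    (X : Scheme.{u}) [X.Over (Spec (CommRingCat.of k))] [IsIntegral X]
    [IsProper (X ↘ Spec (CommRingCat.of k))] [Smooth (X ↘ Spec (CommRingCat.of k))]
    (hdim : topologicalKrullDim ↥X = 1) (hg : Curv2.genus k X = 1)
    (r : ℕ) (hr : 0 < r) (F : X.Modules) (hF : FlatMod.IsFinLocFreeOfRank r F)
    (hind : ¬ IsZero F ∧ ∀ (F₁ F₂ : X.Modules), Nonempty (F ≅ F₁ ⊞ F₂) → IsZero F₁ ∨ IsZero F₂) :
    (∀ (G : X.Modules) (r' : ℕ) (i : G ⟶ F), Mono i → 0 < r' → FlatMod.IsFinLocFreeOfRank r' G → (¬ IsIso i) →
      Curv2.deg k X G r' * (r : ℤ) < Curv2.deg k X F r * (r' : ℤ)) ↔ Int.gcd (Curv2.deg k X F r) (r : ℤ) = 1 := by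
  haveI := Groth.L21.RR.isNoetherian_of_proper (X := X) k
  have hreg := Groth.L21.Smooth.regular_stalk (k := k) (X ↘ Spec (CommRingCat.of k))
  have h0 : Groth.L21.RR.h k 0 (Coh.structureModule X) = 1 := Groth.L21.RR.h0_eq_one_of_isAlgClosed k
  rw [Int.gcd_comm]
  constructor
  · intro hs
    rw [Groth.L21.Bundle.dg_eq k hF]
    refine Groth.L21.Bundle.gcd_eq_one_of_stable k hreg hdim hg hr hF fun G r' i hi h1 h2 hG =>
      hs G r' i hi h1 hG fun hiso => ?_
    have := Groth.L21.Bundle.rk_iso (asIso i)
    rw [Groth.L21.Bundle.rk_eq hG, Groth.L21.Bundle.rk_eq hF] at this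
    omega
  · intro hco G r' i hi h1 hG hniso
    haveI := hi
    have hss := Groth.L21.Bundle.ss_of_indecomposable k hdim h0 hg hr hF hind
    refine lt_of_le_of_ne (hss G r' i hi h1 hG) fun he => hniso ?_
    have hle := Groth.L21.Bundle.rk_le_of_mono i (Groth.L21.Bundle.isCoh_of_rank hG)
      (Groth.L21.Bundle.isCoh_of_rank hF)
    rw [Groth.L21.Bundle.rk_eq hG, Groth.L21.Bundle.rk_eq hF] at hle
    have hdvd : (r : ℤ) ∣ (r' : ℤ) :=
      Int.dvd_of_dvd_mul_right_of_gcd_one ⟨Curv2.deg k X G r', by rw [← he]; ring⟩ hco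
    have heq : r' = r := le_antisymm hle (Nat.le_of_dvd h1 (Int.natCast_dvd_natCast.1 hdvd))
    subst heq
    refine (Groth.L21.Bundle.dg_le_of_mono hdim.le k i (Groth.L21.Bundle.isCoh_of_rank hG)
      (Groth.L21.Bundle.isCoh_of_rank hF) ((Groth.L21.Bundle.rk_eq hG).trans (Groth.L21.Bundle.rk_eq hF).symm)).2 ?_
    rw [← Groth.L21.Bundle.dg_eq k hG, ← Groth.L21.Bundle.dg_eq k hF]
    exact mul_right_cancel₀ (by omega) he

end Groth.Agent.S14155
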