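import Groth.Statements.S14159
import Groth.Agent.L26.AbDual.Bilinear

set_option autoImplicit false
universe u
open CategoryTheory CategoryTheory.Limits MonoidalCategory CartesianMonoidalCategory MonObj AlgebraicGeometry
open AgPol

namespace Groth.Agent.S14159

open Groth.Agent.AbDualLib

/-- Let S be a locally Noetherian scheme, A a projective abelian scheme over S of relative dimension g
with commutative group law, (At, φ) a commutative group scheme with data presenting it as the dual
of A for the fppf topology, ξ a Poincaré class on A ×_S At (normalised along the unit section of A)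
and lam : A ⟶ At a polarisation. If L is a module on A whose isomorphism class is the pull back of ξ
along the graph (1, lam) : A ⟶ A ×_S At, then lam · lam (twice lam, in the group of A-valued points
of At) is the homomorphism attached to L through φ. -/
theorem result (S : Scheme.{u}) [IsLocallyNoetherian S] (A At : Over S) [GrpObj A] [IsCommMonObj A]
    [GrpObj At] [IsCommMonObj At] (g : ℕ) (hA : AgPol.IsAbSch A g) (hproj : RelProj.IsProjective A.hom)
    (φ : AgPol.DualMap A At) (hdual : AbDual.IsDualAV Scheme.fppfPrecoverage A At φ)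
    (ξ : PicF.Cl (PicF.XT A.hom At)) (hξ : AbDual.IsPoincareCl A At φ ξ)
    (lam : A ⟶ At) (hpol : AgPol.IsPolarization A At φ lam) (L : A.left.Modules)
    (hL : PicF.cl L = PicF.pullCl (pullback.lift (𝟙 A.left) (lam).left ((Category.id_comp A.hom).trans (Over.w (lam)).symm)) ξ) :
    AgPol.IsLambda A At φ L (lam * lam) := by
  haveI := hA.smooth
  haveI := hA.proper
  haveI := hA.geomConnected
  haveI : IsMonHom lam := hpol.1
  have hL' : PicF.cl L = bil ξ (𝟙 A) lam := by
    rw [hL, bil]
    refine congrArg (fun h => PicF.pullCl h ξ) ?_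
    apply pullback.hom_ext
    · refine (pullback.lift_fst _ _ _).trans ?_
      show _ = (lift (𝟙 A) lam ≫ fst A At).left
      rw [lift_fst]; rfl
    · refine (pullback.lift_snd _ _ _).trans ?_
      show _ = (lift (𝟙 A) lam ≫ snd A At).left
      rw [lift_snd]
  have h1 : AbDual.IsPicZeroCl A.hom A (lamCl ξ lam) := by
    rw [lamCl, ← bil_whiskerLeft]
    exact isPicZeroCl_XTmap _ _ hξ.1
  have h2 := isPicZeroCl_lamCl' hdual hξ lam hpol
  obtain ⟨N, hN⟩ := cl_surjective (PicGrp.mulCl (lamCl ξ lam) (lamCl' ξ lam))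
  refine ⟨N, isInvertible_of_isInvertibleCl (hN ▸ isInvertibleCl_mulCl (isInvertibleCl_of_isPicZeroCl h1)
    (isInvertibleCl_of_isPicZeroCl h2)), (PicGrp.cl_eq_cl_iff _ _).1 ?_, ?_⟩
  · show PicGrp.mulCl (PicGrp.mulCl (PicF.cl N) (PicF.pullCl (fst A A).left (PicF.cl L)))
      (PicF.pullCl (snd A A).left (PicF.cl L)) = PicF.pullCl μ[A].left (PicF.cl L)
    rw [hN, hL', pullCl_bil, pullCl_bil]
    erw [pullCl_bil ξ μ[A] (𝟙 A) lam]
    rw [Category.comp_id, Category.comp_id, Category.comp_id,
      show μ[A] = fst A A * snd A A by rw [Hom.mul_def, lift_fst_snd, Category.id_comp], MonObj.mul_comp,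
      bil_mul_left hdual hξ, bil_mul_right hdual hξ, bil_mul_right hdual hξ]
    simp only [lamCl, lamCl']
    generalize bil ξ (fst A A) (fst A A ≫ lam) = a, bil ξ (fst A A) (snd A A ≫ lam) = b,
      bil ξ (snd A A) (fst A A ≫ lam) = c, bil ξ (snd A A) (snd A A ≫ lam) = d
    calc _ = PicGrp.mulCl (PicGrp.mulCl b (PicGrp.mulCl c a)) d := by rw [mulCl_assoc b c a]
      _ = _ := by rw [mulCl_comm c a, ← mulCl_assoc b a c, mulCl_comm b a, mulCl_assoc]
  · rw [hN, map_mulCl hdual h1 h2, map_lamCl' hdual hξ lam hpol, lamCl, ← bil_whiskerLeft,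
      hdual.relPic.natural At A lam ξ hξ.1, hξ.2.1, Category.comp_id]

end Groth.Agent.S14159
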