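import Groth.Statements.S1416
import Groth.Agent.L06.FlatModuleLift
import Groth.Agent.L16.CohSupport

set_option autoImplicit false
set_option maxSynthPendingDepth 3
set_option linter.style.haveILetI false
universe u
open FlatMor

namespace Groth.Agent.S1416

open AlgebraicGeometry CategoryTheory Limits in
/-- Let f : X → S be locally of finite type with S irreducible with generic point η, and F a
quasi-coherent O_X-module of finite type which is flat over S. If the support of F in the fibre over
η has dimension ≤ r then the support of F in every fibre has dimension ≤ r (supports in fibres taken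
as subspaces of X: the points of the fibre where the stalk of F is nonzero). -/
theorem result {X S : Scheme.{u}} (f : X ⟶ S) [LocallyOfFiniteType f] [IrreducibleSpace ↑S]
    (F : X.Modules) (hF : Coh.IsCoh F) (hfl : FlatMod.IsFlatOver f F) (r : WithBot ℕ∞)
    (h : topologicalKrullDim ↑(f ⁻¹' {genericPoint ↑S} ∩ CohB1.support F) ≤ r) (s : S) :
    topologicalKrullDim ↑(f ⁻¹' {s} ∩ CohB1.support F) ≤ r := by
  exact Groth.L06.FlatModuleLift.dim_support_le f F
    (fun x => Groth.L06.SupportStalk.finite_stalk F hF x)
    (fun x Q hQ => (Groth.L06.SupportStalk.mem_support_iff F hF x Q).mp hQ)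
    (Groth.L16.CohSupport.isClosed_support F hF.2) hfl r h s

end Groth.Agent.S1416
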