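import Groth.Statements.S14160
import Groth.Agent.L00.TransIsog
import Groth.Agent.L26.AbDual.Bilinear
import Groth.Agent.L26.AV.Isogeny

set_option autoImplicit false
universe u
open CategoryTheory CategoryTheory.Limits MonoidalCategory CartesianMonoidalCategory MonObj AlgebraicGeometry
open AgPol

namespace Groth.Agent.S14160

open Groth.Agent.AbDualLib
attribute [local instance] Groth.L08.Cube.clMonoid

/-- Let S be a locally Noetherian scheme, A a projective abelian scheme over S of relative dimension g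
with commutative group law, (At, φ) a commutative group scheme with data presenting it as the dual
of A for the fppf topology, ξ a Poincaré class on A ×_S At, and k ≥ 1. If lam₁, lam₂ : A ⟶ At are
polarisations such that ξ pulls back to the same class on A along the graphs of lam₁ ^ k and of lam₂
^ k (powers in the group of A-valued points of At), then lam₁ = lam₂. (The published statement
claims uniqueness among all homomorphisms into the dual; on the square E × E of an elliptic curve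
with its product principal polarisation lam₀, the homomorphism α(x, y) = lam₀(y, −x) has lam₀ + α ≠
lam₀ while the graphs of k·lam₀ and k·(lam₀ + α) pull the Poincaré class back to isomorphic sheaves,
so this row asks lam₁, lam₂ to be polarisations, which is the case the printed argument covers; k =
0 is excluded since both pull backs are then along the unit section.) -/
theorem result (S : Scheme.{u}) [IsLocallyNoetherian S] (A At : Over S) [GrpObj A] [IsCommMonObj A]
    [GrpObj At] [IsCommMonObj At] (g : ℕ) (hA : AgPol.IsAbSch A g) (hproj : RelProj.IsProjective A.hom)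
    (φ : AgPol.DualMap A At) (hdual : AbDual.IsDualAV Scheme.fppfPrecoverage A At φ)
    (ξ : PicF.Cl (PicF.XT A.hom At)) (hξ : AbDual.IsPoincareCl A At φ ξ) (k : ℕ) (hk : 1 ≤ k)
    (lam₁ lam₂ : A ⟶ At) (h₁ : AgPol.IsPolarization A At φ lam₁) (h₂ : AgPol.IsPolarization A At φ lam₂)
    (heq : PicF.pullCl (pullback.lift (𝟙 A.left) (lam₁ ^ k).left ((Category.id_comp A.hom).trans (Over.w (lam₁ ^ k)).symm)) ξ = PicF.pullCl (pullback.lift (𝟙 A.left) (lam₂ ^ k).left ((Category.id_comp A.hom).trans (Over.w (lam₂ ^ k)).symm)) ξ) :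
    lam₁ = lam₂ := by
  haveI := hA.smooth
  haveI := hA.proper
  haveI := hA.geomConnected
  haveI := Groth.Agent.AV.geometricallyReduced_of_smooth A.hom
  haveI : IsMonHom lam₁ := h₁.1
  haveI : IsMonHom lam₂ := h₂.1
  have hi : ∀ {T : Over S} (a : T ⟶ A) (b : T ⟶ At), PicF.IsInvertibleCl (bil ξ a b) :=
    fun a b => PicLoc.isInvertibleCl_pullCl _ (isInvertibleCl_of_isPicZeroCl hξ.1)
  have hz : ∀ ν : A ⟶ At, AbDual.IsPicZeroCl A.hom A (lamCl ξ ν) ∧ φ A (lamCl ξ ν) = ν := fun ν => by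
    rw [lamCl, ← bil_whiskerLeft]
    exact ⟨isPicZeroCl_XTmap _ _ hξ.1, by rw [hdual.relPic.natural At A ν ξ hξ.1, hξ.2.1, Category.comp_id]⟩
  have hz' : ∀ (ν : A ⟶ At), AgPol.IsPolarization A At φ ν → ∀ j : ℕ,
      AbDual.IsPicZeroCl A.hom A (lamCl' ξ (ν ^ (j + 1))) ∧ φ A (lamCl' ξ (ν ^ (j + 1))) = ν ^ (j + 1) := by
    intro ν hν j
    have b0 := isPicZeroCl_lamCl' hdual hξ ν hν
    have b1 := map_lamCl' hdual hξ ν hν
    induction j with
    | zero => rw [zero_add, pow_one]; exact ⟨b0, b1⟩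
    | succ j ih =>
      have e : lamCl' ξ (ν ^ (j + 1 + 1)) = PicGrp.mulCl (lamCl' ξ (ν ^ (j + 1))) (lamCl' ξ ν) := by
        rw [lamCl', pow_succ _ (j + 1), MonObj.comp_mul, bil_mul_right hdual hξ]
      rw [e]
      exact ⟨isPicZeroCl_mulCl ih.1 b0, by rw [map_mulCl hdual ih.1 b0, ih.2, b1, ← pow_succ]⟩
  have hk0 : bil ξ (𝟙 A) (lam₁ ^ k) = bil ξ (𝟙 A) (lam₂ ^ k) := by
    have e : ∀ ν : A ⟶ At, (lift (𝟙 A) ν).left =
        pullback.lift (𝟙 A.left) ν.left ((Category.id_comp A.hom).trans (Over.w ν).symm) := fun ν => by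
      apply pullback.hom_ext
      · refine Eq.trans ?_ (pullback.lift_fst _ _ _).symm
        show (lift (𝟙 A) ν ≫ fst A At).left = _
        rw [lift_fst]; rfl
      · refine Eq.trans ?_ (pullback.lift_snd _ _ _).symm
        show (lift (𝟙 A) ν ≫ snd A At).left = _
        rw [lift_snd]
    rw [bil, bil, e, e]
    exact heq
  have hadd : ∀ (ν : A ⟶ At) [IsMonHom ν], (fst A A * snd A A) ≫ ν ^ k =
      (fst A A ≫ ν ^ k) * (snd A A ≫ ν ^ k) := fun ν _ => by
    rw [MonObj.comp_pow, MonObj.comp_pow, MonObj.comp_pow, MonObj.mul_comp, mul_pow]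
  have hexp : ∀ (ν : A ⟶ At) [IsMonHom ν], PicF.pullCl (fst A A * snd A A).left (bil ξ (𝟙 A) (ν ^ k)) =
      PicGrp.mulCl (PicGrp.mulCl (lamCl ξ (ν ^ k)) (lamCl' ξ (ν ^ k)))
        (PicGrp.mulCl (PicF.pullCl (fst A A).left (bil ξ (𝟙 A) (ν ^ k)))
          (PicF.pullCl (snd A A).left (bil ξ (𝟙 A) (ν ^ k)))) := fun ν _ => by
    rw [pullCl_bil, pullCl_bil, pullCl_bil, Category.comp_id, Category.comp_id, Category.comp_id, hadd,
      bil_mul_left hdual hξ, bil_mul_right hdual hξ, bil_mul_right hdual hξ]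
    simp only [lamCl, lamCl']
    generalize bil ξ (fst A A) (fst A A ≫ ν ^ k) = a, bil ξ (fst A A) (snd A A ≫ ν ^ k) = b,
      bil ξ (snd A A) (fst A A ≫ ν ^ k) = c, bil ξ (snd A A) (snd A A ≫ ν ^ k) = d
    show (a * b) * (c * d) = (b * c) * (a * d)
    ac_rfl
  have h12 : PicGrp.mulCl (lamCl ξ (lam₁ ^ k)) (lamCl' ξ (lam₁ ^ k)) =
      PicGrp.mulCl (lamCl ξ (lam₂ ^ k)) (lamCl' ξ (lam₂ ^ k)) := by
    refine mulCl_right_cancel (isInvertibleCl_mulCl (hi _ _) (hi _ _)) (isInvertibleCl_mulCl (hi _ _) (hi _ _))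
      (c := PicGrp.mulCl (PicF.pullCl (fst A A).left (bil ξ (𝟙 A) (lam₁ ^ k)))
        (PicF.pullCl (snd A A).left (bil ξ (𝟙 A) (lam₁ ^ k))))
      (isInvertibleCl_mulCl (PicLoc.isInvertibleCl_pullCl _ (hi _ _)) (PicLoc.isInvertibleCl_pullCl _ (hi _ _))) ?_
    rw [← hexp, hk0, hexp]
  obtain ⟨j, rfl⟩ : ∃ j, k = j + 1 := ⟨k - 1, by omega⟩
  have a1 := hz' lam₁ h₁ j
  have a2 := hz' lam₂ h₂ j
  have h := congrArg (φ A) h12
  rw [map_mulCl hdual (hz _).1 a1.1, map_mulCl hdual (hz _).1 a2.1, (hz _).2, (hz _).2, a1.2, a2.2, ← pow_add,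
    ← pow_add] at h
  obtain ⟨hsurj, -⟩ := Groth.L00.IsogDual.surjective_and_quasiFinite_pow A (j + 1 + (j + 1)) (by omega)
  haveI := hsurj
  haveI : ∀ n : ℕ, IsMonHom (𝟙 A ^ n) := fun n => {
    one_hom := by
      rw [MonObj.comp_pow, Category.comp_id, show (η[A] : 𝟙_ (Over S) ⟶ A) = 1 by
        rw [Hom.one_def, toUnit_unique (toUnit _) (𝟙 _), Category.id_comp], one_pow]
    mul_hom := by
      rw [MonObj.comp_pow, Category.comp_id, show (μ[A] : A ⊗ A ⟶ A) = fst A A * snd A A by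
        rw [Hom.mul_def, lift_fst_snd, Category.id_comp], mul_pow, show fst A A * snd A A = μ[A] by
        rw [Hom.mul_def, lift_fst_snd, Category.id_comp], ← lift_fst_comp_snd_comp, ← Hom.mul_def,
        MonObj.comp_pow, MonObj.comp_pow, Category.comp_id, Category.comp_id] }
  haveI : LocallyOfFinitePresentation A.hom := LocallyOfFinitePresentation.iff_locallyOfFiniteType.2 inferInstance
  haveI : Flat (𝟙 A ^ (j + 1 + (j + 1))).left :=
    (Groth.L08.FlatHom.flat_of_surjective_fibres A A (𝟙 A ^ (j + 1 + (j + 1)))).1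
  haveI : IsProper ((𝟙 A ^ (j + 1 + (j + 1))).left ≫ A.hom) := by rw [Over.w]; infer_instance
  haveI : IsProper (𝟙 A ^ (j + 1 + (j + 1))).left := IsProper.of_comp _ A.hom
  haveI : Epi (𝟙 A ^ (j + 1 + (j + 1))).left := Flat.epi_of_flat_of_surjective _
  refine Over.OverMorphism.ext ((cancel_epi (𝟙 A ^ (j + 1 + (j + 1))).left).1 ?_)
  rw [← Over.comp_left, ← Over.comp_left, MonObj.pow_comp, MonObj.pow_comp, Category.id_comp, Category.id_comp, h]

end Groth.Agent.S14160
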