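import Groth.Statements.S14164
import Groth.Agent.L26.Pic0.AmpleFibre
import Groth.Agent.L17.BC.GenApply
import Groth.Agent.L17.BC.Bc0

set_option autoImplicit false
universe u
open CategoryTheory CategoryTheory.Limits MonoidalCategory CartesianMonoidalCategory MonObj AlgebraicGeometry
open AgPol

namespace Groth.Agent.S14164

set_option backward.isDefEq.respectTransparency false

/-- Let S be a locally Noetherian scheme, A a projective abelian scheme over S of relative dimension g
with structure morphism π, and L an invertible module on A which is ample relative to π. Then R^i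
π_* L = 0 for every i ≥ 1 (right derived functors of the direct image on modules), and π_* L is a
finite locally free module on S. -/
theorem result (S : Scheme.{u}) [IsLocallyNoetherian S]
    (A : Over S) [GrpObj A] (g : ℕ) (hA : AgPol.IsAbSch A g) (hproj : RelProj.IsProjective A.hom)
    [HasInjectiveResolutions A.left.Modules]
    (L : A.left.Modules) (hL : PicF.IsInvertible L) (hample : RelAmple.IsRelAmple A.hom L) :
    (∀ i : ℕ, 1 ≤ i → IsZero ((Coh.Rpush A.hom i).obj L)) ∧
      FlatMod.IsFinLocFree ((Coh.push A.hom).obj L) := by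
  haveI := hA.smooth
  haveI := hA.proper
  haveI := hA.geomConnected
  haveI : LocallyOfFinitePresentation A.hom := inferInstance
  haveI : IsLocallyNoetherian A.left := LocallyOfFiniteType.isLocallyNoetherian A.hom
  haveI := Groth.L21.Extend.isQCoh_of_isInvertible hL
  have hfp := Groth.L15.Ref.isFP_of_isCoh (Groth.L18.Ample.isCoh_of_isInvertible hL)
  haveI : Flat A.hom := inferInstance
  have hfl := Groth.Agent.Pic0.isFlatOver_of_isInvertible A.hom hL
  have hv : ∀ s (j : ℕ), 0 < j → Subsingleton (CohIII.fiberH A.hom L s j) :=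
    fun s j hj => Groth.Agent.Pic0.subsingleton_fiberH_of_isRelAmple A L hample hL s j hj
  refine ⟨fun i hi => Groth.Agent.Pic0.isZero_of_forall_Γ fun W =>
    Groth.Agent.Pic0.subsingleton_Γ_of_restrict (U := (⊤ : S.Opens)) le_top
      (Groth.L17.BC.isZero_restrict_of_forall _ ⊤ fun y _ =>
        Groth.L17.BC.exists_isZero_of_vanishing A.hom L hfp hfl y i (hv y i hi)), ?_⟩
  obtain ⟨e⟩ := Groth.L17.BC.Classes.nonempty_Rpush_zero_iso A.hom L
  refine Groth.L29.LocFree.of_iso e fun y => ?_
  obtain ⟨U, hy, h⟩ := Groth.L17.BC.exists_free_of_vanishing A.hom L hfp hfl y 0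
    (fun q hq => absurd hq (Nat.succ_ne_zero q)) (hv y 1 one_pos)
  exact ⟨U, _, hy, h⟩

end Groth.Agent.S14164
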