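import Groth.Statements.S14170
import Groth.Agent.L04.FatPoints.Regular
import Mathlib.AlgebraicGeometry.Morphisms.FiniteType

set_option autoImplicit false
set_option linter.style.haveILetI false
universe u
open CategoryTheory CategoryTheory.Limits AlgebraicGeometry
open Variety

namespace Groth.Agent.S14170

open Groth.L04.FatPoints Groth.L04.KSh

/-- Let k be an algebraically closed field of characteristic zero (the published statement is over the
complex numbers; this row allows any algebraically closed field of characteristic zero), N ≥ 0, and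
i : X → P^N_k a closed immersion with X finite as a set, say with t points (a zero-dimensional
closed subscheme supported at t distinct points). Suppose μ : X → ℕ is such that for every point x
the maximal ideal of the local ring O_{X,x} satisfies m_x^(μ(x)+1) = 0 (so μ(x) bounds the largest
exponent with a nonzero power). Then H^1(P^N_k, I_X(j)) = 0 for every integer j ≥ Σ_x μ(x) + t - 1,
where I_X is the ideal sheaf of i viewed as an O-module; and I_X is (Σ_x μ(x) + t)-regular. -/
theorem result (k : Type u) [Field k] [IsAlgClosed k] [CharZero k]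
    (N : ℕ) (X : Scheme.{u}) (i : X ⟶ CohB1.ProjSpace N k) [IsClosedImmersion i] [Finite X]
    (μ : X → ℕ) (hμ : ∀ x : X, IsLocalRing.maximalIdeal (X.presheaf.stalk x) ^ (μ x + 1) = ⊥) :
    (∀ j : ℤ, (∑ᶠ x : X, (μ x : ℤ)) + (Nat.card X : ℤ) - 1 ≤ j →
      Subsingleton (Coh.HH (CohB1.ProjSpace N k)
        (CohB1.tensorMod (ClSub.idealMod i.ker) (Twist.twistProjSpace N k j)) 1)) ∧
    Curv2.IsMRegular k N (ClSub.idealMod i.ker) ((∑ᶠ x : X, (μ x : ℤ)) + (Nat.card X : ℤ)) := by
  classical
  haveI : IsProper ((CohB1.ProjSpace N k) ↘ Spec (CommRingCat.of k)) :=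
    inferInstanceAs (IsProper (CohB1.ProjSpace.toSpec N k))
  haveI : IsLocallyNoetherian (CohB1.ProjSpace N k) := inferInstance
  haveI : JacobsonSpace (CohB1.ProjSpace N k) :=
    LocallyOfFiniteType.jacobsonSpace (CohB1.ProjSpace.toSpec N k)
  haveI : Fintype X := Fintype.ofFinite X
  have hclR : IsClosed (Set.range i) := i.isClosedEmbedding.isClosed_range
  haveI : JacobsonSpace (Set.range i) := JacobsonSpace.of_isClosedEmbedding hclR.isClosedEmbedding_subtypeVal
  haveI : Finite (Set.range i) := (Set.finite_range i).to_subtype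
  have hcl : ∀ x : X, IsClosed ({i x} : Set (CohB1.ProjSpace N k)) := fun x => by
    have h := hclR.isClosedEmbedding_subtypeVal.isClosedMap _ (isClosed_discrete {(⟨i x, x, rfl⟩ : Set.range i)})
    rwa [Set.image_singleton] at h
  let e : (Σ x : X, Fin (μ x + 1)) ≃ Fin (∑ x, (μ x + 1)) :=
    Fintype.equivFinOfCardEq (by simp)
  let p : Fin (∑ x, (μ x + 1)) → CohB1.ProjSpace N k := fun j => i (e.symm j).1
  have hreg := regular_prodPoints p fun j => hcl _
  let J := prodPoints p fun j => hcl (e.symm j).1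
  have hJ : J = ∏ x : X, Scheme.IdealSheafData.vanishingIdeal (⟨{i x}, hcl x⟩ : TopologicalSpace.Closeds _) ^ (μ x + 1) := by
    show ∏ j, Scheme.IdealSheafData.vanishingIdeal (⟨{i (e.symm j).1}, _⟩ : TopologicalSpace.Closeds _) = _
    rw [Equiv.prod_comp e.symm (fun s : Σ x : X, Fin (μ x + 1) =>
      Scheme.IdealSheafData.vanishingIdeal (⟨{i s.1}, hcl s.1⟩ : TopologicalSpace.Closeds _)),
      Fintype.prod_sigma]
    refine Finset.prod_congr rfl fun x _ => ?_
    show ∏ _y : Fin (μ x + 1), Scheme.IdealSheafData.vanishingIdeal (⟨{i x}, hcl x⟩ : TopologicalSpace.Closeds _) = _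
    rw [Finset.prod_const, Finset.card_univ, Fintype.card_fin]
  have hstalk : ∀ (y : CohB1.ProjSpace N k) (V : (CohB1.ProjSpace N k).Opens) (hV : IsAffineOpen V) (hy : y ∈ V),
      (J.ideal ⟨V, hV⟩).map ((CohB1.ProjSpace N k).presheaf.germ V y hy).hom =
        ∏ x : X, ((Scheme.IdealSheafData.vanishingIdeal (⟨{i x}, hcl x⟩ : TopologicalSpace.Closeds _)).ideal ⟨V, hV⟩).map
          ((CohB1.ProjSpace N k).presheaf.germ V y hy).hom ^ (μ x + 1) := by
    intro y V hV hy
    rw [hJ]
    have : ∀ s : Finset X, ((∏ x ∈ s, Scheme.IdealSheafData.vanishingIdeal (⟨{i x}, hcl x⟩ : TopologicalSpace.Closeds _) ^ (μ x + 1)).ideal ⟨V, hV⟩).map ((CohB1.ProjSpace N k).presheaf.germ V y hy).hom =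
        ∏ x ∈ s, ((Scheme.IdealSheafData.vanishingIdeal (⟨{i x}, hcl x⟩ : TopologicalSpace.Closeds _)).ideal ⟨V, hV⟩).map
          ((CohB1.ProjSpace N k).presheaf.germ V y hy).hom ^ (μ x + 1) := fun s => by
      induction s using Finset.induction_on with
      | empty => simp [Ideal.map_top]
      | insert a s ha ih => simp [Finset.prod_insert ha, Ideal.map_mul, Ideal.map_pow, ih]
    exact this Finset.univ
  have hle : ∀ V : (CohB1.ProjSpace N k).affineOpens, J.ideal V ≤ i.ker.ideal V := by
    intro V a ha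
    rw [Scheme.Hom.ker_apply, RingHom.mem_ker]
    refine TopCat.Presheaf.section_ext X.sheaf (i ⁻¹ᵁ V.1) _ _ fun x hx => ?_
    show X.presheaf.germ (i ⁻¹ᵁ V.1) x hx (i.app V.1 a) = X.presheaf.germ (i ⁻¹ᵁ V.1) x hx 0
    rw [map_zero]
    refine (Scheme.Hom.germ_stalkMap_apply i V.1 x hx a).symm.trans ?_
    have h1 : (CohB1.ProjSpace N k).presheaf.germ V.1 (i x) hx a ∈
        IsLocalRing.maximalIdeal ((CohB1.ProjSpace N k).presheaf.stalk (i x)) ^ (μ x + 1) := by
      have h2 := Ideal.mem_map_of_mem ((CohB1.ProjSpace N k).presheaf.germ V.1 (i x) hx).hom ha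
      rw [hstalk (i x) V.1 V.2 hx, ← Finset.mul_prod_erase _ _ (Finset.mem_univ x),
        Groth.L21.RR.map_vanishingIdeal_point (hcl x) V.2 hx] at h2
      exact Ideal.mul_le_left h2
    have h3 := Ideal.mem_map_of_mem (i.stalkMap x).hom h1
    rw [Ideal.map_pow] at h3
    exact Ideal.mem_bot.1 ((hμ x) ▸ Ideal.pow_right_mono (IsLocalRing.map_maximalIdeal_le (i.stalkMap x).hom) _ h3)
  haveI := mono_inclMap hle
  have hsupp : topologicalKrullDim (CohB1.support (cokernel (inclMap hle))) ≤ 0 := by
    refine support_dim_le_zero (Set.finite_range i) (by rintro _ ⟨x, rfl⟩; exact hcl x) fun y hy => ?_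
    obtain ⟨V, hV, hyV, -⟩ := exists_isAffineOpen_mem_and_subset (x := y)
      (U := (⊤ : (CohB1.ProjSpace N k).Opens)) trivial
    refine subsingleton_stalk_cokernel _ (surjective_st_inclMap hle hV hyV ?_)
    rw [hstalk y V hV hyV, Finset.prod_eq_one fun x _ => ?_]
    · exact Ideal.one_eq_top (R := (CohB1.ProjSpace N k).presheaf.stalk y) ▸ le_top
    · rw [map_vanishingIdeal_ne (hcl x) (fun h => hy ⟨x, h.symm⟩) hV hyV, Ideal.top_pow, Ideal.one_eq_top]
  have hI := Groth.L21.RR.isCoh_idealMod i.ker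
  have hC := (Groth.L16.CohKernel.isCoh_kernel_cokernel (Groth.L21.RR.isCoh_idealMod J) hI (inclMap hle)).2
  have hS : (ShortComplex.mk (inclMap hle) (cokernel.π (inclMap hle)) (cokernel.condition _)).ShortExact :=
    { exact := ShortComplex.exact_cokernel _ }
  have hI' : Groth.L22.Reg.Regular (ClSub.idealMod i.ker) ((∑ᶠ x : X, (μ x : ℤ)) + (Nat.card X : ℤ)) := by
    have hm : (∑ᶠ x : X, (μ x : ℤ)) + (Nat.card X : ℤ) = ((∑ x, (μ x + 1) : ℕ) : ℤ) := by
      rw [finsum_eq_sum_of_fintype, Nat.card_eq_fintype_card]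
      push_cast
      simp [Finset.sum_add_distrib]
    rw [hm]
    exact fun q hq => Groth.L22.Reg.Regular.subsingleton_mid hS (hreg q hq)
      (Groth.L22.Reg.subsingleton_tw_of_support_le_zero hC hsupp _ hq)
  exact ⟨fun j hj => hI'.subsingleton le_rfl (by simpa using hj), fun q hq _ => hI' q hq⟩

end Groth.Agent.S14170
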