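import Groth.Statements.S14173
import Groth.Agent.L22.Reg.Seq
import Groth.Agent.L16.CohKernel
-- import your own Groth.Agent.* helpers here

set_option autoImplicit false
universe u
open CategoryTheory CategoryTheory.Limits AlgebraicGeometry
open Variety

namespace Groth.Agent.S14173

/-- Let k be an algebraically closed field of characteristic zero (the published statement is over the
complex numbers; this row allows any algebraically closed field of characteristic zero) and 0 → F₁ →
F₂ → F₃ → 0 a short exact sequence of coherent modules on P^n_k. If F₁ and F₃ are m-regular then so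
is F₂; equivalently reg F₂ ≤ max(reg F₁, reg F₃). -/
theorem result (k : Type u) [Field k] [IsAlgClosed k] [CharZero k]
    (n : ℕ) (S : ShortComplex (CohB1.ProjSpace n k).Modules) (hS : S.ShortExact)
    (h₁ : Coh.IsCoh S.X₁) (h₂ : Coh.IsCoh S.X₂) (h₃ : Coh.IsCoh S.X₃) (m : ℤ)
    (hreg₁ : Curv2.IsMRegular k n S.X₁ m) (hreg₃ : Curv2.IsMRegular k n S.X₃ m) :
    Curv2.IsMRegular k n S.X₂ m := by
  haveI : Coh.IsQCoh S.X₁ := h₁.1
  haveI : Coh.IsQCoh S.X₃ := h₃.1
  exact fun q hq _ => Groth.L22.Reg.Regular.of_outer hS (Groth.L22.Reg.regular_of_le_n hreg₁)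
    (Groth.L22.Reg.regular_of_le_n hreg₃) q hq

end Groth.Agent.S14173
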