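import Groth.Statements.S14175
import Mathlib.RepresentationTheory.Coinvariants
import Mathlib.GroupTheory.OrderOfElement
import Mathlib.GroupTheory.SpecificGroups.Cyclic
import Mathlib.Tactic

set_option autoImplicit false
universe u v w
open GalCoh

namespace Groth.Agent.S14175

/-- Let G be a finite cyclic group generated by t, let m be a natural number dividing the order of G,
and let ρ be a linear representation of G on a module V over a commutative ring k such that m·V = 0
and every element of G whose m-th power is the identity acts trivially on V. Then evaluating a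
crossed homomorphism at t induces a bijection from the first cohomology of G with values in V
(crossed homomorphisms f, i.e. f(gh) = ρ(g)f(h) + f(g), modulo the principal ones g ↦ ρ(g)x − x)
onto the coinvariants V_G (the quotient of V by the span of all ρ(g)v − v): the class of f(t) in V_G
vanishes exactly when f is principal, and every class of V_G is the class of f(t) for some crossed
homomorphism f. The bijection depends on the choice of the generator t. -/
theorem result
    {k : Type u} {G : Type v} {V : Type w} [CommRing k] [Group G] [Finite G]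
    [AddCommGroup V] [Module k V] (ρ : Representation k G V)
    (t : G) (ht : ∀ g : G, g ∈ Subgroup.zpowers t)
    (m : ℕ) (hm : m ∣ Nat.card G) (htors : ∀ v : V, m • v = 0)
    (htriv : ∀ g : G, g ^ m = 1 → ∀ v : V, ρ g v = v) :
    (∀ f : G → V, (∀ g h : G, f (g * h) = ρ g (f h) + f g) →
        (Representation.Coinvariants.mk ρ (f t) = 0 ↔ ∃ x : V, ∀ g : G, f g = ρ g x - x)) ∧
    (∀ v : V, ∃ f : G → V, (∀ g h : G, f (g * h) = ρ g (f h) + f g) ∧
        Representation.Coinvariants.mk ρ (f t) = Representation.Coinvariants.mk ρ v) := by
  classical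
  have hpow : ∀ g : G, ∃ i : ℕ, g = t ^ i := fun g => by
    obtain ⟨i, hi⟩ := (mem_powers_iff_mem_zpowers).mpr (ht g)
    exact ⟨i, hi.symm⟩
  have hρpow : ∀ i j : ℕ, ∀ v, ρ (t ^ (i + j)) v = ρ (t ^ i) (ρ (t ^ j) v) := fun i j v => by
    rw [pow_add, map_mul]; rfl
  refine ⟨fun f hf => ⟨fun h0 => ?_, fun ⟨x, hx⟩ => ?_⟩, fun v => ?_⟩
  · -- a class vanishing in the coinvariants comes from a principal crossed homomorphism
    obtain ⟨x, hx⟩ : ∃ x : V, f t = ρ t x - x := by
      have hker : Representation.Coinvariants.ker ρ ≤ LinearMap.range (ρ t - LinearMap.id) := by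
        rw [Representation.Coinvariants.ker, Submodule.span_le]
        rintro _ ⟨⟨g, w⟩, rfl⟩
        obtain ⟨i, rfl⟩ := hpow g
        refine ⟨∑ l ∈ Finset.range i, ρ (t ^ l) w, ?_⟩
        change (ρ t) (∑ l ∈ Finset.range i, ρ (t ^ l) w) - ∑ l ∈ Finset.range i, ρ (t ^ l) w = ρ (t ^ i) w - w
        rw [map_sum, ← Finset.sum_sub_distrib]
        have : ∀ l, ρ t (ρ (t ^ l) w) = ρ (t ^ (l + 1)) w := fun l => by rw [pow_succ', map_mul]; rfl
        simp only [this]
        rw [Finset.sum_range_sub (fun l => ρ (t ^ l) w), pow_zero, map_one]
        rfl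
      obtain ⟨x, hx⟩ := hker ((Representation.Coinvariants.mk_eq_zero ρ).mp h0)
      exact ⟨x, hx.symm⟩
    refine ⟨x, fun g => ?_⟩
    obtain ⟨i, rfl⟩ := hpow g
    induction i with
    | zero =>
      have h1 := hf 1 1
      rw [mul_one, map_one] at h1
      rw [pow_zero, map_one]
      change f 1 = x - x
      rw [sub_self]
      simpa using h1
    | succ i ih =>
      rw [pow_succ', hf, ih, hx, map_sub, map_mul]
      change ρ t (ρ (t ^ i) x) - ρ t x + (ρ t x - x) = ρ t (ρ (t ^ i) x) - x
      abel
  · rw [hx]
    exact (Representation.Coinvariants.mk_eq_zero ρ).mpr (Representation.Coinvariants.sub_mem_ker t x)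
  · -- existence
    set n := orderOf t with hn
    have hcard : n = Nat.card G := orderOf_eq_card_of_forall_mem_zpowers ht
    obtain ⟨e, he⟩ := hm
    let F : ℕ → V := fun i => ∑ l ∈ Finset.range i, ρ (t ^ l) v
    have hFadd : ∀ i j, F (i + j) = ρ (t ^ i) (F j) + F i := fun i j => by
      simp only [F, Finset.sum_range_add, map_sum, hρpow]
      exact add_comm _ _
    have htn : t ^ n = 1 := pow_orderOf_eq_one t
    have hNzero : F n = 0 := by
      have hblock : ∀ c : ℕ, F (e * c) = c • F e := fun c => by
        induction c with
        | zero => simp [F]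
        | succ c ih =>
          rw [mul_add, mul_one, hFadd, ih, htriv _ (by rw [← pow_mul, show e * c * m = n * c by rw [hcard, he]; ring,
            pow_mul, htn, one_pow]), succ_nsmul, add_comm]
      rw [show n = e * m by rw [hcard, he, mul_comm], hblock, htors]
    have hper : ∀ i, F (i % n) = F i := fun i => by
      conv_rhs => rw [← Nat.mod_add_div i n]
      induction i / n with
      | zero => simp
      | succ c ih => rw [show i % n + n * (c + 1) = (i % n + n * c) + n by ring, hFadd, hNzero, map_zero, zero_add, ih]
    choose idx hidx using hpow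
    refine ⟨fun g => F (idx g), fun g h => ?_, ?_⟩
    · dsimp only
      have hmod : idx (g * h) % n = (idx g + idx h) % n := by
        refine pow_eq_pow_iff_modEq.mp ?_
        rw [pow_add, ← hidx, ← hidx, ← hidx]
      rw [← hper, hmod, hper, hFadd, ← hidx g]
    · have hmod : idx t % n = 1 % n := pow_eq_pow_iff_modEq.mp (by rw [← hidx, pow_one])
      dsimp only
      rw [← hper, hmod, hper]
      simp [F]

end Groth.Agent.S14175
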