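import Groth.Statements.S14176
import Mathlib.GroupTheory.FiniteAbelian.Duality
import Mathlib.GroupTheory.Finiteness
import Mathlib.GroupTheory.SpecificGroups.Cyclic
import Mathlib.RingTheory.RootsOfUnity.Complex
import Mathlib.RingTheory.RootsOfUnity.AlgebraicallyClosed
import Mathlib.Topology.Algebra.Group.Quotient
import Mathlib.Topology.Algebra.Group.ClosedSubgroup
import Mathlib.Analysis.Complex.Polynomial.Basic

set_option autoImplicit false
universe u
open Pi1
open scoped commutatorElement

namespace Groth.Agent.S14176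

theorem nonempty_hom_zmod_equiv (B : Type u) [CommGroup B] [Finite B] (n : ℕ) [NeZero n]
    (hB : ∀ b : B, b ^ n = 1) :
    Nonempty ((B →* Multiplicative (ZMod n)) ≃* B) ∧
      ∀ b : B, b ≠ 1 → ∃ χ : B →* Multiplicative (ZMod n), χ b ≠ 1 := by
  haveI : NeZero (Monoid.exponent B) := ⟨Monoid.exponent_ne_zero_of_finite⟩
  haveI : IsCyclic (rootsOfUnity n ℂ) := inferInstance
  let e : Multiplicative (ZMod n) ≃* rootsOfUnity n ℂ := mulEquivOfCyclicCardEq (by
    rw [Nat.card_congr Multiplicative.toAdd, Nat.card_zmod]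
    exact (Complex.card_rootsOfUnity n).symm)
  let i : Multiplicative (ZMod n) →* ℂˣ := (rootsOfUnity n ℂ).subtype.comp e.toMonoidHom
  have hi : Function.Injective i := Subtype.val_injective.comp e.injective
  have hroot : ∀ (χ : B →* ℂˣ) (b : B), χ b ∈ rootsOfUnity n ℂ := fun χ b => by
    rw [mem_rootsOfUnity, ← map_pow, hB, map_one]
  let E : (B →* Multiplicative (ZMod n)) ≃* (B →* ℂˣ) :=
    { toFun := fun χ => i.comp χ
      invFun := fun χ => e.symm.toMonoidHom.comp (χ.codRestrict _ (hroot χ))
      left_inv := fun χ => MonoidHom.ext fun b => hi (by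
        show ((e (e.symm ⟨_, _⟩) : rootsOfUnity n ℂ) : ℂˣ) = _
        rw [MulEquiv.apply_symm_apply]; rfl)
      right_inv := fun χ => MonoidHom.ext fun b => by
        show ((e (e.symm ⟨_, _⟩) : rootsOfUnity n ℂ) : ℂˣ) = _
        rw [MulEquiv.apply_symm_apply]
      map_mul' := fun χ ψ => MonoidHom.ext fun b => map_mul i _ _ }
  refine ⟨⟨E.trans (CommGroup.monoidHom_mulEquiv_of_hasEnoughRootsOfUnity B ℂ).some⟩, fun b hb => ?_⟩
  obtain ⟨χ, hχ⟩ := CommGroup.exists_apply_ne_one_of_hasEnoughRootsOfUnity B ℂ hb
  refine ⟨E.symm χ, fun h => hχ ?_⟩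
  have := congrArg (fun f : B →* ℂˣ => f b) (E.apply_symm_apply χ)
  exact this.symm.trans ((congrArg i h).trans (map_one i))

open W4c1etcurveeff2 in
/-- Let G be a topological group in which some finite subset generates a dense subgroup, let n ≥ 1, and
let S be the closure of the subgroup generated by all n-th powers and all commutators. Write D for
the group of continuous homomorphisms from G to the discrete cyclic group ℤ/n, that is,
homomorphisms with open kernel (the first cohomology of G with coefficients in the trivial module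
ℤ/n), and D^∨ for its ℤ/n-dual, the group of homomorphisms D → ℤ/n. Then: S is carried onto itself
by every group automorphism of G that is a homeomorphism; an element g of G lies in S exactly when
every element of D kills g, and every element of D^∨ is evaluation at some element of G, so that
evaluation identifies G/S with D^∨; and S is the only closed normal subgroup H of G with G/H
isomorphic to D^∨. (The published statement is for a topologically finitely generated group, calls S
characteristic and does not restrict the competing subgroups H; this row asks the automorphisms to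
be homeomorphisms and H to be closed, which is what the argument uses: for the integers with the
p-adic topology times a cyclic group of prime order q ≠ p, the subgroup qℤ × ℤ/q is normal, not
closed, and has quotient isomorphic to D^∨ ≅ ℤ/q, while S = ℤ × 0.) -/
theorem result
    {G : Type u} [Group G] [TopologicalSpace G] [IsTopologicalGroup G]
    (s : Finset G) (hs : Dense ((Subgroup.closure (s : Set G) : Subgroup G) : Set G))
    (n : ℕ) [NeZero n] (S : Subgroup G) (hS : S = powCommClosure G n) :
    (∀ φ : G ≃* G, Continuous φ → Continuous φ.symm → S.map φ.toMonoidHom = S) ∧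
    (∀ g : G, g ∈ S ↔
        ∀ χ : G →* Multiplicative (ZMod n), IsOpen ((χ.ker : Subgroup G) : Set G) → χ g = 1) ∧
    (∀ F : ContChar G n →* Multiplicative (ZMod n), ∃ g : G,
        ∀ χ : ContChar G n, F χ = (χ.1 : G →* Multiplicative (ZMod n)) g) ∧
    (∀ (H : Subgroup G) [H.Normal], IsClosed (H : Set G) →
        Nonempty (G ⧸ H ≃* (ContChar G n →* Multiplicative (ZMod n))) → H = S) := by
  have hle : Subgroup.closure (Set.range fun g : G => g ^ n) ⊔ commutator G ≤ S :=
    hS ▸ Subgroup.le_topologicalClosure _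
  have hpow : ∀ g : G, g ^ n ∈ S := fun g =>
    hle (Subgroup.mem_sup_left (Subgroup.subset_closure ⟨g, rfl⟩))
  have hcomm : ∀ a b : G, ⁅a, b⁆ ∈ S := fun a b =>
    hle (Subgroup.mem_sup_right (Subgroup.commutator_mem_commutator (Subgroup.mem_top a) (Subgroup.mem_top b)))
  have hclosed : IsClosed (S : Set G) := hS ▸ Subgroup.isClosed_topologicalClosure _
  have hmin : ∀ (T : Subgroup G), IsClosed (T : Set G) → (∀ g, g ^ n ∈ T) → (∀ a b, ⁅a, b⁆ ∈ T) →
      S ≤ T := fun T hT h1 h2 => hS ▸ Subgroup.topologicalClosure_minimal _ (sup_le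
    ((Subgroup.closure_le _).2 (Set.range_subset_iff.2 h1))
    (Subgroup.commutator_le.2 fun a _ b _ => h2 a b)) hT
  haveI hN : S.Normal := ⟨fun h hh g => by
    have : g * h * g⁻¹ = ⁅g, h⁆ * h := by simp [commutatorElement_def, mul_assoc]
    rw [this]; exact S.mul_mem (hcomm g h) hh⟩
  letI : CommGroup (G ⧸ S) :=
    { (inferInstance : Group (G ⧸ S)) with
      mul_comm := fun a b => by
        obtain ⟨a, rfl⟩ := QuotientGroup.mk_surjective a
        obtain ⟨b, rfl⟩ := QuotientGroup.mk_surjective b
        rw [← QuotientGroup.mk_mul, ← QuotientGroup.mk_mul, QuotientGroup.eq]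
        have : (a * b)⁻¹ * (b * a) = ⁅b⁻¹, a⁻¹⁆ := by simp [commutatorElement_def, mul_assoc]
        rw [this]; exact hcomm _ _ }
  have hA : ∀ a : G ⧸ S, a ^ n = 1 := fun a => by
    obtain ⟨a, rfl⟩ := QuotientGroup.mk_surjective a
    rw [← QuotientGroup.mk_pow]; exact (QuotientGroup.eq_one_iff _).2 (hpow a)
  haveI : IsClosed (S : Set G) := hclosed
  haveI hfin : Finite (G ⧸ S) := by
    let K : Subgroup (G ⧸ S) := (Subgroup.closure (s : Set G)).map (QuotientGroup.mk' S)
    haveI : Group.FG (Subgroup.closure (s : Set G)) := (Group.fg_iff_subgroup_fg _).2 ⟨s, rfl⟩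
    haveI : Group.FG K :=
      Group.fg_of_surjective ((QuotientGroup.mk' S).subgroupMap_surjective _)
    haveI : Finite K := CommGroup.finite_of_fg_isMulTorsion K (IsMulTorsion.subgroup (fun a =>
      isOfFinOrder_iff_pow_eq_one.2 ⟨n, NeZero.pos n, hA a⟩) K)
    have hd : Dense (K : Set (G ⧸ S)) := by
      rw [Subgroup.coe_map]
      exact QuotientGroup.mk_surjective.denseRange.dense_image continuous_quot_mk hs
    have : (K : Set (G ⧸ S)) = Set.univ :=
      (Set.toFinite (K : Set (G ⧸ S))).isClosed.closure_eq.symm.trans hd.closure_eq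
    exact Set.finite_univ_iff.1 (this ▸ Set.toFinite (K : Set (G ⧸ S)))
  haveI : S.FiniteIndex := Subgroup.finiteIndex_of_finite_quotient
  have hopen : IsOpen (S : Set G) := Subgroup.isOpen_of_isClosed_of_finiteIndex S hclosed
  have hkill : ∀ χ : G →* Multiplicative (ZMod n), IsOpen ((χ.ker : Subgroup G) : Set G) → S ≤ χ.ker := by
    intro χ hχ
    refine hmin _ (Subgroup.isClosed_of_isOpen _ hχ) (fun g => ?_) fun a b => ?_
    · rw [MonoidHom.mem_ker, map_pow]
      apply Multiplicative.toAdd.injective
      rw [toAdd_pow, toAdd_one, nsmul_eq_mul, ZMod.natCast_self, zero_mul]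
    · rw [MonoidHom.mem_ker, map_commutatorElement, commutatorElement_eq_one_iff_commute]
      exact Commute.all _ _
  obtain ⟨⟨e₁⟩, hsep⟩ := nonempty_hom_zmod_equiv (G ⧸ S) n hA
  have hmem : ∀ g : G, g ∈ S ↔
      ∀ χ : G →* Multiplicative (ZMod n), IsOpen ((χ.ker : Subgroup G) : Set G) → χ g = 1 := by
    refine fun g => ⟨fun hg χ hχ => hkill χ hχ hg, fun h => ?_⟩
    by_contra hg
    obtain ⟨ψ, hψ⟩ := hsep (QuotientGroup.mk g) (mt (QuotientGroup.eq_one_iff g).1 hg)
    refine hψ (h (ψ.comp (QuotientGroup.mk' S)) (Subgroup.isOpen_mono (H₁ := S) (fun x hx => ?_) hopen))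
    rw [MonoidHom.mem_ker, MonoidHom.comp_apply, QuotientGroup.mk'_apply, (QuotientGroup.eq_one_iff x).2 hx, map_one]
  let Φ : (G ⧸ S →* Multiplicative (ZMod n)) ≃* ContChar G n :=
    { toFun := fun ψ => ⟨ψ.comp (QuotientGroup.mk' S), Subgroup.isOpen_mono (H₁ := S) (fun x hx => by
        rw [MonoidHom.mem_ker, MonoidHom.comp_apply, QuotientGroup.mk'_apply,
          (QuotientGroup.eq_one_iff x).2 hx, map_one]) hopen⟩
      invFun := fun χ => QuotientGroup.lift S χ.1 (hkill χ.1 χ.2)
      left_inv := fun ψ => QuotientGroup.monoidHom_ext _ (MonoidHom.ext fun x => rfl)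
      right_inv := fun χ => Subtype.ext (MonoidHom.ext fun x => rfl)
      map_mul' := fun ψ ψ' => Subtype.ext (MonoidHom.ext fun x => rfl) }
  haveI : Finite (G ⧸ S →* Multiplicative (ZMod n)) := Finite.of_equiv _ e₁.toEquiv.symm
  haveI : Finite (ContChar G n) := Finite.of_equiv _ Φ.toEquiv
  have hD : ∀ χ : ContChar G n, χ ^ n = 1 := fun χ => Φ.symm.injective (e₁.injective (by
    rw [map_pow, map_pow, hA, map_one, map_one]))
  obtain ⟨⟨e₂⟩, -⟩ := nonempty_hom_zmod_equiv (ContChar G n) n hD
  let ev : G ⧸ S → (ContChar G n →* Multiplicative (ZMod n)) := fun a =>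
    { toFun := fun χ => Φ.symm χ a
      map_one' := by rw [map_one]; rfl
      map_mul' := fun χ χ' => by rw [map_mul]; rfl }
  have hev : Function.Injective ev := by
    intro a b hab
    by_contra hne
    obtain ⟨ψ, hψ⟩ := hsep (a / b) (fun h => hne (div_eq_one.1 h))
    refine hψ ?_
    have := DFunLike.congr_fun hab (Φ ψ)
    simp only [ev, MonoidHom.coe_mk, OneHom.coe_mk, MulEquiv.symm_apply_apply] at this
    rw [map_div, this, div_self']
  haveI : Finite (ContChar G n →* Multiplicative (ZMod n)) := Finite.of_equiv _ e₂.toEquiv.symm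
  have e₃ : (G ⧸ S) ≃* (ContChar G n →* Multiplicative (ZMod n)) := e₁.symm.trans (Φ.trans e₂.symm)
  have hevs : Function.Surjective ev :=
    (hev.bijective_of_nat_card_le (Nat.card_congr e₃.toEquiv).ge).2
  refine ⟨fun φ hφ hφ' => ?_, hmem, fun F => ?_, fun H _ hH he => ?_⟩
  · ext g
    rw [Subgroup.mem_map_equiv, hmem, hmem]
    have key : ∀ (ρ : G ≃* G), Continuous ρ → ∀ χ : G →* Multiplicative (ZMod n),
        IsOpen ((χ.ker : Subgroup G) : Set G) →
        IsOpen (((χ.comp ρ.toMonoidHom).ker : Subgroup G) : Set G) := fun ρ hρ χ h => h.preimage hρ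
    constructor
    · intro h χ hχ
      have := h (χ.comp φ.toMonoidHom) (key φ hφ χ hχ)
      rwa [MonoidHom.comp_apply, MulEquiv.coe_toMonoidHom, MulEquiv.apply_symm_apply] at this
    · intro h χ hχ
      exact h (χ.comp φ.symm.toMonoidHom) (key φ.symm hφ' χ hχ)
  · obtain ⟨a, rfl⟩ := hevs F
    obtain ⟨g, rfl⟩ := QuotientGroup.mk_surjective a
    exact ⟨g, fun χ => rfl⟩
  · obtain ⟨f⟩ := he
    let e : (G ⧸ H) ≃* (G ⧸ S) := f.trans e₃.symm
    have hSH : S ≤ H := hmin H hH
      (fun g => (QuotientGroup.eq_one_iff _).1 (e.injective (by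
        rw [QuotientGroup.mk_pow, map_pow, hA, map_one])))
      fun a b => (QuotientGroup.eq_one_iff _).1 (e.injective (by
        rw [← QuotientGroup.mk'_apply, map_commutatorElement, map_commutatorElement, map_one]
        exact commutatorElement_eq_one_iff_commute.2 (Commute.all _ _)))
    have hidx : H.index = S.index := Nat.card_congr e.toEquiv
    refine le_antisymm (Subgroup.relIndex_eq_one.1 ?_) hSH
    have := Subgroup.relIndex_mul_index hSH
    rw [hidx] at this
    exact (Nat.mul_eq_right Subgroup.FiniteIndex.index_ne_zero).1 this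

end Groth.Agent.S14176
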