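import Groth.Statements.S14177
import Mathlib.RingTheory.DedekindDomain.Different
import Mathlib.RingTheory.Flat.TorsionFree
import Mathlib.RingTheory.Smooth.Fiber
import Mathlib.RingTheory.Finiteness.ModuleFinitePresentation
import Mathlib.FieldTheory.SeparableDegree
import Mathlib.Tactic.LinearCombination

set_option autoImplicit false
universe u v w
open scoped nonZeroDivisors
open EtAlg

namespace Groth.Agent.S14177

/-- Let A be a Dedekind domain with fraction field K, let n be a natural number invertible in A, let f
be a nonzero element of K whose principal fractional ideal is the n-th power of a fractional ideal I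
(the divisor of f is n times a divisor), and let L = K(α) be a field extension of K generated by a
single element α with α^n = f. Then the integral closure of A in L is finite and étale over A. (The
published statement is for the normalisation of an integral smooth curve over a perfect field in
such an extension of its function field; this row states the same for any Dedekind domain, the case
the local argument covers.) -/
theorem result
    {A : Type u} {K : Type v} {L : Type w} [CommRing A] [IsDedekindDomain A]
    [Field K] [Algebra A K] [IsFractionRing A K]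
    [Field L] [Algebra K L] [Algebra A L] [IsScalarTower A K L]
    (n : ℕ) (hn : IsUnit (n : A)) (f : K) (hf : f ≠ 0)
    (I : FractionalIdeal A⁰ K) (hI : FractionalIdeal.spanSingleton A⁰ f = I ^ n)
    (α : L) (hα : α ^ n = algebraMap K L f) (hgen : IntermediateField.adjoin K {α} = ⊤) :
    Algebra.Etale A (integralClosure A L) ∧ Module.Finite A (integralClosure A L) := by
  open Polynomial in
  classical
  have hn0 : n ≠ 0 := fun h => not_isUnit_zero (M₀ := A) (by simpa [h] using hn)
  have hnK : (n : K) ≠ 0 := by
    have := hn.map (algebraMap A K)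
    rw [map_natCast] at this
    exact this.ne_zero
  have hα0 : α ≠ 0 := fun h => hf ((algebraMap K L).injective (by
    rw [map_zero, ← hα, h, zero_pow hn0]))
  have hαint : IsIntegral K α := ⟨X ^ n - C f, monic_X_pow_sub_C f hn0, by simp [hα]⟩
  haveI : FiniteDimensional K L := by
    haveI := IntermediateField.adjoin.finiteDimensional hαint
    haveI : FiniteDimensional K (⊤ : IntermediateField K L) := hgen ▸ this
    exact Module.Finite.equiv IntermediateField.topEquiv.toLinearEquiv
  haveI : Algebra.IsSeparable K L := by
    have hsep : IsSeparable K α := (separable_X_pow_sub_C f hnK hf).of_dvd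
      (minpoly.dvd K α (by simp [hα]))
    have := (IntermediateField.isSeparable_adjoin_simple_iff_isSeparable K L).mpr hsep
    haveI : Algebra.IsSeparable K (⊤ : IntermediateField K L) := hgen ▸ this
    exact AlgEquiv.Algebra.isSeparable (IntermediateField.topEquiv : (⊤ : IntermediateField K L) ≃ₐ[K] L)
  haveI : FaithfulSMul A L := (faithfulSMul_iff_algebraMap_injective A L).mpr (by
    rw [IsScalarTower.algebraMap_eq A K L]
    exact (algebraMap K L).injective.comp (IsFractionRing.injective A K))
  let B := integralClosure A L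
  haveI hfin : Module.Finite A B := IsIntegralClosure.finite A K L B
  refine ⟨?_, hfin⟩
  haveI : Module.FinitePresentation A B := Module.finitePresentation_of_finite A B
  haveI : Algebra.FinitePresentation A B := Algebra.FinitePresentation.of_finitePresentation A B
  haveI : Module.IsTorsionFree A L :=
    Module.isTorsionFree_iff_algebraMap_injective.mpr (FaithfulSMul.algebraMap_injective A L)
  haveI : Module.Flat A B := inferInstance
  suffices Algebra.FormallyUnramified A B from Algebra.Etale.of_formallyUnramified_of_flat
  refine ⟨subsingleton_of_forall_eq 0 fun ω => ?_⟩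
  suffices hall : Submodule.span B (Set.range (KaehlerDifferential.D A B)) ≤ ⊥ from
    (Submodule.mem_bot B).mp (hall (by rw [KaehlerDifferential.span_range_derivation]; trivial))
  rw [Submodule.span_le]
  rintro _ ⟨b, rfl⟩
  simp only [SetLike.mem_coe, Submodule.mem_bot]
  let d := KaehlerDifferential.D A B
  let J : Ideal A := (LinearMap.toSpanSingleton A _ (d b)).ker
  suffices J = ⊤ by
    have h1 : (1 : A) ∈ J := this ▸ Submodule.mem_top
    simpa [J] using h1
  by_contra hJ
  obtain ⟨p, hp, hJp⟩ := Ideal.exists_le_maximal J hJ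
  -- a local generator
  have hIn : I ^ n ≠ 0 := hI ▸ FractionalIdeal.spanSingleton_ne_zero_iff.mpr hf
  have hI0 : I ≠ 0 := fun h => hIn (by rw [h, zero_pow hn0])
  have hlt : ¬ I⁻¹ ≤ (p : FractionalIdeal A⁰ K) * I⁻¹ := fun h => by
    have h2 := mul_le_mul_left h I
    rw [inv_mul_cancel₀ hI0, mul_assoc, inv_mul_cancel₀ hI0, mul_one] at h2
    have h3 : ((⊤ : Ideal A) : FractionalIdeal A⁰ K) ≤ (p : FractionalIdeal A⁰ K) := by simpa using h2
    exact hp.ne_top (top_le_iff.mp ((FractionalIdeal.coeIdeal_le_coeIdeal K).mp h3))
  obtain ⟨a, haI, hap⟩ := SetLike.not_le_iff_exists.mp hlt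
  have hM : FractionalIdeal.spanSingleton A⁰ a * I ≤ 1 := by
    refine (mul_le_mul_left (FractionalIdeal.spanSingleton_le_iff_mem.mpr haI) I).trans ?_
    rw [inv_mul_cancel₀ hI0]
  obtain ⟨M, hM'⟩ := FractionalIdeal.le_one_iff_exists_coeIdeal.mp hM
  have hMp : ¬ M ≤ p := fun h => hap (by
    have h2 := mul_le_mul_left ((FractionalIdeal.coeIdeal_le_coeIdeal K).mpr h) I⁻¹
    rw [hM', mul_assoc, mul_inv_cancel₀ hI0, mul_one] at h2
    exact FractionalIdeal.spanSingleton_le_iff_mem.mp h2)
  have hMn : ((M ^ n : Ideal A) : FractionalIdeal A⁰ K) = FractionalIdeal.spanSingleton A⁰ (a ^ n * f) := by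
    rw [FractionalIdeal.coeIdeal_pow, hM', mul_pow, FractionalIdeal.spanSingleton_pow, ← hI,
      FractionalIdeal.spanSingleton_mul_spanSingleton]
  obtain ⟨c, hcM, hc⟩ := (FractionalIdeal.mem_coeIdeal A⁰).mp
    (hMn.ge (FractionalIdeal.mem_spanSingleton_self A⁰ (a ^ n * f)))
  have hcp : c ∉ p := fun h => hMp (hp.isPrime.le_of_pow_le (n := n) (by
    refine le_trans (le_of_eq ?_) ((Ideal.span_singleton_le_iff_mem p).mpr h)
    apply (FractionalIdeal.coeIdeal_injective (K := K))
    show ((M ^ n : Ideal A) : FractionalIdeal A⁰ K) = ((Ideal.span {c} : Ideal A) : FractionalIdeal A⁰ K)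
    rw [FractionalIdeal.coeIdeal_span_singleton, hc, hMn]))
  have ha0 : a ≠ 0 := fun h => hap (h ▸ ((p : FractionalIdeal A⁰ K) * I⁻¹).coeToSubmodule.zero_mem)
  let β : L := algebraMap K L a * α
  have hβ : β ^ n = algebraMap A L c := by
    rw [mul_pow, hα, ← map_pow, ← map_mul, ← hc, ← IsScalarTower.algebraMap_apply]
  have hβint : IsIntegral A β := ⟨X ^ n - C c, monic_X_pow_sub_C c hn0, by simp [hβ]⟩
  have hβgen : Algebra.adjoin K {β} = ⊤ := by
    have h1 : IntermediateField.adjoin K {β} = ⊤ := by
      rw [eq_top_iff, ← hgen, IntermediateField.adjoin_le_iff, Set.singleton_subset_iff, SetLike.mem_coe]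
      have : α = algebraMap K L a⁻¹ * β := by
        rw [← mul_assoc, ← map_mul, inv_mul_cancel₀ ha0, map_one, one_mul]
      rw [this]
      exact mul_mem (IntermediateField.algebraMap_mem _ _) (IntermediateField.mem_adjoin_simple_self K β)
    rw [← IntermediateField.adjoin_simple_toSubalgebra_of_isAlgebraic (Algebra.IsAlgebraic.isAlgebraic β), h1,
      IntermediateField.top_toSubalgebra]
  let x : B := ⟨β, hβint⟩
  have hx : x ^ n = algebraMap A B c := Subtype.ext (by simpa using hβ)
  -- `n * c * b ∈ A[x]`
  obtain ⟨q, hq⟩ : minpoly A β ∣ X ^ n - C c :=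
    minpoly.isIntegrallyClosed_dvd hβint (by simp [hβ])
  let e : L := aeval β (derivative (minpoly K β))
  have hdual : (b : L) ∈ (Algebra.traceForm K L).dualSubmodule
      (Subalgebra.toSubmodule (Algebra.adjoin A {β})) := by
    intro y hy
    have hy' : IsIntegral A y := Algebra.adjoin_le (S := integralClosure A L)
      (Set.singleton_subset_iff.mpr hβint) hy
    obtain ⟨r, hr⟩ := IsIntegrallyClosed.isIntegral_iff.mp
      (Algebra.isIntegral_trace (L := K) (F := L) (b.2.mul hy'))
    exact Submodule.mem_one.mpr ⟨r, hr⟩
  rw [traceForm_dualSubmodule_adjoin A K hβgen hβint] at hdual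
  obtain ⟨z, hz, hzb⟩ := hdual
  have he0 : e ≠ 0 := (Algebra.IsSeparable.isSeparable K β).aeval_derivative_ne_zero (minpoly.aeval K β)
  have heA : e = aeval β (derivative (minpoly A β)) := by
    simp only [e, minpoly.isIntegrallyClosed_eq_field_fractions' K hβint, derivative_map,
      aeval_map_algebraMap]
  have heb : aeval β (derivative (minpoly A β)) * (b : L) ∈ Algebra.adjoin A {β} := by
    rw [← heA, ← hzb]
    simpa [e, he0] using hz
  have hder := congrArg (fun g => aeval β (derivative g)) hq
  simp only [derivative_mul, map_add, map_mul, minpoly.aeval, zero_mul, add_zero, derivative_sub,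
    derivative_C, sub_zero, derivative_X_pow, map_pow, aeval_X, aeval_C] at hder
  have hncb : algebraMap A L ((n : A) * c) * (b : L) ∈ Algebra.adjoin A {β} := by
    have : algebraMap A L ((n : A) * c) * (b : L) =
        β * aeval β q * (aeval β (derivative (minpoly A β)) * (b : L)) := by
      have hp1 : β * β ^ (n - 1) = β ^ n := mul_pow_sub_one hn0 β
      rw [map_mul, ← hβ, ← hp1]
      linear_combination (β * (b : L)) * hder
    rw [this]
    exact mul_mem (mul_mem (Algebra.self_mem_adjoin_singleton A β)
      (aeval_mem_adjoin_singleton A β)) heb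
  -- differentiate
  have hcx : c • d x = 0 := by
    have h1 : d (x ^ n) = 0 := by rw [hx]; exact d.map_algebraMap c
    rw [Derivation.leibniz_pow, ← Nat.cast_smul_eq_nsmul A] at h1
    have h2 : x ^ (n - 1) • d x = 0 := hn.smul_left_cancel.mp (h1.trans (smul_zero _).symm)
    have h3 := congrArg (x • ·) h2
    simp only [smul_zero, smul_smul, mul_pow_sub_one hn0, hx, algebraMap_smul] at h3
    exact h3
  have key : ∀ w : L, ∀ hw : w ∈ Algebra.adjoin A {β}, ∀ hw' : IsIntegral A w, c • d ⟨w, hw'⟩ = 0 := by
    intro w hw hw'
    obtain ⟨g, rfl⟩ := Algebra.adjoin_singleton_eq_range_aeval A β ▸ hw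
    have : (⟨aeval β g, hw'⟩ : B) = aeval x g := Subtype.ext (Polynomial.aeval_algHom_apply B.val x g).symm.symm
    show c • d (⟨aeval β g, hw'⟩ : B) = 0
    rw [this, Derivation.map_aeval, smul_comm, hcx, smul_zero]
  have h4 := key _ hncb (((isIntegral_algebraMap (A := L))).mul b.2)
  rw [show (⟨algebraMap A L ((n : A) * c) * (b : L), _⟩ : B) = ((n : A) * c) • b from
    Subtype.ext (by simp [Algebra.smul_def]), d.map_smul, smul_smul] at h4
  have h5 : c * ((n : A) * c) ∈ J := by simpa [J] using h4
  have hnp : (n : A) ∉ p := fun h => hp.ne_top (p.eq_top_of_isUnit_mem h hn)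
  exact (hp.isPrime.mem_or_mem (hJp h5)).elim hcp fun h => (hp.isPrime.mem_or_mem h).elim hnp hcp

end Groth.Agent.S14177
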