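import Groth.Statements.S14178
import Mathlib.FieldTheory.KummerExtension
import Mathlib.RingTheory.ClassGroup.Basic
import Mathlib.RingTheory.FractionalIdeal.Inverse
import Mathlib.FieldTheory.Minpoly.Field
import Mathlib.Algebra.Polynomial.Splits
import Mathlib.RingTheory.DedekindDomain.Ideal.Basic

set_option autoImplicit false
universe u v w
open scoped nonZeroDivisors
open EtAlg

namespace Groth.Agent.S14178

/-- Let A be a Dedekind domain with fraction field K, let n be a natural number invertible in A such
that K contains a primitive n-th root of unity, let f be a nonzero element of K and I an invertible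
fractional ideal of A with (f) = I^n whose class in the ideal class group of A has order exactly n
(the divisor of f is n times a divisor whose class has order n), and let L = K(α) be a field
extension of K generated by a single element α with α^n = f. Then L is Galois over K of degree n
with cyclic Galois group. (The published statement is for an integral smooth curve over a perfect
field containing a primitive n-th root of unity, with the Picard group of the curve in place of the
class group; this row states it for any Dedekind domain.) -/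
theorem result
    {A : Type u} {K : Type v} {L : Type w} [CommRing A] [IsDedekindDomain A]
    [Field K] [Algebra A K] [IsFractionRing A K]
    [Field L] [Algebra K L]
    (n : ℕ) (hn : IsUnit (n : A)) (ζ : K) (hζ : IsPrimitiveRoot ζ n) (f : K) (hf : f ≠ 0)
    (I : (FractionalIdeal A⁰ K)ˣ) (hI : FractionalIdeal.spanSingleton A⁰ f = (I : FractionalIdeal A⁰ K) ^ n)
    (hord : orderOf (ClassGroup.mk K I) = n)
    (α : L) (hα : α ^ n = algebraMap K L f) (hgen : IntermediateField.adjoin K {α} = ⊤) :
    IsGalois K L ∧ IsCyclic (L ≃ₐ[K] L) ∧ Module.finrank K L = n := by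
  open Polynomial in
  classical
  have hn0 : n ≠ 0 := fun h => not_isUnit_zero (M₀ := A) (by simpa [h] using hn)
  have hpoly : (X ^ n - C f).Monic := monic_X_pow_sub_C f hn0
  have hαint : IsIntegral K α := ⟨X ^ n - C f, hpoly, by simp [hα]⟩
  haveI : FiniteDimensional K L := by
    haveI := IntermediateField.adjoin.finiteDimensional hαint
    haveI : FiniteDimensional K (⊤ : IntermediateField K L) := hgen ▸ this
    exact Module.Finite.equiv IntermediateField.topEquiv.toLinearEquiv
  set d := Module.finrank K L
  have hdpoly : (minpoly K α).natDegree = d := by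
    rw [← IntermediateField.adjoin.finrank hαint, hgen]
    exact IntermediateField.finrank_top'
  have hdvd : minpoly K α ∣ X ^ n - C f := minpoly.dvd K α (by simp [hα])
  have hdn : d ≤ n := by
    rw [← hdpoly, ← natDegree_X_pow_sub_C (R := K) (n := n) (r := f)]
    exact natDegree_le_of_dvd hdvd hpoly.ne_zero
  have hζ' : IsPrimitiveRoot (algebraMap K L ζ) n := hζ.map_of_injective (algebraMap K L).injective
  -- `α ^ d ∈ K`
  obtain ⟨g, hg⟩ : ∃ g : K, algebraMap K L g = α ^ d := by
    set P := (minpoly K α).map (algebraMap K L)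
    have hPsplit : P.Splits := by
      have : ((X ^ n - C f).map (algebraMap K L)).Splits := by
        rw [Polynomial.map_sub, Polynomial.map_pow, map_X, map_C, ← hα]
        exact X_pow_sub_C_splits_of_isPrimitiveRoot hζ' rfl
      exact this.of_dvd (Polynomial.map_ne_zero hpoly.ne_zero) (Polynomial.map_dvd _ hdvd)
    have hmon : P.Monic := (minpoly.monic hαint).map _
    have hcard : P.roots.card = d := by
      rw [← hdpoly, ← natDegree_map_eq_of_injective (algebraMap K L).injective]
      exact hPsplit.natDegree_eq_card_roots.symm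
    have hroot : ∀ x ∈ P.roots, ∃ k : K, x = algebraMap K L k * α := by
      intro x hx
      have hx' : ((X ^ n - C f).map (algebraMap K L)).IsRoot x :=
        (mem_roots'.mp hx).2.dvd (Polynomial.map_dvd _ hdvd)
      rw [Polynomial.map_sub, Polynomial.map_pow, map_X, map_C, IsRoot, eval_sub, eval_pow, eval_X,
        eval_C, sub_eq_zero, ← hα] at hx'
      have hα0 : α ≠ 0 := fun h => hf ((algebraMap K L).injective (by
        rw [map_zero, ← hα, h, zero_pow hn0]))
      haveI : NeZero n := ⟨hn0⟩
      obtain ⟨i, -, hi⟩ := hζ'.eq_pow_of_pow_eq_one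
        (show (x / α) ^ n = 1 by rw [div_pow, hx', div_self (pow_ne_zero _ hα0)])
      exact ⟨ζ ^ i, by rw [map_pow, hi, div_mul_cancel₀ _ hα0]⟩
    have hprod : ∀ m : Multiset L, (∀ x ∈ m, ∃ k : K, x = algebraMap K L k * α) →
        ∃ k : K, m.prod = algebraMap K L k * α ^ m.card := by
      intro m
      induction m using Multiset.induction with
      | empty => exact fun _ => ⟨1, by simp⟩
      | cons a m ih =>
        intro hm
        obtain ⟨k, hk⟩ := ih fun x hx => hm x (Multiset.mem_cons_of_mem hx)
        obtain ⟨l, hl⟩ := hm a (Multiset.mem_cons_self a m)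
        exact ⟨l * k, by rw [Multiset.prod_cons, Multiset.card_cons, hk, hl, map_mul, pow_succ]; ring⟩
    obtain ⟨k, hk⟩ := hprod _ hroot
    rw [hcard] at hk
    have hk0 : k ≠ 0 := by
      rintro rfl
      rw [map_zero, zero_mul, Multiset.prod_eq_zero_iff] at hk
      obtain ⟨i, hi⟩ := hroot 0 hk
      have h00 := (mem_roots'.mp hk).2.dvd (Polynomial.map_dvd _ hdvd)
      rw [Polynomial.map_sub, Polynomial.map_pow, map_X, map_C, IsRoot, eval_sub, eval_pow, eval_X,
        eval_C, zero_pow hn0, zero_sub, neg_eq_zero, map_eq_zero] at h00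
      exact hf h00
    have hc := hPsplit.coeff_zero_eq_prod_roots_of_monic hmon
    rw [coeff_map, hk] at hc
    refine ⟨(-1) ^ P.natDegree * (minpoly K α).coeff 0 / k, ?_⟩
    rw [map_div₀, map_mul, hc, div_eq_iff ((_root_.map_ne_zero _).mpr hk0), map_pow, map_neg, map_one,
      ← mul_assoc, ← mul_pow, neg_one_mul, neg_neg, one_pow, one_mul, mul_comm]
  -- `d ∣ n`
  have hdvdn : d ∣ n := by
    haveI : NeZero n := ⟨hn0⟩
    have hlin : LinearIndependent K fun i : Fin d => α ^ (i : ℕ) := by
      rw [← hdpoly]; exact linearIndependent_pow α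
    by_contra hnd
    have hd0 : 0 < d := Module.finrank_pos
    have hr : n % d < d := Nat.mod_lt n hd0
    have hr0 : 0 < n % d := Nat.pos_of_ne_zero fun h => hnd (Nat.dvd_of_mod_eq_zero h)
    have heq : algebraMap K L (g ^ (n / d)) * α ^ (n % d) = algebraMap K L f := by
      rw [map_pow, hg, ← pow_mul, ← pow_add, Nat.div_add_mod, hα]
    have := Fintype.linearIndependent_iff.mp hlin
      (fun i => if (i : ℕ) = n % d then g ^ (n / d) else if (i : ℕ) = 0 then -f else 0) (by
        rw [Finset.sum_eq_add_of_mem (⟨n % d, hr⟩ : Fin d) ⟨0, hd0⟩ (Finset.mem_univ _) (Finset.mem_univ _)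
          (fun h => hr0.ne' (congrArg Fin.val h)) (fun c _ hc => by
            rw [if_neg (fun h => hc.1 (Fin.ext h)), if_neg (fun h => hc.2 (Fin.ext h)), zero_smul])]
        simp [hr0.ne, hr0.ne', Algebra.smul_def]
        rw [← map_pow, heq, add_neg_cancel]) ⟨0, hd0⟩
    simp [hr0.ne] at this
    exact hf this
  obtain ⟨m, hm⟩ := hdvdn
  have hgf : g ^ m = f := (algebraMap K L).injective (by rw [map_pow, hg, ← pow_mul, ← hm, hα])
  have hm0 : m ≠ 0 := fun h => hn0 (by rw [hm, h, mul_zero])
  have hg0 : g ≠ 0 := fun h => hf (by rw [← hgf, h, zero_pow hm0])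
  -- `I ^ d` is principal
  let Q : (FractionalIdeal A⁰ K)ˣ := I ^ d * (toPrincipalIdeal A K (Units.mk0 g hg0))⁻¹
  have hQ : Q ^ m = 1 := by
    rw [mul_pow, ← pow_mul, ← hm, inv_pow, ← map_pow, mul_inv_eq_one]
    refine Units.ext ?_
    rw [coe_toPrincipalIdeal, Units.val_pow_eq_pow_val, ← hI, Units.val_pow_eq_pow_val, Units.val_mk0, hgf]
  have hle : ∀ Q : (FractionalIdeal A⁰ K)ˣ, Q ^ m = 1 → (Q : FractionalIdeal A⁰ K) ≤ 1 := by
    intro Q hQ y hy
    have hym : y ^ m ∈ (1 : FractionalIdeal A⁰ K) := by
      rw [← Units.val_one, ← hQ, Units.val_pow_eq_pow_val, ← FractionalIdeal.spanSingleton_le_iff_mem,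
        ← FractionalIdeal.spanSingleton_pow]
      exact pow_le_pow_left' (FractionalIdeal.spanSingleton_le_iff_mem.mpr hy) m
    obtain ⟨a, ha⟩ := (FractionalIdeal.mem_one_iff _).mp hym
    obtain ⟨b, hb⟩ := IsIntegrallyClosed.exists_algebraMap_eq_of_isIntegral_pow (R := A) (K := K)
      (Nat.pos_of_ne_zero hm0) (ha ▸ isIntegral_algebraMap)
    exact (FractionalIdeal.mem_one_iff _).mpr ⟨b, hb⟩
  have hQ1 : Q = 1 := by
    have h1 := hle Q⁻¹ (by rw [inv_pow, hQ, inv_one])
    refine Units.ext (le_antisymm (hle Q hQ) ?_)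
    have h2 := mul_le_mul_left h1 (Q : FractionalIdeal A⁰ K)
    rwa [Units.inv_mul, one_mul] at h2
  have hdI : ClassGroup.mk K I ^ d = 1 := by
    rw [← map_pow, ClassGroup.mk_eq_one_iff, mul_inv_eq_one.mp hQ1, coe_toPrincipalIdeal,
      FractionalIdeal.coe_spanSingleton]
    exact ⟨⟨_, rfl⟩⟩
  have hnd' : n ∣ d := hord ▸ orderOf_dvd_of_pow_eq_one hdI
  have heqn : d = n := le_antisymm hdn (Nat.le_of_dvd Module.finrank_pos hnd')
  have hprim : (primitiveRoots d K).Nonempty :=
    ⟨ζ, (mem_primitiveRoots Module.finrank_pos).mpr (by show IsPrimitiveRoot ζ d; rw [heqn]; exact hζ)⟩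
  have hirr := irreducible_X_pow_sub_C_of_root_adjoin_eq_top (K := K) (L := L) (a := f) (α := α)
    (by show α ^ d = _; rw [heqn, hα]) hgen
  haveI := isSplittingField_X_pow_sub_C_of_root_adjoin_eq_top (K := K) (L := L) hprim (a := f) (α := α)
    (by show α ^ d = _; rw [heqn, hα]) hgen
  haveI : NeZero (Module.finrank K L) := ⟨Module.finrank_pos.ne'⟩
  exact ⟨isGalois_of_isSplittingField_X_pow_sub_C hprim hirr L,
    isCyclic_of_isSplittingField_X_pow_sub_C hprim hirr L, heqn⟩

end Groth.Agent.S14178
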