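import Groth.Statements.S14180
import Groth.Agent.L21.CurveExt.NodeCoh

set_option autoImplicit false
set_option backward.isDefEq.respectTransparency false
set_option linter.style.haveILetI false
universe u
open CategoryTheory CategoryTheory.Limits AlgebraicGeometry
open EtCore

namespace Groth.Agent.S14180

/-- Let k be an algebraically closed field and n ≥ 1 an integer invertible in k; let X be an integral
proper curve over k (separated and of finite type, of dimension one) whose closed points are all
smooth points or nodes, with exactly one node, and let ν : X^ν ⟶ X be its normalization. Then the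
pullback map H¹(X, μ_n) → H¹(X^ν, ν⁻¹μ_n) on étale cohomology is surjective and its kernel has
exactly n elements (it is the image of (μ_n(k) × μ_n(k))/μ_n(k)). (The published statement is for
the base change to an algebraic closure of a projective nodal curve with one node over a perfect
field and records the Galois-module structure of the short exact sequence; this row keeps the part
over the algebraically closed field. Exactness of pullback and the quasi-compactness and
quasi-separatedness of Spec K(X) ⟶ X always hold; the binders only serve to form the map and the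
normalization.) -/
theorem result
    (k : Type u) [Field k] [IsAlgClosed k] (X : Scheme.{u}) [X.Over (Spec (CommRingCat.of k))]
    [IsProper (X ↘ Spec (CommRingCat.of k))] [IsIntegral X]
    (hdim : topologicalKrullDim X = 1)
    (hnodal : Curv2.AtWorstNodal k X) (hone : Nat.card {x : X // Curv2.IsNode k X x} = 1)
    [QuasiCompact (X.fromSpecStalk (genericPoint X))] [QuasiSeparated (X.fromSpecStalk (genericPoint X))]
    [PreservesFiniteLimits (EtCoh.pull (Curv2.normalizationι X))]
    (n : ℕ) (hn : 1 ≤ n) (hnk : (n : k) ≠ 0) :
    Function.Surjective (EtCore.Hpull (Curv2.normalizationι X) (EtCoh.mu X n) 1) ∧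
    Nat.card (EtCore.Hpull (Curv2.normalizationι X) (EtCoh.mu X n) 1).ker = n := by
  haveI : NeZero n := ⟨by omega⟩
  obtain ⟨h1, h2⟩ := Groth.L21.CurveExt.Hpull_one_node hdim hnodal hone n
  obtain ⟨e⟩ := Groth.L21.CurveKummer.nonempty_const_iso_mu (X ↘ Spec (CommRingCat.of k)) n hnk
  let ν := Curv2.normalizationι X
  let a := Groth.L21.CurveKummer.congrH e 1
  let b := Groth.L21.CurveKummer.congrH ((EtCoh.pull ν).mapIso e) 1
  have hc : ∀ x, EtCore.Hpull ν (EtCoh.mu X n) 1 (a x) = b (EtCore.Hpull ν (EtCoh.const X (ZMod n)) 1 x) :=
    fun x => Groth.L27.LimCoh.Hpull_map ν e.hom 1 x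
  refine ⟨fun y => ?_, ?_⟩
  · obtain ⟨x, hx⟩ := h1 (b.symm y)
    exact ⟨a x, (hc x).trans (by rw [hx, AddEquiv.apply_symm_apply])⟩
  · refine (Nat.card_congr (Equiv.subtypeEquiv a.toEquiv fun x => ?_)).symm.trans h2
    show EtCore.Hpull ν (EtCoh.const X (ZMod n)) 1 x = 0 ↔ EtCore.Hpull ν (EtCoh.mu X n) 1 (a x) = 0
    rw [hc x, AddEquiv.map_eq_zero_iff]

end Groth.Agent.S14180
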