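import Groth.Statements.S14181
import Mathlib.RepresentationTheory.Homological.GroupCohomology.Functoriality

set_option autoImplicit false
universe u
open CategoryTheory
open GalCoh

namespace Groth.Agent.S14181

/-- Let G be a group with a finite normal subgroup P, k a commutative ring and A a k-linear
representation of G such that multiplication by the order of P is a bijection of A. Then the
inflation map on 1-cocycles (crossed homomorphisms) Z¹(G/P, A^P) → Z¹(G, A) has a k-linear left
inverse. (The published statement is for the inertia group of a Galois cover of smooth curves at a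
point, its normal Sylow p-subgroup P and a module of n-torsion with n prime to p; the argument uses
only that the order of P acts invertibly, which is the hypothesis taken here.) -/
theorem result
    {k G : Type u} [CommRing k] [Group G] (A : Rep.{u} k G) (P : Subgroup G) [P.Normal] [Finite P]
    (hP : Function.Bijective fun a : A => (Nat.card P : k) • a) :
    ∃ r : ModuleCat.of k (groupCohomology.cocycles₁ A) ⟶
        ModuleCat.of k (groupCohomology.cocycles₁ (A.quotientToInvariants P)),
      (groupCohomology.mapCocycles₁ (QuotientGroup.mk' P) (Rep.ofHom (A.ρ.quotientToInvariants_lift P)) :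
          ModuleCat.of k (groupCohomology.cocycles₁ (A.quotientToInvariants P)) ⟶
            ModuleCat.of k (groupCohomology.cocycles₁ A)) ≫ r = 𝟙 _ := by
  classical
  haveI : Fintype P := Fintype.ofFinite P
  let N : A →ₗ[k] A := (Nat.card P : k) • LinearMap.id
  let Ni : A ≃ₗ[k] A := LinearEquiv.ofBijective N hP
  let avg : groupCohomology.cocycles₁ A →ₗ[k] A :=
    Ni.symm.toLinearMap ∘ₗ (∑ p : P, LinearMap.proj (p : G)) ∘ₗ (groupCohomology.cocycles₁ A).subtype
  let T : groupCohomology.cocycles₁ A →ₗ[k] (G → A) :=
    (groupCohomology.cocycles₁ A).subtype + LinearMap.pi (fun g => A.ρ g ∘ₗ avg - avg)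
  have hT : ∀ (f : groupCohomology.cocycles₁ A) g, T f g = f g + (A.ρ g (avg f) - avg f) := fun f g => rfl
  have hTmul : ∀ (f : groupCohomology.cocycles₁ A) g h, T f (g * h) = A.ρ g (T f h) + T f g := fun f g h => by
    rw [hT, hT, hT, (groupCohomology.mem_cocycles₁_iff (f : G → A)).1 f.2 g h, map_mul, Module.End.mul_apply, map_add,
      map_sub]
    abel
  have hTP : ∀ (f : groupCohomology.cocycles₁ A) (p : P), T f (p : G) = 0 := fun f p => by
    rw [hT]
    apply hP.1
    change (Nat.card P : k) • (f (p : G) + (A.ρ (p : G) (avg f) - avg f)) = (Nat.card P : k) • (0 : A)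
    have hN : ∀ a : A, (Nat.card P : k) • Ni.symm a = a := fun a => Ni.apply_symm_apply a
    rw [smul_zero, smul_add, smul_sub, ← map_smul (A.ρ (p : G)),
      show (Nat.card P : k) • avg f = ∑ q : P, f (q : G) by
        change (Nat.card P : k) • Ni.symm _ = _
        rw [hN]; simp]
    have hs : ∑ q : P, f ((p : G) * (q : G)) = ∑ q : P, f (q : G) :=
      Equiv.sum_comp (Equiv.mulLeft p) (fun q : P => f (q : G))
    simp only [(groupCohomology.mem_cocycles₁_iff (f : G → A)).1 f.2, Finset.sum_add_distrib, Finset.sum_const,
      Finset.card_univ] at hs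
    rw [← map_sum, ← Nat.cast_smul_eq_nsmul k, ← Nat.card_eq_fintype_card] at hs
    rw [← add_sub_assoc, add_comm, sub_eq_zero]
    exact hs
  have hTinv : ∀ (f : groupCohomology.cocycles₁ A) (g : G) (p : P), A.ρ (p : G) (T f g) = T f g := fun f g p => by
    have h1 : T f ((p : G) * g) = A.ρ (p : G) (T f g) := by rw [hTmul, hTP, add_zero]
    have h2 : T f ((p : G) * g) = T f g := by
      have hq : g⁻¹ * (p : G) * g ∈ P := Subgroup.Normal.conj_mem' ‹_› _ p.2 _
      rw [show (p : G) * g = g * (g⁻¹ * (p : G) * g) by group, hTmul, hTP f ⟨_, hq⟩, map_zero, zero_add]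
    rw [← h1, h2]
  have hTcoset : ∀ (f : groupCohomology.cocycles₁ A) g h, QuotientGroup.leftRel P g h → T f g = T f h := fun f g h hgh => by
    rw [show h = g * (g⁻¹ * h) by group, hTmul, hTP f ⟨_, QuotientGroup.leftRel_apply.1 hgh⟩, map_zero, zero_add]
  let R : groupCohomology.cocycles₁ A →ₗ[k] groupCohomology.cocycles₁ (A.quotientToInvariants P) :=
    LinearMap.codRestrict _
      (LinearMap.pi fun q : G ⧸ P => LinearMap.codRestrict (Representation.invariants (A.ρ.comp P.subtype)) ((LinearMap.proj (R := k) (φ := fun _ : G => (A : Type u)) q.out) ∘ₗ T)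
        (fun f => fun p => hTinv f q.out p))
      (fun f => by
        rw [groupCohomology.mem_cocycles₁_iff]
        intro q q'
        induction q using QuotientGroup.induction_on with | @H g =>
        induction q' using QuotientGroup.induction_on with | @H h =>
        have ho : ∀ a : G, T f (QuotientGroup.mk a : G ⧸ P).out = T f a := fun a =>
          hTcoset f _ _ (Quotient.exact' (QuotientGroup.out_eq' _))
        apply Subtype.ext
        change T f (QuotientGroup.mk (g * h) : G ⧸ P).out =
          A.ρ g (T f (QuotientGroup.mk h : G ⧸ P).out) + T f (QuotientGroup.mk g : G ⧸ P).out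
        rw [ho, ho, ho, hTmul])
  refine ⟨ModuleCat.ofHom R, ?_⟩
  apply ModuleCat.hom_ext
  refine LinearMap.ext fun x => Subtype.ext (funext fun q => ?_)
  induction q using QuotientGroup.induction_on with | @H g =>
  set y := (groupCohomology.mapCocycles₁ (QuotientGroup.mk' P) (Rep.ofHom (A.ρ.quotientToInvariants_lift P))).hom x with hy
  have hval : ∀ a : G, y a = ((x (QuotientGroup.mk a : G ⧸ P) : _) : A) := fun a => rfl
  have havg : avg y = 0 := by
    change Ni.symm _ = 0
    rw [LinearEquiv.map_eq_zero_iff]
    simp only [LinearMap.comp_apply, LinearMap.sum_apply, LinearMap.proj_apply, Submodule.subtype_apply]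
    refine Finset.sum_eq_zero fun p _ => ?_
    change y (p : G) = 0
    rw [hval, (QuotientGroup.eq_one_iff (p : G)).2 p.2]
    have := groupCohomology.cocycles₁_map_one x
    exact congrArg Subtype.val this
  apply Subtype.ext
  change T y (QuotientGroup.mk g : G ⧸ P).out = ((x (QuotientGroup.mk g : G ⧸ P) : _) : A)
  rw [hT, havg, map_zero, sub_zero, add_zero, hval, QuotientGroup.out_eq']

end Groth.Agent.S14181
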