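import Groth.Statements.S14182
import Groth.Agent.L12.PicModSeq
-- import your own Groth.Agent.* helpers here

set_option autoImplicit false
universe u
open CategoryTheory AlgebraicGeometry
open LocSym

namespace Groth.Agent.S14182

open W4c1etcurveeff2 in
/-- Let k be an algebraically closed field and X a smooth proper integral curve over k (structure
morphism c, dimension one); divisors are finitely supported integer-valued functions on the k-points
and ord_x is the valuation at x. Let m be a reduced modulus (every multiplicity at most 1) with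
support S, Pic the group of divisors modulo divisors of nonzero rational functions, and Pic_m the
group of divisors vanishing on S modulo divisors of nonzero rational functions congruent to 1 modulo
m. Then: the natural map Pic_m → Pic is surjective; a class of Pic_m maps to zero exactly when it is
the class of the divisor of a nonzero rational function having a nonzero value at every point of S;
and for every family of nonzero scalars (v_x) there is a nonzero rational function g with value v_x
at each x ∈ S, the class of whose divisor in Pic_m vanishes exactly when the v_x for x ∈ S are all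
equal. (So the kernel is (kˣ)^S modulo the diagonal kˣ, the short exact sequence 0 → (kˣ)^S/kˣ →
Pic_m → Pic → 0; the same then holds for the degree-zero parts.) -/
theorem result
    (k : Type u) [Field k] [IsAlgClosed k] (X : Scheme.{u}) [IsIntegral X]
    (c : X ⟶ Spec (CommRingCat.of k)) [IsProper c] [Smooth c] (hdim : topologicalKrullDim X = 1)
    (m : LocSym.Pt c →₀ ℕ) (hm : ∀ x : LocSym.Pt c, m x ≤ 1) :
    Function.Surjective (picModToPic c m) ∧
    (∀ y : PicMod c m, picModToPic c m y = 0 ↔
      ∃ (g : X.functionField) (D : divAway c m) (v : LocSym.Pt c → kˣ),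
        IsDivOf c (D : LocSym.Pt c →₀ ℤ) g ∧ (∀ x ∈ m.support, LocSym.HasValueAt x g (v x : k)) ∧
        y = (QuotientAddGroup.mk D : PicMod c m)) ∧
    (∀ v : LocSym.Pt c → kˣ, ∃ (g : X.functionField) (D : divAway c m),
        IsDivOf c (D : LocSym.Pt c →₀ ℤ) g ∧ (∀ x ∈ m.support, LocSym.HasValueAt x g (v x : k)) ∧
        ((QuotientAddGroup.mk D : PicMod c m) = 0 ↔ ∃ a : kˣ, ∀ x ∈ m.support, v x = a)) := by
  open Groth.L12.PicModSeq in
  refine ⟨toPic_surjective hdim, fun y => ⟨fun hy => ?_, ?_⟩, fun v => ?_⟩
  · obtain ⟨v, rfl⟩ := exists_cls_of_toPic_eq_zero hdim hm hy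
    exact ⟨(rep hdim m v : X.functionField), ⟨dv hdim (rep hdim m v), fun x hx => (rep_spec hdim m v x hx).1⟩, v,
      ⟨Units.ne_zero _, fun _ => rfl⟩,
      fun x hx => (hasValueAt_iff hdim x _ _).2 (rep_spec hdim m v x hx), rfl⟩
  · rintro ⟨g, D, v, ⟨hg, hD⟩, -, rfl⟩
    exact (QuotientAddGroup.eq_zero_iff _).2 ((principal_iff hdim _).2 ⟨Units.mk0 g hg, hD⟩)
  · exact ⟨(rep hdim m v : X.functionField), ⟨dv hdim (rep hdim m v), fun x hx => (rep_spec hdim m v x hx).1⟩,
      ⟨Units.ne_zero _, fun _ => rfl⟩,
      fun x hx => (hasValueAt_iff hdim x _ _).2 (rep_spec hdim m v x hx), cls_eq_zero_iff hdim hm v⟩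

end Groth.Agent.S14182
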