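import Groth.Statements.S14183
import Groth.Agent.L12.PicModSeq
import Mathlib.RingTheory.RootsOfUnity.AlgebraicallyClosed
import Mathlib.SetTheory.Cardinal.Finite
-- import your own Groth.Agent.* helpers here

set_option autoImplicit false
universe u
open CategoryTheory AlgebraicGeometry
open LocSym

namespace Groth.Agent.S14183

/-- Extend a family on `S ∖ {x₀}` by `1`. -/
noncomputable def ext1 {α : Type*} {M : Type*} [One M] (p : α → Prop) (r : {x // p x} → M) (x : α) : M :=
  open Classical in if h : p x then r ⟨x, h⟩ else 1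

open LocSym W4c1etcurveeff2 Groth.L12.PicModSeq in
theorem count {k : Type u} [Field k] [IsAlgClosed k] {X : Scheme.{u}} [IsIntegral X]
    {c : X ⟶ Spec (CommRingCat.of k)} [IsProper c] [Smooth c] (hdim : topologicalKrullDim X = 1)
    {m : Pt c →₀ ℕ} (hm : ∀ x, m x ≤ 1) (n : ℕ) (hnk : (n : k) ≠ 0) :
    Nat.card {x : PicMod c m // n • x = 0 ∧ picModToPic c m x = 0} = n ^ (m.support.card - 1) := by
  classical
  rcases m.support.eq_empty_or_nonempty with he | ⟨x₀, hx₀⟩
  · rw [he, Finset.card_empty]
    haveI : Unique {x : PicMod c m // n • x = 0 ∧ picModToPic c m x = 0} :=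
      { default := ⟨0, smul_zero n, map_zero _⟩
        uniq := fun ⟨x, _, hx⟩ => Subtype.ext (by
          obtain ⟨v, rfl⟩ := exists_cls_of_toPic_eq_zero hdim hm hx
          exact (cls_eq_zero_iff hdim hm v).2 ⟨1, fun y hy => by simp [he] at hy⟩) }
    rw [Nat.card_unique]; simp
  haveI : NeZero (n : k) := ⟨hnk⟩
  haveI : NeZero n := ⟨fun h => hnk (by rw [h, Nat.cast_zero])⟩
  let p : Pt c → Prop := fun x => x ∈ m.support.erase x₀
  let Φ : ({x // p x} → rootsOfUnity n k) → {x : PicMod c m // n • x = 0 ∧ picModToPic c m x = 0} := fun r =>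
    ⟨cls hdim m (ext1 p fun x => (r x : kˣ)), by
      rw [← cls_pow hdim hm, cls_eq_zero_iff hdim hm]
      refine ⟨1, fun x _ => ?_⟩
      rw [Pi.pow_apply, ext1]
      split_ifs with h
      · exact (mem_rootsOfUnity n _).1 (r ⟨x, h⟩).2
      · exact one_pow n, toPic_cls hdim _⟩
  have hΦ : Function.Bijective Φ := by
    refine ⟨fun r r' h => funext fun x => Subtype.ext ?_, fun ⟨y, hny, hy⟩ => ?_⟩
    · have h0 : cls hdim m ((ext1 p fun x => (r x : kˣ)) / ext1 p fun x => (r' x : kˣ)) = 0 := by
        rw [cls_div hdim hm, sub_eq_zero]; exact congrArg Subtype.val h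
      obtain ⟨a, ha⟩ := (cls_eq_zero_iff hdim hm _).1 h0
      have h1 := ha x₀ hx₀
      have h2 := ha x.1 (Finset.mem_of_mem_erase x.2)
      rw [Pi.div_apply, ext1, ext1, dif_neg (Finset.notMem_erase x₀ _), dif_neg (Finset.notMem_erase x₀ _),
        div_one] at h1
      rw [Pi.div_apply, ext1, ext1, dif_pos x.2, dif_pos x.2, ← h1, div_eq_one] at h2
      exact h2
    · obtain ⟨v, rfl⟩ := exists_cls_of_toPic_eq_zero hdim hm hy
      rw [← cls_pow hdim hm, cls_eq_zero_iff hdim hm] at hny
      obtain ⟨a, ha⟩ := hny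
      refine ⟨fun x => ⟨v x.1 / v x₀, (mem_rootsOfUnity n _).2 ?_⟩, Subtype.ext ?_⟩
      · have h1 := ha x.1 (Finset.mem_of_mem_erase x.2)
        have h2 := ha x₀ hx₀
        rw [Pi.pow_apply] at h1 h2
        rw [div_pow, h1, h2, div_self']
      · refine sub_eq_zero.1 ?_
        show cls hdim m _ - cls hdim m v = 0
        rw [← cls_div hdim hm, cls_eq_zero_iff hdim hm]
        refine ⟨(v x₀)⁻¹, fun x hx => ?_⟩
        rw [Pi.div_apply, ext1]
        split_ifs with h
        · simp [div_eq_mul_inv, mul_comm, mul_assoc]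
        · have : x = x₀ := by_contra fun hne => h (Finset.mem_erase.2 ⟨hne, hx⟩)
          rw [this, one_div]
  rw [← Nat.card_eq_of_bijective Φ hΦ, Nat.card_fun, HasEnoughRootsOfUnity.natCard_rootsOfUnity]
  congr 1
  rw [Nat.card_eq_fintype_card, Fintype.card_coe, Finset.card_erase_of_mem hx₀]


open W4c1etcurveeff2 in
/-- Let k be an algebraically closed field, X a smooth proper integral curve over k (structure morphism
c, dimension one), m a reduced modulus (every multiplicity at most 1) whose support S has s points,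
and n ≥ 1 an integer invertible in k. Let Pic be the group of divisors on k-points modulo divisors
of nonzero rational functions and Pic_m the group of divisors vanishing on S modulo divisors of
nonzero rational functions congruent to 1 modulo m. Then every n-torsion class of Pic is the image
of an n-torsion class of Pic_m, and the n-torsion classes of Pic_m that map to zero in Pic are
exactly n^(s−1) in number (they form μ_n(k)^S modulo the diagonal μ_n(k)): the short exact sequence
0 → μ_n^S/μ_n → Pic_m[n] → Pic[n] → 0. (The published statement is for the degree-zero parts;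
n-torsion classes have degree zero, so this is the same sequence. For s = 0 the two groups coincide
and the count is 1.) -/
theorem result
    (k : Type u) [Field k] [IsAlgClosed k] (X : Scheme.{u}) [IsIntegral X]
    (c : X ⟶ Spec (CommRingCat.of k)) [IsProper c] [Smooth c] (hdim : topologicalKrullDim X = 1)
    (m : LocSym.Pt c →₀ ℕ) (hm : ∀ x : LocSym.Pt c, m x ≤ 1)
    (s : ℕ) (hs : m.support.card = s) (n : ℕ) (hn : 1 ≤ n) (hnk : (n : k) ≠ 0) :
    (∀ y : Pic c, n • y = 0 → ∃ x : PicMod c m, n • x = 0 ∧ picModToPic c m x = y) ∧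
    Nat.card {x : PicMod c m // n • x = 0 ∧ picModToPic c m x = 0} = n ^ (s - 1) := by
  open Groth.L12.PicModSeq in
  refine ⟨fun y hy => ?_, hs ▸ count hdim hm n hnk⟩
  obtain ⟨x₀, rfl⟩ := toPic_surjective hdim (m := m) y
  obtain ⟨v, hv⟩ := exists_cls_of_toPic_eq_zero hdim hm (y := n • x₀) (by rw [map_nsmul, hy])
  have hroot : ∀ a : kˣ, ∃ b : kˣ, b ^ n = a := fun a => by
    obtain ⟨b, hb⟩ := IsAlgClosed.exists_pow_nat_eq (a : k) hn
    exact ⟨Units.mk0 b fun e => a.ne_zero (by rw [← hb, e, zero_pow (by omega)]), Units.ext hb⟩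
  choose w hw using hroot
  refine ⟨x₀ - cls hdim m (fun x => w (v x)), ?_, by rw [map_sub, toPic_cls hdim, sub_zero]⟩
  rw [nsmul_sub, hv, ← cls_pow hdim hm, show (fun x => w (v x)) ^ n = v from funext fun x => hw (v x), sub_self]

end Groth.Agent.S14183
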