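import Groth.Statements.S14184
import Groth.Agent.L12.PicModSeq
import Groth.Agent.S11878
-- import your own Groth.Agent.* helpers here

set_option autoImplicit false
universe u
open CategoryTheory AlgebraicGeometry
open LocSym

namespace Groth.Agent.S14184

/-- Let k be an algebraically closed field and X a smooth proper integral curve over k (structure
morphism c, dimension one); points are k-points and ord_x is the valuation at x. Let n ≥ 1, let Z be
a finite set of points, let f₁, f₂ be nonzero rational functions and D₁, D₁′, D₂ divisors (finitely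
supported integer-valued functions on points) with n·D₁ = div(f₁) + D₁′, D₁′ supported on Z, n·D₂ =
div(f₂), f₂ taking the value 1 at every point of Z, and div(f₁) and D₂ with disjoint supports. Let
v₁(x) ∈ kˣ be the value of f₁ at each point of the support of D₂ and v₂(x) ∈ kˣ the value of f₂ at
each point of the support of D₁. Then the quotient of ∏_x v₁(x)^{D₂(x)} by ∏_x v₂(x)^{D₁(x)} is an
n-th root of unity: its n-th power is 1. (This quotient f₁(D₂)/f₂(D₁) is the generalised Weil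
pairing of the classes of (D₁, D₁′, f₁) and D₂; the published statement also normalises f₁, f₂ at a
base point, which is not needed for this assertion.) -/
theorem result
    (k : Type u) [Field k] [IsAlgClosed k] (X : Scheme.{u}) [IsIntegral X]
    (c : X ⟶ Spec (CommRingCat.of k)) [IsProper c] [Smooth c] (hdim : topologicalKrullDim X = 1)
    (n : ℕ) (hn : 1 ≤ n) (Z : Finset (LocSym.Pt c))
    (f₁ f₂ : X.functionField) (hf₁ : f₁ ≠ 0) (hf₂ : f₂ ≠ 0)
    (D₁ D₁' D₂ : LocSym.Pt c →₀ ℤ)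
    (hD₁ : ∀ x : LocSym.Pt c, (n : ℤ) * D₁ x = x.ord f₁ + D₁' x) (hD₁' : D₁'.support ⊆ Z)
    (hD₂ : ∀ x : LocSym.Pt c, (n : ℤ) * D₂ x = x.ord f₂)
    (hf₂Z : ∀ x ∈ Z, LocSym.HasValueAt x f₂ 1)
    (hdisj : ∀ x : LocSym.Pt c, x.ord f₁ = 0 ∨ D₂ x = 0)
    (v₁ v₂ : LocSym.Pt c → kˣ)
    (hv₁ : ∀ x ∈ D₂.support, LocSym.HasValueAt x f₁ (v₁ x : k))
    (hv₂ : ∀ x ∈ D₁.support, LocSym.HasValueAt x f₂ (v₂ x : k)) :
    ((D₂.prod fun x e => v₁ x ^ e) / (D₁.prod fun x e => v₂ x ^ e)) ^ n = 1 := by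
  classical
  open Groth.L12.PicModSeq in
  have hnz : (n : ℤ) ≠ 0 := by exact_mod_cast (by omega : n ≠ 0)
  let F₁ := Units.mk0 f₁ hf₁
  let F₂ := Units.mk0 f₂ hf₂
  have hz2 : ∀ x, D₂ x = 0 ↔ x.ord f₂ = 0 := fun x => by
    rw [← hD₂ x, mul_eq_zero, or_iff_right hnz]
  have hdisj' : ∀ x : LocSym.Pt c, x.ord f₁ = 0 ∨ x.ord f₂ = 0 := fun x =>
    (hdisj x).imp_right (hz2 x).1
  have h1 : ∀ x ∈ D₂.support, Groth.L12.PicModSeq.val hdim x F₁ = v₁ x := fun x hx =>
    ((Groth.L12.PicModSeq.hasValueAt_iff hdim x F₁ _).1 (hv₁ x hx)).2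
  have h2 : ∀ x ∈ D₁.support, Groth.L12.PicModSeq.val hdim x F₂ = v₂ x := fun x hx =>
    ((Groth.L12.PicModSeq.hasValueAt_iff hdim x F₂ _).1 (hv₂ x hx)).2
  have hZ : ∀ x : LocSym.Pt c, Groth.L12.PicModSeq.val hdim x F₂ ^ D₁' x = 1 := fun x => by
    by_cases h : D₁' x = 0
    · rw [h, zpow_zero]
    · have := ((Groth.L12.PicModSeq.hasValueAt_iff hdim x F₂ 1).1
        (by rw [Units.val_one]; exact hf₂Z x (hD₁' (Finsupp.mem_support_iff.2 h)))).2
      rw [this, one_zpow]
  have hrec := Groth.Agent.S11878.result k X c hdim f₁ f₂ hf₁ hf₂ hdisj'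
    (fun x => Groth.L12.PicModSeq.val hdim x F₁) (fun x => Groth.L12.PicModSeq.val hdim x F₂)
    (fun x h => Groth.L09.WeilRec.hasValueAt_u hdim x F₁ h)
    (fun x h => Groth.L09.WeilRec.hasValueAt_u hdim x F₂ h)
  have e1 : (∏ᶠ x : LocSym.Pt c, Groth.L12.PicModSeq.val hdim x F₁ ^ x.ord f₂) =
      (D₂.prod fun x e => v₁ x ^ e) ^ n := by
    rw [finprod_eq_prod_of_mulSupport_subset _ (s := D₂.support) ?_, Finsupp.prod, ← Finset.prod_pow]
    · exact Finset.prod_congr rfl fun x hx => by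
        rw [h1 x hx, ← hD₂ x, mul_comm, zpow_mul, zpow_natCast]
    · intro x hx
      by_contra h
      exact hx (by simp [(hz2 x).1 (Finsupp.notMem_support_iff.1 h)])
  have e2 : (∏ᶠ x : LocSym.Pt c, Groth.L12.PicModSeq.val hdim x F₂ ^ x.ord f₁) =
      (D₁.prod fun x e => v₂ x ^ e) ^ n := by
    have key : ∀ x : LocSym.Pt c, Groth.L12.PicModSeq.val hdim x F₂ ^ x.ord f₁ =
        Groth.L12.PicModSeq.val hdim x F₂ ^ ((n : ℤ) * D₁ x) := fun x => by
      rw [hD₁ x, zpow_add, hZ x, mul_one]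
    rw [finprod_congr key, finprod_eq_prod_of_mulSupport_subset _ (s := D₁.support) ?_, Finsupp.prod,
      ← Finset.prod_pow]
    · exact Finset.prod_congr rfl fun x hx => by
        rw [h2 x hx, mul_comm, zpow_mul, zpow_natCast]
    · intro x hx
      by_contra h
      exact hx (by simp [Finsupp.notMem_support_iff.1 h])
  rw [div_pow, ← e1, ← e2, hrec, div_self']

end Groth.Agent.S14184
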