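import Groth.Statements.S14188
import Groth.Agent.L20.GenExt.Basic

set_option autoImplicit false
universe u
open CategoryTheory CategoryTheory.Limits AlgebraicGeometry
open FlatMor

set_option backward.isDefEq.respectTransparency.types false
namespace Groth.Agent.S14188

/-- Let T be an integral scheme with generic point η, let Y and Z be schemes flat over T with Z
separated over T, and let ψ : Y_η → Z be a T-morphism from the generic fibre Y_η = Y ×_T Spec
O_{T,η} (equivalently, an η-morphism Y_η → Z_η). Let gr : Y_η → Y ×_T Z be the graph of ψ, the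
morphism whose components are the projection Y_η → Y and ψ, and let Γ ⊆ Y ×_T Z be the
scheme-theoretic image of gr (the schematic closure of the graph). Then ψ extends to a T-morphism φ
: Y → Z, meaning that the composite Y_η → Y → Z is ψ, if and only if the composite of the inclusion
Γ → Y ×_T Z with the first projection is an isomorphism Γ ≅ Y. -/
theorem result (T Y Z : Scheme.{u}) [IsIntegral T]
    (pY : Y ⟶ T) (pZ : Z ⟶ T) [Flat pY] [Flat pZ] [IsSeparated pZ]
    (ψ : pullback pY (T.fromSpecStalk (genericPoint T)) ⟶ Z)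
    (hψ : ψ ≫ pZ = pullback.fst pY (T.fromSpecStalk (genericPoint T)) ≫ pY)
    (gr : pullback pY (T.fromSpecStalk (genericPoint T)) ⟶ pullback pY pZ)
    (hgr₁ : gr ≫ pullback.fst pY pZ = pullback.fst pY (T.fromSpecStalk (genericPoint T)))
    (hgr₂ : gr ≫ pullback.snd pY pZ = ψ) :
    (∃ φ : Y ⟶ Z, φ ≫ pZ = pY ∧ pullback.fst pY (T.fromSpecStalk (genericPoint T)) ≫ φ = ψ) ↔
      IsIso (gr.imageι ≫ pullback.fst pY pZ) := by
  exact Groth.L20.GenExt.extends_iff_isIso pY pZ ψ gr hgr₁ hgr₂


end Groth.Agent.S14188
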