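import Groth.Statements.S14189
import Groth.Agent.L20.GenExt.Basic

set_option autoImplicit false
universe u
open CategoryTheory CategoryTheory.Limits AlgebraicGeometry
open FlatMor

set_option backward.isDefEq.respectTransparency.types false
namespace Groth.Agent.S14189

/-- Let T be an integral scheme with generic point η, let Y and Z be schemes flat over T with Z
separated over T, and let ψ : Y_η → Z be a T-morphism from the generic fibre Y_η = Y ×_T Spec
O_{T,η}. Let g : T' → T be flat, surjective and quasi-compact, and let φ' : Y_{T'} → Z_{T'} be a
T'-morphism which agrees with ψ over T' ×_T η, in the sense that on Y_{T'} ×_Y Y_η = Y ×_T T' ×_T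
Spec O_{T,η} the composite of the first projection with φ' and with Z_{T'} → Z equals the composite
of the second projection with ψ. Then ψ extends to a T-morphism φ : Y → Z, one whose composite with
Y_η → Y is ψ. (The published statement is an equivalence and also records that an extension, when it
exists, is unique; the converse direction, that an extension over T base-changes to such a φ' over
any such T', is immediate, and this row states the existence direction only.) -/
theorem result (T Y Z T' : Scheme.{u}) [IsIntegral T]
    (pY : Y ⟶ T) (pZ : Z ⟶ T) [Flat pY] [Flat pZ] [IsSeparated pZ]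
    (ψ : pullback pY (T.fromSpecStalk (genericPoint T)) ⟶ Z)
    (hψ : ψ ≫ pZ = pullback.fst pY (T.fromSpecStalk (genericPoint T)) ≫ pY)
    (g : T' ⟶ T) [Flat g] [Surjective g] [QuasiCompact g]
    (φ' : pullback pY g ⟶ pullback pZ g) (hφ' : φ' ≫ pullback.snd pZ g = pullback.snd pY g)
    (hagree : pullback.fst (pullback.fst pY g) (pullback.fst pY (T.fromSpecStalk (genericPoint T))) ≫ φ' ≫ pullback.fst pZ g =
      pullback.snd (pullback.fst pY g) (pullback.fst pY (T.fromSpecStalk (genericPoint T))) ≫ ψ) :
    ∃ φ : Y ⟶ Z, φ ≫ pZ = pY ∧ pullback.fst pY (T.fromSpecStalk (genericPoint T)) ≫ φ = ψ := by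
  exact Groth.L20.GenExt.exists_extension pY pZ ψ g φ' hφ' hagree


end Groth.Agent.S14189
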