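import Groth.Statements.S14190
import Groth.Agent.L19.VanishFibre.Supp
import Groth.Agent.L16.CohLinear
import Groth.Agent.L16.QcqsPush
import Groth.Agent.L29.DCoh.QCohOps

set_option autoImplicit false
universe u
open CategoryTheory CategoryTheory.Limits AlgebraicGeometry Opposite
open Models

namespace Groth.Agent.S14190

set_option backward.isDefEq.respectTransparency.types false
set_option backward.isDefEq.respectTransparency false
set_option linter.style.haveILetI false

/-- A module whose restriction to an open vanishes has no sections there. -/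
theorem supp0_of_isZero {X : Scheme.{u}} (U : X.Opens) (M : X.Modules)
    (h : IsZero ((Scheme.Modules.restrictFunctor U.ι).obj M)) : Groth.L20.Strat.Supp0 M (U : Set X)ᶜ := by
  intro W hW s
  have hWU : W ≤ U := fun x hx => by
    by_contra hxU
    exact Set.disjoint_left.1 hW hx hxU
  have heq : U.ι ''ᵁ (U.ι ⁻¹ᵁ W) = W := by
    rw [Scheme.Hom.image_preimage_eq_opensRange_inf, Scheme.Opens.opensRange_ι, inf_eq_right.2 hWU]
  have h1 : IsZero (((Scheme.Modules.restrictFunctor U.ι).obj M).presheaf.obj (op (U.ι ⁻¹ᵁ W))) :=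
    ((evaluation _ _).obj (op (U.ι ⁻¹ᵁ W))).map_isZero ((Scheme.Modules.toPresheaf _).map_isZero h)
  have h2 : IsZero (M.presheaf.obj (op (U.ι ''ᵁ (U.ι ⁻¹ᵁ W)))) := h1
  rw [heq] at h2
  exact (AddCommGrpCat.subsingleton_of_isZero h2).elim s 0

/-- The global sections of a module supported away from a basic open are torsion. -/
theorem exists_pow_smul_H0 {X : Scheme.{u}} [CompactSpace X] (M : X.Modules) [Coh.IsQCoh M] {T : Set X}
    (hM : Groth.L20.Strat.Supp0 M T) (a : Coh.Γtop X) (ha : Disjoint (X.basicOpen (show Γ(X, ⊤) from a) : Set X) T)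
    (q : Coh.HH X M 0) : ∃ n : ℕ, (a ^ n : Coh.Γtop X) • q = 0 := by
  let hT : IsTerminal (⊤ : X.Opens) := isTerminalTop
  let t : Γ(M, ⊤) := Sheaf.H.equiv₀ (Coh.toAb M) hT q
  obtain ⟨n, hn⟩ := Groth.L16.QcqsPush.exists_pow_smul_eq_zero M (U := (⊤ : X.Opens)) (by exact isCompact_univ)
    (show Γ(X, ⊤) from a) t (hM _ ha _)
  refine ⟨n, (Sheaf.H.equiv₀ (Coh.toAb M) hT).injective ?_⟩
  rw [map_zero]
  show Sheaf.H.equiv₀ (Coh.toAb M) hT (Sheaf.H.map (Coh.smulAb M (a ^ n)) 0 q) = 0
  rw [← Sheaf.H.equiv₀_naturality, Coh.smulAb_app]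
  have hres : Coh.resTop X (op ⊤) (a ^ n) = a ^ n := by
    show (X.ringCatSheaf.obj.map (homOfLE (le_top (a := (⊤ : X.Opens)))).op).hom (a ^ n) = a ^ n
    rw [show (homOfLE (le_top (a := (⊤ : X.Opens)))).op = 𝟙 (op (⊤ : X.Opens)) from rfl,
      CategoryTheory.Functor.map_id]
    rfl
  rw [hres]
  exact hn

/-- Let R be a discrete valuation ring with fraction field K, let C be a proper K-curve which is smooth
of relative dimension 1 and geometrically connected over K, and let X be a model of C over R (flat
and of finite type over R with generic fibre C) which is proper over R and normal; so X is a proper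
relative curve over R, integral of dimension 2. Let (ω, tr) be a 1-dualizing pair for X over R: ω is
a quasi-coherent O_X-module and tr : H¹(X, ω) → R an R-linear map such that φ ↦ tr ∘ H¹(φ) is a
bijection from Hom(F, ω) onto Hom_R(H¹(X, F), R) for every quasi-coherent F (such a pair is a
relative dualizing sheaf of X over R with its trace, and is unique up to isomorphism). Let U ⊆ X be
an open subscheme whose complement is a finite set of closed points of X (these lie in the closed
fibre and have codimension 2). Then the canonical map from ω to the direct image of its restriction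
to U is an isomorphism: for every open V ⊆ X the restriction map ω(V) → ω(V ∩ U) is bijective. (The
published statement is for a relative curve which need not be proper and for the relative dualizing
sheaf of duality theory; this row takes X proper over R, where a 1-dualizing pair in the above
global-sections sense determines that sheaf up to isomorphism.) -/
theorem result (R : Type u) [CommRing R] [IsDomain R] [IsDiscreteValuationRing R]
    (X C : Scheme.{u}) [X.Over (Spec (CommRingCat.of R))]
    (f : C ⟶ Spec (CommRingCat.of (FractionRing R)))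
    [SmoothOfRelativeDimension 1 f] [IsProper f] [GeometricallyConnected f]
    (hX : Models.IsModel R X (X ↘ Spec (CommRingCat.of R)) C f)
    [IsProper (X ↘ Spec (CommRingCat.of R))] (hn : Pi1.IsNormalScheme X)
    (ω : X.Modules) (tr : Coh.HH X ω 1 →ₗ[R] R) (hω : Canon.IsRDualOver R X 1 ω tr)
    (U : X.Opens) (hfin : ((U : Set X)ᶜ).Finite) (hcl : ∀ x : X, x ∉ U → IsClosed ({x} : Set X))
    (V : X.Opens) :
    Function.Bijective (ω.presheaf.map (homOfLE (inf_le_left : V ⊓ U ≤ V)).op).hom := by
  classical
  let p : X ⟶ Spec (CommRingCat.of R) := X ↘ Spec (CommRingCat.of R)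
  haveI : IsLocallyNoetherian X := LocallyOfFiniteType.isLocallyNoetherian p
  haveI : CompactSpace X := QuasiCompact.compactSpace_of_compactSpace p
  haveI : IsNoetherian X := ⟨⟩
  haveI : X.IsSeparated := ⟨by rw [← terminal.comp_from p]; infer_instance⟩
  obtain ⟨hqc, hbij⟩ := hω
  haveI := hqc
  let T : Set X := (U : Set X)ᶜ
  have hTc : IsClosed T := U.2.isClosed_compl
  -- the complement as a scheme
  let J := Scheme.IdealSheafData.vanishingIdeal (X := X) ⟨T, hTc⟩
  have hJ : Set.range J.subschemeι = T := by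
    rw [Scheme.IdealSheafData.range_subschemeι, Scheme.IdealSheafData.coe_support_vanishingIdeal]
    rfl
  haveI : IsNoetherian J.subscheme := by
    haveI : IsLocallyNoetherian J.subscheme := LocallyOfFiniteType.isLocallyNoetherian J.subschemeι
    haveI : CompactSpace J.subscheme := QuasiCompact.compactSpace_of_compactSpace J.subschemeι
    exact ⟨⟩
  haveI : Finite J.subscheme := Set.finite_univ_iff.1
    ((hfin.preimage (J.subschemeι.isEmbedding.injective.injOn)).subset fun z _ => (hJ.le ⟨z, rfl⟩ : J.subschemeι z ∈ T))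
  haveI : T1Space J.subscheme := ⟨fun z => by
    have := (hcl (J.subschemeι z) (show J.subschemeι z ∈ T from hJ ▸ ⟨z, rfl⟩)).preimage J.subschemeι.continuous
    rwa [← Set.image_singleton, J.subschemeι.isEmbedding.injective.preimage_image] at this⟩
  have hd : topologicalKrullDim J.subscheme ≤ ((0 : ℕ) : WithBot ℕ∞) :=
    topologicalKrullDim_zero_of_discreteTopology _
  have hvan : ∀ (M : X.Modules), Coh.IsQCoh M → IsZero ((Scheme.Modules.restrictFunctor U.ι).obj M) →
      Subsingleton (Coh.HH X M 1) := fun M hM h0 => by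
    haveI := hM
    exact Groth.L19.VanishFibre.subsingleton_HH_of_supp0 J.subschemeι hd M
      (hJ.symm ▸ supp0_of_isZero U M h0) one_pos
  -- the uniformizer
  obtain ⟨π, hπ⟩ := IsDiscreteValuationRing.exists_irreducible R
  let a : Coh.Γtop X := Coh.toGlobal p π
  have hdisj : Disjoint (X.basicOpen (show Γ(X, ⊤) from a) : Set X) T := by
    refine Set.disjoint_left.2 fun x hx hxT => ?_
    have hx' : x ∈ X.basicOpen (p.appTop ((Scheme.ΓSpecIso (CommRingCat.of R)).inv π)) := hx
    rw [← Scheme.preimage_basicOpen_top p, basicOpen_eq_of_affine] at hx'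
    have hπn : π ∉ (p x).asIdeal := hx'
    have hclp : IsClosed ({p x} : Set ↥(Spec (CommRingCat.of R))) := by
      rw [← Set.image_singleton]
      exact p.isClosedMap _ (hcl x hxT)
    have hmax : (p x).asIdeal.IsMaximal := (PrimeSpectrum.isClosed_singleton_iff_isMaximal _).1 hclp
    exact hπn (IsLocalRing.eq_maximalIdeal hmax ▸ hπ.not_isUnit)
  -- the unit
  let adj := Scheme.Modules.restrictAdjunction U.ι
  let G : X.Modules := (Scheme.Modules.pushforward U.ι).obj ((Scheme.Modules.restrictFunctor U.ι).obj ω)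
  let e : ω ⟶ G := adj.unit.app ω
  haveI : Coh.IsQCoh ((Scheme.Modules.restrictFunctor U.ι).obj ω) :=
    Scheme.Modules.isQuasicoherent_restrictFunctor _ ω
  haveI : IsNoetherian (U : Scheme.{u}) := by
    haveI : IsLocallyNoetherian (U : Scheme.{u}) := LocallyOfFiniteType.isLocallyNoetherian U.ι
    haveI : CompactSpace (U : Scheme.{u}) := isCompact_iff_compactSpace.1 (TopologicalSpace.NoetherianSpace.isCompact _)
    exact ⟨⟩
  have hGq : Coh.IsQCoh G := Groth.L16.QcqsPush.isQCoh_push _ U.ι
  haveI := hGq
  haveI hLe : IsIso ((Scheme.Modules.restrictFunctor U.ι).map e) := by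
    haveI : IsIso (((Scheme.Modules.restrictFunctor U.ι).map e) ≫
        adj.counit.app ((Scheme.Modules.restrictFunctor U.ι).obj ω)) :=
      (adj.left_triangle_components ω).symm ▸ inferInstance
    exact IsIso.of_isIso_comp_right _ (adj.counit.app ((Scheme.Modules.restrictFunctor U.ι).obj ω))
  haveI : Mono e := by
    have hK : Coh.IsQCoh (kernel e) := Groth.L29.DC.isQCoh_kernel' e hqc hGq
    have hKz : IsZero ((Scheme.Modules.restrictFunctor U.ι).obj (kernel e)) :=
      IsZero.of_iso (isZero_kernel_of_mono ((Scheme.Modules.restrictFunctor U.ι).map e))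
        (PreservesKernel.iso (Scheme.Modules.restrictFunctor U.ι) e)
    haveI := hvan _ hK hKz
    refine Preadditive.mono_of_kernel_zero ((hbij _ hK).1 (LinearMap.ext fun x => ?_))
    rw [Subsingleton.elim x 0, map_zero, map_zero]
  let Q := cokernel e
  have hQ : Coh.IsQCoh Q := Groth.L29.DC.isQCoh_cokernel' e hqc hGq
  have hQz : IsZero ((Scheme.Modules.restrictFunctor U.ι).obj Q) := by
    haveI : Epi ((Scheme.Modules.restrictFunctor U.ι).map (cokernel.π e)) := inferInstance
    refine IsZero.of_epi_eq_zero ((Scheme.Modules.restrictFunctor U.ι).map (cokernel.π e)) ?_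
    rw [← cancel_epi ((Scheme.Modules.restrictFunctor U.ι).map e), ← Functor.map_comp, cokernel.condition,
      Functor.map_zero, comp_zero]
  haveI := hQ
  haveI := hvan _ hQ hQz
  let S : ShortComplex X.Modules := ShortComplex.mk e (cokernel.π e) (cokernel.condition e)
  have hS : S.ShortExact :=
    { exact := S.exact_of_g_is_cokernel (cokernelIsCokernel e)
      mono_f := ‹Mono e›
      epi_g := inferInstanceAs (Epi (cokernel.π e)) }
  have hsurj : Function.Surjective (Canon.HHlin R e 1) := fun y => by
    obtain ⟨x, hx⟩ := (Groth.L16.CohLinear.exact_hmap_hmap hS 1 y).1 (Subsingleton.elim (α := Coh.HH X Q 1) _ _)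
    exact ⟨x, hx⟩
  have hker : ∀ x, Canon.HHlin R e 1 x = 0 → tr x = 0 := fun x hx => by
    obtain ⟨q, rfl⟩ := (Groth.L16.CohLinear.exact_delta_hmap hS 0 x).1 hx
    obtain ⟨n, hn⟩ := exists_pow_smul_H0 Q (supp0_of_isZero U Q hQz) a hdisj q
    have h1 : (π ^ n) • (Groth.L16.CohLinear.delta hS 0 q : Coh.HH X ω 1) = 0 := by
      show Coh.toGlobal p (π ^ n) • Groth.L16.CohLinear.delta hS 0 q = 0
      rw [map_pow]
      exact ((Groth.L16.CohLinear.delta hS 0).map_smul (a ^ n) q).symm.trans (by rw [hn, map_zero])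
    have h2 : (π ^ n) • tr (Groth.L16.CohLinear.delta hS 0 q) = 0 := (map_smul tr (π ^ n) _).symm.trans (by rw [h1, map_zero])
    exact (smul_eq_zero.1 h2).resolve_left (pow_ne_zero n hπ.ne_zero)
  let ψ : Coh.HH X G 1 →ₗ[R] R :=
    (Submodule.liftQ (LinearMap.ker (Canon.HHlin R e 1)) tr hker) ∘ₗ
      ((Canon.HHlin R e 1).quotKerEquivOfSurjective hsurj).symm.toLinearMap
  have hψ : ∀ x, ψ (Canon.HHlin R e 1 x) = tr x := fun x => by
    have : ((Canon.HHlin R e 1).quotKerEquivOfSurjective hsurj).symm (Canon.HHlin R e 1 x) =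
        Submodule.Quotient.mk x := by
      rw [LinearEquiv.symm_apply_eq]
      rfl
    show Submodule.liftQ _ tr hker (((Canon.HHlin R e 1).quotKerEquivOfSurjective hsurj).symm _) = _
    rw [this]
    rfl
  obtain ⟨r, hr⟩ := (hbij G hGq).2 ψ
  have her : e ≫ r = 𝟙 ω := (hbij ω hqc).1 (LinearMap.ext fun x => by
    have h1 : Canon.HHlin R (e ≫ r) 1 x = Canon.HHlin R r 1 (Canon.HHlin R e 1 x) :=
      Groth.L16.CohLinear.hmap_comp e r 1 x
    have h2 : Canon.HHlin R (𝟙 ω) 1 x = x := Groth.L16.CohLinear.hmap_id 1 x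
    show tr (Canon.HHlin R (e ≫ r) 1 x) = tr (Canon.HHlin R (𝟙 ω) 1 x)
    rw [h1, h2, ← hψ x, ← hr]
    rfl)
  have hre : r ≫ e = 𝟙 G := by
    apply (adj.homEquiv _ _).symm.injective
    rw [adj.homEquiv_counit, adj.homEquiv_counit]
    congr 1
    rw [← cancel_epi ((Scheme.Modules.restrictFunctor U.ι).map e), ← Functor.map_comp, ← Functor.map_comp,
      reassoc_of% her, Category.comp_id]
  haveI : IsIso e := ⟨r, her, hre⟩
  have happ : IsIso (e.app V) := inferInstance
  have hle : V ⊓ U ≤ U.ι ''ᵁ (U.ι ⁻¹ᵁ V) := by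
    rw [Scheme.Hom.image_preimage_eq_opensRange_inf, Scheme.Opens.opensRange_ι, inf_comm]
  have hge : U.ι ''ᵁ (U.ι ⁻¹ᵁ V) ≤ V ⊓ U := by
    rw [Scheme.Hom.image_preimage_eq_opensRange_inf, Scheme.Opens.opensRange_ι, inf_comm]
  have key : ω.presheaf.map (homOfLE (inf_le_left : V ⊓ U ≤ V)).op =
      e.app V ≫ ω.presheaf.map (homOfLE hle).op := by
    rw [show e.app V = ω.presheaf.map (homOfLE (U.ι.image_preimage_le V)).op from
      Scheme.Modules.restrictAdjunction_unit_app_app U.ι ω V, ← ω.presheaf.map_comp]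
    rfl
  haveI : IsIso (ω.presheaf.map (homOfLE hle).op) := by
    rw [show homOfLE hle = eqToHom (le_antisymm hle hge) from Subsingleton.elim _ _]
    infer_instance
  haveI : IsIso (ω.presheaf.map (homOfLE (inf_le_left : V ⊓ U ≤ V)).op) := by
    rw [key]
    exact IsIso.comp_isIso
  exact ConcreteCategory.bijective_of_isIso _

end Groth.Agent.S14190
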