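import Groth.Statements.S14191
import Groth.Agent.L05.Models.DualRank
import Groth.Agent.L16.SecComp.Smooth
-- import your own Groth.Agent.* helpers here

set_option autoImplicit false
universe u
open CategoryTheory CategoryTheory.Limits AlgebraicGeometry Opposite
open Models

namespace Groth.Agent.S14191

set_option backward.isDefEq.respectTransparency false
set_option backward.isDefEq.respectTransparency.types false
set_option linter.style.haveILetI false
open Groth.L05.Models.DualFree


/-- Let R be a discrete valuation ring with fraction field K, let C be a proper K-curve which is smooth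
of relative dimension 1 and geometrically connected over K, and let X be a model of C over R (flat
and of finite type over R with generic fibre C) which is proper over R and normal; so X is a proper
relative curve over R. Let (ω, tr) be a 1-dualizing pair for X over R: ω is a quasi-coherent
O_X-module and tr : H¹(X, ω) → R an R-linear map such that φ ↦ tr ∘ H¹(φ) is a bijection from Hom(F,
ω) onto Hom_R(H¹(X, F), R) for every quasi-coherent F. Suppose that H¹(X, O_X) is a free R-module,
which for such X says that X → Spec R is cohomologically flat in dimension 0. Then H¹(X, ω) is a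
free R-module and its rank equals the rank of the free R-module H⁰(X, O_X); that is, H¹(X, ω) is
R-dual to H⁰(X, O_X) up to isomorphism. (The published statement is phrased for the relative
dualizing sheaf of duality theory and its higher direct image R¹f_*; over the affine base Spec R a
1-dualizing pair in the above global-sections sense determines that sheaf up to isomorphism, and
local freeness of R¹f_* is freeness of H¹.) -/
theorem result (R : Type u) [CommRing R] [IsDomain R] [IsDiscreteValuationRing R]
    (X C : Scheme.{u}) [X.Over (Spec (CommRingCat.of R))]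
    (f : C ⟶ Spec (CommRingCat.of (FractionRing R)))
    [SmoothOfRelativeDimension 1 f] [IsProper f] [GeometricallyConnected f]
    (hX : Models.IsModel R X (X ↘ Spec (CommRingCat.of R)) C f)
    [IsProper (X ↘ Spec (CommRingCat.of R))] (hn : Pi1.IsNormalScheme X)
    (ω : X.Modules) (tr : Coh.HH X ω 1 →ₗ[R] R) (hω : Canon.IsRDualOver R X 1 ω tr)
    (hcf : Module.Free R (Coh.HH X (Coh.structureModule X) 1)) :
    Module.Free R (Coh.HH X ω 1) ∧
      Module.finrank R (Coh.HH X ω 1) = Module.finrank R (Coh.HH X (Coh.structureModule X) 0) := by
  classical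
  obtain ⟨hflat, hft, -, g, hg⟩ := hX
  haveI := hflat
  haveI : IsLocallyNoetherian X := LocallyOfFiniteType.isLocallyNoetherian (X ↘ Spec (CommRingCat.of R))
  haveI : IsReduced X := by
    haveI : ∀ x : X, _root_.IsReduced (X.presheaf.stalk x) := fun x => by
      obtain ⟨_, _⟩ := hn x
      infer_instance
    exact isReduced_of_isReduced_stalk X
  letI : C.Over (Spec (CommRingCat.of (FractionRing R))) := ⟨f⟩
  haveI : IsProper (C ↘ Spec (CommRingCat.of (FractionRing R))) := ‹IsProper f›
  haveI : Smooth f := SmoothOfRelativeDimension.smooth (n := 1) f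
  haveI : Subsingleton ↥(Spec (CommRingCat.of (FractionRing R))) :=
    inferInstanceAs (Subsingleton (PrimeSpectrum (FractionRing R)))
  haveI : ConnectedSpace C := GeometricallyConnected.connectedSpace f fun U _ => isOpen_discrete _
  haveI : GeometricallyReduced f := Groth.L16.SecComp.geometricallyReduced_of_smooth f
  haveI := Groth.L21.RR.isNoetherian_of_proper (X := C) (FractionRing R)
  haveI : IsIntegral C := Groth.L21.NormalTotal.isIntegral_of_connected fun c => by
    haveI := Groth.L08.Cube.isRegularLocalRing_of_smooth f c
    exact Groth.L01.isDomain_of_regular _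
  have hC : Function.Bijective (Coh.toGlobal f) := Groth.L08.Cube.bijective_toGlobal_of_geometric f
  have hconst := surjective_toGlobal R f g hg hC
  haveI : JacobsonSpace C := LocallyOfFiniteType.jacobsonSpace f
  haveI : Nontrivial C := by
    by_contra hh
    rw [not_nontrivial_iff_subsingleton] at hh
    have h1 := Groth.L21.G1.dim_eq_one f
    have h2 : topologicalKrullDim C ≤ 0 := topologicalKrullDim_zero_of_discreteTopology _ |>.trans le_rfl
    rw [h1] at h2
    exact absurd h2 (by decide)
  haveI : Module.Finite R (Coh.HH X (Coh.structureModule X) 1) :=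
    Groth.L16.ProperFinite.finite_HH R Groth.L16.CohClosedPush.isCoh_structure 1
  haveI := hcf
  have hinj := injective_tr R hconst ω tr hω
  -- the trace is not zero
  have hne : ∃ e, tr e ≠ 0 := by
    by_contra hh
    push Not at hh
    obtain ⟨F, hF, φ, hφ⟩ : ∃ F : X.Modules, Coh.IsQCoh F ∧ ∃ φ : Coh.HH X F 1 →ₗ[R] R, φ ≠ 0 := by
      rcases subsingleton_or_nontrivial (Coh.HH X (Coh.structureModule X) 1) with h | h
      · obtain ⟨x, y, hxy, hx, hy⟩ := exists_two_closedPoints (C := C)
        exact exists_sheaf_with_form R f g hg x y hxy hx hy hconst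
      · let B := Module.Free.chooseBasis R (Coh.HH X (Coh.structureModule X) 1)
        haveI := B.index_nonempty
        let i := Classical.arbitrary (Module.Free.ChooseBasisIndex R (Coh.HH X (Coh.structureModule X) 1))
        refine ⟨_, Groth.L19.Conormal.isQCoh_structureModule X, B.coord i, fun h0 => one_ne_zero (α := R) ?_⟩
        simpa using LinearMap.congr_fun h0 (B i)
    obtain ⟨ψ, hψ⟩ := (hω.2 F hF).2 φ
    exact hφ (hψ ▸ LinearMap.ext fun v => hh _)
  -- so the first cohomology of `ω` is a nonzero ideal of `R`
  obtain ⟨a, ha⟩ := (IsPrincipalIdealRing.principal (LinearMap.range tr : Ideal R)).principal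
  have ha0 : a ≠ 0 := fun h0 => by
    obtain ⟨e, he⟩ := hne
    have : tr e ∈ Submodule.span R {a} := ha ▸ (⟨e, rfl⟩ : tr e ∈ LinearMap.range tr)
    rw [h0, Submodule.span_zero_singleton] at this
    exact he ((Submodule.mem_bot R).1 this)
  let E : R ≃ₗ[R] Coh.HH X ω 1 :=
    (LinearEquiv.toSpanNonzeroSingleton R R a ha0).trans
      ((LinearEquiv.ofEq _ _ ha.symm).trans (LinearEquiv.ofInjective tr hinj).symm)
  -- the global functions are `R`
  have hinjR : Function.Injective (Coh.toGlobal (X ↘ Spec (CommRingCat.of R))) := by
    refine (injective_iff_map_eq_zero _).2 fun r hr => ?_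
    have hgf : g.appTop ((X ↘ Spec (CommRingCat.of R)).appTop ((Scheme.ΓSpecIso (CommRingCat.of R)).inv r)) =
        Coh.toGlobal f (algebraMap R (FractionRing R) r) := by
      show _ = f.appTop ((Scheme.ΓSpecIso _).inv (algebraMap R (FractionRing R) r))
      rw [← CommRingCat.comp_apply, ← Scheme.Hom.comp_appTop, hg.w, Scheme.Hom.comp_appTop, CommRingCat.comp_apply]
      congr 1
      exact ConcreteCategory.congr_hom (Scheme.ΓSpecIso_inv_naturality
        (CommRingCat.ofHom (algebraMap R (FractionRing R)))).symm r
    refine IsFractionRing.injective R (FractionRing R) (hC.1 ?_)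
    rw [← hgf, map_zero, map_zero]
    exact (congrArg g.appTop hr).trans (map_zero _)
  let one' : Coh.HH X (Coh.structureModule X) 0 := (Groth.L21.RR.e0 _).symm (Groth.L21.RR.oneSec X)
  have hσ : ∀ r : R, r • one' = (Groth.L21.RR.e0 (Coh.structureModule X)).symm
      (show Γ(Coh.structureModule X, ⊤) from Coh.toGlobal (X ↘ Spec (CommRingCat.of R)) r) := fun r =>
    e0_symm_one_smul (Coh.toGlobal (X ↘ Spec (CommRingCat.of R)) r)
  let E' : R ≃ₗ[R] Coh.HH X (Coh.structureModule X) 0 :=
    LinearEquiv.ofBijective (LinearMap.toSpanSingleton R _ one') ⟨fun r r' h => hinjR (by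
      simp only [LinearMap.toSpanSingleton_apply, hσ] at h
      exact (Groth.L21.RR.e0 (Coh.structureModule X)).symm.injective h), fun v => by
      obtain ⟨r, hr⟩ := hconst (show Coh.Γtop X from Groth.L21.RR.e0 (Coh.structureModule X) v)
      refine ⟨r, ?_⟩
      rw [LinearMap.toSpanSingleton_apply, hσ, hr]
      exact (Groth.L21.RR.e0 (Coh.structureModule X)).symm_apply_apply v⟩
  exact ⟨Module.Free.of_equiv E, E.finrank_eq.symm.trans E'.finrank_eq⟩

end Groth.Agent.S14191
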