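import Groth.Statements.S14192
import Mathlib.RingTheory.PowerSeries.Derivative
import Mathlib.RingTheory.PowerSeries.Exp
import Mathlib.RingTheory.PowerSeries.Inverse
import Mathlib.Tactic.LinearCombination

set_option autoImplicit false
open PowerSeries
open StackCount

namespace Groth.Agent.S14192

open scoped PowerSeries in
theorem logd_prod (s : Finset ℤ) (a : ℤ → ℚ) (e : ℤ → ℕ) :
    d⁄dX ℚ (∏ n ∈ s, (1 - C (a n) * X) ^ e n) =
      (∏ n ∈ s, (1 - C (a n) * X) ^ e n) * ∑ n ∈ s, -((e n : ℚ⟦X⟧) * C (a n) * mk fun v => a n ^ v) := by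
  induction s using Finset.induction_on with
  | empty => simp [Derivation.map_one_eq_zero]
  | insert m s hm ih =>
    rw [Finset.prod_insert hm, Finset.sum_insert hm, Derivation.leibniz, smul_eq_mul, smul_eq_mul, ih]
    have hg : (1 - C (a m) * X) * mk (fun v => a m ^ v) = 1 := by
      ext v
      rcases v with _ | v
      · simp [sub_mul]
      · rw [sub_mul, one_mul, map_sub, mul_assoc, coeff_C_mul, coeff_succ_X_mul, coeff_mk, coeff_mk, pow_succ,
          coeff_one, if_neg (Nat.succ_ne_zero v)]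
        ring
    have hD : d⁄dX ℚ (1 - C (a m) * X) = -C (a m) := by
      rw [map_sub, Derivation.map_one_eq_zero, zero_sub, Derivation.leibniz, derivative_C, smul_zero, add_zero,
        derivative_X, smul_eq_mul, mul_one]
    rw [derivative_pow, hD]
    rcases Nat.eq_zero_or_pos (e m) with he | he
    · simp [he]
    · obtain ⟨d, hd⟩ := Nat.exists_eq_add_of_le he
      rw [hd, Nat.add_sub_cancel_left, pow_add, pow_one]
      linear_combination ((C (a m)) * ((1 + d : ℕ) : ℚ⟦X⟧) * (1 - C (a m) * X) ^ d *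
        (∏ n ∈ s, (1 - C (a n) * X) ^ e n)) * hg

/-- Let R = Σ_n r_n X^n be a Laurent polynomial with integer coefficients and q > 1 an integer. In the
ring of formal power series in t over ℚ, the exponential of Σ_{v ≥ 1} R(q^v) t^v / v equals the
finite product Π_n (1 - q^n t)^(-r_n). Stated here with denominators cleared: the exponential series
multiplied by Π_{n : r_n > 0} (1 - q^n t)^(r_n) equals Π_{n : r_n < 0} (1 - q^n t)^(-r_n) (each
factor 1 - q^n t is a unit, so this is equivalent). -/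
theorem result (R : LaurentPolynomial ℤ) (q : ℤ) (hq : 1 < q) :
    (PowerSeries.exp ℚ).subst
        (PowerSeries.mk fun v : ℕ => if v = 0 then (0 : ℚ)
          else (R.coeff.sum fun (n : ℤ) (r : ℤ) => (r : ℚ) * (q : ℚ) ^ (n * (v : ℤ))) / (v : ℚ))
      * ∏ n ∈ R.coeff.support, (1 - PowerSeries.C ((q : ℚ) ^ n) * PowerSeries.X) ^ (R.coeff n).toNat
    = ∏ n ∈ R.coeff.support, (1 - PowerSeries.C ((q : ℚ) ^ n) * PowerSeries.X) ^ (-(R.coeff n)).toNat := by
  classical
  let a : ℤ → ℚ := fun n => (q : ℚ) ^ n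
  let s := R.coeff.support
  set L := PowerSeries.mk fun v : ℕ => if v = 0 then (0 : ℚ)
          else (R.coeff.sum fun (n : ℤ) (r : ℤ) => (r : ℚ) * (q : ℚ) ^ (n * (v : ℤ))) / (v : ℚ) with hLdef
  have hL0 : constantCoeff L = 0 := by
    rw [hLdef, ← coeff_zero_eq_constantCoeff_apply, coeff_mk, if_pos rfl]
  have hL : HasSubst L := HasSubst.of_constantCoeff_zero' hL0
  set P := ∏ n ∈ R.coeff.support, (1 - PowerSeries.C ((q : ℚ) ^ n) * PowerSeries.X) ^ (R.coeff n).toNat
  set M := ∏ n ∈ R.coeff.support, (1 - PowerSeries.C ((q : ℚ) ^ n) * PowerSeries.X) ^ (-(R.coeff n)).toNat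
  have hP := logd_prod s a (fun n => (R.coeff n).toNat)
  have hM := logd_prod s a (fun n => (-(R.coeff n)).toNat)
  have hsum : d⁄dX ℚ L + ∑ n ∈ s, -(((R.coeff n).toNat : ℚ⟦X⟧) * C (a n) * mk fun v => a n ^ v) =
      ∑ n ∈ s, -(((-(R.coeff n)).toNat : ℚ⟦X⟧) * C (a n) * mk fun v => a n ^ v) := by
    rw [← eq_sub_iff_add_eq, ← Finset.sum_sub_distrib]
    ext v
    rw [coeff_derivative, hLdef, coeff_mk, if_neg (Nat.succ_ne_zero v), map_sum, ← Nat.cast_add_one (R := ℚ) v,
      div_mul_cancel₀ _ (Nat.cast_ne_zero.2 (Nat.succ_ne_zero v)), Nat.cast_add_one, Finsupp.sum]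
    refine Finset.sum_congr rfl fun n _ => ?_
    have hr : ((R.coeff n).toNat : ℚ) - ((-(R.coeff n)).toNat : ℚ) = (R.coeff n : ℚ) := by
      exact_mod_cast Int.toNat_sub_toNat_neg (R.coeff n)
    rw [← hr, map_sub, map_neg, map_neg, ← map_natCast (C (R := ℚ)), ← map_natCast (C (R := ℚ)), ← map_mul,
      ← map_mul, coeff_C_mul, coeff_C_mul, coeff_mk, zpow_mul, show ((v : ℤ) + 1) = ((v + 1 : ℕ) : ℤ) by simp,
      zpow_natCast, pow_succ]
    ring
  have hP0 : ∀ e : ℤ → ℕ, constantCoeff (∏ n ∈ s, (1 - C (a n) * X) ^ e n) = 1 := fun e => by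
    rw [map_prod]
    exact Finset.prod_eq_one fun n _ => by simp
  have hM0 : constantCoeff M = 1 := hP0 _
  have hE0 : constantCoeff ((exp ℚ).subst L) = 1 := by
    rw [← coeff_zero_eq_constantCoeff_apply, coeff_subst' hL, finsum_eq_single _ 0]
    · simp
    · intro d hd
      simp [hL0, zero_pow hd]
  have hMne : constantCoeff M ≠ 0 := by rw [hM0]; exact one_ne_zero
  have hD : d⁄dX ℚ ((exp ℚ).subst L * P) = (exp ℚ).subst L * P *
      ∑ n ∈ s, -(((-(R.coeff n)).toNat : ℚ⟦X⟧) * C (a n) * mk fun v => a n ^ v) := by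
    rw [Derivation.leibniz, derivative_subst hL, derivative_exp, smul_eq_mul, smul_eq_mul, hP, ← hsum]
    ring
  have h : (exp ℚ).subst L * P * M⁻¹ = 1 := by
    refine derivative.ext ?_ ?_
    · rw [Derivation.map_one_eq_zero, Derivation.leibniz, smul_eq_mul, smul_eq_mul, hD, derivative_inv', hM]
      have := PowerSeries.mul_inv_cancel M hMne
      linear_combination -((exp ℚ).subst L * P * M⁻¹ *
        ∑ n ∈ s, -(((-(R.coeff n)).toNat : ℚ⟦X⟧) * C (a n) * mk fun v => a n ^ v)) * this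
    · rw [map_mul, map_mul, hE0, map_one, constantCoeff_inv, hM0]
      show 1 * constantCoeff P * 1⁻¹ = 1
      rw [show constantCoeff P = 1 from hP0 _]
      norm_num
  calc _ = (exp ℚ).subst L * P * (M⁻¹ * M) := by rw [PowerSeries.inv_mul_cancel M hMne, mul_one]
    _ = 1 * M := by rw [← mul_assoc, h]
    _ = M := one_mul M

end Groth.Agent.S14192
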