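import Groth.Statements.S14196
import Groth.Agent.L24.Count.Sections
import Mathlib.AlgebraicGeometry.AlgClosed.Basic

set_option autoImplicit false
set_option backward.isDefEq.respectTransparency.types false
universe u
open CategoryTheory MonoidalCategory CartesianMonoidalCategory AlgebraicGeometry
open StackCount

namespace Groth.Agent.S14196

/-- Let k be a finite field with algebraic closure k̄, G a smooth affine algebraic group over k acting
on a variety X over k (reduced, of finite type), and [X/G] the quotient stack whose objects over a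
k-scheme T are G-torsors P → T, locally trivial for the étale topology and taken to be schemes, with
a G-equivariant morphism P → X. Write T̄ = Spec k̄ over Spec k. Then: every object of the fibre
category of [X/G] over T̄ admits a section T̄ → P of its torsor; for objects A, B over T̄ with
chosen sections t_A, t_B, A and B are isomorphic in the fibre over T̄ if and only if the k̄-points
t_B φ_B and t_A φ_A of X lie in one G(k̄)-orbit (there is g ∈ G(T̄) with g · (t_A φ_A) = t_B φ_B);
and every k̄-point of X is of the form t φ_A. Hence the isomorphism classes of [X/G](k̄) correspond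
bijectively to the G(k̄)-orbits in X(k̄). (The published statement allows any smooth algebraic group
G; this row takes G affine, so that every torsor is a scheme.) -/
theorem result (k : Type u) [Field k] [Finite k]
    (G : Over (Spec (CommRingCat.of k))) [GrpObj G] [Smooth G.hom] [IsAffineHom G.hom]
    (X : Over (Spec (CommRingCat.of k))) [LocallyOfFiniteType X.hom] [QuasiCompact X.hom]
    [IsReduced X.left] (aX : AlgGrp.Action G X) :
    (∀ A : (AlgSt.QuotObj.forget Scheme.etalePrecoverage G aX).Fiber (Over.mk (Spec.map (CommRingCat.ofHom (algebraMap k (AlgebraicClosure k)))) : Over (Spec (CommRingCat.of k))),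
        ∃ t : (Over.mk (Spec.map (CommRingCat.ofHom (algebraMap k (AlgebraicClosure k)))) : Over (Spec (CommRingCat.of k))) ⟶ A.1.P, t ≫ A.1.π = eqToHom A.2.symm) ∧
    (∀ (A B : (AlgSt.QuotObj.forget Scheme.etalePrecoverage G aX).Fiber (Over.mk (Spec.map (CommRingCat.ofHom (algebraMap k (AlgebraicClosure k)))) : Over (Spec (CommRingCat.of k))))
        (tA : (Over.mk (Spec.map (CommRingCat.ofHom (algebraMap k (AlgebraicClosure k)))) : Over (Spec (CommRingCat.of k))) ⟶ A.1.P) (tB : (Over.mk (Spec.map (CommRingCat.ofHom (algebraMap k (AlgebraicClosure k)))) : Over (Spec (CommRingCat.of k))) ⟶ B.1.P),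
        tA ≫ A.1.π = eqToHom A.2.symm → tB ≫ B.1.π = eqToHom B.2.symm →
        (Nonempty (A ≅ B) ↔
          ∃ g : (Over.mk (Spec.map (CommRingCat.ofHom (algebraMap k (AlgebraicClosure k)))) : Over (Spec (CommRingCat.of k))) ⟶ G,
            CartesianMonoidalCategory.lift g (tA ≫ A.1.φ) ≫ aX.act = tB ≫ B.1.φ)) ∧
    (∀ x : (Over.mk (Spec.map (CommRingCat.ofHom (algebraMap k (AlgebraicClosure k)))) : Over (Spec (CommRingCat.of k))) ⟶ X,
        ∃ (A : (AlgSt.QuotObj.forget Scheme.etalePrecoverage G aX).Fiber (Over.mk (Spec.map (CommRingCat.ofHom (algebraMap k (AlgebraicClosure k)))) : Over (Spec (CommRingCat.of k)))) (t : (Over.mk (Spec.map (CommRingCat.ofHom (algebraMap k (AlgebraicClosure k)))) : Over (Spec (CommRingCat.of k))) ⟶ A.1.P),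
          t ≫ A.1.π = eqToHom A.2.symm ∧ t ≫ A.1.φ = x) := by
  let T : Over (Spec (CommRingCat.of k)) :=
    Over.mk (Spec.map (CommRingCat.ofHom (algebraMap k (AlgebraicClosure k))))
  have hsec : ∀ A : (AlgSt.QuotObj.forget Scheme.etalePrecoverage G aX).Fiber T,
      ∃ t : T ⟶ A.1.P, t ≫ A.1.π = eqToHom A.2.symm := fun A => by
    obtain ⟨R, hR, hs⟩ := A.1.loc
    obtain ⟨𝒰, rfl⟩ := R.exists_eq_preZeroHypercover
    obtain ⟨hsurj, hP⟩ := (Scheme.ofArrows_mem_precoverage_iff _).1 hR
    let e : T ⟶ A.1.base := eqToHom A.2.symm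
    let e' : Spec (CommRingCat.of (AlgebraicClosure k)) ⟶ A.1.base.left := e.left
    obtain ⟨j, w, hw⟩ := hsurj (e' (IsLocalRing.closedPoint (AlgebraicClosure k)))
    obtain ⟨t, ht⟩ := hs (𝒰.f j) ⟨j⟩
    haveI : Etale (𝒰.f j) := hP j
    obtain ⟨z, -, -⟩ := Scheme.Pullback.exists_preimage_pullback (f := 𝒰.f j) (g := e') w _ hw
    let s := Limits.pullback.snd (𝒰.f j) e'
    haveI : LocallyOfFiniteType s := inferInstanceAs (LocallyOfFiniteType (Limits.pullback.snd (𝒰.f j) e'))
    haveI : JacobsonSpace ↥(Limits.pullback (𝒰.f j) e') := LocallyOfFiniteType.jacobsonSpace s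
    obtain ⟨x, -, hx⟩ := nonempty_inter_closedPoints (X := ↥(Limits.pullback (𝒰.f j) e')) ⟨z, Set.mem_univ z⟩
      isOpen_univ.isLocallyClosed
    let b' := pointOfClosedPoint s x hx ≫ Limits.pullback.fst (𝒰.f j) e' ≫ t
    have hb' : b' ≫ A.1.π.left = e' := by
      show (_ ≫ _ ≫ t) ≫ A.1.π.left = e'
      rw [Category.assoc, Category.assoc, show t ≫ A.1.π.left = 𝒰.f j from ht, Limits.pullback.condition,
        pointOfClosedPoint_comp_assoc]
    refine ⟨Over.homMk b' ?_, Over.OverMorphism.ext hb'⟩
    rw [← Over.w A.1.π, ← Category.assoc, hb']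
    exact Over.w e
  exact ⟨hsec, fun A B tA tB hA hB => Groth.L24.Count.iso_iff_orbit A B tA tB hA hB,
    fun x => Groth.L24.Count.exists_section_of_point x⟩

end Groth.Agent.S14196
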