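import Groth.Statements.S14197
import Groth.Agent.L24.Count.ModelPoint

set_option autoImplicit false
set_option backward.isDefEq.respectTransparency.types false
universe u
open CategoryTheory MonoidalCategory CartesianMonoidalCategory AlgebraicGeometry
open StackCount

namespace Groth.Agent.S14197

/-- Let k be a finite field with algebraic closure k̄, G a smooth affine algebraic group over k acting
on a variety X over k, [X/G] the quotient stack of G-torsors (schemes, locally trivial for the étale
topology) with an equivariant morphism to X, and k' ⊆ k̄ a subfield finite over k; write T̄ = Spec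
k̄ and T' = Spec k' over Spec k, with ι : T̄ → T' the structure map. Let A be an object of [X/G]
over T̄, t a section of its torsor and x = t φ_A the corresponding k̄-point of X. Then A has a model
over k' — there are an object B of [X/G] over T' and a morphism A → B of [X/G] lying over ι (so A is
the pull-back of B) — if and only if the G(k̄)-orbit of x is fixed by Gal(k̄/k'): for every
k'-algebra automorphism σ of k̄, with s : T̄ → T̄ the induced morphism, there is g ∈ G(T̄) with g ·
x = s x. (The published statement allows any smooth algebraic group G; this row takes G affine, so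
that torsors are schemes. Together with the classification of the isomorphism classes over k̄ by
G(k̄)-orbits of k̄-points, this says that the class of A in G(k̄)∖X(k̄) has a representative defined
over k' exactly when it is Galois-fixed.) -/
theorem result (k : Type u) [Field k] [Finite k]
    (G : Over (Spec (CommRingCat.of k))) [GrpObj G] [Smooth G.hom] [IsAffineHom G.hom]
    (X : Over (Spec (CommRingCat.of k))) [LocallyOfFiniteType X.hom] [QuasiCompact X.hom]
    [IsReduced X.left] (aX : AlgGrp.Action G X)
    (k' : IntermediateField k (AlgebraicClosure k)) [FiniteDimensional k k']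
    (ι : (Over.mk (Spec.map (CommRingCat.ofHom (algebraMap k (AlgebraicClosure k)))) : Over (Spec (CommRingCat.of k))) ⟶ (Over.mk (Spec.map (CommRingCat.ofHom (algebraMap k k'))) : Over (Spec (CommRingCat.of k))))
    (hι : ι.left = Spec.map (CommRingCat.ofHom (algebraMap k' (AlgebraicClosure k))))
    (A : (AlgSt.QuotObj.forget Scheme.etalePrecoverage G aX).Fiber (Over.mk (Spec.map (CommRingCat.ofHom (algebraMap k (AlgebraicClosure k)))) : Over (Spec (CommRingCat.of k)))) (t : (Over.mk (Spec.map (CommRingCat.ofHom (algebraMap k (AlgebraicClosure k)))) : Over (Spec (CommRingCat.of k))) ⟶ A.1.P) (ht : t ≫ A.1.π = eqToHom A.2.symm) :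
    (∃ (B : AlgSt.QuotObj Scheme.etalePrecoverage G aX) (hB : B.base = (Over.mk (Spec.map (CommRingCat.ofHom (algebraMap k k'))) : Over (Spec (CommRingCat.of k))))
        (h : A.1 ⟶ B), h.base = eqToHom A.2 ≫ ι ≫ eqToHom hB.symm) ↔
    (∀ (σ : AlgebraicClosure k ≃ₐ[k'] AlgebraicClosure k) (s : (Over.mk (Spec.map (CommRingCat.ofHom (algebraMap k (AlgebraicClosure k)))) : Over (Spec (CommRingCat.of k))) ⟶ (Over.mk (Spec.map (CommRingCat.ofHom (algebraMap k (AlgebraicClosure k)))) : Over (Spec (CommRingCat.of k)))),
        s.left = Spec.map (CommRingCat.ofHom σ.toRingEquiv.toRingHom) →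
        ∃ g : (Over.mk (Spec.map (CommRingCat.ofHom (algebraMap k (AlgebraicClosure k)))) : Over (Spec (CommRingCat.of k))) ⟶ G,
          CartesianMonoidalCategory.lift g (t ≫ A.1.φ) ≫ aX.act = s ≫ t ≫ A.1.φ) := by
  let kb := AlgebraicClosure k
  haveI : IsAlgClosure k' kb := ⟨inferInstance, Algebra.IsAlgebraic.tower_top (K := k) k'⟩
  haveI : Finite k' := Module.finite_of_finite k
  constructor
  · rintro ⟨B, hB, h, hb⟩ σ s hs
    have hsι : s ≫ ι = ι := by
      apply Over.OverMorphism.ext
      rw [Over.comp_left, hι, hs, ← Spec.map_comp, ← CommRingCat.ofHom_comp]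
      exact congrArg (fun f => Spec.map (CommRingCat.ofHom f)) (RingHom.ext fun r => σ.commutes r)
    have hpπ : (t ≫ h.top) ≫ B.π = ι ≫ eqToHom hB.symm := by
      rw [Category.assoc, h.cart.w, ← Category.assoc, ht, hb]
      exact (eqToHom_trans_assoc _ _ _).trans (Category.id_comp _)
    have hw : (s ≫ t ≫ h.top) ≫ B.π = (t ≫ h.top) ≫ B.π := by
      rw [Category.assoc, hpπ, reassoc_of% hsι]
    let d := B.cart.lift (s ≫ t ≫ h.top) (t ≫ h.top) hw
    refine ⟨d ≫ fst G B.P, ?_⟩
    have h1 := Groth.L24.Count.sm_comp B.act (d ≫ fst G B.P) (t ≫ h.top) aX B.eqv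
    have h2 : lift (d ≫ fst G B.P) (t ≫ h.top) = d := by
      conv_lhs => arg 2; rw [← B.cart.lift_snd (s ≫ t ≫ h.top) (t ≫ h.top) hw]
      rw [← comp_lift, lift_fst_snd, Category.comp_id]
    have h3 : Groth.L24.Count.sm B.act (d ≫ fst G B.P) (t ≫ h.top) = s ≫ t ≫ h.top := by
      show lift (d ≫ fst G B.P) (t ≫ h.top) ≫ B.act.act = _
      rw [h2]
      exact B.cart.lift_fst _ _ _
    have h4 : (t ≫ h.top) ≫ B.φ = t ≫ A.1.φ := (Category.assoc _ _ _).trans (congrArg (t ≫ ·) h.wφ)
    rw [h3, h4] at h1
    exact (h1.symm.trans ((Category.assoc s _ _).trans (congrArg (s ≫ ·) h4)))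
  · intro hσ
    obtain ⟨B, hB, p, hp, hpx⟩ := Groth.L24.Count.exists_model (kb := kb) aX ι hι (t ≫ A.1.φ) hσ
    have key : ∀ y, p ≫ B.φ = y →
        ∃ f₁ : Groth.L24.Count.trivObj Scheme.etalePrecoverage aX y ⟶ B, f₁.base = ι ≫ eqToHom hB.symm := by
      rintro _ rfl
      exact Groth.L24.Count.exists_hom_of_point B _ p hp
    obtain ⟨f₁, hf₁⟩ := key _ hpx
    obtain ⟨_, g, -, hg, -, -, -⟩ := Groth.L24.Count.exists_hom_trivObj A.1 A.2 t ht
    exact ⟨B, hB, g ≫ f₁, by rw [AlgSt.QuotObj.comp_base, hg, hf₁]; rfl⟩

end Groth.Agent.S14197
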