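import Groth.Statements.S1420
import Groth.Agent.L20.Weight.Props
import Groth.Agent.S1419

set_option autoImplicit false
universe u
open FlatMor

set_option linter.style.haveILetI false
set_option backward.isDefEq.respectTransparency.types false

namespace Groth.Agent.S1420

open AlgebraicGeometry CategoryTheory Limits in
/-- A locally quasi-finite morphism with a weighting taking only positive values is universally open. -/
theorem result {X Y : Scheme.{u}} (f : X ⟶ Y) [LocallyQuasiFinite f] [LocallyOfFiniteType f] (w : ↑X → ℤ) (hw : MoreMor.IsWeighting f w) (hpos : ∀ x, 0 < w x) :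
    UniversallyOpen f := by
  refine ⟨fun {X' Y'} i₁ i₂ f' hsq => ?_⟩
  have : LocallyQuasiFinite f' := MorphismProperty.of_isPullback (P := @LocallyQuasiFinite) hsq.flip inferInstance
  have : LocallyOfFiniteType f' := MorphismProperty.of_isPullback (P := @LocallyOfFiniteType) hsq.flip inferInstance
  have hw' : MoreMor.IsWeighting f' (w ∘ ⇑i₁) := Groth.Agent.S1419.result f w hw f' i₁ i₂ hsq.flip
  intro O hO
  refine isOpen_iff_mem_nhds.mpr ?_
  rintro _ ⟨x, hx, rfl⟩
  obtain ⟨Ω, _, _, V, _, g, _, ω, φ, P, hφ, hPO⟩ := Groth.L20.Weight.exists_piece_at f' x ⟨O, hO⟩ hx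
  obtain ⟨N, hN, hN'⟩ := P.exists_nbhd hw'
  refine Filter.mem_of_superset ((g.isOpenMap _ N.2).mem_nhds (x := f' x) ⟨_, hN, ?_⟩) ?_
  · rw [← Groth.L20.Weight.pt_comp, ← φ.2, Groth.L20.Weight.pt_comp, hφ]
  rintro _ ⟨v, hv, rfl⟩
  by_contra hne
  have h0 := hN' v hv
  have : IsEmpty {u // (P.U.ι ≫ pullback.snd f' g) u = v} := by
    refine ⟨fun u => hne ⟨pullback.fst f' g (P.U.ι u.1), hPO u.1.2, ?_⟩⟩
    rw [← Scheme.Hom.comp_apply, pullback.condition, Scheme.Hom.comp_apply]
    exact congrArg _ u.2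
  rw [MoreMor.fibreIntegral, finsum_of_isEmpty] at h0
  exact (hpos _).ne h0

end Groth.Agent.S1420
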