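import Groth.Statements.S14200
import Groth.Agent.L24.SB.RatPoint

set_option autoImplicit false
set_option backward.isDefEq.respectTransparency.types false
universe u
open CategoryTheory CategoryTheory.Limits AlgebraicGeometry
open ASBun

namespace Groth.Agent.S14200

/-- Let X be a scheme proper over a field k, K an algebraic closure of k and e a K-isomorphism X_K ≅
P^n_K (X is a Severi–Brauer variety of dimension n split by K), and write O_e(j) for the pullback of
the twisting sheaf O(j) along e. Then for every integer j there exist an indecomposable finite
locally free O_X-module W (nonzero, and in any decomposition as a direct sum one summand is zero)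
and an integer r ≥ 1 with W_K ≅ O_e(j)^{⊕r}: every twisting sheaf is the type of an indecomposable
absolutely rank-one-isotypical module on X. (Such a W is unique up to isomorphism; that is a
separate statement.) -/
theorem result (k : Type u) [Field k] {X : Scheme.{u}}
    (f : X ⟶ Spec (CommRingCat.of k)) [IsProper f] (n : ℕ)
    (K : Type u) [Field K] [Algebra k K] [IsAlgClosure k K] (e : BrSev.Splitting f K n) (j : ℤ) :
    ∃ (W : X.Modules) (r : ℕ), FlatMod.IsFinLocFree W ∧
      (¬ IsZero W ∧ ∀ M₁ M₂ : X.Modules, Nonempty (W ≅ M₁ ⊞ M₂) → IsZero M₁ ∨ IsZero M₂) ∧
      0 < r ∧ BrSev.IsTwPow e j r W := by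
  haveI : IsAlgClosed K := IsAlgClosure.isAlgClosed k
  exact Groth.L24.SB.exists_indec_twPow_alg f e j

end Groth.Agent.S14200
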