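import Groth.Statements.S14209
import Groth.Agent.L11.SBAut.Proj
import Groth.Agent.L21.CSA.SepSubfield

set_option autoImplicit false
universe u
open CategoryTheory CategoryTheory.Limits AlgebraicGeometry
open BrSev

namespace Groth.Agent.S14209

/-- In the case d = 1 of the generalized Severi–Brauer schemes BS(d, A), let A be a central simple
algebra of degree n ≥ 1 over a field k and X a k-scheme which is the Severi–Brauer scheme of A: for
every commutative k-algebra R, its R-points over k are identified, naturally in R, with the left
ideals of R ⊗_k A whose quotient is projective of rank n² − n. Then X is split by a finite Galois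
extension: there are a finite Galois extension K of k and a K-isomorphism X_K ≅ P^{n−1}_K. In
particular X is a Severi–Brauer variety of dimension n − 1 (the scheme of rank-n left ideals of A is
the Severi–Brauer variety of A). -/
theorem result (k : Type u) [Field k] (A : Type u) [Ring A]
    [Algebra k A] [Algebra.IsCentral k A] [IsSimpleRing A] (n : ℕ) (hn : 0 < n)
    (hA : Module.finrank k A = n * n) {X : Scheme.{u}} (f : X ⟶ Spec (CommRingCat.of k))
    (hX : BrSev.IsSBOf k A (n * n - n) f) :
    ∃ (K : Type u) (_ : Field K) (_ : Algebra k K), FiniteDimensional k K ∧ IsGalois k K ∧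
      Nonempty (BrSev.Splitting f K (n - 1)) := by
  haveI : FiniteDimensional k A := Module.finite_of_finrank_pos (by rw [hA]; exact Nat.mul_pos hn hn)
  obtain ⟨K, _, _, hfin, hgal, m, hm, ⟨e⟩⟩ := Groth.L21.CSA.exists_galois_splitting k A
  obtain rfl : n = m := by
    have h := e.toLinearEquiv.finrank_eq
    rw [Module.finrank_baseChange, hA, Module.finrank_matrix, Module.finrank_self, Fintype.card_fin,
      mul_one] at h
    exact Nat.mul_self_inj.1 h
  obtain ⟨d, rfl⟩ := Nat.exists_eq_succ_of_ne_zero hn.ne'
  obtain ⟨S⟩ := hX
  exact ⟨K, inferInstance, inferInstance, hfin, hgal, Groth.L11.SBAut.exists_splitting S e⟩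

end Groth.Agent.S14209
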