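import Groth.Statements.S14201
import Groth.Agent.S14209
import Groth.Agent.L24.GalPush.Existence

set_option autoImplicit false
set_option backward.isDefEq.respectTransparency.types false
universe u
open CategoryTheory CategoryTheory.Limits AlgebraicGeometry
open ASBun

namespace Groth.Agent.S14201

/-- Let A be a central simple algebra of degree n ≥ 1 over a field k (of dimension n² over k), X a
proper k-scheme which is the Severi–Brauer scheme of A (for every commutative k-algebra R its
R-points over k are, naturally in R, the left ideals of R ⊗_k A with projective quotient of rank n²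
− n), K an algebraic closure of k and e a K-isomorphism X_K ≅ P^{n−1}_K, along which O_e(j) denotes
the pullback of the twisting sheaf O(j). Let E be an indecomposable finite locally free O_X-module
(nonzero, and in any decomposition as a direct sum one summand is zero) which is absolutely split:
E_K is isomorphic to a finite direct sum of invertible O_{X_K}-modules. Then E is absolutely
rank-one-isotypical of twisting type: E_K ≅ O_e(j)^{⊕r} for some integer j and some r ≥ 1. (The
published statement writes j = j₀ + ap with p the period of A and 0 ≤ j₀ < p, and E as the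
indecomposable module of type O(j₀) twisted by the descent of O(ap); the classification content is
the existence of j, whose uniqueness for X of positive dimension is not asserted here.) -/
theorem result (k : Type u) [Field k] (A : Type u) [Ring A] [Algebra k A]
    [Algebra.IsCentral k A] [IsSimpleRing A] (n : ℕ) (hn : 0 < n)
    (hA : Module.finrank k A = n * n) {X : Scheme.{u}} (f : X ⟶ Spec (CommRingCat.of k))
    [IsProper f] (hX : BrSev.IsSBOf k A (n * n - n) f)
    (K : Type u) [Field K] [Algebra k K] [IsAlgClosure k K] (e : BrSev.Splitting f K (n - 1))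
    (E : X.Modules) (hE : FlatMod.IsFinLocFree E)
    (hEi : (¬ IsZero E ∧ ∀ M₁ M₂ : X.Modules, Nonempty (E ≅ M₁ ⊞ M₂) → IsZero M₁ ∨ IsZero M₂))
    (s : ℕ) (Ls : Fin s → (BrSev.bc f K).Modules) (hLs : ∀ i, PicF.IsInvertible (Ls i))
    (hsplit : Nonempty (BrSev.bcMod f K E ≅ ∐ Ls)) :
    ∃ (j : ℤ) (r : ℕ), 0 < r ∧ BrSev.IsTwPow e j r E := by
  classical
  letI : X.Over (Spec (CommRingCat.of k)) := ⟨f⟩
  haveI : IsProper (X ↘ Spec (CommRingCat.of k)) := ‹IsProper f›
  letI : (BrSev.bc f K).Over (Spec (CommRingCat.of K)) := ⟨BrSev.bcTo f K⟩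
  haveI : IsAlgClosed K := IsAlgClosure.isAlgClosed k
  have sq : IsPullback (BrSev.proj f K) (BrSev.bc f K ↘ Spec (CommRingCat.of K))
      (X ↘ Spec (CommRingCat.of k)) (Spec.map (CommRingCat.ofHom (algebraMap k K))) :=
    IsPullback.of_hasPullback f (Spec.map (CommRingCat.ofHom (algebraMap k K)))
  obtain ⟨K₀, _, _, hfin, hgal, ⟨e₀⟩⟩ := Groth.Agent.S14209.result k A n hn hA f hX
  obtain ⟨a⟩ := hsplit
  have hs : 0 < s := Nat.pos_of_ne_zero fun h => hEi.1 (by
    haveI : Flat (BrSev.proj f K) := MorphismProperty.of_isPullback (P := @Flat) sq.flip (Groth.L03.ShStab.BC.flat_specMap K)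
    haveI : Surjective (BrSev.proj f K) :=
      MorphismProperty.of_isPullback (P := @Surjective) sq.flip (Groth.L03.ShStab.BC.surjective_specMap K)
    subst h
    exact Groth.L03.ShStab.BC.isZero_of_pullback (BrSev.proj f K)
      (((IsZero.iff_id_eq_zero _).2 (Sigma.hom_ext _ _ fun i => i.elim0)).of_iso a))
  -- line bundles on the split variety are twists
  obtain ⟨j, ⟨u⟩⟩ := Groth.L20.PnPic.exists_iso_twist ((Scheme.Modules.pullback e.iso.inv).obj (Ls ⟨0, hs⟩))
    (Groth.L18.Ample.isInvertible_pullback e.iso.inv (hLs ⟨0, hs⟩))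
  let u' : Ls ⟨0, hs⟩ ≅ e.twist j :=
    ((Scheme.Modules.pullbackId _).app _).symm ≪≫ (Scheme.Modules.pullbackCongr e.iso.hom_inv_id.symm).app _ ≪≫
      ((Scheme.Modules.pullbackComp e.iso.hom e.iso.inv).app _).symm ≪≫ (Scheme.Modules.pullback e.iso.hom).mapIso u
  obtain ⟨W, r, hW, hWi, hr, ⟨w⟩⟩ := Groth.L24.GalPush.exists_indec_twPow f e₀ e j
  obtain ⟨v⟩ := Groth.L24.KrullSchmidt.nonempty_iso_of_split (BrSev.proj f K) sq hE hW hEi hWi ⟨0, hs⟩ a
    (w ≪≫ Limits.Sigma.mapIso fun _ => u'.symm)
  exact ⟨j, r, hr, ⟨(Scheme.Modules.pullback (BrSev.proj f K)).mapIso v ≪≫ w⟩⟩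

end Groth.Agent.S14201
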