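import Groth.Agent.L16.Existence.Projective
import Groth.Agent.L29.DCoh.PullTensor
import Groth.Agent.L00.TensorColim
import Mathlib.Logic.Equiv.Fin.Basic
import Mathlib.CategoryTheory.Limits.Shapes.Products
import Groth.Statements.S14204
-- import your own Groth.Agent.* helpers here

set_option autoImplicit false
universe u
open CategoryTheory CategoryTheory.Limits AlgebraicGeometry
open ASBun

namespace Groth.Agent.S14204

/-- Let X be a scheme over a field k, K a field extension of k, e a K-isomorphism X_K ≅ P^n_K with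
O_e(j) the pullback of O(j) along e, and W, W' two O_X-modules with W_K ≅ O_e(j)^{⊕r} and W'_K ≅
O_e(l)^{⊕s} for integers j, l and natural numbers r, s. Then the tensor product W ⊗_{O_X} W'
satisfies (W ⊗ W')_K ≅ O_e(j + l)^{⊕rs}: the tensor product of absolutely rank-one-isotypical
modules of twisting types O(j) and O(l) is absolutely rank-one-isotypical of type O(j + l), in
particular absolutely split. (The published statement is for the indecomposable modules of types
O(j) and O(l) on a Severi–Brauer variety with K an algebraic closure; the argument uses only the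
displayed decompositions.) -/
theorem result (k : Type u) [Field k] {X : Scheme.{u}}
    (f : X ⟶ Spec (CommRingCat.of k)) (n : ℕ)
    (K : Type u) [Field K] [Algebra k K] (e : BrSev.Splitting f K n) (j l : ℤ) (r s : ℕ)
    (W W' : X.Modules) (hWt : BrSev.IsTwPow e j r W) (hW't : BrSev.IsTwPow e l s W') :
    BrSev.IsTwPow e (j + l) (r * s) (CohB1.tensorMod W W') := by

  obtain ⟨a⟩ := hWt
  obtain ⟨b⟩ := hW't
  obtain ⟨t₀⟩ := Groth.L16.ProjTwist.nonempty_tensor_twist_iso_one (CohB1.polyGrading n K) (fun x =>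
    (Groth.L16.ProjSpace.exists_mem_basicOpen_X n K x).elim fun i hi => ⟨⟨_, Groth.L16.ProjSpace.X_mem n K i⟩, hi⟩) j l
  let t : CohB1.tensorMod (e.twist j) (e.twist l) ≅ e.twist (j + l) :=
    Groth.L29.DC.PullTensor.pullTensor e.iso.hom _ _ ≪≫ (Scheme.Modules.pullback e.iso.hom).mapIso t₀
  haveI : ∀ A : (BrSev.bc f K).Modules, PreservesColimitsOfSize.{0, 0} (Groth.L00.Tensor.tensorLeftF A) :=
    fun A => preservesColimitsOfSize_shrink.{0, u, 0, u} _
  let dL : ∀ (A B : (BrSev.bc f K).Modules) (m : ℕ),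
      CohB1.tensorMod A (BrSev.pow B m) ≅ BrSev.pow (CohB1.tensorMod A B) m := fun A B m =>
    PreservesCoproduct.iso (Groth.L00.Tensor.tensorLeftF A) (fun _ : Fin m => B)
  refine ⟨(Groth.L29.DC.PullTensor.pullTensor (BrSev.proj f K) W W').symm ≪≫
    Groth.L00.Tensor.tensorIso a b ≪≫ dL _ _ s ≪≫ ?_⟩
  let c : CohB1.tensorMod (BrSev.pow (e.twist j) r) (e.twist l) ≅ BrSev.pow (e.twist (j + l)) r :=
    Groth.L00.Tensor.tensorComm _ _ ≪≫ dL _ _ r ≪≫
      Sigma.mapIso (fun _ => Groth.L00.Tensor.tensorComm _ _ ≪≫ t)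
  exact Sigma.mapIso (fun _ : Fin s => c) ≪≫
    sigmaSigmaIso (fun _ : Fin s => Fin r) (fun _ _ => e.twist (j + l)) ≪≫
    Sigma.whiskerEquiv (f := fun _ : (_ : Fin s) × Fin r => e.twist (j + l))
      (g := fun _ : Fin (r * s) => e.twist (j + l))
      ((Equiv.sigmaEquivProd (Fin s) (Fin r)).trans ((Equiv.prodComm _ _).trans finProdFinEquiv))
      (fun _ => Iso.refl _)

end Groth.Agent.S14204
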