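import Groth.Statements.S14205
import Groth.Agent.L11.CSA.Index

set_option autoImplicit false
universe u v
open scoped TensorProduct
open Brauer

namespace Groth.Agent.S14205

/-- Let A be a finite-dimensional central simple algebra over a field k with period p: p is the least
positive integer for which the p-fold tensor power of A over k is a full matrix algebra over k. Then
for every r ≥ 1 the r-fold tensor power of A has period p / gcd(p, r) (the order of the r-th
multiple of an element of order p). -/
theorem result (k : Type u) [Field k] (A : Type v) [Ring A] [Algebra k A]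
    [Algebra.IsCentral k A] [IsSimpleRing A] [FiniteDimensional k A] (p : ℕ)
    (hp : CSAGal.IsPeriod k A p) (r : ℕ) (hr : 0 < r) :
    CSAGal.IsPeriod k (CSAGal.tpow k A r) (p / Nat.gcd p r) := by
  have key : ∀ m, Curves.Splits k (CSAGal.tpow k (CSAGal.tpow k A r) m) k ↔ p ∣ r * m := fun m => by
    obtain ⟨_, _, _⟩ := Groth.L11.TPow.csa k A r
    rw [← Groth.L11.Idx.splits_tpow_iff_dvd hp, Groth.L11.Idx.splits_tpow_iff_beq, Groth.L11.Idx.splits_tpow_iff_beq]
    exact ⟨(Groth.L11.Idx.beq_tpow_mul r m).trans, (Groth.L11.Idx.beq_tpow_mul r m).symm.trans⟩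
  have hg : 0 < Nat.gcd p r := Nat.gcd_pos_of_pos_left r hp.1
  refine ⟨Nat.div_pos (Nat.gcd_le_left r hp.1) hg, (key _).mpr ?_, fun e he0 hlt h => ?_⟩
  · rw [← Nat.mul_div_assoc r (Nat.gcd_dvd_left p r), Nat.mul_comm, Nat.mul_div_assoc p (Nat.gcd_dvd_right p r)]
    exact dvd_mul_right p _
  · have h1 : p / Nat.gcd p r ∣ e := by
      refine (Nat.coprime_div_gcd_div_gcd hg).dvd_of_dvd_mul_left ?_
      rw [Nat.div_dvd_iff_dvd_mul (Nat.gcd_dvd_left p r) hg, ← mul_assoc, Nat.mul_div_cancel' (Nat.gcd_dvd_right p r)]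
      exact (key e).mp h
    exact absurd (Nat.le_of_dvd he0 h1) (by omega)

end Groth.Agent.S14205
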