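import Groth.Statements.S1421
import Groth.Agent.L06.InsepWeight

set_option autoImplicit false
set_option maxSynthPendingDepth 3
set_option linter.style.haveILetI false
universe u
open FlatMor

namespace Groth.Agent.S1421

open AlgebraicGeometry CategoryTheory Limits in
/-- Let f : X → Y be flat, locally quasi-finite and locally of finite presentation. Then the function w
sending a point x over y to length(O_{X,x} / m_y O_{X,x}) · [κ(x) : κ(y)]_i (inseparable degree) is
a weighting of f with positive values. -/
theorem result {X Y : Scheme.{u}} (f : X ⟶ Y) [LocallyQuasiFinite f] [Flat f] [LocallyOfFinitePresentation f] :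
    let w : ↑X → ℤ := fun x =>
      (Module.length ↑(X.presheaf.stalk x) (↑(X.presheaf.stalk x) ⧸ Ideal.map (f.stalkMap x).hom (IsLocalRing.maximalIdeal ↑(Y.presheaf.stalk (f x))))).toNat *
      (letI := (f.residueFieldMap x).hom.toAlgebra
       (Field.finInsepDegree (Y.residueField (f x)) (X.residueField x) : ℤ))
    MoreMor.IsWeighting f w ∧ ∀ x, 0 < w x := by
  intro w
  exact ⟨Groth.L06.InsepWeight.isWeighting f, Groth.L06.InsepWeight.wt_pos f⟩

end Groth.Agent.S1421
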