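import Groth.Statements.S14211
import Groth.Agent.L11.CSA.PeriodIndex
import Groth.Agent.S13268
import Mathlib.Algebra.QuaternionBasis

set_option autoImplicit false
universe u v
open scoped TensorProduct
open Brauer

namespace Groth.Agent.S14211

/-- Let k be a field in which 2 ≠ 0 and A a finite-dimensional central simple k-algebra. Then A has
period 2 and index 2 (its Severi–Brauer variety has type (2, 2, 2m)) if and only if A is isomorphic
over k to a matrix algebra M_m(Q), m ≥ 1, over a quaternion algebra Q = (a, b)_k (the k-algebra with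
basis 1, i, j, ij, i² = a, j² = b, ij = −ji) which is a division ring; moreover such a quaternion
algebra is unique up to k-isomorphism. -/
theorem result (k : Type u) [Field k] (h2 : (2 : k) ≠ 0)
    (A : Type v) [Ring A] [Algebra k A] [Algebra.IsCentral k A] [IsSimpleRing A]
    [FiniteDimensional k A] :
    ((CSAGal.IsPeriod k A 2 ∧ CSAGal.IsIndex k A 2) ↔
      ∃ (a b : k) (m : ℕ), 0 < m ∧ (∀ x : QuaternionAlgebra k a 0 b, x ≠ 0 → IsUnit x) ∧
        Nonempty (A ≃ₐ[k] Matrix (Fin m) (Fin m) (QuaternionAlgebra k a 0 b))) ∧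
    (∀ (a b a' b' : k) (m m' : ℕ),
      (∀ x : QuaternionAlgebra k a 0 b, x ≠ 0 → IsUnit x) →
      (∀ x : QuaternionAlgebra k a' 0 b', x ≠ 0 → IsUnit x) →
      Nonempty (A ≃ₐ[k] Matrix (Fin m) (Fin m) (QuaternionAlgebra k a 0 b)) →
      Nonempty (A ≃ₐ[k] Matrix (Fin m') (Fin m') (QuaternionAlgebra k a' 0 b')) →
      Nonempty (QuaternionAlgebra k a 0 b ≃ₐ[k] QuaternionAlgebra k a' 0 b')) := by
  classical
  have h4 : (2 : k) * 2 ≠ 0 := mul_ne_zero h2 h2
  have units_iff : ∀ {B : Type v} [Ring B] [Algebra k B] {C : Type u} [Ring C] [Algebra k C] (e : C ≃ₐ[k] B),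
      (∀ y : B, y ≠ 0 → IsUnit y) → ∀ x : C, x ≠ 0 → IsUnit x := fun e h x hx => by
    have := (h (e x) ((map_ne_zero_iff e e.injective).mpr hx)).map e.symm.toMonoidHom
    simpa using this
  -- quaternion division algebra inside a four-dimensional central division algebra
  have quat : ∀ (D : Type v) [DivisionRing D] [Algebra k D] [Algebra.IsCentral k D] [FiniteDimensional k D],
      Module.finrank k D = 2 ^ 2 →
      ∃ a b : k, Nonempty (QuaternionAlgebra k a 0 b ≃ₐ[k] D) := by
    intro D _ _ _ _ hD
    obtain ⟨x, hx⟩ : ∃ x : D, x ∉ (⊥ : Subalgebra k D) := by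
      by_contra h
      push Not at h
      have h2 := (Subalgebra.bot_eq_top_iff_finrank_eq_one (F := k) (E := D)).1
        (eq_top_iff.2 fun x _ => h x)
      omega
    -- a commutative subalgebra containing a non scalar element is spanned by 1 and that element
    have key : ∀ z : D, z ∉ (⊥ : Subalgebra k D) →
        (∃ p q : k, z * z = q • 1 + p • z) ∧
          ∀ w : D, z * w = w * z → ∃ s t : k, w = s • 1 + t • z := by
      intro z hz
      set B := Algebra.adjoin k ({z} : Set D) with hB
      haveI : IsDomain B := Subalgebra.isDomain B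
      have hcomm : ∀ a ∈ B, ∀ b ∈ B, a * b = b * a := fun a ha b hb => by
        letI := Algebra.adjoinCommRingOfComm k (s := ({z} : Set D))
          (fun a ha b hb => by rw [Set.mem_singleton_iff.mp ha, Set.mem_singleton_iff.mp hb])
        exact congrArg Subtype.val (mul_comm (⟨a, ha⟩ : Algebra.adjoin k ({z} : Set D)) ⟨b, hb⟩)
      letI : CommRing B :=
        { (inferInstance : Ring B) with mul_comm := fun a b => Subtype.ext (hcomm a a.2 b b.2) }
      have hf : IsField B :=
        (Algebra.IsIntegral.isField_iff_isField (R := k) (algebraMap k B).injective).mp (Field.toIsField k)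
      haveI : IsSimpleRing B := (isSimpleRing_iff_isField B).mpr hf
      have hdim := (Groth.L11.CSA.centralizer_simple k D B).2
      rw [hD] at hdim
      have hle : B ≤ Subalgebra.centralizer k (B : Set D) := fun a ha =>
        (Subalgebra.mem_centralizer_iff k).mpr fun b hb => hcomm b hb a ha
      have hle' := Submodule.finrank_mono (s := Subalgebra.toSubmodule B)
        (t := Subalgebra.toSubmodule (Subalgebra.centralizer k (B : Set D))) hle
      rw [Subalgebra.finrank_toSubmodule, Subalgebra.finrank_toSubmodule] at hle'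
      have hli : LinearIndependent k ![(1 : D), z] := by
        refine (LinearIndependent.pair_iff' one_ne_zero).mpr fun c hc => hz ?_
        exact Algebra.mem_bot.mpr ⟨c, (Algebra.algebraMap_eq_smul_one c).trans hc⟩
      set S := Submodule.span k (Set.range ![(1 : D), z]) with hS
      have hS2 : Module.finrank k S = 2 := by
        rw [hS, finrank_span_eq_card hli, Fintype.card_fin]
      have hSB : S ≤ Subalgebra.toSubmodule B := by
        rw [hS, Submodule.span_le, Set.range_subset_iff]
        intro i
        fin_cases i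
        · exact B.one_mem
        · exact Algebra.subset_adjoin rfl
      have hB2 : 2 ≤ Module.finrank k B := by
        have := Submodule.finrank_mono hSB
        rwa [hS2, Subalgebra.finrank_toSubmodule] at this
      have hBeq : Module.finrank k B = 2 := by nlinarith
      have hCeq : Module.finrank k (Subalgebra.centralizer k (B : Set D)) = 2 := by
        rw [hBeq] at hdim; omega
      have hSC : S = Subalgebra.toSubmodule (Subalgebra.centralizer k (B : Set D)) :=
        Submodule.eq_of_le_of_finrank_eq (hSB.trans hle)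
          (hS2.trans (hCeq.symm.trans (Subalgebra.finrank_toSubmodule _).symm))
      have hmem : ∀ w : D, w ∈ Subalgebra.centralizer k (B : Set D) → ∃ s t : k, w = s • 1 + t • z := by
        intro w hw
        have hw' : w ∈ S := by rw [hSC]; exact hw
        obtain ⟨c, hc⟩ := (Submodule.mem_span_range_iff_exists_fun k).mp hw'
        exact ⟨c 0, c 1, by simpa [Fin.sum_univ_two] using hc.symm⟩
      refine ⟨?_, fun w hw => hmem w ?_⟩
      · obtain ⟨s, t, hst⟩ := hmem (z * z) (hle (B.mul_mem (Algebra.subset_adjoin rfl) (Algebra.subset_adjoin rfl)))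
        exact ⟨t, s, hst⟩
      · refine (Subalgebra.mem_centralizer_iff k).mpr fun b hb => ?_
        have hb' : B ≤ Subalgebra.centralizer k ({w} : Set D) := Algebra.adjoin_le (by
          rintro _ rfl
          exact (Subalgebra.mem_centralizer_iff k).mpr fun _ hu => by
            rw [Set.mem_singleton_iff.mp hu, hw])
        exact ((Subalgebra.mem_centralizer_iff k).mp (hb' hb) w rfl).symm
    obtain ⟨⟨p, q, hxx⟩, -⟩ := key x hx
    obtain ⟨i, hi⟩ : ∃ i : D, i = x - (p / 2) • (1 : D) := ⟨_, rfl⟩
    have hib : i ∉ (⊥ : Subalgebra k D) := fun h => hx (by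
      have h' := Subalgebra.add_mem _ h (Subalgebra.smul_mem _ (Subalgebra.one_mem _) (p / 2))
      rwa [hi, sub_add_cancel] at h')
    obtain ⟨a, hii⟩ : ∃ a : k, i * i = a • (1 : D) := by
      refine ⟨q + p * p / 4, ?_⟩
      have h2' : p / 2 + p / 2 = p := by field_simp; ring
      have h44 : p / 2 * (p / 2) = p * p / 4 := by rw [div_mul_div_comm]; norm_num
      calc i * i = x * x - (p / 2 + p / 2) • x + (p / 2 * (p / 2)) • (1 : D) := by
            rw [hi]; simp only [sub_mul, mul_sub, smul_mul_assoc, mul_smul_comm, one_mul, mul_one, add_smul, smul_smul, smul_sub]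
            abel
        _ = _ := by rw [h2', h44, hxx, add_smul]; abel
    have hi0 : i ≠ 0 := fun h => hib (h ▸ Subalgebra.zero_mem _)
    have ha : a ≠ 0 := fun h => hi0 (mul_self_eq_zero.mp (by rw [hii, h, zero_smul]))
    obtain ⟨y, hy⟩ : ∃ y : D, i * y ≠ y * i := by
      by_contra h
      push Not at h
      exact hib (Algebra.IsCentral.out (Subalgebra.mem_center_iff.mpr fun b => (h b).symm))
    obtain ⟨j, hj⟩ : ∃ j : D, j = i * y - y * i := ⟨_, rfl⟩
    have hj0 : j ≠ 0 := hj ▸ sub_ne_zero.mpr hy
    have hji : j * i = -(i * j) := by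
      rw [hj, sub_mul, mul_sub, mul_assoc y, hii, ← mul_assoc i i y, hii, mul_smul_comm, mul_one,
        smul_mul_assoc, one_mul, mul_assoc i y i]
      abel
    have hjji : i * (j * j) = (j * j) * i := by
      rw [mul_assoc j j i, hji, mul_neg, ← mul_assoc j i j, hji, neg_mul, neg_neg, mul_assoc]
    obtain ⟨s, t, hst⟩ := (key i hib).2 (j * j) hjji
    have h2D : ∀ z : D, z + z = 0 → z = 0 := fun z hz => by
      have : (2 : k) • z = 0 := by rw [two_smul, hz]
      exact (smul_eq_zero.mp this).resolve_left h2
    have hij0 : i * j ≠ 0 := mul_ne_zero hi0 hj0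
    have ht : t = 0 := by
      have h1 : j * (j * j) = (j * j) * j := (mul_assoc j j j).symm
      rw [hst, mul_add, add_mul, mul_smul_comm, mul_smul_comm, smul_mul_assoc, smul_mul_assoc,
        mul_one, one_mul, hji, smul_neg] at h1
      have h3 := h2D _ (neg_eq_iff_add_eq_zero.mp (add_left_cancel h1))
      exact (smul_eq_zero.mp h3).resolve_right hij0
    rw [ht, zero_smul, add_zero] at hst
    let Q : QuaternionAlgebra.Basis D a 0 s :=
      { i := i
        j := j
        k := i * j
        i_mul_i := by rw [hii, zero_smul, add_zero]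
        j_mul_j := hst
        i_mul_j := rfl
        j_mul_i := by rw [hji, zero_smul, zero_sub] }
    have hinj : Function.Injective Q.liftHom := by
      rw [injective_iff_map_eq_zero]
      intro u hu
      have hu' : u.re • (1 : D) + u.imI • i + u.imJ • j + u.imK • (i * j) = 0 := by
        rw [← Algebra.algebraMap_eq_smul_one]; exact hu
      have hc : i * (u.re • (1 : D) + u.imI • i + u.imJ • j + u.imK • (i * j))
          - (u.re • (1 : D) + u.imI • i + u.imJ • j + u.imK • (i * j)) * i
          = ((2 * u.imJ) • i + (2 * (u.imK * a)) • (1 : D)) * j := by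
        simp only [mul_add, add_mul, mul_smul_comm, smul_mul_assoc, mul_one, one_mul, mul_assoc, hji,
          mul_neg, smul_neg]
        simp only [← mul_assoc i i, hii, smul_mul_assoc, one_mul, smul_smul, two_mul, add_smul]
        abel
      rw [hu', mul_zero, zero_mul, sub_zero] at hc
      have hc' := (mul_eq_zero.mp hc.symm).resolve_right hj0
      have hJ : u.imJ = 0 := by
        by_contra hne
        refine hib (Algebra.mem_bot.mpr ⟨-(2 * (u.imK * a)) / (2 * u.imJ), ?_⟩)
        rw [Algebra.algebraMap_eq_smul_one, div_eq_inv_mul, mul_smul, neg_smul,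
          ← eq_neg_of_add_eq_zero_left hc', inv_smul_smul₀ (mul_ne_zero h2 hne)]
      rw [hJ, mul_zero, zero_smul, zero_add] at hc'
      have hK : u.imK = 0 := by
        rcases mul_eq_zero.mp ((smul_eq_zero.mp hc').resolve_right one_ne_zero) with h | h
        · exact absurd h h2
        · exact (mul_eq_zero.mp h).resolve_right ha
      rw [hJ, hK, zero_smul, zero_smul, add_zero, add_zero] at hu'
      have hI : u.imI = 0 := by
        by_contra hne
        refine hib (Algebra.mem_bot.mpr ⟨-u.re / u.imI, ?_⟩)
        rw [Algebra.algebraMap_eq_smul_one, div_eq_inv_mul, mul_smul, neg_smul,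
          neg_eq_of_add_eq_zero_right hu', inv_smul_smul₀ hne]
      rw [hI, zero_smul, add_zero] at hu'
      exact QuaternionAlgebra.ext ((smul_eq_zero.mp hu').resolve_right one_ne_zero) hI hJ hK
    refine ⟨a, s, ⟨AlgEquiv.ofBijective Q.liftHom ⟨hinj, ?_⟩⟩⟩
    exact (LinearMap.injective_iff_surjective_of_finrank_eq_finrank (f := Q.liftHom.toLinearMap)
      (by rw [QuaternionAlgebra.finrank_eq_four, hD]; norm_num)).mp hinj
  refine ⟨⟨?_, ?_⟩, ?_⟩
  · rintro ⟨-, hI⟩
    obtain ⟨m, D, _, _, hm, _, _, hD, ⟨e⟩, -⟩ := Groth.L11.Idx.exists_division hI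
    obtain ⟨a, b, ⟨g⟩⟩ := quat D hD
    exact ⟨a, b, m, Nat.pos_of_ne_zero hm, units_iff g fun y hy => isUnit_iff_ne_zero.mpr hy,
      ⟨e.trans g.symm.mapMatrix⟩⟩
  · rintro ⟨a, b, m, hm, hu, ⟨f⟩⟩
    haveI : NeZero m := ⟨hm.ne'⟩
    let σ : QuaternionAlgebra k a 0 b →ₐ[k] A :=
      f.symm.toAlgHom.comp (Matrix.scalarAlgHom (Fin m) k)
    have hσ : Function.Injective σ := f.symm.injective.comp fun x y h => Matrix.scalar_inj.mp h
    let g : QuaternionAlgebra k a 0 b ≃ₐ[k] σ.range := AlgEquiv.ofInjective σ hσ
    haveI : Nontrivial σ.range := g.symm.toEquiv.nontrivial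
    letI : DivisionRing σ.range := DivisionRing.ofIsUnitOrEqZero fun z => by
      by_cases hz : z = 0
      · exact Or.inr hz
      · have := (hu (g.symm z) ((map_ne_zero_iff g.symm g.symm.injective).mpr hz)).map g.toAlgHom.toMonoidHom
        exact Or.inl (by simpa using this)
    have hI : CSAGal.IsIndex k A 2 :=
      ⟨two_pos, m, σ.range, inferInstance, σ.range.algebra, hm, by
        rw [← g.toLinearEquiv.finrank_eq, QuaternionAlgebra.finrank_eq_four]; norm_num,
        ⟨f.trans g.mapMatrix⟩⟩
    refine ⟨⟨two_pos, Groth.L11.Idx.splits_tpow_index hI, fun e' h0 hlt hs => ?_⟩, hI⟩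
    obtain rfl : e' = 1 := by omega
    have h1 : CSAGal.IsIndex k k 1 :=
      ⟨one_pos, 1, k, inferInstance, inferInstance, one_pos, by simp, ⟨(Groth.L11.Idx.matOne k).symm⟩⟩
    have := Groth.L11.Idx.isIndex_eq_of_beq hI h1
      ((Groth.L11.Br.BEq.of_algEquiv Groth.L11.Idx.oneEquiv.symm).trans ((Groth.L11.Idx.splits_tpow_iff_beq 1).mp hs))
    omega
  · rintro a b a' b' m m' hu hu' ⟨f⟩ ⟨f'⟩
    have hdim := (f.symm.trans f').toLinearEquiv.finrank_eq
    simp only [Module.finrank_matrix, Fintype.card_fin, QuaternionAlgebra.finrank_eq_four] at hdim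
    have hmm : m = m' := by nlinarith
    subst hmm
    have hm : m ≠ 0 := by
      rintro rfl
      haveI := f.toEquiv.nontrivial_congr.mp inferInstance
      exact false_of_nontrivial_of_subsingleton (Matrix (Fin 0) (Fin 0) (QuaternionAlgebra k a 0 b))
    haveI : NeZero m := ⟨hm⟩
    haveI := Groth.L21.CSA.isCentral_of_matrix k f
    haveI := Groth.L21.CSA.isCentral_of_matrix k f'
    haveI : FiniteDimensional k (QuaternionAlgebra k a 0 b) := inferInstance
    letI : DivisionRing (QuaternionAlgebra k a 0 b) := DivisionRing.ofIsUnitOrEqZero fun z => by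
      by_cases hz : z = 0
      · exact Or.inr hz
      · exact Or.inl (hu z hz)
    letI : DivisionRing (QuaternionAlgebra k a' 0 b') := DivisionRing.ofIsUnitOrEqZero fun z => by
      by_cases hz : z = 0
      · exact Or.inr hz
      · exact Or.inl (hu' z hz)
    exact Groth.Agent.S13268.result k _ _ m hm (f.symm.trans f')

end Groth.Agent.S14211
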