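import Groth.Statements.S14215
import Groth.Agent.S14201
import Groth.Agent.L24.KrullSchmidt.SplitRetract

set_option autoImplicit false
set_option backward.isDefEq.respectTransparency.types false
universe u
open CategoryTheory CategoryTheory.Limits AlgebraicGeometry
open ASBun

namespace Groth.Agent.S14215

/-- Let A be a central simple algebra of degree n ≥ 1 over a field k (of dimension n² over k), X a
proper k-scheme which is the Severi–Brauer scheme of A (for every commutative k-algebra R its
R-points over k are, naturally in R, the left ideals of R ⊗_k A with projective quotient of rank n²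
− n), K an algebraic closure of k and e a K-isomorphism X_K ≅ P^{n−1}_K, along which O_e(j) denotes
the pullback of the twisting sheaf O(j). Let E be a finite locally free O_X-module which is
absolutely split: E_K is isomorphic to a finite direct sum of invertible O_{X_K}-modules. Then E is
isomorphic to a finite direct sum M_1 ⊕ ⋯ ⊕ M_t of indecomposable finite locally free O_X-modules
(nonzero, and in any decomposition as a direct sum one summand is zero), each absolutely
rank-one-isotypical of twisting type: (M_i)_K ≅ O_e(j_i)^{⊕r_i} for some integers j_i and some r_i ≥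
1 (t = 0 when E = 0). (The published statement groups the summands as the indecomposable modules of
types O(j), 0 ≤ j < p, twisted by descents of O(ap), p the period, and records uniqueness of the
multiplicities, which is Krull–Schmidt.) -/
theorem result (k : Type u) [Field k] (A : Type u) [Ring A] [Algebra k A]
    [Algebra.IsCentral k A] [IsSimpleRing A] (n : ℕ) (hn : 0 < n)
    (hA : Module.finrank k A = n * n) {X : Scheme.{u}} (f : X ⟶ Spec (CommRingCat.of k))
    [IsProper f] (hX : BrSev.IsSBOf k A (n * n - n) f)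
    (K : Type u) [Field K] [Algebra k K] [IsAlgClosure k K] (e : BrSev.Splitting f K (n - 1))
    (E : X.Modules) (hE : FlatMod.IsFinLocFree E)
    (s : ℕ) (Ls : Fin s → (BrSev.bc f K).Modules) (hLs : ∀ i, PicF.IsInvertible (Ls i))
    (hsplit : Nonempty (BrSev.bcMod f K E ≅ ∐ Ls)) :
    ∃ (t : ℕ) (Ms : Fin t → X.Modules) (js : Fin t → ℤ) (rs : Fin t → ℕ),
      (∀ i, FlatMod.IsFinLocFree (Ms i) ∧
        (¬ IsZero (Ms i) ∧ ∀ M₁ M₂ : X.Modules, Nonempty ((Ms i) ≅ M₁ ⊞ M₂) → IsZero M₁ ∨ IsZero M₂) ∧
        0 < rs i ∧ BrSev.IsTwPow e (js i) (rs i) (Ms i)) ∧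
      Nonempty (E ≅ ∐ Ms) := by
  classical
  letI : X.Over (Spec (CommRingCat.of k)) := ⟨f⟩
  haveI : IsProper (X ↘ Spec (CommRingCat.of k)) := ‹IsProper f›
  letI : (BrSev.bc f K).Over (Spec (CommRingCat.of K)) := ⟨BrSev.bcTo f K⟩
  have sq : IsPullback (BrSev.proj f K) (BrSev.bc f K ↘ Spec (CommRingCat.of K))
      (X ↘ Spec (CommRingCat.of k)) (Spec.map (CommRingCat.ofHom (algebraMap k K))) :=
    IsPullback.of_hasPullback f (Spec.map (CommRingCat.ofHom (algebraMap k K)))
  haveI : IsProper (BrSev.bc f K ↘ Spec (CommRingCat.of K)) :=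
    MorphismProperty.of_isPullback (P := @IsProper) sq inferInstance
  haveI : IsLocallyNoetherian X := LocallyOfFiniteType.isLocallyNoetherian (X ↘ Spec (CommRingCat.of k))
  haveI : IsLocallyNoetherian (BrSev.bc f K) :=
    LocallyOfFiniteType.isLocallyNoetherian (BrSev.bc f K ↘ Spec (CommRingCat.of K))
  have hg : ∀ i, Groth.L24.KrullSchmidt.Indec (Ls i) := fun i => by
    obtain ⟨L', -, ⟨t⟩⟩ := Groth.L08.Cube.exists_inverse (hLs i)
    exact Groth.L24.KrullSchmidt.indec_of_invertible (Groth.L24.GalPush.bijective_toGlobal_bc f e) t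
  have hfinK : ∀ {M : (BrSev.bc f K).Modules}, Coh.IsCoh M → Module.Finite K (M ⟶ M) := fun hM =>
    Groth.L14.Quot.finite_hom hM hM
  haveI : Module.Finite k (E ⟶ E) := Groth.L14.Quot.finite_hom (Groth.L16.NegPow.isCoh_of_isFinLocFree hE)
    (Groth.L16.NegPow.isCoh_of_isFinLocFree hE)
  obtain ⟨t, Ms, hMs, ⟨d⟩⟩ := Groth.L24.KrullSchmidt.exists_decomp k _ E rfl
  have hret : ∀ i, Groth.L21.Weil.IsRetract (Ms i) E := fun i =>
    (Groth.L24.KrullSchmidt.isRetract_member Ms i).trans (Groth.L21.Weil.IsRetract.of_iso d.symm)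
  have hlf : ∀ i, FlatMod.IsFinLocFree (Ms i) := fun i => Groth.L24.KrullSchmidt.isFinLocFree_retract hE (hret i)
  obtain ⟨a⟩ := hsplit
  have htype : ∀ i, ∃ (j : ℤ) (r : ℕ), 0 < r ∧ BrSev.IsTwPow e j r (Ms i) := fun i => by
    haveI := hfinK (Groth.L16.NegPow.isCoh_of_isFinLocFree (Groth.L29.LocFree.pullback (BrSev.proj f K) (hlf i)))
    obtain ⟨m, π, ⟨b⟩⟩ := Groth.L24.KrullSchmidt.exists_coprod_of_retract K hg
      (fun l => hfinK (Groth.L16.NegPow.isCoh_of_isFinLocFree (Groth.L16.Existence.isFinLocFree_of_isInvertible (hLs l))))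
      (A := (Scheme.Modules.pullback (BrSev.proj f K)).obj (Ms i)) (by
        obtain ⟨j, q, hjq⟩ := hret i
        exact Groth.L21.Weil.IsRetract.trans ⟨(Scheme.Modules.pullback (BrSev.proj f K)).map j,
          (Scheme.Modules.pullback (BrSev.proj f K)).map q,
          by rw [← Functor.map_comp, hjq, CategoryTheory.Functor.map_id]⟩ (Groth.L21.Weil.IsRetract.of_iso a))
    exact Groth.Agent.S14201.result k A n hn hA f hX K e (Ms i) (hlf i) (hMs i) m (fun l => Ls (π l))
      (fun l => hLs _) ⟨b⟩
  choose js rs hrs hjs using htype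
  exact ⟨t, Ms, js, rs, fun i => ⟨hlf i, hMs i, hrs i, hjs i⟩, ⟨d⟩⟩

end Groth.Agent.S14215
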