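import Groth.Statements.S14212
import Groth.Agent.L24.SB.KSpan
import Groth.Agent.S14215
import Groth.Agent.S14209

set_option autoImplicit false
set_option linter.style.haveILetI false
set_option backward.isDefEq.respectTransparency.types false
universe u
open CategoryTheory CategoryTheory.Limits AlgebraicGeometry
open ASBun

namespace Groth.Agent.S14212

/-- Let A be a central simple algebra of degree n ≥ 1 over a field k (of dimension n² over k), X a
proper k-scheme which is the Severi–Brauer scheme of A (for every commutative k-algebra R its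
R-points over k are, naturally in R, the left ideals of R ⊗_k A with projective quotient of rank n²
− n), K an algebraic closure of k and e a K-isomorphism X_K ≅ P^{n−1}_K, along which O_e(j) denotes
the pullback of the twisting sheaf O(j). Then the Grothendieck group of finite locally free
O_X-modules (the free abelian group on them modulo [M₂] − [M₁] − [M₃] for every short exact sequence
0 → M₁ → M₂ → M₃ → 0 of O_X-modules with finite locally free terms) is spanned over ℤ by the classes
of the indecomposable finite locally free modules W (nonzero, and in any decomposition as a direct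
sum one summand is zero) with W_K ≅ O_e(−j)^{⊕r} for some j ≥ 0 and r ≥ 1. (The published statement
speaks of the duals of the indecomposable modules of types O(j), j ≥ 0, which are these modules, and
of the Grothendieck group of coherent modules, which for this smooth X is that of locally free
ones.) -/
theorem result (k : Type u) [Field k] (A : Type u) [Ring A] [Algebra k A]
    [Algebra.IsCentral k A] [IsSimpleRing A] (n : ℕ) (hn : 0 < n)
    (hA : Module.finrank k A = n * n) {X : Scheme.{u}} (f : X ⟶ Spec (CommRingCat.of k))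
    [IsProper f] (hX : BrSev.IsSBOf k A (n * n - n) f)
    (K : Type u) [Field K] [Algebra k K] [IsAlgClosure k K] (e : BrSev.Splitting f K (n - 1)) :
    AddSubgroup.closure {c : KZero.K0sub (fun M : X.Modules => FlatMod.IsFinLocFree M) |
        ∃ (W : X.Modules) (j : ℕ) (r : ℕ), FlatMod.IsFinLocFree W ∧
          (¬ IsZero W ∧ ∀ M₁ M₂ : X.Modules, Nonempty (W ≅ M₁ ⊞ M₂) → IsZero M₁ ∨ IsZero M₂) ∧
          0 < r ∧ BrSev.IsTwPow e (-(j : ℤ)) r W ∧
          c = KZero.clSub (fun M : X.Modules => FlatMod.IsFinLocFree M) W} = ⊤ := by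
  classical
  haveI : IsAlgClosed K := IsAlgClosure.isAlgClosed k
  letI : X.Over (Spec (CommRingCat.of k)) := ⟨f⟩
  haveI : IsProper (X ↘ Spec (CommRingCat.of k)) := ‹IsProper f›
  let φ := Spec.map (CommRingCat.ofHom (algebraMap k K))
  let g : CohB1.ProjSpace (n - 1) K ⟶ X := e.iso.inv ≫ BrSev.proj f K
  haveI : Flat φ := Groth.L03.ShStab.BC.flat_specMap K
  have sq₁ : IsPullback e.iso.inv (CohB1.ProjSpace.toSpec (n - 1) K) (BrSev.bcTo f K) (𝟙 _) :=
    IsPullback.of_horiz_isIso ⟨by rw [Category.comp_id, ← e.comm, Iso.inv_hom_id_assoc]⟩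
  have sq : IsPullback g (CohB1.ProjSpace (n - 1) K ↘ Spec (CommRingCat.of K)) (X ↘ Spec (CommRingCat.of k)) φ := by
    have h : IsPullback g (CohB1.ProjSpace.toSpec (n - 1) K) f (𝟙 _ ≫ φ) :=
      sq₁.paste_horiz (IsPullback.of_hasPullback f φ)
    rw [Category.id_comp] at h
    exact h
  haveI : Flat g := MorphismProperty.of_isPullback (P := @Flat) sq.flip inferInstance
  haveI : Surjective g := MorphismProperty.of_isPullback (P := @Surjective) sq.flip
    (Groth.L03.ShStab.BC.surjective_specMap K)
  let G := Scheme.Modules.pullback g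
  haveI := (Scheme.Modules.pullbackPushforwardAdjunction g).leftAdjoint_preservesColimits
  haveI := (Scheme.Modules.pullbackPushforwardAdjunction e.iso.inv).leftAdjoint_preservesColimits
  haveI : PreservesColimitsOfSize.{0, 0} (Scheme.Modules.pullback e.iso.inv) :=
    preservesColimitsOfSize_shrink.{0, u, 0, u} _
  let cmp (M : X.Modules) : (Scheme.Modules.pullback e.iso.inv).obj (BrSev.bcMod f K M) ≅ G.obj M :=
    (Scheme.Modules.pullbackComp e.iso.inv (BrSev.proj f K)).app M
  have htype : ∀ (M : X.Modules) (j : ℤ) (r : ℕ), BrSev.IsTwPow e j r M →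
      Nonempty (G.obj M ≅ ∐ fun _ : Fin r => Groth.L22.Reg.O' (n - 1) K j) := fun M j r ⟨a⟩ =>
    ⟨(cmp M).symm ≪≫ (Scheme.Modules.pullback e.iso.inv).mapIso a ≪≫
      PreservesCoproduct.iso (Scheme.Modules.pullback e.iso.inv) (fun _ : Fin r => e.twist j) ≪≫
      Sigma.mapIso fun _ => (Scheme.Modules.pullbackComp e.iso.inv e.iso.hom).app _ ≪≫
        (Scheme.Modules.pullbackCongr e.iso.inv_hom_id).app _ ≪≫ (Scheme.Modules.pullbackId _).app _⟩
  let P : ObjectProperty X.Modules := fun M => FlatMod.IsFinLocFree M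
  let S := AddSubgroup.closure {c : KZero.K0sub (fun M : X.Modules => FlatMod.IsFinLocFree M) |
    ∃ (W : X.Modules) (j : ℕ) (r : ℕ), FlatMod.IsFinLocFree W ∧
      (¬ IsZero W ∧ ∀ M₁ M₂ : X.Modules, Nonempty (W ≅ M₁ ⊞ M₂) → IsZero M₁ ∨ IsZero M₂) ∧
      0 < r ∧ BrSev.IsTwPow e (-(j : ℤ)) r W ∧
      c = KZero.clSub (fun M : X.Modules => FlatMod.IsFinLocFree M) W}
  -- absolutely split modules whose summands have non-positive type
  have hsplit : ∀ (E : X.Modules), FlatMod.IsFinLocFree E → Groth.L24.SB.Mid 0 (G.obj E) →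
      (1 ≤ n - 1 → Groth.L24.SB.Good (G.obj E)) →
      KZero.clSub (fun M : X.Modules => FlatMod.IsFinLocFree M) E ∈ S := by
    intro E hE hmid hgood
    have hF : FlatMod.IsFinLocFree ((Scheme.Modules.pullback e.iso.inv).obj (BrSev.bcMod f K E)) :=
      Groth.L29.LocFree.pullback _ (Groth.L29.LocFree.pullback _ hE)
    obtain ⟨s, Ls, hLs, ha⟩ := (Groth.L24.SB.split_iff_twists f e E).2 ((Groth.L24.SB.iff_split_locFree hF).2
      fun t i h1 h2 => Groth.Agent.Pic0.subsingleton_HH_congr
        (Groth.L00.Tensor.tensorIso (cmp E).symm (Iso.refl _)) i (hmid t i h1 (by omega)))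
    obtain ⟨t, Ms, js, rs, hMs, ⟨d⟩⟩ := Groth.Agent.S14215.result k A n hn hA f hX K e E hE s Ls hLs ha
    have hmem : ∀ i, KZero.clSub (fun M : X.Modules => FlatMod.IsFinLocFree M) (Ms i) ∈ S := fun i => by
      obtain ⟨hf, hi, hr, ht⟩ := hMs i
      rcases Nat.eq_zero_or_pos (n - 1) with h0 | h0
      · refine AddSubgroup.subset_closure ⟨Ms i, 0, rs i, hf, hi, hr, ?_, rfl⟩
        obtain ⟨a⟩ := ht
        obtain ⟨b⟩ : Nonempty (Groth.L22.Reg.O' (n - 1) K (js i) ≅ Groth.L22.Reg.O' (n - 1) K (-((0 : ℕ) : ℤ))) := by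
          rw [h0]
          exact Groth.L24.SB.nonempty_twist_point _ _
        exact ⟨a ≪≫ Sigma.mapIso fun _ => (Scheme.Modules.pullback e.iso.hom).mapIso b⟩
      · have hle : js i ≤ 0 := by
          refine Groth.L24.SB.le_zero_of_good hr (htype _ _ _ ht).some ?_
          let u : Ms i ⟶ E := Sigma.ι Ms i ≫ d.inv
          let v : E ⟶ Ms i := d.hom ≫ Sigma.desc fun x => if h : x = i then eqToHom (congrArg Ms h) else 0
          have huv : u ≫ v = 𝟙 _ := by
            simp [u, v]
          haveI : IsSplitMono (G.map u) := ⟨⟨⟨G.map v, by rw [← Functor.map_comp, huv, CategoryTheory.Functor.map_id]⟩⟩⟩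
          exact Groth.L24.SB.good_of_mono (G.map u) (hgood h0)
        obtain ⟨j, hj⟩ : ∃ j : ℕ, js i = -(j : ℤ) := ⟨(-(js i)).toNat, by omega⟩
        exact AddSubgroup.subset_closure ⟨Ms i, j, rs i, hf, hi, hr, hj ▸ ht, rfl⟩
    let Z := ∐ fun i : Fin 0 => Ms (Fin.elim0 i)
    have hz : IsZero Z := (IsZero.iff_id_eq_zero _).2 (Sigma.hom_ext _ _ fun i => i.elim0)
    have hT : (ShortComplex.mk (0 : Z ⟶ E) d.hom zero_comp).ShortExact :=
      { exact := (ShortComplex.exact_iff_mono _ rfl).2 inferInstance
        mono_f := ⟨fun _ _ _ => hz.eq_of_tgt _ _⟩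
        epi_g := inferInstanceAs (Epi d.hom) }
    have hrel := Groth.L24.SB.clSub_rel _ hT (Groth.L29.DC.isFinLocFree_coprod_fin _ _ fun i => i.elim0) hE
      (Groth.L29.DC.isFinLocFree_coprod_fin _ _ fun i => (hMs i).1)
    change KZero.clSub (fun M : X.Modules => FlatMod.IsFinLocFree M) E = _ at hrel
    rw [hrel]
    exact S.add_mem (Groth.L24.SB.span_coprod S 0 _ (fun i => i.elim0) fun i => i.elim0)
      (Groth.L24.SB.span_coprod S t Ms (fun i => (hMs i).1) hmem)
  have hall : ∀ E : X.Modules, FlatMod.IsFinLocFree E →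
      KZero.clSub (fun M : X.Modules => FlatMod.IsFinLocFree M) E ∈ S := by
    intro E hE
    rcases Nat.eq_zero_or_pos (n - 1) with h0 | h0
    · exact hsplit E hE (fun t q h1 h2 => absurd h2 (by omega)) fun h => absurd h (by omega)
    obtain ⟨K₀, _, _, hfin, hgal, ⟨e₀⟩⟩ := Groth.Agent.S14209.result k A n hn hA f hX
    choose Wt rt hW hWi hr hWt using fun t : ℕ => Groth.L24.GalPush.exists_indec_twPow f e₀ e (-(t : ℤ))
    have hS : ∀ t, KZero.clSub (fun M : X.Modules => FlatMod.IsFinLocFree M) (Wt t) ∈ S := fun t =>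
      AddSubgroup.subset_closure ⟨Wt t, t, rt t, hW t, hWi t, hr t, hWt t, rfl⟩
    have key : ∀ (s : ℕ) (E : X.Modules), FlatMod.IsFinLocFree E → Groth.L24.SB.Good (G.obj E) →
        Groth.L24.SB.Mid s (G.obj E) → KZero.clSub (fun M : X.Modules => FlatMod.IsFinLocFree M) E ∈ S := by
      intro s
      induction s with
      | zero => exact fun E hE hg hm => hsplit E hE hm fun _ => hg
      | succ s ih =>
        intro E hE hg hm
        obtain ⟨T, hT3, hT, h1, h2, h3, h2S, h2g, h2m, hlift⟩ := Groth.L24.SB.exists_resolution_step g sq h0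
          Wt rt hW hr (fun t => htype _ _ _ (hWt t)) S hS hE
        subst hT3
        haveI := Groth.L17.CxTools.preservesFiniteLimits_pullback g
        have hTG := hT.map_of_exact G
        haveI := hTG.mono_f
        haveI : Mono (G.map T.f) := hTG.mono_f
        have h := ih T.X₁ h1 (Groth.L24.SB.good_of_mono (G.map T.f) h2g) (Groth.L24.SB.mid_syzygy hTG s hm
          (fun t => (lt_or_ge t 0).elim (fun ht => Groth.L24.SB.lifts_of_good _ hg ht) (hlift t)) h2m)
        rw [Groth.L24.SB.clSub_rel T hT h1 h2 h3] at h2S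
        exact (S.add_mem_cancel_left h).1 h2S
    obtain ⟨T, hT3, hT, h1, h2, h3, h2S, h2g, -, -⟩ := Groth.L24.SB.exists_resolution_step g sq h0
      Wt rt hW hr (fun t => htype _ _ _ (hWt t)) S hS hE
    subst hT3
    haveI := Groth.L17.CxTools.preservesFiniteLimits_pullback g
    haveI : Mono (G.map T.f) := (hT.map_of_exact G).mono_f
    have h := key (n - 1) T.X₁ h1 (Groth.L24.SB.good_of_mono (G.map T.f) h2g) fun t q h' h'' => absurd h'' (by omega)
    rw [Groth.L24.SB.clSub_rel T hT h1 h2 h3] at h2S
    exact (S.add_mem_cancel_left h).1 h2S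
  refine (AddSubgroup.eq_top_iff' _).2 fun x => ?_
  induction x using QuotientAddGroup.induction_on with | H y => ?_
  induction y using FreeAbelianGroup.induction_on with
  | zero => exact S.zero_mem
  | of x =>
    have h := hall x.1 x.2
    rw [KZero.clSub, dif_pos x.2] at h
    exact h
  | neg x hx =>
    rw [QuotientAddGroup.mk_neg]
    exact S.neg_mem hx
  | add x y hx hy =>
    rw [QuotientAddGroup.mk_add]
    exact S.add_mem hx hy

end Groth.Agent.S14212
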