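import Groth.Statements.S14213
import Groth.Agent.L24.SB.Cohom
import Groth.Agent.S14209

set_option autoImplicit false
set_option backward.isDefEq.respectTransparency.types false
universe u
open CategoryTheory CategoryTheory.Limits AlgebraicGeometry
open ASBun

namespace Groth.Agent.S14213

/-- Let A be a central simple algebra of degree n ≥ 1 over a field k (of dimension n² over k), X a
proper k-scheme which is the Severi–Brauer scheme of A (for every commutative k-algebra R its
R-points over k are, naturally in R, the left ideals of R ⊗_k A with projective quotient of rank n²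
− n), K an algebraic closure of k and e a K-isomorphism X_K ≅ P^{n−1}_K, along which O_e(j) denotes
the pullback of the twisting sheaf O(j); let p be the period of A (the least p ≥ 1 for which the
p-fold tensor power of A is a full matrix algebra over k) and E a finite locally free O_X-module.
Then E is absolutely split (E_K is isomorphic to a finite direct sum of invertible O_{X_K}-modules)
if and only if the cohomology groups H^i(X, E ⊗ L ⊗ W) vanish for all 0 < i < n − 1 = dim X, all
integers a, all invertible O_X-modules L with L_K ≅ O_e(ap), all integers 0 ≤ j < p and all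
indecomposable finite locally free O_X-modules W (nonzero, and in any decomposition as a direct sum
one summand is zero) with W_K ≅ O_e(j)^{⊕r} for some r ≥ 1. -/
theorem result (k : Type u) [Field k] (A : Type u) [Ring A] [Algebra k A]
    [Algebra.IsCentral k A] [IsSimpleRing A] (n : ℕ) (hn : 0 < n)
    (hA : Module.finrank k A = n * n) {X : Scheme.{u}} (f : X ⟶ Spec (CommRingCat.of k))
    [IsProper f] (hX : BrSev.IsSBOf k A (n * n - n) f)
    (K : Type u) [Field K] [Algebra k K] [IsAlgClosure k K] (e : BrSev.Splitting f K (n - 1))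
    (p : ℕ) (hp : CSAGal.IsPeriod k A p) (E : X.Modules) (hE : FlatMod.IsFinLocFree E) :
    (∃ (s : ℕ) (Ls : Fin s → (BrSev.bc f K).Modules), (∀ i, PicF.IsInvertible (Ls i)) ∧
        Nonempty (BrSev.bcMod f K E ≅ ∐ Ls)) ↔
      (∀ (i : ℕ), 0 < i → i + 1 < n → ∀ (a : ℤ) (L : X.Modules), PicF.IsInvertible L →
        BrSev.IsTwPow e (a * (p : ℤ)) 1 L → ∀ (j : ℤ), 0 ≤ j → j < (p : ℤ) →
        ∀ (W : X.Modules), FlatMod.IsFinLocFree W →
        (¬ IsZero W ∧ ∀ M₁ M₂ : X.Modules, Nonempty (W ≅ M₁ ⊞ M₂) → IsZero M₁ ∨ IsZero M₂) →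
        ∀ (r : ℕ), 0 < r → BrSev.IsTwPow e j r W →
        Subsingleton (Coh.HH X (CohB1.tensorMod (CohB1.tensorMod E L) W) i)) := by
  classical
  haveI : IsAlgClosed K := IsAlgClosure.isAlgClosed k
  letI : X.Over (Spec (CommRingCat.of k)) := ⟨f⟩
  haveI : IsProper (X ↘ Spec (CommRingCat.of k)) := ‹IsProper f›
  haveI : IsLocallyNoetherian X := LocallyOfFiniteType.isLocallyNoetherian f
  let g := BrSev.proj f K
  let φ := Spec.map (CommRingCat.ofHom (algebraMap k K))
  have sq : IsPullback g (BrSev.bcTo f K) f φ := IsPullback.of_hasPullback f φ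
  haveI : Flat φ := Groth.L03.ShStab.BC.flat_specMap K
  let F := (Scheme.Modules.pullback e.iso.inv).obj (BrSev.bcMod f K E)
  have hF : FlatMod.IsFinLocFree F := Groth.L29.LocFree.pullback _ (Groth.L29.LocFree.pullback _ hE)
  rw [Groth.L24.SB.split_iff_twists f e E, Groth.L24.SB.iff_split_locFree hF]
  have hM : ∀ (L W : X.Modules), PicF.IsInvertible L → FlatMod.IsFinLocFree W →
      Coh.IsCoh (CohB1.tensorMod (CohB1.tensorMod E L) W) := fun L W hL hW =>
    Groth.L16.NegPow.isCoh_of_isFinLocFree (Groth.L29.DC.isFinLocFree_tensor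
      (Groth.L29.DC.isFinLocFree_tensor hE (Groth.L16.Existence.isFinLocFree_of_isInvertible hL)) hW)
  constructor
  · intro h i hi hin a L hL hLt j hj0 hjp W hW hWi r hr hWt
    exact Groth.Agent.Pic0.subsingleton_HH_of_field_pullback f φ sq _ (hM L W hL hW) i
      ((Groth.L24.SB.subsingleton_tensor_types_iff f e hr hLt hWt i).2 (h _ i hi (by omega)))
  · intro h t i hi hid
    obtain ⟨K₀, _, _, hfin, hgal, ⟨e₀⟩⟩ := Groth.Agent.S14209.result k A n hn hA f hX
    obtain ⟨L, hL, hLt₀⟩ := Groth.L24.SB.exists_line f hn hA hX e₀ hp (j := t / (p : ℤ) * (p : ℤ)) (dvd_mul_left _ _)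
    have hLt := Groth.L24.SB.isTwPow_bc f (IsAlgClosed.lift (R := k) (S := K₀) (M := K)) e₀ e hLt₀
    obtain ⟨W, r, hW, hWi, hr, hWt⟩ := Groth.L24.GalPush.exists_indec_twPow f e₀ e (t % (p : ℤ))
    have hp0 : (0 : ℤ) < p := by exact_mod_cast hp.1
    have h0 := h i hi (by omega) (t / (p : ℤ)) L hL hLt (t % (p : ℤ)) (Int.emod_nonneg _ hp0.ne')
      (Int.emod_lt_of_pos _ hp0) W hW hWi r hr hWt
    have h1 := (Groth.L24.SB.subsingleton_tensor_types_iff f e hr hLt hWt i).1
      (Groth.L24.SB.subsingleton_HH_field_pullback f φ sq _ (hM L W hL hW) i h0)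
    rwa [Int.ediv_mul_add_emod] at h1

end Groth.Agent.S14213
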