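import Groth.Statements.S14216
import Groth.Agent.S14215
import Groth.Agent.L24.SB.Index
import Groth.Agent.L24.SB.IdxPow
import Groth.Agent.L24.SB.Parity

set_option autoImplicit false
set_option backward.isDefEq.respectTransparency.types false
universe u
open CategoryTheory CategoryTheory.Limits AlgebraicGeometry
open ASBun

namespace Groth.Agent.S14216

/-- Let A be a central simple algebra of degree n ≥ 1 over a field k (of dimension n² over k), X a
proper k-scheme which is the Severi–Brauer scheme of A (for every commutative k-algebra R its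
R-points over k are, naturally in R, the left ideals of R ⊗_k A with projective quotient of rank n²
− n), K an algebraic closure of k and e a K-isomorphism X_K ≅ P^{n−1}_K, along which O_e(j) denotes
the pullback of the twisting sheaf O(j); suppose A has index 2 (A is a matrix algebra over a
division ring of dimension 4 over k). Let E be a finite locally free O_X-module which is absolutely
split: E_K is isomorphic to a finite direct sum of invertible O_{X_K}-modules. Then E ≅ (L_1 ⊕ ⋯ ⊕
L_s) ⊕ (M_1 ⊕ ⋯ ⊕ M_t) where each L_i is an invertible O_X-module with (L_i)_K ≅ O_e(2a_i) and each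
M_i is an indecomposable finite locally free O_X-module (nonzero, and in any decomposition as a
direct sum one summand is zero) of rank 2 with (M_i)_K ≅ O_e(2b_i + 1)^{⊕2}, for integers a_i, b_i.
(The published statement also records that s, t and the a_i, b_j are unique, which is the
Krull–Schmidt uniqueness and is not restated here.) -/
theorem result (k : Type u) [Field k] (A : Type u) [Ring A] [Algebra k A]
    [Algebra.IsCentral k A] [IsSimpleRing A] (n : ℕ) (hn : 0 < n)
    (hA : Module.finrank k A = n * n) {X : Scheme.{u}} (f : X ⟶ Spec (CommRingCat.of k))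
    [IsProper f] (hX : BrSev.IsSBOf k A (n * n - n) f)
    (K : Type u) [Field K] [Algebra k K] [IsAlgClosure k K] (e : BrSev.Splitting f K (n - 1))
    (hi : CSAGal.IsIndex k A 2) (E : X.Modules) (hE : FlatMod.IsFinLocFree E)
    (s₀ : ℕ) (Ns : Fin s₀ → (BrSev.bc f K).Modules) (hNs : ∀ i, PicF.IsInvertible (Ns i))
    (hsplit : Nonempty (BrSev.bcMod f K E ≅ ∐ Ns)) :
    ∃ (s t : ℕ) (Ls : Fin s → X.Modules) (Ms : Fin t → X.Modules) (a : Fin s → ℤ) (b : Fin t → ℤ),
      (∀ i, PicF.IsInvertible (Ls i) ∧ BrSev.IsTwPow e (2 * a i) 1 (Ls i)) ∧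
      (∀ i, FlatMod.IsFinLocFree (Ms i) ∧
        (¬ IsZero (Ms i) ∧ ∀ M₁ M₂ : X.Modules, Nonempty ((Ms i) ≅ M₁ ⊞ M₂) → IsZero M₁ ∨ IsZero M₂) ∧
        BrSev.IsTwPow e (2 * b i + 1) 2 (Ms i)) ∧
      Nonempty (E ≅ (∐ Ls) ⊞ (∐ Ms)) := by
  classical
  haveI : FiniteDimensional k A := Module.finite_of_finrank_pos (by rw [hA]; exact Nat.mul_pos hn hn)
  obtain ⟨p, hp⟩ := Groth.L11.Idx.exists_period (k := k) (A := A)
  have hp2 : p = 2 := (Nat.prime_two.eq_one_or_self_of_dvd p (Groth.L11.Idx.period_dvd_index hi hp)).resolve_left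
    fun h => by
      subst h
      have h1 : Curves.Splits k A k := Groth.L11.Br.splits_of_beq
        (Groth.L11.Br.BEq.of_algEquiv Groth.L11.Idx.oneEquiv.symm) k hp.2.1
      have := Nat.le_of_dvd Nat.one_pos ((Module.finrank_self k) ▸ Groth.L11.Idx.dvd_of_splits hi k h1)
      omega
  subst hp2
  obtain ⟨t, Ms, js, rs, hMs, ⟨d⟩⟩ := Groth.Agent.S14215.result k A n hn hA f hX K e E hE s₀ Ns hNs hsplit
  have hr : ∀ i, rs i = 2 / Nat.gcd 2 (js i).natAbs := fun i =>
    Groth.L24.SB.index_tpow_eq (js i).natAbs hi hp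
      (Groth.L24.SB.isIndex_type hn hA f hX e (Ms i) (hMs i).1 (hMs i).2.1 (js i) (rs i) (hMs i).2.2.1 (hMs i).2.2.2)
  obtain ⟨s, u, a, b, ha, hb, ⟨sp⟩⟩ := Groth.L24.SB.exists_split_coprod Ms fun i => Even (js i)
  refine ⟨s, u, fun x => Ms (a x), fun y => Ms (b y), fun x => js (a x) / 2, fun y => js (b y) / 2,
    fun x => ?_, fun y => ⟨(hMs _).1, (hMs _).2.1, ?_⟩, ⟨d ≪≫ sp⟩⟩
  · have h2 : 2 * (js (a x) / 2) = js (a x) := Int.mul_ediv_cancel' (even_iff_two_dvd.mp (ha x))
    have hr1 : rs (a x) = 1 := by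
      rw [hr, Nat.gcd_eq_left (even_iff_two_dvd.mp (Int.natAbs_even.mpr (ha x))), Nat.div_self (by norm_num)]
    have ht := (hMs (a x)).2.2.2
    rw [hr1] at ht
    refine ⟨?_, h2.symm ▸ ht⟩
    obtain ⟨q⟩ := ht
    haveI : Surjective (BrSev.proj f K) := MorphismProperty.of_isPullback (P := @Surjective)
      (IsPullback.of_hasPullback f (Spec.map (CommRingCat.ofHom (algebraMap k K)))).flip
      (Groth.L03.ShStab.BC.surjective_specMap K)
    exact Groth.L24.SB.isInvertible_of_pullback_invertible (BrSev.proj f K) (hMs _).1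
      (Groth.L18.Ample.isInvertible_of_iso (q ≪≫ coproductUniqueIso _).symm
        (Groth.L24.GalPush.isInvertible_twist f e _))
  · have ho : Odd (js (b y)) := Int.not_even_iff_odd.mp (hb y)
    have h2 : 2 * (js (b y) / 2) + 1 = js (b y) := Int.two_mul_ediv_two_add_one_of_odd ho
    have hr2 : rs (b y) = 2 := by
      rw [hr, ((Nat.coprime_two_left).mpr (Int.natAbs_odd.mpr ho)).gcd_eq_one, Nat.div_one]
    have ht := (hMs (b y)).2.2.2
    rw [hr2] at ht
    exact h2.symm ▸ ht

end Groth.Agent.S14216
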