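import Groth.Statements.S14217
import Groth.Agent.S14216
import Groth.Agent.L21.P1.Split
import Groth.Agent.L18.KRRAmple

set_option autoImplicit false
set_option backward.isDefEq.respectTransparency.types false
set_option backward.isDefEq.respectTransparency false
universe u
open CategoryTheory CategoryTheory.Limits AlgebraicGeometry
open ASBun

namespace Groth.Agent.S14217

/-- Let A be a non-split central simple algebra of degree 2 over a field k (of dimension 4 and not
isomorphic to the 2 × 2 matrices over k), X a proper k-scheme which is the Severi–Brauer scheme of A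
(for every commutative k-algebra R its R-points over k are, naturally in R, the left ideals of R ⊗_k
A with projective quotient of rank 2), so that X is a conic without rational point, K an algebraic
closure of k and e a K-isomorphism X_K ≅ P^1_K, with O_e(j) the pullback of O(j) along e. Then every
finite locally free O_X-module E decomposes as E ≅ (L_1 ⊕ ⋯ ⊕ L_s) ⊕ (M_1 ⊕ ⋯ ⊕ M_t) with each L_i
invertible and (L_i)_K ≅ O_e(2a_i), and each M_i indecomposable finite locally free (nonzero, and in
any decomposition as a direct sum one summand is zero) of rank 2 with (M_i)_K ≅ O_e(2b_i + 1)^{⊕2},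
for integers a_i, b_i. (The published statement writes the invertible summands as tensor powers of
the canonical module, which is such an L with (L)_K ≅ O(−2), and records uniqueness of the summands,
which is Krull–Schmidt and not restated here.) -/
theorem result (k : Type u) [Field k] (A : Type u) [Ring A]
    [Algebra k A] [Algebra.IsCentral k A] [IsSimpleRing A] (hA : Module.finrank k A = 4)
    (hns : ¬ Curves.Splits k A k) {X : Scheme.{u}} (f : X ⟶ Spec (CommRingCat.of k))
    [IsProper f] (hX : BrSev.IsSBOf k A 2 f)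
    (K : Type u) [Field K] [Algebra k K] [IsAlgClosure k K] (e : BrSev.Splitting f K 1)
    (E : X.Modules) (hE : FlatMod.IsFinLocFree E) :
    ∃ (s t : ℕ) (Ls : Fin s → X.Modules) (Ms : Fin t → X.Modules) (a : Fin s → ℤ) (b : Fin t → ℤ),
      (∀ i, PicF.IsInvertible (Ls i) ∧ BrSev.IsTwPow e (2 * a i) 1 (Ls i)) ∧
      (∀ i, FlatMod.IsFinLocFree (Ms i) ∧
        (¬ IsZero (Ms i) ∧ ∀ M₁ M₂ : X.Modules, Nonempty ((Ms i) ≅ M₁ ⊞ M₂) → IsZero M₁ ∨ IsZero M₂) ∧
        BrSev.IsTwPow e (2 * b i + 1) 2 (Ms i)) ∧
      Nonempty (E ≅ (∐ Ls) ⊞ (∐ Ms)) := by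
  classical
  haveI : FiniteDimensional k A := Module.finite_of_finrank_pos (by rw [hA]; norm_num)
  obtain ⟨d, hd⟩ := Groth.L11.Idx.exists_isIndex (k := k) (A := A)
  have hd2 : d = 2 := by
    have hdvd : d ∣ 2 := by
      obtain ⟨m, D, _, _, hm, hD, ⟨φ⟩⟩ := hd.2
      have h := φ.toLinearEquiv.finrank_eq
      rw [hA, Module.finrank_matrix, hD, Fintype.card_fin] at h
      exact ⟨m, Nat.mul_self_inj.mp ((show 2 * 2 = 4 from rfl).trans (h.trans (by ring)))⟩
    refine (Nat.prime_two.eq_one_or_self_of_dvd d hdvd).resolve_left fun h => hns ?_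
    subst h
    exact Groth.L11.Br.splits_of_beq (Groth.L11.Br.BEq.of_algEquiv Groth.L11.Idx.oneEquiv.symm) k
      (Groth.L11.Idx.splits_tpow_index hd)
  subst hd2
  -- bundles on the split conic are sums of line bundles
  let EK := BrSev.bcMod f K E
  let P1 := Scheme.Modules.pullback e.iso.inv
  have hEK : FlatMod.IsFinLocFree (P1.obj EK) :=
    Groth.L29.LocFree.pullback _ (Groth.L29.LocFree.pullback _ hE)
  haveI : IsIntegral (CohB1.ProjSpace 1 K) := Groth.L16.ProjSpace.isIntegral 1 K
  obtain ⟨s₀, hs₀⟩ := Groth.L18.KRRAmple.exists_rank (X := CohB1.ProjSpace 1 K) hEK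
  obtain ⟨c, -, ⟨i⟩⟩ := Groth.L21.P1.exists_splitting K hs₀
  haveI : HasFiniteBiproducts (CohB1.ProjSpace 1 K).Modules := HasFiniteBiproducts.of_hasFiniteProducts
  haveI := (Scheme.Modules.pullbackPushforwardAdjunction e.iso.hom).leftAdjoint_preservesColimits
  haveI : PreservesColimitsOfSize.{0, 0} (Scheme.Modules.pullback e.iso.hom) :=
    preservesColimitsOfSize_shrink.{0, u, 0, u} _
  have hsplit : Nonempty (EK ≅ ∐ fun l => e.twist (c l)) :=
    ⟨((Scheme.Modules.pullbackId _).app EK).symm ≪≫ (Scheme.Modules.pullbackCongr e.iso.hom_inv_id.symm).app EK ≪≫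
      ((Scheme.Modules.pullbackComp e.iso.hom e.iso.inv).app EK).symm ≪≫
      (Scheme.Modules.pullback e.iso.hom).mapIso (i.symm ≪≫ biproduct.isoCoproduct _) ≪≫
      PreservesCoproduct.iso (Scheme.Modules.pullback e.iso.hom) _⟩
  exact Groth.Agent.S14216.result k A 2 two_pos hA f hX K e hd E hE s₀ (fun l => e.twist (c l))
    (fun l => Groth.L24.GalPush.isInvertible_twist f e _) hsplit

end Groth.Agent.S14217
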