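import Groth.Statements.S1422
import Groth.Agent.L20.Weight.Comp

set_option autoImplicit false
universe u
open FlatMor

set_option linter.style.haveILetI false
set_option backward.isDefEq.respectTransparency.types false

namespace Groth.Agent.S1422

open Groth.L20.Weight in
set_option maxHeartbeats 2000000 in
open AlgebraicGeometry CategoryTheory Limits in
/-- Let f : X → Y and g : Y → Z be locally quasi-finite with weightings w_f and w_g. Then x ↦ w_f(x) ·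
w_g(f x) is a weighting of f ≫ g. -/
theorem result {X Y Z : Scheme.{u}} (f : X ⟶ Y) (g : Y ⟶ Z) [LocallyQuasiFinite f] [LocallyOfFiniteType f] [LocallyQuasiFinite g] [LocallyOfFiniteType g]
    (wf : ↑X → ℤ) (wg : ↑Y → ℤ) (hf : MoreMor.IsWeighting f wf) (hg : MoreMor.IsWeighting g wg) :
    MoreMor.IsWeighting (f ≫ g) (fun x => wf x * wg (f x)) := by
  classical
  intro V k _ U hU
  refine (IsLocallyConstant.iff_exists_open _).mpr fun v₀ => ?_
  obtain ⟨Ω, _, _, ω, hω⟩ := exists_geomPoint v₀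
  let wp : X → ℤ := fun x => wf x * wg (f x)
  have hLfin := finite_liftsIn (pullback.snd (f ≫ g) k) U ω
  let img : Lifts (pullback.snd (f ≫ g) k) ω → Lifts g (ω ≫ k) := fun ψ =>
    ⟨ψ.1 ≫ pullback.fst (f ≫ g) k ≫ f, by
      rw [Category.assoc, Category.assoc, pullback.condition, ← Category.assoc, ψ.2]⟩
  obtain ⟨V₁, _, g₁, _, ω₁, hω₁, hP⟩ :=
    exists_pieces g (ω ≫ k) (fun _ => ⊤) (fun _ => trivial) (hLfin.toFinset.image img)
  let h : pullback k g₁ ⟶ V := pullback.fst k g₁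
  let h₁ : pullback k g₁ ⟶ V₁ := pullback.snd k g₁
  let ω₂ : Spec (CommRingCat.of Ω) ⟶ pullback k g₁ := pullback.lift ω ω₁ hω₁.symm
  have hω₂ : ω₂ ≫ h = ω := pullback.lift_fst _ _ _
  have hω₂' : ω₂ ≫ h₁ = ω₁ := pullback.lift_snd _ _ _
  let K := h ≫ k
  have hkg : h₁ ≫ g₁ = K := pullback.condition.symm
  let A := bcMap (f ≫ g) k h ⁻¹ᵁ U
  let πA := A.ι ≫ pullback.snd (f ≫ g) K
  have : IsFinite πA := MorphismProperty.of_isPullback (P := @IsFinite)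
    (isPullback_bcMap_restrict (f ≫ g) k h U) hU
  have := finite_lifts πA ω₂ (finite_fibre_of_isFinite _ _)
  have := Fintype.ofFinite (Lifts πA ω₂)
  have hQ : ∀ φ : Lifts πA ω₂, ∃ ψ ∈ liftsIn (pullback.snd (f ≫ g) k) U ω,
      (img ψ).1 = φ.1 ≫ A.ι ≫ pullback.fst (f ≫ g) K ≫ f ∧ Nonempty (Piece g K ω₂ (img ψ).1) := by
    intro φ
    let ψ : Lifts (pullback.snd (f ≫ g) k) ω := ⟨φ.1 ≫ A.ι ≫ bcMap (f ≫ g) k h, by
      rw [Category.assoc, Category.assoc, (isPullback_bcMap (f ≫ g) k h).w, ← Category.assoc A.ι, ← Category.assoc φ.1, φ.2, hω₂]⟩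
    have hψ : ψ ∈ liftsIn (pullback.snd (f ≫ g) k) U ω := by
      change pt (φ.1 ≫ A.ι ≫ bcMap (f ≫ g) k h) ∈ U
      rw [pt_comp]
      exact (pt φ.1).2
    refine ⟨ψ, hψ, ?_, ?_⟩
    · change (φ.1 ≫ A.ι ≫ bcMap (f ≫ g) k h) ≫ pullback.fst (f ≫ g) k ≫ f = _
      rw [Category.assoc, Category.assoc, ← Category.assoc (bcMap (f ≫ g) k h), bcMap_fst]
    · obtain ⟨P, -⟩ := hP _ (Finset.mem_image_of_mem img (hLfin.mem_toFinset.mpr hψ))
      have key : ∀ K' : pullback k g₁ ⟶ Z, h₁ ≫ g₁ = K' → Nonempty (Piece g K' ω₂ (img ψ).1) := by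
        rintro K' rfl
        exact ⟨P.baseChange h₁ ω₂ hω₂'⟩
      exact key K hkg
  choose ψ hψ hψimg hQ' using hQ
  obtain ⟨V₃, _, h₃, _, ω₃, hω₃, hPc⟩ := exists_pieces πA ω₂ (fun _ => ⊤) (fun _ => trivial) Finset.univ
  have hPc' : ∀ φ : Lifts πA ω₂, Nonempty (Piece πA h₃ ω₃ φ.1) := fun φ => by
    obtain ⟨P, -⟩ := hPc φ (Finset.mem_univ _)
    exact ⟨P⟩
  let Pc := fun φ => (hPc' φ).some
  let πT := pullback.snd πA h₃
  have : IsFinite πT := MorphismProperty.pullback_snd πA h₃ inferInstance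
  have : IsIso (⊤ : (pullback πA h₃).Opens).ι := by rw [← Scheme.topIso_hom]; infer_instance
  have : IsFinite ((⊤ : (pullback πA h₃).Opens).ι ≫ πT) := inferInstance
  let lf : Lifts πA ω₂ → Lifts πA (ω₃ ≫ h₃) := fun φ => ⟨φ.1, φ.2.trans hω₃.symm⟩
  let p : Lifts πA ω₂ → Lifts πT ω₃ := fun φ => bcLift πA h₃ ω₃ (lf φ)
  have hpinj : Function.Injective p := fun φ φ' hij => by
    have h0 := (liftsPullbackEquiv (IsPullback.of_hasPullback πA h₃) ω₃).symm.injective hij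
    exact Subtype.ext (congrArg (fun z : Lifts πA (ω₃ ≫ h₃) => z.1) h0)
  have hA : liftsIn πT ⊤ ω₃ = Set.range p := by
    ext θ
    refine ⟨fun _ => ?_, fun _ => trivial⟩
    refine ⟨⟨θ.1 ≫ pullback.fst πA h₃,
      (Category.assoc _ _ _).trans ((congrArg (θ.1 ≫ ·) pullback.condition).trans
        ((Category.assoc _ _ _).symm.trans ((congrArg (· ≫ h₃) θ.2).trans hω₃)))⟩, ?_⟩
    apply (liftsPullbackEquiv (IsPullback.of_hasPullback πA h₃) ω₃).injective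
    exact Subtype.ext (bcLift_fst πA h₃ ω₃ _)
  obtain ⟨N, hN, h1, h2, h3⟩ := exists_nbhd_decomp πT ⊤ ω₃ (fun φ => (Pc φ).U)
    (fun φ => (Pc φ).finite) p hpinj (fun φ => (Pc φ).liftsIn_eq (φ := lf φ)) hA
  let sqA := isPullback_bcMap_restrict (f ≫ g) K h₃ A
  have hloc : ∀ φ, ∃ (m : ℤ) (M : V₃.Opens), pt ω₃ ∈ M ∧ ∀ v ∈ M,
      MoreMor.fibreIntegral ((Pc φ).U.ι ≫ πT)
        (fun u => wp (pullback.fst (f ≫ g) K (A.ι (pullback.fst πA h₃ ((Pc φ).U.ι u))))) v = m := by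
    intro φ
    have := (Pc φ).finite
    let j : ((Pc φ).U : Scheme.{u}) ⟶ X := (Pc φ).U.ι ≫ pullback.fst πA h₃ ≫ A.ι ≫ pullback.fst (f ≫ g) K
    have hj : j ≫ f ≫ g = ((Pc φ).U.ι ≫ πT) ≫ h₃ ≫ K := by
      have e3 : pullback.fst πA h₃ ≫ A.ι ≫ pullback.snd (f ≫ g) K = πT ≫ h₃ := pullback.condition
      have e4 : pullback.fst (f ≫ g) K ≫ f ≫ g = pullback.snd (f ≫ g) K ≫ K := pullback.condition
      have e5 := congrArg (fun t => (Pc φ).U.ι ≫ t ≫ K) e3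
      simp only [Category.assoc] at e5
      simp only [j, Category.assoc, e4]
      exact e5
    have he : pullback.lift j ((Pc φ).U.ι ≫ πT) hj =
        (Pc φ).U.ι ≫ sqA.isoPullback.inv ≫ (bcMap (f ≫ g) K h₃ ⁻¹ᵁ A).ι := by
      have e1 : sqA.isoPullback.inv ≫ (bcMap (f ≫ g) K h₃ ∣_ A) = pullback.fst πA h₃ :=
        sqA.isoPullback_inv_fst
      have e2 : sqA.isoPullback.inv ≫ (bcMap (f ≫ g) K h₃ ⁻¹ᵁ A).ι ≫ pullback.snd (f ≫ g) (h₃ ≫ K) = πT :=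
        sqA.isoPullback_inv_snd
      apply pullback.hom_ext
      · simp only [pullback.lift_fst, Category.assoc, j]
        rw [← bcMap_fst (f ≫ g) K h₃, ← morphismRestrict_ι_assoc, ← Category.assoc sqA.isoPullback.inv, e1]
      · simp only [pullback.lift_snd, Category.assoc, e2]
    have : IsOpenImmersion (pullback.lift j ((Pc φ).U.ι ≫ πT) hj) := by rw [he]; infer_instance
    have hχ0 : ω₂ ≫ K = ω ≫ k := by rw [← hω₂, Category.assoc]
    let χ : Lifts g (ω₃ ≫ h₃ ≫ K) := ⟨(img (ψ φ)).1, (img (ψ φ)).2.trans (by rw [← Category.assoc, hω₃, hχ0])⟩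
    have hχ : (Pc φ).φU.1 ≫ j ≫ f = χ.1 := by
      change _ = (img (ψ φ)).1
      rw [hψimg φ]
      have e := (Pc φ).hφU
      simp only [j, Category.assoc]
      rw [← Category.assoc (Pc φ).φU.1, ← Category.assoc ((Pc φ).φU.1 ≫ (Pc φ).U.ι), Category.assoc (Pc φ).φU.1, e]
    obtain ⟨M, hM, hM'⟩ := comp_piece_const hf hg (h₃ ≫ K) j ((Pc φ).U.ι ≫ πT) hj ω₃ (Pc φ).φU (Pc φ).unique χ hχ
      ((hQ' φ).some.baseChange h₃ ω₃ hω₃)
    refine ⟨_, M, hM, fun v hv => Eq.trans ?_ (hM' v hv)⟩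
    congr 1
  choose m M hM hM' using hloc
  let N' := N ⊓ Finset.univ.inf M
  have hN' : pt ω₃ ∈ N' := ⟨hN, mem_finset_inf fun φ _ => hM φ⟩
  have hconst : ∀ v ∈ N', MoreMor.fibreIntegral πA (fun a => wp (pullback.fst (f ≫ g) K (A.ι a))) (h₃ v) = ∑ φ, m φ := by
    intro v hv
    obtain ⟨Ω', _, _, ωv, hωv⟩ := exists_geomPoint v
    have e0 := fibreIntegral_baseChange πA πT (pullback.fst πA h₃) h₃ (IsPullback.of_hasPullback πA h₃)
      (fun a => wp (pullback.fst (f ≫ g) K (A.ι a))) v (finite_fibre_of_isFinite _ _)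
    rw [← e0, fibreIntegral_eq πT _ ωv (finite_fibre_of_isFinite _ _) hωv, ← finsum_mem_univ,
      show (Set.univ : Set (Lifts πT ωv)) = liftsIn πT ⊤ ωv from Set.ext fun _ => ⟨fun _ => trivial, fun _ => trivial⟩,
      finsum_liftsIn_eq_sum πT ⊤ (fun φ => (Pc φ).U) (fun φ => (Pc φ).finite)
        (fun z => wp (pullback.fst (f ≫ g) K (A.ι (pullback.fst πA h₃ z)))) ωv N (hωv.symm ▸ hv.1) h1 h2 h3]
    refine Finset.sum_congr rfl fun φ _ => ?_
    have := (Pc φ).finite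
    rw [← fibreIntegral_open πT (Pc φ).U (fun z => wp (pullback.fst (f ≫ g) K (A.ι (pullback.fst πA h₃ z)))) ωv hωv]
    exact hM' φ v ((Finset.inf_le (f := M) (Finset.mem_univ φ)) hv.2)
  refine ⟨(h₃ ≫ h) '' (N' : Set V₃), (h₃ ≫ h).isOpenMap _ N'.2, ⟨pt ω₃, hN', ?_⟩, ?_⟩
  · rw [← pt_comp, ← Category.assoc, hω₃, hω₂, hω]
  have hU' : IsFinite (U.ι ≫ pullback.snd (f ≫ g) k) := hU
  rintro _ ⟨v, hv, rfl⟩
  have e : ∀ v ∈ N', MoreMor.fibreIntegral (U.ι ≫ pullback.snd (f ≫ g) k)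
      (fun u => wp (pullback.fst (f ≫ g) k (U.ι u))) ((h₃ ≫ h) v) = ∑ φ, m φ := fun v hv => by
    rw [Scheme.Hom.comp_apply, ← fibreIntegral_bcMap (f ≫ g) k h U wp (h₃ v)]
    exact hconst v hv
  have hv₀ : (h₃ ≫ h) (pt ω₃) = v₀ := by rw [← pt_comp, ← Category.assoc, hω₃, hω₂, hω]
  rw [← hv₀]
  exact (e v hv).trans (e _ hN').symm

end Groth.Agent.S1422
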