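import Groth.Statements.S14229
import Groth.Agent.L24.RootCh.Solid

set_option autoImplicit false
universe u v w x
open RootCh RootCh.Facet

namespace Groth.Agent.S14229

/-- For a finite reduced crystallographic root system over a linearly ordered field and a facet F, the
linear subspace spanned by the vectors of F (its affine support, F being a cone) is the span of the
corners of F. -/
theorem result {ι : Type u} {R : Type v} {M : Type w} {N : Type x}
    [Field R] [LinearOrder R] [IsStrictOrderedRing R]
    [AddCommGroup M] [Module R M] [AddCommGroup N] [Module R N] [Finite ι]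
    (P : RootPairing ι R M N) [P.IsRootSystem] [P.IsCrystallographic] [P.IsReduced] (F : RootCh.Facet P) :
    Submodule.span R F.carrier = Submodule.span R F.corners := by
  haveI : Fintype ι := Fintype.ofFinite ι
  obtain ⟨b, hb⟩ := L24.RootCh.cham_nonempty F
  refine le_antisymm (Submodule.span_le.2 (L24.RootCh.carrier_subset_span_corners F)) (Submodule.span_le.2 ?_)
  intro w hw
  rw [L24.RootCh.corners_eq hb] at hw
  obtain ⟨j, hj, rfl⟩ := hw
  have h1 := L24.RootCh.sum_corners_mem_carrier F
  have h2 : (∑ w ∈ (L24.RootCh.corners_finite F).toFinset, w) + RootCh.fundWeight b j ∈ F.carrier := by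
    rw [L24.RootCh.mem_carrier_iff hb] at h1 ⊢
    intro k
    rw [map_add]
    rcases eq_or_ne k j with rfl | hk
    · rw [RootCh.coroot'_fundWeight_self]
      refine ⟨fun h => by linarith [(h1 k).1 h], fun h => absurd (h.symm.trans hj) (by decide)⟩
    · rw [RootCh.coroot'_fundWeight_of_ne b j k hk, add_zero]
      exact h1 k
  simpa using Submodule.sub_mem _ (Submodule.subset_span (R := R) h2) (Submodule.subset_span h1)

end Groth.Agent.S14229
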