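import Groth.Statements.S1423
import Groth.Agent.L20.Weight.Constructible

set_option autoImplicit false
universe u
open FlatMor

set_option linter.style.haveILetI false
set_option backward.isDefEq.respectTransparency.types false

namespace Groth.Agent.S1423

open AlgebraicGeometry CategoryTheory Limits in
/-- Let f be locally quasi-finite and w a weighting of f. Then every level set of w is locally
constructible in X. -/
theorem result {X Y : Scheme.{u}} (f : X ⟶ Y) [LocallyQuasiFinite f] [LocallyOfFiniteType f] (w : ↑X → ℤ) (hw : MoreMor.IsWeighting f w) (n : ℤ) :
    Topology.IsLocallyConstructible {x : ↑X | w x = n} := by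
  intro x
  obtain ⟨O, hO, hxO, -⟩ := exists_isAffineOpen_mem_and_subset (x := x) (U := (⊤ : X.Opens)) trivial
  exact ⟨O, O.2.mem_nhds hxO, O.2, (Groth.L20.Weight.finite_range_and_constructible f hw hO).2 n⟩

end Groth.Agent.S1423
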