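import Groth.Statements.S14230
import Groth.Agent.L24.RootCh.Solid

set_option autoImplicit false
universe u v w x
open RootCh RootCh.Facet

namespace Groth.Agent.S14230

/-- For a finite reduced crystallographic root system over a linearly ordered field and a facet F, the
vectors of F are exactly the linear combinations of the corners of F in which every corner of F
occurs with a strictly positive coefficient (written with a finitely supported coefficient function
supported inside the set of corners). -/
theorem result {ι : Type u} {R : Type v} {M : Type w} {N : Type x}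
    [Field R] [LinearOrder R] [IsStrictOrderedRing R]
    [AddCommGroup M] [Module R M] [AddCommGroup N] [Module R N] [Finite ι]
    (P : RootPairing ι R M N) [P.IsRootSystem] [P.IsCrystallographic] [P.IsReduced] (F : RootCh.Facet P) :
    F.carrier = {ξ : M | ∃ c : M →₀ R, (c.support : Set M) ⊆ F.corners ∧
      (∀ m ∈ F.corners, 0 < c m) ∧ c.sum (fun m r => r • m) = ξ} := by
  haveI : Fintype ι := Fintype.ofFinite ι
  classical
  obtain ⟨b, hb⟩ := L24.RootCh.cham_nonempty F
  have hinj := L24.RootCh.fundWeight_injective b
  have hsum : ∀ c : M →₀ R, c.sum (fun m r => r • m) = Finsupp.linearCombination R (fun m : M => m) c :=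
    fun c => (Finsupp.linearCombination_apply R c).symm
  ext ξ
  simp only [Set.mem_ofPred_eq, hsum]
  rw [L24.RootCh.mem_carrier_iff hb]
  constructor
  · intro h
    have hval : ∀ k : b.support,
        (∑ j : b.support, Finsupp.single (RootCh.fundWeight b j) (P.coroot' j ξ)) (RootCh.fundWeight b k) =
          P.coroot' k ξ := fun k => by
      rw [Finsupp.finsetSum_apply, Finset.sum_eq_single k]
      · rw [Finsupp.single_eq_same]
      · intro j _ hj
        rw [Finsupp.single_eq_of_ne (hinj.ne hj.symm)]
      · simp
    refine ⟨∑ j : b.support, Finsupp.single (RootCh.fundWeight b j) (P.coroot' j ξ), ?_, ?_, ?_⟩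
    · intro m hm
      obtain ⟨j, -, hj⟩ := Finset.mem_biUnion.1 (Finsupp.support_finsetSum hm)
      rw [Finsupp.support_single_ne_zero _ (fun h0 => by simp [h0] at hj), Finset.mem_singleton] at hj
      rw [L24.RootCh.corners_eq hb]
      refine ⟨j, (L24.RootCh.sgn_simple hb j).resolve_left fun h0 => ?_, hj.symm⟩
      rw [Finset.mem_coe, Finsupp.mem_support_iff, hj, hval] at hm
      exact hm ((h j).2 h0)
    · rw [L24.RootCh.corners_eq hb]
      rintro _ ⟨k, hk, rfl⟩
      rw [hval]
      exact (h k).1 hk
    · simp only [map_sum, Finsupp.linearCombination_single]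
      exact (L24.RootCh.eq_sum_fundWeight b ξ).symm
  · rintro ⟨c, hc, hpos, rfl⟩ k
    rw [L24.RootCh.corners_eq hb] at hc hpos
    rw [Finsupp.linearCombination_apply, Finsupp.sum, map_sum]
    constructor
    · intro hk
      rw [Finset.sum_eq_single (RootCh.fundWeight b k)]
      · rw [map_smul, RootCh.coroot'_fundWeight_self, smul_eq_mul, mul_one]
        exact hpos _ ⟨k, hk, rfl⟩
      · intro m hm hmk
        obtain ⟨j, -, rfl⟩ := hc hm
        rw [map_smul, RootCh.coroot'_fundWeight_of_ne b j k (fun h => hmk (by rw [h])), smul_zero]
      · intro h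
        rw [Finsupp.notMem_support_iff.1 h, zero_smul, map_zero]
    · intro hk
      refine Finset.sum_eq_zero fun m hm => ?_
      obtain ⟨j, hj, rfl⟩ := hc hm
      rw [map_smul, RootCh.coroot'_fundWeight_of_ne b j k
        (fun h => absurd (hk.symm.trans (h ▸ hj)) (by decide)), smul_zero]

end Groth.Agent.S14230
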