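import Groth.Statements.S1424
import Groth.Agent.L20.Weight.IntegralCons
import Groth.Agent.S1419

set_option autoImplicit false
universe u
open FlatMor

set_option linter.style.haveILetI false
set_option backward.isDefEq.respectTransparency.types false

namespace Groth.Agent.S1424

open AlgebraicGeometry CategoryTheory Limits in
/-- Let f be locally quasi-finite and of finite presentation and w a weighting of f. Then every level
set of the fibre integral of w along f is locally constructible in Y. -/
theorem result {X Y : Scheme.{u}} (f : X ⟶ Y) [LocallyQuasiFinite f] [LocallyOfFinitePresentation f] [QuasiCompact f] [QuasiSeparated f]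
    (w : ↑X → ℤ) (hw : MoreMor.IsWeighting f w) (n : ℤ) :
    Topology.IsLocallyConstructible {y : ↑Y | MoreMor.fibreIntegral f w y = n} := by
  intro y
  obtain ⟨W, hW, hyW, -⟩ := exists_isAffineOpen_mem_and_subset (U := ⊤) (Set.mem_univ y)
  refine ⟨W, W.2.mem_nhds hyW, W.2, ?_⟩
  haveI : IsAffine W.toScheme := hW
  have hc : IsPullback (f ⁻¹ᵁ W).ι (f ∣_ W) f W.ι := (isPullback_morphismRestrict f W).flip
  haveI : LocallyQuasiFinite (f ∣_ W) := MorphismProperty.of_isPullback (P := @LocallyQuasiFinite) hc inferInstance
  haveI : LocallyOfFinitePresentation (f ∣_ W) := MorphismProperty.of_isPullback (P := @LocallyOfFinitePresentation) hc inferInstance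
  have hw' : MoreMor.IsWeighting (f ∣_ W) (fun u => w ((f ⁻¹ᵁ W).ι u)) := Groth.Agent.S1419.result f w hw _ _ _ hc
  have h := Groth.L20.Weight.isConstructible_integral_level (f ∣_ W) hw' n
  have heq : {v : W.toScheme | MoreMor.fibreIntegral (f ∣_ W) (fun u => w ((f ⁻¹ᵁ W).ι u)) v = n} =
      (Subtype.val : W → Y) ⁻¹' {y | MoreMor.fibreIntegral f w y = n} := by
    ext v
    simp only [Set.mem_setOf_eq, Set.mem_preimage]
    rw [Groth.L20.Weight.fibreIntegral_baseChange f (f ∣_ W) _ _ hc w v (f.finite_preimage_singleton _)]
    rfl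
  rw [heq] at h
  exact h

end Groth.Agent.S1424
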