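import Groth.Statements.S1425
import Groth.Agent.L20.Weight.Props

set_option autoImplicit false
universe u
open FlatMor

set_option linter.style.haveILetI false
set_option backward.isDefEq.respectTransparency.types false

namespace Groth.Agent.S1425

open AlgebraicGeometry CategoryTheory Limits in
/-- A weighting of a locally quasi-finite morphism taking positive values is upper semicontinuous on X. -/
theorem result {X Y : Scheme.{u}} (f : X ⟶ Y) [LocallyQuasiFinite f] [LocallyOfFiniteType f] (w : ↑X → ℤ) (hw : MoreMor.IsWeighting f w) (hpos : ∀ x, 0 < w x) :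
    UpperSemicontinuous w := by
  intro x c hc
  obtain ⟨Ω, _, _, V, _, g, _, ω, φ, P, hφ, -⟩ := Groth.L20.Weight.exists_piece_at f x ⊤ trivial
  obtain ⟨N, hN, hN'⟩ := P.exists_nbhd hw
  obtain ⟨u₀, hu₀, hu₁, hu₂⟩ := P.exists_point
  refine Filter.mem_of_superset (((pullback.fst f g).isOpenMap _ (P.U ⊓ pullback.snd f g ⁻¹ᵁ N).2).mem_nhds (x := x) ⟨u₀, ⟨hu₀, ?_⟩, hu₂.trans hφ⟩) ?_
  · show pullback.snd f g u₀ ∈ N
    rw [hu₁]; exact hN
  rintro _ ⟨u, ⟨huU, huN⟩, rfl⟩
  have : IsFinite (P.U.ι ≫ pullback.snd f g) := P.finite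
  obtain ⟨Ω', _, _, ωv, hωv⟩ := Groth.L20.Weight.exists_geomPoint (pullback.snd f g u)
  obtain ⟨ψ, hψ, hψu⟩ := Groth.L20.Weight.exists_mem_liftsIn (pullback.snd f g) P.U ωv hωv.symm huU
  have h1 := hN' _ huN
  rw [Groth.L20.Weight.fibreIntegral_open (pullback.snd f g) P.U (fun z => w (pullback.fst f g z)) ωv hωv, hφ] at h1
  have h2 := Groth.L20.Weight.le_finsum_mem (Groth.L20.Weight.finite_liftsIn (pullback.snd f g) P.U ωv)
    (fun ψ => w (pullback.fst f g (Groth.L20.Weight.pt ψ.1))) (fun _ => hpos _) hψ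
  show w (pullback.fst f g u) < c
  rw [hψu] at h2
  omega

end Groth.Agent.S1425
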