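import Groth.Statements.S14253
import Groth.Agent.L09.PerfMor

set_option autoImplicit false
universe u
open CategoryTheory AlgebraicGeometry
open PerfSch

namespace Groth.Agent.S14253

/-- A universal homeomorphism f : X ⟶ Y between perfect schemes of prime characteristic p (on every open
of X and of Y, p = 0 in the ring of sections and the p-th power map is bijective) is an isomorphism. -/
theorem result (p : ℕ) [Fact p.Prime] {X Y : Scheme.{u}} (f : X ⟶ Y)
    (hX : PerfSch.IsPerfect p X) (hY : PerfSch.IsPerfect p Y) (hf : FlatMor.IsUnivHomeo f) : IsIso f := by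
  open Groth.L28.AWN Groth.L09.Perf in
  have hred : AlgebraicGeometry.IsReduced X := ⟨fun U => (isReduced_iff_pow_one_lt p (Fact.out : p.Prime).one_lt).mpr
    fun s hs => (hX U).2.1 (hs.trans (zero_pow (Fact.out : p.Prime).ne_zero).symm)⟩
  refine isIso_of_rings hf fun U C _ _ ψ e _ hψ => ?_
  rcases subsingleton_or_nontrivial Γ(Y, U) with hT | hT
  · have : Subsingleton C := subsingleton_of_zero_eq_one (by rw [← map_zero ψ, ← map_one ψ, Subsingleton.elim (0 : Γ(Y, U)) 1])
    exact ⟨fun _ _ _ => Subsingleton.elim _ _, fun c => ⟨0, Subsingleton.elim _ _⟩⟩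
  · have := charP_of_natCast_eq_zero p Γ(Y, U) (hY U).1
    have : PerfectRing Γ(Y, U) p := ⟨(hY U).2⟩
    exact hψ.bijective_of_isAWNRing (isAWNRing_of_perfect p)

end Groth.Agent.S14253
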