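import Groth.Statements.S14254
import Groth.Agent.L28.AWN.Key
import Groth.Agent.L28.AWN.Elem
import Groth.Agent.S0416
import Mathlib.FieldTheory.IsPerfectClosure

set_option autoImplicit false
universe u
open CategoryTheory AlgebraicGeometry
open FrobAlg

namespace Groth.Agent.S14254

/-- Let p be a prime, φ : A → B a map of commutative rings of characteristic p, i : A → A' and j : B →
B' perfect closures (A' and B' are perfect rings of characteristic p, every element of A' resp. B'
has a p^n-th power in the image of i resp. j, and the kernels of i and j consist of nilpotent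
elements), and φ' : A' → B' the induced map, φ' ∘ i = j ∘ φ. Then Spec φ : Spec B ⟶ Spec A is a
universal homeomorphism if and only if φ' is bijective. (The published statement is for an arbitrary
morphism of schemes over the prime field and its perfection; this row is the case of affine schemes,
the perfection of Spec A being Spec of the perfect closure of A.) -/
theorem result (p : ℕ) [Fact p.Prime]
    {A B A' B' : Type u} [CommRing A] [CommRing B] [CommRing A'] [CommRing B']
    [CharP A p] [CharP B p] [CharP A' p] [CharP B' p] [PerfectRing A' p] [PerfectRing B' p]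
    (φ : A →+* B) (i : A →+* A') (j : B →+* B') [IsPerfectClosure i p] [IsPerfectClosure j p]
    (φ' : A' →+* B') (hφ : φ'.comp i = j.comp φ) :
    FlatMor.IsUnivHomeo (Spec.map (CommRingCat.ofHom φ)) ↔ Function.Bijective φ' := by
  have key : ∀ {R S : Type u} [CommRing R] [CommRing S] [CharP R p] [CharP S p] (ψ : R →+* S)
      [IsPRadical ψ p], FlatMor.IsUnivHomeo (Spec.map (CommRingCat.ofHom ψ)) := by
    intro R S _ _ _ _ ψ _
    rw [Groth.L28.AWN.isUnivHomeo_iff_isUH]
    refine ⟨fun x => ?_, fun K _ f g hfg => RingHom.ext fun x => ?_, fun a ha => ?_⟩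
    · obtain ⟨n, y, hy⟩ := IsPRadical.pow_mem ψ p x
      letI := ψ.toAlgebra
      exact IsIntegral.of_pow (pow_pos (Fact.out : p.Prime).pos n) (hy ▸ isIntegral_algebraMap)
    · obtain ⟨n, y, hy⟩ := IsPRadical.pow_mem ψ p x
      have h0 : (p : K) = 0 := by rw [← map_natCast f, CharP.cast_eq_zero S p, map_zero]
      haveI : CharP K p := (CharP.charP_iff_prime_eq_zero (Fact.out : p.Prime)).2 h0
      haveI : ExpChar K p := ExpChar.prime Fact.out
      refine iterateFrobenius_inj K p n ?_
      rw [iterateFrobenius_def, iterateFrobenius_def, ← map_pow, ← map_pow, ← hy]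
      exact RingHom.congr_fun hfg y
    · exact pNilradical_le_nilradical (IsPRadical.ker_le ψ p ha)
  have hi := key i
  have hj := key j
  have hcomp : Spec.map (CommRingCat.ofHom j) ≫ Spec.map (CommRingCat.ofHom φ) =
      Spec.map (CommRingCat.ofHom φ') ≫ Spec.map (CommRingCat.ofHom i) := by
    rw [← Spec.map_comp, ← Spec.map_comp, ← CommRingCat.ofHom_comp, ← CommRingCat.ofHom_comp, hφ]
  have hcompMP : ∀ {X Y Z : Scheme.{u}} (a : X ⟶ Y) (b : Y ⟶ Z), FlatMor.IsUnivHomeo a →
      FlatMor.IsUnivHomeo b → FlatMor.IsUnivHomeo (a ≫ b) := fun a b ha hb => by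
    rw [Groth.L20.isUnivHomeo_iff] at ha hb ⊢
    haveI := ha.1
    haveI := ha.2.1
    haveI := ha.2.2
    haveI := hb.1
    haveI := hb.2.1
    haveI := hb.2.2
    exact ⟨inferInstance, MorphismProperty.comp_mem (W := @UniversallyInjective) a b ha.2.1 hb.2.1, inferInstance⟩
  constructor
  · intro h
    have h1 := hcompMP _ _ hj h
    rw [hcomp] at h1
    have h2 := (Groth.Agent.S0416.result _ _).2 h1 hi
    rw [Groth.L28.AWN.isUnivHomeo_iff_isUH] at h2
    haveI : _root_.IsReduced B' := (isReduced_iff_pow_one_lt p (Fact.out : p.Prime).one_lt).mpr fun x hx =>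
      (PerfectRing.bijective_frobenius (R := B') (p := p)).1 (show frobenius B' p x = frobenius B' p 0 by rw [frobenius_def, frobenius_def, hx, zero_pow (Fact.out : p.Prime).ne_zero])
    exact h2.bijective_of_isAWNRing (Groth.L28.AWN.isAWNRing_of_perfect p)
  · intro h
    let e : CommRingCat.of A' ≅ CommRingCat.of B' := (RingEquiv.ofBijective φ' h).toCommRingCatIso
    have he : e.hom = CommRingCat.ofHom φ' := rfl
    haveI : IsIso (Spec.map (CommRingCat.ofHom φ')) := by rw [← he]; infer_instance
    have h2 : FlatMor.IsUnivHomeo (Spec.map (CommRingCat.ofHom φ')) := by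
      rw [Groth.L20.isUnivHomeo_iff]; exact ⟨inferInstance, inferInstance, inferInstance⟩
    have h1 := hcompMP _ _ h2 hi
    rw [← hcomp] at h1
    exact (Groth.Agent.S0416.result _ _).1 h1 hj
end Groth.Agent.S14254
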