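import Groth.Statements.S14255
import Groth.Agent.L16.PerfFlat.Basic

set_option autoImplicit false
universe u
open FrobAlg

namespace Groth.Agent.S14255

/-- Let p be a prime, φ : A → B a flat map of commutative rings of characteristic p, i : A → A' and j :
B → B' perfect closures (A', B' perfect rings of characteristic p, every element of A' resp. B' has
a p^n-th power in the image of i resp. j, the kernels of i and j consist of nilpotent elements), and
φ' : A' → B' the induced map, φ' ∘ i = j ∘ φ. Then φ' is flat. (The published statement is that the
perfection of a flat morphism of schemes over the prime field is flat; this row is its affine case,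
to which the published proof reduces.) -/
theorem result (p : ℕ) [Fact p.Prime]
    {A B A' B' : Type u} [CommRing A] [CommRing B] [CommRing A'] [CommRing B']
    [CharP A p] [CharP B p] [CharP A' p] [CharP B' p] [PerfectRing A' p] [PerfectRing B' p]
    (φ : A →+* B) (hflat : φ.Flat) (i : A →+* A') (j : B →+* B') [IsPerfectClosure i p] [IsPerfectClosure j p]
    (φ' : A' →+* B') (hφ : φ'.comp i = j.comp φ) : φ'.Flat := Groth.L16.PerfFlat.flat p φ i j φ' hφ hflat
end Groth.Agent.S14255
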