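import Mathlib.FieldTheory.IsPerfectClosure
import Mathlib.RingTheory.IntegralClosure.IsIntegralClosure.Basic

set_option autoImplicit false
set_option linter.style.haveILetI false
namespace FrobAlg
end FrobAlg
universe u
open FrobAlg

namespace Groth.Agent.S14256

/-- Let p be a prime, φ : A → B a map of commutative rings of characteristic p, i : A → A' and j : B →
B' perfect closures (A', B' perfect rings of characteristic p, every element of A' resp. B' has a
p^n-th power in the image of i resp. j, the kernels of i and j consist of nilpotent elements), and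
φ' : A' → B' the induced map, φ' ∘ i = j ∘ φ. Then φ is integral if and only if φ' is integral. (The
published statement is that a morphism of schemes over the prime field is integral exactly when its
perfection is; this row is its affine case, to which the published proof reduces.) -/
theorem result (p : ℕ) [Fact p.Prime]
    {A B A' B' : Type u} [CommRing A] [CommRing B] [CommRing A'] [CommRing B']
    [CharP A p] [CharP B p] [CharP A' p] [CharP B' p] [PerfectRing A' p] [PerfectRing B' p]
    (φ : A →+* B) (i : A →+* A') (j : B →+* B') [IsPerfectClosure i p] [IsPerfectClosure j p]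
    (φ' : A' →+* B') (hφ : φ'.comp i = j.comp φ) : φ.IsIntegral ↔ φ'.IsIntegral := by
  have hp : p.Prime := Fact.out
  have hc : ∀ a, φ' (i a) = j (φ a) := fun a => RingHom.congr_fun hφ a
  constructor
  · intro h b'
    obtain ⟨n, b, hb⟩ := IsPRadical.pow_mem j p b'
    obtain ⟨P, hP, hPb⟩ := h b
    letI := φ'.toAlgebra
    refine IsIntegral.of_pow (R := A') (n := p ^ n) (pow_pos hp.pos n) ⟨P.map i, hP.map i, ?_⟩
    show Polynomial.eval₂ φ' (b' ^ p ^ n) (P.map i) = 0
    rw [Polynomial.eval₂_map, hφ, ← hb, ← Polynomial.hom_eval₂, hPb, map_zero]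
  · intro h b
    classical
    obtain ⟨Q, hQ, hQb⟩ := h (j b)
    choose n a ha using fun k => IsPRadical.pow_mem i p (Q.coeff k)
    let d := Q.natDegree
    let N := (Finset.range d).sup n
    let e : ℕ → A := fun k => a k ^ p ^ (N - n k)
    have he : ∀ k < d, i (e k) = Q.coeff k ^ p ^ N := fun k hk => by
      rw [map_pow, ha, ← pow_mul, ← pow_add,
        Nat.add_sub_cancel' (Finset.le_sup (f := n) (Finset.mem_range.2 hk))]
    let R : Polynomial A :=
      Polynomial.X ^ d + ∑ k ∈ Finset.range d, Polynomial.C (e k) * Polynomial.X ^ k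
    have hR : R.Monic := by
      refine Polynomial.monic_X_pow_add ?_
      refine lt_of_le_of_lt (Polynomial.degree_sum_le _ _) ?_
      refine (Finset.sup_lt_iff (WithBot.bot_lt_coe d)).2 ?_
      intro k hk
      exact lt_of_le_of_lt (Polynomial.degree_C_mul_X_pow_le k (e k))
        (WithBot.coe_lt_coe.2 (Finset.mem_range.1 hk))
    have hQb' : (j b) ^ d + ∑ k ∈ Finset.range d, φ' (Q.coeff k) * (j b) ^ k = 0 := by
      rw [Polynomial.eval₂_eq_sum_range, Finset.sum_range_succ, hQ.coeff_natDegree, map_one,
        one_mul] at hQb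
      rw [add_comm]; exact hQb
    have hj : j (Polynomial.eval₂ φ (b ^ p ^ N) R) = 0 := by
      have hz : ((j b) ^ d + ∑ k ∈ Finset.range d, φ' (Q.coeff k) * (j b) ^ k) ^ p ^ N = 0 := by
        rw [hQb', zero_pow (pow_pos hp.pos N).ne']
      rw [add_pow_char_pow, sum_pow_char_pow] at hz
      simp only [R, Polynomial.eval₂_add, Polynomial.eval₂_pow, Polynomial.eval₂_X,
        Polynomial.eval₂_finsetSum, Polynomial.eval₂_mul, Polynomial.eval₂_C, map_add, map_sum,
        map_mul, map_pow]
      refine Eq.trans ?_ hz
      congr 1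
      · rw [← pow_mul, ← pow_mul, mul_comm]
      · refine Finset.sum_congr rfl fun k hk => ?_
        rw [← hc, he k (Finset.mem_range.1 hk), map_pow, mul_pow, ← pow_mul, ← pow_mul,
          mul_comm k (p ^ N)]
    have hker : Polynomial.eval₂ φ (b ^ p ^ N) R ∈ RingHom.ker j := hj
    obtain ⟨m, hm⟩ := mem_pNilradical.1 (IsPRadical.ker_le j p hker)
    letI := φ.toAlgebra
    refine IsIntegral.of_pow (R := A) (n := p ^ N) (pow_pos hp.pos N) ⟨R ^ p ^ m, hR.pow _, ?_⟩
    show Polynomial.eval₂ φ (b ^ p ^ N) (R ^ p ^ m) = 0
    rw [Polynomial.eval₂_pow, hm]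

end Groth.Agent.S14256
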