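import Groth.Statements.S14257
import Groth.Agent.L15.Frob.EtaleIff
import Mathlib.RingTheory.Etale.Basic
import Mathlib.FieldTheory.IsPerfectClosure

set_option autoImplicit false
universe u
open TensorProduct
open FrobAlg

namespace Groth.Agent.S14257

/-- Let p be a prime, A a commutative ring of characteristic p, B an etale A-algebra of characteristic
p, A → A' and B → B' perfect closures (A', B' perfect rings of characteristic p, every element of A'
resp. B' has a p^n-th power in the image of A resp. B, and the structure maps have kernels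
consisting of nilpotent elements), B' viewed as an A-algebra through B, and φ' : A' → B' a map of
A-algebras. Then the natural map A' ⊗_A B → B', a ⊗ b ↦ φ'(a) b, is bijective. (The published
statement is for an etale morphism X → Y of schemes over the prime field, where X_perf → X ×_Y
Y_perf is an isomorphism; this row is the affine case.) -/
theorem result (p : ℕ) [Fact p.Prime]
    (A B A' B' : Type u) [CommRing A] [CommRing B] [CommRing A'] [CommRing B']
    [CharP A p] [CharP B p] [CharP A' p] [CharP B' p] [PerfectRing A' p] [PerfectRing B' p]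
    [Algebra A B] [Algebra.Etale A B] [Algebra A A'] [Algebra B B'] [Algebra A B'] [IsScalarTower A B B']
    [IsPerfectClosure (algebraMap A A') p] [IsPerfectClosure (algebraMap B B') p]
    (φ' : A' →ₐ[A] B') :
    Function.Bijective (Algebra.TensorProduct.lift φ' (IsScalarTower.toAlgHom A B B')
      (fun a b => Commute.all (φ' a) (IsScalarTower.toAlgHom A B B' b))) := by
  have hp : p.Prime := Fact.out
  set Φ := Algebra.TensorProduct.lift φ' (IsScalarTower.toAlgHom A B B')
      (fun a b => Commute.all (φ' a) (IsScalarTower.toAlgHom A B B' b)) with hΦ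
  haveI : Nontrivial (A' ⊗[A] B) := by
    haveI : Nontrivial B' := CharP.nontrivial_of_char_ne_one (R := B') (v := p) hp.ne_one
    exact Φ.toRingHom.domain_nontrivial
  haveI : CharP (A' ⊗[A] B) p := by
    refine (CharP.charP_iff_prime_eq_zero hp).2 ?_
    rw [← map_natCast (algebraMap A' (A' ⊗[A] B)), CharP.cast_eq_zero, map_zero]
  have hrel := Groth.L15.Frob.bijective_relFrob p A' (A' ⊗[A] B)
  have hroot : ∀ a : A', (frobeniusEquiv A' p).symm a ^ p = a := fun a => frobeniusEquiv_symm_pow_p A' p a
  -- the Frobenius of the base change is surjective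
  have hs : Function.Surjective (frobenius (A' ⊗[A] B) p) := by
    intro z
    obtain ⟨x, rfl⟩ := hrel.2 z
    refine RingHom.mem_range.1 ?_
    induction x using TensorProduct.induction_on with
    | zero => rw [map_zero]; exact zero_mem _
    | add x y hx hy => rw [map_add]; exact add_mem hx hy
    | tmul t a =>
      refine RingHom.mem_range.2 ⟨t * algebraMap A' _ ((frobeniusEquiv A' p).symm ((toTwist p A').symm a)), ?_⟩
      rw [Groth.L15.Frob.relFrob_tmul, frobenius_def, mul_pow, ← map_pow, hroot]
  -- and injective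
  have hi : Function.Injective (frobenius (A' ⊗[A] B) p) := by
    refine (injective_iff_map_eq_zero _).2 fun x hx => ?_
    have h0 : relFrob p A' (A' ⊗[A] B) (x ⊗ₜ 1) = 0 := by
      rw [Groth.L15.Frob.relFrob_tmul, map_one, map_one, mul_one]
      exact hx
    have h1 : x ⊗ₜ[A'] (1 : Twist p A') = 0 := hrel.1 (by rw [h0, map_zero])
    let g : Twist p A' →ₐ[A'] (A' ⊗[A] B) :=
      { toRingHom := (algebraMap A' (A' ⊗[A] B)).comp
          (((frobeniusEquiv A' p).symm : A' →+* A').comp ((toTwist p A').symm : Twist p A' →+* A'))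
        commutes' := fun a => by
          change algebraMap A' _ ((frobeniusEquiv A' p).symm ((toTwist p A').symm (algebraMap A' (Twist p A') a))) = _
          rw [algebraMap_twist, RingEquiv.symm_apply_apply, show a ^ p = frobeniusEquiv A' p a by rw [frobeniusEquiv_apply, frobenius_def],
            RingEquiv.symm_apply_apply] }
    have h2 := congrArg (Algebra.TensorProduct.lift (AlgHom.id A' (A' ⊗[A] B)) g fun _ _ => Commute.all _ _) h1
    rwa [map_zero, Algebra.TensorProduct.lift_tmul, map_one, mul_one, AlgHom.id_apply] at h2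
  -- every element has a p-power in the image of B
  have hpow : ∀ z : A' ⊗[A] B, ∃ (n : ℕ) (b : B), z ^ p ^ n = 1 ⊗ₜ b := by
    intro z
    induction z using TensorProduct.induction_on with
    | zero => exact ⟨0, 0, by rw [pow_zero, pow_one, TensorProduct.tmul_zero]⟩
    | add x y hx hy =>
      obtain ⟨n, b, hb⟩ := hx
      obtain ⟨m, c, hc⟩ := hy
      refine ⟨n + m, b ^ p ^ m + c ^ p ^ n, ?_⟩
      rw [add_pow_char_pow, TensorProduct.tmul_add, pow_add, pow_mul, hb, mul_comm, pow_mul, hc]
      simp [Algebra.TensorProduct.tmul_pow]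
    | tmul a b =>
      obtain ⟨n, y, hy⟩ := IsPRadical.pow_mem (algebraMap A A') p a
      refine ⟨n, y • b ^ p ^ n, ?_⟩
      rw [Algebra.TensorProduct.tmul_pow, ← hy, Algebra.algebraMap_eq_smul_one, TensorProduct.smul_tmul]
  have hΦ1 : ∀ b : B, Φ (1 ⊗ₜ b) = algebraMap B B' b := fun b => by
    rw [hΦ, Algebra.TensorProduct.lift_tmul, map_one, one_mul, IsScalarTower.toAlgHom_apply]
  haveI : PerfectRing (A' ⊗[A] B) p := ⟨⟨hi, hs⟩⟩
  refine ⟨(injective_iff_map_eq_zero _).2 fun z hz => ?_, fun y => ?_⟩
  · obtain ⟨n, b, hb⟩ := hpow z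
    have h0 : algebraMap B B' b = 0 := by
      rw [← hΦ1, ← hb, map_pow, hz, zero_pow (pow_ne_zero _ hp.ne_zero)]
    obtain ⟨m, hm⟩ := mem_pNilradical.1 (IsPRadical.ker_le (algebraMap B B') p (RingHom.mem_ker.2 h0))
    have h2 : z ^ p ^ (n + m) = 0 := by
      rw [pow_add, pow_mul, hb, Algebra.TensorProduct.tmul_pow, hm, TensorProduct.tmul_zero]
    refine (bijective_iterateFrobenius (A' ⊗[A] B) p (n + m)).1 ?_
    rw [iterateFrobenius_def, h2, map_zero]
  · obtain ⟨n, b, hb⟩ := IsPRadical.pow_mem (algebraMap B B') p y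
    obtain ⟨t, ht⟩ := (bijective_iterateFrobenius (A' ⊗[A] B) p n).2 (1 ⊗ₜ b)
    refine ⟨t, (bijective_iterateFrobenius B' p n).1 ?_⟩
    rw [iterateFrobenius_def] at ht
    rw [iterateFrobenius_def, iterateFrobenius_def, ← map_pow, ← hb, ← hΦ1, ht]

end Groth.Agent.S14257
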