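import Groth.Statements.S14258
import Groth.Agent.L28.VTop.Squares

set_option autoImplicit false
universe u
open HTop

namespace Groth.Agent.S14258

open CategoryTheory CategoryTheory.Limits AlgebraicGeometry Opposite in
/-- Let S be a scheme and F a sheaf of sets on the big h site of S. Let Y be an affine scheme over S, f
: X ⟶ Y a proper surjective morphism of finite presentation over S which is an isomorphism over the
open complement U of a closed subscheme i : Z ⟶ Y of finite presentation, and E = X ×_Y Z with its
projections e : E ⟶ X and π : E ⟶ Z. Then the square of sets of sections F(Y) → F(X), F(Z) → F(E) is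
cartesian: a section over Z and a section over X with the same restriction to E come from exactly
one section over Y. (The published statement is for quasi-compact quasi-separated schemes of finite
presentation over a quasi-compact quasi-separated S and sheaves on those; this row works on all
S-schemes; with Y affine and f proper the four schemes are quasi-compact and quasi-separated.) -/
theorem result (S : Scheme.{u}) (F : HTop.ShH S)
    {E Z X Y : Over S} (e : E ⟶ X) (π : E ⟶ Z) (f : X ⟶ Y) (i : Z ⟶ Y) [IsAffine Y.left]
    [IsProper f.left] [Surjective f.left] [LocallyOfFinitePresentation f.left]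
    [IsClosedImmersion i.left] [LocallyOfFinitePresentation i.left]
    (hsq : IsPullback e.left π.left f.left i.left)
    (U : Y.left.Opens) (hU : (U : Set Y.left) = (Set.range i.left.base)ᶜ) (hiso : IsIso (f.left ∣_ U))
    (t : F.obj.obj (op Z)) (s' : F.obj.obj (op X)) (hts : F.obj.map π.op t = F.obj.map e.op s') :
    ∃! s : F.obj.obj (op Y), F.obj.map i.op s = t ∧ F.obj.map f.op s = s' := by
  refine Groth.L28.VTop.existsUnique_square (HTop.Jh S) ((isSheaf_iff_isSheaf_of_type _ _).1 F.property)
    @LocallyOfFinitePresentation (fun W A B a b ha hb ha' hb' hs R hRa hRb =>
      haveI := ha; haveI := hb; haveI := ha'; haveI := hb'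
      Groth.L28.VTop.mem_Jh_pair a b hs R hRa hRb)
    hsq ‹LocallyOfFinitePresentation i.left› ‹LocallyOfFinitePresentation f.left›
    (Groth.L28.VTop.lfp_diagonal f.left) U (fun y hy => ?_) hiso t s' hts
  by_contra h
  exact hy (by rw [← SetLike.mem_coe, hU]; exact h)

end Groth.Agent.S14258
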