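import Groth.Statements.S14261
import Groth.Agent.L09.PerfBasic
import Mathlib.CategoryTheory.Presentable.Finite
import Mathlib.RingTheory.MvPolynomial.Basic

set_option autoImplicit false
universe u
open CategoryTheory
open FrobAlg

namespace Groth.Agent.S14261

open CategoryTheory CategoryTheory.Limits

variable (p : ℕ) (B : CommRingCat.{u})

/-- The category of perfect algebras. -/
abbrev PCat := ObjectProperty.FullSubcategory fun Y : Under B =>
  (p : Y.right) = 0 ∧ Function.Bijective fun y : Y.right => y ^ p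

variable {p B}

/-- The underlying ring map. -/
abbrev uh {X Y : PCat p B} (f : X ⟶ Y) : X.obj.right →+* Y.obj.right := f.hom.right.hom

lemma uh_w {X Y : PCat p B} (f : X ⟶ Y) (b : B) : uh f (X.obj.hom.hom b) = Y.obj.hom.hom b :=
  congrArg (fun g => g.hom b) (Under.w f.hom)

lemma uh_ext {X Y : PCat p B} {f g : X ⟶ Y} (h : ∀ x, uh f x = uh g x) : f = g :=
  ObjectProperty.hom_ext _ (CommaMorphism.ext (Subsingleton.elim _ _) (CommRingCat.hom_ext (RingHom.ext h)))

/-- A morphism from a compatible ring map. -/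
def mkHom {X Y : PCat p B} (g : X.obj.right →+* Y.obj.right)
    (w : ∀ b, g (X.obj.hom.hom b) = Y.obj.hom.hom b) : X ⟶ Y :=
  ObjectProperty.homMk (Under.homMk (CommRingCat.ofHom g) (CommRingCat.hom_ext (RingHom.ext w)))

lemma uh_mkHom {X Y : PCat p B} (g : X.obj.right →+* Y.obj.right)
    (w : ∀ b, g (X.obj.hom.hom b) = Y.obj.hom.hom b) : uh (mkHom g w) = g := rfl

lemma uh_id (X : PCat p B) : uh (𝟙 X) = RingHom.id _ := rfl

lemma uh_comp {X Y Z : PCat p B} (f : X ⟶ Y) (g : Y ⟶ Z) : uh (f ≫ g) = (uh g).comp (uh f) := rfl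

/-- An object from a ring map. -/
def mkObj (S : Type u) [CommRing S] (g : B →+* S) (h0 : (p : S) = 0)
    (hb : Function.Bijective fun s : S => s ^ p) : PCat p B :=
  ⟨Under.mk (CommRingCat.ofHom g), h0, hb⟩

section
variable {S T U : Type u} [CommRing S] [CommRing T] [CommRing U] {gS : B →+* S} {gT : B →+* T} {gU : B →+* U}
  {hS0 : (p : S) = 0} {hSb : Function.Bijective fun s : S => s ^ p}
  {hT0 : (p : T) = 0} {hTb : Function.Bijective fun s : T => s ^ p}
  {hU0 : (p : U) = 0} {hUb : Function.Bijective fun s : U => s ^ p}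

/-- A morphism between objects given by ring maps. -/
def mkObjHom (g : S →+* T) (w : ∀ b, g (gS b) = gT b) : mkObj S gS hS0 hSb ⟶ mkObj T gT hT0 hTb :=
  mkHom (X := mkObj S gS hS0 hSb) (Y := mkObj T gT hT0 hTb) g w

/-- A morphism out of an object given by a ring map. -/
def mkObjTo (A : PCat p B) (g : S →+* A.obj.right) (w : ∀ b, g (gS b) = A.obj.hom.hom b) :
    mkObj S gS hS0 hSb ⟶ A :=
  mkHom (X := mkObj S gS hS0 hSb) g w

lemma mkObjHom_id (g : S →+* S) (w : ∀ b, g (gS b) = gS b) (h : ∀ x, g x = x) :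
    mkObjHom (hS0 := hS0) (hSb := hSb) (hT0 := hS0) (hTb := hSb) g w = 𝟙 _ := uh_ext fun x => h x

lemma mkObjHom_comp (g₁ : S →+* T) (w₁ : ∀ b, g₁ (gS b) = gT b) (g₂ : T →+* U) (w₂ : ∀ b, g₂ (gT b) = gU b)
    (g₃ : S →+* U) (w₃ : ∀ b, g₃ (gS b) = gU b) (h : ∀ x, g₃ x = g₂ (g₁ x)) :
    mkObjHom (hS0 := hS0) (hSb := hSb) (hT0 := hU0) (hTb := hUb) g₃ w₃ =
      mkObjHom (hS0 := hS0) (hSb := hSb) (hT0 := hT0) (hTb := hTb) g₁ w₁ ≫
        mkObjHom (hT0 := hU0) (hTb := hUb) g₂ w₂ := uh_ext fun x => h x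

lemma mkObjTo_comp (A : PCat p B) (g₁ : S →+* T) (w₁ : ∀ b, g₁ (gS b) = gT b) (g₂ : T →+* A.obj.right)
    (w₂ : ∀ b, g₂ (gT b) = A.obj.hom.hom b) (g₃ : S →+* A.obj.right) (w₃ : ∀ b, g₃ (gS b) = A.obj.hom.hom b)
    (h : ∀ x, g₃ x = g₂ (g₁ x)) :
    mkObjHom (hS0 := hS0) (hSb := hSb) (hT0 := hT0) (hTb := hTb) g₁ w₁ ≫ mkObjTo A g₂ w₂ =
      mkObjTo A g₃ w₃ := uh_ext fun x => (h x).symm

lemma uh_mkObjTo (A : PCat p B) (g : S →+* A.obj.right) (w : ∀ b, g (gS b) = A.obj.hom.hom b) (x : S) :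
    uh (mkObjTo (hS0 := hS0) (hSb := hSb) A g w) x = g x := rfl

lemma uh_mkObjHom (g : S →+* T) (w : ∀ b, g (gS b) = gT b) (x : S) :
    uh (mkObjHom (hS0 := hS0) (hSb := hSb) (hT0 := hT0) (hTb := hTb) g w) x = g x := rfl

end

theorem factor (A : PCat p B) [IsFinitelyPresentable.{u} A] {J : Type u} [SemilatticeSup J] [Nonempty J]
    (D : J ⥤ PCat p B) (π : ∀ j, D.obj j ⟶ A) (hπ : ∀ {i j : J} (h : i ⟶ j), D.map h ≫ π j = π i)
    (hsurj : ∀ a : A.obj.right, ∃ j x, uh (π j) x = a)
    (hinj : ∀ j x, uh (π j) x = 0 → ∃ (k : J) (h : j ⟶ k), uh (D.map h) x = 0) :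
    ∃ (j : J) (s : A ⟶ D.obj j), s ≫ π j = 𝟙 A := by
  classical
  let c : Cocone D := { pt := A, ι := { app := π, naturality := fun i j h => by simpa using hπ h } }
  have hπ' : ∀ {i j : J} (h : i ⟶ j) (x), uh (π j) (uh (D.map h) x) = uh (π i) x := fun h x => by
    conv_rhs => rw [← hπ h]
    rfl
  choose jj xx hxx using hsurj
  have well : ∀ (s : Cocone D) (i j : J) (x : (D.obj i).obj.right) (y : (D.obj j).obj.right),
      uh (π i) x = uh (π j) y → uh (s.ι.app i) x = uh (s.ι.app j) y := by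
    intro s i j x y hxy
    have hw : ∀ {a b : J} (h : a ⟶ b) (z), uh (s.ι.app b) (uh (D.map h) z) = uh (s.ι.app a) z :=
      fun h z => by
        conv_rhs => rw [← s.w h]
        rfl
    let h1 : i ⟶ i ⊔ j := homOfLE le_sup_left
    let h2 : j ⟶ i ⊔ j := homOfLE le_sup_right
    obtain ⟨k, h3, hk⟩ := hinj (i ⊔ j) (uh (D.map h1) x - uh (D.map h2) y)
      (by rw [map_sub, hπ', hπ', hxy, sub_self])
    have := congrArg (uh (s.ι.app k)) hk
    rw [map_zero, hw, map_sub, hw, hw, sub_eq_zero] at this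
    exact this
  have hc : IsColimit c :=
    { desc := fun s => mkHom
        { toFun := fun a => uh (s.ι.app (jj a)) (xx a)
          map_one' := (well s _ (jj 1) _ 1 (by rw [hxx, map_one])).trans (map_one _)
          map_zero' := (well s _ (jj 0) _ 0 (by rw [hxx, map_zero])).trans (map_zero _)
          map_mul' := fun a b => by
            let h1 : jj a ⟶ jj a ⊔ jj b := homOfLE le_sup_left
            let h2 : jj b ⟶ jj a ⊔ jj b := homOfLE le_sup_right
            rw [well s _ _ _ (uh (D.map h1) (xx a) * uh (D.map h2) (xx b))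
              (by rw [hxx, map_mul, hπ', hπ', hxx, hxx]), map_mul,
              well s _ _ (xx a) (uh (D.map h1) (xx a)) (hπ' _ _).symm,
              well s _ _ (xx b) (uh (D.map h2) (xx b)) (hπ' _ _).symm]
          map_add' := fun a b => by
            let h1 : jj a ⟶ jj a ⊔ jj b := homOfLE le_sup_left
            let h2 : jj b ⟶ jj a ⊔ jj b := homOfLE le_sup_right
            rw [well s _ _ _ (uh (D.map h1) (xx a) + uh (D.map h2) (xx b))
              (by rw [hxx, map_add, hπ', hπ', hxx, hxx]), map_add,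
              well s _ _ (xx a) (uh (D.map h1) (xx a)) (hπ' _ _).symm,
              well s _ _ (xx b) (uh (D.map h2) (xx b)) (hπ' _ _).symm] }
        (fun b => by
          show uh (s.ι.app _) (xx _) = _
          exact (well s _ (Classical.arbitrary J) _ ((D.obj _).obj.hom.hom b)
            ((hxx _).trans (uh_w (π (Classical.arbitrary J)) b).symm)).trans (uh_w _ _))
      fac := fun s j => uh_ext fun x => well s _ _ _ _ (hxx _)
      uniq := fun s m hm => uh_ext fun a => by
        show uh m a = uh (s.ι.app _) (xx a)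
        rw [← hm]
        conv_lhs => rw [← hxx a]
        rfl }
  obtain ⟨j, s, hs⟩ := IsFinitelyPresentable.exists_hom_of_isColimit hc (𝟙 A)
  exact ⟨j, s, hs⟩

/-- A directed system of rings as a functor. -/
def mkSystem {J : Type u} [SemilatticeSup J] (S : J → Type u) [∀ j, CommRing (S j)] (g : ∀ j, B →+* S j)
    (h0 : ∀ j, (p : S j) = 0) (hb : ∀ j, Function.Bijective fun x : S j => x ^ p)
    (tr : ∀ {i j : J}, i ≤ j → (S i →+* S j))
    (hw : ∀ {i j : J} (h : i ≤ j) (b : B), tr h (g i b) = g j b)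
    (hid : ∀ (i : J) (x : S i), tr (le_refl i) x = x)
    (hcomp : ∀ {i j k : J} (h : i ≤ j) (h' : j ≤ k) (x : S i), tr (h.trans h') x = tr h' (tr h x)) :
    J ⥤ PCat p B where
  obj j := mkObj (S j) (g j) (h0 j) (hb j)
  map {i j} h := mkObjHom (tr (leOfHom h)) (hw (leOfHom h))
  map_id i := mkObjHom_id _ _ (hid i)
  map_comp {i j k} h h' := mkObjHom_comp _ _ _ _ _ _ (hcomp (leOfHom h) (leOfHom h'))

/-- Ring-theoretic form of `factor`. -/
theorem factor' (A : PCat p B) [IsFinitelyPresentable.{u} A] {J : Type u} [SemilatticeSup J] [Nonempty J]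
    (S : J → Type u) [∀ j, CommRing (S j)] (g : ∀ j, B →+* S j)
    (h0 : ∀ j, (p : S j) = 0) (hb : ∀ j, Function.Bijective fun x : S j => x ^ p)
    (tr : ∀ {i j : J}, i ≤ j → (S i →+* S j))
    (hw : ∀ {i j : J} (h : i ≤ j) (b : B), tr h (g i b) = g j b)
    (hid : ∀ (i : J) (x : S i), tr (le_refl i) x = x)
    (hcomp : ∀ {i j k : J} (h : i ≤ j) (h' : j ≤ k) (x : S i), tr (h.trans h') x = tr h' (tr h x))
    (π : ∀ j, S j →+* A.obj.right) (hπB : ∀ j b, π j (g j b) = A.obj.hom.hom b)
    (hπ : ∀ {i j : J} (h : i ≤ j) (x : S i), π j (tr h x) = π i x)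
    (hsurj : ∀ a : A.obj.right, ∃ j x, π j x = a)
    (hinj : ∀ j x, π j x = 0 → ∃ (k : J) (h : j ≤ k), tr h x = 0) :
    ∃ (j : J) (s : A.obj.right →+* S j), (∀ b, s (A.obj.hom.hom b) = g j b) ∧ ∀ a, π j (s a) = a := by
  obtain ⟨j, s, hs⟩ := factor A (mkSystem S g h0 hb tr hw hid hcomp) (fun j => mkObjTo A (π j) (hπB j))
    (fun {i j} h => mkObjTo_comp A (tr (leOfHom h)) (hw (leOfHom h)) (π j) (hπB j) (π i) (hπB i) fun x => (hπ (leOfHom h) x).symm)
    hsurj (fun j x hx => by
      obtain ⟨k, h, hk⟩ := hinj j x hx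
      exact ⟨k, homOfLE h, hk⟩)
  exact ⟨j, uh s, fun b => uh_w s b, fun a => congrArg (fun f => uh f a) hs⟩

section

variable (p) [hp : Fact p.Prime]

theorem pow_p_pow_injective {S : Type u} [CommRing S] (hS : Function.Bijective fun s : S => s ^ p)
    (n : ℕ) : Function.Bijective fun s : S => s ^ p ^ n := by
  induction n with
  | zero => simp only [pow_zero, pow_one]; exact Function.bijective_id
  | succ n ih =>
    have : (fun s : S => s ^ p ^ (n + 1)) = (fun s : S => s ^ p) ∘ fun s : S => s ^ p ^ n := by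
      funext s; simp [pow_succ, pow_mul]
    rw [this]; exact hS.comp ih

/-- Elements with a power in the image of an ideal form an ideal. -/
theorem exists_pow_eq_of_mem_map {P Q : Type u} [CommRing P] [CommRing Q] [CharP Q p] (ψ : P →+* Q)
    (hψ : ∀ y, ∃ (n : ℕ) (x : P), y ^ p ^ n = ψ x) (I : Ideal P) {y : Q} (hy : y ∈ I.map ψ) :
    ∃ (n : ℕ) (d : P), d ∈ I ∧ y ^ p ^ n = ψ d := by
  induction hy using Submodule.span_induction with
  | mem w hw => obtain ⟨d, hd, rfl⟩ := hw; exact ⟨0, d, hd, by simp⟩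
  | zero => exact ⟨0, 0, zero_mem _, by simp⟩
  | add a b _ _ ha hb =>
    obtain ⟨n, d, hd, he⟩ := ha
    obtain ⟨m, e, hem, hee⟩ := hb
    refine ⟨n + m, d ^ p ^ m + e ^ p ^ n, add_mem
      (Ideal.pow_mem_of_mem _ hd _ (pow_pos hp.out.pos _))
      (Ideal.pow_mem_of_mem _ hem _ (pow_pos hp.out.pos _)), ?_⟩
    rw [add_pow_char_pow, map_add, map_pow, map_pow, ← he, ← hee, ← pow_mul, ← pow_mul, ← pow_add,
      ← pow_add, add_comm m n]
  | smul c w _ hw =>
    obtain ⟨n, d, hd, he⟩ := hw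
    obtain ⟨m, x, hx⟩ := hψ c
    refine ⟨n + m, x ^ p ^ n * d ^ p ^ m, Ideal.mul_mem_left _ _
      (Ideal.pow_mem_of_mem _ hd _ (pow_pos hp.out.pos _)), ?_⟩
    rw [smul_eq_mul, mul_pow, map_mul, map_pow, map_pow, ← hx, ← he, ← pow_mul, ← pow_mul, ← pow_add,
      ← pow_add, add_comm m n]

end

/-- Elements with an iterated power in the subalgebra generated by a finite set. -/
def rootClosure (p : ℕ) [hp : Fact p.Prime] {B A : Type u} [CommRing B] [CommRing A] [Algebra B A]
    (h0 : (p : A) = 0) (S : Finset A) : Subalgebra B A where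
  carrier := {a | ∃ n : ℕ, a ^ p ^ n ∈ Algebra.adjoin B (S : Set A)}
  mul_mem' := fun {a b} ⟨n, hn⟩ ⟨m, hm⟩ => ⟨n + m, by
    rw [mul_pow, pow_add, pow_mul, mul_comm (p ^ n) (p ^ m), pow_mul]
    exact mul_mem (pow_mem hn _) (pow_mem hm _)⟩
  add_mem' := fun {a b} ⟨n, hn⟩ ⟨m, hm⟩ => ⟨n + m, by
    rcases subsingleton_or_nontrivial A with h | h
    · rw [Subsingleton.elim ((a + b) ^ p ^ (n + m)) 0]; exact zero_mem _
    haveI := Groth.L09.Perf.charP_of_natCast_eq_zero p _ h0
    rw [add_pow_char_pow, pow_add, pow_mul, mul_comm (p ^ n) (p ^ m), pow_mul]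
    exact add_mem (pow_mem hn _) (pow_mem hm _)⟩
  algebraMap_mem' := fun r => ⟨0, by rw [pow_zero, pow_one]; exact Subalgebra.algebraMap_mem _ r⟩

theorem rootClosure_perfect (p : ℕ) [hp : Fact p.Prime] {B A : Type u} [CommRing B] [CommRing A] [Algebra B A]
    (h0 : (p : A) = 0) (hb : Function.Bijective fun a : A => a ^ p) (S : Finset A) :
    (p : rootClosure (B := B) p h0 S) = 0 ∧ Function.Bijective fun y : rootClosure (B := B) p h0 S => y ^ p := by
  refine ⟨Subtype.ext ((map_natCast (rootClosure (B := B) p h0 S).val p).trans h0),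
    fun a b h => Subtype.ext (hb.1 (congrArg Subtype.val h)), fun y => ?_⟩
  obtain ⟨z, hz⟩ := hb.2 y.1
  obtain ⟨n, hn⟩ := y.2
  have hz' : z ^ p ^ (n + 1) = y.1 ^ p ^ n := by rw [pow_succ', pow_mul]; exact congrArg (· ^ p ^ n) hz
  exact ⟨⟨z, n + 1, hz' ▸ hn⟩, Subtype.ext hz⟩

theorem rootClosure_mono (p : ℕ) [hp : Fact p.Prime] {B A : Type u} [CommRing B] [CommRing A] [Algebra B A]
    (h0 : (p : A) = 0) {S T : Finset A} (h : S ⊆ T) :
    rootClosure (B := B) p h0 S ≤ rootClosure (B := B) p h0 T :=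
  fun _ ⟨n, hn⟩ => ⟨n, Algebra.adjoin_mono (Finset.coe_subset.mpr h) hn⟩

theorem val_incl {B A : Type u} [CommRing B] [CommRing A] [Algebra B A] {X Y : Subalgebra B A} (h : X ≤ Y)
    (x : X) : Y.val.toRingHom ((Subalgebra.inclusion h).toRingHom x) = X.val.toRingHom x := rfl

theorem incl_comp {B A : Type u} [CommRing B] [CommRing A] [Algebra B A] {X Y Z : Subalgebra B A} (h : X ≤ Y)
    (h' : Y ≤ Z) (h'' : X ≤ Z) (x : X) : (Subalgebra.inclusion h'').toRingHom x =
      (Subalgebra.inclusion h').toRingHom ((Subalgebra.inclusion h).toRingHom x) := rfl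

theorem incl_self {B A : Type u} [CommRing B] [CommRing A] [Algebra B A] {X : Subalgebra B A} (h : X ≤ X)
    (x : X) : (Subalgebra.inclusion h).toRingHom x = x := rfl

theorem incl_w {B A : Type u} [CommRing B] [CommRing A] [Algebra B A] {X Y : Subalgebra B A} (h : X ≤ Y)
    (b : B) : (Subalgebra.inclusion h).toRingHom (algebraMap B X b) = algebraMap B Y b :=
  (Subalgebra.inclusion h).commutes b

theorem val_eq_zero {B A : Type u} [CommRing B] [CommRing A] [Algebra B A] {X : Subalgebra B A} (x : X)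
    (h : X.val.toRingHom x = 0) : x = 0 := Subtype.ext h

theorem gen_fin (p : ℕ) [Fact p.Prime] (B : CommRingCat.{u}) (A : PCat p B) [IsFinitelyPresentable.{u} A]
    [Algebra B A.obj.right] (halg : algebraMap B A.obj.right = A.obj.hom.hom) :
    ∃ S : Finset A.obj.right, ∀ a : A.obj.right, ∃ n : ℕ,
      a ^ p ^ n ∈ Algebra.adjoin B (S : Set A.obj.right) := by
  classical
  obtain ⟨S, s₁, -, hs₁⟩ := factor' A (fun S => rootClosure (B := B) p A.property.1 S) (fun S => algebraMap B _)
    (fun S => (rootClosure_perfect p A.property.1 A.property.2 S).1)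
    (fun S => (rootClosure_perfect p A.property.1 A.property.2 S).2)
    (fun {i j} h => (Subalgebra.inclusion (rootClosure_mono p A.property.1 h)).toRingHom)
    (fun h b => incl_w (rootClosure_mono p A.property.1 h) b)
    (fun i x => incl_self _ x)
    (fun h h' x => incl_comp (rootClosure_mono p A.property.1 h) (rootClosure_mono p A.property.1 h') _ x)
    (fun S => (rootClosure (B := B) p A.property.1 S).val.toRingHom) (fun S b => RingHom.congr_fun halg b)
    (fun h x => val_incl (rootClosure_mono p A.property.1 h) x)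
    (fun a => ⟨{a}, ⟨a, 0, by rw [pow_zero, pow_one]; exact Algebra.subset_adjoin (Finset.mem_singleton_self a)⟩, rfl⟩)
    (fun j x hx => ⟨j, le_rfl, by rw [val_eq_zero x hx, map_zero]⟩)
  refine ⟨S, fun a => ?_⟩
  obtain ⟨n, hn⟩ := (s₁ a).2
  exact ⟨n, (show (s₁ a).1 = a from hs₁ a) ▸ hn⟩

theorem factor_self {R : Type u} [CommRing R] {I : Ideal R} (h : I ≤ I) (x : R ⧸ I) :
    Ideal.Quotient.factor h x = x := by
  obtain ⟨x, rfl⟩ := Ideal.Quotient.mk_surjective x; rfl

theorem factor_factor {R : Type u} [CommRing R] {I J K : Ideal R} (h : I ≤ J) (h' : J ≤ K) (h'' : I ≤ K)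
    (x : R ⧸ I) : Ideal.Quotient.factor h'' x = Ideal.Quotient.factor h' (Ideal.Quotient.factor h x) := by
  obtain ⟨x, rfl⟩ := Ideal.Quotient.mk_surjective x; rfl

theorem factor_mk' {R S : Type u} [CommRing R] [CommRing S] {I J : Ideal R} (h : I ≤ J) (f : S →+* R) (b : S) :
    Ideal.Quotient.factor h ((Ideal.Quotient.mk I).comp f b) = (Ideal.Quotient.mk J).comp f b := rfl

theorem lift_factor {R S : Type u} [CommRing R] [CommRing S] {I J : Ideal R} (h : I ≤ J) (f : R →+* S)
    (hI : ∀ a ∈ I, f a = 0) (hJ : ∀ a ∈ J, f a = 0) (x : R ⧸ I) :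
    Ideal.Quotient.lift J f hJ (Ideal.Quotient.factor h x) = Ideal.Quotient.lift I f hI x := by
  obtain ⟨x, rfl⟩ := Ideal.Quotient.mk_surjective x; rfl

theorem perf_quot (p : ℕ) [hp : Fact p.Prime] {Pp : Type u} [CommRing Pp] [CharP Pp p] (hPp0 : (p : Pp) = 0)
    (hPpb : Function.Bijective fun s : Pp => s ^ p) (J : Ideal Pp) (hJ : J.radical = J) :
    (p : Pp ⧸ J) = 0 ∧ Function.Bijective fun y : Pp ⧸ J => y ^ p := by
    refine ⟨by rw [← map_natCast (Ideal.Quotient.mk J), hPp0, map_zero], fun a b hab => ?_, fun y => ?_⟩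
    · obtain ⟨a, rfl⟩ := Ideal.Quotient.mk_surjective a
      obtain ⟨b, rfl⟩ := Ideal.Quotient.mk_surjective b
      rw [Ideal.Quotient.eq]
      have hab' : a ^ p - b ^ p ∈ J := Ideal.Quotient.eq.mp (by simpa using hab)
      rw [← sub_pow_char] at hab'
      exact hJ ▸ ⟨p, hab'⟩
    · obtain ⟨y, rfl⟩ := Ideal.Quotient.mk_surjective y
      obtain ⟨z, hz⟩ := hPpb.2 y
      exact ⟨Ideal.Quotient.mk J z, by simp only [← map_pow]; exact congrArg _ hz⟩

theorem fp_of_ker (p : ℕ) [Fact p.Prime] (B : CommRingCat.{u}) {T : Type u} [CommRing T] {σ : Type u} [Finite σ]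
    {Pp : Type u} [CommRing Pp] [CharP Pp p] (f : B →+* T) (ψ : MvPolynomial σ B →+* Pp) (π : Pp →+* T)
    (hψ1 : ∀ y, ∃ (n : ℕ) (x : MvPolynomial σ B), y ^ p ^ n = ψ x)
    (hψ2 : ∀ a, ψ a = 0 → IsNilpotent a) (hπβ : ∀ b, π (ψ (algebraMap B _ b)) = f b)
    (hrad : ∀ a : T, ∃ (n : ℕ) (x : MvPolynomial σ B), a ^ p ^ n = π (ψ x))
    (G : Finset Pp) (hGK : ∀ g ∈ G, π g = 0) (hK : RingHom.ker π ≤ (Ideal.span (G : Set Pp)).radical) :
    ∃ (A₀ : Type u) (_ : CommRing A₀) (_ : Algebra B A₀) (_ : Algebra.FinitePresentation B A₀)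
      (k : A₀ →+* T), k.comp (algebraMap B A₀) = f ∧ IsPRadical k p := by
  classical
  have hp := Fact.out (p := p.Prime)
  choose N x hx using hψ1
  let Rl : Ideal (MvPolynomial σ B) := Ideal.span ((G.image x : Finset (MvPolynomial σ B)) : Set (MvPolynomial σ B))
  have hle : Rl ≤ RingHom.ker (π.comp ψ) := by
    rw [Ideal.span_le]
    rintro _ hy
    obtain ⟨g, hg, rfl⟩ := Finset.mem_image.mp hy
    show π (ψ (x g)) = 0
    rw [← hx g, map_pow, hGK g hg, zero_pow (pow_ne_zero _ hp.ne_zero)]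
  refine ⟨MvPolynomial σ B ⧸ Rl, inferInstance, inferInstance,
    Algebra.FinitePresentation.quotient (Submodule.fg_span (Finset.finite_toSet _)),
    Ideal.Quotient.lift Rl (π.comp ψ) hle, RingHom.ext fun b => hπβ b, ⟨fun a => ?_, fun y hy => ?_⟩⟩
  · obtain ⟨n, y, hy⟩ := hrad a
    exact ⟨n, Ideal.Quotient.mk Rl y, hy.symm⟩
  · rw [pNilradical_eq_nilradical hp.one_lt, mem_nilradical]
    obtain ⟨y, rfl⟩ := Ideal.Quotient.mk_surjective y
    have h1 : (Ideal.span (G : Set Pp)).radical ≤ (Rl.map ψ).radical := Ideal.radical_le_radical_iff.mpr (Ideal.span_le.mpr fun g hg =>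
      ⟨p ^ N g, hx g ▸ Ideal.mem_map_of_mem ψ (Ideal.subset_span (Finset.mem_image_of_mem x hg))⟩)
    obtain ⟨m, hm⟩ := h1 (hK (RingHom.mem_ker.mpr hy : ψ y ∈ RingHom.ker π))
    obtain ⟨n, d, hd, hd'⟩ := exists_pow_eq_of_mem_map p ψ (fun z => ⟨N z, x z, hx z⟩) Rl hm
    obtain ⟨r, hr⟩ := hψ2 (y ^ (m * p ^ n) - d) (by rw [map_sub, map_pow, ← hd', pow_mul, sub_self])
    refine IsNilpotent.of_pow (m := m * p ^ n) ⟨r, ?_⟩
    have e : Ideal.Quotient.mk Rl (y ^ (m * p ^ n)) = Ideal.Quotient.mk Rl (y ^ (m * p ^ n) - d) := by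
      rw [map_sub, Ideal.Quotient.eq_zero_iff_mem.mpr hd, sub_zero]
    rw [← map_pow, e, ← map_pow, hr, map_zero]

theorem rel_fin (p : ℕ) [Fact p.Prime] (B : CommRingCat.{u}) [CharP B p] (A : PCat p B)
    [IsFinitelyPresentable.{u} A] [Algebra B A.obj.right] (halg : algebraMap B A.obj.right = A.obj.hom.hom)
    (S : Finset A.obj.right)
    (hgen : ∀ a : A.obj.right, ∃ n : ℕ, a ^ p ^ n ∈ Algebra.adjoin B (S : Set A.obj.right)) :
    ∃ (A₀ : Type u) (_ : CommRing A₀) (_ : Algebra B A₀) (_ : Algebra.FinitePresentation B A₀)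
      (k : A₀ →+* A.obj.right), k.comp (algebraMap B A₀) = A.obj.hom.hom ∧ IsPRadical k p := by
  classical
  have hp := Fact.out (p := p.Prime)
  obtain ⟨hA0, hAb⟩ := A.property
  -- step two: finitely many relations
  let P := MvPolynomial S B
  have hP0 : (p : P) = 0 := by
    rw [← map_natCast (algebraMap B P), CharP.cast_eq_zero, map_zero]
  obtain ⟨Pp, _, ψ, hPp0, hPpb, ⟨hψ1, hψ2⟩, huniv⟩ := Groth.L09.Perf.exists_closure p P hP0
  haveI : Nontrivial B := CharP.nontrivial_of_char_ne_one hp.ne_one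
  haveI : Nontrivial Pp := by
    by_contra h
    rw [not_nontrivial_iff_subsingleton] at h
    obtain ⟨n, hn⟩ := hψ2 1 (Subsingleton.elim _ _)
    simp at hn
  haveI := Groth.L09.Perf.charP_of_natCast_eq_zero p _ hPp0
  obtain ⟨π, hπ⟩ := (huniv A.obj.right hA0 hAb).2 (MvPolynomial.aeval fun g : S => (g : A.obj.right)).toRingHom
  have hπψ : ∀ x, π (ψ x) = MvPolynomial.aeval (fun g : S => (g : A.obj.right)) x := fun x => RingHom.congr_fun hπ x
  have hrad : ∀ a : A.obj.right, ∃ (n : ℕ) (x : P), a ^ p ^ n = π (ψ x) := fun a => by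
    obtain ⟨n, hn⟩ := hgen a
    rw [show (S : Set A.obj.right) = Set.range fun g : S => (g : A.obj.right) by simp,
      Algebra.adjoin_range_eq_range_aeval] at hn
    obtain ⟨x, hx⟩ := hn
    exact ⟨n, x, (hπψ x).trans hx |>.symm⟩
  have hπs : Function.Surjective π := fun a => by
    obtain ⟨n, x, hx⟩ := hrad a
    obtain ⟨y, hy⟩ := (pow_p_pow_injective p hPpb n).2 (ψ x)
    exact ⟨y, (pow_p_pow_injective p hAb n).1 (by simp only at hy ⊢; rw [← map_pow, hy, hx])⟩
  let K := RingHom.ker π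
  let I : Finset K → Ideal Pp := fun F => (Ideal.span (Subtype.val '' (F : Set K))).radical
  have hIK : ∀ F, I F ≤ K := fun F => by
    have : (Ideal.span (Subtype.val '' (F : Set K))) ≤ K := by
      rw [Ideal.span_le]; rintro _ ⟨x, -, rfl⟩; exact x.2
    refine (Ideal.radical_mono this).trans fun x hx => ?_
    obtain ⟨n, hn⟩ := hx
    have hn' : π x ^ p ^ n = 0 := by
      rw [← map_pow]
      exact RingHom.mem_ker.mp (Ideal.pow_mem_of_pow_mem _ hn (Nat.lt_pow_self hp.one_lt).le : x ^ p ^ n ∈ RingHom.ker π)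
    exact RingHom.mem_ker.mpr ((pow_p_pow_injective p hAb n).1
      (hn'.trans (zero_pow (pow_ne_zero n hp.ne_zero)).symm))
  have hperf := perf_quot p hPp0 hPpb
  have hI : ∀ F, (p : Pp ⧸ I F) = 0 ∧ Function.Bijective fun y : Pp ⧸ I F => y ^ p := fun F =>
    hperf _ (Ideal.radical_idem _)
  let β : B →+* Pp := ψ.comp (algebraMap B P)
  have hπβ : ∀ b, π (β b) = A.obj.hom.hom b := fun b =>
    ((hπψ _).trans (MvPolynomial.aeval_C _ b)).trans (RingHom.congr_fun halg b)
  have hFG : ∀ {F G : Finset K}, F ≤ G → I F ≤ I G := fun h =>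
    Ideal.radical_mono (Ideal.span_mono (Set.image_mono (Finset.coe_subset.mpr h)))
  obtain ⟨F, s₂, hs₂w, hs₂⟩ := factor' A (fun F : Finset K => Pp ⧸ I F)
    (fun F => (Ideal.Quotient.mk (I F)).comp β) (fun F => (hI F).1) (fun F => (hI F).2)
    (fun {F G} h => Ideal.Quotient.factor (hFG h)) (fun h b => factor_mk' (hFG h) β b)
    (fun F x => factor_self _ x)
    (fun h h' x => factor_factor (hFG h) (hFG h') _ x)
    (fun F => Ideal.Quotient.lift (I F) π (hIK F)) (fun F b => hπβ b)
    (fun h x => lift_factor (hFG h) π _ _ x)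
    (fun a => ⟨∅, Ideal.Quotient.mk _ (hπs a).choose, (hπs a).choose_spec⟩)
    (fun j x hx => by
      obtain ⟨x, rfl⟩ := Ideal.Quotient.mk_surjective x
      refine ⟨insert ⟨x, hx⟩ j, Finset.subset_insert _ _, Ideal.Quotient.eq_zero_iff_mem.mpr ?_⟩
      exact Ideal.le_radical (Ideal.subset_span ⟨⟨x, hx⟩, by simp, rfl⟩))
  choose t ht using fun g : S => Ideal.Quotient.mk_surjective (s₂ (g : A.obj.right))
  let G : Finset Pp := F.image Subtype.val ∪ Finset.univ.image fun g : S => ψ (MvPolynomial.X g) - t g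
  let J : Ideal Pp := (Ideal.span (G : Set Pp)).radical
  have hFJ : I F ≤ J := Ideal.radical_mono (Ideal.span_mono (by
    rintro _ ⟨x, hx, rfl⟩
    exact Finset.mem_union_left _ (Finset.mem_image_of_mem _ hx)))
  have hK : K ≤ J := by
    intro z hz
    let φ₂ : Pp →+* Pp ⧸ J :=
      (Ideal.Quotient.factor hFJ).comp (s₂.comp π)
    have : Ideal.Quotient.mk J = φ₂ := by
      refine (huniv _ (hperf J (Ideal.radical_idem _)).1 (hperf J (Ideal.radical_idem _)).2).1
        (MvPolynomial.ringHom_ext (fun b => ?_) (fun g => ?_))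
      · show Ideal.Quotient.mk J (β b) = Ideal.Quotient.factor hFJ (s₂ (π (β b)))
        rw [hπβ]
        rw [hs₂w]
        rfl
      · show Ideal.Quotient.mk J (ψ _) = Ideal.Quotient.factor hFJ (s₂ (π (ψ _)))
        rw [hπψ, MvPolynomial.aeval_X, ← ht g, Ideal.Quotient.factor_mk, Ideal.Quotient.eq]
        exact Ideal.le_radical (Ideal.subset_span (Finset.mem_union_right _
          (Finset.mem_image_of_mem _ (Finset.mem_univ g))))
    rw [← Ideal.Quotient.eq_zero_iff_mem, this]
    show Ideal.Quotient.factor hFJ (s₂ (π z)) = 0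
    rw [RingHom.mem_ker.mp hz]
    exact (congrArg (Ideal.Quotient.factor hFJ) (map_zero _)).trans (map_zero _)
  have hGK : ∀ g ∈ G, π g = 0 := by
    intro g hg
    rcases Finset.mem_union.mp hg with h | h
    · obtain ⟨x, -, rfl⟩ := Finset.mem_image.mp h
      exact x.2
    · obtain ⟨g, -, rfl⟩ := Finset.mem_image.mp h
      have h2 := hs₂ (g : A.obj.right)
      rw [← ht g] at h2
      change π (t g) = _ at h2
      rw [map_sub, hπψ, MvPolynomial.aeval_X, h2, sub_self]
  exact fp_of_ker p B A.obj.hom.hom ψ π hψ1 hψ2 hπβ hrad G hGK hK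


/-- Let p be a prime, B a perfect ring of characteristic p and A a perfect B-algebra (p = 0 in A and the
p-th power map of A is bijective). Suppose A is a finitely presentable object of the category of
perfect B-algebras (the full subcategory of B-algebras on the perfect ones): B-algebra maps from A
into a filtered colimit of perfect B-algebras factor through some term of the system, uniquely after
passing to a later term. Then A is perfectly finitely presented over B: there are a finitely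
presented B-algebra A₀ and a B-algebra homomorphism k : A₀ → A which exhibits A as a perfect closure
of A₀ (every element of A has some p^n-th power in the image of k, and every element of the kernel
of k is nilpotent). (The published statement is the equivalence, for morphisms of quasi-compact
quasi-separated perfect schemes, of perfect finite presentation with a compactness condition ranging
over cofiltered systems of perfect schemes with affine transition maps; this row is the case of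
affine schemes with the compactness condition tested on affine systems only, which is all the
published argument uses.) -/
theorem result (p : ℕ) [Fact p.Prime] (B : CommRingCat.{u})
    [CharP B p] [PerfectRing B p]
    (A : ObjectProperty.FullSubcategory fun Y : Under B => (p : Y.right) = 0 ∧ Function.Bijective fun y : Y.right => y ^ p)
    [IsFinitelyPresentable.{u} A] :
    ∃ (A₀ : Type u) (_ : CommRing A₀) (_ : Algebra B A₀) (_ : Algebra.FinitePresentation B A₀)
      (k : A₀ →+* A.obj.right), k.comp (algebraMap B A₀) = A.obj.hom.hom ∧ IsPRadical k p := by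
  letI : Algebra B A.obj.right := A.obj.hom.hom.toAlgebra
  haveI : IsFinitelyPresentable.{u} (A : PCat p B) := inferInstance
  obtain ⟨S, hS⟩ := gen_fin p B A rfl
  exact rel_fin p B A rfl S hS

end Groth.Agent.S14261
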