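import Groth.Statements.S14262
import Mathlib.RingTheory.Flat.EquationalCriterion
import Mathlib.FieldTheory.Perfect
-- import your own Groth.Agent.* helpers here

set_option autoImplicit false
universe u
open FrobAlg

namespace Groth.Agent.S14262

/-- Let p be a prime, A a perfect ring of characteristic p and f ∈ A. The radical of the principal ideal
(f) — equivalently the ideal generated by all p^n-th roots of f, n ≥ 0 — is a flat A-module. -/
theorem result (p : ℕ) [Fact p.Prime] (A : Type u) [CommRing A]
    [CharP A p] [PerfectRing A p] (f : A) :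
    Module.Flat A ((Ideal.span {f}).radical) := by
  classical
  have hp : 1 < p := (Fact.out : p.Prime).one_lt
  let E : ℕ → A ≃+* A := fun n => iterateFrobeniusEquiv A p n
  have hE : ∀ n a, E n a = a ^ p ^ n := fun n a => iterateFrobeniusEquiv_def A p n a
  let g : ℕ → A := fun n => (E n).symm f
  have hg : ∀ n, g n ^ p ^ n = f := fun n => by rw [← hE, RingEquiv.apply_symm_apply]
  have hstep : ∀ n, g (n + 1) ^ p = g n := fun n => (E n).injective (by
    rw [hE, hE, ← pow_mul, ← pow_succ', hg, hg])
  have hgmem : ∀ n, g n ∈ (Ideal.span {f}).radical := fun n =>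
    ⟨p ^ n, by rw [hg]; exact Ideal.mem_span_singleton_self f⟩
  have hdvd : ∀ {n m}, n ≤ m → g m ∣ g n := by
    intro n m h
    induction h with
    | refl => exact dvd_rfl
    | @step k _ ih =>
      refine dvd_trans ?_ ih
      rw [← hstep k]
      exact dvd_pow_self _ (Fact.out : p.Prime).ne_zero
  refine Module.Flat.of_forall_isTrivialRelation fun {l a x} hrel => ?_
  have hx : ∀ i, ∃ n, g n ∣ (x i : A) := fun i => by
    obtain ⟨m, hm⟩ := (x i).2
    obtain ⟨c, hc⟩ := Ideal.mem_span_singleton.1
      (Ideal.pow_mem_of_pow_mem _ hm (Nat.lt_pow_self hp).le : (x i : A) ^ p ^ m ∈ Ideal.span {f})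
    refine ⟨m, (E m).symm c, ?_⟩
    apply (E m).injective
    rw [map_mul, RingEquiv.apply_symm_apply, RingEquiv.apply_symm_apply, hE]
    exact hc
  choose n hn using hx
  obtain ⟨N, hN⟩ : ∃ N, ∀ i, n i ≤ N := ⟨Finset.univ.sup n, fun i => Finset.le_sup (Finset.mem_univ i)⟩
  choose b hb using fun i => dvd_trans (hdvd (hN i)) (hn i)
  let r := g (N + 1)
  have hs : (∑ i, a i * b i) * g N = 0 := by
    rw [Finset.sum_mul]
    have h1 := congrArg Subtype.val hrel
    rw [AddSubmonoidClass.coe_finsetSum, ZeroMemClass.coe_zero] at h1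
    refine Eq.trans (Finset.sum_congr rfl fun i _ => ?_) h1
    rw [Submodule.coe_smul, smul_eq_mul, hb i]
    ring
  have hsr : (∑ i, a i * b i) * r = 0 := (E 1).injective (by
    rw [map_zero, hE, pow_one, mul_pow, hstep, ← Nat.sub_add_cancel hp.le, pow_succ, mul_assoc, hs,
      mul_zero])
  refine ⟨1, fun i _ => b i * r ^ (p - 1), fun _ => ⟨r, hgmem _⟩, fun i => Subtype.ext ?_, fun _ => ?_⟩
  · rw [Fin.sum_univ_one]
    show (x i : A) = b i * r ^ (p - 1) * r
    rw [mul_assoc, ← pow_succ, Nat.sub_add_cancel hp.le, hstep, hb i, mul_comm]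
  · rw [show p - 1 = (p - 2) + 1 by omega, pow_succ]
    calc ∑ i, a i * (b i * (r ^ (p - 2) * r)) = r ^ (p - 2) * ((∑ i, a i * b i) * r) := by
          rw [Finset.sum_mul, Finset.mul_sum]
          exact Finset.sum_congr rfl fun i _ => by ring
      _ = 0 := by rw [hsr, mul_zero]

end Groth.Agent.S14262
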