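import Groth.Statements.S14268
import Groth.Agent.L10.DTen.Triple

set_option autoImplicit false
universe u
open CategoryTheory CategoryTheory.Limits MonoidalCategory
attribute [local instance] HasDerivedCategory.standard
open DTen

namespace Groth.Agent.S14268

/-- For maps of commutative rings `φ : A → B`, `ψ : B → C` and objects `E` of `D(A)`, `F` of `D(B)`, `G`
of `D(C)`, the two iterated mixed derived tensor products `(E ⊗^L_A F) ⊗^L_B G` and `E ⊗^L_A (F
⊗^L_B G)` (the latter along the composite `A → C`) agree: both canonical comparison morphisms from
them into the value at `(E, F, G)` of the functor `(M, N, K) ↦ ((M ⊗_A B) ⊗_B N ⊗_B C) ⊗_C K` on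
triples of complexes derived jointly in the three variables (the unique morphisms of functors
compatible with the counits) are isomorphisms. This renders the published identification of the
composite functor `(- ⊗^L_A N) ⊗^L_B K` with `- ⊗^L_A (N ⊗^L_B K)`, and the first equality of its
module case, as the invertibility of two legs into a common target; the remaining identifications of
the module case are not part of this row. (The existence of the mixed derived tensor products along
`φ`, `ψ`, `ψ ∘ φ` and of the jointly derived triple functor are assumed as hypotheses; they hold for
all ring maps.) -/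
theorem result (A B C : Type u) [CommRing A] [CommRing B] [CommRing C]
    (φ : A →+* B) (ψ : B →+* C) [DTen.HasLTenMix φ] [DTen.HasLTenMix ψ] [DTen.HasLTenMix (ψ.comp φ)]
    [DTen.HasLTenMix₃ φ ψ] (E : Dual.D A) (F : Dual.D B) (G : Dual.D C) :
    IsIso ((DTen.leg₃L φ ψ).app (E, (F, G))) ∧ IsIso ((DTen.leg₃R φ ψ).app (E, (F, G))) := by
  exact Groth.L10.DTen.isIso_legs₃ φ ψ (E, (F, G))

end Groth.Agent.S14268
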