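import Groth.Statements.S1427
import Groth.Agent.L20.Weight.Constructible

set_option autoImplicit false
universe u
open FlatMor

set_option linter.style.haveILetI false
set_option backward.isDefEq.respectTransparency.types false

namespace Groth.Agent.S1427

open AlgebraicGeometry CategoryTheory Limits in
/-- Let f : X → Y be locally quasi-finite with X quasi-compact and w a weighting of f. Then the fibre
integral of w along f is bounded above and, if Y is nonempty, attains its maximum. -/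
theorem result {X Y : Scheme.{u}} (f : X ⟶ Y) [LocallyQuasiFinite f] [LocallyOfFiniteType f] [CompactSpace ↑X] (w : ↑X → ℤ) (hw : MoreMor.IsWeighting f w) [Nonempty ↑Y] :
    ∃ y₀ : Y, ∀ y : Y, MoreMor.fibreIntegral f w y ≤ MoreMor.fibreIntegral f w y₀ := by
  classical
  obtain ⟨d, hd⟩ := Groth.L20.Weight.exists_bound f
  have hb : ∃ M : ℕ, ∀ x, w x ≤ M := by
    obtain ⟨S, hS, hcov⟩ := isCompact_iff_finite_and_eq_biUnion_affineOpens.mp
      (show IsCompact ((⊤ : X.Opens) : Set X) by simpa using isCompact_univ)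
    have hfin : (⋃ O ∈ S, w '' (O.1 : Set X)).Finite :=
      hS.biUnion fun O _ => (Groth.L20.Weight.finite_range_and_constructible f hw O.2).1
    obtain ⟨M, hM⟩ := hfin.bddAbove
    refine ⟨M.toNat, fun x => le_trans ?_ (Int.self_le_toNat M)⟩
    have hx : x ∈ (⊤ : X.Opens) := trivial
    rw [hcov] at hx
    simp only [TopologicalSpace.Opens.mem_iSup] at hx
    obtain ⟨O, hOS, hxO⟩ := hx
    exact hM (Set.mem_iUnion₂.mpr ⟨O, hOS, x, hxO, rfl⟩)
  obtain ⟨M, hM⟩ := hb
  have hbound : ∀ y, MoreMor.fibreIntegral f w y ≤ (d : ℤ) * M := by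
    intro y
    obtain ⟨Ω, _, _, ω, hω⟩ := Groth.L20.Weight.exists_geomPoint y
    obtain ⟨_, hcard⟩ := hd Ω ω
    have := Fintype.ofFinite (Groth.L20.Weight.Lifts f ω)
    rw [Groth.L20.Weight.fibreIntegral_eq f w ω (Groth.L20.Weight.finite_fibre f _) hω, finsum_eq_sum_of_fintype]
    refine (Finset.sum_le_card_nsmul _ _ (M : ℤ) fun φ _ => hM _).trans ?_
    rw [nsmul_eq_mul, Finset.card_univ, ← Nat.card_eq_fintype_card]
    exact mul_le_mul_of_nonneg_right (by exact_mod_cast hcard) (Int.natCast_nonneg M)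
  obtain ⟨y₁⟩ := ‹Nonempty ↑Y›
  obtain ⟨m, ⟨y₀, rfl⟩, hmax⟩ := Int.exists_greatest_of_bdd (P := fun m => ∃ y, MoreMor.fibreIntegral f w y = m)
    ⟨(d : ℤ) * M, fun _ ⟨y, hy⟩ => hy ▸ hbound y⟩ ⟨_, y₁, rfl⟩
  exact ⟨y₀, fun y => hmax _ ⟨y, rfl⟩⟩

end Groth.Agent.S1427
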