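import Groth.Statements.S14271
import Mathlib.AlgebraicGeometry.Morphisms.Separated
import Mathlib.AlgebraicGeometry.Morphisms.ClosedImmersion

set_option autoImplicit false
universe u
open FlatPur

namespace Groth.Agent.S14271

section
open AlgebraicGeometry CategoryTheory CategoryTheory.Limits

variable (X : Scheme.{u}) (U : X.Opens)
    (hZ : ∀ z : X, z ∉ U → ∃ a ∈ IsLocalRing.maximalIdeal (X.presheaf.stalk z), IsSMulRegular (X.presheaf.stalk z) a)

include hZ in
lemma sec_zero (W : X.Opens) (hW : IsAffineOpen W) (s : Γ(X, W)) (hs : U.ι.app W s = 0) : s = 0 := by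
  by_contra hne
  let I : Ideal Γ(X, W) := Module.annihilator Γ(X, W) (Submodule.span Γ(X, W) {s})
  have hI : ∀ r, r ∈ I ↔ r * s = 0 := fun r => by
    rw [Submodule.mem_annihilator_span_singleton]; rfl
  have hItop : I ≠ ⊤ := fun h => hne (by simpa using (hI 1).1 (h ▸ Submodule.mem_top))
  obtain ⟨M, hM, hIM⟩ := Ideal.exists_le_maximal I hItop
  haveI := hM.isPrime
  obtain ⟨P, hP, hPM⟩ := Ideal.exists_minimalPrimes_le hIM
  haveI := hP.1.1
  let y : PrimeSpectrum Γ(X, W) := ⟨P, hP.1.1⟩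
  set z : X := hW.fromSpec y with hz
  have hzW : z ∈ W := by
    have : z ∈ (Set.range hW.fromSpec) := ⟨y, rfl⟩
    rwa [hW.range_fromSpec] at this
  letI alg := TopCat.Presheaf.algebra_section_stalk X.presheaf (⟨z, hzW⟩ : W)
  have hloc : IsLocalization.AtPrime (X.presheaf.stalk z) P := hW.isLocalization_stalk' y hzW
  have hs0 : algebraMap Γ(X, W) (X.presheaf.stalk z) s ≠ 0 := by
    intro h
    obtain ⟨⟨m, hm⟩, hms⟩ := (IsLocalization.map_eq_zero_iff P.primeCompl (X.presheaf.stalk z) s).1 h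
    exact hm (hP.1.2 ((hI m).2 hms))
  by_cases hzU : z ∈ U
  · apply hs0
    have e : U.ι.app W = X.presheaf.map (homOfLE (x := U.ι ''ᵁ U.ι ⁻¹ᵁ W) (y := W) (Set.image_preimage_subset _ _)).op :=
      Scheme.Opens.ι_app U W
    rw [e] at hs
    have hz' : z ∈ U.ι ''ᵁ U.ι ⁻¹ᵁ W := ⟨⟨z, hzU⟩, hzW, rfl⟩
    change X.presheaf.germ W z hzW s = 0
    rw [← TopCat.Presheaf.germ_res_apply X.presheaf (homOfLE (x := U.ι ''ᵁ U.ι ⁻¹ᵁ W) (y := W) (Set.image_preimage_subset _ _)) z hz' s]
    erw [hs]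
    exact map_zero _
  · obtain ⟨a, ha, hreg⟩ := hZ z hzU
    let S := X.presheaf.stalk z
    let J : Ideal S := Module.annihilator S (Submodule.span S {algebraMap Γ(X, W) S s})
    have hJ : ∀ r, r ∈ J ↔ r * algebraMap Γ(X, W) S s = 0 := fun r => by
      rw [Submodule.mem_annihilator_span_singleton]; rfl
    have hJtop : J ≠ ⊤ := fun h => hs0 (by simpa using (hJ 1).1 (h ▸ Submodule.mem_top))
    have hmin : IsLocalRing.maximalIdeal S ∈ J.minimalPrimes := by
      refine ⟨⟨Ideal.IsMaximal.isPrime inferInstance, IsLocalRing.le_maximalIdeal hJtop⟩, fun Q hQ hQm => ?_⟩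
      haveI := hQ.1
      have h1 : I ≤ Q.comap (algebraMap Γ(X, W) S) := fun r hr => hQ.2 ((hJ _).2 (by
        rw [← map_mul, (hI r).1 hr, map_zero]))
      have h2 : Q.comap (algebraMap Γ(X, W) S) ≤ P :=
        (Ideal.comap_mono (IsLocalRing.le_maximalIdeal hQ.1.ne_top)).trans
          (IsLocalization.AtPrime.under_maximalIdeal S P).le
      have h3 : Q.comap (algebraMap Γ(X, W) S) = P := le_antisymm h2 (hP.2 ⟨inferInstance, h1⟩ h2)
      rw [← IsLocalization.map_under P.primeCompl S Q, show Ideal.under _ Q = P from h3,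
        IsLocalization.AtPrime.map_eq_maximalIdeal P S]
    obtain ⟨b, hb, hab⟩ := Ideal.exists_mul_mem_of_mem_minimalPrimes hmin ha
    apply hb
    rw [hJ] at hab ⊢
    apply hreg
    simp only [smul_eq_mul, mul_zero]
    rw [← mul_assoc]; exact hab

include hZ in
theorem aux (Y : Scheme.{u}) (f : Y ⟶ X) [IsSeparated f] (s₁ s₂ : X ⟶ Y) (h₁ : s₁ ≫ f = 𝟙 X) (h₂ : s₂ ≫ f = 𝟙 X)
    (hU : U.ι ≫ s₁ = U.ι ≫ s₂) : s₁ = s₂ := by
  let X' : Over X := Over.mk (𝟙 X)
  let Y' : Over X := Over.mk f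
  let U' : Over X := Over.mk U.ι
  let f' : X' ⟶ Y' := Over.homMk s₁ h₁
  let g' : X' ⟶ Y' := Over.homMk s₂ h₂
  let ι' : U' ⟶ X' := Over.homMk U.ι (Category.comp_id _)
  haveI : IsSeparated Y'.hom := ‹_›
  have hw : ι' ≫ f' = ι' ≫ g' := by ext1; exact hU
  let e : (equalizer f' g').left ⟶ X := (equalizer.ι f' g').left
  haveI : IsClosedImmersion e := inferInstanceAs (IsClosedImmersion (equalizer.ι f' g').left)
  have hfac : U.ι = (equalizer.lift ι' hw).left ≫ e := by
    show ι'.left = _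
    rw [← Over.comp_left, equalizer.lift_ι]
  have hker : e.ker = ⊥ := by
    refine le_bot_iff.1 fun W => ?_
    intro s hs
    rw [Scheme.Hom.ker_apply, RingHom.mem_ker] at hs
    rw [Scheme.IdealSheafData.ideal_bot]
    refine sec_zero X U hZ W.1 W.2 s ?_
    have := congrArg (fun F => F s) (congrArg (fun φ => ⇑(CommRingCat.Hom.hom φ)) (Scheme.Hom.comp_app (equalizer.lift ι' hw).left e W.1))
    rw [Scheme.Hom.congr_app hfac W.1]
    simp [hs]
  haveI : IsIso e := IsClosedImmersion.isIso_iff_ker_eq_bot.2 hker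
  rw [← cancel_epi e]
  exact congr($(equalizer.condition f' g').left)
end


open AlgebraicGeometry CategoryTheory CategoryTheory.Limits in
/-- Let X be a scheme and U an open subscheme whose inclusion is quasi-compact, such that for every
point z of X outside U the maximal ideal of O_{X,z} contains an element that is regular (a
nonzerodivisor) on that local ring. Then for every separated X-scheme Y the restriction map from
X-sections of Y to U-sections of Y is injective: two sections of Y -> X that agree on U are equal. -/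
theorem result (X : Scheme.{u}) (U : X.Opens) [QuasiCompact U.ι]
    (hZ : ∀ z : X, z ∉ U → ∃ a ∈ IsLocalRing.maximalIdeal (X.presheaf.stalk z), IsSMulRegular (X.presheaf.stalk z) a)
    (Y : Scheme.{u}) (f : Y ⟶ X) [IsSeparated f] (s₁ s₂ : X ⟶ Y) (h₁ : s₁ ≫ f = 𝟙 X) (h₂ : s₂ ≫ f = 𝟙 X)
    (hU : U.ι ≫ s₁ = U.ι ≫ s₂) : s₁ = s₂ := aux X U hZ Y f s₁ s₂ h₁ h₂ hU

end Groth.Agent.S14271
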