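import Groth.Statements.S14274
import Groth.Agent.L09.HartogsMor
import Groth.Agent.L09.TorsorSch
import Groth.Agent.L23.AffineMor
import Groth.Prelude.Def_ActBC

set_option autoImplicit false
universe u
open scoped CategoryTheory.Obj
open NonAbH1

open AlgebraicGeometry CategoryTheory CategoryTheory.Limits MonoidalCategory CartesianMonoidalCategory

set_option linter.style.haveILetI false
set_option backward.isDefEq.respectTransparency.types false
set_option backward.isDefEq.respectTransparency false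

namespace Groth.Agent.S14274

lemma map_eq_iff {X : Scheme.{u}} {U : X.Opens} {P Q : Over X}
    (h : P ⟶ Q) (h' : (Over.pullback U.ι).obj P ⟶ (Over.pullback U.ι).obj Q) :
    (Over.pullback U.ι).map h = h' ↔
      (P.hom ⁻¹ᵁ U).ι ≫ h.left =
        (isPullback_morphismRestrict P.hom U).flip.isoPullback.hom ≫ h'.left ≫
          pullback.fst Q.hom U.ι := by
  have e : (isPullback_morphismRestrict P.hom U).flip.isoPullback.hom ≫ pullback.fst P.hom U.ι =
      (P.hom ⁻¹ᵁ U).ι := IsPullback.isoPullback_hom_fst _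
  constructor
  · rintro rfl
    rw [ActBC.pullback_map_left_fst]
    exact (reassoc_of% e) _ |>.symm
  · intro hh
    ext1
    refine pullback.hom_ext ?_ ?_
    · rw [ActBC.pullback_map_left_fst,
        ← cancel_epi (isPullback_morphismRestrict P.hom U).flip.isoPullback.hom, ← hh]
      exact (reassoc_of% e) _
    · exact (Over.w ((Over.pullback U.ι).map h)).trans (Over.w h').symm


open AlgebraicGeometry CategoryTheory CategoryTheory.Limits MonoidalCategory in
/-- Let X be a scheme, G a finite locally free X-group scheme (finite, flat and locally of finite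
presentation over X, not necessarily commutative), and U an open subscheme of X whose inclusion is
quasi-compact, such that for every point z of X outside U the local ring of X at z is regular of
Krull dimension at least 2. Let Q₁ and Q₂ be fppf G-torsors over X. Then every U-morphism between
their base changes to U that is equivariant for the base-changed group is the base change of a
unique G-equivariant X-morphism Q₁ -> Q₂. (With the essential-surjectivity row this is the statement
that pullback is an equivalence from G-torsors over X to torsors over U under the base change of G.) -/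
theorem result {X : Scheme.{u}} (G : Over X) [GrpObj G]
    [IsFinite G.hom] [Flat G.hom] [LocallyOfFinitePresentation G.hom]
    (U : X.Opens) [QuasiCompact U.ι]
    (hZ : ∀ z : X, z ∉ U → IsRegularLocalRing (X.presheaf.stalk z) ∧ (2 : WithBot ℕ∞) ≤ ringKrullDim (X.presheaf.stalk z))
    (Q₁ Q₂ : Over X) (a₁ : AlgGrp.Action G Q₁) (a₂ : AlgGrp.Action G Q₂)
    (h₁ : NonAbH1.IsTorsorFor Scheme.fppfPrecoverage a₁) (h₂ : NonAbH1.IsTorsorFor Scheme.fppfPrecoverage a₂)
    (h' : (Over.pullback U.ι).obj Q₁ ⟶ (Over.pullback U.ι).obj Q₂)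
    (hh' : (Functor.LaxMonoidal.μ (Over.pullback U.ι) G Q₁ ≫ (Over.pullback U.ι).map a₁.act) ≫ h' =
      ((Over.pullback U.ι).obj G ◁ h') ≫ (Functor.LaxMonoidal.μ (Over.pullback U.ι) G Q₂ ≫ (Over.pullback U.ι).map a₂.act)) :
    ∃! h : Q₁ ⟶ Q₂, a₁.act ≫ h = (G ◁ h) ≫ a₂.act ∧ (Over.pullback U.ι).map h = h' := by
  have hp₁ : NonAbH1.IsTorsorFor Scheme.fpqcPrecoverage a₁ :=
    ⟨h₁.1, h₁.2.imp fun R hR => ⟨Scheme.fppfPrecoverage_le_fpqcPrecoverage _ hR.1, hR.2⟩⟩
  have hp₂ : NonAbH1.IsTorsorFor Scheme.fpqcPrecoverage a₂ :=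
    ⟨h₂.1, h₂.2.imp fun R hR => ⟨Scheme.fppfPrecoverage_le_fpqcPrecoverage _ hR.1, hR.2⟩⟩
  haveI := Groth.L25.Actions.descendsAlong_flat_fpqc.{u}
  haveI : Flat Q₁.hom := Groth.L09.TorsorSch.of_grp @Flat a₁ hp₁ inferInstance
  haveI : IsAffineHom Q₁.hom := Groth.L09.TorsorSch.of_grp @IsAffineHom a₁ hp₁ inferInstance
  haveI : IsAffineHom Q₂.hom := Groth.L09.TorsorSch.of_grp @IsAffineHom a₂ hp₂ inferInstance
  haveI : Flat (G ⊗ Q₁).hom := by
    show Flat (pullback.fst G.hom Q₁.hom ≫ G.hom)
    infer_instance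
  haveI : IsAffineHom (G ⊗ Q₁).hom := by
    show IsAffineHom (pullback.fst G.hom Q₁.hom ≫ G.hom)
    haveI : IsAffineHom (pullback.fst G.hom Q₁.hom) :=
      MorphismProperty.pullback_fst (P := @IsAffineHom) _ _ ‹_›
    infer_instance
  -- extension
  obtain ⟨φ, ⟨hφ, hφU⟩, huniq⟩ := Groth.L09.HartogsSch.existsUnique_extension Q₁.hom Q₂.hom U hZ
    ((isPullback_morphismRestrict Q₁.hom U).flip.isoPullback.hom ≫ h'.left ≫
      pullback.fst Q₂.hom U.ι) (by
        rw [Category.assoc, Category.assoc, pullback.condition,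
          ← Category.assoc h'.left, show h'.left ≫ pullback.snd Q₂.hom U.ι =
            pullback.snd Q₁.hom U.ι from Over.w h', ← pullback.condition,
          IsPullback.isoPullback_hom_fst_assoc])
  let h : Q₁ ⟶ Q₂ := Over.homMk φ hφ
  have hmap : (Over.pullback U.ι).map h = h' := (map_eq_iff h h').mpr hφU
  refine ⟨h, ⟨?_, hmap⟩, fun k hk => ?_⟩
  · have h3 : (Over.pullback U.ι).map (a₁.act ≫ h) = (Over.pullback U.ι).map ((G ◁ h) ≫ a₂.act) := by
      rw [← cancel_epi (Functor.LaxMonoidal.μ (Over.pullback U.ι) G Q₁), Functor.map_comp,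
        Functor.map_comp, hmap, ← Category.assoc, hh',
        ← Functor.LaxMonoidal.μ_natural_right_assoc, hmap]
    ext1
    exact (Groth.L09.HartogsSch.existsUnique_extension (G ⊗ Q₁).hom Q₂.hom U hZ
      (((G ⊗ Q₁).hom ⁻¹ᵁ U).ι ≫ (a₁.act ≫ h).left) (by rw [Category.assoc, Over.w])).unique
      ⟨Over.w _, rfl⟩ ⟨Over.w _, ((map_eq_iff ((G ◁ h) ≫ a₂.act) _).mp h3.symm).trans
        ((map_eq_iff (a₁.act ≫ h) _).mp rfl).symm⟩
  · ext1
    exact huniq k.left ⟨Over.w k, (map_eq_iff k h').mp hk.2⟩

end Groth.Agent.S14274
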