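import Groth.Statements.S14275
import Mathlib.RingTheory.AdicCompletion.Functoriality
import Mathlib.RingTheory.AdicCompletion.Algebra
import Mathlib.RingTheory.AdicCompletion.Exactness
import Mathlib.RingTheory.Regular.RegularSequence
import Mathlib.RingTheory.Ideal.Maps

set_option autoImplicit false
universe u
open CAlg

namespace Groth.Agent.S14275

open RingTheory.Sequence in
section
variable {A : Type u} [CommRing A] (a : A)

theorem mem_pow_smul {M : Type u} [AddCommGroup M] [Module A M] (n : ℕ) (x : M) :
    x ∈ (Ideal.span {a} ^ n • ⊤ : Submodule A M) ↔ ∃ z, a ^ n • z = x := by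
  rw [Ideal.span_singleton_pow, Submodule.ideal_span_singleton_smul,
    Submodule.mem_smul_pointwise_iff_exists]
  simp

theorem val_eq {M : Type u} [AddCommGroup M] [Module A M] (x : AdicCompletion (Ideal.span {a}) M)
    {m n : ℕ} (h : m ≤ n) {y : M} (hy : Submodule.Quotient.mk y = x.val n) :
    Submodule.Quotient.mk y = x.val m := by
  rw [← x.2 h, ← hy]
  rfl

theorem completion_exact {M N Q : Type u} [AddCommGroup M] [Module A M] [AddCommGroup N] [Module A N]
    [AddCommGroup Q] [Module A Q] (f : M →ₗ[A] N) (g : N →ₗ[A] Q) (hf : Function.Injective f)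
    (hfg : Function.Exact f g) (hg : Function.Surjective g) (N₀ : ℕ) (hbd : ∀ x : Q, (∃ m : ℕ, a ^ m • x = 0) → a ^ N₀ • x = 0) :
    Function.Injective (AdicCompletion.map (Ideal.span {a}) f) ∧
      Function.Exact (AdicCompletion.map (Ideal.span {a}) f) (AdicCompletion.map (Ideal.span {a}) g) := by
  have hsat : ∀ (m : ℕ) (z : N) (w : M), f w = a ^ (m + N₀) • z → ∃ v, w = a ^ m • v := by
    intro m z w hw
    have h0 : a ^ N₀ • g z = 0 := hbd _ ⟨m + N₀, by rw [← map_smul, ← hw, hfg.apply_apply_eq_zero]⟩
    rw [← map_smul] at h0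
    obtain ⟨v, hv⟩ := (hfg _).1 h0
    exact ⟨v, hf (by rw [map_smul, hv, ← mul_smul, ← pow_add, hw])⟩
  constructor
  · rw [injective_iff_map_eq_zero]
    intro x hx
    refine AdicCompletion.ext fun m => ?_
    obtain ⟨w, hw⟩ := Submodule.Quotient.mk_surjective _ (x.val (m + N₀))
    have h1 : (AdicCompletion.map (Ideal.span {a}) f x).val (m + N₀) = 0 := by rw [hx]; rfl
    rw [AdicCompletion.map_val_apply, ← hw] at h1
    obtain ⟨z, hz⟩ := (mem_pow_smul a _ _).1 ((Submodule.Quotient.mk_eq_zero _).1 h1)
    obtain ⟨v, rfl⟩ := hsat m z w hz.symm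
    rw [← val_eq a x (Nat.le_add_right m N₀) hw]
    exact (Submodule.Quotient.mk_eq_zero _).2 ((mem_pow_smul a _ _).2 ⟨v, rfl⟩)
  · intro y
    constructor
    · intro hy
      choose w hw using fun n => Submodule.Quotient.mk_surjective _ (y.val n)
      have hdec : ∀ n, ∃ u z, f u = w n + a ^ n • z := fun n => by
        have h1 : (AdicCompletion.map (Ideal.span {a}) g y).val n = 0 := by rw [hy]; rfl
        rw [AdicCompletion.map_val_apply, ← hw] at h1
        have h2 : g (w n) ∈ Submodule.map g (Ideal.span {a} ^ n • ⊤) := by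
          rw [Submodule.map_smul'']
          obtain ⟨q, hq⟩ := (mem_pow_smul a _ _).1 ((Submodule.Quotient.mk_eq_zero _).1 h1)
          rw [Ideal.span_singleton_pow, Submodule.ideal_span_singleton_smul,
            Submodule.mem_smul_pointwise_iff_exists]
          exact ⟨q, by
            refine ⟨?_, hq⟩
            rw [Submodule.map_top]
            exact LinearMap.mem_range.2 (hg q)⟩
        obtain ⟨v, hv, hgv⟩ := h2
        obtain ⟨z, rfl⟩ := (mem_pow_smul a _ _).1 hv
        obtain ⟨u, hu⟩ := (hfg (w n - a ^ n • z)).1 (by rw [map_sub, hgv, sub_self])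
        exact ⟨u, -z, by rw [hu, smul_neg, sub_eq_add_neg]⟩
      choose u z huz using hdec
      have hdiff : ∀ m n, m ≤ n → ∃ v, u (m + N₀) - u (n + N₀) = a ^ m • v := fun m n hmn => by
        obtain ⟨t, ht⟩ := (mem_pow_smul a _ _).1 ((Submodule.Quotient.eq _).1
          ((hw (m + N₀)).trans (val_eq a y (Nat.add_le_add_right hmn N₀) (hw (n + N₀))).symm))
        refine hsat m (t + z (m + N₀) - a ^ (n - m) • z (n + N₀)) _ ?_
        rw [map_sub, huz, huz, smul_sub, smul_add, ht, ← mul_smul, ← pow_add,
          show m + N₀ + (n - m) = n + N₀ by omega]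
        abel
      refine ⟨⟨fun n => Submodule.Quotient.mk (u (n + N₀)), ?_⟩, ?_⟩
      · intro m n hmn
        refine (Submodule.Quotient.eq _).2 ?_
        obtain ⟨v, hv⟩ := hdiff m n hmn
        simp only [LinearMap.id_coe, id_eq]
        rw [← neg_sub, hv]
        exact neg_mem ((mem_pow_smul a _ _).2 ⟨v, rfl⟩)
      · refine AdicCompletion.ext fun n => ?_
        change Submodule.Quotient.mk (f (u (n + N₀))) = y.val n
        rw [huz, Submodule.Quotient.mk_add, val_eq a y (Nat.le_add_right n N₀) (hw (n + N₀)),
          add_eq_left, Submodule.Quotient.mk_eq_zero, mem_pow_smul]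
        exact ⟨a ^ N₀ • z (n + N₀), by rw [← mul_smul, ← pow_add]⟩
    · rintro ⟨x, rfl⟩
      rw [AdicCompletion.map_comp_apply, hfg.linearMap_comp_eq_zero]
      refine AdicCompletion.ext fun n => ?_
      obtain ⟨w, hw⟩ := Submodule.Quotient.mk_surjective _ (x.val n)
      rw [AdicCompletion.map_val_apply, ← hw]
      rfl

end

open RingTheory.Sequence in


/-- Let A be a commutative ring, a an element of A with a-adic completion A^, and a_1, ..., a_n a weakly
regular sequence on A such that for each i = 0, ..., n the quotient A/(a_1, ..., a_i) has bounded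
a-power torsion (some fixed power of a kills every element killed by a power of a). Then the images
of a_1, ..., a_n form a weakly regular sequence on A^, and the canonical map from A^ to the a-adic
completion of A/(a_1, ..., a_n) is surjective with kernel the ideal generated by the images of a_1,
..., a_n. -/
theorem result (A : Type u) [CommRing A] (a : A) (rs : List A)
    (hreg : IsWeaklyRegular A rs)
    (hbd : ∀ i ≤ rs.length, ∃ N : ℕ, ∀ x : A ⧸ Ideal.ofList (rs.take i), (∃ m : ℕ, a ^ m • x = 0) → a ^ N • x = 0) :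
    IsWeaklyRegular (AdicCompletion (Ideal.span {a}) A)
        (rs.map (algebraMap A (AdicCompletion (Ideal.span {a}) A))) ∧
      Function.Surjective (AdicCompletion.map (Ideal.span {a}) (Ideal.ofList rs).mkQ) ∧
      LinearMap.ker (AdicCompletion.map (Ideal.span {a}) (Ideal.ofList rs).mkQ) =
        (Ideal.ofList rs).map (algebraMap A (AdicCompletion (Ideal.span {a}) A)) := by
  classical
  let J : ℕ → Ideal A := fun k => Ideal.ofList (rs.take k)
  let Pi₀ : ∀ k, AdicCompletion (Ideal.span {a}) A →ₗ[AdicCompletion (Ideal.span {a}) A]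
      AdicCompletion (Ideal.span {a}) (A ⧸ J k) := fun k => AdicCompletion.map (Ideal.span {a}) (J k).mkQ
  have hPs : ∀ k, Function.Surjective (Pi₀ k) := fun k =>
    AdicCompletion.map_surjective_of_mkQ_comp_surjective
      ((Submodule.mkQ_surjective _).comp (Submodule.mkQ_surjective _))
  let alg := algebraMap A (AdicCompletion (Ideal.span {a}) A)
  have hJstep : ∀ k (hk : k < rs.length), J (k + 1) = J k ⊔ Ideal.span {rs[k]} := fun k hk => by
    simp only [J, List.take_succ_eq_append_getElem hk, Ideal.ofList_append, Ideal.ofList_singleton]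
  have hker_of_le : ∀ k, ∀ y ∈ (J k).map alg, Pi₀ k y = 0 := fun k => by
    intro y hy
    suffices (J k).map alg ≤ LinearMap.ker (Pi₀ k) from this hy
    rw [Ideal.map_le_iff_le_comap]
    intro r hr
    change Pi₀ k (alg r) = 0
    refine AdicCompletion.ext fun n => ?_
    change (AdicCompletion.map (Ideal.span {a}) (J k).mkQ (alg r)).val n = 0
    rw [AdicCompletion.map_val_apply]
    change Submodule.Quotient.mk ((J k).mkQ r) = 0
    rw [Submodule.mkQ_apply, (Submodule.Quotient.mk_eq_zero _).2 hr]
    rfl
  have hsmul : ∀ k (r : A) (y : AdicCompletion (Ideal.span {a}) (A ⧸ J k)),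
      AdicCompletion.map (Ideal.span {a}) (r • LinearMap.id) y = r • y := fun k r y => by
    refine AdicCompletion.ext fun n => ?_
    obtain ⟨w, hw⟩ := Submodule.Quotient.mk_surjective _ (y.val n)
    rw [AdicCompletion.map_val_apply, AdicCompletion.val_smul_apply, ← hw]
    rfl
  have hseq : ∀ k (hk : k < rs.length),
      Function.Injective (AdicCompletion.map (Ideal.span {a}) (rs[k] • LinearMap.id : (A ⧸ J k) →ₗ[A] _)) ∧
      Function.Exact (AdicCompletion.map (Ideal.span {a}) (rs[k] • LinearMap.id : (A ⧸ J k) →ₗ[A] _))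
        (AdicCompletion.map (Ideal.span {a})
          (Submodule.factor (by rw [hJstep k hk]; exact le_sup_left : J k ≤ J (k + 1)))) := fun k hk => by
    have hreg : ∀ b : A, rs[k] * b ∈ J k → b ∈ J k := by
      have := (isSMulRegular_quotient_iff_mem_of_smul_mem _ _).1
        ((RingTheory.Sequence.isWeaklyRegular_iff A rs).1 hreg k hk)
      simpa only [smul_eq_mul, Ideal.mul_top] using this
    obtain ⟨N, hN⟩ := hbd (k + 1) hk
    refine completion_exact a _ _ ?_ ?_ (Submodule.factor_surjective _) N hN
    · refine (injective_iff_map_eq_zero (rs[k] • LinearMap.id : (A ⧸ J k) →ₗ[A] _)).2 fun q hq => ?_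
      obtain ⟨b, rfl⟩ := Submodule.Quotient.mk_surjective (J k) q
      exact (Submodule.Quotient.mk_eq_zero _).2 (hreg b ((Submodule.Quotient.mk_eq_zero _).1 hq))
    · intro q
      obtain ⟨b, rfl⟩ := Submodule.Quotient.mk_surjective (J k) q
      constructor
      · intro hq
        have hb : b ∈ J (k + 1) := (Submodule.Quotient.mk_eq_zero _).1 hq
        rw [hJstep k hk, Submodule.mem_sup] at hb
        obtain ⟨c, hc, d, hd, rfl⟩ := hb
        obtain ⟨e, rfl⟩ := Ideal.mem_span_singleton'.1 hd
        exact ⟨Submodule.Quotient.mk e, (Submodule.Quotient.eq _).2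
          (by simpa [mul_comm] using neg_mem hc)⟩
      · rintro ⟨r, hr⟩
        rw [← hr]
        obtain ⟨r, rfl⟩ := Submodule.Quotient.mk_surjective (J k) r
        exact (Submodule.Quotient.mk_eq_zero _).2 (by
          rw [hJstep k hk]
          exact Submodule.mem_sup_right (Ideal.mul_mem_right _ _ (Ideal.mem_span_singleton_self _)))
  have hker : ∀ k ≤ rs.length, ∀ y, Pi₀ k y = 0 → y ∈ (J k).map alg := by
    intro k
    induction k with
    | zero =>
      intro _ y hy
      have hJ0 : J 0 = ⊥ := by simp [J]
      let e : (A ⧸ J 0) →ₗ[A] A := (J 0).liftQ LinearMap.id (by rw [LinearMap.ker_id]; exact hJ0.le)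
      have h := congrArg (AdicCompletion.map (Ideal.span {a}) e) hy
      simp only [Pi₀] at h
      erw [map_zero, AdicCompletion.map_comp_apply, Submodule.liftQ_mkQ, AdicCompletion.map_id] at h
      rw [show y = 0 from h]
      exact zero_mem _
    | succ k ih =>
      intro hk y hy
      have hk' : k < rs.length := hk
      have h1 : AdicCompletion.map (Ideal.span {a})
          (Submodule.factor (by rw [hJstep k hk']; exact le_sup_left : J k ≤ J (k + 1))) (Pi₀ k y) = 0 := by
        simp only [Pi₀]
        erw [AdicCompletion.map_comp_apply]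
        exact hy
      obtain ⟨q, hq⟩ := ((hseq k hk').2 _).1 h1
      obtain ⟨v, rfl⟩ := hPs k q
      rw [hsmul, ← algebraMap_smul (AdicCompletion (Ideal.span {a}) A), ← map_smul] at hq
      have h2 := ih hk'.le (y - alg rs[k] • v) (by rw [map_sub, hq, sub_self])
      rw [hJstep k hk', Ideal.map_sup, show y = (y - alg rs[k] • v) + alg rs[k] • v by abel]
      refine Submodule.add_mem_sup h2 ?_
      rw [smul_eq_mul]
      exact Ideal.mul_mem_right _ _ (Ideal.mem_map_of_mem _ (Ideal.mem_span_singleton_self _))
  have hJn : J rs.length = Ideal.ofList rs := by simp [J]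
  refine ⟨?_, ?_, ?_⟩
  · rw [RingTheory.Sequence.isWeaklyRegular_map_algebraMap_iff, RingTheory.Sequence.isWeaklyRegular_iff]
    intro k hk
    rw [isSMulRegular_quotient_iff_mem_of_smul_mem, Ideal.smul_top_eq_map]
    intro y hy
    refine hker k hk.le y ((hseq k hk).1 ?_)
    rw [map_zero, hsmul, ← algebraMap_smul (AdicCompletion (Ideal.span {a}) A), ← map_smul,
      algebraMap_smul]
    exact hker_of_le k _ hy
  · rw [← hJn]; exact hPs rs.length
  · rw [← hJn]
    exact le_antisymm (fun y hy => hker _ le_rfl y hy) (fun y hy => hker_of_le _ y hy)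

end Groth.Agent.S14275
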