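import Groth.Statements.S14277
import Groth.Agent.L24.Count.H1Count

set_option autoImplicit false
set_option backward.isDefEq.respectTransparency.types false
universe u
open CategoryTheory AlgebraicGeometry
open NonAbH1

namespace Groth.Agent.S14277

/-- Let k be a finite field and G a group scheme finite and étale over Spec k. Then the set of
isomorphism classes of G-torsors over Spec k is finite, and the sum over these classes ξ of
1/#Aut(ξ) equals 1, where Aut(ξ) is the (finite) group of G-equivariant automorphisms over k of a
torsor in the class ξ. A torsor is a k-scheme with an action of G which is a pseudo-torsor and
acquires sections on the members of some fppf covering family of Spec k; for such G these are the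
nonempty finite étale pseudo-torsors, and the étale topology gives the same classes. The term of a
class whose automorphism group were infinite would count as 0 by the convention Nat.card = 0. -/
theorem result
    (k : Type u) [Field k] [Finite k]
    (G : Over (Spec (CommRingCat.of k))) [GrpObj G] [IsFinite G.hom] [Etale G.hom] :
    Finite (NonAbH1.H1Sch G Scheme.fppfPrecoverage) ∧
      ∑ᶠ ξ : NonAbH1.H1Sch G Scheme.fppfPrecoverage,
        ((Nat.card (NonAbH1.EquivIso (Quot.out ξ).act (Quot.out ξ).act) : ℚ))⁻¹ = 1 := by
  exact Groth.L24.Count.finsum_eq_one

end Groth.Agent.S14277
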