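import Groth.Statements.S14285
import Groth.Agent.L16.Rees.UnitNearFibre
import Mathlib.AlgebraicGeometry.ResidueField

set_option autoImplicit false
set_option linter.style.haveILetI false
universe u
open CategoryTheory AlgebraicGeometry
open EllLift

namespace Groth.Agent.S14285

/-- Let R be a complete Noetherian local ring with maximal ideal m and residue field k = R/m, g : X →
Spec R a proper and flat morphism, and i : X₀ → X the fibre of g over the closed point, i.e. a
pullback of g along Spec k → Spec R, with structure map f₀ : X₀ → Spec k. If the induced ring map k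
→ Γ(X₀, O_{X₀}) is bijective, then so is R → Γ(X, O_X). -/
theorem result (R : Type u) [CommRing R]
    [IsLocalRing R] [IsNoetherianRing R] [IsAdicComplete (IsLocalRing.maximalIdeal R) R]
    (X X₀ : Scheme.{u}) (g : X ⟶ Spec (CommRingCat.of R)) [IsProper g] [Flat g]
    (i : X₀ ⟶ X) (f₀ : X₀ ⟶ Spec (CommRingCat.of (R ⧸ IsLocalRing.maximalIdeal R)))
    (hsq : IsPullback i f₀ g
      (Spec.map (CommRingCat.ofHom (Ideal.Quotient.mk (IsLocalRing.maximalIdeal R)))))
    (h0 : Function.Bijective ((Scheme.ΓSpecIso (CommRingCat.of (R ⧸ IsLocalRing.maximalIdeal R))).inv ≫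
      f₀.appTop)) :
    Function.Bijective ((Scheme.ΓSpecIso (CommRingCat.of R)).inv ≫ g.appTop) := by
  letI : Field (R ⧸ IsLocalRing.maximalIdeal R) := Ideal.Quotient.field _
  let mk : CommRingCat.of R ⟶ CommRingCat.of (R ⧸ IsLocalRing.maximalIdeal R) :=
    CommRingCat.ofHom (Ideal.Quotient.mk (IsLocalRing.maximalIdeal R))
  let xf := Scheme.SpecToEquivOfField (R ⧸ IsLocalRing.maximalIdeal R) (Spec (CommRingCat.of R)) (Spec.map mk)
  let y := xf.1
  let φ := xf.2
  have ha : Spec.map φ ≫ (Spec (CommRingCat.of R)).fromSpecResidueField y = Spec.map mk :=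
    Scheme.descResidueField_stalkClosedPointTo_fromSpecResidueField (R ⧸ IsLocalRing.maximalIdeal R) _ _
  let ψ := Spec.preimage ((Spec (CommRingCat.of R)).fromSpecResidueField y)
  have hψ : ψ ≫ φ = mk := Spec.map_injective (by rw [Spec.map_comp, Spec.map_preimage, ha])
  haveI : IsIso φ := (ConcreteCategory.isIso_iff_bijective φ).2
    ⟨φ.hom.injective, fun z => by
      obtain ⟨r, hr⟩ := Ideal.Quotient.mk_surjective z
      exact ⟨ψ r, (congr($hψ r)).trans hr⟩⟩
  have hsq' : IsPullback i (f₀ ≫ Spec.map φ) g ((Spec (CommRingCat.of R)).fromSpecResidueField y) :=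
    IsPullback.of_iso hsq (Iso.refl _) (Iso.refl _) (asIso (Spec.map φ)) (Iso.refl _)
      (by simp) (by simp) (by simp) (by simpa using ha.symm)
  let e := hsq'.isoPullback
  have he : e.hom ≫ g.fiberToSpecResidueField y = f₀ ≫ Spec.map φ := hsq'.isoPullback_hom_snd
  have h0' : Function.Bijective f₀.appTop := by
    replace h0 : Function.Bijective (f₀.appTop ∘
      (Scheme.ΓSpecIso (CommRingCat.of (R ⧸ IsLocalRing.maximalIdeal R))).inv) := h0
    exact (Function.Bijective.of_comp_iff _ (ConcreteCategory.bijective_of_isIso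
      (Scheme.ΓSpecIso (CommRingCat.of (R ⧸ IsLocalRing.maximalIdeal R))).inv)).1 h0
  have hy : Function.Bijective (algebraMap ((Spec (CommRingCat.of R)).residueField y) Γ(g.fiber y, ⊤)) := by
    have hq : Function.Bijective (g.fiberToSpecResidueField y).appTop := by
      have hc : (g.fiberToSpecResidueField y).appTop ≫ e.hom.appTop = (Spec.map φ).appTop ≫ f₀.appTop := by
        exact (Scheme.Hom.comp_appTop _ _).symm.trans ((congrArg Scheme.Hom.appTop he).trans (Scheme.Hom.comp_appTop _ _))
      have hb : Function.Bijective ((g.fiberToSpecResidueField y).appTop ≫ e.hom.appTop) := by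
        rw [hc]
        exact h0'.comp (ConcreteCategory.bijective_of_isIso ((Spec.map φ).app ⊤))
      replace hb : Function.Bijective (e.hom.appTop ∘ (g.fiberToSpecResidueField y).appTop) := hb
      exact (Function.Bijective.of_comp_iff' (ConcreteCategory.bijective_of_isIso (e.hom.app ⊤)) _).1 hb
    exact hq.comp (ConcreteCategory.bijective_of_isIso
      (Scheme.ΓSpecIso ((Spec (CommRingCat.of R)).residueField y)).inv)
  obtain ⟨U, hyU, hU⟩ := Groth.L16.Rees.UnitNear.exists_isIso_app_near g y hy
  have hcl : y = IsLocalRing.closedPoint R := by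
    show (Spec.map mk) (IsLocalRing.closedPoint (R ⧸ IsLocalRing.maximalIdeal R)) = IsLocalRing.closedPoint R
    refine PrimeSpectrum.ext ((IsLocalRing.maximalIdeal.isMaximal R).eq_of_le (PrimeSpectrum.isPrime _).ne_top ?_).symm
    intro r hr
    show Ideal.Quotient.mk (IsLocalRing.maximalIdeal R) r ∈
      (IsLocalRing.closedPoint (R ⧸ IsLocalRing.maximalIdeal R)).asIdeal
    rw [Ideal.Quotient.eq_zero_iff_mem.2 hr]
    exact Ideal.zero_mem _
  have hUtop : ⊤ ≤ U := by
    intro z _
    exact (IsLocalRing.specializes_closedPoint z).mem_open U.2 (hcl ▸ hyU)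
  haveI := hU ⊤ hUtop
  exact (ConcreteCategory.bijective_of_isIso (g.app ⊤)).comp
    (ConcreteCategory.bijective_of_isIso (Scheme.ΓSpecIso (CommRingCat.of R)).inv)

end Groth.Agent.S14285
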