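import Groth.Statements.S14291
import Groth.Agent.L15.EllTors.Main

set_option autoImplicit false
universe u
open EllLift

namespace Groth.Agent.S14291

/-- Let R be a Henselian discrete valuation ring with algebraically closed residue field k and fraction
field K, and W an elliptic curve over K (a Weierstrass cubic with unit discriminant) given by an
equation which is minimal with respect to R. If W has a K-rational point of exact order n for some
integer n > 4 whose image in k is non-zero, then W has good or multiplicative (that is, semistable)
reduction. (The published statement takes R to be the Henselisation of the local ring of a smooth
curve over an algebraically closed field at a closed point, and asks that the n-torsion of the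
elliptic curve over R contain the constant group Z/nZ; this row allows any Henselian discrete
valuation ring with algebraically closed residue field and asks for a K-rational point of exact
order n, which over such R is the same condition.) -/
theorem result (R : Type u) [CommRing R] [IsDomain R]
    [IsDiscreteValuationRing R] [HenselianLocalRing R] [IsAlgClosed (IsLocalRing.ResidueField R)]
    (K : Type u) [Field K] [DecidableEq K] [Algebra R K] [IsFractionRing R K]
    (W : WeierstrassCurve K) [W.IsElliptic] [WeierstrassCurve.IsMinimal R W]
    (n : ℕ) (hn : 4 < n) (hk : (n : IsLocalRing.ResidueField R) ≠ 0)
    (P : W.toAffine.Point) (hP : addOrderOf P = n) :
    W.HasGoodReduction R ∨ W.HasMultiplicativeReduction R := by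
  exact Groth.L15.EllTors.semistable R K W n hn hk P hP


end Groth.Agent.S14291
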