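import Groth.Statements.S14297
import Groth.Agent.L13.Deviation

set_option autoImplicit false
universe u
open MeasureTheory
open PtDeg

namespace Groth.Agent.S14297

/-- Let G be a compact Hausdorff commutative topological group, written additively, μ its Haar measure
of total mass 1, m ≥ 1 an integer and ψ : G^{m+1} → ℝ a continuous function which is a 2-cocycle
with respect to every pair of variables: for all positions i ≠ j, every point x of G^{m+1} and all
a, b, c in G, writing x[i ↦ a, j ↦ c] for x with its i-th coordinate replaced by a and its j-th by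
c, one has ψ(x[i ↦ a+b, j ↦ c]) + ψ(x[i ↦ a, j ↦ b]) = ψ(x[i ↦ a, j ↦ b+c]) + ψ(x[i ↦ b, j ↦ c]).
Let φ : G → ℝ be φ(g) = (−1)^m ∫_{G^m} ψ(g, u_1, …, u_m) dμ^{⊗m}(u). Then ψ is the (m+1)-st
deviation of φ, namely ψ(x) = Σ_{∅ ≠ I ⊆ {0,…,m}} (−1)^{m+1+|I|} φ(Σ_{i ∈ I} x_i) for every x; φ is
continuous; and φ is the unique continuous function G → ℝ with this property. -/
theorem result {G : Type u} [AddCommGroup G] [TopologicalSpace G] [IsTopologicalAddGroup G] [CompactSpace G] [T2Space G]
    [MeasurableSpace G] [BorelSpace G] (μ : MeasureTheory.Measure G) [μ.IsAddHaarMeasure] [MeasureTheory.IsProbabilityMeasure μ]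
    (m : ℕ) (hm : 1 ≤ m) (ψ : (Fin (m + 1) → G) → ℝ) (hψc : Continuous ψ)
    (hψ : ∀ (i j : Fin (m + 1)), i ≠ j → ∀ (x : Fin (m + 1) → G) (a b c : G),
      ψ (Function.update (Function.update x i (a + b)) j c) + ψ (Function.update (Function.update x i a) j b) =
        ψ (Function.update (Function.update x i a) j (b + c)) + ψ (Function.update (Function.update x i b) j c)) :
    (∀ x : Fin (m + 1) → G,
      ψ x = ∑ I ∈ ((Finset.univ : Finset (Fin (m + 1))).powerset.erase ∅),
        (-1 : ℝ) ^ (m + 1 + I.card) * ((-1 : ℝ) ^ m *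
          ∫ u, ψ (Fin.cons (∑ i ∈ I, x i) u) ∂(MeasureTheory.Measure.pi (fun _ : Fin m => μ)))) ∧
    Continuous (fun g : G => (-1 : ℝ) ^ m * ∫ u, ψ (Fin.cons g u) ∂(MeasureTheory.Measure.pi (fun _ : Fin m => μ))) ∧
    (∀ φ : G → ℝ, Continuous φ → (∀ x : Fin (m + 1) → G,
      ψ x = ∑ I ∈ ((Finset.univ : Finset (Fin (m + 1))).powerset.erase ∅), (-1 : ℝ) ^ (m + 1 + I.card) * φ (∑ i ∈ I, x i)) →
      φ = fun g => (-1 : ℝ) ^ m * ∫ u, ψ (Fin.cons g u) ∂(MeasureTheory.Measure.pi (fun _ : Fin m => μ))) := by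
  have hc : Continuous fun g : G => (-1 : ℝ) ^ m *
      ∫ u, ψ (Fin.cons g u) ∂(MeasureTheory.Measure.pi (fun _ : Fin m => μ)) :=
    continuous_const.mul (Groth.L13.Deviation.continuous_integral_pi μ
      (H := fun p : G × (Fin m → G) => ψ (Fin.cons p.1 p.2))
      (hψc.comp (Continuous.finCons (A := fun _ : Fin (m + 1) => G) continuous_fst continuous_snd)))
  refine ⟨fun x => ?_, hc, fun φ hφ h => ?_⟩
  · rw [Groth.L13.Deviation.eq_dev μ m ψ hψc hψ x, Groth.L13.Deviation.dev_eq_sum]
  · funext g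
    have he : ∀ u, ψ (Fin.cons g u) = Groth.L13.Deviation.dev (m + 1) φ (Fin.cons g u) := fun u => by
      rw [h, Groth.L13.Deviation.dev_eq_sum]
    simp only [he]
    rw [Groth.L13.Deviation.integral_dev μ m φ hφ g, ← mul_assoc, ← pow_add,
      (Even.add_self m).neg_one_pow, one_mul]

end Groth.Agent.S14297
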