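import Groth.Statements.S14298
import Groth.Agent.L26.BigOpen.Descent

set_option autoImplicit false
universe u
open CategoryTheory CategoryTheory.Limits AlgebraicGeometry
open PicF

namespace Groth.Agent.S14298

/-- Let φ : X′ → X be a flat and surjective morphism of locally Noetherian schemes, V ⊆ X an open
subscheme which is big, in the sense that the local ring of X at every point outside V has depth at
least 2, and L an invertible O_V-module. Then L extends to an invertible O_X-module (there is an
invertible M on X whose restriction to V is isomorphic to L) if and only if the pullback of L to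
φ⁻¹(V) extends to an invertible O_{X′}-module. -/
theorem result {X X' : Scheme.{u}}
    [IsLocallyNoetherian X] [IsLocallyNoetherian X'] (φ : X' ⟶ X) [Flat φ] [Surjective φ]
    (V : X.Opens) (hV : ∀ x : X, x ∉ V → 2 ≤ LocCoh.depth (X.presheaf.stalk x) (X.presheaf.stalk x))
    (L : (V : Scheme.{u}).Modules) (hL : PicF.IsInvertible L) :
    (∃ M : X.Modules, PicF.IsInvertible M ∧ Nonempty ((Scheme.Modules.pullback V.ι).obj M ≅ L)) ↔
      (∃ M' : X'.Modules, PicF.IsInvertible M' ∧
        Nonempty ((Scheme.Modules.pullback (φ ⁻¹ᵁ V).ι).obj M' ≅ (Scheme.Modules.pullback (φ ∣_ V)).obj L)) := by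
  exact Groth.Agent.BigOpen.extends_iff φ V hV L hL

end Groth.Agent.S14298
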