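import Groth.Statements.S14305
import Groth.Agent.L13.DeviationAlt

set_option autoImplicit false
universe u v
open PtDeg

namespace Groth.Agent.S14305

/-- Let A and G be abelian groups, written additively, f : A → G a map and n ≥ 1. For k ≥ 0 the k-th
deviation of f is the map A^k → G, (y_1, …, y_k) ↦ Σ_{∅ ≠ I ⊆ {1,…,k}} (−1)^{k+|I|} f(Σ_{i ∈ I}
y_i). Then f is pointed of degree n, meaning that its (n+1)-st deviation vanishes identically, if
and only if its n-th deviation is additive in each variable separately (with the other variables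
fixed). -/
theorem result {A : Type u} {G : Type v} [AddCommGroup A] [AddCommGroup G]
    (f : A → G) (n : ℕ) (hn : 1 ≤ n) :
    (∀ x : Fin (n + 1) → A, ∑ I ∈ ((Finset.univ : Finset (Fin (n + 1))).powerset.erase ∅), ((-1 : ℤ) ^ (n + 1 + I.card)) • f (∑ i ∈ I, x i) = 0) ↔
      (∀ (j : Fin n) (y : Fin n → A) (a b : A),
        ∑ I ∈ ((Finset.univ : Finset (Fin n)).powerset.erase ∅), ((-1 : ℤ) ^ (n + I.card)) • f (∑ i ∈ I, (Function.update y j (a + b)) i) =
          ∑ I ∈ ((Finset.univ : Finset (Fin n)).powerset.erase ∅), ((-1 : ℤ) ^ (n + I.card)) • f (∑ i ∈ I, (Function.update y j a) i) + ∑ I ∈ ((Finset.univ : Finset (Fin n)).powerset.erase ∅), ((-1 : ℤ) ^ (n + I.card)) • f (∑ i ∈ I, (Function.update y j b) i)) := by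
  classical
  have key : ∀ (a : A) (b : A) (j : Fin n) (y : Fin n → A),
      ∑ I ∈ ((Finset.univ : Finset (Fin (n + 1))).powerset.erase ∅),
          ((-1 : ℤ) ^ (n + 1 + I.card)) • f (∑ i ∈ I, (Fin.cons a (Function.update y j b) : Fin (n + 1) → A) i) =
      ∑ I ∈ ((Finset.univ : Finset (Fin n)).powerset.erase ∅),
          ((-1 : ℤ) ^ (n + I.card)) • f (∑ i ∈ I, (Function.update y j (a + b)) i) -
        ∑ I ∈ ((Finset.univ : Finset (Fin n)).powerset.erase ∅),
          ((-1 : ℤ) ^ (n + I.card)) • f (∑ i ∈ I, (Function.update y j a) i) -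
        ∑ I ∈ ((Finset.univ : Finset (Fin n)).powerset.erase ∅),
          ((-1 : ℤ) ^ (n + I.card)) • f (∑ i ∈ I, (Function.update y j b) i) := by
    intro a b j y
    have e1 : ∀ c, ∑ I ∈ ((Finset.univ : Finset (Fin n)).powerset.erase ∅),
          ((-1 : ℤ) ^ (n + I.card)) • f (∑ i ∈ I, (Function.update y j c) i) =
        Groth.L13.DeviationAlt.alt (Finset.univ.erase j) (fun z => f (z + c)) y -
          Groth.L13.DeviationAlt.alt (Finset.univ.erase j) f y - ((-1 : ℤ) ^ n) • f 0 := by
      intro c
      have h := Groth.L13.DeviationAlt.erase_eq (Finset.univ : Finset (Fin n)) f (Function.update y j c)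
      rw [Finset.card_univ, Fintype.card_fin] at h
      have hs := Groth.L13.DeviationAlt.alt_insert (Finset.univ.erase j) j
        (Finset.notMem_erase j Finset.univ) f (Function.update y j c)
      rw [Finset.insert_erase (Finset.mem_univ j), Function.update_self,
        Groth.L13.DeviationAlt.alt_sub] at hs
      have hcg : ∀ F : A → G, Groth.L13.DeviationAlt.alt (Finset.univ.erase j) F (Function.update y j c) =
          Groth.L13.DeviationAlt.alt (Finset.univ.erase j) F y := fun F =>
        Groth.L13.DeviationAlt.alt_congr _ _ fun i hi => by simp [Finset.ne_of_mem_erase hi]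
      rw [h, hs, hcg, hcg]
    have h := Groth.L13.DeviationAlt.erase_eq (Finset.univ : Finset (Fin (n + 1))) f
      (Fin.cons a (Function.update y j b))
    have hu : (Finset.univ : Finset (Fin (n + 1))) =
        insert 0 (Finset.univ.map (Fin.succEmb n)) := by
      apply Finset.ext; intro k
      induction k using Fin.cases <;> simp
    have h0 : ∀ (F : A → G) (X : Fin (n + 1) → A),
        Groth.L13.DeviationAlt.alt Finset.univ F X =
        Groth.L13.DeviationAlt.alt Finset.univ (fun z => F (z + X 0) - F z) (X ∘ Fin.succ) := by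
      intro F X
      rw [hu, Groth.L13.DeviationAlt.alt_insert _ _ (by simp [Fin.succ_ne_zero]),
        Groth.L13.DeviationAlt.alt_map]
      rfl
    rw [Finset.card_univ, Fintype.card_fin, h0] at h
    rw [h]
    rw [← Finset.insert_erase (Finset.mem_univ j),
      Groth.L13.DeviationAlt.alt_insert _ _ (Finset.notMem_erase _ _)]
    rw [Finset.insert_erase (Finset.mem_univ j), e1, e1, e1]
    have hc : ∀ F : A → G, Groth.L13.DeviationAlt.alt (Finset.univ.erase j) F
        ((Fin.cons a (Function.update y j b) : Fin (n + 1) → A) ∘ Fin.succ) =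
        Groth.L13.DeviationAlt.alt (Finset.univ.erase j) F y := fun F =>
      Groth.L13.DeviationAlt.alt_congr _ _ fun i hi => by
        simp [Finset.ne_of_mem_erase hi]
    simp only [Fin.cons_zero, Function.comp_apply, Fin.cons_succ,
      Function.update_self, hc]
    rw [Groth.L13.DeviationAlt.alt_sub, Groth.L13.DeviationAlt.alt_sub, Groth.L13.DeviationAlt.alt_sub]
    have ecomm : (fun z => f (z + b + a)) = fun z => f (z + (a + b)) := by
      funext z; rw [add_assoc, add_comm b a]
    rw [ecomm, pow_succ, mul_neg_one, neg_smul]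
    abel
  constructor
  · intro H j y a b
    have h := H (Fin.cons a (Function.update y j b))
    rw [key, sub_sub] at h
    exact sub_eq_zero.1 h
  · intro H x
    let j : Fin n := ⟨0, hn⟩
    have hx : x = Fin.cons (x 0) (Function.update (Fin.tail x) j (x j.succ)) := by
      conv_lhs => rw [← Fin.cons_self_tail x]
      congr 1
      symm
      exact Function.update_eq_self j (Fin.tail x)
    rw [hx, key, sub_sub, sub_eq_zero]
    exact H j _ _ _

end Groth.Agent.S14305
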