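import Groth.Statements.S14309
import Mathlib.RingTheory.MvPolynomial
import Mathlib.Algebra.MvPolynomial.Rename
import Mathlib.RingTheory.Ideal.Colon
import Mathlib.RingTheory.Ideal.Maps
import Mathlib.Tactic.Ring

set_option autoImplicit false
universe u v w x y
open CAlg

namespace Groth.Agent.S14309

/-- Let R be a commutative ring; A, B, C commutative R-algebras; i : A → B and j : A → C jointly
injective R-algebra maps; c a non-zero-divisor of B; u : C → B/(c) a ring map with u ∘ j equal to i
followed by reduction modulo c; ζ in A with i ζ = c and j ζ = 0; η : R[X_σ, Z] → A an R-algebra map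
with η(Z) = ζ; a : R[Y_τ] → B a surjective R-algebra map; η_Z : R[X_σ, Z] → R[Y_τ] a surjective
R-algebra map with a ∘ η_Z = i ∘ η. Fix c̃ in R[Y_τ] with a(c̃) = c, a family (p_h) generating the
kernel of the composite R[X_σ] → R[X_σ, Z] → A → C, a family (q'_h) generating the kernel of a
together with lifts q_h along η_Z, a family (v_h) generating the kernel of η_Z, and elements g'_h of
R[Y_τ] with η_Z(p_h) + g'_h c̃ in the ideal (q'_h), together with lifts g_h along η_Z. Then the
kernel of η is the ideal generated by the elements Z q_h, Z v_h and p_h + Z g_h. (The published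
statement is for the rings of cycle classes, with coefficients ℤ[1/6], of a smooth quotient stack, a
smooth closed substack whose normal bundle has top Chern class c a non-zero-divisor, and the open
complement; this row states the ring-theoretic content for any such square of commutative rings in
which A embeds in B × C.) -/
theorem result
    {R : Type u} [CommRing R] {A : Type v} {B : Type w} {C : Type x}
    [CommRing A] [CommRing B] [CommRing C] [Algebra R A] [Algebra R B] [Algebra R C]
    (i : A →ₐ[R] B) (j : A →ₐ[R] C)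
    (hinj : ∀ t : A, i t = 0 → j t = 0 → t = 0)
    (c : B) (hc : c ∈ nonZeroDivisors B) (u : C →+* B ⧸ Ideal.span ({c} : Set B))
    (hu : ∀ t : A, u (j t) = Ideal.Quotient.mk (Ideal.span ({c} : Set B)) (i t))
    (ζ : A) (hiζ : i ζ = c) (hjζ : j ζ = 0)
    {σ τ ιp ιq ιv : Type y}
    (η : MvPolynomial (Option σ) R →ₐ[R] A) (hη : η (MvPolynomial.X none) = ζ)
    (a : MvPolynomial τ R →ₐ[R] B) (ha : Function.Surjective a)
    (ηZ : MvPolynomial (Option σ) R →ₐ[R] MvPolynomial τ R)
    (hcomm : ∀ t, a (ηZ t) = i (η t)) (hηZ : Function.Surjective ηZ)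
    (cZ : MvPolynomial τ R) (hcZ : a cZ = c)
    (p : ιp → MvPolynomial σ R)
    (hp : Ideal.span (Set.range p) =
      RingHom.ker ((j.comp η).comp (MvPolynomial.rename (Option.some : σ → Option σ))))
    (q' : ιq → MvPolynomial τ R) (hq' : Ideal.span (Set.range q') = RingHom.ker a)
    (q : ιq → MvPolynomial (Option σ) R) (hq : ∀ h, ηZ (q h) = q' h)
    (v : ιv → MvPolynomial (Option σ) R) (hv : Ideal.span (Set.range v) = RingHom.ker ηZ)
    (g' : ιp → MvPolynomial τ R)
    (hg' : ∀ h, ηZ (MvPolynomial.rename (Option.some : σ → Option σ) (p h)) + g' h * cZ ∈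
      Ideal.span (Set.range q'))
    (g : ιp → MvPolynomial (Option σ) R) (hg : ∀ h, ηZ (g h) = g' h) :
    RingHom.ker η = Ideal.span
      (Set.range (fun h : ιq => MvPolynomial.X none * q h) ∪
        Set.range (fun h : ιv => MvPolynomial.X none * v h) ∪
        Set.range (fun h : ιp =>
          MvPolynomial.rename (Option.some : σ → Option σ) (p h) + MvPolynomial.X none * g h)) := by
  classical
  set Z : MvPolynomial (Option σ) R := MvPolynomial.X none with hZ
  set P : ιp → MvPolynomial (Option σ) R := fun h => MvPolynomial.rename Option.some (p h) with hP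
  have hdec : ∀ F : MvPolynomial (Option σ) R, ∃ f₀ : MvPolynomial σ R, ∃ G,
      F = MvPolynomial.rename Option.some f₀ + Z * G := by
    intro F
    induction F using MvPolynomial.induction_on with
    | C r => exact ⟨MvPolynomial.C r, 0, by simp⟩
    | add x y hx hy =>
      obtain ⟨f₁, G₁, rfl⟩ := hx
      obtain ⟨f₂, G₂, rfl⟩ := hy
      exact ⟨f₁ + f₂, G₁ + G₂, by rw [map_add]; ring⟩
    | mul_X x o hx =>
      obtain ⟨f₁, G₁, rfl⟩ := hx
      cases o with
      | none => exact ⟨0, MvPolynomial.rename Option.some f₁ + Z * G₁, by rw [map_zero, zero_add, ← hZ]; ring⟩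
      | some s => exact ⟨f₁ * MvPolynomial.X s, G₁ * MvPolynomial.X (some s),
          by rw [map_mul, MvPolynomial.rename_X]; ring⟩
  have hiZ : i (η Z) = c := by rw [hη, hiζ]
  have hjZ : j (η Z) = 0 := by rw [hη, hjζ]
  have haq : ∀ h, a (q' h) = 0 := fun h => (hq'.le (Ideal.subset_span ⟨h, rfl⟩) : _)
  have hjP : ∀ h, j (η (P h)) = 0 := fun h => (hp.le (Ideal.subset_span ⟨h, rfl⟩) : _)
  set K := Ideal.span (Set.range (fun h : ιq => Z * q h) ∪ Set.range (fun h : ιv => Z * v h) ∪
        Set.range (fun h : ιp => P h + Z * g h)) with hK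
  have hKle : K ≤ RingHom.ker η := by
    refine Ideal.span_le.2 ?_
    rintro _ ((⟨h, rfl⟩ | ⟨h, rfl⟩) | ⟨h, rfl⟩) <;> apply hinj
    · rw [map_mul, map_mul, ← hcomm (q h), hq, haq, mul_zero]
    · rw [map_mul, map_mul, hjZ, zero_mul]
    · rw [map_mul, map_mul, ← hcomm (v h), (hv.le (Ideal.subset_span ⟨h, rfl⟩) : ηZ (v h) = 0), map_zero, mul_zero]
    · rw [map_mul, map_mul, hjZ, zero_mul]
    · have := hq'.le (hg' h)
      rw [RingHom.mem_ker, map_add, map_mul, hcZ, hcomm, ← hg, hcomm] at this
      rw [map_add, map_add, map_mul, map_mul, hiZ, mul_comm]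
      exact this
    · rw [map_add, map_add, map_mul, map_mul, hjZ, zero_mul, add_zero, hjP]
  refine le_antisymm ?_ hKle
  · intro F hF
    obtain ⟨f₀, G, rfl⟩ := hdec F
    have hF' : η (MvPolynomial.rename Option.some f₀ + Z * G) = 0 := hF
    have hf₀ : j (η (MvPolynomial.rename Option.some f₀)) = 0 := by
      have := congrArg j hF'
      rwa [map_add, map_mul, map_add, map_mul, hjZ, zero_mul, add_zero, map_zero] at this
    have hf₀' : MvPolynomial.rename Option.some f₀ ∈ K ⊔ Ideal.span {Z} := by
      have hle : Ideal.span (Set.range p) ≤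
          (K ⊔ Ideal.span {Z}).comap (MvPolynomial.rename (R := R) (Option.some : σ → Option σ)) := by
        rw [Ideal.span_le]
        rintro _ ⟨h, rfl⟩
        change P h ∈ K ⊔ Ideal.span {Z}
        rw [show P h = (P h + Z * g h) + Z * (-g h) by ring]
        exact Submodule.add_mem_sup (Ideal.subset_span (Or.inr ⟨h, rfl⟩))
          (Ideal.mem_span_singleton'.2 ⟨-g h, mul_comm _ _⟩)
      exact hle (hp.ge hf₀)
    obtain ⟨k, hk, l, hl, hkl⟩ := Submodule.mem_sup.1 hf₀'
    obtain ⟨d, rfl⟩ := Ideal.mem_span_singleton'.1 hl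
    have hkK : η k = 0 := hKle hk
    rw [← hkl, add_assoc, mul_comm d Z, ← mul_add] at hF' ⊢
    refine add_mem hk ?_
    have h0 : a (ηZ (d + G)) = 0 := by
      rw [map_add, hkK, zero_add, map_mul] at hF'
      have := congrArg i hF'
      rw [map_mul, hiZ, map_zero] at this
      rw [hcomm]
      exact (mem_nonZeroDivisors_iff.1 hc).1 _ this
    have hmem : d + G ∈ Ideal.span (Set.range q ∪ Set.range v) := by
      have h1 : ηZ (d + G) ∈ (Ideal.span (Set.range q)).map ηZ := by
        rw [Ideal.map_span, ← Set.range_comp, show ηZ ∘ q = q' from funext hq]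
        exact hq'.ge h0
      obtain ⟨H, hH, hHeq⟩ := (Ideal.mem_map_iff_of_surjective ηZ hηZ).1 h1
      rw [show d + G = H + (d + G - H) by ring, Ideal.span_union]
      exact Submodule.add_mem_sup hH (hv.ge (by rw [RingHom.mem_ker, map_sub, hHeq, sub_self]))
    have hle : Ideal.span (Set.range q ∪ Set.range v) ≤ K.colon {Z} := by
      rw [Ideal.span_le]
      rintro _ (⟨h, rfl⟩ | ⟨h, rfl⟩) <;> rw [SetLike.mem_coe, Submodule.mem_colon_singleton, smul_eq_mul, mul_comm]
      · exact Ideal.subset_span (Or.inl (Or.inl ⟨h, rfl⟩))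
      · exact Ideal.subset_span (Or.inl (Or.inr ⟨h, rfl⟩))
    have := hle hmem
    rwa [Submodule.mem_colon_singleton, smul_eq_mul, mul_comm] at this

end Groth.Agent.S14309
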