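import Groth.Statements.S1431
import Groth.Agent.L20.DescLocus.Rep
import Groth.Agent.L18.LocFreeFP
import Groth.Agent.L29.DCoh.PCQCoh

set_option autoImplicit false
universe u
open FlatMor

set_option backward.isDefEq.respectTransparency.types false
namespace Groth.Agent.S1431

open AlgebraicGeometry CategoryTheory Limits in
/-- Let f : X → S be flat, proper and of finite presentation such that for every base change p : X_T → T
the map O_T → p_* O_{X_T} is an isomorphism, and let E be a finite locally free O_X-module. Then
some immersion j : Z → S of finite presentation has the property that a morphism g : T → S factors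
through j exactly when the pullback of E to X_T is isomorphic to the pullback along p of some finite
locally free O_T-module. -/
theorem result {X S : Scheme.{u}} (f : X ⟶ S) [Flat f] [IsProper f] [LocallyOfFinitePresentation f]
    (hO : ∀ (T : Scheme.{u}) (g : T ⟶ S) (U : T.Opens), IsIso ((pullback.snd f g).app U))
    (E : X.Modules) (hE : FlatMod.IsFinLocFree E) :
    ∃ (Z : Scheme.{u}) (j : Z ⟶ S), IsImmersion j ∧ LocallyOfFinitePresentation j ∧
      ∀ (T : Scheme.{u}) (g : T ⟶ S), (∃ g' : T ⟶ Z, g' ≫ j = g) ↔
        ∃ N : T.Modules, FlatMod.IsFinLocFree N ∧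
          Nonempty ((Scheme.Modules.pullback (pullback.snd f g)).obj N ≅ (Scheme.Modules.pullback (pullback.fst f g)).obj E) := by
  haveI := Groth.L17.PushQCoh.hasInjectiveResolutions X
  haveI : Coh.IsQCoh E := Groth.L29.DC.PCQCoh.isQCoh_of_isFinLocFree hE
  have hfp : CohB1.IsFP E := Groth.L18.LFP.isFP_of_isFinLocFree E hE
  have hfl : FlatMod.IsFlatOver f E := fun x => by
    letI := (f.stalkMap x).hom.toAlgebra
    letI := FlatMod.moduleStalkOver f E x
    haveI : IsScalarTower (S.presheaf.stalk (f x)) (X.presheaf.stalk x) (E.presheaf.stalk x) :=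
      IsScalarTower.of_algebraMap_smul fun _ _ => rfl
    haveI : Module.Flat (S.presheaf.stalk (f x)) (X.presheaf.stalk x) := Flat.stalkMap f x
    haveI : Module.Flat (X.presheaf.stalk x) (E.presheaf.stalk x) := Groth.L29.DC.isFlat_of_isFinLocFree hE x
    exact Module.Flat.trans (S.presheaf.stalk (f x)) (X.presheaf.stalk x) (E.presheaf.stalk x)
  obtain ⟨Z, j, h₁, h₂, h⟩ := Groth.L20.DescLocus.exists_subscheme f E hO hfp hfl hE
  exact ⟨Z, j, h₁, h₂, fun T g => (h T g).trans (Groth.L20.DescLocus.desc_iff f E hO hfp hfl hE g)⟩


end Groth.Agent.S1431
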