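import Groth.Statements.S14310
import Groth.Agent.L13.PlaneGermSquare

set_option autoImplicit false
universe u
open ArSing
open Groth.Agent.L13

namespace Groth.Agent.S14310

/-- Let k be an algebraically closed field, f a polynomial in two variables x = X_0, y = X_1 over k, and
a a point of k². The quotient of the power series ring k[[x,y]] by the polynomial f recentred at a
(which is the completed local ring at a of the plane curve f = 0) is isomorphic as a k-algebra to
k[[x,y]]/(y^2) if and only if f = g^2 h for polynomials g and h with h(a) ≠ 0, g(a) = 0 and some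
first partial derivative of g non-zero at a. (The published statement asks for the component through
a to be the square of a smooth plane curve; only smoothness at a matters and is what is stated here
— for the square of a nodal cubic the completed local ring at a smooth point of the cubic is still
k[[x,y]]/(y^2). No hypothesis on the characteristic of k is imposed; the published setting assumes a
characteristic different from 2, 3, 5 and 7, which the argument does not use.) -/
theorem result
    {k : Type u} [Field k] [IsAlgClosed k] (f : MvPolynomial (Fin 2) k) (a : Fin 2 → k) :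
    Nonempty ((MvPowerSeries (Fin 2) k ⧸ Ideal.span
        ({(MvPolynomial.aeval (fun i : Fin 2 => MvPolynomial.X i + MvPolynomial.C (a i)) f).toMvPowerSeries} :
          Set (MvPowerSeries (Fin 2) k))) ≃ₐ[k]
      (MvPowerSeries (Fin 2) k ⧸ Ideal.span ({MvPowerSeries.X 1 ^ 2} : Set (MvPowerSeries (Fin 2) k)))) ↔
    ∃ g h : MvPolynomial (Fin 2) k, f = g ^ 2 * h ∧ MvPolynomial.eval a h ≠ 0 ∧ MvPolynomial.eval a g = 0 ∧
      ∃ i : Fin 2, MvPolynomial.eval a (MvPolynomial.pderiv i g) ≠ 0 := by
  constructor
  · rintro ⟨e⟩
    obtain ⟨G, hG0, hG1, hG⟩ := PlaneGerm.exists_sq_of_equiv e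
    exact PlaneGerm.exists_decomp_of_germ a hG0 hG1 hG
  · rintro ⟨g, h, hf, hh, hg, i, hi⟩
    obtain ⟨φ, hφ⟩ := PlaneGerm.exists_aut_X_one (G := PlaneGerm.germ a g)
      (by rw [PlaneGerm.constantCoeff_germ, hg]) ⟨i, by rw [PlaneGerm.lc_germ]; exact hi⟩
    obtain ⟨u, hu⟩ := PlaneGerm.isUnit_iff.mpr
      (show MvPowerSeries.constantCoeff (PlaneGerm.germ a h) ≠ 0 by
        rw [PlaneGerm.constantCoeff_germ]; exact hh)
    obtain ⟨e⟩ := PlaneGerm.nonempty_equiv_of_map φ (F := MvPowerSeries.X 1 ^ 2)
      (F' := PlaneGerm.germ a f) ⟨u, by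
        rw [map_pow, hφ, hu, hf, sq, sq, PlaneGerm.germ_mul, PlaneGerm.germ_mul]⟩
    exact ⟨e.symm⟩

end Groth.Agent.S14310
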