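import Groth.Statements.S14311
import Groth.Agent.L13.PlaneGermNormal
import Groth.Agent.L13.PlaneGermPoly

set_option autoImplicit false
universe u
open ArSing
open Groth.Agent.L13

namespace Groth.Agent.S14311

/-- Let k be an algebraically closed field in which 2 ≠ 0, f a polynomial in x = X_0, y = X_1 over k and
a a zero of f in k². Then the gradient and all second partial derivatives of f vanish at a if and
only if the completed local ring k[[x,y]]/(f recentred at a) of the plane curve f = 0 at a is
isomorphic as a k-algebra neither to k[[x,y]]/(y^2 - x^(n+1)) for any natural number n nor to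
k[[x,y]]/(y^2). (Here n = 0, a smooth point, is allowed; with n ≥ 1 only, as in the published
definition of an A-singularity, the equivalence fails at smooth points of the curve. Only 2 ≠ 0 is
assumed of the characteristic; the published setting assumes a characteristic different from 2, 3, 5
and 7.) -/
theorem result
    {k : Type u} [Field k] [IsAlgClosed k] (h2 : (2 : k) ≠ 0) (f : MvPolynomial (Fin 2) k) (a : Fin 2 → k)
    (hfa : MvPolynomial.eval a f = 0) :
    ((∀ i : Fin 2, MvPolynomial.eval a (MvPolynomial.pderiv i f) = 0) ∧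
      ∀ i j : Fin 2, MvPolynomial.eval a (MvPolynomial.pderiv i (MvPolynomial.pderiv j f)) = 0) ↔
    ¬ ((∃ n : ℕ, Nonempty ((MvPowerSeries (Fin 2) k ⧸ Ideal.span
        ({(MvPolynomial.aeval (fun i : Fin 2 => MvPolynomial.X i + MvPolynomial.C (a i)) f).toMvPowerSeries} :
          Set (MvPowerSeries (Fin 2) k))) ≃ₐ[k] ArSing.ring k n)) ∨
        Nonempty ((MvPowerSeries (Fin 2) k ⧸ Ideal.span
        ({(MvPolynomial.aeval (fun i : Fin 2 => MvPolynomial.X i + MvPolynomial.C (a i)) f).toMvPowerSeries} :
          Set (MvPowerSeries (Fin 2) k))) ≃ₐ[k]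
          (MvPowerSeries (Fin 2) k ⧸ Ideal.span ({MvPowerSeries.X 1 ^ 2} : Set (MvPowerSeries (Fin 2) k))))) := by
  rw [← PlaneGerm.order_germ_iff h2 a f hfa]
  have h0 : MvPowerSeries.constantCoeff (PlaneGerm.germ a f) = 0 := by
    rw [PlaneGerm.constantCoeff_germ, hfa]
  have hlow : ∀ G : MvPowerSeries (Fin 2) k,
      MvPowerSeries.coeff (Finsupp.single 1 2) G = 1 → ¬ ((3 : ℕ) : ℕ∞) ≤ G.order := fun G hG h => by
    have := MvPowerSeries.coeff_of_lt_order (f := G) (d := Finsupp.single 1 2)
      (lt_of_lt_of_le (by simp; norm_num) h)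
    exact one_ne_zero (hG.symm.trans this)
  constructor
  · rintro h (⟨n, hn⟩ | hy)
    · obtain ⟨e⟩ := hn
      refine hlow (ArSing.eqn k n) ?_ (PlaneGerm.order_three_of_equiv h ?_ e)
      · classical
        have hne : ¬ (Finsupp.single 1 2 : Fin 2 →₀ ℕ) = Finsupp.single 0 (n + 1) := fun e => by
          simpa using DFunLike.congr_fun e 1
        simp [ArSing.eqn, MvPowerSeries.coeff_X_pow, hne, -Finsupp.single_add]
      · simp [ArSing.eqn]
    · obtain ⟨e⟩ := hy
      refine hlow (MvPowerSeries.X 1 ^ 2) ?_ (PlaneGerm.order_three_of_equiv h ?_ e)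
      · classical
        simp [MvPowerSeries.coeff_X_pow]
      · simp
  · intro h
    by_contra h'
    exact h (PlaneGerm.isASing_of_not_order_three h2 h0 h')

end Groth.Agent.S14311
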