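import Groth.Statements.S14312
import Groth.Agent.L28.SingBound.Main

set_option autoImplicit false
universe u
open Curves

namespace Groth.Agent.S14312

/-- Over an algebraically closed field k, a reduced plane quartic — the zero locus in the projective
plane of a square-free homogeneous polynomial f of degree 4 in three variables — has at most 6
singular points, a singular point being a point of the projective plane at which f and its three
first partial derivatives vanish. (No hypothesis on the characteristic of k is imposed here. The
further assertions describing the quartics with exactly 5 or exactly 6 singular points are not part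
of this row.) -/
theorem result
    {k : Type u} [Field k] [IsAlgClosed k] (f : MvPolynomial (Fin 3) k)
    (hf : f.IsHomogeneous 4) (hred : Squarefree f) :
    ∃ s : Finset (Projectivization k (Fin 3 → k)), s.card ≤ 6 ∧
      ∀ p : Projectivization k (Fin 3 → k),
        MvPolynomial.eval p.rep f = 0 →
          (∀ i : Fin 3, MvPolynomial.eval p.rep (MvPolynomial.pderiv i f) = 0) → p ∈ s := by
  classical
  let S : Set (Projectivization k (Fin 3 → k)) :=
    {p | MvPolynomial.eval p.rep f = 0 ∧ ∀ i : Fin 3, MvPolynomial.eval p.rep (MvPolynomial.pderiv i f) = 0}
  have hbound : ∀ t : Finset (Projectivization k (Fin 3 → k)), ↑t ⊆ S → t.card ≤ 6 := by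
    intro t ht
    have hinj : Function.Injective (Projectivization.rep : Projectivization k (Fin 3 → k) → Fin 3 → k) :=
      fun p q h => by rw [← p.mk_rep, ← q.mk_rep]; simp only [h]
    have := Groth.L28.SingBound.two_mul_card_le 4 le_rfl f hf hred (t.image Projectivization.rep)
      (fun v hv w hw hvw => by
        obtain ⟨p, hp, rfl⟩ := Finset.mem_image.1 hv
        obtain ⟨q, hq, rfl⟩ := Finset.mem_image.1 hw
        have hpq : p ≠ q := fun h => hvw (by rw [h])
        rw [← Projectivization.independent_pair_iff_ne, Projectivization.independent_iff] at hpq
        have heq : Projectivization.rep ∘ ![p, q] = ![p.rep, q.rep] := by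
          funext i
          fin_cases i <;> rfl
        rw [heq] at hpq
        exact hpq)
      (fun v hv => by
        obtain ⟨p, hp, rfl⟩ := Finset.mem_image.1 hv
        exact ⟨p.rep_nonzero, ht hp⟩)
    rw [Finset.card_image_of_injective _ hinj] at this
    omega
  have hfin : S.Finite := by
    by_contra h
    obtain ⟨t, ht, ht7⟩ := Set.Infinite.exists_subset_card_eq h 7
    have := hbound t ht
    omega
  exact ⟨hfin.toFinset, hbound _ (by simp), fun p h1 h2 => hfin.mem_toFinset.2 ⟨h1, h2⟩⟩

end Groth.Agent.S14312
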