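import Groth.Statements.S14313
import Groth.Agent.L03.SurfNum.Fibre
import Groth.Agent.L03.SurfAmple.Product
import Groth.Agent.L03.SurfAmple.Exists
import Groth.Agent.L04.KSh.Div.Twisted
import Groth.Agent.L08.Cube.AmpleDiv
import Groth.Agent.L22.Nef.Kleiman
-- import your own Groth.Agent.* helpers here

set_option autoImplicit false
universe u
open CategoryTheory CategoryTheory.Limits AlgebraicGeometry TopologicalSpace
open Surf

namespace Groth.Agent.S14313

open Groth.L22.Inter Groth.L22.Nef Groth.L22.Big Groth.L03.Euler Groth.L03.SurfNum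
open Groth.L00.Tensor (tensorIso tensorComm)

/-- Let k be an algebraically closed field, S a smooth projective surface over k (integral, proper and
smooth over k, of dimension 2), f : S → C a surjective k-morphism onto a smooth projective curve
(integral, proper and smooth over k, of dimension 1) and F = f⁻¹(p) the fibre over a closed point p,
with O_S(F) a tensor inverse of its ideal sheaf. Let D be a divisor (L = O_S(D) an invertible
module), Z_1 ≥ Z_2 ≥ ⋯ ≥ Z_n ≥ Z_{n+1} = 0 effective Cartier divisors (ideal sheaves I_1 ⊆ I_2 ⊆ ⋯ ⊆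
I_{n+1} = O_S) and μ_1 > μ_2 > ⋯ > μ_n > μ_{n+1} = 0 rational numbers such that every N_i = D − Z_i
− μ_i F (1 ≤ i ≤ n + 1) is a nef ℚ-divisor: (D·Γ) − (Z_i·Γ) − μ_i (F·Γ) ≥ 0 for every integral curve
Γ ⊆ S, where (L·Γ) = χ(O_Γ ⊗ L) − χ(O_Γ) and (Z_i·Γ) = −(I_i·Γ). Put d_i = N_i·F = (D·F) − (Z_i·F) −
μ_i (F·F). Then D² ≥ Σ_{i=1}^{n} (d_i + d_{i+1})(μ_i − μ_{i+1}); here (L·M) = χ(O_S) − χ(L) − χ(M) +
χ(L ⊗ M) for invertible L, M, packaged as FGA.intNum. (Indices run over Fin (n+1), position i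
standing for i + 1.) (The published statement is for the chapter's fibration, with connected fibres,
semi-stable and relatively minimal, over an algebraically closed field of positive characteristic;
this row asks only that f be surjective and allows any algebraically closed field.) -/
theorem result (k : Type u) [Field k] [IsAlgClosed k]
    (S : Scheme.{u}) [S.Over (Spec (CommRingCat.of k))] [IsProper (S ↘ (Spec (CommRingCat.of k)))]
    [Smooth (S ↘ (Spec (CommRingCat.of k)))] [IsIntegral S] (hdim : topologicalKrullDim S = 2)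
    (C : Scheme.{u}) [C.Over (Spec (CommRingCat.of k))] [IsProper (C ↘ (Spec (CommRingCat.of k)))]
    [Smooth (C ↘ (Spec (CommRingCat.of k)))] [IsIntegral C] (hdimC : topologicalKrullDim C = 1)
    (f : S ⟶ C) [f.IsOver (Spec (CommRingCat.of k))] [Surjective f]
    (p : C) (hp : IsClosed ({p} : Set C))
    (LF : S.Modules) (hLF : ClSub.IsInverseOf LF (ClSub.idealMod (f.fiberι p).ker))
    (L : S.Modules) (hL : PicF.IsInvertible L)
    (n : ℕ) (Z : Fin (n + 1) → S.IdealSheafData) (hZ : ∀ i, FGA.IsEffCartier (Z i))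
    (hZmono : Monotone Z) (hZlast : Z (Fin.last n) = ⊤)
    (μ : Fin (n + 1) → ℚ) (hμ : StrictAnti μ) (hμlast : μ (Fin.last n) = 0)
    (hnef : ∀ (i : Fin (n + 1)) (Γ : S.IdealSheafData), IsIntegral Γ.subscheme →
      topologicalKrullDim (Γ.support : Set S) = 1 →
      (0 : ℚ) ≤ ((Curv2.euler k S (CohB1.tensorMod (ClSub.quotMod Γ) L) - Curv2.euler k S (ClSub.quotMod Γ)) : ℚ) + ((Curv2.euler k S (CohB1.tensorMod (ClSub.quotMod Γ) (ClSub.idealMod (Z i))) - Curv2.euler k S (ClSub.quotMod Γ)) : ℚ)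
        - μ i * ((Curv2.euler k S (CohB1.tensorMod (ClSub.quotMod Γ) LF) - Curv2.euler k S (ClSub.quotMod Γ)) : ℚ)) :
    (Finset.univ.sum fun i : Fin n =>
        (((FGA.intNum k S 2 ![L, LF] (Coh.structureModule S) : ℚ) + (FGA.intNum k S 2 ![ClSub.idealMod (Z i.castSucc), LF] (Coh.structureModule S) : ℚ) - μ i.castSucc * (FGA.intNum k S 2 ![LF, LF] (Coh.structureModule S) : ℚ))
          + ((FGA.intNum k S 2 ![L, LF] (Coh.structureModule S) : ℚ) + (FGA.intNum k S 2 ![ClSub.idealMod (Z i.succ), LF] (Coh.structureModule S) : ℚ) - μ i.succ * (FGA.intNum k S 2 ![LF, LF] (Coh.structureModule S) : ℚ)))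
        * (μ i.castSucc - μ i.succ)) ≤ (FGA.intNum k S 2 ![L, L] (Coh.structureModule S) : ℚ) := by
  have hd2 : topologicalKrullDim S = (2 : ℕ) := hdim.trans Nat.cast_ofNat.symm
  have hd := hd2.le
  haveI := Groth.L21.RR.isNoetherian_of_proper (X := S) k
  obtain ⟨H, hH⟩ := Groth.L03.SurfAmple.exists_ample_of_smooth k S hdim
  have hreg := fun z => Groth.L08.Cube.isRegularLocalRing_of_smooth (S ↘ Spec (CommRingCat.of k)) z
  obtain ⟨hIF, -, -, -⟩ := fibre_ideal k hdimC f hp
  obtain ⟨e⟩ := id hLF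
  have hLF' : PicF.IsInvertible LF := Groth.L22.EnrSev.isInvertible_of_inverse hIF (tensorComm _ _ ≪≫ e)
  have hI : ∀ i, PicF.IsInvertible (ClSub.idealMod (Z i)) := fun i =>
    (Groth.Agent.L19.IdealInvertible.isEffCartier_iff _).2 (hZ i)
  let I : Fin (n + 1) → S.Modules := fun i => ClSub.idealMod (Z i)
  let φ : Fin (n + 1) → S.Modules → ℚ := fun i B => ii k L B + ii k (I i) B - μ i * ii k LF B
  let Q : Fin (n + 1) → ℚ := fun i => φ i L + φ i (I i) - μ i * φ i LF
  -- an integral multiple of each class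
  have hN : ∀ i, ∃ (N : S.Modules) (b : ℕ), 0 < b ∧ IsNef k N ∧
      ∀ B : S.Modules, PicF.IsInvertible B → ii k N B = b * φ i B := by
    intro i
    have hμ0 : 0 ≤ μ i := hμlast ▸ hμ.antitone (Fin.le_last i)
    obtain ⟨a, ha⟩ := Int.eq_ofNat_of_zero_le (Rat.num_nonneg.2 hμ0)
    let b := (μ i).den
    have hab : (b : ℚ) * μ i = a := by
      rw [mul_comm, Rat.mul_den_eq_num, ha]
      simp
    have hA := Groth.L18.GenLoc.isInvertible_tensor hL (hI i)
    let IF := ClSub.idealMod (f.fiberι p).ker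
    have hAb := Groth.L18.Ample.isInvertible_tensorPow hA b
    have hFa := Groth.L18.Ample.isInvertible_tensorPow hIF a
    let N := CohB1.tensorMod (CohB1.tensorPow (CohB1.tensorMod L (I i)) b) (CohB1.tensorPow IF a)
    have hform : ∀ B : S.Modules, PicF.IsInvertible B → ii k N B = b * φ i B := fun B hB => by
      have hinv := Gram.ii_inverse k hd hIF hLF' hB (tensorComm _ _ ≪≫ e)
      rw [ii_tensor k hd hAb hFa hB, ii_pow k hd hA hB, ii_pow k hd hIF hB, ii_tensor k hd hL (hI i) hB,
        show ii k IF B = - ii k LF B from by rw [hinv, neg_neg]]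
      show _ = (b : ℚ) * (ii k L B + ii k (I i) B - μ i * ii k LF B)
      rw [← hab]
      ring
    refine ⟨N, b, (μ i).den_pos, (isNef_iff (k := k) (Groth.L18.GenLoc.isInvertible_tensor hAb hFa)).2 fun Γ hΓ hΓd => ?_, hform⟩
    haveI := hΓ
    have hΓi : PicF.IsInvertible (ClSub.idealMod Γ) := Groth.L03.SurfNum.isInvertible_idealMod k hd2 hreg Γ hΓd
    have hdeg : ∀ {M : S.Modules}, PicF.IsInvertible M →
        ((Curv2.euler k S (CohB1.tensorMod (ClSub.quotMod Γ) M) - Curv2.euler k S (ClSub.quotMod Γ) : ℤ) : ℚ) =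
          - ii k (ClSub.idealMod Γ) M := fun hM => Gram.deg_eq k Γ hΓi hM
    have h := hnef i Γ hΓ hΓd
    have c : ∀ a b : ℤ, ((a : ℚ) - (b : ℚ)) = ((a - b : ℤ) : ℚ) := fun a b => (Int.cast_sub a b).symm
    rw [c, c, c, hdeg hL, hdeg (hI i), hdeg hLF'] at h
    refine (Int.cast_nonneg_iff (R := ℚ)).1 ?_
    rw [hdeg (Groth.L18.GenLoc.isInvertible_tensor hAb hFa), ii_comm, hform _ hΓi]
    show 0 ≤ -((b : ℚ) * (ii k L (ClSub.idealMod Γ) + ii k (I i) (ClSub.idealMod Γ) - μ i * ii k LF (ClSub.idealMod Γ)))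
    rw [ii_comm k L, ii_comm k (I i), ii_comm k LF]
    have := mul_nonneg (Nat.cast_nonneg (α := ℚ) b) h
    linarith
  -- squares are nonnegative
  have hQ : ∀ i, 0 ≤ Q i := fun i => by
    obtain ⟨N, b, hb, hnefN, hform⟩ := hN i
    have h0 : 0 ≤ ii k N N := ii_vec k N N ▸ altT_nonneg (k := k) hH (L := ![N, N])
      (fun j => by fin_cases j <;> exact hnefN) Groth.L16.CohClosedPush.isCoh_structure
      ((Groth.L22.Nakai.dim_support_structure S).trans_le hd)
    have h1 : ∀ B : S.Modules, PicF.IsInvertible B → ii k B N = b * φ i B := fun B hB => by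
      rw [ii_comm]; exact hform B hB
    have h2 : φ i N = b * Q i := by
      show ii k L N + ii k (I i) N - μ i * ii k LF N = (b : ℚ) * (φ i L + φ i (I i) - μ i * φ i LF)
      rw [h1 L hL, h1 _ (hI i), h1 LF hLF']
      ring
    rw [hform N hnefN.1, h2] at h0
    have hb' : (0 : ℚ) < b := Nat.cast_pos.2 hb
    exact nonneg_of_mul_nonneg_right (nonneg_of_mul_nonneg_right h0 hb') hb'
  -- monotonicity
  have hmono : ∀ (i j l : Fin (n + 1)), j ≤ l → φ i (I j) ≤ φ i (I l) := by
    intro i j l hjl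
    obtain ⟨N, b, hb, hnefN, hform⟩ := hN i
    let s := Groth.L04.KSh.inclMap (I := Z l) (J := Z j) fun V => hZmono hjl V
    haveI : Mono (ClSub.idealModι (Z j)) := inferInstanceAs (Mono (kernel.ι _))
    haveI : Mono s := mono_of_mono_fac (Groth.L04.KSh.inclMap_ι (I := Z l) (J := Z j) fun V => hZmono hjl V)
    obtain ⟨hQc, hη⟩ := cokernel_facts k (hI j) (hI l) s
    have h0 : 0 ≤ altT k (fun _ : Fin 1 => N) (cokernel s) := altT_nonneg (k := k) hH (fun _ => hnefN) hQc
      (dim_le_of_generic_notMem (Groth.L16.CohSupport.isClosed_support _ hQc.2) hη hd)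
    have hmap := altT_map k (L := fun _ : Fin 1 => N) (fun _ => hnefN.1)
      (Groth.L18.Ample.isCoh_of_isInvertible (hI j)) (Groth.L18.Ample.isCoh_of_isInvertible (hI l)) s
    have hk0 : altT k (fun _ : Fin 1 => N) (kernel s) = 0 := by
      rw [altT, twEuler_of_isZero k (fun _ => hnefN.1) (isZero_kernel_of_mono s), map_zero]
    rw [hk0] at hmap
    have e1 := ii_eq_sub k (I j) N
    have e2 := ii_eq_sub k (I l) N
    have e3 : ii k (I j) N ≤ ii k (I l) N := by linarith
    rw [ii_comm k (I j), ii_comm k (I l), hform _ (hI j), hform _ (hI l)] at e3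
    exact le_of_mul_le_mul_left e3 (Nat.cast_pos.2 hb)
  have hstep : ∀ i : Fin n, (φ i.castSucc LF + φ i.succ LF) * (μ i.castSucc - μ i.succ) ≤ Q i.succ - Q i.castSucc := by
    intro i
    have hle : i.castSucc ≤ i.succ := (Fin.castSucc_lt_succ).le
    have a1 := hmono i.castSucc _ _ hle
    have a2 := hmono i.succ _ _ hle
    simp only [Q, φ, ii_comm k _ L, ii_comm k (I i.succ) (I i.castSucc), ii_comm k LF (I i.castSucc),
      ii_comm k LF (I i.succ), ii_comm k LF L] at a1 a2 ⊢
    nlinarith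
  have hlast : Q (Fin.last n) = ii k L L := by
    have htop : ∀ B : S.Modules, PicF.IsInvertible B → ii k (I (Fin.last n)) B = 0 := fun B hB => by
      have h := Groth.L03.SurfAmple.ii_ideal_mul k hd (hZ (Fin.last n)) (hZ (Fin.last n)) hB
      rw [show Z (Fin.last n) * Z (Fin.last n) = Z (Fin.last n) from by
        rw [hZlast]; simp [← Scheme.IdealSheafData.one_eq_top]] at h
      show ii k (ClSub.idealMod (Z (Fin.last n))) B = 0
      linarith
    simp only [Q, φ, hμlast]
    rw [ii_comm k L (I (Fin.last n)), htop L hL, htop _ (hI _)]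
    ring
  have htel : ∑ i : Fin n, (Q i.succ - Q i.castSucc) = Q (Fin.last n) - Q 0 := by
    have h1 := Fin.sum_univ_succ Q
    have h2 := Fin.sum_univ_castSucc Q
    rw [Finset.sum_sub_distrib]
    linarith
  simp only [intNum_eq_ii k hd]
  refine le_trans (Finset.sum_le_sum fun i _ => hstep i) ?_
  rw [htel, hlast]
  linarith [hQ 0]

end Groth.Agent.S14313
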