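import Groth.Statements.S14314
import Groth.Agent.L03.SurfNum.Fibre
import Groth.Agent.L03.SurfAmple.Product
import Groth.Agent.L08.Cube.AmpleDiv
-- import your own Groth.Agent.* helpers here

set_option autoImplicit false
universe u
open CategoryTheory CategoryTheory.Limits AlgebraicGeometry TopologicalSpace
open Surf

namespace Groth.Agent.S14314

open Groth.L22.Inter Groth.L22.Nef Groth.L22.Big Groth.L03.Euler Groth.L03.SurfNum
open Groth.L00.Tensor (tensorIso tensorAssoc tensorComm tensorUnitRight tensorUnitLeft)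

/-- Let k be an algebraically closed field, S a smooth projective surface over k (integral, proper and
smooth over k, of dimension 2), f : S → C a surjective k-morphism onto a smooth projective curve and
F = f⁻¹(p) the fibre over a closed point p, with O_S(F) a tensor inverse of its ideal sheaf. Let
D_1, D_2 be numerically equivalent divisors (invertible modules L_1, L_2 with (L_1·Γ) = (L_2·Γ) for
every integral curve Γ ⊆ S, where (L·Γ) = χ(O_Γ ⊗ L) − χ(O_Γ)), μ_1 ≥ μ_2 rational numbers and Z_1,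
Z_2 effective Cartier divisors with common part Z, that is Z_i = Z + Y_i with Z, Y_1, Y_2 effective
Cartier divisors and Y_1, Y_2 without common component (Y_1 ∩ Y_2 finite); in terms of ideal sheaves
I_{Z_i} = I_Z · I_{Y_i}. If N_i = D_i − Z_i − μ_i F is nef for i = 1, 2, that is (D_i·Γ) +
(I_{Z_i}·Γ) − μ_i (F·Γ) ≥ 0 for every integral curve Γ, then N = D_2 − Z − μ_2 F is nef. (The
published statement is for the chapter's fibration over an algebraically closed field of positive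
characteristic; this row asks only that f be surjective and allows any algebraically closed field.) -/
theorem result (k : Type u) [Field k] [IsAlgClosed k]
    (S : Scheme.{u}) [S.Over (Spec (CommRingCat.of k))] [IsProper (S ↘ (Spec (CommRingCat.of k)))]
    [Smooth (S ↘ (Spec (CommRingCat.of k)))] [IsIntegral S] (hdim : topologicalKrullDim S = 2)
    (C : Scheme.{u}) [C.Over (Spec (CommRingCat.of k))] [IsProper (C ↘ (Spec (CommRingCat.of k)))]
    [Smooth (C ↘ (Spec (CommRingCat.of k)))] [IsIntegral C] (hdimC : topologicalKrullDim C = 1)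
    (f : S ⟶ C) [f.IsOver (Spec (CommRingCat.of k))] [Surjective f]
    (p : C) (hp : IsClosed ({p} : Set C))
    (LF : S.Modules) (hLF : ClSub.IsInverseOf LF (ClSub.idealMod (f.fiberι p).ker))
    (L₁ L₂ : S.Modules) (hL₁ : PicF.IsInvertible L₁) (hL₂ : PicF.IsInvertible L₂)
    (hnum : ∀ Γ : S.IdealSheafData, IsIntegral Γ.subscheme → topologicalKrullDim (Γ.support : Set S) = 1 →
      (Curv2.euler k S (CohB1.tensorMod (ClSub.quotMod Γ) L₁) - Curv2.euler k S (ClSub.quotMod Γ)) = (Curv2.euler k S (CohB1.tensorMod (ClSub.quotMod Γ) L₂) - Curv2.euler k S (ClSub.quotMod Γ)))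
    (μ₁ μ₂ : ℚ) (hμ : μ₂ ≤ μ₁)
    (Z Y₁ Y₂ Z₁ Z₂ : S.IdealSheafData) (hZ : FGA.IsEffCartier Z) (hY₁ : FGA.IsEffCartier Y₁) (hY₂ : FGA.IsEffCartier Y₂)
    (hZ₁ : Z₁ = Z * Y₁) (hZ₂ : Z₂ = Z * Y₂) (hY : ((Y₁ ⊔ Y₂).support : Set S).Finite)
    (hnef₁ : (∀ Γ : S.IdealSheafData, IsIntegral Γ.subscheme → topologicalKrullDim (Γ.support : Set S) = 1 →
      (0 : ℚ) ≤ ((Curv2.euler k S (CohB1.tensorMod (ClSub.quotMod Γ) L₁) - Curv2.euler k S (ClSub.quotMod Γ)) : ℚ) + ((Curv2.euler k S (CohB1.tensorMod (ClSub.quotMod Γ) (ClSub.idealMod Z₁)) - Curv2.euler k S (ClSub.quotMod Γ)) : ℚ)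
        - μ₁ * ((Curv2.euler k S (CohB1.tensorMod (ClSub.quotMod Γ) LF) - Curv2.euler k S (ClSub.quotMod Γ)) : ℚ)))
    (hnef₂ : (∀ Γ : S.IdealSheafData, IsIntegral Γ.subscheme → topologicalKrullDim (Γ.support : Set S) = 1 →
      (0 : ℚ) ≤ ((Curv2.euler k S (CohB1.tensorMod (ClSub.quotMod Γ) L₂) - Curv2.euler k S (ClSub.quotMod Γ)) : ℚ) + ((Curv2.euler k S (CohB1.tensorMod (ClSub.quotMod Γ) (ClSub.idealMod Z₂)) - Curv2.euler k S (ClSub.quotMod Γ)) : ℚ)
        - μ₂ * ((Curv2.euler k S (CohB1.tensorMod (ClSub.quotMod Γ) LF) - Curv2.euler k S (ClSub.quotMod Γ)) : ℚ))) :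
    (∀ Γ : S.IdealSheafData, IsIntegral Γ.subscheme → topologicalKrullDim (Γ.support : Set S) = 1 →
      (0 : ℚ) ≤ ((Curv2.euler k S (CohB1.tensorMod (ClSub.quotMod Γ) L₂) - Curv2.euler k S (ClSub.quotMod Γ)) : ℚ) + ((Curv2.euler k S (CohB1.tensorMod (ClSub.quotMod Γ) (ClSub.idealMod Z)) - Curv2.euler k S (ClSub.quotMod Γ)) : ℚ)
        - μ₂ * ((Curv2.euler k S (CohB1.tensorMod (ClSub.quotMod Γ) LF) - Curv2.euler k S (ClSub.quotMod Γ)) : ℚ)) := by
  have hd2 : topologicalKrullDim S = (2 : ℕ) := hdim.trans Nat.cast_ofNat.symm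
  have hd := hd2.le
  haveI := Groth.L21.RR.isNoetherian_of_proper (X := S) k
  have hinv : ∀ {I : S.IdealSheafData}, FGA.IsEffCartier I → PicF.IsInvertible (ClSub.idealMod I) :=
    fun h => (Groth.Agent.L19.IdealInvertible.isEffCartier_iff _).2 h
  intro Γ hΓi hΓd
  haveI := hΓi
  have hΓ : PicF.IsInvertible (ClSub.idealMod Γ) := Groth.L03.SurfNum.isInvertible_idealMod k hd2
    (fun z => Groth.L08.Cube.isRegularLocalRing_of_smooth (S ↘ Spec (CommRingCat.of k)) z) Γ hΓd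
  obtain ⟨hIF, -, -, -⟩ := fibre_ideal k hdimC f hp
  obtain ⟨e⟩ := id hLF
  have hLF' : PicF.IsInvertible LF := Groth.L22.EnrSev.isInvertible_of_inverse hIF (tensorComm _ _ ≪≫ e)
  -- degrees as intersection numbers
  have hdeg : ∀ {L : S.Modules}, PicF.IsInvertible L →
      ((Curv2.euler k S (CohB1.tensorMod (ClSub.quotMod Γ) L) - Curv2.euler k S (ClSub.quotMod Γ) : ℤ) : ℚ) =
        - ii k (ClSub.idealMod Γ) L := fun hL => Gram.deg_eq k Γ hΓ hL
  have hZ₁' : PicF.IsInvertible (ClSub.idealMod (Z * Y₁)) :=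
    hinv (Groth.L22.Ideals.isEffCartier_mul hZ hY₁)
  have hZ₂' : PicF.IsInvertible (ClSub.idealMod (Z * Y₂)) :=
    hinv (Groth.L22.Ideals.isEffCartier_mul hZ hY₂)
  have a₁ := Groth.L03.SurfAmple.ii_ideal_mul k hd hZ hY₁ hΓ
  have a₂ := Groth.L03.SurfAmple.ii_ideal_mul k hd hZ hY₂ hΓ
  simp only [ii_comm k _ (ClSub.idealMod Γ)] at a₁ a₂
  -- the fibre class is nonnegative on curves
  have hF : ii k (ClSub.idealMod Γ) LF ≤ 0 := by
    by_cases h : (Γ.support : Set S) ⊆ f ⁻¹' {p}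
    · have h1 := fibre_deg_zero k hdimC f hp hLF Γ hΓd h
      rw [← Gram.deg_euler, hdeg hLF'] at h1
      linarith
    · have h1 := Gram.inv_pair_nonneg k hd _ Γ hIF hΓd hΓ (by rw [(fibre_ideal k hdimC f hp).2.2.1]; exact h)
      have h2 := Gram.ii_inverse k hd hIF hLF' hΓ (tensorComm _ _ ≪≫ e)
      rw [ii_comm]
      linarith
  have n₁ := hnef₁ Γ hΓi hΓd
  have n₂ := hnef₂ Γ hΓi hΓd
  have hL := hnum Γ hΓi hΓd
  subst hZ₁ hZ₂
  have c : ∀ a b : ℤ, ((a : ℚ) - (b : ℚ)) = ((a - b : ℤ) : ℚ) := fun a b => (Int.cast_sub a b).symm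
  have hL' := congrArg (Int.cast : ℤ → ℚ) hL
  rw [hdeg hL₁, hdeg hL₂] at hL'
  rw [c, c, c, hdeg hL₁, hdeg hZ₁', hdeg hLF'] at n₁
  rw [c, c, c, hdeg hL₂, hdeg hZ₂', hdeg hLF'] at n₂
  rw [c, c, c, hdeg hL₂, hdeg (hinv hZ), hdeg hLF']
  have hμF : (μ₁ - μ₂) * ii k (ClSub.idealMod Γ) LF ≤ 0 := mul_nonpos_of_nonneg_of_nonpos (by linarith) hF
  by_cases h₂ : (Γ.support : Set S) ⊆ (Y₂.support : Set S)
  · have h₁ : ¬ (Γ.support : Set S) ⊆ (Y₁.support : Set S) := by
      intro h₁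
      have hfin : (Γ.support : Set S).Finite := hY.subset fun x hx => by
        rw [Scheme.IdealSheafData.support_sup]
        exact ⟨h₁ hx, h₂ hx⟩
      haveI := hfin.to_subtype
      haveI : Finite Γ.subscheme := Finite.of_injective
        (fun z => (⟨Γ.subschemeι z, by
          rw [← Scheme.IdealSheafData.range_subschemeι]; exact Set.mem_range_self z⟩ : (Γ.support : Set S)))
        (fun a b h => Γ.subschemeι.isEmbedding.injective (congrArg Subtype.val h))
      haveI : JacobsonSpace Γ.subscheme :=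
        LocallyOfFiniteType.jacobsonSpace (Γ.subschemeι ≫ (S ↘ Spec (CommRingCat.of k)))
      have h0 := topologicalKrullDim_zero_of_discreteTopology Γ.subscheme
      have hd' : topologicalKrullDim Γ.subscheme = (1 : ℕ) := by
        rw [← dim_closure_image Γ.subschemeι, ← dim_support Γ, hΓd, Nat.cast_one]
      rw [hd'] at h0
      exact absurd (WithBot.coe_le_coe.1 h0) (by simp)
    have hy := Gram.inv_pair_nonneg k hd Y₁ Γ (hinv hY₁) hΓd hΓ h₁
    rw [ii_comm] at hy
    nlinarith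
  · have hy := Gram.inv_pair_nonneg k hd Y₂ Γ (hinv hY₂) hΓd hΓ h₂
    rw [ii_comm] at hy
    nlinarith

end Groth.Agent.S14314
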