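import Groth.Statements.S16049
import Groth.Agent.L05.Point.FibreGlobal
-- import your own Groth.Agent.* helpers here

set_option autoImplicit false
universe u
open CategoryTheory Limits AlgebraicGeometry
open FlatMor

namespace Groth.Agent.S16049

/-- Let g : Y → S and h : X → S be locally of finite presentation with h flat, let f : X → Y be an
S-morphism and s a point of S such that the fibre map X_s → Y_s is smooth. Then f is smooth on an
open subscheme of X containing the whole fibre of h over s. (The published statement, for schemes of
finite type over a complete discrete valuation ring and s the closed point, concludes that f is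
smooth everywhere; that fails because schemes of finite type over a discrete valuation ring have
closed points in the generic fibre — the dual numbers over the fraction field K, mapped to Spec K,
are flat and of finite type over the valuation ring with empty closed fibre and are not smooth over
Spec K. The printed argument establishes smoothness exactly at the points over s, which is what is
stated here, over an arbitrary base.) -/
theorem result {X Y S : Scheme.{u}} (g : Y ⟶ S) (h : X ⟶ S)
    [LocallyOfFinitePresentation g] [LocallyOfFinitePresentation h] [Flat h]
    (f : X ⟶ Y) (w : f ≫ g = h) (s : S) (hs : Smooth (pullback.snd f (g.fiberι s))) :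
    ∃ U : X.Opens, (∀ x : X, h.base x = s → x ∈ U) ∧ Smooth (U.ι ≫ f) := by
  let O : X.Opens := ⟨{x | Groth.L05.Point.Nhd @Smooth f x}, isOpen_iff_forall_mem_open.mpr fun x ⟨V, hx, hV⟩ =>
    ⟨V, fun y hy => ⟨V, hy, hV⟩, V.2, hx⟩⟩
  refine ⟨O, fun x hx => ?_, Groth.L05.Point.of_forall_nhd (P := @Smooth) fun z => Groth.L05.Point.nhd_openImm_comp f O.ι z z.2⟩
  subst hx
  exact (Groth.L05.Point.nhd_smooth_iff f g h w x ((Flat.iff_flat_stalkMap _).mp ‹_› x) (h.asFiber x)
      (h.fiberι_asFiber x)).mpr (Groth.L05.Point.nhd_top ((Groth.L05.Point.fiberMapOver_iff_snd g h f w (h x)).mpr hs) _)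

end Groth.Agent.S16049
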