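import Groth.Statements.S14315
import Groth.Agent.L03.SurfNum.Fibre
import Groth.Agent.S16049
import Groth.Agent.L21.RR.Coh
-- import your own Groth.Agent.* helpers here

set_option autoImplicit false
universe u
open CategoryTheory CategoryTheory.Limits AlgebraicGeometry TopologicalSpace
open Surf

namespace Groth.Agent.S14315

open TopologicalSpace
set_option backward.isDefEq.respectTransparency false
set_option linter.style.haveILetI false

/-- Let k be an algebraically closed field, S a smooth projective surface over k (integral, proper and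
smooth over k, of dimension 2), f : S → C a surjective k-morphism onto a smooth projective curve C
(integral, proper and smooth over k, of dimension 1), and ψ : C' → C a finite k-morphism from
another smooth projective curve C' which is unramified at every point of C' lying over a point of C
whose fibre of f is not smooth. Then S ×_C C' is smooth over k. (The published statement takes ψ
separable and f the chapter's generically smooth semi-stable fibration with connected fibres over an
algebraically closed field of positive characteristic; this row assumes only f surjective and ψ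
finite, over any algebraically closed field.) -/
theorem result (k : Type u) [Field k] [IsAlgClosed k]
    (S : Scheme.{u}) [S.Over (Spec (CommRingCat.of k))] [IsProper (S ↘ (Spec (CommRingCat.of k)))]
    [Smooth (S ↘ (Spec (CommRingCat.of k)))] [IsIntegral S] (hdim : topologicalKrullDim S = 2)
    (C : Scheme.{u}) [C.Over (Spec (CommRingCat.of k))] [IsProper (C ↘ (Spec (CommRingCat.of k)))]
    [Smooth (C ↘ (Spec (CommRingCat.of k)))] [IsIntegral C] (hdimC : topologicalKrullDim C = 1)
    (f : S ⟶ C) [f.IsOver (Spec (CommRingCat.of k))] [Surjective f]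
    (C' : Scheme.{u}) [C'.Over (Spec (CommRingCat.of k))] [IsProper (C' ↘ (Spec (CommRingCat.of k)))]
    [Smooth (C' ↘ (Spec (CommRingCat.of k)))] [IsIntegral C'] (hdimC' : topologicalKrullDim C' = 1)
    (ψ : C' ⟶ C) [ψ.IsOver (Spec (CommRingCat.of k))] [IsFinite ψ]
    (hψ : ∀ c : C', ¬ Smooth (f.fiberToSpecResidueField (ψ.base c)) →
      ∃ U : C'.Opens, c ∈ U ∧ FormallyUnramified (U.ι ≫ ψ)) :
    Smooth (pullback.snd f ψ ≫ (C' ↘ (Spec (CommRingCat.of k)))) := by
  haveI := Groth.L21.RR.isNoetherian_of_proper (X := C) k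
  haveI := Groth.L21.RR.isNoetherian_of_proper (X := S) k
  haveI := Groth.L21.RR.isNoetherian_of_proper (X := C') k
  haveI : C.IsSeparated := ⟨by rw [← terminal.comp_from (C ↘ Spec (CommRingCat.of k))]; infer_instance⟩
  haveI : IsProper f := by
    haveI : IsProper (f ≫ (C ↘ Spec (CommRingCat.of k))) := by rw [comp_over]; infer_instance
    exact IsProper.of_comp f (C ↘ Spec (CommRingCat.of k))
  haveI := Groth.L03.SurfNum.flat_of_surjective k hdimC f
  haveI : Surjective ψ := by
    refine ⟨fun c => ?_⟩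
    have hcl := ψ.isClosedMap.isClosed_range
    by_contra hc
    have hgen : ψ (genericPoint C') ≠ genericPoint C := fun h => hc (by
      have h1 : c ∈ closure ({ψ (genericPoint C')} : Set C) := by
        rw [h]; exact (genericPoint_specializes c).mem_closure
      exact hcl.closure_subset_iff.2 (Set.singleton_subset_iff.2 ⟨_, rfl⟩) h1)
    have hpc : IsClosed ({ψ (genericPoint C')} : Set C) := by
      refine isClosed_of_closure_subset fun w hw => ?_
      rcases Groth.L21.RR.Top.spec_of_dim_le_one (X := C.toTopCat) hdimC.le (genericPoint C)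
        (ψ (genericPoint C')) w ((genericPoint_spec C).specializes trivial)
        (specializes_iff_mem_closure.2 hw) with e | e
      · exact absurd e.symm hgen
      · exact e.symm
    have hfin : (Set.univ : Set C').Finite := by
      refine (ψ.finite_preimage_singleton (ψ (genericPoint C'))).subset fun z _ => ?_
      exact hpc.closure_eq.subset (((genericPoint_specializes z).map ψ.continuous).mem_closure)
    haveI : Finite C' := Set.finite_univ_iff.1 hfin
    haveI : JacobsonSpace C' := LocallyOfFiniteType.jacobsonSpace (C' ↘ Spec (CommRingCat.of k))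
    have h2 := topologicalKrullDim_zero_of_discreteTopology C'
    rw [hdimC'] at h2
    norm_num at h2
  haveI := Groth.L03.SurfNum.flat_of_surjective k hdimC ψ
  let q := pullback.snd f ψ
  let p := pullback.fst f ψ
  have hpk : q ≫ (C' ↘ Spec (CommRingCat.of k)) = p ≫ (S ↘ Spec (CommRingCat.of k)) := by
    rw [← comp_over ψ (Spec (CommRingCat.of k)), ← comp_over f (Spec (CommRingCat.of k)), ← Category.assoc,
      ← Category.assoc, pullback.condition]
  have key : ∀ c : C', ∃ W : C'.Opens, c ∈ W ∧
      Smooth ((q ⁻¹ᵁ W).ι ≫ q ≫ (C' ↘ Spec (CommRingCat.of k))) := by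
    intro c
    by_cases hc : Smooth (f.fiberToSpecResidueField (ψ.base c))
    · let t := ψ.base c
      let a := (𝟙 C : C ⟶ C).fiberToSpecResidueField t
      let b := C.fromSpecResidueField t
      have hab : (𝟙 C : C ⟶ C).fiberι t = a ≫ b := by
        rw [← Scheme.Hom.fiber_fac (𝟙 C : C ⟶ C) t]
        exact (Category.comp_id _).symm
      have hs : Smooth (pullback.snd f ((𝟙 C : C ⟶ C).fiberι t)) := by
        rw [hab]
        haveI : Smooth (pullback.snd f b) := hc
        rw [← pullbackLeftPullbackSndIso_hom_snd f b a |> fun h => (Iso.inv_comp_eq _).2 h.symm]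
        infer_instance
      obtain ⟨U, hU, hUs⟩ := Groth.Agent.S16049.result (𝟙 C) f f (Category.comp_id f) t hs
      have hZc : IsClosed (f '' ((U : Set S)ᶜ)) := f.isClosedMap _ U.2.isClosed_compl
      let V : C.Opens := ⟨(f '' ((U : Set S)ᶜ))ᶜ, hZc.isOpen_compl⟩
      have hVU : f ⁻¹ᵁ V ≤ U := fun x hx => by
        by_contra hxU
        exact hx ⟨x, hxU, rfl⟩
      have htV : t ∈ V := fun ⟨x, hxU, hxt⟩ => hxU (hU x hxt)
      haveI : Smooth ((f ⁻¹ᵁ V).ι ≫ f) := by
        rw [← S.homOfLE_ι hVU, Category.assoc]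
        haveI := hUs
        infer_instance
      refine ⟨ψ ⁻¹ᵁ V, htV, ?_⟩
      haveI : Smooth (f ∣_ V) := by
        have h1 : (f ∣_ V) ≫ V.ι = (f ⁻¹ᵁ V).ι ≫ f := morphismRestrict_ι f V
        haveI : Smooth ((f ∣_ V) ≫ V.ι) := by rw [h1]; infer_instance
        exact MorphismProperty.of_isPullback (P := @Smooth)
          (IsPullback.of_horiz_isIso_mono (fst := 𝟙 _) (snd := f ∣_ V) (f := (f ∣_ V) ≫ V.ι) (g := V.ι) ⟨Category.id_comp _⟩) inferInstance
      have hP1 : IsPullback ((q ⁻¹ᵁ (ψ ⁻¹ᵁ V)).ι ≫ p) (q ∣_ (ψ ⁻¹ᵁ V)) f ((ψ ∣_ V) ≫ V.ι) := by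
        have h := (isPullback_morphismRestrict q (ψ ⁻¹ᵁ V)).flip.paste_horiz (IsPullback.of_hasPullback f ψ)
        rw [← morphismRestrict_ι ψ V] at h
        exact h
      have hle : ∀ x, x ∈ q ⁻¹ᵁ (ψ ⁻¹ᵁ V) → p x ∈ f ⁻¹ᵁ V := fun x hx => by
        show f (p x) ∈ V
        rw [← Scheme.Hom.comp_apply, pullback.condition]
        exact hx
      have hrange : Set.range ((q ⁻¹ᵁ (ψ ⁻¹ᵁ V)).ι ≫ p) ⊆ Set.range (f ⁻¹ᵁ V).ι := by
        rintro _ ⟨x, rfl⟩
        rw [Scheme.Opens.range_ι]
        exact hle _ x.2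
      let l := IsOpenImmersion.lift (f ⁻¹ᵁ V).ι ((q ⁻¹ᵁ (ψ ⁻¹ᵁ V)).ι ≫ p) hrange
      have hl : l ≫ (f ⁻¹ᵁ V).ι = (q ⁻¹ᵁ (ψ ⁻¹ᵁ V)).ι ≫ p := IsOpenImmersion.lift_fac _ _ _
      have hsq2 : IsPullback l (q ∣_ (ψ ⁻¹ᵁ V)) (f ∣_ V) (ψ ∣_ V) := by
        refine IsPullback.of_right (h₁₂ := (f ⁻¹ᵁ V).ι) ?_ ?_ (isPullback_morphismRestrict f V).flip
        · rw [hl]; exact hP1
        · rw [← cancel_mono V.ι, Category.assoc, morphismRestrict_ι, ← Category.assoc, hl, hP1.w, Category.assoc]
      haveI : Smooth (q ∣_ (ψ ⁻¹ᵁ V)) := MorphismProperty.of_isPullback hsq2 (inferInstance)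
      rw [← Category.assoc, ← morphismRestrict_ι q (ψ ⁻¹ᵁ V)]
      infer_instance
    · obtain ⟨U, hcU, hu⟩ := hψ c hc
      refine ⟨U, hcU, ?_⟩
      haveI := hu
      haveI : Flat (U.ι ≫ ψ) := inferInstance
      haveI : LocallyOfFinitePresentation (U.ι ≫ ψ) := inferInstance
      haveI : Etale (U.ι ≫ ψ) := Etale.of_formallyUnramified_of_flat _
      have hsq : IsPullback ((q ⁻¹ᵁ U).ι ≫ p) (q ∣_ U) f (U.ι ≫ ψ) :=
        (isPullback_morphismRestrict q U).flip.paste_horiz (IsPullback.of_hasPullback f ψ)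
      haveI : Etale ((q ⁻¹ᵁ U).ι ≫ p) := MorphismProperty.of_isPullback hsq.flip inferInstance
      rw [hpk, ← Category.assoc]
      infer_instance
  choose W hcW hW using key
  refine IsZariskiLocalAtSource.of_openCover (P := @Smooth)
    (Scheme.openCoverOfIsOpenCover _ (fun c => q ⁻¹ᵁ W c) ?_) fun c => hW c
  exact top_le_iff.1 fun x _ => Opens.mem_iSup.2 ⟨q x, hcW (q x)⟩

end Groth.Agent.S14315
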