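import Groth.Statements.S14316
import Groth.Agent.L21.RootCover.Sections
import Groth.Agent.L21.RootCover.Cover
import Groth.Agent.L21.RR.VeryAmpleIff
import Groth.Agent.L21.CurveAdj.Powers
import Groth.Agent.L22.CurveDeg.NonSpecial
import Groth.Agent.L18.Ample
import Groth.Agent.L18.AmplePull

set_option autoImplicit false
set_option backward.isDefEq.respectTransparency false
set_option linter.style.haveILetI false
universe u
open CategoryTheory CategoryTheory.Limits AlgebraicGeometry TopologicalSpace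
open Curves

namespace Groth.Agent.S14316

/-- Rank-one case. Let k be an algebraically closed field, C a smooth projective curve over k (integral,
proper and smooth over k, of dimension 1), E an invertible O_C-module of positive degree χ(E) −
χ(O_C) > 0, and T ⊆ C a finite set of points. Then there are a smooth projective curve C' over k and
a finite k-morphism ψ : C' → C which is generically unramified (separable) and unramified at every
point lying over T, such that H⁰(C', ψ^*E) ≠ 0. (This is the rank-one step of the published lemma,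
which is stated for locally free E of any rank and positive degree modulo a good base extension for
a fibration over C, the extension being required unramified over the images of the singular fibres;
here that finite set is an arbitrary finite set T. The steps for higher rank are not restated. The
published statement works over an algebraically closed field of positive characteristic; this row
allows any algebraically closed field.) -/
theorem result (k : Type u) [Field k] [IsAlgClosed k]
    (C : Scheme.{u}) [C.Over (Spec (CommRingCat.of k))] [IsProper (C ↘ (Spec (CommRingCat.of k)))]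
    [Smooth (C ↘ (Spec (CommRingCat.of k)))] [IsIntegral C] (hdimC : topologicalKrullDim C = 1)
    (E : C.Modules) (hE : PicF.IsInvertible E) (hdeg : 0 < Curv2.deg k C E 1)
    (T : Set C) (hT : T.Finite) :
    ∃ (C' : Scheme.{u}) (_ : C'.Over (Spec (CommRingCat.of k))) (ψ : C' ⟶ C),
      IsProper (C' ↘ (Spec (CommRingCat.of k))) ∧ Smooth (C' ↘ (Spec (CommRingCat.of k))) ∧ IsIntegral C' ∧ topologicalKrullDim C' = 1 ∧
      ψ.IsOver (Spec (CommRingCat.of k)) ∧ IsFinite ψ ∧
      (∃ U : C'.Opens, (U : Set C').Nonempty ∧ FormallyUnramified (U.ι ≫ ψ)) ∧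
      (∀ c : C', ψ.base c ∈ T → ∃ U : C'.Opens, c ∈ U ∧ FormallyUnramified (U.ι ≫ ψ)) ∧
      Nontrivial (Coh.HH C' ((Scheme.Modules.pullback ψ).obj E) 0) := by
  classical
  let p := ringChar k
  obtain ⟨n, hnle, hn⟩ := Nat.exists_infinite_primes (2 * Curv2.genus k C + p + 2)
  have hnk : (n : k) ≠ 0 := fun h => by
    rcases hn.eq_one_or_self_of_dvd p ((ringChar.spec k n).1 h) with h1 | h1
    · exact absurd h1 (CharP.ringChar_ne_one)
    · omega
  haveI := Groth.L21.RR.isNoetherian_of_proper (X := C) k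
  have h0 := Groth.L22.CurveDeg.h0_structure_eq_one (X := C) k
  have hP : PicF.IsInvertible (CohB1.tensorPow E n) := Groth.L18.Ample.isInvertible_tensorPow hE n
  have hgg : Curv2.IsGloballyGenerated (CohB1.tensorPow E n) := by
    refine Groth.L21.RR.isGloballyGenerated_of_deg k hdimC.le h0 hP ?_
    rw [Groth.L21.CurveAdj.deg_tensorPow (k := k) hdimC.le hE]
    show 2 * ((Curv2.genus k C : ℕ) : ℤ) ≤ _
    nlinarith
  have hgen : ∀ x : C, ∃ φ : Coh.structureModule C ⟶ CohB1.tensorPow E n, Function.Surjective (Groth.L21.RR.st φ x) := by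
    intro x
    obtain ⟨z, hz, hxz⟩ := Groth.L21.RR.exists_closed_specialization x
    exact ((Groth.L21.RR.isGloballyGenerated_iff hP).1 hgg z hz).imp fun φ hφ =>
      Groth.L21.RR.surjective_st_of_specializes hP hxz hφ
  obtain ⟨s, hs⟩ := Groth.L21.RootCover.exists_surjective_finite k hP hgen (hT.insert (genericPoint C))
  -- coefficients at points where `s` generates
  have hloc : ∀ x : C, Function.Surjective (Groth.L21.RR.st s x) →
      ∃ (U : C.Opens) (e : Γ(E, U)) (a : Γ(C, U)), x ∈ U ∧ IsAffineOpen U ∧ Groth.L18.Frame.IsFrame E U e ∧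
        SecTwist.val s U = a • CycCov.lpow E U e n ∧ IsUnit a := by
    intro x hx
    obtain ⟨W, e₁, hxW, he₁⟩ := Groth.L18.Frame.exists_frame hE x
    obtain ⟨V, hV, hxV, hVW⟩ := exists_isAffineOpen_mem_and_subset hxW
    have he : Groth.L18.Frame.IsFrame E V (Groth.L18.Frame.rs E hVW e₁) := he₁.mono _
    have hel := Groth.L16.CycCov.isFrame_lpow he n
    obtain ⟨a, ha⟩ := hel.exists_coeff le_rfl (SecTwist.val s V)
    rw [Groth.L18.Frame.rs_self] at ha
    have hu : IsUnit (C.presheaf.germ V x hxV a) := by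
      refine (Groth.L21.RR.surjective_st_iff (Groth.L21.RR.bijective_germ_frame hel hxV) s ?_).1 hx
      rw [Groth.L21.RR.st_one s x hxV]
      refine (Groth.L20.ModStalk.germ_smul _ hxV a _).symm.trans (congrArg _ (ha.trans ?_))
      exact (Groth.L16.CycCov.val_rs s le_top).symm
    exact ⟨C.basicOpen a, Groth.L18.Frame.rs E (C.basicOpen_le a) (Groth.L18.Frame.rs E hVW e₁), _,
      (C.mem_basicOpen a x hxV).2 hu, hV.basicOpen a, he.mono _,
      Groth.L16.CycCov.val_restrict s ha.symm (C.basicOpen_le a),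
      AlgebraicGeometry.RingedSpace.isUnit_res_basicOpen _ a⟩
  obtain ⟨U₀, e₀, a₀, hηU₀, hU₀, he₀, ha₀, hau₀⟩ := hloc _ (hs _ (Set.mem_insert _ _))
  haveI : Nonempty U₀ := ⟨⟨_, hηU₀⟩⟩
  have ha0 : a₀ ≠ 0 := hau₀.ne_zero
  have hX : ∀ (U : C.Opens) [Nonempty U], IsIntegrallyClosed Γ(C, U) :=
    fun U _ => Groth.L16.CycCov.isIntegrallyClosed_of_smooth (C ↘ (Spec (CommRingCat.of k))) U
  let f₀ : C.functionField := C.germToFunctionField U₀ a₀
  by_cases hroot : ∃ b, b ^ n = f₀
  · obtain ⟨b, hb⟩ := hroot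
    haveI := functionField_isFractionRing_of_isAffineOpen C U₀ hU₀
    haveI := hX U₀
    obtain ⟨b₀, hb₀⟩ := IsIntegrallyClosed.isIntegral_iff.1
      (show IsIntegral Γ(C, U₀) b from IsIntegral.of_pow hn.pos (by rw [hb]; exact isIntegral_algebraMap))
    have hb₀' : b₀ ^ n = a₀ := C.germToFunctionField_injective U₀ (by
      rw [map_pow]; exact (congrArg (· ^ n) hb₀).trans hb)
    haveI hnt := Groth.L21.RootCover.nontrivial_H0_of_root hX hE hn.pos s ‹_› he₀ ha₀ hb₀' ha0
    refine ⟨C, inferInstance, 𝟙 C, inferInstance, inferInstance, inferInstance, hdimC, ⟨by simp⟩, inferInstance,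
      ⟨⊤, ⟨genericPoint C, trivial⟩, inferInstance⟩, fun c _ => ⟨⊤, trivial, inferInstance⟩, ?_⟩
    obtain ⟨x, hx⟩ := exists_ne (0 : Coh.HH C E 0)
    let i : (Scheme.Modules.pullback (𝟙 C)).obj E ≅ E := (Scheme.Modules.pullbackId (X := C)).app E
    refine ⟨⟨Groth.L16.CohLinear.hmap i.inv 0 x, 0, fun h => hx ?_⟩⟩
    have h2 := congrArg (Groth.L16.CohLinear.hmap i.hom 0) h
    rwa [← Groth.L16.CohLinear.hmap_comp, i.inv_hom_id, Groth.L16.CohLinear.hmap_id, map_zero] at h2
  · push Not at hroot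
    obtain ⟨Y, _, ψ, hprop, hsm, hdY, hfin, hY, hchart⟩ :=
      Groth.L21.RootCover.exists_root_cover (k := k) C hdimC hn hnk f₀ hroot
    obtain ⟨⟨β, hβ⟩, hneV, hinjψ, hunr₀⟩ := hchart U₀ hU₀ a₀ 1 one_ne_zero (by rw [one_pow, one_mul])
    letI oY : Y.Over (Spec (CommRingCat.of k)) := ⟨ψ ≫ (C ↘ (Spec (CommRingCat.of k)))⟩
    refine ⟨Y, oY, ψ, hprop, hsm, inferInstance, hdY, ⟨rfl⟩, hfin,
      ⟨ψ ⁻¹ᵁ U₀, hneV.elim fun y => ⟨y.1, y.2⟩, hunr₀ hau₀⟩, ?_, ?_⟩
    · intro c hc
      obtain ⟨U, e, a, hcU, hU, he, ha, hau⟩ := hloc (ψ.base c) (hs _ (Set.mem_insert_of_mem _ hc))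
      haveI : Nonempty U := ⟨⟨_, hcU⟩⟩
      have hη : genericPoint C ∈ U ⊓ U₀ :=
        ⟨((genericPoint_spec C).mem_open_set_iff U.2).2 ⟨_, trivial, hcU⟩, hηU₀⟩
      haveI : Nonempty (U ⊓ U₀ : C.Opens) := ⟨⟨_, hη⟩⟩
      have he₀' := he₀.mono (inf_le_right : U ⊓ U₀ ≤ U₀)
      obtain ⟨u, hu⟩ := he₀'.exists_coeff le_rfl (Groth.L18.Frame.rs E (inf_le_left : U ⊓ U₀ ≤ U) e)
      rw [Groth.L18.Frame.rs_self] at hu
      have h1 : Groth.L18.Frame.ro (inf_le_right : U ⊓ U₀ ≤ U₀) a₀ =
          Groth.L18.Frame.ro (inf_le_left : U ⊓ U₀ ≤ U) a * u ^ n := by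
        refine (Groth.L16.CycCov.isGen_of_isFrame (Groth.L16.CycCov.isFrame_lpow he₀' n)).1 ?_
        show _ • CycCov.lpow E (U ⊓ U₀) _ n = _
        refine (Groth.L16.CycCov.val_restrict s ha₀ inf_le_right).symm.trans
          ((Groth.L16.CycCov.val_restrict s ha inf_le_left).trans ?_)
        rw [← hu, Groth.L16.CycCov.lpow_smul]
        exact (mul_smul _ _ _).symm
      let γ := C.germToFunctionField (U ⊓ U₀)
      have hf : f₀ = C.germToFunctionField U a * γ u ^ n := by
        have h2 := congrArg γ h1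
        rw [map_mul, map_pow] at h2
        exact (TopCat.Presheaf.germ_res_apply _ _ _ _ a₀).symm.trans (h2.trans
          (congrArg (· * γ u ^ n) (TopCat.Presheaf.germ_res_apply _ _ _ _ a)))
      have hf0 : f₀ ≠ 0 := fun h => ha0 (C.germToFunctionField_injective U₀ (h.trans (map_zero _).symm))
      have hu0 : γ u ≠ 0 := fun h => hf0 (by rw [hf, h, zero_pow hn.ne_zero, mul_zero])
      obtain ⟨-, -, -, h3⟩ := hchart U hU a (γ u)⁻¹ (inv_ne_zero hu0) (by
        rw [hf, inv_pow, mul_left_comm, inv_mul_cancel₀ (pow_ne_zero n hu0), mul_one])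
      exact ⟨ψ ⁻¹ᵁ U, hcU, h3 hau⟩
    · obtain ⟨s', hs'⟩ := Groth.L21.RootCover.exists_pull_pow_section ψ hE n s
      exact Groth.L21.RootCover.nontrivial_H0_of_root hY (Groth.L18.Ample.isInvertible_pullback ψ hE) hn.pos s' hneV
        (he₀.pullback ψ E) (hs' U₀ e₀ he₀ a₀ ha₀) hβ fun h => ha0 (hinjψ (h.trans (map_zero _).symm))

end Groth.Agent.S14316
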