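import Groth.Statements.S14317
import Groth.Agent.L03.SurfLeray.RelCan
-- import your own Groth.Agent.* helpers here

set_option autoImplicit false
universe u
open CategoryTheory CategoryTheory.Limits AlgebraicGeometry TopologicalSpace
open Surf

namespace Groth.Agent.S14317

open Groth.L22 Groth.L22.Inter Groth.L22.Nef Groth.L22.Big Groth.L03.SurfLeray
open Groth.L00.Tensor (tensorIso tensorComm tensorUnitLeft tensorUnitRight)
set_option backward.isDefEq.respectTransparency false
set_option linter.style.haveILetI false
set_option maxHeartbeats 1000000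


/-- Let k be an algebraically closed field, S a smooth projective surface over k (integral, proper and
smooth, of dimension 2) and f : S → C a fibration onto a smooth projective curve (a surjective
k-morphism with O_C → f_*O_S an isomorphism) which is semi-stable (flat, of finite presentation, all
fibres one-dimensional with at worst nodal singularities); let g ≥ 2 be the genus of the fibres, 1 −
g = χ(O_F) for the fibre F = f⁻¹(p) over a closed point p (computed on S through the direct image of
O_F). Let ω_{S/C} = ω_S ⊗ (f^*ω_C)^{-1} be the relative canonical module, ω_S a second exterior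
power of Ω_{S/k} and (f^*Ω_{C/k})^{-1} a tensor inverse of f^*Ω_{C/k}. Then deg f_*ω_{S/C} = χ(O_S)
− (g(C) − 1)(g − 1), the degree of the rank-g module f_*ω_{S/C} on C being χ(f_*ω_{S/C}) − g·χ(O_C)
and g(C) = dim H¹(C, O_C). (The published statement carries the further standing hypotheses of the
chapter — generically ordinary, strongly l-ordinary generic fibre, non-isotrivial, relatively
minimal — which the degree computation does not use; semi-stability is kept, since with multiple
fibres R¹f_*O_S may have torsion and the formula can fail. The published statement works over an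
algebraically closed field of positive characteristic; this row allows any algebraically closed
field.) -/
theorem result (k : Type u) [Field k] [IsAlgClosed k]
    (S : Scheme.{u}) [S.Over (Spec (CommRingCat.of k))] [IsProper (S ↘ (Spec (CommRingCat.of k)))]
    [Smooth (S ↘ (Spec (CommRingCat.of k)))] [IsIntegral S] (hdim : topologicalKrullDim S = 2)
    (C : Scheme.{u}) [C.Over (Spec (CommRingCat.of k))] [IsProper (C ↘ (Spec (CommRingCat.of k)))]
    [Smooth (C ↘ (Spec (CommRingCat.of k)))] [IsIntegral C] (hdimC : topologicalKrullDim C = 1)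
    (f : S ⟶ C) [f.IsOver (Spec (CommRingCat.of k))] [Surjective f] (hconn : IsIso (ClSub.unitToPush f))
    (hss : Curv2.IsNodalFamily f)
    (p : C) (hp : IsClosed ({p} : Set C))
    (g : ℕ) (hg2 : 2 ≤ g) (hg : Curv2.euler k S (ClSub.quotMod (f.fiberι p).ker) = 1 - (g : ℤ))
    (WS : S.Modules) (hWS : ExtPow.IsExtPow 2 (Omega.sheaf (S ↘ (Spec (CommRingCat.of k)))) WS)
    (M : S.Modules) (hM : ClSub.IsInverseOf M ((Scheme.Modules.pullback f).obj (Omega.sheaf (C ↘ (Spec (CommRingCat.of k)))))) :
    Curv2.euler k C ((Coh.push f).obj (CohB1.tensorMod WS M)) - (g : ℤ) * Curv2.euler k C (Coh.structureModule C) =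
      Curv2.euler k S (Coh.structureModule S) - ((Curv2.genus k C : ℤ) - 1) * ((g : ℤ) - 1) := by
  haveI := Groth.L21.RR.isNoetherian_of_proper (X := S) k
  haveI := Groth.L21.RR.isNoetherian_of_proper (X := C) k
  haveI := Groth.L17.PushQCoh.hasInjectiveResolutions S
  haveI : IsProper (f ≫ (C ↘ Spec (CommRingCat.of k))) := by rw [comp_over]; infer_instance
  haveI : IsProper f := IsProper.of_comp f (C ↘ Spec (CommRingCat.of k))
  haveI := Groth.L03.SurfNum.flat_of_surjective k hdimC f
  haveI : LocallyOfFinitePresentation f := hss.2.1
  haveI : JacobsonSpace C := LocallyOfFiniteType.jacobsonSpace (C ↘ Spec (CommRingCat.of k))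
  have hO := Groth.L18.Ample.isInvertible_structureModule S
  obtain ⟨rO, hGO⟩ := Groth.L03.SurfFib.PushFree.exists_rank_push f
    (Groth.L03.SurfFib.Zariski.isIso_app f hconn) (Groth.L03.SurfAdj.reg_of_smooth k) hdimC.le hO
  obtain ⟨V, hV, hVr⟩ := Groth.L03.SurfFib.PushFree.exists_open_fiberRank f hO hGO
  obtain ⟨q', hqV, hqc'⟩ := nonempty_inter_closedPoints (Z := (V : Set C)) hV V.2.isLocallyClosed
  rw [mem_closedPoints_iff] at hqc'
  have hrO : rO = 1 := (hVr q' hqV).symm.trans (fiberRank_structure k f hconn hss hqc')
  subst hrO
  have hnumO : ∀ Z : S.Modules, PicF.IsInvertible Z → ii k (Coh.structureModule S) Z = 0 := fun Z hZ =>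
    ii_torsion k hdim hO one_pos (tensorUnitLeft _) hZ
  have hRO := locFree_Rpush_one f hO (r := g) fun q hq => by
    have h1 := fiberRank_one k hdim hdimC f hconn hp hg hWS hO hnumO hq
    rw [fiberRank_structure k f hconn hss hq] at h1
    omega
  obtain ⟨s, -, hsz, hχ'⟩ := euler_relCanonical k hdim hdimC f hconn hp hg hWS hM hO hO (tensorUnitLeft _)
    hnumO hGO hRO
  have hc := Groth.L21.Bundle.euler_structure k hdimC (Groth.L22.CurveDeg.h0_structure_eq_one (X := C) k)
  rw [← Groth.L03.Euler.euler_iso ((Coh.push f).mapIso (tensorUnitRight (CohB1.tensorMod WS M))), hχ',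
    ← Groth.L03.Euler.euler_iso (asIso (ClSub.unitToPush f)), hsz, hc]
  push_cast
  ring

end Groth.Agent.S14317
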