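import Groth.Statements.S14318
import Groth.Agent.L03.SurfFib.RelCanRank
-- import your own Groth.Agent.* helpers here

set_option autoImplicit false
universe u
open CategoryTheory CategoryTheory.Limits AlgebraicGeometry TopologicalSpace
open Surf

namespace Groth.Agent.S14318

open Groth.L22 Groth.L22.Inter Groth.L22.Nef Groth.L22.Big
set_option backward.isDefEq.respectTransparency false
set_option linter.style.haveILetI false


/-- Let k be an algebraically closed field, S a smooth projective surface over k (integral, proper and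
smooth, of dimension 2) and f : S → C a fibration onto a smooth projective curve (a surjective
k-morphism with O_C → f_*O_S an isomorphism); let g ≥ 2 be the genus of the fibres, 1 − g = χ(O_F)
for the fibre F = f⁻¹(p) over a closed point p (computed on S through the direct image of O_F). Let
ω_{S/C} = ω_S ⊗ (f^*ω_C)^{-1} be the relative canonical module, ω_S a second exterior power of
Ω_{S/k} and (f^*Ω_{C/k})^{-1} a tensor inverse of f^*Ω_{C/k}. Then f_*ω_{S/C} is locally free of
rank g on C. (The published statement carries the chapter's standing hypotheses — semi-stable,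
generically ordinary, strongly l-ordinary generic fibre, non-isotrivial, relatively minimal — none
of which this part uses. The published statement works over an algebraically closed field of
positive characteristic; this row allows any algebraically closed field.) -/
theorem result (k : Type u) [Field k] [IsAlgClosed k]
    (S : Scheme.{u}) [S.Over (Spec (CommRingCat.of k))] [IsProper (S ↘ (Spec (CommRingCat.of k)))]
    [Smooth (S ↘ (Spec (CommRingCat.of k)))] [IsIntegral S] (hdim : topologicalKrullDim S = 2)
    (C : Scheme.{u}) [C.Over (Spec (CommRingCat.of k))] [IsProper (C ↘ (Spec (CommRingCat.of k)))]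
    [Smooth (C ↘ (Spec (CommRingCat.of k)))] [IsIntegral C] (hdimC : topologicalKrullDim C = 1)
    (f : S ⟶ C) [f.IsOver (Spec (CommRingCat.of k))] [Surjective f] (hconn : IsIso (ClSub.unitToPush f))
    (p : C) (hp : IsClosed ({p} : Set C))
    (g : ℕ) (hg2 : 2 ≤ g) (hg : Curv2.euler k S (ClSub.quotMod (f.fiberι p).ker) = 1 - (g : ℤ))
    (WS : S.Modules) (hWS : ExtPow.IsExtPow 2 (Omega.sheaf (S ↘ (Spec (CommRingCat.of k)))) WS)
    (M : S.Modules) (hM : ClSub.IsInverseOf M ((Scheme.Modules.pullback f).obj (Omega.sheaf (C ↘ (Spec (CommRingCat.of k)))))) :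
    FlatMod.IsFinLocFreeOfRank g ((Coh.push f).obj (CohB1.tensorMod WS M)) := by
  haveI := Groth.L21.RR.isNoetherian_of_proper (X := S) k
  haveI := Groth.L21.RR.isNoetherian_of_proper (X := C) k
  haveI := Groth.L17.PushQCoh.hasInjectiveResolutions S
  have hΩ := Groth.L21.Duality.isInvertible_omega (k := k) (X := C) hdimC
  obtain ⟨Ω', hΩ', ⟨e⟩⟩ := Groth.L08.Cube.exists_inverse hΩ
  obtain ⟨eM⟩ := hM
  let P := (Scheme.Modules.pullback f).obj (Omega.sheaf (C ↘ Spec (CommRingCat.of k)))
  let eP : CohB1.tensorMod P ((Scheme.Modules.pullback f).obj Ω') ≅ Coh.structureModule S :=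
    Groth.L29.DC.PullTensor.pullTensor f _ Ω' ≪≫ (Scheme.Modules.pullback f).mapIso e ≪≫
      Groth.L29.LocFree.pullbackUnitIso f
  let eM' : M ≅ (Scheme.Modules.pullback f).obj Ω' :=
    (Groth.L00.Tensor.tensorUnitRight M).symm ≪≫ Groth.L00.Tensor.tensorIso (Iso.refl M) eP.symm ≪≫
      (Groth.L00.Tensor.tensorAssoc M P _).symm ≪≫ Groth.L00.Tensor.tensorIso eM (Iso.refl _) ≪≫
        Groth.L00.Tensor.tensorUnitLeft _
  have hW := (Groth.L03.SurfAdj.canonical k hdim (Groth.L03.SurfAdj.reg_of_smooth k) hWS).1
  have hMi : PicF.IsInvertible M :=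
    Groth.L18.Ample.isInvertible_of_iso eM'.symm (Groth.L18.Ample.isInvertible_pullback f hΩ')
  exact Groth.L03.SurfFib.RelCanRank.rank_eq_genus k f hdim hdimC hconn hp hg hWS
    (Groth.L18.GenLoc.isInvertible_tensor hW hMi) hΩ' ⟨Groth.L00.Tensor.tensorIso (Iso.refl WS) eM'⟩

end Groth.Agent.S14318
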