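import Groth.Statements.S14319
import Groth.Agent.L03.SurfLeray.RelCan
-- import your own Groth.Agent.* helpers here

set_option autoImplicit false
universe u
open CategoryTheory CategoryTheory.Limits AlgebraicGeometry TopologicalSpace
open Surf

namespace Groth.Agent.S14319

open Groth.L22 Groth.L22.Inter Groth.L22.Nef Groth.L22.Big Groth.L03.SurfLeray
open Groth.L00.Tensor (tensorIso tensorComm tensorUnitLeft tensorUnitRight)
set_option backward.isDefEq.respectTransparency false
set_option linter.style.haveILetI false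
set_option maxHeartbeats 1000000


/-- Let k be an algebraically closed field, S a smooth projective surface over k (integral, proper and
smooth, of dimension 2) and f : S → C a fibration onto a smooth projective curve (a surjective
k-morphism with O_C → f_*O_S an isomorphism) which is semi-stable (flat, of finite presentation, all
fibres one-dimensional with at worst nodal singularities); let g ≥ 2 be the genus of the fibres, 1 −
g = χ(O_F) for the fibre F = f⁻¹(p) over a closed point p with smooth fibre (computed on S through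
the direct image of O_F). Let ω_{S/C} = ω_S ⊗ (f^*ω_C)^{-1} be the relative canonical module, ω_S a
second exterior power of Ω_{S/k} and (f^*Ω_{C/k})^{-1} a tensor inverse of f^*Ω_{C/k}. Let l be a
prime number invertible in k and η an invertible O_S-module with η^{⊗l} ≅ O_S whose restriction to
the fibre F is not trivial. Then f_*(ω_{S/C} ⊗ η) is locally free of rank g − 1 and has the same
degree as f_*ω_{S/C}: χ(f_*(ω_{S/C} ⊗ η)) − (g − 1)χ(O_C) = χ(f_*ω_{S/C}) − g·χ(O_C). (The published
statement also asserts that f_*(ω_{S/C} ⊗ η) has non-negative quotients, which rests on an external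
semi-positivity input and is not restated, and carries the chapter's further standing hypotheses —
generically ordinary, strongly l-ordinary generic fibre, non-isotrivial, relatively minimal — not
used here; the non-triviality of η on fibres is asked on one smooth closed fibre, the published
'general fibre'. The published statement works over an algebraically closed field of positive
characteristic; this row allows any algebraically closed field.) -/
theorem result (k : Type u) [Field k] [IsAlgClosed k]
    (S : Scheme.{u}) [S.Over (Spec (CommRingCat.of k))] [IsProper (S ↘ (Spec (CommRingCat.of k)))]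
    [Smooth (S ↘ (Spec (CommRingCat.of k)))] [IsIntegral S] (hdim : topologicalKrullDim S = 2)
    (C : Scheme.{u}) [C.Over (Spec (CommRingCat.of k))] [IsProper (C ↘ (Spec (CommRingCat.of k)))]
    [Smooth (C ↘ (Spec (CommRingCat.of k)))] [IsIntegral C] (hdimC : topologicalKrullDim C = 1)
    (f : S ⟶ C) [f.IsOver (Spec (CommRingCat.of k))] [Surjective f] (hconn : IsIso (ClSub.unitToPush f))
    (hss : Curv2.IsNodalFamily f)
    (p : C) (hp : IsClosed ({p} : Set C))
    (hpF : Smooth (f.fiberToSpecResidueField p))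
    (g : ℕ) (hg2 : 2 ≤ g) (hg : Curv2.euler k S (ClSub.quotMod (f.fiberι p).ker) = 1 - (g : ℤ))
    (WS : S.Modules) (hWS : ExtPow.IsExtPow 2 (Omega.sheaf (S ↘ (Spec (CommRingCat.of k)))) WS)
    (M : S.Modules) (hM : ClSub.IsInverseOf M ((Scheme.Modules.pullback f).obj (Omega.sheaf (C ↘ (Spec (CommRingCat.of k))))))
    (l : ℕ) (hl : l.Prime) (hlk : (l : k) ≠ 0)
    (η : S.Modules) (hη : PicF.IsInvertible η) (hηl : Nonempty (CohB1.tensorPow η l ≅ Coh.structureModule S))
    (hηF : ¬ Nonempty ((Scheme.Modules.pullback (f.fiberι p)).obj η ≅ Coh.structureModule (f.fiber p))) :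
    FlatMod.IsFinLocFreeOfRank (g - 1) ((Coh.push f).obj (CohB1.tensorMod (CohB1.tensorMod WS M) η)) ∧
    Curv2.euler k C ((Coh.push f).obj (CohB1.tensorMod (CohB1.tensorMod WS M) η)) - ((g : ℤ) - 1) * Curv2.euler k C (Coh.structureModule C) =
      Curv2.euler k C ((Coh.push f).obj (CohB1.tensorMod WS M)) - (g : ℤ) * Curv2.euler k C (Coh.structureModule C) := by
  haveI := Groth.L21.RR.isNoetherian_of_proper (X := S) k
  haveI := Groth.L21.RR.isNoetherian_of_proper (X := C) k
  haveI := Groth.L17.PushQCoh.hasInjectiveResolutions S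
  haveI : IsProper (f ≫ (C ↘ Spec (CommRingCat.of k))) := by rw [comp_over]; infer_instance
  haveI : IsProper f := IsProper.of_comp f (C ↘ Spec (CommRingCat.of k))
  haveI := Groth.L03.SurfNum.flat_of_surjective k hdimC f
  haveI : LocallyOfFinitePresentation f := hss.2.1
  haveI : JacobsonSpace C := LocallyOfFiniteType.jacobsonSpace (C ↘ Spec (CommRingCat.of k))
  obtain ⟨σ⟩ := hηl
  obtain ⟨η', hη', ⟨e⟩⟩ := Groth.L08.Cube.exists_inverse hη
  let e' : CohB1.tensorMod η' η ≅ Coh.structureModule S := tensorComm _ _ ≪≫ e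
  obtain ⟨ep⟩ := nonempty_pow_inverse e l
  let σ' : CohB1.tensorPow η' l ≅ Coh.structureModule S :=
    (tensorUnitLeft _).symm ≪≫ tensorIso σ.symm (Iso.refl _) ≪≫ ep
  have hηF' : ¬ Nonempty ((Scheme.Modules.pullback (f.fiberι p)).obj η' ≅ Coh.structureModule (f.fiber p)) :=
    fun ⟨t⟩ => hηF ⟨(tensorUnitLeft _).symm ≪≫ tensorIso t.symm (Iso.refl _) ≪≫
      Groth.L29.DC.PullTensor.pullTensor (f.fiberι p) η' η ≪≫ (Scheme.Modules.pullback (f.fiberι p)).mapIso e' ≪≫
        Groth.L29.LocFree.pullbackUnitIso _⟩
  have hnum' : ∀ Z : S.Modules, PicF.IsInvertible Z → ii k η' Z = 0 := fun Z hZ =>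
    ii_torsion k hdim hη' hl.pos σ' hZ
  have hzero : ∀ q : C, IsClosed ({q} : Set C) → CohIII.fiberRank f η' 0 q = 0 := fun q hq =>
    fiberRank_torsion_zero k hdim hdimC f hconn hss hη' hl.pos σ' hp hηF' hlk hq
  have hR := locFree_Rpush_one f hη' (r := g - 1) fun q hq => by
    have h1 := fiberRank_one k hdim hdimC f hconn hp hg hWS hη' hnum' hq
    rw [hzero q hq] at h1
    omega
  have hz := isZero_push k hdim hdimC f hconn hss hη' hl.pos σ' hp hηF'
  obtain ⟨r₀, hG⟩ := Groth.L03.SurfFib.PushFree.exists_rank_push f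
    (Groth.L03.SurfFib.Zariski.isIso_app f hconn) (Groth.L03.SurfAdj.reg_of_smooth k) hdimC.le hη'
  obtain ⟨U, hU, hUr⟩ := Groth.L03.SurfFib.PushFree.exists_open_fiberRank f hη' hG
  obtain ⟨q, hqU, hqc⟩ := nonempty_inter_closedPoints (Z := (U : Set C)) hU U.2.isLocallyClosed
  rw [mem_closedPoints_iff] at hqc
  have hr₀ : r₀ = 0 := (hUr q hqU).symm.trans (hzero q hqc)
  subst hr₀
  obtain ⟨r, hr, hrz, hχ⟩ := euler_relCanonical k hdim hdimC f hconn hp hg hWS hM hη hη' e'
    (fun Z hZ => ii_torsion k hdim hη hl.pos σ hZ) hG hR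
  have hO := Groth.L18.Ample.isInvertible_structureModule S
  obtain ⟨rO, hGO⟩ := Groth.L03.SurfFib.PushFree.exists_rank_push f
    (Groth.L03.SurfFib.Zariski.isIso_app f hconn) (Groth.L03.SurfAdj.reg_of_smooth k) hdimC.le hO
  obtain ⟨V, hV, hVr⟩ := Groth.L03.SurfFib.PushFree.exists_open_fiberRank f hO hGO
  obtain ⟨q', hqV, hqc'⟩ := nonempty_inter_closedPoints (Z := (V : Set C)) hV V.2.isLocallyClosed
  rw [mem_closedPoints_iff] at hqc'
  have hrO : rO = 1 := (hVr q' hqV).symm.trans (fiberRank_structure k f hconn hss hqc')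
  subst hrO
  have hnumO : ∀ Z : S.Modules, PicF.IsInvertible Z → ii k (Coh.structureModule S) Z = 0 := fun Z hZ =>
    ii_torsion k hdim hO one_pos (tensorUnitLeft _) hZ
  have hRO := locFree_Rpush_one f hO (r := g) fun q hq => by
    have h1 := fiberRank_one k hdim hdimC f hconn hp hg hWS hO hnumO hq
    rw [fiberRank_structure k f hconn hss hq] at h1
    omega
  obtain ⟨s, -, hsz, hχ'⟩ := euler_relCanonical k hdim hdimC f hconn hp hg hWS hM hO hO (tensorUnitLeft _)
    hnumO hGO hRO
  have hrg : r = g - 1 := by omega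
  subst hrg
  refine ⟨hr, ?_⟩
  have hz0 : Curv2.euler k C ((Scheme.Modules.pushforward f).obj η') = 0 := by
    rw [Groth.L21.RR.euler_eq k hdimC.le]
    haveI := Groth.L03.Euler.subsingleton_HH_of_isZero hz 0
    haveI := Groth.L03.Euler.subsingleton_HH_of_isZero hz 1
    show ((Module.finrank k (Coh.HH C ((Scheme.Modules.pushforward f).obj η') 0) : ℕ) : ℤ) -
      ((Module.finrank k (Coh.HH C ((Scheme.Modules.pushforward f).obj η') 1) : ℕ) : ℤ) = 0
    rw [Module.finrank_zero_of_subsingleton, Module.finrank_zero_of_subsingleton]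
    simp
  rw [hχ, hz0, ← Groth.L03.Euler.euler_iso ((Coh.push f).mapIso (tensorUnitRight (CohB1.tensorMod WS M))), hχ',
    ← Groth.L03.Euler.euler_iso (asIso (ClSub.unitToPush f)), hrz, hsz]
  push_cast
  ring

end Groth.Agent.S14319
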