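import Groth.Statements.S1432
import Mathlib.AlgebraicGeometry.Morphisms.ClosedImmersion

set_option autoImplicit false
universe u
open FlatMor

set_option backward.isDefEq.respectTransparency.types false
set_option linter.style.haveILetI false
namespace Groth.Agent.S1432.Aux

open CategoryTheory CategoryTheory.Limits AlgebraicGeometry

/-- The lifting property on an affine target gives a closed immersion. -/
theorem isClosedImmersion_of_affine {X : Scheme.{u}} [CompactSpace X] {R : CommRingCat.{u}} (f : X ⟶ Spec R)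
    (H : ∀ (A B : Type u) [CommRing A] [CommRing B] (φ : A →+* B), Function.Injective φ →
      ∀ (a : Spec (CommRingCat.of B) ⟶ X) (b : Spec (CommRingCat.of A) ⟶ Spec R), Spec.map (CommRingCat.ofHom φ) ≫ b = a ≫ f →
        ∃ l : Spec (CommRingCat.of A) ⟶ X, Spec.map (CommRingCat.ofHom φ) ≫ l = a ∧ l ≫ f = b) :
    IsClosedImmersion f := by
  let 𝒰 := X.affineCover.finiteSubcover
  haveI : ∀ i, IsAffine (𝒰.X i) := fun i => isAffine_Spec _
  let B := Γ(∐ 𝒰.X, ⊤)
  let q : Spec (CommRingCat.of B) ⟶ X := (∐ 𝒰.X).isoSpec.inv ≫ Sigma.desc 𝒰.f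
  obtain ⟨ψ, hψ⟩ := Spec.map_surjective (q ≫ f)
  let c : Spec (CommRingCat.of (R ⧸ RingHom.ker ψ.hom)) ⟶ Spec R :=
    Spec.map (CommRingCat.ofHom (Ideal.Quotient.mk (RingHom.ker ψ.hom)))
  haveI : IsClosedImmersion c := IsClosedImmersion.spec_of_surjective _ Ideal.Quotient.mk_surjective
  let φ : R ⧸ RingHom.ker ψ.hom →+* B := RingHom.kerLift ψ.hom
  have hsq : Spec.map (CommRingCat.ofHom φ) ≫ c = q ≫ f := by
    rw [← hψ, ← Spec.map_comp]
    rfl
  obtain ⟨l, hl, hlc⟩ := H _ _ φ (RingHom.kerLift_injective _) q c hsq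
  let j : ∀ i, 𝒰.X i ⟶ Spec (CommRingCat.of B) := fun i => Sigma.ι 𝒰.X i ≫ (∐ 𝒰.X).isoSpec.hom
  have hj : ∀ i, j i ≫ q = 𝒰.f i := fun i => by
    simp only [j, q, Category.assoc, Iso.hom_inv_id_assoc, Sigma.ι_desc]
  have hcmp : ∀ i, (j i ≫ Spec.map (CommRingCat.ofHom φ)) ≫ c = 𝒰.f i ≫ f := fun i => by
    rw [Category.assoc, hsq, ← Category.assoc, hj]
  let h : X ⟶ Spec (CommRingCat.of (R ⧸ RingHom.ker ψ.hom)) :=
    𝒰.glueMorphisms (fun i => j i ≫ Spec.map (CommRingCat.ofHom φ)) fun i i' => by
      rw [← cancel_mono c, Category.assoc (pullback.fst _ _), Category.assoc (pullback.snd _ _), hcmp, hcmp,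
        pullback.condition_assoc]
  have hhc : h ≫ c = f := Scheme.Cover.hom_ext 𝒰 _ _ fun i => by
    rw [← Category.assoc, Scheme.Cover.ι_glueMorphisms, hcmp]
  have h1 : h ≫ l = 𝟙 X := Scheme.Cover.hom_ext 𝒰 _ _ fun i => by
    rw [← Category.assoc, Scheme.Cover.ι_glueMorphisms, Category.assoc, hl, hj, Category.comp_id]
  have h2 : l ≫ h = 𝟙 _ := by rw [← cancel_mono c, Category.assoc, hhc, hlc, Category.id_comp]
  haveI : IsIso h := ⟨l, h1, h2⟩
  rw [← hhc]
  infer_instance

theorem isClosedImmersion_of_lifting {X Y : Scheme.{u}} (f : X ⟶ Y) [QuasiCompact f]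
    (H : ∀ (A B : Type u) [CommRing A] [CommRing B] (φ : A →+* B), Function.Injective φ →
      ∀ (a : Spec (CommRingCat.of B) ⟶ X) (b : Spec (CommRingCat.of A) ⟶ Y), Spec.map (CommRingCat.ofHom φ) ≫ b = a ≫ f →
        ∃ l : Spec (CommRingCat.of A) ⟶ X, Spec.map (CommRingCat.ofHom φ) ≫ l = a ∧ l ≫ f = b) :
    IsClosedImmersion f := by
  rw [IsZariskiLocalAtTarget.iff_of_openCover (P := @IsClosedImmersion) Y.affineCover]
  intro i
  show IsClosedImmersion (pullback.snd f (Y.affineCover.f i))
  haveI : CompactSpace ↥(pullback f (Y.affineCover.f i)) :=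
    QuasiCompact.compactSpace_of_compactSpace (pullback.snd f (Y.affineCover.f i))
  refine isClosedImmersion_of_affine _ fun A B _ _ φ hφ a b hab => ?_
  obtain ⟨l, hl, hlb⟩ := H A B φ hφ (a ≫ pullback.fst f _) (b ≫ Y.affineCover.f i) (by
    erw [← Category.assoc, hab]
    rw [Category.assoc, Category.assoc, pullback.condition]
    rfl)
  refine ⟨pullback.lift l b hlb, pullback.hom_ext ?_ ?_, pullback.lift_snd _ _ _⟩
  · rw [Category.assoc, pullback.lift_fst, hl]
  · rw [Category.assoc, pullback.lift_snd]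
    exact hab

end Groth.Agent.S1432.Aux

namespace Groth.Agent.S1432

open AlgebraicGeometry CategoryTheory Limits in
/-- For a quasi-compact morphism f : X → Y, being a closed immersion is equivalent to the following
lifting property: for each injective ring map A → B and each commutative square with Spec B → X on
top and Spec A → Y at the bottom there is a lift Spec A → X making both triangles commute. -/
theorem result {X Y : Scheme.{u}} (f : X ⟶ Y) [QuasiCompact f] :
    IsClosedImmersion f ↔ ∀ (A B : Type u) [CommRing A] [CommRing B] (φ : A →+* B), Function.Injective φ →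
      ∀ (a : Spec (CommRingCat.of B) ⟶ X) (b : Spec (CommRingCat.of A) ⟶ Y), Spec.map (CommRingCat.ofHom φ) ≫ b = a ≫ f →
        ∃ l : Spec (CommRingCat.of A) ⟶ X, Spec.map (CommRingCat.ofHom φ) ≫ l = a ∧ l ≫ f = b := by
  constructor
  · intro hf A B _ _ φ hφ a b hab
    have hinj : Function.Injective (pullback.fst b f).appTop := by
      have h1 : pullback.lift (Spec.map (CommRingCat.ofHom φ)) a hab ≫ pullback.fst b f = Spec.map (CommRingCat.ofHom φ) :=
        pullback.lift_fst _ _ _
      have h2 : Function.Injective (Spec.map (CommRingCat.ofHom φ)).appTop := by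
        have e : (Spec.map (CommRingCat.ofHom φ)).appTop =
            (Scheme.ΓSpecIso (CommRingCat.of A)).hom ≫ CommRingCat.ofHom φ ≫ (Scheme.ΓSpecIso (CommRingCat.of B)).inv := by
          rw [← Category.assoc, Iso.eq_comp_inv]
          exact Scheme.ΓSpecIso_naturality _
        rw [e]
        exact ((ConcreteCategory.bijective_of_isIso (Scheme.ΓSpecIso (CommRingCat.of B)).inv).1.comp hφ).comp
          (ConcreteCategory.bijective_of_isIso (Scheme.ΓSpecIso (CommRingCat.of A)).hom).1
      rw [← h1, Scheme.Hom.comp_appTop] at h2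
      exact Function.Injective.of_comp h2
    haveI := IsClosedImmersion.isIso_of_injective_of_isAffine hinj
    refine ⟨inv (pullback.fst b f) ≫ pullback.snd b f, ?_, ?_⟩
    · have h1 : pullback.lift (Spec.map (CommRingCat.ofHom φ)) a hab = Spec.map (CommRingCat.ofHom φ) ≫ inv (pullback.fst b f) := by
        rw [IsIso.eq_comp_inv, pullback.lift_fst]
      rw [← Category.assoc, ← h1, pullback.lift_snd]
    · rw [Category.assoc, ← pullback.condition, IsIso.inv_hom_id_assoc]
  · intro H
    exact Groth.Agent.S1432.Aux.isClosedImmersion_of_lifting f H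


end Groth.Agent.S1432
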