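import Groth.Statements.S1433
import Mathlib.AlgebraicGeometry.AffineScheme

set_option autoImplicit false
universe u
open FlatMor

namespace Groth.Agent.S1433

open AlgebraicGeometry CategoryTheory Limits in
/-- If the canonical morphism X → Spec Γ(X, O_X) has a retraction, then X is affine. -/
theorem result (X : Scheme.{u}) (r : Spec Γ(X, ⊤) ⟶ X) (h : X.toSpecΓ ≫ r = 𝟙 X) : IsAffine X := by
  have happ : r.appTop ≫ X.toSpecΓ.appTop = 𝟙 _ := by
    rw [← Scheme.Hom.comp_appTop, h]; rfl
  have hiso : IsIso X.toSpecΓ.appTop := by rw [Scheme.toSpecΓ_appTop]; infer_instance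
  have h' : X.toSpecΓ.appTop ≫ r.appTop = 𝟙 _ := by
    rw [← cancel_mono X.toSpecΓ.appTop, Category.assoc, happ, Category.comp_id, Category.id_comp]
  exact ⟨⟨r, h, ext_of_isAffine (by rw [Scheme.Hom.comp_appTop, h']; rfl)⟩⟩

end Groth.Agent.S1433
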