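import Groth.Statements.S14330
import Groth.Agent.L20.FlatHartogs
import Groth.Agent.L19.SchDense
-- import your own Groth.Agent.* helpers here

set_option autoImplicit false
universe u
open CategoryTheory CategoryTheory.Limits AlgebraicGeometry Opposite
open GrpSch

namespace Groth.Agent.S14330

/-- Restriction to the trace of `D` is injective on all opens if it is so on a basis. -/
theorem injective_of_basis {Y : Scheme.{u}} (F : TopCat.Sheaf Ab.{u} Y) (D : Y.Opens) (P : Y.Opens → Prop)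
    (hP : ∀ (W : Y.Opens) (y : Y), y ∈ W → ∃ B, P B ∧ y ∈ B ∧ B ≤ W)
    (h : ∀ B, P B → Function.Injective (F.presheaf.map (homOfLE (inf_le_left : B ⊓ D ≤ B)).op))
    (W : Y.Opens) : Function.Injective (F.presheaf.map (homOfLE (inf_le_left : W ⊓ D ≤ W)).op) := by
  intro a b hab
  refine TopCat.Sheaf.eq_of_locally_eq' F (fun B : {B // P B ∧ B ≤ W} => B.1) W
    (fun B => homOfLE B.2.2) (fun y hy => ?_) _ _ fun B => ?_
  · obtain ⟨B, hB, hyB, hle⟩ := hP W y hy
    exact TopologicalSpace.Opens.mem_iSup.2 ⟨⟨B, hB, hle⟩, hyB⟩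
  apply h B.1 B.2.1
  have := congrArg (F.presheaf.map (homOfLE (inf_le_inf_right D B.2.2)).op) hab
  simp only [← ConcreteCategory.comp_apply, ← Functor.map_comp] at this ⊢
  exact this

/-- Restriction to the trace of `D` is bijective on all opens if it is so on a basis. -/
theorem bijective_of_basis {Y : Scheme.{u}} (F : TopCat.Sheaf Ab.{u} Y) (D : Y.Opens) (P : Y.Opens → Prop)
    (hP : ∀ (W : Y.Opens) (y : Y), y ∈ W → ∃ B, P B ∧ y ∈ B ∧ B ≤ W)
    (h : ∀ B, P B → Function.Bijective (F.presheaf.map (homOfLE (inf_le_left : B ⊓ D ≤ B)).op))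
    (W : Y.Opens) : Function.Bijective (F.presheaf.map (homOfLE (inf_le_left : W ⊓ D ≤ W)).op) := by
  have hinj := injective_of_basis F D P hP fun B hB => (h B hB).1
  refine ⟨hinj W, fun s => ?_⟩
  choose t ht using fun B : {B // P B ∧ B ≤ W} =>
    (h B.1 B.2.1).2 (F.presheaf.map (homOfLE (inf_le_inf_right D B.2.2)).op s)
  obtain ⟨a, ha, -⟩ := TopCat.Sheaf.existsUnique_gluing' F (fun B : {B // P B ∧ B ≤ W} => B.1) W
    (fun B => homOfLE B.2.2) (fun y hy => by
      obtain ⟨B, hB, hyB, hle⟩ := hP W y hy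
      exact TopologicalSpace.Opens.mem_iSup.2 ⟨⟨B, hB, hle⟩, hyB⟩) t (fun i j => by
      apply hinj (i.1 ⊓ j.1)
      have e1 := congrArg (F.presheaf.map (homOfLE (inf_le_inf_right D
        (inf_le_left : i.1 ⊓ j.1 ≤ i.1))).op) (ht i)
      have e2 := congrArg (F.presheaf.map (homOfLE (inf_le_inf_right D
        (inf_le_right : i.1 ⊓ j.1 ≤ j.1))).op) (ht j)
      simp only [← ConcreteCategory.comp_apply, ← Functor.map_comp] at e1 e2 ⊢
      exact e1.trans e2.symm)
  refine ⟨a, TopCat.Sheaf.eq_of_locally_eq' F (fun B : {B // P B ∧ B ≤ W} => B.1 ⊓ D) (W ⊓ D)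
    (fun B => homOfLE (inf_le_inf_right D B.2.2)) (fun y hy => ?_) _ _ fun B => ?_⟩
  · obtain ⟨B, hB, hyB, hle⟩ := hP W y hy.1
    exact TopologicalSpace.Opens.mem_iSup.2 ⟨⟨B, hB, hle⟩, hyB, hy.2⟩
  have := congrArg (F.presheaf.map (homOfLE (inf_le_left : B.1 ⊓ D ≤ B.1)).op) (ha B)
  rw [ht B] at this
  simp only [← ConcreteCategory.comp_apply, ← Functor.map_comp] at this ⊢
  exact this

theorem iff_of_square {α β γ δ : Type*} (r : α → β) (r' : γ → δ) (p : α → γ) (q : β → δ)
    (hp : Function.Bijective p) (hq : Function.Bijective q) (h : r' ∘ p = q ∘ r) :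
    (Function.Injective r ↔ Function.Injective r') ∧ (Function.Bijective r ↔ Function.Bijective r') := by
  refine ⟨?_, ?_⟩
  · rw [← hq.1.of_comp_iff r, ← Function.Injective.of_comp_iff' r' hp, h]
  · rw [← Function.Bijective.of_comp_iff' hq r, ← Function.Bijective.of_comp_iff r' hp, h]

/-- Inside a trivialising open, sections of a module are functions, compatibly with restriction. -/
theorem map_iff_of_triv {Y : Scheme.{u}} {L : Y.Modules} {U : Y.Opens}
    (e : L.restrict U.ι ≅ Coh.structureModule (↑U)) {B B' : Y.Opens} (hB : B ≤ U) (hle : B' ≤ B) :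
    (Function.Injective (L.val.map (homOfLE hle).op) ↔
      Function.Injective (Y.presheaf.map (homOfLE hle).op)) ∧
    (Function.Bijective (L.val.map (homOfLE hle).op) ↔
      Function.Bijective (Y.presheaf.map (homOfLE hle).op)) := by
  have hB' : B' ≤ U := hle.trans hB
  obtain ⟨C, rfl⟩ : ∃ C : U.toScheme.Opens, U.ι ''ᵁ C = B := ⟨U.ι ⁻¹ᵁ B, by
    rw [Scheme.Hom.image_preimage_eq_opensRange_inf, Scheme.Opens.opensRange_ι, inf_eq_right.2 hB]⟩
  obtain ⟨C', rfl⟩ : ∃ C' : U.toScheme.Opens, U.ι ''ᵁ C' = B' := ⟨U.ι ⁻¹ᵁ B', by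
    rw [Scheme.Hom.image_preimage_eq_opensRange_inf, Scheme.Opens.opensRange_ι, inf_eq_right.2 hB']⟩
  have hC : C' ≤ C := (U.ι.image_le_image_iff _ _).1 hle
  let φ := (Scheme.Modules.toPresheaf _).mapIso e
  have hf := ConcreteCategory.bijective_of_isIso (φ.app (Opposite.op C)).hom
  have hf' := ConcreteCategory.bijective_of_isIso (φ.app (Opposite.op C')).hom
  have heq : Y.presheaf.map (homOfLE hle).op ∘ (φ.app (Opposite.op C)).hom =
      (φ.app (Opposite.op C')).hom ∘ L.val.map (homOfLE hle).op :=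
    funext fun z => (congr($(φ.hom.naturality (homOfLE hC).op) z)).symm
  exact iff_of_square _ _ _ _ hf hf' heq

/-- Let S be a locally Noetherian scheme, f : A → S a smooth morphism, L an invertible O_A-module and V
an open subscheme of S; for an open W of S consider the restriction of sections of L from f⁻¹(W) to
f⁻¹(W) ∩ f⁻¹(V), that is the component over W of the natural map f_*L → j_*j^*(f_*L), j : V → S the
inclusion. If V is schematically dense in S, all these restrictions are injective. If V is a big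
open of S, meaning that the local ring of S at every point outside V has depth at least 2, all these
restrictions are bijective. (The published statement is for a semi-stable group scheme A; its proof
uses only the smoothness of A over S and the local freeness of L, which are the hypotheses kept
here.) -/
theorem result {S A : Scheme.{u}} [IsLocallyNoetherian S]
    (f : A ⟶ S) [Smooth f] (L : A.Modules) (hL : PicF.IsInvertible L) (V : S.Opens) :
    (CInt.IsSchematicallyDense V →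
      ∀ W : S.Opens, Function.Injective (L.val.map (homOfLE (inf_le_left : f ⁻¹ᵁ W ⊓ f ⁻¹ᵁ V ≤ f ⁻¹ᵁ W)).op)) ∧
    ((∀ x : S, x ∉ V → 2 ≤ LocCoh.depth (S.presheaf.stalk x) (S.presheaf.stalk x)) →
      ∀ W : S.Opens, Function.Bijective (L.val.map (homOfLE (inf_le_left : f ⁻¹ᵁ W ⊓ f ⁻¹ᵁ V ≤ f ⁻¹ᵁ W)).op)) := by
  haveI : IsLocallyNoetherian A := LocallyOfFiniteType.isLocallyNoetherian f
  have hbasis : ∀ (W : A.Opens) (y : A), y ∈ W → ∃ B : A.Opens, (IsAffineOpen B ∧
      (∃ V' : S.Opens, IsAffineOpen V' ∧ B ≤ f ⁻¹ᵁ V') ∧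
      ∃ U : A.Opens, B ≤ U ∧ Nonempty (L.restrict U.ι ≅ Coh.structureModule (↑U))) ∧ y ∈ B ∧ B ≤ W := by
    intro W y hy
    obtain ⟨U, hyU, hU⟩ := hL y
    obtain ⟨V', hV', hyV', -⟩ := exists_isAffineOpen_mem_and_subset (x := f y) (U := ⊤) trivial
    obtain ⟨B, hB, hyB, hle⟩ := exists_isAffineOpen_mem_and_subset (x := y)
      (U := W ⊓ (U ⊓ f ⁻¹ᵁ V')) ⟨hy, hyU, hyV'⟩
    exact ⟨B, ⟨hB, ⟨V', hV', fun z hz => (hle hz).2.2⟩, U, fun z hz => (hle hz).2.1, hU⟩, hyB,
      fun z hz => (hle hz).1⟩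
  refine ⟨fun hV W => ?_, fun hV W => ?_⟩
  · refine injective_of_basis ⟨L.presheaf, L.isSheaf⟩ (f ⁻¹ᵁ V) _ hbasis (fun B hB => ?_) (f ⁻¹ᵁ W)
    obtain ⟨-, -, U, hBU, ⟨e⟩⟩ := hB
    exact (map_iff_of_triv e hBU inf_le_left).1.2
      (Groth.Agent.L19.SchDense.isSchematicallyDense_preimage f V hV B)
  · refine bijective_of_basis ⟨L.presheaf, L.isSheaf⟩ (f ⁻¹ᵁ V) _ hbasis (fun B hB => ?_) (f ⁻¹ᵁ W)
    obtain ⟨hBa, ⟨V', hV', hBV'⟩, U, hBU, ⟨e⟩⟩ := hB
    refine (map_iff_of_triv e hBU inf_le_left).2.2 ?_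
    have h := Groth.L20.FlatHartogs.appTop_bijective (U := V) hV f hV' hBa hBV'
    rw [Scheme.homOfLE_appTop] at h
    have e1 : ∀ O : A.Opens, O = O.ι ''ᵁ ⊤ := fun O => O.ι_image_top.symm
    have he : A.presheaf.map (homOfLE (inf_le_left : B ⊓ f ⁻¹ᵁ V ≤ B)).op =
        A.presheaf.map (eqToHom (congrArg Opposite.op (e1 B))) ≫
          A.presheaf.map (homOfLE (A.ι_image_homOfLE_le_ι_image
            (inf_le_left : B ⊓ f ⁻¹ᵁ V ≤ B) ⊤)).op ≫
          A.presheaf.map (eqToHom (congrArg Opposite.op (e1 (B ⊓ f ⁻¹ᵁ V)).symm)) := by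
      rw [← Functor.map_comp, ← Functor.map_comp]
      exact congrArg _ (Subsingleton.elim _ _)
    rw [he]
    exact ((ConcreteCategory.bijective_of_isIso (A.presheaf.map (eqToHom _))).comp h).comp
      (ConcreteCategory.bijective_of_isIso (A.presheaf.map (eqToHom _)))

end Groth.Agent.S14330
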