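import Groth.Statements.S14333
import Groth.Agent.L18.CIProjCoh

set_option autoImplicit false
universe u
open CategoryTheory CategoryTheory.Limits AlgebraicGeometry Opposite
open Coherent

namespace Groth.Agent.S14333

/-- Let k be a field, r ≤ n, and G_1, …, G_r homogeneous forms of positive degrees in the homogeneous
coordinates of P = P^n_k whose common zero scheme X = V(G_1, …, G_r), with its closed immersion ι :
X → P, has dimension n − r, so that X is a global complete intersection in P. Assume n − r ≥ 1. Then
for every integer i the restriction map H^0(P, O(i)) → H^0(X, ι^*O(i)) is surjective; it is written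
here as the map on global sections of the unit O(i) → ι_*ι^*O(i) of the adjunction between ι^* and
ι_*, whose target is the module of global sections of ι^*O(i). -/
theorem result (k : Type u) [Field k] (n r : ℕ) (hr : r ≤ n) (a : Fin r → ℕ) (ha : ∀ j, 1 ≤ a j) (G : ∀ j : Fin r, LefPen.Form n k (a j)) (hdim : topologicalKrullDim ↥(LefPen.ciIdeal G).subscheme = ((n - r : ℕ) : WithBot ℕ∞)) (h1 : 1 ≤ n - r) (i : ℤ) : Function.Surjective (((Scheme.Modules.pullbackPushforwardAdjunction (LefPen.ciIdeal G).subschemeι).unit.app (Twist.twistProjSpace n k i)).val.app (op ⊤)) := by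
  exact (Groth.L18.CIProj.vanishing_surjective r a ha G (Groth.L18.CIProj.isCI_pols hr ha G hdim.le)).2 h1 i

end Groth.Agent.S14333
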