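import Groth.Statements.S14335
import Groth.Agent.L18.CIProjDim

set_option autoImplicit false
universe u
open CategoryTheory CategoryTheory.Limits AlgebraicGeometry
open Coherent

namespace Groth.Agent.S14335

/-- Let k be a field, r ≤ n, and G_1, …, G_r homogeneous forms of positive degrees in the homogeneous
coordinates of P = P^n_k whose common zero scheme X = V(G_1, …, G_r), with its closed immersion ι :
X → P, has dimension n − r, so that X is a global complete intersection in P. Then X is
equidimensional: every irreducible component of X, with the subspace topology, has dimension exactly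
n − r. -/
theorem result (k : Type u) [Field k] (n r : ℕ) (hr : r ≤ n) (a : Fin r → ℕ) (ha : ∀ j, 1 ≤ a j) (G : ∀ j : Fin r, LefPen.Form n k (a j)) (hdim : topologicalKrullDim ↥(LefPen.ciIdeal G).subscheme = ((n - r : ℕ) : WithBot ℕ∞)) (Z : Set ↥(LefPen.ciIdeal G).subscheme) (hZ : Z ∈ irreducibleComponents ↥(LefPen.ciIdeal G).subscheme) : topologicalKrullDim ↥Z = ((n - r : ℕ) : WithBot ℕ∞) := by
  exact Groth.L18.CIProj.dim_component_eq hr ha G hdim.le hZ

end Groth.Agent.S14335
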