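import Groth.Statements.S14338
import Groth.Agent.L01.RankExchange

set_option autoImplicit false
universe u
open CAlg

namespace Groth.Agent.S14338

/-- Let B be a Noetherian ring, K and K' finitely generated flat B-modules and φ : K → K' a B-linear
map; for a prime y of B write κ(y) for its residue field and φ_y for the base change κ(y) ⊗ K → κ(y)
⊗ K'. Assume B is reduced and the number dim_{κ(y)} Im(φ_y) is the same for all primes y of B. Then
the cokernel K'/Im φ and the image Im φ are projective (locally free) B-modules. -/
theorem result (B : Type u) [CommRing B] [IsNoetherianRing B] (K K' : Type u) [AddCommGroup K] [Module B K] [Module.Finite B K] [Module.Flat B K] [AddCommGroup K'] [Module B K'] [Module.Finite B K'] [Module.Flat B K'] (φ : K →ₗ[B] K') [IsReduced B] (hconst : ∃ c : ℕ, ∀ y : PrimeSpectrum B, Module.finrank y.asIdeal.ResidueField ↥(LinearMap.range (φ.baseChange y.asIdeal.ResidueField)) = c) : Module.Projective B (K' ⧸ LinearMap.range φ) ∧ Module.Projective B ↥(LinearMap.range φ) := by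
  have := Module.finitePresentation_of_finite B K'
  obtain ⟨c, hc⟩ := hconst
  have hl : IsLocallyConstant (Groth.L01.RankExchange.mu (A := B) (K' ⧸ LinearMap.range φ)) := by
    refine (IsLocallyConstant.iff_eventually_eq _).mpr fun x => ?_
    filter_upwards [(Groth.L01.RankExchange.isLocallyConstant_mu (A := B) K').eventually_eq x] with y hy
    have h1 := Groth.L01.RankExchange.finrank_range_add_mu_coker φ x
    have h2 := Groth.L01.RankExchange.finrank_range_add_mu_coker φ y
    have h3 := hc x
    have h4 := hc y
    omega
  have := Groth.L01.RankExchange.flat_of_isLocallyConstant (K' ⧸ LinearMap.range φ) hl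
  have := Groth.L01.RankExchange.projective_of_flat (A := B) (K' ⧸ LinearMap.range φ)
  exact ⟨inferInstance, Groth.L01.RankExchange.projective_range_of_projective_coker φ⟩

end Groth.Agent.S14338
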