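import Groth.Statements.S14339
import Groth.Agent.L21.PlaneCurve.NotHyp

set_option autoImplicit false
set_option backward.isDefEq.respectTransparency false
universe u
open CategoryTheory CategoryTheory.Limits AlgebraicGeometry
open Curves

namespace Groth.Agent.S14339

/-- Let k be a field, d ≥ 4, and f a nonzero homogeneous form of degree d in the homogeneous coordinates
of P^2_k whose plane curve X = V_+(f) is smooth over k. Then X is not hyperelliptic: there is no
morphism φ : X → P^1_k over k which is finite and flat of constant rank 2 (a double cover of the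
projective line). -/
theorem result (k : Type u) [Field k] (d : ℕ) (hd : 4 ≤ d) (f : LefPen.Form 2 k d) (hf : f ≠ 0) [Smooth ((LefPen.hypIdeal f).subschemeι ≫ CohB1.ProjSpace.toSpec 2 k)] : ¬ ∃ φ : (LefPen.hypIdeal f).subscheme ⟶ CohB1.ProjSpace 1 k, φ ≫ CohB1.ProjSpace.toSpec 1 k = (LefPen.hypIdeal f).subschemeι ≫ CohB1.ProjSpace.toSpec 2 k ∧ IsFinite φ ∧ Flat φ ∧ ∀ y : ↥(CohB1.ProjSpace 1 k), Scheme.Hom.finrank φ y = 2 := by
  rintro ⟨φ, hφ, hfin, hflat, hrk⟩
  letI : (LefPen.hypIdeal f).subscheme.Over (Spec (CommRingCat.of k)) :=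
    ⟨(LefPen.hypIdeal f).subschemeι ≫ CohB1.ProjSpace.toSpec 2 k⟩
  haveI : Smooth ((LefPen.hypIdeal f).subscheme ↘ Spec (CommRingCat.of k)) := ‹_›
  exact Groth.L21.PlaneCurve.not_double_cover_line f hf rfl hd φ hφ hrk

end Groth.Agent.S14339
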