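import Groth.Statements.S1434
import Groth.Agent.L22.Ideal

set_option autoImplicit false
universe u
open FlatMor

set_option backward.isDefEq.respectTransparency.types false
namespace Groth.Agent.S1434

open AlgebraicGeometry CategoryTheory Limits in
/-- Part (1), for a closed subscheme: let Z ⊂ X be the closed subscheme cut out by an ideal sheaf I and
Z' the one cut out by I², its first order infinitesimal neighbourhood. Given a first order
thickening T → T', a morphism a : T → Z and a morphism b : T' → X compatible with them, there is a
unique morphism T' → Z' through which b factors (compatibility with a is then automatic). -/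
theorem result {X T T' : Scheme.{u}} (I : X.IdealSheafData) (t : T ⟶ T') (ht : MoreMor.IsFirstOrderThickening t)
    (a : T ⟶ I.subscheme) (b : T' ⟶ X) (w : a ≫ I.subschemeι = t ≫ b) :
    ∃! a' : T' ⟶ (I ^ 2).subscheme, a' ≫ (I ^ 2).subschemeι = b := by
  haveI := ht.1.1
  have h1 : I.comap b ≤ t.ker := by
    have e1 : t.ker = (⊥ : T.IdealSheafData).map t := (Scheme.IdealSheafData.map_bot t).symm
    rw [e1, Scheme.IdealSheafData.le_map_iff_comap_le, ← Scheme.IdealSheafData.comap_comp, ← w,
      Scheme.IdealSheafData.comap_comp]
    have h2 : I.comap I.subschemeι ≤ ⊥ := by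
      rw [← Scheme.IdealSheafData.le_map_iff_comap_le, Scheme.IdealSheafData.map_bot,
        Scheme.IdealSheafData.ker_subschemeι]
    exact (Scheme.IdealSheafData.comap_mono a h2).trans (Scheme.IdealSheafData.comap_bot a).le
  have h3 : (I ^ 2).subschemeι.ker ≤ b.ker := by
    rw [Scheme.IdealSheafData.ker_subschemeι, ← Scheme.IdealSheafData.map_bot b,
      Scheme.IdealSheafData.le_map_iff_comap_le, pow_two, Groth.L22.Ideals.comap_mul, ← ht.2]
    intro U
    simp only [Scheme.IdealSheafData.ideal_mul, Pi.mul_apply]
    exact Ideal.mul_mono (h1 U) (h1 U)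
  refine ⟨IsClosedImmersion.lift (I ^ 2).subschemeι b h3, IsClosedImmersion.lift_fac _ _ h3,
    fun a' ha' => ?_⟩
  rw [← cancel_mono (I ^ 2).subschemeι, IsClosedImmersion.lift_fac, ha']

end Groth.Agent.S1434
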