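import Groth.Statements.S14341
import Groth.Agent.L21.Duality.EllipticPic

set_option autoImplicit false
set_option backward.isDefEq.respectTransparency false
universe u
open CategoryTheory CategoryTheory.Limits AlgebraicGeometry
open Curves

namespace Groth.Agent.S14341

/-- Let k be a field and X a smooth proper geometrically connected curve over k (of dimension one) of
genus dim_k H^1(X, O_X) = 1, with a k-rational point O (a closed point with residue field k); for a
k-rational point P write I_P for the ideal sheaf of the reduced point P, an invertible ideal with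
inverse O_X(P). Then for every invertible O_X-module L of degree 0 there is exactly one k-rational
point P with L ⊗ I_P ≅ I_O, that is L ≅ O_X(P − O): the map P ↦ O_X(P − O) is a bijection from X(k)
onto the isomorphism classes of invertible modules of degree zero. -/
theorem result (k : Type u) [Field k] (X : Scheme.{u}) [X.Over (Spec (CommRingCat.of k))] [IsProper (X ↘ Spec (CommRingCat.of k))] [Smooth (X ↘ Spec (CommRingCat.of k))] [GeometricallyConnected (X ↘ Spec (CommRingCat.of k))] (hX : topologicalKrullDim X = 1) (hg : Curv2.genus k X = 1) (O : X) (hOc : IsClosed ({O} : Set X)) (hO : Function.Bijective (Curv2.resMap k X O)) (L : X.Modules) (hL : PicF.IsInvertible L) (hdeg : Curv2.deg k X L 1 = 0) : ∃! P : {x : X // IsClosed ({x} : Set X) ∧ Function.Bijective (Curv2.resMap k X x)}, Nonempty (CohB1.tensorMod L (ClSub.idealMod (Scheme.IdealSheafData.vanishingIdeal ⟨{P.1}, P.2.1⟩)) ≅ ClSub.idealMod (Scheme.IdealSheafData.vanishingIdeal ⟨{O}, hOc⟩)) := by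
  haveI : GeometricallyIntegral (X ↘ Spec (CommRingCat.of k)) :=
    Groth.L21.Disc.geometricallyIntegral_of_smooth (X ↘ Spec (CommRingCat.of k))
  haveI : IsIntegral X := GeometricallyIntegral.isIntegral_of_subsingleton (X ↘ Spec (CommRingCat.of k))
  exact Groth.L21.Duality.existsUnique_point (k := k) hX hg hOc hO hL hdeg

end Groth.Agent.S14341
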