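import Groth.Prelude.Def_BlowUp2
import Groth.Prelude.Def_LCI2
import Mathlib.RingTheory.Grassmannian
import Mathlib.AlgebraicGeometry.IdealSheaf.Basic
import Mathlib.CategoryTheory.Comma.Over.Basic
import Mathlib.LinearAlgebra.Quotient.Basic
import Mathlib.RingTheory.Ideal.Quotient.Basic
import Groth.Agent.L02.QuotLF.CokerBlow
import Groth.Agent.S10846

set_option autoImplicit false
set_option linter.style.haveILetI false
namespace QuotLF
end QuotLF
universe u
open CategoryTheory AlgebraicGeometry TensorProduct
open QuotLF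

namespace Groth.Agent.S14344


/-- Let R be a commutative ring, n ≥ 1, f = (f_1, …, f_n) a Koszul-regular sequence in R generating the
ideal I, and M = R^n / R·f the cokernel of R → R^n, 1 ↦ f (the cokernel of a Koszul-regular section
of a trivial rank-n bundle). If b : B ⟶ Spec R is a blowing-up of Spec R in I (universal property),
then B is a Quot scheme of rank-(n−1) locally free quotients of M: on R-algebras A there are
bijections, natural in A, between R-morphisms Spec A → B and submodules of A ⊗_R M whose quotient is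
finite projective of constant rank n − 1. (This is the affine case with trivial bundle, to which the
general statement reduces; the comparison of the tautological invertible modules and the local
complete intersection property of the projection are not part of this row.) -/
theorem result {R : Type u} [CommRing R] (n : ℕ) (hn : 1 ≤ n)
    (f : Fin n → R) (hf : LCI.IsKoszulRegularSeq R (List.ofFn f))
    {B : Scheme.{u}} (b : B ⟶ Spec (CommRingCat.of R))
    (hb : BlowUp.IsBlowUp b
      (Spec.map (CommRingCat.ofHom (Ideal.Quotient.mk (Ideal.span (Set.range f))))).ker) :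
    ∃ e : ∀ A : CommAlgCat.{u} R,
        (Over.mk (Spec.map (CommRingCat.ofHom (algebraMap R A))) ⟶ Over.mk b) ≃
          (Module.Grassmannian.functor (R := R) (M := (Fin n → R) ⧸ Submodule.span R {f}) (n - 1)).obj A,
      ∀ (A A' : CommAlgCat.{u} R) (φ : A ⟶ A')
        (g : Over.mk (Spec.map (CommRingCat.ofHom (algebraMap R A))) ⟶ Over.mk b)
        (g' : Over.mk (Spec.map (CommRingCat.ofHom (algebraMap R A'))) ⟶ Over.mk b),
        g'.left = Spec.map (CommRingCat.ofHom φ.hom.toRingHom) ≫ g.left →
          e A' g' = (Module.Grassmannian.functor (R := R) (M := (Fin n → R) ⧸ Submodule.span R {f}) (n - 1)).map φ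
            (e A g) := by
  obtain ⟨m, rfl⟩ : ∃ m, n = m + 1 := ⟨n - 1, by omega⟩
  obtain ⟨G, eG, heG⟩ := Groth.Agent.S10846.result R ((Fin (m + 1) → R) ⧸ Submodule.span R {f}) (m + 1 - 1)
  haveI : Module.FinitePresentation R ((Fin (m + 1) → R) ⧸ Submodule.span R {f}) :=
    Module.finitePresentation_of_surjective (Submodule.span R {f}).mkQ (Submodule.mkQ_surjective _)
      (by rw [Submodule.ker_mkQ]; exact Submodule.fg_span_singleton f)
  let I := Ideal.span (Set.range f)
  let 𝓘 := (Spec.map (CommRingCat.ofHom (Ideal.Quotient.mk I))).ker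
  have hcart : BlowUp.IsEffCartierIdeal (𝓘.comap G.hom) :=
    Groth.L02.QuotLF.Coker.isEffCartier (G := G) eG heG hf
  have hex : ∀ (T : Scheme.{u}) (t : T ⟶ Spec (CommRingCat.of R)), BlowUp.IsEffCartierIdeal (𝓘.comap t) →
      ∃! h : T ⟶ G.left, h ≫ G.hom = t := fun T t ht =>
    Groth.L02.QuotLF.existsUnique_hom (B := G) eG (J := ⊥)
      (fun j hj => (Groth.L02.QuotLF.Coker.fitting_bot f (j := j) (by omega)).le)
      (I := I) (Groth.L02.QuotLF.Coker.fitting_eq f).symm
      ⟨⟨t ≫ Spec.map (CommRingCat.ofHom (RingEquiv.quotientBot R).toRingHom), by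
        rw [Category.assoc, ← Spec.map_comp, ← CommRingCat.ofHom_comp,
          show (RingEquiv.quotientBot R).toRingHom.comp (Ideal.Quotient.mk ⊥) = RingHom.id R from
            RingHom.ext fun r => RingEquiv.quotientBot_mk r]
        simp⟩, ht⟩
  obtain ⟨α, hα, -⟩ := hb.2 G.left G.hom hcart
  obtain ⟨β, hβ, -⟩ := hex B b hb.1
  have hαβ : α ≫ β = 𝟙 G.left :=
    (hex G.left G.hom hcart).unique (by rw [Category.assoc, hβ, hα]) (Category.id_comp _)
  have hβα : β ≫ α = 𝟙 B := by
    obtain ⟨h, -, hu⟩ := hb.2 B b hb.1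
    exact (hu _ (show (β ≫ α) ≫ b = b by rw [Category.assoc, hα, hβ])).trans (hu _ (Category.id_comp _)).symm
  let iso : Over.mk b ≅ G := Over.isoMk ⟨β, α, hβα, hαβ⟩ hβ
  refine ⟨fun A => iso.homToEquiv.trans (eG A), fun A A' φ g g' h => ?_⟩
  refine heG A A' φ (g ≫ iso.hom) (g' ≫ iso.hom) ?_
  show g'.left ≫ β = _ ≫ g.left ≫ β
  rw [h, Category.assoc]

end Groth.Agent.S14344
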