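import Groth.Agent.L13.Fitting.LocFree
import Groth.Statements.S14345
-- import your own Groth.Agent.* helpers here

set_option autoImplicit false
universe u v
open TensorProduct
open QuotLF

namespace Groth.Agent.S14345

/-- Let R be a commutative ring, M a finitely generated R-module and k ≥ 0. If for an R-algebra A the
module A ⊗_R M admits a quotient that is finite projective of constant rank k (an A-valued point of
the Quot scheme of rank-k locally free quotients of M), then every Fitting ideal Fit_j(M) with j < k
extends to the zero ideal of A; that is, the structure map of the Quot scheme of rank-k locally free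
quotients factors through the closed subscheme cut out by Fit_{k-1}(M). -/
theorem result (R : Type u) [CommRing R]
    (M : Type v) [AddCommGroup M] [Module R M] [Module.Finite R M] (k : ℕ)
    (A : Type u) [CommRing A] [Algebra R A] (N : Module.Grassmannian A (A ⊗[R] M) k)
    (j : ℕ) (hj : j < k) :
    (Fitt.ideal R M j).map (algebraMap R A) = ⊥ := by
  obtain ⟨n, f, hf⟩ := Module.Finite.exists_fin' A ((A ⊗[R] M) ⧸ N.toSubmodule)
  let e : ((Fin n → A) ⧸ LinearMap.ker f) ≃ₗ[A] (A ⊗[R] M) ⧸ N.toSubmodule := LinearMap.quotKerEquivOfSurjective f hf
  haveI : Module.Projective A ((Fin n → A) ⧸ LinearMap.ker f) := Module.Projective.of_equiv e.symm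
  haveI : Module.FinitePresentation A ((Fin n → A) ⧸ LinearMap.ker f) := Module.finitePresentation_of_projective _ _
  have hr : ∀ p : PrimeSpectrum A, Module.rankAtStalk (R := A) ((Fin n → A) ⧸ LinearMap.ker f) p = k := fun p => by
    rw [congrFun (Module.rankAtStalk_eq_of_equiv e) p, N.rankAtStalk_eq p]
  rw [← Groth.L13.Fitting.ideal_baseChange (R' := A), ← le_bot_iff]
  refine (Groth.L13.Fitting.ideal_mono_surjective (e.symm.toLinearMap ∘ₗ N.toSubmodule.mkQ)
    (e.symm.surjective.comp (Submodule.mkQ_surjective _)) j).trans (le_of_eq ?_)
  exact ((Groth.L13.Fitting.projective_rank_iff k).1 ⟨inferInstance, hr⟩).1 j hj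

end Groth.Agent.S14345
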