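import Groth.Prelude.Def_Fitting
import Mathlib.LinearAlgebra.Dual.Defs
import Mathlib.LinearAlgebra.Quotient.Basic
import Groth.Agent.L13.Fitting.Minors
import Mathlib.LinearAlgebra.InvariantBasisNumber
import Mathlib.LinearAlgebra.Dual.Basis
import Mathlib.RingTheory.FiniteType
import Mathlib.LinearAlgebra.StdBasis

set_option autoImplicit false
set_option linter.style.haveILetI false
namespace QuotLF
end QuotLF
universe u
open QuotLF

namespace Groth.Agent.S14347

/-- Let R be a commutative ring and σ : R^m → R^n an injective linear map with cokernel M, so that M has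
a length-one resolution by finite free modules and rank δ = n − m; let K be the cokernel of the dual
map (R^n)^∨ → (R^m)^∨, which is the module Ext¹_R(M, R). Then the Fitting ideals satisfy Fit_{δ +
j}(M) = Fit_j(K) for all j ≥ 0, and Fit_i(M) = 0 for i < δ (the degeneracy loci of M and of K agree
after the shift by δ). -/
theorem result (R : Type u) [CommRing R] (m n : ℕ)
    (σ : (Fin m → R) →ₗ[R] (Fin n → R)) (hσ : Function.Injective σ) :
    (∀ j : ℕ, Fitt.ideal R ((Fin n → R) ⧸ LinearMap.range σ) (n - m + j) =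
        Fitt.ideal R (Module.Dual R (Fin m → R) ⧸ LinearMap.range σ.dualMap) j) ∧
      ∀ i : ℕ, i < n - m → Fitt.ideal R ((Fin n → R) ⧸ LinearMap.range σ) i = ⊥ := by
  classical
  rcases subsingleton_or_nontrivial R with hR | hR
  · exact ⟨fun j => SetLike.ext fun a => by rw [Subsingleton.elim a 0]; simp, fun i _ => SetLike.ext fun a => by
      rw [Subsingleton.elim a 0]; simp⟩
  have hmn : m ≤ n := le_of_fin_injective R σ hσ
  -- Fitting ideals are ideals of minors of any spanning family of relations
  have key : ∀ {M : Type u} [AddCommGroup M] [Module R M] (a b : ℕ) (x : Fin a → M) (w : Fin b → Fin a → R),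
      Submodule.span R (Set.range x) = ⊤ → (∀ z : Fin a → R, (∑ i, z i • x i = 0) ↔ z ∈ Submodule.span R (Set.range w)) →
      ∀ r, Fitt.ideal R M r = Ideal.span {d | ∃ (g : Fin (a - r) → Fin b) (e : Fin (a - r) → Fin a),
        d = (Matrix.of fun p q => w (g q) (e p)).det} := by
    intro M _ _ a b x w hx hw r
    rw [Groth.L13.Fitting.ideal_eq_tup x hx, Groth.L13.Fitting.tup_eq_minors]
    refine le_antisymm (Ideal.span_le.2 ?_) (Ideal.span_mono ?_)
    · rintro _ ⟨z, e, hz, rfl⟩
      rw [SetLike.mem_coe, ← Matrix.det_transpose]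
      refine Groth.L13.Fitting.det_mem_of_rows _ (fun _ => Set.range fun c : Fin b => fun p => w c (e p)) (fun c hc => ?_) _ (fun i => ?_)
      · choose g hg using hc
        rw [← Matrix.det_transpose]
        refine Ideal.subset_span ⟨g, e, congrArg Matrix.det ?_⟩
        ext p q
        exact (congrFun (hg q) p).symm
      · obtain ⟨c, hc⟩ := (Submodule.mem_span_range_iff_exists_fun R).1 ((hw _).1 (hz i))
        refine (Submodule.mem_span_range_iff_exists_fun R).2 ⟨c, funext fun p => ?_⟩
        have := congrFun hc (e p)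
        simpa [Finset.sum_apply] using this
    · rintro _ ⟨g, e, rfl⟩
      exact ⟨fun q => w (g q), e, fun q => (hw _).2 (Submodule.subset_span ⟨g q, rfl⟩), rfl⟩
  let A : Fin n → Fin m → R := fun i j => σ (Pi.single j 1) i
  have hσv : ∀ v, σ v = ∑ j, v j • σ (Pi.single j 1) := fun v => by
    conv_lhs => rw [pi_eq_sum_univ' v]
    simp [map_sum]
  let x : Fin n → (Fin n → R) ⧸ LinearMap.range σ := fun i => (LinearMap.range σ).mkQ (Pi.single i 1)
  have hxs : ∀ z : Fin n → R, ∑ i, z i • x i = (LinearMap.range σ).mkQ z := fun z => by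
    conv_rhs => rw [pi_eq_sum_univ' z, map_sum]
    simp [x]
  have hx : Submodule.span R (Set.range x) = ⊤ := eq_top_iff.2 fun y _ => by
    obtain ⟨z, rfl⟩ := Submodule.mkQ_surjective _ y
    rw [← hxs z]
    exact (Submodule.mem_span_range_iff_exists_fun R).2 ⟨z, rfl⟩
  have hw : ∀ z : Fin n → R, (∑ i, z i • x i = 0) ↔ z ∈ Submodule.span R (Set.range fun j => σ (Pi.single j 1)) := by
    intro z
    rw [hxs, Submodule.mkQ_apply, Submodule.Quotient.mk_eq_zero, Submodule.mem_span_range_iff_exists_fun]
    exact ⟨fun ⟨v, hv⟩ => ⟨v, (hσv v).symm.trans hv⟩, fun ⟨v, hv⟩ => ⟨v, (hσv v).trans hv⟩⟩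
  let y : Fin m → Module.Dual R (Fin m → R) ⧸ LinearMap.range σ.dualMap :=
    fun j => (LinearMap.range σ.dualMap).mkQ (LinearMap.proj j)
  let toD : (Fin m → R) → Module.Dual R (Fin m → R) := fun z => ∑ j, z j • LinearMap.proj j
  have hys : ∀ z, ∑ j, z j • y j = (LinearMap.range σ.dualMap).mkQ (toD z) := fun z => by simp [y, toD, map_sum]
  have hD : ∀ φ : Module.Dual R (Fin m → R), toD (fun j => φ (Pi.single j 1)) = φ := fun φ =>
    LinearMap.pi_ext fun i c => by
      have h : Pi.single i c = c • (Pi.single i 1 : Fin m → R) := by rw [← Pi.single_smul]; simp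
      conv_rhs => rw [h, map_smul]
      simp [toD, Pi.single_apply, mul_comm]
  have hy : Submodule.span R (Set.range y) = ⊤ := eq_top_iff.2 fun q _ => by
    obtain ⟨φ, rfl⟩ := Submodule.mkQ_surjective _ q
    rw [← hD φ, ← hys]
    exact (Submodule.mem_span_range_iff_exists_fun R).2 ⟨_, rfl⟩
  have hψ : ∀ (ψ : Module.Dual R (Fin n → R)) (j : Fin m),
      ψ (σ (Pi.single j 1)) = ∑ i, ψ (Pi.single i 1) * A i j := fun ψ j => by
    conv_lhs => rw [pi_eq_sum_univ' (σ (Pi.single j 1)), map_sum]
    simp [A, mul_comm]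
  have hv : ∀ z : Fin m → R, (∑ j, z j • y j = 0) ↔ z ∈ Submodule.span R (Set.range A) := by
    intro z
    rw [hys, Submodule.mkQ_apply, Submodule.Quotient.mk_eq_zero, Submodule.mem_span_range_iff_exists_fun]
    constructor
    · rintro ⟨ψ, hψz⟩
      refine ⟨fun i => ψ (Pi.single i 1), funext fun j => ?_⟩
      have h1 := LinearMap.congr_fun hψz (Pi.single j 1)
      rw [LinearMap.dualMap_apply, hψ] at h1
      simpa [toD, Pi.single_apply, Finset.sum_apply] using h1
    · rintro ⟨c, rfl⟩
      let ψ : Module.Dual R (Fin n → R) := ∑ i, c i • LinearMap.proj i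
      refine ⟨ψ, LinearMap.pi_ext fun j a => ?_⟩
      have h : Pi.single j a = a • (Pi.single j 1 : Fin m → R) := by rw [← Pi.single_smul]; simp
      rw [h, map_smul, map_smul, LinearMap.dualMap_apply, hψ]
      congr 1
      simp [ψ, toD, Pi.single_apply, Finset.sum_apply]
  constructor
  · intro j
    rw [key n m x _ hx hw, key m n y A hy hv]
    have e1 : n - (n - m + j) = m - j := by omega
    rw [e1]
    congr 1
    ext d
    constructor
    · rintro ⟨g, e, rfl⟩
      exact ⟨e, g, (Matrix.det_transpose _).symm⟩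
    · rintro ⟨g, e, rfl⟩
      exact ⟨e, g, (Matrix.det_transpose _).symm⟩
  · intro i hi
    rw [key n m x _ hx hw, eq_bot_iff, Ideal.span_le]
    rintro _ ⟨g, e, rfl⟩
    obtain ⟨p, q, hne, hpq⟩ := Fintype.exists_ne_map_eq_of_card_lt g (by simp; omega)
    exact Matrix.det_zero_of_column_eq hne fun l => by simp [hpq]

end Groth.Agent.S14347
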