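import Groth.Prelude.Def_BlowUp2
import Groth.Prelude.Def_CurvBase
import Groth.Prelude.Def_Fitting
import Mathlib.RingTheory.Grassmannian
import Mathlib.AlgebraicGeometry.IdealSheaf.Functorial
import Mathlib.AlgebraicGeometry.Pullbacks
import Mathlib.CategoryTheory.Comma.Over.Basic
import Mathlib.LinearAlgebra.Dual.Defs
import Mathlib.LinearAlgebra.Quotient.Basic
import Mathlib.RingTheory.Ideal.Quotient.Basic
import Mathlib.RingTheory.Ideal.Maps
import Groth.Agent.L02.QuotLF.LocPrincipal
import Groth.Agent.S14347

set_option autoImplicit false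
set_option linter.style.haveILetI false
namespace QuotLF
end QuotLF
universe u
open CategoryTheory CategoryTheory.Limits AlgebraicGeometry TensorProduct
open QuotLF

namespace Groth.Agent.S14348

/-- Let R be a commutative ring, σ : R^m → R^(m+δ) an injective linear map with cokernel M (so M has
homological dimension ≤ 1 and rank δ) and K the cokernel of the dual map (that is, Ext¹(M, R)); let
d ≥ δ; let Y ⊆ Spec R be the closed subscheme cut out by the Fitting ideals Fit_j(M), j < d (the
locus where M has rank at least d), and Z ⊆ Spec R the one cut out by Fit_d(M). Let B₊ and B₋ be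
schemes over Spec R representing, on R-algebras A and naturally in A, the rank-d locally free
quotients of A ⊗_R M and the rank-(d−δ) locally free quotients of A ⊗_R K (the two Quot schemes),
and let Ŷ = B₊ ×_{Spec R} B₋ with its structure map to Spec R. Then the inverse image ideal sheaf of
Z on Ŷ is locally principal; and whenever c : Ŷ → Y factors the structure map through Y, if the
inverse image ideal of Z on Ŷ is the ideal of an effective Cartier divisor then c is a blowing-up of
Y in Z ∩ Y (universal property). This is the local situation, with a chosen two-term resolution, to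
which the global statement for a module of homological dimension ≤ 1 on a connected scheme reduces;
the comparison of the tautological line bundles in the blowing-up assertion and the further
assertions on reducedness and the Cohen–Macaulay property are not stated. -/
theorem result {R : Type u} [CommRing R] (m δ d : ℕ) (hd : δ ≤ d)
    (σ : (Fin m → R) →ₗ[R] (Fin (m + δ) → R)) (hσ : Function.Injective σ)
    (Bp Bm : Over (Spec (CommRingCat.of R)))
    (ep : ∀ A : CommAlgCat.{u} R, (Over.mk (Spec.map (CommRingCat.ofHom (algebraMap R A))) ⟶ Bp) ≃ (Module.Grassmannian.functor (R := R) (M := ((Fin (m + δ) → R) ⧸ LinearMap.range σ)) d).obj A)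
    (hep : ∀ (A A' : CommAlgCat.{u} R) (φ : A ⟶ A') (g : (Over.mk (Spec.map (CommRingCat.ofHom (algebraMap R A))) ⟶ Bp)) (g' : (Over.mk (Spec.map (CommRingCat.ofHom (algebraMap R A'))) ⟶ Bp)),
      g'.left = Spec.map (CommRingCat.ofHom φ.hom.toRingHom) ≫ g.left →
        ep A' g' = (Module.Grassmannian.functor (R := R) (M := ((Fin (m + δ) → R) ⧸ LinearMap.range σ)) d).map φ (ep A g))
    (em : ∀ A : CommAlgCat.{u} R, (Over.mk (Spec.map (CommRingCat.ofHom (algebraMap R A))) ⟶ Bm) ≃ (Module.Grassmannian.functor (R := R) (M := (Module.Dual R (Fin m → R) ⧸ LinearMap.range σ.dualMap)) (d - δ)).obj A)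
    (hem : ∀ (A A' : CommAlgCat.{u} R) (φ : A ⟶ A') (g : (Over.mk (Spec.map (CommRingCat.ofHom (algebraMap R A))) ⟶ Bm)) (g' : (Over.mk (Spec.map (CommRingCat.ofHom (algebraMap R A'))) ⟶ Bm)),
      g'.left = Spec.map (CommRingCat.ofHom φ.hom.toRingHom) ≫ g.left →
        em A' g' = (Module.Grassmannian.functor (R := R) (M := (Module.Dual R (Fin m → R) ⧸ LinearMap.range σ.dualMap)) (d - δ)).map φ (em A g)) :
    Curv2.IsLocPrincipal
        ((Spec.map (CommRingCat.ofHom (Ideal.Quotient.mk (Fitt.ideal R ((Fin (m + δ) → R) ⧸ LinearMap.range σ) d)))).ker.comap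
          (pullback.fst Bp.hom Bm.hom ≫ Bp.hom)) ∧
      ∀ c : pullback Bp.hom Bm.hom ⟶
          Spec (CommRingCat.of (R ⧸ ⨆ j < d, Fitt.ideal R ((Fin (m + δ) → R) ⧸ LinearMap.range σ) j)),
        c ≫ Spec.map (CommRingCat.ofHom (Ideal.Quotient.mk (⨆ j < d, Fitt.ideal R ((Fin (m + δ) → R) ⧸ LinearMap.range σ) j))) =
            pullback.fst Bp.hom Bm.hom ≫ Bp.hom →
          BlowUp.IsEffCartierIdeal
              ((Spec.map (CommRingCat.ofHom (Ideal.Quotient.mk (Fitt.ideal R ((Fin (m + δ) → R) ⧸ LinearMap.range σ) d)))).ker.comap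
                (pullback.fst Bp.hom Bm.hom ≫ Bp.hom)) →
            BlowUp.IsBlowUp c
              (Spec.map (CommRingCat.ofHom (Ideal.Quotient.mk
                ((Fitt.ideal R ((Fin (m + δ) → R) ⧸ LinearMap.range σ) d).map
                  (Ideal.Quotient.mk (⨆ j < d, Fitt.ideal R ((Fin (m + δ) → R) ⧸ LinearMap.range σ) j)))))).ker := by
  have hnm : m + δ + (d - δ) = m + d := by omega
  refine ⟨Groth.L02.QuotLF.isLocPrincipal_comap σ hnm ep em, fun c hc hcart => ?_⟩
  have hfit := Groth.Agent.S14347.result R m (m + δ) σ hσ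
  haveI : Module.FinitePresentation R ((Fin (m + δ) → R) ⧸ LinearMap.range σ) :=
    Module.finitePresentation_of_surjective (LinearMap.range σ).mkQ (Submodule.mkQ_surjective _)
      (by rw [Submodule.ker_mkQ]; exact Module.Finite.iff_fg.mp inferInstance)
  haveI : Module.FinitePresentation R (Module.Dual R (Fin m → R) ⧸ LinearMap.range σ.dualMap) :=
    haveI : Module.FinitePresentation R (Module.Dual R (Fin m → R)) := Module.finitePresentation_of_projective _ _
    Module.finitePresentation_of_surjective (LinearMap.range σ.dualMap).mkQ (Submodule.mkQ_surjective _)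
      (by rw [Submodule.ker_mkQ]; exact Module.Finite.iff_fg.mp inferInstance)
  let M := (Fin (m + δ) → R) ⧸ LinearMap.range σ
  let I := Fitt.ideal R M d
  let J := ⨆ j < d, Fitt.ideal R M j
  have hIJ : (Spec.map (CommRingCat.ofHom (Ideal.Quotient.mk (I.map (Ideal.Quotient.mk J))))).ker =
      (Spec.map (CommRingCat.ofHom (Ideal.Quotient.mk I))).ker.comap
        (Spec.map (CommRingCat.ofHom (Ideal.Quotient.mk J))) := by
    rw [Groth.L02.Hilb.ker_specMap_mk, Groth.L02.Hilb.ker_specMap_mk, Groth.L02.Hilb.idealOf_comap]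
  constructor
  · rw [hIJ, ← Scheme.IdealSheafData.comap_comp, hc]
    exact hcart
  intro T g hg
  let ι := Spec.map (CommRingCat.ofHom (Ideal.Quotient.mk J))
  haveI : IsClosedImmersion ι := IsClosedImmersion.spec_of_surjective _ Ideal.Quotient.mk_surjective
  have hgood : Groth.L02.QuotLF.Good (g ≫ ι) J I := by
    refine ⟨⟨g, rfl⟩, ?_⟩
    rw [Scheme.IdealSheafData.comap_comp, ← hIJ]
    exact hg
  have hIK : I = Fitt.ideal R (Module.Dual R (Fin m → R) ⧸ LinearMap.range σ.dualMap) (d - δ) := by
    rw [← hfit.1 (d - δ), show m + δ - m + (d - δ) = d by omega]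
  have hJK : ∀ j < d - δ, Fitt.ideal R (Module.Dual R (Fin m → R) ⧸ LinearMap.range σ.dualMap) j ≤ J := fun j hj => by
    rw [← hfit.1 j]
    exact le_iSup₂_of_le (m + δ - m + j) (by omega) le_rfl
  obtain ⟨a, ha, hau⟩ := Groth.L02.QuotLF.existsUnique_hom ep
    (fun j hj => (le_iSup₂_of_le j hj le_rfl : Fitt.ideal R M j ≤ J)) rfl hgood
  obtain ⟨b, hb, hbu⟩ := Groth.L02.QuotLF.existsUnique_hom em hJK hIK hgood
  refine ⟨pullback.lift a b (ha.trans hb.symm), ?_, fun h hh => ?_⟩
  · show pullback.lift a b (ha.trans hb.symm) ≫ c = g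
    rw [← cancel_mono ι, Category.assoc, show c ≫ ι = _ from hc, pullback.lift_fst_assoc]
    exact ha
  · have h1 : h ≫ pullback.fst Bp.hom Bm.hom ≫ Bp.hom = g ≫ ι := by
      rw [← hc, ← Category.assoc, hh]
    refine pullback.hom_ext ?_ ?_
    · rw [pullback.lift_fst]
      exact hau _ ((Category.assoc _ _ _).trans h1)
    · rw [pullback.lift_snd]
      refine hbu _ ?_
      show (h ≫ pullback.snd Bp.hom Bm.hom) ≫ Bm.hom = g ≫ ι
      rw [Category.assoc, ← pullback.condition]
      exact h1

end Groth.Agent.S14348
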