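import Groth.Statements.S1435
import Groth.Agent.L20.Strat.Construct

set_option autoImplicit false
universe u
open FlatMor

set_option linter.style.haveILetI false
set_option backward.isDefEq.respectTransparency.types false

namespace Groth.Agent.S1435

open AlgebraicGeometry CategoryTheory Limits in
/-- A scheme has a finite affine stratification if and only if it is quasi-compact and quasi-separated. -/
theorem result (X : Scheme.{u}) :
    (∃ n : ℕ, MoreMor.HasAffineStratification X n) ↔ CompactSpace ↑X ∧ QuasiSeparatedSpace ↑X := by
  constructor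
  · rintro ⟨n, hX⟩
    obtain ⟨s, hs, hst⟩ := hX
    haveI : CompactSpace X := by
      refine ⟨?_⟩
      have e : (Set.univ : Set X) = ⋃ i : Fin (n + 1), {x : X | s x = i} := by ext y; simp
      rw [e]
      refine isCompact_iUnion fun i => ?_
      obtain ⟨Z, ι, _, _, _, hr⟩ := hst i
      rw [← hr]
      exact isCompact_range ι.continuous
    haveI : QuasiSeparatedSpace X := QuasiSeparatedSpace.of_isTopologicalBasis
      (b := fun U : X.affineOpens => (U.1 : Set X)) (by
        rw [show (Set.range fun U : X.affineOpens => (U.1 : Set X)) = _ from Set.image_eq_range _ _ |>.symm]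
        exact X.isBasis_affineOpens) fun U V => by
      have e : ((U.1 : Set X) ∩ V.1) = ⋃ i : Fin (n + 1), ((U.1 : Set X) ∩ V.1) ∩ {x : X | s x = i} := by ext y; simp
      rw [e]
      refine isCompact_iUnion fun i => ?_
      obtain ⟨Z, ι, _, _, _, hr⟩ := hst i
      rw [← hr, ← Set.image_preimage_eq_inter_range, Set.preimage_inter]
      exact (QuasiSeparatedSpace.inter_isCompact _ _ (ι ⁻¹ᵁ U.1).2 (U.2.preimage ι).isCompact (ι ⁻¹ᵁ V.1).2
        (V.2.preimage ι).isCompact).image ι.continuous
    exact ⟨inferInstance, inferInstance⟩
  · rintro ⟨_, _⟩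
    exact Groth.L20.Strat.exists_hasAffineStratification

end Groth.Agent.S1435
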