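import Groth.Statements.S14351
import Mathlib.RingTheory.Flat.FaithfullyFlat.Algebra

set_option autoImplicit false
universe u
open CAlg

namespace Groth.Agent.S14351

/-- For ring maps A → B → C with C faithfully flat over B and C faithfully flat over A, the ring B is
faithfully flat over A. -/
theorem result (A B C : Type u) [CommRing A] [CommRing B]
    [CommRing C] [Algebra A B] [Algebra B C] [Algebra A C] [IsScalarTower A B C]
    [Module.FaithfullyFlat B C] [Module.FaithfullyFlat A C] : Module.FaithfullyFlat A B := by
  have : Module.Flat A B := by
    rw [Module.Flat.iff_lTensor_preserves_injective_linearMap]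
    intro N N' _ _ _ _ f hf
    change Function.Injective (f.baseChange B)
    rw [← Module.FaithfullyFlat.lTensor_injective_iff_injective (R := B) (M := C)]
    have e : LinearMap.lTensor C (f.baseChange B) =
        (TensorProduct.AlgebraTensorModule.cancelBaseChange A B B C N').symm.toLinearMap ∘ₗ
          (TensorProduct.AlgebraTensorModule.map (LinearMap.id : C →ₗ[B] C) f) ∘ₗ
          (TensorProduct.AlgebraTensorModule.cancelBaseChange A B B C N).toLinearMap := by
      ext c n
      simp
    rw [e]
    simp only [LinearMap.coe_comp, LinearEquiv.coe_coe]
    exact (LinearEquiv.injective _).comp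
      ((Module.Flat.lTensor_preserves_injective_linearMap (M := C) f hf).comp (LinearEquiv.injective _))
  refine Module.FaithfullyFlat.of_comap_surjective fun p => ?_
  obtain ⟨q, hq⟩ := PrimeSpectrum.comap_surjective_of_faithfullyFlat (B := C) p
  exact ⟨PrimeSpectrum.comap (algebraMap B C) q, by
    rw [← PrimeSpectrum.comap_comp_apply, ← IsScalarTower.algebraMap_eq, hq]⟩

end Groth.Agent.S14351
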