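import Groth.Statements.S14353
import Mathlib.RingTheory.Artinian.Module
import Mathlib.RingTheory.FiniteLength
import Mathlib.LinearAlgebra.TensorProduct.RightExactness
import Mathlib.LinearAlgebra.TensorProduct.Pi
import Mathlib.RingTheory.TensorProduct.Finite
import Mathlib.Algebra.Category.ModuleCat.Limits
import Mathlib.Algebra.Category.ModuleCat.Monoidal.Basic
import Mathlib.CategoryTheory.Limits.ConcreteCategory.Basic
import Mathlib.Algebra.Module.FinitePresentation
import Mathlib.CategoryTheory.ConcreteCategory.EpiMono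

set_option autoImplicit false
set_option linter.style.haveILetI false
universe u
open CategoryTheory CategoryTheory.Limits CategoryTheory.MonoidalCategory
open CAlg

namespace Groth.Agent.S14353

/-- Compatible lifts along an inverse system of maps out of Artinian modules. -/
theorem exists_compatible {R : Type u} [CommRing R] (X Y : ℕ → Type u) [∀ n, AddCommGroup (X n)]
    [∀ n, Module R (X n)] [∀ n, AddCommGroup (Y n)] [∀ n, Module R (Y n)]
    (hX : ∀ n, IsArtinian R (X n))
    (t : ∀ n, X (n + 1) →ₗ[R] X n) (s : ∀ n, Y (n + 1) →ₗ[R] Y n) (d : ∀ n, X n →ₗ[R] Y n)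
    (hd : ∀ n x, d n (t n x) = s n (d (n + 1) x)) (y : ∀ n, Y n) (hy : ∀ n, s n (y (n + 1)) = y n)
    (hex : ∀ n, ∃ x, d n x = y n) :
    ∃ x : ∀ n, X n, (∀ n, t n (x (n + 1)) = x n) ∧ ∀ n, d n (x n) = y n := by
  classical
  -- iterated transition maps
  let T : ∀ n j, X (n + j) →ₗ[R] X n := fun n j =>
    Nat.rec LinearMap.id (fun j f => f ∘ₗ t (n + j)) j
  let P : ∀ n j, Submodule R (X n) := fun n j => (LinearMap.ker (d (n + j))).map (T n j)
  -- images of fibres
  let S : ∀ n j, Set (X n) := fun n j => T n j '' {x | d (n + j) x = y (n + j)}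
  have hne : ∀ n j, (S n j).Nonempty := fun n j => by
    obtain ⟨x, hx⟩ := hex (n + j); exact ⟨_, x, hx, rfl⟩
  have hsub : ∀ n j, S n (j + 1) ⊆ S n j := by
    rintro n j _ ⟨x, hx, rfl⟩
    exact ⟨t (n + j) x, (hd (n + j) x).trans ((congrArg _ hx).trans (hy _)), rfl⟩
  have hPle : ∀ n, Antitone (P n) := fun n => antitone_nat_of_succ_le fun j => by
    rintro _ ⟨x, hx, rfl⟩
    exact ⟨t (n + j) x, by
      show d (n + j) (t (n + j) x) = 0
      rw [hd, show d (n + j + 1) x = 0 from hx, map_zero], rfl⟩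
  have hstab : ∀ n, ∃ j₀, ∀ j, j₀ ≤ j → P n j = P n j₀ := fun n => by
    haveI := hX n
    obtain ⟨j₀, h⟩ := IsArtinian.monotone_stabilizes ⟨fun j => OrderDual.toDual (P n j), hPle n⟩
    exact ⟨j₀, fun j hj => (h j hj).symm⟩
  choose j₀ hj₀ using hstab
  have hanti : ∀ n, Antitone (S n) := fun n => antitone_nat_of_succ_le (hsub n)
  have hSeq : ∀ n j, j₀ n ≤ j → S n j = S n (j₀ n) := by
    intro n j hj
    refine (hanti n hj).antisymm fun z hz => ?_
    obtain ⟨x, hx, rfl⟩ := hz
    obtain ⟨w, hw⟩ := hne n j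
    obtain ⟨x', hx', hx'w⟩ := (hanti n hj) hw
    have hdiff : T n (j₀ n) x - w ∈ P n (j₀ n) := by
      rw [← hx'w, ← map_sub]
      exact ⟨x - x', by rw [SetLike.mem_coe, LinearMap.mem_ker, map_sub, hx, hx', sub_self], rfl⟩
    rw [← hj₀ n j hj] at hdiff
    obtain ⟨z, hz, hzeq⟩ := hdiff
    obtain ⟨v, hv, hvw⟩ := hw
    refine ⟨v + z, ?_, ?_⟩
    · show d (n + j) (v + z) = _
      rw [map_add, show d (n + j) z = 0 from hz, add_zero]; exact hv
    · rw [map_add, hvw, hzeq]; abel
  let U : ∀ n, Set (X n) := fun n => S n (j₀ n)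
  -- transition maps commute with the iteration
  have hT : ∀ n j, ∀ x : X (n + 1 + j), ∃ x' : X (n + (j + 1)),
      HEq x' x ∧ T n (j + 1) x' = t n (T (n + 1) j x) := by
    intro n j
    induction j with
    | zero => intro x; exact ⟨x, HEq.rfl, rfl⟩
    | succ j ih =>
      intro x
      have e : n + 1 + j = n + (j + 1) := by omega
      obtain ⟨x', hx', hT'⟩ := ih (t (n + 1 + j) x)
      have key : ∀ (m m' : ℕ), m = m' → ∀ (u : X (m + 1)) (v : X (m' + 1)), HEq u v → HEq (t m u) (t m' v) := by
        rintro m _ rfl u v huv; rw [eq_of_heq huv]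
      refine ⟨cast (congrArg X (by omega)) x, cast_heq _ _, ?_⟩
      show T n (j + 1) (t (n + (j + 1)) _) = t n (T (n + 1) j (t (n + 1 + j) x))
      rw [← hT']
      exact congrArg _ (eq_of_heq ((key _ _ e.symm _ _ (cast_heq _ _)).trans hx'.symm))
  have hsurj : ∀ n, ∀ z ∈ U n, ∃ w ∈ U (n + 1), t n w = z := by
    intro n z hz
    obtain ⟨j, hj1, hj2⟩ : ∃ j, j₀ n ≤ j + 1 ∧ j₀ (n + 1) ≤ j := ⟨j₀ n + j₀ (n + 1), by omega, by omega⟩
    rw [show U n = S n (j + 1) from (hSeq n _ hj1).symm] at hz
    obtain ⟨x, hx, rfl⟩ := hz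
    have e : n + (j + 1) = n + 1 + j := by omega
    obtain ⟨x', hx', hT'⟩ := hT n j (cast (congrArg X e) x)
    have hxx : x' = x := eq_of_heq (hx'.trans (cast_heq _ _))
    refine ⟨T (n + 1) j (cast (congrArg X e) x), ?_, by rw [← hT', hxx]⟩
    rw [show U (n + 1) = S (n + 1) j from (hSeq (n + 1) _ hj2).symm]
    refine ⟨_, ?_, rfl⟩
    show d (n + 1 + j) _ = y (n + 1 + j)
    have : ∀ (m m' : ℕ) (h : m = m') (u : X m), d m u = y m → d m' (cast (congrArg X h) u) = y m' := by
      rintro m _ rfl u hu; exact hu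
    exact this _ _ e x hx
  choose nxt hnxt1 hnxt2 using hsurj
  let seq : ∀ n, {z // z ∈ U n} := fun n =>
    Nat.rec ⟨(hne 0 (j₀ 0)).some, (hne 0 (j₀ 0)).some_mem⟩ (fun n z => ⟨nxt n z.1 z.2, hnxt1 n z.1 z.2⟩) n
  refine ⟨fun n => (seq n).1, fun n => hnxt2 n _ _, fun n => ?_⟩
  have h0 : (seq n).1 ∈ S n 0 := hanti n (Nat.zero_le _) (seq n).2
  obtain ⟨x, hx, hxe⟩ := h0
  show d n (seq n).1 = y n
  rw [← hxe]
  exact hx

open Opposite TensorProduct in
theorem isIso_of_presentation (R : Type u) [CommRing R]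
    (M : ℕᵒᵖ ⥤ ModuleCat.{u} R) (hM : ∀ n : ℕᵒᵖ, IsFiniteLength R (M.obj n))
    (N : Type u) [AddCommGroup N] [Module R N] {b : ℕ} (π : (Fin b → R) →ₗ[R] N)
    (hπ : Function.Surjective π) (hker : (LinearMap.ker π).FG) :
    IsIso (limit.post M (tensorRight (ModuleCat.of R N))) := by
  classical
  obtain ⟨a, gens, hgens⟩ := Submodule.fg_iff_exists_fin_generating_family.mp hker
  obtain ⟨g, hg⟩ : ∃ g : (Fin a → R) →ₗ[R] (Fin b → R), LinearMap.range g = LinearMap.ker π :=
    ⟨Fintype.linearCombination R gens, (Fintype.range_linearCombination R gens).trans hgens⟩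
  let M' : ℕ → Type u := fun n => M.obj (op n)
  let t : ∀ n, M' (n + 1) →ₗ[R] M' n := fun n => (M.map (homOfLE (Nat.le_succ n)).op).hom
  let L : Type u := (limit M : ModuleCat.{u} R)
  let p : ∀ n, L →ₗ[R] M' n := fun n => (limit.π M (op n)).hom
  have hp : ∀ n x, t n (p (n + 1) x) = p n x := fun n x =>
    DFunLike.congr_fun (congrArg ModuleCat.Hom.hom (limit.w M (homOfLE (Nat.le_succ n)).op)) x
  have hArt : ∀ (c : ℕ) n, IsArtinian R (M' n ⊗[R] (Fin c → R)) := fun c n => by
    haveI := (isFiniteLength_iff_isNoetherian_isArtinian.mp (hM (op n))).2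
    exact isArtinian_of_linearEquiv (TensorProduct.piScalarRight R R (M' n) (Fin c)).symm
  -- elements of the limit
  have hfam : ∀ (F : ℕᵒᵖ ⥤ ModuleCat.{u} R) (x : ∀ n, F.obj (op n)),
      (∀ n, F.map (homOfLE (Nat.le_succ n)).op (x (n + 1)) = x n) →
      ∃ z : (limit F : ModuleCat.{u} R), ∀ n, limit.π F (op n) z = x n := by
    intro F x hx
    have hc : ∀ (i j : ℕ) (h : i ≤ j), F.map (homOfLE h).op (x j) = x i := by
      intro i j h
      induction j, h using Nat.le_induction with
      | base => rw [show (homOfLE (le_refl i)).op = 𝟙 _ from Subsingleton.elim _ _, CategoryTheory.Functor.map_id]; rfl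
      | succ j h ih =>
        rw [← homOfLE_comp h (Nat.le_succ j), op_comp, CategoryTheory.Functor.map_comp, ModuleCat.comp_apply, hx, ih]
    let sec : (F ⋙ forget (ModuleCat.{u} R)).sections :=
      ⟨fun i => x i.unop, fun {i j} f => by
        have := hc j.unop i.unop (leOfHom f.unop)
        rw [show f = (homOfLE (leOfHom f.unop)).op from Subsingleton.elim _ _]
        exact this⟩
    let hl := isLimitOfPreserves (forget (ModuleCat.{u} R)) (limit.isLimit F)
    refine ⟨(Types.isLimitEquivSections hl).symm sec, fun n => ?_⟩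
    exact congrFun (congrArg Subtype.val ((Types.isLimitEquivSections hl).apply_symm_apply sec)) (op n)
  -- the comparison for free modules
  have hfree : ∀ (c : ℕ) (z : ∀ n, M' n ⊗[R] (Fin c → R)),
      (∀ n, (t n).rTensor _ (z (n + 1)) = z n) → ∃ w : L ⊗[R] (Fin c → R), ∀ n, (p n).rTensor _ w = z n := by
    intro c z hz
    have hnat : ∀ {A B : Type u} [AddCommGroup A] [Module R A] [AddCommGroup B] [Module R B] (f : A →ₗ[R] B)
        (u : A ⊗[R] (Fin c → R)) (i : Fin c),
        TensorProduct.piScalarRight R R B (Fin c) (f.rTensor _ u) i =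
          f (TensorProduct.piScalarRight R R A (Fin c) u i) := by
      intro A B _ _ _ _ f u i
      induction u with
      | zero => simp
      | tmul x v => simp [TensorProduct.piScalarRight_apply]
      | add u v hu hv => simp only [map_add, Pi.add_apply, hu, hv]
    have hcomp : ∀ i : Fin c, ∃ w : L, ∀ n, p n w = TensorProduct.piScalarRight R R (M' n) (Fin c) (z n) i :=
      fun i => hfam M (fun n => TensorProduct.piScalarRight R R (M' n) (Fin c) (z n) i) (fun n => by
        show t n _ = _
        rw [← hnat (t n), hz])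
    choose w hw using hcomp
    refine ⟨(TensorProduct.piScalarRight R R L (Fin c)).symm w, fun n => ?_⟩
    apply (TensorProduct.piScalarRight R R (M' n) (Fin c)).injective
    funext i
    rw [hnat, LinearEquiv.apply_symm_apply, hw]
  have hzero : ∀ (c : ℕ) (u : L ⊗[R] (Fin c → R)), (∀ n, (p n).rTensor _ u = 0) → u = 0 := by
    intro c u hu
    apply (TensorProduct.piScalarRight R R L (Fin c)).injective
    funext i
    rw [map_zero]
    refine Concrete.limit_ext M _ _ fun j => ?_
    have h1 : TensorProduct.piScalarRight R R (M' j.unop) (Fin c) ((p j.unop).rTensor _ u) i =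
        p j.unop (TensorProduct.piScalarRight R R L (Fin c) u i) := by
      clear hu
      induction u with
      | zero => simp
      | tmul x v => simp [TensorProduct.piScalarRight_apply]
      | add u v hu hv => simp only [map_add, Pi.add_apply, hu, hv]
    rw [hu, map_zero] at h1
    show p j.unop _ = p j.unop 0
    rw [map_zero]
    exact h1.symm
  have hcommute : ∀ {A B C D : Type u} [AddCommGroup A] [Module R A] [AddCommGroup B] [Module R B]
      [AddCommGroup C] [Module R C] [AddCommGroup D] [Module R D] (f : A →ₗ[R] B) (h : C →ₗ[R] D) (u : A ⊗[R] C),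
      h.lTensor B (f.rTensor C u) = f.rTensor D (h.lTensor A u) := by
    intro A B C D _ _ _ _ _ _ _ _ f h u
    induction u with
    | zero => simp
    | tmul x v => simp
    | add u v hu hv => simp only [map_add, hu, hv]
  let ψ := limit.post M (tensorRight (ModuleCat.of R N))
  have hψ : ∀ (n : ℕ) (u : L ⊗[R] N),
      limit.π (M ⋙ tensorRight (ModuleCat.of R N)) (op n) (ψ u) = (p n).rTensor N u := by
    intro n u
    have := DFunLike.congr_fun (congrArg ModuleCat.Hom.hom
      (limit.post_π M (tensorRight (ModuleCat.of R N)) (op n))) u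
    exact this
  rw [ConcreteCategory.isIso_iff_bijective]
  constructor
  · refine (injective_iff_map_eq_zero ψ.hom).mpr fun u hu => ?_
    obtain ⟨v, rfl⟩ := LinearMap.lTensor_surjective L hπ u
    have hv : ∀ n, ∃ w, g.lTensor (M' n) w = (p n).rTensor _ v := fun n => by
      refine ((lTensor_exact (M' n) (LinearMap.exact_iff.mpr hg.symm) hπ) _).mp ?_
      rw [hcommute, ← hψ]
      exact (congrArg _ hu).trans (map_zero _)
    obtain ⟨w, hw1, hw2⟩ := exists_compatible (fun n => M' n ⊗[R] (Fin a → R))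
      (fun n => M' n ⊗[R] (Fin b → R)) (hArt a) (fun n => (t n).rTensor _) (fun n => (t n).rTensor _)
      (fun n => g.lTensor (M' n)) (fun n x => hcommute _ _ _) (fun n => (p n).rTensor _ v)
      (fun n => by
        rw [← LinearMap.comp_apply, ← LinearMap.rTensor_comp,
          show t n ∘ₗ p (n + 1) = p n from LinearMap.ext (hp n)]) hv
    obtain ⟨W, hW⟩ := hfree a w hw1
    have hvW : v = g.lTensor L W := by
      rw [← sub_eq_zero]
      refine hzero b _ fun n => ?_
      rw [map_sub, ← hcommute, hW, hw2, sub_self]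
    rw [hvW, ← LinearMap.comp_apply, ← LinearMap.lTensor_comp,
      show π ∘ₗ g = 0 from LinearMap.ext fun x => (hg.le ⟨x, rfl⟩ : g x ∈ LinearMap.ker π),
      LinearMap.lTensor_zero, LinearMap.zero_apply]
  · intro y
    let y' : ∀ n, M' n ⊗[R] N := fun n => limit.π (M ⋙ tensorRight (ModuleCat.of R N)) (op n) y
    obtain ⟨z, hz1, hz2⟩ := exists_compatible (fun n => M' n ⊗[R] (Fin b → R)) (fun n => M' n ⊗[R] N)
      (hArt b) (fun n => (t n).rTensor _) (fun n => (t n).rTensor _) (fun n => π.lTensor (M' n))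
      (fun n x => hcommute _ _ _) y'
      (fun n => DFunLike.congr_fun (congrArg ModuleCat.Hom.hom
        (limit.w (M ⋙ tensorRight (ModuleCat.of R N)) (homOfLE (Nat.le_succ n)).op)) y)
      (fun n => LinearMap.lTensor_surjective (M' n) hπ (y' n))
    obtain ⟨W, hW⟩ := hfree b z hz1
    refine ⟨π.lTensor L W, Concrete.limit_ext _ _ _ fun j => ?_⟩
    show limit.π (M ⋙ tensorRight (ModuleCat.of R N)) (op j.unop) (ψ (π.lTensor L W)) = y' j.unop
    rw [hψ, ← hcommute, hW, hz2]



/-- For a commutative ring R, an inverse system (M_n)_{n ∈ ℕ} of R-modules of finite length and a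
finitely presented R-module N, the canonical comparison map (lim_n M_n) ⊗_R N ⟶ lim_n (M_n ⊗_R N) is
an isomorphism. (The published statement takes N = R/I for a finitely generated ideal I; the
argument covers every finitely presented N, which is the form stated here.) -/
theorem result (R : Type u) [CommRing R]
    (M : ℕᵒᵖ ⥤ ModuleCat.{u} R) (hM : ∀ n : ℕᵒᵖ, IsFiniteLength R (M.obj n))
    (N : Type u) [AddCommGroup N] [Module R N] [Module.FinitePresentation R N] :
    IsIso (limit.post M (tensorRight (ModuleCat.of R N))) := by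
  classical
  obtain ⟨b, K, e, hK⟩ := Module.FinitePresentation.exists_fin R N
  refine isIso_of_presentation R M hM N (e.symm.toLinearMap ∘ₗ K.mkQ)
    (e.symm.surjective.comp K.mkQ_surjective) ?_
  rwa [LinearMap.ker_comp_of_ker_eq_bot _ e.symm.ker, Submodule.ker_mkQ]


end Groth.Agent.S14353
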