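import Groth.Statements.S14354
import Groth.Agent.L16.CohKernel
import Groth.Agent.L16.CohSupport
import Groth.Agent.L16.AffineBC.Pullback
import Groth.Agent.L10.RlimML
import Groth.Agent.L16.Acc
import Groth.Agent.L16.AffineBC.Local

set_option autoImplicit false
universe u
open CategoryTheory CategoryTheory.Limits AlgebraicGeometry Opposite
open Coh

set_option backward.isDefEq.respectTransparency false
set_option backward.isDefEq.respectTransparency.types false

namespace Groth.Agent.S14354

/-- Let X be a locally Noetherian scheme and (G_e)_{e ∈ ℕ} an inverse system of coherent O_X-modules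
satisfying the Mittag-Leffler condition, in the sense that for every e the image subobject of G_d ⟶
G_e is the same for all sufficiently large d. Then for every e the support of the image of the
canonical map lim_d G_d ⟶ G_e is closed in X. (The published statement is the case where G_e is the
i-th cohomology sheaf of the Fourier–Mukai transform of the e-th member of a Mittag-Leffler inverse
system of coherent modules on an abelian variety; the argument uses only the coherence of the G_e
and their Mittag-Leffler condition, which is the form stated here.) -/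
theorem result (X : Scheme.{u}) [IsLocallyNoetherian X]
    (G : ℕᵒᵖ ⥤ X.Modules) (hG : ∀ n : ℕᵒᵖ, Coh.IsCoh (G.obj n))
    (hML : ∀ e : ℕ, ∃ (d : ℕ) (hd : e ≤ d), ∀ (d' : ℕ) (hd' : d ≤ d'),
      imageSubobject (G.map (homOfLE (hd.trans hd')).op) = imageSubobject (G.map (homOfLE hd).op))
    (e : ℕ) : IsClosed (CohB1.support (image (limit.π G (op e)))) := by
  let tr : ∀ {n m : ℕ}, n ≤ m → (G.obj (op m) ⟶ G.obj (op n)) := fun h => G.map (homOfLE h).op
  have hcohS : ∀ {n m : ℕ} (h : n ≤ m), Coh.IsCoh (imageSubobject (tr h) : X.Modules) := fun {n m} h => by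
    have h1 := (Groth.L16.CohKernel.isCoh_kernel_cokernel (hG (op m)) (hG (op n)) (tr h)).2
    have h2 := (Groth.L16.CohKernel.isCoh_kernel_cokernel (hG (op n)) h1 (cokernel.π (tr h))).1
    exact Groth.L16.CohSupport.isCoh_of_iso
      ((imageSubobjectIso (tr h)) ≪≫ (Abelian.imageIsoImage (tr h)).symm).symm h2
  choose d hd hst using hML
  -- the elements of the stable images over an affine open lift
  have key : ∀ (U : X.Opens), IsAffineOpen U → ∀ (n : ℕ) (y : Γ(G.obj (op n), U)),
      (∃ z, (tr (hd n)).app U z = y) → ∀ D (hD : d n ≤ D), ∃ z, (tr ((hd n).trans hD)).app U z = y := by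
    intro U hU n y hy D hD
    obtain ⟨z, rfl⟩ := hy
    haveI : Coh.IsQCoh (G.obj (op D)) := (hG (op D)).1
    haveI : Coh.IsQCoh (imageSubobject (tr ((hd n).trans hD)) : X.Modules) := (hcohS _).1
    let k := Subobject.ofLE (imageSubobject (tr (hd n))) (imageSubobject (tr ((hd n).trans hD))) (hst n D hD).ge
    have hk : (factorThruImageSubobject (tr (hd n)) ≫ k) ≫ (imageSubobject (tr ((hd n).trans hD))).arrow = tr (hd n) := by
      rw [Category.assoc, Subobject.ofLE_arrow, imageSubobject_arrow_comp]
    obtain ⟨w, hw⟩ := Groth.L16.AffineBC.surjective_app_of_epi (factorThruImageSubobject (tr ((hd n).trans hD))) hU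
      ((factorThruImageSubobject (tr (hd n)) ≫ k).app U z)
    refine ⟨w, ?_⟩
    have e1 := ConcreteCategory.congr_hom (congrArg (fun t => Scheme.Modules.Hom.app t U) hk) z
    have e2 := ConcreteCategory.congr_hom (congrArg (fun t => Scheme.Modules.Hom.app t U)
      (imageSubobject_arrow_comp (tr ((hd n).trans hD)))) w
    refine e2.symm.trans (Eq.trans ?_ e1)
    exact congrArg ((imageSubobject (tr ((hd n).trans hD))).arrow.app U) hw
  let q : limit G ⟶ (imageSubobject (tr (hd e)) : X.Modules) :=
    limit.π G (op (d e)) ≫ factorThruImageSubobject (tr (hd e))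
  have hq : q ≫ (imageSubobject (tr (hd e))).arrow = limit.π G (op e) := by
    rw [Category.assoc, imageSubobject_arrow_comp]
    exact limit.w G (homOfLE (hd e)).op
  haveI : Epi q := by
    refine ⟨fun u v huv => Groth.L16.AffineBC.hom_ext_affine _ _ fun U hU s => ?_⟩
    haveI : Coh.IsQCoh (G.obj (op (d e))) := (hG _).1
    haveI : Coh.IsQCoh (imageSubobject (tr (hd e)) : X.Modules) := (hcohS _).1
    obtain ⟨z, hz⟩ := Groth.L16.AffineBC.surjective_app_of_epi (factorThruImageSubobject (tr (hd e))) hU s
    -- a compatible family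
    let T : ℕ → Type u := fun n => {y : Γ(G.obj (op (e + n)), U) // ∃ z, (tr (hd (e + n))).app U z = y}
    let y₀ : Γ(G.obj (op e), U) := (imageSubobject (tr (hd e))).arrow.app U s
    have hy₀ : ∃ z, (tr (hd e)).app U z = y₀ := ⟨z,
      (ConcreteCategory.congr_hom (congrArg (fun t => Scheme.Modules.Hom.app t U)
        (imageSubobject_arrow_comp (tr (hd e)))) z).symm.trans
        (congrArg ((imageSubobject (tr (hd e))).arrow.app U) hz)⟩
    have step : ∀ n (y : T n), ∃ y' : T (n + 1), (tr (Nat.le_succ (e + n))).app U y'.1 = y.1 := fun n y => by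
      obtain ⟨z, hz⟩ := key U hU (e + n) y.1 y.2 _ (le_max_left (d (e + n)) (d (e + (n + 1))))
      refine ⟨⟨(tr ((hd (e + (n + 1))).trans (le_max_right (d (e + n)) _))).app U z,
        ⟨(tr (le_max_right (d (e + n)) (d (e + (n + 1))))).app U z, ?_⟩⟩, ?_⟩
      · exact (ConcreteCategory.congr_hom (congrArg (fun t => Scheme.Modules.Hom.app t U) (G.map_comp
          (homOfLE (le_max_right (d (e + n)) (d (e + (n + 1))))).op (homOfLE (hd (e + (n + 1)))).op)) z).symm
      · rw [← hz]
        exact (ConcreteCategory.congr_hom (congrArg (fun t => Scheme.Modules.Hom.app t U) (G.map_comp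
          (homOfLE ((hd (e + (n + 1))).trans (le_max_right (d (e + n)) _))).op (homOfLE (Nat.le_succ (e + n))).op)) z).symm
    let fam : ∀ n, T n := fun n => Nat.rec (motive := T) ⟨y₀, hy₀⟩ (fun n y => (step n y).choose) n
    have hfam : ∀ n, (tr (Nat.le_succ (e + n))).app U (fam (n + 1)).1 = (fam n).1 := fun n => (step n (fam n)).choose_spec
    let b : ∀ m : ℕ, Γ(G.obj (op m), U) := fun m => (tr (Nat.le_add_left m e)).app U (fam m).1
    obtain ⟨x, hx⟩ := Groth.L10.RlimML.exists_limit_section (R := X.ringCatSheaf) G U b fun m => by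
      show (tr (Nat.le_succ m)).app U ((tr (Nat.le_add_left (m + 1) e)).app U (fam (m + 1)).1) = _
      refine Eq.trans ?_ (congrArg ((tr (Nat.le_add_left m e)).app U) (hfam m))
      exact (ConcreteCategory.congr_hom (congrArg (fun t => Scheme.Modules.Hom.app t U) (G.map_comp
          (homOfLE (Nat.le_add_left (m + 1) e)).op (homOfLE (Nat.le_succ m)).op)) _).symm.trans
        (ConcreteCategory.congr_hom (congrArg (fun t => Scheme.Modules.Hom.app t U) (G.map_comp
          (homOfLE (Nat.le_succ (e + m))).op (homOfLE (Nat.le_add_left m e)).op)) _)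
    have h0 : ∀ m, (tr (Nat.le_add_right e m)).app U (fam m).1 = y₀ := fun m => by
      induction m with
      | zero => exact ConcreteCategory.congr_hom (congrArg (fun t => Scheme.Modules.Hom.app t U) (G.map_id _)) _
      | succ m ih =>
        refine Eq.trans ?_ ((congrArg ((tr (Nat.le_add_right e m)).app U) (hfam m)).trans ih)
        exact ConcreteCategory.congr_hom (congrArg (fun t => Scheme.Modules.Hom.app t U) (G.map_comp
          (homOfLE (Nat.le_succ (e + m))).op (homOfLE (Nat.le_add_right e m)).op)) _
    have hxs : q.app U x = s := by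
      haveI : Coh.IsQCoh (G.obj (op e)) := (hG _).1
      refine Groth.L16.Acc.app_injective (imageSubobject (tr (hd e))).arrow U ?_
      refine (ConcreteCategory.congr_hom (congrArg (fun t => Scheme.Modules.Hom.app t U) hq) x).trans ?_
      refine (hx e).trans ?_
      refine Eq.trans ?_ (h0 e)
      rfl
    rw [← hxs]
    exact ConcreteCategory.congr_hom (congrArg (fun t => Scheme.Modules.Hom.app t U) huv) x
  haveI := isIso_of_mono_of_epi (image.preComp q (imageSubobject (tr (hd e))).arrow)
  let i : image (limit.π G (op e)) ≅ (imageSubobject (tr (hd e)) : X.Modules) :=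
    image.eqToIso hq.symm ≪≫ asIso (image.preComp q (imageSubobject (tr (hd e))).arrow) ≪≫
      imageMonoIsoSource (imageSubobject (tr (hd e))).arrow
  exact Groth.L16.CohSupport.isClosed_support _ (Groth.L16.CohSupport.isCoh_of_iso i.symm (hcohS _)).2

end Groth.Agent.S14354
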