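import Groth.Statements.S14355
import Groth.Agent.L10.SpSeq.Abstract

set_option autoImplicit false
set_option backward.defeqAttrib.useBackward true
set_option backward.isDefEq.respectTransparency false
universe v u
open CategoryTheory CategoryTheory.Limits
open SpSeqMor

namespace Groth.Agent.S14355

/-- Let φ : E ⟶ E' be a morphism of E_2-cohomological spectral sequences in an abelian category, with
abutments H and H' whose filtrations are finite in each degree, and f a morphism of abutment data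
over φ. Fix integers l and a₀. If E_2^{i, l-i} = 0 for i < a₀, E'_2^{i, l-i} = 0 for i > a₀ and
φ_2^{a₀, l-a₀} = 0, then f^l : H^l ⟶ H'^l is zero. (The published statement prints the two vanishing
hypotheses at positions (i, l); the argument works on the line of total degree l, at positions (i, l
- i), which is the form stated here.) -/
theorem result (C : Type u) [Category.{v} C] [Abelian C]
    (E E' : E₂CohomologicalSpectralSequence C) (φ : E ⟶ E') (H H' : ℤ → C)
    (a : SpSeq.Abutment E H) (a' : SpSeq.Abutment E' H')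
    (ha : ∀ n : ℤ, a.IsFinite n) (ha' : ∀ n : ℤ, a'.IsFinite n)
    (f : SpSeqMor.AbutHom φ a a') (l a₀ : ℤ)
    (hE : ∀ i : ℤ, i < a₀ → IsZero ((E.page 2 le_rfl).X (i, l - i)))
    (hE' : ∀ i : ℤ, a₀ < i → IsZero ((E'.page 2 le_rfl).X (i, l - i)))
    (hφ : (φ.hom 2 le_rfl).f (a₀, l - a₀) = 0) :
    f.hom l = 0 := by
  have hφ' : ∀ (m : ℕ), (φ.hom (2 + m) (by omega)).f (a₀, l - a₀) = 0 := by
    intro m
    induction m with
    | zero => simpa using hφ
    | succ m ih =>
      have h1 := φ.comm (2 + m) (2 + ((m + 1 : ℕ) : ℤ)) (a₀, l - a₀) (by push_cast; omega) (by omega)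
      rw [Groth.L10.SpSeqAbs.homologyMap_eq_zero _ _ ih, zero_comp] at h1
      rw [← cancel_epi (E.iso (2 + m) (2 + ((m + 1 : ℕ) : ℤ)) (a₀, l - a₀) (by push_cast; omega) (by omega)).hom, comp_zero]
      exact h1.symm
  have hgr : (f.fil l).gr a₀ = 0 := by
    have hc : ∀ n : ℤ, n = (a₀, l - a₀).1 + (a₀, l - a₀).2 →
        (f.fil n).gr a₀ = 0 → (f.fil l).gr a₀ = 0 := by
      intro n hn
      simp only [add_sub_cancel] at hn
      subst hn
      exact id
    refine hc _ rfl ?_
    obtain ⟨k, k', hkk⟩ : ∃ k k' : ℕ, a.rk (a₀, l - a₀) + k = a'.rk (a₀, l - a₀) + k' :=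
      ⟨(a'.rk (a₀, l - a₀) - a.rk (a₀, l - a₀)).toNat, (a.rk (a₀, l - a₀) - a'.rk (a₀, l - a₀)).toNat, by omega⟩
    obtain ⟨m, hm⟩ : ∃ m : ℕ, a'.rk (a₀, l - a₀) + k' = 2 + m :=
      ⟨(a'.rk (a₀, l - a₀) + k' - 2).toNat, by have := (a'.stat (a₀, l - a₀)).1; omega⟩
    have hz : ∀ (r : ℤ) (hr : 2 ≤ r), r = 2 + m → (φ.hom r hr).f (a₀, l - a₀) = 0 := by
      intro r hr e
      subst e
      exact hφ' m
    have h := f.comm (a₀, l - a₀) k k' hkk
    rw [hz _ _ hm] at h
    simp only [zero_comp, comp_zero] at h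
    exact (cancel_epi (a.β (a₀, l - a₀)).hom).1 (h.trans comp_zero.symm)
  have htop : (a.filObj l).fil a₀ = ⊤ :=
    Groth.L10.SpSeqAbs.fil_eq_top _ (ha l).1 _ fun p hp =>
      Groth.L10.SpSeqAbs.isZero_filObj_gr a l p 2 le_rfl (hE p hp)
  have hbot : (a'.filObj l).fil (a₀ + 1) = ⊥ :=
    Groth.L10.SpSeqAbs.fil_eq_bot _ (ha' l).2 _ fun p hp =>
      Groth.L10.SpSeqAbs.isZero_filObj_gr a' l p 2 le_rfl (hE' p (by omega))
  have := Groth.L10.SpSeqAbs.isIso_gr_π (a'.filObj l) a₀ hbot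
  have hπ : cokernel.π ((a.filObj l).stepLE (Int.le_add_one (le_refl a₀))) ≫ (f.fil l).gr a₀ =
      (f.fil l).lift a₀ ≫ cokernel.π ((a'.filObj l).stepLE (Int.le_add_one (le_refl a₀))) :=
    cokernel.π_desc _ _ _
  rw [hgr, comp_zero] at hπ
  have hlift : (f.fil l).lift a₀ = 0 :=
    (cancel_mono (cokernel.π ((a'.filObj l).stepLE (Int.le_add_one (le_refl a₀))))).1 (hπ.symm.trans zero_comp.symm)
  have h := (f.fil l).lift_arrow a₀
  rw [hlift, zero_comp] at h
  have : IsIso ((a.filObj l).fil a₀).arrow := (Subobject.isIso_arrow_iff_eq_top _).2 htop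
  exact (cancel_epi ((a.filObj l).fil a₀).arrow).1 (h.symm.trans comp_zero.symm)

end Groth.Agent.S14355
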