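import Mathlib.AlgebraicGeometry.Morphisms.Finite
import Mathlib.AlgebraicGeometry.ProjectiveSpectrum.Proper
import Mathlib.RingTheory.Artinian.Ring
import Mathlib.RingTheory.MvPolynomial.Homogeneous
import Mathlib.Algebra.MvPolynomial.Division
import Groth.Statements.S14357
-- import your own Groth.Agent.* helpers here

set_option autoImplicit false
universe u
open AlgebraicGeometry
open Proj

namespace Groth.Agent.S14357

/-- For a field k the projective line over k is not an affine scheme. (The projective line is taken here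
as Proj of the polynomial ring in two variables over k with its standard grading; the book builds it
by gluing two affine lines and identifies the two constructions later.) -/
theorem result (k : Type u) [Field k] :
    ¬ IsAffine (CohB1.ProjSpace 1 k) := by
  intro hA
  haveI := hA
  let 𝒜 := CohB1.polyGrading 1 k
  have hsurj : Function.Surjective (algebraMap k (𝒜 0)) := by
    rintro ⟨p, hp⟩
    refine ⟨MvPolynomial.coeff 0 p, Subtype.ext ?_⟩
    show MvPolynomial.C (MvPolynomial.coeff 0 p) = p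
    have hd : p.totalDegree = 0 :=
      Nat.le_zero.mp (MvPolynomial.IsHomogeneous.totalDegree_le ((MvPolynomial.mem_homogeneousSubmodule 0 p).mp hp))
    exact (MvPolynomial.totalDegree_eq_zero_iff_eq_C.mp hd).symm
  haveI : IsScalarTower k (𝒜 0) (MvPolynomial (Fin 2) k) := IsScalarTower.of_algebraMap_eq' (R := k) (S := ↥(𝒜 0)) (A := MvPolynomial (Fin 2) k) rfl
  haveI : Algebra.FiniteType (𝒜 0) (MvPolynomial (Fin 2) k) :=
    Algebra.FiniteType.of_restrictScalars_finiteType k (𝒜 0) (MvPolynomial (Fin 2) k)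
  haveI : IsClosedImmersion (Spec.map (CommRingCat.ofHom (algebraMap k (𝒜 0)))) :=
    IsClosedImmersion.spec_of_surjective _ hsurj
  haveI : IsProper (CohB1.ProjSpace.toSpec 1 k) := by
    unfold CohB1.ProjSpace.toSpec
    exact CategoryTheory.MorphismProperty.IsStableUnderComposition.comp_mem _ _
      (inferInstanceAs (IsProper (AlgebraicGeometry.Proj.toSpecZero 𝒜))) inferInstance
  haveI : IsAffineHom (CohB1.ProjSpace.toSpec 1 k) := inferInstance
  have hfin : IsFinite (CohB1.ProjSpace.toSpec 1 k) :=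
    IsFinite.iff_isProper_and_isAffineHom.mpr ⟨inferInstance, inferInstance⟩
  have hΓ := (HasAffineProperty.iff_of_isAffine (P := @IsFinite)).mp hfin
  let φ : k →+* Γ(CohB1.ProjSpace 1 k, ⊤) :=
    (CohB1.ProjSpace.toSpec 1 k).appTop.hom.comp (Scheme.ΓSpecIso (CommRingCat.of k)).inv.hom
  have hφ : φ.Finite := hΓ.2.comp (RingHom.Finite.of_surjective _
    (CategoryTheory.ConcreteCategory.bijective_of_isIso (Scheme.ΓSpecIso (CommRingCat.of k)).inv).2)
  algebraize [φ]
  haveI : IsArtinianRing Γ(CohB1.ProjSpace 1 k, ⊤) := IsArtinianRing.of_finite k _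
  haveI hd : DiscreteTopology ↥(CohB1.ProjSpace 1 k) := by
    haveI : DiscreteTopology ↥(Spec Γ(CohB1.ProjSpace 1 k, ⊤)) :=
      inferInstanceAs (DiscreteTopology (PrimeSpectrum Γ(CohB1.ProjSpace 1 k, ⊤)))
    exact (CohB1.ProjSpace 1 k).isoSpec.hom.homeomorph.discreteTopology_iff.mpr inferInstance
  have hnot : ∀ P : HomogeneousIdeal 𝒜, (∃ i, (MvPolynomial.X i : MvPolynomial (Fin 2) k) ∉ P.toIdeal) →
      ¬ (HomogeneousIdeal.irrelevant 𝒜 ≤ P) := by
    rintro P ⟨i, hi⟩ hle
    refine hi (hle ?_)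
    rw [HomogeneousIdeal.mem_irrelevant_iff]
    exact DirectSum.decompose_of_mem_ne 𝒜
      ((MvPolynomial.mem_homogeneousSubmodule 1 _).mpr (MvPolynomial.isHomogeneous_X k i)) one_ne_zero
  let p0 : ProjectiveSpectrum 𝒜 := ⟨⊥, Ideal.isPrime_bot, hnot ⊥ ⟨0, fun h =>
    MvPolynomial.X_ne_zero (0 : Fin 2) ((Submodule.mem_bot (R := MvPolynomial (Fin 2) k)).mp h)⟩⟩
  let I1 : HomogeneousIdeal 𝒜 := ⟨Ideal.span {MvPolynomial.X 0}, Ideal.homogeneous_span 𝒜 _ (by
    rintro x hx; rw [Set.mem_singleton_iff] at hx; subst hx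
    exact ⟨1, (MvPolynomial.mem_homogeneousSubmodule 1 _).mpr (MvPolynomial.isHomogeneous_X k 0)⟩)⟩
  let p1 : ProjectiveSpectrum 𝒜 := ⟨I1, by
      show (Ideal.span {(MvPolynomial.X 0 : MvPolynomial (Fin 2) k)}).IsPrime
      rw [Ideal.span_singleton_prime (MvPolynomial.X_ne_zero _)]
      exact MvPolynomial.X_prime, hnot I1 ⟨1, fun h => by
      have : (MvPolynomial.X 0 : MvPolynomial (Fin 2) k) ∣ MvPolynomial.X 1 := Ideal.mem_span_singleton.mp h
      rw [MvPolynomial.X_dvd_X] at this
      rcases this with h | h <;> simp_all⟩⟩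
  have hle : p0 ≤ p1 := (bot_le : (⊥ : HomogeneousIdeal 𝒜) ≤ I1)
  have hspec : p1 ∈ closure ({p0} : Set (ProjectiveSpectrum 𝒜)) :=
    (ProjectiveSpectrum.le_iff_mem_closure 𝒜 p0 p1).mp hle
  haveI : DiscreteTopology (ProjectiveSpectrum 𝒜) := hd
  rw [closure_discrete, Set.mem_singleton_iff] at hspec
  have h0 : (MvPolynomial.X 0 : MvPolynomial (Fin 2) k) ∈ p1.asHomogeneousIdeal.toIdeal :=
    Ideal.mem_span_singleton_self _
  rw [hspec] at h0
  exact MvPolynomial.X_ne_zero (0 : Fin 2) ((Submodule.mem_bot (R := MvPolynomial (Fin 2) k)).mp h0)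

end Groth.Agent.S14357
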