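import Groth.Statements.S14358
import Mathlib.RingTheory.Ideal.AssociatedPrime.Basic
import Mathlib.Tactic.FieldSimp

set_option autoImplicit false
universe u
open CAlg

namespace Groth.Agent.S14358

/-- Let A be a Noetherian integral domain with fraction field K and let r ∈ K. Then r belongs to A if
and only if, for every nonzero g ∈ A and every associated prime p of the A-module A/(g), the element
r belongs to the local ring A_p inside K, i.e. s r = a in K for some a ∈ A and some s ∈ A outside p. -/
theorem result (A K : Type u)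
    [CommRing A] [IsDomain A] [IsNoetherianRing A] [Field K] [Algebra A K] [IsFractionRing A K]
    (r : K) :
    r ∈ Set.range (algebraMap A K) ↔
      ∀ g : A, g ≠ 0 → ∀ p ∈ associatedPrimes A (A ⧸ Ideal.span {g}),
        ∃ a s : A, s ∉ p ∧ algebraMap A K s * r = algebraMap A K a := by
  constructor
  · rintro ⟨a, rfl⟩ g _ p hp
    exact ⟨a, 1, fun h => hp.isPrime.ne_top ((Ideal.eq_top_iff_one _).mpr h), by simp⟩
  · intro h
    obtain ⟨a, g, hg, rfl⟩ := IsFractionRing.div_surjective (A := A) r
    have hg0 : g ≠ 0 := nonZeroDivisors.ne_zero hg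
    have hgK : algebraMap A K g ≠ 0 := (map_ne_zero_iff _ (IsFractionRing.injective A K)).mpr hg0
    by_cases hag : a ∈ Ideal.span {g}
    · obtain ⟨c, rfl⟩ := Ideal.mem_span_singleton'.mp hag
      exact ⟨c, by rw [map_mul, mul_div_assoc, div_self hgK, mul_one]⟩
    exfalso
    obtain ⟨p, hp, hle⟩ := exists_le_isAssociatedPrime_of_isNoetherianRing A
      (Ideal.Quotient.mk (Ideal.span {g}) a) (by simpa [Ideal.Quotient.eq_zero_iff_mem] using hag)
    obtain ⟨b, s, hs, he⟩ := h g hg0 p hp
    apply hs (hle ?_)
    rw [Submodule.mem_colon_singleton, Submodule.mem_bot]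
    change Ideal.Quotient.mk (Ideal.span {g}) (s * a) = 0
    rw [Ideal.Quotient.eq_zero_iff_mem, Ideal.mem_span_singleton']
    refine ⟨b, IsFractionRing.injective A K ?_⟩
    rw [map_mul, map_mul, ← he]
    field_simp

end Groth.Agent.S14358
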