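import Groth.Statements.S1436
import Groth.Agent.L20.Strat.Stratification

set_option autoImplicit false
universe u
open FlatMor

set_option linter.style.haveILetI false
set_option backward.isDefEq.respectTransparency.types false

namespace Groth.Agent.S1436

open AlgebraicGeometry CategoryTheory Limits in
/-- Let X be a scheme admitting an affine stratification with index set {0, …, n} (so X is quasi-compact
and quasi-separated, and its affine stratification number is at most n). Then H^p(X, F) = 0 for
every quasi-coherent O_X-module F and every p > n. -/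
theorem result (X : Scheme.{u}) (n : ℕ) (hX : MoreMor.HasAffineStratification X n)
    (F : X.Modules) (hF : Coh.IsQCoh F) (p : ℕ) (hp : n < p) :
    Subsingleton (Coh.HH X F p) := by
  obtain ⟨s, hs, hst⟩ := hX
  haveI : CompactSpace X := by
    refine ⟨?_⟩
    have e : (Set.univ : Set X) = ⋃ i : Fin (n + 1), {x : X | s x = i} := by ext y; simp
    rw [e]
    refine isCompact_iUnion fun i => ?_
    obtain ⟨Z, ι, _, _, _, hr⟩ := hst i
    rw [← hr]
    exact isCompact_range ι.continuous
  haveI : QuasiSeparatedSpace X := QuasiSeparatedSpace.of_isTopologicalBasis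
    (b := fun U : X.affineOpens => (U.1 : Set X)) (by
      rw [show (Set.range fun U : X.affineOpens => (U.1 : Set X)) = _ from Set.image_eq_range _ _ |>.symm]
      exact X.isBasis_affineOpens) fun U V => by
    have e : ((U.1 : Set X) ∩ V.1) = ⋃ i : Fin (n + 1), ((U.1 : Set X) ∩ V.1) ∩ {x : X | s x = i} := by ext y; simp
    rw [e]
    refine isCompact_iUnion fun i => ?_
    obtain ⟨Z, ι, _, _, _, hr⟩ := hst i
    rw [← hr, ← Set.image_preimage_eq_inter_range, Set.preimage_inter]
    exact (QuasiSeparatedSpace.inter_isCompact _ _ (ι ⁻¹ᵁ U.1).2 (U.2.preimage ι).isCompact (ι ⁻¹ᵁ V.1).2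
      (V.2.preimage ι).isCompact).image ι.continuous
  obtain ⟨q, rfl⟩ : ∃ q, p = q + 1 := ⟨p - 1, by omega⟩
  haveI := hF
  refine subsingleton_of_forall_eq 0 fun x => ?_
  apply (Groth.L17.hTopEquiv (X := X.toTopCat) (Coh.toAb F) (q + 1)).injective
  refine (Groth.L20.Strat.hu_eq_zero_of_strata s hs hst (n + 1) le_rfl F ?_ q (by omega) _).trans (map_zero _).symm
  intro U hU t
  haveI : Subsingleton Γ(F, U) := by
    have hb : U = ⊥ := TopologicalSpace.Opens.ext (Set.eq_empty_iff_forall_notMem.2 fun y hy =>
      Set.disjoint_left.1 hU hy (s y).isLt)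
    refine ⟨fun a b => Groth.L20.Strat.eq_of_rs_eq (fun e : Empty => e.elim) (fun e => e.elim) ?_ fun e => e.elim⟩
    rw [hb]; exact bot_le
  exact Subsingleton.elim _ _

end Groth.Agent.S1436
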