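import Groth.Statements.S14360
import Mathlib.AlgebraicGeometry.Birational.Composition
-- import your own Groth.Agent.* helpers here

set_option autoImplicit false
universe u
open AlgebraicGeometry
open Variety

namespace Groth.Agent.S14360

open CategoryTheory AlgebraicGeometry

section
variable {X Y : Scheme.{u}} [IsIntegral X] [IsIntegral Y]

theorem isoImage_aux {V : X.Opens} (P : V.toScheme.Opens) {U : X.Opens} (hle : U ≤ V.ι ''ᵁ P) (hUV : U ≤ V) :
    X.homOfLE hle ≫ (V.ι.isoImage P).inv ≫ P.ι = X.homOfLE hUV := by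
  rw [Scheme.Opens.isoImage_ι_inv_ι, Scheme.homOfLE_homOfLE]

open Scheme in
theorem key (F : X.PartialMap Y) [IsDominant F.hom] (G : Y.PartialMap X)
    {W : X.Opens} {hW : Dense (W : Set X)} (hl : W ≤ (F.comp G).domain)
    (e : X.homOfLE hl ≫ (F.comp G).hom = W.ι)
    (U : X.Opens) (hU : U ≤ W) (hUF : U ≤ F.domain) {W' : Y.Opens} (hW' : W' ≤ G.domain)
    (k : U.toScheme ⟶ W'.toScheme) (hk : k ≫ W'.ι = X.homOfLE hUF ≫ F.hom) :
    k ≫ Y.homOfLE hW' ≫ G.hom = U.ι := by
  have h1 : k ≫ Y.homOfLE hW' =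
      X.homOfLE (hU.trans hl) ≫ (F.domain.ι.isoImage _).inv ≫ F.hom ∣_ G.domain := by
    rw [← cancel_mono G.domain.ι]
    simp only [Category.assoc, Scheme.homOfLE_ι, morphismRestrict_ι, hk]
    rw [← reassoc_of% (show X.homOfLE (hU.trans hl) ≫ (F.domain.ι.isoImage _).inv ≫
      (F.hom ⁻¹ᵁ G.domain).ι = X.homOfLE hUF from ?_)]
    exact isoImage_aux _ _ _
  rw [reassoc_of% h1, ← X.homOfLE_homOfLE hU hl, Category.assoc]
  calc _ = X.homOfLE hU ≫ X.homOfLE hl ≫ (F.comp G).hom := by simp; rfl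
    _ = _ := by rw [e, Scheme.homOfLE_ι]

/-- The common open of definition. -/
def goodOpen (F : X.PartialMap Y) (W : X.Opens) (W' : Y.Opens) : X.Opens :=
  W ⊓ F.domain.ι ''ᵁ F.hom ⁻¹ᵁ W'

theorem goodOpen_le (F : X.PartialMap Y) (W : X.Opens) (W' : Y.Opens) :
    goodOpen F W W' ≤ F.domain :=
  inf_le_right.trans (by rintro x ⟨d, -, rfl⟩; exact d.2)

theorem goodOpen_mem (F : X.PartialMap Y) (W : X.Opens) (W' : Y.Opens) (x : (goodOpen F W W').toScheme) :
    (X.homOfLE (goodOpen_le F W W') ≫ F.hom) x ∈ W' := by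
  obtain ⟨d, hd, hdx⟩ := x.2.2
  rw [Scheme.Hom.comp_apply]
  rw [show X.homOfLE (goodOpen_le F W W') x = d from
    Subtype.ext ((Scheme.homOfLE_apply _ _).trans hdx.symm)]
  exact hd

theorem dense_goodOpen (F : X.PartialMap Y) [IsDominant F.hom] {W : X.Opens} (hW : Dense (W : Set X))
    {W' : Y.Opens} (hW' : Dense (W' : Set Y)) : Dense (goodOpen F W W' : Set X) := by
  refine (goodOpen F W W').2.dense ?_
  obtain ⟨_, ⟨d, rfl⟩, hd⟩ := F.hom.denseRange.inter_open_nonempty _ W'.2 hW'.nonempty |>.mono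
    (Set.inter_comm _ _).le
  exact hW.inter_open_nonempty _ (F.domain.ι ''ᵁ F.hom ⁻¹ᵁ W').2 ⟨_, d, hd, rfl⟩ |>.mono
    (Set.inter_comm _ _).le

theorem exists_lift (F : X.PartialMap Y) [IsDominant F.hom] (G : Y.PartialMap X)
    {W : X.Opens} {hW : Dense (W : Set X)} (hl : W ≤ (F.comp G).domain)
    (e : X.homOfLE hl ≫ (F.comp G).hom = W.ι) {W' : Y.Opens} (hW' : W' ≤ G.domain) :
    ∃ u : (goodOpen F W W').toScheme ⟶ (goodOpen G W' W).toScheme,
      u ≫ (goodOpen G W' W).ι = X.homOfLE (goodOpen_le F W W') ≫ F.hom ∧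
      u ≫ Y.homOfLE (goodOpen_le G W' W) ≫ G.hom = (goodOpen F W W').ι := by
  let k := IsOpenImmersion.lift W'.ι (X.homOfLE (goodOpen_le F W W') ≫ F.hom) (by
    rw [Scheme.Opens.range_ι]; rintro _ ⟨x, rfl⟩; exact goodOpen_mem F W W' x)
  have hk : k ≫ W'.ι = X.homOfLE (goodOpen_le F W W') ≫ F.hom := IsOpenImmersion.lift_fac _ _ _
  have h2 := key F G (hW := hW) hl e _ inf_le_left (goodOpen_le F W W') hW' k hk
  have hr : Set.range (X.homOfLE (goodOpen_le F W W') ≫ F.hom) ⊆ Set.range (goodOpen G W' W).ι := by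
    rw [← hk, Scheme.Opens.range_ι]
    rintro _ ⟨x, rfl⟩
    refine ⟨(k x).2, Y.homOfLE hW' (k x), ?_, ?_⟩
    · show (k ≫ Y.homOfLE hW' ≫ G.hom) x ∈ W
      exact (congrArg (fun m => m x) h2).symm ▸ x.2.1
    · exact congrArg (fun m => m x) (show (k ≫ Y.homOfLE hW') ≫ G.domain.ι = k ≫ W'.ι by simp)
  let u := IsOpenImmersion.lift _ _ hr
  refine ⟨u, IsOpenImmersion.lift_fac _ _ _, ?_⟩
  have hle : goodOpen G W' W ≤ W' := inf_le_left
  have hu : u ≫ Y.homOfLE hle = k := by
    rw [← cancel_mono W'.ι, Category.assoc, Scheme.homOfLE_ι, hk]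
    exact IsOpenImmersion.lift_fac _ _ _
  rw [show Y.homOfLE (goodOpen_le G W' W) = Y.homOfLE hle ≫ Y.homOfLE hW' from
    (Y.homOfLE_homOfLE _ _).symm, Category.assoc, reassoc_of% hu]
  exact h2

theorem comp_symm (P : X.PartialIso Y) [IsDominant P.toPartialMap.hom] :
    (P.toPartialMap.comp P.symm.toPartialMap).equiv (Scheme.PartialMap.id X) := by
  refine ⟨P.source, P.dense_source, ?_, le_top, ?_⟩
  · intro x hx
    exact ⟨⟨x, hx⟩, (P.iso.hom ⟨x, hx⟩).2, rfl⟩
  · simp only [Scheme.PartialMap.restrict_hom, Scheme.PartialMap.comp_hom, Scheme.Hom.toPartialMap_hom]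
    have h : ∀ (hle : P.source ≤ P.source.ι ''ᵁ (P.iso.hom ≫ P.target.ι) ⁻¹ᵁ P.target),
        X.homOfLE hle ≫ (P.source.ι.isoImage _).inv ≫ (P.iso.hom ≫ P.target.ι) ∣_ P.target = P.iso.hom := by
      intro hle
      rw [← cancel_mono P.target.ι]
      simp only [Category.assoc, morphismRestrict_ι]
      have h0 : X.homOfLE hle ≫ (P.source.ι.isoImage _).inv ≫ ((P.iso.hom ≫ P.target.ι) ⁻¹ᵁ P.target).ι =
          𝟙 _ := (isoImage_aux _ hle le_rfl).trans (Scheme.homOfLE_rfl _ _)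
      rw [reassoc_of% h0]
    erw [reassoc_of% (h _), P.iso.hom_inv_id_assoc]
    exact (X.homOfLE_ι (le_top : P.source ≤ ⊤)).symm

end

/-- Let X and Y be integral schemes. Then X and Y have isomorphic dense open subschemes if and only if
they are birational in the sense of rational maps, i.e. there exist dominant rational maps f : X ⤏ Y
and g : Y ⤏ X such that the composites g ∘ f and f ∘ g are the identity rational maps of X and of Y. -/
theorem result (X Y : Scheme.{u})
    [IsIntegral X] [IsIntegral Y] :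
    Scheme.Birational X Y ↔
      ∃ (f : X ⤏ Y) (g : Y ⤏ X) (_ : f.IsDominant) (_ : g.IsDominant),
        f.comp g = Scheme.RationalMap.id X ∧ g.comp f = Scheme.RationalMap.id Y := by
  constructor
  · rintro ⟨P⟩
    haveI : IsDominant P.target.ι := Opens.isDominant_ι P.dense_target
    haveI : IsDominant P.source.ι := Opens.isDominant_ι P.dense_source
    haveI : IsDominant P.toPartialMap.hom := by
      dsimp [Scheme.PartialIso.toPartialMap]; infer_instance
    haveI : IsDominant P.symm.toPartialMap.hom := by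
      dsimp [Scheme.PartialIso.toPartialMap, Scheme.PartialIso.symm]; infer_instance
    refine ⟨P.toRationalMap, P.symm.toRationalMap, inferInstance, inferInstance, ?_, ?_⟩
    · rw [Scheme.RationalMap.toRationalMap_comp, Scheme.PartialMap.toRationalMap_eq_iff]
      exact comp_symm P
    · rw [Scheme.RationalMap.toRationalMap_comp, Scheme.PartialMap.toRationalMap_eq_iff]
      exact comp_symm P.symm
  · rintro ⟨f, g, hf, hg, h1, h2⟩
    obtain ⟨F, rfl⟩ := f.exists_rep
    obtain ⟨G, rfl⟩ := g.exists_rep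
    haveI : IsDominant F.hom := F.isDominant_toRationalMap_iff.1 hf
    haveI : IsDominant G.hom := G.isDominant_toRationalMap_iff.1 hg
    rw [Scheme.RationalMap.toRationalMap_comp, Scheme.PartialMap.toRationalMap_eq_iff] at h1 h2
    obtain ⟨W, hW, hl, hr, e⟩ := h1
    obtain ⟨W', hW', hl', hr', e'⟩ := h2
    simp only [Scheme.PartialMap.restrict_hom, Scheme.Hom.toPartialMap_hom, Category.comp_id] at e e'
    replace e : X.homOfLE hl ≫ (F.comp G).hom = W.ι := e.trans (X.homOfLE_ι (le_top : W ≤ ⊤))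
    replace e' : Y.homOfLE hl' ≫ (G.comp F).hom = W'.ι := e'.trans (Y.homOfLE_ι (le_top : W' ≤ ⊤))
    have hGW : W' ≤ G.domain := hl'.trans (by rintro x ⟨d, -, rfl⟩; exact d.2)
    have hFW : W ≤ F.domain := hl.trans (by rintro x ⟨d, -, rfl⟩; exact d.2)
    obtain ⟨u, hu1, hu2⟩ := exists_lift F G (hW := hW) hl e hGW
    obtain ⟨v, hv1, hv2⟩ := exists_lift G F (hW := hW') hl' e' hFW
    refine ⟨⟨_, dense_goodOpen F hW hW', _, dense_goodOpen G hW' hW, ⟨u, v, ?_, ?_⟩⟩⟩
    · rw [← cancel_mono (goodOpen F W W').ι, Category.assoc, hv1, Category.id_comp]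
      exact hu2
    · rw [← cancel_mono (goodOpen G W' W).ι, Category.assoc, hu1, Category.id_comp]
      exact hv2

end Groth.Agent.S14360
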