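import Groth.Statements.S14363
import Mathlib.RingTheory.Ideal.AssociatedPrime.Basic
import Mathlib.RingTheory.Support

set_option autoImplicit false
universe u
open CAlg

namespace Groth.Agent.S14363

/-- Let A be a Noetherian ring and 0 → M' → M → M'' → 0 a short exact sequence of A-modules. If a prime
p of A is an associated prime of M'' and is not in the support of M', then p is an associated prime
of M. -/
theorem result (A : Type u) [CommRing A] [IsNoetherianRing A]
    (M' M M'' : Type u) [AddCommGroup M'] [Module A M'] [AddCommGroup M] [Module A M]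
    [AddCommGroup M''] [Module A M'']
    (f : M' →ₗ[A] M) (g : M →ₗ[A] M'') (hf : Function.Injective f) (hg : Function.Surjective g)
    (hfg : Function.Exact f g)
    (p : PrimeSpectrum A) (hp : p.asIdeal ∈ associatedPrimes A M'') (hsupp : p ∉ Module.support A M') :
    p.asIdeal ∈ associatedPrimes A M := by
  classical
  obtain ⟨hP, z, hz⟩ := isAssociatedPrime_iff.mp hp
  obtain ⟨x, rfl⟩ := hg z
  have hann : ∀ a ∈ p.asIdeal, ∃ y, f y = a • x := fun a ha => (hfg (a • x)).mp (by
    rw [map_smul]; rw [hz, Submodule.mem_colon_singleton, Submodule.mem_bot] at ha; exact ha)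
  rw [Module.notMem_support_iff'] at hsupp
  obtain ⟨G, hG⟩ := (Ideal.fg_of_isNoetherianRing p.asIdeal)
  choose! y hy using hann
  choose! s hs hsy using hsupp
  have hsp : ∏ a ∈ G, s (y a) ∉ p.asIdeal := fun h => by
    obtain ⟨a, -, ha⟩ := hP.prod_mem_iff.mp h
    exact hs _ ha
  refine isAssociatedPrime_iff.mpr ⟨hP, (∏ a ∈ G, s (y a)) • x, le_antisymm ?_ ?_⟩
  · rw [← hG, Ideal.span_le]
    intro a ha
    rw [SetLike.mem_coe, Submodule.mem_colon_singleton, Submodule.mem_bot, smul_comm,
      ← hy a (hG ▸ Ideal.subset_span ha), ← map_smul, ← Finset.mul_prod_erase _ _ ha,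
      mul_comm, mul_smul, hsy, smul_zero, map_zero]
  · intro r hr
    rw [Submodule.mem_colon_singleton, Submodule.mem_bot, smul_smul] at hr
    have : r * ∏ a ∈ G, s (y a) ∈ p.asIdeal := by
      rw [hz, Submodule.mem_colon_singleton, Submodule.mem_bot, ← map_smul, hr, map_zero]
    exact (hP.mem_or_mem this).resolve_right hsp

end Groth.Agent.S14363
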