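import Groth.Statements.S14364
import Groth.Agent.L10.GammaZ.Push

set_option autoImplicit false
set_option backward.defeqAttrib.useBackward true
set_option backward.isDefEq.respectTransparency false
set_option backward.isDefEq.respectTransparency.types false
set_option backward.defeqAttrib.useBackward true
set_option backward.isDefEq.respectTransparency false
universe u
open CategoryTheory CategoryTheory.Limits AlgebraicGeometry
attribute [local instance] HasDerivedCategory.standard
open CxOX

namespace Groth.Agent.S14364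

/-- Let f : X ⟶ Y be a finite-type morphism between Noetherian schemes, U ⊆ Y an open subscheme with
closed complement Z, and Z' = f⁻¹(Z), the closed complement of f⁻¹(U) in X. For every K in D(O_X)
with quasi-coherent cohomology sheaves, the morphism Rf_*(RΓ_{Z'}(K) ⟶ K) factors through the
canonical morphism RΓ_Z(Rf_* K) ⟶ Rf_* K, and every morphism Rf_* RΓ_{Z'}(K) ⟶ RΓ_Z(Rf_* K) giving
such a factorisation is an isomorphism; this is the isomorphism Rf_* RΓ_{Z'} ≅ RΓ_Z Rf_*.
(Throughout, RΓ with support is the total right derived functor of the sheaf of sections supported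
in the closed subset. The published statement derives instead the functor of sections killed by some
power of a defining ideal; on complexes with quasi-coherent cohomology sheaves over a Noetherian
scheme the two derived functors agree.) -/
theorem result {X Y : Scheme.{u}} [IsNoetherian X] [IsNoetherian Y]
    (f : X ⟶ Y) [LocallyOfFiniteType f] (U : Y.Opens)
    [CxOX.HasRgammaZ U.ι] [CxOX.HasRgammaZ (f ⁻¹ᵁ U).ι] [DCoh.HasRpush f]
    (K : DCoh.D X) (hK : DCoh.IsQCohD K) :
    (∃ α : (DCoh.Rpush f).obj ((CxOX.RgammaZ (f ⁻¹ᵁ U).ι).obj K) ⟶ (CxOX.RgammaZ U.ι).obj ((DCoh.Rpush f).obj K),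
        α ≫ (CxOX.RgammaZToId U.ι).app ((DCoh.Rpush f).obj K) =
          (DCoh.Rpush f).map ((CxOX.RgammaZToId (f ⁻¹ᵁ U).ι).app K)) ∧
    ∀ α : (DCoh.Rpush f).obj ((CxOX.RgammaZ (f ⁻¹ᵁ U).ι).obj K) ⟶ (CxOX.RgammaZ U.ι).obj ((DCoh.Rpush f).obj K),
        α ≫ (CxOX.RgammaZToId U.ι).app ((DCoh.Rpush f).obj K) =
          (DCoh.Rpush f).map ((CxOX.RgammaZToId (f ⁻¹ᵁ U).ι).app K) → IsIso α := by
  haveI := Groth.L29.DC.Gen.hasRpush' U.ι
  haveI := Groth.L29.DC.Gen.hasRpush' (f ⁻¹ᵁ U).ι
  have hP := Groth.L10.GammaZ.isZero_restrict_Rpush f U _ (Groth.L10.GammaZ.isZero_restrict (f ⁻¹ᵁ U).ι K)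
  obtain ⟨α, hα⟩ := (Groth.L10.GammaZ.bijective U.ι hP ((DCoh.Rpush f).obj K)).2
    ((DCoh.Rpush f).map ((CxOX.RgammaZToId (f ⁻¹ᵁ U).ι).app K))
  exact ⟨⟨α, hα⟩, fun β hβ => Groth.L10.GammaZ.isIso_of_bijective U.ι _ _ β hβ hP
    (Groth.L10.GammaZ.isZero_restrict U.ι _) (fun hA => Groth.L10.GammaZ.bijective_Rpush f U K hA)
    (fun hA => Groth.L10.GammaZ.bijective U.ι hA _)⟩

end Groth.Agent.S14364
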