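import Groth.Statements.S14365
import Groth.Agent.L10.GammaZ.Flat

set_option autoImplicit false
set_option backward.defeqAttrib.useBackward true
set_option backward.isDefEq.respectTransparency false
set_option backward.isDefEq.respectTransparency.types false
set_option backward.defeqAttrib.useBackward true
set_option backward.isDefEq.respectTransparency false
universe u
open CategoryTheory CategoryTheory.Limits AlgebraicGeometry
attribute [local instance] HasDerivedCategory.standard
open CxOX

namespace Groth.Agent.S14365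

/-- Let f : X ⟶ Y be a flat morphism of finite type of Noetherian schemes, U ⊆ Y an open subscheme with
closed complement Z, Z' = f⁻¹(Z) the closed complement of f⁻¹(U), and let the derived pullback Lf^*
: D(O_Y) ⥤ D(O_X) exist. For every K in D(O_Y) with quasi-coherent cohomology sheaves, the morphism
Lf^*(RΓ_Z(K) ⟶ K) factors through the canonical morphism RΓ_{Z'}(Lf^* K) ⟶ Lf^* K, and every
morphism Lf^* RΓ_Z(K) ⟶ RΓ_{Z'}(Lf^* K) giving such a factorisation is an isomorphism; this is the
isomorphism f^* RΓ_Z ≅ RΓ_{Z'} f^* for flat f. (Throughout, RΓ with support is the total right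
derived functor of the sheaf of sections supported in the closed subset. The published statement
derives instead the functor of sections killed by some power of a defining ideal; on complexes with
quasi-coherent cohomology sheaves over a Noetherian scheme the two derived functors agree.) -/
theorem result {X Y : Scheme.{u}} [IsNoetherian X] [IsNoetherian Y]
    (f : X ⟶ Y) [LocallyOfFiniteType f] [Flat f] (U : Y.Opens)
    [CxOX.HasRgammaZ U.ι] [CxOX.HasRgammaZ (f ⁻¹ᵁ U).ι] [DCoh.HasLpull f]
    (K : DCoh.D Y) (hK : DCoh.IsQCohD K) :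
    (∃ β : (DCoh.Lpull f).obj ((CxOX.RgammaZ U.ι).obj K) ⟶ (CxOX.RgammaZ (f ⁻¹ᵁ U).ι).obj ((DCoh.Lpull f).obj K),
        β ≫ (CxOX.RgammaZToId (f ⁻¹ᵁ U).ι).app ((DCoh.Lpull f).obj K) =
          (DCoh.Lpull f).map ((CxOX.RgammaZToId U.ι).app K)) ∧
    ∀ β : (DCoh.Lpull f).obj ((CxOX.RgammaZ U.ι).obj K) ⟶ (CxOX.RgammaZ (f ⁻¹ᵁ U).ι).obj ((DCoh.Lpull f).obj K),
        β ≫ (CxOX.RgammaZToId (f ⁻¹ᵁ U).ι).app ((DCoh.Lpull f).obj K) =
          (DCoh.Lpull f).map ((CxOX.RgammaZToId U.ι).app K) → IsIso β := by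
  haveI := Groth.L29.DC.Gen.hasRpush' U.ι
  haveI := Groth.L29.DC.Gen.hasRpush' (f ⁻¹ᵁ U).ι
  have hP := Groth.L10.GammaZ.isZero_restrict_Lpull f U (Groth.L10.GammaZ.isZero_restrict U.ι K)
  obtain ⟨α, hα⟩ := (Groth.L10.GammaZ.bijective (f ⁻¹ᵁ U).ι hP ((DCoh.Lpull f).obj K)).2
    ((DCoh.Lpull f).map ((CxOX.RgammaZToId U.ι).app K))
  exact ⟨⟨α, hα⟩, fun β hβ => Groth.L10.GammaZ.isIso_of_bijective (f ⁻¹ᵁ U).ι _ _ β hβ hP
    (Groth.L10.GammaZ.isZero_restrict _ _) (fun hA => Groth.L10.GammaZ.bijective_Lpull f U K hK hA)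
    (fun hA => Groth.L10.GammaZ.bijective _ hA _)⟩

end Groth.Agent.S14365
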