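import Groth.Statements.S14366
import Groth.Agent.L10.GammaZ.OpenImm

set_option autoImplicit false
set_option backward.defeqAttrib.useBackward true
set_option backward.isDefEq.respectTransparency false
set_option backward.isDefEq.respectTransparency.types false
set_option backward.defeqAttrib.useBackward true
set_option backward.isDefEq.respectTransparency false
universe u
open CategoryTheory CategoryTheory.Limits AlgebraicGeometry
attribute [local instance] HasDerivedCategory.standard
open CxOX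

namespace Groth.Agent.S14366

/-- Let j : X ⟶ X̄ be an open immersion of Noetherian schemes, U ⊆ X an open subscheme with closed
complement Z, U' ⊆ X̄ the open complement of the closure Z̄ of j(Z) in X̄, and T = U' ∪ j(X), the
open complement of the closed subset Z̄ ∖ j(X). Let Rj_* exist and preserve complexes with
quasi-coherent cohomology, and let an adjunction j^* ⊣ Rj_* between D(O_X̄) and D(O_X) be given.
Then Rj_* and j^* are inverse equivalences between the objects of D_qc(O_X) whose cohomology sheaves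
are supported on Z and the objects of D_qc(O_X̄) whose cohomology sheaves are supported on Z̄ and on
which RΓ_{Z̄ ∖ j(X)} vanishes: for F in the first class, Rj_* F has cohomology supported on Z̄ and
RΓ_{Z̄ ∖ j(X)}(Rj_* F) is zero; the counit j^* Rj_* F ⟶ F is an isomorphism for every F; and for G
in the second class the unit G ⟶ Rj_* j^* G is an isomorphism and j^* G is in the first class.
(Throughout, RΓ with support is the total right derived functor of the sheaf of sections supported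
in the closed subset. The published statement derives instead the functor of sections killed by some
power of a defining ideal; on complexes with quasi-coherent cohomology sheaves over a Noetherian
scheme the two derived functors agree.) -/
theorem result {X Xbar : Scheme.{u}} [IsNoetherian Xbar] [IsNoetherian X]
    (j : X ⟶ Xbar) [IsOpenImmersion j] (U : X.Opens) (U' T : Xbar.Opens)
    (hU' : (U' : Set Xbar) = (closure (j.base '' ((U : Set X)ᶜ)))ᶜ)
    (hT : (T : Set Xbar) = (U' : Set Xbar) ∪ Set.range j.base)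
    [DCoh.HasRpush j] [CxOX.HasRgammaZ T.ι] (hj : DCoh.RpushPreservesQCoh j)
    (adj : DCoh.restrictD j ⊣ DCoh.Rpush j) :
    (∀ F : DCoh.D X, DCoh.IsQCohD F → CxOX.IsSuppD U.ι F →
        CxOX.IsSuppD U'.ι ((DCoh.Rpush j).obj F) ∧ IsZero ((CxOX.RgammaZ T.ι).obj ((DCoh.Rpush j).obj F))) ∧
    (∀ F : DCoh.D X, IsIso (adj.counit.app F)) ∧
    (∀ G : DCoh.D Xbar, DCoh.IsQCohD G → CxOX.IsSuppD U'.ι G → IsZero ((CxOX.RgammaZ T.ι).obj G) →
        IsIso (adj.unit.app G) ∧ DCoh.IsQCohD ((DCoh.restrictD j).obj G) ∧ CxOX.IsSuppD U.ι ((DCoh.restrictD j).obj G)) := by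
  have hUj : ∀ x : X, j x ∈ U' ↔ x ∈ U := fun x => by
    rw [← SetLike.mem_coe, hU', Set.mem_compl_iff]
    constructor
    · exact fun h => by_contra fun hx => h (subset_closure ⟨x, hx, rfl⟩)
    · intro hx h
      obtain ⟨_, ⟨y, hy, rfl⟩, z, hz, hzy⟩ := mem_closure_iff.1 h (j ''ᵁ U : Set Xbar) (j ''ᵁ U).2 ⟨x, hx, rfl⟩
      exact hz (j.isOpenEmbedding.injective hzy ▸ hy)
  have hc := Groth.L10.GammaZ.isIso_counit j adj
  have h1 : ∀ F : DCoh.D X, CxOX.IsSuppD U.ι F →
      CxOX.IsSuppD U'.ι ((DCoh.Rpush j).obj F) ∧ IsZero ((CxOX.RgammaZ T.ι).obj ((DCoh.Rpush j).obj F)) := by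
    intro F hF
    refine ⟨(Groth.L29.DC.Gen.isZero_restrictD_iff U'.ι _).1 (Groth.L10.GammaZ.isZero_restrict_push j U' F
      ((Groth.L29.DC.Gen.isZero_restrictD_iff _ F).2 fun i x hx hxU => ?_)),
      Groth.L10.GammaZ.isZero_push T.ι j (fun y hy => ?_) F⟩
    · obtain ⟨w, rfl⟩ := hxU
      exact hF i hx ⟨⟨_, (hUj _).1 w.2⟩, rfl⟩
    · rw [Scheme.Opens.opensRange_ι, ← SetLike.mem_coe, hT]
      exact Or.inr hy
  refine ⟨fun F _ hF => h1 F hF, fun F => inferInstance, fun G hqc hG hΓ => ?_⟩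
  have hsG : CxOX.IsSuppD U.ι ((DCoh.restrictD j).obj G) := by
    refine (Groth.L29.DC.Gen.isZero_restrictD_iff U.ι _).1 ?_
    refine IsZero.of_iso ((Groth.L29.DC.Gen.isZero_restrictD_iff (U.ι ≫ j) G).2 fun i x hx hxU => ?_)
      ((Groth.L29.DC.resTransD j U.ι (U.ι ≫ j) rfl).app G)
    obtain ⟨w, rfl⟩ := hxU
    exact hG i hx ⟨⟨_, (hUj (U.ι w)).2 w.2⟩, rfl⟩
  refine ⟨?_, Groth.L29.DC.isQCohD_restrictD j hqc, hsG⟩
  obtain ⟨e⟩ := Groth.L10.GammaZ.exists_iso_of_isZero T.ι hΓ
  obtain ⟨e'⟩ := Groth.L10.GammaZ.exists_iso_of_isZero T.ι (h1 _ hsG).2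
  refine Groth.L10.GammaZ.isIso_of_isLoc (T := T) (Groth.L29.DC.Gen.isLoc_of_iso e.symm (Groth.L29.DC.Gen.isLoc_push T _))
    (Groth.L29.DC.Gen.isLoc_of_iso e'.symm (Groth.L29.DC.Gen.isLoc_push T _)) (adj.unit.app G) ?_
  obtain ⟨C, b, c, hD⟩ := Pretriangulated.distinguished_cocone_triangle (adj.unit.app G)
  refine (Pretriangulated.Triangle.isZero₃_iff_isIso₁ _ ((DCoh.restrictD T.ι).map_distinguished _ hD)).1 ?_
  have hC1 : IsZero ((DCoh.restrictD j).obj C) :=
    (Pretriangulated.Triangle.isZero₃_iff_isIso₁ _ ((DCoh.restrictD j).map_distinguished _ hD)).2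
      (Groth.L10.GammaZ.isIso_restrict_unit j adj G)
  have hC2 : IsZero ((DCoh.restrictD U'.ι).obj C) :=
    (Pretriangulated.Triangle.isZero₃_iff_isIso₁ _ ((DCoh.restrictD U'.ι).map_distinguished _ hD)).2
      (Limits.isIso_of_source_target_iso_zero _ ((Groth.L29.DC.Gen.isZero_restrictD_iff U'.ι G).2 hG).isoZero
        ((Groth.L29.DC.Gen.isZero_restrictD_iff U'.ι _).2 (h1 _ hsG).1).isoZero)
  refine (Groth.L29.DC.Gen.isZero_restrictD_iff T.ι C).2 fun i x hx hxT => ?_
  obtain ⟨w, rfl⟩ := hxT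
  rcases (Set.ext_iff.1 hT (T.ι w)).1 w.2 with h | h
  · exact (Groth.L29.DC.Gen.isZero_restrictD_iff U'.ι C).1 hC2 i hx ⟨⟨_, h⟩, rfl⟩
  · exact (Groth.L29.DC.Gen.isZero_restrictD_iff j C).1 hC1 i hx h

end Groth.Agent.S14366
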