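import Groth.Statements.S14367
import Groth.Agent.L10.GammaZ.Tensor

set_option autoImplicit false
set_option backward.defeqAttrib.useBackward true
set_option backward.isDefEq.respectTransparency false
set_option backward.isDefEq.respectTransparency.types false
set_option backward.defeqAttrib.useBackward true
set_option backward.isDefEq.respectTransparency false
universe u
open CategoryTheory CategoryTheory.Limits AlgebraicGeometry
attribute [local instance] HasDerivedCategory.standard
open CxOX

namespace Groth.Agent.S14367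

/-- Let X be a Noetherian scheme, U ⊆ X an open subscheme with closed complement Z, F an object of
D(O_X) and E a cochain complex of O_X-modules, both with quasi-coherent cohomology sheaves vanishing
outside a bounded range of degrees, and let the derived functor − ⊗^L E on D(O_X) exist. Then the
morphism (RΓ_Z(F)) ⊗^L E ⟶ F ⊗^L E induced by RΓ_Z(F) ⟶ F factors through the canonical morphism
RΓ_Z(F ⊗^L E) ⟶ F ⊗^L E, and every morphism (RΓ_Z(F)) ⊗^L E ⟶ RΓ_Z(F ⊗^L E) giving such a
factorisation is an isomorphism; this is the isomorphism RΓ_Z(F) ⊗^L E ≅ RΓ_Z(F ⊗^L E) (the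
companion isomorphism F ⊗^L RΓ_Z(E) ≅ RΓ_Z(F ⊗^L E) differs from it by the symmetry of ⊗^L).
(Throughout, RΓ with support is the total right derived functor of the sheaf of sections supported
in the closed subset. The published statement derives instead the functor of sections killed by some
power of a defining ideal; on complexes with quasi-coherent cohomology sheaves over a Noetherian
scheme the two derived functors agree.) -/
theorem result {X : Scheme.{u}} [IsNoetherian X] (U : X.Opens) [CxOX.HasRgammaZ U.ι]
    (F : DCoh.D X) (hF : DCoh.IsQCohD F) (a b : ℤ) (hFa : DerivedCategory.IsGE F a) (hFb : DerivedCategory.IsLE F b)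
    (E : CochainComplex X.Modules ℤ) (hE : DCoh.IsQCohD (DCoh.toD X E))
    (a' b' : ℤ) (hEa : DerivedCategory.IsGE (DCoh.toD X E) a') (hEb : DerivedCategory.IsLE (DCoh.toD X E) b')
    [DCoh.HasLTensorCx E] :
    (∃ φ : (DCoh.LTensorCx E).obj ((CxOX.RgammaZ U.ι).obj F) ⟶ (CxOX.RgammaZ U.ι).obj ((DCoh.LTensorCx E).obj F),
        φ ≫ (CxOX.RgammaZToId U.ι).app ((DCoh.LTensorCx E).obj F) =
          (DCoh.LTensorCx E).map ((CxOX.RgammaZToId U.ι).app F)) ∧
    ∀ φ : (DCoh.LTensorCx E).obj ((CxOX.RgammaZ U.ι).obj F) ⟶ (CxOX.RgammaZ U.ι).obj ((DCoh.LTensorCx E).obj F),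
        φ ≫ (CxOX.RgammaZToId U.ι).app ((DCoh.LTensorCx E).obj F) =
          (DCoh.LTensorCx E).map ((CxOX.RgammaZToId U.ι).app F) → IsIso φ := by
  haveI := Groth.L29.DC.Gen.hasRpush' U.ι
  have hP := Groth.L10.GammaZ.isZero_restrict_LTensor E U.ι (Groth.L10.GammaZ.isZero_restrict U.ι F)
  obtain ⟨α, hα⟩ := (Groth.L10.GammaZ.bijective U.ι hP ((DCoh.LTensorCx E).obj F)).2
    ((DCoh.LTensorCx E).map ((CxOX.RgammaZToId U.ι).app F))
  exact ⟨⟨α, hα⟩, fun β hβ => Groth.L10.GammaZ.isIso_of_bijective U.ι _ _ β hβ hP
    (Groth.L10.GammaZ.isZero_restrict _ _) (fun hA => Groth.L10.GammaZ.bijective_LTensor E U hE F hF hA)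
    (fun hA => Groth.L10.GammaZ.bijective _ hA _)⟩

end Groth.Agent.S14367
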