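import Groth.Statements.S14368
import Groth.Agent.L10.GammaZ.OpenImm

set_option autoImplicit false
set_option backward.defeqAttrib.useBackward true
set_option backward.isDefEq.respectTransparency false
set_option backward.isDefEq.respectTransparency.types false
set_option backward.defeqAttrib.useBackward true
set_option backward.isDefEq.respectTransparency false
universe u
open CategoryTheory CategoryTheory.Limits AlgebraicGeometry
attribute [local instance] HasDerivedCategory.standard
open CxOX

namespace Groth.Agent.S14368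

/-- Let j : X ⟶ X̄ be an open immersion of Noetherian schemes and W ⊆ X̄ an open subscheme whose closed
complement Z̄ = X̄ ∖ W is contained in j(X) (so Z̄ = j(Z) for the closed subset Z = X ∖ j⁻¹(W) of X:
this is the situation of a closed subset of X whose image in X̄ is still closed). Let Rj_* exist and
preserve complexes with quasi-coherent cohomology, and let an adjunction j^* ⊣ Rj_* on derived
categories be given. Then for every G in D(O_X̄) with quasi-coherent cohomology sheaves the unit
RΓ_{Z̄}(G) ⟶ Rj_* j^* RΓ_{Z̄}(G) is an isomorphism; composed with Rj_* of the isomorphism j^*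
RΓ_{Z̄} ≅ RΓ_Z j^* it gives the isomorphism ε : RΓ_{Z̄} ≅ Rj_* RΓ_Z j^*. (Throughout, RΓ with
support is the total right derived functor of the sheaf of sections supported in the closed subset.
The published statement derives instead the functor of sections killed by some power of a defining
ideal; on complexes with quasi-coherent cohomology sheaves over a Noetherian scheme the two derived
functors agree.) -/
theorem result {X Xbar : Scheme.{u}} [IsNoetherian Xbar] [IsNoetherian X]
    (j : X ⟶ Xbar) [IsOpenImmersion j] (W : Xbar.Opens) (hW : (W : Set Xbar)ᶜ ⊆ Set.range j.base)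
    [DCoh.HasRpush j] [CxOX.HasRgammaZ W.ι] (hj : DCoh.RpushPreservesQCoh j)
    (adj : DCoh.restrictD j ⊣ DCoh.Rpush j) (G : DCoh.D Xbar) (hG : DCoh.IsQCohD G) :
    IsIso (adj.unit.app ((CxOX.RgammaZ W.ι).obj G)) := by
  haveI := Groth.L29.DC.Gen.hasRpush' W.ι
  have h0 : IsZero ((DCoh.restrictD W.ι).obj ((CxOX.RgammaZ W.ι).obj G)) :=
    Groth.L10.GammaZ.isZero_restrict W.ι G
  have h1 : IsZero ((DCoh.restrictD (j ⁻¹ᵁ W).ι).obj ((DCoh.restrictD j).obj ((CxOX.RgammaZ W.ι).obj G))) :=
    IsZero.of_iso ((Groth.L29.DC.Gen.isZero_restrictD_iff ((j ⁻¹ᵁ W).ι ≫ j) _).2 fun i x hx hxU => by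
      obtain ⟨w, rfl⟩ := hxU
      exact (Groth.L29.DC.Gen.isZero_restrictD_iff W.ι _).1 h0 i hx ⟨⟨_, w.2⟩, rfl⟩)
      ((Groth.L29.DC.resTransD j (j ⁻¹ᵁ W).ι ((j ⁻¹ᵁ W).ι ≫ j) rfl).app _)
  refine Groth.L29.DC.Gen.isIso_of_cover _ fun x => ?_
  by_cases hx : x ∈ W
  · exact ⟨W, hx, Limits.isIso_of_source_target_iso_zero _ h0.isoZero
      (Groth.L10.GammaZ.isZero_restrict_push j W _ h1).isoZero⟩
  · refine ⟨j.opensRange, hW hx, ?_⟩
    obtain ⟨C, b, c, hD⟩ := Pretriangulated.distinguished_cocone_triangle (adj.unit.app ((CxOX.RgammaZ W.ι).obj G))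
    refine (Pretriangulated.Triangle.isZero₃_iff_isIso₁ _
      ((DCoh.restrictD j.opensRange.ι).map_distinguished _ hD)).1 ?_
    refine (Groth.L29.DC.Gen.isZero_restrictD_iff j.opensRange.ι C).2 fun i y hy hyr => ?_
    obtain ⟨w, rfl⟩ := hyr
    exact (Groth.L29.DC.Gen.isZero_restrictD_iff j C).1
      ((Pretriangulated.Triangle.isZero₃_iff_isIso₁ _ ((DCoh.restrictD j).map_distinguished _ hD)).2
        (Groth.L10.GammaZ.isIso_restrict_unit j adj _)) i hy w.2

end Groth.Agent.S14368
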