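
import Groth.Statements.S14369
import Groth.Agent.L22.FibreIrr

set_option autoImplicit false
universe u
open CategoryTheory CategoryTheory.Limits AlgebraicGeometry
open Variety

namespace Groth.Agent.S14369

theorem irreducibleSpace_of_all {X : Scheme.{u}} (ξ : X)
    (h : ∀ x : X, x ∈ closure ({ξ} : Set X)) : IrreducibleSpace X := by
  haveI : Nonempty X := ⟨ξ⟩
  refine { toPreirreducibleSpace := ⟨?_⟩, toNonempty := inferInstance }
  rw [← Set.eq_univ_of_forall h]
  exact isIrreducible_singleton.closure.isPreirreducible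

/-- Let k be an algebraically closed field, X and Y schemes of finite type over k with Y irreducible,
and f : X → Y a k-morphism whose underlying continuous map is closed. Suppose that for some natural
number d the fibre of f over every closed point y of Y (the subspace of points mapping to y) is
irreducible of dimension d. Then X is irreducible and dim X = d + dim Y. (The published statement is
for varieties, i.e. reduced separated schemes; this row assumes neither.) -/
theorem result (k : Type u) [Field k] [IsAlgClosed k]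
    {X Y : Scheme.{u}} (qX : X ⟶ Spec (CommRingCat.of k)) (qY : Y ⟶ Spec (CommRingCat.of k))
    [LocallyOfFiniteType qX] [QuasiCompact qX] [LocallyOfFiniteType qY] [QuasiCompact qY]
    (f : X ⟶ Y) (hf : f ≫ qY = qX) [IrreducibleSpace ↥Y] (hcl : IsClosedMap f.base) (d : ℕ)
    (hirr : ∀ y : ↥Y, IsClosed ({y} : Set ↥Y) → IsIrreducible (f.base ⁻¹' {y}))
    (hdim : ∀ y : ↥Y, IsClosed ({y} : Set ↥Y) → topologicalKrullDim ↥(f.base ⁻¹' {y}) = d) :
    IrreducibleSpace ↥X ∧ topologicalKrullDim ↥X = d + topologicalKrullDim ↥Y := by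
  letI : X.Over (Spec (CommRingCat.of k)) := ⟨qX⟩
  letI : Y.Over (Spec (CommRingCat.of k)) := ⟨qY⟩
  haveI : LocallyOfFiniteType (X ↘ Spec (CommRingCat.of k)) := ‹LocallyOfFiniteType qX›
  haveI : LocallyOfFiniteType (Y ↘ Spec (CommRingCat.of k)) := ‹LocallyOfFiniteType qY›
  haveI := Groth.L22.DimZero.isNoetherian k qX
  haveI := Groth.L22.DimZero.isNoetherian k qY
  haveI : QuasiCompact f :=
    have : QuasiCompact (f ≫ qY) := hf ▸ inferInstance
    QuasiCompact.of_comp f qY
  obtain ⟨ξ, ⟨hξ, hfξ⟩, -⟩ := Groth.L22.FibreIrr.existsUnique_dominant k f hf d hirr hdim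
  have himg : f '' closure ({ξ} : Set X) = Set.univ := by
    refine Set.eq_univ_of_univ_subset ?_
    rw [← (genericPoint_spec Y).def]
    exact closure_minimal (Set.singleton_subset_iff.2 ⟨ξ, subset_closure rfl, hfξ⟩)
      (hcl _ isClosed_closure)
  have hall : ∀ x : X, x ∈ closure ({ξ} : Set X) := by
    by_contra hne
    push Not at hne
    obtain ⟨x, hx, hxc⟩ := Groth.L22.FibreIrr.exists_closed_mem k
      (S := (closure ({ξ} : Set X))ᶜ) hne isClosed_closure.isOpen_compl.isLocallyClosed
    obtain ⟨z, hz, hfz⟩ := himg.ge (Set.mem_univ (f x))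
    exact hx ((Groth.L22.FibreIrr.component k f hf d hirr hdim hξ).1 (f x)
      (Groth.L22.FibreIrr.isClosed_map k f hf hxc) ⟨z, hfz, hz⟩ rfl)
  haveI := irreducibleSpace_of_all ξ hall
  refine ⟨inferInstance, ?_⟩
  rw [← Groth.L22.FibreIrr.dim_eq k f hf d hirr hdim hξ hfξ, Set.eq_univ_of_forall hall,
    (Homeomorph.Set.univ X).isHomeomorph.topologicalKrullDim_eq]

end Groth.Agent.S14369
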