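
import Groth.Statements.S14370
import Groth.Agent.L22.FibreIrr

set_option autoImplicit false
universe u
open CategoryTheory CategoryTheory.Limits AlgebraicGeometry
open Variety

namespace Groth.Agent.S14370

theorem irreducibleSpace_of_all {X : Scheme.{u}} (ξ : X)
    (h : ∀ x : X, x ∈ closure ({ξ} : Set X)) : IrreducibleSpace X := by
  haveI : Nonempty X := ⟨ξ⟩
  refine { toPreirreducibleSpace := ⟨?_⟩, toNonempty := inferInstance }
  rw [← Set.eq_univ_of_forall h]
  exact isIrreducible_singleton.closure.isPreirreducible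

/-- Let k be an algebraically closed field, X and Y schemes of finite type over k with Y irreducible,
and f : X → Y a k-morphism. Suppose that X is pure-dimensional (every irreducible component of X has
dimension dim X) and that for some natural number d the fibre of f over every closed point y of Y
(the subspace of points mapping to y) is irreducible of dimension d. Then X is irreducible and dim X
= d + dim Y. (The published statement is for varieties, i.e. reduced separated schemes; this row
assumes neither.) -/
theorem result (k : Type u) [Field k] [IsAlgClosed k]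
    {X Y : Scheme.{u}} (qX : X ⟶ Spec (CommRingCat.of k)) (qY : Y ⟶ Spec (CommRingCat.of k))
    [LocallyOfFiniteType qX] [QuasiCompact qX] [LocallyOfFiniteType qY] [QuasiCompact qY]
    (f : X ⟶ Y) (hf : f ≫ qY = qX) [IrreducibleSpace ↥Y]
    (hpure : ∀ Z ∈ irreducibleComponents (↥X), topologicalKrullDim ↥Z = topologicalKrullDim ↥X) (d : ℕ)
    (hirr : ∀ y : ↥Y, IsClosed ({y} : Set ↥Y) → IsIrreducible (f.base ⁻¹' {y}))
    (hdim : ∀ y : ↥Y, IsClosed ({y} : Set ↥Y) → topologicalKrullDim ↥(f.base ⁻¹' {y}) = d) :
    IrreducibleSpace ↥X ∧ topologicalKrullDim ↥X = d + topologicalKrullDim ↥Y := by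
  letI : X.Over (Spec (CommRingCat.of k)) := ⟨qX⟩
  letI : Y.Over (Spec (CommRingCat.of k)) := ⟨qY⟩
  haveI : LocallyOfFiniteType (X ↘ Spec (CommRingCat.of k)) := ‹LocallyOfFiniteType qX›
  haveI : LocallyOfFiniteType (Y ↘ Spec (CommRingCat.of k)) := ‹LocallyOfFiniteType qY›
  haveI := Groth.L22.DimZero.isNoetherian k qX
  haveI := Groth.L22.DimZero.isNoetherian k qY
  haveI : QuasiCompact f :=
    have : QuasiCompact (f ≫ qY) := hf ▸ inferInstance
    QuasiCompact.of_comp f qY
  obtain ⟨ξ, ⟨hξ, hfξ⟩, huniq⟩ := Groth.L22.FibreIrr.existsUnique_dominant k f hf d hirr hdim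
  have hd := Groth.L22.FibreIrr.dim_eq k f hf d hirr hdim hξ hfξ
  have hcomp : ∀ η : X, (∀ y, y ⤳ η → y = η) → closure ({η} : Set X) ∈ irreducibleComponents X := by
    intro η hη
    refine ⟨isIrreducible_singleton.closure, fun C hC hle => ?_⟩
    obtain ⟨θ, hθ⟩ := QuasiSober.sober hC.closure isClosed_closure
    have := hη θ (hθ.specializes (subset_closure (hle (subset_closure rfl))))
    rw [this] at hθ
    exact subset_closure.trans hθ.def.ge
  have hX : topologicalKrullDim X = d + topologicalKrullDim Y :=
    (hpure _ (hcomp ξ hξ)).symm.trans hd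
  obtain ⟨n, hn, -, -⟩ := Groth.L22.SchemeDim.exists_dim_eq_trdeg k Y
  have hall : ∀ x : X, x ∈ closure ({ξ} : Set X) := by
    intro x
    obtain ⟨η, hηx, hη⟩ := Groth.L22.FibreDim.exists_maximal_specializes x
    suffices η = ξ from this ▸ hηx.mem_closure
    refine huniq η ⟨hη, ?_⟩
    by_contra hne
    have h1 := Groth.L22.FibreIrr.dim_lt_of_specializes (genericPoint_specializes (f η))
      fun h => hne (((genericPoint_specializes (f η)).antisymm h).eq.symm)
    obtain ⟨a, ha, -⟩ := Groth.L22.SchemeDim.exists_dim_closure_eq_trdeg k Y (f η)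
    have h2 := ((Groth.L22.FibreIrr.component k f hf d hirr hdim hη).2.symm.trans
      (hpure _ (hcomp η hη))).trans hX
    rw [ha, hn] at h2
    rw [ha, (genericPoint_spec Y).def,
      (Homeomorph.Set.univ Y).isHomeomorph.topologicalKrullDim_eq, hn] at h1
    have h1' : a + 1 ≤ n := by exact_mod_cast h1
    have h2' : d + a = d + n := by exact_mod_cast h2
    omega
  exact ⟨irreducibleSpace_of_all ξ hall, hX⟩

end Groth.Agent.S14370
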