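import Groth.Statements.S14371
import Groth.Agent.L01.Regular

set_option autoImplicit false
universe u
open CAlg

namespace Groth.Agent.S14371

/-- Let R be a regular local ring of dimension n with maximal ideal m and residue field κ, and I, J
ideals of R such that R/I and R/J are regular local rings of dimensions a and b (two subvarieties
smooth at the point). Suppose the quotient R/(I + J) is local with cotangent space m/(m² + I + J) of
dimension a + b − n over κ (the tangent spaces of the two subvarieties meet in the expected
dimension, i.e. they intersect transversally at the point). Then R/(I + J) is a regular local ring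
of dimension a + b − n; in particular I + J is a prime ideal. (The published statement is about the
local rings of a smooth variety over an algebraically closed field at a point where two smooth
closed subvarieties meet transversally, and also states the resulting equalities of tangent spaces
and of ideals; this row is the local-ring form, for an arbitrary regular local ring.) -/
theorem result {R : Type u} [CommRing R] [IsRegularLocalRing R]
    (I J : Ideal R) [IsRegularLocalRing (R ⧸ I)] [IsRegularLocalRing (R ⧸ J)] [IsLocalRing (R ⧸ (I ⊔ J))]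
    (n a b : ℕ) (hn : ringKrullDim R = n) (ha : ringKrullDim (R ⧸ I) = a) (hb : ringKrullDim (R ⧸ J) = b)
    (ht : Module.finrank (IsLocalRing.ResidueField (R ⧸ (I ⊔ J))) (IsLocalRing.CotangentSpace (R ⧸ (I ⊔ J))) + n = a + b) :
    IsRegularLocalRing (R ⧸ (I ⊔ J)) ∧ ringKrullDim (R ⧸ (I ⊔ J)) = ((a + b - n : ℕ) : WithBot ℕ∞) := by
  obtain ⟨l₁, l₂, hlen, hgen, hI⟩ :=
    Groth.L01.exists_lists_of_regular_quotient n R hn I inferInstance
  obtain ⟨m₁, m₂, hlen', hgen', hJ⟩ :=
    Groth.L01.exists_lists_of_regular_quotient n R hn J inferInstance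
  have key : ∀ (l : List R) (r : ℕ) (K : Ideal R), K ≠ ⊤ → K = Ideal.ofList l → ∀ l' : List R,
      Ideal.ofList (l ++ l') = IsLocalRing.maximalIdeal R → (l ++ l').length = n →
      ringKrullDim (R ⧸ K) = r → l.length + r ≤ n := by
    intro l r K hK hKl l' hg hl hr
    have hreg := Groth.L01.isRegular_of_ofList_eq_maximalIdeal (l ++ l') hg (by rw [hn, hl])
    have h1 : RingTheory.Sequence.IsWeaklyRegular R l :=
      ((RingTheory.Sequence.isWeaklyRegular_append_iff R l l').mp hreg.toIsWeaklyRegular).1
    have h2 : RingTheory.Sequence.IsRegular R l := ⟨h1, by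
      rw [smul_eq_mul, Ideal.mul_top, ← hKl]; exact hK.symm⟩
    have h3 := ringKrullDim_add_length_eq_ringKrullDim_of_isRegular l h2
    rw [← hKl, hr, hn] at h3
    norm_cast at h3
    omega
  have ha' := key l₁ a I (Ideal.Quotient.nontrivial_iff.mp inferInstance) hI l₂ hgen hlen ha
  have hb' := key m₁ b J (Ideal.Quotient.nontrivial_iff.mp inferInstance) hJ m₂ hgen' hlen' hb
  have hne : I ⊔ J ≠ ⊤ := Ideal.Quotient.nontrivial_iff.mp inferInstance
  have hle : ringKrullDim R ≤ ringKrullDim (R ⧸ (I ⊔ J)) + Submodule.spanFinrank (I ⊔ J) :=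
    ringKrullDim_le_ringKrullDim_quotient_add_spanFinrank _
      (by rw [IsLocalRing.ringJacobson_eq_maximalIdeal]; exact IsLocalRing.le_maximalIdeal hne)
  have hs : Submodule.spanFinrank (I ⊔ J) ≤ l₁.length + m₁.length := by
    rw [hI, hJ, ← Ideal.ofList_append, ← List.length_append]
    exact Groth.L01.spanFinrank_ofList_le _
  obtain ⟨e, he⟩ := Groth.L01.exists_dim_eq_nat (R := R ⧸ (I ⊔ J))
  have hup : ringKrullDim (R ⧸ (I ⊔ J)) ≤
      (IsLocalRing.maximalIdeal (R ⧸ (I ⊔ J))).spanFinrank :=
    ringKrullDim_le_spanFinrank_maximalIdeal _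
  have hct := IsLocalRing.spanFinrank_maximalIdeal_eq_finrank_cotangentSpace (R := R ⧸ (I ⊔ J))
  rw [hn, he] at hle
  rw [he] at hup
  norm_cast at hle hup
  refine ⟨IsRegularLocalRing.of_spanFinrank_maximalIdeal_le _ ?_, ?_⟩
  · rw [he]; norm_cast; omega
  · rw [he]; norm_cast; omega

end Groth.Agent.S14371
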