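import Groth.Statements.S14372
import Groth.Agent.L14.Fano.SurfLines
import Mathlib.RingTheory.Ideal.KrullsHeightTheorem
import Mathlib.RingTheory.Nullstellensatz
import Mathlib.Algebra.MvPolynomial.Funext
-- import your own Groth.Agent.* helpers here

set_option autoImplicit false
universe u
open Fano

namespace Groth.Agent.S14372

open MvPolynomial in
theorem le_height_origin {k : Type u} [Field k] (m : ℕ) :
    (m : ℕ∞) ≤ (RingHom.ker (eval (0 : Fin m → k))).height := by
  classical
  let v : ℕ → Fin m → MvPolynomial (Fin m) k := fun j i => if (i : ℕ) < j then 0 else X i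
  let P : ℕ → Ideal (MvPolynomial (Fin m) k) := fun j => RingHom.ker (aeval (v j))
  have hP : ∀ j, (P j).IsPrime := fun j => RingHom.ker_isPrime _
  have key : ∀ j ≤ m, (j : ℕ∞) ≤ (P j).height := by
    intro j
    induction j with
    | zero => intro _; simp
    | succ j ih =>
      intro hj
      haveI := hP j
      haveI := hP (j + 1)
      have hcomp : (aeval (v (j + 1))).comp (aeval (v j)) = aeval (v (j + 1)) := by
        refine MvPolynomial.algHom_ext fun i => ?_
        simp only [AlgHom.comp_apply, aeval_X, v]
        split_ifs <;> simp_all <;> omega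
      have hlt : P j < P (j + 1) := by
        refine lt_of_le_of_ne (fun q hq => ?_) fun he => ?_
        · show aeval (v (j + 1)) q = 0
          rw [← hcomp, AlgHom.comp_apply, show aeval (v j) q = 0 from hq, map_zero]
        · have h1 : (X ⟨j, hj⟩ : MvPolynomial (Fin m) k) ∈ P (j + 1) := by simp [P, v]
          rw [← he] at h1
          simp [P, v] at h1
      have h2 := Ideal.height_strict_mono_of_isPrime hlt
      push_cast
      exact (add_le_add_left (ih (by omega)) 1).trans (Order.add_one_le_of_lt h2)
  have hm : P m = RingHom.ker (eval (0 : Fin m → k)) := by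
    ext q
    show aeval (v m) q = 0 ↔ eval 0 q = 0
    have : v m = fun i => (algebraMap k (MvPolynomial (Fin m) k)) ((0 : Fin m → k) i) := by
      funext i; simp [v]
    rw [this]
    have h2 : aeval (fun i => algebraMap k (MvPolynomial (Fin m) k) ((0 : Fin m → k) i)) q = C (eval 0 q) := by
      induction q using MvPolynomial.induction_on with
      | C a => simp
      | add p q hp hq => simp [hp, hq]
      | mul_X p i hp => simp [hp]
    rw [h2, map_eq_zero_iff _ (C_injective _ _)]
  exact hm ▸ key m le_rfl

/-- Over an algebraically closed field k of arbitrary characteristic, let f be a homogeneous form of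
degree d ≥ 2 in n + 1 variables and U a linear subspace of k^(n+1) on which f vanishes, such that at
every nonzero vector of U some partial derivative of f does not vanish (the hypersurface f = 0 in
P^n contains the r-plane P(U), r + 1 = dim U, and is smooth at every point of it). Then 2 · dim U ≤
n + 1, i.e. r ≤ (n − 1)/2. (The published statement assumes the hypersurface smooth everywhere; this
row assumes smoothness only along P(U).) -/
theorem result (k : Type u) [Field k] [IsAlgClosed k]
    (n d : ℕ) (hd : 2 ≤ d) (f : MvPolynomial (Fin (n + 1)) k) (hf : f.IsHomogeneous d)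
    (U : Submodule k (Fin (n + 1) → k)) (hU : ∀ u ∈ U, MvPolynomial.eval u f = 0)
    (hsm : ∀ u ∈ U, u ≠ 0 → ∃ i : Fin (n + 1), MvPolynomial.eval u (MvPolynomial.pderiv i f) ≠ 0) :
    2 * Module.finrank k ↥U ≤ n + 1 := by
  classical
  set m := Module.finrank k U with hm
  let b := Module.finBasis k U
  let L : Fin (n + 1) → MvPolynomial (Fin m) k := fun i => ∑ a, MvPolynomial.C ((b a : Fin (n + 1) → k) i) * MvPolynomial.X a
  let g : Fin (n + 1) → MvPolynomial (Fin m) k := fun i => MvPolynomial.aeval L (MvPolynomial.pderiv i f)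
  have hLeval : ∀ (x : Fin m → k) (q : MvPolynomial (Fin (n + 1)) k),
      MvPolynomial.eval x (MvPolynomial.aeval L q) =
        MvPolynomial.eval ((∑ a, x a • b a : U) : Fin (n + 1) → k) q := by
    intro x q
    have := Groth.L14.Fano.SurfLines.algHom_aeval (MvPolynomial.aeval x : MvPolynomial (Fin m) k →ₐ[k] k) L q
    rw [MvPolynomial.aeval_eq_eval x] at this
    rw [this]
    refine congrArg (fun v => MvPolynomial.eval v q) (funext fun i => ?_)
    simp [L, Finset.sum_apply, mul_comm]
    rfl
  have hfL : MvPolynomial.aeval L f = 0 := MvPolynomial.funext fun x => by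
    rw [hLeval, map_zero]
    exact hU _ (Submodule.coe_mem _)
  let φ : (Fin (n + 1) → k) →ₗ[k] MvPolynomial (Fin m) k :=
    ∑ i, (LinearMap.proj i : (Fin (n + 1) → k) →ₗ[k] k).smulRight (g i)
  have hker : U ≤ LinearMap.ker φ := by
    intro u hu
    have hsum := b.sum_repr ⟨u, hu⟩
    have hb : ∀ a, φ (b a) = 0 := by
      intro a
      have := Groth.L14.Fano.SurfLines.derivation_aeval (MvPolynomial.pderiv a) L f
      rw [hfL, map_zero] at this
      rw [this]
      simp only [φ, LinearMap.coe_sum, Finset.sum_apply, LinearMap.smulRight_apply, LinearMap.proj_apply, g]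
      refine Finset.sum_congr rfl fun i _ => ?_
      simp [L, MvPolynomial.pderiv_X, Pi.single_apply, MvPolynomial.smul_eq_C_mul, mul_comm]
    rw [LinearMap.mem_ker]
    have h1 : u = ∑ a, b.repr ⟨u, hu⟩ a • (b a : Fin (n + 1) → k) := by
      have := congrArg (fun w : U => (w : Fin (n + 1) → k)) hsum
      simp only [Submodule.coe_sum, Submodule.coe_smul_of_tower] at this
      exact this.symm
    rw [h1, map_sum]
    simp [map_smul, hb]
  have hr : Module.finrank k (LinearMap.range φ) + m ≤ n + 1 := by
    have h1 := φ.finrank_range_add_finrank_ker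
    rw [Module.finrank_fintype_fun_eq_card, Fintype.card_fin] at h1
    have h2 := Submodule.finrank_mono hker
    omega
  let e := Module.finBasis k (LinearMap.range φ)
  let s : Finset (MvPolynomial (Fin m) k) := Finset.univ.image fun j => (e j : MvPolynomial (Fin m) k)
  have hscard : s.card ≤ Module.finrank k (LinearMap.range φ) := Finset.card_image_le.trans (by simp)
  let J : Ideal (MvPolynomial (Fin m) k) := Ideal.span (s : Set (MvPolynomial (Fin m) k))
  have hgr : ∀ i, g i ∈ LinearMap.range φ := fun i => ⟨Pi.single i 1, by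
    simp [φ, Pi.single_apply, Finset.sum_ite_eq', ite_smul]⟩
  have hgJ : ∀ i, g i ∈ J := by
    intro i
    have h1 : g i = ∑ j, e.repr ⟨g i, hgr i⟩ j • (e j : MvPolynomial (Fin m) k) := by
      have := congrArg (fun w : LinearMap.range φ => (w : MvPolynomial (Fin m) k)) (e.sum_repr ⟨g i, hgr i⟩)
      simp only [Submodule.coe_sum, Submodule.coe_smul_of_tower] at this
      exact this.symm
    rw [h1]
    refine Submodule.sum_mem _ fun j _ => Submodule.smul_of_tower_mem _ _ (Ideal.subset_span ?_)
    simp [s]
  have hd0 : ∀ i, MvPolynomial.eval (0 : Fin m → k) (g i) = 0 := by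
    intro i
    rw [hLeval]
    have h0 : ((∑ a, (0 : Fin m → k) a • b a : U) : Fin (n + 1) → k) = 0 := by simp
    rw [h0, MvPolynomial.eval_zero, MvPolynomial.constantCoeff_eq]
    exact (hf.pderiv (i := i)).coeff_eq_zero (by simp; omega)
  have hJM : J ≤ RingHom.ker (MvPolynomial.eval (0 : Fin m → k)) := by
    refine Ideal.span_le.2 fun q hq => ?_
    obtain ⟨j, -, rfl⟩ := Finset.mem_image.1 hq
    obtain ⟨c, hc⟩ := (e j).2
    show MvPolynomial.eval (0 : Fin m → k) (e j : MvPolynomial (Fin m) k) = 0
    rw [← hc]
    have hd0' : ∀ i, MvPolynomial.constantCoeff (g i) = 0 := fun i => by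
      rw [← MvPolynomial.eval_zero]; exact hd0 i
    simp [φ, MvPolynomial.smul_eq_C_mul, hd0']
  haveI : (RingHom.ker (MvPolynomial.eval (0 : Fin m → k))).IsPrime := RingHom.ker_isPrime _
  have hmin : RingHom.ker (MvPolynomial.eval (0 : Fin m → k)) ∈ J.minimalPrimes := by
    refine ⟨⟨inferInstance, hJM⟩, fun Q hQ _ => ?_⟩
    rw [← hQ.1.radical]
    refine le_trans ?_ (Ideal.radical_mono hQ.2)
    rw [← MvPolynomial.vanishingIdeal_zeroLocus_eq_radical (K := k)]
    intro q hq x hx
    have hx0 : x = 0 := by
      by_contra hne
      have hu : ((∑ a, x a • b a : U) : Fin (n + 1) → k) ≠ 0 := by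
        intro h
        refine hne (funext fun a => ?_)
        exact Fintype.linearIndependent_iff.1 b.linearIndependent x (Subtype.ext h) a
      obtain ⟨i, hi⟩ := hsm _ (Submodule.coe_mem _) hu
      apply hi
      rw [← hLeval]
      rw [← MvPolynomial.aeval_eq_eval]
      exact hx _ (hgJ i)
    subst hx0
    rw [MvPolynomial.aeval_eq_eval]
    exact hq
  have h3 := (le_height_origin m).trans (Ideal.height_le_card_of_mem_minimalPrimes_span_finset hmin)
  have h4 : m ≤ s.card := by exact_mod_cast h3
  omega

end Groth.Agent.S14372
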