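import Groth.Statements.S14374
import Groth.Agent.L05.Discrim.Main

set_option autoImplicit false
universe u
open Fano

namespace Groth.Agent.S14374
set_option backward.isDefEq.respectTransparency false
set_option backward.isDefEq.respectTransparency.types false
set_option linter.style.haveILetI false

/-- Over an algebraically closed field k of arbitrary characteristic, let n ≥ 1 and d ≥ 2, and call a
degree-d form G in n + 1 variables singular when there is a nonzero vector v with G(v) = 0 and all
partial derivatives ∂G/∂x_i(v) = 0 (the hypersurface G = 0 in P^n has a singular point, or G = 0).
Then the singular forms are exactly the zero set of one irreducible polynomial function Δ on the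
vector space of degree-d forms: the locus of singular hypersurfaces is an irreducible hypersurface
in the parameter space. (The published statement concerns the reduced hypersurfaces in the
projective space of degree-d forms, where the singular ones form an irreducible closed subset of
codimension one, and allows every positive degree; for d = 1 no hyperplane is singular, so this row
assumes d ≥ 2, and it is stated on the affine space of all forms.) -/
theorem result (k : Type u) [Field k] [IsAlgClosed k]
    (n d : ℕ) (hn : 1 ≤ n) (hd : 2 ≤ d) :
    ∃ Δ : ↥(Algebra.adjoin k (Set.range (fun l : Module.Dual k (LefPen.Form n k d) => (l : LefPen.Form n k d → k)))),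
      Irreducible Δ ∧ ∀ G : LefPen.Form n k d,
        (∃ v : Fin (n + 1) → k, v ≠ 0 ∧ MvPolynomial.eval v G.1 = 0 ∧
          ∀ i : Fin (n + 1), MvPolynomial.eval v (MvPolynomial.pderiv i G.1) = 0) ↔ Δ.1 G = 0 := by
  exact Groth.L05.Discrim.exists_discriminant hn hd

end Groth.Agent.S14374
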