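import Groth.Statements.S14375
import Groth.Agent.L25.GeomIrred
import Mathlib.AlgebraicGeometry.Geometrically.Irreducible
import Mathlib.AlgebraicGeometry.Morphisms.UniversallyOpen
-- import your own Groth.Agent.* helpers here

set_option autoImplicit false
universe u
open CategoryTheory CategoryTheory.Limits AlgebraicGeometry
open Variety

namespace Groth.Agent.S14375

/-- Let k be an algebraically closed field, F an irreducible scheme of finite type over k, and f : X → Y
a k-morphism of schemes of finite type over k with Y irreducible which is locally trivial with fibre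
F: every point of Y has an open neighbourhood V such that f⁻¹(V) is isomorphic over V to V ×_k F.
Then X is irreducible. (The published statement is for varieties, i.e. reduced separated schemes;
this row assumes neither.) -/
theorem result (k : Type u) [Field k] [IsAlgClosed k]
    {X Y F : Scheme.{u}} (qX : X ⟶ Spec (CommRingCat.of k)) (qY : Y ⟶ Spec (CommRingCat.of k))
    (qF : F ⟶ Spec (CommRingCat.of k))
    [LocallyOfFiniteType qX] [QuasiCompact qX] [LocallyOfFiniteType qY] [QuasiCompact qY]
    [LocallyOfFiniteType qF] [QuasiCompact qF] [IrreducibleSpace ↥F] [IrreducibleSpace ↥Y]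
    (f : X ⟶ Y) (hf : f ≫ qY = qX)
    (htriv : ∀ y : ↥Y, ∃ V : Y.Opens, y ∈ V ∧
      ∃ e : (↑(f ⁻¹ᵁ V) : Scheme.{u}) ≅ pullback (V.ι ≫ qY) qF, e.hom ≫ pullback.fst (V.ι ≫ qY) qF = f ∣_ V) :
    IrreducibleSpace ↥X := by
  haveI : GeometricallyIrreducible qF := Groth.L25.GeomIrred.geometricallyIrreducible_of_isAlgClosed qF
  haveI : UniversallyOpen qF := inferInstance
  choose V hyV e he using htriv
  have htop : iSup V = ⊤ := top_le_iff.1 fun y _ => TopologicalSpace.Opens.mem_iSup.2 ⟨y, hyV y⟩
  have hVi : ∀ y, GeometricallyIrreducible (f ∣_ V y) := fun y => by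
    rw [← he y]
    exact (MorphismProperty.cancel_left_of_respectsIso @GeometricallyIrreducible (e y).hom _).2
      (MorphismProperty.pullback_fst _ _ inferInstance)
  haveI : GeometricallyIrreducible f := ⟨fun K _ c Z a b sq => by
    let y := c.base default
    have hr : Set.range c ⊆ Set.range (V y).ι := by
      rw [Scheme.Opens.range_ι]
      rintro _ ⟨z, rfl⟩
      rw [Subsingleton.elim z default]
      exact hyV y
    let c' := IsOpenImmersion.lift (V y).ι c hr
    have hc' : c' ≫ (V y).ι = c := IsOpenImmersion.lift_fac _ _ _
    have sqV := (isPullback_morphismRestrict f (V y)).flip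
    let a' := sqV.lift a (b ≫ c') (by rw [sq.w, Category.assoc, hc'])
    have sq' : IsPullback a' b (f ∣_ V y) c' :=
      IsPullback.of_right (by rw [sqV.lift_fst, hc']; exact sq) (sqV.lift_snd _ _ _) sqV
    exact (hVi y).geometrically_irreducibleSpace c' a' b sq'⟩
  haveI : UniversallyOpen f := IsZariskiLocalAtTarget.of_iSup_eq_top V htop fun y => by
    rw [← he y]
    exact (MorphismProperty.cancel_left_of_respectsIso @UniversallyOpen (e y).hom _).2
      (MorphismProperty.pullback_fst _ _ inferInstance)
  exact GeometricallyIrreducible.irreducibleSpace f f.isOpenMap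

end Groth.Agent.S14375
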