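import Groth.Statements.S14376
import Groth.Agent.L05.Discrim.Squarefree

set_option autoImplicit false
universe u
open Fano

namespace Groth.Agent.S14376
set_option backward.isDefEq.respectTransparency false
set_option backward.isDefEq.respectTransparency.types false
set_option linter.style.haveILetI false

/-- Over an algebraically closed field k, let n ≥ 1 and d ≥ 1. In the vector space of degree-d forms in
n + 1 variables, the forms F that are squarefree (equivalently, nonzero with (F) a radical ideal:
the reduced hypersurfaces of degree d in P^n) form a Zariski-open subset, and this subset is
nonempty. (The published statement allows projective space of every dimension n; for n = 0 and d ≥ 2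
there is no squarefree form of degree d, so this row assumes n ≥ 1.) -/
theorem result (k : Type u) [Field k] [IsAlgClosed k]
    (n d : ℕ) (hn : 1 ≤ n) (hd : 1 ≤ d) :
    LefPen.IsZOpen k {F : LefPen.Form n k d | Squarefree F.1} ∧
      ({F : LefPen.Form n k d | Squarefree F.1}).Nonempty := by
  exact Groth.L05.Discrim.isZOpen_squarefree hn hd

end Groth.Agent.S14376
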