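import Groth.Statements.S14377
import Groth.Agent.L22.AffineDim
import Mathlib.RingTheory.Nullstellensatz
import Mathlib.RingTheory.Ideal.KrullsHeightTheorem
import Mathlib.LinearAlgebra.Matrix.Charpoly.Basic
import Mathlib.LinearAlgebra.Matrix.Charpoly.Coeff
import Mathlib.LinearAlgebra.Matrix.MvPolynomial
import Mathlib.LinearAlgebra.Matrix.NonsingularInverse
import Mathlib.LinearAlgebra.Matrix.Adjugate
import Mathlib.LinearAlgebra.LinearIndependent.Lemmas
import Mathlib.RingTheory.Spectrum.Prime.Topology

set_option autoImplicit false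
universe u
open Variety

namespace Groth.Agent.S14377

open Matrix

/-- An adapted basis of a nilpotent endomorphism. -/
theorem exists_flag {K V : Type u} [Field K] [AddCommGroup V] [Module K V] [FiniteDimensional K V] (f : Module.End K V)
    (hf : IsNilpotent f) : ∀ j, j ≤ Module.finrank K V → ∃ v : Fin j → V, LinearIndependent K v ∧
      ∀ i, f (v i) ∈ Submodule.span K (v '' {l | l < i}) := by
  intro j
  induction j with
  | zero => exact fun _ => ⟨Fin.elim0, linearIndependent_empty_type, fun i => i.elim0⟩
  | succ j ih =>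
    intro hj
    obtain ⟨v, hv, hfv⟩ := ih (by omega)
    set W := Submodule.span K (Set.range v) with hW
    have hne : W ≠ ⊤ := by
      intro h
      have := (finrank_span_eq_card hv)
      rw [← hW, h, finrank_top, Fintype.card_fin] at this
      omega
    obtain ⟨y, hy⟩ : ∃ y, y ∉ W := by
      by_contra h
      push Not at h
      exact hne (eq_top_iff.2 fun y _ => h y)
    obtain ⟨N, hN⟩ := hf
    have hex : ∃ m, (f ^ m) y ∈ W := ⟨N, by rw [hN]; exact zero_mem _⟩
    obtain ⟨x, hx, hfx⟩ : ∃ x, x ∉ W ∧ f x ∈ W := by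
      classical
      obtain ⟨m, hm⟩ : ∃ m, Nat.find hex = m + 1 := ⟨Nat.find hex - 1, by
        have : Nat.find hex ≠ 0 := fun h => hy (by
          have := Nat.find_spec hex
          rw [h, pow_zero] at this
          exact this)
        omega⟩
      refine ⟨(f ^ m) y, Nat.find_min hex (by omega), ?_⟩
      have := Nat.find_spec hex
      rw [hm, pow_succ'] at this
      exact this
    refine ⟨Fin.snoc v x, linearIndependent_finSnoc.2 ⟨hv, hx⟩, fun i => ?_⟩
    refine Fin.lastCases ?_ (fun i => ?_) i
    · rw [Fin.snoc_last]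
      refine Submodule.span_mono ?_ hfx
      rintro _ ⟨l, rfl⟩
      exact ⟨l.castSucc, Fin.castSucc_lt_last l, by rw [Fin.snoc_castSucc]⟩
    · rw [Fin.snoc_castSucc]
      refine Submodule.span_mono ?_ (hfv i)
      rintro _ ⟨l, hl, rfl⟩
      exact ⟨l.castSucc, Fin.castSucc_lt_castSucc_iff.2 hl, by rw [Fin.snoc_castSucc]⟩

/-- Every nilpotent matrix is conjugate to a strictly upper triangular one. -/
theorem exists_conj {K : Type u} [Field K] {n : ℕ} (M : Matrix (Fin n) (Fin n) K) (hM : IsNilpotent M) :
    ∃ G N : Matrix (Fin n) (Fin n) K, (∀ i j, ¬ i < j → N i j = 0) ∧ G * N * adjugate G = M := by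
  classical
  obtain ⟨v, hv, hfv⟩ := exists_flag (V := Fin n → K) (Matrix.toLinAlgEquiv' M) (hM.map _) n (by simp)
  let G : Matrix (Fin n) (Fin n) K := Matrix.of fun i j => v j i
  have hG : IsUnit G := by
    rw [← Matrix.linearIndependent_cols_iff_isUnit]
    exact hv
  have hcoef : ∀ j, ∃ c : Fin n → K, (∀ l, ¬ l < j → c l = 0) ∧ ∑ l, c l • v l = M *ᵥ v j := by
    intro j
    obtain ⟨c, hc, hce⟩ := (Finsupp.mem_span_image_iff_linearCombination K).1 (hfv j)
    refine ⟨c, fun l hl => ?_, ?_⟩
    · by_contra h
      exact hl (hc (Finsupp.mem_support_iff.2 h))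
    · rw [Finsupp.linearCombination_apply, Finsupp.sum_fintype _ _ (fun i => zero_smul K (v i))] at hce
      rw [hce, Matrix.toLinAlgEquiv'_apply]
  choose c hc hce using hcoef
  let N : Matrix (Fin n) (Fin n) K := Matrix.of fun l j => c j l
  have hGN : G * N = M * G := by
    ext i j
    have := congrFun (hce j) i
    simp only [Finset.sum_apply, Pi.smul_apply, smul_eq_mul, Matrix.mulVec, dotProduct] at this
    simp only [Matrix.mul_apply, G, N, Matrix.of_apply]
    rw [← this]
    exact Finset.sum_congr rfl fun l _ => mul_comm _ _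
  have hdet : G.det ≠ 0 := isUnit_iff_ne_zero.1 ((Matrix.isUnit_iff_isUnit_det G).1 hG)
  refine ⟨G, G.det⁻¹ • N, fun i j hij => ?_, ?_⟩
  · rw [Matrix.smul_apply, show N i j = 0 from hc j i hij, smul_zero]
  · rw [Matrix.mul_smul, Matrix.smul_mul, hGN, Matrix.mul_assoc, Matrix.mul_adjugate, Matrix.mul_smul, mul_one,
      smul_smul, inv_mul_cancel₀ hdet, one_smul]

/-- The charpoly of a strictly triangular matrix. -/
theorem charpoly_strict {R : Type u} [CommRing R] {n : ℕ} (N : Matrix (Fin n) (Fin n) R)
    (hN : ∀ i j, ¬ i < j → N i j = 0) : N.charpoly = Polynomial.X ^ n := by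
  rw [Matrix.charpoly_of_upperTriangular N (fun i j hij => hN i j (lt_asymm hij))]
  simp [hN]

/-- Over an algebraically closed field k, let n ≥ 1 and let I be the ideal of the polynomial ring
k[x_ij] in the n² entries of the generic n × n matrix generated by the coefficients of t^0, …,
t^(n−1) in its characteristic polynomial, so that the zero locus of I in the affine space of n × n
matrices is the set of nilpotent matrices. Then the spectrum of k[x_ij]/I is irreducible and
k[x_ij]/I has Krull dimension n² − n: the nilpotent matrices form an irreducible closed subvariety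
of dimension n² − n of the space of all n × n matrices. -/
theorem result (k : Type u) [Field k] [IsAlgClosed k]
    (n : ℕ) (hn : 1 ≤ n) (I : Ideal (MvPolynomial (Fin n × Fin n) k))
    (hI : I = Ideal.span (Set.range (fun i : Fin n =>
      (Matrix.charpoly (Matrix.mvPolynomialX (Fin n) (Fin n) k)).coeff (i : ℕ)))) :
    IrreducibleSpace (PrimeSpectrum (MvPolynomial (Fin n × Fin n) k ⧸ I)) ∧
      ringKrullDim (MvPolynomial (Fin n × Fin n) k ⧸ I) = ((n ^ 2 - n : ℕ) : WithBot ℕ∞) := by
  classical
  let Q := MvPolynomial (Fin n × Fin n) k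
  let U : Matrix (Fin n) (Fin n) (MvPolynomial ((Fin n × Fin n) ⊕ (Fin n × Fin n)) k) :=
    Matrix.of fun i j => if i < j then MvPolynomial.X (Sum.inr (i, j)) else 0
  let G₀ : Matrix (Fin n) (Fin n) (MvPolynomial ((Fin n × Fin n) ⊕ (Fin n × Fin n)) k) :=
    Matrix.of fun i j => MvPolynomial.X (Sum.inl (i, j))
  let Φ : MvPolynomial (Fin n × Fin n) k →ₐ[k] MvPolynomial ((Fin n × Fin n) ⊕ (Fin n × Fin n)) k :=
    MvPolynomial.aeval fun ij => (G₀ * U * adjugate G₀) ij.1 ij.2
  have hIle : I ≤ RingHom.ker Φ := by
    rw [hI, Ideal.span_le]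
    rintro _ ⟨i, rfl⟩
    rw [SetLike.mem_coe, RingHom.mem_ker]
    change Φ.toRingHom _ = 0
    rw [← Polynomial.coeff_map, ← Matrix.charpoly_map]
    have e : (Matrix.mvPolynomialX (Fin n) (Fin n) k).map Φ.toRingHom = G₀ * U * adjugate G₀ := by
      ext a b; simp [Φ]
    rw [e, Matrix.mul_assoc, Matrix.charpoly_mul_comm, Matrix.mul_assoc, Matrix.adjugate_mul, Matrix.mul_smul, mul_one,
      charpoly_strict _ (fun a b hab => by simp [U, hab]), Polynomial.coeff_X_pow, if_neg (by omega)]
  have hpt : ∀ x ∈ MvPolynomial.zeroLocus k I, IsNilpotent (Matrix.of fun i j => x (i, j)) := by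
    intro x hx
    refine ⟨n, ?_⟩
    have hcp : (Matrix.of fun i j => x (i, j)).charpoly = Polynomial.X ^ n := by
      have e : (Matrix.mvPolynomialX (Fin n) (Fin n) k).map (MvPolynomial.aeval x).toRingHom =
          Matrix.of fun i j => x (i, j) := by
        ext a b; simp
      rw [← e, Matrix.charpoly_map]
      refine Polynomial.ext fun j => ?_
      rw [Polynomial.coeff_map, Polynomial.coeff_X_pow]
      rcases lt_trichotomy j n with hj | rfl | hj
      · rw [if_neg hj.ne]
        exact hx _ (hI ▸ Ideal.subset_span ⟨⟨j, hj⟩, rfl⟩)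
      · rw [if_pos rfl]
        have hd : (Matrix.mvPolynomialX (Fin j) (Fin j) k).charpoly.natDegree = j := by
          rw [Matrix.charpoly_natDegree_eq_dim, Fintype.card_fin]
        have h1 := (Matrix.charpoly_monic (Matrix.mvPolynomialX (Fin j) (Fin j) k)).coeff_natDegree
        rw [hd] at h1
        rw [h1, map_one]
      · rw [if_neg hj.ne', Polynomial.coeff_eq_zero_of_natDegree_lt
          (by rw [Matrix.charpoly_natDegree_eq_dim, Fintype.card_fin]; exact hj), map_zero]
    have := Matrix.aeval_self_charpoly (Matrix.of fun i j => x (i, j))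
    rwa [hcp, map_pow, Polynomial.aeval_X] at this
  have hrad : I.radical = RingHom.ker Φ := by
    haveI : (RingHom.ker Φ).IsPrime := RingHom.ker_isPrime _
    refine le_antisymm ((Ideal.IsPrime.isRadical inferInstance).radical_le_iff.2 hIle) ?_
    rw [← MvPolynomial.vanishingIdeal_zeroLocus_eq_radical (K := k)]
    intro q hq
    rw [MvPolynomial.mem_vanishingIdeal_iff]
    intro x hx
    obtain ⟨G, N, hN, hGN⟩ := exists_conj _ (hpt x hx)
    let ev : MvPolynomial ((Fin n × Fin n) ⊕ (Fin n × Fin n)) k →ₐ[k] k :=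
      MvPolynomial.aeval (Sum.elim (fun ij => G ij.1 ij.2) fun ij => N ij.1 ij.2)
    have e1 : ev.mapMatrix G₀ = G := by ext a b; simp [ev, G₀]
    have e2 : ev.mapMatrix U = N := by
      ext a b
      by_cases h : a < b
      · simp [ev, U, h]
      · simp [ev, U, h, hN a b h]
    have e3 : MvPolynomial.aeval x = ev.comp Φ := by
      refine MvPolynomial.algHom_ext fun ij => ?_
      have h4 : ev.mapMatrix (G₀ * U * adjugate G₀) = Matrix.of fun i j => x (i, j) := by
        rw [map_mul, map_mul, AlgHom.map_adjugate, e1, e2, hGN]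
      simp only [AlgHom.comp_apply, Φ, MvPolynomial.aeval_X]
      exact (congrFun (congrFun h4 ij.1) ij.2).symm
    rw [e3, AlgHom.comp_apply, RingHom.mem_ker.1 hq, map_zero]
  haveI hprime : I.radical.IsPrime := hrad ▸ RingHom.ker_isPrime _
  have hmap : IsReduced (MvPolynomial (Fin n × Fin n) k ⧸ I.radical) := inferInstance
  refine ⟨?_, ?_⟩
  · rw [irreducibleSpace_def, Set.top_eq_univ, ← PrimeSpectrum.zeroLocus_bot, PrimeSpectrum.isIrreducible_zeroLocus_iff]
    have : (⊥ : Ideal (MvPolynomial (Fin n × Fin n) k ⧸ I)).radical = I.radical.map (Ideal.Quotient.mk I) := by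
      rw [Ideal.map_radical_of_surjective Ideal.Quotient.mk_surjective (by rw [Ideal.mk_ker]), Ideal.map_quotient_self]
    rw [this]
    exact Ideal.map_isPrime_of_surjective Ideal.Quotient.mk_surjective (by rw [Ideal.mk_ker]; exact Ideal.le_radical)
  -- the dimension
  have hdimI : ringKrullDim (MvPolynomial (Fin n × Fin n) k ⧸ I) = ringKrullDim (MvPolynomial (Fin n × Fin n) k ⧸ I.radical) := by
    rw [ringKrullDim_quotient, ringKrullDim_quotient, PrimeSpectrum.zeroLocus_radical]
  obtain ⟨h, e, d, hh, he, hd, hhe⟩ := Groth.L22.AffineDim.dim_formula k (MvPolynomial (Fin n × Fin n) k) I.radical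
  have hd' : d = n ^ 2 := by
    rw [MvPolynomial.ringKrullDim_of_isNoetherianRing, ringKrullDim_eq_zero_of_field, zero_add] at hd
    have : Nat.card (Fin n × Fin n) = d := by exact_mod_cast hd
    simpa [sq] using this.symm
  have hhn : h ≤ n := by
    have h1 : I.radical ∈ I.minimalPrimes :=
      ⟨⟨hprime, Ideal.le_radical⟩, fun J hJ _ => hJ.1.radical_le_iff.2 hJ.2⟩
    rw [hI] at h1
    have := Ideal.height_le_card_of_mem_minimalPrimes_span (Set.finite_range _) h1
    rw [← hI, hh, Nat.cast_le] at this
    refine this.trans ((Set.ncard_le_ncard_of_injOn id (fun a ha => ha) Function.injective_id.injOn (Set.finite_range _)).trans ?_)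
    rw [← Nat.card_coe_set_eq]
    exact (Finite.card_range_le _).trans (le_of_eq (Nat.card_fin n))
  have hen : e ≤ n ^ 2 - n := by
    let m : Ideal (MvPolynomial (Fin n × Fin n) k) := MvPolynomial.vanishingIdeal k {(0 : Fin n × Fin n → k)}
    have hm : m.IsMaximal := MvPolynomial.isMaximal_iff_eq_vanishingIdeal_singleton.2 ⟨0, rfl⟩
    have hIm : I ≤ m := by
      rw [hI, Ideal.span_le]
      rintro _ ⟨i, rfl⟩
      rw [SetLike.mem_coe, MvPolynomial.mem_vanishingIdeal_singleton_iff]
      change (MvPolynomial.aeval (0 : Fin n × Fin n → k)).toRingHom _ = 0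
      rw [← Polynomial.coeff_map, ← Matrix.charpoly_map,
        show (Matrix.mvPolynomialX (Fin n) (Fin n) k).map (MvPolynomial.aeval (0 : Fin n × Fin n → k)).toRingHom = 0 by
          ext a b; simp,
        charpoly_strict (0 : Matrix (Fin n) (Fin n) k) (fun a b _ => rfl), Polynomial.coeff_X_pow, if_neg (by omega)]
    have hradm : I.radical ≤ m := hm.isPrime.isRadical.radical_le_iff.2 hIm
    haveI : IsDomain (MvPolynomial (Fin n × Fin n) k ⧸ I.radical) := Ideal.Quotient.isDomain _
    let mk := Ideal.Quotient.mk I.radical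
    have hkm : RingHom.ker mk ≤ m := by rw [Ideal.mk_ker]; exact hradm
    haveI hmP : (m.map mk).IsMaximal := (Ideal.map_eq_top_or_isMaximal_of_surjective mk Ideal.Quotient.mk_surjective hm).resolve_left
      (fun ht => hm.ne_top (by
        rw [← Ideal.comap_map_of_surjective' mk Ideal.Quotient.mk_surjective m |>.trans (sup_eq_left.2 hkm), ht, Ideal.comap_top]))
    obtain ⟨h', e', d', hh', he', hd', hhe'⟩ := Groth.L22.AffineDim.dim_formula k (MvPolynomial (Fin n × Fin n) k ⧸ I.radical) (m.map mk)
    have he0 : e' = 0 := by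
      letI := Ideal.Quotient.field (m.map mk)
      rw [ringKrullDim_eq_zero_of_field] at he'
      exact_mod_cast he'.symm
    rw [hd'] at he
    have : d' = e := by exact_mod_cast he
    -- the off-diagonal coordinates cut out the origin
    let T : Set (MvPolynomial (Fin n × Fin n) k ⧸ I.radical) :=
      (fun ij => mk (MvPolynomial.X ij)) '' {ij : Fin n × Fin n | ij.1 ≠ ij.2}
    have hmin : m.map mk ∈ (Ideal.span T).minimalPrimes := by
      refine ⟨⟨hmP.isPrime, Ideal.span_le.2 ?_⟩, fun J hJ _ => ?_⟩
      · rintro _ ⟨ij, -, rfl⟩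
        refine Ideal.mem_map_of_mem _ ?_
        rw [MvPolynomial.mem_vanishingIdeal_singleton_iff]; simp
      · have hX : ∀ ij, mk (MvPolynomial.X ij) ∈ J := by
          have hoff : ∀ ij : Fin n × Fin n, ij.1 ≠ ij.2 → mk (MvPolynomial.X ij) ∈ J := fun ij h =>
            hJ.2 (Ideal.subset_span ⟨ij, h, rfl⟩)
          rintro ⟨a, b⟩
          by_cases hab : a = b
          · subst hab
            haveI := hJ.1
            let π : MvPolynomial (Fin n × Fin n) k →+* (MvPolynomial (Fin n × Fin n) k ⧸ I.radical) ⧸ J :=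
              (Ideal.Quotient.mk J).comp mk
            have hπI : ∀ z ∈ I, π z = 0 := fun z hz => by
              change Ideal.Quotient.mk J (mk z) = 0
              rw [show mk z = 0 from Ideal.Quotient.eq_zero_iff_mem.2 (Ideal.le_radical hz), map_zero]
            have hdiag : (Matrix.mvPolynomialX (Fin n) (Fin n) k).map π = Matrix.diagonal fun c => π (MvPolynomial.X (c, c)) := by
              ext c c'
              by_cases hcc : c = c'
              · subst hcc; simp
              · rw [Matrix.map_apply, Matrix.mvPolynomialX_apply, Matrix.diagonal_apply_ne _ hcc]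
                exact Ideal.Quotient.eq_zero_iff_mem.2 (hoff (c, c') hcc)
            have hcp : ((Matrix.mvPolynomialX (Fin n) (Fin n) k).map π).charpoly = Polynomial.X ^ n := by
              refine Polynomial.ext fun j => ?_
              rw [Polynomial.coeff_X_pow]
              rcases lt_trichotomy j n with hj | rfl | hj
              · rw [if_neg hj.ne, Matrix.charpoly_map, Polynomial.coeff_map]
                exact hπI _ (hI ▸ Ideal.subset_span ⟨⟨j, hj⟩, rfl⟩)
              · rw [if_pos rfl]
                have h1 := (Matrix.charpoly_monic ((Matrix.mvPolynomialX (Fin j) (Fin j) k).map π)).coeff_natDegree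
                rwa [Matrix.charpoly_natDegree_eq_dim, Fintype.card_fin] at h1
              · rw [if_neg hj.ne', Polynomial.coeff_eq_zero_of_natDegree_lt
                  (by rw [Matrix.charpoly_natDegree_eq_dim, Fintype.card_fin]; exact hj)]
            have h2 := Matrix.aeval_self_charpoly ((Matrix.mvPolynomialX (Fin n) (Fin n) k).map π)
            rw [hcp, map_pow, Polynomial.aeval_X, hdiag, Matrix.diagonal_pow, Matrix.diagonal_eq_zero] at h2
            have h3 : π (MvPolynomial.X (a, a)) ^ n = 0 := congrFun h2 a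
            exact Ideal.Quotient.eq_zero_iff_mem.1 (eq_zero_of_pow_eq_zero h3)
          · exact hoff (a, b) hab
        refine Ideal.map_le_iff_le_comap.2 fun z hz => ?_
        rw [MvPolynomial.mem_vanishingIdeal_singleton_iff, MvPolynomial.aeval_zero, Algebra.algebraMap_self_apply] at hz
        rw [Ideal.mem_comap, z.as_sum, map_sum]
        refine Ideal.sum_mem _ fun c hc => ?_
        have hc0 : c ≠ 0 := fun h => MvPolynomial.mem_support_iff.1 hc (by rw [h]; exact hz)
        obtain ⟨ij, hij⟩ := Finsupp.ne_iff.1 hc0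
        obtain ⟨q, hq⟩ : MvPolynomial.X ij ∣ MvPolynomial.monomial c (z.coeff c) :=
          MvPolynomial.X_dvd_monomial.2 (Or.inr hij)
        rw [hq, map_mul]
        exact Ideal.mul_mem_right _ _ (hX ij)
    have hT : T.ncard ≤ n ^ 2 - n := by
      refine (Set.ncard_image_le (Set.toFinite _)).trans (le_of_eq ?_)
      rw [Set.ncard_eq_toFinset_card', show ({ij : Fin n × Fin n | ij.1 ≠ ij.2}).toFinset = Finset.univ.offDiag by
        ext ij; simp, Finset.offDiag_card, Finset.card_univ, Fintype.card_fin, sq]
    have h4 := Ideal.height_le_card_of_mem_minimalPrimes_span ((Set.toFinite _).image _) hmin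
    rw [hh', Nat.cast_le] at h4
    exact (show e ≤ h' by omega).trans (h4.trans hT)
  rw [hdimI, he]
  have : e = n ^ 2 - n := by omega
  rw [this]

end Groth.Agent.S14377
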