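
import Groth.Statements.S14378
import Groth.Agent.L22.FibreIrr

set_option autoImplicit false
universe u
open CategoryTheory CategoryTheory.Limits AlgebraicGeometry
open Variety

namespace Groth.Agent.S14378

/-- Let k be an algebraically closed field, X and Y schemes of finite type over k with Y irreducible,
and f : X → Y a k-morphism such that for some natural number d the fibre of f over every closed
point of Y (the subspace of points mapping to it) is irreducible of dimension d. Then (i) exactly
one irreducible component of X has dense image in Y, and (ii) each irreducible component Z of X is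
made up of whole fibres — if Z meets the fibre over a closed point then it contains it — and dim Z =
d + dim f(Z)‾, the dimension of the closure of its image. (The published assertions are for
varieties, i.e. reduced separated schemes; this row assumes neither.) -/
theorem result (k : Type u) [Field k] [IsAlgClosed k]
    {X Y : Scheme.{u}} (qX : X ⟶ Spec (CommRingCat.of k)) (qY : Y ⟶ Spec (CommRingCat.of k))
    [LocallyOfFiniteType qX] [QuasiCompact qX] [LocallyOfFiniteType qY] [QuasiCompact qY]
    (f : X ⟶ Y) (hf : f ≫ qY = qX) [IrreducibleSpace ↥Y] (d : ℕ)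
    (hirr : ∀ y : ↥Y, IsClosed ({y} : Set ↥Y) → IsIrreducible (f.base ⁻¹' {y}))
    (hdim : ∀ y : ↥Y, IsClosed ({y} : Set ↥Y) → topologicalKrullDim ↥(f.base ⁻¹' {y}) = d) :
    (∃! Z : Set ↥X, Z ∈ irreducibleComponents ↥X ∧ Dense (f.base '' Z)) ∧
      ∀ Z ∈ irreducibleComponents ↥X,
        (∀ y : ↥Y, IsClosed ({y} : Set ↥Y) → (f.base ⁻¹' {y} ∩ Z).Nonempty → f.base ⁻¹' {y} ⊆ Z) ∧
        topologicalKrullDim ↥Z = d + topologicalKrullDim ↥(closure (f.base '' Z)) := by
  letI : X.Over (Spec (CommRingCat.of k)) := ⟨qX⟩
  letI : Y.Over (Spec (CommRingCat.of k)) := ⟨qY⟩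
  haveI : LocallyOfFiniteType (X ↘ Spec (CommRingCat.of k)) := ‹LocallyOfFiniteType qX›
  haveI : LocallyOfFiniteType (Y ↘ Spec (CommRingCat.of k)) := ‹LocallyOfFiniteType qY›
  haveI := Groth.L22.DimZero.isNoetherian k qX
  haveI := Groth.L22.DimZero.isNoetherian k qY
  haveI : QuasiCompact f :=
    have : QuasiCompact (f ≫ qY) := hf ▸ inferInstance
    QuasiCompact.of_comp f qY
  obtain ⟨ξ, ⟨hξ, hfξ⟩, huniq⟩ := Groth.L22.FibreIrr.existsUnique_dominant k f hf d hirr hdim
  have hgen : ∀ Z ∈ irreducibleComponents X, ∃ η : X,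
      (∀ y, y ⤳ η → y = η) ∧ Z = closure {η} := by
    intro Z hZ
    obtain ⟨η, hη⟩ := QuasiSober.sober hZ.1 (isClosed_of_mem_irreducibleComponents Z hZ)
    refine ⟨η, fun y hy => ?_, hη.def.symm⟩
    have hsub : Z ⊆ closure ({y} : Set X) := by
      rw [← hη.def]; exact closure_minimal (Set.singleton_subset_iff.2 hy.mem_closure) isClosed_closure
    exact IsGenericPoint.eq (S := Z) ((hZ.2 isIrreducible_singleton.closure hsub).antisymm hsub) hη
  have hclos : ∀ η : X, closure (f.base '' closure ({η} : Set X)) = closure {f η} := fun η => by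
    change closure (f '' closure {η}) = _
    rw [closure_image_closure f.continuous, Set.image_singleton]
  refine ⟨⟨closure {ξ}, ⟨?_, ?_⟩, ?_⟩, fun Z hZ => ?_⟩
  · refine ⟨isIrreducible_singleton.closure, fun C hC hle => ?_⟩
    obtain ⟨θ, hθ⟩ := QuasiSober.sober hC.closure isClosed_closure
    have := hξ θ (hθ.specializes (subset_closure (hle (subset_closure rfl))))
    rw [this] at hθ
    exact subset_closure.trans hθ.def.ge
  · rw [dense_iff_closure_eq, hclos, hfξ, (genericPoint_spec Y).def]
  · rintro Z ⟨hZ, hdense⟩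
    obtain ⟨η, hη, rfl⟩ := hgen Z hZ
    rw [huniq η ⟨hη, ?_⟩]
    rw [dense_iff_closure_eq, hclos] at hdense
    exact IsGenericPoint.eq (S := (Set.univ : Set Y)) hdense (genericPoint_spec Y)
  · obtain ⟨η, hη, rfl⟩ := hgen Z hZ
    rw [hclos]
    exact Groth.L22.FibreIrr.component k f hf d hirr hdim hη

end Groth.Agent.S14378
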