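import Groth.Statements.S14379
import Mathlib.RingTheory.NoetherNormalization
import Groth.Agent.L22.AffineDim
import Mathlib.RingTheory.DiscreteValuationRing.Basic
import Mathlib.RingTheory.LocalRing.ResidueField.Basic
import Mathlib.RingTheory.KrullDimension.Polynomial
import Mathlib.RingTheory.RingHom.Finite
import Mathlib.RingTheory.FiniteStability
import Mathlib.Tactic.LinearCombination

set_option autoImplicit false
open scoped TensorProduct
universe u
open CAlg

namespace Groth.Agent.S14379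

open MvPolynomial

/-- Perturbing arbitrary elements by large powers of a Noether normalisation gives a Noether
normalisation. -/
private theorem finite_add_pow {F S : Type*} [Field F] [CommRing S] [Algebra F S] {d : ℕ}
    (w : Fin d → S) (hw : (aeval w : MvPolynomial (Fin d) F →ₐ[F] S).toRingHom.Finite)
    (x : Fin d → S) :
    ∃ D : ℕ, ∀ e, D < e → ∀ c : F, c ≠ 0 →
      (aeval (fun i => x i + algebraMap F S c * w i ^ e) : MvPolynomial (Fin d) F →ₐ[F] S).toRingHom.Finite := by
  classical
  obtain ⟨r, m, hm⟩ : ∃ (r : ℕ) (m : Fin r → S), ∀ s : S, ∃ P : Fin r → MvPolynomial (Fin d) F,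
      ∑ j, aeval w (P j) * m j = s := by
    letI := (aeval w : MvPolynomial (Fin d) F →ₐ[F] S).toRingHom.toAlgebra
    haveI : Module.Finite (MvPolynomial (Fin d) F) S := hw
    obtain ⟨r, m, hm⟩ := Module.Finite.exists_fin (R := MvPolynomial (Fin d) F) (M := S)
    refine ⟨r, m, fun s => ?_⟩
    obtain ⟨P, hP⟩ := (Submodule.mem_span_range_iff_exists_fun _).mp (hm.ge (Submodule.mem_top (x := s)))
    exact ⟨P, hP⟩
  choose P hP using fun (i : Fin d) (j : Fin r) => hm (x i * m j)
  refine ⟨Finset.univ.sup fun q : Fin d × Fin r × Fin r => (P q.1 q.2.1 q.2.2).totalDegree,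
    fun e he c hc => ?_⟩
  set f : Fin d → S := fun i => x i + algebraMap F S c * w i ^ e with hf
  letI := (aeval f : MvPolynomial (Fin d) F →ₐ[F] S).toRingHom.toAlgebra
  let g : (Fin d → Fin e) × Fin r → S := fun q => (∏ l, w l ^ (q.1 l : ℕ)) * m q.2
  let N : Submodule (MvPolynomial (Fin d) F) S := Submodule.span _ (Set.range g)
  have hmul : ∀ (p : MvPolynomial (Fin d) F) (s : S), s ∈ N → aeval f p * s ∈ N :=
    fun p s hs => N.smul_mem p hs
  have hC : ∀ (a : F) (s : S), s ∈ N → algebraMap F S a * s ∈ N := fun a s hs => by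
    have := hmul (C a) s hs
    rwa [aeval_C] at this
  have key : ∀ (n : ℕ) (α : Fin d → ℕ), ∑ l, α l = n → ∀ j, (∏ l, w l ^ α l) * m j ∈ N := by
    intro n
    induction n using Nat.strong_induction_on with
    | _ n ih =>
      intro α hα j
      by_cases hsmall : ∀ l, α l < e
      · exact Submodule.subset_span ⟨(fun l => ⟨α l, hsmall l⟩, j), rfl⟩
      push_neg at hsmall
      obtain ⟨l, hl⟩ := hsmall
      set α' : Fin d → ℕ := Function.update α l (α l - e) with hα'
      have hsum : ∑ i, α' i + e = n := by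
        rw [← hα, hα', Finset.sum_update_of_mem (Finset.mem_univ l),
          ← Finset.sum_sdiff (Finset.subset_univ {l}) (f := α), Finset.sum_singleton]
        omega
      have hprod : (∏ i, w i ^ α i) = w l ^ e * ∏ i, w i ^ α' i := by
        rw [← Finset.prod_erase_mul _ _ (Finset.mem_univ l),
          ← Finset.prod_erase_mul _ (fun i => w i ^ α' i) (Finset.mem_univ l), hα',
          Function.update_self, mul_comm (w l ^ e), mul_assoc, ← pow_add, Nat.sub_add_cancel hl]
        congr 1
        exact Finset.prod_congr rfl fun i hi => by rw [Function.update_of_ne (Finset.ne_of_mem_erase hi)]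
      have h1 : aeval f (X l) * ((∏ i, w i ^ α' i) * m j) ∈ N := hmul _ _ (ih _ (by omega) α' rfl j)
      have h2 : (∏ i, w i ^ α' i) * (x l * m j) ∈ N := by
        rw [← hP l j, Finset.mul_sum]
        refine Submodule.sum_mem _ fun k _ => ?_
        rw [MvPolynomial.aeval_def, MvPolynomial.eval₂_eq', Finset.sum_mul, Finset.mul_sum]
        refine Submodule.sum_mem _ fun β hβ => ?_
        rw [show (∏ i, w i ^ α' i) * (algebraMap F S (coeff β (P l j k)) * (∏ i, w i ^ β i) * m k) =
          algebraMap F S (coeff β (P l j k)) * ((∏ i, w i ^ (α' i + β i)) * m k) by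
            simp only [pow_add, Finset.prod_mul_distrib]; ring]
        refine hC _ _ (ih _ ?_ (fun i => α' i + β i) rfl k)
        have hdeg : (β.sum fun _ a => a) ≤ (P l j k).totalDegree := le_totalDegree hβ
        rw [Finsupp.sum_fintype _ _ (fun _ => rfl)] at hdeg
        have := (Finset.le_sup (f := fun q : Fin d × Fin r × Fin r => (P q.1 q.2.1 q.2.2).totalDegree)
          (Finset.mem_univ (l, j, k))).trans_lt he
        simp only at this
        rw [Finset.sum_add_distrib]
        omega
      have h3 := hC c⁻¹ _ (sub_mem h1 h2)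
      convert h3 using 1
      rw [hprod, aeval_X, hf]
      simp only
      linear_combination (-(w l ^ e * (∏ i, w i ^ α' i) * m j)) *
        ((map_mul (algebraMap F S) c⁻¹ c).symm.trans (by rw [inv_mul_cancel₀ hc, map_one]))
  refine ⟨Submodule.fg_def.mpr ⟨Set.range g, Set.finite_range g, eq_top_iff.mpr fun s _ => ?_⟩⟩
  obtain ⟨Q, rfl⟩ := hm s
  refine Submodule.sum_mem _ fun k _ => ?_
  rw [MvPolynomial.aeval_def, MvPolynomial.eval₂_eq', Finset.sum_mul]
  refine Submodule.sum_mem _ fun β _ => ?_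
  rw [mul_assoc]
  exact hC _ _ (key _ β rfl k)

/-- Noether normalisation with exactly `d` variables. -/
private theorem exists_normalisation (F S : Type u) [Field F] [CommRing S] [Algebra F S]
    [Algebra.FiniteType F S] (d : ℕ) (hd : ringKrullDim S ≤ d) :
    ∃ w : Fin d → S, (aeval w : MvPolynomial (Fin d) F →ₐ[F] S).toRingHom.Finite := by
  rcases subsingleton_or_nontrivial S with hS | hS
  · exact ⟨0, RingHom.Finite.of_surjective _ fun s => ⟨0, Subsingleton.elim _ _⟩⟩
  obtain ⟨s, g, hg, hgf⟩ := exists_finite_inj_algHom_of_fg F S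
  have hdim : ringKrullDim S = s := by
    letI := g.toRingHom.toAlgebra
    haveI : Module.Finite (MvPolynomial (Fin s) F) S := hgf
    rw [Groth.L22.AffineDim.ringKrullDim_eq_of_isIntegral (R := MvPolynomial (Fin s) F) (S := S) hg,
      MvPolynomial.ringKrullDim_of_isNoetherianRing, ringKrullDim_eq_zero_of_field, zero_add]
    simp
  have hsd : s ≤ d := by rw [hdim] at hd; exact_mod_cast hd
  let w : Fin d → S := fun i => if h : (i : ℕ) < s then g (X ⟨i, h⟩) else 0
  refine ⟨w, ?_⟩
  have hcomp : (aeval w : MvPolynomial (Fin d) F →ₐ[F] S).comp (rename (Fin.castLE hsd)) = g := by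
    refine MvPolynomial.algHom_ext fun i => ?_
    simp [w]
  refine RingHom.Finite.of_comp_finite (f := (rename (Fin.castLE hsd) : MvPolynomial (Fin s) F →ₐ[F] _).toRingHom) ?_
  show ((aeval w : MvPolynomial (Fin d) F →ₐ[F] S).comp (rename (Fin.castLE hsd))).toRingHom.Finite
  rw [hcomp]
  exact hgf

/-- A Noether normalisation of a fibre coming from elements of the ring. -/
private theorem exists_lift (V R : Type u) [CommRing V] [CommRing R] [Algebra V R] (F : Type u) [Field F]
    [Algebra V F] [Algebra.FiniteType V R] (d : ℕ) (hd : ringKrullDim (F ⊗[V] R) ≤ d)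
    (hlift : ∀ z : F ⊗[V] R, ∃ r : R, ∃ c : F, c ≠ 0 ∧ algebraMap F (F ⊗[V] R) c * ((1 : F) ⊗ₜ[V] r) = z) :
    ∃ w : Fin d → R,
      (aeval (fun i => (1 : F) ⊗ₜ[V] w i) : MvPolynomial (Fin d) F →ₐ[F] F ⊗[V] R).toRingHom.Finite := by
  haveI : Algebra.FiniteType F (F ⊗[V] R) := inferInstance
  obtain ⟨z, hz⟩ := exists_normalisation F (F ⊗[V] R) d hd
  choose r c hc hr using fun i => hlift (z i)
  refine ⟨r, RingHom.Finite.of_comp_finite
    (f := (aeval fun i => C (c i) * X i : MvPolynomial (Fin d) F →ₐ[F] MvPolynomial (Fin d) F).toRingHom) ?_⟩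
  show ((aeval (fun i => (1 : F) ⊗ₜ[V] r i) : MvPolynomial (Fin d) F →ₐ[F] F ⊗[V] R).comp (aeval fun i => C (c i) * X i)).toRingHom.Finite
  convert hz using 2
  refine MvPolynomial.algHom_ext fun i => ?_
  rw [MvPolynomial.aeval_X (R := F) z, ← hr i]
  simp [Algebra.TensorProduct.algebraMap_apply]

/-- Let V be a discrete valuation ring with residue field k and fraction field K, let R be a flat
V-algebra of finite type such that both fibre rings k ⊗_V R and K ⊗_V R have Krull dimension at most
d, let x_1, …, x_d be elements of R and let N ≥ 1 be an integer. Then there are elements y_1, …, y_d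
of the subring of R generated by the N-th powers of elements of R such that, setting f_i = x_i +
y_i, the fibre ring k ⊗_V R is finite over the polynomial ring k[T_1, …, T_d] via T_i ↦ 1 ⊗ f_i and
K ⊗_V R is finite over K[T_1, …, T_d] via T_i ↦ 1 ⊗ f_i; in other words the morphism (f_1, …, f_d)
to affine d-space over V is finite on both fibres. -/
theorem result (V : Type u) [CommRing V] [IsDomain V]
    [IsDiscreteValuationRing V] (R : Type u) [CommRing R] [Algebra V R] [Module.Flat V R]
    [Algebra.FiniteType V R] (d : ℕ)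
    (hs : ringKrullDim (IsLocalRing.ResidueField V ⊗[V] R) ≤ d)
    (hη : ringKrullDim (FractionRing V ⊗[V] R) ≤ d)
    (x : Fin d → R) (N : ℕ) (hN : 1 ≤ N) :
    ∃ y : Fin d → R, (∀ i, y i ∈ Subring.closure (Set.range fun r : R => r ^ N)) ∧
      (MvPolynomial.aeval (fun i => (1 : IsLocalRing.ResidueField V) ⊗ₜ[V] (x i + y i)) :
          MvPolynomial (Fin d) (IsLocalRing.ResidueField V) →ₐ[IsLocalRing.ResidueField V]
            IsLocalRing.ResidueField V ⊗[V] R).toRingHom.Finite ∧
      (MvPolynomial.aeval (fun i => (1 : FractionRing V) ⊗ₜ[V] (x i + y i)) :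
          MvPolynomial (Fin d) (FractionRing V) →ₐ[FractionRing V] FractionRing V ⊗[V] R).toRingHom.Finite := by
  set k := IsLocalRing.ResidueField V
  set K := FractionRing V
  obtain ⟨ϖ, hϖ⟩ := IsDiscreteValuationRing.exists_irreducible V
  obtain ⟨u, hu⟩ := exists_lift V R k d hs (fun z => by
    induction z using TensorProduct.induction_on with
    | zero => exact ⟨0, 1, one_ne_zero, by simp⟩
    | tmul a r =>
      obtain ⟨v, rfl⟩ := IsLocalRing.residue_surjective a
      refine ⟨v • r, 1, one_ne_zero, ?_⟩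
      rw [map_one, one_mul, TensorProduct.tmul_smul, TensorProduct.smul_tmul', Algebra.smul_def, mul_one]
      rfl
    | add a b ha hb =>
      obtain ⟨r, c, hc, rfl⟩ := ha
      obtain ⟨s, c', hc', rfl⟩ := hb
      obtain ⟨v, hv⟩ := IsLocalRing.residue_surjective c
      obtain ⟨v', hv'⟩ := IsLocalRing.residue_surjective c'
      refine ⟨v • r + v' • s, 1, one_ne_zero, ?_⟩
      rw [map_one, one_mul, TensorProduct.tmul_add, TensorProduct.tmul_smul, TensorProduct.tmul_smul,
        ← hv, ← hv']
      simp [Algebra.smul_def]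
      rfl)
  obtain ⟨w, hw⟩ := exists_lift V R K d hη (fun z => by
    have : ∃ r : R, ∃ s : V, s ≠ 0 ∧ s • z = (1 : K) ⊗ₜ[V] r := by
      induction z using TensorProduct.induction_on with
      | zero => exact ⟨0, 1, one_ne_zero, by simp⟩
      | tmul a r =>
        obtain ⟨⟨v, s⟩, hvs⟩ := IsLocalization.surj (nonZeroDivisors V) a
        refine ⟨v • r, s, nonZeroDivisors.ne_zero s.2, ?_⟩
        rw [TensorProduct.smul_tmul', TensorProduct.tmul_smul, TensorProduct.smul_tmul',
          Algebra.smul_def, Algebra.smul_def, mul_one, mul_comm, hvs]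
      | add a b ha hb =>
        obtain ⟨r, s, hs', ha⟩ := ha
        obtain ⟨r', s', hs'', hb⟩ := hb
        refine ⟨s' • r + s • r', s * s', mul_ne_zero hs' hs'', ?_⟩
        rw [smul_add, mul_smul, mul_smul, hb, smul_comm, ha, TensorProduct.tmul_add,
          TensorProduct.tmul_smul, TensorProduct.tmul_smul]
    obtain ⟨r, s, hs', h⟩ := this
    have hs'' : algebraMap V K s ≠ 0 := fun h0 => hs' (IsFractionRing.injective V K (by simpa using h0))
    refine ⟨r, (algebraMap V K s)⁻¹, inv_ne_zero hs'', ?_⟩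
    rw [← h, ← algebraMap_smul K s z, ← Algebra.smul_def, smul_smul, inv_mul_cancel₀ hs'', one_smul])
  have hϖk : algebraMap V k ϖ = 0 :=
    IsLocalRing.residue_eq_zero_iff _ |>.mpr (hϖ.maximalIdeal_eq ▸ Ideal.mem_span_singleton_self ϖ)
  have hϖK : algebraMap V K ϖ ≠ 0 := fun h => hϖ.ne_zero (IsFractionRing.injective V K (by simpa using h))
  obtain ⟨D₁, hD₁⟩ := finite_add_pow _ hw (fun i => (1 : K) ⊗ₜ[V] u i)
  set g : Fin d → R := fun i => u i + algebraMap V R ϖ * w i ^ (D₁ + 1) with hg
  have hgk : (fun i => (1 : k) ⊗ₜ[V] g i) = fun i => (1 : k) ⊗ₜ[V] u i := by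
    funext i
    rw [hg, TensorProduct.tmul_add, ← Algebra.smul_def, TensorProduct.tmul_smul,
      TensorProduct.smul_tmul', Algebra.smul_def, hϖk, zero_mul, TensorProduct.zero_tmul, add_zero]
  have hgK : (aeval (fun i => (1 : K) ⊗ₜ[V] g i) : MvPolynomial (Fin d) K →ₐ[K] K ⊗[V] R).toRingHom.Finite := by
    rw [show (fun i => (1 : K) ⊗ₜ[V] g i) = fun i => (1 : K) ⊗ₜ[V] u i +
      algebraMap K (K ⊗[V] R) (algebraMap V K ϖ) * ((1 : K) ⊗ₜ[V] w i) ^ (D₁ + 1) from ?_]
    · exact hD₁ (D₁ + 1) (Nat.lt_succ_self _) (algebraMap V K ϖ) hϖK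
    funext i
    rw [hg, TensorProduct.tmul_add, ← Algebra.smul_def, TensorProduct.tmul_smul,
      ← algebraMap_smul K ϖ ((1 : K) ⊗ₜ[V] (w i ^ (D₁ + 1))), ← Algebra.smul_def,
      Algebra.TensorProduct.tmul_pow, one_pow]
  have hgk' : (aeval (fun i => (1 : k) ⊗ₜ[V] g i) : MvPolynomial (Fin d) k →ₐ[k] k ⊗[V] R).toRingHom.Finite := by
    rw [hgk]; exact hu
  obtain ⟨D₂, hD₂⟩ := finite_add_pow _ hgk' (fun i => (1 : k) ⊗ₜ[V] x i)
  obtain ⟨D₃, hD₃⟩ := finite_add_pow _ hgK (fun i => (1 : K) ⊗ₜ[V] x i)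
  set M := D₂ + D₃ + 1
  have hM : D₂ < M * N ∧ D₃ < M * N := by
    have := Nat.le_mul_of_pos_right M hN
    omega
  refine ⟨fun i => (g i ^ M) ^ N, fun i => Subring.subset_closure ⟨g i ^ M, rfl⟩, ?_, ?_⟩
  · rw [show (fun i => (1 : k) ⊗ₜ[V] (x i + (g i ^ M) ^ N)) = fun i => (1 : k) ⊗ₜ[V] x i +
      algebraMap k (k ⊗[V] R) 1 * ((1 : k) ⊗ₜ[V] g i) ^ (M * N) from ?_]
    · exact hD₂ _ hM.1 1 one_ne_zero
    funext i
    rw [map_one, one_mul, TensorProduct.tmul_add, Algebra.TensorProduct.tmul_pow, one_pow, pow_mul]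
  · rw [show (fun i => (1 : K) ⊗ₜ[V] (x i + (g i ^ M) ^ N)) = fun i => (1 : K) ⊗ₜ[V] x i +
      algebraMap K (K ⊗[V] R) 1 * ((1 : K) ⊗ₜ[V] g i) ^ (M * N) from ?_]
    · exact hD₃ _ hM.2 1 one_ne_zero
    funext i
    rw [map_one, one_mul, TensorProduct.tmul_add, Algebra.TensorProduct.tmul_pow, one_pow, pow_mul]

end Groth.Agent.S14379
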