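import Groth.Statements.S14381
import Groth.Agent.L27.FLC.Torsor

set_option autoImplicit false
open CategoryTheory CategoryTheory.Limits AlgebraicGeometry Opposite
universe u
open EtCoh

namespace Groth.Agent.S14381

/-- Let Y be a quasi-compact quasi-separated scheme with finitely many connected components, F an
abelian sheaf on the small étale site of Y which is finite locally constant and killed by some
integer n ≥ 1, and ζ a class in H^1(Y_ét, F). Then there is a finite étale surjective morphism g :
Y' → Y such that the pullback of ζ to H^1(Y'_ét, g⁻¹F) vanishes. (Degree-one classes are always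
killed by finite étale covers, so the defining condition of a K(π,1) scheme holds in degree 1 for
every such Y.) (Exactness of pullback of abelian sheaves, which always holds, is carried as an
instance hypothesis.) -/
theorem result (Y : Scheme.{u}) [CompactSpace ↥Y]
    [QuasiSeparatedSpace ↥Y] (hconn : Finite (_root_.ConnectedComponents ↥Y))
    (F : EtCoh.Ab Y) (hF : EtCoh.IsFiniteLocallyConstant F)
    (htor : ∃ n : ℕ, 0 < n ∧ EtCoh.KilledBy n F) (ζ : EtCoh.H Y F 1) :
    ∃ (Y' : Scheme.{u}) (g : Y' ⟶ Y), IsFinite g ∧ Etale g ∧ Surjective g ∧
      ∀ [PreservesFiniteLimits (EtCoh.pull g)], EtCore.Hpull g F 1 ζ = 0 := by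
  obtain ⟨n, hn0, hn⟩ := htor
  haveI : NeZero n := ⟨hn0.ne'⟩
  exact Groth.L27.FLC.exists_cover_killing F hF n hn ζ

end Groth.Agent.S14381
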