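import Groth.Statements.S14382
import Groth.Agent.L27.FLC.KPi1

set_option autoImplicit false
open CategoryTheory CategoryTheory.Limits AlgebraicGeometry Opposite
universe u
open EtCoh

namespace Groth.Agent.S14382

/-- Let P be a set of prime numbers and f : X → Y a finite étale surjective morphism of schemes, where Y
is quasi-compact and quasi-separated with finitely many connected components. Then X is
quasi-compact and quasi-separated with finitely many connected components, and Y is a K(π,1) for
P-torsion coefficients if and only if X is; here a scheme Z is called a K(π,1) for P-torsion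
coefficients when for every finite locally constant abelian sheaf F on the small étale site of Z
killed by some n ≥ 1 all of whose prime factors lie in P, every q > 0 and every class ζ in H^q(Z_ét,
F) there is a finite étale surjective g : Z' → Z with g^*ζ = 0. (Exactness of pullback of abelian
sheaves, which always holds, is carried as an instance hypothesis.) -/
theorem result (P : Set ℕ) {X Y : Scheme.{u}} (f : X ⟶ Y)
    [IsFinite f] [Etale f] [Surjective f] [CompactSpace ↥Y] [QuasiSeparatedSpace ↥Y]
    (hconn : Finite (_root_.ConnectedComponents ↥Y)) :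
    (CompactSpace ↥X ∧ QuasiSeparatedSpace ↥X ∧ Finite (_root_.ConnectedComponents ↥X)) ∧
    ((∀ (F : EtCoh.Ab Y), EtCoh.IsFiniteLocallyConstant F →
        (∃ n : ℕ, 0 < n ∧ (∀ p : ℕ, p.Prime → p ∣ n → p ∈ P) ∧ EtCoh.KilledBy n F) →
        ∀ q : ℕ, 0 < q → ∀ ζ : EtCoh.H Y F q,
          ∃ (Y' : Scheme.{u}) (g : Y' ⟶ Y), IsFinite g ∧ Etale g ∧ Surjective g ∧
            ∀ [PreservesFiniteLimits (EtCoh.pull g)], EtCore.Hpull g F q ζ = 0) ↔
     (∀ (F : EtCoh.Ab X), EtCoh.IsFiniteLocallyConstant F →
        (∃ n : ℕ, 0 < n ∧ (∀ p : ℕ, p.Prime → p ∣ n → p ∈ P) ∧ EtCoh.KilledBy n F) →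
        ∀ q : ℕ, 0 < q → ∀ ζ : EtCoh.H X F q,
          ∃ (X' : Scheme.{u}) (g : X' ⟶ X), IsFinite g ∧ Etale g ∧ Surjective g ∧
            ∀ [PreservesFiniteLimits (EtCoh.pull g)], EtCore.Hpull g F q ζ = 0)) := by
  haveI : CompactSpace ↥X := QuasiCompact.compactSpace_of_compactSpace f
  haveI : QuasiSeparatedSpace ↥X := quasiSeparatedSpace_of_quasiSeparated f
  refine ⟨⟨inferInstance, inferInstance, Groth.L27.FLC.finite_components f hconn⟩, fun hY F hF ⟨n, hn0, hnP, hn⟩ q hq ζ => ?_,
    fun hX F hF ⟨n, hn0, hnP, hn⟩ q hq ζ => ?_⟩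
  · exact Groth.L27.FLC.killing_of_push f F q ζ fun ξ => hY _ (Groth.Agent.S0106.result f F hF)
      ⟨n, hn0, hnP, Groth.L27.FLC.killed_push f hn⟩ q hq ξ
  · haveI := Groth.L27.EtSite.preservesFiniteLimits_pull f
    exact Groth.L27.FLC.killing_of_cover f F q ζ
      (hX _ (Groth.L28.LocConst.isFiniteLocallyConstant_pull f F hF)
        ⟨n, hn0, hnP, Groth.L27.FLC.killed_pull f hn⟩ q hq _)

end Groth.Agent.S14382
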