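import Groth.Statements.S14385
import Groth.Agent.L01.EtaEtale
import Groth.Agent.L16.ProjSpace.StdSmooth
import Groth.Agent.S14379
import Groth.Agent.S14384
import Mathlib.RingTheory.TensorProduct.MvPolynomial
import Mathlib.RingTheory.Kaehler.Polynomial
import Mathlib.RingTheory.RingHom.StandardSmooth
import Mathlib.RingTheory.NoetherNormalization
import Groth.Agent.L22.AffineDim
import Mathlib.RingTheory.QuasiFinite.Basic
import Mathlib.RingTheory.Unramified.LocalStructure
import Mathlib.RingTheory.Filtration
import Mathlib.RingTheory.Flat.TorsionFree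
import Mathlib.RingTheory.MvPolynomial.Localization
import Mathlib.RingTheory.Ideal.KrullsHeightTheorem
import Mathlib.RingTheory.Flat.Stability
import Mathlib.RingTheory.Localization.Basic

set_option autoImplicit false
open scoped TensorProduct
open AlgebraicGeometry
universe u
open CAlg

namespace Groth.Agent.S14385

/-- A smooth algebra of relative dimension `d` over a field has dimension at most `d`. -/
private theorem dim_le_of_relDim (K S : Type u) [Field K] [CommRing S] [Algebra K S] (d : ℕ)
    (h : SmoothOfRelativeDimension d (Spec.map (CommRingCat.ofHom (algebraMap K S)))) :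
    ringKrullDim S ≤ d := by
  rw [HasRingHomProperty.Spec_iff (P := @SmoothOfRelativeDimension d), CommRingCat.hom_ofHom] at h
  obtain ⟨s, hs, ht⟩ := h
  refine (ringKrullDim_le_iff_height_le _).mpr fun m hm => ?_
  obtain ⟨t, hts, htm⟩ : ∃ t ∈ s, t ∉ m := by
    by_contra hne
    push_neg at hne
    exact hm.ne_top (eq_top_iff.mpr (hs ▸ Ideal.span_le.mpr hne))
  set T := Localization.Away t
  haveI : Algebra.IsStandardSmoothOfRelativeDimension d K T := by
    rw [← RingHom.isStandardSmoothOfRelativeDimension_algebraMap, IsScalarTower.algebraMap_eq K S T]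
    exact ht t hts
  obtain ⟨g, hg⟩ := Algebra.IsStandardSmoothOfRelativeDimension.exists_etale_mvPolynomial d K T
  letI := g.toRingHom.toAlgebra
  haveI : Algebra.Etale (MvPolynomial (Fin d) K) T := hg
  have hdim : ringKrullDim T ≤ d := by
    refine le_trans (Order.krullDim_le_of_strictMono
      (fun q => PrimeSpectrum.comap (algebraMap (MvPolynomial (Fin d) K) T) q) fun q q' h => ?_) (le_of_eq ?_)
    · refine lt_of_le_of_ne (Ideal.comap_mono h.le) fun he => h.ne (PrimeSpectrum.ext ?_)
      exact Algebra.QuasiFinite.eq_of_le_of_under_eq (R := MvPolynomial (Fin d) K) _ _ h.le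
        (congrArg PrimeSpectrum.asIdeal he)
    · show ringKrullDim (MvPolynomial (Fin d) K) = _
      rw [MvPolynomial.ringKrullDim_of_isNoetherianRing, ringKrullDim_eq_zero_of_field, zero_add]
      simp
  have hdisj : Disjoint (Submonoid.powers t : Set S) (m : Set S) :=
    (Ideal.disjoint_powers_iff_notMem_of_isPrime t).mpr htm
  haveI := IsLocalization.isPrime_of_isPrime_disjoint (Submonoid.powers t) T m hm hdisj
  rw [← IsLocalization.under_map_of_isPrime_disjoint (Submonoid.powers t) T hm hdisj,
    IsLocalization.height_under (Submonoid.powers t)]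
  exact (ringKrullDim_le_iff_height_le _).mp hdim ‹_›

/-- The closed fibre of a flat algebra of finite type over a DVR is no bigger than the generic
fibre. -/
private theorem closedFibre_le (V R : Type u) [CommRing V] [IsDomain V] [IsDiscreteValuationRing V]
    [CommRing R] [Algebra V R] [Module.Flat V R] [Algebra.FiniteType V R] (ϖ : V) (hϖ : Irreducible ϖ)
    (d : ℕ) (hK : ringKrullDim (FractionRing V ⊗[V] R) ≤ d) :
    ringKrullDim (IsLocalRing.ResidueField V ⊗[V] R) ≤ d := by
  set k := IsLocalRing.ResidueField V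
  set K := FractionRing V
  rcases subsingleton_or_nontrivial (k ⊗[V] R) with h | h
  · rw [ringKrullDim_eq_bot_of_subsingleton]; exact bot_le
  obtain ⟨e, g, hg, hgf⟩ := exists_finite_inj_algHom_of_fg k (k ⊗[V] R)
  have hdim : ringKrullDim (k ⊗[V] R) = e := by
    letI := g.toRingHom.toAlgebra
    haveI : Module.Finite (MvPolynomial (Fin e) k) (k ⊗[V] R) := hgf
    rw [Groth.L22.AffineDim.ringKrullDim_eq_of_isIntegral (R := MvPolynomial (Fin e) k) hg,
      MvPolynomial.ringKrullDim_of_isNoetherianRing, ringKrullDim_eq_zero_of_field, zero_add]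
    simp
  rw [hdim]
  have hsurj : Function.Surjective (fun r : R => (1 : k) ⊗ₜ[V] r) := fun z => by
    induction z using TensorProduct.induction_on with
    | zero => exact ⟨0, TensorProduct.tmul_zero _ _⟩
    | tmul a r =>
      obtain ⟨v, rfl⟩ := IsLocalRing.residue_surjective a
      refine ⟨v • r, ?_⟩
      dsimp only
      rw [TensorProduct.tmul_smul, TensorProduct.smul_tmul', Algebra.smul_def, mul_one]
      rfl
    | add a b ha hb =>
      obtain ⟨r, rfl⟩ := ha
      obtain ⟨s, rfl⟩ := hb
      exact ⟨r + s, TensorProduct.tmul_add _ _ _⟩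
  choose t ht using fun i => hsurj (g (MvPolynomial.X i))
  have hpoly : ∀ (F : Type u) [Field F] [Algebra V F] (P : MvPolynomial (Fin e) V),
      (MvPolynomial.aeval (fun i => (1 : F) ⊗ₜ[V] t i) : MvPolynomial (Fin e) F →ₐ[F] F ⊗[V] R)
        (MvPolynomial.map (algebraMap V F) P) = (1 : F) ⊗ₜ[V] MvPolynomial.aeval t P := fun F _ _ P => by
    rw [MvPolynomial.aeval_map_algebraMap]
    exact (MvPolynomial.comp_aeval_apply (f := t) (Algebra.TensorProduct.includeRight : R →ₐ[V] F ⊗[V] R) P).symm
  have hgk : g = MvPolynomial.aeval fun i => (1 : k) ⊗ₜ[V] t i :=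
    MvPolynomial.algHom_ext fun i => by rw [MvPolynomial.aeval_X]; exact (ht i).symm
  have hstep : ∀ P : MvPolynomial (Fin e) V, MvPolynomial.aeval t P = 0 →
      ∃ Q, MvPolynomial.C ϖ * Q = P ∧ MvPolynomial.aeval t Q = 0 := by
    intro P hP
    have h0 : MvPolynomial.map (algebraMap V k) P = 0 := hg (by
      rw [map_zero, hgk, hpoly, hP, TensorProduct.tmul_zero])
    have hdvd : MvPolynomial.C ϖ ∣ P := by
      rw [MvPolynomial.C_dvd_iff_dvd_coeff]
      intro i
      have := congrArg (MvPolynomial.coeff i) h0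
      rw [MvPolynomial.coeff_map, MvPolynomial.coeff_zero, IsLocalRing.ResidueField.algebraMap_eq,
        IsLocalRing.residue_eq_zero_iff, hϖ.maximalIdeal_eq, Ideal.mem_span_singleton] at this
      exact this
    obtain ⟨Q, rfl⟩ := hdvd
    refine ⟨Q, rfl, (Module.Flat.isSMulRegular_of_nonZeroDivisors (M := R)
      (mem_nonZeroDivisors_of_ne_zero hϖ.ne_zero)) ?_⟩
    dsimp only
    rw [smul_zero, Algebra.smul_def, ← MvPolynomial.aeval_C t ϖ, ← map_mul, hP]
  have hpow : ∀ (n : ℕ) (P : MvPolynomial (Fin e) V), MvPolynomial.aeval t P = 0 →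
      MvPolynomial.C (ϖ ^ n) ∣ P := by
    intro n
    induction n with
    | zero => intro P _; simp
    | succ n ih =>
      intro P hP
      obtain ⟨Q, rfl, hQ⟩ := hstep P hP
      rw [pow_succ', map_mul]
      exact mul_dvd_mul_left _ (ih Q hQ)
  have hinj : Function.Injective (MvPolynomial.aeval t : MvPolynomial (Fin e) V →ₐ[V] R) := by
    rw [injective_iff_map_eq_zero]
    intro P hP
    refine MvPolynomial.ext _ _ fun i => ?_
    rw [MvPolynomial.coeff_zero]
    have hn : Ideal.span {ϖ} ≠ (⊤ : Ideal V) := by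
      rw [Ne, Ideal.span_singleton_eq_top]; exact hϖ.not_isUnit
    have : P.coeff i ∈ ⨅ n : ℕ, Ideal.span {ϖ} ^ n := Ideal.mem_iInf.mpr fun n => by
      rw [Ideal.span_singleton_pow, Ideal.mem_span_singleton]
      exact (MvPolynomial.C_dvd_iff_dvd_coeff _ _).mp (hpow n P hP) i
    rwa [Ideal.iInf_pow_eq_bot_of_isDomain _ hn, Ideal.mem_bot] at this
  set S := K ⊗[V] R
  let φ : MvPolynomial (Fin e) K →ₐ[K] S := MvPolynomial.aeval fun i => (1 : K) ⊗ₜ[V] t i
  have hφ : Function.Injective φ := by
    rw [injective_iff_map_eq_zero]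
    intro G hG
    letI : Algebra (MvPolynomial (Fin e) V) (MvPolynomial (Fin e) K) := MvPolynomial.algebraMvPolynomial
    obtain ⟨⟨P, s⟩, hs⟩ := IsLocalization.surj ((nonZeroDivisors V).map (MvPolynomial.C (σ := Fin e))) G
    dsimp only at hs
    have h1 : φ (MvPolynomial.map (algebraMap V K) P) = 0 := by
      show φ (algebraMap (MvPolynomial (Fin e) V) (MvPolynomial (Fin e) K) P) = 0
      rw [← hs, map_mul, hG, zero_mul]
    rw [hpoly] at h1
    have h2 : MvPolynomial.aeval t P = 0 :=
      Algebra.TensorProduct.includeRight_injective (IsFractionRing.injective V K)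
        (h1.trans (map_zero (Algebra.TensorProduct.includeRight : R →ₐ[V] S)).symm)
    have h3 : P = 0 := hinj (h2.trans (map_zero _).symm)
    rw [h3, map_zero] at hs
    exact (IsLocalization.map_units (MvPolynomial (Fin e) K) s).mul_left_eq_zero.mp hs
  haveI : (⊥ : Ideal (MvPolynomial (Fin e) K)).IsPrime := Ideal.isPrime_bot
  obtain ⟨q, hq, hq'⟩ := Ideal.exists_minimalPrimes_comap_eq φ.toRingHom (I := (⊥ : Ideal S)) ⊥
    ⟨⟨Ideal.isPrime_bot, le_of_eq ((RingHom.injective_iff_ker_eq_bot _).mp hφ)⟩, fun J hJ _ => bot_le⟩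
  haveI := hq.1.1
  obtain ⟨d', -, -, -, hd', htr⟩ := Groth.L22.AffineDim.exists_normalization K (S ⧸ q)
  have hind : AlgebraicIndependent K (fun i => Ideal.Quotient.mk q ((1 : K) ⊗ₜ[V] t i)) := by
    rw [algebraicIndependent_iff]
    intro P hP
    have : φ P ∈ q := by
      rw [← Ideal.Quotient.eq_zero_iff_mem]
      rw [show MvPolynomial.aeval (fun i => Ideal.Quotient.mk q ((1 : K) ⊗ₜ[V] t i)) =
        (Ideal.Quotient.mkₐ K q).comp φ from MvPolynomial.algHom_ext fun i => by simp [φ]] at hP
      exact hP
    have h' : P ∈ q.comap φ.toRingHom := this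
    rwa [hq', Ideal.mem_bot] at h'
  have he := hind.lift_cardinalMk_le_trdeg
  rw [htr, Cardinal.mk_fin] at he
  simp only [Cardinal.lift_natCast] at he
  have hd : (d' : WithBot ℕ∞) ≤ d := by
    rw [← hd']; exact (ringKrullDim_quotient_le q).trans hK
  exact le_trans (by exact_mod_cast (show e ≤ d' by exact_mod_cast he)) hd

/-- Let V be a discrete valuation ring of characteristic zero with uniformizer ϖ, whose residue field k
is perfect of characteristic p > 0, with fraction field K; let R be a flat V-algebra of finite type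
such that the generic fibre Spec(K ⊗_V R) → Spec K is smooth of relative dimension d; and suppose
some d-tuple x' of elements of R defines a morphism f' from Spec R to affine d-space over V which is
η-étale, meaning that for some a ∈ R with (a) + (ϖ) = R the localisation R[1/(aϖ)] is étale over
V[T_1, …, T_d] via T_i ↦ x'_i (f' is étale on the generic fibre of an open neighbourhood of the
closed fibre). Then there is a d-tuple x in R whose morphism f is η-étale in the same sense and
finite on each fibre: k ⊗_V R is finite over k[T_1, …, T_d] and K ⊗_V R is finite over K[T_1, …,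
T_d] via T_i ↦ 1 ⊗ x_i. -/
theorem result (V : Type u) [CommRing V] [IsDomain V] [IsDiscreteValuationRing V] [CharZero V]
    (ϖ : V) (hϖ : Irreducible ϖ) (p : ℕ) [Fact p.Prime] [CharP (IsLocalRing.ResidueField V) p]
    [PerfectField (IsLocalRing.ResidueField V)]
    (R : Type u) [CommRing R] [Algebra V R] [Module.Flat V R] [Algebra.FiniteType V R] (d : ℕ)
    (hsm : SmoothOfRelativeDimension d
      (Spec.map (CommRingCat.ofHom (algebraMap (FractionRing V) (FractionRing V ⊗[V] R)))))
    (x' : Fin d → R) (hx' : (∃ a : R, Ideal.span {a} ⊔ Ideal.span {algebraMap V R ϖ} = ⊤ ∧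
        ((algebraMap R (Localization.Away (a * algebraMap V R ϖ))).comp
          (MvPolynomial.aeval x' : MvPolynomial (Fin d) V →ₐ[V] R).toRingHom).Etale)) :
    ∃ x : Fin d → R, (∃ a : R, Ideal.span {a} ⊔ Ideal.span {algebraMap V R ϖ} = ⊤ ∧
        ((algebraMap R (Localization.Away (a * algebraMap V R ϖ))).comp
          (MvPolynomial.aeval x : MvPolynomial (Fin d) V →ₐ[V] R).toRingHom).Etale) ∧
      (MvPolynomial.aeval (fun i => (1 : IsLocalRing.ResidueField V) ⊗ₜ[V] x i) :
          MvPolynomial (Fin d) (IsLocalRing.ResidueField V) →ₐ[IsLocalRing.ResidueField V]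
            IsLocalRing.ResidueField V ⊗[V] R).toRingHom.Finite ∧
      (MvPolynomial.aeval (fun i => (1 : FractionRing V) ⊗ₜ[V] x i) :
          MvPolynomial (Fin d) (FractionRing V) →ₐ[FractionRing V] FractionRing V ⊗[V] R).toRingHom.Finite := by
  have hp : ϖ ∣ (p : V) := by
    rw [← Ideal.mem_span_singleton, ← hϖ.maximalIdeal_eq, ← IsLocalRing.residue_eq_zero_iff, map_natCast]
    exact CharP.cast_eq_zero _ p
  have hp0 : p ≠ 0 := (Fact.out : p.Prime).ne_zero
  obtain ⟨a, ha, het⟩ := hx'
  -- the condition on the differentials, relative to `V`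
  have key : ∀ (z : Fin d → R) (n : ℕ),
      (letI := (MvPolynomial.aeval z : MvPolynomial (Fin d) V →ₐ[V] R).toRingHom.toAlgebra;
        Ideal.span {((p : R)) ^ n} • (⊤ : Submodule R (Ω[R⁄MvPolynomial (Fin d) V])) ≤
          Ideal.span {algebraMap V R ϖ * (p : R) ^ n} • (⊤ : Submodule R (Ω[R⁄MvPolynomial (Fin d) V]))) ↔
      Ideal.span {((p : R)) ^ n} • (⊤ : Submodule R (Ω[R⁄V])) ≤
        Ideal.span {algebraMap V R ϖ * (p : R) ^ n} • (⊤ : Submodule R (Ω[R⁄V])) ⊔
          Submodule.span R (Set.range fun i => KaehlerDifferential.D V R (z i)) := fun z n => by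
    letI := (MvPolynomial.aeval z : MvPolynomial (Fin d) V →ₐ[V] R).toRingHom.toAlgebra
    haveI : IsScalarTower V (MvPolynomial (Fin d) V) R :=
      IsScalarTower.of_algebraMap_eq fun v => ((MvPolynomial.aeval z).commutes v).symm
    set f := KaehlerDifferential.map V (MvPolynomial (Fin d) V) R R
    have hf : Function.Surjective f := KaehlerDifferential.map_surjective V _ R
    have hker : LinearMap.ker f = Submodule.span R (Set.range fun i => KaehlerDifferential.D V R (z i)) := by
      rw [LinearMap.exact_iff.mp (KaehlerDifferential.exact_mapBaseChange_map V _ R),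
        LinearMap.range_eq_map,
        ← ((KaehlerDifferential.mvPolynomialBasis V (Fin d)).baseChange R).span_eq,
        Submodule.map_span, ← Set.range_comp]
      congr 2
      funext i
      simp [KaehlerDifferential.mvPolynomialBasis_apply]
      exact congrArg _ (MvPolynomial.aeval_X z i)
    have hmap : ∀ J : Ideal R, J • (⊤ : Submodule R (Ω[R⁄MvPolynomial (Fin d) V])) =
        (J • (⊤ : Submodule R (Ω[R⁄V]))).map f := fun J => by
      rw [Submodule.map_smul'', Submodule.map_top, LinearMap.range_eq_top.mpr hf]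
    rw [hmap, hmap, Submodule.map_le_iff_le_comap, Submodule.comap_map_eq, hker]
  have hA : SmoothOfRelativeDimension d (Spec.map (CommRingCat.ofHom
      (algebraMap (FractionRing V) (FractionRing V ⊗[V] MvPolynomial (Fin d) V)))) := by
    rw [HasRingHomProperty.Spec_iff (P := @SmoothOfRelativeDimension d), CommRingCat.hom_ofHom]
    refine RingHom.locally_of RingHom.isStandardSmoothOfRelativeDimension_respectsIso
      (algebraMap (FractionRing V) (FractionRing V ⊗[V] MvPolynomial (Fin d) V)) ?_
    have h : (algebraMap (FractionRing V) (MvPolynomial (Fin d) (FractionRing V))).IsStandardSmoothOfRelativeDimension d := by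
      rw [RingHom.isStandardSmoothOfRelativeDimension_algebraMap]
      simpa using Groth.L16.isStandardSmoothOfRelativeDimension_mvPolynomial (FractionRing V) (Fin d)
    convert RingHom.isStandardSmoothOfRelativeDimension_respectsIso.1 _
      (MvPolynomial.algebraTensorAlgEquiv V (FractionRing V) (σ := Fin d)).symm.toRingEquiv h using 1
    exact RingHom.ext fun c : FractionRing V => ((MvPolynomial.algebraTensorAlgEquiv V (FractionRing V) (σ := Fin d)).symm.commutes c).symm
  obtain ⟨n, hn⟩ : ∃ n : ℕ, Ideal.span {((p : R)) ^ n} • (⊤ : Submodule R (Ω[R⁄V])) ≤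
      Ideal.span {algebraMap V R ϖ * (p : R) ^ n} • (⊤ : Submodule R (Ω[R⁄V])) ⊔
        Submodule.span R (Set.range fun i => KaehlerDifferential.D V R (x' i)) := by
    letI := (MvPolynomial.aeval x' : MvPolynomial (Fin d) V →ₐ[V] R).toRingHom.toAlgebra
    haveI : IsScalarTower V (MvPolynomial (Fin d) V) R :=
      IsScalarTower.of_algebraMap_eq fun v => ((MvPolynomial.aeval x').commutes v).symm
    obtain ⟨n, hn⟩ := Groth.L01.EtaEtale.exists_pow_of_etale ϖ p hp a ha het
    exact ⟨n, (key x' n).mp hn⟩
  obtain ⟨hs, hη⟩ : ringKrullDim (IsLocalRing.ResidueField V ⊗[V] R) ≤ d ∧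
      ringKrullDim (FractionRing V ⊗[V] R) ≤ d :=
    ⟨closedFibre_le V R ϖ hϖ d (dim_le_of_relDim _ _ d hsm), dim_le_of_relDim _ _ d hsm⟩
  obtain ⟨y, hy, hfk, hfK⟩ := Groth.Agent.S14379.result V R d hs hη x' (p ^ (n + 1))
    (Nat.one_le_pow _ _ (Fact.out : p.Prime).pos)
  refine ⟨fun i => x' i + y i, ?_, hfk, hfK⟩
  have h2 := Groth.Agent.S14384.result V ϖ hϖ p R d n x' hn y hy
  letI := (MvPolynomial.aeval (fun i => x' i + y i) : MvPolynomial (Fin d) V →ₐ[V] R).toRingHom.toAlgebra
  haveI : IsScalarTower V (MvPolynomial (Fin d) V) R :=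
    IsScalarTower.of_algebraMap_eq fun v => ((MvPolynomial.aeval _).commutes v).symm
  exact Groth.L01.EtaEtale.exists_etale_of_pow ϖ p hϖ hp0 d hA hsm n ((key _ n).mpr h2)

end Groth.Agent.S14385
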