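import Groth.Statements.S14386
import Mathlib.RingTheory.Kaehler.Basic
import Mathlib.RingTheory.Derivation.Basic
import Mathlib.Algebra.MvPolynomial.Derivation
import Mathlib.Algebra.MvPolynomial.Division
import Mathlib.RingTheory.QuasiFinite.Basic
import Mathlib.RingTheory.Filtration
import Mathlib.RingTheory.Etale.Basic
import Groth.Agent.L06.CplDer
import Mathlib.Tactic.LinearCombination

set_option autoImplicit false
universe u
open CAlg

namespace Groth.Agent.S14386

open MvPolynomial

/-- `algebraMap` to `B` of the coordinates generate the module of differentials. -/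
private theorem span_D_top {V B : Type*} [CommRing V] [CommRing B] [Algebra V B] (y : B)
    (hgen : ∀ (S : Subalgebra V B), y ∈ S → (∀ b ∈ S, ∀ c, b * c = 1 → c ∈ S) → S = ⊤) :
    Submodule.span B {KaehlerDifferential.D V B y} = ⊤ := by
  set M := Submodule.span B {KaehlerDifferential.D V B y}
  let S : Subalgebra V B :=
    { carrier := {b | KaehlerDifferential.D V B b ∈ M}
      mul_mem' := fun {a b} ha hb => by
        show KaehlerDifferential.D V B (a * b) ∈ M
        rw [Derivation.leibniz]; exact add_mem (M.smul_mem _ hb) (M.smul_mem _ ha)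
      add_mem' := fun {a b} ha hb => by
        show KaehlerDifferential.D V B (a + b) ∈ M
        rw [map_add]; exact add_mem ha hb
      algebraMap_mem' := fun v => by
        show KaehlerDifferential.D V B (algebraMap V B v) ∈ M
        simp }
  have hS : S = ⊤ := hgen S (Submodule.subset_span rfl) fun b hb c hbc => by
    show KaehlerDifferential.D V B c ∈ M
    rw [show KaehlerDifferential.D V B c = -(c ^ 2) • KaehlerDifferential.D V B b from ?_]
    · exact M.smul_mem _ hb
    · have h := congrArg (KaehlerDifferential.D V B) hbc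
      rw [Derivation.leibniz, Derivation.map_one_eq_zero] at h
      have h' := congrArg (fun t => c • t) h
      simp only [smul_add, smul_smul, smul_zero, mul_comm c b, hbc, one_smul] at h'
      rw [neg_smul, pow_two, eq_neg_iff_add_eq_zero]
      exact h'
  rw [← top_le_iff, ← KaehlerDifferential.span_range_derivation, Submodule.span_le]
  rintro _ ⟨b, rfl⟩
  exact (hS.symm ▸ Algebra.mem_top : b ∈ S)

/-- A divisor of a product of powers of two prime nonzerodivisors is a unit or is divisible by one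
of them. -/
private theorem dvd_or_dvd {B : Type*} [CommRing B] (x y : B) (hx : (Ideal.span {x}).IsPrime)
    (hy : (Ideal.span {y}).IsPrime) (hx0 : IsLeftRegular x) (hy0 : IsLeftRegular y) :
    ∀ (a b : ℕ) (g c : B), g * c = x ^ a * y ^ b → IsUnit g ∨ x ∣ g ∨ y ∣ g := by
  intro a
  induction a with
  | zero =>
    intro b
    induction b with
    | zero => exact fun g c h => Or.inl (isUnit_iff_exists_inv.mpr ⟨c, by simpa using h⟩)
    | succ b ih =>
      intro g c h
      rcases hy.mem_or_mem (show g * c ∈ Ideal.span {y} by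
        rw [h, pow_succ, Ideal.mem_span_singleton]; exact ⟨y ^ b, by ring⟩) with h' | h'
      · exact Or.inr (Or.inr (Ideal.mem_span_singleton.mp h'))
      · obtain ⟨c', rfl⟩ := Ideal.mem_span_singleton.mp h'
        exact ih g c' (hy0 (by dsimp only; linear_combination h))
  | succ a ih =>
    intro b g c h
    rcases hx.mem_or_mem (show g * c ∈ Ideal.span {x} by
      rw [h, pow_succ, Ideal.mem_span_singleton]; exact ⟨x ^ a * y ^ b, by ring⟩) with h' | h'
    · exact Or.inr (Or.inl (Ideal.mem_span_singleton.mp h'))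
    · obtain ⟨c', rfl⟩ := Ideal.mem_span_singleton.mp h'
      exact ih b g c' (hx0 (by dsimp only; linear_combination h))

/-- The structure of an open piece of the node. -/
private structure Branch (V : Type*) [CommRing V] (ϖ : V) (B : Type*) [CommRing B] [Algebra V B]
    (δ : Derivation ℤ B B) (x y : B) : Prop where
  hxy : x * y = algebraMap V B ϖ
  hV : ∀ v, δ (algebraMap V B v) = 0
  hprime : (Ideal.span {x}).IsPrime
  hy : y ∉ Ideal.span {x}
  hreg : IsLeftRegular x
  hP : (Ideal.span {x, y}).IsPrime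
  hdx : δ x ∈ Ideal.span {x}
  hdy : ∃ u : B, IsUnit u ∧ δ y = u * y
  hrange : ∀ b, δ b ∈ Ideal.span {x, y}
  hres : ∀ b, ∃ v : V, b - algebraMap V B v ∈ Ideal.span {x, y}
  hgen : ∀ (S : Subalgebra V B), x ∈ S → y ∈ S → (∀ b ∈ S, ∀ c, b * c = 1 → c ∈ S) → S = ⊤

private theorem Branch.kills {V : Type*} [CommRing V] {ϖ : V} {B : Type*} [CommRing B] [Algebra V B]
    {δ : Derivation ℤ B B} {x y : B} (h : Branch V ϖ B δ x y) (f : B) (hf : δ f ∈ Ideal.span {x}) :
    KaehlerDifferential.D V (B ⧸ Ideal.span {x}) (Ideal.Quotient.mk _ f) = 0 := by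
  set I := Ideal.span {x} with hI
  let δV : Derivation V B B := Derivation.mk'
    { toFun := δ
      map_add' := map_add δ
      map_smul' := fun v b => by
        rw [Algebra.smul_def, δ.leibniz, h.hV, smul_zero, add_zero, RingHom.id_apply, smul_eq_mul,
          Algebra.smul_def] }
    (fun a b => δ.leibniz a b)
  have hδV : ∀ b, δV b = δ b := fun b => rfl
  let E : Derivation V (B ⧸ I) (B ⧸ I) := Derivation.liftOfSurjective
    (f := Ideal.Quotient.mkₐ V I) (d := δV) Ideal.Quotient.mk_surjective (fun b hb => by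
      obtain ⟨c, rfl⟩ := Ideal.mem_span_singleton'.mp (Ideal.Quotient.eq_zero_iff_mem.mp hb)
      refine Ideal.Quotient.eq_zero_iff_mem.mpr ?_
      rw [hδV, δ.leibniz, smul_eq_mul, smul_eq_mul]
      exact add_mem (Ideal.mul_mem_left _ _ h.hdx) (Ideal.mul_mem_right _ _ (Ideal.mem_span_singleton_self x)))
  have hE : ∀ b, E (Ideal.Quotient.mk I b) = Ideal.Quotient.mk I (δ b) := fun b =>
    Derivation.liftOfSurjective_apply (f := Ideal.Quotient.mkₐ V I) _ _ b
  have hspan := span_D_top (V := V) (Ideal.Quotient.mk I y) fun S hS hinv => by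
    have := h.hgen (S.comap (Ideal.Quotient.mkₐ V I))
      (show Ideal.Quotient.mk I x ∈ S by
        rw [Ideal.Quotient.eq_zero_iff_mem.mpr (Ideal.mem_span_singleton_self x)]; exact zero_mem S)
      hS (fun b hb c hc => hinv _ hb (Ideal.Quotient.mk I c) (by
        show Ideal.Quotient.mk I b * Ideal.Quotient.mk I c = 1
        rw [← map_mul, hc, map_one]))
    refine eq_top_iff.mpr fun b _ => ?_
    obtain ⟨b, rfl⟩ := Ideal.Quotient.mk_surjective b
    exact (this.symm ▸ Algebra.mem_top : b ∈ S.comap (Ideal.Quotient.mkₐ V I))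
  obtain ⟨c, hc⟩ := Submodule.mem_span_singleton.mp
    (hspan.symm ▸ Submodule.mem_top : KaehlerDifferential.D V (B ⧸ I) (Ideal.Quotient.mk I f) ∈ _)
  have h0 := congrArg E.liftKaehlerDifferential hc
  rw [map_smul, Derivation.liftKaehlerDifferential_comp_D, Derivation.liftKaehlerDifferential_comp_D,
    hE, hE, Ideal.Quotient.eq_zero_iff_mem.mpr hf, smul_eq_mul] at h0
  haveI := h.hprime
  obtain ⟨u, hu, hy'⟩ := h.hdy
  rw [hy', map_mul] at h0
  have hy0 : Ideal.Quotient.mk I y ≠ 0 := fun he => h.hy (Ideal.Quotient.eq_zero_iff_mem.mp he)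
  rcases mul_eq_zero.mp h0 with h0 | h0
  · rw [← hc, h0, zero_smul]
  · exact absurd h0 (mul_ne_zero (hu.map _).ne_zero hy0)

private theorem Branch.const {V : Type*} [CommRing V] {ϖ : V} {B : Type*} [CommRing B] [Algebra V B]
    [IsNoetherianRing B]
    {δ : Derivation ℤ B B} {x y : B} (h : Branch V ϖ B δ x y)
    (hinv : ∀ n : ℕ, n ≠ 0 → ∃ v : V, ∃ w : V, (n : V) * v = 1 + ϖ * w) (f : B)
    (hf : δ f ∈ Ideal.span {x}) : ∃ v : V, f - algebraMap V B v ∈ Ideal.span {x} := by
  set I := Ideal.span {x} with hI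
  haveI := h.hprime
  set q := Ideal.Quotient.mk I with hq
  obtain ⟨u, hu, hy'⟩ := h.hdy
  obtain ⟨v, hv⟩ := h.hres f
  refine ⟨v, Ideal.Quotient.eq_zero_iff_mem.mp ?_⟩
  set a := f - algebraMap V B v with ha
  have hda : q (δ a) = 0 := Ideal.Quotient.eq_zero_iff_mem.mpr (by rw [ha, map_sub, h.hV, sub_zero]; exact hf)
  have hy0 : q y ≠ 0 := fun he => h.hy (Ideal.Quotient.eq_zero_iff_mem.mp he)
  have hPy : ∀ b ∈ Ideal.span {x, y}, ∃ c, q b = q y * q c := by
    intro b hb
    obtain ⟨c, d, rfl⟩ := Ideal.mem_span_pair.mp hb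
    refine ⟨d, ?_⟩
    rw [map_add, map_mul, map_mul, hq, Ideal.Quotient.eq_zero_iff_mem.mpr (Ideal.mem_span_singleton_self x),
      mul_zero, zero_add, mul_comm]
  have hϖ : q (algebraMap V B ϖ) = 0 := by
    rw [← h.hxy]; exact Ideal.Quotient.eq_zero_iff_mem.mpr (Ideal.mul_mem_right _ _ (Ideal.mem_span_singleton_self x))
  have key : ∀ n : ℕ, ∃ b, q a = q y ^ (n + 1) * q b := by
    intro n
    induction n with
    | zero => obtain ⟨c, hc⟩ := hPy a hv; exact ⟨c, by rw [hc, pow_one]⟩
    | succ n ih =>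
      obtain ⟨b, hb⟩ := ih
      have hb' : a - y ^ (n + 1) * b ∈ I := Ideal.Quotient.eq.mp (by rw [hb, map_mul, map_pow])
      obtain ⟨r, hr⟩ := Ideal.mem_span_singleton'.mp hb'
      have h1 : δ (a - y ^ (n + 1) * b) ∈ I := by
        rw [← hr, δ.leibniz, smul_eq_mul, smul_eq_mul]
        exact add_mem (Ideal.mul_mem_left _ _ h.hdx) (Ideal.mul_mem_right _ _ (Ideal.mem_span_singleton_self x))
      have h2 : q (δ (y ^ (n + 1) * b)) = 0 := by
        have h1' := Ideal.Quotient.eq_zero_iff_mem.mpr h1
        rw [map_sub, map_sub, ← hq, hda, zero_sub, neg_eq_zero] at h1'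
        exact h1'
      rw [δ.leibniz, Derivation.leibniz_pow, hy', map_add, smul_eq_mul, smul_eq_mul,
        Nat.add_sub_cancel, nsmul_eq_mul, smul_eq_mul] at h2
      simp only [map_mul, map_pow, map_natCast] at h2
      obtain ⟨e, he⟩ := hPy _ (h.hrange b)
      have h3 : q y ^ (n + 1) * (q y * q e + (n + 1 : ℕ) * (q u * q b)) = 0 := by
        rw [he] at h2; linear_combination h2
      have h4 := (mul_eq_zero.mp h3).resolve_left (pow_ne_zero _ hy0)
      obtain ⟨v₁, w, hvw⟩ := hinv (n + 1) n.succ_ne_zero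
      have h5 : ((n + 1 : ℕ) : B ⧸ I) * q (algebraMap V B v₁) = 1 := by
        rw [← map_natCast (q.comp (algebraMap V B)), RingHom.comp_apply, ← map_mul, ← map_mul, hvw,
          map_add, map_one, map_mul, map_add, map_one, map_mul, hϖ, zero_mul, add_zero]
      obtain ⟨u', hu'⟩ := hu.exists_left_inv
      have h6 : q u' * q u = 1 := by rw [← map_mul, hu', map_one]
      refine ⟨-(algebraMap V B v₁ * u' * e), ?_⟩
      rw [hb, map_neg, map_mul, map_mul]
      linear_combination (q y ^ (n + 1) * q (algebraMap V B v₁) * q u') * h4 -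
        q y ^ (n + 1) * q b * h5 - (q y ^ (n + 1) * q b * ((n + 1 : ℕ) * q (algebraMap V B v₁))) * h6
  have hne : Ideal.span {q y} ≠ ⊤ := by
    rw [Ne, Ideal.span_singleton_eq_top]
    intro hu2
    obtain ⟨c, hc⟩ := hu2.exists_left_inv
    obtain ⟨c, rfl⟩ := Ideal.Quotient.mk_surjective c
    rw [← map_mul, ← map_one q] at hc
    apply h.hP.ne_top
    rw [Ideal.eq_top_iff_one, ← sub_sub_cancel (c * y) 1]
    exact sub_mem (Ideal.mul_mem_left _ _ (Ideal.subset_span (by simp)))
      (Ideal.span_mono (by simp) (Ideal.Quotient.eq.mp hc))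
  have : q a ∈ ⨅ n : ℕ, Ideal.span {q y} ^ n := by
    rw [Ideal.mem_iInf]
    rintro (_ | n)
    · simp
    · obtain ⟨b, hb⟩ := key n
      rw [Ideal.span_singleton_pow, hb]
      exact Ideal.mul_mem_right _ _ (Ideal.mem_span_singleton_self _)
  rwa [Ideal.iInf_pow_eq_bot_of_isDomain _ hne, Ideal.mem_bot] at this

/-- The node. -/
private theorem node_facts {V : Type u} [CommRing V] [IsDomain V] [IsDiscreteValuationRing V] (ϖ : V)
    (hϖ : Irreducible ϖ) (Q : Type u) [CommRing Q] [Algebra V Q]
    (π : MvPolynomial (Fin 2) V →ₐ[V] Q) (hπ : Function.Surjective π)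
    (hker : RingHom.ker π = Ideal.span {(X 0 * X 1 - C ϖ : MvPolynomial (Fin 2) V)}) :
    (∃ δ : Derivation ℤ Q Q, δ (π (X 0)) = π (X 0) ∧ δ (π (X 1)) = -π (X 1) ∧
      (∀ v, δ (algebraMap V Q v) = 0) ∧ ∀ z, δ z ∈ Ideal.span {π (X 0), π (X 1)}) ∧
    ∀ i j : Fin 2, i ≠ j → (Ideal.span {π (X i)}).IsPrime ∧ π (X j) ∉ Ideal.span {π (X i)} ∧
      IsLeftRegular (π (X i)) ∧ (Ideal.span {π (X i), π (X j)}).IsPrime ∧
      ∀ z, ∃ v, z - algebraMap V Q v ∈ Ideal.span {π (X i), π (X j)} := by
  set r : MvPolynomial (Fin 2) V := X 0 * X 1 - C ϖ with hr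
  have hr0 : π r = 0 := RingHom.mem_ker.mp (hker ▸ Ideal.mem_span_singleton_self r)
  have hrϖ : π (X 0) * π (X 1) = algebraMap V Q ϖ := by
    rw [← map_mul, ← sub_eq_zero, ← π.commutes, ← map_sub]; exact hr0
  constructor
  · let d : Derivation V (MvPolynomial (Fin 2) V) (MvPolynomial (Fin 2) V) :=
      mkDerivation V ![X 0, -X 1]
    have hd : ∀ z, d z ∈ Ideal.span {(X 0 : MvPolynomial (Fin 2) V), X 1} := by
      intro z
      induction z using MvPolynomial.induction_on with
      | C a => simp [d]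
      | add p q hp hq => rw [map_add]; exact add_mem hp hq
      | mul_X p i hp =>
        rw [d.leibniz, smul_eq_mul, smul_eq_mul]
        refine add_mem (Ideal.mul_mem_left _ _ ?_) (Ideal.mul_mem_left _ _ hp)
        fin_cases i
        · simpa [d] using Ideal.subset_span (by simp)
        · simpa [d] using Ideal.subset_span (by simp)
    have hdr : d r = 0 := by simp [d, hr]; ring
    let E : Derivation V Q Q := Derivation.liftOfSurjective (f := π) (d := d) hπ (fun z hz => by
      obtain ⟨c, rfl⟩ := Ideal.mem_span_singleton'.mp (hker ▸ RingHom.mem_ker.mpr hz)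
      rw [d.leibniz, hdr, smul_zero, zero_add, smul_eq_mul, map_mul, hr0, zero_mul])
    have hE : ∀ z, E (π z) = π (d z) := fun z => Derivation.liftOfSurjective_apply (f := π) hπ _ z
    refine ⟨E.restrictScalars ℤ, ?_, ?_, fun v => E.map_algebraMap v, fun z => ?_⟩
    · show E (π (X 0)) = _
      rw [hE]; simp [d]
    · show E (π (X 1)) = _
      rw [hE]; simp [d]
    · obtain ⟨z, rfl⟩ := hπ z
      show E (π z) ∈ _
      rw [hE]
      have := Ideal.mem_map_of_mem π (hd z)
      rwa [Ideal.map_span, Set.image_pair] at this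
  intro i j hij
  have hprod : π (X i) * π (X j) = algebraMap V Q ϖ := by
    rcases Fin.exists_fin_two.mp ⟨i, rfl⟩ with rfl | rfl <;>
      rcases Fin.exists_fin_two.mp ⟨j, rfl⟩ with rfl | rfl
    · exact absurd rfl hij
    · exact hrϖ
    · rw [mul_comm]; exact hrϖ
    · exact absurd rfl hij
  set k := V ⧸ Ideal.span {ϖ}
  haveI hmax : (Ideal.span {ϖ}).IsMaximal := PrincipalIdealRing.isMaximal_of_irreducible hϖ
  let ev : MvPolynomial (Fin 2) V →ₐ[V] Polynomial k :=
    aeval (Function.update (fun _ => (Polynomial.X : Polynomial k)) i 0)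
  have hevi : ev (X i) = 0 := by simp [ev]
  have hevj : ev (X j) = Polynomial.X := by simp [ev, Function.update_of_ne (Ne.symm hij)]
  have hCϖ : algebraMap V (Polynomial k) ϖ = 0 := by
    rw [IsScalarTower.algebraMap_apply V k (Polynomial k), Ideal.Quotient.algebraMap_eq,
      Ideal.Quotient.eq_zero_iff_mem.mpr (Ideal.mem_span_singleton_self ϖ), map_zero]
  have hle : RingHom.ker π ≤ RingHom.ker ev := by
    rw [hker, Ideal.span_le, Set.singleton_subset_iff, SetLike.mem_coe, RingHom.mem_ker, hr,
      map_sub, map_mul, algHom_C, hCϖ, sub_zero]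
    rcases Fin.exists_fin_two.mp ⟨i, rfl⟩ with rfl | rfl
    · rw [hevi, zero_mul]
    · rw [hevi, mul_zero]
  let ψ : Q →ₐ[V] Polynomial k := AlgHom.liftOfSurjective π hπ ev hle
  have hψ : ∀ z, ψ (π z) = ev z := fun z => AlgHom.liftOfSurjective_apply π hπ ev hle z
  -- every element is congruent to a polynomial in the other variable
  have hrep : ∀ z, ∃ p : Polynomial V, z - Polynomial.aeval (π (X j)) p ∈ Ideal.span {π (X i)} := by
    intro z
    obtain ⟨z, rfl⟩ := hπ z
    induction z using MvPolynomial.induction_on with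
    | C a => exact ⟨Polynomial.C a, by simp [algHom_C]⟩
    | add p q hp hq =>
      obtain ⟨a, ha⟩ := hp
      obtain ⟨b, hb⟩ := hq
      exact ⟨a + b, by simpa [map_add, add_sub_add_comm] using add_mem ha hb⟩
    | mul_X p l hp =>
      obtain ⟨a, ha⟩ := hp
      by_cases hl : l = i
      · subst hl
        exact ⟨0, by simpa using Ideal.mul_mem_left _ (π p) (Ideal.mem_span_singleton_self (π (X l)))⟩
      · obtain rfl : l = j := by omega
        exact ⟨a * Polynomial.X, by simpa [sub_mul] using Ideal.mul_mem_right (π (X l)) _ ha⟩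
  have hkerψ : RingHom.ker ψ = Ideal.span {π (X i)} := by
    refine le_antisymm (fun z hz => ?_) ((Ideal.span_singleton_le_iff_mem _).mpr (by simp [RingHom.mem_ker, hψ, hevi]))
    obtain ⟨p, hp⟩ := hrep z
    obtain ⟨c, hc⟩ := Ideal.mem_span_singleton'.mp hp
    have hz0 : ψ z = 0 := hz
    have hp0 : p.map (Ideal.Quotient.mk (Ideal.span {ϖ})) = 0 := by
      have h := congrArg ψ hc
      rw [map_mul, hψ, hevi, mul_zero, map_sub, hz0, zero_sub, ← Polynomial.aeval_algHom_apply,
        hψ, hevj, eq_comm, neg_eq_zero] at h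
      rw [← h, ← Polynomial.aeval_map_algebraMap k, Polynomial.aeval_X_left_apply]; rfl
    rw [← sub_add_cancel z (Polynomial.aeval (π (X j)) p)]
    refine add_mem hp ?_
    rw [Polynomial.aeval_eq_sum_range]
    refine Ideal.sum_mem _ fun n _ => ?_
    have hn := congrArg (fun q => Polynomial.coeff q n) hp0
    simp only [Polynomial.coeff_map, Polynomial.coeff_zero, Ideal.Quotient.eq_zero_iff_mem] at hn
    obtain ⟨c', hc'⟩ := Ideal.mem_span_singleton'.mp hn
    rw [← hc', Algebra.smul_def, map_mul, ← hprod]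
    exact Ideal.mul_mem_right _ _ (Ideal.mul_mem_left _ _ (Ideal.mul_mem_right _ _ (Ideal.mem_span_singleton_self _)))
  have hres : ∀ z, ∃ v, z - algebraMap V Q v ∈ Ideal.span {π (X i), π (X j)} := by
    intro z
    obtain ⟨p, hp⟩ := hrep z
    refine ⟨p.coeff 0, ?_⟩
    rw [← sub_add_sub_cancel z (Polynomial.aeval (π (X j)) p)]
    refine add_mem (Ideal.span_mono (by simp) hp) ?_
    have := congrArg (Polynomial.aeval (π (X j))) (Polynomial.X_mul_divX_add p)
    rw [map_add, map_mul, Polynomial.aeval_X, Polynomial.aeval_C] at this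
    rw [← this, add_sub_cancel_right]
    exact Ideal.mul_mem_right _ _ (Ideal.subset_span (by simp))
  refine ⟨hkerψ ▸ RingHom.ker_isPrime ψ, ?_, ?_, ?_, hres⟩
  · rw [← hkerψ, RingHom.mem_ker, hψ, hevj]; exact Polynomial.X_ne_zero
  · intro a b hab
    obtain ⟨a, rfl⟩ := hπ a
    obtain ⟨b, rfl⟩ := hπ b
    dsimp only at hab
    rw [← sub_eq_zero, ← mul_sub, ← map_sub, ← map_mul, ← RingHom.mem_ker, hker,
      Ideal.mem_span_singleton'] at hab
    obtain ⟨c, hc⟩ := hab
    have hXp : Prime (X i : MvPolynomial (Fin 2) V) := MvPolynomial.X_prime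
    have hdiv : (X i : MvPolynomial (Fin 2) V) ∣ c := by
      refine (hXp.dvd_or_dvd (⟨_, hc⟩ : (X i : MvPolynomial (Fin 2) V) ∣ c * r)).resolve_right ?_
      intro hd
      have hd' : (X i : MvPolynomial (Fin 2) V) ∣ C ϖ := by
        have hX : (X i : MvPolynomial (Fin 2) V) ∣ X 0 * X 1 := by
          rcases Fin.exists_fin_two.mp ⟨i, rfl⟩ with rfl | rfl
          · exact dvd_mul_right _ _
          · exact dvd_mul_left _ _
        simpa [hr] using dvd_sub hX hd
      rw [MvPolynomial.X_dvd_iff_modMonomial_eq_zero] at hd'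
      have := congrArg (coeff 0) hd'
      rw [coeff_modMonomial_of_not_le _ (by simp), coeff_C, if_pos rfl, coeff_zero] at this
      exact hϖ.ne_zero this
    obtain ⟨c', rfl⟩ := hdiv
    have : a - b = c' * r := mul_left_cancel₀ (X_ne_zero i) (by rw [← hc]; ring)
    rw [← sub_eq_zero, ← map_sub, this, map_mul, hr0, mul_zero]
  · let ψ₀ : Q →ₐ[V] k :=
      ((Polynomial.aeval (0 : k)).restrictScalars V).comp ψ
    have hk0 : RingHom.ker ψ₀ = Ideal.span {π (X i), π (X j)} := by
      refine le_antisymm (fun z hz => ?_) (Ideal.span_le.mpr ?_)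
      · obtain ⟨v, hv⟩ := hres z
        have hle' : Ideal.span {π (X i), π (X j)} ≤ RingHom.ker ψ₀ := Ideal.span_le.mpr (by
          rintro _ (rfl | rfl) <;> simp [ψ₀, hψ, hevi, hevj])
        have h0 : ψ₀ (algebraMap V Q v) = 0 := by
          have := hle' hv
          rw [RingHom.mem_ker, map_sub, RingHom.mem_ker.mp hz, zero_sub, neg_eq_zero] at this
          exact this
        rw [AlgHom.commutes, Ideal.Quotient.algebraMap_eq, Ideal.Quotient.eq_zero_iff_mem] at h0
        obtain ⟨c, rfl⟩ := Ideal.mem_span_singleton'.mp h0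
        rw [← sub_add_cancel z (algebraMap V Q (c * ϖ))]
        refine add_mem hv ?_
        rw [map_mul, ← hprod]
        exact Ideal.mul_mem_left _ _ (Ideal.mul_mem_right _ _ (Ideal.subset_span (by simp)))
      · rintro _ (rfl | rfl) <;> simp [ψ₀, hψ, hevi, hevj]
    exact hk0 ▸ RingHom.ker_isPrime ψ₀

private theorem branch {V : Type u} [CommRing V] (ϖ : V) {Q B : Type u} [CommRing Q] [Algebra V Q]
    [CommRing B] [Algebra V B] [Algebra Q B] [IsScalarTower V Q B] (h : Q) [IsLocalization.Away h B]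
    (δ : Derivation ℤ Q Q) (δB : Derivation ℤ B B)
    (hδB : ∀ t, δB (algebraMap Q B t) = algebraMap Q B (δ t))
    (hV : ∀ v, δ (algebraMap V Q v) = 0) (x y : Q) (hxy : x * y = algebraMap V Q ϖ)
    (hprime : (Ideal.span {x}).IsPrime) (hy : y ∉ Ideal.span {x}) (hreg : IsLeftRegular x)
    (hP : (Ideal.span {x, y}).IsPrime) (hh : h ∉ Ideal.span {x, y})
    (hres : ∀ z, ∃ v, z - algebraMap V Q v ∈ Ideal.span {x, y})
    (hloc : ∀ v : V, IsUnit v ∨ ϖ ∣ v)
    (hdx : δ x ∈ Ideal.span {x}) (hdy : ∃ u : Q, IsUnit u ∧ δ y = u * y)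
    (hrange : ∀ z, δ z ∈ Ideal.span {x, y})
    (hgen : Algebra.adjoin V {x, y} = ⊤) :
    Branch V ϖ B δB (algebraMap Q B x) (algebraMap Q B y) := by
  set M := Submonoid.powers h
  set a := algebraMap Q B with ha
  have hV' : ∀ v, δB (algebraMap V B v) = 0 := fun v => by
    rw [IsScalarTower.algebraMap_apply V Q B, hδB, hV, map_zero]
  have hdisj : Disjoint (M : Set Q) (Ideal.span {x, y} : Ideal Q) := by
    rw [Set.disjoint_left]
    rintro _ ⟨n, rfl⟩ hm
    exact hh (hP.mem_of_pow_mem n hm)
  have hdisj' : Disjoint (M : Set Q) (Ideal.span {x} : Ideal Q) :=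
    hdisj.mono_right (Ideal.span_mono (by simp))
  have hsx : Ideal.span {a x} = (Ideal.span {x}).map a := by rw [Ideal.map_span, Set.image_singleton]
  have hsP : Ideal.span {a x, a y} = (Ideal.span {x, y}).map a := by rw [Ideal.map_span, Set.image_pair]
  refine ⟨by rw [← map_mul, hxy, ← IsScalarTower.algebraMap_apply], hV', ?_, ?_, ?_, ?_, ?_, ?_, ?_, ?_, ?_⟩
  · rw [hsx]; exact IsLocalization.isPrime_of_isPrime_disjoint M B _ hprime hdisj'
  · rw [hsx, ← Ideal.mem_comap]
    intro he
    exact hy ((IsLocalization.under_map_of_isPrime_disjoint M B hprime hdisj').le he)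
  · intro b c hbc
    obtain ⟨⟨b', m⟩, hb⟩ := IsLocalization.surj M b
    obtain ⟨⟨c', n⟩, hc⟩ := IsLocalization.surj M c
    dsimp only at hbc hb hc
    have he : a x * a (b' * n) = a x * a (c' * m) := by
      rw [map_mul, map_mul]
      linear_combination (a (m : Q) * a (n : Q)) * hbc - a x * a (n : Q) * hb + a x * a (m : Q) * hc
    rw [← map_mul, ← map_mul, IsLocalization.eq_iff_exists M B] at he
    obtain ⟨l, hl⟩ := he
    have : (l : Q) * (b' * n) = l * (c' * m) := hreg (by dsimp only; linear_combination hl)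
    have h2 := congrArg a this
    simp only [map_mul, ← hb, ← hc] at h2
    exact ((IsLocalization.map_units B l).mul ((IsLocalization.map_units B m).mul
      (IsLocalization.map_units B n))).mul_left_cancel (by simp only [← ha] at *; linear_combination h2 + (a (l : Q) * a (n : Q)) * hb - (a (l : Q) * a (m : Q)) * hc)
  · rw [hsP]; exact IsLocalization.isPrime_of_isPrime_disjoint M B _ hP hdisj
  · rw [hδB, hsx]; exact Ideal.mem_map_of_mem a hdx
  · obtain ⟨u, hu, hu'⟩ := hdy
    exact ⟨a u, hu.map a, by rw [hδB, hu', map_mul]⟩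
  · intro b
    obtain ⟨⟨b', m⟩, hb⟩ := IsLocalization.surj M b
    have he := congrArg δB hb
    rw [δB.leibniz, hδB, hδB, smul_eq_mul, smul_eq_mul] at he
    rw [hsP, ← Ideal.mul_unit_mem_iff_mem _ (IsLocalization.map_units B m), mul_comm,
      eq_sub_of_add_eq' he]
    exact sub_mem (Ideal.mem_map_of_mem a (hrange _)) (Ideal.mul_mem_left _ _ (Ideal.mem_map_of_mem a (hrange _)))
  · intro b
    obtain ⟨⟨b', m⟩, hb⟩ := IsLocalization.surj M b
    obtain ⟨v₁, h1⟩ := hres b'
    obtain ⟨v₂, h2⟩ := hres (m : Q)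
    rcases hloc v₂ with hv2 | ⟨w, rfl⟩
    · obtain ⟨v', hv'⟩ := hv2.exists_left_inv
      refine ⟨v' * v₁, ?_⟩
      have h1' := Ideal.mem_map_of_mem a h1
      have h2' := Ideal.mem_map_of_mem a h2
      rw [map_sub, ← IsScalarTower.algebraMap_apply] at h1' h2'
      have hv'' : algebraMap V B v' * algebraMap V B v₂ = 1 := by rw [← map_mul, hv', map_one]
      rw [hsP, show b - algebraMap V B (v' * v₁) = algebraMap V B v' *
        ((a b' - algebraMap V B v₁) - b * (a m - algebraMap V B v₂)) by
          rw [map_mul]; linear_combination (algebraMap V B v') * hb - b * hv'']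
      exact Ideal.mul_mem_left _ _ (sub_mem h1' (Ideal.mul_mem_left _ _ h2'))
    · exfalso
      refine Set.disjoint_left.mp hdisj m.2 ?_
      rw [← sub_add_cancel (m : Q) (algebraMap V Q (ϖ * w))]
      refine add_mem h2 ?_
      rw [map_mul, ← hxy]
      exact Ideal.mul_mem_right _ _ (Ideal.mul_mem_right _ _ (Ideal.subset_span (by simp)))
  · intro S hxS hyS hinv
    refine eq_top_iff.mpr fun b _ => ?_
    have hle : (⊤ : Subalgebra V Q) ≤ S.comap (IsScalarTower.toAlgHom V Q B) := by
      rw [← hgen, Algebra.adjoin_le_iff]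
      rintro _ (rfl | rfl)
      · exact hxS
      · exact hyS
    obtain ⟨⟨b', m⟩, hb⟩ := IsLocalization.surj M b
    obtain ⟨c, hc⟩ := (IsLocalization.map_units B m).exists_right_inv
    have hcS : c ∈ S := hinv _ (hle (x := (m : Q)) trivial) c hc
    have : b = a b' * c := by rw [← hb, mul_assoc, hc, mul_one]
    rw [this]
    exact mul_mem (hle (x := b') trivial) hcS

private theorem exists_pow_dvd {V B : Type u} [CommRing V] [CommRing B] [Algebra V B] (r : B)
    (B' : Type u) [CommRing B'] [Algebra V B'] [Algebra B B'] [IsScalarTower V B B']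
    [IsLocalization.Away r B'] (δB : Derivation ℤ B B) (hδV : ∀ v, δB (algebraMap V B v) = 0)
    (δ' : Derivation ℤ B' B') (hδ' : ∀ t, δ' (algebraMap B B' t) = algebraMap B B' (δB t))
    (f x y : B) (hxy : x * y = r) (hdx' : δB x = x)
    (hf : ((algebraMap B B').comp (Polynomial.aeval f : Polynomial V →ₐ[V] B).toRingHom).Etale) :
    ∃ (c : B) (N : ℕ), δB f * c = r ^ N := by
  have hV' : ∀ v, δ' (algebraMap V B' v) = 0 := fun v => by
    rw [IsScalarTower.algebraMap_apply V B B', hδ', hδV, map_zero]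
  let D' : Derivation V B' B' := Derivation.mk'
    { toFun := δ'
      map_add' := map_add δ'
      map_smul' := fun v b => by
        rw [Algebra.smul_def, δ'.leibniz, hV', smul_zero, add_zero, RingHom.id_apply, smul_eq_mul,
          Algebra.smul_def] }
    (fun a b => δ'.leibniz a b)
  let φ : Polynomial V →ₐ[V] B' := (IsScalarTower.toAlgHom V B B').comp (Polynomial.aeval f)
  letI : Algebra (Polynomial V) B' := φ.toRingHom.toAlgebra
  haveI : Algebra.Etale (Polynomial V) B' := hf
  haveI : IsScalarTower V (Polynomial V) B' := IsScalarTower.of_algebraMap_eq fun v => (φ.commutes v).symm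
  have hmem : KaehlerDifferential.D V B' (algebraMap B B' x) ∈
      Submodule.span B' {KaehlerDifferential.D V B' (algebraMap B B' f)} := by
    obtain ⟨t, ht⟩ : KaehlerDifferential.D V B' (algebraMap B B' x) ∈
        LinearMap.range (KaehlerDifferential.mapBaseChange V (Polynomial V) B') :=
      ((KaehlerDifferential.exact_mapBaseChange_map V (Polynomial V) B' _).mp
        (Subsingleton.elim _ _))
    rw [← ht]
    clear ht
    induction t using TensorProduct.induction_on with
    | zero => simp
    | add a b ha hb => rw [map_add]; exact add_mem ha hb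
    | tmul b w =>
      rw [KaehlerDifferential.mapBaseChange_tmul]
      refine Submodule.smul_mem _ _ ?_
      have hw : w ∈ Submodule.span (Polynomial V) (Set.range (KaehlerDifferential.D V (Polynomial V))) := by
        rw [KaehlerDifferential.span_range_derivation]; trivial
      induction hw using Submodule.span_induction with
      | zero => simp
      | add a b _ _ ha hb => rw [map_add]; exact add_mem ha hb
      | smul c a _ ha =>
        rw [map_smul, ← algebraMap_smul B' c]
        exact Submodule.smul_mem _ _ ha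
      | mem w hw =>
        obtain ⟨p, rfl⟩ := hw
        rw [KaehlerDifferential.map_D, show algebraMap (Polynomial V) B' p =
          Polynomial.aeval (algebraMap B B' f) p from (Polynomial.aeval_algHom_apply (IsScalarTower.toAlgHom V B B') f p).symm]
        rw [Polynomial.aeval_eq_sum_range, map_sum]
        refine Submodule.sum_mem _ fun n _ => ?_
        rw [Derivation.map_smul, ← algebraMap_smul B' (p.coeff n), Derivation.leibniz_pow, ← Nat.cast_smul_eq_nsmul B']
        exact Submodule.smul_mem _ _ (Submodule.smul_mem _ _ (Submodule.smul_mem _ _ (Submodule.mem_span_singleton_self _)))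
  obtain ⟨c, hc⟩ := Submodule.mem_span_singleton.mp hmem
  have h0 := congrArg D'.liftKaehlerDifferential hc
  rw [map_smul, Derivation.liftKaehlerDifferential_comp_D, Derivation.liftKaehlerDifferential_comp_D] at h0
  have hu : IsUnit (algebraMap B B' x) := isUnit_of_mul_isUnit_left
    (y := algebraMap B B' y) (by rw [← map_mul, hxy]; exact IsLocalization.Away.algebraMap_isUnit r)
  have hu' : IsUnit (algebraMap B B' (δB f)) := by
    refine isUnit_of_mul_isUnit_right (x := c) ?_
    
    have h1 : c * δ' (algebraMap B B' f) = δ' (algebraMap B B' x) := h0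
    rw [hδ', hδ', hdx'] at h1
    rw [h1]; exact hu
  obtain ⟨w, hw⟩ := hu'.exists_right_inv
  obtain ⟨⟨c', m⟩, hm⟩ := IsLocalization.surj (Submonoid.powers r) w
  have he : algebraMap B B' (δB f * c') = algebraMap B B' m := by
    rw [map_mul, ← hm, ← mul_assoc, hw, one_mul]
  obtain ⟨l, hl⟩ := (IsLocalization.eq_iff_exists (Submonoid.powers r) B').mp he
  obtain ⟨i, hi⟩ := l.2
  obtain ⟨j, hj⟩ := m.2
  exact ⟨l * c', i + j, by rw [← mul_assoc, mul_comm (δB f), mul_assoc, hl, ← hi, ← hj, ← pow_add]⟩

private theorem main {V : Type u} [CommRing V] [IsDomain V] [IsDiscreteValuationRing V] (ϖ : V)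
    (hϖ : Irreducible ϖ) (Q : Type u) [CommRing Q] [IsNoetherianRing Q] [Algebra V Q]
    (π : MvPolynomial (Fin 2) V →ₐ[V] Q) (hπs : Function.Surjective π)
    (hker : RingHom.ker π = Ideal.span {(X 0 * X 1 - C ϖ : MvPolynomial (Fin 2) V)})
    (h : Q) (hh : h ∉ Ideal.span {π (X 0), π (X 1)})
    (B : Type u) [CommRing B] [Algebra V B] [Algebra Q B] [IsScalarTower V Q B] [IsLocalization.Away h B]
    (f : B) (hf : ((algebraMap B (Localization.Away (algebraMap V B ϖ))).comp
          (Polynomial.aeval f : Polynomial V →ₐ[V] B).toRingHom).Etale) :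
    (KaehlerDifferential.D V (B ⧸ Ideal.span {algebraMap Q B (π (X 0))}) (Ideal.Quotient.mk _ f) = 0 ∨
     KaehlerDifferential.D V (B ⧸ Ideal.span {algebraMap Q B (π (X 1))}) (Ideal.Quotient.mk _ f) = 0) ∧
    (CharZero (IsLocalRing.ResidueField V) →
      ¬ (Polynomial.aeval f : Polynomial V →ₐ[V] B).toRingHom.QuasiFinite) := by
  obtain ⟨⟨δ, hδx, hδy, hδV, hδr⟩, hn⟩ := node_facts ϖ hϖ Q π hπs hker
  obtain ⟨hx1, hx2, hx3, hx4, hx5⟩ := hn 0 1 (by decide)
  obtain ⟨hy1, hy2, hy3, hy4, hy5⟩ := hn 1 0 (by decide)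
  obtain ⟨δB, hδB⟩ := Groth.L06.CplDer.exists_localization_der (Submonoid.powers h) B δ
  have hloc : ∀ v : V, IsUnit v ∨ ϖ ∣ v := fun v => by
    by_cases hv : IsUnit v
    · exact Or.inl hv
    · exact Or.inr (Ideal.mem_span_singleton.mp (hϖ.maximalIdeal_eq ▸ (IsLocalRing.mem_maximalIdeal v).mpr hv))
  have hprod : π (MvPolynomial.X 0) * π (MvPolynomial.X 1) = algebraMap V _ ϖ := by
    rw [← map_mul, ← π.commutes, ← sub_eq_zero, ← map_sub]
    exact RingHom.mem_ker.mp (hker ▸ Ideal.mem_span_singleton_self _)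
  have hgen : Algebra.adjoin V {π (MvPolynomial.X 0), π (MvPolynomial.X 1)} = ⊤ := by
    rw [eq_top_iff]
    rintro z -
    obtain ⟨z, rfl⟩ := hπs z
    induction z using MvPolynomial.induction_on with
    | C a => rw [← MvPolynomial.algebraMap_eq, π.commutes]; exact Subalgebra.algebraMap_mem _ a
    | add p q hp hq => rw [map_add]; exact add_mem hp hq
    | mul_X p i hp =>
      rw [map_mul]
      refine mul_mem hp (Algebra.subset_adjoin ?_)
      fin_cases i
      · exact Or.inl rfl
      · exact Or.inr rfl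
  have bx := branch ϖ h δ δB hδB hδV _ _ hprod hx1 hx2 hx3 hx4 hh hx5 hloc
    (by rw [hδx]; exact Ideal.mem_span_singleton_self _) ⟨-1, isUnit_one.neg, by rw [hδy, neg_one_mul]⟩
    hδr hgen
  have bY := branch ϖ h δ δB hδB hδV _ _ (by rw [mul_comm]; exact hprod) hy1 hy2 hy3 hy4
    (by rw [Set.pair_comm]; exact hh) hy5 hloc
    (by rw [hδy]; exact neg_mem (Ideal.mem_span_singleton_self _)) ⟨1, isUnit_one, by rw [hδx, one_mul]⟩
    (by intro z; rw [Set.pair_comm]; exact hδr z) (by rw [Set.pair_comm]; exact hgen)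
  set x := algebraMap Q B (π (MvPolynomial.X 0)) with hx
  set y := algebraMap Q B (π (MvPolynomial.X 1)) with hy
  have hδfP : δB f ∈ Ideal.span {x, y} := bx.hrange f
  have hdvd : x ∣ δB f ∨ y ∣ δB f := by
    obtain ⟨δ', hδ'⟩ := Groth.L06.CplDer.exists_localization_der (Submonoid.powers (algebraMap V B ϖ))
      (Localization.Away (algebraMap V B ϖ)) δB
    obtain ⟨c, N, hc⟩ := exists_pow_dvd (algebraMap V B ϖ) (Localization.Away (algebraMap V B ϖ)) δB
      bx.hV δ' hδ' f x y bx.hxy (by rw [hx, hδB, hδx]) hf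
    rcases dvd_or_dvd x y bx.hprime bY.hprime bx.hreg bY.hreg N N (δB f) c (by
        rw [← mul_pow, bx.hxy]; exact hc) with h' | h' | h'
    · exact absurd (Ideal.eq_top_of_isUnit_mem _ hδfP h') bx.hP.ne_top
    · exact Or.inl h'
    · exact Or.inr h'
  refine ⟨hdvd.imp (fun h' => bx.kills f (Ideal.mem_span_singleton.mpr h'))
    (fun h' => bY.kills f (Ideal.mem_span_singleton.mpr h')), fun hchar hqf => ?_⟩
  haveI : IsNoetherianRing B := IsLocalization.isNoetherianRing (Submonoid.powers h) B inferInstance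
  have hinv : ∀ n : ℕ, n ≠ 0 → ∃ v : V, ∃ w : V, (n : V) * v = 1 + ϖ * w := fun n hn => by
    have hu : IsUnit (n : V) := by
      rw [← IsLocalRing.residue_ne_zero_iff_isUnit, map_natCast]
      exact_mod_cast hn
    obtain ⟨v, hv⟩ := hu.exists_right_inv
    exact ⟨v, 0, by rw [hv, mul_zero, add_zero]⟩
  have key : ∀ x y : B, Branch V ϖ B δB x y → δB f ∈ Ideal.span {x} → False := by
    intro x y hb hdf
    obtain ⟨v, hv⟩ := hb.const hinv f hdf
    letI : Algebra (Polynomial V) B := (Polynomial.aeval f).toRingHom.toAlgebra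
    haveI : Algebra.QuasiFinite (Polynomial V) B := hqf
    have hle : Ideal.span {x} ≤ Ideal.span {x, y} := Ideal.span_mono (by simp)
    have hp : ∀ p : Polynomial V, Polynomial.aeval f p - algebraMap V B (p.eval v) ∈ Ideal.span {x} := by
      intro p
      rw [← Ideal.Quotient.eq, ← Polynomial.coe_aeval_eq_eval, ← Polynomial.aeval_algebraMap_apply,
        ← Ideal.Quotient.mkₐ_eq_mk V, ← Polynomial.aeval_algHom_apply, ← Polynomial.aeval_algHom_apply]
      congr 2
      exact Ideal.Quotient.eq.mpr hv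
    haveI := hb.hprime
    haveI := hb.hP
    have heq := Algebra.QuasiFinite.eq_of_le_of_under_eq (R := Polynomial V) (Ideal.span {x}) (Ideal.span {x, y}) hle ?_
    · exact hb.hy (heq ▸ Ideal.subset_span (by simp))
    · refine le_antisymm (Ideal.comap_mono hle) fun p hp' => ?_
      rw [Ideal.under_def, Ideal.mem_comap] at hp' ⊢
      have hd : algebraMap V B (p.eval v) ∈ Ideal.span {x, y} := by
        have := sub_mem hp' (hle (hp p))
        rwa [RingHom.algebraMap_toAlgebra, AlgHom.toRingHom_eq_coe, RingHom.coe_coe, sub_sub_cancel] at this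
      rcases hloc (p.eval v) with hu | ⟨w, hw⟩
      · exact absurd (Ideal.eq_top_of_isUnit_mem _ hd (hu.map _)) hb.hP.ne_top
      · rw [RingHom.algebraMap_toAlgebra, AlgHom.toRingHom_eq_coe, RingHom.coe_coe,
          ← sub_add_cancel (Polynomial.aeval f p) (algebraMap V B (p.eval v))]
        refine add_mem (hp p) ?_
        rw [hw, map_mul, ← hb.hxy]
        exact Ideal.mul_mem_right _ _ (Ideal.mul_mem_right _ _ (Ideal.mem_span_singleton_self _))
  exact hdvd.elim (fun h' => key x y bx (Ideal.mem_span_singleton.mpr h'))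
    (fun h' => key y x bY (Ideal.mem_span_singleton.mpr h'))

/-- Let V be a discrete valuation ring of characteristic zero with uniformizer ϖ and perfect residue
field k, let Q = V[x, y]/(xy − ϖ) be the coordinate ring of the standard semistable node over V and
P its closed point x = y = 0 of the closed fibre, let h ∈ Q with h ∉ (x, y), so that B = Q[1/h] is
the ring of an open neighbourhood of P, and let f ∈ B define a morphism to the affine line over V
which is étale on the generic fibre: B[1/ϖ] is étale over V[T] via T ↦ f. Then df vanishes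
identically on one of the two components x = 0, y = 0 of the closed fibre of Spec B: the
differential of the image of f in Ω_{(B/xB)/V} is zero or the differential of the image of f in
Ω_{(B/yB)/V} is zero. If moreover k has characteristic zero, then f contracts that component and the
morphism is not quasi-finite: V[T] → B, T ↦ f, is not a quasi-finite ring map. -/
theorem result (V : Type u) [CommRing V] [IsDomain V] [IsDiscreteValuationRing V] [CharZero V]
    [PerfectField (IsLocalRing.ResidueField V)] (ϖ : V) (hϖ : Irreducible ϖ)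
    (h : (MvPolynomial (Fin 2) V ⧸ Ideal.span {(MvPolynomial.X 0 * MvPolynomial.X 1 - MvPolynomial.C ϖ : MvPolynomial (Fin 2) V)}))
    (hh : h ∉ Ideal.span ({(Ideal.Quotient.mk (Ideal.span {(MvPolynomial.X 0 * MvPolynomial.X 1 - MvPolynomial.C ϖ : MvPolynomial (Fin 2) V)}) (MvPolynomial.X 0 : MvPolynomial (Fin 2) V)), (Ideal.Quotient.mk (Ideal.span {(MvPolynomial.X 0 * MvPolynomial.X 1 - MvPolynomial.C ϖ : MvPolynomial (Fin 2) V)}) (MvPolynomial.X 1 : MvPolynomial (Fin 2) V))} : Set (MvPolynomial (Fin 2) V ⧸ Ideal.span {(MvPolynomial.X 0 * MvPolynomial.X 1 - MvPolynomial.C ϖ : MvPolynomial (Fin 2) V)})))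
    (f : Localization.Away h)
    (hf : ((algebraMap (Localization.Away h)
        (Localization.Away (algebraMap V (Localization.Away h) ϖ))).comp
          (Polynomial.aeval f : Polynomial V →ₐ[V] Localization.Away h).toRingHom).Etale) :
    (KaehlerDifferential.D V (Localization.Away h ⧸ Ideal.span
        ({algebraMap (MvPolynomial (Fin 2) V ⧸ Ideal.span {(MvPolynomial.X 0 * MvPolynomial.X 1 - MvPolynomial.C ϖ : MvPolynomial (Fin 2) V)}) (Localization.Away h) (Ideal.Quotient.mk (Ideal.span {(MvPolynomial.X 0 * MvPolynomial.X 1 - MvPolynomial.C ϖ : MvPolynomial (Fin 2) V)}) (MvPolynomial.X 0 : MvPolynomial (Fin 2) V))} : Set (Localization.Away h)))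
        (Ideal.Quotient.mk _ f) = 0 ∨
     KaehlerDifferential.D V (Localization.Away h ⧸ Ideal.span
        ({algebraMap (MvPolynomial (Fin 2) V ⧸ Ideal.span {(MvPolynomial.X 0 * MvPolynomial.X 1 - MvPolynomial.C ϖ : MvPolynomial (Fin 2) V)}) (Localization.Away h) (Ideal.Quotient.mk (Ideal.span {(MvPolynomial.X 0 * MvPolynomial.X 1 - MvPolynomial.C ϖ : MvPolynomial (Fin 2) V)}) (MvPolynomial.X 1 : MvPolynomial (Fin 2) V))} : Set (Localization.Away h)))
        (Ideal.Quotient.mk _ f) = 0) ∧
    (CharZero (IsLocalRing.ResidueField V) →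
      ¬ (Polynomial.aeval f : Polynomial V →ₐ[V] Localization.Away h).toRingHom.QuasiFinite) := main ϖ hϖ _
  (Ideal.Quotient.mkₐ V (Ideal.span {(MvPolynomial.X 0 * MvPolynomial.X 1 - MvPolynomial.C ϖ : MvPolynomial (Fin 2) V)}))
  Ideal.Quotient.mk_surjective (Ideal.Quotient.mkₐ_ker V _) h hh _ f hf

end Groth.Agent.S14386
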