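import Groth.Statements.S14388
import Groth.Agent.L10.Tri.TruncMap

set_option autoImplicit false
open CategoryTheory CategoryTheory.Limits
universe w v u
open CohDer

namespace Groth.Agent.S14388

/-- Let A be an abelian category, D(A) its derived category with the canonical t-structure and
truncation functors τ_{≥a}, τ_{<b}, and write τ_[a,b] = τ_{≥a} ∘ τ_{<b+1}, so that τ_[q,q] K is
H^q(K) placed in degree q. Let f : K → K' be a morphism in D(A) and q an integer such that the
induced maps H^(q-1)(K) → H^(q-1)(K') and H^q(K) → H^q(K') are both zero. Then there is a unique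
morphism L : τ_[q,q] K → τ_[q-1,q-1] K' such that τ_[q-1,q](f) : τ_[q-1,q] K → τ_[q-1,q] K' is the
composite of the canonical projection τ_[q-1,q] K → τ_[q,q] K, the morphism L, and the canonical
inclusion τ_[q-1,q-1] K' → τ_[q-1,q] K'. (Under τ_[n,n] ≅ H^n(−)[−n] the morphism L corresponds to a
morphism L_f[−q] : H^q(K)[−q] → H^(q-1)(K')[1−q].) -/
theorem result {C : Type u} [Category.{v} C] [Abelian C]
    [HasDerivedCategory.{w} C] {K K' : DerivedCategory C} (f : K ⟶ K') (q : ℤ)
    (h₁ : (DerivedCategory.homologyFunctor C (q - 1)).map f = 0)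
    (h₂ : (DerivedCategory.homologyFunctor C q).map f = 0) :
    ∃! L : ((DerivedCategory.TStructure.t (C := C)).truncGELT q (q + 1)).obj K ⟶
        ((DerivedCategory.TStructure.t (C := C)).truncGELT (q - 1) q).obj K',
      ((DerivedCategory.TStructure.t (C := C)).truncGELT (q - 1) (q + 1)).map f =
        ((DerivedCategory.TStructure.t (C := C)).natTransTruncGEOfLE (q - 1) q (sub_one_lt q).le).app
            (((DerivedCategory.TStructure.t (C := C)).truncLT (q + 1)).obj K) ≫ L ≫
          ((DerivedCategory.TStructure.t (C := C)).truncGE (q - 1)).map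
            (((DerivedCategory.TStructure.t (C := C)).natTransTruncLTOfLE q (q + 1) (lt_add_one q).le).app K') := by
  exact Groth.L10.Tri.existsUnique_truncMap (DerivedCategory.TStructure.t (C := C)) f q
    (Groth.L10.Tri.truncGELT_map_eq_zero f (q - 1) q (by omega) h₁)
    (Groth.L10.Tri.truncGELT_map_eq_zero f q (q + 1) rfl h₂)

end Groth.Agent.S14388
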