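import Groth.Statements.S1439
import Groth.Agent.L20.Weight.MaxAffine
import Groth.Agent.S1426
import Mathlib.Topology.Semicontinuity.Basic

set_option autoImplicit false
universe u
open FlatMor

set_option linter.style.haveILetI false
set_option backward.isDefEq.respectTransparency.types false

namespace Groth.Agent.S1439
open AlgebraicGeometry CategoryTheory Limits in
/-- The maximum locus over a separated base is affine when the source is affine. -/
theorem isAffineOpen_max_of_separated {X Y : Scheme.{u}} [IsAffine X] [Y.IsSeparated] (f : X ⟶ Y)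
    [LocallyQuasiFinite f] [LocallyOfFiniteType f] [QuasiCompact f] (w : X → ℤ)
    (hw : MoreMor.IsWeighting f w) (hpos : ∀ x, 0 < w x) (hsurj : Function.Surjective f) (d : ℤ)
    (hmax : ∀ y : Y, MoreMor.fibreIntegral f w y ≤ d) (hatt : ∃ y : Y, MoreMor.fibreIntegral f w y = d) :
    ∃ hd : IsOpen {y : Y | MoreMor.fibreIntegral f w y = d},
      IsAffineOpen (⟨_, hd⟩ : Y.Opens) := by
  haveI : IsAffineHom f := by
    haveI : IsAffineHom (f ≫ terminal.from Y) := isAffineHom_of_isAffine _
    exact IsAffineHom.of_comp f (terminal.from Y)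
  obtain ⟨hopen, hfinite⟩ := Groth.Agent.S1428.result f (fun y => f.finite_preimage_singleton y)
    w hw hpos d hmax hatt
  refine ⟨hopen, ?_⟩
  obtain ⟨n, rfl⟩ : ∃ n : ℕ, d = (n : ℤ) := by
    obtain ⟨y, hy⟩ := hatt
    exact Int.eq_ofNat_of_zero_le
      (hy ▸ Groth.L20.Weight.fibreIntegral_nonneg f w hpos y (f.finite_preimage_singleton _))
  let E : Y.Opens := ⟨_, hopen⟩
  let f' := pullback.snd f f
  haveI : IsAffine (pullback f f) := isAffine_of_isAffineHom f'
  haveI : LocallyQuasiFinite f' := MorphismProperty.pullback_snd f f inferInstance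
  haveI : LocallyOfFiniteType f' := MorphismProperty.pullback_snd f f inferInstance
  have hw' : MoreMor.IsWeighting f' (fun z => w (pullback.fst f f z)) :=
    Groth.Agent.S1419.result f w hw f' (pullback.fst f f) f (IsPullback.of_hasPullback f f)
  have hint : ∀ x, MoreMor.fibreIntegral f' (fun z => w (pullback.fst f f z)) x =
      MoreMor.fibreIntegral f w (f x) := fun x =>
    Groth.L20.Weight.fibreIntegral_baseChange f f' (pullback.fst f f) f (IsPullback.of_hasPullback f f) w x
      (f.finite_preimage_singleton _)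
  haveI : IsAffine (f ⁻¹ᵁ E).toScheme :=
    Groth.L20.Weight.isAffineOpen_max n f' (fun z => w (pullback.fst f f z)) hw' (fun z => hpos _)
      (fun x => hint x ▸ hmax _) (f ⁻¹ᵁ E) (by ext x; simp only [Set.mem_ofPred_eq, hint]; rfl)
  haveI : IsFinite (f ∣_ E) := hfinite
  haveI : Surjective f := ⟨hsurj⟩
  haveI : Surjective (f ∣_ E) :=
    MorphismProperty.of_isPullback (P := @Surjective) (isPullback_morphismRestrict f E).flip inferInstance
  exact Groth.L20.Chevalley.isAffine_of_surjective_universallyClosed (f ∣_ E)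

open AlgebraicGeometry CategoryTheory Limits in
/-- A stratum of the fibre integral is the image of an affine immersion from an affine scheme. -/
theorem exists_stratum {X Y : Scheme.{u}} [IsAffine X] [Y.IsSeparated] (f : X ⟶ Y) [Surjective f]
    [LocallyQuasiFinite f] [LocallyOfFiniteType f] [QuasiCompact f] (w : X → ℤ)
    (hw : MoreMor.IsWeighting f w) (hpos : ∀ x, 0 < w x) (y₀ : Y)
    (hcl : IsClosed {y : Y | MoreMor.fibreIntegral f w y ≤ MoreMor.fibreIntegral f w y₀}) :
    ∃ (Z : Scheme.{u}) (i : Z ⟶ Y), IsImmersion i ∧ IsAffine Z ∧ IsAffineHom i ∧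
      Set.range i = {y : Y | MoreMor.fibreIntegral f w y = MoreMor.fibreIntegral f w y₀} := by
  let J := Scheme.IdealSheafData.vanishingIdeal (X := Y) ⟨_, hcl⟩
  let g := J.subschemeι
  have hrange : Set.range g = {y : Y | MoreMor.fibreIntegral f w y ≤ MoreMor.fibreIntegral f w y₀} :=
    Groth.L20.Chevalley.range_redSub _
  haveI : J.subscheme.IsSeparated := ⟨by rw [← terminal.comp_from g]; infer_instance⟩
  haveI : IsAffine (pullback f g) := isAffine_of_isAffineHom (pullback.fst f g)
  let f' := pullback.snd f g
  haveI : LocallyQuasiFinite f' := MorphismProperty.pullback_snd f g inferInstance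
  haveI : LocallyOfFiniteType f' := MorphismProperty.pullback_snd f g inferInstance
  haveI : QuasiCompact f' := MorphismProperty.pullback_snd f g inferInstance
  haveI : Surjective f' := MorphismProperty.pullback_snd f g inferInstance
  have hw' : MoreMor.IsWeighting f' (fun z => w (pullback.fst f g z)) :=
    Groth.Agent.S1419.result f w hw f' (pullback.fst f g) g (IsPullback.of_hasPullback f g)
  have hint : ∀ v, MoreMor.fibreIntegral f' (fun z => w (pullback.fst f g z)) v =
      MoreMor.fibreIntegral f w (g v) := fun v =>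
    Groth.L20.Weight.fibreIntegral_baseChange f f' (pullback.fst f g) g (IsPullback.of_hasPullback f g) w v
      (f.finite_preimage_singleton _)
  obtain ⟨v₀, hv₀⟩ : y₀ ∈ Set.range g := by rw [hrange]; exact le_rfl (a := MoreMor.fibreIntegral f w y₀)
  obtain ⟨hd, hE⟩ := isAffineOpen_max_of_separated f' (fun z => w (pullback.fst f g z)) hw'
    (fun z => hpos _) f'.surjective (MoreMor.fibreIntegral f w y₀)
    (fun v => by
      rw [hint]
      have : g v ∈ Set.range g := ⟨v, rfl⟩
      rw [hrange] at this
      exact this) ⟨v₀, by rw [hint, hv₀]⟩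
  let E : J.subscheme.Opens := ⟨_, hd⟩
  haveI : IsAffine E.toScheme := hE
  haveI : IsAffineHom (E.ι ≫ g) := by
    haveI : IsAffineHom ((E.ι ≫ g) ≫ terminal.from Y) := isAffineHom_of_isAffine _
    exact IsAffineHom.of_comp (E.ι ≫ g) (terminal.from Y)
  refine ⟨E, E.ι ≫ g, inferInstance, inferInstance, inferInstance, ?_⟩
  rw [Scheme.Hom.comp_base, TopCat.coe_comp, Set.range_comp, Scheme.Opens.range_ι]
  ext y
  constructor
  · rintro ⟨v, hv, rfl⟩
    have h : MoreMor.fibreIntegral f' (fun z => w (pullback.fst f g z)) v = MoreMor.fibreIntegral f w y₀ := hv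
    rw [hint] at h
    exact h
  · intro hy
    have : y ∈ Set.range g := by rw [hrange]; exact le_of_eq hy
    obtain ⟨v, rfl⟩ := this
    exact ⟨v, (hint v).trans hy, rfl⟩


open AlgebraicGeometry CategoryTheory Limits in
/-- Let f : X → Y be surjective and quasi-finite with X affine and Y separated and nonempty, and let w
be a positive weighting of f. If the fibre integral of w along f takes exactly k distinct values,
then Y has an affine stratification with index set {0, …, k − 1} (its affine stratification number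
is at most k − 1). -/
theorem result {X Y : Scheme.{u}} (f : X ⟶ Y) [Surjective f] [LocallyQuasiFinite f] [LocallyOfFiniteType f] [QuasiCompact f]
    [IsAffine X] [Y.IsSeparated] [Nonempty ↑Y] (w : ↑X → ℤ) (hw : MoreMor.IsWeighting f w) (hpos : ∀ x, 0 < w x)
    (k : ℕ) (hk : (Set.range (MoreMor.fibreIntegral f w)).ncard = k) (hkfin : (Set.range (MoreMor.fibreIntegral f w)).Finite) :
    MoreMor.HasAffineStratification Y (k - 1) := by
  classical
  haveI : IsAffineHom f := by
    haveI : IsAffineHom (f ≫ terminal.from Y) := isAffineHom_of_isAffine _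
    exact IsAffineHom.of_comp f (terminal.from Y)
  have hlsc := Groth.Agent.S1426.result f (fun y => f.finite_preimage_singleton y) w hw hpos
  let F := hkfin.toFinset
  have hcard : F.card = k - 1 + 1 := by
    have h1 : F.card = k := by rw [← hk, Set.ncard_eq_toFinset_card _ hkfin]
    have h2 : 0 < F.card := Finset.card_pos.mpr
      ⟨_, hkfin.mem_toFinset.mpr ⟨Classical.arbitrary Y, rfl⟩⟩
    omega
  let e := F.orderIsoOfFin hcard
  let s : Y → Fin (k - 1 + 1) := fun y => e.symm ⟨_, hkfin.mem_toFinset.mpr ⟨y, rfl⟩⟩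
  have hle : ∀ i, {y : Y | s y ≤ i} = {y : Y | MoreMor.fibreIntegral f w y ≤ (e i).1} := fun i => by
    ext y
    simp only [Set.mem_ofPred_eq, s]
    rw [OrderIso.symm_apply_le]
    rfl
  refine ⟨s, fun i => ?_, fun i => ?_⟩
  · rw [hle]
    exact LowerSemicontinuous.isClosed_preimage hlsc _
  obtain ⟨y₀, hy₀⟩ := hkfin.mem_toFinset.mp (e i).2
  have hset : {y : Y | s y = i} = {y : Y | MoreMor.fibreIntegral f w y = MoreMor.fibreIntegral f w y₀} := by
    ext y
    simp only [Set.mem_ofPred_eq, s, hy₀]
    rw [OrderIso.symm_apply_eq, Subtype.ext_iff]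
  obtain ⟨Z, ι, h1, h2, h3, h4⟩ := exists_stratum f w hw hpos y₀
    (LowerSemicontinuous.isClosed_preimage hlsc _)
  exact ⟨Z, ι, h1, h2, h3, h4.trans hset.symm⟩

end Groth.Agent.S1439
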