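import Groth.Statements.S14397

set_option autoImplicit false
universe u
open DualGr

namespace Groth.Agent.S14397

/-- Let (V, E) with endpoint map E → V × V be a finite multigraph (loops and parallel edges allowed; the
order of the two endpoints is an auxiliary orientation), and let D_1, …, D_n be finite sets of edges
such that every edge lies outside at least one D_i. For each i let Γ_i be the multigraph obtained by
contracting the edges of D_i, and let H₁(Γ, ℤ) → H₁(Γ_i, ℤ) be the map of cycle lattices (integer
edge vectors with zero boundary) given by restriction to the surviving edges. Then the map H₁(Γ, ℤ)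
→ ⊕_i H₁(Γ_i, ℤ) has torsion-free cokernel. (The published statement is about the connected labelled
dual graph of the closed fibre of a nodal curve, smooth outside a normal crossing divisor with
components D_1, …, D_n, over a Noetherian regular strictly local base; Γ_i is the dual graph of the
fibre over the generic point of D_i, the lattices are identified with the character groups of the
toric parts of the Picard schemes of these fibres, and the map is the generization map of character
groups; this row states the assertion about cycle lattices, for any finite multigraph, which is what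
the argument establishes.) -/
theorem result
    {V E : Type u} [Fintype V] [Fintype E] [DecidableEq V] [DecidableEq E]
    (ends : E → V × V) {n : ℕ} (D : Fin n → Finset E) (hcover : ∀ e : E, ∃ i : Fin n, e ∉ D i) :
    IsAddTorsionFree (((i : Fin n) → ↥(DualGr.cycleLattice (DualGr.ctrEnds ends (D i)))) ⧸
      LinearMap.range (LinearMap.pi fun i : Fin n => DualGr.genMap ends (D i))) := by
  refine ⟨fun m hm x y hxy => ?_⟩
  obtain ⟨a, rfl⟩ := Submodule.Quotient.mk_surjective _ x
  obtain ⟨b, rfl⟩ := Submodule.Quotient.mk_surjective _ y
  rw [Submodule.Quotient.eq]
  have h : m • (a - b) ∈ LinearMap.range (LinearMap.pi fun i : Fin n => DualGr.genMap ends (D i)) := by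
    rw [← Submodule.Quotient.mk_eq_zero, Submodule.Quotient.mk_smul, Submodule.Quotient.mk_sub, smul_sub, sub_eq_zero]
    exact hxy
  obtain ⟨γ, hγ⟩ := h
  have hval : ∀ (i : Fin n) (e : DualGr.CtrEdge (D i)), γ.1 e.1 = (m : ℤ) * ((a - b) i).1 e := by
    intro i e
    have := congrArg (fun c : (i : Fin n) → ↥(DualGr.cycleLattice (DualGr.ctrEnds ends (D i))) => (c i).1 e) hγ
    rw [← natCast_zsmul] at this
    exact this
  have hdiv : ∀ e : E, ∃ z : ℤ, γ.1 e = (m : ℤ) * z := fun e =>
    ⟨_, hval _ ⟨e, (hcover e).choose_spec⟩⟩
  choose z hz using hdiv
  have hmz : (m : ℤ) ≠ 0 := by exact_mod_cast hm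
  have hz0 : z ∈ DualGr.cycleLattice ends := by
    have h0 : DualGr.boundaryHom ends γ.1 = 0 := γ.2
    rw [show γ.1 = (m : ℤ) • z from funext hz, map_smul] at h0
    exact (smul_eq_zero.1 h0).resolve_left hmz
  refine ⟨⟨z, hz0⟩, funext fun i => Subtype.ext (funext fun e => ?_)⟩
  exact mul_left_cancel₀ hmz ((hz e.1).symm.trans (hval i e))

end Groth.Agent.S14397
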