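import Groth.Statements.S14399
import Groth.Agent.L05.SemiFact.ZeroDeg
import Groth.Agent.L05.InterPair.Vertical
import Groth.Agent.L14.LocHilb.Lift.Obs.Cls
import Groth.Agent.L16.ProperFinite
import Groth.Agent.L16.QcqsPush
-- import your own Groth.Agent.* helpers here

set_option autoImplicit false
universe u
open CategoryTheory AlgebraicGeometry
open SemiFact

namespace Groth.Agent.S14399

set_option backward.isDefEq.respectTransparency false
set_option backward.isDefEq.respectTransparency.types false
set_option linter.style.haveILetI false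
open Groth.L05.SemiFact Groth.L18.Frame
open Groth.L21.RR (st)


/-- Let R be a discrete valuation ring with perfect fraction field K and residue field k, and f : X →
Spec R a nodal curve (proper, flat, locally of finite presentation, geometric fibres connected with
one-dimensional irreducible components and at most ordinary double points) whose special fibre X_k
has split singularities: every closed point of X_k either has an open neighbourhood smooth over k or
has completed local ring isomorphic over k to k[[u,v]]/(uv). Let L be an invertible O_X-module whose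
pullback to the generic fibre X_K is isomorphic to the structure sheaf. If the degree over k of the
restriction of L to every irreducible component of X_k — each taken with its reduced structure, as
an integral curve over k closed-immersed in X over Spec R — is zero, then L is isomorphic to O_X.
(The published lemma states that the multidegree of generically trivial invertible modules is
computed by the multidegree operator on Cartier vertex labellings of the labelled dual graph, and
its proof records that this multidegree map on generically trivial invertible modules is injective;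
this row is that injectivity.) -/
theorem result
    (R : Type u) [CommRing R] [IsDomain R] [IsDiscreteValuationRing R]
    [PerfectField (FractionRing R)]
    {X : Scheme.{u}} (f : X ⟶ Spec (CommRingCat.of R)) [IsProper f]
    (hf : Curv2.IsNodalFamily f)
    (hconn : ∀ (L : Type u) [Field L] (t : Spec (CommRingCat.of L) ⟶ Spec (CommRingCat.of R)),
      ConnectedSpace ↑(Limits.pullback f t))
    (hsplit : ∀ y : ↥(f.fiber (IsLocalRing.closedPoint R)), IsClosed ({y} : Set ↥(f.fiber (IsLocalRing.closedPoint R))) →
        (∃ W : (f.fiber (IsLocalRing.closedPoint R)).Opens, y ∈ W ∧ Smooth (W.ι ≫ f.fiberToSpecResidueField (IsLocalRing.closedPoint R))) ∨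
        @Curv2.IsOrdDoublePt ((Spec (CommRingCat.of R)).residueField (IsLocalRing.closedPoint R)) _ ((f.fiber (IsLocalRing.closedPoint R)).presheaf.stalk y) _ (@Curv2.stalkAlgebra ((Spec (CommRingCat.of R)).residueField (IsLocalRing.closedPoint R)) _ (f.fiber (IsLocalRing.closedPoint R)) ⟨f.fiberToSpecResidueField (IsLocalRing.closedPoint R)⟩ y) _)
    (L : X.Modules) (hL : PicF.IsInvertible L)
    (hgen : Nonempty ((Scheme.Modules.pullback (Limits.pullback.fst f (Neron.genPt R))).obj L ≅
      Coh.structureModule (Limits.pullback f (Neron.genPt R))))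
    (hdeg : ∀ Γ : ArSurf.VertComp R (Over.mk f), ArSurf.inter R (Over.mk f) L Γ = 0) :
    Nonempty (L ≅ Coh.structureModule X) := by
  classical
  obtain ⟨hflat, -, hfib⟩ := hf
  haveI := hflat
  letI : X.Over (Spec (CommRingCat.of R)) := ⟨f⟩
  haveI : IsProper (X ↘ Spec (CommRingCat.of R)) := ‹IsProper f›
  haveI : IsLocallyNoetherian X := LocallyOfFiniteType.isLocallyNoetherian f
  haveI : CompactSpace X := QuasiCompact.compactSpace_of_compactSpace f
  haveI : QuasiSeparatedSpace X := quasiSeparatedSpace_of_quasiSeparated f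
  obtain ⟨ϖ, hϖ⟩ := IsDiscreteValuationRing.exists_irreducible R
  let s₀ := IsLocalRing.closedPoint R
  letI : (f.fiber s₀).Over (Spec ((Spec (CommRingCat.of R)).residueField s₀)) := ⟨f.fiberToSpecResidueField s₀⟩
  haveI : IsLocallyNoetherian (f.fiber s₀) := LocallyOfFiniteType.isLocallyNoetherian (f.fiberToSpecResidueField s₀)
  haveI : IsProper (f.fiber s₀ ↘ Spec (CommRingCat.of ((Spec (CommRingCat.of R)).residueField s₀))) :=
    (MorphismProperty.pullback_snd (P := @IsProper) f _ inferInstance : IsProper (f.fiberToSpecResidueField s₀))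
  have hred : IsReduced (f.fiber s₀) := by
    haveI : CompactSpace (f.fiber s₀) := QuasiCompact.compactSpace_of_compactSpace (f.fiberToSpecResidueField s₀)
    haveI : IsNoetherian (f.fiber s₀) := ⟨⟩
    haveI : ∀ z : f.fiber s₀, _root_.IsReduced ((f.fiber s₀).presheaf.stalk z) := fun z =>
      (Groth.L21.Nodal.isGorensteinLocalRing_and_isReduced_stalk
        ((Groth.L21.Nodal.curveLike_iff (f.fiber s₀)).2 (hfib s₀).1) (hfib s₀).2 z).2
    exact isReduced_of_isReduced_stalk _
  haveI hcon : ConnectedSpace (f.fiber s₀) :=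
    hconn _ ((Spec (CommRingCat.of R)).fromSpecResidueField s₀)
  let b : Γ(X, ⊤) := Coh.toGlobal f ϖ
  -- a nonzero global section
  have hsec : ∃ t : Γ(L, ⊤), t ≠ 0 := by
    obtain ⟨hop, hrange⟩ := Groth.L05.InterPair.isOpenImmersion_generic R hϖ
    haveI : IsOpenImmersion (Neron.genPt R) := hop
    let g := Limits.pullback.fst f (Neron.genPt R)
    haveI : IsOpenImmersion g := MorphismProperty.pullback_fst _ _ hop
    haveI : ConnectedSpace ↥(Limits.pullback f (Neron.genPt R)) := hconn _ (Neron.genPt R)
    have hg : g ''ᵁ ⊤ = X.basicOpen b := by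
      refine TopologicalSpace.Opens.ext ?_
      rw [Scheme.Hom.image_top_eq_opensRange, Scheme.Hom.coe_opensRange, Scheme.Pullback.range_fst, hrange]
      show f ⁻¹' _ = ((X.basicOpen (f.appTop ((Scheme.ΓSpecIso (CommRingCat.of R)).inv ϖ))) : Set X)
      rw [← Scheme.preimage_basicOpen_top f, basicOpen_eq_of_affine]
      rfl
    let θ := (Scheme.Modules.restrictFunctorIsoPullback g).app L ≪≫ hgen.some
    let σ : Γ(L, g ''ᵁ ⊤) := θ.inv.app ⊤ (1 : Γ(Limits.pullback f (Neron.genPt R), ⊤))
    have hσ : σ ≠ 0 := fun h0 => by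
      haveI : Nonempty ((⊤ : (Limits.pullback f (Neron.genPt R)).Opens) : Scheme.{u}) :=
        ⟨⟨Classical.arbitrary _, trivial⟩⟩
      have h1 : θ.hom.app ⊤ σ = (1 : Γ(Limits.pullback f (Neron.genPt R), ⊤)) :=
        congr($(θ.inv_hom_id).app ⊤ (1 : Γ(Limits.pullback f (Neron.genPt R), ⊤)))
      rw [h0, map_zero] at h1
      exact zero_ne_one (α := Γ(Limits.pullback f (Neron.genPt R), ⊤)) h1
    let σ' : Γ(L, X.basicOpen b) := rs L hg.ge σ
    haveI : Coh.IsQCoh L := (Groth.L16.ProperFinite.isCoh_of_isInvertible hL).1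
    obtain ⟨n, t, ht⟩ := Groth.L16.QcqsPush.exists_pow_smul_eq_res L (U := (⊤ : X.Opens)) isCompact_univ
      isQuasiSeparated_univ b σ'
    refine ⟨t, fun h0 => hσ ?_⟩
    rw [h0, show rs L (X.basicOpen_le b) (0 : Γ(L, ⊤)) = 0 from map_zero _] at ht
    have hu : IsUnit (ro (X.basicOpen_le b) (b ^ n)) := by
      rw [show ro (X.basicOpen_le b) (b ^ n) = ro (X.basicOpen_le b) b ^ n from map_pow _ _ _]
      exact (RingedSpace.isUnit_res_basicOpen _ b).pow n
    have h2 : σ' = 0 := hu.smul_eq_zero.1 ht.symm
    have h3 := congrArg (rs L hg.le) h2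
    rw [show rs L hg.le (0 : Γ(L, X.basicOpen b)) = 0 from map_zero _] at h3
    rw [← h3]
    show σ = rs L hg.le (rs L hg.ge σ)
    rw [rs_rs, rs_self]
  -- not divisible by the uniformiser
  have hsec' : ∃ s : Γ(L, ⊤), ¬ ∃ t, s = b • t := by
    by_contra hh
    push Not at hh
    obtain ⟨t₀, ht₀⟩ := hsec
    haveI : Module.Finite R (Coh.HH X L 0) :=
      Groth.L16.ProperFinite.finite_HH R (Groth.L16.ProperFinite.isCoh_of_isInvertible hL) 0
    let e := Groth.L21.RR.e0 L
    have hsm : ∀ (r : R) (c : Γ(L, ⊤)), r • e.symm c = e.symm ((show Γ(X, ⊤) from Coh.toGlobal f r) • c) :=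
      fun r c => (Groth.L14.LocHilbLift.e0_symm_smul (show Γ(X, ⊤) from Coh.toGlobal f r) c).symm
    have hmem : ∀ (n : ℕ) (c : Γ(L, ⊤)),
        e.symm c ∈ (IsLocalRing.maximalIdeal R) ^ n • (⊤ : Submodule R (Coh.HH X L 0)) := by
      intro n
      induction n with
      | zero => intro c; rw [pow_zero, Ideal.one_eq_top, Submodule.top_smul]; trivial
      | succ n ih =>
        intro c
        obtain ⟨t, rfl⟩ := hh c
        rw [← hsm, pow_succ', Submodule.mul_smul]
        exact Submodule.smul_mem_smul (by rw [hϖ.maximalIdeal_eq]; exact Ideal.mem_span_singleton_self ϖ) (ih t)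
    have h0 : e.symm t₀ ∈ (⊥ : Submodule R (Coh.HH X L 0)) := by
      rw [← Ideal.iInf_pow_smul_eq_bot_of_isLocalRing (IsLocalRing.maximalIdeal R)
        (IsLocalRing.maximalIdeal.isMaximal R).ne_top]
      exact Submodule.mem_iInf _ |>.2 fun n => hmem n t₀
    exact ht₀ (e.symm.injective (((Submodule.mem_bot R).1 h0).trans (map_zero e.symm).symm))
  obtain ⟨s, hs⟩ := hsec'
  let D : Set X := {x | Function.Surjective (st (hom s) x)}
  let A : Set (f.fiber s₀) := (f.fiberι s₀) ⁻¹' D
  have hAo : IsOpen A := (isOpen_surjective_st hL s).preimage (f.fiberι s₀).continuous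
  have hdic : ∀ z : f.fiber s₀, ∀ Γ : ArSurf.VertComp R (Over.mk f), f.fiberι s₀ z ∈ Set.range Γ.ι.base →
      (z ∈ A → Set.range Γ.ι.base ⊆ D) ∧ (z ∉ A → Disjoint (Set.range Γ.ι.base) D) := by
    rintro z Γ ⟨y, hy⟩
    haveI : IsProper Γ.curve.hom := by
      haveI : IsProper (Γ.curve.hom ≫ Spec.map (CommRingCat.ofHom (IsLocalRing.residue R))) := by
        rw [← Γ.w]
        haveI : IsProper (Over.mk f).hom := ‹IsProper f›
        infer_instance
      exact IsProper.of_comp Γ.curve.hom (Spec.map (CommRingCat.ofHom (IsLocalRing.residue R)))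
    letI : Γ.curve.left.Over (Spec (CommRingCat.of (IsLocalRing.ResidueField R))) := ⟨Γ.curve.hom⟩
    haveI : IsProper (Γ.curve.left ↘ Spec (CommRingCat.of (IsLocalRing.ResidueField R))) := ‹IsProper Γ.curve.hom›
    let j : Γ.curve.left ⟶ X := Γ.ι
    rcases dichotomy (IsLocalRing.ResidueField R) Γ.dim_eq (Groth.L18.Ample.isInvertible_pullback j hL) (hdeg Γ)
      (show Γ((Scheme.Modules.pullback j).obj L, ⊤) from pull j L ⊤ s) with h | h
    · refine ⟨fun _ => ?_, fun hz => absurd ?_ hz⟩
      · rintro _ ⟨y', rfl⟩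
        exact (surjective_st_pull j hL s y').1 (h y')
      · show f.fiberι s₀ z ∈ D
        rw [← hy]
        exact (surjective_st_pull j hL s y).1 (h y)
    · refine ⟨fun hz => absurd ((surjective_st_pull j hL s y).2 ?_) (h y), fun _ => ?_⟩
      · show j y ∈ D
        rw [show j y = f.fiberι s₀ z from hy]
        exact hz
      · rw [Set.disjoint_left]
        rintro _ ⟨y', rfl⟩ hd
        exact h y' ((surjective_st_pull j hL s y').2 hd)
  have hAc : IsClosed A := by
    haveI : CompactSpace (f.fiber s₀) := QuasiCompact.compactSpace_of_compactSpace (f.fiberToSpecResidueField s₀)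
    haveI : IsNoetherian (f.fiber s₀) := ⟨⟩
    have hfin := TopologicalSpace.NoetherianSpace.finite_irreducibleComponents (α := f.fiber s₀)
    have heq : A = ⋃ Z ∈ {Z ∈ irreducibleComponents (f.fiber s₀ : Type u) | Z ⊆ A}, Z := by
      refine subset_antisymm (fun z hz => ?_) (Set.iUnion₂_subset fun Z hZ => hZ.2)
      refine Set.mem_iUnion₂.2 ⟨irreducibleComponent z, ⟨irreducibleComponent_mem_irreducibleComponents z, ?_⟩,
        mem_irreducibleComponent⟩
      intro w hw
      obtain ⟨Γ, hΓ⟩ := exists_vertComp_mem f (hfib s₀).1 z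
      have hzΓ : f.fiberι s₀ z ∈ Set.range Γ.ι.base := hΓ.ge ⟨z, mem_irreducibleComponent, rfl⟩
      exact (hdic z Γ hzΓ).1 hz (hΓ.ge ⟨w, hw, rfl⟩)
    rw [heq]
    exact (hfin.subset fun Z hZ => hZ.1).isClosed_biUnion fun Z hZ => isClosed_of_mem_irreducibleComponents Z hZ.1
  rcases isClopen_iff.1 ⟨hAc, hAo⟩ with hA | hA
  · -- the section vanishes on the closed fibre
    exact absurd (exists_eq_smul f hred hL hϖ s fun z hz => (Set.eq_empty_iff_forall_notMem.1 hA z) hz) hs
  · have htop : ∀ x : X, x ∈ D := fun x => by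
      by_contra hx
      have hcl : IsClosed (f '' Dᶜ) := f.isClosedMap _ (isOpen_surjective_st hL s).isClosed_compl
      have hmem : s₀ ∈ f '' Dᶜ := (show f x ⤳ s₀ from IsLocalRing.specializes_closedPoint _).mem_closed hcl ⟨x, hx, rfl⟩
      obtain ⟨x', hx', hfx'⟩ := hmem
      obtain ⟨z, rfl⟩ : x' ∈ Set.range (f.fiberι s₀) := by rw [Scheme.Hom.range_fiberι]; exact hfx'
      exact hx' (show z ∈ A from hA ▸ Set.mem_univ z)
    haveI : Epi (hom s) := (Groth.L21.Mod.epi_iff_stalk_surjective (hom s)).2 htop
    haveI : Mono (hom s) := (Groth.L21.Mod.mono_iff_stalk_injective (hom s)).2 fun x => by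
      obtain ⟨W, e, hxW, he⟩ := exists_frame hL x
      obtain ⟨a, ha⟩ := he.exists_coeff le_rfl (rs L le_top s)
      rw [rs_self] at ha
      have hu : IsUnit (X.presheaf.germ W x hxW a) :=
        (X.mem_basicOpen a x hxW).1 ((surjective_st_iff_mem he s ha x hxW).1 (htop x))
      refine (injective_iff_map_eq_zero _).2 fun v hv => ?_
      obtain ⟨c, rfl⟩ := (Groth.L21.RR.bijective_smul_one x).2 v
      change st (hom s) x (c • Groth.L21.RR.one X x) = 0 at hv
      rw [map_smul, Groth.L21.RR.st_one (hom s) x hxW, Groth.L21.RR.app_homOfSection_one, ← ha,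
        Groth.L20.ModStalk.germ_smul, smul_smul] at hv
      have h2 : c * X.presheaf.germ W x hxW a = 0 :=
        (Groth.L21.RR.bijective_germ_frame he hxW).1 (hv.trans (zero_smul (X.presheaf.stalk x) _).symm)
      show c • Groth.L21.RR.one X x = 0
      rw [hu.mul_left_eq_zero.1 h2, zero_smul]
    haveI := isIso_of_mono_of_epi (hom s)
    exact ⟨(asIso (hom s)).symm⟩

end Groth.Agent.S14399
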