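import Groth.Statements.S1440
import Groth.Agent.L24.CdStrat.Alg
import Mathlib.Topology.Spectral.ConstructibleTopology
import Mathlib.AlgebraicGeometry.Morphisms.FinitePresentation

set_option autoImplicit false
universe u
open FlatMor

namespace Groth.Agent.S1440

open AlgebraicGeometry CategoryTheory Limits TopologicalSpace Topology

/-- Near any point of the target there is a piece with a section. -/
theorem exists_piece {X Y : Scheme.{u}} (f : X ⟶ Y) [LocallyOfFinitePresentation f] (x : X)
    (hbij : Function.Bijective (f.residueFieldMap x)) :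
    ∃ (Z : Scheme.{u}) (z : Z ⟶ Y), f x ∈ Set.range ⇑z ∧ CompactSpace Z ∧ IsImmersion z ∧
      LocallyOfFinitePresentation z ∧ ∃ σ : Z ⟶ X, σ ≫ f = z := by
  obtain ⟨U, hU, hxU, -⟩ := exists_isAffineOpen_mem_and_subset (x := f x) (U := ⊤) trivial
  obtain ⟨V, hV, hxV, hVU'⟩ := exists_isAffineOpen_mem_and_subset (x := x) (U := f ⁻¹ᵁ U) hxU
  have hVU : V ≤ f ⁻¹ᵁ U := hVU'
  letI : Algebra Γ(Y, U) Γ(X, V) := (f.appLE U V hVU).hom.toAlgebra
  haveI : Algebra.FinitePresentation Γ(Y, U) Γ(X, V) := f.finitePresentation_appLE hU hV hVU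
  letI : Algebra Γ(Y, U) (Y.residueField (f x)) := (Y.evaluation U (f x) hxU).hom.toAlgebra
  let r : Y.residueField (f x) ≃+* X.residueField x :=
    RingEquiv.ofBijective (f.residueFieldMap x).hom hbij
  have hr : ∀ a : Γ(Y, U), X.evaluation V x hxV (f.appLE U V hVU a) =
      r (Y.evaluation U (f x) hxU a) := fun a => by
    refine Eq.trans ?_ (Scheme.evaluation_naturality_apply f x hxU a).symm
    simp only [Scheme.Hom.appLE, Scheme.evaluation, CommRingCat.comp_apply]
    erw [TopCat.Presheaf.germ_res_apply]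
  let φ : Γ(X, V) →ₐ[Γ(Y, U)] Y.residueField (f x) :=
    { toRingHom := r.symm.toRingHom.comp (X.evaluation V x hxV).hom
      commutes' := fun a => by
        change r.symm (X.evaluation V x hxV (f.appLE U V hVU a)) = Y.evaluation U (f x) hxU a
        rw [hr, RingEquiv.symm_apply_apply] }
  have hK : ∀ z : Y.residueField (f x), ∃ a g : Γ(Y, U), algebraMap _ (Y.residueField (f x)) g ≠ 0 ∧
      z * algebraMap _ (Y.residueField (f x)) g = algebraMap _ (Y.residueField (f x)) a := by
    intro z
    obtain ⟨s, rfl⟩ := Scheme.residue_surjective Y (f x) z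
    letI : Algebra Γ(Y, U) (Y.presheaf.stalk (f x)) := (Y.presheaf.germ U (f x) hxU).hom.toAlgebra
    haveI : IsLocalization.AtPrime (Y.presheaf.stalk (f x)) (hU.primeIdealOf ⟨f x, hxU⟩).asIdeal :=
      hU.isLocalization_stalk ⟨f x, hxU⟩
    obtain ⟨⟨a, g⟩, hag⟩ := IsLocalization.surj (hU.primeIdealOf ⟨f x, hxU⟩).asIdeal.primeCompl s
    refine ⟨a, g, ?_, ?_⟩
    · have hu := (IsLocalization.map_units (Y.presheaf.stalk (f x)) g).map (Y.residue (f x)).hom
      exact hu.ne_zero
    · change Y.residue (f x) s * Y.residue (f x) (algebraMap _ _ g.1) = Y.residue (f x) (algebraMap _ _ a)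
      rw [← map_mul, hag]
  obtain ⟨g, ι, J, hJ, hle, ⟨β⟩⟩ := Groth.Agent.L24.CdStrat.exists_piece hK φ
  let q : CommRingCat.of (Localization.Away g) ⟶ CommRingCat.of (Localization.Away g ⧸ J) :=
    CommRingCat.ofHom (Ideal.Quotient.mk J)
  let l : Γ(Y, U) ⟶ CommRingCat.of (Localization.Away g) :=
    CommRingCat.ofHom (algebraMap Γ(Y, U) (Localization.Away g))
  haveI : IsOpenImmersion (Spec.map l) := IsOpenImmersion.of_isLocalization g
  haveI : IsClosedImmersion (Spec.map q) := IsClosedImmersion.spec_of_surjective _ Ideal.Quotient.mk_surjective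
  haveI : LocallyOfFinitePresentation (Spec.map q) :=
    (HasRingHomProperty.Spec_iff (P := @LocallyOfFinitePresentation)).2
      (RingHom.FinitePresentation.of_surjective _ Ideal.Quotient.mk_surjective (by
        change (RingHom.ker (Ideal.Quotient.mk J)).FG
        rwa [Ideal.mk_ker]))
  refine ⟨Spec (CommRingCat.of (Localization.Away g ⧸ J)), Spec.map q ≫ Spec.map l ≫ hU.fromSpec, ?_,
    inferInstance, inferInstance, inferInstance,
    Spec.map (CommRingCat.ofHom β.toRingHom) ≫ hV.fromSpec, ?_⟩
  · let k : CommRingCat.of (Localization.Away g ⧸ J) ⟶ Y.residueField (f x) :=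
      CommRingCat.ofHom (Ideal.Quotient.lift J ι.toRingHom (fun a ha => hle ha))
    have hk : l ≫ q ≫ k = Y.presheaf.germ U (f x) hxU ≫ Y.residue (f x) := by
      ext a
      exact ι.commutes a
    have hgen : Spec.map k ≫ Spec.map q ≫ Spec.map l ≫ hU.fromSpec = Y.fromSpecResidueField (f x) := by
      rw [← Spec.map_comp_assoc, ← Spec.map_comp_assoc, hk, Spec.map_comp_assoc,
        Scheme.fromSpecResidueField, ← hU.fromSpecStalk_eq_fromSpecStalk hxU]
      rfl
    have h1 : f x ∈ Set.range (Y.fromSpecResidueField (f x)) := by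
      rw [Scheme.range_fromSpecResidueField]; rfl
    rw [← hgen] at h1
    obtain ⟨p, hp⟩ := h1
    exact ⟨Spec.map k p, hp⟩
  · rw [Category.assoc, ← IsAffineOpen.SpecMap_appLE_fromSpec f hU hV hVU, ← Spec.map_comp_assoc,
      ← Spec.map_comp_assoc]
    congr 2
    ext a
    exact β.commutes a

open AlgebraicGeometry CategoryTheory Limits in
/-- Let f : X → Y be locally of finite presentation with Y quasi-compact and quasi-separated, and assume
f is completely decomposed: every point y of Y is the image of a point x at which the residue field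
extension is trivial. Then there are finitely many immersions Z_i → Y of finite presentation,
jointly surjective, such that each base change X ×_Y Z_i → Z_i admits a section. -/
theorem result {X Y : Scheme.{u}} (f : X ⟶ Y) [LocallyOfFinitePresentation f] [CompactSpace ↑Y] [QuasiSeparatedSpace ↑Y]
    (hcd : ∀ y : Y, ∃ x : X, f x = y ∧ Function.Bijective (f.residueFieldMap x)) :
    ∃ (n : ℕ) (Z : Fin n → Scheme.{u}) (z : ∀ i, Z i ⟶ Y), (∀ y : Y, ∃ i, y ∈ Set.range ⇑(z i)) ∧
      ∀ i, IsImmersion (z i) ∧ LocallyOfFinitePresentation (z i) ∧ QuasiCompact (z i) ∧ QuasiSeparated (z i) ∧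
        ∃ s : Z i ⟶ pullback f (z i), s ≫ pullback.snd f (z i) = 𝟙 (Z i) := by
  classical
  choose x hx hb using hcd
  choose Z z hmem hZc hzi hzl hσ using fun y => exists_piece f (x y) (hb y)
  haveI := hZc
  haveI := hzi
  haveI := hzl
  have hopen : ∀ y, IsOpen[constructibleTopology ↥Y] (Set.range ⇑(z y)) := by
    intro y
    have hc : Topology.IsConstructible (Set.range ⇑(z y)) := by
      rw [← Set.image_univ]
      exact (z y).isConstructible_image .univ
    refine And.left (b := IsOpen[constructibleTopology ↥Y] (Set.range ⇑(z y))ᶜ) ?_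
    generalize Set.range ⇑(z y) = S at hc ⊢
    induction hc using Topology.IsConstructible.empty_union_induction with
    | open_retrocompact U hUo hUc =>
        have hUk : IsCompact U := by simpa using hUc isCompact_univ isOpen_univ
        exact ⟨hUk.isOpen_constructibleTopology_of_isOpen hUo,
          IsCompact.isOpen_constructibleTopology_of_isClosed (by rwa [compl_compl]) hUo.isClosed_compl⟩
    | union s _ t _ hs ht =>
        letI := constructibleTopology ↥Y
        refine ⟨hs.1.union ht.1, ?_⟩
        rw [Set.compl_union]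
        exact hs.2.inter ht.2
    | compl s _ hs => exact ⟨hs.2, by rw [compl_compl]; exact hs.1⟩
  haveI : CompactSpace (WithConstructibleTopology ↥Y) := compactSpace_withConstructibleTopology
  obtain ⟨s, hs⟩ := isCompact_univ.elim_finite_subcover (X := WithConstructibleTopology ↥Y)
    (fun y => WithTopology.ofTopology ⁻¹' Set.range ⇑(z y))
    (fun y => WithConstructibleTopology.isOpen_iff.2 (hopen y))
    (fun w _ => Set.mem_iUnion.2 ⟨w.ofTopology, by simpa only [Set.mem_preimage, hx] using hmem w.ofTopology⟩)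
  refine ⟨s.card, fun i => Z (s.equivFin.symm i).1, fun i => z (s.equivFin.symm i).1, fun y => ?_,
    fun i => ⟨inferInstance, inferInstance, inferInstance, inferInstance, ?_⟩⟩
  · obtain ⟨j, hj⟩ := Set.mem_iUnion.1 (hs (Set.mem_univ (WithTopology.toTopology _ y)))
    obtain ⟨hjs, hjw⟩ := Set.mem_iUnion.1 hj
    have key : ∀ k : {a // a ∈ s}, k = ⟨j, hjs⟩ → y ∈ Set.range ⇑(z k.1) := by
      rintro _ rfl
      exact hjw
    exact ⟨s.equivFin ⟨j, hjs⟩, key _ (Equiv.symm_apply_apply _ _)⟩
  · obtain ⟨σ, hσ'⟩ := hσ (s.equivFin.symm i).1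
    exact ⟨pullback.lift σ (𝟙 _) (by rw [hσ', Category.id_comp]), pullback.lift_snd _ _ _⟩

end Groth.Agent.S1440
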