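import Groth.Statements.S14400
import Groth.Agent.L24.Galois.Morphism

set_option autoImplicit false
universe u
open CategoryTheory CategoryTheory.Limits AlgebraicGeometry
open Desc

namespace Groth.Agent.S14400

/-- Let K/k be a finite Galois extension of fields, X and Y schemes over k with base changes X_K and
Y_K, and g : X_K ⟶ Y_K a morphism over Spec K. Then g is the base change of a k-morphism f : X ⟶ Y
(that is, g followed by the projection Y_K ⟶ Y is the projection X_K ⟶ X followed by f) if and only
if g commutes with the action of every k-automorphism σ of K on X_K and on Y_K (the identity on X,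
resp. Y, and Spec σ on the factor Spec K). In other words the image of the k-morphisms X ⟶ Y among
the K-morphisms X_K ⟶ Y_K is exactly the set of Galois-invariant ones. -/
theorem result (k : Type u) [Field k] (K : Type u) [Field K]
    [Algebra k K] [FiniteDimensional k K] [IsGalois k K]
    (X Y : Scheme.{u}) [X.Over (Spec (CommRingCat.of k))] [Y.Over (Spec (CommRingCat.of k))]
    (g : Curv2.bc k X K ⟶ Curv2.bc k Y K) (hg : g ≫ Curv2.bcSnd k Y K = Curv2.bcSnd k X K) :
    (∃ f : X ⟶ Y, f ≫ (Y ↘ Spec (CommRingCat.of k)) = X ↘ Spec (CommRingCat.of k) ∧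
        g ≫ Curv2.bcFst k Y K = Curv2.bcFst k X K ≫ f) ↔
      ∀ σ : K ≃ₐ[k] K, Curv2.galAct k X K σ ≫ g = g ≫ Curv2.galAct k Y K σ := by
  constructor
  · rintro ⟨f, -, hf⟩ σ
    refine Limits.pullback.hom_ext ?_ ?_
    · show (_ ≫ g) ≫ Curv2.bcFst k Y K = (g ≫ _) ≫ Curv2.bcFst k Y K
      rw [Category.assoc, Category.assoc, Groth.L24.Galois.galAct_fst, hf, ← Category.assoc,
        Groth.L24.Galois.galAct_fst]
    · show (_ ≫ g) ≫ Curv2.bcSnd k Y K = (g ≫ _) ≫ Curv2.bcSnd k Y K
      rw [Category.assoc, hg, Category.assoc,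
        show Curv2.galAct k Y K σ ≫ Curv2.bcSnd k Y K = Curv2.bcSnd k Y K ≫ _ from Limits.pullback.lift_snd _ _ _,
        reassoc_of% hg]
      exact Limits.pullback.lift_snd _ _ _
  · intro h
    obtain ⟨f, hf⟩ := Groth.L24.Galois.exists_descent X (g ≫ Curv2.bcFst k Y K) fun σ => by
      rw [← Category.assoc, h σ, Category.assoc, Groth.L24.Galois.galAct_fst]
    refine ⟨f, ?_, hf.symm⟩
    haveI : Surjective (Spec.map (CommRingCat.ofHom (algebraMap k K))) :=
      ⟨fun y => ⟨default, Subsingleton.elim (α := PrimeSpectrum k) _ _⟩⟩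
    haveI : Surjective (Curv2.bcFst k X K) := MorphismProperty.pullback_fst (P := @Surjective) _ _ ‹_›
    haveI : Flat (Spec.map (CommRingCat.ofHom (algebraMap k K))) := by
      rw [Flat.SpecMap_iff]
      exact RingHom.flat_algebraMap_iff.2 inferInstance
    haveI : Flat (Curv2.bcFst k X K) := MorphismProperty.pullback_fst (P := @Flat) _ _ ‹_›
    haveI : Epi (Curv2.bcFst k X K) := Flat.epi_of_flat_of_surjective _
    rw [← cancel_epi (Curv2.bcFst k X K), reassoc_of% hf]
    show g ≫ Curv2.bcFst k Y K ≫ _ = _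
    rw [show Curv2.bcFst k Y K ≫ (Y ↘ Spec (CommRingCat.of k)) = Curv2.bcSnd k Y K ≫ _ from Limits.pullback.condition,
      reassoc_of% hg]
    exact Limits.pullback.condition.symm

end Groth.Agent.S14400
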