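import Mathlib.AlgebraicGeometry.Noetherian
import Mathlib.AlgebraicGeometry.Stalk
import Groth.Statements.S14401
-- import your own Groth.Agent.* helpers here

set_option autoImplicit false
universe u
open CategoryTheory AlgebraicGeometry
open Props

namespace Groth.Agent.S14401

/-- Let X be a Noetherian scheme all of whose local rings are integral domains. Then each irreducible
component of X is an open subset of X, and each point of X lies on exactly one irreducible component
(so the irreducible components of X are pairwise disjoint, open and closed, and coincide with the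
connected components). (The published statement assumes X regular and Noetherian; its argument uses
only that the local rings of X are domains, which is the hypothesis taken here.) -/
theorem result (X : Scheme.{u}) [AlgebraicGeometry.IsNoetherian X]
    (hX : ∀ x : X, IsDomain (X.presheaf.stalk x)) :
    (∀ Z ∈ irreducibleComponents (X : Type u), IsOpen Z) ∧
      ∀ x : X, ∃! Z, Z ∈ irreducibleComponents (X : Type u) ∧ x ∈ Z := by
  have huniq : ∀ (x : X) (Z₁ Z₂ : Set X), Z₁ ∈ irreducibleComponents (X : Type u) → x ∈ Z₁ →
      Z₂ ∈ irreducibleComponents (X : Type u) → x ∈ Z₂ → Z₁ = Z₂ := by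
    intro x Z₁ Z₂ h₁ hx₁ h₂ hx₂
    haveI := hX x
    suffices H : ∀ Z ∈ irreducibleComponents (X : Type u), x ∈ Z →
        Z = closure {X.fromSpecStalk x ⟨⊥, Ideal.isPrime_bot⟩} by rw [H _ h₁ hx₁, H _ h₂ hx₂]
    intro Z hZ hxZ
    have hZc := isClosed_of_mem_irreducibleComponents Z hZ
    obtain ⟨z, hz⟩ := QuasiSober.sober hZ.1 hZc
    have hzx : z ∈ Set.range (X.fromSpecStalk x) := by
      rw [Scheme.range_fromSpecStalk]; exact hz.specializes hxZ
    obtain ⟨q, rfl⟩ := hzx
    have hbot : X.fromSpecStalk x ⟨⊥, Ideal.isPrime_bot⟩ ⤳ X.fromSpecStalk x q :=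
      Specializes.map ((PrimeSpectrum.le_iff_specializes _ _).mp bot_le) (X.fromSpecStalk x).continuous
    refine subset_antisymm ?_ ?_
    · rw [← hz.def]
      exact specializes_iff_closure_subset.mp hbot
    · exact hZ.2 isIrreducible_singleton.closure (hz.def.ge.trans (specializes_iff_closure_subset.mp hbot))
  refine ⟨fun Z hZ => ?_, fun x => ⟨irreducibleComponent x,
    ⟨irreducibleComponent_mem_irreducibleComponents x, mem_irreducibleComponent⟩, fun Z hZ =>
      huniq x Z _ hZ.1 hZ.2 (irreducibleComponent_mem_irreducibleComponents x) mem_irreducibleComponent⟩⟩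
  have hfin : (irreducibleComponents (X : Type u)).Finite :=
    TopologicalSpace.NoetherianSpace.finite_irreducibleComponents
  have : Z = (⋃ Z' ∈ irreducibleComponents (X : Type u) \ {Z}, Z')ᶜ := by
    ext x
    simp only [Set.mem_compl_iff, Set.mem_iUnion, not_exists]
    refine ⟨fun hx Z' hZ' hx' => hZ'.2 (huniq x Z' Z hZ'.1 hx' hZ hx), fun h => ?_⟩
    by_contra hx
    refine h (irreducibleComponent x) ⟨irreducibleComponent_mem_irreducibleComponents x, ?_⟩ mem_irreducibleComponent
    intro e
    exact hx (Set.mem_singleton_iff.mp e ▸ mem_irreducibleComponent)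
  rw [this]
  exact ((hfin.sdiff).isClosed_biUnion fun Z' hZ' =>
    isClosed_of_mem_irreducibleComponents Z' hZ'.1).isOpen_compl

end Groth.Agent.S14401
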