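import Groth.Statements.S14404
import Groth.Agent.L06.FlatIrreducibleFibres

set_option autoImplicit false
set_option maxSynthPendingDepth 3
set_option linter.style.haveILetI false
universe u
open CategoryTheory AlgebraicGeometry
open FlatMor

namespace Groth.Agent.S14404

/-- Let k be a field, X and Y irreducible schemes of finite type over k and f : X ⟶ Y a flat k-morphism.
Then dim Y ≤ dim X, and for every point y of Y every irreducible component Z of the scheme-theoretic
fibre of f over y has dim Z + dim Y = dim X; that is, every non-empty fibre has all its irreducible
components of dimension dim X − dim Y. -/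
theorem result (k : Type u) [Field k]
    {X Y : Scheme.{u}} (qX : X ⟶ Spec (CommRingCat.of k)) (qY : Y ⟶ Spec (CommRingCat.of k))
    [LocallyOfFiniteType qX] [QuasiCompact qX] [LocallyOfFiniteType qY] [QuasiCompact qY]
    [IrreducibleSpace X] [IrreducibleSpace Y] (f : X ⟶ Y) (hf : f ≫ qY = qX) [Flat f] :
    topologicalKrullDim Y ≤ topologicalKrullDim X ∧
      ∀ (y : Y), ∀ Z ∈ irreducibleComponents (f.fiber y : Type u),
        topologicalKrullDim Z + topologicalKrullDim Y = topologicalKrullDim X := by
  exact Groth.L06.FlatIrreducibleFibres.main k qX qY f hf

end Groth.Agent.S14404
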