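import Groth.Statements.S14405
import Mathlib.NumberTheory.BernoulliPolynomials
import Mathlib.Algebra.Polynomial.Roots
import Mathlib.Algebra.Polynomial.Degree.Lemmas
import Mathlib.Tactic.Linarith
import Mathlib.Tactic.Positivity
import Mathlib.Tactic.FieldSimp

set_option autoImplicit false
open Polynomial
open HilbNum

namespace Groth.Agent.S14405

/-- Let φ be a function from the integers to the rationals and Q a nonzero polynomial with rational
coefficients of degree d such that φ(m) - φ(m-1) = Q(m) for every integer m. Then there is a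
polynomial P with rational coefficients, of degree d + 1, such that φ(m) = P(m) for every integer m.
(The explicit form of P in the binomial basis is not part of this statement.) -/
theorem result (φ : ℤ → ℚ) (d : ℕ) (Q : ℚ[X]) (hQ : Q ≠ 0)
    (hd : Q.natDegree = d) (h : ∀ m : ℤ, φ m - φ (m - 1) = Q.eval (m : ℚ)) :
    ∃ P : ℚ[X], P.natDegree = d + 1 ∧ ∀ m : ℤ, φ m = P.eval (m : ℚ) := by
  obtain ⟨P, hPdeg, hP⟩ : ∃ P : ℚ[X], P.natDegree ≤ d + 1 ∧
      ∀ x : ℚ, P.eval x - P.eval (x - 1) = Q.eval x := by
    refine ⟨∑ n ∈ Finset.range (d + 1),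
      C (Q.coeff n / ((n : ℚ) + 1)) * (Polynomial.bernoulli (n + 1)).comp (X + 1), ?_, ?_⟩
    · refine natDegree_sum_le_of_forall_le _ _ fun n hn => ?_
      refine (natDegree_C_mul_le _ _).trans ?_
      rw [natDegree_comp]
      have hb : (Polynomial.bernoulli (n + 1)).natDegree ≤ n + 1 := by
        rw [natDegree_le_iff_coeff_eq_zero]
        intro N hN
        rw [coeff_bernoulli, if_neg (by omega)]
      have h1 : (X + 1 : ℚ[X]).natDegree = 1 := by
        rw [show (1 : ℚ[X]) = C 1 from C_1.symm, natDegree_X_add_C]
      rw [h1, mul_one]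
      exact hb.trans (by have := Finset.mem_range.1 hn; omega)
    · intro x
      simp only [eval_finsetSum, eval_mul, eval_C, eval_comp, eval_add, eval_X, eval_one]
      rw [← Finset.sum_sub_distrib, eval_eq_sum_range, hd]
      refine Finset.sum_congr rfl fun n _ => ?_
      have := bernoulli_eval_one_add (n + 1) x
      rw [sub_add_cancel, add_comm x 1, this]
      have hn : ((n : ℚ) + 1) ≠ 0 := by positivity
      push_cast
      field_simp
      ring
  refine ⟨P + C (φ 0 - P.eval 0), ?_, ?_⟩
  · rw [natDegree_add_C]
    refine le_antisymm hPdeg (Nat.succ_le_of_lt ?_)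
    by_contra hle
    have hle : P.natDegree ≤ d := Nat.le_of_not_lt hle
    have hQ' : Q = P - P.comp (X - C 1) :=
      Polynomial.funext fun x => by simp [← hP x]
    by_cases h0 : P.natDegree = 0
    · rw [eq_C_of_natDegree_eq_zero h0] at hQ'
      exact hQ (by simpa using hQ')
    · have hcd : (P.comp (X - C 1)).natDegree = P.natDegree := by
        rw [natDegree_comp, natDegree_X_sub_C, mul_one]
      have hP0 : P ≠ 0 := by rintro rfl; simp at h0
      have hc0 : P.comp (X - C 1) ≠ 0 := by
        intro hc; rw [hc, natDegree_zero] at hcd; exact h0 hcd.symm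
      have hdeg : P.degree = (P.comp (X - C 1)).degree := by
        rw [degree_eq_natDegree hP0, degree_eq_natDegree hc0, hcd]
      have hl : P.leadingCoeff = (P.comp (X - C 1)).leadingCoeff := by
        rw [leadingCoeff_comp (by rw [natDegree_X_sub_C]; simp), leadingCoeff_X_sub_C, one_pow, mul_one]
      have := degree_sub_lt_left hdeg hP0 hl
      rw [← hQ', degree_eq_natDegree hQ, degree_eq_natDegree hP0, hd, Nat.cast_lt] at this
      omega
  · intro m
    induction m using Int.induction_on with
    | zero => simp
    | succ i ih =>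
      have h1 := h ((i : ℤ) + 1)
      have h2 := hP ((i : ℚ) + 1)
      simp only [add_sub_cancel_right] at h1 h2
      simp only [eval_add, eval_C] at ih ⊢
      push_cast at *
      linarith
    | pred i ih =>
      have h1 := h (-(i : ℤ))
      have h2 := hP (-(i : ℚ))
      simp only [eval_add, eval_C] at ih ⊢
      push_cast at *
      linarith

end Groth.Agent.S14405
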