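import Groth.Statements.S14408
import Groth.Agent.L03.Euler.Lead
import Groth.Agent.L16.ProjSpace.AmpleIff
import Groth.Agent.L16.ProjSpace.CohTwist

set_option autoImplicit false
universe u
open CategoryTheory CategoryTheory.Limits AlgebraicGeometry
open HilbNum

namespace Groth.Agent.S14408

/-- Let k be an algebraically closed field, n a positive integer, F a nonzero coherent O-module on
projective n-space P over k (quasi-coherent of finite type), and P_F a polynomial with rational
coefficients such that P_F(m) = χ(F(m)) = Σ_{j ≤ n} (-1)^j dim_k H^j(P, F ⊗ O(m)) for every integer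
m. Then the degree of P_F equals the dimension of the support of F (the closed set of points where
the stalk of F is nonzero, with the subspace topology). The existence of such a polynomial is not
part of this statement; it enters through the hypothesis on P_F. -/
theorem result (k : Type u) [Field k] [IsAlgClosed k] (n : ℕ) (hn : 0 < n)
    (F : (CohB1.ProjSpace n k).Modules) (hF : Coh.IsCoh F) (hF0 : ¬ IsZero F) (P : Polynomial ℚ)
    (hP : ∀ m : ℤ,
      ((Finset.range (n + 1)).sum fun j => (-1 : ℚ) ^ j *
        (Module.finrank k (Coh.HH (CohB1.ProjSpace n k) (CohB1.tensorMod F (Twist.twistProjSpace n k m)) j) : ℚ)) =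
      P.eval (m : ℚ)) :
    topologicalKrullDim ↥(CohB1.support F) = (P.natDegree : WithBot ℕ∞) := by
  haveI : IsProper (CohB1.ProjSpace n k ↘ Spec (CommRingCat.of k)) :=
    Groth.L16.ProjSpace.isProper_toSpec n k
  have hamp : CohB1.IsAmple (Twist.twistProjSpace n k (1 : ℤ)) :=
    (Groth.L16.ProjSpace.isAmple_twistProjSpace_iff n k hn 1).2 one_pos
  have hne : (CohB1.support F).Nonempty := by
    rw [Set.nonempty_iff_ne_empty]
    exact fun h => hF0 ((Groth.L21.Mod.isZero_iff_support_eq_empty F).2 h)
  obtain ⟨d, hd⟩ : ∃ d : ℕ, topologicalKrullDim (CohB1.support F) = d := by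
    have h0 := Groth.L03.Euler.zero_le_topologicalKrullDim hne
    have h1 := (topologicalKrullDim_subspace_le _ (CohB1.support F)).trans
      (Groth.L16.ProjSpace.topologicalKrullDim_eq_of_field n k).le
    generalize topologicalKrullDim (CohB1.support F) = t at h0 h1
    induction t using WithBot.recBotCoe with
    | bot => exact absurd h0 (by simp)
    | coe t =>
      obtain ⟨t, rfl⟩ : ∃ i : ℕ, (i : ℕ∞) = t := ENat.ne_top_iff_exists.1 (by
        rintro rfl
        exact absurd (WithBot.coe_le_coe.1 h1) (by simp))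
      exact ⟨t, rfl⟩
  have hH : ShStab.IsHilbPoly k _ (Twist.twistProjSpace n k (1 : ℤ)) F P := by
    intro m
    obtain ⟨e⟩ := Groth.L16.ProjTwist.nonempty_tensorPow_twist_iso (CohB1.polyGrading n k) 1
      (fun x => by
        obtain ⟨i, hi⟩ := Groth.L16.ProjSpace.exists_mem_basicOpen_X n k x
        exact ⟨⟨MvPolynomial.X i, Groth.L16.ProjSpace.X_mem n k i⟩, hi⟩) m
    let e' : ShStab.twist _ (Twist.twistProjSpace n k (1 : ℤ)) F m ≅
        CohB1.tensorMod F (Twist.twistProjSpace n k (m : ℤ)) :=
      Groth.L00.Tensor.tensorIso (Iso.refl F) (e ≪≫ eqToIso (by rw [mul_one]; rfl))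
    rw [Groth.L03.Euler.euler_iso e']
    refine Eq.trans ?_ (hP m)
    haveI : IsLocallyNoetherian (CohB1.ProjSpace n k) :=
      LocallyOfFiniteType.isLocallyNoetherian (CohB1.ProjSpace n k ↘ Spec (CommRingCat.of k))
    have hq : Coh.IsCoh (CohB1.tensorMod F (Twist.twistProjSpace n k (m : ℤ))) :=
      Groth.L16.CohSupport.isCoh_of_iso (Groth.L00.Tensor.tensorIso (Iso.refl F) (e ≪≫ eqToIso (by rw [mul_one]; rfl)))
        (Groth.L03.Euler.isCoh_tensor (Groth.L18.Ample.isInvertible_tensorPow hamp.1 m) hF)
    haveI : Coh.IsQCoh (CohB1.tensorMod F (Twist.twistProjSpace n k (m : ℤ))) := hq.1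
    rw [Groth.L03.Euler.euler_eq_sum (N := n + 1) fun i hi =>
      Groth.L16.ProjSpace.subsingleton_HH_of_lt n k _ i (by omega)]
    push_cast
    rfl
  obtain ⟨h, -⟩ := Groth.L03.Euler.natDegree_eq_and_coeff_pos hamp hF hd hH
  rw [hd, h]

end Groth.Agent.S14408
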