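import Groth.Statements.S14410
import Groth.Agent.L10.TopCoh

set_option autoImplicit false
universe u
open CategoryTheory TopologicalSpace
open CohTop

namespace Groth.Agent.S14410

/-- Let X be a topological space and 0 → F₁ → F₂ → F₃ → 0 a short exact sequence of sheaves of abelian
groups on X. If F₁ and F₃ are flasque (every restriction map is surjective), then F₂ is flasque.
(The published statement is for O_X-modules on a ringed space and is an equivalence; this row states
the implication from the outer terms to the middle term, for the underlying abelian sheaves.) -/
theorem result (X : TopCat.{u})
    (S : ShortComplex (TopCat.Sheaf AddCommGrpCat.{u} X)) (hS : S.ShortExact)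
    [S.X₁.IsFlasque] [S.X₃.IsFlasque] : S.X₂.IsFlasque := by
  exact Groth.L10.TopCoh.isFlasque_of_shortExact_outer S hS

end Groth.Agent.S14410
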