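import Groth.Agent.L18.ClosedImmCrit
import Groth.Statements.S14411
-- import your own Groth.Agent.* helpers here

set_option autoImplicit false
universe u
open CategoryTheory CategoryTheory.Limits AlgebraicGeometry TopologicalSpace
open ProjDeg

namespace Groth.Agent.S14411

/-- Let k be an algebraically closed field, Y a complete variety over k — a reduced scheme with a proper
structure morphism to Spec k, not assumed projective — and f : Y → P^n_k a k-morphism, corresponding
to L = f^*O(1) and the sections s_j = f^*(T_j); let W ⊆ Γ(Y, L) be the k-span of the s_j (it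
generates L). Then f is a closed immersion precisely when both of the following hold: (1) W
separates points: for any two distinct closed points P, Q there is s ∈ W whose germ lies in m_P L_P
but not in m_Q L_Q, or the other way round; and (2) W separates tangent directions: for every closed
point P the germs of the elements of W vanishing at P span m_P L_P / m_P² L_P (together with m_P²
L_P they span m_P L_P over O_{Y,P}). Y is only assumed proper over k and reduced, not projective. -/
theorem result (k : Type u) [Field k]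
    [IsAlgClosed k] (X : Scheme.{u}) [IsReduced X] (pX : X ⟶ Spec (CommRingCat.of k)) [IsProper pX]
    (n : ℕ) (f : X ⟶ CohB1.ProjSpace n k) (hf : f ≫ CohB1.ProjSpace.toSpec n k = pX) :
    IsClosedImmersion f ↔
      ((∀ P Q : ↥X, IsClosed ({P} : Set ↥X) → IsClosed ({Q} : Set ↥X) → P ≠ Q →
          ∃ c : Fin (n + 1) → k,
            ((((Scheme.Modules.pullback f).obj (Twist.twistProjSpace n k 1)).presheaf.germ ⊤ P trivial).hom (∑ j, ProjUP.toGlobal pX (c j) • ProjUP.pullSec f (Twist.twistProjSpace n k 1) (ProjUP.coord n k j)) ∈ (IsLocalRing.maximalIdeal ↑(X.presheaf.stalk P) • (⊤ : Submodule ↑(X.presheaf.stalk P) ↑(((Scheme.Modules.pullback f).obj (Twist.twistProjSpace n k 1)).presheaf.stalk P))) ∧ (((Scheme.Modules.pullback f).obj (Twist.twistProjSpace n k 1)).presheaf.germ ⊤ Q trivial).hom (∑ j, ProjUP.toGlobal pX (c j) • ProjUP.pullSec f (Twist.twistProjSpace n k 1) (ProjUP.coord n k j)) ∉ (IsLocalRing.maximalIdeal ↑(X.presheaf.stalk Q) • (⊤ : Submodule ↑(X.presheaf.stalk Q) ↑(((Scheme.Modules.pullback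 f).obj (Twist.twistProjSpace n k 1)).presheaf.stalk Q)))) ∨
            ((((Scheme.Modules.pullback f).obj (Twist.twistProjSpace n k 1)).presheaf.germ ⊤ Q trivial).hom (∑ j, ProjUP.toGlobal pX (c j) • ProjUP.pullSec f (Twist.twistProjSpace n k 1) (ProjUP.coord n k j)) ∈ (IsLocalRing.maximalIdeal ↑(X.presheaf.stalk Q) • (⊤ : Submodule ↑(X.presheaf.stalk Q) ↑(((Scheme.Modules.pullback f).obj (Twist.twistProjSpace n k 1)).presheaf.stalk Q))) ∧ (((Scheme.Modules.pullback f).obj (Twist.twistProjSpace n k 1)).presheaf.germ ⊤ P trivial).hom (∑ j, ProjUP.toGlobal pX (c j) • ProjUP.pullSec f (Twist.twistProjSpace n k 1) (ProjUP.coord n k j)) ∉ (IsLocalRing.maximalIdeal ↑(X.presheaf.stalk P) • (⊤ : Submodule ↑(X.presheaf.stalk P) ↑(((Scheme.Modules.pullback f).obj (Twist.twistProjSpace n k 1)).presheaf.stalk P))))) ∧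
        ∀ P : ↥X, IsClosed ({P} : Set ↥X) →
          (IsLocalRing.maximalIdeal ↑(X.presheaf.stalk P) • (⊤ : Submodule ↑(X.presheaf.stalk P) ↑(((Scheme.Modules.pullback f).obj (Twist.twistProjSpace n k 1)).presheaf.stalk P))) ≤
            Submodule.span ↑(X.presheaf.stalk P)
                {v | ∃ c : Fin (n + 1) → k, v = (((Scheme.Modules.pullback f).obj (Twist.twistProjSpace n k 1)).presheaf.germ ⊤ P trivial).hom (∑ j, ProjUP.toGlobal pX (c j) • ProjUP.pullSec f (Twist.twistProjSpace n k 1) (ProjUP.coord n k j)) ∧ v ∈ (IsLocalRing.maximalIdeal ↑(X.presheaf.stalk P) • (⊤ : Submodule ↑(X.presheaf.stalk P) ↑(((Scheme.Modules.pullback f).obj (Twist.twistProjSpace n k 1)).presheaf.stalk P)))} ⊔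
              (IsLocalRing.maximalIdeal ↑(X.presheaf.stalk P) ^ 2 • (⊤ : Submodule ↑(X.presheaf.stalk P) ↑(((Scheme.Modules.pullback f).obj (Twist.twistProjSpace n k 1)).presheaf.stalk P)))) := by
  refine ⟨fun h => ?_, fun ⟨h1, h2⟩ => ?_⟩
  · haveI : IsClosedImmersion (show X ⟶ Groth.L18.PUP.P n k from f) := h
    refine ⟨fun P Q hP hQ hne => ?_, Groth.L18.CIC.tan_of_isClosedImmersion pX f hf⟩
    obtain ⟨c, hc⟩ := Groth.L18.CIC.sep_of_isClosedImmersion pX f hf P Q hP hQ hne
    exact ⟨c, Or.inl hc⟩
  · refine Groth.L18.CIC.isClosedImmersion_of_sep_tan pX f hf (fun P Q hP hQ hne => ?_) h2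
    obtain ⟨c, hc⟩ := h1 P Q hP hQ hne
    refine ⟨c, fun e => ?_⟩
    rcases hc with ⟨a, b⟩ | ⟨a, b⟩
    · exact b (e.mp a)
    · exact b (e.mpr a)

end Groth.Agent.S14411
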