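import Groth.Statements.S14412
import Mathlib.Algebra.Category.ModuleCat.Projective
import Mathlib.Algebra.Homology.DerivedCategory.Ext.EnoughProjectives
import Mathlib.Algebra.Homology.DerivedCategory.Ext.Linear
import Mathlib.RingTheory.LocalProperties.Projective
import Mathlib.Algebra.Module.FinitePresentation

set_option autoImplicit false
universe u
open CategoryTheory
open CAlg

namespace Groth.Agent.S14412

open CategoryTheory CategoryTheory.Limits CategoryTheory.Abelian

variable {R : Type u} [CommRing R] (S : Submonoid R)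

noncomputable abbrev LF := ModuleCat.localizedModuleFunctor.{u} S

noncomputable instance smulTower_obj (M : ModuleCat.{u} R) : Module R ((LF S).obj M) :=
  inferInstanceAs (Module R (M.localizedModule S))

instance tower_obj (M : ModuleCat.{u} R) : IsScalarTower R (Localization S) ((LF S).obj M) :=
  inferInstanceAs (IsScalarTower R (Localization S) (M.localizedModule S))

theorem map_hom (M N : ModuleCat.{u} R) (f : M ⟶ N) :
    ((LF S).map f).hom = IsLocalizedModule.mapExtendScalars S (M.localizedModuleMkLinearMap S)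
      (N.localizedModuleMkLinearMap S) (Localization S) f.hom := rfl

theorem hom_surj (M N : ModuleCat.{u} R) [Module.FinitePresentation R M] (g : (LF S).obj M ⟶ (LF S).obj N) :
    ∃ (f : M ⟶ N) (s : S), algebraMap R (Localization S) (s : R) • g = (LF S).map f := by
  obtain ⟨⟨f, s⟩, hs⟩ := IsLocalizedModule.surj S
    (IsLocalizedModule.mapExtendScalars S (M.localizedModuleMkLinearMap S)
      (N.localizedModuleMkLinearMap S) (Localization S)) g.hom
  refine ⟨ModuleCat.ofHom f, s, ModuleCat.hom_ext ?_⟩
  rw [map_hom]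
  ext m
  exact (algebraMap_smul (Localization S) (s : R) (g.hom m)).trans (LinearMap.congr_fun hs m)

theorem hom_eq_zero (M N : ModuleCat.{u} R) [Module.FinitePresentation R M] (f : M ⟶ N)
    (hf : (LF S).map f = 0) : ∃ s : S, (s : R) • f = 0 := by
  obtain ⟨s, hs⟩ := (IsLocalizedModule.eq_zero_iff S
    (IsLocalizedModule.mapExtendScalars S (M.localizedModuleMkLinearMap S)
      (N.localizedModuleMkLinearMap S) (Localization S))).mp
      ((map_hom S M N f).symm.trans (congrArg ModuleCat.Hom.hom hf))
  exact ⟨s, ModuleCat.hom_ext hs⟩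

theorem map_smul_id (M : ModuleCat.{u} R) (r : R) :
    (LF S).map (r • 𝟙 M) = algebraMap R (Localization S) r • 𝟙 ((LF S).obj M) := by
  apply ModuleCat.hom_ext
  rw [map_hom]
  ext m
  simp
  exact rfl

variable {M N : ModuleCat.{u} R} {i : ℕ}

theorem mapExt_smul (r : R) (e : Ext M N i) :
    (LF S).mapExtAddHom M N i (r • e) = algebraMap R (Localization S) r • (LF S).mapExtAddHom M N i e := by
  simp only [Functor.mapExtAddHom_apply]
  conv_lhs => rw [← Ext.mk₀_id_comp e, ← Ext.smul_comp, ← Ext.mk₀_smul, Ext.mapExactFunctor_comp,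
    Ext.mapExactFunctor_mk₀, map_smul_id, Ext.mk₀_smul, Ext.smul_comp, Ext.mk₀_id_comp]

theorem of_smul_eq_zero {e : Ext M N i} (s : S) (h : (s : R) • e = 0) :
    (LF S).mapExtAddHom M N i e = 0 := by
  have h' := mapExt_smul S (s : R) e
  rw [h, map_zero] at h'
  exact ((IsLocalization.map_units (Localization S) s).smul_eq_zero).mp h'.symm

theorem exists_presentation [IsNoetherianRing R] (M : ModuleCat.{u} R) [Module.Finite R M] :
    ∃ (T : ShortComplex (ModuleCat.{u} R)) (_ : T.ShortExact), T.X₃ = M ∧ Projective T.X₂ ∧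
      Projective ((LF S).obj T.X₂) ∧ Module.Finite R T.X₁ ∧ Module.Finite R T.X₂ := by
  obtain ⟨n, π, hπ⟩ := Module.Finite.exists_fin' R M
  refine ⟨ShortComplex.mk (ModuleCat.ofHom π.ker.subtype) (ModuleCat.ofHom π)
    (by ext x; exact x.2), ?_, rfl, ?_, ?_, ?_, ?_⟩
  · exact { exact := (ShortComplex.ShortExact.moduleCat_exact_iff_function_exact _).mpr
              (LinearMap.exact_subtype_ker_map π)
            mono_f := (ModuleCat.mono_iff_injective _).mpr π.ker.injective_subtype
            epi_g := (ModuleCat.epi_iff_surjective _).mpr hπ }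
  · exact (IsProjective.iff_projective (R := R) (Fin n → R)).mp inferInstance
  · haveI hloc : IsLocalizedModule S ((ModuleCat.of R (Fin n → R)).localizedModuleMkLinearMap S) :=
      ModuleCat.localizedModule_isLocalizedModule (ModuleCat.of R (Fin n → R)) S
    haveI : Module.Projective (Localization S) ((ModuleCat.of R (Fin n → R)).localizedModule S) :=
      Module.projective_of_isLocalizedModule S ((ModuleCat.of R (Fin n → R)).localizedModuleMkLinearMap S)
    exact (IsProjective.iff_projective (R := Localization S) ((ModuleCat.of R (Fin n → R)).localizedModule S)).mp inferInstance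
  · exact inferInstanceAs (Module.Finite R π.ker)
  · exact inferInstanceAs (Module.Finite R (Fin n → R))

theorem main [IsNoetherianRing R] (N : ModuleCat.{u} R) :
    ∀ (i : ℕ) (M : ModuleCat.{u} R) [Module.Finite R M],
    (∀ y : Ext ((LF S).obj M) ((LF S).obj N) i, ∃ (e : Ext M N i) (s : S),
        algebraMap R (Localization S) (s : R) • y = (LF S).mapExtAddHom M N i e) ∧
      (∀ e : Ext M N i, (LF S).mapExtAddHom M N i e = 0 → ∃ s : S, (s : R) • e = 0) := by
  intro i
  induction i with
  | zero =>
    intro M _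
    haveI := Module.finitePresentation_of_finite R M
    constructor
    · intro y
      obtain ⟨g, rfl⟩ := (Ext.mk₀_bijective _ _).2 y
      obtain ⟨f, s, h⟩ := hom_surj S M N g
      refine ⟨Ext.mk₀ f, s, ?_⟩
      rw [Functor.mapExtAddHom_apply, Ext.mapExactFunctor_mk₀, ← h, Ext.mk₀_smul]
    · intro e he
      obtain ⟨f, rfl⟩ := (Ext.mk₀_bijective _ _).2 e
      rw [Functor.mapExtAddHom_apply, Ext.mapExactFunctor_mk₀] at he
      obtain ⟨s, hs⟩ := hom_eq_zero S M N f ((Ext.mk₀_bijective _ _).1 (he.trans (Ext.mk₀_zero _ _).symm))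
      exact ⟨s, by rw [← Ext.mk₀_smul, hs, Ext.mk₀_zero]⟩
  | succ n ih =>
    intro M _
    obtain ⟨T, hT, rfl, hP, hP', h1, h2⟩ := exists_presentation S M
    have hn : 1 + n = n + 1 := Nat.add_comm 1 n
    constructor
    · intro y
      haveI : Projective (T.map (LF S)).X₂ := hP'
      obtain ⟨z, rfl⟩ := Ext.contravariant_sequence_exact₃ (hT.map_of_exact (LF S)) _ y
        (Ext.eq_zero_of_projective _) hn
      obtain ⟨e, s, he⟩ := (ih T.X₁).1 z
      refine ⟨hT.extClass.comp e hn, s, ?_⟩
      rw [Functor.mapExtAddHom_apply] at he ⊢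
      rw [Ext.mapExactFunctor_comp, Ext.mapExactFunctor_extClass]
      exact (Ext.comp_smul _ _ hn _).symm.trans (congrArg (fun t => Ext.comp _ t hn) he)
    · intro e he
      obtain ⟨z, rfl⟩ := Ext.contravariant_sequence_exact₃ hT N e (Ext.eq_zero_of_projective _) hn
      rw [Functor.mapExtAddHom_apply, Ext.mapExactFunctor_comp, Ext.mapExactFunctor_extClass] at he
      obtain ⟨w, hw⟩ := Ext.contravariant_sequence_exact₁ (hT.map_of_exact (LF S)) _ _ hn he
      obtain ⟨w', s, hw'⟩ := (ih T.X₂).1 w
      have h0 : (LF S).mapExtAddHom T.X₁ N n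
          ((s : R) • z - (Ext.mk₀ T.f).comp w' (zero_add n)) = 0 := by
        rw [map_sub, mapExt_smul, sub_eq_zero]
        rw [Functor.mapExtAddHom_apply] at hw'
        rw [Functor.mapExtAddHom_apply, Functor.mapExtAddHom_apply, Ext.mapExactFunctor_comp,
          Ext.mapExactFunctor_mk₀, ← hw', Ext.comp_smul]
        exact congrArg _ hw.symm
      obtain ⟨t, ht⟩ := (ih T.X₁).2 _ h0
      refine ⟨t * s, ?_⟩
      rw [smul_sub, sub_eq_zero, smul_smul] at ht
      rw [Submonoid.coe_mul, ← Ext.comp_smul, ht, Ext.comp_smul, hT.extClass_comp_assoc, smul_zero]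

/-- Let R be a Noetherian commutative ring, S a multiplicative subset of R, and M, N finitely generated
R-modules. For i ≥ 0 consider the map Ext^i_R(M, N) → Ext^i_{S⁻¹R}(S⁻¹M, S⁻¹N) induced on Ext groups
(computed in the categories of modules) by the exact localization functor M ↦ S⁻¹M. Then this map
exhibits its target as the localization S⁻¹ Ext^i_R(M, N): every element of the target, after
multiplication by some s ∈ S, is the image of an element of Ext^i_R(M, N), and an element of
Ext^i_R(M, N) maps to zero if and only if it is annihilated by some element of S. (Equivalently, the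
induced map identifies S⁻¹Ext^i_R(M, N) with Ext^i_{S⁻¹R}(S⁻¹M, S⁻¹N).) -/
theorem result (R : Type u) [CommRing R] [IsNoetherianRing R]
    (S : Submonoid R) (M N : ModuleCat.{u} R) [Module.Finite R M] [Module.Finite R N] (i : ℕ) :
    (∀ y : Abelian.Ext ((ModuleCat.localizedModuleFunctor.{u} S).obj M) ((ModuleCat.localizedModuleFunctor.{u} S).obj N) i,
        ∃ (e : Abelian.Ext M N i) (s : S),
          algebraMap R (Localization S) (s : R) • y = (ModuleCat.localizedModuleFunctor.{u} S).mapExtAddHom M N i e) ∧
      (∀ e : Abelian.Ext M N i,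
        (ModuleCat.localizedModuleFunctor.{u} S).mapExtAddHom M N i e = 0 ↔ ∃ s : S, (s : R) • e = 0) := by
  exact ⟨(main S N i M).1, fun e => ⟨(main S N i M).2 e, fun ⟨s, h⟩ => of_smul_eq_zero S s h⟩⟩

end Groth.Agent.S14412
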