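import Groth.Statements.S14415
import Groth.Agent.L19.Ass.Basic
import Groth.Agent.L19.ConormalAffine
import Groth.Agent.L19.FinLocPush
import Groth.Agent.L01.Regular
import Mathlib.RingTheory.RegularLocalRing.Defs
import Mathlib.RingTheory.DiscreteValuationRing.TFAE
import Mathlib.RingTheory.Flat.TorsionFree
import Mathlib.RingTheory.Ideal.AssociatedPrime.Localization
import Mathlib.AlgebraicGeometry.Morphisms.Flat


set_option autoImplicit false
universe u
open CategoryTheory AlgebraicGeometry
open FlatMor

namespace Groth.Agent.S14415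

/-- Let f : C → C' be a finite morphism of schemes, with C' locally Noetherian and all local rings of C'
regular of dimension at most one, such that every associated point x of C (a point whose maximal
ideal is an associated prime of O_{C,x}) maps to a point of C' whose local ring is zero-dimensional,
that is, to a generic point of an irreducible component of C'. Then f_* O_C is finite locally free.
(The published statement takes C' regular Noetherian of pure dimension one and C Noetherian of pure
dimension one without embedded points; these hypotheses imply that every associated point of C maps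
to a generic point of C'. This row assumes only that condition, allows C' locally Noetherian with
regular local rings of dimension at most one, and puts no condition on the dimension of C; the
argument is local on C'.) -/
theorem result
    (C C' : Scheme.{u}) (f : C ⟶ C') [IsFinite f] [IsLocallyNoetherian C']
    (hreg : ∀ y : C', IsRegularLocalRing (C'.presheaf.stalk y))
    (hdim : ∀ y : C', ringKrullDim (C'.presheaf.stalk y) ≤ 1)
    (hass : ∀ x : C, Curv2.IsAssPoint (Coh.structureModule C) x →
      ringKrullDim (C'.presheaf.stalk (f.base x)) = 0) :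
    FlatMod.IsFinLocFree ((Coh.push f).obj (Coh.structureModule C)) := by
  haveI : IsLocallyNoetherian C := LocallyOfFiniteType.isLocallyNoetherian f
  haveI : LocallyOfFinitePresentation f := LocallyOfFinitePresentation.iff_locallyOfFiniteType.2 inferInstance
  haveI : Coh.IsQCoh (Coh.structureModule C) := Groth.L19.Conormal.isQCoh_structureModule C
  suffices hflat : Flat f from
    (Groth.L19.FinLocPush.isFinLocFree_push f ⟨inferInstance, hflat, inferInstance⟩).2
  rw [Flat.iff_flat_stalkMap]
  intro x
  haveI := hreg (f.base x)
  haveI : IsDomain (C'.presheaf.stalk (f.base x)) := Groth.L01.isDomain_of_regular _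
  haveI : IsPrincipalIdealRing (C'.presheaf.stalk (f.base x)) := by
    refine ((tfae_of_isNoetherianRing_of_isLocalRing_of_isDomain (C'.presheaf.stalk (f.base x))).out 5 0).1 ?_
    have h1 : (Module.finrank (IsLocalRing.ResidueField (C'.presheaf.stalk (f.base x)))
        (IsLocalRing.CotangentSpace (C'.presheaf.stalk (f.base x))) : WithBot ℕ∞) ≤ 1 := by
      rw [(IsRegularLocalRing.iff_finrank_cotangentSpace _).1 (hreg _)]
      exact hdim _
    exact_mod_cast h1
  let φ : C'.presheaf.stalk (f.base x) →+* C.presheaf.stalk x := (f.stalkMap x).hom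
  letI : Algebra (C'.presheaf.stalk (f.base x)) (C.presheaf.stalk x) := φ.toAlgebra
  show Module.Flat (C'.presheaf.stalk (f.base x)) (C.presheaf.stalk x)
  rw [Module.Flat.flat_iff_torsion_eq_bot_of_isBezout, eq_bot_iff]
  intro z hz
  obtain ⟨⟨a, ha⟩, haz⟩ := hz
  have haz' : φ a * z = 0 := haz
  have ha0 : a ≠ 0 := nonZeroDivisors.ne_zero ha
  rw [Submodule.mem_bot]
  by_contra hz0
  obtain ⟨P, hP, hle⟩ := exists_le_isAssociatedPrime_of_isNoetherianRing (C.presheaf.stalk x) z hz0
  have haP : φ a ∈ P := hle (Submodule.mem_colon_singleton.2 (by rw [Submodule.mem_bot]; exact haz'))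
  haveI := hP.isPrime
  obtain ⟨_, ⟨V, hV, rfl⟩, hxV, -⟩ :=
    C.isBasis_affineOpens.exists_subset_of_mem_open (Set.mem_univ x) isOpen_univ
  replace hV : IsAffineOpen V := hV
  haveI : IsNoetherianRing Γ(C, V) := IsLocallyNoetherian.component_noetherian ⟨V, hV⟩
  letI := C.presheaf.algebra_section_stalk ⟨x, hxV⟩
  haveI := hV.isLocalization_stalk ⟨x, hxV⟩
  haveI : IsLocalizedModule (hV.primeIdealOf ⟨x, hxV⟩).asIdeal.primeCompl
      (Algebra.linearMap Γ(C, V) (C.presheaf.stalk x)) :=
    (isLocalizedModule_iff_isLocalization' _ _).2 inferInstance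
  have hpA : P.comap (algebraMap Γ(C, V) (C.presheaf.stalk x)) ∈ associatedPrimes Γ(C, V) Γ(C, V) :=
    Module.associatedPrimes.comap_mem_associatedPrimes_of_mem_associatedPrimes_of_isLocalizedModule_of_fg
      (hV.primeIdealOf ⟨x, hxV⟩).asIdeal.primeCompl (Algebra.linearMap Γ(C, V) (C.presheaf.stalk x)) P hP
      (IsNoetherian.noetherian _)
  have hfζ := hass _ (Groth.L19.Ass.fromSpec_mem_ass (Coh.structureModule C) hV
    (p := P.comap (algebraMap Γ(C, V) (C.presheaf.stalk x))) hpA)
  let q : PrimeSpectrum (C'.presheaf.stalk (f.base x)) := PrimeSpectrum.comap φ ⟨P, hP.isPrime⟩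
  let o : PrimeSpectrum (C'.presheaf.stalk (f.base x)) := ⟨⊥, Ideal.isPrime_bot⟩
  have hp : (C'.fromSpecStalk (f.base x)).base q =
      f.base (hV.fromSpec ⟨P.comap (algebraMap Γ(C, V) (C.presheaf.stalk x)), inferInstance⟩) := by
    refine (congrArg (fun (g : Spec (C.presheaf.stalk x) ⟶ C') => g.base ⟨P, hP.isPrime⟩)
      (Scheme.SpecMap_stalkMap_fromSpecStalk f (x := x))).trans ?_
    rw [← hV.fromSpecStalk_eq_fromSpecStalk hxV]
    rfl
  rw [← hp, ringKrullDim_stalk_eq_coheight] at hfζ
  have hzero : Order.coheight ((C'.fromSpecStalk (f.base x)).base q) = 0 := by exact_mod_cast hfζ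
  have hspec : (C'.fromSpecStalk (f.base x)).base o ⤳ (C'.fromSpecStalk (f.base x)).base q :=
    ((PrimeSpectrum.le_iff_specializes o q).1 bot_le).map (C'.fromSpecStalk (f.base x)).continuous
  have hmax : IsMax ((C'.fromSpecStalk (f.base x)).base q) := Order.coheight_eq_zero.1 hzero
  have heq : (C'.fromSpecStalk (f.base x)).base q = (C'.fromSpecStalk (f.base x)).base o :=
    Inseparable.eq ((hmax hspec).antisymm hspec)
  have hop : q = o := (C'.fromSpecStalk (f.base x)).isEmbedding.injective heq
  have h5 : a ∈ q.asIdeal := haP
  rw [hop] at h5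
  exact ha0 h5

end Groth.Agent.S14415
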