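import Groth.Statements.S14416
import Mathlib.RingTheory.Finiteness.Nakayama
import Mathlib.LinearAlgebra.TensorProduct.RightExactness
import Mathlib.RingTheory.LocalRing.ResidueField.Ideal
import Mathlib.LinearAlgebra.Dimension.Finrank
import Mathlib.RingTheory.TensorProduct.Finite
import Mathlib.LinearAlgebra.FiniteDimensional.Basic

set_option autoImplicit false
universe u
open scoped TensorProduct
open CAlg

namespace Groth.Agent.S14416

/-- Let B → A be a ring map with A a finitely generated B-module such that for every prime ideal p of B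
the fibre κ(p) ⊗_B A has dimension at most one over the residue field κ(p). Then B → A is
surjective. In scheme language: a finite morphism whose degree at every point of the target is 0 or
1 is a closed immersion. (The published statement assumes the two schemes Noetherian; that
hypothesis plays no role and is dropped here.) -/
theorem result
    (B A : Type u) [CommRing B] [CommRing A] [Algebra B A] [Module.Finite B A]
    (h : ∀ p : PrimeSpectrum B,
      Module.finrank p.asIdeal.ResidueField (p.asIdeal.ResidueField ⊗[B] A) ≤ 1) :
    Function.Surjective (algebraMap B A) := by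
  classical
  let N : Submodule B A := LinearMap.range (Algebra.linearMap B A)
  suffices hN : N = ⊤ by
    intro a
    exact (hN ▸ Submodule.mem_top : a ∈ N)
  let Q := A ⧸ N
  have hQ : ∀ m : Ideal B, m.IsMaximal → (⊤ : Submodule B Q) ≤ m • ⊤ := by
    intro m hm
    let K := m.ResidueField
    have hs : Function.Surjective (algebraMap K (K ⊗[B] A)) := by
      by_cases h1 : (1 : K ⊗[B] A) = 0
      · exact fun z => ⟨0, by rw [map_zero, ← mul_one z, h1, mul_zero]⟩
      haveI : Nontrivial (K ⊗[B] A) := nontrivial_of_ne 1 0 h1
      have hr : Module.finrank K (LinearMap.range (Algebra.linearMap K (K ⊗[B] A))) = 1 := by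
        rw [LinearMap.finrank_range_of_inj (algebraMap K (K ⊗[B] A)).injective, Module.finrank_self]
      have htop := Submodule.eq_top_of_finrank_eq (K := K) (S := LinearMap.range (Algebra.linearMap K (K ⊗[B] A)))
        (le_antisymm (Submodule.finrank_le _) (by rw [hr]; exact h ⟨m, hm.isPrime⟩))
      exact fun z => (htop ▸ Submodule.mem_top : z ∈ LinearMap.range (Algebra.linearMap K (K ⊗[B] A)))
    intro q _
    obtain ⟨a, rfl⟩ := N.mkQ_surjective q
    obtain ⟨c, hc⟩ := hs (1 ⊗ₜ a)
    obtain ⟨b, rfl⟩ := Ideal.algebraMap_residueField_surjective m c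
    rw [← IsScalarTower.algebraMap_apply, Algebra.TensorProduct.algebraMap_apply] at hc
    have h0 : (1 : K) ⊗ₜ[B] (a - algebraMap B A b) = 0 := by
      rw [TensorProduct.tmul_sub, ← hc, sub_eq_zero, Algebra.algebraMap_eq_smul_one,
        Algebra.algebraMap_eq_smul_one, TensorProduct.smul_tmul]
    let e : (B ⧸ m) →ₐ[B] K := IsScalarTower.toAlgHom B (B ⧸ m) K
    have he : Function.Bijective e := Ideal.bijective_algebraMap_quotient_residueField m
    have h2 : (1 : B ⧸ m) ⊗ₜ[B] (a - algebraMap B A b) = 0 := by
      apply (TensorProduct.congr (AlgEquiv.ofBijective e he).toLinearEquiv (LinearEquiv.refl B A)).injective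
      rw [map_zero, TensorProduct.congr_tmul]
      simpa using h0
    have h3 : a - algebraMap B A b ∈ m • (⊤ : Submodule B A) := by
      have := congrArg (TensorProduct.quotTensorEquivQuotSMul A m) h2
      rwa [map_zero, ← map_one (Ideal.Quotient.mk m), TensorProduct.quotTensorEquivQuotSMul_mk_tmul, one_smul,
        Submodule.Quotient.mk_eq_zero] at this
    have h4 := Submodule.mem_map_of_mem (f := N.mkQ) h3
    rw [Submodule.map_smul'', Submodule.map_top, Submodule.range_mkQ, map_sub,
      (Submodule.Quotient.mk_eq_zero N).mpr ⟨b, rfl⟩ |>.trans rfl |> fun h => (show N.mkQ (algebraMap B A b) = 0 from h),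
      sub_zero] at h4
    exact h4
  by_contra hne
  obtain ⟨m, hm, hle⟩ := (Module.annihilator B Q).exists_le_maximal (by
    rw [Ne, Module.annihilator_eq_top_iff, Submodule.Quotient.subsingleton_iff]
    exact hne)
  obtain ⟨r, hr, hr0⟩ := Submodule.exists_sub_one_mem_and_smul_eq_zero_of_fg_of_le_smul m ⊤ Module.Finite.fg_top (hQ m hm)
  have hrm : r ∈ m := hle (Module.mem_annihilator.mpr fun q => hr0 q trivial)
  exact hm.ne_top ((Ideal.eq_top_iff_one m).mpr (by simpa using sub_mem hrm hr))

end Groth.Agent.S14416
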