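import Groth.Statements.S14417
import Groth.Agent.L21.Disc.OmegaStalk
import Groth.Agent.L06.SepKaehler
import Groth.Agent.L03.GeomReduced
import Groth.Agent.L05.SmoothCrit.Adapted
import Groth.Agent.L14.Quot.RelDim
-- import your own Groth.Agent.* helpers here

set_option autoImplicit false
universe u
open CategoryTheory AlgebraicGeometry
open Variety

namespace Groth.Agent.S14417

/-- Generic smoothness on the source: let π : X → Y be a dominant morphism of finite type between
integral Noetherian schemes, sending the generic point of X to that of Y, such that the function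
field K(Y) (equivalently K(X)) has characteristic zero, and let n be the transcendence degree of
K(X) over K(Y). Then there is a nonempty (equivalently dense) open subscheme U of X on which π
restricts to a smooth morphism U → Y of relative dimension n. -/
theorem result
    (X Y : Scheme.{u}) [IsIntegral X] [IsIntegral Y] [IsNoetherian X] [IsNoetherian Y]
    (π : X ⟶ Y) [LocallyOfFiniteType π] [QuasiCompact π]
    (hdom : π.base (genericPoint X) = genericPoint Y) [CharZero Y.functionField]
    (n : ℕ) (hn : @Algebra.trdeg (Y.presheaf.stalk (π.base (genericPoint X))) X.functionField _ _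
      (π.stalkMap (genericPoint X)).hom.toAlgebra = n) :
    ∃ U : X.Opens, (U : Set X).Nonempty ∧ SmoothOfRelativeDimension n (U.ι ≫ π) := by
  let η := genericPoint X
  haveI : LocallyOfFinitePresentation π := inferInstance
  let K := Y.presheaf.stalk (π η)
  let L := X.functionField
  have hKf : IsField K := by
    show IsField (Y.presheaf.stalk (π η))
    rw [show π η = genericPoint Y from hdom]
    exact Field.toIsField Y.functionField
  haveI : CharZero K := by
    show CharZero (Y.presheaf.stalk (π η))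
    rw [show π η = genericPoint Y from hdom]
    infer_instance
  letI := hKf.toField
  letI aKL : Algebra K L := (π.stalkMap η).hom.toAlgebra
  haveI : Algebra.EssFiniteType K L := LocallyOfFiniteType.stalkMap π η
  haveI : Algebra.FormallySmooth K L := Algebra.FormallySmooth.of_perfectField
  have hηs : η ∈ π.smoothLocus := Scheme.Hom.mem_smoothLocus.2 (show RingHom.FormallySmooth (algebraMap K L) from
    RingHom.formallySmooth_algebraMap.2 inferInstance)
  let U₀ := π.smoothLocus
  haveI : Smooth (U₀.ι ≫ π) := by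
    rw [← Scheme.Hom.smoothLocus_eq_top_iff, ← Scheme.Hom.preimage_smoothLocus_eq]
    ext u
    exact ⟨fun _ => trivial, fun _ => u.2⟩
  obtain ⟨W, m, hxW, hm⟩ := Groth.L14.Quot.exists_relativeDimension (U₀.ι ≫ π) ⟨η, hηs⟩
  let P : X.Opens := U₀.ι ''ᵁ W
  have hηP : η ∈ P := ⟨⟨η, hηs⟩, hxW, rfl⟩
  haveI hP : SmoothOfRelativeDimension m (P.ι ≫ π) := by
    have e : P.ι ≫ π = (U₀.ι.isoImage W).inv ≫ (W.ι ≫ U₀.ι ≫ π) := by
      rw [← Scheme.Hom.isoImage_inv_ι]
      simp only [Category.assoc]
    rw [e]
    exact (MorphismProperty.cancel_left_of_respectsIso (@SmoothOfRelativeDimension m) _ _).2 hm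
  refine ⟨P, ⟨η, hηP⟩, ?_⟩
  suffices h : n = m by rw [h]; exact hP
  obtain ⟨U, hU, V', hV', hxV', e', hstd⟩ :=
    SmoothOfRelativeDimension.exists_isStandardSmoothOfRelativeDimension (n := m) (f := P.ι ≫ π) ⟨η, hηP⟩
  let V : X.Opens := P.ι ''ᵁ V'
  have hV : IsAffineOpen V := hV'.image_of_isOpenImmersion P.ι
  have hηV : η ∈ V := ⟨⟨η, hηP⟩, hxV', rfl⟩
  have e : V ≤ π ⁻¹ᵁ U := by
    rintro y ⟨z, hz, rfl⟩
    exact e' hz
  have hηU : π η ∈ U := e hηV
  have hstd' : RingHom.IsStandardSmoothOfRelativeDimension m (π.appLE U V e).hom := by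
    have heq : (P.ι ≫ π).appLE U V' e' = π.appLE U V e ≫ (P.ι.appIso V').hom := by
      rw [Scheme.Hom.comp_appLE, Scheme.Hom.appIso_hom']
      simp [Scheme.Hom.app_eq_appLE, Scheme.Hom.appLE_comp_appLE, Scheme.Hom.appLE_map]
      erw [Category.comp_id, Scheme.Hom.appLE_map]
    rw [heq, CommRingCat.hom_comp] at hstd
    have h2 := RingHom.isStandardSmoothOfRelativeDimension_respectsIso.1 _
      (P.ι.appIso V').symm.commRingCatIsoToRingEquiv hstd
    convert h2 using 1
    ext a
    simp <;> rfl
  -- differentials at the generic point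
  letI algRS : Algebra Γ(Y, U) Γ(X, V) := (π.appLE U V e).hom.toAlgebra
  haveI hsm : Algebra.IsStandardSmoothOfRelativeDimension m Γ(Y, U) Γ(X, V) := hstd'
  haveI : Algebra.IsStandardSmooth Γ(Y, U) Γ(X, V) :=
    Algebra.IsStandardSmoothOfRelativeDimension.isStandardSmooth m
  letI := Y.presheaf.algebra_section_stalk (⟨π η, hηU⟩ : U)
  letI := X.presheaf.algebra_section_stalk (⟨η, hηV⟩ : V)
  haveI := hU.isLocalization_stalk ⟨π η, hηU⟩
  haveI := hV.isLocalization_stalk ⟨η, hηV⟩
  letI algRO : Algebra Γ(Y, U) (X.presheaf.stalk η) :=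
    ((algebraMap Γ(X, V) (X.presheaf.stalk η)).comp (algebraMap Γ(Y, U) Γ(X, V))).toAlgebra
  letI aKO : Algebra (Y.presheaf.stalk (π η)) (X.presheaf.stalk η) := (π.stalkMap η).hom.toAlgebra
  haveI : IsScalarTower Γ(Y, U) Γ(X, V) (X.presheaf.stalk η) := IsScalarTower.of_algebraMap_eq' rfl
  haveI : IsScalarTower Γ(Y, U) (Y.presheaf.stalk (π η)) (X.presheaf.stalk η) :=
    IsScalarTower.of_algebraMap_eq fun r => by
      show X.presheaf.germ V η hηV (π.appLE U V e r) = π.stalkMap η (Y.presheaf.germ U (π η) hηU r)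
      rw [Scheme.Hom.germ_stalkMap_apply]
      exact X.presheaf.germ_res_apply (homOfLE e) η hηV (π.app U r)
  haveI : Algebra.FormallyUnramified Γ(Y, U) (Y.presheaf.stalk (π η)) :=
    Algebra.FormallyUnramified.of_isLocalization (hU.primeIdealOf ⟨π η, hηU⟩).asIdeal.primeCompl
  haveI : Nonempty V.toScheme := ⟨⟨η, hηV⟩⟩
  haveI : Nontrivial Γ(X, V) := Scheme.component_nontrivial X V
  let M := (hV.primeIdealOf ⟨η, hηV⟩).asIdeal.primeCompl
  let b := Module.Free.chooseBasis Γ(X, V) (Ω[Γ(X, V)⁄Γ(Y, U)])
  let b' := b.ofIsLocalizedModule (X.presheaf.stalk η) M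
    (KaehlerDifferential.map Γ(Y, U) Γ(Y, U) Γ(X, V) (X.presheaf.stalk η))
  let b'' := b'.map (LinearEquiv.ofBijective _
    (Groth.L21.Disc.bijective_map_of_unramified (R := Γ(Y, U)) (A := Y.presheaf.stalk (π η))
      (O := X.presheaf.stalk η)))
  have hrank : Module.finrank L (Ω[L⁄K]) = m := by
    have h1 : Module.rank L (Ω[L⁄K]) = (m : Cardinal) := by
      rw [← b''.mk_eq_rank'', b.mk_eq_rank'',
        Algebra.IsStandardSmoothOfRelativeDimension.rank_kaehlerDifferential m]
    exact Module.finrank_eq_of_rank_eq h1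
  obtain ⟨-, hfin, hc⟩ := Groth.L06.SepKaehler.finrank_kaehler_eq K L
  have hle : Module.finrank L (Ω[L⁄K]) ≤ Cardinal.toNat (Algebra.trdeg K L) :=
    (Groth.L05.SmoothCrit.geomReduced_iff_finrank (k := K) L).1
      ((Groth.L03.GeomReduced.formallySmooth_iff K L).1 inferInstance)
  have hn' : Cardinal.toNat (Algebra.trdeg K L) = n := by
    rw [show Algebra.trdeg K L = (n : Cardinal) from hn, Cardinal.toNat_natCast]
  omega


end Groth.Agent.S14417
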