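import Groth.Statements.S14418
import Mathlib.Algebra.Homology.ShortComplex.ModuleCat
import Mathlib.RingTheory.Ideal.AssociatedPrime.Finiteness
import Mathlib.RingTheory.Nakayama
import Mathlib.Algebra.Category.ModuleCat.Abelian

set_option autoImplicit false
universe u
open CategoryTheory
open CAlg

namespace Groth.Agent.S14418

/-- Let B → A be a local homomorphism of Noetherian local rings, n the maximal ideal of B, and T an
additive functor from B-modules to A-modules which is B-linear (T applied to multiplication by b ∈ B
is multiplication by the image of b in A), carries finitely generated B-modules to finitely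
generated A-modules, and is half-exact on finitely generated modules (every short exact sequence of
finitely generated B-modules goes to a sequence exact at its middle term). If T(B/n) = 0 then T(N) =
0 for every finitely generated B-module N. (The published statement takes T defined on finitely
generated modules only; here T is defined on all B-modules while every hypothesis and the conclusion
concern finitely generated modules.) -/
theorem result {B A : Type u} [CommRing B] [CommRing A]
    [IsNoetherianRing B] [IsLocalRing B] [IsNoetherianRing A] [IsLocalRing A] [Algebra B A]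
    [IsLocalHom (algebraMap B A)] (T : ModuleCat.{u} B ⥤ ModuleCat.{u} A) [T.Additive]
    (hlin : ∀ (N : ModuleCat.{u} B) (b : B),
      T.map (ModuleCat.ofHom (b • (LinearMap.id : N →ₗ[B] N))) =
        ModuleCat.ofHom (algebraMap B A b • (LinearMap.id : T.obj N →ₗ[A] T.obj N)))
    (hfin : ∀ N : ModuleCat.{u} B, Module.Finite B N → Module.Finite A (T.obj N))
    (hex : ∀ S : ShortComplex (ModuleCat.{u} B), S.ShortExact → Module.Finite B S.X₁ →
      Module.Finite B S.X₂ → Module.Finite B S.X₃ → (S.map T).Exact)
    (h0 : Limits.IsZero (T.obj (ModuleCat.of B (B ⧸ IsLocalRing.maximalIdeal B))))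
    (N : ModuleCat.{u} B) [Module.Finite B N] : Limits.IsZero (T.obj N) := by
  have hiso : ∀ (N₁ N₂ : ModuleCat.{u} B), (N₁ ≅ N₂) → Limits.IsZero (T.obj N₁) → Limits.IsZero (T.obj N₂) :=
    fun N₁ N₂ e h => h.of_iso (T.mapIso e).symm
  have hex' : ∀ (N₁ N₂ N₃ : Type u) [AddCommGroup N₁] [Module B N₁] [Module.Finite B N₁]
      [AddCommGroup N₂] [Module B N₂] [Module.Finite B N₂] [AddCommGroup N₃] [Module B N₃]
      [Module.Finite B N₃] (f : N₁ →ₗ[B] N₂) (g : N₂ →ₗ[B] N₃), Function.Injective f →
      Function.Surjective g → Function.Exact f g →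
      Function.Exact (T.map (ModuleCat.ofHom f)).hom (T.map (ModuleCat.ofHom g)).hom := by
    intro N₁ N₂ N₃ _ _ _ _ _ _ _ _ _ f g hf hg hfg
    let S : ShortComplex (ModuleCat.{u} B) := ShortComplex.mk (ModuleCat.ofHom f) (ModuleCat.ofHom g)
      (ModuleCat.hom_ext (LinearMap.ext fun x => hfg.apply_apply_eq_zero x))
    have hS : S.ShortExact :=
      { exact := (ShortComplex.ShortExact.moduleCat_exact_iff_function_exact S).2 hfg
        mono_f := (ModuleCat.mono_iff_injective _).2 hf
        epi_g := (ModuleCat.epi_iff_surjective _).2 hg }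
    exact (ShortComplex.ShortExact.moduleCat_exact_iff_function_exact (S.map T)).1
      (hex S hS ‹_› ‹_› ‹_›)
  have hall : ∀ (J : Ideal B),
      (∀ q : Ideal B, q.IsPrime → J ≤ q → Limits.IsZero (T.obj (ModuleCat.of B (B ⧸ q)))) →
      ∀ (N' : Type u) [AddCommGroup N'] [Module B N'] [Module.Finite B N'],
        J ≤ Module.annihilator B N' → Limits.IsZero (T.obj (ModuleCat.of B N')) := by
    intro J hJ N' _ _ hfinN
    induction hfinN using IsNoetherianRing.induction_on_isQuotientEquivQuotientPrime B with
    | subsingleton P =>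
      intro _
      exact T.map_isZero (ModuleCat.isZero_of_subsingleton _)
    | quotient P q e =>
      intro hann
      refine hiso _ _ e.symm.toModuleIso (hJ q.1 q.2 ?_)
      rw [e.annihilator_eq, Ideal.annihilator_quotient] at hann
      exact hann
    | exact N₁ N₂ N₃ f g hf hg hfg h₁ h₃ =>
      intro hann
      have z₁ := h₁ (hann.trans (f.annihilator_le_of_injective hf))
      have z₃ := h₃ (hann.trans (g.annihilator_le_of_surjective hg))
      have hT := hex' N₁ N₂ N₃ f g hf hg hfg
      haveI := ModuleCat.subsingleton_of_isZero z₁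
      haveI := ModuleCat.subsingleton_of_isZero z₃
      rw [ModuleCat.isZero_iff_subsingleton]
      refine subsingleton_iff_forall_eq 0 |>.2 fun y => ?_
      obtain ⟨x, rfl⟩ := (hT y).1 (Subsingleton.elim _ _)
      rw [Subsingleton.elim x 0, map_zero]
  suffices hprime : ∀ q : Ideal B, q.IsPrime → Limits.IsZero (T.obj (ModuleCat.of B (B ⧸ q))) from
    hall ⊥ (fun q hq _ => hprime q hq) N bot_le
  intro q
  induction q using (IsWellFounded.wf : WellFounded (fun a b : Ideal B => a > b)).induction with
  | h q ih =>
    intro hq
    rcases eq_or_ne q (IsLocalRing.maximalIdeal B) with rfl | hne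
    · exact h0
    obtain ⟨x, hxm, hxq⟩ := SetLike.exists_of_lt
      (lt_of_le_of_ne (IsLocalRing.le_maximalIdeal hq.ne_top) hne)
    let Q := q ⊔ Ideal.span {x}
    let f : (B ⧸ q) →ₗ[B] (B ⧸ q) := x • LinearMap.id
    let g : (B ⧸ q) →ₗ[B] (B ⧸ Q) := Submodule.factor le_sup_left
    have hf : Function.Injective f := by
      rw [injective_iff_map_eq_zero]
      intro y hy
      obtain ⟨b, rfl⟩ := Submodule.Quotient.mk_surjective q y
      exact (Submodule.Quotient.mk_eq_zero _).2
        ((hq.mem_or_mem ((Submodule.Quotient.mk_eq_zero _).1 hy)).resolve_left hxq)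
    have hg : Function.Surjective g := Submodule.factor_surjective le_sup_left
    have hfg : Function.Exact f g := by
      intro y
      obtain ⟨b, rfl⟩ := Submodule.Quotient.mk_surjective q y
      constructor
      · intro hy
        obtain ⟨c, hc, d, hd, rfl⟩ := Submodule.mem_sup.1 ((Submodule.Quotient.mk_eq_zero Q).1 hy)
        obtain ⟨e, rfl⟩ := Ideal.mem_span_singleton'.1 hd
        exact ⟨Submodule.Quotient.mk e, (Submodule.Quotient.eq q).2
          (by simpa [mul_comm] using neg_mem hc)⟩
      · rintro ⟨r, hr⟩
        rw [← hr]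
        obtain ⟨r, rfl⟩ := Submodule.Quotient.mk_surjective q r
        exact (Submodule.Quotient.mk_eq_zero Q).2
          (Submodule.mem_sup_right (Ideal.mul_mem_right _ _ (Ideal.mem_span_singleton_self x)))
    have hQ : Limits.IsZero (T.obj (ModuleCat.of B (B ⧸ Q))) := by
      refine hall Q (fun r hr hQr => ih r ?_ hr) (B ⧸ Q) (by rw [Ideal.annihilator_quotient])
      exact lt_of_lt_of_le (lt_of_le_of_ne le_sup_left fun h => hxq (h ▸
        Submodule.mem_sup_right (Ideal.mem_span_singleton_self x))) hQr
    have hT := hex' _ _ _ f g hf hg hfg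
    haveI := ModuleCat.subsingleton_of_isZero hQ
    haveI := hfin (ModuleCat.of B (B ⧸ q)) inferInstance
    rw [hlin (ModuleCat.of B (B ⧸ q)) x] at hT
    rw [ModuleCat.isZero_iff_subsingleton, ← Submodule.subsingleton_iff A]
    refine subsingleton_of_bot_eq_top (Eq.symm ?_)
    refine Submodule.eq_bot_of_le_smul_of_le_jacobson_bot (Ideal.span {algebraMap B A x}) ⊤
      Module.Finite.fg_top ?_ ?_
    · intro y _
      obtain ⟨z, rfl⟩ := (hT y).1 (Subsingleton.elim _ _)
      exact Submodule.smul_mem_smul (Ideal.mem_span_singleton_self _) Submodule.mem_top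
    · rw [IsLocalRing.jacobson_eq_maximalIdeal ⊥ bot_ne_top, Ideal.span_le, Set.singleton_subset_iff]
      exact map_nonunit (algebraMap B A) x hxm

end Groth.Agent.S14418
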