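import Groth.Statements.S14421
import Mathlib.Algebra.Homology.ShortComplex.HomologicalComplex
import Mathlib.Algebra.Category.ModuleCat.Abelian

set_option autoImplicit false
universe u v
open CategoryTheory
open HomAlg

namespace Groth.Agent.S14421

open CategoryTheory.Limits

/-- Let φ : K → J be a morphism of cochain complexes of modules over a ring which is surjective in
degree p − 1. Then the map induced on cohomology in degree p is surjective if and only if the map
induced on cocycles in degree p is surjective. (Stated for cochain complexes indexed by the
integers; the published statement is for three-term complexes in degrees p − 1, p, p + 1, which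
embed as such complexes.) -/
theorem result {R : Type u} [Ring R]
    (K J : CochainComplex (ModuleCat.{v} R) ℤ) (φ : K ⟶ J) (p : ℤ) [Epi (φ.f (p - 1))] :
    Epi (HomologicalComplex.homologyMap φ p) ↔ Epi (HomologicalComplex.cyclesMap φ p) := by
  constructor
  · intro h
    refine Preadditive.epi_of_cancel_zero _ fun g hg => ?_
    have hnat : K.toCycles (p - 1) p ≫ HomologicalComplex.cyclesMap φ p = φ.f (p - 1) ≫ J.toCycles (p - 1) p := by
      simp [← cancel_mono (J.iCycles p)]
    have h1 : J.toCycles (p - 1) p ≫ g = 0 := by
      rw [← cancel_epi (φ.f (p - 1)), ← Category.assoc, ← hnat,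
        Category.assoc, hg, comp_zero, comp_zero]
    obtain ⟨l, hl⟩ : ∃ l, J.homologyπ p ≫ l = g :=
      ⟨_, (J.homologyIsCokernel (p - 1) p (by simp)).fac (CokernelCofork.ofπ g h1) WalkingParallelPair.one⟩
    have h2 : K.homologyπ p ≫ HomologicalComplex.homologyMap φ p ≫ l = 0 := by
      rw [← Category.assoc, HomologicalComplex.homologyπ_naturality, Category.assoc, hl, hg]
    rw [← hl, show l = 0 from (cancel_epi (K.homologyπ p ≫ HomologicalComplex.homologyMap φ p)).1
      (by rw [Category.assoc, h2, comp_zero]), comp_zero]
  · intro h
    exact epi_of_epi_fac (HomologicalComplex.homologyπ_naturality φ p)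

end Groth.Agent.S14421
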