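import Groth.Statements.S14423
import Groth.Agent.L28.Kun.Shift
import Mathlib.RingTheory.MvPolynomial.Homogeneous
import Mathlib.RingTheory.Nakayama
import Mathlib.RingTheory.Polynomial.Basic
import Mathlib.LinearAlgebra.Basis.Basic

set_option autoImplicit false
universe u
open CategoryTheory
open CAlg

namespace Groth.Agent.S14423

open scoped TensorProduct

/-- Graded freeness criterion: let k be a field, S = k[x_0, …, x_n] with its standard grading by degree,
and M a finitely generated graded S-module. If Tor_1^S(M, k) = 0, where k = S/S_+ (S modulo the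
ideal of polynomials with zero constant term) and Tor_1^S(M, ·) is the first left derived functor of
M ⊗_S ·, then M is free with a basis of homogeneous elements, i.e. M is isomorphic as a graded
module to a finite direct sum of shifted copies S(−d_i). (Here the module is graded in non-negative
degrees; the published statement allows any integer degrees.) -/
theorem result (k : Type u) [Field k] (n : ℕ)
    (M : Type u) [AddCommGroup M] [Module (MvPolynomial (Fin (n + 1)) k) M]
    [Module.Finite (MvPolynomial (Fin (n + 1)) k) M]
    (ℳ : ℕ → AddSubgroup M)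
    [SetLike.GradedSMul (MvPolynomial.homogeneousSubmodule (Fin (n + 1)) k) ℳ]
    [DirectSum.Decomposition ℳ]
    (h : Limits.IsZero (((Tor (ModuleCat.{u} (MvPolynomial (Fin (n + 1)) k)) 1).obj
      (ModuleCat.of (MvPolynomial (Fin (n + 1)) k) M)).obj
      (ModuleCat.of (MvPolynomial (Fin (n + 1)) k)
        (MvPolynomial (Fin (n + 1)) k ⧸
          RingHom.ker (MvPolynomial.constantCoeff : MvPolynomial (Fin (n + 1)) k →+* k))))) :
    ∃ (ι : Type u) (b : Module.Basis ι (MvPolynomial (Fin (n + 1)) k) M),
      ∀ i, SetLike.IsHomogeneousElem ℳ (b i) := by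
  classical
  set S := MvPolynomial (Fin (n + 1)) k
  set 𝒜 := MvPolynomial.homogeneousSubmodule (Fin (n + 1)) k
  set m : Ideal S := RingHom.ker (MvPolynomial.constantCoeff : S →+* k)
  -- components of `a • x`
  have hsm : ∀ (i j : ℕ) (a : S), a ∈ 𝒜 i → ∀ x ∈ ℳ j, a • x ∈ ℳ (i + j) := fun i j a ha x hx =>
    (inferInstance : SetLike.GradedSMul 𝒜 ℳ).smul_mem ha hx
  have hcomp : ∀ (d : ℕ) (a : S) (x : M), (DirectSum.decompose ℳ (a • x) d : M) =
      ∑ i ∈ Finset.range (a.totalDegree + 1), ∑ j ∈ (DirectSum.decompose ℳ x).support,
        if i + j = d then MvPolynomial.homogeneousComponent i a • (DirectSum.decompose ℳ x j : M) else 0 := by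
    intro d a x
    conv_lhs => rw [← MvPolynomial.sum_homogeneousComponent a, ← DirectSum.sum_support_decompose ℳ x,
      Finset.sum_smul_sum]
    have hsum : ∀ {ι : Type} (s : Finset ι) (F : ι → M),
        (DirectSum.decompose ℳ (∑ i ∈ s, F i) d : M) = ∑ i ∈ s, (DirectSum.decompose ℳ (F i) d : M) := by
      intro ι s F
      induction s using Finset.induction with
      | empty => simp
      | insert i s hi ih => simp [Finset.sum_insert hi, DirectSum.decompose_add, ih]
    simp only [hsum]
    refine Finset.sum_congr rfl fun i _ => ?_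
    refine Finset.sum_congr rfl fun j _ => ?_
    have hmem := hsm i j (MvPolynomial.homogeneousComponent i a) (MvPolynomial.homogeneousComponent_mem i a) _ (SetLike.coe_mem (DirectSum.decompose ℳ x j))
    split_ifs with h
    · subst h; exact DirectSum.decompose_of_mem_same ℳ hmem
    · exact DirectSum.decompose_of_mem_ne ℳ hmem h
  have hhom0 : ∀ a ∈ m, MvPolynomial.homogeneousComponent 0 a = 0 := fun a ha => by
    rw [MvPolynomial.homogeneousComponent_zero, ← MvPolynomial.constantCoeff_eq, RingHom.mem_ker.mp ha, map_zero]
  -- homogeneous generators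
  obtain ⟨G, hG⟩ := Module.Finite.fg_top (R := S) (M := M)
  let T : Finset M := G.biUnion fun x => (DirectSum.decompose ℳ x).support.image fun d => (DirectSum.decompose ℳ x d : M)
  have hTh : ∀ t ∈ T, SetLike.IsHomogeneousElem ℳ t := fun t ht => by
    obtain ⟨x, -, hx⟩ := Finset.mem_biUnion.mp ht
    obtain ⟨d, -, rfl⟩ := Finset.mem_image.mp hx
    exact ⟨d, SetLike.coe_mem _⟩
  have hTgen : Submodule.span S (T : Set M) = ⊤ := by
    refine eq_top_iff.mpr (hG ▸ Submodule.span_le.mpr fun x hx => ?_)
    rw [← DirectSum.sum_support_decompose ℳ x]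
    exact Submodule.sum_mem _ fun d hd => Submodule.subset_span
      (Finset.mem_biUnion.mpr ⟨x, hx, Finset.mem_image.mpr ⟨d, hd, rfl⟩⟩)
  obtain ⟨B, hB, hBmin⟩ := (T.powerset.filter fun B : Finset M => Submodule.span S (B : Set M) ⊔ m • ⊤ = ⊤).exists_minimal
    ⟨T, by simp [hTgen]⟩
  simp only [Finset.mem_filter, Finset.mem_powerset] at hB hBmin
  -- graded Nakayama
  have hBgen : Submodule.span S (B : Set M) = ⊤ := by
    set N := Submodule.span S (B : Set M)
    have hN : ∀ (d : ℕ), ∀ y ∈ N, (DirectSum.decompose ℳ y d : M) ∈ N := by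
      intro d y hy
      induction hy using Submodule.span_induction generalizing d with
      | mem t ht =>
        obtain ⟨e, he⟩ := hTh t (hB.1 ht)
        by_cases hed : e = d
        · subst hed; rw [DirectSum.decompose_of_mem_same ℳ he]; exact Submodule.subset_span ht
        · rw [DirectSum.decompose_of_mem_ne ℳ he hed]; exact N.zero_mem
      | zero => simp
      | add a b _ _ ha hb => simpa using N.add_mem (ha d) (hb d)
      | smul a x _ hx =>
        rw [hcomp]
        refine N.sum_mem fun i _ => N.sum_mem fun j _ => ?_
        split_ifs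
        exacts [N.smul_mem _ (hx j), N.zero_mem]
    have key : ∀ (d : ℕ) (x : M), x ∈ ℳ d → x ∈ N := by
      intro d
      induction d using Nat.strong_induction_on with
      | _ d ih =>
        intro x hx
        have hlow : ∀ y ∈ m • (⊤ : Submodule S M), (DirectSum.decompose ℳ y d : M) ∈ N := by
          intro y hy
          refine Submodule.smul_induction_on hy (fun a ha z _ => ?_) (fun a b ha hb => ?_)
          · rw [hcomp]
            refine N.sum_mem fun i _ => N.sum_mem fun j _ => ?_
            split_ifs with hij
            · by_cases hi : i = 0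
              · rw [hi, hhom0 a ha, zero_smul]; exact N.zero_mem
              · exact N.smul_mem _ (ih j (by omega) _ (SetLike.coe_mem _))
            · exact N.zero_mem
          · simpa using N.add_mem ha hb
        obtain ⟨u, hu, v, hv, huv⟩ := Submodule.mem_sup.mp (hB.2.ge (Submodule.mem_top (x := x)))
        rw [← DirectSum.decompose_of_mem_same ℳ hx, ← huv]
        simpa using N.add_mem (hN d u hu) (hlow v hv)
    refine eq_top_iff.mpr fun x _ => ?_
    rw [← DirectSum.sum_support_decompose ℳ x]
    exact N.sum_mem fun d _ => key d _ (SetLike.coe_mem _)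
  -- independence modulo `m`
  let π : (B →₀ S) →ₗ[S] M := Finsupp.linearCombination S fun t : B => (t : M)
  have hπs : Function.Surjective π := by
    rw [← LinearMap.range_eq_top, Finsupp.range_linearCombination]; simpa using hBgen
  have hind : ∀ c : B →₀ S, π c = 0 → ∀ t, c t ∈ m := by
    intro c hc t
    by_contra hct
    have hsub : (B.erase t) ⊆ T := (Finset.erase_subset _ _).trans hB.1
    suffices hmem : (t : M) ∈ Submodule.span S ((B.erase t : Finset M) : Set M) ⊔ m • ⊤ by
      have hnew : Submodule.span S ((B.erase t : Finset M) : Set M) ⊔ m • ⊤ = ⊤ := by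
        refine eq_top_iff.mpr (le_trans hB.2.ge (sup_le (Submodule.span_le.mpr fun x hx => ?_) le_sup_right))
        by_cases hxt : x = t
        · exact hxt ▸ hmem
        · exact Submodule.mem_sup_left (Submodule.subset_span (Finset.mem_erase.mpr ⟨hxt, hx⟩))
      exact Finset.notMem_erase (t : M) B (hBmin (y := B.erase t) ⟨hsub, hnew⟩ (Finset.erase_subset _ _) t.2)
    set u : k := MvPolynomial.constantCoeff (c t)
    have hu : u ≠ 0 := hct
    have hrest : c t • (t : M) ∈ Submodule.span S ((B.erase t : Finset M) : Set M) := by
      have : π c = c t • (t : M) + π (c.erase t) := by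
        conv_lhs => rw [← Finsupp.single_add_erase t c]
        simp [π]
      rw [hc, eq_comm, add_eq_zero_iff_eq_neg] at this
      rw [this]
      refine Submodule.neg_mem _ ?_
      simp only [π, Finsupp.linearCombination_apply, Finsupp.sum]
      refine Submodule.sum_mem _ fun s hs => Submodule.smul_mem _ _ (Submodule.subset_span ?_)
      rw [Finsupp.support_erase, Finset.mem_erase] at hs
      exact Finset.mem_erase.mpr ⟨fun e => hs.1 (Subtype.ext e), s.2⟩
    have hct' : c t - MvPolynomial.C u ∈ m := by rw [RingHom.mem_ker, map_sub, MvPolynomial.constantCoeff_C, sub_self]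
    have hgen : ∀ (r q w : S) (y : M), q * w = 1 → y = q • (r • y) - q • ((r - w) • y) := fun r q w y h => by
      rw [← smul_sub, ← sub_smul, sub_sub_cancel, smul_smul, h, one_smul]
    have hone := hgen (c t) (MvPolynomial.C u⁻¹) (MvPolynomial.C u) (t : M) (by rw [← map_mul, inv_mul_cancel₀ hu, map_one])
    exact Set.mem_of_eq_of_mem hone (Submodule.sub_mem _ (Submodule.mem_sup_left (Submodule.smul_mem _ _ hrest))
      (Submodule.mem_sup_right (Submodule.smul_mem _ _ (Submodule.smul_mem_smul hct' trivial))))
  -- `Tor₁ = 0` makes `M ⊗ m → M ⊗ S` injective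
  obtain ⟨eT⟩ := Groth.L28.Kun.nonempty_tor_one (X := M) (A := S) m.subtype (Submodule.mkQ m)
    Subtype.val_injective (LinearMap.exact_subtype_mkQ m) (Submodule.mkQ_surjective m)
  have hker : LinearMap.ker (LinearMap.lTensor M m.subtype) = ⊥ := by
    have := ModuleCat.subsingleton_of_isZero h
    have : Subsingleton (LinearMap.ker (LinearMap.lTensor M m.subtype)) := eT.symm.toEquiv.subsingleton
    exact Submodule.subsingleton_iff_eq_bot.mp this
  let N := LinearMap.ker π
  have hN : N ≤ m • N := by
    intro x hx
    let a : B → m := fun t => ⟨x t, hind x hx t⟩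
    let z : (B →₀ S) ⊗[S] m := ∑ t, Finsupp.single t (1 : S) ⊗ₜ a t
    have hz : π.rTensor m z = 0 := by
      rw [← Submodule.mem_bot S, ← hker, LinearMap.mem_ker]
      apply (TensorProduct.rid S M).injective
      rw [map_zero, ← LinearMap.mem_ker.mp hx]
      simp only [z, map_sum, LinearMap.rTensor_tmul, LinearMap.lTensor_tmul, TensorProduct.rid_tmul, π,
        Finsupp.linearCombination_single, one_smul, Submodule.coe_subtype]
      rw [Finsupp.linearCombination_apply, Finsupp.sum_fintype _ _ (by simp)]
    have hex : Function.Exact (Submodule.subtype N) π := LinearMap.exact_subtype_ker_map π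
    have hex' := rTensor_exact (R := S) (M := N) (N := B →₀ S) (P := M) m hex hπs
    obtain ⟨w, hw⟩ := (hex' z).mp hz
    let μ : (B →₀ S) ⊗[S] m →ₗ[S] (B →₀ S) := (TensorProduct.rid S _).toLinearMap ∘ₗ LinearMap.lTensor _ m.subtype
    have hxμ : x = μ z := by
      simp only [z, map_sum, μ, LinearMap.comp_apply, LinearMap.lTensor_tmul, LinearEquiv.coe_coe, TensorProduct.rid_tmul,
        Finsupp.smul_single, smul_eq_mul, mul_one]
      exact (Finsupp.univ_sum_single x).symm
    rw [hxμ, ← hw]
    clear hw
    induction w using TensorProduct.induction_on with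
    | zero => simp
    | tmul v a =>
      rw [LinearMap.rTensor_tmul]
      exact Submodule.smul_mem_smul a.2 v.2
    | add p q hp hq => rw [map_add, map_add]; exact add_mem hp hq
  obtain ⟨r, hr, hrN⟩ := Submodule.exists_sub_one_mem_and_smul_eq_zero_of_fg_of_le_smul m N (IsNoetherian.noetherian N) hN
  have hr0 : r ≠ 0 := fun h0 => by
    rw [h0, zero_sub, neg_mem_iff, RingHom.mem_ker, map_one] at hr
    exact one_ne_zero hr
  have hli : LinearIndependent S fun t : B => (t : M) := by
    show Function.Injective π
    rw [← LinearMap.ker_eq_bot]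
    refine (Submodule.eq_bot_iff _).mpr fun x hx => Finsupp.ext fun t => ?_
    have := DFunLike.congr_fun (hrN x hx) t
    simpa [hr0] using this
  refine ⟨B, Module.Basis.mk hli (by simpa using hBgen.ge), fun t => ?_⟩
  rw [Module.Basis.mk_apply]
  exact hTh _ (hB.1 t.2)

end Groth.Agent.S14423
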