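import Groth.Statements.S14424
import Groth.Agent.L04.CMBasic

set_option autoImplicit false
universe u
open LocCoh

namespace Groth.Agent.S14424

/-- Let R be a Noetherian ring. Then R is Cohen–Macaulay (every localization at a prime ideal is a
Cohen–Macaulay local ring) if and only if for every proper ideal a of R the a-depth of R equals the
height (codimension) of a. (The published statement defines a Cohen–Macaulay ring by its
localizations at maximal ideals; this row uses all prime ideals, an equivalent definition because
Cohen–Macaulayness passes to localizations.) -/
theorem result (R : Type u) [CommRing R] [IsNoetherianRing R] :
    LocCoh.IsCohenMacaulayRing R ↔ ∀ a : Ideal R, a ≠ ⊤ → LocCoh.idealDepth a R = a.height := by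
  exact Groth.L04.isCohenMacaulayRing_iff_height

end Groth.Agent.S14424
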