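import Groth.Statements.S14425
import Groth.Agent.L04.Depth2

set_option autoImplicit false
universe u
open LocCoh

namespace Groth.Agent.S14425

/-- Let (R, m) be a Noetherian local ring, M a nonzero finitely generated R-module and x_1, …, x_n
elements of m generating the ideal a. Then depth(a, M) = n if and only if x_1, …, x_n is an
M-regular sequence (each x_i a non-zero-divisor on M/(x_1, …, x_{i-1})M; the condition (x)M ≠ M is
automatic here). -/
theorem result {R : Type u} [CommRing R] [IsNoetherianRing R] [IsLocalRing R]
    {M : Type u} [AddCommGroup M] [Module R M] [Module.Finite R M] [Nontrivial M]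
    (xs : List R) (hxs : ∀ x ∈ xs, x ∈ IsLocalRing.maximalIdeal R) :
    LocCoh.idealDepth (Ideal.span {x | x ∈ xs}) M = xs.length ↔ RingTheory.Sequence.IsWeaklyRegular M xs := by
  exact Groth.L04.idealDepth_eq_length_iff xs hxs

end Groth.Agent.S14425
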