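import Groth.Statements.S14430
import Groth.Agent.S1028
import Groth.Agent.S1111
import Groth.Agent.S1052
import Groth.Agent.L17.CohVanLocFree
import Groth.Agent.L21.Smooth.Scheme
import Groth.Agent.L29.DCoh.PushPerfect

set_option autoImplicit false
set_option backward.defeqAttrib.useBackward true
set_option backward.isDefEq.respectTransparency false
set_option backward.isDefEq.respectTransparency.types false
set_option backward.defeqAttrib.useBackward true
set_option backward.isDefEq.respectTransparency false
universe u
open CategoryTheory CategoryTheory.Limits AlgebraicGeometry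
open KZero

attribute [local instance] HasDerivedCategory.standard
namespace Groth.Agent.S14430

/-- Let k be an algebraically closed field and X a smooth quasi-projective variety over k — here a
k-scheme smooth over k admitting an immersion into some P^N_k over k. Write K^0(X) for the
Grothendieck group of finite locally free O_X-modules and K_0(X) for that of coherent O_X-modules
(K_0 of the corresponding full subcategories of O_X-modules, with relations from short exact
sequences all of whose terms lie in the subcategory). Then there is a homomorphism K^0(X) → K_0(X)
sending the class of each finite locally free E to its class as a coherent module (the canonical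
one, determined by this), and it is bijective. (The published statement is for smooth
quasi-projective varieties; this row takes a k-scheme smooth over k with an immersion into some
P^N_k, reduced since smooth; irreducibility is not assumed.) -/
theorem result (k : Type u) [Field k] [IsAlgClosed k] (N : ℕ)
    (X : Scheme.{u}) [X.Over (Spec (CommRingCat.of k))] [Smooth (X ↘ Spec (CommRingCat.of k))]
    (ι : X ⟶ CohB1.ProjSpace N k) [IsImmersion ι] (hι : ι ≫ CohB1.ProjSpace.toSpec N k = X ↘ Spec (CommRingCat.of k)) :
    ∃ α : KZero.K0sub (fun M : X.Modules => FlatMod.IsFinLocFree M) →+ KZero.K0sub (fun M : X.Modules => Coh.IsCoh M),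
      (∀ E : X.Modules, FlatMod.IsFinLocFree E →
        α (KZero.clSub (fun M : X.Modules => FlatMod.IsFinLocFree M) E) = KZero.clSub (fun M : X.Modules => Coh.IsCoh M) E) ∧
      Function.Bijective α := by
  obtain ⟨hN, hres⟩ := Groth.L17.CohVanLocFree.hasResolutionProperty_of_immersion (X := X) k N ι
  haveI := hN
  obtain ⟨a, ha⟩ := Groth.Agent.S1028.result X hres
  obtain ⟨b, hb⟩ := Groth.Agent.S1111.result X
    (fun x => Groth.L21.Smooth.regular_stalk (X ↘ Spec (CommRingCat.of k)) x)
  obtain ⟨c, hc⟩ := Groth.Agent.S1052.result X
  let e := a.trans (b.trans c.symm)
  refine ⟨e.toAddMonoidHom, fun E hE => ?_, e.bijective⟩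
  have hp : DCoh.IsPerfect (DCoh.inD X E) := Groth.L29.DC.isPerfect_of_iso
    ((DerivedCategory.singleFunctorIsoCompQ X.Modules 0).app E).symm
    (Groth.L29.DC.PushPerfect.isPerfect_of_strictly (E := (HomologicalComplex.single X.Modules (ComplexShape.up ℤ) 0).obj E)
      ⟨⟨0, 0, fun i hi => HomologicalComplex.isZero_single_obj_X _ _ _ _ (by omega)⟩, fun i => by
        by_cases hi : i = 0
        · subst hi
          exact Groth.L29.LocFree.of_iso (HomologicalComplex.singleObjXSelf (ComplexShape.up ℤ) 0 E).symm hE
        · exact Groth.L29.LocFree.of_isZero (HomologicalComplex.isZero_single_obj_X _ _ _ _ hi)⟩)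
  change c.symm (b (a _)) = _
  rw [ha E hE, hb _ hp, AddEquiv.symm_apply_eq, hc E (Groth.L16.NegPow.isCoh_of_isFinLocFree hE)]

end Groth.Agent.S14430
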