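import Groth.Statements.S14431
import Groth.Agent.L24.Bertini.CharZero

set_option autoImplicit false
set_option backward.isDefEq.respectTransparency false
set_option backward.isDefEq.respectTransparency.types false
universe u
open CategoryTheory CategoryTheory.Limits AlgebraicGeometry
open Variety

namespace Groth.Agent.S14431

/-- Let k be an algebraically closed field of characteristic zero, X an integral k-scheme of finite type
which is smooth over k, L an invertible O_X-module and s_0, …, s_m global sections of L (morphisms
O_X → L) generating L, i.e. their zero schemes have empty intersection (the sum of their zero ideal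
sheaves is the unit ideal). Then the members of the linear system spanned by the s_i corresponding
to a nonempty Zariski-open set of parameters are smooth: there is a nonzero polynomial p in m + 1
variables over k such that for every c ∈ k^{m+1} with p(c) ≠ 0 the zero scheme of the section Σ c_i
s_i is smooth over k (equivalently, the corresponding divisor is reduced with smooth support). (The
published statement is for varieties, which are separated; this row does not assume X separated.) -/
theorem result (k : Type u) [Field k] [IsAlgClosed k] [CharZero k]
    (X : Scheme.{u}) [X.Over (Spec (CommRingCat.of k))] [IsIntegral X]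
    [Smooth (X ↘ Spec (CommRingCat.of k))] [QuasiCompact (X ↘ Spec (CommRingCat.of k))]
    (L : X.Modules) (hL : FlatMod.IsFinLocFreeOfRank 1 L) (m : ℕ)
    (s : Fin (m + 1) → (Coh.structureModule X ⟶ L))
    (hgen : ⨆ i : Fin (m + 1), PicF2.zeroScheme L (s i) = ⊤) :
    ∃ p : MvPolynomial (Fin (m + 1)) k, p ≠ 0 ∧ ∀ c : Fin (m + 1) → k, MvPolynomial.eval c p ≠ 0 →
      Smooth ((PicF2.zeroScheme L (∑ i : Fin (m + 1), Formal.smulMod k (Coh.structureModule X) (c i) ≫ s i)).subschemeι ≫
        (X ↘ Spec (CommRingCat.of k))) := by
  have hL' := Groth.L24.Bertini.isInvertible_of_rank hL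
  obtain ⟨q, hq, h⟩ := Groth.L24.Bertini.exists_poly_of_charts (k := k) hL' s 0 fun D e n af a _ he haf ha => by
    letI : Algebra k Γ(X, D.1) := (Groth.L22.SchemeDim.sectHom k X D.1).toAlgebra
    intro hst
    haveI := hst
    haveI : Algebra.IsStandardSmooth k Γ(X, D.1) :=
      Algebra.IsStandardSmoothOfRelativeDimension.isStandardSmooth n
    have h0 : af = 0 := he.inj le_rfl (by
      rw [Groth.L18.Frame.rs_self, haf, zero_smul]
      exact map_zero _)
    have hspan : Ideal.span (Set.range a) = ⊤ := by
      have e1 := congrArg (fun I : X.IdealSheafData => I.ideal D) hgen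
      simp only [Scheme.IdealSheafData.ideal_iSup, Scheme.IdealSheafData.ideal_top, iSup_apply, Pi.top_apply,
        fun i => Groth.L24.Bertini.zeroScheme_ideal_frame hL' (s i) D he (ha i)] at e1
      rw [← e1]
      exact Submodule.span_range_eq_iSup
    obtain ⟨P, hP0, hP⟩ := Groth.L24.Bertini.exists_poly_generated (k := k) a hspan
    refine ⟨P, hP0, fun c hc => ?_⟩
    rw [h0, zero_add]
    exact hP c hc
  refine ⟨q, hq, fun c hc => ?_⟩
  have := h c hc
  rwa [zero_add] at this

end Groth.Agent.S14431
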