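import Groth.Statements.S14434
import Groth.Agent.L01.PdRes

set_option autoImplicit false
universe u
open CAlg

namespace Groth.Agent.S14434

/-- Let R be a commutative ring, M an R-module and x ∈ R a non-zero-divisor on R and on M. Then
Tor_i^R(M, R/(x)) = 0 for all i ≥ 1 (Tor computed as the left derived functors of the tensor product
on R-modules). -/
theorem result {R : Type u} [CommRing R] (M : Type u) [AddCommGroup M] [Module R M]
    (x : R) (hxR : IsSMulRegular R x) (hxM : IsSMulRegular M x) (i : ℕ) (hi : 1 ≤ i) :
    Subsingleton (DRing.Tor R i M (R ⧸ Ideal.span {x})) := by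
  let μ : R →ₗ[R] R := x • LinearMap.id
  have hex : Function.Exact μ (Ideal.span {x}).mkQ := by
    intro y
    rw [Submodule.mkQ_apply, Submodule.Quotient.mk_eq_zero, Ideal.mem_span_singleton']
    exact ⟨fun ⟨a, ha⟩ => ⟨a, by simp [μ, ← ha, mul_comm]⟩, fun ⟨a, ha⟩ => ⟨a, by simp [μ, ← ha, mul_comm]⟩⟩
  have hμ : Function.Injective μ := hxR
  match i, hi with
  | 1, _ =>
    obtain ⟨f⟩ := Groth.L28.Kun.nonempty_tor_one M μ (Ideal.span {x}).mkQ hμ hex (Submodule.mkQ_surjective _)
    haveI : Subsingleton (LinearMap.ker (μ.lTensor M)) := by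
      refine Submodule.subsingleton_iff_eq_bot.mpr (LinearMap.ker_eq_bot.mpr ?_)
      intro a b hab
      refine (TensorProduct.rid R M).injective (hxM ?_)
      have hμ' : ∀ z, μ.lTensor M z = x • z := fun z => by
        induction z using TensorProduct.induction_on with
        | zero => simp
        | tmul m r => simp [μ, TensorProduct.tmul_smul]
        | add u v hu hv => rw [map_add, hu, hv, smul_add]
      rw [hμ', hμ'] at hab
      simpa using congrArg (TensorProduct.rid R M) hab
    exact f.injective.subsingleton
  | k + 2, _ =>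
    obtain ⟨f⟩ := Groth.L28.Kun.nonempty_tor_succ M μ (Ideal.span {x}).mkQ hμ hex (Submodule.mkQ_surjective _) k
    haveI : Subsingleton (DRing.Tor R (k + 1) M R) :=
      ModuleCat.subsingleton_of_isZero (Groth.L28.TorFacts.isZero_of_flat_right _ _ k)
    exact f.injective.subsingleton

end Groth.Agent.S14434
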