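import Groth.Statements.S14436
import Groth.Agent.L01.SepKaehler
import Mathlib.RingTheory.AlgebraicIndependent.TranscendenceBasis
import Mathlib.LinearAlgebra.Dimension.Constructions

set_option autoImplicit false
universe u
open CAlg

namespace Groth.Agent.S14436

/-- Let L/K be a finitely generated field extension which is separable in the sense that it has a
transcendence basis a_1, …, a_n over which L is a (finite) separable extension of K(a_1, …, a_n).
Then dim_L Ω_{L/K} = n, the transcendence degree of L over K. -/
theorem result (K L : Type u) [Field K] [Field L] [Algebra K L]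
    (hfg : ∃ s : Finset L, IntermediateField.adjoin K (s : Set L) = ⊤)
    (n : ℕ) (a : Fin n → L) (ha : IsTranscendenceBasis K a)
    (hsep : Algebra.IsSeparable ↥(IntermediateField.adjoin K (Set.range a)) L) :
    Module.finrank L (Ω[L⁄K]) = n := by
  obtain ⟨b, -⟩ := Groth.L01.SepKaehler.exists_kaehler_basis K L (fun i : ULift.{u} (Fin n) => a i.down)
    (ha.1.comp _ ULift.down_injective) (by
      rw [show Set.range (fun i : ULift.{u} (Fin n) => a i.down) = Set.range a from
        Equiv.ulift.surjective.range_comp a]
      exact hsep)
  rw [Module.finrank_eq_card_basis b, Fintype.card_ulift, Fintype.card_fin]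

end Groth.Agent.S14436
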