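import Groth.Statements.S14438
import Mathlib.RingTheory.LocalRing.Length
import Mathlib.RingTheory.Spectrum.Prime.Topology
import Mathlib.RingTheory.Artinian.Module
import Mathlib.RingTheory.Artinian.Ring
import Mathlib.RingTheory.TensorProduct.Quotient
import Mathlib.RingTheory.TensorProduct.Finite
import Mathlib.LinearAlgebra.Dimension.Constructions
import Mathlib.Algebra.Module.LocalizedModule.IsLocalization
import Mathlib.RingTheory.Ideal.Over
import Mathlib.Data.ENat.BigOperators
import Mathlib.RingTheory.Length
import Mathlib.RingTheory.LocalRing.Module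
import Mathlib.RingTheory.Spectrum.Prime.Noetherian
import Mathlib.RingTheory.LocalRing.ResidueField.Ideal

set_option autoImplicit false
set_option linter.style.haveILetI false
universe u
open CAlg

namespace Groth.Agent.S14438

/-- Let (A, m) be a local ring, B a commutative A-algebra which is free of finite rank d as an A-module,
and assume that for every maximal ideal n of B containing mB the induced map of residue fields A/m →
B/n is bijective (as for the points of a fibre of a finite flat morphism of varieties over an
algebraically closed field). Then the multiplicities of the points of the fibre add up to the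
degree: the sum over all such n of the length of the B_n-module (B/mB)_n equals d. -/
theorem result (A B : Type u) [CommRing A] [IsLocalRing A] [CommRing B] [Algebra A B]
    [Module.Free A B] [Module.Finite A B] (d : ℕ) (hd : Module.finrank A B = d)
    (hres : ∀ (n : Ideal B) [n.IsMaximal] (h : Ideal.map (algebraMap A B) (IsLocalRing.maximalIdeal A) ≤ n),
      Function.Bijective (Ideal.quotientMap n (algebraMap A B) (Ideal.map_le_iff_le_comap.mp h))) :
    finsum (fun n : {n : MaximalSpectrum B // Ideal.map (algebraMap A B) (IsLocalRing.maximalIdeal A) ≤ n.asIdeal} =>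
      Module.length (Localization.AtPrime n.1.asIdeal)
        (LocalizedModule n.1.asIdeal.primeCompl (B ⧸ Ideal.map (algebraMap A B) (IsLocalRing.maximalIdeal A)))) = (d : ℕ∞) := by
  classical
  set I : Ideal B := Ideal.map (algebraMap A B) (IsLocalRing.maximalIdeal A) with hI
  let k := A ⧸ IsLocalRing.maximalIdeal A
  letI : Field k := Ideal.Quotient.field _
  let C := B ⧸ I
  -- total length
  have hsurj : Function.Surjective (algebraMap A k) := Ideal.Quotient.mk_surjective
  have htot : Module.length A C = (d : ℕ∞) := by
    let e : C ≃ₐ[k] TensorProduct A k B :=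
      Algebra.TensorProduct.quotIdealMapEquivQuotTensor B (IsLocalRing.maximalIdeal A)
    rw [Module.length_eq_of_surjective (M := C) hsurj, e.toLinearEquiv.length_eq,
      Module.length_eq_finrank, Module.finrank_baseChange, hd]
  haveI : Module.Finite k C := Module.Finite.of_restrictScalars_finite A k C
  haveI : IsArtinianRing C := IsArtinianRing.of_finite k C
  haveI : Fintype (MaximalSpectrum C) := Fintype.ofFinite _
  have hsum : Module.length A C =
      ∑ Q : MaximalSpectrum C, Module.length A (Localization.AtPrime Q.asIdeal) :=
    (((MaximalSpectrum.toPiLocalizationEquiv C).restrictScalars A).toLinearEquiv.length_eq).trans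
      (Module.length_pi_of_fintype _ _)
  -- bijection of indices
  let E : MaximalSpectrum C ≃ {n : MaximalSpectrum B // I ≤ n.asIdeal} :=
  { toFun := fun Q =>
      ⟨⟨Q.asIdeal.comap (Ideal.Quotient.mk I),
        Ideal.comap_isMaximal_of_surjective _ Ideal.Quotient.mk_surjective⟩,
        le_of_eq_of_le (Ideal.mk_ker (I := I)).symm (Ideal.comap_mono bot_le)⟩
    invFun := fun n => ⟨n.1.asIdeal.map (Ideal.Quotient.mk I), by
      haveI := n.1.isMaximal
      refine (Ideal.map_eq_top_or_isMaximal_of_surjective (Ideal.Quotient.mk I)
        Ideal.Quotient.mk_surjective n.1.isMaximal).resolve_left ?_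
      intro h
      have := congrArg (Ideal.comap (Ideal.Quotient.mk I)) h
      rw [Ideal.comap_map_of_surjective _ Ideal.Quotient.mk_surjective, Ideal.comap_top,
        ← RingHom.ker_eq_comap_bot, Ideal.mk_ker, sup_eq_left.mpr n.2] at this
      exact n.1.isMaximal.ne_top this⟩
    left_inv := fun Q => MaximalSpectrum.ext
      (Ideal.map_comap_of_surjective _ Ideal.Quotient.mk_surjective _)
    right_inv := fun n => Subtype.ext (MaximalSpectrum.ext (by
      show Ideal.comap _ (Ideal.map _ _) = _
      rw [Ideal.comap_map_of_surjective _ Ideal.Quotient.mk_surjective,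
        ← RingHom.ker_eq_comap_bot, Ideal.mk_ker, sup_eq_left.mpr n.2])) }
  haveI : Fintype {n : MaximalSpectrum B // I ≤ n.asIdeal} := Fintype.ofEquiv _ E
  rw [finsum_eq_sum_of_fintype, ← htot, hsum]
  symm
  refine Fintype.sum_equiv E _ _ (fun Q => ?_)
  show _ = Module.length (Localization.AtPrime (Q.asIdeal.comap (Ideal.Quotient.mk I)))
    (LocalizedModule (Q.asIdeal.comap (Ideal.Quotient.mk I)).primeCompl C)
  set n : Ideal B := Q.asIdeal.comap (Ideal.Quotient.mk I) with hn
  haveI hnm : n.IsMaximal := (E Q).1.isMaximal
  have hIn : I ≤ n := (E Q).2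
  haveI : Q.asIdeal.LiesOver n := ⟨rfl⟩
  haveI : IsLocalization (Algebra.algebraMapSubmonoid C n.primeCompl)
      (Localization.AtPrime Q.asIdeal) := by
    rw [Ideal.algebraMapSubmonoid_primeCompl_of_liesOver_surjective (p := n) (P := Q.asIdeal)
      (show Function.Surjective (algebraMap B C) from Ideal.Quotient.mk_surjective)]
    infer_instance
  let f := (IsScalarTower.toAlgHom B C (Localization.AtPrime Q.asIdeal)).toLinearMap
  let eQ : LocalizedModule n.primeCompl C ≃ₗ[B] Localization.AtPrime Q.asIdeal :=
    IsLocalizedModule.iso n.primeCompl f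
  rw [← (eQ.restrictScalars A).length_eq]
  haveI : IsLocalHom (algebraMap A (Localization.AtPrime n)) := ⟨fun a ha => by
    by_contra h
    have h1 : algebraMap A B a ∈ n := hIn (Ideal.mem_map_of_mem _ h)
    rw [IsScalarTower.algebraMap_apply A B (Localization.AtPrime n),
      IsLocalization.AtPrime.isUnit_to_map_iff (Localization.AtPrime n) n] at ha
    exact ha h1⟩
  rw [IsLocalRing.length_restrictScalars A (Localization.AtPrime n)]
  suffices h : Module.length (IsLocalRing.ResidueField A)
      (IsLocalRing.ResidueField (Localization.AtPrime n)) = 1 by rw [h, mul_one]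
  have hb : Function.Bijective (algebraMap (IsLocalRing.ResidueField A)
      (IsLocalRing.ResidueField (Localization.AtPrime n))) := by
    refine ⟨RingHom.injective _, fun y => ?_⟩
    obtain ⟨b, hb⟩ := (Ideal.bijective_algebraMap_quotient_residueField n).2 y
    obtain ⟨a, ha⟩ := (hres n hIn).2 b
    obtain ⟨a', rfl⟩ := Ideal.Quotient.mk_surjective a
    refine ⟨IsLocalRing.residue A a', ?_⟩
    rw [← hb, ← ha]
    rfl
  rw [← (AlgEquiv.ofBijective (Algebra.ofId (IsLocalRing.ResidueField A)
      (IsLocalRing.ResidueField (Localization.AtPrime n))) hb).toLinearEquiv.length_eq]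
  exact Module.length_eq_one _ _


end Groth.Agent.S14438
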