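import Groth.Statements.S1444
import Groth.Agent.L12.GenusZero.Local

set_option autoImplicit false
universe u
open FlatMor

namespace Groth.Agent.S1444

open AlgebraicGeometry CategoryTheory Limits in
/-- Let f : X → Y be proper with Y affine, all fibres of f of dimension at most 1, and H¹(X_y, O_{X_y})
= 0 for every point y of Y. Then H¹(X, F) = 0 for every quasi-coherent O_X-module F which is
globally generated (a quotient of a direct sum of copies of the structure sheaf). -/
theorem result {X Y : Scheme.{u}} (f : X ⟶ Y) [IsProper f] [IsAffine Y]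
    (hdim : ∀ y : Y, topologicalKrullDim ↑(f.fiber y) ≤ 1) (hH1 : ∀ y : Y, Subsingleton (Coh.HH (f.fiber y) (Coh.structureModule (f.fiber y)) 1))
    (F : X.Modules) (hF : Coh.IsQCoh F) (ι : Type u) (e : (∐ fun _ : ι => Coh.structureModule X) ⟶ F) [Epi e] :
    Subsingleton (Coh.HH X F 1) := by
  haveI : CompactSpace X := QuasiCompact.compactSpace_of_compactSpace f
  haveI : X.IsSeparated := ⟨by rw [← terminal.comp_from f]; infer_instance⟩
  have h2 : Groth.L12.GenusZero.RightExact X := fun M hM =>
    haveI := hM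
    Groth.L12.GenusZero.subsingleton_HH_above_isAffine (d := 1) f hdim M one_lt_two
  let ψ := Y.isoSpec.inv
  have sq : IsPullback (𝟙 X) (f ≫ Y.isoSpec.hom) f ψ :=
    IsPullback.of_horiz_isIso ⟨by simp [ψ]⟩
  have h1 : Subsingleton (Coh.HH X (Coh.structureModule X) 1) :=
    Groth.L12.GenusZero.subsingleton_h1_structure (A := Γ(Y, ⊤)) (f ≫ Y.isoSpec.hom)
      (fun z => Groth.L12.GenusZero.fiber_dim_le_of_isPullback sq z (hdim _)) f ψ (𝟙 X) sq
      fun z _ => ⟨hdim _, hH1 _⟩
  exact Groth.L12.GenusZero.subsingleton_h1_globallyGenerated h2 h1 hF e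

end Groth.Agent.S1444
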