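import Groth.Statements.S14440
import Groth.Agent.L15.HilbGrowth
import Groth.Agent.L12.GrCI.Hilbert
import Groth.Agent.L12.GrCI.Regular
import Mathlib.RingTheory.Jacobson.Artinian
-- import your own Groth.Agent.* helpers here

set_option autoImplicit false
universe u
open ProjDeg

namespace Groth.Agent.S14440

open MvPolynomial in
theorem hilb_mul {k : Type u} [Field k] {n : ℕ} {f : Fin n → MvPolynomial (Fin (n + 1)) k} {d : Fin n → ℕ}
    (hd : ∀ i, 1 ≤ d i) (hf : ∀ i, (f i).IsHomogeneous (d i))
    (hdim : ringKrullDim (MvPolynomial (Fin (n + 1)) k ⧸ Ideal.span (Set.range f)) ≤ 1) :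
    Groth.L12.GrCI.hilb (1 : Fin (n + 1) → ℕ) (Ideal.span (Set.range f)) * (1 - PowerSeries.X) ^ (n + 1) =
      ∏ i, (1 - (PowerSeries.X : PowerSeries ℤ) ^ (d i)) := by
  classical
  have hJ : (Ideal.span (Set.range f)).IsHomogeneous (CohB1.polyGrading n k) :=
    Ideal.homogeneous_span _ _ (by rintro _ ⟨i, rfl⟩; exact ⟨d i, hf i⟩)
  obtain ⟨e, he, h, hh, hcut⟩ := Groth.L15.HilbGrowth.exists_cut hJ
  have h0 : ringKrullDim (MvPolynomial (Fin (n + 1)) k ⧸ Ideal.span (Set.range f) ⊔ Ideal.span {h}) ≤ 0 := by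
    exact_mod_cast hcut 0 (by exact_mod_cast hdim)
  let g : Fin (n + 1) → MvPolynomial (Fin (n + 1)) k := Fin.snoc f h
  have hgr : Ideal.span (Set.range g) = Ideal.span (Set.range f) ⊔ Ideal.span {h} := by
    rw [Fin.range_snoc, Ideal.span_insert, sup_comm]
  have hfin : Module.Finite k (MvPolynomial (Fin (n + 1)) k ⧸ Ideal.span (Set.range g)) := by
    rw [hgr]
    haveI : Ring.KrullDimLE 0 (MvPolynomial (Fin (n + 1)) k ⧸ Ideal.span (Set.range f) ⊔ Ideal.span {h}) :=
      Ring.krullDimLE_iff.mpr h0
    exact (Module.finite_iff_isArtinianRing k _).mpr (isArtinianRing_iff_krullDimLE_zero.mpr inferInstance)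
  have hδ : ∀ i, 0 < (1 : Fin (n + 1) → ℕ) i := fun _ => Nat.one_pos
  have hreg := Groth.L12.GrCI.wreg_of_finite hδ (g := g) (ε := Fin.snoc d e)
    (fun i => by induction i using Fin.lastCases with
      | last => rw [Fin.snoc_last]; exact he
      | cast i => rw [Fin.snoc_castSucc]; exact hd i)
    (fun i => by induction i using Fin.lastCases with
      | last => simp only [g, Fin.snoc_last]; exact hh
      | cast i => simp only [g, Fin.snoc_castSucc]; exact hf i) hfin
  have hreg' : RingTheory.Sequence.IsWeaklyRegular (MvPolynomial (Fin (n + 1)) k) (List.ofFn f) := by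
    rw [Groth.L12.GrCI.wreg_ofFn_iff] at hreg ⊢
    intro i y hy
    have hl : (List.ofFn g).take ((i.castSucc : Fin (n + 1)) : ℕ) = (List.ofFn f).take i := by
      rw [List.ofFn_succ', List.concat_eq_append, List.take_append_of_le_length (by simp)]
      simp [g, Fin.snoc_castSucc]
    have := hreg i.castSucc y
    rw [hl] at this
    exact this (by simp only [g, Fin.snoc_castSucc]; exact hy)
  have h1 := Groth.L12.GrCI.hilb_take hδ (g := f) (ε := d) hf hreg'
  have h2 := Groth.L12.GrCI.hilb_bot_mul (F := k) hδ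
  simp only [Pi.one_apply, pow_one, Finset.prod_const, Finset.card_univ, Fintype.card_fin] at h2
  rw [h1, mul_right_comm, h2, one_mul]


/-- Let k be an algebraically closed field and H_1, …, H_n hypersurfaces in P^n given by homogeneous
polynomials f_1, …, f_n of degrees d_1, …, d_n ≥ 1 in S = k[x_0, …, x_n], meeting in finitely many
points, i.e. S/(f_1, …, f_n) has Krull dimension one. Then the intersection multiplicities of the
H_i at the points of H_1 ∩ ⋯ ∩ H_n add up to d_1 ⋯ d_n; stated here in the form established in the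
proof: the Hilbert function of S/(f_1, …, f_n) is eventually the constant Π d_i, i.e. for all large
m, dim_k S_m − dim_k ((f_1, …, f_n) ∩ S_m) = Π d_i (this constant is the degree of O_{H_1} ⊗ ⋯ ⊗
O_{H_n}, the sum of the lengths of its stalks). -/
theorem result (k : Type u) [Field k] [IsAlgClosed k] (n : ℕ)
    (f : Fin n → MvPolynomial (Fin (n + 1)) k) (d : Fin n → ℕ) (hd : ∀ i, 1 ≤ d i)
    (hf : ∀ i, (f i).IsHomogeneous (d i))
    (hdim : ringKrullDim (MvPolynomial (Fin (n + 1)) k ⧸ Ideal.span (Set.range f)) = 1) :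
    ∃ m₀ : ℕ, ∀ m : ℕ, m₀ ≤ m →
      Module.finrank k ↥(MvPolynomial.homogeneousSubmodule (Fin (n + 1)) k m) -
        Module.finrank k ↥((Ideal.span (Set.range f)).restrictScalars k ⊓ MvPolynomial.homogeneousSubmodule (Fin (n + 1)) k m) =
      ∏ i : Fin n, d i := by
  classical
  have h := hilb_mul hd hf hdim.le
  set G : Polynomial ℤ := ∏ i : Fin n, ∑ j ∈ Finset.range (d i), (Polynomial.X : Polynomial ℤ) ^ j with hG
  have h' : Groth.L12.GrCI.hilb (1 : Fin (n + 1) → ℕ) (Ideal.span (Set.range f)) * (1 - PowerSeries.X) =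
      (G : PowerSeries ℤ) := by
    have hne : (1 - PowerSeries.X : PowerSeries ℤ) ^ n ≠ 0 := pow_ne_zero n fun h0 => by
      have := congrArg PowerSeries.constantCoeff h0
      simp at this
    refine mul_right_cancel₀ hne ?_
    rw [mul_assoc, ← pow_succ', h, hG, ← Polynomial.coeToPowerSeries.ringHom_apply, map_prod]
    have e : (1 - PowerSeries.X : PowerSeries ℤ) ^ n = ∏ _i : Fin n, (1 - PowerSeries.X) := by simp
    rw [e, ← Finset.prod_mul_distrib]
    refine Finset.prod_congr rfl fun i _ => ?_
    simp only [map_sum, map_pow, Polynomial.coeToPowerSeries.ringHom_apply, Polynomial.coe_X]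
    exact (geom_sum_mul_neg _ _).symm
  have hsum : ∀ m, ∑ j ∈ Finset.range (m + 1), G.coeff j =
      (Module.finrank k (Groth.L12.GrCI.piece (1 : Fin (n + 1) → ℕ) (Ideal.span (Set.range f)) m) : ℤ) := by
    intro m
    induction m with
    | zero =>
      have := congrArg (PowerSeries.coeff 0) h'
      simpa [Groth.L12.GrCI.hilb, Polynomial.coeff_coe] using this.symm
    | succ m ih =>
      have := congrArg (PowerSeries.coeff (m + 1)) h'
      rw [mul_sub, mul_one, map_sub, PowerSeries.coeff_succ_mul_X, Polynomial.coeff_coe] at this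
      simp only [Groth.L12.GrCI.hilb, PowerSeries.coeff_mk] at this
      rw [Finset.sum_range_succ, ih, ← this]
      ring
  refine ⟨G.natDegree, fun m hm => ?_⟩
  have hadd := Groth.L15.HilbGrowth.hf_add_finrank (Ideal.span (Set.range f)) m
  have hp : Groth.L15.HilbGrowth.hf (Ideal.span (Set.range f)) m = ∏ i : Fin n, d i := by
    have h3 : (Module.finrank k (Groth.L12.GrCI.piece (1 : Fin (n + 1) → ℕ) (Ideal.span (Set.range f)) m) : ℤ) =
        G.eval 1 := by
      rw [← hsum, Polynomial.eval_eq_sum_range' (Nat.lt_succ_of_le hm)]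
      simp
    simp only [hG, Polynomial.eval_prod, Polynomial.eval_finsetSum, Polynomial.eval_pow, Polynomial.eval_X,
      one_pow, Finset.sum_const, Finset.card_range, nsmul_eq_mul, mul_one] at h3
    exact_mod_cast h3
  exact (Nat.eq_sub_of_add_eq hadd).symm.trans hp

end Groth.Agent.S14440
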