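import Mathlib.RingTheory.GradedAlgebra.Homogeneous.Ideal
import Groth.Statements.S14442


set_option autoImplicit false
universe u
open GrNak

namespace Groth.Agent.S14442

/-- Let R be a commutative ℕ-graded ring with irrelevant ideal R_+ = ⊕_{i>0} R_i, M an ℕ-graded R-module
and N a graded submodule of M (closed under taking homogeneous components). If M = R_+ M + N then N
= M. (The published statement is for finitely generated ℤ-graded modules over a graded quotient of a
polynomial ring, whose degrees are then bounded below; stated here for non-negatively graded modules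
over any ℕ-graded commutative ring, where the same lowest-degree argument applies without finite
generation.) -/
theorem result {R : Type u} [CommRing R] {σ : Type u} [SetLike σ R] [AddSubmonoidClass σ R]
    (𝒜 : ℕ → σ) [GradedRing 𝒜]
    {M : Type u} [AddCommGroup M] [Module R M] {τ : Type u} [SetLike τ M] [AddSubmonoidClass τ M]
    (ℳ : ℕ → τ) [DirectSum.Decomposition ℳ] [SetLike.GradedSMul 𝒜 ℳ]
    (N : Submodule R M) (hN : ∀ x ∈ N, ∀ i : ℕ, (DirectSum.decompose ℳ x i : M) ∈ N)
    (h : (HomogeneousIdeal.irrelevant 𝒜).toIdeal • (⊤ : Submodule R M) ⊔ N = ⊤) :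
    N = ⊤ := by
  classical
  have hproj : ∀ i (x : M), x ∈ ℳ i → x ∈ N := by
    intro i
    induction i using Nat.strong_induction_on with
    | _ i ih =>
      intro x hx
      have hNi : ∀ y ∈ (HomogeneousIdeal.irrelevant 𝒜).toIdeal • (⊤ : Submodule R M) ⊔ N,
          (DirectSum.decompose ℳ y i : M) ∈ N := by
        intro y hy
        obtain ⟨p, hp, q, hq, rfl⟩ := Submodule.mem_sup.1 hy
        rw [DirectSum.decompose_add, DirectSum.add_apply, AddMemClass.coe_add]
        refine add_mem ?_ (hN q hq i)
        refine Submodule.smul_induction_on hp (fun r hr m _ => ?_) fun a b ha hb => by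
          rw [DirectSum.decompose_add, DirectSum.add_apply, AddMemClass.coe_add]; exact add_mem ha hb
        clear hp hy
        have hr0 : (DirectSum.decompose 𝒜 r 0 : R) = 0 := (HomogeneousIdeal.mem_irrelevant_iff _ _).1 hr
        rw [← DirectSum.sum_support_decompose 𝒜 r, Finset.sum_smul, DirectSum.decompose_sum, DFinsupp.finset_sum_apply,
          AddSubmonoidClass.coe_finset_sum]
        refine sum_mem fun j _ => ?_
        rw [← DirectSum.sum_support_decompose ℳ m, Finset.smul_sum, DirectSum.decompose_sum, DFinsupp.finset_sum_apply,
          AddSubmonoidClass.coe_finset_sum]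
        refine sum_mem fun l _ => ?_
        rcases Nat.eq_zero_or_pos j with rfl | hj
        · rw [hr0, zero_smul, DirectSum.decompose_zero]
          exact zero_mem N
        have hmem : (DirectSum.decompose 𝒜 r j : R) • (DirectSum.decompose ℳ m l : M) ∈ ℳ (j + l) := by
          have := SetLike.GradedSMul.smul_mem (A := 𝒜) (B := ℳ) (SetLike.coe_mem (DirectSum.decompose 𝒜 r j)) (SetLike.coe_mem (DirectSum.decompose ℳ m l))
          simpa [vadd_eq_add] using this
        by_cases hi : j + l = i
        · subst hi
          rw [DirectSum.decompose_of_mem_same ℳ hmem]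
          exact N.smul_mem _ (ih l (by omega) _ (SetLike.coe_mem _))
        · rw [DirectSum.decompose_of_mem_ne ℳ hmem hi]
          exact zero_mem N
      have := hNi x (by rw [h]; trivial)
      rwa [DirectSum.decompose_of_mem_same ℳ hx] at this
  refine eq_top_iff.2 fun x _ => ?_
  rw [← DirectSum.sum_support_decompose ℳ x]
  exact sum_mem fun i _ => hproj i _ (SetLike.coe_mem _)
end Groth.Agent.S14442
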