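import Groth.Statements.S14443
import Groth.Agent.L22.FiberOmega
import Groth.Agent.L22.PDual.RegVanish
import Groth.Agent.L07.DimToolkit
import Groth.Agent.L21.Disc.OmegaStalk
import Groth.Agent.L21.Disc.Hurwitz
import Groth.Agent.L06.SupportStalk
import Groth.Agent.L07.FieldStalk
import Groth.Agent.L22.Cyc.ClosedSub
-- import your own Groth.Agent.* helpers here

set_option autoImplicit false
universe u
open CategoryTheory CategoryTheory.Limits AlgebraicGeometry
attribute [local instance] FixPt.fiberModule
open Variety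

namespace Groth.Agent.S14443

/-- Let k be an algebraically closed field, f : X → Y a morphism of k-schemes of finite type, x a closed
point of X and Z an irreducible closed subset of the fibre f⁻¹(f(x)) passing through x, of dimension
r. Then dim_k (Ω_{X/Y})_(x) ≥ r, where (Ω_{X/Y})_(x) = Ω_{X/Y,x} ⊗ k(x) is the fibre of the sheaf of
relative differentials at x, a vector space over k(x) = k (x is closed and k algebraically closed),
regarded as a k-module through k → O_{X,x}. (The published statement is for varieties, i.e. X and Y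
reduced and separated; this row assumes neither. Since X is locally of finite type over a field it
is locally Noetherian, so f is quasi-separated; the argument, T_x Z ⊆ ker(df_x) and dim T_x Z ≥ dim
Z, uses neither reducedness nor separatedness.) -/
theorem result (k : Type u) [Field k] [IsAlgClosed k]
    {X Y : Scheme.{u}} [X.Over (Spec (CommRingCat.of k))] [Y.Over (Spec (CommRingCat.of k))]
    [LocallyOfFiniteType (X ↘ Spec (CommRingCat.of k))] [QuasiCompact (X ↘ Spec (CommRingCat.of k))]
    [LocallyOfFiniteType (Y ↘ Spec (CommRingCat.of k))] [QuasiCompact (Y ↘ Spec (CommRingCat.of k))]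
    (f : X ⟶ Y) (hf : f ≫ (Y ↘ Spec (CommRingCat.of k)) = X ↘ Spec (CommRingCat.of k))
    (x : X) (hx : IsClosed ({x} : Set X)) (Z : Set X) (hZ : IsIrreducible Z) (hZc : IsClosed Z) (hxZ : x ∈ Z)
    (hZf : Z ⊆ f.base ⁻¹' {f.base x}) (r : ℕ) (hr : topologicalKrullDim ↥Z = (r : WithBot ℕ∞)) :
    r ≤ Module.finrank k (FixPt.fiber (Omega.sheaf f) x) := by
  classical
  haveI : IsLocallyNoetherian X := LocallyOfFiniteType.isLocallyNoetherian (X ↘ Spec (CommRingCat.of k))
  haveI : LocallyOfFiniteType f := by
    haveI : LocallyOfFiniteType (f ≫ (Y ↘ Spec (CommRingCat.of k))) := by rw [hf]; infer_instance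
    exact locallyOfFiniteType_of_comp f (Y ↘ Spec (CommRingCat.of k))
  haveI : QuasiSeparatedSpace X := inferInstance
  haveI : QuasiSeparated f := QuasiSeparated.of_quasiSeparatedSpace f
  -- the two local rings over `k`
  letI := (f.stalkMap x).hom.toAlgebra
  have hc : ∀ t, algebraMap (Y.presheaf.stalk (f x)) (X.presheaf.stalk x) (Curv2.stalkMap k Y (f x) t) =
      Curv2.stalkMap k X x t := fun t => by
    have h1 : CommRingCat.ofHom (Curv2.stalkMap k Y (f x)) ≫ f.stalkMap x =
        CommRingCat.ofHom (Curv2.stalkMap k X x) := by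
      apply Spec.map_injective
      rw [Spec.map_comp, Groth.L07.FieldStalk.SpecMap_stalkMap, Groth.L07.FieldStalk.SpecMap_stalkMap,
        Scheme.SpecMap_stalkMap_fromSpecStalk_assoc, hf]
    exact congr(($h1).hom t)
  have hres : Function.Bijective ((IsLocalRing.residue (X.presheaf.stalk x)).comp (Curv2.stalkMap k X x)) := by
    letI := Curv2.resAlgebra k X x
    haveI := Groth.L21.Disc.finite_residueField_of_isClosed k hx
    exact IsAlgClosed.algebraMap_bijective_of_isIntegral (k := k) (K := X.residueField x)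
  haveI : IsLocalHom (algebraMap (Y.presheaf.stalk (f x)) (X.presheaf.stalk x)) :=
    inferInstanceAs (IsLocalHom (f.stalkMap x).hom)
  -- the generic point of `Z`
  let η := hZ.genericPoint
  have hcl : closure ({η} : Set X) = Z := hZ.isGenericPoint_genericPoint hZc
  have h : η ⤳ x := specializes_iff_mem_closure.2 (hcl.symm ▸ hxZ)
  have hη : f η = f x := hZf (hcl ▸ subset_closure rfl)
  have hzero : ∀ (y y' : Y) (hy : y' ⤳ y), y' = y → ∀ a ∈ IsLocalRing.maximalIdeal (Y.presheaf.stalk y),
      Cyc.specMap y y' hy a = 0 := by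
    rintro y y' hy rfl a ha
    show Y.residue y' (Y.presheaf.stalkSpecializes hy a) = 0
    rw [TopCat.Presheaf.stalkSpecializes_refl]
    exact (IsLocalRing.residue_eq_zero_iff a).2 ha
  let J := (IsLocalRing.maximalIdeal (Y.presheaf.stalk (f x))).map
    (algebraMap (Y.presheaf.stalk (f x)) (X.presheaf.stalk x))
  have hJle : J ≤ RingHom.ker (Cyc.specMap x η h) := by
    refine Ideal.map_le_iff_le_comap.2 fun a ha => ?_
    show Cyc.specMap x η h ((f.stalkMap x).hom a) = 0
    rw [← Groth.L22.DimFormula.specMap_residueFieldMap f h a, hzero _ _ _ hη a ha, map_zero]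
  have hJ : J ≠ ⊤ := fun ht => RingHom.ker_ne_top (Cyc.specMap x η h) (eq_top_iff.2 (ht ▸ hJle))
  have hdimJ : ringKrullDim (Cyc.LocQuot x η h) ≤ ringKrullDim (X.presheaf.stalk x ⧸ J) :=
    ringKrullDim_le_of_surjective (Ideal.Quotient.factor hJle) (Ideal.Quotient.factor_surjective hJle)
  -- the dimension of `Z` at `x`
  have hr' : ringKrullDim (Cyc.LocQuot x η h) = (r : WithBot ℕ∞) := by
    let i := Groth.L22.Cyc.clι η
    letI : (Groth.L22.Cyc.clSub η).Over (Spec (CommRingCat.of k)) := ⟨i ≫ (X ↘ Spec (CommRingCat.of k))⟩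
    haveI : LocallyOfFiniteType (Groth.L22.Cyc.clSub η ↘ Spec (CommRingCat.of k)) :=
      inferInstanceAs (LocallyOfFiniteType (i ≫ (X ↘ Spec (CommRingCat.of k))))
    haveI := Groth.L22.Cyc.isLocallyNoetherian_clSub η
    obtain ⟨z, hz⟩ : x ∈ Set.range i := by
      rw [Groth.L22.Cyc.range_clι, hcl]; exact hxZ
    have hzc : IsClosed ({z} : Set (Groth.L22.Cyc.clSub η)) := by
      have e : ({z} : Set (Groth.L22.Cyc.clSub η)) = i ⁻¹' {x} := by
        ext w
        exact ⟨fun hw => (congrArg i hw).trans hz, fun hw => i.isEmbedding.injective (hw.trans hz.symm)⟩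
      rw [e]
      exact hx.preimage i.continuous
    have hd : topologicalKrullDim (Groth.L22.Cyc.clSub η) = (r : WithBot ℕ∞) := by
      rw [← Groth.L22.SchemeDim.topologicalKrullDim_eq_of_isEmbedding i.isEmbedding rfl,
        Groth.L22.Cyc.range_clι, hcl, hr]
    have key : ∀ (a b : X) (hab : a ⤳ b) (ha : a = η) (hb : b = x),
        ringKrullDim (Cyc.LocQuot b a hab) = ringKrullDim (Cyc.LocQuot x η h) := by
      rintro a b hab rfl rfl; rfl
    have hs : i (genericPoint (Groth.L22.Cyc.clSub η)) ⤳ i z :=
      ((genericPoint_spec (Groth.L22.Cyc.clSub η)).specializes trivial).map i.continuous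
    rw [← key _ _ hs (Groth.L22.Cyc.clι_genericPoint η) hz, ← Groth.L07.DimToolkit.dim_stalk_closedImmersion i z hs]
    exact Groth.L22.PDual.dim_stalk_closed_point k hd hzc
  obtain ⟨e⟩ := Groth.L21.Disc.nonempty_stalk_omega f x
  haveI := Groth.L06.SupportStalk.finite_stalk (Omega.sheaf f) (Groth.L15.OmegaCoh.isCoh_omega f) x
  have hfin := Groth.L22.FiberOmega.dim_le (Curv2.stalkMap k X x) (Curv2.stalkMap k Y (f x)) hc hres
    ((Omega.sheaf f).presheaf.stalk x) e hJ
  have := hr'.symm.trans_le (hdimJ.trans hfin)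
  exact_mod_cast this


end Groth.Agent.S14443
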