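import Groth.Statements.S14447
import Mathlib.CategoryTheory.Limits.Types.Products
import Mathlib.CategoryTheory.Limits.Constructions.FiniteProductsOfBinaryProducts
import Mathlib.CategoryTheory.Limits.Preserves.Shapes.Terminal
import Mathlib.CategoryTheory.Limits.Preserves.Shapes.BinaryProducts

set_option autoImplicit false
universe w v u
open AlgGrp

namespace Groth.Agent.S14447

open CategoryTheory CategoryTheory.Limits in
/-- Let C be a category with finite products and with all coproducts indexed by sets, and assume that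
for every set I and every object U the canonical arrow ∐_{i∈I} U → (∐_{i∈I} pt) × U, whose i-th
component pairs U → pt → ∐_{i∈I} pt (i-th coprojection) with the identity of U, is an isomorphism.
Then the discrete-object functor from sets to C, I ↦ ∐_{i∈I} pt, preserves finite products. (Sets
are the types of one fixed universe, the one indexing the coproducts. The published statement asks
only for the coproducts of copies of one object; this row assumes that C has all coproducts indexed
by sets, which Mathlib's discrete-object functor sigmaConst requires.) -/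
theorem result {C : Type u} [Category.{v} C]
    [HasFiniteProducts C] [HasCoproducts.{w} C]
    (h : ∀ (I : Type w) (U : C), IsIso (Sigma.desc fun i : I =>
      prod.lift (terminal.from U ≫ Sigma.ι (fun _ : I => ⊤_ C) i) (𝟙 U))) :
    PreservesFiniteProducts (sigmaConst.{w}.obj (⊤_ C)) := by
  have : PreservesLimit (Functor.empty.{0} (Type w)) (sigmaConst.{w}.obj (⊤_ C)) := by
    refine preservesLimit_of_preserves_limit_cone Types.terminalLimitCone.isLimit ?_
    refine (isLimitMapConeEmptyConeEquiv _ PUnit.{w + 1}).symm ?_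
    exact terminalIsTerminal.ofIso
      { hom := Sigma.ι (fun _ : PUnit.{w + 1} => ⊤_ C) PUnit.unit
        inv := Sigma.desc fun _ => 𝟙 _
        hom_inv_id := by simp
        inv_hom_id := Sigma.hom_ext _ _ fun j => by cases j; simp }
  have : PreservesLimitsOfShape (Discrete PEmpty.{1}) (sigmaConst.{w}.obj (⊤_ C)) :=
    preservesLimitsOfShape_pempty_of_preservesTerminal _
  have : PreservesLimitsOfShape (Discrete WalkingPair) (sigmaConst.{w}.obj (⊤_ C)) := by
    refine ⟨fun {K} => ?_⟩
    suffices ∀ I J : Type w, PreservesLimit (pair I J) (sigmaConst.{w}.obj (⊤_ C)) from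
      have := this (K.obj ⟨WalkingPair.left⟩) (K.obj ⟨WalkingPair.right⟩)
      preservesLimit_of_iso_diagram _ (diagramIsoPair K).symm
    intro I J
    refine preservesLimit_of_preserves_limit_cone (Types.binaryProductLimit I J) ?_
    refine (isLimitMapConeBinaryFanEquiv _ _ _).symm ?_
    let U : C := ∐ fun _ : J => ⊤_ C
    let q : (∐ fun _ : I => U) ⟶ (∐ fun _ : I => ⊤_ C) ⨯ U :=
      Sigma.desc fun i : I => prod.lift (terminal.from U ≫ Sigma.ι (fun _ : I => ⊤_ C) i) (𝟙 U)
    have : IsIso q := h I U
    let ψ : (∐ fun _ : I × J => ⊤_ C) ≅ ∐ fun _ : I => U :=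
      { hom := Sigma.desc fun ij : I × J => Sigma.ι (fun _ : J => ⊤_ C) ij.2 ≫ Sigma.ι (fun _ : I => U) ij.1
        inv := Sigma.desc fun i => Sigma.desc fun j => Sigma.ι (fun _ : I × J => ⊤_ C) (i, j)
        hom_inv_id := Sigma.hom_ext _ _ fun ⟨i, j⟩ => by simp
        inv_hom_id := Sigma.hom_ext _ _ fun i => by ext j; simp }
    let F := sigmaConst.{w}.obj (⊤_ C)
    let m : F.obj (I × J) ⟶ F.obj I ⨯ F.obj J := prod.lift (F.map (↾_root_.Prod.fst)) (F.map (↾_root_.Prod.snd))
    have hm : m = ψ.hom ≫ q := by
      refine Sigma.hom_ext _ _ fun ⟨i, j⟩ => ?_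
      apply prod.hom_ext
      · simp [m, F, ψ, q, sigmaConst, Subsingleton.elim (Sigma.ι (fun _ : J => ⊤_ C) j ≫ terminal.from U) (𝟙 _), Category.assoc]
        refine (prod.lift_fst _ _).trans (Eq.trans ?_ (prod.lift_fst _ _).symm)
        rw [← Category.assoc, Subsingleton.elim (Sigma.ι (fun _ : J => ⊤_ C) j ≫ terminal.from U) (𝟙 _), Category.id_comp]
      · simp [m, F, ψ, q, sigmaConst]
        exact (prod.lift_snd _ _).trans ((Category.comp_id _).symm.trans (prod.lift_snd _ _).symm)
    have : IsIso (ψ.hom ≫ q) := IsIso.comp_isIso' ψ.isIso_hom ‹IsIso q›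
    have : IsIso m := hm ▸ this
    refine IsLimit.ofIsoLimit (prodIsProd _ _) (BinaryFan.ext (asIso m).symm ?_ ?_)
    · exact (IsIso.eq_inv_comp m).2 (prod.lift_fst _ _)
    · exact (IsIso.eq_inv_comp m).2 (prod.lift_snd _ _)
  exact PreservesFiniteProducts.of_preserves_binary_and_terminal _
end Groth.Agent.S14447
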