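import Groth.Statements.S14448
-- import your own Groth.Agent.* helpers here

set_option autoImplicit false
universe u
open Coherent

namespace Groth.Agent.S14448

open CategoryTheory AlgebraicGeometry Scheme.Modules

/-- Units of composites. -/
theorem unit_comp {W X S : Scheme.{u}} (f : W ⟶ X) (g : X ⟶ S) (N : S.Modules) :
    (pullbackPushforwardAdjunction g).unit.app N ≫
      (pushforward g).map ((pullbackPushforwardAdjunction f).unit.app ((pullback g).obj N)) ≫
        (pushforwardComp f g).hom.app _ =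
      (pullbackPushforwardAdjunction (f ≫ g)).unit.app N ≫
        (pushforward (f ≫ g)).map ((pullbackComp f g).inv.app N) := by
  rw [← conjugateEquiv_pullbackComp_inv f g]
  have h := unit_conjugateEquiv ((pullbackPushforwardAdjunction g).comp (pullbackPushforwardAdjunction f))
    (pullbackPushforwardAdjunction (f ≫ g)) (pullbackComp f g).inv N
  rw [Adjunction.comp_unit_app] at h
  simpa [Category.assoc] using h

theorem hcomp {U V W : Scheme.{u}} (φ : U ⟶ V) (ψ : V ⟶ W) {N : W.Modules} {P : U.Modules}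
    (v : N ⟶ (pushforward (φ ≫ ψ)).obj P) :
    (pullbackPushforwardAdjunction ψ).homEquiv _ _ ((pullbackPushforwardAdjunction φ).homEquiv _ _
      ((pullbackComp φ ψ).hom.app N ≫ ((pullbackPushforwardAdjunction (φ ≫ ψ)).homEquiv N P).symm v)) =
      v ≫ (pushforwardComp φ ψ).inv.app P := by
  obtain ⟨k, rfl⟩ := ((pullbackPushforwardAdjunction (φ ≫ ψ)).homEquiv N P).surjective v
  rw [Equiv.symm_apply_apply]
  have h := unit_comp φ ψ N
  have h2 := (pushforwardComp φ ψ).inv.naturality ((pullbackComp φ ψ).hom.app N)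
  have h3 := (pushforwardComp φ ψ).inv.naturality k
  simp only [Functor.comp_map] at h2 h3
  simp only [Adjunction.homEquiv_unit, Functor.map_comp, Category.assoc]
  rw [h3]
  rw [← cancel_mono ((pushforwardComp φ ψ).hom.app P)]
  have h4 := (pushforwardComp φ ψ).hom.naturality ((pullbackComp φ ψ).hom.app N ≫ k)
  simp only [Functor.comp_map, Functor.map_comp, Category.assoc] at h4
  simp only [Category.assoc, Functor.comp_obj] at h4 ⊢
  rw [h4, reassoc_of% h]
  simp only [Iso.inv_hom_id_app, ← Functor.map_comp_assoc]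
  erw [CategoryTheory.Functor.map_id, Category.id_comp]

theorem hunit {X Y Z : Scheme.{u}} (f : X ⟶ Y) (g : Y ⟶ Z) (L : Z.Modules) :
    (pullbackPushforwardAdjunction (f ≫ g)).unit.app L =
      (pullbackPushforwardAdjunction g).unit.app L ≫
        (pushforward g).map ((pullbackPushforwardAdjunction f).unit.app ((pullback g).obj L)) ≫
        (pushforwardComp f g).hom.app _ ≫ (pushforward (f ≫ g)).map ((pullbackComp f g).hom.app L) := by
  erw [reassoc_of% (unit_comp f g L)]
  simp [← Functor.map_comp]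

open AlgebraicGeometry CategoryTheory Scheme.Modules in
theorem key {X Y : Scheme.{u}} (f : X ⟶ Y) {M : Y.Modules} {P Q : X.Modules}
    (v : M ⟶ (pushforward f).obj P) (c : P ⟶ Q) {A B : Y.Opens} (p1 : B = A) {C : X.Opens}
    (p2 : C = f ⁻¹ᵁ B) (p3 : C = f ⁻¹ᵁ A) :
    M.presheaf.map (eqToHom p1).op ≫ v.app B ≫ P.presheaf.map (eqToHom p2).op ≫ c.app C =
      v.app A ≫ c.app (f ⁻¹ᵁ A) ≫ Q.presheaf.map (eqToHom p3).op := by
  subst p1
  subst p2
  simp only [eqToHom_refl, op_id]
  erw [P.presheaf.map_id, M.presheaf.map_id, Q.presheaf.map_id]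
  erw [Category.comp_id, Category.id_comp, Category.id_comp]
  try rfl

/-- Take two commutative squares of schemes side by side, f : X → Y over φ : U → V (vertical maps ξ : X
→ U and η : Y → V, f ≫ η = ξ ≫ φ) and g : Y → Z over ψ : V → W (vertical map ζ : Z → W, g ≫ ζ = η ≫
ψ), and an O_Z-module L. For a commutative square the base change map β_{f,φ}(M) : φ^* η_* M → ξ_*
f^* M is the adjoint of η_*(unit) : η_* M → η_* f_* f^* M = φ_* ξ_* f^* M, and α denotes the
composition isomorphisms of module pullbacks. Then the composite of α_{φ,ψ}(ζ_* L) : φ^* ψ^* ζ_* L →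
(φ ≫ ψ)^* ζ_* L with β_{f ≫ g, φ ≫ ψ}(L) equals the composite of φ^* β_{g,ψ}(L), β_{f,φ}(g^* L) and
ξ_* α_{f,g}(L), as maps φ^* ψ^* ζ_* L → ξ_* (f ≫ g)^* L. No cartesian or finiteness hypothesis is
made; the outer square is used through any proof hw of its commutativity. -/
theorem result {X Y Z U V W : Scheme.{u}} (f : X ⟶ Y) (g : Y ⟶ Z)
    (ξ : X ⟶ U) (η : Y ⟶ V) (ζ : Z ⟶ W) (φ : U ⟶ V) (ψ : V ⟶ W)
    (h₁ : f ≫ η = ξ ≫ φ) (h₂ : g ≫ ζ = η ≫ ψ) (hw : (f ≫ g) ≫ ζ = ξ ≫ (φ ≫ ψ)) (L : Z.Modules) :
    (pullbackComp φ ψ).hom.app ((pushforward ζ).obj L) ≫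
        (((pullbackPushforwardAdjunction (φ ≫ ψ)).homEquiv ((pushforward ζ).obj L)
            ((pushforward ξ).obj ((pullback (f ≫ g)).obj L))).symm
          ((pushforward ζ).map ((pullbackPushforwardAdjunction (f ≫ g)).unit.app L) ≫
            (pushforwardComp (f ≫ g) ζ).hom.app ((pullback (f ≫ g)).obj L) ≫
            (pushforwardCongr hw).hom.app ((pullback (f ≫ g)).obj L) ≫
            (pushforwardComp ξ (φ ≫ ψ)).inv.app ((pullback (f ≫ g)).obj L))) =
      (pullback φ).map (((pullbackPushforwardAdjunction ψ).homEquiv ((pushforward ζ).obj L)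
            ((pushforward η).obj ((pullback g).obj L))).symm
          ((pushforward ζ).map ((pullbackPushforwardAdjunction g).unit.app L) ≫
            (pushforwardComp g ζ).hom.app ((pullback g).obj L) ≫
            (pushforwardCongr h₂).hom.app ((pullback g).obj L) ≫
            (pushforwardComp η ψ).inv.app ((pullback g).obj L))) ≫
        (((pullbackPushforwardAdjunction φ).homEquiv ((pushforward η).obj ((pullback g).obj L))
            ((pushforward ξ).obj ((pullback f).obj ((pullback g).obj L)))).symm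
          ((pushforward η).map ((pullbackPushforwardAdjunction f).unit.app ((pullback g).obj L)) ≫
            (pushforwardComp f η).hom.app ((pullback f).obj ((pullback g).obj L)) ≫
            (pushforwardCongr h₁).hom.app ((pullback f).obj ((pullback g).obj L)) ≫
            (pushforwardComp ξ φ).inv.app ((pullback f).obj ((pullback g).obj L)))) ≫
        (pushforward ξ).map ((pullbackComp f g).hom.app L) := by
  apply ((pullbackPushforwardAdjunction φ).homEquiv _ _).injective
  apply ((pullbackPushforwardAdjunction ψ).homEquiv _ _).injective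
  conv_rhs => rw [Adjunction.homEquiv_naturality_left]; simp only [Adjunction.homEquiv_naturality_right, Equiv.apply_symm_apply]
  rw [hcomp φ ψ]
  rw [hunit f g L]
  ext U : 1
  simp only [Functor.map_comp, Category.assoc]
  simp
  refine congrArg (CategoryStruct.comp _) ?_
  have hB : η ⁻¹ᵁ ψ ⁻¹ᵁ U = g ⁻¹ᵁ ζ ⁻¹ᵁ U := congrArg (· ⁻¹ᵁ U) h₂.symm
  have hC : ξ ⁻¹ᵁ φ ⁻¹ᵁ ψ ⁻¹ᵁ U = f ⁻¹ᵁ η ⁻¹ᵁ ψ ⁻¹ᵁ U := congrArg (· ⁻¹ᵁ (ψ ⁻¹ᵁ U)) h₁.symm
  have k := key f (v := (pullbackPushforwardAdjunction f).unit.app ((pullback g).obj L))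
    (c := (pullbackComp f g).hom.app L) hB hC (hC.trans (congrArg (f ⁻¹ᵁ ·) hB))
  simp only [eqToHom_op] at k
  exact k.symm

end Groth.Agent.S14448
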