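import Groth.Statements.S14449
import Groth.Agent.L27.EtSite.GlueEquiv

set_option autoImplicit false
universe u
open CategoryTheory CategoryTheory.Limits AlgebraicGeometry
open EtCore

namespace Groth.Agent.S14449

/-- Let X be a scheme, i : Z ⟶ X a closed immersion and j : U ⟶ X an open immersion whose image is the
complement of the image of i. Then the functor from abelian sheaves on the small étale site of X to
the category of triples (G on Z, H on U, φ : G ⟶ i⁻¹ j_* H), sending F to (i⁻¹ F, j⁻¹ F, i⁻¹ of the
unit F ⟶ j_* j⁻¹ F), is an equivalence of categories. The category of triples is the comma category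
of the identity functor of Ab(Z) over j_* ⋙ i⁻¹. -/
theorem result {X Z U : Scheme.{u}}
    (i : Z ⟶ X) [IsClosedImmersion i] (j : U ⟶ X) [IsOpenImmersion j]
    (hZU : Set.range j.base = (Set.range i.base)ᶜ) :
    (EtCore.recollTriple i j).IsEquivalence := by
  exact Groth.L27.GlueEquiv.isEquivalence_recollTriple i j hZU

end Groth.Agent.S14449
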