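import Groth.Statements.S14451
import Groth.Agent.L27.EtSite.HofPush

set_option autoImplicit false
universe u
open CategoryTheory CategoryTheory.Limits AlgebraicGeometry
open EtCore

namespace Groth.Agent.S14451

/-- Let f : X ⟶ Y be a morphism of schemes and F an abelian sheaf on the small étale site of X whose
higher direct images R^q f_* F vanish for all q > 0. Then for every p the canonical map H^p(Y, f_*
F) → H^p(X, F) (pull back along f, then apply the counit f⁻¹ f_* F ⟶ F) is bijective. (Exactness of
f⁻¹, which always holds, is carried as an instance hypothesis.) -/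
theorem result {X Y : Scheme.{u}} (f : X ⟶ Y)
    [PreservesFiniteLimits (EtCoh.pull f)] (F : EtCoh.Ab X)
    (hR : ∀ q : ℕ, 0 < q → IsZero ((EtCoh.Rpush f q).obj F)) (p : ℕ) :
    Function.Bijective (EtLim.HofPush f F p) := by
  exact Groth.L27.EtSite.bijective_HofPush f F hR p

end Groth.Agent.S14451
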