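import Groth.Statements.S14454
import Groth.Agent.L28.Supp.EtExcise

set_option autoImplicit false
universe u
open CategoryTheory CategoryTheory.Limits AlgebraicGeometry
open EtDual

set_option backward.isDefEq.respectTransparency.types false

namespace Groth.Agent.S14454

/-- Let X be a scheme, j : U ⟶ X an open immersion with closed complement Z, f : X' ⟶ X an étale
morphism and j' : U' ⟶ X' an open immersion with image f⁻¹(U), such that f maps Z' = X' − U'
bijectively onto Z with trivial residue field extensions at the points of Z' (f restricts to an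
isomorphism from (f⁻¹Z)_red onto Z_red). Then for every abelian sheaf F on the small étale site of X
and every r, the groups H^r_Z(X, F) and H^r_{Z'}(X', f⁻¹F) are isomorphic; existence of an
isomorphism only, the canonical one being restriction along f. No Noetherian hypothesis on X is
made. -/
theorem result {X X' U U' : Scheme.{u}}
    (f : X' ⟶ X) [AlgebraicGeometry.Etale f] (j : U ⟶ X) [IsOpenImmersion j]
    (j' : U' ⟶ X') [IsOpenImmersion j']
    (hU' : Set.range j'.base = f.base ⁻¹' Set.range j.base)
    (hZ : Set.BijOn f.base (Set.range j'.base)ᶜ (Set.range j.base)ᶜ)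
    (hκ : ∀ x' : ↥X', x' ∉ Set.range j'.base → Function.Surjective (f.residueFieldMap x'))
    (F : EtCoh.Ab X) (r : ℕ) :
    Nonempty ((EtDual.HY j r).obj F ≅ (EtDual.HY j' r).obj ((EtCoh.pull f).obj F)) := by
  haveI := Groth.L27.ExtZero.jCont j
  haveI := Groth.L27.ExtZero.jCont j'
  haveI := Groth.L27.ExtZero.jCont f
  obtain ⟨a⟩ := Groth.L28.Supp.nonempty_HY_iso_HY_etale f j j' hU' hZ hκ r F
  exact ⟨a ≪≫ (EtDual.HY j' r).mapIso ((Groth.L27.ExtZero.pullRestr f).app F).symm⟩

end Groth.Agent.S14454
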