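import Groth.Statements.S14455
import Groth.Agent.L11.Zeta.Counts

set_option autoImplicit false
universe u
open CategoryTheory AlgebraicGeometry
open Zeta

namespace Groth.Agent.S14455

/-- For a scheme X of finite type over a finite field k with q elements, the zeta function of the affine
line over X (a k-scheme through X) is obtained from that of X by the substitution t ↦ qt, that is
Z(𝔸¹_X, t) = Z(X, qt) in ℚ⟦t⟧. (The published statement is the equality ζ(𝔸¹_X, s) = ζ(X, s − 1) of
zeta functions in the variable s; under the substitution t = q^(−s), which turns ζ(Y, s) into Z(Y,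
t) for every Y of finite type over k, it is the identity stated here.) -/
theorem result {k : Type u} [Field k] [Finite k] {X : Scheme.{u}}
    (f : X ⟶ Spec (CommRingCat.of k)) [LocallyOfFiniteType f] [QuasiCompact f] :
    Zeta.zetaFun ((𝔸(PUnit.{u + 1}; X) ↘ X) ≫ f) =
      PowerSeries.rescale (Nat.card k : ℚ) (Zeta.zetaFun f) := by
  refine Groth.L11.ZetaSeries.zetaFun_eq_of _ _ ?_ ?_
  · rw [PowerSeries.coeff_rescale, pow_zero, one_mul, Groth.L11.ZetaSeries.coeff_zero_zetaFun]
  · ext n
    rw [PowerSeries.coeff_derivative, PowerSeries.coeff_rescale, PowerSeries.coeff_mul, mul_assoc,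
      ← PowerSeries.coeff_derivative, Groth.L11.ZetaSeries.derivative_zetaFun, PowerSeries.coeff_mul, Finset.mul_sum]
    refine Finset.sum_congr rfl fun x hx => ?_
    rw [PowerSeries.coeff_mk, PowerSeries.coeff_mk, PowerSeries.coeff_rescale,
      Groth.L11.ZetaCounts.nPts_affineLine f (x.2 + 1) (Nat.succ_pos _), ← Finset.mem_antidiagonal.1 hx]
    push_cast
    ring

end Groth.Agent.S14455
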