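import Groth.Statements.S14456
import Mathlib.RingTheory.Flat.Tensor
import Mathlib.RingTheory.Filtration
import Mathlib.RingTheory.TensorProduct.Finite
import Mathlib.LinearAlgebra.TensorProduct.RightExactness

set_option autoImplicit false
universe u
open CAlg
open scoped TensorProduct

namespace Groth.Agent.S14456

/-- Take a local homomorphism A → B between Noetherian local rings, M a finitely generated B-module and
f an element of the maximal ideal of B. If M/f^(n+1)M is flat over A for every n ≥ 0, then M is flat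
over A. -/
theorem result {A B : Type u} [CommRing A] [CommRing B]
    [IsNoetherianRing A] [IsNoetherianRing B] [IsLocalRing A] [IsLocalRing B] [Algebra A B]
    [IsLocalHom (algebraMap A B)] (M : Type u) [AddCommGroup M] [Module B M] [Module A M]
    [IsScalarTower A B M] [Module.Finite B M] (f : B) (hf : f ∈ IsLocalRing.maximalIdeal B)
    (hflat : ∀ n : ℕ, Module.Flat A (M ⧸ (Ideal.span {f ^ (n + 1)} • (⊤ : Submodule B M)))) :
    Module.Flat A M := by
  rw [Module.Flat.iff_lTensor_injective']
  intro a
  rw [injective_iff_map_eq_zero]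
  intro z hz
  haveI : Module.Finite B (M ⊗[A] ↥a) := by
    obtain ⟨k, t, ht⟩ := Module.Finite.exists_fin (R := A) (M := a)
    let Θ : (Fin k → M) →ₗ[B] M ⊗[A] ↥a :=
      ∑ i, ((TensorProduct.AlgebraTensorModule.mk A B M ↥a).flip (t i)) ∘ₗ LinearMap.proj i
    refine Module.Finite.of_surjective Θ ?_
    intro w
    induction w with
    | zero => exact ⟨0, map_zero _⟩
    | tmul y s =>
      obtain ⟨c, hc⟩ := (Submodule.mem_span_range_iff_exists_fun A).1 (ht ▸ Submodule.mem_top : s ∈ _)
      refine ⟨fun i => c i • y, ?_⟩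
      rw [← hc, TensorProduct.tmul_sum]
      simp [Θ, TensorProduct.smul_tmul]
    | add u v hu hv =>
      obtain ⟨u, rfl⟩ := hu
      obtain ⟨v, rfl⟩ := hv
      exact ⟨u + v, map_add _ _ _⟩
  have hne : Ideal.span {f} ≠ ⊤ := fun h => (IsLocalRing.maximalIdeal.isMaximal B).ne_top
    (top_le_iff.1 (h ▸ (Ideal.span_le.2 (Set.singleton_subset_iff.2 hf))))
  rw [← Submodule.mem_bot (R := B), ← Ideal.iInf_pow_smul_eq_bot_of_isLocalRing (M := M ⊗[A] ↥a) (Ideal.span {f}) hne,
    Submodule.mem_iInf]
  intro n
  let S : Submodule B M := Ideal.span {f ^ (n + 1)} • ⊤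
  let q : M →ₗ[A] M ⧸ S := S.mkQ.restrictScalars A
  let ι : ↥S →ₗ[A] M := S.subtype.restrictScalars A
  haveI := hflat n
  have hq : q.rTensor ↥a z = 0 := by
    apply Module.Flat.lTensor_preserves_injective_linearMap (M := M ⧸ S) a.subtype Subtype.val_injective
    rw [map_zero, ← LinearMap.comp_apply, LinearMap.lTensor_comp_rTensor, ← LinearMap.rTensor_comp_lTensor,
      LinearMap.comp_apply, hz, map_zero]
  obtain ⟨w, rfl⟩ := (rTensor_exact ↥a (f := ι) (g := q) (LinearMap.exact_subtype_mkQ S)
    S.mkQ_surjective z).1 hq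
  clear hz hq
  induction w with
  | zero => simp
  | tmul y s =>
    obtain ⟨y', -, hy'⟩ := (Submodule.mem_smul_pointwise_iff_exists _ _ _).1
      ((Submodule.ideal_span_singleton_smul (f ^ (n + 1)) (⊤ : Submodule B M)).le y.2)
    have : ι.rTensor ↥a (y ⊗ₜ s) = f ^ (n + 1) • (y' ⊗ₜ[A] s) := by
      rw [TensorProduct.smul_tmul', hy']
      rfl
    rw [this]
    exact Submodule.smul_mem_smul (Ideal.pow_mem_pow (Ideal.mem_span_singleton_self f) n |> fun h => by
      rw [pow_succ]; exact Ideal.mul_mem_right _ _ h) Submodule.mem_top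
  | add u v hu hv => rw [map_add]; exact add_mem hu hv

end Groth.Agent.S14456
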