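import Groth.Statements.S14457
import Groth.Agent.L01.RootExt

set_option autoImplicit false
universe u
open CAlg

namespace Groth.Agent.S14457

open Polynomial in
/-- Let A be a commutative ring, a an element of A and n ≥ 1 an integer. The A-algebra A[T]/(T^n − a) is
etale exactly when either n = 1 or the product n·a is a unit of A. (The exponent n is a positive
integer here; for n = 0 the quotient is (A/(1 − a))[T] and the equivalence fails.) -/
theorem result (A : Type u) [CommRing A] (a : A) (n : ℕ) (hn : 1 ≤ n) :
    Algebra.Etale A (AdjoinRoot ((X : A[X]) ^ n - C a)) ↔ n = 1 ∨ IsUnit ((n : A) * a) := by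
  constructor
  · intro h
    rcases Nat.lt_or_ge 1 n with h1 | h1
    · exact Or.inr (Groth.L01.RootExt.isUnit_of_formallyUnramified a n h1)
    · exact Or.inl (by omega)
  · rintro (rfl | h)
    · have hb : Function.Bijective (algebraMap A (AdjoinRoot ((Polynomial.X : Polynomial A) ^ 1 - Polynomial.C a))) := by
        constructor
        · intro x y hxy
          let ev : AdjoinRoot ((Polynomial.X : Polynomial A) ^ 1 - Polynomial.C a) →ₐ[A] A :=
            AdjoinRoot.liftAlgHom _ (Algebra.ofId A A) a (by simp)
          have := congrArg ev hxy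
          rwa [AlgHom.commutes, AlgHom.commutes, Algebra.algebraMap_self_apply, Algebra.algebraMap_self_apply] at this
        · intro z
          obtain ⟨p, rfl⟩ := AdjoinRoot.mk_surjective z
          refine ⟨p.eval a, ?_⟩
          obtain ⟨q, hq⟩ := Polynomial.X_sub_C_dvd_sub_C_eval (a := a) (p := p)
          rw [AdjoinRoot.algebraMap_eq, ← AdjoinRoot.mk_C, eq_comm, ← sub_eq_zero, ← map_sub, hq, map_mul,
            show (Polynomial.X - Polynomial.C a) = Polynomial.X ^ 1 - Polynomial.C a by rw [pow_one],
            AdjoinRoot.mk_self, zero_mul]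
      exact Algebra.Etale.of_equiv (AlgEquiv.ofBijective (Algebra.ofId A _) hb)
    · exact Groth.L01.RootExt.etale_of_isUnit a n hn h

end Groth.Agent.S14457
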