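import Groth.Statements.S14458
import Mathlib.RingTheory.Artinian.Ring
import Mathlib.RingTheory.LocalRing.Module

set_option autoImplicit false
universe u
open CAlg

namespace Groth.Agent.S14458

open TensorProduct in
/-- Let R be an Artinian local ring with residue field k and M an R-module, not necessarily finitely
generated. If M ⊗_R k = 0 then M = 0. -/
theorem result {R : Type u} [CommRing R]
    [IsArtinianRing R] [IsLocalRing R] (M : Type u) [AddCommGroup M] [Module R M]
    (h : Subsingleton ((IsLocalRing.ResidueField R) ⊗[R] M)) : Subsingleton M := by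
  obtain ⟨n, hn⟩ := IsArtinianRing.isNilpotent_jacobson_bot (R := R)
  rw [IsLocalRing.jacobson_eq_maximalIdeal ⊥ bot_ne_top] at hn
  have htop : IsLocalRing.maximalIdeal R • (⊤ : Submodule R M) = ⊤ := by
    have e := (TensorProduct.quotTensorEquivQuotSMul M (IsLocalRing.maximalIdeal R)).toEquiv.symm
    have : Subsingleton (M ⧸ IsLocalRing.maximalIdeal R • (⊤ : Submodule R M)) :=
      e.subsingleton_congr.mpr h
    exact Submodule.Quotient.subsingleton_iff.mp this
  have hk : ∀ k, IsLocalRing.maximalIdeal R ^ k • (⊤ : Submodule R M) = ⊤ := by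
    intro k
    induction k with
    | zero => rw [pow_zero, Ideal.one_eq_top, Submodule.top_smul]
    | succ k ih => rw [pow_succ, ← smul_eq_mul, Submodule.smul_assoc, htop, ih]
  have := hk n
  rw [hn, Submodule.zero_eq_bot, Submodule.bot_smul] at this
  exact Submodule.subsingleton_iff R |>.mp (subsingleton_of_bot_eq_top this)

end Groth.Agent.S14458
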