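import Groth.Statements.S1446
import Groth.Agent.L06.RelAssSpecialApps

set_option autoImplicit false
set_option maxSynthPendingDepth 3
set_option linter.style.haveILetI false
universe u
open FlatMor

namespace Groth.Agent.S1446

open AlgebraicGeometry CategoryTheory Limits in
/-- Let f : X → S be locally of finite type, F a quasi-coherent O_X-module of finite type, and ξ a point
of the relative assassin of F with closure Z. Then there is a nonempty subset V of Z, open in Z,
such that for every point x of V, if x is a generic point of an irreducible component of the fibre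
of V through x then x lies in the relative assassin of F. -/
theorem result {X S : Scheme.{u}} (f : X ⟶ S) [LocallyOfFiniteType f]
    (F : X.Modules) (hF : Coh.IsCoh F) (ξ : X) (hξ : ξ ∈ MoreMor.relAss f F) :
    ∃ V : Set ↑X, V ⊆ closure {ξ} ∧ IsOpen (Subtype.val ⁻¹' V : Set ↑(closure ({ξ} : Set ↑X))) ∧ V.Nonempty ∧
      ∀ (x : X) (hx : x ∈ V), (∃ C ∈ irreducibleComponents ↑(V ∩ f ⁻¹' {f x}), IsGenericPoint (⟨x, hx, rfl⟩ : ↑(V ∩ f ⁻¹' {f x})) C) →
        x ∈ MoreMor.relAss f F := by
  exact Groth.L06.RelAssSpecial.exists_open_generic f F hF ξ hξ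

end Groth.Agent.S1446
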