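import Groth.Statements.S14460
import Groth.Agent.L27.FEtGal.Galois
import Groth.Agent.L27.FEtGal.SplitFinite
-- import your own Groth.Agent.* helpers here

set_option autoImplicit false
universe u
open CategoryTheory CategoryTheory.Limits AlgebraicGeometry
open Pi1

set_option backward.isDefEq.respectTransparency.types false
set_option linter.style.haveILetI false

namespace Groth.Agent.S14460

/-- Let Y → X be finite étale with Y nonempty and all geometric fibres of the same cardinality n, and
let a finite group G act on Y over X without fixed points (no point of Y with values in a field is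
fixed by a non-identity element). Then G has at most n elements, and it has exactly n elements if
and only if the morphism from the disjoint union of copies of Y indexed by G to Y ×_X Y, given on
the copy indexed by g by the identity and g, is an isomorphism. (For Y empty the bound fails, since
every finite group acts without fixed points on the empty cover, whose fibres have cardinality 0;
this row assumes Y nonempty.) -/
theorem result {X : Scheme.{u}} (Y : FEt.Cat X)
    [Nonempty ↥Y.left] (n : ℕ)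
    (hn : ∀ (Ω : Type u) [Field Ω] [IsSepClosed Ω] (ξ : Spec (CommRingCat.of Ω) ⟶ X), Nat.card (FEt.fiberObj ξ Y) = n)
    (G : Type u) [Group G] [Finite G] (ρ : G →* Aut Y)
    (hfree : ∀ g : G, g ≠ 1 → ∀ (K : Type u) [Field K] (y : Spec (CommRingCat.of K) ⟶ Y.left),
      y ≫ (ρ g).hom.left ≠ y) :
    Nat.card G ≤ n ∧
      (Nat.card G = n ↔ IsIso (Limits.Sigma.desc fun g : G =>
        pullback.lift (𝟙 Y.left) (ρ g).hom.left
          ((Category.id_comp Y.hom).trans (Over.w (ρ g).hom.hom).symm) : (∐ fun _ : G => Y.left) ⟶ pullback Y.hom Y.hom)) := by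
  classical
  haveI : Fintype G := Fintype.ofFinite G
  haveI : IsFinite Y.hom := Y.prop.1
  haveI : Etale Y.hom := Y.prop.2
  -- the orbit map on a fibre
  let orb : ∀ (Ω : Type u) [Field Ω] (y : Spec (CommRingCat.of Ω) ⟶ Y.left), G → FEt.fiberObj (y ≫ Y.hom) Y :=
    fun Ω _ y g => ⟨y ≫ (ρ g).hom.left, (Category.assoc _ _ _).trans (congrArg (y ≫ ·) (Over.w (ρ g).hom.hom))⟩
  have hρ : ∀ g h : G, (ρ (g * h)).hom.left = (ρ h).hom.left ≫ (ρ g).hom.left := fun g h => by
    rw [map_mul]; rfl
  have horb : ∀ (Ω : Type u) [Field Ω] (y : Spec (CommRingCat.of Ω) ⟶ Y.left), Function.Injective (orb Ω y) :=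
    fun Ω _ y g h e => by
    by_contra hne
    refine hfree (g⁻¹ * h) (fun h1 => hne (inv_mul_eq_one.1 h1)) Ω y ?_
    have e' : y ≫ (ρ g).hom.left = y ≫ (ρ h).hom.left := congrArg Subtype.val e
    rw [hρ, ← Category.assoc, ← e', Category.assoc, ← hρ, inv_mul_cancel, map_one]
    exact Category.comp_id _
  obtain ⟨y₀⟩ := ‹Nonempty ↥Y.left›
  obtain ⟨Ω₀, _, _, p₀, hp₀⟩ := Groth.L27.FEtGal.exists_geometric y₀
  refine ⟨?_, ?_⟩
  · haveI := Groth.L27.FEtGal.fiber_finite (p₀ ≫ Y.hom) Y
    rw [← hn Ω₀ (p₀ ≫ Y.hom)]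
    exact Nat.card_le_card_of_injective _ (horb Ω₀ p₀)
  let Φ : (∐ fun _ : G => Y.left) ⟶ pullback Y.hom Y.hom := Limits.Sigma.desc fun g : G =>
    pullback.lift (𝟙 Y.left) (ρ g).hom.left
      ((Category.id_comp Y.hom).trans (Over.w (ρ g).hom.hom).symm)
  change _ ↔ IsIso Φ
  have hΦι : ∀ g, Limits.Sigma.ι (fun _ : G => Y.left) g ≫ Φ = pullback.lift (𝟙 Y.left) (ρ g).hom.left
      ((Category.id_comp Y.hom).trans (Over.w (ρ g).hom.hom).symm) := fun g => Limits.Sigma.ι_desc _ g
  let c : (∐ fun _ : G => Y.left) ⟶ Y.left := Limits.Sigma.desc fun _ => 𝟙 _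
  have hc : Φ ≫ pullback.fst Y.hom Y.hom = c := Limits.Sigma.hom_ext _ _ fun g => by
    rw [reassoc_of% hΦι, pullback.lift_fst, Limits.Sigma.ι_desc]
  have hcfin : IsFinite c := by
    let e := (Finite.equivFin G)
    let θ : (∐ fun _ : Fin (Nat.card G) => Y.left) ≅ ∐ fun _ : G => Y.left :=
      Limits.Sigma.whiskerEquiv (f := fun _ : Fin (Nat.card G) => Y.left) (g := fun _ : G => Y.left) e.symm (fun _ => Iso.refl _)
    have hθ : θ.hom ≫ c = Limits.Sigma.desc fun _ : Fin (Nat.card G) => 𝟙 Y.left :=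
      Limits.Sigma.hom_ext _ _ fun a => by simp [θ, c]
    rw [show c = θ.inv ≫ Limits.Sigma.desc fun _ : Fin (Nat.card G) => 𝟙 Y.left by
      rw [← hθ, Iso.inv_hom_id_assoc]]
    haveI := Groth.L27.FEtGal.isFinite_foldId (Y := Y.left) (Nat.card G)
    infer_instance
  haveI : Etale c := IsZariskiLocalAtSource.sigmaDesc fun _ => inferInstance
  let A : FEt.Cat Y.left := MorphismProperty.Over.mk ⊤ c ⟨hcfin, inferInstance⟩
  let B : FEt.Cat Y.left := MorphismProperty.Over.mk ⊤ (pullback.fst Y.hom Y.hom) ⟨inferInstance, inferInstance⟩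
  let φ : A ⟶ B := MorphismProperty.Over.homMk Φ hc
  -- the fibre of `φ` at a geometric point is the orbit map
  have key : ∀ (Ω : Type u) [Field Ω] (y : Spec (CommRingCat.of Ω) ⟶ Y.left),
      Function.Bijective (orb Ω y) ↔ IsIso ((FEt.fiber y).map φ) := fun Ω _ y => by
    let a : G → FEt.fiberObj y A := fun g => ⟨y ≫ Limits.Sigma.ι (fun _ : G => Y.left) g, by
      show (y ≫ Limits.Sigma.ι (fun _ : G => Y.left) g) ≫ c = y
      rw [Category.assoc, Limits.Sigma.ι_desc]
      exact Category.comp_id _⟩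
    have ha : Function.Bijective a := by
      refine ⟨fun g h e => ?_, fun s => ?_⟩
      · have := congrArg (fun r : FEt.fiberObj y A => r.1 default) e
        exact congrArg Sigma.fst ((sigmaι_eq_iff (fun _ : G => Y.left) g h _ _).mp this)
      · obtain ⟨g, b, hb⟩ : ∃ (g : G) (b : ↥Y.left), (Limits.Sigma.ι (fun _ : G => Y.left) g) b = s.1 default := by
          obtain ⟨b, hb⟩ := (sigmaOpenCover (fun _ : G => Y.left)).covers (s.1 default)
          exact ⟨_, b, hb⟩
        let l := IsOpenImmersion.lift (Limits.Sigma.ι (fun _ : G => Y.left) g) s.1 (by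
          rintro _ ⟨z, rfl⟩
          exact ⟨b, hb.trans (congrArg s.1.base (Subsingleton.elim (α := Spec (CommRingCat.of Ω)) default z))⟩)
        have hl : l ≫ Limits.Sigma.ι (fun _ : G => Y.left) g = s.1 := IsOpenImmersion.lift_fac _ _ _
        refine ⟨g, Subtype.ext ?_⟩
        have hly : l = y := (Category.comp_id l).symm.trans
          ((congrArg (l ≫ ·) (Limits.Sigma.ι_desc (fun _ : G => 𝟙 Y.left) g).symm).trans
            ((Category.assoc _ _ _).symm.trans ((congrArg (· ≫ c) hl).trans s.2)))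
        exact (congrArg (· ≫ Limits.Sigma.ι (fun _ : G => Y.left) g) hly.symm).trans hl
    let pr : FEt.fiberObj y B → FEt.fiberObj (y ≫ Y.hom) Y := fun s => ⟨s.1 ≫ pullback.snd Y.hom Y.hom, by
      exact (Category.assoc _ _ _).trans ((congrArg (s.1 ≫ ·) pullback.condition.symm).trans
        ((Category.assoc _ _ _).symm.trans (congrArg (· ≫ Y.hom) s.2)))⟩
    have hpr : Function.Bijective pr := Function.bijective_iff_has_inverse.2
      ⟨fun s => ⟨pullback.lift y s.1 s.2.symm, pullback.lift_fst _ _ _⟩,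
        fun s => Subtype.ext (pullback.hom_ext ((pullback.lift_fst _ _ _).trans s.2.symm) (pullback.lift_snd _ _ _)),
        fun s => Subtype.ext (pullback.lift_snd _ _ _)⟩
    have e : orb Ω y = pr ∘ (FEt.fiber y).map φ ∘ a := funext fun g => Subtype.ext (by
      show y ≫ (ρ g).hom.left = ((y ≫ Limits.Sigma.ι (fun _ : G => Y.left) g) ≫ Φ) ≫ pullback.snd Y.hom Y.hom
      rw [Category.assoc, Category.assoc, reassoc_of% hΦι, pullback.lift_snd])
    rw [isIso_iff_bijective, e]
    exact (Function.Bijective.of_comp_iff' hpr _).trans (Function.Bijective.of_comp_iff _ ha)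
  have hiff : IsIso Φ ↔ IsIso φ := by
    constructor
    · intro h
      obtain ⟨ψ, h1, h2⟩ := h
      exact ⟨MorphismProperty.Over.homMk ψ (by
          show ψ ≫ c = pullback.fst Y.hom Y.hom
          rw [← hc, ← Category.assoc, h2, Category.id_comp]),
        MorphismProperty.Over.Hom.ext h1, MorphismProperty.Over.Hom.ext h2⟩
    · intro h
      exact inferInstanceAs (IsIso ((MorphismProperty.Over.forget FEt.prop.{u} ⊤ Y.left ⋙ Over.forget Y.left).map φ))
  rw [hiff]
  constructor
  · intro hcard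
    refine Groth.L27.FEtGal.isIso_of_fiber φ fun C hC ⟨x, hx⟩ => ?_
    obtain ⟨Ω, iF, iA, y, hy⟩ := Groth.L27.FEtGal.exists_geometric x
    refine ⟨Ω, iF, iA, y, hy.symm ▸ hx, (key Ω y).1 ?_⟩
    haveI := Groth.L27.FEtGal.fiber_finite (y ≫ Y.hom) Y
    exact (Nat.bijective_iff_injective_and_card _).2 ⟨horb Ω y, hcard.trans (hn Ω (y ≫ Y.hom)).symm⟩
  · intro h
    rw [← hn Ω₀ (p₀ ≫ Y.hom)]
    exact Nat.card_eq_of_bijective _ ((key Ω₀ p₀).2 inferInstance)

end Groth.Agent.S14460
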