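import Groth.Statements.S14461
import Groth.Agent.Lead.FEtComponents

set_option linter.style.haveILetI false


set_option autoImplicit false
universe u
open CategoryTheory CategoryTheory.Limits AlgebraicGeometry
open Pi1

namespace Groth.Agent.S14461

/-- Let X be a Noetherian scheme and X₀ → X a closed immersion such that, for every finite étale Y → X,
the projection Y ×_X X₀ → Y induces a bijection on connected components. Then restriction of finite
étale covers from X to X₀ is full and faithful. -/
theorem result {X X₀ : Scheme.{u}} [IsNoetherian X]
    (i : X₀ ⟶ X) [IsClosedImmersion i]
    (h : ∀ Y : FEt.Cat X, Function.Bijective (pullback.fst Y.hom i).continuous.connectedComponentsMap) :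
    (FEt.restrict i).Full ∧ (FEt.restrict i).Faithful := by

  have hm := Groth.Lead.FEtComponents.meetsClopens i fun V => (h V).2
  exact ⟨Groth.Lead.FEtComponents.full i h hm, Groth.Lead.FEtComponents.faithful i hm⟩


end Groth.Agent.S14461
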