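import Groth.Statements.S14462
import Groth.Agent.L05.Point.Stalk
import Groth.Agent.L05.Point.FibreGlobal
import Groth.Agent.L02.Grpd.OverField
import Groth.Agent.S0257

set_option autoImplicit false
universe u
open CategoryTheory AlgebraicGeometry
open Unram

namespace Groth.Agent.S14462

/-- Let f : X → Y be finite and flat with Y locally Noetherian, and let U ⊆ Y be open with every point
of the complement having a local ring of Krull dimension at least 2. If f is étale over U, then f is
étale. -/
theorem result {X Y : Scheme.{u}} [IsLocallyNoetherian Y]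
    (f : X ⟶ Y) [IsFinite f] [Flat f] (U : Y.Opens)
    (hU : ∀ y : Y, y ∉ U → (2 : WithBot ℕ∞) ≤ ringKrullDim (Y.presheaf.stalk y))
    [Etale (f ∣_ U)] : Etale f := by
  haveI : IsLocallyNoetherian X := LocallyOfFiniteType.isLocallyNoetherian f
  refine Groth.L05.Point.of_forall_nhd fun x => ?_
  have key : ∀ x : X, f x ∈ U → ∃ W : X.Opens, x ∈ W ∧ Etale (W.ι ≫ f) := fun x hx =>
    ⟨f ⁻¹ᵁ U, hx, by
      rw [← morphismRestrict_ι]
      exact MorphismProperty.comp_mem _ _ _ ‹Etale (f ∣_ U)› inferInstance⟩
  by_cases hx : f x ∈ U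
  · exact key x hx
  · have hd : ∀ x : X, ringKrullDim (X.presheaf.stalk x) = ringKrullDim (Y.presheaf.stalk (f x)) :=
      fun x => L02.Grpd.ringKrullDim_stalk_of_finite_flat f x
    refine Groth.Agent.S0257.result f x (Scheme.Hom.quasiFiniteAt f x) ?_ fun x' _ h1 => ?_
    · rw [hd]
      exact le_trans (by norm_num) (hU _ hx)
    · have hy : f x' ∈ U := by
        by_contra hy
        have h2 := hU _ hy
        rw [← hd, h1] at h2
        exact absurd h2 (by norm_num)
      obtain ⟨W, hW, hWe⟩ := key x' hy
      exact (Groth.L05.Point.nhd_formallyUnramified_iff_stalkMap f x').mp ⟨W, hW, inferInstance⟩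

end Groth.Agent.S14462
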