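import Groth.Statements.S1447
import Groth.Agent.L06.FibreDegree

set_option autoImplicit false
set_option maxSynthPendingDepth 3
set_option linter.style.haveILetI false
universe u
open FlatMor

namespace Groth.Agent.S1447

open AlgebraicGeometry CategoryTheory Limits in
/-- For a separated, flat, locally quasi-finite morphism f : X → S which is locally of finite
presentation, assume the fibres of f over all field-valued points have rank (of their ring of global
functions) at most n. Then there is a function deg : S → ℕ bounded by n with every sublevel set {deg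
≤ r} closed (equivalently a chain of closed subsets ∅ ⊂ Z_0 ⊂ ... ⊂ Z_n = S with strata {deg = r})
such that for every morphism g : T → S and every r, deg ∘ g is constant with value r exactly when
the base change of f along g is finite locally free of degree r. -/
theorem result {X S : Scheme.{u}} (f : X ⟶ S) [Flat f] [LocallyOfFinitePresentation f] [IsSeparated f] [LocallyQuasiFinite f]
    (n : ℕ) (hn : ∀ (K : Type u) [Field K] (g : Spec (CommRingCat.of K) ⟶ S), (letI := ((Scheme.ΓSpecIso (CommRingCat.of K)).inv ≫ (pullback.snd f g).appTop).hom.toAlgebra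
        Module.rank K (Γ(pullback f g, ⊤) : Type u)) ≤ (n : Cardinal.{u})) :
    ∃ deg : ↑S → ℕ, (∀ s, deg s ≤ n) ∧ (∀ r : ℕ, IsClosed {s : ↑S | deg s ≤ r}) ∧
      ∀ (T : Scheme.{u}) (g : T ⟶ S) (r : ℕ), Mor2.IsFinLocFreeOfDeg r (pullback.snd f g) ↔ ∀ t : T, deg (g t) = r := by
  have hf : BddFib.FibreDegLE f n := Groth.L06.FibreDegree.fibreDegLE_of_rk n fun K _ g => hn K g
  refine ⟨Groth.L09.UnivBdd.fdeg f, fun s => ?_, fun r => ?_, fun T g r => ?_⟩
  · exact (Groth.L09.UnivBdd.finiteOfDegLE_iff hf).1 (hf s)
  · exact Groth.L09.UnivBdd.isClosed_fdeg_le hf r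
  · exact Groth.L06.FibreDegree.isFinLocFreeOfDeg_snd_iff_of_bound hf g r

end Groth.Agent.S1447
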