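import Groth.Statements.S14471
import Groth.Agent.L21.VanOrders

set_option autoImplicit false
set_option backward.isDefEq.respectTransparency false
universe u
open CategoryTheory CategoryTheory.Limits AlgebraicGeometry
open Curves

namespace Groth.Agent.S14471

/-- Let k be an algebraically closed field, C a smooth proper curve over k (proper and smooth over k,
integral, of dimension one), (L, s_0, …, s_r) a linear series g^r_d on C (L an invertible module of
degree d with k-linearly independent global sections s_0, …, s_r spanning a subspace V of Γ(C, L))
and p a closed point of C. For a nonzero σ ∈ V write ord_p σ for the length of the O_{C,p}-module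
L_p/(σ_p), the order of vanishing of σ at p. Then σ ↦ ord_p σ takes exactly r + 1 distinct values on
V minus 0. (The published statement is for a smooth projective curve over the complex numbers and a
complex point p; this row states it over any algebraically closed field.) -/
theorem result (k : Type u) [Field k] [IsAlgClosed k]
    (C : Scheme.{u}) [C.Over (Spec (CommRingCat.of k))] (hC : Curve.IsSmoothProperCurve k C (C ↘ (Spec (CommRingCat.of k))))
    (L : C.Modules) (d r : ℕ) (s : Fin (r + 1) → LinSer.Sect C L) (hL : LinSer.IsLinSer k C L d r s)
    (p : C) (hp : IsClosed ({p} : Set C)) :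
    Set.ncard ((fun c : Fin (r + 1) → k =>
        Module.length (C.presheaf.stalk p)
          (↥(L.presheaf.stalk p) ⧸ Submodule.span (C.presheaf.stalk p)
            {(L.presheaf.germ ⊤ p trivial) (∑ i, (Coh.toGlobal (C ↘ Spec (CommRingCat.of k)) (c i)) • s i)})) ''
        {c : Fin (r + 1) → k | c ≠ 0}) = r + 1 := by
  obtain ⟨hp1, hp2, hp3, hd⟩ := hC
  haveI := hp1
  haveI := hp2
  haveI := hp3
  exact Groth.L21.VanOrders.ncard_vanishingOrders k hd L hL.1 s hL.2.2 p hp

end Groth.Agent.S14471
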