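import Groth.Statements.S14473
import Groth.Agent.L21.GenusOne.Group
import Groth.Agent.L21.SmoothCurveDim
import Groth.Agent.L21.RR.Point
import Groth.Agent.L08.Cube.Seesaw

set_option autoImplicit false
set_option backward.isDefEq.respectTransparency false
set_option backward.isDefEq.respectTransparency.types false
universe u
open CategoryTheory CategoryTheory.Limits AlgebraicGeometry
open MonoidalCategory CartesianMonoidalCategory
open scoped MonObj
open Curves

namespace Groth.Agent.S14473

/-- Let k be an algebraically closed field and C a smooth proper connected curve over k (proper and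
smooth over k, integral, of dimension one) of genus 1, the genus being the dimension of H¹(C, O_C).
Then the group of k-automorphisms of C is infinite: there are infinitely many automorphisms of the
scheme C over Spec k. -/
theorem result (k : Type u) [Field k] [IsAlgClosed k]
    (C : Scheme.{u}) [C.Over (Spec (CommRingCat.of k))] (hC : Curve.IsSmoothProperCurve k C (C ↘ (Spec (CommRingCat.of k))))
    (hg : Curv2.genus k C = 1) :
    Infinite {e : C ≅ C // e.hom ≫ (C ↘ (Spec (CommRingCat.of k))) = C ↘ (Spec (CommRingCat.of k))} := by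
  obtain ⟨hp, hs, hi, hd⟩ := hC
  haveI := hp
  haveI := hs
  haveI := hi
  let p := C ↘ Spec (CommRingCat.of k)
  haveI := Groth.L08.Cube.geometricallyIntegral_of_isAlgClosed p
  haveI := Groth.L21.SmoothCurve.smoothOfRelativeDimension_one (k := k) p hd
  haveI : GeometricallyConnected p := inferInstance
  haveI : JacobsonSpace ↥C := LocallyOfFiniteType.jacobsonSpace p
  haveI := Groth.L21.RR.isNoetherian_of_proper (X := C) k
  -- infinitely many closed points
  have hinf : Infinite (closedPoints (X := C)) := by
    refine ⟨fun hfin => ?_⟩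
    have hc : IsClosed (closedPoints (X := C) : Set C) := by
      rw [← Set.biUnion_of_singleton (closedPoints (X := C))]
      exact (Set.toFinite _).isClosed_biUnion fun z hz => hz
    have hη : genericPoint C ∈ closedPoints (X := C) := by
      have h := closure_closedPoints (X := C)
      rw [hc.closure_eq] at h
      rw [h]; trivial
    exact Groth.L21.RR.ne_genericPoint_of_isClosed hd (z := genericPoint C) hη rfl
  have hsec : ∀ z : closedPoints (X := C), ∃ s : 𝟙_ (Over (Spec (CommRingCat.of k))) ⟶ Over.mk p,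
      s.left (IsLocalRing.closedPoint k) = z.1 := fun z => by
    have hb : Function.Bijective (Curv2.resMap k C z.1) := by
      refine ⟨(Curv2.resMap k C z.1).injective, fun v => ?_⟩
      obtain ⟨a, rfl⟩ := C.residue_surjective _ v
      obtain ⟨c, hc⟩ := Groth.L21.RR.isRat_of_isClosed k z.2 a
      refine ⟨c, (sub_eq_zero.1 ?_).symm⟩
      have h0 : (C.residue _).hom (a - Groth.L21.RR.cstAt k _ c) = 0 := (IsLocalRing.residue_eq_zero_iff _).2 hc
      rw [map_sub] at h0
      exact h0
    obtain ⟨s, hs, hsz⟩ := Groth.L21.G1.exists_section_of_rat (L := k) hb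
    exact ⟨Over.homMk s hs, hsz _⟩
  choose s hs using hsec
  obtain ⟨z₀⟩ := (inferInstance : Nonempty (closedPoints (X := C)))
  obtain ⟨G, -, -, -⟩ := Groth.L21.G1.exists_grpObj_sum p hg (s z₀)
  let _ := G
  let t : (𝟙_ (Over (Spec (CommRingCat.of k))) ⟶ Over.mk p) → (Over.mk p ⟶ Over.mk p) := fun x =>
    (toUnit (Over.mk p) ≫ x) * 𝟙 (Over.mk p)
  have htt : ∀ x y, t x ≫ t y = (toUnit (Over.mk p) ≫ (y * x)) * 𝟙 (Over.mk p) := fun x y => by
    show t x ≫ ((toUnit (Over.mk p) ≫ y) * 𝟙 (Over.mk p)) = _
    rw [MonObj.comp_mul, ← Category.assoc, toUnit_unique (t x ≫ toUnit _) (toUnit _), Category.comp_id,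
      MonObj.comp_mul, mul_assoc]
  have ht1 : t 1 = 𝟙 _ := by
    show (toUnit (Over.mk p) ≫ 1) * 𝟙 (Over.mk p) = _
    rw [MonObj.comp_one, one_mul]
  let T : (𝟙_ (Over (Spec (CommRingCat.of k))) ⟶ Over.mk p) → (Over.mk p ≅ Over.mk p) := fun x =>
    { hom := t x
      inv := t x⁻¹
      hom_inv_id := by rw [htt, inv_mul_cancel]; exact ht1
      inv_hom_id := by rw [htt, mul_inv_cancel]; exact ht1 }
  let F : closedPoints (X := C) → {e : C ≅ C // e.hom ≫ p = p} := fun z =>
    ⟨(Over.forget _).mapIso (T (s z)), Over.w (T (s z)).hom⟩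
  refine Infinite.of_injective F fun z z' h => Subtype.ext ?_
  have h1 : t (s z) = t (s z') := Over.OverMorphism.ext (congrArg (fun e => e.1.hom) h)
  have h2 : ∀ x, η[Over.mk p] ≫ t x = x := fun x => by
    show η[Over.mk p] ≫ ((toUnit (Over.mk p) ≫ x) * 𝟙 (Over.mk p)) = _
    rw [MonObj.comp_mul, ← Category.assoc, toUnit_unique (η[Over.mk p] ≫ toUnit _) (𝟙 _), Category.id_comp,
      Category.comp_id]
    have : (η[Over.mk p] : 𝟙_ _ ⟶ Over.mk p) = 1 := by
      rw [Hom.one_def, toUnit_unique (toUnit (𝟙_ (Over (Spec (CommRingCat.of k))))) (𝟙 _), Category.id_comp]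
    rw [this, mul_one]
  have h3 : s z = s z' := by rw [← h2 (s z), h1, h2]
  rw [← hs z, ← hs z', h3]

end Groth.Agent.S14473
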