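import Groth.Statements.S14474
import Groth.Agent.L21.Nodal.NodalMax

set_option autoImplicit false
universe u
open CategoryTheory CategoryTheory.Limits AlgebraicGeometry
open Curves

namespace Groth.Agent.S14474

/-- Let π : C → S be a proper, flat morphism of finite presentation all of whose fibres have every
irreducible component of dimension one (every geometric fibre is a curve). Then the set of points s
of S such that the fibre C_s, as a scheme over κ(s), has at-worst-nodal singularities (each closed
point has a smooth open neighbourhood or is a node) is open in S. -/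
theorem result {C S : Scheme.{u}} (π : C ⟶ S)
    [IsProper π] [Flat π] [LocallyOfFinitePresentation π]
    (hfib : ∀ s : S, ∀ Z ∈ irreducibleComponents (↥(π.fiber s) : Type u), topologicalKrullDim Z = 1) :
    IsOpen {s : S | letI : (π.fiber s).Over (Spec (S.residueField s)) := ⟨π.fiberToSpecResidueField s⟩
      Curv2.AtWorstNodal (S.residueField s) (π.fiber s)} := by
  -- points lying in a fibre with at-worst-nodal singularities have nodal neighbourhoods
  let N : C → Prop := fun x => ∃ O : C.Opens, x ∈ O ∧ Curv2.IsNodalFamily (O.ι ≫ π)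
  have hcl : ∀ s : S, Groth.L21.Nodal.CurveLike (π.fiber s) := fun s => (Groth.L21.Nodal.curveLike_iff _).2 (hfib s)
  have hsm : ∀ O : C.Opens, Smooth (O.ι ≫ π) → Curv2.IsNodalFamily (O.ι ≫ π) := by
    intro O hO
    refine ⟨inferInstance, inferInstance, fun s => ?_⟩
    obtain ⟨φ, hpb, hφ⟩ := Groth.L21.Nodal.exists_fiberMap π O.ι s
    haveI : IsOpenImmersion φ := MorphismProperty.of_isPullback hpb.flip inferInstance
    haveI : LocallyOfFiniteType (π.fiberToSpecResidueField s) := MorphismProperty.pullback_snd _ _ inferInstance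
    haveI : JacobsonSpace (π.fiber s) := LocallyOfFiniteType.jacobsonSpace (π.fiberToSpecResidueField s)
    refine ⟨(Groth.L21.Nodal.curveLike_iff _).1 (Groth.L21.Nodal.CurveLike.of_quasiFinite φ (hcl s)), fun x _ => Or.inl ⟨⊤, trivial, ?_⟩⟩
    haveI := hO
    haveI : Smooth ((O.ι ≫ π).fiberToSpecResidueField s) := MorphismProperty.pullback_snd _ _ inferInstance
    exact inferInstanceAs (Smooth ((⊤ : ((O.ι ≫ π).fiber s).Opens).ι ≫ (O.ι ≫ π).fiberToSpecResidueField s))
  have key : {s : S | letI : (π.fiber s).Over (Spec (S.residueField s)) := ⟨π.fiberToSpecResidueField s⟩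
      Curv2.AtWorstNodal (S.residueField s) (π.fiber s)} = (⇑π '' {x | N x}ᶜ)ᶜ := by
    ext s
    constructor
    · rintro hs ⟨x, hx, hxs⟩
      subst hxs
      letI : (π.fiber (π x)).Over (Spec (S.residueField (π x))) := ⟨π.fiberToSpecResidueField (π x)⟩
      haveI : LocallyOfFiniteType (π.fiberToSpecResidueField (π x)) := MorphismProperty.pullback_snd _ _ inferInstance
      haveI : JacobsonSpace (π.fiber (π x)) := LocallyOfFiniteType.jacobsonSpace (π.fiberToSpecResidueField (π x))
      obtain ⟨z, hz, hzc⟩ := nonempty_inter_closedPoints (X := π.fiber (π x))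
        (Z := closure {π.asFiber x}) ⟨_, subset_closure rfl⟩ isClosed_closure.isLocallyClosed
      obtain ⟨O, hzO, hO⟩ : N (π.fiberι (π x) z) := by
        rcases hs z hzc with ⟨U, hzU, hU⟩ | hn
        · have hz' : π (π.fiberι (π x) z) = π x := by
            have : π.fiberι (π x) z ∈ Set.range (π.fiberι (π x)) := ⟨z, rfl⟩
            rwa [π.range_fiberι (π x)] at this
          have hnhd := Groth.L05.Point.nhd_smooth_of_fiber π (π.fiberι (π x) z) (Flat.stalkMap π _)
            (Groth.L21.Nodal.eq_asFiber π hz' z rfl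
              (fun s y => Groth.L05.Point.Nhd @Smooth (π.fiberToSpecResidueField s) y) ⟨U, hzU, hU⟩)
          obtain ⟨O, hO, hO'⟩ := hnhd
          exact ⟨O, hO, hsm O hO'⟩
        · refine Groth.L21.Nodal.exists_open_isNodalFamily π _ ?_
          have hz' : π (π.fiberι (π x) z) = π x := by
            have : π.fiberι (π x) z ∈ Set.range (π.fiberι (π x)) := ⟨z, rfl⟩
            rwa [π.range_fiberι (π x)] at this
          exact Groth.L21.Nodal.eq_asFiber π hz' z rfl (fun s y => @Curv2.IsNode (S.residueField s) _ (π.fiber s)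
            ⟨π.fiberToSpecResidueField s⟩ y) hn
      refine hx ⟨O, ?_, hO⟩
      have hsp : x ⤳ π.fiberι (π x) z := by
        have := (specializes_iff_mem_closure.mpr hz).map (π.fiberι (π x)).continuous
        rwa [π.fiberι_asFiber] at this
      exact hsp.mem_open O.2 hzO
    · intro hs z hzc
      letI : (π.fiber s).Over (Spec (S.residueField s)) := ⟨π.fiberToSpecResidueField s⟩
      have hz' : π (π.fiberι s z) = s := by
        have : π.fiberι s z ∈ Set.range (π.fiberι s) := ⟨z, rfl⟩
        rwa [π.range_fiberι s] at this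
      obtain ⟨O, hzO, hO⟩ : N (π.fiberι s z) := by_contra fun h => hs ⟨_, h, hz'⟩
      obtain ⟨φ, hpb, hφ⟩ := Groth.L21.Nodal.exists_fiberMap π O.ι s
      haveI : IsOpenImmersion φ := MorphismProperty.of_isPullback hpb.flip inferInstance
      obtain ⟨a, ha, -⟩ := Scheme.exists_preimage_of_isPullback hpb z ⟨π.fiberι s z, hzO⟩ rfl
      subst ha
      letI : ((O.ι ≫ π).fiber s).Over (Spec (S.residueField s)) := ⟨(O.ι ≫ π).fiberToSpecResidueField s⟩
      haveI : LocallyOfFiniteType (π.fiber s ↘ Spec (S.residueField s)) := MorphismProperty.pullback_snd _ _ inferInstance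
      haveI : LocallyOfFiniteType ((O.ι ≫ π).fiber s ↘ Spec (S.residueField s)) := MorphismProperty.pullback_snd _ _ inferInstance
      haveI : JacobsonSpace (π.fiber s) := LocallyOfFiniteType.jacobsonSpace (π.fiber s ↘ Spec (S.residueField s))
      have hac : IsClosed ({a} : Set ((O.ι ≫ π).fiber s)) := by
        have : ({a} : Set ((O.ι ≫ π).fiber s)) = φ ⁻¹' {φ a} := by
          ext b
          exact ⟨fun h => congrArg φ h, fun h => φ.isOpenEmbedding.injective h⟩
        rw [this]
        exact hzc.preimage φ.continuous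
      rcases (hO.2.2 s).2 a hac with ⟨U, haU, hU⟩ | hn
      · exact Or.inl (Groth.L05.Point.nhd_of_openImm (P := @Smooth) (π.fiberToSpecResidueField s) (U.ι ≫ φ) ⟨a, haU⟩
          (by rw [Category.assoc, hφ]; exact hU))
      · exact Or.inr (Groth.L21.Nodal.isNode_image_of_etale (k := S.residueField s) φ hφ a hn)
  rw [key]
  refine (π.isClosedMap _ (IsOpen.isClosed_compl ?_)).isOpen_compl
  exact isOpen_iff_forall_mem_open.2 fun x ⟨O, hx, hO⟩ => ⟨O, fun y hy => ⟨O, hy, hO⟩, O.2, hx⟩

end Groth.Agent.S14474
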