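import Groth.Statements.S14477
import Groth.Agent.L19.Jacobian.Basic
import Mathlib.RingTheory.Smooth.Kaehler
import Mathlib.RingTheory.Kaehler.Basic
import Mathlib.RingTheory.Smooth.Basic
import Mathlib.LinearAlgebra.Matrix.Determinant.Basic

set_option autoImplicit false
set_option backward.isDefEq.respectTransparency.types false
set_option backward.isDefEq.respectTransparency false
set_option linter.style.haveILetI false
universe u
open KaehlerDifferential
open LocInt

namespace Groth.Agent.S14477

/-- Let A → B be a smooth ring map with Ω_{B/A} of rank n at every prime of B, g ∈ B a nonzerodivisor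
and R = B/gB, a hypersurface of virtual relative dimension n - 1 over A; let J ⊆ R be the
annihilator of the n-th exterior power of Ω_{R/A} and Z = Spec R/J. Then J is the ideal of R
generated by the classes of the elements φ(dg), φ ranging over the B-linear forms on Ω_{B/A}; where
Ω_{B/A} is free on dt_1, …, dt_n this says that Z is cut out by the partial derivatives ∂g/∂t_1, …,
∂g/∂t_n. In particular every φ(dg) vanishes in R/J; since Ω_{B/A} is finite projective this says
that dg ⊗ 1 = 0 in Ω_{B/A} ⊗_B R/J, i.e. the map from the conormal module gB/g²B ⊗ R/J to Ω_{B/A}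
⊗_B R/J induced by d vanishes, and with the cotangent complex of R over A represented by the
two-term complex (gB/g²B → Ω_{B/A} ⊗_B R) this is the statement that the canonical map from L_Z =
L_1 i^* L_{R/A} to the conormal module restricted to Z is an isomorphism. (The published statement
also asserts that, for a regular immersion of any codimension into a smooth scheme, this map from
L_Z is a locally split injection; that part is not stated here. The published statement is the
isomorphism alone, which amounts to the inclusion of the ideal generated by the φ(dg) in J; this row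
states the equality, whose other inclusion is the local description of Z by the partial derivatives
given with the definition of Z.) -/
theorem result (A B R : Type u) [CommRing A] [CommRing B] [CommRing R]
    [Algebra A B] [Algebra B R] [Algebra A R] [IsScalarTower A B R] [Algebra.Smooth A B] (n : ℕ)
    (hn : ∀ p : PrimeSpectrum B, Module.rankAtStalk (Ω[B⁄A]) p = n)
    (g : B) (hg : IsSMulRegular B g) (hsurj : Function.Surjective (algebraMap B R))
    (hker : RingHom.ker (algebraMap B R) = Ideal.span {g}) :
    (⋀[R]^n (Ω[R⁄A])).annihilator =
      Ideal.span (Set.range fun φ : Ω[B⁄A] →ₗ[B] B => algebraMap B R (φ (KaehlerDifferential.D A B g))) := by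
  classical
  let I : Ideal R :=
    Ideal.span (Set.range fun φ : Ω[B⁄A] →ₗ[B] B => algebraMap B R (φ (KaehlerDifferential.D A B g)))
  let π : Ω[B⁄A] →ₗ[B] Ω[R⁄A] := KaehlerDifferential.map A A B R
  have hπ : Function.Surjective π := by
    intro y
    obtain ⟨z, rfl⟩ := KaehlerDifferential.mapBaseChange_surjective A B R hsurj y
    induction z using TensorProduct.induction_on with
    | zero => exact ⟨0, by simp⟩
    | tmul r w =>
      obtain ⟨b, rfl⟩ := hsurj r
      exact ⟨b • w, by rw [KaehlerDifferential.mapBaseChange_tmul, map_smul, algebraMap_smul]⟩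
    | add a b ha hb =>
      obtain ⟨a', ha'⟩ := ha
      obtain ⟨b', hb'⟩ := hb
      exact ⟨a' + b', by rw [map_add, map_add, ha', hb']⟩
  have hg0 : algebraMap B R g = 0 := by
    rw [← RingHom.mem_ker, hker]; exact Ideal.mem_span_singleton_self g
  have hπdg : π (KaehlerDifferential.D A B g) = 0 := by
    simp only [π, KaehlerDifferential.map_D, hg0, map_zero]
  haveI : Module.Finite B (Ω[B⁄A]) := inferInstance
  haveI : Module.Projective B (Ω[B⁄A]) := inferInstance
  show _ = I
  refine le_antisymm (fun r hr => ?_) ?_
  · let J : Ideal R := (I : Submodule R R).colon {r}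
    suffices J = ⊤ by
      have h1 : (1 : R) ∈ J := by rw [this]; trivial
      simpa [J, Submodule.mem_colon_singleton] using h1
    by_contra hJ
    obtain ⟨M, hM, hJM⟩ := Ideal.exists_le_maximal J hJ
    obtain ⟨m, φ, s, hs, -, hφ⟩ :=
      Groth.L19.Jacobian.exists_local_coords (n := n) hn (M.comap (algebraMap B R))
    let c₀ : Ω[B⁄A] →ₗ[B] (Fin n → R ⧸ I) :=
      LinearMap.pi fun i => ((Ideal.Quotient.mkₐ B I).toLinearMap.comp (Algebra.linearMap B R)).comp (φ i)
    let c₁ : TensorProduct B R (Ω[B⁄A]) →ₗ[R] (Fin n → R ⧸ I) := LinearMap.liftBaseChange R c₀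
    have hz : ∀ i (b : B), b ∈ RingHom.ker (algebraMap B R) →
        Ideal.Quotient.mk I (algebraMap B R (φ i (KaehlerDifferential.D A B b))) = 0 := by
      intro i b hb
      rw [hker] at hb
      obtain ⟨a, rfl⟩ := Ideal.mem_span_singleton.mp hb
      rw [Derivation.leibniz, map_add, map_smul, map_smul, smul_eq_mul, smul_eq_mul, map_add, map_mul,
        map_mul, map_add, map_mul, map_mul, hg0, map_zero, zero_mul, zero_add,
        show Ideal.Quotient.mk I (algebraMap B R (φ i (KaehlerDifferential.D A B g))) = 0 from
          Ideal.Quotient.eq_zero_iff_mem.mpr (Ideal.subset_span ⟨φ i, rfl⟩), mul_zero]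
    have hc₁ : LinearMap.ker (KaehlerDifferential.mapBaseChange A B R) ≤ LinearMap.ker c₁ := by
      intro z hz'
      have hz'' : z ∈ (LinearMap.ker (KaehlerDifferential.mapBaseChange A B R)).restrictScalars B := hz'
      rw [← KaehlerDifferential.range_kerCotangentToTensor A B R hsurj] at hz''
      obtain ⟨y, rfl⟩ := hz''
      obtain ⟨y, rfl⟩ := Ideal.toCotangent_surjective _ y
      rw [LinearMap.mem_ker, KaehlerDifferential.kerCotangentToTensor_toCotangent,
        LinearMap.liftBaseChange_tmul, one_smul]
      funext i
      exact hz i y.1 y.2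
    let c : Ω[R⁄A] →ₗ[R] (Fin n → R ⧸ I) :=
      ((LinearMap.ker (KaehlerDifferential.mapBaseChange A B R)).liftQ c₁ hc₁).comp
        (LinearMap.quotKerEquivOfSurjective _
          (KaehlerDifferential.mapBaseChange_surjective A B R hsurj)).symm.toLinearMap
    have hc : ∀ w, c (π w) = c₀ w := by
      intro w
      have h1 : π w = KaehlerDifferential.mapBaseChange A B R (TensorProduct.tmul B (1 : R) w) := by
        rw [KaehlerDifferential.mapBaseChange_tmul, one_smul]
      have h2 : (LinearMap.quotKerEquivOfSurjective _
          (KaehlerDifferential.mapBaseChange_surjective A B R hsurj)).symm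
            (KaehlerDifferential.mapBaseChange A B R (TensorProduct.tmul B (1 : R) w)) =
          Submodule.Quotient.mk (TensorProduct.tmul B (1 : R) w) := by
        rw [LinearEquiv.symm_apply_eq]; rfl
      simp only [c, LinearMap.comp_apply, LinearEquiv.coe_coe, h1, h2, Submodule.liftQ_apply,
        c₁, LinearMap.liftBaseChange_tmul, one_smul]
    let dQ : (Fin n → R ⧸ I) [⋀^Fin n]→ₗ[R] (R ⧸ I) :=
      { toMultilinearMap :=
          ((Matrix.detRowAlternating (R := R ⧸ I) (n := Fin n)).toMultilinearMap.restrictScalars R)
        map_eq_zero_of_eq' := fun v i j h hne =>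
          (Matrix.detRowAlternating (R := R ⧸ I) (n := Fin n)).map_eq_zero_of_eq v h hne }
    let Φ := exteriorPower.alternatingMapLinearEquiv (dQ.compLinearMap c)
    let x := exteriorPower.ιMulti R n (fun j => π (m j))
    have hΦ : Φ x = Ideal.Quotient.mk I (algebraMap B R s) ^ n := by
      rw [exteriorPower.alternatingMapLinearEquiv_apply_ιMulti]
      show Matrix.det (Matrix.of fun j => c (π (m j))) = _
      rw [show (Matrix.of fun j => c (π (m j))) = Matrix.diagonal (fun _ => Ideal.Quotient.mk I (algebraMap B R s)) from ?_,
        Matrix.det_diagonal, Finset.prod_const, Finset.card_univ, Fintype.card_fin]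
      ext j i
      rw [Matrix.of_apply, hc]
      simp only [c₀, LinearMap.pi_apply, LinearMap.comp_apply, hφ, Matrix.diagonal_apply]
      rcases eq_or_ne i j with h | h
      · simp [h]
      · simp [h, Ne.symm h]
    have h0 : r • Φ x = 0 := by rw [← map_smul, Module.mem_annihilator.mp hr, map_zero]
    rw [hΦ, ← map_pow, ← map_pow] at h0
    have hmem : algebraMap B R (s ^ n) ∈ J := by
      rw [Submodule.mem_colon_singleton]
      refine Ideal.Quotient.eq_zero_iff_mem.mp ?_
      rw [smul_eq_mul, map_mul, mul_comm]
      exact h0
    exact hs ((Ideal.IsPrime.comap (algebraMap B R) (hK := hM.isPrime)).mem_of_pow_mem n (hJM hmem))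
  · rw [Ideal.span_le]
    rintro _ ⟨φ, rfl⟩
    rw [SetLike.mem_coe, Module.mem_annihilator]
    intro x
    suffices (LinearMap.lsmul R (⋀[R]^n (Ω[R⁄A])) (algebraMap B R (φ (KaehlerDifferential.D A B g)))) = 0 from
      LinearMap.congr_fun this x
    apply exteriorPower.linearMap_ext
    ext w
    choose v hv using fun i => hπ (w i)
    let α : Ω[B⁄A] [⋀^Fin n]→ₗ[B] (⋀[R]^n (Ω[R⁄A])) :=
      { toFun := fun u => exteriorPower.ιMulti R n (fun i => π (u i))
        map_update_add' := fun {_} u i a b => by
          have hupd : ∀ z, (fun k => π (Function.update u i z k)) = Function.update (fun k => π (u k)) i (π z) :=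
            fun z => funext fun k => Function.apply_update (fun _ => π) u i z k
          rw [hupd, hupd, hupd, map_add, AlternatingMap.map_update_add]
        map_update_smul' := fun {_} u i a b => by
          have hupd : ∀ z, (fun k => π (Function.update u i z k)) = Function.update (fun k => π (u k)) i (π z) :=
            fun z => funext fun k => Function.apply_update (fun _ => π) u i z k
          rw [hupd, hupd, map_smul, ← algebraMap_smul R a (π b), AlternatingMap.map_update_smul, algebraMap_smul]
        map_eq_zero_of_eq' := fun u i j h hne =>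
          AlternatingMap.map_eq_zero_of_eq _ _ (congrArg π h) hne }
    let β := AlternatingMap.alternatizeUncurryFin (φ.smulRight α)
    have h0 : β (Fin.cons (KaehlerDifferential.D A B g) v) = 0 :=
      Groth.L19.Jacobian.alternating_eq_zero hn β _
    rw [AlternatingMap.alternatizeUncurryFin_apply, Fin.sum_univ_succ, Finset.sum_eq_zero] at h0
    · simp only [Fin.val_zero, pow_zero, one_smul, Fin.cons_zero, add_zero, LinearMap.smulRight_apply,
        Fin.removeNth_zero, Fin.tail_cons, AlternatingMap.smul_apply] at h0
      simp only [LinearMap.compAlternatingMap_apply, LinearMap.lsmul_apply, LinearMap.zero_apply]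
      rw [algebraMap_smul, show w = fun i => π (v i) from funext fun i => (hv i).symm]
      exact congrArg Subtype.val h0
    · intro i _
      have hpos : 0 < n := i.pos
      have : α (Fin.removeNth i.succ (Fin.cons (α := fun _ => Ω[B⁄A]) (KaehlerDifferential.D A B g) v)) = 0 := by
        obtain ⟨k, rfl⟩ : ∃ k, n = k + 1 := ⟨n - 1, by omega⟩
        show exteriorPower.ιMulti R (k + 1) (fun l => π (Fin.removeNth (α := fun _ => Ω[B⁄A]) i.succ
          (Fin.cons (α := fun _ => Ω[B⁄A]) (KaehlerDifferential.D A B g) v) l)) = 0
        refine AlternatingMap.map_coord_zero _ (0 : Fin (k + 1)) ?_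
        show π _ = 0
        simp [Fin.removeNth, hπdg]
      simp [this]

end Groth.Agent.S14477
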