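import Groth.Statements.S14475
import Groth.Agent.L19.LocInt.TorDimSmooth
import Groth.Agent.L19.LocInt.Eisenbud
import Groth.Agent.S14477

set_option autoImplicit false
universe u
open CategoryTheory CategoryTheory.Limits KaehlerDifferential
open LocInt

namespace Groth.Agent.S14475

section Helpers
open CategoryTheory CategoryTheory.Limits
open Groth.L19.LocInt

theorem fd_or_subsingleton {A B R : Type u} [CommRing A] [CommRing B] [CommRing R]
    [Algebra A B] [Algebra B R] [Algebra A R] [IsScalarTower A B R] [Algebra.Smooth A B] (n : ℕ)
    (hn : ∀ p : PrimeSpectrum B, Module.rankAtStalk (Ω[B⁄A]) p = n)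
    {g : B} (hg : IsSMulRegular B g) (hsurj : Function.Surjective (algebraMap B R))
    (hker : RingHom.ker (algebraMap B R) = Ideal.span {g})
    (m : ℕ) (M : ModuleCat.{u} R) [Module B M] [IsScalarTower B R M]
    (hM : ∀ (P : ModuleCat.{u} A) (i : ℕ), m < i →
      IsZero (((Tor (ModuleCat.{u} A) i).obj ((ModuleCat.restrictScalars (algebraMap A R)).obj M)).obj P)) :
    (∃ d, d + 1 = m + n ∧ FD B (d + 1) M) ∨ Subsingleton M := by
  letI : Module A M := Module.compHom M (algebraMap A R)
  haveI : IsScalarTower A R M := IsScalarTower.of_algebraMap_smul fun _ _ => rfl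
  haveI : IsScalarTower A B M := IsScalarTower.of_algebraMap_smul fun a x => by
    rw [← algebraMap_smul R (algebraMap A B a) x, ← IsScalarTower.algebraMap_apply, algebraMap_smul]
  have h : FD B (m + n) M := fd_of_hasTorDimLE (hasTorDimLE_smooth n hn M m fun P _ _ p hp =>
    ModuleCat.subsingleton_of_isZero (hM (ModuleCat.of A P) p hp))
  rcases Nat.eq_zero_or_pos (m + n) with h0 | h0
  · exact Or.inr (subsingleton_of_flat hg hsurj hker (by rwa [h0] at h))
  · exact Or.inl ⟨m + n - 1, by omega, by rwa [Nat.sub_add_cancel h0]⟩

theorem isZero_tor_of_subsingleton {R : Type u} [CommRing R] (M N : ModuleCat.{u} R) [Subsingleton M] (p : ℕ) :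
    IsZero (((Tor (ModuleCat.{u} R) p).obj M).obj N) := by
  let Q := projectiveResolution N
  refine IsZero.of_iso ?_ (Q.isoLeftDerivedObj ((MonoidalCategory.tensoringLeft _).obj M) p)
  refine ShortComplex.isZero_homology_of_isZero_X₂ _ ?_
  haveI : Subsingleton (TensorProduct R M (Q.complex.X p)) :=
    subsingleton_of_forall_eq 0 fun z => by
      induction z using TensorProduct.induction_on with
      | zero => rfl
      | tmul a b => rw [Subsingleton.elim a 0, TensorProduct.zero_tmul]
      | add a b ha hb => rw [ha, hb, add_zero]
  exact ModuleCat.isZero_of_subsingleton (ModuleCat.of R (TensorProduct R M (Q.complex.X p)))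

end Helpers
open CategoryTheory CategoryTheory.Limits


/-- Let A → B be a smooth ring map with Ω_{B/A} of rank n at every prime of B, g ∈ B a nonzerodivisor
and R = B/gB, so that Spec R is a hypersurface of virtual relative dimension n - 1 over Spec A. Let
M be an R-module of flat dimension at most m over A (Tor^A_i(M, P) = 0 for i > m and every A-module
P) and N an R-module. Then for q ≥ m + n the module Tor^R_q(M, N) (Mathlib's Tor on R-modules,
left-derived in the second variable) is annihilated by the annihilator ideal of the n-th exterior
power of Ω_{R/A}, i.e. it is a module over the closed subscheme Z defined by that ideal. (The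
published statement is for a scheme that is locally such a hypersurface, an arbitrary module over it
of tor-dimension at most m over the base, and a bounded complex on a scheme over it; this row is the
affine case with a single module on the hypersurface itself.) -/
theorem result (A B R : Type u) [CommRing A] [CommRing B] [CommRing R]
    [Algebra A B] [Algebra B R] [Algebra A R] [IsScalarTower A B R] [Algebra.Smooth A B] (n : ℕ)
    (hn : ∀ p : PrimeSpectrum B, Module.rankAtStalk (Ω[B⁄A]) p = n)
    (g : B) (hg : IsSMulRegular B g) (hsurj : Function.Surjective (algebraMap B R))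
    (hker : RingHom.ker (algebraMap B R) = Ideal.span {g})
    (m : ℕ) (M N : ModuleCat.{u} R)
    (hM : ∀ (P : ModuleCat.{u} A) (i : ℕ), m < i →
      IsZero (((Tor (ModuleCat.{u} A) i).obj ((ModuleCat.restrictScalars (algebraMap A R)).obj M)).obj P))
    (q : ℕ) (hq : m + n ≤ q) :
    (⋀[R]^n (Ω[R⁄A])).annihilator ≤ Module.annihilator R (((Tor (ModuleCat.{u} R) q).obj M).obj N) := by
  letI : Module B M := Module.compHom M (algebraMap B R)
  haveI : IsScalarTower B R M := IsScalarTower.of_algebraMap_smul fun _ _ => rfl
  let e := fun p => Groth.L02.TorFlip.flipIso (A := R) p M N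
  rw [Groth.Agent.S14477.result A B R n hn g hg hsurj hker, Ideal.span_le]
  rintro _ ⟨φ, rfl⟩
  rw [SetLike.mem_coe, Module.mem_annihilator]
  intro w
  rcases fd_or_subsingleton n hn hg hsurj hker m M hM with ⟨d, hd, h⟩ | h
  · refine (e q).toLinearEquiv.injective ?_
    rw [map_smul, map_zero]
    exact Groth.L19.LocInt.tor_annihilated hg hsurj hker M h N (fun b => φ (KaehlerDifferential.D A B b))
      (fun a b => by simp) (fun a b => by simp [Derivation.leibniz, mul_comm]) q (by omega) _
  · haveI := h
    haveI := ModuleCat.subsingleton_of_isZero (isZero_tor_of_subsingleton M N q)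
    exact Subsingleton.elim _ _

end Groth.Agent.S14475
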