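import Groth.Statements.S14476
import Groth.Agent.L19.LocInt.TorDimSmooth
import Groth.Agent.L19.LocInt.Eisenbud

set_option autoImplicit false
universe u
open CategoryTheory CategoryTheory.Limits KaehlerDifferential
open LocInt

namespace Groth.Agent.S14476

section Helpers
open CategoryTheory CategoryTheory.Limits
open Groth.L19.LocInt

theorem fd_or_subsingleton {A B R : Type u} [CommRing A] [CommRing B] [CommRing R]
    [Algebra A B] [Algebra B R] [Algebra A R] [IsScalarTower A B R] [Algebra.Smooth A B] (n : ℕ)
    (hn : ∀ p : PrimeSpectrum B, Module.rankAtStalk (Ω[B⁄A]) p = n)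
    {g : B} (hg : IsSMulRegular B g) (hsurj : Function.Surjective (algebraMap B R))
    (hker : RingHom.ker (algebraMap B R) = Ideal.span {g})
    (m : ℕ) (M : ModuleCat.{u} R) [Module B M] [IsScalarTower B R M]
    (hM : ∀ (P : ModuleCat.{u} A) (i : ℕ), m < i →
      IsZero (((Tor (ModuleCat.{u} A) i).obj ((ModuleCat.restrictScalars (algebraMap A R)).obj M)).obj P)) :
    (∃ d, d + 1 = m + n ∧ FD B (d + 1) M) ∨ Subsingleton M := by
  letI : Module A M := Module.compHom M (algebraMap A R)
  haveI : IsScalarTower A R M := IsScalarTower.of_algebraMap_smul fun _ _ => rfl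
  haveI : IsScalarTower A B M := IsScalarTower.of_algebraMap_smul fun a x => by
    rw [← algebraMap_smul R (algebraMap A B a) x, ← IsScalarTower.algebraMap_apply, algebraMap_smul]
  have h : FD B (m + n) M := fd_of_hasTorDimLE (hasTorDimLE_smooth n hn M m fun P _ _ p hp =>
    ModuleCat.subsingleton_of_isZero (hM (ModuleCat.of A P) p hp))
  rcases Nat.eq_zero_or_pos (m + n) with h0 | h0
  · exact Or.inr (subsingleton_of_flat hg hsurj hker (by rwa [h0] at h))
  · exact Or.inl ⟨m + n - 1, by omega, by rwa [Nat.sub_add_cancel h0]⟩

theorem isZero_tor_of_subsingleton {R : Type u} [CommRing R] (M N : ModuleCat.{u} R) [Subsingleton M] (p : ℕ) :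
    IsZero (((Tor (ModuleCat.{u} R) p).obj M).obj N) := by
  let Q := projectiveResolution N
  refine IsZero.of_iso ?_ (Q.isoLeftDerivedObj ((MonoidalCategory.tensoringLeft _).obj M) p)
  refine ShortComplex.isZero_homology_of_isZero_X₂ _ ?_
  haveI : Subsingleton (TensorProduct R M (Q.complex.X p)) :=
    subsingleton_of_forall_eq 0 fun z => by
      induction z using TensorProduct.induction_on with
      | zero => rfl
      | tmul a b => rw [Subsingleton.elim a 0, TensorProduct.zero_tmul]
      | add a b ha hb => rw [ha, hb, add_zero]
  exact ModuleCat.isZero_of_subsingleton (ModuleCat.of R (TensorProduct R M (Q.complex.X p)))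

end Helpers
open CategoryTheory CategoryTheory.Limits


/-- Let A → B be a smooth ring map with Ω_{B/A} of rank n at every prime of B, g ∈ B a nonzerodivisor
and R = B/gB. Let M be an R-module of flat dimension at most m over A (Tor^A_i(M, P) = 0 for i > m
and every A-module P) and N an R-module. Then for q ≥ m + n + 2 the R-modules Tor^R_q(M, N) and
Tor^R_{q-2}(M, N) (Mathlib's Tor, left-derived in the second variable) are isomorphic. (Existence of
an isomorphism only: the published statement gives a specific isomorphism Tor_q → L_Z ⊗ Tor_{q-2}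
built from the Atiyah class, with L_Z an invertible module on the closed subscheme Z cut out by the
annihilator of the top exterior power of Ω_{R/A}; for a global hypersurface R = B/gB the module L_Z
is free of rank one and Tor_{q-2} is already a module over Z, so the target is Tor_{q-2} itself. The
published statement allows a bounded complex on a scheme over the hypersurface in place of N.) -/
theorem result (A B R : Type u) [CommRing A] [CommRing B] [CommRing R]
    [Algebra A B] [Algebra B R] [Algebra A R] [IsScalarTower A B R] [Algebra.Smooth A B] (n : ℕ)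
    (hn : ∀ p : PrimeSpectrum B, Module.rankAtStalk (Ω[B⁄A]) p = n)
    (g : B) (hg : IsSMulRegular B g) (hsurj : Function.Surjective (algebraMap B R))
    (hker : RingHom.ker (algebraMap B R) = Ideal.span {g})
    (m : ℕ) (M N : ModuleCat.{u} R)
    (hM : ∀ (P : ModuleCat.{u} A) (i : ℕ), m < i →
      IsZero (((Tor (ModuleCat.{u} A) i).obj ((ModuleCat.restrictScalars (algebraMap A R)).obj M)).obj P))
    (q : ℕ) (hq : m + n + 2 ≤ q) :
    Nonempty ((((Tor (ModuleCat.{u} R) q).obj M).obj N) ≅ (((Tor (ModuleCat.{u} R) (q - 2)).obj M).obj N)) := by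
  letI : Module B M := Module.compHom M (algebraMap B R)
  haveI : IsScalarTower B R M := IsScalarTower.of_algebraMap_smul fun _ _ => rfl
  let e := fun p => Groth.L02.TorFlip.flipIso (A := R) p M N
  rcases fd_or_subsingleton n hn hg hsurj hker m M hM with ⟨d, hd, h⟩ | h
  · obtain ⟨f⟩ := Groth.L19.LocInt.tor_periodic hg hsurj hker M h N q (by omega)
    exact ⟨e q ≪≫ (f.toModuleIso :) ≪≫ (e (q - 2)).symm⟩
  · haveI := h
    exact ⟨(isZero_tor_of_subsingleton M N q).iso (isZero_tor_of_subsingleton M N (q - 2))⟩

end Groth.Agent.S14476
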