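import Groth.Statements.S14478
import Mathlib.LinearAlgebra.Dual.Lemmas
import Mathlib.LinearAlgebra.Projection
import Mathlib.LinearAlgebra.FiniteDimensional.Lemmas

set_option autoImplicit false
universe u
open CharCyc

namespace Groth.Agent.S14478

theorem exists_not_mem_union {k V : Type u} [Field k] [AddCommGroup V] [Module k V]
    (A B : Submodule k V) (hA : A ≠ ⊤) (hB : B ≠ ⊤) : ∃ v, v ∉ A ∧ v ∉ B := by
  obtain ⟨a, ha⟩ : ∃ a, a ∉ A := by
    by_contra h
    push Not at h
    exact hA (eq_top_iff.mpr fun x _ => h x)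
  obtain ⟨b, hb⟩ : ∃ b, b ∉ B := by
    by_contra h
    push Not at h
    exact hB (eq_top_iff.mpr fun x _ => h x)
  by_cases haB : a ∈ B
  · by_cases hbA : b ∈ A
    · exact ⟨a + b, fun h => ha ((A.add_mem_iff_left hbA).mp h), fun h => hb ((B.add_mem_iff_right haB).mp h)⟩
    · exact ⟨b, hbA, hb⟩
  · exact ⟨a, ha, haB⟩

theorem exists_common_compl {k V : Type u} [Field k] [AddCommGroup V] [Module k V]
    [FiniteDimensional k V] (c : ℕ) : ∀ A B : Submodule k V,
      Module.finrank k A = Module.finrank k B → Module.finrank k V = Module.finrank k A + c →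
        ∃ C : Submodule k V, IsCompl A C ∧ B ⊔ C = ⊤ := by
  induction c with
  | zero =>
    intro A B h hc
    have hA : A = ⊤ := Submodule.eq_top_of_finrank_eq (by omega)
    have hB : B = ⊤ := Submodule.eq_top_of_finrank_eq (by omega)
    subst hA hB
    exact ⟨⊥, isCompl_top_bot, sup_bot_eq _⟩
  | succ c ih =>
    intro A B h hc
    obtain ⟨v, hvA, hvB⟩ := exists_not_mem_union A B
      (fun h0 => by rw [h0, finrank_top] at hc; omega)
      (fun h0 => by rw [h, h0, finrank_top] at hc; omega)
    have hv : v ≠ 0 := fun h0 => hvA (h0 ▸ A.zero_mem)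
    have hfin : ∀ W : Submodule k V, v ∉ W →
        Module.finrank k ↥(W ⊔ (k ∙ v)) = Module.finrank k W + 1 := fun W hW => by
      have hd := (Submodule.disjoint_span_singleton' hv).mpr hW
      have h' := Submodule.finrank_sup_add_finrank_inf_eq W (k ∙ v)
      rw [hd.eq_bot, finrank_bot, finrank_span_singleton hv] at h'
      omega
    obtain ⟨C, hC, hBC⟩ := ih (A ⊔ (k ∙ v)) (B ⊔ (k ∙ v)) (by rw [hfin A hvA, hfin B hvB, h])
      (by rw [hfin A hvA]; omega)
    refine ⟨(k ∙ v) ⊔ C, IsCompl.of_eq ?_ (by rw [← sup_assoc, hC.sup_eq_top]), by rw [← sup_assoc, hBC]⟩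
    refine (Submodule.eq_bot_iff _).mpr fun x hx => ?_
    obtain ⟨y, hy, z, hz, rfl⟩ := Submodule.mem_sup.mp hx.2
    have hz0 : z = 0 := Submodule.disjoint_def.mp hC.disjoint z
      (by simpa using Submodule.sub_mem _ (Submodule.mem_sup_left hx.1) (Submodule.mem_sup_right (S := A) hy))
      hz
    subst hz0
    rw [add_zero] at hx ⊢
    exact Submodule.disjoint_def.mp ((Submodule.disjoint_span_singleton' hv).mpr hvA) y hx.1 hy


/-- Let V be a finite-dimensional vector space over a field k, let W = V × V^∨ with V^∨ the dual space,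
and let T ⊆ W be a subspace with dim T = dim V; put V₁ = V ∩ T, where V sits in W as V × 0. Then
there is a complement V₂ of V₁ in V with the following property: for every injective linear map A₁ :
V₁ → V₁^∨, the map A : V → V^∨ extending A₁ by zero along the decompositions V = V₁ ⊕ V₂ and V^∨ =
V₁^∨ ⊕ V₂^∨ (so A v = A₁(p v) ∘ p, with p : V → V₁ the projection along V₂) has graph Γ ⊆ W with Γ ∩
T = 0. -/
theorem result (k V : Type u) [Field k] [AddCommGroup V] [Module k V]
    [FiniteDimensional k V] (T : Submodule k (V × Module.Dual k V))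
    (hT : Module.finrank k T = Module.finrank k V) :
    ∃ (V₂ : Submodule k V) (h : IsCompl (T.comap (LinearMap.inl k V (Module.Dual k V))) V₂),
      ∀ A₁ : T.comap (LinearMap.inl k V (Module.Dual k V)) →ₗ[k]
          Module.Dual k (T.comap (LinearMap.inl k V (Module.Dual k V))),
        Function.Injective A₁ →
          LinearMap.graph ((Submodule.projectionOnto _ V₂ h).dualMap ∘ₗ A₁ ∘ₗ
              Submodule.projectionOnto _ V₂ h) ⊓ T = ⊥ := by
  classical
  let V₁ := T.comap (LinearMap.inl k V (Module.Dual k V))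
  let π : T →ₗ[k] Module.Dual k V := (LinearMap.snd k V (Module.Dual k V)).comp T.subtype
  let P : Submodule k (Module.Dual k V) := LinearMap.range π
  let e : V₁ ≃ₗ[k] LinearMap.ker π :=
    { toFun := fun v => ⟨⟨(v.1, 0), v.2⟩, rfl⟩
      invFun := fun t => ⟨t.1.1.1, by
        have h2 : t.1.1.2 = 0 := t.2
        show (t.1.1.1, (0 : Module.Dual k V)) ∈ T
        rw [← h2]
        exact t.1.2⟩
      map_add' := fun a b => by ext <;> simp
      map_smul' := fun a b => by ext <;> simp
      left_inv := fun v => rfl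
      right_inv := fun t => by
        have h2 : t.1.1.2 = 0 := t.2
        ext1; ext1; exact Prod.ext rfl h2.symm }
  have hrank : Module.finrank k P + Module.finrank k V₁ = Module.finrank k V := by
    have h0 : Module.finrank k P + Module.finrank k (LinearMap.ker π) = Module.finrank k T :=
      LinearMap.finrank_range_add_finrank_ker (K := k) (V := T) (V₂ := Module.Dual k V) π
    have h1 := e.finrank_eq
    omega
  have hQ : Module.finrank k V₁ = Module.finrank k P.dualCoannihilator := by
    have := Subspace.finrank_add_finrank_dualCoannihilator_eq P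
    omega
  have hle : Module.finrank k V₁ ≤ Module.finrank k V := Submodule.finrank_le _
  obtain ⟨V₂, hc, hsup⟩ := exists_common_compl (Module.finrank k V - Module.finrank k V₁) V₁
    P.dualCoannihilator hQ (by omega)
  refine ⟨V₂, hc, fun A₁ hA₁ => (Submodule.eq_bot_iff _).mpr ?_⟩
  rintro ⟨v, φ⟩ ⟨hgr, hT'⟩
  rw [SetLike.mem_coe, LinearMap.mem_graph_iff] at hgr
  have hP : φ ∈ P := ⟨⟨(v, φ), hT'⟩, rfl⟩
  have hφ : φ = 0 := by
    refine LinearMap.ext fun x => ?_
    have hx : x ∈ P.dualCoannihilator ⊔ V₂ := hsup ▸ Submodule.mem_top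
    obtain ⟨q, hq, c, hc', rfl⟩ := Submodule.mem_sup.mp hx
    rw [map_add, (Submodule.mem_dualCoannihilator _).mp hq φ hP, zero_add]
    show φ c = 0
    refine (LinearMap.congr_fun hgr c).trans ?_
    show A₁ _ (Submodule.projectionOnto _ V₂ hc c) = 0
    rw [(Submodule.projectionOnto_apply_eq_zero_iff hc).mpr hc', map_zero]
  subst hφ
  have hv : v ∈ V₁ := hT'
  have h0 : A₁ (Submodule.projectionOnto _ V₂ hc v) = 0 := by
    refine LinearMap.ext fun x => ?_
    have := LinearMap.congr_fun hgr.symm (x : V)
    simpa [LinearMap.dualMap_apply, Submodule.projectionOnto_apply_left] using this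
  have h1 : Submodule.projectionOnto _ V₂ hc v = 0 := hA₁ (h0.trans (map_zero A₁).symm)
  have h2 := Submodule.projectionOnto_apply_left hc ⟨v, hv⟩
  have hv0 : v = 0 := congr_arg Subtype.val (h2.symm.trans h1)
  exact Prod.ext hv0 rfl

end Groth.Agent.S14478
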