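import Groth.Statements.S14479
import Mathlib.LinearAlgebra.Matrix.BilinearForm
import Mathlib.LinearAlgebra.Matrix.NonsingularInverse
import Mathlib.Algebra.CharP.Two
import Mathlib.LinearAlgebra.FiniteDimensional.Basic

set_option autoImplicit false
universe u
open CharCyc

namespace Groth.Agent.S14479

/-- Let V be a finite-dimensional vector space over a field k. If dim V is even or the characteristic of
k is different from 2, there is a bilinear form B on V such that the bilinear form (v, w) ↦ B(v, w)
+ B(w, v) (B plus its transpose, as a map V → V^∨) is nondegenerate. -/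
theorem result (k V : Type u) [Field k] [AddCommGroup V] [Module k V]
    [FiniteDimensional k V] (h : Even (Module.finrank k V) ∨ ringChar k ≠ 2) :
    ∃ B : LinearMap.BilinForm k V, (B + B.flip).Nondegenerate := by
  classical
  let b := Module.finBasis k V
  let d := Module.finrank k V
  suffices ∃ M : Matrix (Fin d) (Fin d) k, IsUnit (M + M.transpose).det by
    obtain ⟨M, hM⟩ := this
    refine ⟨Matrix.toBilin b M, ?_⟩
    have hflip : (Matrix.toBilin b M).flip = Matrix.toBilin b M.transpose := by
      refine LinearMap.BilinForm.ext_basis b fun i j => ?_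
      simp [LinearMap.flip_apply, Matrix.toBilin_apply, Finsupp.single_apply, Matrix.transpose_apply]
    rw [hflip, ← map_add]
    exact Matrix.nondegenerate_toBilin_iff b |>.mpr (Matrix.nondegenerate_of_det_ne_zero hM.ne_zero)
  by_cases h2 : (2 : k) = 0
  · have hev : Even d := h.resolve_right fun hc => hc (by
      have : CharP k 2 := CharTwo.of_one_ne_zero_of_two_eq_zero one_ne_zero h2
      exact ringChar.eq k 2)
    obtain ⟨r, hr⟩ := hev
    let e : Fin r ⊕ Fin r ≃ Fin d := finSumFinEquiv.trans (finCongr hr.symm)
    let J : Matrix (Fin r ⊕ Fin r) (Fin r ⊕ Fin r) k := Matrix.fromBlocks 0 1 0 0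
    refine ⟨Matrix.reindex e e J, ?_⟩
    rw [Matrix.transpose_reindex, Matrix.reindex_apply, Matrix.reindex_apply]
    show IsUnit ((J + J.transpose).submatrix e.symm e.symm).det
    rw [Matrix.det_submatrix_equiv_self]
    simp only [J, Matrix.fromBlocks_transpose, Matrix.transpose_zero, Matrix.transpose_one,
      Matrix.fromBlocks_add, add_zero, zero_add]
    have hsq : Matrix.fromBlocks (0 : Matrix (Fin r) (Fin r) k) (1 : Matrix (Fin r) (Fin r) k)
        (1 : Matrix (Fin r) (Fin r) k) (0 : Matrix (Fin r) (Fin r) k) *
        Matrix.fromBlocks (0 : Matrix (Fin r) (Fin r) k) (1 : Matrix (Fin r) (Fin r) k)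
          (1 : Matrix (Fin r) (Fin r) k) (0 : Matrix (Fin r) (Fin r) k) = 1 := by
      simp [Matrix.fromBlocks_multiply]
    exact IsUnit.of_mul_eq_one _ (by rw [← Matrix.det_mul, hsq, Matrix.det_one])
  · refine ⟨1, ?_⟩
    rw [Matrix.transpose_one, ← two_smul k (1 : Matrix (Fin d) (Fin d) k), Matrix.det_smul,
      Matrix.det_one, mul_one]
    exact (isUnit_iff_ne_zero.mpr h2).pow _

end Groth.Agent.S14479
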