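import Groth.Statements.S14481
import Groth.Agent.L13.CharDim.Component
import Mathlib.AlgebraicGeometry.PullbackCarrier

set_option autoImplicit false
universe u
open CategoryTheory AlgebraicGeometry
open CharCyc

namespace Groth.Agent.S14481

/-- First equivalence: let k be a field, let π : C → X be a morphism between k-schemes of finite type
such that every irreducible component of C has dimension n, and let ι : W → X be a regular immersion
of codimension c. The following are equivalent: (a) ι meets C properly, that is, whenever P is an
irreducible component of C and Q is an irreducible component of P ×_X W (the subspace P ∩ π⁻¹(ι(W))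
of C), one has dim Q = dim P − c; (b) dim C ×_X W ≤ n − c (the subspace π⁻¹(ι(W)) of C). Dimensions
are written additively: dim Q + c = n and dim π⁻¹(ι(W)) + c ≤ n, the empty space having dimension ⊥.
(Stated for each of the four kinds of regular immersion of codimension c — regular, Koszul-regular,
H₁-regular, quasi-regular; the published statement does not distinguish kinds.) -/
theorem result (k : Type u) [Field k] (C X W : Scheme.{u})
    (q : X ⟶ Spec (CommRingCat.of k)) (π : C ⟶ X) (ι : W ⟶ X)
    [LocallyOfFiniteType q] [CompactSpace X] [LocallyOfFiniteType π] [CompactSpace C]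
    (κ : RegImm.Kind) (n c : ℕ) (hι : RegImm.IsRegularImmersionOfCodim κ c ι)
    (hC : ∀ P ∈ irreducibleComponents (C : Type u), topologicalKrullDim P = n) :
    (∀ P ∈ irreducibleComponents (C : Type u), ∀ Q ∈ irreducibleComponents (P ∩ π ⁻¹' Set.range ι : Set C),
        topologicalKrullDim Q + (c : WithBot ℕ∞) = n) ↔
      topologicalKrullDim (π ⁻¹' Set.range ι : Set C) + (c : WithBot ℕ∞) ≤ n := by
  haveI : IsImmersion ι := hι.1
  have hlc : IsLocallyClosed (π ⁻¹' Set.range ι) := ι.isLocallyClosed_range.preimage π.continuous
  have hfst : Topology.IsEmbedding (Limits.pullback.fst π ι) :=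
    (Limits.pullback.fst π ι).isEmbedding
  have hr : Set.range (Limits.pullback.fst π ι) = π ⁻¹' Set.range ι :=
    Scheme.Pullback.range_fst π ι
  constructor
  · intro h
    rw [Groth.L22.SchemeDim.topologicalKrullDim_eq_of_isEmbedding hfst hr, add_comm]
    refine Groth.L22.FibreDim.natCast_add_le_of_forall fun r hr' => ?_
    obtain ⟨t, ht⟩ := Groth.L22.FibreDim.exists_le_dim_closure hr'
    let x : C := Limits.pullback.fst π ι t
    have hx : x ∈ π ⁻¹' Set.range ι := hr.subset ⟨t, rfl⟩
    have hP := irreducibleComponent_mem_irreducibleComponents x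
    let xS : (irreducibleComponent x ∩ π ⁻¹' Set.range ι : Set C) := ⟨x, mem_irreducibleComponent, hx⟩
    have hQ := h _ hP _ (irreducibleComponent_mem_irreducibleComponents xS)
    rw [← hQ, Nat.cast_add, add_comm]
    refine add_le_add (ht.trans ?_) le_rfl
    calc topologicalKrullDim (closure ({t} : Set _))
        = topologicalKrullDim (closure ({x} : Set C) ∩ π ⁻¹' Set.range ι : Set C) := by
          refine (Groth.L22.SchemeDim.topologicalKrullDim_eq_of_isEmbedding
            (f := fun v : closure ({t} : Set ↥(Limits.pullback π ι)) => Limits.pullback.fst π ι v.1)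
            (hfst.comp Topology.IsEmbedding.subtypeVal) ?_).symm
          rw [Set.range_comp', Subtype.range_coe, hfst.isInducing.closure_eq_preimage_closure_image,
            Set.image_singleton, Set.image_preimage_eq_inter_range, hr]
      _ ≤ topologicalKrullDim (closure ({x} : Set C) ∩
            (irreducibleComponent x ∩ π ⁻¹' Set.range ι) : Set C) :=
          Groth.L22.SchemeDim.topologicalKrullDim_mono fun z hz => ⟨hz.1, closure_minimal
            (Set.singleton_subset_iff.2 mem_irreducibleComponent) isClosed_irreducibleComponent hz.1,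
            hz.2⟩
      _ = topologicalKrullDim (closure ({xS} : Set _)) :=
          (Groth.L22.FibreDim.subtype_dim_closure _ xS).symm
      _ ≤ _ := Groth.L22.SchemeDim.topologicalKrullDim_mono (closure_minimal
          (Set.singleton_subset_iff.2 mem_irreducibleComponent) isClosed_irreducibleComponent)
  · intro hle P hP Q hQ
    obtain ⟨ξ, hξ⟩ := QuasiSober.sober hP.1 (isClosed_of_mem_irreducibleComponents P hP)
    have hS : IsLocallyClosed (P ∩ π ⁻¹' Set.range ι) :=
      (isClosed_of_mem_irreducibleComponents P hP).isLocallyClosed.inter hlc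
    obtain ⟨O, Z, hO, hZ, hOZ⟩ := hS
    -- the generic point of `Q`
    obtain ⟨η, hη⟩ := QuasiSober.sober (hQ.1.image Subtype.val continuous_subtype_val.continuousOn).closure
      isClosed_closure
    have hηS : η ∈ P ∩ π ⁻¹' Set.range ι := by
      rw [hOZ]
      obtain ⟨y, hy⟩ := hQ.1.nonempty
      refine ⟨?_, ?_⟩
      · exact (hη.specializes (subset_closure ⟨y, hy, rfl⟩)).mem_open hO (hOZ.subset y.2).1
      · refine closure_minimal ?_ hZ hη.mem
        rintro _ ⟨z, -, rfl⟩
        exact (hOZ.subset z.2).2
    have hQle : Q ⊆ closure ({⟨η, hηS⟩} : Set _) := fun y hy => by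
      rw [Topology.IsEmbedding.subtypeVal.isInducing.closure_eq_preimage_closure_image,
        Set.image_singleton]
      exact (hη.specializes (subset_closure ⟨y, hy, rfl⟩)).mem_closure
    have hQeq : Q = closure ({⟨η, hηS⟩} : Set _) :=
      hQle.antisymm (hQ.2 isIrreducible_singleton.closure hQle)
    have hdim : topologicalKrullDim Q = topologicalKrullDim
        (closure ({η} : Set C) ∩ (P ∩ π ⁻¹' Set.range ι) : Set C) := by
      rw [hQeq, Groth.L22.FibreDim.subtype_dim_closure]
    have hmin : ∀ z : C, ξ ⤳ z → z ⤳ η → π z ∈ Set.range ι → z = η := by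
      intro z h1 h2 h3
      have hzS : z ∈ P ∩ π ⁻¹' Set.range ι := ⟨hξ.def.subset h1.mem_closure, h3⟩
      have hsub : Q ⊆ closure ({⟨z, hzS⟩} : Set _) := fun y hy => by
        rw [Topology.IsEmbedding.subtypeVal.isInducing.closure_eq_preimage_closure_image,
          Set.image_singleton]
        exact (h2.trans (hη.specializes (subset_closure ⟨y, hy, rfl⟩))).mem_closure
      have hzQ := hQ.2 isIrreducible_singleton.closure hsub (subset_closure rfl)
      exact (h2.antisymm (hη.specializes (subset_closure ⟨_, hzQ, rfl⟩))).eq
    refine le_antisymm (le_trans ?_ hle) ?_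
    · rw [hdim]
      exact add_le_add (Groth.L22.SchemeDim.topologicalKrullDim_mono fun z hz => hz.2.2) le_rfl
    · rw [hdim, ← hC P hP, ← hξ.def]
      exact Groth.L13.CharDim.dim_closure_le_component k q π ι c
        (fun w => by
          obtain ⟨U, h1, h2, rs, h3, -, h4⟩ := hι.2 w
          exact ⟨U, h1, h2, rs, h3, h4⟩)
        (hξ.specializes hηS.1) hηS.2 hmin

end Groth.Agent.S14481
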