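import Groth.Statements.S14482
import Groth.Agent.L13.CharDim.Basic
import Mathlib.AlgebraicGeometry.PullbackCarrier

set_option autoImplicit false
universe u
open CategoryTheory AlgebraicGeometry
open CharCyc

namespace Groth.Agent.S14482

/-- Second assertion: let k be a field, let π : C → X be a morphism between k-schemes of finite type
such that every irreducible component of C has dimension n, let ι : W → X be a regular immersion of
codimension c, and for j ≥ 0 let B_j ⊆ X be the set of points whose fibre under π has dimension at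
least j. Assume that every B_j is closed in X. Then dim B_j + j ≤ n for every j, and the condition
dim π⁻¹(ι(W)) + c ≤ n (that is, dim C ×_X W ≤ n − c) holds if and only if dim ι⁻¹(B_j) + c + j ≤ n
for every j (that is, ι meets the sequence (B_j) n-semi-properly). Dimensions are topological Krull
dimensions of subspaces, the empty space having dimension ⊥. (Stated for each of the four kinds of
regular immersion of codimension c — regular, Koszul-regular, H₁-regular, quasi-regular; the
published statement does not distinguish kinds.) -/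
theorem result (k : Type u) [Field k] (C X W : Scheme.{u})
    (q : X ⟶ Spec (CommRingCat.of k)) (π : C ⟶ X) (ι : W ⟶ X)
    [LocallyOfFiniteType q] [CompactSpace X] [LocallyOfFiniteType π] [CompactSpace C]
    (κ : RegImm.Kind) (n c : ℕ) (hι : RegImm.IsRegularImmersionOfCodim κ c ι)
    (hC : ∀ P ∈ irreducibleComponents (C : Type u), topologicalKrullDim P = n)
    (hB : ∀ j : ℕ, IsClosed {x : X | (j : WithBot ℕ∞) ≤ topologicalKrullDim (π.fiber x)}) :
    (∀ j : ℕ, topologicalKrullDim {x : X | (j : WithBot ℕ∞) ≤ topologicalKrullDim (π.fiber x)} + (j : WithBot ℕ∞) ≤ n) ∧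
      (topologicalKrullDim (π ⁻¹' Set.range ι : Set C) + (c : WithBot ℕ∞) ≤ n ↔
        ∀ j : ℕ, topologicalKrullDim (ι ⁻¹' {x : X | (j : WithBot ℕ∞) ≤ topologicalKrullDim (π.fiber x)} : Set W) + (c : WithBot ℕ∞) + (j : WithBot ℕ∞) ≤ n) := by
  have hCn : topologicalKrullDim C ≤ n := by
    rw [Groth.L22.FibreDim.topologicalKrullDim_eq_iSup_closure]
    refine iSup_le fun x => ?_
    refine le_of_le_of_eq (Groth.L22.SchemeDim.topologicalKrullDim_mono
      (closure_minimal (Set.singleton_subset_iff.2 mem_irreducibleComponent)
        isClosed_irreducibleComponent)) (hC _ (irreducibleComponent_mem_irreducibleComponents x))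
  refine ⟨fun j => ?_, ?_⟩
  · have h := (Groth.L13.CharDim.dim_add_le_iff k q π n 0).1 (by simpa using hCn) j
    rw [Nat.cast_zero, add_zero, Groth.L13.CharDim.fibreGE, (hB j).closure_eq] at h
    exact h
  haveI : IsImmersion ι := hι.1
  haveI : IsLocallyNoetherian C := LocallyOfFiniteType.isLocallyNoetherian (π ≫ q)
  haveI : IsNoetherian C := {}
  have hfst : Topology.IsEmbedding (Limits.pullback.fst π ι) :=
    (Limits.pullback.fst π ι).isEmbedding
  have hr : Set.range (Limits.pullback.fst π ι) = π ⁻¹' Set.range ι :=
    Scheme.Pullback.range_fst π ι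
  haveI : CompactSpace ↥(Limits.pullback π ι) := by
    haveI : TopologicalSpace.NoetherianSpace ↥(Limits.pullback π ι) := hfst.isInducing.noetherianSpace
    infer_instance
  have h := Groth.L13.CharDim.dim_add_le_iff k (ι ≫ q) (Limits.pullback.snd π ι) n c
  rw [← Groth.L22.SchemeDim.topologicalKrullDim_eq_of_isEmbedding hfst hr] at h
  refine h.trans (forall_congr' fun j => ?_)
  have hfib : Groth.L13.CharDim.fibreGE (Limits.pullback.snd π ι) j =
      ι ⁻¹' {x : X | (j : WithBot ℕ∞) ≤ topologicalKrullDim (π.fiber x)} := by
    ext w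
    show _ ≤ topologicalKrullDim _ ↔ _ ≤ topologicalKrullDim (π.fiber (ι w))
    rw [((Limits.pullback.snd π ι).fiberHomeo w).isHomeomorph.topologicalKrullDim_eq,
      (π.fiberHomeo (ι w)).isHomeomorph.topologicalKrullDim_eq]
    rw [← Groth.L22.SchemeDim.topologicalKrullDim_eq_of_isEmbedding
      (f := fun z : (Limits.pullback.snd π ι) ⁻¹' {w} => Limits.pullback.fst π ι z.1)
      (hfst.comp Topology.IsEmbedding.subtypeVal) (S := π ⁻¹' {ι w}) ?_]
    rw [Set.range_comp', Subtype.range_coe]
    ext z
    simp only [Set.mem_image, Set.mem_preimage, Set.mem_singleton_iff]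
    have hcomm : ∀ v, π (Limits.pullback.fst π ι v) = ι (Limits.pullback.snd π ι v) := fun v =>
      by rw [← Scheme.Hom.comp_apply, ← Scheme.Hom.comp_apply, Limits.pullback.condition]
    constructor
    · rintro ⟨v, hv, rfl⟩
      rw [hcomm, hv]
    · intro hz
      obtain ⟨v, rfl⟩ := hr.ge (show z ∈ π ⁻¹' Set.range ι from ⟨w, hz.symm⟩)
      exact ⟨v, ι.isEmbedding.injective ((hcomm v).symm.trans hz), rfl⟩
  rw [hfib, ((hB j).preimage ι.continuous).closure_eq]

end Groth.Agent.S14482
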