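import Groth.Statements.S14483
import Groth.Agent.L13.WellInter

set_option autoImplicit false
universe u
open CategoryTheory CategoryTheory.Limits AlgebraicGeometry
open CharCyc

namespace Groth.Agent.S14483

/-- Let k be a field and let f : X → S be a morphism between separated k-schemes of finite type. Two
closed subsets Y, Z of X are said to well intersect with respect to f when dim(Y ×_S Z ∖ Y ×_X Z) ≤
dim Y + dim Z − dim S; here Y ×_S Z ∖ Y ×_X Z is taken as the subspace of X ×_S X of points whose
two projections lie in Y and in Z and which are not in the image of the diagonal, and the inequality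
is written additively as dim(Y ×_S Z ∖ Y ×_X Z) + dim S ≤ dim Y + dim Z (topological Krull
dimensions, the empty space having dimension ⊥). Let Y ⊆ X be closed and irreducible with dim Y <
dim S, and suppose that the pair Y, Y well intersects with respect to f. Then Y → S is generically
radicial onto its image: there is an open subset V of X meeting Y such that f is injective on V ∩ Y
and, at every point of V ∩ Y, the residue field extension induced by f is purely inseparable. -/
theorem result (k : Type u) [Field k] (X S : Scheme.{u})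
    (q : S ⟶ Spec (CommRingCat.of k)) (f : X ⟶ S)
    [LocallyOfFiniteType q] [CompactSpace S] [IsSeparated q] [LocallyOfFiniteType f] [CompactSpace X] [IsSeparated f]
    (Y : Set X) (hYc : IsClosed Y) (hYi : IsIrreducible Y)
    (hWI : topologicalKrullDim {p : ↥(pullback f f) | pullback.fst f f p ∈ Y ∧ pullback.snd f f p ∈ Y ∧ p ∉ Set.range (pullback.diagonal f)} + topologicalKrullDim S ≤ topologicalKrullDim Y + topologicalKrullDim Y)
    (hYS : topologicalKrullDim Y < topologicalKrullDim S) :
    ∃ V : Set X, IsOpen V ∧ (V ∩ Y).Nonempty ∧ Set.InjOn f.base (V ∩ Y) ∧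
      ∀ x ∈ V ∩ Y, (f.residueFieldMap x).hom.IsPurelyInseparable := by
  haveI : IsLocallyNoetherian S := LocallyOfFiniteType.isLocallyNoetherian q
  haveI : IsNoetherian S := {}
  haveI : IsLocallyNoetherian X := LocallyOfFiniteType.isLocallyNoetherian f
  haveI : IsNoetherian X := {}
  haveI : QuasiCompact f := quasiCompact_of_noetherianSpace_source f
  obtain ⟨η, hη⟩ := QuasiSober.sober hYi hYc
  haveI : IsLocallyNoetherian (Limits.pullback f f) :=
    LocallyOfFiniteType.isLocallyNoetherian (Limits.pullback.fst f f)
  haveI : CompactSpace ↥(Limits.pullback f f) :=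
    QuasiCompact.compactSpace_of_compactSpace (Limits.pullback.fst f f)
  haveI : IsNoetherian (Limits.pullback f f) := {}
  haveI : LocallyOfFinitePresentation (Limits.pullback.fst f f) := inferInstance
  let B : Set X := Limits.pullback.fst f f '' Groth.L13.WellInter.offDiag f Y Y
  have hT : Topology.IsConstructible (Groth.L13.WellInter.offDiag f Y Y) := by
    refine Groth.L06.Constr.isConstructible_of_isLocallyClosed
      ⟨(Set.range (Limits.pullback.diagonal f))ᶜ,
        Limits.pullback.fst f f ⁻¹' Y ∩ Limits.pullback.snd f f ⁻¹' Y,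
        (Limits.pullback.diagonal f).isClosedEmbedding.isClosed_range.isOpen_compl,
        (hYc.preimage (Limits.pullback.fst f f).continuous).inter
          (hYc.preimage (Limits.pullback.snd f f).continuous), ?_⟩
    ext p
    exact ⟨fun h => ⟨h.2.2, h.1, h.2.1⟩, fun h => ⟨h.2.1, h.2.2, h.1⟩⟩
  have hBη : η ∉ closure B := by
    intro hmem
    have hBY : B ⊆ Y := by rintro _ ⟨p, hp, rfl⟩; exact hp.1
    obtain ⟨U, hUo, ⟨y, hyU, hy⟩, hUB⟩ := Groth.L06.Constr.exists_open_inter_subset'
      (E := B) ((Limits.pullback.fst f f).isConstructible_image hT) hYi (by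
        rw [Set.inter_eq_left.2 hBY]
        exact hη.def.ge.trans (closure_minimal (Set.singleton_subset_iff.2 hmem) isClosed_closure))
    obtain ⟨p, hp, hpη⟩ := hUB ⟨(hη.specializes hy).mem_open hUo hyU, hη.mem⟩
    exact Groth.L13.WellInter.fst_ne k q f hYc hYc hYi hη hWI hYS hp hpη
  have key : ∀ p : ↥(Limits.pullback f f), Limits.pullback.fst f f p ∈ (closure B)ᶜ ∩ Y →
      Limits.pullback.snd f f p ∈ Y → p ∈ Set.range (Limits.pullback.diagonal f) := fun p h1 h2 =>
    by_contra fun hp => h1.1 (subset_closure ⟨p, ⟨h1.2, h2, hp⟩, rfl⟩)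
  refine ⟨(closure B)ᶜ, isClosed_closure.isOpen_compl, ⟨η, hBη, hη.mem⟩, ?_, ?_⟩
  · intro x hx y hy hxy
    obtain ⟨p, hp1, hp2⟩ := Scheme.Pullback.exists_preimage_pullback x y hxy
    obtain ⟨z, rfl⟩ := key p (hp1.symm ▸ hx) (hp2.symm ▸ hy.2)
    rw [← Scheme.Hom.comp_apply, Limits.pullback.diagonal_fst] at hp1
    rw [← Scheme.Hom.comp_apply, Limits.pullback.diagonal_snd] at hp2
    exact hp1.symm.trans hp2
  · intro x hx
    exact Groth.L13.WellInter.isPurelyInseparable_of_forall_diag f x fun p h1 h2 =>
      key p (h1.symm ▸ hx) (h2.symm ▸ hx.2)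

end Groth.Agent.S14483
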