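import Groth.Statements.S14484
import Groth.Agent.L13.WellInter

set_option autoImplicit false
universe u
open CategoryTheory CategoryTheory.Limits AlgebraicGeometry
open CharCyc

namespace Groth.Agent.S14484

/-- Let k be a field and let f : X → S be a morphism between separated k-schemes of finite type. Two
closed subsets Y, Z of X are said to well intersect with respect to f when dim(Y ×_S Z ∖ Y ×_X Z) ≤
dim Y + dim Z − dim S; here Y ×_S Z ∖ Y ×_X Z is taken as the subspace of X ×_S X of points whose
two projections lie in Y and in Z and which are not in the image of the diagonal, and the inequality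
is written additively as dim(Y ×_S Z ∖ Y ×_X Z) + dim S ≤ dim Y + dim Z (topological Krull
dimensions, the empty space having dimension ⊥). Let Y, Z ⊆ X be closed irreducible subsets that
well intersect with respect to f, with dim Y < dim S and dim Z < dim S, and assume Y ⊄ Z. Then f(Y)
is not contained in the closure of f(Y) ∩ f(Z); in particular f(Y) ⊄ f(Z). -/
theorem result (k : Type u) [Field k] (X S : Scheme.{u})
    (q : S ⟶ Spec (CommRingCat.of k)) (f : X ⟶ S)
    [LocallyOfFiniteType q] [CompactSpace S] [IsSeparated q] [LocallyOfFiniteType f] [CompactSpace X] [IsSeparated f]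
    (Y Z : Set X) (hYc : IsClosed Y) (hYi : IsIrreducible Y) (hZc : IsClosed Z) (hZi : IsIrreducible Z)
    (hWI : topologicalKrullDim {p : ↥(pullback f f) | pullback.fst f f p ∈ Y ∧ pullback.snd f f p ∈ Z ∧ p ∉ Set.range (pullback.diagonal f)} + topologicalKrullDim S ≤ topologicalKrullDim Y + topologicalKrullDim Z)
    (hYS : topologicalKrullDim Y < topologicalKrullDim S) (hZS : topologicalKrullDim Z < topologicalKrullDim S)
    (hYZ : ¬ Y ⊆ Z) :
    ¬ (f.base '' Y ⊆ closure (f.base '' Y ∩ f.base '' Z)) ∧ ¬ (f.base '' Y ⊆ f.base '' Z) := by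
  haveI : IsLocallyNoetherian S := LocallyOfFiniteType.isLocallyNoetherian q
  haveI : IsNoetherian S := {}
  haveI : IsLocallyNoetherian X := LocallyOfFiniteType.isLocallyNoetherian f
  haveI : IsNoetherian X := {}
  haveI : QuasiCompact f := quasiCompact_of_noetherianSpace_source f
  haveI : LocallyOfFinitePresentation f := inferInstance
  obtain ⟨η, hη⟩ := QuasiSober.sober hYi hYc
  have hmain : ¬ (f.base '' Y ⊆ closure (f.base '' Y ∩ f.base '' Z)) := by
    intro hsub
    have hgen : f η ∈ f '' Y := ⟨η, hη.mem, rfl⟩
    have hE : Topology.IsConstructible (f '' Y ∩ f '' Z) :=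
      (f.isConstructible_image (Groth.L06.Constr.isConstructible_of_isClosed hYc)).inter
        (f.isConstructible_image (Groth.L06.Constr.isConstructible_of_isClosed hZc))
    have hYsub : f '' Y ⊆ closure {f η} := by
      rw [← hη.def]
      exact (image_closure_subset_closure_image f.continuous).trans (by rw [Set.image_singleton])
    obtain ⟨U, hUo, ⟨y, hyU, hy⟩, hUE⟩ := Groth.L06.Constr.exists_open_inter_subset' hE
      (isIrreducible_singleton (x := f η)).closure (by
        refine closure_minimal (Set.singleton_subset_iff.2 (closure_mono ?_ (hsub hgen)))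
          isClosed_closure
        exact fun s hs => ⟨hs, hYsub hs.1⟩)
    have hmem := hUE ⟨(specializes_iff_mem_closure.2 hy).mem_open hUo hyU, subset_closure rfl⟩
    obtain ⟨ζ, hζ, hfζ⟩ := hmem.2
    obtain ⟨p, hp1, hp2⟩ := Scheme.Pullback.exists_preimage_pullback η ζ hfζ.symm
    refine Groth.L13.WellInter.fst_ne k q f hYc hZc hZi hη hWI hZS (p := p)
      ⟨hp1.symm ▸ hη.mem, hp2.symm ▸ hζ, ?_⟩ hp1
    rintro ⟨x, rfl⟩
    rw [← Scheme.Hom.comp_apply, Limits.pullback.diagonal_fst] at hp1
    rw [← Scheme.Hom.comp_apply, Limits.pullback.diagonal_snd] at hp2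
    have he : η = ζ := hp1.symm.trans hp2
    exact hYZ (hη.def.ge.trans (closure_minimal (Set.singleton_subset_iff.2 (he ▸ hζ)) hZc))
  exact ⟨hmain, fun h => hmain fun s hs => subset_closure ⟨hs, h hs⟩⟩

end Groth.Agent.S14484
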