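import Groth.Statements.S14485
import Groth.Agent.L22.FibreDim
import Groth.Agent.L20.GenGeomRed

set_option autoImplicit false
universe u
open CategoryTheory CategoryTheory.Limits AlgebraicGeometry
open CharCyc

namespace Groth.Agent.S14485

open Topology Groth.L22 in
theorem dim_fibre_set {X Y : Scheme.{u}} (f : X ⟶ Y) (y : Y) :
    topologicalKrullDim (f ⁻¹' {y} : Set X) = topologicalKrullDim ↥(f.fiber y) :=
  SchemeDim.topologicalKrullDim_eq_of_isEmbedding (f.fiberι y).isEmbedding (f.range_fiberι y)

open Topology Groth.L22 in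
/-- Preimages of closed sets under a morphism all of whose fibres have dimension `d`. -/
theorem dim_preimage {k : Type u} [Field k] {P P' : Scheme.{u}} [P.Over (Spec (CommRingCat.of k))]
    [LocallyOfFiniteType (P ↘ Spec (CommRingCat.of k))] (h : P' ⟶ P) [LocallyOfFiniteType h]
    (d : ℕ) (hd : ∀ p : P, topologicalKrullDim ↥(h.fiber p) = d) {W : Set P} (hW : IsClosed W) :
    topologicalKrullDim (h ⁻¹' W : Set P') = topologicalKrullDim W + (d : WithBot ℕ∞) := by
  letI : P'.Over (Spec (CommRingCat.of k)) := ⟨h ≫ (P ↘ Spec (CommRingCat.of k))⟩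
  have hh : h ≫ (P ↘ Spec (CommRingCat.of k)) = P' ↘ Spec (CommRingCat.of k) := rfl
  have hW' : IsClosed (h ⁻¹' W) := hW.preimage h.continuous
  haveI : QuasiSober W := hW.isClosedEmbedding_subtypeVal.quasiSober
  haveI : QuasiSober (h ⁻¹' W : Set P') := hW'.isClosedEmbedding_subtypeVal.quasiSober
  apply le_antisymm
  · rw [FibreDim.topologicalKrullDim_eq_iSup_closure (T := (h ⁻¹' W : Set P'))]
    refine iSup_le fun z => ?_
    rw [FibreDim.subtype_dim_closure]
    obtain ⟨a, b, ha, hb, hab⟩ := FibreDim.exists_dim_closure_add k h hh z.1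
    refine (SchemeDim.topologicalKrullDim_mono Set.inter_subset_left).trans ?_
    rw [hab]
    push_cast
    refine add_le_add ?_ ?_
    · rw [← ha]
      exact SchemeDim.topologicalKrullDim_mono (closure_minimal (Set.singleton_subset_iff.2 z.2) hW)
    · rw [← hb, ← hd (h z.1), ← dim_fibre_set]
      exact SchemeDim.topologicalKrullDim_mono Set.inter_subset_right
  · rw [add_comm]
    refine FibreDim.natCast_add_le_of_forall fun n hn => ?_
    obtain ⟨p, hp⟩ := FibreDim.exists_le_dim_closure (T := W) hn
    rw [FibreDim.subtype_dim_closure] at hp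
    replace hp := hp.trans (SchemeDim.topologicalKrullDim_mono Set.inter_subset_left)
    haveI : QuasiSober (h.fiber p.1) := inferInstance
    obtain ⟨w, hw⟩ := FibreDim.exists_le_dim_closure (T := h.fiber p.1) (hd p.1).ge
    let z := h.fiberι p.1 w
    have hz : h z = p.1 := (h.range_fiberι p.1).subset ⟨w, rfl⟩
    obtain ⟨a, b, ha, hb, hab⟩ := FibreDim.exists_dim_closure_add k h hh z
    have e : topologicalKrullDim (closure ({z} : Set P') ∩ h ⁻¹' {h z} : Set P') =
        topologicalKrullDim (closure ({w} : Set (h.fiber p.1))) := by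
      refine SchemeDim.topologicalKrullDim_eq_of_isEmbedding
        (f := fun v : (closure ({w} : Set (h.fiber p.1))) => h.fiberι p.1 v.1)
        ((h.fiberι p.1).isEmbedding.comp IsEmbedding.subtypeVal) ?_
      have := (h.fiberι p.1).isEmbedding.isInducing.closure_eq_preimage_closure_image {w}
      rw [Set.image_singleton] at this
      rw [Set.range_comp', Subtype.range_coe, this, Set.image_preimage_eq_inter_range,
        h.range_fiberι, hz]
    rw [hz] at ha
    have hna : n ≤ a := by
      rw [ha] at hp; exact_mod_cast hp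
    have hdb : d ≤ b := by
      rw [← e, hb] at hw; exact_mod_cast hw
    refine le_trans (b := ((a + b : ℕ) : WithBot ℕ∞)) (by exact_mod_cast (show d + n ≤ a + b by omega)) ?_
    rw [← hab]
    exact SchemeDim.topologicalKrullDim_mono
      (closure_minimal (Set.singleton_subset_iff.2 (show h z ∈ W from hz ▸ p.2)) hW')

theorem le_of_add_natCast_le {a b : WithBot ℕ∞} (n : ℕ)
    (h : a + (n : WithBot ℕ∞) ≤ b + (n : WithBot ℕ∞)) : a ≤ b := by
  induction a with
  | bot => exact bot_le
  | coe a =>
    induction b with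
    | bot =>
      rw [WithBot.bot_add, le_bot_iff] at h
      exact absurd h WithBot.coe_ne_bot
    | coe b => exact WithBot.coe_le_coe.2 ((ENat.add_le_add_iff_right (ENat.coe_ne_top n)).1 (WithBot.coe_le_coe.1 h))


/-- Let k be a field and let f : X → S be a morphism between separated k-schemes of finite type. Two
closed subsets Y, Z of X are said to well intersect with respect to f when dim(Y ×_S Z ∖ Y ×_X Z) ≤
dim Y + dim Z − dim S; here Y ×_S Z ∖ Y ×_X Z is taken as the subspace of X ×_S X of points whose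
two projections lie in Y and in Z and which are not in the image of the diagonal, and the inequality
is written additively as dim(Y ×_S Z ∖ Y ×_X Z) + dim S ≤ dim Y + dim Z (topological Krull
dimensions, the empty space having dimension ⊥). Let Y, Z ⊆ X be closed subsets, and let g : S' → S
be faithfully flat with every fibre of dimension d (relative constant dimension d), where S' is
again a separated k-scheme of finite type. Write f' : X' = X ×_S S' → S' for the base change and Y',
Z' ⊆ X' for the preimages of Y, Z. Then well-intersection of Y, Z with respect to f is equivalent to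
well-intersection of Y', Z' with respect to f'. -/
theorem result (k : Type u) [Field k] (X S S' : Scheme.{u})
    (q : S ⟶ Spec (CommRingCat.of k)) (f : X ⟶ S) (g : S' ⟶ S)
    [LocallyOfFiniteType q] [CompactSpace S] [IsSeparated q] [LocallyOfFiniteType f] [CompactSpace X] [IsSeparated f]
    [LocallyOfFiniteType g] [CompactSpace S'] [IsSeparated g] [Flat g] [Surjective g]
    (d : ℕ) (hd : ∀ s : S, topologicalKrullDim (g.fiber s) = d)
    (Y Z : Set X) (hYc : IsClosed Y) (hZc : IsClosed Z) :
    (topologicalKrullDim {p : ↥(pullback f f) | pullback.fst f f p ∈ Y ∧ pullback.snd f f p ∈ Z ∧ p ∉ Set.range (pullback.diagonal f)} + topologicalKrullDim S ≤ topologicalKrullDim Y + topologicalKrullDim Z) ↔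
      (topologicalKrullDim {p : ↥(pullback (pullback.snd f g) (pullback.snd f g)) | pullback.fst (pullback.snd f g) (pullback.snd f g) p ∈ ((pullback.fst f g) ⁻¹' Y) ∧ pullback.snd (pullback.snd f g) (pullback.snd f g) p ∈ ((pullback.fst f g) ⁻¹' Z) ∧ p ∉ Set.range (pullback.diagonal (pullback.snd f g))} + topologicalKrullDim S' ≤ topologicalKrullDim ((pullback.fst f g) ⁻¹' Y) + topologicalKrullDim ((pullback.fst f g) ⁻¹' Z)) := by
  letI : S.Over (Spec (CommRingCat.of k)) := ⟨q⟩
  letI : X.Over (Spec (CommRingCat.of k)) := ⟨f ≫ q⟩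
  haveI : LocallyOfFiniteType (S ↘ Spec (CommRingCat.of k)) := ‹LocallyOfFiniteType q›
  haveI : LocallyOfFiniteType (X ↘ Spec (CommRingCat.of k)) :=
    (inferInstanceAs (LocallyOfFiniteType (f ≫ q)))
  haveI : IsSeparated (terminal.from S) := by
    rw [← terminal.comp_from q]; infer_instance
  haveI : QuasiSeparatedSpace S := (quasiSeparatedSpace_iff_quasiSeparated S).mpr inferInstance
  haveI : QuasiCompact g := inferInstance
  have sqX : IsPullback (pullback.fst f g) (pullback.snd f g) f g := .of_hasPullback f g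
  set f' := pullback.snd f g with hf'
  set gX := pullback.fst f g with hgX
  haveI : LocallyOfFiniteType gX := MorphismProperty.of_isPullback sqX.flip inferInstance
  have sqP := IsPullback.of_hasPullback f f
  have sqP' := IsPullback.of_hasPullback f' f'
  let h : pullback f' f' ⟶ pullback f f :=
    pullback.map f' f' f f gX gX g sqX.w.symm sqX.w.symm
  have hfst : h ≫ pullback.fst f f = pullback.fst f' f' ≫ gX := pullback.lift_fst _ _ _
  have hsnd : h ≫ pullback.snd f f = pullback.snd f' f' ≫ gX := pullback.lift_snd _ _ _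
  have big : IsPullback (pullback.snd f' f' ≫ gX) (pullback.fst f' f') f (f' ≫ g) :=
    sqP'.flip.paste_horiz sqX
  rw [← sqX.w, ← hsnd] at big
  have left : IsPullback h (pullback.fst f' f') (pullback.fst f f) gX :=
    IsPullback.of_right big hfst sqP.flip
  have sqh : IsPullback h (pullback.fst f' f' ≫ f') (pullback.fst f f ≫ f) g := left.paste_vert sqX
  haveI : LocallyOfFiniteType h := MorphismProperty.of_isPullback sqh.flip inferInstance
  have hdiag : IsPullback gX (pullback.diagonal f') (pullback.diagonal f) h := by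
    refine IsPullback.of_bot ?_ ?_ left
    · rw [pullback.diagonal_fst, pullback.diagonal_fst]
      exact IsPullback.of_vert_isIso ⟨by simp⟩
    · refine pullback.hom_ext ?_ ?_
      · simp only [Category.assoc, pullback.diagonal_fst, hfst]
        rw [reassoc_of% pullback.diagonal_fst f', Category.comp_id]
      · simp only [Category.assoc, pullback.diagonal_snd, hsnd]
        rw [reassoc_of% pullback.diagonal_snd f', Category.comp_id]
  have hΔ : ∀ p, p ∈ Set.range (pullback.diagonal f') ↔ h p ∈ Set.range (pullback.diagonal f) := by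
    intro p
    constructor
    · rintro ⟨x, rfl⟩
      exact ⟨gX x, by rw [← Scheme.Hom.comp_apply, hdiag.w, Scheme.Hom.comp_apply]⟩
    · rintro ⟨y, hy⟩
      obtain ⟨x, -, hx⟩ := Scheme.exists_preimage_of_isPullback hdiag y p hy
      exact ⟨x, hx⟩
  -- dimensions of preimages
  letI : (pullback f f).Over (Spec (CommRingCat.of k)) := ⟨pullback.fst f f ≫ f ≫ q⟩
  let U : (pullback f f).Opens :=
    ⟨(Set.range (pullback.diagonal f))ᶜ, (pullback.diagonal f).isClosedEmbedding.isClosed_range.isOpen_compl⟩
  letI : (U : Scheme).Over (Spec (CommRingCat.of k)) := ⟨U.ι ≫ pullback.fst f f ≫ f ≫ q⟩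
  haveI : LocallyOfFiniteType ((U : Scheme) ↘ Spec (CommRingCat.of k)) :=
    inferInstanceAs (LocallyOfFiniteType (U.ι ≫ pullback.fst f f ≫ f ≫ q))
  let C : Set ↥(pullback f f) := ⇑(pullback.fst f f) ⁻¹' Y ∩ ⇑(pullback.snd f f) ⁻¹' Z
  have hC : IsClosed (U.ι ⁻¹' C) :=
    ((hYc.preimage (pullback.fst f f).continuous).inter (hZc.preimage (pullback.snd f f).continuous)).preimage
      U.ι.continuous
  have sqU : IsPullback (h ∣_ U) ((h ⁻¹ᵁ U).ι ≫ pullback.fst f' f' ≫ f') (U.ι ≫ pullback.fst f f ≫ f) g :=
    (isPullback_morphismRestrict h U).paste_vert sqh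
  have hdX : ∀ x : X, topologicalKrullDim ↥(gX.fiber x) = d := fun x => by
    rw [Groth.L20.GenGeomRed.dim_fiber_of_isPullback sqX.flip, hd]
  have hdU : ∀ p : (U : Scheme), topologicalKrullDim ↥((h ∣_ U).fiber p) = d := fun p => by
    rw [Groth.L20.GenGeomRed.dim_fiber_of_isPullback sqU.flip, hd]
  have eY := dim_preimage (k := k) gX d hdX hYc
  have eZ := dim_preimage (k := k) gX d hdX hZc
  have eS := dim_preimage (k := k) g d hd (isClosed_univ (X := S))
  rw [Set.preimage_univ, IsHomeomorph.topologicalKrullDim_eq _ (Homeomorph.Set.univ S').isHomeomorph,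
    IsHomeomorph.topologicalKrullDim_eq _ (Homeomorph.Set.univ S).isHomeomorph] at eS
  have eW := dim_preimage (k := k) (h ∣_ U) d hdU hC
  have e1 : topologicalKrullDim (U.ι ⁻¹' C) =
      topologicalKrullDim {p : ↥(pullback f f) | pullback.fst f f p ∈ Y ∧ pullback.snd f f p ∈ Z ∧
        p ∉ Set.range (pullback.diagonal f)} := by
    refine (Groth.L22.SchemeDim.topologicalKrullDim_eq_of_isEmbedding
      (f := fun p : (U.ι ⁻¹' C) => U.ι p.1)
      (U.ι.isEmbedding.comp Topology.IsEmbedding.subtypeVal) ?_).symm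
    rw [Set.range_comp', Subtype.range_coe, Set.image_preimage_eq_inter_range, U.range_ι]
    ext p
    exact ⟨fun hp => ⟨hp.1.1, hp.1.2, hp.2⟩, fun hp => ⟨⟨hp.1, hp.2.1⟩, hp.2.2⟩⟩
  have e2 : topologicalKrullDim ((h ∣_ U) ⁻¹' (U.ι ⁻¹' C) : Set _) =
      topologicalKrullDim {p : ↥(pullback f' f') | pullback.fst f' f' p ∈ (gX ⁻¹' Y) ∧
        pullback.snd f' f' p ∈ (gX ⁻¹' Z) ∧ p ∉ Set.range (pullback.diagonal f')} := by
    refine (Groth.L22.SchemeDim.topologicalKrullDim_eq_of_isEmbedding
      (f := fun p : ((h ∣_ U) ⁻¹' (U.ι ⁻¹' C) : Set _) => (h ⁻¹ᵁ U).ι p.1)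
      ((h ⁻¹ᵁ U).ι.isEmbedding.comp Topology.IsEmbedding.subtypeVal) ?_).symm
    have hr : (h ∣_ U) ⁻¹' (U.ι ⁻¹' C) = (h ⁻¹ᵁ U).ι ⁻¹' (h ⁻¹' C) := by
      ext p
      simp only [Set.mem_preimage, ← Scheme.Hom.comp_apply, morphismRestrict_ι]
    rw [Set.range_comp', Subtype.range_coe, hr, Set.image_preimage_eq_inter_range, Scheme.Opens.range_ι]
    ext p
    simp only [Set.mem_inter_iff, Set.mem_preimage, C, ← Scheme.Hom.comp_apply, hfst, hsnd,
      Set.mem_setOf_eq, hΔ]
    exact ⟨fun hp => ⟨hp.1.1, hp.1.2, hp.2⟩, fun hp => ⟨⟨hp.1, hp.2.1⟩, hp.2.2⟩⟩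
  rw [← e1, ← e2, eW, eY, eZ, eS]
  rw [add_add_add_comm, add_add_add_comm (topologicalKrullDim Y), ← Nat.cast_add]
  exact ⟨fun hle => add_le_add hle le_rfl, fun hle => le_of_add_natCast_le _ hle⟩

end Groth.Agent.S14485
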