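import Groth.Statements.S14486
import Groth.Agent.L03.SurfAdj.Tools
-- import your own Groth.Agent.* helpers here

set_option autoImplicit false
universe u
open CategoryTheory CategoryTheory.Limits AlgebraicGeometry
open Surf

namespace Groth.Agent.S14486

open Groth.L22.Inter Groth.L22.Nef Groth.L22.Big Groth.L03.Euler Groth.L03.SurfNum Groth.L03.SurfAdj
open Groth.L00.Tensor (tensorIso tensorComm tensorUnitLeft tensorUnitRight tensorAssoc)


/-- Let k be an algebraically closed field and X a projective K3 surface over k: an integral scheme of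
dimension two with all local rings regular, admitting a closed immersion into some P^n_k over k,
whose structure sheaf O_X is a second exterior power of Ω_{X/k} (the canonical sheaf is trivial) and
with H^1(X, O_X) = 0. Let C be a nonsingular curve of genus g on X: an integral closed subscheme of
dimension one with all local rings regular, with ideal sheaf I ⊆ O_X and g = dim_k H^1(C, O_C); let
M be an inverse of I for the tensor product (M = O_X(C)). Then C² = 2g - 2 and h^0(X, O_X(C)) = g +
1. Writing (L·L') for the intersection number χ(O_X) - χ(L) - χ(L') + χ(L ⊗ L') of two invertible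
modules (packaged as FGA.intNum), C² = (I·I), so the assertion reads (I·I) = 2g - 2 and dim_k H^0(X,
M) = g + 1. (A K3 surface is only required to be proper; this row assumes the projective embedding.) -/
theorem result (k : Type u) [Field k] [IsAlgClosed k] (X : Scheme.{u})
    [X.Over (Spec (CommRingCat.of k))] [IsIntegral X] (hdim : topologicalKrullDim X = 2)
    (hreg : ∀ x : X, IsRegularLocalRing (X.presheaf.stalk x))
    (hproj : ∃ (n : ℕ) (ι : X ⟶ CohB1.ProjSpace n k), IsClosedImmersion ι ∧
      ι ≫ CohB1.ProjSpace.toSpec n k = (X ↘ (Spec (CommRingCat.of k))))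
    (hK : ExtPow.IsExtPow 2 (Omega.sheaf (X ↘ (Spec (CommRingCat.of k)))) (Coh.structureModule X))
    (hH1 : Subsingleton (Coh.HH X (Coh.structureModule X) 1))
    (C : Scheme.{u}) (i : C ⟶ X) [IsClosedImmersion i] [IsIntegral C] (hC : topologicalKrullDim C = 1)
    (hCreg : ∀ c : C, IsRegularLocalRing (C.presheaf.stalk c))
    (M : X.Modules) (hM : ClSub.IsInverseOf M (ClSub.idealMod i.ker)) :
    letI : C.Over (Spec (CommRingCat.of k)) := ⟨i ≫ (X ↘ (Spec (CommRingCat.of k)))⟩
    FGA.intNum k X 2 ![ClSub.idealMod i.ker, ClSub.idealMod i.ker] (Coh.structureModule X) =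
        2 * (Curv2.genus k C : ℤ) - 2 ∧
      Module.finrank k (Coh.HH X M 0) = Curv2.genus k C + 1 := by
  haveI : IsProper (X ↘ (Spec (CommRingCat.of k))) := by
    obtain ⟨n, ι, hι, hιk⟩ := hproj
    rw [← hιk]
    haveI := hι
    haveI := Groth.L16.ProjSpace.isProper_toSpec n k
    infer_instance
  letI : C.Over (Spec (CommRingCat.of k)) := ⟨i ≫ (X ↘ (Spec (CommRingCat.of k)))⟩
  haveI := Groth.L21.RR.isNoetherian_of_proper (X := X) k
  haveI : IsProper (C ↘ Spec (CommRingCat.of k)) :=
    inferInstanceAs (IsProper (i ≫ (X ↘ Spec (CommRingCat.of k))))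
  have hd2 : topologicalKrullDim X = (2 : ℕ) := hdim.trans Nat.cast_ofNat.symm
  have hC1 : topologicalKrullDim C = (1 : ℕ) := hC.trans Nat.cast_one.symm
  obtain ⟨hO, hflip, hflip0, hRR⟩ := canonical k hdim hreg hK
  obtain ⟨hI, hpt⟩ := Groth.L03.SurfNum.CurveDegree.invertible_ker k i hd2 hreg hC1
  set I := ClSub.idealMod i.ker
  obtain ⟨eM⟩ := hM
  let eM' : CohB1.tensorMod I M ≅ Coh.structureModule X := tensorComm _ _ ≪≫ eM
  have hMi := Groth.L22.EnrSev.isInvertible_of_inverse hI eM'
  have hunit : ∀ A : X.Modules, PicF.IsInvertible A → ii k A (Coh.structureModule X) = 0 := fun A hA => by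
    rw [ii_comm]
    exact altT_unit k _
  have hadj := Groth.L03.SurfAdj.adjunction k i hd2 hreg hC1 hCreg hK
  rw [hunit I hI, sub_zero] at hadj
  refine ⟨?_, ?_⟩
  · rw [← intNum_eq_ii k hd2.le] at hadj
    exact_mod_cast hadj.symm
  · have hMM : ii k M M = ii k I I := by
      rw [Gram.ii_inverse k hd2.le hI hMi hMi eM', ii_comm, Gram.ii_inverse k hd2.le hI hMi hI eM', neg_neg]
    have hr := hRR M hMi
    rw [hunit M hMi, hMM, sub_zero] at hr
    have hh0 := Groth.L22.CurveDeg.h0_structure_eq_one k (X := X)
    have hχO : Curv2.euler k X (Coh.structureModule X) = 2 := by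
      rw [euler_three k hd2, show Module.finrank k (Coh.HH X (Coh.structureModule X) 2) =
        Module.finrank k (Coh.HH X (Coh.structureModule X) 0) from hflip0 2 le_rfl, @Module.finrank_zero_of_subsingleton k (Coh.HH X (Coh.structureModule X) 1) _ _ _ _ hH1]
      rw [show Module.finrank k (Coh.HH X (Coh.structureModule X) 0) = 1 from hh0]
      norm_num
    have hh2 : ∀ j, j ≤ 2 → Module.finrank k (Coh.HH X M j) = Module.finrank k (Coh.HH X I (2 - j)) := fun j hj => by
      rw [← hflip I M hI ⟨eM'⟩ j hj]
      exact (finrank_HH_of_iso (tensorUnitLeft M) j).symm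
    haveI := hH1
    have hse := Groth.L21.RR.shortExact_idealSeq i.ker
    have hI0 : Module.finrank k (Coh.HH X I 0) = 0 := by
      by_contra hne
      haveI : Nontrivial (Coh.HH X I 0) := Module.nontrivial_of_finrank_pos (Nat.pos_of_ne_zero hne)
      obtain ⟨H, hH⟩ := Groth.L03.SurfAmple.exists_ample k X hd2 hreg
      have h1 := (section_facts k hd2 hI hH ‹_›).1
      haveI : IsIntegral i.ker.subscheme := by rw [hpt]; exact isIntegral_pt _
      have h2 := Gram.curve_ample_neg k hd2.le hH i.ker (by
        haveI := isIntegral_pt (i (genericPoint C))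
        rw [hpt, dim_support (pt (i (genericPoint C))), genericPoint_pt, dim_closure_image i, hC]) hI
      linarith
    have hI1 : Module.finrank k (Coh.HH X I 1) = 0 := by
      have hJQ : Module.finrank k (Coh.HH X (ClSub.quotMod i.ker) 0) = 1 := by
        haveI : IsIntegral i.ker.subscheme := by rw [hpt]; exact isIntegral_pt _
        letI : i.ker.subscheme.Over (Spec (CommRingCat.of k)) := ⟨i.ker.subschemeι ≫ (X ↘ (Spec (CommRingCat.of k)))⟩
        haveI : IsProper (i.ker.subscheme ↘ Spec (CommRingCat.of k)) :=
          inferInstanceAs (IsProper (i.ker.subschemeι ≫ (X ↘ Spec (CommRingCat.of k))))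
        obtain ⟨q⟩ := nonempty_twistQuot_equiv k i.ker (Groth.L18.Ample.isInvertible_structureModule X) 0
        rw [← finrank_HH_of_iso (tensorUnitLeft (ClSub.quotMod i.ker)), q.finrank_eq,
          finrank_HH_of_iso (Groth.L29.LocFree.pullbackUnitIso i.ker.subschemeι)]
        exact Groth.L22.CurveDeg.h0_structure_eq_one k
      haveI : Module.Finite k (Coh.HH X (Coh.structureModule X) 0) :=
        Groth.L16.ProperFinite.finite_HH k Groth.L16.CohClosedPush.isCoh_structure 0
      haveI : Module.Finite k (Coh.HH X (ClSub.quotMod i.ker) 0) :=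
        Groth.L16.ProperFinite.finite_HH k (Groth.L21.RR.isCoh_quotMod i.ker) 0
      haveI : Subsingleton (Coh.HH X I 0) := by
        haveI := Groth.L16.ProperFinite.finite_HH k (Groth.L18.Ample.isCoh_of_isInvertible hI) 0
        exact Module.finrank_zero_iff.1 hI0
      have hinj : Function.Injective (Groth.L16.CohLinear.overLin k (Groth.L16.CohLinear.hmap (Groth.L21.RR.idealSeq i.ker).g 0)) := by
        refine (injective_iff_map_eq_zero _).2 fun y hy => ?_
        obtain ⟨z, rfl⟩ := (Groth.L16.CohLinear.exact_hmap_hmap hse 0 y).1 hy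
        rw [Subsingleton.elim (α := Coh.HH X I 0) z 0]
        exact map_zero _
      have hsur := (LinearMap.injective_iff_surjective_of_finrank_eq_finrank
        (show Module.finrank k (Coh.HH X (Coh.structureModule X) 0) = Module.finrank k (Coh.HH X (ClSub.quotMod i.ker) 0) from
          hh0.trans hJQ.symm)).1 hinj
      haveI : Subsingleton (Coh.HH X I 1) := subsingleton_of_forall_eq 0 fun z => by
        obtain ⟨y, rfl⟩ := (Groth.L16.CohLinear.exact_delta_hmap hse 0 z).1
          (Subsingleton.elim (α := Coh.HH X (Coh.structureModule X) 1) _ _)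
        obtain ⟨x, rfl⟩ := hsur y
        exact (Groth.L16.CohLinear.exact_hmap_delta hse 0 _).2 ⟨x, rfl⟩
      exact Module.finrank_zero_of_subsingleton
    rw [euler_three k hd2 M, hh2 1 one_le_two, hI1, hh2 2 le_rfl, hI0, hχO] at hr
    push_cast at hr
    have : (Module.finrank k (Coh.HH X M 0) : ℚ) = (Curv2.genus k C : ℚ) + 1 := by linarith
    exact_mod_cast this

end Groth.Agent.S14486
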