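import Groth.Statements.S14490
import Groth.Agent.L21.P1Fam.Split

set_option autoImplicit false
set_option backward.isDefEq.respectTransparency false
set_option linter.style.haveILetI false
universe u
open CategoryTheory CategoryTheory.Limits AlgebraicGeometry
open ProjBd

namespace Groth.Agent.S14490

/-- Let f : C → B be a proper smooth morphism of schemes of relative dimension one all of whose
geometric fibres are projective lines (for every algebraically closed field Ω and every Spec Ω → B,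
the fibre C ×_B Spec Ω is isomorphic to P^1_Ω over Ω). If f admits three sections s₁, s₂, s₃ with
pairwise disjoint images, then C is the projective bundle of the free module of rank 2, i.e. C ≅ B ×
P^1 over B: there exist an invertible O_C-module O(1) and a surjection q : f^*(O_B^2) → O(1) such
that (f : C → B, O(1), q) has the universal property of the projective bundle P(O_B^2). -/
theorem result {C B : Scheme.{u}} (f : C ⟶ B)
    [IsProper f] [SmoothOfRelativeDimension 1 f]
    (hfib : ∀ (Ω : Type u) [Field Ω] [IsAlgClosed Ω] (b : Spec (CommRingCat.of Ω) ⟶ B),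
      ∃ e : pullback f b ≅ CohB1.ProjSpace 1 Ω, e.hom ≫ CohB1.ProjSpace.toSpec 1 Ω = pullback.snd f b)
    (s₁ s₂ s₃ : B ⟶ C) (hs₁ : s₁ ≫ f = 𝟙 B) (hs₂ : s₂ ≫ f = 𝟙 B) (hs₃ : s₃ ≫ f = 𝟙 B)
    (h₁₂ : Disjoint (Set.range s₁) (Set.range s₂)) (h₁₃ : Disjoint (Set.range s₁) (Set.range s₃))
    (h₂₃ : Disjoint (Set.range s₂) (Set.range s₃)) :
    ∃ (O1 : C.Modules) (q : (Scheme.Modules.pullback f).obj (FlatMod.freeMod B 2) ⟶ O1),
      KRR.IsProjBundle f (FlatMod.freeMod B 2) O1 q := by
  obtain ⟨hc, hg⟩ := Groth.L21.P1Fam.line_family f hfib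
  haveI := hc
  obtain ⟨L, hL, hd, ⟨e⟩⟩ := Groth.L21.P1Fam.exists_deg1_trivial_along (f := f) hs₃
  have hP := Groth.L21.P1Fam.isProjBundle_push hg hL hd
  obtain ⟨ψ⟩ := Groth.L21.P1Fam.exists_free_iso hP (Groth.L21.P1Fam.isFinLocFreeOfRank_push hg hL hd) hL hs₁ hs₂ hs₃
    h₁₂ h₁₃ h₂₃ e
  exact ⟨_, _, Groth.L21.P1Fam.isProjBundle_congr hP ψ.symm⟩

end Groth.Agent.S14490
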