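import Groth.Statements.S14491
import Groth.Agent.L10.Triang4

set_option autoImplicit false
universe w v u
open DerTri

namespace Groth.Agent.S14491

open CategoryTheory Pretriangulated in
/-- In the derived category D(C) of an abelian category C, let E ⟶ F ⟶ G be two morphisms with E
concentrated in non-positive degrees and G concentrated in non-negative degrees for the canonical
t-structure. If two morphisms G ⟶ E⟦1⟧ both complete E ⟶ F ⟶ G to a distinguished triangle, then
they are equal. (The published statement is phrased with the morphism G⟦-1⟧ ⟶ E of the triangle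
G⟦-1⟧ ⟶ E ⟶ F ⟶ G; this row uses the equivalent connecting morphism G ⟶ E⟦1⟧ of the rotated
triangle.) -/
theorem result {C : Type u} [Category.{v} C] [Abelian C]
    [HasDerivedCategory.{w} C] {E F G : DerivedCategory C} (u : E ⟶ F) (v : F ⟶ G)
    [E.IsLE 0] [G.IsGE 0] (w w' : G ⟶ E⟦(1 : ℤ)⟧)
    (hw : Triangle.mk u v w ∈ distTriang (DerivedCategory C))
    (hw' : Triangle.mk u v w' ∈ distTriang (DerivedCategory C)) :
    w = w' := by
  exact Groth.L10.s14491 u v w w' hw hw'

end Groth.Agent.S14491
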