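import Groth.Statements.S14496
import Groth.Agent.L09.DivisibleInd

set_option autoImplicit false
universe v
open IndCof

namespace Groth.Agent.S14496

open CategoryTheory CategoryTheory.Limits in
/-- Let C be a small abelian category all of whose objects are Artinian and killed by some power of a
prime p, and A an ind-object of C of cofinite type. Let N be such that p^n A = p^N A for all n ≥ N,
so that the divisible part A_div = ⋂ p^n A equals p^N A. Then A_div is of cofinite type and
divisible (multiplication by p on it is an epimorphism; integers prime to p act invertibly on every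
ind-object here, so this is divisibility by all positive integers); it is the largest divisible
sub-object of A; and A / A_div is the largest quotient of A lying in C: every epimorphism from A
onto an object isomorphic to an object of C vanishes on A_div. (The row takes the stabilization
index N as a hypothesis instead of forming the intersection; that A / A_div itself lies in C is the
statement about A / p^N A and is not repeated here.) -/
theorem result {C : Type v} [SmallCategory C] [Abelian C]
    (hart : ∀ X : C, IsArtinianObject X) (p : ℕ) (hp : p.Prime)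
    (htor : ∀ X : C, ∃ n : ℕ, (p ^ n) • 𝟙 X = 0)
    (A : Ind C) (hA : ∀ n : ℕ, (Ind.yoneda (C := C)).essImage (kernel ((p ^ n) • 𝟙 A))) (N : ℕ)
    (hN : ∀ n : ℕ, N ≤ n → imageSubobject ((p ^ n) • 𝟙 A) = imageSubobject ((p ^ N) • 𝟙 A)) :
    (∀ n : ℕ, (Ind.yoneda (C := C)).essImage
        (kernel ((p ^ n) • 𝟙 ((imageSubobject ((p ^ N) • 𝟙 A) : Subobject A) : Ind C)))) ∧
      Epi (p • 𝟙 ((imageSubobject ((p ^ N) • 𝟙 A) : Subobject A) : Ind C)) ∧
      (∀ D : Subobject A, Epi (p • 𝟙 (D : Ind C)) → D ≤ imageSubobject ((p ^ N) • 𝟙 A)) ∧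
      (∀ (Q : Ind C) (q : A ⟶ Q), Epi q → (Ind.yoneda (C := C)).essImage Q →
        (imageSubobject ((p ^ N) • 𝟙 A)).arrow ≫ q = 0) := by
  let D : Subobject A := imageSubobject ((p ^ N) • 𝟙 A)
  have hdiv : Epi (p • 𝟙 (D : Ind C)) := Groth.L09.Divisible.epi_on_image_of_le
    (le_of_eq (by rw [← pow_succ']; exact (hN (N + 1) (Nat.le_succ N)).symm))
  have hpow : ∀ (E : Ind C), Epi (p • 𝟙 E) → ∀ n : ℕ, Epi ((p ^ n) • 𝟙 E) := by
    intro E hE n
    induction n with
    | zero => rw [pow_zero, one_smul]; infer_instance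
    | succ n ih =>
      rw [pow_succ', mul_smul, ← Groth.L09.Divisible.comp_mul ((p ^ n) • 𝟙 E) p]
      infer_instance
  refine ⟨fun n => ?_, hdiv, fun E hE => Groth.L09.Divisible.le_image_of_epi E (hpow _ hE N),
    fun Q q hq hQ => ?_⟩
  · have h1 : (Ind.yoneda (C := C)).essImage (kernel ((p ^ n) • 𝟙 A)) := hA n
    let s : kernel ((p ^ (n + N)) • 𝟙 A) ⟶ A := (p ^ N) • kernel.ι _
    have hs : D.Factors s :=
      (Groth.L09.Divisible.factors_image_iff _ _).2 (Groth.L09.Divisible.inImg_smul _ _)
    let j : kernel ((p ^ n) • 𝟙 (D : Ind C)) ⟶ kernel ((p ^ n) • 𝟙 A) :=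
      kernel.lift _ (kernel.ι _ ≫ D.arrow) (by
        rw [Groth.L09.Divisible.comp_mul, ← Preadditive.nsmul_comp,
          Groth.L09.Divisible.smul_kernel_ι, zero_comp])
    let e : kernel ((p ^ (n + N)) • 𝟙 A) ⟶ kernel ((p ^ n) • 𝟙 (D : Ind C)) :=
      kernel.lift _ (D.factorThru s hs) (by
        rw [← cancel_mono D.arrow, Groth.L09.Divisible.comp_mul, Preadditive.nsmul_comp,
          Subobject.factorThru_arrow, ← mul_smul, ← pow_add, Groth.L09.Divisible.smul_kernel_ι,
          zero_comp])
    haveI : Mono (j ≫ kernel.ι _) := by simp only [j, kernel.lift_ι]; infer_instance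
    haveI : Mono j := mono_of_mono j (kernel.ι _)
    haveI : Epi e := by
      obtain ⟨T', π, hπ, x, hx⟩ := (Groth.L09.Divisible.inImg_mul_iff _ _).1
        (((Groth.L09.Divisible.le_image_iff _ D).1 le_rfl).comp (kernel.ι ((p ^ n) • 𝟙 (D : Ind C))))
      have hx0 : x ≫ ((p ^ (n + N)) • 𝟙 A) = 0 := by
        rw [Groth.L09.Divisible.comp_mul, pow_add, mul_smul, ← hx, ← Preadditive.comp_nsmul,
          ← Preadditive.nsmul_comp, Groth.L09.Divisible.smul_kernel_ι, zero_comp, comp_zero]
      have he : kernel.lift _ x hx0 ≫ e = π := by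
        rw [← cancel_mono (kernel.ι ((p ^ n) • 𝟙 (D : Ind C))), ← cancel_mono D.arrow]
        simp only [e, s, Category.assoc, kernel.lift_ι_assoc, Subobject.factorThru_arrow,
          Preadditive.comp_nsmul, kernel.lift_ι]
        rw [hx]
      exact epi_of_epi_fac he
    exact Groth.L09.Divisible.ess_of_epi_mono _ (hA (n + N)) h1 e j
  · obtain ⟨X, ⟨i⟩⟩ := hQ
    obtain ⟨m, hm⟩ := htor X
    haveI := (Ind.yoneda (C := C)).additive_of_preserves_binary_products
    have hQm : (p ^ m) • 𝟙 Q = 0 := by
      rw [← cancel_epi i.hom, comp_zero, Preadditive.comp_nsmul, Category.comp_id,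
        ← Groth.L09.Divisible.mul_comp, ← (Ind.yoneda (C := C)).map_id X, ← Functor.map_nsmul, hm,
        Functor.map_zero, zero_comp]
    have h0 : ((p ^ (max N m)) • 𝟙 A) ≫ q = 0 := by
      obtain ⟨c, hc⟩ := pow_dvd_pow p (le_max_right N m)
      rw [Groth.L09.Divisible.mul_comp, hc, mul_smul, ← Groth.L09.Divisible.comp_mul (c • q) (p ^ m),
        hQm, comp_zero]
    rw [← hN (max N m) (le_max_left _ _)]
    rw [← cancel_epi (factorThruImageSubobject ((p ^ (max N m)) • 𝟙 A)), comp_zero,
      ← Category.assoc, imageSubobject_arrow_comp, h0]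

end Groth.Agent.S14496
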