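import Groth.Statements.S14498
import Mathlib.CategoryTheory.Abelian.Refinements
import Mathlib.CategoryTheory.Preadditive.Biproducts

set_option autoImplicit false
universe v u
open AbDiag

namespace Groth.Agent.S14498

open CategoryTheory CategoryTheory.Limits in
/-- In an abelian category, let 0 → F → W → E' → 0 (maps a, b) and 0 → E → W → F' → G → G' → 0 (maps c,
d, e, g) be exact sequences such that the composite F → W → F' is a monomorphism. Then the composite
E → W → E' is a monomorphism, and there is a short exact sequence 0 → Coker(E → E') → Coker(F → F')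
→ Ker(G → G') → 0 whose first map is induced by d (through the quotient map b) and whose second map
is induced by e. -/
theorem result
    {V : Type u} [Category.{v} V] [Abelian V] {F W E' E F' G G' : V}
    (a : F ⟶ W) (b : W ⟶ E') (c : E ⟶ W) (d : W ⟶ F') (e : F' ⟶ G) (g : G ⟶ G')
    [Mono a] [Epi b] (wab : a ≫ b = 0) (hab : (ShortComplex.mk a b wab).Exact)
    [Mono c] (wcd : c ≫ d = 0) (hcd : (ShortComplex.mk c d wcd).Exact)
    (wde : d ≫ e = 0) (hde : (ShortComplex.mk d e wde).Exact)
    (weg : e ≫ g = 0) (heg : (ShortComplex.mk e g weg).Exact) [Epi g]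
    (hmono : Mono (a ≫ d)) :
    Mono (c ≫ b) ∧
      ∃ (φ : cokernel (c ≫ b) ⟶ cokernel (a ≫ d)) (ψ : cokernel (a ≫ d) ⟶ kernel g)
        (w : φ ≫ ψ = 0),
        b ≫ cokernel.π (c ≫ b) ≫ φ = d ≫ cokernel.π (a ≫ d) ∧
        cokernel.π (a ≫ d) ≫ ψ ≫ kernel.ι g = e ∧
        (ShortComplex.mk φ ψ w).ShortExact := by
  open CategoryTheory CategoryTheory.Limits in
  haveI := hmono
  have hπb : a ≫ d ≫ cokernel.π (a ≫ d) = 0 := by rw [← Category.assoc, cokernel.condition]
  let d' : E' ⟶ cokernel (a ≫ d) := hab.desc (d ≫ cokernel.π (a ≫ d)) hπb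
  have hd' : b ≫ d' = d ≫ cokernel.π (a ≫ d) := hab.g_desc _ _
  let φ : cokernel (c ≫ b) ⟶ cokernel (a ≫ d) := cokernel.desc _ d'
    (by rw [Category.assoc, hd', ← Category.assoc, wcd, zero_comp])
  have hφ : cokernel.π (c ≫ b) ≫ φ = d' := cokernel.π_desc _ _ _
  let ψ : cokernel (a ≫ d) ⟶ kernel g := cokernel.desc _ (kernel.lift g e weg) (by
    rw [← cancel_mono (kernel.ι g), Category.assoc, kernel.lift_ι, zero_comp, Category.assoc, wde, comp_zero])
  have hψ : cokernel.π (a ≫ d) ≫ ψ = kernel.lift g e weg := cokernel.π_desc _ _ _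
  have w : φ ≫ ψ = 0 := by
    rw [← cancel_epi (cokernel.π (c ≫ b)), ← cancel_epi b, reassoc_of% hφ, reassoc_of% hd', hψ, comp_zero, comp_zero,
      ← cancel_mono (kernel.ι g), Category.assoc, kernel.lift_ι, zero_comp, wde]
  refine ⟨?_, φ, ψ, w, by rw [hφ, hd'], by rw [reassoc_of% hψ, kernel.lift_ι], ?_⟩
  · refine Preadditive.mono_of_cancel_zero _ fun {T} x hx => ?_
    obtain ⟨T1, p, hp, f, hf⟩ := hab.exact_up_to_refinements (x ≫ c) (by simpa using hx)
    simp only at hf
    have h0 : f = 0 := by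
      rw [← cancel_mono (a ≫ d), zero_comp, ← Category.assoc, ← hf]
      simp [wcd]
    rw [h0, zero_comp, ← Category.assoc] at hf
    exact (cancel_epi p).1 (((cancel_mono c).1 (hf.trans zero_comp.symm)).trans comp_zero.symm)
  · have hepi : Epi (kernel.lift g e weg) := heg.epi_kernelLift
    haveI : Epi (cokernel.π (a ≫ d) ≫ ψ) := hψ ▸ hepi
    haveI : Epi ψ := epi_of_epi (cokernel.π (a ≫ d)) ψ
    haveI : Mono φ := by
      refine Preadditive.mono_of_cancel_zero _ fun {T} x hx => ?_
      obtain ⟨T1, p1, hp1, x1, hx1⟩ := surjective_up_to_refinements_of_epi (cokernel.π (c ≫ b)) x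
      obtain ⟨T2, p2, hp2, w2, hw2⟩ := surjective_up_to_refinements_of_epi b x1
      have h1 : (w2 ≫ d) ≫ cokernel.π (a ≫ d) = 0 := by
        rw [Category.assoc, ← hd', ← Category.assoc, ← hw2, Category.assoc, ← hφ, ← reassoc_of% hx1, hx, comp_zero, comp_zero]
      obtain ⟨T3, p3, hp3, f, hf⟩ := (ShortComplex.exact_of_g_is_cokernel (ShortComplex.mk (a ≫ d) (cokernel.π (a ≫ d)) (cokernel.condition _)) (cokernelIsCokernel (a ≫ d))).exact_up_to_refinements (w2 ≫ d) h1
      simp only at hf
      obtain ⟨T4, p4, hp4, ε, hε⟩ := hcd.exact_up_to_refinements (p3 ≫ w2 - f ≫ a) (by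
        simp only [Preadditive.sub_comp, Category.assoc]
        exact sub_eq_zero.2 hf)
      simp only at hε
      have h2 : (p4 ≫ p3 ≫ p2) ≫ x1 ≫ cokernel.π (c ≫ b) = 0 := by
        have h3 : p4 ≫ p3 ≫ w2 ≫ b = ε ≫ c ≫ b := by
          have := congrArg (· ≫ b) hε
          simp only [Preadditive.sub_comp, Preadditive.comp_sub, Category.assoc, wab, comp_zero, sub_zero] at this
          exact this
        simp only [Category.assoc]
        rw [reassoc_of% hw2, reassoc_of% h3]
        rw [← Category.assoc c, cokernel.condition, comp_zero]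
      rw [← hx1] at h2
      exact (cancel_epi p1).1 (((cancel_epi (p4 ≫ p3 ≫ p2)).1 (h2.trans comp_zero.symm)).trans comp_zero.symm)
    refine { exact := ?_ }
    rw [ShortComplex.exact_iff_exact_up_to_refinements]
    intro T y hy
    obtain ⟨T1, p1, hp1, y1, hy1⟩ := surjective_up_to_refinements_of_epi (cokernel.π (a ≫ d)) y
    have h1 : y1 ≫ e = 0 := by
      have : p1 ≫ y ≫ ψ ≫ kernel.ι g = 0 := by
        simp only at hy
        rw [reassoc_of% hy, zero_comp, comp_zero]
      rwa [reassoc_of% hy1, reassoc_of% hψ, kernel.lift_ι] at this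
    obtain ⟨T2, p2, hp2, w2, hw2⟩ := hde.exact_up_to_refinements y1 h1
    simp only at hw2
    refine ⟨T2, p2 ≫ p1, inferInstance, w2 ≫ b ≫ cokernel.π (c ≫ b), ?_⟩
    simp only [Category.assoc]
    rw [hφ, hd', ← reassoc_of% hw2, hy1]

end Groth.Agent.S14498
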