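import Groth.Statements.S14502
import Groth.Agent.L11.IntTh.Lattice

set_option autoImplicit false
universe u
open IntTh

namespace Groth.Agent.S14502

/-- Let A be a Noetherian local domain of Krull dimension one with fraction field K, V a
finite-dimensional K-vector space, M a lattice in V (a finitely generated A-submodule spanning V
over K) and φ a K-linear automorphism of V. Then φ(M) is a lattice, the A-modules M/(M ∩ φ(M)) and
φ(M)/(M ∩ φ(M)) have finite length, and the distance length_A(M/(M ∩ φ(M))) − length_A(φ(M)/(M ∩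
φ(M))) equals the order of det φ at the closed point, i.e. length_A(A/(a)) − length_A(A/(b)) for det
φ = a/b. -/
theorem result (A : Type u) [CommRing A] [IsDomain A] [IsNoetherianRing A]
    [IsLocalRing A] (hA : ringKrullDim A = 1) (K : Type u) [Field K] [Algebra A K]
    [IsFractionRing A K] (V : Type u) [AddCommGroup V] [Module K V] [Module A V]
    [IsScalarTower A K V] [FiniteDimensional K V]
    (M : Submodule A V) [Submodule.IsLattice K M] (φ : V ≃ₗ[K] V) :
    Submodule.IsLattice K (M.map (φ.toLinearMap.restrictScalars A)) ∧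
      Module.length A (↥M ⧸ (M ⊓ M.map (φ.toLinearMap.restrictScalars A)).submoduleOf M) < ⊤ ∧
      Module.length A (↥(M.map (φ.toLinearMap.restrictScalars A)) ⧸
          (M ⊓ M.map (φ.toLinearMap.restrictScalars A)).submoduleOf
            (M.map (φ.toLinearMap.restrictScalars A))) < ⊤ ∧
      ((Module.length A (↥M ⧸ (M ⊓ M.map (φ.toLinearMap.restrictScalars A)).submoduleOf M)).toNat : ℤ) -
          ((Module.length A (↥(M.map (φ.toLinearMap.restrictScalars A)) ⧸
            (M ⊓ M.map (φ.toLinearMap.restrictScalars A)).submoduleOf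
              (M.map (φ.toLinearMap.restrictScalars A)))).toNat : ℤ) =
        CycAlg.ordFrac A K (LinearMap.det φ.toLinearMap) := by
  classical
  haveI : Ring.KrullDimLE 1 A := (Order.krullDimLE_iff 1 (PrimeSpectrum A)).mpr (show ringKrullDim A ≤ 1 from hA.le)
  haveI : Module.Finite A M := Module.Finite.iff_fg.mpr (Submodule.IsLattice.fg (A := K) (M := M))
  have hlat : ∀ ψ : V ≃ₗ[K] V, Submodule.IsLattice K (M.map (ψ.toLinearMap.restrictScalars A)) := fun ψ => by
    refine ⟨(Submodule.IsLattice.fg (A := K) (M := M)).map _, ?_⟩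
    rw [Submodule.map_coe, LinearMap.coe_restrictScalars, ← Submodule.map_span,
      Submodule.IsLattice.span_eq_top, Submodule.map_top, LinearMap.range_eq_top]
    exact ψ.surjective
  haveI := hlat φ
  haveI := Groth.L11.IntTh.isLattice_inf K M (M.map (φ.toLinearMap.restrictScalars A))
  refine ⟨inferInstance, (Groth.L11.IntTh.len_ne_top K _ M).lt_top, (Groth.L11.IntTh.len_ne_top K _ _).lt_top, ?_⟩
  obtain ⟨c, hc, hcM⟩ := Groth.L11.IntTh.exists_smul_le K (M.map (φ.toLinearMap.restrictScalars A)) M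
  have hcK : algebraMap A K c ≠ 0 := (map_ne_zero_iff _ (IsFractionRing.injective A K)).mpr hc
  let ψ : V ≃ₗ[K] V := φ.trans (LinearEquiv.smulOfUnit (Units.mk0 _ hcK))
  have hψ : ∀ v, ψ v = c • φ v := fun v => algebraMap_smul K c (φ v)
  set L := M.map (ψ.toLinearMap.restrictScalars A) with hL
  haveI := hlat ψ
  have hLM : L ≤ M := by
    rintro _ ⟨x, hx, rfl⟩
    change ψ x ∈ M
    rw [hψ]
    exact hcM _ ⟨x, hx, rfl⟩
  have hLN : L ≤ M.map (φ.toLinearMap.restrictScalars A) := by
    rintro _ ⟨x, hx, rfl⟩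
    exact ⟨c • x, M.smul_mem c hx, by
      change φ (c • x) = ψ x
      rw [hψ]
      exact LinearMap.map_smul_of_tower φ.toLinearMap c x⟩
  rw [Groth.L11.IntTh.dist_eq K M _ L hLM hLN]
  obtain ⟨a, b, hb, hab⟩ := IsFractionRing.div_surjective (A := A) (LinearMap.det φ.toLinearMap)
  have hb0 : b ≠ 0 := nonZeroDivisors.ne_zero hb
  have hbK : algebraMap A K b ≠ 0 := IsFractionRing.to_map_ne_zero_of_mem_nonZeroDivisors hb
  have ha0 : a ≠ 0 := fun h => by
    rw [h, map_zero, zero_div] at hab
    exact (LinearEquiv.isUnit_det' φ).ne_zero hab.symm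
  set n := Module.finrank K V
  have hcn : c ^ n ≠ 0 := pow_ne_zero _ hc
  have hspan : Submodule.span K (Set.range M.subtype) = ⊤ := by
    rw [show Set.range M.subtype = (M : Set V) from Subtype.range_coe, Submodule.IsLattice.span_eq_top]
  -- colength of `c φ M` in `M`
  let f : M →ₗ[A] M := (ψ.toLinearMap.restrictScalars A).restrict fun x hx => hLM ⟨x, hx, rfl⟩
  have hf := Groth.L22.OrdDet.length_coker_eq_ord_det (A := A) (K := K) M.subtype M.injective_subtype hspan f
    ψ.toLinearMap (fun x => rfl) (a := c ^ n * a) (b := b) (mul_ne_zero hcn ha0) hb0 (by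
      rw [show ψ.toLinearMap = algebraMap A K c • φ.toLinearMap from LinearMap.ext fun v => rfl,
        LinearMap.det_smul, ← hab, map_mul, map_pow]
      field_simp
      ring)
  have e1 : LinearMap.range f = L.submoduleOf M := by
    ext ⟨z, hz⟩
    constructor
    · rintro ⟨⟨x, hx⟩, he⟩; exact ⟨x, hx, congrArg Subtype.val he⟩
    · rintro ⟨x, hx, he⟩; exact ⟨⟨x, hx⟩, Subtype.ext he⟩
  rw [(Submodule.quotEquivOfEq _ _ e1).length_eq] at hf
  -- colength of `c φ M` in `φ M`
  let g : M →ₗ[A] M := c • LinearMap.id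
  have hg := Groth.L22.OrdDet.length_coker_eq_ord_det (A := A) (K := K) M.subtype M.injective_subtype hspan g
    (algebraMap A K c • LinearMap.id) (fun x => algebraMap_smul K c (x : V)) (a := c ^ n) (b := 1) hcn one_ne_zero (by
      rw [LinearMap.det_smul, LinearMap.det_id, mul_one, map_pow, map_one, mul_one])
  rw [Ring.ord_one, add_zero] at hg
  let e : M ≃ₗ[A] M.map (φ.toLinearMap.restrictScalars A) :=
    Submodule.equivMapOfInjective (φ.toLinearMap.restrictScalars A) φ.injective M
  have e2 : (↥M ⧸ LinearMap.range g) ≃ₗ[A] (↥(M.map (φ.toLinearMap.restrictScalars A)) ⧸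
      L.submoduleOf (M.map (φ.toLinearMap.restrictScalars A))) := Submodule.Quotient.equiv _ _ e (by
    ext ⟨z, hz⟩
    constructor
    · rintro ⟨_, ⟨x, rfl⟩, he⟩
      refine ⟨x, x.2, (?_ : ψ (x : V) = z)⟩
      have h1 : φ (c • (x : V)) = z := congrArg Subtype.val he
      rw [← h1, hψ]
      exact (LinearMap.map_smul_of_tower φ.toLinearMap c (x : V)).symm
    · rintro ⟨x, hx, he⟩
      refine ⟨g ⟨x, hx⟩, ⟨_, rfl⟩, Subtype.ext ?_⟩
      change φ (c • x) = z
      rw [← (show ψ x = z from he), hψ]
      exact LinearMap.map_smul_of_tower φ.toLinearMap c x)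
  rw [e2.length_eq] at hg
  have htop : ∀ z : A, z ≠ 0 → Ring.ord A z ≠ ⊤ := fun z hz => Ring.ord_ne_top (mem_nonZeroDivisors_of_ne_zero hz)
  change (((Groth.L11.IntTh.len L M).toNat : ℤ)) - _ = _
  rw [← hab, Groth.L22.OrdDet.ordFrac_div ha0 hb0]
  rw [Ring.ord_mul A (mem_nonZeroDivisors_of_ne_zero ha0)] at hf
  have h3 := congrArg ENat.toNat hf
  change (Groth.L11.IntTh.len L M + Ring.ord A b).toNat = _ at h3
  rw [ENat.toNat_add (Groth.L11.IntTh.len_ne_top K L M) (htop b hb0), ENat.toNat_add (htop _ hcn) (htop a ha0)] at h3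
  simp only [Groth.L11.IntTh.len] at h3 ⊢
  rw [hg]
  omega

end Groth.Agent.S14502
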