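import Groth.Statements.S14504
import Mathlib.LinearAlgebra.Matrix.Rank
import Mathlib.LinearAlgebra.Matrix.NonsingularInverse
import Mathlib.LinearAlgebra.LinearIndependent.Lemmas
import Mathlib.Data.Finset.Sort
import Mathlib.LinearAlgebra.Dimension.Finite
import Mathlib.LinearAlgebra.Matrix.ToLinearEquiv

set_option autoImplicit false
universe u
open IntTh

namespace Groth.Agent.S14504

/-- Let K be a field, d ≤ n, λ = (λ₁ ≥ ⋯ ≥ λ_d) a non-increasing sequence of natural numbers, d_i = n −
d + i − λ_i, and V_j ⊆ K^n the span of the first j standard basis vectors. For a d × n matrix A over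
K with linearly independent rows spanning the subspace W: one has dim(W ∩ V_{d_i}) ≥ i for every i =
1, …, d if and only if every d × d minor of A taken on strictly increasing columns j₁ < ⋯ < j_d
(1-indexed) with j_i > d_i for some i vanishes. (Indices are 0-based in the formal statement: row i
: Fin d stands for i + 1 and column l : Fin n for l + 1.) -/
theorem result (K : Type u) [Field K] (n d : ℕ)
    (hdn : d ≤ n) (V : ℕ → Submodule K (Fin n → K))
    (hV : ∀ (j : ℕ) (v : Fin n → K), v ∈ V j ↔ ∀ l : Fin n, j ≤ (l : ℕ) → v l = 0)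
    (lam : Fin d → ℕ) (hlam : Antitone lam) (A : Matrix (Fin d) (Fin n) K)
    (hA : LinearIndependent K (fun i : Fin d => A i)) :
    (∀ i : Fin d, (i : ℕ) + 1 ≤
        Module.finrank K ↥(Submodule.span K (Set.range fun i : Fin d => A i) ⊓
          V (n - d + ((i : ℕ) + 1) - lam i))) ↔
      ∀ J : Fin d → Fin n, StrictMono J →
        (∃ i : Fin d, n - d + ((i : ℕ) + 1) - lam i < (J i : ℕ) + 1) →
          (A.submatrix id J).det = 0 := by
  classical
  let col : Fin n → (Fin d → K) := fun l r => A r l
  let W := Submodule.span K (Set.range fun i : Fin d => A i)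
  have key : ∀ c : ℕ, Module.finrank K ↥(W ⊓ V c) + Module.finrank K ↥(Submodule.span K (col '' {l | c ≤ (l : ℕ)})) = d := by
    intro c
    let M : Matrix {l : Fin n // c ≤ (l : ℕ)} (Fin d) K := (A.submatrix id Subtype.val).transpose
    let L := A.transpose.mulVecLin
    have hLi : Function.Injective L := by
      rw [Matrix.coe_mulVecLin, Matrix.mulVec_injective_iff]
      exact hA
    have hmap : Submodule.map L (LinearMap.ker M.mulVecLin) = W ⊓ V c := by
      ext v
      rw [Submodule.mem_map, Submodule.mem_inf, hV]
      have hW : ∀ v, v ∈ W ↔ ∃ x, L x = v := fun v => by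
        rw [← LinearMap.mem_range, Matrix.range_mulVecLin]
        exact Iff.rfl
      constructor
      · rintro ⟨x, hx, rfl⟩
        refine ⟨(hW _).2 ⟨x, rfl⟩, fun l hl => ?_⟩
        exact congrFun (LinearMap.mem_ker.1 hx) ⟨l, hl⟩
      · rintro ⟨hv, hz⟩
        obtain ⟨x, rfl⟩ := (hW v).1 hv
        exact ⟨x, LinearMap.mem_ker.2 (funext fun l => hz l.1 l.2), rfl⟩
    have h1 := M.mulVecLin.finrank_range_add_finrank_ker
    rw [← hmap, ← (Submodule.equivMapOfInjective L hLi _).finrank_eq]
    rw [Module.finrank_fintype_fun_eq_card, Fintype.card_fin] at h1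
    have h2 : Module.finrank K ↥(LinearMap.range M.mulVecLin) =
        Module.finrank K ↥(Submodule.span K (col '' {l | c ≤ (l : ℕ)})) := by
      change M.rank = _
      rw [show M.rank = (A.submatrix id (Subtype.val : {l : Fin n // c ≤ (l : ℕ)} → Fin n)).rank from Matrix.rank_transpose _,
        Matrix.rank_eq_finrank_span_cols, Set.image_eq_range]
      rfl
    omega
  constructor
  · rintro hcond J hJ ⟨i, hi⟩
    by_contra hdet
    set c := n - d + ((i : ℕ) + 1) - lam i
    have hind : LinearIndependent K (A.submatrix id J).col :=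
      Matrix.linearIndependent_cols_iff_isUnit.2 ((Matrix.isUnit_iff_isUnit_det _).2 (isUnit_iff_ne_zero.2 hdet))
    have hsub : LinearIndependent K (fun t : {t : Fin d // i ≤ t} => col (J t)) := hind.comp Subtype.val Subtype.val_injective
    have hle : Submodule.span K (Set.range fun t : {t : Fin d // i ≤ t} => col (J t)) ≤
        Submodule.span K (col '' {l | c ≤ (l : ℕ)}) := by
      refine Submodule.span_mono ?_
      rintro _ ⟨t, rfl⟩
      refine ⟨J t, ?_, rfl⟩
      have : (J i : ℕ) ≤ (J t : ℕ) := hJ.monotone t.2
      change c ≤ (J t : ℕ)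
      omega
    have h1 := Submodule.finrank_mono hle
    rw [finrank_span_eq_card hsub, Fintype.card_subtype, Finset.filter_le_eq_Ici, Fin.card_Ici] at h1
    have h2 : (i : ℕ) + 1 ≤ Module.finrank K ↥(W ⊓ V c) := hcond i
    have h3 := key c
    omega
  · intro hmin i
    by_contra hlt
    set c := n - d + ((i : ℕ) + 1) - lam i with hc
    have hlt' : Module.finrank K ↥(W ⊓ V c) ≤ i := Nat.lt_succ_iff.1 (not_le.1 hlt)
    obtain ⟨S, hSsub, -, hSspan, hSli⟩ := exists_linearIndepOn_extension (v := col) (t := {l | c ≤ (l : ℕ)})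
      (linearIndepOn_empty K col) (Set.empty_subset _)
    obtain ⟨B, -, hSB, hBspan, hBli⟩ := exists_linearIndepOn_extension (v := col) (t := Set.univ) hSli (Set.subset_univ _)
    have hcard : ∀ T : Set (Fin n), LinearIndepOn K col T → ∀ U : Set (Fin n), T ⊆ U → col '' U ⊆ Submodule.span K (col '' T) →
        T.toFinset.card = Module.finrank K ↥(Submodule.span K (col '' U)) := by
      intro T hT U hTU hU
      rw [le_antisymm (Submodule.span_le.2 hU) (Submodule.span_mono (Set.image_mono hTU)), Set.image_eq_range,
        finrank_span_eq_card hT, Set.toFinset_card]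
    have hS := hcard S hSli _ hSsub hSspan
    have hB : B.toFinset.card = d := by
      rw [hcard B hBli _ (Set.subset_univ _) hBspan, Set.image_univ]
      have h := hA.rank_matrix
      rw [Matrix.rank_eq_finrank_span_cols, Fintype.card_fin] at h
      exact h
    let J := B.toFinset.orderEmbOfFin hB
    have hJB : ∀ t, J t ∈ B := fun t => Set.mem_toFinset.1 (Finset.orderEmbOfFin_mem _ hB t)
    have hJi : c ≤ (J i : ℕ) := by
      by_contra hJi
      have hsub : Finset.image J (Finset.Iic i) ⊆ B.toFinset \ S.toFinset := by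
        intro x hx
        obtain ⟨t, ht, rfl⟩ := Finset.mem_image.1 hx
        rw [Finset.mem_sdiff, Set.mem_toFinset, Set.mem_toFinset]
        refine ⟨hJB t, fun hS' => hJi ?_⟩
        have h1 : c ≤ (J t : ℕ) := hSsub hS'
        have h2 : (J t : ℕ) ≤ (J i : ℕ) := J.monotone (Finset.mem_Iic.1 ht)
        omega
      have h1 := Finset.card_le_card hsub
      rw [Finset.card_image_of_injective _ J.injective, Fin.card_Iic, Finset.card_sdiff_of_subset (Set.toFinset_mono hSB)] at h1
      have h3 := key c
      omega
    have hind : LinearIndependent K (A.submatrix id (fun t => J t)).col :=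
      LinearIndependent.comp (v := fun x : B => col x) hBli (fun t => ⟨J t, hJB t⟩)
        fun a b h => J.injective (by simpa [Subtype.ext_iff] using h)
    have hdet := hmin (fun t => J t) J.strictMono ⟨i, by omega⟩
    have hu := (Matrix.isUnit_iff_isUnit_det _).1 (Matrix.linearIndependent_cols_iff_isUnit.1 hind)
    exact hu.ne_zero hdet

end Groth.Agent.S14504
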