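import Groth.Statements.S14505
import Groth.Agent.L15.DetQuot
import Mathlib.RingTheory.PowerSeries.Inverse
import Mathlib.LinearAlgebra.Matrix.Block

set_option autoImplicit false
universe u
open IntTh

namespace Groth.Agent.S14505

variable {_unused : Unit}
open Polynomial
open IntTh in

/-- Let R be a commutative ring, α₁, …, α_d, β₁, …, β_e ∈ R, b(t) = ∏ (1 + β_j t), and for k = 1, …, d
let P_k(t) = b(t)/∏_{i ≤ k} (1 + α_i t) ∈ R⟦t⟧, each factor 1 + α_i t being inverted by its
geometric series; write (P_k)_m for the coefficient of t^m, with (P_k)_m = 0 for m < 0. Then ∏_{i,j}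
(β_j − α_i) = det((P_i)_{e+j−i})_{1 ≤ i,j ≤ d}, the d × d determinant whose i-th row is built from
the coefficients of the i-th partial quotient. (Rows and columns are 0-based in the formal
statement, which does not change j − i; the row of index i inverts the factors of index at most i.
The companion form with every row built from the full quotient b/a is stated separately.) -/
theorem result (R : Type u) [CommRing R] (d e : ℕ)
    (α : Fin d → R) (β : Fin e → R) :
    ∏ i : Fin d, ∏ j : Fin e, (β j - α i) =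
      (Matrix.of fun i j : Fin d =>
        if (i : ℕ) ≤ e + (j : ℕ) then
          PowerSeries.coeff (e + (j : ℕ) - (i : ℕ))
            ((∏ j : Fin e, (1 + PowerSeries.C (β j) * PowerSeries.X)) *
              ∏ l : Fin d, if l ≤ i then PowerSeries.mk (fun m => (-α l) ^ m) else 1)
        else 0).det := by
  classical
  nontriviality R
  have hinv : ∀ l, ((1 + Polynomial.C (α l) * Polynomial.X : R[X]) : PowerSeries R) * PowerSeries.mk (fun m => (-α l) ^ m) = 1 := by
    intro l
    ext m
    rw [Polynomial.coe_add, Polynomial.coe_one, Polynomial.coe_mul, Polynomial.coe_C, Polynomial.coe_X, add_mul, one_mul,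
      mul_assoc, map_add, PowerSeries.coeff_C_mul, PowerSeries.coeff_mk, PowerSeries.coeff_one]
    cases m with
    | zero => simp
    | succ m => rw [PowerSeries.coeff_succ_X_mul, PowerSeries.coeff_mk, if_neg (Nat.succ_ne_zero m), pow_succ]; ring
  set B : PowerSeries R := ∏ j : Fin e, (1 + PowerSeries.C (β j) * PowerSeries.X) with hB
  set c : PowerSeries R := B * ∏ l : Fin d, PowerSeries.mk (fun m => (-α l) ^ m) with hc
  have hB' : ((∏ j, (1 + Polynomial.C (β j) * Polynomial.X) : R[X]) : PowerSeries R) = B := by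
    rw [← Polynomial.coeToPowerSeries.ringHom_apply, map_prod]
    simp [hB]
  have hprod : ∀ (s : Finset (Fin d)), ((∏ l ∈ s, (1 + Polynomial.C (α l) * Polynomial.X) : R[X]) : PowerSeries R) *
      ∏ l ∈ s, PowerSeries.mk (fun m => (-α l) ^ m) = 1 := by
    intro s
    rw [← Polynomial.coeToPowerSeries.ringHom_apply, map_prod, ← Finset.prod_mul_distrib]
    exact Finset.prod_eq_one fun l _ => hinv l
  have hdet := Groth.L15.DetQuot.det_coeff_quot d e α β c (by rw [hB', hc, mul_left_comm, hprod, mul_one])
  rw [← hdet]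
  set P : Fin d → R[X] := fun i => ∏ l ∈ Finset.Ioi i, (Polynomial.X + Polynomial.C (α l)) with hP
  have hmon : ∀ i, (P i).Monic := fun i => monic_prod_of_monic _ _ fun l _ => monic_X_add_C _
  have hdeg : ∀ i, (P i).natDegree = (i.rev : ℕ) := fun i => by
    rw [hP, natDegree_prod_of_monic _ _ (fun l _ => monic_X_add_C _)]
    simp [Fin.val_rev]
    omega
  set U : Matrix (Fin d) (Fin d) R := Matrix.of fun i l => (P i).coeff (l.rev : ℕ) with hU
  have hUtri : U.BlockTriangular id := fun i l hl => by
    have : (l : ℕ) < (i : ℕ) := hl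
    exact coeff_eq_zero_of_natDegree_lt (p := P i) (n := (l.rev : ℕ)) (by rw [hdeg, Fin.val_rev, Fin.val_rev]; omega)
  have hU1 : U.det = 1 := by
    rw [Matrix.det_of_upperTriangular hUtri]
    refine Finset.prod_eq_one fun i _ => ?_
    show (P i).coeff _ = 1
    rw [← hdeg]
    exact hmon i
  rw [← one_mul (Matrix.det (Matrix.of fun i j : Fin d => if (i : ℕ) ≤ e + j then PowerSeries.coeff (e + j - i) c else 0)),
    ← hU1, ← Matrix.det_mul]
  congr 1
  ext i j
  -- row i
  set ci : PowerSeries R := B * ∏ l : Fin d, if l ≤ i then PowerSeries.mk (fun m => (-α l) ^ m) else 1 with hci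
  have hrow : ((∏ l ∈ Finset.Ioi i, (1 + Polynomial.C (α l) * Polynomial.X) : R[X]) : PowerSeries R) * c = ci := by
    rw [hc, hci, Finset.prod_ite, Finset.prod_const_one, mul_one, ← Finset.prod_filter_mul_prod_filter_not Finset.univ (fun l => l ≤ i)]
    rw [show (Finset.univ.filter fun l => ¬ l ≤ i) = Finset.Ioi i by ext l; simp]
    calc _ = (B * ∏ l ∈ Finset.univ.filter (fun l => l ≤ i), PowerSeries.mk (fun m => (-α l) ^ m)) *
        (((∏ l ∈ Finset.Ioi i, (1 + Polynomial.C (α l) * Polynomial.X) : R[X]) : PowerSeries R) *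
          ∏ l ∈ Finset.Ioi i, PowerSeries.mk (fun m => (-α l) ^ m)) := by ring
      _ = _ := by rw [hprod, mul_one]
  set z : ℤ := (e : ℤ) + j - d + 1 with hz
  have hfn := Groth.L15.DetQuot.fn_prod α c z (Finset.Ioi i) 0
  rw [pow_zero, mul_one, hrow] at hfn
  have hcard : ((Finset.Ioi i).card : ℤ) + (0 : ℕ) + z = (e : ℤ) + j - i := by
    have := i.2
    simp only [Fin.card_Ioi, hz]
    omega
  have hzc : ∀ (q : PowerSeries R) (r : ℕ), Groth.L15.DetQuot.zc q ((e : ℤ) + j - r) =
      if r ≤ e + (j : ℕ) then PowerSeries.coeff (e + j - r) q else 0 := by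
    intro q r
    unfold Groth.L15.DetQuot.zc
    split_ifs <;> first | omega | rfl | (congr 1; omega) | (congr 2; omega)
  rw [hcard, hzc] at hfn
  refine Eq.trans ?_ (show (if (i : ℕ) ≤ e + j then PowerSeries.coeff (e + j - i) ci else 0) = _ from rfl)
  rw [← hfn, Matrix.mul_apply]
  have hPd : (P i).natDegree < d := by rw [hdeg]; exact i.rev.2
  conv_rhs => rw [show (∏ l ∈ Finset.Ioi i, (Polynomial.X + Polynomial.C (α l))) = P i from rfl,
    (P i).as_sum_range' d hPd, map_sum]
  rw [← Fin.sum_univ_eq_sum_range, ← Equiv.sum_comp Fin.revPerm]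
  refine Finset.sum_congr rfl fun m _ => ?_
  show (P i).coeff ((m.rev).rev : ℕ) * (if (m.rev : ℕ) ≤ e + j then PowerSeries.coeff (e + j - m.rev) c else 0) = _
  rw [Fin.rev_rev, ← hzc c m.rev, ← smul_X_eq_monomial, map_smul, smul_eq_mul, Groth.L15.DetQuot.fn_X_pow]
  congr 2
  have := m.2
  rw [hz, Fin.val_rev]
  omega

end Groth.Agent.S14505
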