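import Groth.Statements.S1451
import Groth.Agent.L05.Henselization.UnramifiedUnibranchAt
-- import your own Groth.Agent.* helpers here

set_option autoImplicit false
universe u
open FlatMor

open AlgebraicGeometry CategoryTheory Groth.L05.Henselization.Branches

namespace Groth.Agent.S1451

open AlgebraicGeometry CategoryTheory Limits in
/-- Let Y be integral and f : X → Y locally of finite type; let x be a point such that the local ring of
Y at f x is geometrically unibranch, f is unramified on an open neighbourhood of x, and some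
generization of x maps to the generic point of Y. Then f is étale on an open neighbourhood of x. -/
theorem result {X Y : Scheme.{u}} (f : X ⟶ Y) [IsIntegral Y] [LocallyOfFiniteType f] (x : X)
    (hY : CAlg2.IsGeomUnibranch (Y.presheaf.stalk (f x))) (hsp : ∃ x' : X, x' ⤳ x ∧ f x' = genericPoint ↑Y)
    (hunr : ∃ U : X.Opens, x ∈ U ∧ FormallyUnramified (U.ι ≫ f)) :
    ∃ U : X.Opens, x ∈ U ∧ Etale (U.ι ≫ f) := by
  obtain ⟨U₀, hxU₀, hu₀⟩ := hunr
  obtain ⟨x', hx', hη⟩ := hsp
  obtain ⟨V, hV, hxV, -⟩ := exists_isAffineOpen_mem_and_subset (X := Y) (U := ⊤) (x := f x) trivial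
  obtain ⟨W, hW, hxW, hWV'⟩ :=
    exists_isAffineOpen_mem_and_subset (X := X) (U := U₀ ⊓ f ⁻¹ᵁ V) (x := x) ⟨hxU₀, hxV⟩
  have hWV : W ≤ f ⁻¹ᵁ V := fun z hz => (hWV' hz).2
  have hWU : W ≤ U₀ := fun z hz => (hWV' hz).1
  haveI := hu₀
  haveI hunrW : FormallyUnramified (W.ι ≫ f) := by
    rw [← X.homOfLE_ι hWU, Category.assoc]
    exact IsZariskiLocalAtSource.comp (P := @FormallyUnramified) hu₀ _
  haveI : FormallyUnramified (f.resLE V W hWV) :=
    haveI : FormallyUnramified (f.resLE V W hWV ≫ V.ι) := by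
      rw [Scheme.Hom.resLE_comp_ι]; exact hunrW
    FormallyUnramified.of_comp _ V.ι
  let φ := f.appLE V W hWV
  algebraize [φ.hom]
  haveI : Algebra.FiniteType Γ(Y, V) Γ(X, W) :=
    HasRingHomProperty.appLE @LocallyOfFiniteType f ‹_› ⟨V, hV⟩ ⟨W, hW⟩ hWV
  haveI : IsAffine (W : Scheme.{u}) := hW
  haveI : IsAffine (V : Scheme.{u}) := hV
  haveI : Algebra.FormallyUnramified Γ(Y, V) Γ(X, W) := by
    have h := (HasRingHomProperty.iff_of_isAffine (P := @FormallyUnramified)).mp
      ‹FormallyUnramified (f.resLE V W hWV)›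
    exact RingHom.formallyUnramified_algebraMap.mp
      ((RingHom.FormallyUnramified.respectsIso.arrow_mk_iso_iff (arrowResLEAppIso f V W hWV)).mp h)
  haveI : Nonempty V := ⟨⟨_, hxV⟩⟩
  haveI : IsDomain Γ(Y, V) := IsIntegral.component_integral V
  let Q := hW.primeIdealOf ⟨x, hxW⟩
  have hcomap : Q.asIdeal.under Γ(Y, V) = (hV.primeIdealOf ⟨f x, hxV⟩).asIdeal :=
    congrArg PrimeSpectrum.asIdeal (IsAffineOpen.comap_primeIdealOf_appLE V hV W hW hWV hxW)
  have hR : GUAt Γ(Y, V) (Q.asIdeal.under Γ(Y, V)) := by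
    simp only [GUAt, hcomap]
    exact ⟨Y.presheaf.stalk (f x), inferInstance,
      TopCat.Presheaf.algebra_section_stalk Y.presheaf ⟨f x, hxV⟩, inferInstance,
      hV.isLocalization_stalk ⟨f x, hxV⟩, inferInstance, hY⟩
  obtain ⟨g, hg, hcase⟩ := exists_nbhd_at Q.asIdeal hR
  let U := X.basicOpen g
  have hUW : U ≤ W := X.basicOpen_le g
  have hUV : U ≤ f ⁻¹ᵁ V := hUW.trans hWV
  have hmemU : ∀ u (hu : u ∈ W), u ∈ U ↔ g ∉ (hW.primeIdealOf ⟨u, hu⟩).asIdeal := by
    intro u hu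
    show _ ↔ hW.primeIdealOf ⟨u, hu⟩ ∈ PrimeSpectrum.basicOpen g
    rw [← hW.fromSpec_preimage_basicOpen g]
    show _ ↔ hW.fromSpec (hW.primeIdealOf ⟨u, hu⟩) ∈ U
    rw [hW.fromSpec_primeIdealOf]
  have hxU : x ∈ U := (hmemU x hxW).mpr hg
  refine ⟨U, hxU, ?_⟩
  rcases hcase with het | hno
  · haveI := hW.isLocalization_basicOpen g
    letI : Algebra Γ(Y, V) Γ(X, U) :=
      ((algebraMap Γ(X, W) Γ(X, U)).comp (algebraMap Γ(Y, V) Γ(X, W))).toAlgebra
    haveI : IsScalarTower Γ(Y, V) Γ(X, W) Γ(X, U) := IsScalarTower.of_algebraMap_eq' rfl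
    haveI : Algebra.Etale Γ(Y, V) Γ(X, U) := Algebra.Etale.of_equiv
      ((IsLocalization.algEquiv (Submonoid.powers g) (Localization.Away g) Γ(X, U)).restrictScalars Γ(Y, V))
    haveI : IsAffine (U : Scheme.{u}) := hW.basicOpen g
    have hres : Etale (f.resLE V U hUV) := by
      refine (HasRingHomProperty.iff_of_isAffine (P := @Etale)).mpr ?_
      refine (RingHom.Etale.respectsIso.arrow_mk_iso_iff (arrowResLEAppIso f V U hUV)).mpr ?_
      have : f.appLE V U hUV = φ ≫ X.presheaf.map (homOfLE hUW).op :=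
        (Scheme.Hom.appLE_map f hWV (homOfLE hUW).op).symm
      rw [this]
      exact RingHom.etale_algebraMap.mpr ‹Algebra.Etale Γ(Y, V) Γ(X, U)›
    rw [← Scheme.Hom.resLE_comp_ι f hUV]
    infer_instance
  · exfalso
    have hx'U : x' ∈ U := hx'.mem_open U.isOpen hxU
    have hu : x' ∈ W := hUW hx'U
    refine hno _ inferInstance ((hmemU x' hu).mp hx'U) ?_
    have hc : ((hW.primeIdealOf ⟨x', hu⟩).asIdeal).under Γ(Y, V) =
        (hV.primeIdealOf ⟨f x', hWV hu⟩).asIdeal :=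
      congrArg PrimeSpectrum.asIdeal (IsAffineOpen.comap_primeIdealOf_appLE V hV W hW hWV hu)
    rw [hc, eq_bot_iff]
    intro a ha
    rw [Ideal.mem_bot]
    by_contra ha0
    have hne : Y.basicOpen a ≠ ⊥ := fun h => ha0 ((basicOpen_eq_bot_iff a).mp h)
    obtain ⟨y, hy⟩ := (Y.basicOpen a).ne_bot_iff_nonempty.mp hne
    have hη' : genericPoint ↑Y ∈ Y.basicOpen a :=
      (genericPoint_specializes y).mem_open (Y.basicOpen a).isOpen hy
    have : hV.primeIdealOf ⟨f x', hWV hu⟩ ∈ PrimeSpectrum.basicOpen a := by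
      rw [← hV.fromSpec_preimage_basicOpen a]
      show hV.fromSpec _ ∈ Y.basicOpen a
      rw [hV.fromSpec_primeIdealOf]
      show f x' ∈ Y.basicOpen a
      rw [hη]
      exact hη'
    exact this ha

end Groth.Agent.S1451
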