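import Groth.Statements.S14511
import Mathlib.Algebra.MvPolynomial.Degrees
import Mathlib.Algebra.BigOperators.Ring.Finset

set_option autoImplicit false
universe u
open CAlgX

namespace Groth.Agent.S14511

/-- Let R be a commutative ring and P ∈ R[x_1, …, x_r] a polynomial of total degree at most r. Then the
coefficient of the monomial x_1 ⋯ x_r in P equals Σ_J (−1)^{|J|} P(δ_J), the sum over all subsets J
⊆ {1, …, r} (the empty one included), where δ_J is the point with coordinate −1 at the indices in J
and 0 at the others. -/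
theorem result (R : Type u) [CommRing R] (r : ℕ)
    (P : MvPolynomial (Fin r) R) (hP : P.totalDegree ≤ r) :
    MvPolynomial.coeff (∑ i : Fin r, Finsupp.single i 1) P =
      ∑ J : Finset (Fin r), (-1 : R) ^ J.card * MvPolynomial.eval (fun j => if j ∈ J then (-1 : R) else 0) P := by
  classical
  have hall : (∑ i : Fin r, Finsupp.single i 1 : Fin r →₀ ℕ) =
      Finsupp.equivFunOnFinite.symm fun _ => 1 := by
    ext a
    simp [Finsupp.finsetSum_apply, Finsupp.single_apply]
  have key : ∀ d : Fin r →₀ ℕ, (∑ a, d a) ≤ r →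
      (∑ J : Finset (Fin r), (-1 : R) ^ J.card * ∏ j, (if j ∈ J then (-1 : R) else 0) ^ d j) =
        if d = ∑ i : Fin r, Finsupp.single i 1 then 1 else 0 := by
    intro d hd
    have h1 : ∀ J : Finset (Fin r), (-1 : R) ^ J.card * ∏ j, (if j ∈ J then (-1 : R) else 0) ^ d j =
        (∏ j ∈ J, -(-1 : R) ^ d j) * ∏ j ∈ Jᶜ, (0 : R) ^ d j := by
      intro J
      rw [← Finset.prod_mul_prod_compl J fun j => (if j ∈ J then (-1 : R) else 0) ^ d j, ← mul_assoc,
        ← Finset.prod_const, ← Finset.prod_mul_distrib]
      congr 1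
      · exact Finset.prod_congr rfl fun j hj => by simp [hj]
      · exact Finset.prod_congr rfl fun j hj => by simp [Finset.mem_compl.1 hj]
    rw [Finset.sum_congr rfl fun J _ => h1 J, ← Fintype.prod_add]
    rw [hall]
    split
    · rename_i hd1
      exact Finset.prod_eq_one fun j _ => by simp [hd1]
    · rename_i hd1
      by_cases hz : ∃ j, d j = 0
      · obtain ⟨j, hj⟩ := hz
        exact Finset.prod_eq_zero (Finset.mem_univ j) (by simp [hj])
      · exfalso
        simp only [not_exists] at hz
        refine hd1 (Finsupp.ext fun j => ?_)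
        have hle : ∀ a ∈ Finset.univ, 1 ≤ d a := fun a _ => Nat.one_le_iff_ne_zero.2 (hz a)
        have h2 : ∑ a : Fin r, 1 = ∑ a, d a :=
          le_antisymm (Finset.sum_le_sum hle) (by simpa using hd)
        simpa using ((Finset.sum_eq_sum_iff_of_le hle).1 h2 j (Finset.mem_univ j)).symm
  simp only [MvPolynomial.eval_eq', Finset.mul_sum]
  rw [Finset.sum_comm]
  have hterm : ∀ d ∈ P.support, (∑ J : Finset (Fin r), (-1 : R) ^ J.card *
      (P.coeff d * ∏ j, (if j ∈ J then (-1 : R) else 0) ^ d j)) =
        if d = ∑ i : Fin r, Finsupp.single i 1 then P.coeff d else 0 := by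
    intro d hd
    simp_rw [← mul_assoc, mul_comm _ (P.coeff d), mul_assoc]
    rw [← Finset.mul_sum, key d]
    · simp
    · refine le_trans ?_ hP
      refine le_trans (le_of_eq ?_) (MvPolynomial.le_totalDegree hd)
      exact (Finsupp.sum_fintype d (fun _ e => e) fun _ => rfl).symm
  rw [Finset.sum_congr rfl hterm, Finset.sum_ite_eq']
  split
  · rfl
  · rename_i h
    exact MvPolynomial.notMem_support_iff.1 h

end Groth.Agent.S14511
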