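import Groth.Statements.S14513
import Groth.Agent.S11332
import Groth.Agent.L21.P1.Pencil
import Groth.Agent.L21.CurveFlat
import Groth.Agent.L07.SyntKoszul
import Mathlib.AlgebraicGeometry.Morphisms.FlatRank

set_option autoImplicit false
universe u
open CategoryTheory CategoryTheory.Limits AlgebraicGeometry
open Curves

open TopologicalSpace

namespace Groth.Agent.S14513

/-- Let k be an algebraically closed field and f : X → Y a finite, separable morphism of smooth
projective curves over k (X, Y integral, proper and smooth over k, of dimension one; f sends the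
generic point to the generic point and the extension K(X)/K(Y) is separable). If X and Y have the
same genus g = dim_k H^1(O) and g ≥ 2, then f is an isomorphism. (The published statement also
asserts g(X) ≥ g(Y) and that equality holds exactly when f is an isomorphism, both curves are
projective lines, or both have genus one; this row states the equality case for genus at least two.) -/
theorem result (k : Type u) [Field k] [IsAlgClosed k]
    (X : Scheme.{u}) [X.Over (Spec (CommRingCat.of k))] [IsIntegral X] [IsProper (X ↘ (Spec (CommRingCat.of k)))] [Smooth (X ↘ (Spec (CommRingCat.of k)))] (hdimX : topologicalKrullDim X = 1)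
    (Y : Scheme.{u}) [Y.Over (Spec (CommRingCat.of k))] [IsIntegral Y] [IsProper (Y ↘ (Spec (CommRingCat.of k)))] [Smooth (Y ↘ (Spec (CommRingCat.of k)))] (hdimY : topologicalKrullDim Y = 1)
    (f : X ⟶ Y) [IsFinite f] (hf : f ≫ (Y ↘ (Spec (CommRingCat.of k))) = (X ↘ (Spec (CommRingCat.of k))))
    (e : f (genericPoint X) = genericPoint Y)
    (hg : Curv2.genus k X = Curv2.genus k Y) (h2 : 2 ≤ Curv2.genus k Y) :
    letI := ((Y.presheaf.stalkSpecializes (specializes_of_eq e) ≫ f.stalkMap (genericPoint X)).hom).toAlgebra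
    Algebra.IsSeparable Y.functionField X.functionField → IsIso f := by
  intro hsep
  haveI := Groth.L21.RR.isNoetherian_of_proper (X := X) k
  haveI := Groth.L21.RR.isNoetherian_of_proper (X := Y) k
  have hnX : ∀ x : X, IsDomain (X.presheaf.stalk x) ∧ IsIntegrallyClosed (X.presheaf.stalk x) := fun x =>
    ⟨Groth.L21.Smooth.isDomain_stalk (X ↘ Spec (CommRingCat.of k)) x,
      Groth.L21.Smooth.isIntegrallyClosed_stalk (X ↘ Spec (CommRingCat.of k)) x⟩
  have hnY : ∀ x : Y, IsDomain (Y.presheaf.stalk x) ∧ IsIntegrallyClosed (Y.presheaf.stalk x) := fun x =>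
    ⟨Groth.L21.Smooth.isDomain_stalk (Y ↘ Spec (CommRingCat.of k)) x,
      Groth.L21.Smooth.isIntegrallyClosed_stalk (Y ↘ Spec (CommRingCat.of k)) x⟩
  haveI : Flat f := Groth.L21.flat_of_nonconstant hdimY.le hnY f (by
    obtain ⟨x, -, hx⟩ := (isClosed_univ (X := X)).exists_closed_singleton Set.univ_nonempty
    refine ⟨_, ⟨genericPoint X, rfl⟩, _, ⟨x, rfl⟩, fun hh => ?_⟩
    refine Groth.L21.RR.ne_genericPoint_of_isClosed hdimY ?_ (hh.symm.trans e)
    simpa using f.isClosedMap _ hx)
  obtain ⟨n, hn⟩ := Groth.L21.Disc.exists_rank_push f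
  have hres : f.residueDegree (genericPoint X) = n :=
    (Groth.L21.Disc.residueDegree_genericPoint f e).trans
      (Groth.L21.Disc.finrank_functionField f hnX e hsep hn)
  have h1 := Groth.Agent.S11332.result k X hdimX
    (fun x => Groth.L07.SyntKoszul.isRegularLocalRing_of_smooth (X ↘ Spec (CommRingCat.of k)) x) Y hdimY
    (fun x => Groth.L07.SyntKoszul.isRegularLocalRing_of_smooth (Y ↘ Spec (CommRingCat.of k)) x) f hf e hsep
  rw [hres, hg] at h1
  have hY : (2 : ℤ) ≤ Curv2.genus k Y := by exact_mod_cast h2
  haveI : LocallyOfFinitePresentation f := inferInstance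
  have hfr : ∀ y : Y, f.finrank y = n := fun y => Groth.L27.Deg.finrank_eq_of_push f hn y
  have hpos : 0 < n := by
    obtain ⟨c⟩ : Nonempty ↥X := ⟨genericPoint X⟩
    rw [← hfr (f c)]
    exact Scheme.Hom.one_le_finrank_map f c
  have hn1 : n = 1 := by
    by_contra hne
    have : (2 : ℤ) ≤ (n : ℤ) := by exact_mod_cast (show 2 ≤ n by omega)
    nlinarith
  rw [Scheme.Hom.isIso_iff_finrank_eq]
  funext y
  rw [hfr y, hn1]
  rfl

end Groth.Agent.S14513
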