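
import Groth.Statements.S14514
import Groth.Agent.L22.FibreDim
import Groth.Agent.L22.DimZero

set_option autoImplicit false
universe u
open CategoryTheory CategoryTheory.Limits AlgebraicGeometry
open Variety

namespace Groth.Agent.S14514

/-- Let k be an algebraically closed field and f : X → Y a morphism of algebraic varieties over k (X, Y
reduced, separated and of finite type over k) such that Y is irreducible and the image f(X) is dense
in Y. Then X contains an irreducible closed subset Z with dim Z = dim Y such that f(Z) is dense in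
Y. -/
theorem result (k : Type u) [Field k] [IsAlgClosed k]
    (X Y : Scheme.{u}) [X.Over (Spec (CommRingCat.of k))] [Y.Over (Spec (CommRingCat.of k))]
    [IsReduced X] [IsSeparated (X ↘ (Spec (CommRingCat.of k)))] [LocallyOfFiniteType (X ↘ (Spec (CommRingCat.of k)))] [QuasiCompact (X ↘ (Spec (CommRingCat.of k)))]
    [IsReduced Y] [IsSeparated (Y ↘ (Spec (CommRingCat.of k)))] [LocallyOfFiniteType (Y ↘ (Spec (CommRingCat.of k)))] [QuasiCompact (Y ↘ (Spec (CommRingCat.of k)))] [IrreducibleSpace Y]
    (f : X ⟶ Y) (hf : f ≫ (Y ↘ (Spec (CommRingCat.of k))) = (X ↘ (Spec (CommRingCat.of k)))) [IsDominant f] :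
    ∃ Z : Set X, IsClosed Z ∧ IsIrreducible Z ∧ topologicalKrullDim ↥Z = topologicalKrullDim Y ∧
      Dense (f '' Z) := by
  haveI : LocallyOfFiniteType f :=
    have : LocallyOfFiniteType (f ≫ (Y ↘ (Spec (CommRingCat.of k)))) := hf ▸ inferInstance
    locallyOfFiniteType_of_comp f (Y ↘ (Spec (CommRingCat.of k)))
  haveI := Groth.L22.DimZero.isNoetherian k (X ↘ (Spec (CommRingCat.of k)))
  obtain ⟨x, hx⟩ := Groth.L22.FibreDim.exists_map_eq_of_maximal f f.denseRange
    (η := genericPoint Y) (fun y hy => ((genericPoint_specializes y).antisymm hy).eq.symm)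
  obtain ⟨z, hz, -, hzcl⟩ := Groth.L22.FibreDim.exists_closure_inter_eq f (x := x)
  obtain ⟨a, b, ha, hb, hab⟩ := Groth.L22.FibreDim.exists_dim_closure_add k f hf z
  rw [hzcl] at hb
  have hb0 : b = 0 := by
    have h1 : topologicalKrullDim ({z} : Set X) = 0 :=
      le_antisymm (topologicalKrullDim_zero_of_discreteTopology _) Groth.L06.Dim.nonneg
    exact_mod_cast hb.symm.trans h1
  refine ⟨closure {z}, isClosed_closure, isIrreducible_singleton.closure, ?_, ?_⟩
  · rw [hab, hb0, Nat.add_zero, ← ha, hz, hx, (genericPoint_spec Y).def]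
    exact (Homeomorph.Set.univ Y).isHomeomorph.topologicalKrullDim_eq
  · refine Dense.mono (s₁ := {genericPoint Y}) ?_ ?_
    · rintro _ rfl
      exact ⟨z, subset_closure rfl, hz.trans hx⟩
    · exact dense_iff_closure_eq.2 (genericPoint_spec Y).def

end Groth.Agent.S14514
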