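import Groth.Statements.S14518
import Groth.Agent.L22.SecMul
-- import your own Groth.Agent.* helpers here

set_option autoImplicit false
universe u
open CategoryTheory CategoryTheory.Limits AlgebraicGeometry
open Variety

namespace Groth.Agent.S14518

/-- Let k be an algebraically closed field, X an irreducible variety over k, taken here complete (X
integral and proper over k, so that spaces of global sections are finite-dimensional), and E_1, E_2
vector bundles (finite locally free O_X-modules) on X with H^0(X, E_1) ≠ 0 and H^0(X, E_2) ≠ 0. Then
dim_k H^0(X, E_1 ⊗ E_2) ≥ dim_k H^0(X, E_1) + dim_k H^0(X, E_2) − 1. (The published statement allows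
any irreducible variety; for non-complete X the spaces of sections may be infinite-dimensional and
the inequality carries no content, so X is taken complete here.) -/
theorem result (k : Type u) [Field k] [IsAlgClosed k]
    (X : Scheme.{u}) [X.Over (Spec (CommRingCat.of k))] [IsIntegral X] [IsProper (X ↘ (Spec (CommRingCat.of k)))]
    (E₁ E₂ : X.Modules) (h₁ : FlatMod.IsFinLocFree E₁) (h₂ : FlatMod.IsFinLocFree E₂)
    [Nontrivial (Coh.HH X E₁ 0)] [Nontrivial (Coh.HH X E₂ 0)] :
    Module.finrank k (Coh.HH X E₁ 0) + Module.finrank k (Coh.HH X E₂ 0) ≤
      Module.finrank k (Coh.HH X (CohB1.tensorMod E₁ E₂) 0) + 1 := by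
  exact Groth.L22.SecMul.finrank_add_le_tensor k X E₁ E₂ h₁ h₂

end Groth.Agent.S14518
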