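import Groth.Statements.S14519
import Groth.Agent.L21.Curve.BirationalOpen
import Groth.Agent.L21.Smooth.Scheme

set_option autoImplicit false
universe u
open CategoryTheory CategoryTheory.Limits AlgebraicGeometry
open Curves

namespace Groth.Agent.S14519

/-- Let k be an algebraically closed field and f : X → Y a birational morphism over k between smooth
curves (X, Y integral, separated, of finite type and smooth over k, of dimension one; f sends the
generic point of X to that of Y and the induced map of function fields K(Y) → K(X) is bijective).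
Then f is an open immersion. -/
theorem result (k : Type u) [Field k] [IsAlgClosed k]
    (X Y : Scheme.{u}) [X.Over (Spec (CommRingCat.of k))] [Y.Over (Spec (CommRingCat.of k))]
    [IsIntegral X] [IsSeparated (X ↘ (Spec (CommRingCat.of k)))] [LocallyOfFiniteType (X ↘ (Spec (CommRingCat.of k)))] [QuasiCompact (X ↘ (Spec (CommRingCat.of k)))] [Smooth (X ↘ (Spec (CommRingCat.of k)))] (hdimX : topologicalKrullDim X = 1)
    [IsIntegral Y] [IsSeparated (Y ↘ (Spec (CommRingCat.of k)))] [LocallyOfFiniteType (Y ↘ (Spec (CommRingCat.of k)))] [QuasiCompact (Y ↘ (Spec (CommRingCat.of k)))] [Smooth (Y ↘ (Spec (CommRingCat.of k)))] (hdimY : topologicalKrullDim Y = 1)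
    (f : X ⟶ Y) (hf : f ≫ (Y ↘ (Spec (CommRingCat.of k))) = (X ↘ (Spec (CommRingCat.of k))))
    (e : f (genericPoint X) = genericPoint Y)
    (hbir : Function.Bijective (Y.presheaf.stalkSpecializes (specializes_of_eq e) ≫ f.stalkMap (genericPoint X)).hom) :
    IsOpenImmersion f := by
  classical
  haveI : IsLocallyNoetherian X := LocallyOfFiniteType.isLocallyNoetherian (X ↘ (Spec (CommRingCat.of k)))
  haveI : IsLocallyNoetherian Y := LocallyOfFiniteType.isLocallyNoetherian (Y ↘ (Spec (CommRingCat.of k)))
  haveI : CompactSpace X := QuasiCompact.compactSpace_of_compactSpace (X ↘ (Spec (CommRingCat.of k)))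
  haveI : CompactSpace Y := QuasiCompact.compactSpace_of_compactSpace (Y ↘ (Spec (CommRingCat.of k)))
  haveI : IsNoetherian X := ⟨⟩
  haveI : IsNoetherian Y := ⟨⟩
  haveI : X.IsSeparated := ⟨by
    rw [← Limits.terminal.comp_from (X ↘ (Spec (CommRingCat.of k)))]; infer_instance⟩
  haveI : LocallyOfFiniteType (f ≫ (Y ↘ (Spec (CommRingCat.of k)))) := by rw [hf]; infer_instance
  haveI : LocallyOfFiniteType f := locallyOfFiniteType_of_comp f (Y ↘ (Spec (CommRingCat.of k)))
  exact Groth.L21.Curve.isOpenImmersion_of_birational f e hbir hdimY fun y =>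
    ⟨Groth.L21.Smooth.isDomain_stalk (Y ↘ (Spec (CommRingCat.of k))) y,
      Groth.L21.Smooth.isIntegrallyClosed_stalk (Y ↘ (Spec (CommRingCat.of k))) y⟩

end Groth.Agent.S14519
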