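import Groth.Statements.S1452
import Groth.Agent.S1451
import Groth.Agent.L23.SourceLocalEtale
-- import your own Groth.Agent.* helpers here

set_option autoImplicit false
universe u
open FlatMor
set_option backward.isDefEq.respectTransparency.types false
set_option backward.isDefEq.respectTransparency false
set_option linter.style.haveILetI false

namespace Groth.Agent.S1452

open AlgebraicGeometry CategoryTheory Limits in
/-- Let f : X → Y and g : Y → Z with Y integral and the local ring of Y at y = f x geometrically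
unibranch; assume g ∘ f is étale on an open neighbourhood of x and some generization of x maps to
the generic point of Y. Then f is étale on an open neighbourhood of x and g is étale on an open
neighbourhood of y. -/
theorem result {X Y Z : Scheme.{u}} (f : X ⟶ Y) (g : Y ⟶ Z) [IsIntegral Y] (x : X)
    (hY : CAlg2.IsGeomUnibranch (Y.presheaf.stalk (f x))) (het : ∃ U : X.Opens, x ∈ U ∧ Etale (U.ι ≫ f ≫ g))
    (hsp : ∃ x' : X, x' ⤳ x ∧ f x' = genericPoint ↑Y) :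
    (∃ U : X.Opens, x ∈ U ∧ Etale (U.ι ≫ f)) ∧ ∃ V : Y.Opens, f x ∈ V ∧ Etale (V.ι ≫ g) := by
  obtain ⟨U, hxU, hU⟩ := het
  obtain ⟨x', hx', hη⟩ := hsp
  haveI : Etale ((U.ι ≫ f) ≫ g) := by rw [Category.assoc]; exact hU
  haveI : LocallyOfFiniteType (U.ι ≫ f) := locallyOfFiniteType_of_comp (U.ι ≫ f) g
  haveI : FormallyUnramified (U.ι ≫ f) := FormallyUnramified.of_comp (U.ι ≫ f) g
  have hx'U : x' ∈ U := hx'.mem_open U.2 hxU
  obtain ⟨W, hxW, hW⟩ := Groth.Agent.S1451.result (U.ι ≫ f) ⟨x, hxU⟩ hY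
    ⟨⟨x', hx'U⟩, U.ι.isOpenEmbedding.isInducing.specializes_iff.mp hx', hη⟩
    ⟨⊤, trivial, IsZariskiLocalAtSource.comp (P := @FormallyUnramified) ‹FormallyUnramified (U.ι ≫ f)› _⟩
  haveI := hW
  refine ⟨⟨U.ι ''ᵁ W, ⟨⟨x, hxU⟩, hxW, rfl⟩, ?_⟩, ?_⟩
  · have h : (U.ι ''ᵁ W).ι = (U.ι.isoImage W).inv ≫ W.ι ≫ U.ι := (U.ι.isoImage_inv_ι W).symm
    rw [h, Category.assoc, Category.assoc]
    infer_instance
  · let V : Y.Opens := ⟨Set.range (W.ι ≫ U.ι ≫ f), (W.ι ≫ U.ι ≫ f).isOpenMap.isOpen_range⟩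
    refine ⟨V, ⟨⟨⟨x, hxU⟩, hxW⟩, rfl⟩, ?_⟩
    let χ := IsOpenImmersion.lift V.ι (W.ι ≫ U.ι ≫ f) (by rw [Scheme.Opens.range_ι]; rfl)
    have hχ : χ ≫ V.ι = W.ι ≫ U.ι ≫ f := IsOpenImmersion.lift_fac _ _ _
    haveI : Etale (χ ≫ V.ι) := by rw [hχ]; exact hW
    haveI : Etale χ := Etale.of_comp χ V.ι
    haveI : Surjective χ := ⟨fun v => by
      obtain ⟨w, hw⟩ := v.2
      exact ⟨w, V.ι.isOpenEmbedding.injective
        ((Scheme.Hom.comp_apply χ V.ι w).symm.trans ((congr($hχ w)).trans hw))⟩⟩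
    refine Groth.L23.etale_of_etale_comp' χ (V.ι ≫ g) ?_
    rw [reassoc_of% hχ]
    exact inferInstanceAs (Etale (W.ι ≫ U.ι ≫ f ≫ g))

end Groth.Agent.S1452
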