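import Groth.Statements.S14520
import Groth.Agent.L03.BlowPt.GenusDrop
-- import your own Groth.Agent.* helpers here

set_option autoImplicit false
universe u
open CategoryTheory CategoryTheory.Limits AlgebraicGeometry
open Surf

namespace Groth.Agent.S14520

open Groth.L03.BlowPt

/-- Let k be an algebraically closed field, X a smooth projective surface over k (integral, smooth over
k, of dimension two, with a closed immersion over k into some projective space), P a closed point of
X with ideal m_P, f : X' → X the blow-up of X at P (universal property), and C ⊆ X a curve (an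
integral closed subscheme of dimension one, closed immersion j) of multiplicity m = ord_P(C) at P:
the ideal of C is contained in m_P^m and not in m_P^{m+1}. Let C' ⊆ X' be the strict transform of C:
an integral closed subscheme of dimension one (closed immersion j') whose generic point is mapped by
f to the generic point of C. Then p_a(C') = p_a(C) − m(m−1)/2, written 2 p_a(C') + m(m−1) = 2 p_a(C)
with p_a = dim_k H^1(O). -/
theorem result (k : Type u) [Field k] [IsAlgClosed k]
    (X : Scheme.{u}) [X.Over (Spec (CommRingCat.of k))] [IsIntegral X] [Smooth (X ↘ (Spec (CommRingCat.of k)))] (hdim : topologicalKrullDim X = 2)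
    (hprojX : ∃ (N : ℕ) (ι : X ⟶ CohB1.ProjSpace N k), IsClosedImmersion ι ∧ ι ≫ CohB1.ProjSpace.toSpec N k = (X ↘ (Spec (CommRingCat.of k))))
    (P : X) (hP : IsClosed ({P} : Set X))
    (X' : Scheme.{u}) (f : X' ⟶ X) (hf : BlowUp.IsBlowUp f (Scheme.IdealSheafData.vanishingIdeal ⟨{P}, hP⟩))
    (C : Scheme.{u}) [C.Over (Spec (CommRingCat.of k))] [IsIntegral C] (hdimC : topologicalKrullDim C = 1)
    (j : C ⟶ X) [IsClosedImmersion j] (hj : j ≫ (X ↘ (Spec (CommRingCat.of k))) = (C ↘ (Spec (CommRingCat.of k))))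
    (m : ℕ) (hm : j.ker ≤ Scheme.IdealSheafData.vanishingIdeal ⟨{P}, hP⟩ ^ m)
    (hm' : ¬ j.ker ≤ Scheme.IdealSheafData.vanishingIdeal ⟨{P}, hP⟩ ^ (m + 1))
    (C' : Scheme.{u}) [C'.Over (Spec (CommRingCat.of k))] [IsIntegral C'] (hdimC' : topologicalKrullDim C' = 1)
    (j' : C' ⟶ X') [IsClosedImmersion j'] (hj' : j' ≫ f ≫ (X ↘ (Spec (CommRingCat.of k))) = (C' ↘ (Spec (CommRingCat.of k))))
    (hgen : f (j' (genericPoint C')) = j (genericPoint C)) :
    2 * Curv2.genus k C' + m * (m - 1) = 2 * Curv2.genus k C := by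
  haveI : IsProper (X ↘ (Spec (CommRingCat.of k))) := isProper_of_projective k _ hprojX
  have hd2 : topologicalKrullDim X = (2 : ℕ) := hdim.trans Nat.cast_ofNat.symm
  have hreg := Groth.L03.SurfAdj.reg_of_smooth k (X := X)
  letI : X'.Over (Spec (CommRingCat.of k)) := ⟨f ≫ (X ↘ (Spec (CommRingCat.of k)))⟩
  haveI := isProper_of_isBlowUp (k := k) hf
  haveI : IsProper (X' ↘ (Spec (CommRingCat.of k))) := inferInstanceAs (IsProper (f ≫ (X ↘ (Spec (CommRingCat.of k)))))
  obtain ⟨hint, -, -⟩ := Groth.L16.Blow.isIntegral_and_birational hf (ptI_ne_bot (hx := hP) hd2)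
  haveI := hint
  obtain ⟨hCi, hC, hCgen, hCχ⟩ := euler_ker k hdimC j hj
  obtain ⟨hC'i, hC', hC'gen, hC'χ⟩ := euler_ker k hdimC' j' hj'
  haveI := hCi
  haveI := hC'i
  have h := euler_strict k (b := f) rfl hdim hreg hf hC hC' (by rw [hC'gen, hCgen]; exact hgen) m hm hm'
  rw [hCχ, hC'χ] at h
  push_cast at h
  have h' : (2 * Curv2.genus k C' : ℚ) + (m : ℚ) * ((m : ℚ) - 1) = 2 * (Curv2.genus k C : ℚ) := by linarith
  rcases Nat.eq_zero_or_pos m with hm0 | hm0
  · subst hm0
    norm_num at h'
    simpa using (by exact_mod_cast h' : Curv2.genus k C' = Curv2.genus k C)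
  · rw [← Nat.cast_inj (R := ℚ)]
    push_cast [Nat.cast_sub hm0]
    linarith

end Groth.Agent.S14520
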