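import Groth.Statements.S14521
import Groth.Agent.L22.Inter.Fga
import Groth.Agent.L22.Inter.Top
import Groth.Agent.L22.Inter.Point

set_option autoImplicit false
universe u
open CategoryTheory CategoryTheory.Limits AlgebraicGeometry
open Variety

namespace Groth.Agent.S14521

/-- Let k be an algebraically closed field, X a complete variety over k (reduced and proper over k) of
dimension at most d, L_1, …, L_r line bundles with tensor inverses M_1, …, M_r, and F a coherent
O_X-module whose support has dimension at most r. Let Y_1, …, Y_s be the r-dimensional irreducible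
components of Supp F, with generic points ξ_1, …, ξ_s (given as a finite set s of points: ξ ∈ s iff
ξ ∈ Supp F and the closure of ξ has dimension r), each Y_i with its reduced structure. Then
(L_1⋯L_r; F) = Σ_i length_{O_{X,ξ_i}}(F_{ξ_i}) · (L_1⋯L_r · Y_i), where all intersection numbers are
the alternating Euler-characteristic sums in the M_i (the prelude's FGA.intNum). -/
theorem result (k : Type u) [Field k] [IsAlgClosed k]
    (X : Scheme.{u}) [X.Over (Spec (CommRingCat.of k))] [IsReduced X] [IsProper (X ↘ (Spec (CommRingCat.of k)))] (d : ℕ) (hd : topologicalKrullDim X ≤ d)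
    {r : ℕ} (M : Fin r → X.Modules) (hM : ∀ i, PicF.IsInvertible (M i))
    (F : X.Modules) (hF : Coh.IsCoh F) (hsupp : topologicalKrullDim ↥(CohB1.support F) ≤ r)
    (s : Finset X) (hs : ∀ ξ : X, ξ ∈ s ↔ ξ ∈ CohB1.support F ∧ topologicalKrullDim ↥(closure ({ξ} : Set X)) = r) :
    FGA.intNum k X d M F =
      ∑ ξ ∈ s, ((Module.length (X.presheaf.stalk ξ) (F.presheaf.stalk ξ)).toNat : ℤ) *
        FGA.intNum k X d M (ClSub.quotMod (Scheme.IdealSheafData.vanishingIdeal ⟨closure ({ξ} : Set X), isClosed_closure⟩)) := by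
  haveI : IsLocallyNoetherian X := LocallyOfFiniteType.isLocallyNoetherian (X ↘ Spec (CommRingCat.of k))
  haveI : CompactSpace X := QuasiCompact.compactSpace_of_compactSpace (X ↘ Spec (CommRingCat.of k))
  haveI : IsNoetherian X := {}
  have hmem := Groth.L22.Inter.twEuler_sub_sum_mem k hM (Groth.L16.CohSupport.isClosed_support F hF.2) (d := r)
    hsupp s hs (fun y => ClSub.quotMod (Groth.L22.Inter.pt y)) (fun y _ => Groth.L22.Inter.pt_facts y) hF subset_rfl
  have h0 := Groth.L22.Inter.alt_eq_zero le_rfl hmem
  rw [map_sub, map_sum, sub_eq_zero] at h0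
  suffices hq : (FGA.intNum k X d M F : ℚ) = ((∑ ξ ∈ s, ((Module.length (X.presheaf.stalk ξ) (F.presheaf.stalk ξ)).toNat : ℤ) *
      FGA.intNum k X d M (ClSub.quotMod (Groth.L22.Inter.pt ξ)) : ℤ) : ℚ) from Int.cast_inj.1 hq
  push_cast
  simp only [Groth.L22.Inter.intNum_eq k hd, Groth.L22.Inter.altT]
  rw [h0, Finset.mul_sum]
  refine Finset.sum_congr rfl fun y _ => ?_
  rw [map_smul, smul_eq_mul]
  show _ * ((ENat.toNat _ : ℚ) * _) = (ENat.toNat _ : ℚ) * _
  rw [Groth.L16.CohSupport.len]
  ring

end Groth.Agent.S14521
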