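import Groth.Statements.S14522
import Groth.Agent.L22.Inter.Fga
import Groth.Agent.L22.Inter.Top
import Groth.Agent.L22.Inter.Point
import Groth.Agent.L19.IdealInvertible
import Groth.Agent.L00.KFlatBasic
import Groth.Agent.L22.FibreDim
import Groth.Agent.L19.SupportPullback

set_option autoImplicit false
universe u
open CategoryTheory CategoryTheory.Limits AlgebraicGeometry
open Variety

namespace Groth.Agent.S14522

open Groth.L22.Inter Groth.L03.Euler

variable {X : Scheme.{u}}

/-- `F ⊗ I ⟶ F`. -/
noncomputable def mulI (F : X.Modules) (I : X.IdealSheafData) : CohB1.tensorMod F (ClSub.idealMod I) ⟶ F :=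
  ((DCoh.tensorBi (X := X)).obj F).map (ClSub.idealModι I) ≫ (Groth.L00.Tensor.tensorUnitRight F).hom

theorem nonempty_cokernel (F : X.Modules) (I : X.IdealSheafData) :
    Nonempty (cokernel (mulI F I) ≅ CohB1.tensorMod F (ClSub.quotMod I)) := by
  let T := (DCoh.tensorBi (X := X)).obj F
  haveI : Epi (Groth.L21.RR.idealSeq I).g := (Groth.L21.RR.shortExact_idealSeq I).epi_g
  let c : cokernel (ClSub.idealModι I) ≅ ClSub.quotMod I :=
    (cokernelIsCokernel _).coconePointUniqueUpToIso (Groth.L21.RR.shortExact_idealSeq I).exact.gIsCokernel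
  let u : T.obj (Coh.structureModule X) ≅ F := Groth.L00.Tensor.tensorUnitRight F
  have e1 : cokernel (T.map (ClSub.idealModι I) ≫ u.hom) ≅ cokernel (T.map (ClSub.idealModι I)) :=
    cokernelCompIsIso (T.map (ClSub.idealModι I)) u.hom
  have e2 : cokernel (T.map (ClSub.idealModι I)) ≅ T.obj (ClSub.quotMod I) :=
    (PreservesCokernel.iso T (ClSub.idealModι I)).symm ≪≫ T.mapIso c
  exact ⟨e1 ≪≫ e2⟩

theorem support_quot_subset (F : X.Modules) (I : X.IdealSheafData) :
    CohB1.support (CohB1.tensorMod F (ClSub.quotMod I)) ⊆ (I.support : Set X) := fun x hx => by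
  by_contra h
  haveI := Groth.L21.RR.subsingleton_stalk_quotMod I h
  haveI : Subsingleton (TensorProduct (X.presheaf.stalk x) (F.presheaf.stalk x) ((ClSub.quotMod I).presheaf.stalk x)) :=
    ⟨fun a b => by
      have hz : ∀ c : TensorProduct (X.presheaf.stalk x) (F.presheaf.stalk x) ((ClSub.quotMod I).presheaf.stalk x), c = 0 := fun c => by
        induction c using TensorProduct.induction_on with
        | zero => rfl
        | tmul m q => rw [Subsingleton.elim q 0, TensorProduct.tmul_zero]
        | add a b ha hb => rw [ha, hb, add_zero]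
      rw [hz a, hz b]⟩
  exact hx (@Equiv.subsingleton _ _ (Groth.L00.Stk.τ x F (ClSub.quotMod I)).toLinearEquiv.symm.toEquiv this)

theorem mono_mulI [IsNoetherian X] {F : X.Modules} (hF : Coh.IsCoh F) {D : X.IdealSheafData}
    (hD : PicF.IsInvertible (ClSub.idealMod D)) (hass : ∀ x ∈ D.support, ¬ Curv2.IsAssPoint F x) :
    Mono (mulI F D) := by
  have hFI := isCoh_tensor hD hF
  have hK := (Groth.L16.CohKernel.isCoh_kernel_cokernel hFI hF (mulI F D)).1
  refine Preadditive.mono_of_kernel_zero ?_
  by_contra hne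
  have hsupp : (CohB1.support (kernel (mulI F D))).Nonempty := by
    by_contra he
    exact hne (((Groth.L21.Mod.isZero_iff_support_eq_empty _).2 (Set.not_nonempty_iff_eq_empty.1 he)).eq_of_src _ _)
  obtain ⟨x, hx⟩ := hsupp
  haveI : IrreducibleSpace (closure ({x} : Set X)) := Subtype.irreducibleSpace isIrreducible_singleton.closure
  obtain ⟨y, hy, hmax⟩ : ∃ y ∈ CohB1.support (kernel (mulI F D)),
      ∀ z ∈ CohB1.support (kernel (mulI F D)), z ⤳ y → z = y := by
    have hcl := Groth.L16.CohSupport.isClosed_support _ hK.2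
    obtain ⟨C, hC, hxC, hCmax⟩ := exists_preirreducible (X := CohB1.support (kernel (mulI F D))) {⟨x, hx⟩}
      isPreirreducible_singleton
    haveI : QuasiSober (CohB1.support (kernel (mulI F D))) := hcl.isClosedEmbedding_subtypeVal.quasiSober
    have hirr : IsIrreducible C := ⟨⟨⟨x, hx⟩, hxC rfl⟩, hC⟩
    obtain ⟨η, hη⟩ := QuasiSober.sober hirr.closure isClosed_closure
    refine ⟨η.1, η.2, fun z hz hzη => ?_⟩
    have hs : (⟨z, hz⟩ : CohB1.support (kernel (mulI F D))) ⤳ η := (subtype_specializes_iff _ _).2 hzη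
    have hCc : closure C = C := hCmax _ hC.closure subset_closure
    have h2 : closure ({⟨z, hz⟩} : Set (CohB1.support (kernel (mulI F D)))) = C := by
      refine hCmax _ isPreirreducible_singleton.closure ?_
      rw [← hCc, ← hη]
      exact closure_minimal (Set.singleton_subset_iff.2 hs.mem_closure) isClosed_closure
    have h3 : η ⤳ (⟨z, hz⟩ : CohB1.support (kernel (mulI F D))) := by
      refine specializes_iff_mem_closure.2 ?_
      rw [hη, hCc, ← h2]
      exact subset_closure rfl
    exact (congrArg Subtype.val (hs.antisymm h3).eq : z = η.1)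
  have hlen : Groth.L16.CohSupport.len y (kernel (mulI F D)) ≠ ⊤ := Groth.L16.CohSupport.len_ne_top hK hmax
  let R := X.presheaf.stalk y
  let T := Groth.L00.Stk.F X y
  haveI : Nontrivial (T.obj (kernel (mulI F D))) := not_subsingleton_iff_nontrivial.1 hy
  have hinj : Function.Injective (T.map (kernel.ι (mulI F D))) :=
    (ModuleCat.mono_iff_injective _).1 inferInstance
  obtain ⟨e⟩ := nonempty_stalk_tensor hD F y
  by_cases hyD : y ∈ D.support
  · haveI : IsFiniteLength R (T.obj (kernel (mulI F D))) := by
      exact Module.length_ne_top_iff.1 hlen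
    obtain ⟨p, hp⟩ := associatedPrimes.nonempty R (T.obj (kernel (mulI F D)))
    have hp' : IsAssociatedPrime p (T.obj (kernel (mulI F D))) := hp
    obtain ⟨hpr, g, hg⟩ := (isAssociatedPrime_iff_exists_injective_linearMap p _).1 hp'
    haveI := hpr
    haveI : IsArtinian R (T.obj (kernel (mulI F D))) :=
      (isFiniteLength_iff_isNoetherian_isArtinian.1 (Module.length_ne_top_iff.1 hlen)).2
    haveI : IsArtinian R (R ⧸ p) := isArtinian_of_injective g hg
    haveI : IsArtinianRing (R ⧸ p) := isArtinian_of_tower R inferInstance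
    have hpm : p = IsLocalRing.maximalIdeal R := IsLocalRing.eq_maximalIdeal
      (Ideal.Quotient.maximal_of_isField p (IsArtinianRing.isField_of_isDomain _))
    rw [hpm] at hp'
    exact hass y hyD (hp'.map_of_injective (e.symm.toLinearMap.comp (T.map (kernel.ι (mulI F D))).hom)
      (e.symm.injective.comp hinj))
  · obtain ⟨ec⟩ := nonempty_cokernel F D
    have hc : Subsingleton (T.obj (cokernel (mulI F D))) := by
      haveI : Subsingleton (T.obj (CohB1.tensorMod F (ClSub.quotMod D))) :=
        not_not.1 fun h => hyD (support_quot_subset F D h)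
      exact (T.mapIso ec).toLinearEquiv.toEquiv.subsingleton
    have hex : ((ShortComplex.mk (mulI F D) (cokernel.π _) (cokernel.condition _)).map T).Exact :=
      (ShortComplex.exact_of_g_is_cokernel (ShortComplex.mk (mulI F D) (cokernel.π _) (cokernel.condition _))
        (cokernelIsCokernel (mulI F D))).map T
    have hsurj : Function.Surjective (T.map (mulI F D)) := fun v =>
      (ShortComplex.moduleCat_exact_iff _).1 hex v (@Subsingleton.elim _ hc _ _)
    haveI : IsLocallyNoetherian X := inferInstance
    haveI : Module.Finite R (T.obj F) := Groth.L19.SupportPullback.finite_stalk F hF y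
    have hbij : Function.Bijective ((T.map (mulI F D)).hom.comp e.toLinearMap) :=
      OrzechProperty.bijective_of_surjective_endomorphism _ (hsurj.comp e.surjective)
    have hai : Function.Injective (T.map (mulI F D)) := by
      intro a b hab
      obtain ⟨a, rfl⟩ := e.surjective a
      obtain ⟨b, rfl⟩ := e.surjective b
      exact congrArg e (hbij.1 hab)
    have hz : T.map (kernel.ι (mulI F D)) ≫ T.map (mulI F D) = 0 := by
      rw [← T.map_comp, kernel.condition, T.map_zero]
    haveI : Subsingleton (T.obj (kernel (mulI F D))) := ⟨fun a b => hinj (hai ?_)⟩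
    exact false_of_nontrivial_of_subsingleton (T.obj (kernel (mulI F D)))
    have h1 := ConcreteCategory.congr_hom hz a
    have h2 := ConcreteCategory.congr_hom hz b
    exact h1.trans h2.symm

theorem altT_snoc (k : Type u) [Field k] [X.Over (Spec (CommRingCat.of k))] [IsProper (X ↘ Spec (CommRingCat.of k))]
    {r : ℕ} (M : Fin r → X.Modules) (A F : X.Modules) :
    altT k (Fin.snoc M A) F = altT k M (CohB1.tensorMod F A) - altT k M F := by
  have h : ∀ (b : Fin 2) (v : Fin r → Fin 2),
      sgn (Fin.snoc v b : Fin (r + 1) → Fin 2) = sgn v * (if b = 1 then (1 : ℚ) else -1) := fun b v => by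
    rw [sgn, Fin.prod_univ_castSucc]
    simp [sgn]
  have hv : ∀ (b : ℕ) (n : Fin r → ℕ), twEuler k (Fin.snoc M A : Fin (r + 1) → X.Modules) F (Fin.snoc n b) =
      (Curv2.euler k X (CohB1.tensorMod F (CohB1.tensorMod (Curv2.tensorPows (Coh.structureModule X) r M n)
        (CohB1.tensorPow A b))) : ℚ) := fun b n => by
    refine congrArg (Int.cast : ℤ → ℚ) (congrArg (Curv2.euler k X) ?_)
    show CohB1.tensorMod F (CohB1.tensorMod (Curv2.tensorPows _ r _ _) _) = _
    simp only [Fin.snoc_castSucc, Fin.snoc_last]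
  have h0 : ∀ n : Fin r → ℕ, twEuler k (Fin.snoc M A : Fin (r + 1) → X.Modules) F (Fin.snoc n 0) = twEuler k M F n :=
    fun n => (hv 0 n).trans (congrArg (Int.cast : ℤ → ℚ) (euler_iso
      (Groth.L00.Tensor.tensorIso (Iso.refl F) (Groth.L00.Tensor.tensorUnitRight _))))
  have h1 : ∀ n : Fin r → ℕ, twEuler k (Fin.snoc M A : Fin (r + 1) → X.Modules) F (Fin.snoc n 1) =
      twEuler k M (CohB1.tensorMod F A) n :=
    fun n => (hv 1 n).trans (congrArg (Int.cast : ℤ → ℚ) (euler_iso
      (Groth.L00.Tensor.tensorIso (Iso.refl F) (Groth.L00.Tensor.tensorComm _ _ ≪≫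
        Groth.L00.Tensor.tensorIso (Groth.L00.Tensor.tensorUnitLeft A) (Iso.refl _)) ≪≫
        (Groth.L00.Tensor.tensorAssoc _ _ _).symm)))
  have hcast : ∀ (b : Fin 2) (v : Fin r → Fin 2),
      (fun i => ((Fin.snoc v b : Fin (r + 1) → Fin 2) i : ℕ)) = Fin.snoc (fun i => (v i : ℕ)) (b : ℕ) := fun b v => by
    funext i
    refine Fin.lastCases ?_ (fun j => ?_) i <;> simp
  simp only [altT, alt_apply]
  rw [← Equiv.sum_comp (Fin.snocEquiv fun _ : Fin (r + 1) => Fin 2), Fintype.sum_prod_type, Fin.sum_univ_two]
  simp only [Fin.snocEquiv, Equiv.coe_fn_mk]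
  simp only [h, hcast]
  simp [h0, h1]
  ring


/-- Let k be an algebraically closed field, X an irreducible complete variety over k (integral and
proper over k) of dimension at most d, L_1, …, L_r line bundles with tensor inverses M_1, …, M_r, F
a coherent O_X-module with dim Supp F ≤ r + 1, and D an effective Cartier divisor on X (a
quasi-coherent ideal I_D locally generated by one nonzerodivisor) whose support contains no
associated point of F. Then (L_1⋯L_r·O_X(D); F) = (L_1⋯L_r; F ⊗ O_D): with intersection numbers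
written as the alternating Euler-characteristic sums in the inverses (the prelude's FGA.intNum), the
(r+1)-fold number of F in M_1, …, M_r, I_D equals the r-fold number of F ⊗ O_D in M_1, …, M_r (for r
= 0 the right side is χ(F ⊗ O_D) = h^0(F ⊗ O_D)). -/
theorem result (k : Type u) [Field k] [IsAlgClosed k]
    (X : Scheme.{u}) [X.Over (Spec (CommRingCat.of k))] [IsIntegral X] [IsProper (X ↘ (Spec (CommRingCat.of k)))] (d : ℕ) (hd : topologicalKrullDim X ≤ d)
    {r : ℕ} (M : Fin r → X.Modules) (hM : ∀ i, PicF.IsInvertible (M i))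
    (F : X.Modules) (hF : Coh.IsCoh F) (hsupp : topologicalKrullDim ↥(CohB1.support F) ≤ r + 1)
    (D : X.IdealSheafData) (hD : BlowUp.IsEffCartierIdeal D) (hass : ∀ x ∈ D.support, ¬ Curv2.IsAssPoint F x) :
    FGA.intNum k X d (Fin.snoc M (ClSub.idealMod D)) F = FGA.intNum k X d M (CohB1.tensorMod F (ClSub.quotMod D)) := by
  haveI : IsLocallyNoetherian X := LocallyOfFiniteType.isLocallyNoetherian (X ↘ Spec (CommRingCat.of k))
  haveI : CompactSpace X := QuasiCompact.compactSpace_of_compactSpace (X ↘ Spec (CommRingCat.of k))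
  haveI : IsNoetherian X := {}
  have hI : PicF.IsInvertible (ClSub.idealMod D) := (Groth.Agent.L19.IdealInvertible.isEffCartier_iff D).2 hD
  haveI := mono_mulI hF hI hass
  have hFI := Groth.L03.Euler.isCoh_tensor hI hF
  obtain ⟨ec⟩ := nonempty_cokernel F D
  have key := altT_map k hM hFI hF (mulI F D)
  have hk : altT k M (kernel (mulI F D)) = 0 := by
    rw [altT, Groth.L03.Euler.twEuler_of_isZero k hM (isZero_kernel_of_mono _), map_zero]
  rw [hk, zero_sub, altT_iso k M ec, ← altT_snoc] at key
  have h1 := intNum_eq k hd (Fin.snoc M (ClSub.idealMod D)) F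
  have h2 := intNum_eq k hd M (CohB1.tensorMod F (ClSub.quotMod D))
  rw [key, pow_succ] at h1
  suffices hq : (FGA.intNum k X d (Fin.snoc M (ClSub.idealMod D)) F : ℚ) =
      FGA.intNum k X d M (CohB1.tensorMod F (ClSub.quotMod D)) from Int.cast_inj.1 hq
  rw [h1, h2]
  ring

end Groth.Agent.S14522
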