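import Groth.Statements.S14523
import Groth.Agent.L16.Connected.ZMTIso

set_option autoImplicit false
universe u
open CategoryTheory CategoryTheory.Limits AlgebraicGeometry
open Variety

namespace Groth.Agent.S14523

/-- Let k be an algebraically closed field and f : X → Y a proper, birational morphism over k of
irreducible varieties (X, Y integral, separated and of finite type over k; f restricts to an
isomorphism over some nonempty open subset of Y), with Y normal (all local rings integrally closed).
Let U ⊆ Y be the largest open subset over which f is an isomorphism (the domain of f^{-1}). Then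
codim_Y(Y ∖ U) ≥ 2: for every point y of Y whose local ring has Krull dimension at most one, f
restricts to an isomorphism over some open neighbourhood of y. -/
theorem result (k : Type u) [Field k] [IsAlgClosed k]
    (X Y : Scheme.{u}) [X.Over (Spec (CommRingCat.of k))] [Y.Over (Spec (CommRingCat.of k))]
    [IsIntegral X] [IsSeparated (X ↘ (Spec (CommRingCat.of k)))] [LocallyOfFiniteType (X ↘ (Spec (CommRingCat.of k)))] [QuasiCompact (X ↘ (Spec (CommRingCat.of k)))]
    [IsIntegral Y] [IsSeparated (Y ↘ (Spec (CommRingCat.of k)))] [LocallyOfFiniteType (Y ↘ (Spec (CommRingCat.of k)))] [QuasiCompact (Y ↘ (Spec (CommRingCat.of k)))] (hY : ∀ y : Y, IsIntegrallyClosed (Y.presheaf.stalk y))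
    (f : X ⟶ Y) (hf : f ≫ (Y ↘ (Spec (CommRingCat.of k))) = (X ↘ (Spec (CommRingCat.of k)))) [IsProper f]
    (hbir : ∃ V : Y.Opens, (V : Set Y).Nonempty ∧ IsIso (f ∣_ V))
    (y : Y) (hy : ringKrullDim (Y.presheaf.stalk y) ≤ 1) :
    ∃ V : Y.Opens, y ∈ V ∧ IsIso (f ∣_ V) := by
  obtain ⟨V₀, hne, hV₀⟩ := hbir
  have hη : genericPoint Y ∈ V₀ := (genericPoint_spec Y).mem_open_set_iff V₀.2 |>.2 (by simpa using hne)
  obtain ⟨x₀, hx₀⟩ := (f ∣_ V₀).surjective ⟨genericPoint Y, hη⟩
  have hfx : f x₀.1 = genericPoint Y := by
    rw [← morphismRestrict_base_coe, hx₀]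
  have hξ : f (genericPoint X) = genericPoint Y :=
    (Specializes.antisymm (hfx ▸ (genericPoint_specializes x₀.1).map f.continuous) (genericPoint_specializes _)).eq
  have hbir' : Function.Bijective (f.stalkMap (genericPoint X)) := by
    have hmem : genericPoint X ∈ f ⁻¹ᵁ V₀ := by show f (genericPoint X) ∈ V₀; rw [hξ]; exact hη
    rw [← ConcreteCategory.isIso_iff_bijective]
    exact ((MorphismProperty.isomorphisms CommRingCat).arrow_mk_iso_iff (morphismRestrictStalkMap f V₀ ⟨_, hmem⟩)).1
      (inferInstance : IsIso ((f ∣_ V₀).stalkMap ⟨_, hmem⟩))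
  have hbij : Function.Bijective (Groth.L21.Curve.ffMap f hξ) :=
    hbir'.comp (ConcreteCategory.bijective_of_isIso (Y.presheaf.stalkCongr (.of_eq hξ)).inv)
  haveI : IsLocallyNoetherian Y := LocallyOfFiniteType.isLocallyNoetherian (Y ↘ (Spec (CommRingCat.of k)))
  have hO := Groth.L16.Connected.isIso_app_of_birational f hξ hY hbij
  obtain ⟨V, hV, hiso⟩ := Groth.L16.Connected.exists_isIso_restrict_finite_fibres f hO
  refine ⟨V, (hV y).2 (Set.Subsingleton.finite fun a (ha : f a = y) b (hb : f b = y) => ?_), hiso⟩
  haveI := hY y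
  haveI := Groth.L16.Connected.valuationRing_of_dim_le_one hy
  subst ha
  exact (Groth.L16.Connected.eq_of_valuationRing f hξ hbij a b hb).symm
end Groth.Agent.S14523
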