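import Groth.Statements.S14525
import Groth.Agent.L03.SurfNum.Gram
-- import your own Groth.Agent.* helpers here

set_option autoImplicit false
universe u
open CategoryTheory CategoryTheory.Limits AlgebraicGeometry
open Surf

namespace Groth.Agent.S14525

open Groth.L22.Inter Groth.L22.Nef Groth.L22.Big Groth.L03.Euler Groth.L03.SurfNum
open Groth.L00.Tensor (tensorIso tensorAssoc tensorComm tensorUnitRight tensorUnitLeft)

/-- Let k be an algebraically closed field, X a smooth projective surface over k (integral, smooth over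
k, of dimension two, with a closed immersion over k into some projective space), L an invertible
O_X-module with tensor inverse L' such that (L·L) > 0, and M an ample invertible module with tensor
inverse M'; intersection numbers are the alternating Euler-characteristic sums in the inverses (the
prelude's FGA.intNum, so (L·L) is computed in L', L' and (L·M) in L', M'). Then (L·M) ≠ 0; if (L·M)
> 0 there is c > 0 with dim_k H^0(X, L^{⊗m}) > c·m² for all large m, and if (L·M) < 0 the same holds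
for L' in place of L. -/
theorem result (k : Type u) [Field k] [IsAlgClosed k]
    (X : Scheme.{u}) [X.Over (Spec (CommRingCat.of k))] [IsIntegral X] [Smooth (X ↘ (Spec (CommRingCat.of k)))] (hdim : topologicalKrullDim X = 2)
    (hprojX : ∃ (N : ℕ) (ι : X ⟶ CohB1.ProjSpace N k), IsClosedImmersion ι ∧ ι ≫ CohB1.ProjSpace.toSpec N k = (X ↘ (Spec (CommRingCat.of k))))
    (L L' : X.Modules) (hL : PicF.IsInvertible L) (hLL' : ClSub.IsInverseOf L L')
    (hpos : 0 < FGA.intNum k X 2 ![L', L'] (Coh.structureModule X))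
    (M M' : X.Modules) (hM : CohB1.IsAmple M) (hMM' : ClSub.IsInverseOf M M') :
    FGA.intNum k X 2 ![L', M'] (Coh.structureModule X) ≠ 0 ∧
    (0 < FGA.intNum k X 2 ![L', M'] (Coh.structureModule X) →
      ∃ c : ℚ, 0 < c ∧ ∃ m₀ : ℕ, ∀ m : ℕ, m₀ ≤ m →
        c * (m : ℚ) ^ 2 < (Module.finrank k (Coh.HH X (CohB1.tensorPow L m) 0) : ℚ)) ∧
    (FGA.intNum k X 2 ![L', M'] (Coh.structureModule X) < 0 →
      ∃ c : ℚ, 0 < c ∧ ∃ m₀ : ℕ, ∀ m : ℕ, m₀ ≤ m →
        c * (m : ℚ) ^ 2 < (Module.finrank k (Coh.HH X (CohB1.tensorPow L' m) 0) : ℚ)) := by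
  obtain ⟨n, ι, hι, hιk⟩ := hprojX
  haveI := hι
  obtain ⟨hp, -⟩ := proj_facts k hdim ι hιk
  haveI := hp
  have hd2 : topologicalKrullDim X = (2 : ℕ) := hdim.trans Nat.cast_ofNat.symm
  have hd := hd2.le
  obtain ⟨e⟩ := hLL'
  obtain ⟨eM⟩ := hMM'
  obtain ⟨L₀, hL₀, ⟨e₀⟩⟩ := Groth.L08.Cube.exists_inverse hL
  obtain ⟨M₀, hM₀, ⟨eM₀⟩⟩ := Groth.L08.Cube.exists_inverse hM.1
  have hiso : ∀ {A A₁ A₂ : X.Modules}, (CohB1.tensorMod A A₁ ≅ Coh.structureModule X) →
      (CohB1.tensorMod A A₂ ≅ Coh.structureModule X) → Nonempty (A₂ ≅ A₁) := fun {A A₁ A₂} e₁ e₂ =>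
    ⟨(tensorUnitLeft A₂).symm ≪≫ tensorIso ((tensorComm A₁ A ≪≫ e₁).symm) (Iso.refl A₂) ≪≫ tensorAssoc _ _ _ ≪≫
      tensorIso (Iso.refl A₁) e₂ ≪≫ tensorUnitRight A₁⟩
  have hL' : PicF.IsInvertible L' := Groth.L18.Ample.isInvertible_of_iso (hiso e e₀).some hL₀
  have hM' : PicF.IsInvertible M' := Groth.L18.Ample.isInvertible_of_iso (hiso eM eM₀).some hM₀
  have i1 : ∀ B : X.Modules, PicF.IsInvertible B → ii k L' B = - ii k L B :=
    fun B hB => Gram.ii_inverse k hd hL hL' hB e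
  have iM : ∀ B : X.Modules, PicF.IsInvertible B → ii k M' B = - ii k M B :=
    fun B hB => Gram.ii_inverse k hd hM.1 hM' hB eM
  have eLL : ii k L' L' = ii k L L := by rw [i1 _ hL', ii_comm, i1 _ hL, neg_neg]
  have eLM : ii k L' M' = ii k L M := by
    rw [i1 _ hM', ii_comm, iM _ hL, ii_comm k M L, neg_neg]
  have hLL : 0 < ii k L L := by rw [← eLL, ← intNum_eq_ii k hd]; exact_mod_cast hpos
  have growth : ∀ {N : X.Modules}, PicF.IsInvertible N → 0 < ii k N N → 0 < ii k N M →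
      ∃ c : ℚ, 0 < c ∧ ∃ m₀ : ℕ, ∀ m : ℕ, m₀ ≤ m →
        c * (m : ℚ) ^ 2 < (Module.finrank k (Coh.HH X (CohB1.tensorPow N m) 0) : ℚ) := by
    intro N hN hNN hNM
    obtain ⟨C, hC⟩ := exists_euler_le_h0 k hd hN (isEff_of_pos k hd hN hM hNN hNM)
    obtain ⟨S, hS⟩ := exists_le_euler k hd hN
    obtain ⟨m₁, hm₁⟩ := exists_nat_gt (4 * (|S| + C + 1) / ii k N N)
    refine ⟨ii k N N / 4, by linarith, m₁ + 1, fun m hm => ?_⟩
    have h1 := hS m (by omega)
    have h2 : (Curv2.euler k X (CohB1.tensorPow N m) : ℚ) ≤ (h0 k (CohB1.tensorPow N m) : ℚ) + C := by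
      exact_mod_cast hC m
    rw [h0_def] at h2
    rw [div_lt_iff₀ hNN] at hm₁
    have hm' : (m₁ : ℚ) + 1 ≤ m := by exact_mod_cast hm
    have h4 : |S| + C + 1 < ii k N N / 4 * m := by nlinarith
    nlinarith [mul_lt_mul_of_pos_right h4 (by linarith : (0 : ℚ) < m), le_abs_self S,
      mul_le_mul_of_nonneg_right (le_abs_self S) (by linarith : (0 : ℚ) ≤ m), Nat.cast_nonneg (α := ℚ) C]
  refine ⟨fun h0 => ?_, fun hp => ?_, fun hn => ?_⟩
  · have h1 : ii k L M = 0 := by rw [← eLM, ← intNum_eq_ii k hd, h0, Int.cast_zero]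
    exact absurd (ii_nonpos_of_orth k hd hL hM h1) (not_le.2 hLL)
  · refine growth hL hLL ?_
    rw [← eLM, ← intNum_eq_ii k hd]
    exact_mod_cast hp
  · refine growth hL' (eLL.symm ▸ hLL) ?_
    rw [i1 _ hM.1, neg_pos, ← eLM, ← intNum_eq_ii k hd]
    exact_mod_cast hn

end Groth.Agent.S14525
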