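import Groth.Statements.S14535
import Groth.Agent.L09.TorsorPoint.Scheme

set_option autoImplicit false
universe u
open CategoryTheory MonoidalCategory CartesianMonoidalCategory MonObj GrpObj AlgebraicGeometry
open PrincBund

namespace Groth.Agent.S14535

/-- Let k be an algebraically closed field and G an affine group scheme over k, not necessarily of
finite type. Then every principal G-bundle over Spec k, that is every k-scheme with a G-action which
is a pseudo-torsor and acquires sections on the members of some fpqc covering family of Spec k, is
trivial: it has a k-point. -/
theorem result (k : Type u) [Field k] [IsAlgClosed k]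
    (G : Over (Spec (CommRingCat.of k))) [GrpObj G] [IsAffine G.left]
    (P : Over (Spec (CommRingCat.of k))) (a : AlgGrp.Action G P)
    (hP : NonAbH1.IsTorsorFor Scheme.fpqcPrecoverage a) :
    Nonempty (𝟙_ (Over (Spec (CommRingCat.of k))) ⟶ P) := by
  exact Groth.L09.TorsorPoint.exists_point_of_isTorsorFor G P a hP

end Groth.Agent.S14535
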