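import Groth.Statements.S14536
import Groth.Agent.L24.Princ.Surj
-- import your own Groth.Agent.* helpers here

set_option autoImplicit false
universe u
open CategoryTheory MonoidalCategory CartesianMonoidalCategory MonObj GrpObj AlgebraicGeometry
open PrincBund

namespace Groth.Agent.S14536

/-- Let k be an algebraically closed field and h : G → G' a homomorphism of affine group schemes over k
(not necessarily of finite type) which is surjective on underlying spaces. Then h is surjective on
k-points: every k-point of G' is the image of a k-point of G. -/
theorem result (k : Type u) [Field k] [IsAlgClosed k]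
    (G G' : Over (Spec (CommRingCat.of k))) [GrpObj G] [GrpObj G'] [IsAffine G.left] [IsAffine G'.left]
    (h : G ⟶ G') [IsMonHom h] (hs : Surjective h.left) (x : 𝟙_ (Over (Spec (CommRingCat.of k))) ⟶ G') :
    ∃ g : 𝟙_ (Over (Spec (CommRingCat.of k))) ⟶ G, g ≫ h = x := by
  exact Groth.L24.Princ.exists_point_lift h hs x

end Groth.Agent.S14536
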