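import Groth.Statements.S14537
import Groth.Agent.L24.Princ.Dense
-- import your own Groth.Agent.* helpers here

set_option autoImplicit false
universe u
open CategoryTheory MonoidalCategory CartesianMonoidalCategory MonObj GrpObj AlgebraicGeometry
open PrincBund

namespace Groth.Agent.S14537

/-- Let k be an algebraically closed field and G an affine group scheme over k, not necessarily of
finite type. Then the set of k-rational points of G is dense in the underlying space of G. -/
theorem result (k : Type u) [Field k] [IsAlgClosed k]
    (G : Over (Spec (CommRingCat.of k))) [GrpObj G] [IsAffine G.left] :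
    Dense {x : ↥G.left | ∃ g : 𝟙_ (Over (Spec (CommRingCat.of k))) ⟶ G, g.left.base (IsLocalRing.closedPoint k) = x} := by
  rw [dense_iff_inter_open]
  intro V hV hne
  obtain ⟨p, hp, hpV⟩ := @Groth.L24.Princ.exists_point_mem k _ _ G.left ⟨G.hom⟩
    (inferInstanceAs (GrpObj G)) _ ⟨V, hV⟩ hne
  exact ⟨p (IsLocalRing.closedPoint k), hpV, Over.homMk p hp, rfl⟩

end Groth.Agent.S14537
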