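import Groth.Statements.S14538
import Groth.Agent.L06.FGDense.Scheme

set_option autoImplicit false
set_option maxSynthPendingDepth 3
set_option linter.style.haveILetI false
universe u
open CategoryTheory MonoidalCategory CartesianMonoidalCategory MonObj GrpObj AlgebraicGeometry
open PrincBund

namespace Groth.Agent.S14538

/-- Let k be an algebraically closed field of characteristic 0 and G an affine group scheme of finite
type over k. Then the group G(k) of k-rational points has a finitely generated subgroup whose points
are dense in the underlying space of G. -/
theorem result (k : Type u) [Field k] [IsAlgClosed k] [CharZero k]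
    (G : Over (Spec (CommRingCat.of k))) [GrpObj G] [IsAffine G.left] [LocallyOfFiniteType G.hom] :
    ∃ Φ : Subgroup (𝟙_ (Over (Spec (CommRingCat.of k))) ⟶ G), Φ.FG ∧
      Dense {x : ↥G.left | ∃ g ∈ Φ, g.left.base (IsLocalRing.closedPoint k) = x} := by
  obtain ⟨A, _, _, ⟨E⟩⟩ := Groth.L25.Bridge.exists_hopf (R := k) G
  exact Groth.L06.FGDense.exists_fg_dense_scheme E

end Groth.Agent.S14538
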