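import Groth.Statements.S14539
import Groth.Agent.L24.Princ.Points
import Mathlib.LinearAlgebra.TensorProduct.Basis
import Mathlib.LinearAlgebra.TensorProduct.RightExactness
-- import your own Groth.Agent.* helpers here

set_option autoImplicit false
universe u v w
open TensorProduct
open PrincBund

namespace Groth.Agent.S14539

/-- Let k be an algebraically closed field of characteristic 0, A a commutative Hopf algebra over k (the
coordinate ring of an affine group scheme G over k, not necessarily of finite type) and V a right
A-comodule, of any dimension. If a k-subspace W of V is mapped into itself by the action of every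
k-rational point of G (every k-algebra homomorphism A → k, acting on V through the coaction), then W
is a subcomodule of V. -/
theorem result (k : Type u) (A : Type v) [Field k] [IsAlgClosed k]
    [CharZero k] [CommRing A] [HopfAlgebra k A]
    (V : Type w) [AddCommGroup V] [Module k V] [HopfRep.Comod k A V] (W : Submodule k V)
    (hW : ∀ g : A →ₐ[k] k, W.map (HopfRep.Comod.act k A V g) ≤ W) :
    HopfRep.IsSubcomod (k := k) (A := A) W := by
  intro w hw
  rw [← LinearMap.exact_iff.1 (rTensor_exact A (LinearMap.exact_subtype_mkQ W) W.mkQ_surjective),
    LinearMap.mem_ker]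
  let b := Module.Free.chooseBasis k (V ⧸ W)
  apply (TensorProduct.equivFinsuppOfBasisLeft (M := V ⧸ W) (N := A) b).injective
  rw [map_zero]
  ext i
  refine Groth.L24.Princ.eq_zero_of_forall_point k A fun g => ?_
  have key : ∀ z : V ⊗[k] A, g ((TensorProduct.equivFinsuppOfBasisLeft b (W.mkQ.rTensor A z)) i) =
      b.repr (W.mkQ (TensorProduct.rid k V (g.toLinearMap.lTensor V z))) i := by
    intro z
    induction z using TensorProduct.induction_on with
    | zero => simp
    | tmul x a => simp [mul_comm]
    | add x y hx hy => simp only [map_add, Finsupp.add_apply, hx, hy]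
  rw [key]
  have h : W.mkQ (HopfRep.Comod.act k A V g w) = 0 :=
    (Submodule.Quotient.mk_eq_zero W).2 (hW g ⟨w, hw, rfl⟩)
  simp [show TensorProduct.rid k V (g.toLinearMap.lTensor V (HopfRep.Comod.coact (k := k) (A := A) w))
    = HopfRep.Comod.act k A V g w from rfl, h]

end Groth.Agent.S14539
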