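import Groth.Statements.S14547
import Groth.Agent.L08.HomLocus
import Groth.Agent.L25.Actions
import Mathlib.AlgebraicGeometry.Morphisms.FlatDescent
import Groth.Prelude.Def_ActBC

set_option autoImplicit false
set_option backward.isDefEq.respectTransparency.types false
set_option backward.isDefEq.respectTransparency false
set_option linter.style.haveILetI false
universe u
open CategoryTheory MonoidalCategory CartesianMonoidalCategory MonObj GrpObj AlgebraicGeometry
open PrincBund

namespace Groth.Agent.S14547

/-- Let f : X' → X be a faithfully flat quasi-compact morphism of schemes, J a group scheme affine over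
X with an action a on an X-scheme P, and a' the induced action of the base change J' = J ×_X X' on
P' = P ×_X X'. Then P with a is a J-torsor for the fpqc topology if and only if P' with a' is a
J'-torsor for the fpqc topology. (The published statement allows any morphism X' → X that is
covering for the fpqc topology, and an action of a pregroupoid; this row is the case of a faithfully
flat quasi-compact X' → X and the trivial pregroupoid.) -/
theorem result {X X' : Scheme.{u}} (f : X' ⟶ X)
    [Flat f] [Surjective f] [QuasiCompact f]
    {J P : Over X} [GrpObj J] [IsAffineHom J.hom] (a : AlgGrp.Action J P)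
    (a' : AlgGrp.Action (Red.bc f J) (Red.bc f P))
    (ha' : Functor.LaxMonoidal.μ (Over.pullback f) J P ≫ (Over.pullback f).map a.act = a'.act) :
    NonAbH1.IsTorsorFor Scheme.fpqcPrecoverage a ↔ NonAbH1.IsTorsorFor Scheme.fpqcPrecoverage a' := by
  have e : a' = a.bc f := AlgGrp.Action.ext' ha'.symm
  subst e
  refine ⟨fun h => NonAbH1.isTorsorFor_bc f _ h, fun h => ⟨?_, ?_⟩⟩
  · have key : lift (a.bc f).act (snd _ _) ≫ Functor.LaxMonoidal.μ (Over.pullback f) P P =
        Functor.LaxMonoidal.μ (Over.pullback f) J P ≫ (Over.pullback f).map (lift a.act (snd J P)) := by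
      rw [← Functor.Monoidal.lift_μ, comp_lift_assoc, Functor.Monoidal.μ_snd, AlgGrp.Action.bc_act]
    haveI : IsIso (lift (a.bc f).act (snd _ _)) := h.1
    haveI : IsIso (Functor.LaxMonoidal.μ (Over.pullback f) J P ≫ (Over.pullback f).map (lift a.act (snd J P))) := by
      rw [← key]; infer_instance
    haveI : IsIso ((Over.pullback f).map (lift a.act (snd J P))) :=
      IsIso.of_isIso_comp_left (Functor.LaxMonoidal.μ (Over.pullback f) J P) _
    haveI : IsIso ((Over.pullback f).map (lift a.act (snd J P))).left :=
      inferInstanceAs (IsIso ((Over.forget _).map ((Over.pullback f).map (lift a.act (snd J P)))))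
    haveI : IsIso (lift a.act (snd J P)).left :=
      MorphismProperty.of_isPullback_of_descendsAlong (P := MorphismProperty.isomorphisms Scheme.{u})
        (Q := @Surjective ⊓ @Flat ⊓ @QuasiCompact) (Groth.L08.HomLocus.isPullback_bc f (lift a.act (snd J P))).flip
        ⟨⟨MorphismProperty.pullback_fst (P := @Surjective) _ _ ‹_›,
          MorphismProperty.pullback_fst (P := @Flat) _ _ ‹_›⟩,
          MorphismProperty.pullback_fst (P := @QuasiCompact) _ _ ‹_›⟩
        (‹IsIso ((Over.pullback f).map (lift a.act (snd J P))).left›)
    haveI : IsIso ((Over.forget _).map (lift a.act (snd J P))) := ‹IsIso (lift a.act (snd J P)).left›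
    exact isIso_of_reflects_iso (lift a.act (snd J P)) (Over.forget _)
  · obtain ⟨R, hR, hsec⟩ := h.2
    obtain ⟨iO, Z, g, rfl⟩ := R.exists_eq_ofArrows
    refine ⟨Presieve.ofArrows (fun p : Σ _ : PUnit.{u+1}, iO => Z p.2) (fun p => g p.2 ≫ f),
      Precoverage.comp_mem_coverings (fun _ : PUnit.{u+1} => f) ?_ (fun _ i => g i) (fun _ => hR), ?_⟩
    · rw [Presieve.ofArrows_pUnit]
      exact Scheme.Hom.singleton_mem_fpqcPrecoverage f
    · rintro S' _ ⟨⟨_, i⟩⟩
      obtain ⟨s, hs⟩ := hsec (g i) (Presieve.ofArrows.mk i)
      refine ⟨s ≫ Limits.pullback.fst P.hom f, ?_⟩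
      rw [Category.assoc, Limits.pullback.condition, ← Category.assoc]
      exact congrArg (· ≫ f) hs

end Groth.Agent.S14547
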