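import Groth.Statements.S1455
import Groth.Agent.L20.StrataScheme

set_option autoImplicit false
universe u
open FlatMor

open AlgebraicGeometry CategoryTheory CategoryTheory.Limits

set_option linter.style.haveILetI false

namespace Groth.Agent.S1455

open AlgebraicGeometry CategoryTheory Limits in
/-- Let f : X → S be of finite presentation with X and S quasi-compact and quasi-separated, and F a
finitely presented quasi-coherent O_X-module. Then there are t ≥ 0 and ideal sheaves I_0 ≤ I_1 ≤ ...
≤ I_t = O_S on S, each of finite type, with I_0 cutting out a thickening of S (its support is all of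
S), such that for each i the pullback of F to the part of X over the locally closed stratum
supp(I_i) ∖ supp(I_{i+1}) is flat over that stratum. -/
theorem result {X S : Scheme.{u}} (f : X ⟶ S) [LocallyOfFinitePresentation f] [QuasiCompact f] [QuasiSeparated f]
    [CompactSpace ↑S] [QuasiSeparatedSpace ↑S] (F : X.Modules) (hq : Coh.IsQCoh F) (hfp : CohB1.IsFP F) :
    ∃ (t : ℕ) (I : Fin (t + 1) → S.IdealSheafData), Monotone I ∧ I (Fin.last t) = ⊤ ∧ ((I 0).support : Set ↑S) = Set.univ ∧
      (∀ i, ∀ U : S.affineOpens, ((I i).ideal U).FG) ∧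
      ∀ i : Fin t, FlatMod.IsFlatOver
        (pullback.snd f (((I i.castSucc).subschemeι ⁻¹ᵁ (I i.succ).support.compl).ι ≫ (I i.castSucc).subschemeι))
        ((Scheme.Modules.pullback (pullback.fst f (((I i.castSucc).subschemeι ⁻¹ᵁ (I i.succ).support.compl).ι ≫ (I i.castSucc).subschemeι))).obj F) := by
  haveI := hq
  obtain ⟨t, I, -, hmono, hlast, hsupp, hfg, hgood⟩ :=
    (Groth.L20.Strata.gStrat_univ f F hfp).exists_chain ⊥ (fun _ => Submodule.fg_bot)
      (by rw [Scheme.IdealSheafData.support_bot]; rfl)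
  refine ⟨t, I, hmono, hlast, hsupp, hfg, fun i x' => ?_⟩
  let O' := (I i.castSucc).subschemeι ⁻¹ᵁ (I i.succ).support.compl
  let g := O'.ι ≫ (I i.castSucc).subschemeι
  let p := (pullback.snd f g) x'
  have hps : g p ∈ (I i.castSucc).support := (O'.ι p).2
  have hpn : g p ∉ (I i.succ).support := p.2
  obtain ⟨O, J, hpO, hJ, hP⟩ := hgood i (g p) hps hpn
  obtain ⟨_, ⟨W', hW', rfl⟩, hpW, hWO⟩ :=
    O'.toScheme.isBasis_affineOpens.exists_subset_of_mem_open (a := p) (show p ∈ g ⁻¹ᵁ O.1 from hpO) (g ⁻¹ᵁ O.1).2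
  have e : W' ≤ g ⁻¹ᵁ O.1 := hWO
  refine hP g W' hW' e ?_ x' hpW
  refine le_bot_iff.mp ((Ideal.map_mono hJ).trans ?_)
  rw [Ideal.map_le_iff_le_comap]
  intro a ha
  have h0 : ((I i.castSucc).subschemeι.app O.1).hom a = 0 := by
    rw [← (I i.castSucc).ker_subschemeι] at ha
    rwa [Scheme.Hom.ker_apply, RingHom.mem_ker] at ha
  rw [Ideal.mem_comap, Ideal.mem_bot]
  show (Scheme.Hom.appLE (O'.ι ≫ (I i.castSucc).subschemeι) O.1 W' e).hom a = 0
  rw [Scheme.Hom.comp_appLE, CommRingCat.comp_apply, h0, map_zero]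

end Groth.Agent.S1455
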