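import Groth.Statements.S14556
import Groth.Agent.L07.AdelicInj.H0
import Groth.Agent.L07.AdelicInj.Points

set_option autoImplicit false
universe u
open TateGlob

set_option linter.style.haveILetI false
set_option backward.isDefEq.respectTransparency false
set_option backward.isDefEq.respectTransparency.types false
set_option maxHeartbeats 4000000
set_option synthInstance.maxHeartbeats 400000

namespace Groth.Agent.S14556

open CategoryTheory AlgebraicGeometry in
/-- Let K be a global function field with finite constant field Fq (every element of K having finitely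
many poles), A_K its ring of adeles, S a finite nonempty set of places, O_S the ring of S-integers
and 𝒢 a flat, separated commutative O_S-group scheme of finite type. Then the map H^0(A_K, 𝒢) → ∏_v
H^0(K_v, 𝒢) induced by the projections A_K → K_v is injective, and its image consists of the
restricted product of the H^0(K_v, 𝒢), taken relative to the images of H^0(O_v, 𝒢) → H^0(K_v, 𝒢), v
∉ S: the families almost all of whose components come from O_v. Here H^0 is the degree-0 cohomology
of the sheaf of points of 𝒢 on the big fppf site of Spec O_S, restricted to Spec A_K, Spec K_v and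
Spec O_v. -/
theorem result (Fq : Type u) [Field Fq] [Finite Fq] (K : Type u) [Field K] [Algebra (RatFunc Fq) K] [FunctionField Fq K]
    [Algebra Fq K] [IsScalarTower Fq (RatFunc Fq) K] [AdFn.HasFinitePoles Fq K]
    (S : Set (FunFld.Place Fq K)) (hS : S.Finite) (hne : S.Nonempty)
    (𝒢 : Over (Spec (CommRingCat.of (AdFn.SInt S)))) [GrpObj 𝒢] [IsCommMonObj 𝒢]
    [Flat 𝒢.hom] [IsSeparated 𝒢.hom] [LocallyOfFiniteType 𝒢.hom] [QuasiCompact 𝒢.hom] :
    Function.Injective (AdFn.locProdS Scheme.fppfPrecoverage S (CGrpSh.pts Scheme.fppfPrecoverage 𝒢) 0) ∧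
      Set.range (AdFn.locProdS Scheme.fppfPrecoverage S (CGrpSh.pts Scheme.fppfPrecoverage 𝒢) 0) =
        Set.range (fun y : AdFn.LocRP Scheme.fppfPrecoverage S (CGrpSh.pts Scheme.fppfPrecoverage 𝒢) 0 => (⇑y : (v : FunFld.Place Fq K) → AdFn.HLocS Scheme.fppfPrecoverage S (CGrpSh.pts Scheme.fppfPrecoverage 𝒢) 0 v)) := by
  classical
  let P₀ := Scheme.fppfPrecoverage.{u}
  let F := CGrpSh.pts P₀ 𝒢
  let φ : ∀ v : FunFld.Place Fq K, AdFn.AdeleRing Fq K →+* AdFn.Kv v := AdFn.AdeleRing.proj
  have hφ : ∀ a, (∀ v, φ v a = 0) → a = 0 := fun a ha => Subtype.ext (funext fun v => ha v)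
  haveI : IsReduced (AdFn.AdeleRing Fq K) := ⟨fun a ⟨n, ha⟩ => hφ a fun v => by
    refine (pow_eq_zero_iff (n := n + 1) (Nat.succ_ne_zero n)).1 ?_
    rw [← map_pow, pow_succ, ha, MulZeroClass.zero_mul, map_zero]⟩
  haveI : QuasiSeparatedSpace 𝒢.left :=
    AlgebraicGeometry.quasiSeparatedSpace_of_quasiSeparated 𝒢.hom
  haveI : CompactSpace 𝒢.left := QuasiCompact.compactSpace_of_compactSpace 𝒢.hom
  let pt : ∀ (T : Over (Spec (CommRingCat.of (AdFn.SInt S)))), BigSite.HU P₀ F 0 T → (T ⟶ 𝒢) :=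
    fun T x => (Groth.L07.AdelicInj.sect P₀ F T x).down.toMul
  have hptb : ∀ T, Function.Bijective (pt T) := fun T =>
    (Additive.toMul.bijective.comp Equiv.ulift.bijective).comp (Groth.L07.AdelicInj.sect_bijective P₀ F T)
  have hres : ∀ {T T' : Over (Spec (CommRingCat.of (AdFn.SInt S)))} (g : T' ⟶ T) (x : BigSite.HU P₀ F 0 T),
      pt T' (HRes.resHU P₀ F 0 g x) = g ≫ pt T x := fun g x =>
    congrArg (fun s => s.down.toMul) (Groth.L07.AdelicInj.sect_resHU P₀ F g x)
  refine ⟨fun x x' h => (hptb _).1 (Over.OverMorphism.ext ?_), ?_⟩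
  · refine Groth.L07.AdelicInj.points_ext 𝒢 (fun v => AdFn.Kv v) φ hφ _ _ ?_ fun v => ?_
    · rw [Over.w, Over.w]
    · have e := congrArg (fun y => (pt _ (y v)).left) h
      simp only [AdFn.locProdS, AddMonoidHom.pi_apply, AdFn.adProjS] at e
      rw [hres, hres] at e
      exact e
  refine Set.Subset.antisymm ?_ ?_
  · rintro _ ⟨x, rfl⟩
    refine ⟨⟨AdFn.locProdS P₀ S F 0 x, ?_⟩, rfl⟩
    have hR : ∀ᶠ v in Filter.cofinite, ∀ r, φ v (AdFn.SInt.toAd S r) ∈ AdFn.Ov v := by
      filter_upwards [hS.compl_mem_cofinite] with v hv r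
      exact (AdFn.SInt.toOv S hv r).2
    filter_upwards [hS.compl_mem_cofinite, Groth.L07.AdelicInj.eventually_integral 𝒢.hom (fun v => AdFn.Kv v)
      AdFn.Ov φ (AdFn.SInt.toAd S) (fun a => a.2) hR (pt _ x).left (Over.w (pt _ x))] with v hv ⟨Q, hQ⟩
    have hQf : Q ≫ 𝒢.hom = (AdFn.specOf (AdFn.SInt.toOv S hv)).hom := by
      have h1 := congrArg (· ≫ 𝒢.hom) hQ
      simp only [Category.assoc, Over.w] at h1
      obtain ⟨ψ, hψ⟩ : ∃ ψ, Spec.map ψ = Q ≫ 𝒢.hom := ⟨_, Spec.map_preimage _⟩
      rw [← hψ] at h1 ⊢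
      show Spec.map ψ = Spec.map (CommRingCat.ofHom (AdFn.SInt.toOv S hv))
      change _ = Spec.map _ ≫ Spec.map (CommRingCat.ofHom (AdFn.SInt.toAd S)) at h1
      rw [← Spec.map_comp, ← Spec.map_comp] at h1
      refine congrArg Spec.map (CommRingCat.hom_ext (RingHom.ext fun r => Subtype.ext ?_))
      exact congrArg (fun t : CommRingCat.of (AdFn.SInt S) ⟶ CommRingCat.of (AdFn.Kv v) => t r)
        (Spec.map_injective h1)
    obtain ⟨z, hz⟩ := (hptb _).2 (Over.homMk Q hQf : AdFn.specOf (AdFn.SInt.toOv S hv) ⟶ 𝒢)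
    show _ ∈ AdFn.locSub P₀ S F 0 v
    rw [AdFn.locSub, iSup_pos (show v ∉ S from hv)]
    refine ⟨z, (hptb _).1 (Over.OverMorphism.ext ?_)⟩
    simp only [AdFn.intRes, AdFn.locProdS, AddMonoidHom.pi_apply, AdFn.adProjS]
    rw [hres, hres, hz]
    exact hQ
  · rintro _ ⟨y, rfl⟩
    let T : Set (FunFld.Place Fq K) := S ∪ {v | y v ∉ AdFn.locSub P₀ S F 0 v}
    have hT : T.Finite := hS.union y.eventually
    let Rv : ∀ v : FunFld.Place Fq K, Subring (AdFn.Kv v) := fun v => if v ∈ T then ⊤ else (AdFn.Ov v).toSubring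
    have hRv : ∀ v r, φ v (AdFn.SInt.toAd S r) ∈ Rv v := by
      intro v r
      by_cases h : v ∈ T
      · simp only [Rv, if_pos h]; trivial
      · simp only [Rv, if_neg h]
        exact (AdFn.SInt.toOv S (fun hv => h (Or.inl hv)) r).2
    have hy : ∀ v, ∃ Q : Spec (CommRingCat.of (Rv v)) ⟶ 𝒢.left,
        Q ≫ 𝒢.hom = Spec.map (CommRingCat.ofHom (((φ v).comp (AdFn.SInt.toAd S)).codRestrict (Rv v) (hRv v))) ∧
        Spec.map (CommRingCat.ofHom (Rv v).subtype) ≫ Q = (pt _ (y v)).left := by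
      intro v
      by_cases h : v ∈ T
      · let i : AdFn.Kv v →+* Rv v := (RingHom.id _).codRestrict (Rv v) fun x => by
          simp only [Rv, if_pos h]; trivial
        refine ⟨Spec.map (CommRingCat.ofHom i) ≫ (pt _ (y v)).left, ?_, ?_⟩
        · erw [Category.assoc, Over.w (pt _ (y v)), ← Spec.map_comp]
          rfl
        · erw [← Spec.map_comp_assoc]
          rw [show CommRingCat.ofHom i ≫ CommRingCat.ofHom (Rv v).subtype = 𝟙 _ from rfl, Spec.map_id]
          exact Category.id_comp _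
      · have hv : v ∉ S := fun hv => h (Or.inl hv)
        have hm : y v ∈ AdFn.locSub P₀ S F 0 v := by_contra fun hn => h (Or.inr hn)
        rw [AdFn.locSub, iSup_pos hv] at hm
        obtain ⟨z, hz⟩ := hm
        let i : AdFn.Ov v →+* Rv v := (AdFn.Ov v).subtype.codRestrict (Rv v) fun x => by
          simp only [Rv, if_neg h]; exact x.2
        refine ⟨Spec.map (CommRingCat.ofHom i) ≫ (pt _ z).left, ?_, ?_⟩
        · erw [Category.assoc, Over.w (pt _ z), ← Spec.map_comp]
          rfl
        · erw [← Spec.map_comp_assoc]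
          rw [← hz]
          exact (congrArg (fun t => t.left) (hres (AdFn.intResHom S hv) z)).symm
    choose Q hQf hQ using hy
    let q : (∀ v, Rv v) →+* AdFn.AdeleRing Fq K :=
      { toFun := fun b => ⟨fun v => b v, by
          refine Filter.Eventually.mono hT.compl_mem_cofinite fun v hv => ?_
          have := (b v).2
          simp only [Rv, if_neg hv] at this
          exact this⟩
        map_one' := rfl
        map_mul' := fun _ _ => rfl
        map_zero' := rfl
        map_add' := fun _ _ => rfl }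
    obtain ⟨P, hPf, hP⟩ := Groth.L07.AdelicInj.exists_point 𝒢.hom (fun v => AdFn.Kv v) φ
      (AdFn.SInt.toAd S) Rv hRv q (fun _ _ => rfl) hφ Q hQf
    obtain ⟨x, hx⟩ := (hptb _).2 (Over.homMk P hPf : AdFn.specOf (AdFn.SInt.toAd S) ⟶ 𝒢)
    refine ⟨x, funext fun v => (hptb _).1 (Over.OverMorphism.ext ?_)⟩
    simp only [AdFn.locProdS, AddMonoidHom.pi_apply, AdFn.adProjS]
    rw [hres, hx]
    exact (hP v).trans (hQ v)

end Groth.Agent.S14556
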