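import Groth.Statements.S14573
import Groth.Agent.L07.AdelicInj.Dual

set_option autoImplicit false
universe u
open TateGlob

set_option linter.style.haveILetI false
set_option backward.isDefEq.respectTransparency false
set_option backward.isDefEq.respectTransparency.types false
set_option maxHeartbeats 4000000
set_option synthInstance.maxHeartbeats 400000

namespace Groth.Agent.S14573

open CategoryTheory CategoryTheory.Limits AlgebraicGeometry MonoidalCategory CartesianMonoidalCategory Groth.L07.AdelicInj in
theorem joint {R K A : Type u} [CommRing R] [Field K] [CommRing A] (τ : R →+* K) (α : K →+* A) {ι : Type*}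
    (C : ι → Type u) [∀ i, CommRing (C i)] (φ : ∀ i, A →+* C i) (hφ : ∀ a, (∀ i, φ i a = 0) → a = 0)
    {Tv : ι → Over (Spec (CommRingCat.of R))} (g : ∀ i, Tv i ⟶ Over.mk (Spec.map (CommRingCat.ofHom (α.comp τ))))
    (σ : ∀ i, Spec (CommRingCat.of (C i)) ⟶ (Tv i).left)
    (hσ : ∀ i, σ i ≫ (g i).left = Spec.map (CommRingCat.ofHom (φ i)))
    (G : Over (Spec (CommRingCat.of R))) (haff : IsAffine (pullback G.hom (Spec.map (CommRingCat.ofHom τ)) : Scheme.{u}))
    (Z : Over (Spec (CommRingCat.of R))) [IsAffine Z.left]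
    (h h' : G ⊗ Over.mk (Spec.map (CommRingCat.ofHom (α.comp τ))) ⟶ Z)
    (heq : ∀ i, (G ◁ g i) ≫ h = (G ◁ g i) ≫ h') : h = h' := by
  haveI := haff
  let TA := Over.mk (Spec.map (CommRingCat.ofHom (α.comp τ)))
  have hb : IsPullback (fst G TA).left (snd G TA).left G.hom TA.hom := IsPullback.of_hasPullback _ _
  have hc : TA.hom = Spec.map (CommRingCat.ofHom α) ≫ Spec.map (CommRingCat.ofHom τ) := by
    rw [← Spec.map_comp]; rfl
  let pX : (G ⊗ TA).left ⟶ pullback G.hom (Spec.map (CommRingCat.ofHom τ)) :=
    pullback.lift (fst G TA).left ((snd G TA).left ≫ Spec.map (CommRingCat.ofHom α))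
      (by rw [hb.w, hc, Category.assoc])
  have hP : IsPullback pX (snd G TA).left (pullback.snd _ _) (Spec.map (CommRingCat.ofHom α)) :=
    IsPullback.of_right (by rw [pullback.lift_fst, ← hc]; exact hb) (pullback.lift_snd _ _ _)
      (IsPullback.of_hasPullback G.hom (Spec.map (CommRingCat.ofHom τ)))
  refine Over.OverMorphism.ext (eq_of_base_changes α C φ hφ (pullback.snd _ _) pX (snd G TA).left hP h.left h'.left
    fun i Q q r hq => ?_)
  let q' : Q ⟶ (G ⊗ Tv i).left := pullback.lift (q ≫ (fst G TA).left) (r ≫ σ i) (by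
    rw [Category.assoc, hb.w, ← Category.assoc, hq, Category.assoc, Category.assoc, ← Over.w (g i),
      reassoc_of% (hσ i)])
  have hq' : q' ≫ (G ◁ g i).left = q := by
    apply hb.hom_ext
    · rw [Category.assoc, ← Over.comp_left, whiskerLeft_fst]
      exact pullback.lift_fst _ _ _
    · rw [Category.assoc, ← Over.comp_left, whiskerLeft_snd, Over.comp_left, ← Category.assoc]
      show (q' ≫ pullback.snd _ _) ≫ _ = _
      rw [pullback.lift_snd, Category.assoc, hσ, hq]
  have e := congrArg (fun t : G ⊗ Tv i ⟶ Z => q' ≫ t.left) (heq i)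
  simp only [Over.comp_left, reassoc_of% hq'] at e
  exact e


open CategoryTheory AlgebraicGeometry in
/-- Let K be a global function field with finite constant field Fq (every element of K having finitely
many poles), A_K its adele ring, S a finite nonempty set of places, O_S the ring of S-integers and 𝒢
a flat, separated commutative O_S-group scheme of finite type (an O_S-model of its generic fibre).
Assume the generic fibre 𝒢_K is affine. Then the map H^0(A_K, 𝒢^) → ∏_v H^0(K_v, 𝒢^) induced by the
projections A_K → K_v is injective: a character of 𝒢 defined over A_K that is trivial over every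
completion K_v is trivial; here 𝒢^ is the dual sheaf of 𝒢 (internal Hom from its sheaf of points
into the multiplicative group on the big fppf site of Spec O_S) and H^0 its degree-0 cohomology over
Spec A_K and Spec K_v. -/
theorem result (Fq : Type u) [Field Fq] [Finite Fq] (K : Type u) [Field K] [Algebra (RatFunc Fq) K] [FunctionField Fq K]
    [Algebra Fq K] [IsScalarTower Fq (RatFunc Fq) K] [AdFn.HasFinitePoles Fq K]
    (S : Set (FunFld.Place Fq K)) (hS : S.Finite) (hne : S.Nonempty)
    (𝒢 : Over (Spec (CommRingCat.of (AdFn.SInt S)))) [GrpObj 𝒢] [IsCommMonObj 𝒢]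
    [Flat 𝒢.hom] [IsSeparated 𝒢.hom] [LocallyOfFiniteType 𝒢.hom] [QuasiCompact 𝒢.hom]
    (haff : IsAffine ↑(Limits.pullback 𝒢.hom (Spec.map (CommRingCat.ofHom (AdFn.SInt.toK S))))) :
    Function.Injective (AdFn.locProdS Scheme.fppfPrecoverage S (CGrpSh2.dualSh Scheme.fppfPrecoverage (CGrpSh.pts Scheme.fppfPrecoverage 𝒢)) 0) := by
  rw [injective_iff_map_eq_zero]
  intro x hx
  haveI : IsAffine (Red.Gm (Spec (CommRingCat.of (AdFn.SInt S)))).left := by
    show IsAffine (Limits.pullback _ _)
    haveI : IsAffine (Red.diag (ULift.{u} ℤ) ℤ).left := inferInstanceAs (IsAffine (Spec _))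
    infer_instance
  refine Groth.L07.AdelicInj.eq_zero_of_resHU Scheme.fppfPrecoverage _
    (fun v : FunFld.Place Fq K => AdFn.adProjSHom S v) (fun s hs => ?_) x (fun v => congrFun hx v)
  refine Groth.L07.AdelicInj.char_eq_zero Scheme.fppfPrecoverage 𝒢 _ _ (fun h h' heq => ?_) s hs
  exact joint (AdFn.SInt.toK S) (AdFn.AdeleRing.diag (k := Fq) (K := K)) (fun v : FunFld.Place Fq K => AdFn.Kv v)
    (fun v => AdFn.AdeleRing.proj v) (fun a ha => Subtype.ext (funext fun v => ha v))
    (fun v => AdFn.adProjSHom S v) (fun v => 𝟙 _) (fun v => Category.id_comp _) 𝒢 haff _ h h' heq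

end Groth.Agent.S14573
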