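import Groth.Statements.S14576
import Groth.Agent.L08.AffHull.AntiAffine
import Groth.Agent.L08.AffHull.Crit
import Groth.Agent.L08.AbelianGrp
import Mathlib.AlgebraicGeometry.Morphisms.FlatMono

set_option autoImplicit false
set_option backward.isDefEq.respectTransparency.types false
set_option backward.isDefEq.respectTransparency false
set_option linter.style.haveILetI false
universe u
open CategoryTheory MonoidalCategory CartesianMonoidalCategory MonObj GrpObj AlgebraicGeometry CategoryTheory.Limits
open AlgGrp

namespace Groth.Agent.S14576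

/-- Let k be a field and G a k-group scheme of finite type acting on an affine k-scheme X. If the action
is faithful, in the sense that for every k-scheme T a T-valued point of G acting as the identity on
X_T is the unit, then G is affine. -/
theorem result (k : Type u) [Field k]
    (G X : Over (Spec (CommRingCat.of k))) [GrpObj G] [LocallyOfFiniteType G.hom] [QuasiCompact G.hom] [IsAffine X.left]
    (a : AlgGrp.Action G X)
    (hf : ∀ (T : Over (Spec (CommRingCat.of k))) (g : T ⟶ G),
      (∀ (T' : Over (Spec (CommRingCat.of k))) (t : T' ⟶ T) (x : T' ⟶ X), lift (t ≫ g) x ≫ a.act = x) → g = 1) :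
    IsAffine G.left := by
  haveI := Groth.L08.AffHull.compactSpace (G := G)
  haveI := Groth.L08.AffHull.quasiSeparatedSpace (G := G)
  let ρ := Groth.L08.AffHull.rho G
  obtain ⟨hlft, hs, hfl, hlfp⟩ := Groth.L08.AffHull.hull_props (G := G)
  haveI := hlft
  obtain ⟨N, gN, i, hi, hic, -, sq⟩ := Groth.L08.AbelianGrp.exists_kernel ρ
  haveI := hi
  haveI := hic
  haveI : LocallyOfFiniteType N.hom := by rw [← Over.w i]; infer_instance
  haveI : QuasiCompact N.hom := by rw [← Over.w i]; infer_instance
  haveI := Groth.L08.AffHull.compactSpace (G := N)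
  haveI := Groth.L08.AffHull.quasiSeparatedSpace (G := N)
  have hO := Groth.L08.AffHull.isIso_appTop_kernel i sq
  have hρN := Groth.L08.AffHull.rho_eq_one (G := N) hO
  have htriv : (i ▷ X) ≫ a.act = snd N X := by
    obtain ⟨h, hh⟩ := Groth.L08.AffHull.desc_right N ((i ▷ X) ≫ a.act)
    rw [hρN, Hom.one_def, comp_whiskerRight, Category.assoc] at hh
    have h1 : (η[Groth.L08.AffHull.hull N] ▷ X) ≫ h = (λ_ X).hom := by
      have h2 : (η[N] ▷ X) ≫ (i ▷ X) ≫ a.act = (λ_ X).hom := by
        rw [← comp_whiskerRight_assoc, IsMonHom.one_hom, a.one_act]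
      rw [← hh, ← comp_whiskerRight_assoc, toUnit_unique (η[N] ≫ toUnit N) (𝟙 _), id_whiskerRight,
        Category.id_comp] at h2
      exact h2
    rw [← hh, h1, leftUnitor_hom, whiskerRight_snd]
  have hi1 : i = 1 := hf N i fun T' t x => by
    rw [← lift_whiskerRight_assoc, htriv, lift_snd]
  haveI : Mono ρ := Groth.L08.AbelianGrp.mono_of_kernel ρ i sq hi1
  haveI : Mono ρ.left := inferInstanceAs (Mono ((Over.forget _).map ρ))
  haveI : Flat ρ.left := hfl
  haveI : LocallyOfFinitePresentation ρ.left := hlfp
  haveI : IsOpenImmersion ρ.left := IsOpenImmersion.of_flat_of_mono ρ.left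
  haveI : IsIso ρ.left := (isIso_iff_isOpenImmersion_and_surjective _).2 ⟨inferInstance, hs⟩
  exact IsAffine.of_isIso ρ.left

end Groth.Agent.S14576
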