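import Groth.Statements.S14579
import Groth.Agent.L08.DescActionConn

set_option autoImplicit false
set_option backward.isDefEq.respectTransparency.types false
set_option linter.style.haveILetI false
universe u
open CategoryTheory MonoidalCategory CartesianMonoidalCategory MonObj GrpObj AlgebraicGeometry CategoryTheory.Limits
open AlgGrp

namespace Groth.Agent.S14579

/-- Let k be a field, G a connected k-group scheme of finite type, X and Y separated k-schemes of finite
type, and f : X → Y a proper k-morphism such that O_Y → f_*O_X is an isomorphism (on sections over
every open subset of Y). For every action of G on X there is a unique action of G on Y for which f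
is equivariant. No hypothesis on k and no smoothness of G are assumed. -/
theorem result (k : Type u) [Field k]
    (G X Y : Over (Spec (CommRingCat.of k))) [GrpObj G] [LocallyOfFiniteType G.hom] [QuasiCompact G.hom]
    [ConnectedSpace ↥G.left] [LocallyOfFiniteType X.hom] [QuasiCompact X.hom] [IsSeparated X.hom]
    [LocallyOfFiniteType Y.hom] [QuasiCompact Y.hom] [IsSeparated Y.hom]
    (f : X ⟶ Y) [IsProper f.left] (hf : ∀ U : Y.left.Opens, IsIso (f.left.app U))
    (a : AlgGrp.Action G X) :
    ∃! b : AlgGrp.Action G Y, (G ◁ f) ≫ b.act = a.act ≫ f := by
  exact Groth.L08.DescAction.existsUnique_action f hf a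
    (fun p q h => Groth.L08.DescAction.fibres_respected f hf a p q h)

end Groth.Agent.S14579
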