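import Groth.Statements.S14580
import Groth.Agent.L08.AffHull.AntiAffine
import Groth.Agent.L08.AffHull.Smooth
import Groth.Agent.L08.AffHull.FiniteType
import Mathlib.AlgebraicGeometry.Artinian
-- import your own Groth.Agent.* helpers here

set_option autoImplicit false
set_option backward.isDefEq.respectTransparency.types false
set_option linter.style.haveILetI false
universe u
open CategoryTheory MonoidalCategory CartesianMonoidalCategory MonObj GrpObj AlgebraicGeometry CategoryTheory.Limits
open AlgGrp

namespace Groth.Agent.S14580

/-- Let k be a field, G a proper k-group scheme of finite type and N ⊆ G the kernel of the affinization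
morphism G → Spec O(G), i.e. the fibre over the image of the unit section (the largest anti-affine
subgroup scheme of G). Then the image of N in G is the connected component of the identity: as N is
smooth, N is the reduced neutral component G⁰_red, which is therefore a smooth connected algebraic
group. -/
theorem result (k : Type u) [Field k]
    (G : Over (Spec (CommRingCat.of k))) [GrpObj G] [IsProper G.hom] (t : ↥((𝟙_ (Over (Spec (CommRingCat.of k)))).left)) :
    Set.range ⇑(pullback.fst G.left.toSpecΓ (η[G].left ≫ G.left.toSpecΓ)).base = connectedComponent ((η[G]).left.base t) := by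
  haveI := Groth.L08.AffHull.compactSpace (G := G)
  haveI := Groth.L08.AffHull.quasiSeparatedSpace (G := G)
  let H := Groth.L08.AffHull.hull G
  let ρ := Groth.L08.AffHull.rho G
  obtain ⟨_, _, _, _⟩ := Groth.L08.AffHull.hull_props (G := G)
  haveI : IsSeparated H.hom := inferInstance
  haveI : UniversallyClosed H.hom := by
    haveI : UniversallyClosed (ρ.left ≫ H.hom) := by rw [Over.w ρ]; infer_instance
    exact UniversallyClosed.of_comp_surjective ρ.left H.hom
  haveI : IsProper H.hom := ⟨⟩
  haveI : IsFinite H.hom := IsFinite.iff_isProper_and_isAffineHom.2 ⟨inferInstance, inferInstance⟩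
  haveI : IsLocallyArtinian H.left := IsLocallyArtinian.of_locallyQuasiFinite H.hom
  haveI : DiscreteTopology H.left := IsLocallyArtinian.discreteTopology (X := H.left)
  let e : G.left := η[G].left t
  have hr : Set.range ⇑(CategoryTheory.Limits.pullback.fst G.left.toSpecΓ (η[G].left ≫ G.left.toSpecΓ)).base =
      ρ.left ⁻¹' {ρ.left e} := by
    refine (AlgebraicGeometry.Scheme.Pullback.range_fst G.left.toSpecΓ (η[G].left ≫ G.left.toSpecΓ)).trans ?_
    congr 1
    ext x
    constructor
    · rintro ⟨s, rfl⟩
      exact congrArg (fun s => ρ.left (η[G].left s)) (@Subsingleton.elim (PrimeSpectrum k) _ _ _)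
    · rintro rfl
      exact ⟨t, rfl⟩
  rw [hr]
  refine Set.Subset.antisymm ?_ (IsClopen.connectedComponent_subset
    ⟨(isClosed_discrete _).preimage ρ.left.continuous, (isOpen_discrete _).preimage ρ.left.continuous⟩ rfl)
  obtain ⟨C, gC, i, _, _, -, sq⟩ := Groth.L08.AbelianGrp.exists_kernel ρ
  haveI : IsProper C.hom := by rw [← Over.w i]; infer_instance
  have hO := Groth.L08.AffHull.isIso_appTop_kernel i sq
  haveI : ConnectedSpace C.left := Groth.L08.AffHull.connectedSpace_of_antiAffine C hO
  have hrC : Set.range i.left = ρ.left ⁻¹' {ρ.left e} := by
    have h1 : Set.range i.left = Set.range (CategoryTheory.Limits.pullback.fst ρ.left η[H].left) := by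
      have e1 := (sq.map (Over.forget _)).isoPullback_hom_fst
      rw [show i.left = _ from e1.symm]
      simp only [Scheme.Hom.comp_base]
      exact Function.Surjective.range_comp (sq.map (Over.forget _)).isoPullback.hom.homeomorph.surjective _
    refine h1.trans ((AlgebraicGeometry.Scheme.Pullback.range_fst _ _).trans ?_)
    congr 1
    ext x
    have he : η[H].left t = ρ.left e := (congr(($(IsMonHom.one_hom (f := ρ))).left t)).symm
    constructor
    · rintro ⟨s, rfl⟩
      exact (congrArg η[H].left (@Subsingleton.elim (PrimeSpectrum k) _ s t)).trans he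
    · rintro rfl
      exact ⟨t, he⟩
  rw [← hrC]
  exact (isConnected_range i.left.continuous).subset_connectedComponent (hrC.symm.subset rfl)

end Groth.Agent.S14580
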