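import Groth.Statements.S14582
import Groth.Agent.L08.AffHull.Crit
import Groth.Agent.L08.AffHull.Smooth
import Groth.Agent.L08.Albanese.EtaleDescent
import Groth.Agent.L08.Albanese.AbSub
import Groth.Agent.L08.NormalQuot.Affine
import Groth.Agent.L25.SplitSub.Rank
import Groth.Agent.S3293

set_option autoImplicit false
set_option backward.isDefEq.respectTransparency.types false
set_option linter.style.haveILetI false
universe u
open CategoryTheory MonoidalCategory CartesianMonoidalCategory MonObj GrpObj AlgebraicGeometry CategoryTheory.Limits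
open AlgGrp
open Groth.L08

namespace Groth.Agent.S14582

variable {k : Type u} [Field k]

theorem isIso_of_affine {X Y : Scheme.{u}} (f : X ⟶ Y) [IsAffine X] [IsAffine Y] [h : IsIso f.appTop] : IsIso f := by
  have e : f = X.isoSpec.hom ≫ Spec.map f.appTop ≫ Y.isoSpec.inv := by
    rw [Scheme.isoSpec_hom_naturality_assoc, Iso.hom_inv_id, Category.comp_id]
  rw [e]
  infer_instance

/-- The anti-affine part of a group mapping onto an abelian variety still maps onto it. -/
theorem surjective_antiAffinePart {H A C : Over (Spec (CommRingCat.of k))} [GrpObj H] [GrpObj A] [GrpObj C]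
    [LocallyOfFiniteType H.hom] [QuasiCompact H.hom] [IsProper A.hom] [GeometricallyIntegral A.hom]
    (f : H ⟶ A) [IsMonHom f] [Surjective f.left] (c : C ⟶ H) [IsMonHom c] [IsClosedImmersion c.left]
    [CompactSpace H.left] [QuasiSeparatedSpace H.left] (sq : AlgGrp.IsKernel c (AffHull.rho H)) :
    Surjective (c ≫ f).left := by
  haveI : LocallyOfFiniteType C.hom := by rw [← Over.w c]; infer_instance
  haveI : QuasiCompact C.hom := by rw [← Over.w c]; infer_instance
  haveI : IsCommMonObj A := isCommMonObj_of_isProper_of_geometricallyIntegral A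
  obtain ⟨D, gD, p, d, _, _, hpd, _, hps, _, _⟩ := AbelianGrp.exists_image (c ≫ f)
  obtain ⟨Q, gQ, π, _, _, _, _, _, _, -, sqQ⟩ := AbelianGrp.exists_quotient d
  obtain ⟨_, _⟩ := Albanese.abelian_of_cover π
  obtain ⟨_, _, _, _⟩ := AffHull.hull_props (G := H)
  have hkill : c ≫ f ≫ π = 1 := by
    rw [← Category.assoc, ← hpd, Category.assoc, show d ≫ π = 1 from sqQ.w.trans (Hom.one_def).symm, MonObj.comp_one]
  obtain ⟨ψ, _, hψ, -⟩ := Groth.Agent.S3280.result k H C (AffHull.hull H) Q (AffHull.rho H) c sq (f ≫ π)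
    (by rw [hkill, Hom.one_def])
  haveI : Surjective ψ.left := by
    haveI : Surjective ((AffHull.rho H).left ≫ ψ.left) := by
      rw [← Over.comp_left, hψ, Over.comp_left]; infer_instance
    exact Surjective.of_comp (AffHull.rho H).left ψ.left
  haveI : IsAffine Q.left := NormalQuot.isAffine_of_surjective_hom ψ
  haveI : Nonempty Q.left := ⟨η[Q].left (IsLocalRing.closedPoint k)⟩
  haveI := Albanese.isIso_appTop_of_proper Q.hom
  haveI : IsIso Q.hom := isIso_of_affine Q.hom
  have hπ : π = 1 := by
    refine Over.OverMorphism.ext ?_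
    rw [← cancel_mono Q.hom, Over.w π, Over.w (1 : A ⟶ Q)]
  obtain ⟨z, hz, -⟩ := sqQ.exists_lift (𝟙 A) (toUnit A) (by rw [Category.id_comp, hπ, Hom.one_def])
  haveI : Surjective d.left := ⟨fun a => ⟨z.left a, congr(($hz).left a)⟩⟩
  rw [← hpd, Over.comp_left]
  infer_instance

/-- Surjectivity onto the quotient gives surjectivity of the product with the kernel. -/
theorem surjective_mul {H G A N : Over (Spec (CommRingCat.of k))} [GrpObj G] [GrpObj A] (h : H ⟶ G) (q : G ⟶ A)
    [IsMonHom q] [Surjective (h ≫ q).left] (i : N ⟶ G) (sq : AlgGrp.IsKernel i q) :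
    Surjective ((h ⊗ₘ i) ≫ μ[G]).left ∧ Surjective ((i ⊗ₘ h) ≫ μ[G]).left := by
  let P := pullback (h ≫ q) q
  haveI : Surjective (pullback.snd (h ≫ q) q).left :=
    MorphismProperty.of_isPullback (P := @Surjective) ((IsPullback.of_hasPullback (h ≫ q) q).map (Over.forget _))
      ‹Surjective (h ≫ q).left›
  have hc := pullback.condition (f := h ≫ q) (g := q)
  obtain ⟨n₁, hn₁, -⟩ := sq.exists_lift ((pullback.fst (h ≫ q) q ≫ h)⁻¹ * pullback.snd (h ≫ q) q) (toUnit P)
    (by rw [MonObj.mul_comp, GrpObj.inv_comp, Category.assoc, hc, inv_mul_cancel, Hom.one_def])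
  obtain ⟨n₂, hn₂, -⟩ := sq.exists_lift (pullback.snd (h ≫ q) q * (pullback.fst (h ≫ q) q ≫ h)⁻¹) (toUnit P)
    (by rw [MonObj.mul_comp, GrpObj.inv_comp, Category.assoc, hc, mul_inv_cancel, Hom.one_def])
  constructor
  · haveI : Surjective ((CartesianMonoidalCategory.lift (pullback.fst (h ≫ q) q) n₁).left ≫
        ((h ⊗ₘ i) ≫ μ[G]).left) := by
      rw [← Over.comp_left, lift_map_assoc, ← Hom.mul_def, hn₁, mul_inv_cancel_left]
      infer_instance
    exact Surjective.of_comp (CartesianMonoidalCategory.lift (pullback.fst (h ≫ q) q) n₁).left _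
  · haveI : Surjective ((CartesianMonoidalCategory.lift n₂ (pullback.fst (h ≫ q) q)).left ≫
        ((i ⊗ₘ h) ≫ μ[G]).left) := by
      rw [← Over.comp_left, lift_map_assoc, ← Hom.mul_def, hn₂, inv_mul_cancel_right]
      infer_instance
    exact Surjective.of_comp (CartesianMonoidalCategory.lift n₂ (pullback.fst (h ≫ q) q)).left _

/-- Let k be a field and G a smooth connected k-group scheme of finite type. Let i : N → G be a closed
normal subgroup scheme which is affine and is the kernel of a flat surjective homomorphism q : G → A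
of k-group schemes of finite type with A proper, and let j : M → G be the largest anti-affine
subgroup scheme of G (a closed subgroup scheme of finite type whose only global functions are the
constants, through which every other such subgroup scheme factors). Then G = N · M, in the sense
that the multiplication morphism N × M → G is surjective, and M is the smallest closed subgroup
scheme H of G with G = H · N: whenever the multiplication H × N → G is surjective, M factors through
H. -/
theorem result (k : Type u) [Field k]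
    (G : Over (Spec (CommRingCat.of k))) [GrpObj G] [Smooth G.hom] [QuasiCompact G.hom] [ConnectedSpace ↥G.left]
    (N : Over (Spec (CommRingCat.of k))) [GrpObj N] (i : N ⟶ G) [IsMonHom i] [IsClosedImmersion i.left] [IsAffine N.left]
    (hN : AlgGrp.IsNormalHom i)
    (A : Over (Spec (CommRingCat.of k))) [GrpObj A] [IsProper A.hom]
    (q : G ⟶ A) [IsMonHom q] [Surjective q.left] [Flat q.left] (hq : AlgGrp.IsKernel i q)
    (M : Over (Spec (CommRingCat.of k))) [GrpObj M] [LocallyOfFiniteType M.hom] [QuasiCompact M.hom] (j : M ⟶ G) [IsMonHom j] [IsClosedImmersion j.left]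
    (hM : Function.Bijective ((Scheme.ΓSpecIso (CommRingCat.of k)).inv ≫ M.hom.appTop).hom)
    (hMmax : ∀ (M' : Over (Spec (CommRingCat.of k))) [GrpObj M'] [LocallyOfFiniteType M'.hom] [QuasiCompact M'.hom] (j' : M' ⟶ G) [IsMonHom j'] [IsClosedImmersion j'.left],
      Function.Bijective ((Scheme.ΓSpecIso (CommRingCat.of k)).inv ≫ M'.hom.appTop).hom → ∃ g : M' ⟶ M, g ≫ j = j') :
    Surjective ((i ⊗ₘ j) ≫ μ[G]).left ∧
      ∀ (H : Over (Spec (CommRingCat.of k))) [GrpObj H] (h : H ⟶ G) [IsMonHom h] [IsClosedImmersion h.left],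
        Surjective ((h ⊗ₘ i) ≫ μ[G]).left → ∃ g : M ⟶ H, g ≫ h = j := by
  haveI hA : GeometricallyIntegral A.hom := by
    haveI : IsLocallyNoetherian A.left := LocallyOfFiniteType.isLocallyNoetherian A.hom
    haveI : LocallyOfFiniteType q.left := by
      haveI : LocallyOfFiniteType (q.left ≫ A.hom) := by rw [Over.w q]; infer_instance
      exact locallyOfFiniteType_of_comp q.left A.hom
    haveI : LocallyOfFinitePresentation q.left := LocallyOfFinitePresentation.iff_locallyOfFiniteType.2 ‹_›
    haveI hs : Smooth (q.left ≫ A.hom) := by rw [Over.w q]; infer_instance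
    haveI : Smooth A.hom := Groth.L23.FppfSmooth.smooth_of_fppf_comp q.left A.hom hs
    haveI : ConnectedSpace A.left := q.left.surjective.connectedSpace q.left.continuous
    exact Albanese.geometricallyIntegral_of_smooth A
  haveI := AffHull.compactSpace (G := G)
  haveI := AffHull.quasiSeparatedSpace (G := G)
  have part : ∀ (H : Over (Spec (CommRingCat.of k))) [GrpObj H] (h : H ⟶ G) [IsMonHom h] [IsClosedImmersion h.left],
      Surjective (h ≫ q).left → ∃ (C : Over (Spec (CommRingCat.of k))) (_ : GrpObj C) (c : C ⟶ H) (g₀ : C ⟶ M),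
        IsMonHom c ∧ IsClosedImmersion c.left ∧ g₀ ≫ j = c ≫ h ∧ Surjective (g₀ ≫ j ≫ q).left := by
    intro H _ h _ _ hs
    haveI : LocallyOfFiniteType H.hom := by rw [← Over.w h]; infer_instance
    haveI : QuasiCompact H.hom := by rw [← Over.w h]; infer_instance
    haveI := AffHull.compactSpace (G := H)
    haveI := AffHull.quasiSeparatedSpace (G := H)
    obtain ⟨C, gC, c, _, _, -, sq⟩ := AbelianGrp.exists_kernel (AffHull.rho H)
    haveI : LocallyOfFiniteType C.hom := by rw [← Over.w c]; infer_instance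
    haveI : QuasiCompact C.hom := by rw [← Over.w c]; infer_instance
    haveI : IsClosedImmersion (c ≫ h).left := inferInstanceAs (IsClosedImmersion (c.left ≫ h.left))
    obtain ⟨g₀, hg₀⟩ := hMmax C (c ≫ h) ((AffHull.bijective_iff_isIso C).2 (AffHull.isIso_appTop_kernel c sq))
    refine ⟨C, gC, c, g₀, inferInstance, inferInstance, hg₀, ?_⟩
    rw [reassoc_of% hg₀]
    exact surjective_antiAffinePart (h ≫ q) c sq
  refine ⟨?_, fun H _ h _ _ hsurj => ?_⟩
  · haveI : IsClosedImmersion (𝟙 G : G ⟶ G).left := inferInstanceAs (IsClosedImmersion (𝟙 G.left))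
    obtain ⟨C, _, c, g₀, _, _, -, hs⟩ := part G (𝟙 G) (by rw [Category.id_comp]; infer_instance)
    haveI := hs
    haveI : Surjective (g₀.left ≫ (j ≫ q).left) := by rw [← Over.comp_left]; exact hs
    haveI : Surjective (j ≫ q).left := Surjective.of_comp g₀.left _
    exact (surjective_mul j q i hq).2
  have hi : i ≫ q = 1 := hq.w.trans (Hom.one_def).symm
  have hs : Surjective (h ≫ q).left := by
    haveI := hsurj
    haveI h1 : Surjective (((h ⊗ₘ i) ≫ μ[G]) ≫ q).left := by rw [Over.comp_left]; infer_instance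
    haveI : Surjective ((fst H N).left ≫ (h ≫ q).left) := by
      rw [← Over.comp_left]
      have e : ((h ⊗ₘ i) ≫ μ[G]) ≫ q = fst H N ≫ h ≫ q := by
        rw [show (h ⊗ₘ i) = CartesianMonoidalCategory.lift (fst H N ≫ h) (snd H N ≫ i) from (lift_fst_comp_snd_comp h i).symm]
        rw [← Hom.mul_def, MonObj.mul_comp, Category.assoc, Category.assoc, hi, MonObj.comp_one, _root_.mul_one]
      rw [← e]
      exact h1
    exact Surjective.of_comp (fst H N).left _
  obtain ⟨C, gC, c, g₀, _, _, hg₀, hs₀⟩ := part H h hs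
  haveI : Mono j := Over.mono_of_mono_left j
  haveI : IsMonHom g₀ := Groth.L25.SplitSub.isMonHom_of_comp_mono g₀ j (by rw [hg₀]; infer_instance)
  haveI : IsClosedImmersion g₀.left := by
    haveI : IsClosedImmersion (g₀.left ≫ j.left) := by
      rw [← Over.comp_left, hg₀, Over.comp_left]; infer_instance
    exact IsClosedImmersion.of_comp g₀.left j.left
  haveI : IsCommMonObj M := (Groth.Agent.S3293.result k M hM).2
  obtain ⟨Q, gQ, r, _, _, _, _, _, _, -, sqr⟩ := AbelianGrp.exists_quotient g₀
  obtain ⟨NM, gNM, nm, _, _, -, sqNM⟩ := AbelianGrp.exists_kernel (j ≫ q)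
  haveI : LocallyOfFiniteType NM.hom := by rw [← Over.w nm]; infer_instance
  haveI : Mono i := Over.mono_of_mono_left i
  obtain ⟨z, hz, -⟩ := hq.exists_lift (nm ≫ j) (toUnit NM) (by rw [Category.assoc]; exact sqNM.w)
  haveI : IsAffine NM.left := by
    haveI : IsClosedImmersion z.left := by
      haveI : IsClosedImmersion (z.left ≫ i.left) := by
        rw [← Over.comp_left, hz, Over.comp_left]; infer_instance
      exact IsClosedImmersion.of_comp z.left i.left
    exact isAffine_of_isAffineHom z.left
  haveI := hs₀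
  haveI : Surjective (g₀ ≫ (j ≫ q)).left := hs₀
  obtain ⟨hm, -⟩ := surjective_mul g₀ (j ≫ q) nm sqNM
  haveI := hm
  have hg₀r : g₀ ≫ r = 1 := sqr.w.trans (Hom.one_def).symm
  haveI : Surjective (nm ≫ r).left := by
    haveI : Surjective ((snd C NM).left ≫ (nm ≫ r).left) := by
      have e : ((g₀ ⊗ₘ nm) ≫ μ[M]) ≫ r = snd C NM ≫ nm ≫ r := by
        rw [show (g₀ ⊗ₘ nm) = CartesianMonoidalCategory.lift (fst C NM ≫ g₀) (snd C NM ≫ nm) from (lift_fst_comp_snd_comp g₀ nm).symm]
        rw [← Hom.mul_def, MonObj.mul_comp, Category.assoc, Category.assoc, hg₀r, MonObj.comp_one, _root_.one_mul]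
      rw [← Over.comp_left, ← e, Over.comp_left]
      infer_instance
    exact Surjective.of_comp (snd C NM).left _
  haveI : IsAffine Q.left := NormalQuot.isAffine_of_surjective_hom (nm ≫ r)
  haveI : Epi r.left := inferInstance
  haveI := AffHull.isIso_appTop_of_cover r η[Q] ((AffHull.bijective_iff_isIso M).1 hM)
  haveI : IsIso Q.hom := isIso_of_affine Q.hom
  obtain ⟨t, ht, -⟩ := sqr.exists_lift (𝟙 M) (toUnit M) (by
    refine Over.OverMorphism.ext ?_
    rw [← cancel_mono Q.hom, Over.w, Over.w])
  exact ⟨t ≫ c, by rw [Category.assoc, ← hg₀, reassoc_of% ht]⟩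

end Groth.Agent.S14582
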