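import Groth.Statements.S14583
import Groth.Agent.L08.SmallNorm.PureInsep
-- import your own Groth.Agent.* helpers here

set_option autoImplicit false
set_option backward.isDefEq.respectTransparency.types false
set_option linter.style.haveILetI false
universe u
open CategoryTheory MonoidalCategory CartesianMonoidalCategory MonObj GrpObj AlgebraicGeometry CategoryTheory.Limits
open AlgGrp

namespace Groth.Agent.S14583

/-- Let k ⊆ K be a finite purely inseparable field extension, G a k-group scheme of finite type and h' :
H' → G_K a closed subgroup scheme of the base change of G to K. Then there is a closed subgroup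
scheme h : H → G over k such that H' factors through the base change H_K → G_K by a morphism H' →
H_K which is surjective. (The published statement concludes that H' ⊆ H_K with H_K/H' finite; the
subgroup H produced by its proof, a Frobenius pull-back, has H_K with the same underlying space as
H', which is the form stated here.) -/
theorem result (k K : Type u) [Field k] [Field K] [Algebra k K]
    [Module.Finite k K] [IsPurelyInseparable k K]
    (G : Over (Spec (CommRingCat.of k))) [GrpObj G] [LocallyOfFiniteType G.hom] [QuasiCompact G.hom]
    (H' : Over (Spec (CommRingCat.of K))) [GrpObj H']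
    (h' : H' ⟶ Red.bc (Spec.map (CommRingCat.ofHom (algebraMap k K))) G) [IsMonHom h'] [IsClosedImmersion h'.left] :
    ∃ (H : Over (Spec (CommRingCat.of k))) (_ : GrpObj H) (h : H ⟶ G), IsMonHom h ∧ IsClosedImmersion h.left ∧
      ∃ g : H' ⟶ Red.bc (Spec.map (CommRingCat.ofHom (algebraMap k K))) H, g ≫ (Over.pullback (Spec.map (CommRingCat.ofHom (algebraMap k K)))).map h = h' ∧ Surjective g.left := by
  obtain ⟨q, hq⟩ := ExpChar.exists k
  cases hq with
  | zero =>
    haveI : IsIso (AbVar.ext k K) := by
      have hs : Function.Surjective (algebraMap k K) := fun x => by
        obtain ⟨n, hn⟩ := IsPurelyInseparable.pow_mem k 1 x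
        simpa using hn
      haveI : IsIso (CommRingCat.ofHom (algebraMap k K)) :=
        inferInstanceAs (IsIso (RingEquiv.ofBijective (algebraMap k K) ⟨(algebraMap k K).injective, hs⟩).toCommRingCatIso.hom)
      show IsIso (Spec.map _)
      infer_instance
    exact Groth.L08.SmallNorm.exists_subgroup_of_isIso h'
  | prime hp =>
    haveI : Fact q.Prime := ⟨hp⟩
    haveI : CharP K q := charP_of_injective_algebraMap (algebraMap k K).injective q
    obtain ⟨n, d, hde, hed⟩ := Groth.L08.SmallNorm.exists_frob_factor₂ (k := k) (K := K) q
    exact Groth.L08.SmallNorm.exists_subgroup_frob d hde hed h'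

end Groth.Agent.S14583
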