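import Groth.Statements.S14586
import Groth.Agent.L19.AlgGrpBasic.OrbitDim

set_option autoImplicit false
set_option backward.isDefEq.respectTransparency.types false
set_option backward.isDefEq.respectTransparency false
set_option linter.style.haveILetI false
universe u
open CategoryTheory MonoidalCategory CartesianMonoidalCategory MonObj GrpObj AlgebraicGeometry CategoryTheory.Limits
open AlgGrp

namespace Groth.Agent.S14586
open Groth.L19.AlgGrpBasic

/-- Let k be an algebraically closed field, G a smooth k-group scheme of finite type and X a non-empty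
separated k-scheme of finite type with an action of G. Then there is a rational point x of X whose
orbit, the image of the orbit map g ↦ g · x, is closed in X. -/
theorem result (k : Type u) [Field k] [IsAlgClosed k]
    (G X : Over (Spec (CommRingCat.of k))) [GrpObj G] [Smooth G.hom] [QuasiCompact G.hom]
    [LocallyOfFiniteType X.hom] [QuasiCompact X.hom] [IsSeparated X.hom] [Nonempty ↥X.left]
    (a : AlgGrp.Action G X) :
    ∃ x : 𝟙_ (Over (Spec (CommRingCat.of k))) ⟶ X, IsClosed (Set.range ⇑(a.orbitMap x).left.base) := by
  haveI := LocallyOfFiniteType.jacobsonSpace X.hom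
  haveI := noetherianSpace_left (X := X)
  obtain ⟨p, -, hpc⟩ := nonempty_inter_closedPoints (Set.univ_nonempty (α := X.left)) isClosed_univ.isLocallyClosed
  obtain ⟨x₀, -⟩ := exists_point_of_closed hpc
  obtain ⟨Z, ⟨x, rfl⟩, hmin⟩ := WellFounded.has_min (wellFounded_lt (α := TopologicalSpace.Closeds X.left))
    (Set.range fun x : 𝟙_ (Over (Spec (CommRingCat.of k))) ⟶ X =>
      (⟨closure (Set.range (a.orbitMap x).left), isClosed_closure⟩ : TopologicalSpace.Closeds X.left)) ⟨_, x₀, rfl⟩
  refine ⟨x, ?_⟩
  by_contra hnc
  have hBne : (closure (Set.range (a.orbitMap x).left) \ Set.range (a.orbitMap x).left).Nonempty := by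
    rw [Set.sdiff_nonempty]
    exact fun h => hnc (isClosed_of_closure_subset h)
  obtain ⟨q, hq, hqc⟩ := nonempty_inter_closedPoints hBne (isClosed_boundary a x).isLocallyClosed
  obtain ⟨y, rfl⟩ := exists_point_of_closed hqc
  have hsub : closure (Set.range (a.orbitMap y).left) ⊆
      closure (Set.range (a.orbitMap x).left) \ Set.range (a.orbitMap x).left :=
    closure_minimal (orbit_subset_boundary a x y hq) (isClosed_boundary a x)
  refine hmin _ ⟨y, rfl⟩ (SetLike.coe_ssubset_coe.1 ⟨hsub.trans Set.sdiff_subset, fun h => ?_⟩)
  have hx : (a.orbitMap x).left ((1 : 𝟙_ (Over (Spec (CommRingCat.of k))) ⟶ G).left (IsLocalRing.closedPoint k)) ∈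
      Set.range (a.orbitMap x).left := ⟨_, rfl⟩
  exact (hsub (h (subset_closure hx))).2 hx

end Groth.Agent.S14586
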