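import Groth.Statements.S14587
import Groth.Agent.L19.AlgGrpBasic.Descent
import Groth.Agent.L25.Actions
import Groth.Prelude.Def_ChGrp
import Mathlib.AlgebraicGeometry.Morphisms.QuasiFinite
import Mathlib.AlgebraicGeometry.Artinian
import Mathlib.Topology.Separation.Connected
import Mathlib.AlgebraicGeometry.Morphisms.FlatMono

set_option autoImplicit false
set_option backward.isDefEq.respectTransparency.types false
set_option backward.isDefEq.respectTransparency false
set_option linter.style.haveILetI false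
universe u
open CategoryTheory CategoryTheory.Limits MonoidalCategory CartesianMonoidalCategory MonObj GrpObj AlgebraicGeometry CategoryTheory.Limits
open AlgGrp

namespace Groth.Agent.S14587
open Groth.L19.AlgGrpBasic

/-- Let k be a perfect field and G a finite k-group scheme, r : G_red → G its reduced subgroup scheme (a
homomorphism and closed immersion from a reduced k-group scheme, surjective on underlying spaces)
and i₀ : G⁰ → G its neutral component (a homomorphism and open immersion from a connected k-group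
scheme). Then the multiplication morphism G_red × G⁰ → G is an isomorphism, exhibiting G as the
semi-direct product of G⁰ by G_red. -/
theorem result (k : Type u) [Field k] [PerfectField k]
    (G Gr G₀ : Over (Spec (CommRingCat.of k))) [GrpObj G] [GrpObj Gr] [GrpObj G₀] [IsFinite G.hom]
    (r : Gr ⟶ G) [IsMonHom r] [IsClosedImmersion r.left] [IsReduced Gr.left] [Surjective r.left]
    (i₀ : G₀ ⟶ G) [IsMonHom i₀] [IsOpenImmersion i₀.left] [ConnectedSpace ↥G₀.left] :
    IsIso ((r ⊗ₘ i₀) ≫ μ[G]) := by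
  haveI : LocallyOfFiniteType G.hom := inferInstance
  haveI : LocallyOfFiniteType Gr.hom := by rw [← Over.w r]; infer_instance
  haveI : IsLocallyNoetherian G.left := LocallyOfFiniteType.isLocallyNoetherian G.hom
  haveI : Mono i₀ := Over.mono_of_mono_left i₀
  haveI : Mono r := Over.mono_of_mono_left r
  haveI : IsLocallyArtinian G.left := IsLocallyArtinian.of_locallyQuasiFinite (f := G.hom)
  haveI : DiscreteTopology G.left := inferInstance
  haveI : DiscreteTopology G₀.left := DiscreteTopology.of_continuous_injective i₀.left.continuous i₀.left.isEmbedding.injective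
  haveI : Subsingleton G₀.left := _root_.PreconnectedSpace.trivial_of_discrete
  let e₀ : 𝟙_ (Over (Spec (CommRingCat.of k))) ⟶ Gr := η[Gr]
  let P : Over (Spec (CommRingCat.of k)) := Over.mk ((r.left ⁻¹ᵁ i₀.left.opensRange).ι ≫ Gr.hom)
  have he : Set.range e₀.left ⊆ r.left ⁻¹' Set.range i₀.left := by
    rintro _ ⟨t, rfl⟩
    refine ⟨(η[G₀]).left t, ?_⟩
    have h : η[G₀] ≫ i₀ = e₀ ≫ r := by rw [IsMonHom.one_hom, IsMonHom.one_hom]
    exact congr(($h).left t)
  obtain ⟨eP, heP⟩ : ∃ eP : 𝟙_ (Over (Spec (CommRingCat.of k))) ⟶ P,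
      eP ≫ (Over.homMk (r.left ⁻¹ᵁ i₀.left.opensRange).ι rfl : P ⟶ Gr) = e₀ := by
    let ι' := (r.left ⁻¹ᵁ i₀.left.opensRange).ι
    have hr : Set.range e₀.left ⊆ Set.range ι' := by rw [Scheme.Opens.range_ι]; exact he
    exact ⟨Over.homMk (IsOpenImmersion.lift ι' e₀.left hr) (by
      show IsOpenImmersion.lift ι' e₀.left hr ≫ ι' ≫ Gr.hom = _
      rw [IsOpenImmersion.lift_fac_assoc]; exact Over.w e₀), Over.OverMorphism.ext (IsOpenImmersion.lift_fac _ _ _)⟩
  haveI : Subsingleton P.left := ⟨fun a b => by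
    obtain ⟨x, hx⟩ := (a.2 : r.left a.1 ∈ Set.range i₀.left)
    obtain ⟨y, hy⟩ := (b.2 : r.left b.1 ∈ Set.range i₀.left)
    exact Subtype.ext (r.left.isEmbedding.injective (by rw [← hx, ← hy, Subsingleton.elim x y]))⟩
  haveI : IsReduced P.left := inferInstanceAs (IsReduced (r.left ⁻¹ᵁ i₀.left.opensRange).toScheme)
  haveI : IsSeparated P.hom := by
    haveI : IsSeparated Gr.hom := by rw [← Over.w r]; infer_instance
    exact inferInstanceAs (IsSeparated ((r.left ⁻¹ᵁ i₀.left.opensRange).ι ≫ Gr.hom))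
  haveI : IsClosedImmersion eP.left := by
    haveI : IsClosedImmersion (eP.left ≫ P.hom) := by
      rw [Over.w eP]; exact inferInstanceAs (IsClosedImmersion (𝟙 (Spec (CommRingCat.of k))))
    exact IsClosedImmersion.of_comp _ P.hom
  haveI : Surjective eP.left := ⟨fun p => ⟨IsLocalRing.closedPoint k, Subsingleton.elim _ _⟩⟩
  haveI : IsIso eP.left := isIso_of_isClosedImmersion_of_surjective _
  have hP : ∀ (T : Over (Spec (CommRingCat.of k))) (c : T ⟶ Gr) (d : T ⟶ G₀), c ≫ r = d ≫ i₀ → c = 1 := by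
    intro T c d h
    have hr : Set.range c.left ⊆ Set.range (r.left ⁻¹ᵁ i₀.left.opensRange).ι := by
      rw [Scheme.Opens.range_ι]
      rintro _ ⟨t, rfl⟩
      exact ⟨d.left t, (congr(($h).left t)).symm⟩
    let c' : T ⟶ P := Over.homMk (IsOpenImmersion.lift _ c.left hr) (by
      show IsOpenImmersion.lift _ c.left hr ≫ (r.left ⁻¹ᵁ i₀.left.opensRange).ι ≫ Gr.hom = _
      rw [IsOpenImmersion.lift_fac_assoc]; exact Over.w c)
    haveI : IsIso ((Over.forget _).map eP) := inferInstanceAs (IsIso eP.left)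
    haveI : IsIso eP := isIso_of_reflects_iso eP (Over.forget _)
    have e1 : c' = toUnit T ≫ eP := by
      rw [← cancel_mono (inv eP)]
      exact toUnit_unique _ _
    have e2 := congrArg (fun φ => φ ≫ (Over.homMk (r.left ⁻¹ᵁ i₀.left.opensRange).ι rfl : P ⟶ Gr)) e1
    simp only [Category.assoc, heP] at e2
    rw [show c = c' ≫ (Over.homMk (r.left ⁻¹ᵁ i₀.left.opensRange).ι rfl : P ⟶ Gr) from
      (Over.OverMorphism.ext (IsOpenImmersion.lift_fac _ _ _)).symm, e2, Hom.one_def]
  let m := (r ⊗ₘ i₀) ≫ μ[G]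
  have hm : ∀ {T : Over (Spec (CommRingCat.of k))} (z : T ⟶ Gr ⊗ G₀),
      z ≫ m = ((z ≫ fst _ _) ≫ r) * ((z ≫ snd _ _) ≫ i₀) := fun z => by
    simp only [m]
    rw [MonObj.mul_eq_mul, MonObj.comp_mul, MonObj.comp_mul, tensorHom_fst, tensorHom_snd, Category.assoc, Category.assoc]
  haveI : Mono m := ⟨fun {T} x y e => by
    rw [hm, hm] at e
    have h := hP T ((y ≫ fst _ _)⁻¹ * (x ≫ fst _ _)) ((y ≫ snd _ _) * (x ≫ snd _ _)⁻¹) (by
      rw [hom_mul_comp, hom_inv_comp, hom_mul_comp, hom_inv_comp, inv_mul_eq_iff_eq_mul, ← _root_.mul_assoc,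
        eq_mul_inv_iff_mul_eq]
      exact e)
    rw [inv_mul_eq_one] at h
    rw [h] at e
    apply CartesianMonoidalCategory.hom_ext
    · exact h.symm
    · exact (cancel_mono i₀).1 (mul_left_cancel e)⟩
  haveI : Mono m.left := inferInstanceAs (Mono ((Over.forget _).map m))
  let a : AlgGrp.Action Gr G :=
    AlgGrp.Action.restrict r ({ act := μ[G], one_act := MonObj.one_mul G, mul_act := MonObj.mul_assoc G } : AlgGrp.Action G G)
  have hfl : Flat a.act.left := Groth.L25.Actions.act_of_hom a @Flat inferInstance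
  have hmf : m = (Gr ◁ i₀) ≫ a.act := by
    simp only [m, a, AlgGrp.Action.restrict_act]
    rw [MonoidalCategory.tensorHom_def', Category.assoc]
  haveI : IsOpenImmersion (Gr ◁ i₀).left :=
    MorphismProperty.of_isPullback (isPullback_whiskerLeft Gr i₀).flip ‹IsOpenImmersion i₀.left›
  haveI : Flat m.left := by rw [hmf, Over.comp_left]; infer_instance
  haveI : LocallyOfFiniteType G₀.hom := by rw [← Over.w i₀]; infer_instance
  haveI : LocallyOfFiniteType (Gr ⊗ G₀).hom :=
    inferInstanceAs (LocallyOfFiniteType (pullback.fst Gr.hom G₀.hom ≫ Gr.hom))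
  haveI : LocallyOfFiniteType (m.left ≫ G.hom) := by rw [Over.w]; infer_instance
  haveI : LocallyOfFiniteType m.left := locallyOfFiniteType_of_comp m.left G.hom
  haveI : LocallyOfFinitePresentation m.left := inferInstance
  haveI : IsOpenImmersion m.left := IsOpenImmersion.of_flat_of_mono m.left
  haveI : Surjective m.left := ⟨fun g => by
    obtain ⟨x, rfl⟩ := r.left.surjective g
    have e : lift (𝟙 Gr) (1 : Gr ⟶ G₀) ≫ m = r := by
      rw [hm, lift_fst, lift_snd, Category.id_comp, hom_one_comp, _root_.mul_one]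
    exact ⟨(lift (𝟙 Gr) (1 : Gr ⟶ G₀)).left x, congr(($e).left x)⟩⟩
  haveI : IsIso m.left := (isIso_iff_isOpenImmersion_and_epi_base _).2 ⟨inferInstance, (TopCat.epi_iff_surjective _).2 m.left.surjective⟩
  haveI : IsIso ((Over.forget _).map m) := inferInstanceAs (IsIso m.left)
  exact isIso_of_reflects_iso m (Over.forget _)

end Groth.Agent.S14587
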