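import Groth.Statements.S14589
import Groth.Agent.L08.AffHull.Crit
import Groth.Agent.L08.AffHull.Smooth
import Groth.Agent.L08.NormalQuot.Affine
import Groth.Agent.L25.SplitSub.Rank
import Groth.Agent.S3293
import Groth.Agent.L08.SubgroupObj
import Groth.Agent.S3280
-- import your own Groth.Agent.* helpers here

set_option autoImplicit false
set_option backward.isDefEq.respectTransparency.types false
set_option linter.style.haveILetI false
universe u
open CategoryTheory MonoidalCategory CartesianMonoidalCategory MonObj GrpObj AlgebraicGeometry CategoryTheory.Limits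
open AlgGrp
open Groth.L08

namespace Groth.Agent.S14589

/-- Let k be a field, G a k-group scheme of finite type, i : N → G a closed normal subgroup scheme and q
: G → Q a flat surjective homomorphism of k-group schemes of finite type with kernel N (Q = G/N).
Let j : M → G and j' : M' → Q be the largest anti-affine subgroup schemes of G and of Q (closed
subgroup schemes of finite type with only constant global functions through which every other such
subgroup scheme factors). Then q maps M onto M': the image of M → G → Q equals the underlying set of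
M'. Since M' is smooth, this is the statement that G_ant/(G_ant ∩ N) → (G/N)_ant is an isomorphism. -/
theorem result (k : Type u) [Field k]
    (G : Over (Spec (CommRingCat.of k))) [GrpObj G] [LocallyOfFiniteType G.hom] [QuasiCompact G.hom]
    (N : Over (Spec (CommRingCat.of k))) [GrpObj N] (i : N ⟶ G) [IsMonHom i] [IsClosedImmersion i.left] (hN : AlgGrp.IsNormalHom i)
    (Q : Over (Spec (CommRingCat.of k))) [GrpObj Q] [LocallyOfFiniteType Q.hom] [QuasiCompact Q.hom]
    (q : G ⟶ Q) [IsMonHom q] [Surjective q.left] [Flat q.left] (hq : AlgGrp.IsKernel i q)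
    (M : Over (Spec (CommRingCat.of k))) [GrpObj M] [LocallyOfFiniteType M.hom] [QuasiCompact M.hom] (j : M ⟶ G) [IsMonHom j] [IsClosedImmersion j.left]
    (hM : Function.Bijective ((Scheme.ΓSpecIso (CommRingCat.of k)).inv ≫ M.hom.appTop).hom)
    (hMmax : ∀ (M₁ : Over (Spec (CommRingCat.of k))) [GrpObj M₁] [LocallyOfFiniteType M₁.hom] [QuasiCompact M₁.hom] (j₁ : M₁ ⟶ G) [IsMonHom j₁] [IsClosedImmersion j₁.left],
      Function.Bijective ((Scheme.ΓSpecIso (CommRingCat.of k)).inv ≫ M₁.hom.appTop).hom → ∃ g : M₁ ⟶ M, g ≫ j = j₁)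
    (M' : Over (Spec (CommRingCat.of k))) [GrpObj M'] [LocallyOfFiniteType M'.hom] [QuasiCompact M'.hom] (j' : M' ⟶ Q) [IsMonHom j'] [IsClosedImmersion j'.left]
    (hM' : Function.Bijective ((Scheme.ΓSpecIso (CommRingCat.of k)).inv ≫ M'.hom.appTop).hom)
    (hM'max : ∀ (M₁ : Over (Spec (CommRingCat.of k))) [GrpObj M₁] [LocallyOfFiniteType M₁.hom] [QuasiCompact M₁.hom] (j₁ : M₁ ⟶ Q) [IsMonHom j₁] [IsClosedImmersion j₁.left],
      Function.Bijective ((Scheme.ΓSpecIso (CommRingCat.of k)).inv ≫ M₁.hom.appTop).hom → ∃ g : M₁ ⟶ M', g ≫ j' = j₁) :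
    Set.range ⇑(j ≫ q).left.base = Set.range ⇑j'.left.base := by
  refine Set.Subset.antisymm ?_ ?_
  · obtain ⟨D, gD, p, d, _, _, hpd, _, _, _, _⟩ := AbelianGrp.exists_image (j ≫ q)
    haveI : LocallyOfFiniteType D.hom := by rw [← Over.w d]; infer_instance
    haveI : QuasiCompact D.hom := by rw [← Over.w d]; infer_instance
    haveI : Epi p.left := inferInstance
    obtain ⟨g, hg⟩ := hM'max D d ((AffHull.bijective_iff_isIso D).2
      (AffHull.isIso_appTop_of_cover p η[D] ((AffHull.bijective_iff_isIso M).1 hM)))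
    rintro _ ⟨m, rfl⟩
    refine ⟨(p ≫ g).left m, ?_⟩
    show ((p ≫ g) ≫ j').left m = (j ≫ q).left m
    rw [Category.assoc, hg, hpd]
  -- the preimage of the anti-affine part of the quotient
  haveI : Mono j' := Over.mono_of_mono_left j'
  obtain ⟨H, h, f, gH, _, _, _, hsq, _⟩ : ∃ (H : Over (Spec (CommRingCat.of k))) (h : H ⟶ G) (f : H ⟶ M') (_ : GrpObj H),
      IsMonHom h ∧ IsMonHom f ∧ IsClosedImmersion h.left ∧ h ≫ q = f ≫ j' ∧ Surjective f.left := by
    let H := CategoryTheory.Limits.pullback q j'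
    let h : H ⟶ G := CategoryTheory.Limits.pullback.fst q j'
    let f : H ⟶ M' := CategoryTheory.Limits.pullback.snd q j'
    have sq := IsPullback.of_hasPullback q j'
    haveI : Mono h := inferInstance
    haveI : IsClosedImmersion h.left := MorphismProperty.of_isPullback (P := @IsClosedImmersion)
      (sq.map (Over.forget _)).flip ‹IsClosedImmersion j'.left›
    haveI : Surjective f.left := MorphismProperty.of_isPullback (P := @Surjective)
      (sq.map (Over.forget _)) ‹Surjective q.left›
    obtain ⟨e, he⟩ : ∃ e : 𝟙_ _ ⟶ H, e ≫ h = η[G] :=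
      ⟨sq.lift η[G] η[M'] (by rw [IsMonHom.one_hom, IsMonHom.one_hom]), sq.lift_fst _ _ _⟩
    obtain ⟨gH, hh⟩ := Groth.L08.exists_grpObj_of_mono h ⟨e, he⟩
      ⟨sq.lift ((fst H H ≫ h) * (snd H H ≫ h)) ((fst H H ≫ f) * (snd H H ≫ f)) (by
        rw [MonObj.mul_comp, MonObj.mul_comp, Category.assoc, Category.assoc, Category.assoc, Category.assoc,
          show h ≫ q = f ≫ j' from sq.w]), sq.lift_fst _ _ _⟩
      ⟨sq.lift h⁻¹ f⁻¹ (by rw [GrpObj.inv_comp, GrpObj.inv_comp, show h ≫ q = f ≫ j' from sq.w]), sq.lift_fst _ _ _⟩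
    haveI : IsMonHom h := hh
    exact ⟨H, h, f, gH, inferInstance, Groth.L25.SplitSub.isMonHom_of_comp_mono f j'
      (by rw [show f ≫ j' = h ≫ q from sq.w.symm]; infer_instance), inferInstance, sq.w, inferInstance⟩
  haveI : LocallyOfFiniteType H.hom := by rw [← Over.w h]; infer_instance
  haveI : QuasiCompact H.hom := by rw [← Over.w h]; infer_instance
  haveI := AffHull.compactSpace (G := H)
  haveI := AffHull.quasiSeparatedSpace (G := H)
  obtain ⟨C, gC, c, _, _, -, sqC⟩ := AbelianGrp.exists_kernel (AffHull.rho H)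
  haveI : LocallyOfFiniteType C.hom := by rw [← Over.w c]; infer_instance
  haveI : QuasiCompact C.hom := by rw [← Over.w c]; infer_instance
  haveI : IsClosedImmersion (c ≫ h).left := inferInstanceAs (IsClosedImmersion (c.left ≫ h.left))
  obtain ⟨g₀, hg₀⟩ := hMmax C (c ≫ h) ((AffHull.bijective_iff_isIso C).2 (AffHull.isIso_appTop_kernel c sqC))
  obtain ⟨D, gD, p, d, _, _, hpd, _, _, _, _⟩ := AbelianGrp.exists_image (c ≫ f)
  haveI : IsCommMonObj M' := (Groth.Agent.S3293.result k M' hM').2
  obtain ⟨Q₂, gQ₂, π, _, _, _, _, _, _, -, sqQ⟩ := AbelianGrp.exists_quotient d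
  obtain ⟨_, _, _, _⟩ := AffHull.hull_props (G := H)
  have hkill : c ≫ f ≫ π = 1 := by
    rw [← Category.assoc, ← hpd, Category.assoc, show d ≫ π = 1 from sqQ.w.trans (Hom.one_def).symm, MonObj.comp_one]
  obtain ⟨ψ, _, hψ, -⟩ := Groth.Agent.S3280.result k H C (AffHull.hull H) Q₂ (AffHull.rho H) c sqC (f ≫ π)
    (by rw [hkill, Hom.one_def])
  haveI : Surjective ψ.left := by
    haveI : Surjective ((AffHull.rho H).left ≫ ψ.left) := by
      rw [← Over.comp_left, hψ, Over.comp_left]; infer_instance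
    exact Surjective.of_comp (AffHull.rho H).left ψ.left
  haveI : IsAffine Q₂.left := NormalQuot.isAffine_of_surjective_hom ψ
  haveI : Epi π.left := inferInstance
  haveI := AffHull.isIso_appTop_of_cover π η[Q₂] ((AffHull.bijective_iff_isIso M').1 hM')
  haveI : IsIso Q₂.hom := by
    have e : Q₂.hom = Q₂.left.isoSpec.hom ≫ Spec.map Q₂.hom.appTop ≫ (Spec (CommRingCat.of k)).isoSpec.inv := by
      rw [Scheme.isoSpec_hom_naturality_assoc, Iso.hom_inv_id, Category.comp_id]
    rw [e]
    infer_instance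
  obtain ⟨t, ht, -⟩ := sqQ.exists_lift (𝟙 M') (toUnit M') (by
    refine Over.OverMorphism.ext ?_
    rw [← cancel_mono Q₂.hom, Over.w, Over.w])
  rintro _ ⟨m', rfl⟩
  obtain ⟨x, hx⟩ := p.left.surjective (t.left m')
  refine ⟨g₀.left x, ?_⟩
  have h1 : (c ≫ f).left x = m' := by
    rw [← hpd]
    show d.left (p.left x) = m'
    rw [hx]
    exact congr(($ht).left m')
  show (g₀ ≫ j ≫ q).left x = j'.left m'
  rw [← Category.assoc, hg₀, Category.assoc, hsq, ← Category.assoc, ← h1]
  rfl
end Groth.Agent.S14589
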