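import Groth.Prelude.Def_Mor2
import Mathlib.AlgebraicGeometry.Morphisms.Flat
import Mathlib.AlgebraicGeometry.Morphisms.FinitePresentation
import Mathlib.AlgebraicGeometry.AffineScheme
import Mathlib.AlgebraicGeometry.Pullbacks
import Mathlib.RingTheory.RingHom.Flat
import Mathlib.RingTheory.Regular.RegularSequence
import Mathlib.RingTheory.Ideal.Quotient.Operations
import Groth.Agent.L02.CAlg.QFSlice.Scheme

set_option autoImplicit false
namespace CAlg
end CAlg
universe u
open FlatMor

namespace Groth.Agent.S1459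

open AlgebraicGeometry CategoryTheory Limits in
/-- Let f : X → S be locally of finite presentation and flat at x with image s, and let h_1, …, h_r be
elements of O_{X,x} whose images in O_{X,x} / m_s O_{X,x} form a regular sequence. Then there are an
affine open U ∋ x and sections on U with these germs such that the closed subscheme Z of U they cut
out is a regular closed immersion whose image contains x, Z → S is flat and locally of finite
presentation, and the base change of Z → U along any S' → S is again a regular closed immersion. -/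
theorem result {X S : Scheme.{u}} (f : X ⟶ S) [LocallyOfFinitePresentation f] (x : X)
    (hflat : (f.stalkMap x).hom.Flat) (hs : List ↑(X.presheaf.stalk x))
    (hreg : RingTheory.Sequence.IsRegular (↑(X.presheaf.stalk x) ⧸ Ideal.map (f.stalkMap x).hom (IsLocalRing.maximalIdeal ↑(S.presheaf.stalk (f x))))
      (hs.map (Ideal.Quotient.mk (Ideal.map (f.stalkMap x).hom (IsLocalRing.maximalIdeal ↑(S.presheaf.stalk (f x))))))) :
    ∃ (U : X.Opens) (hU : IsAffineOpen U) (hx : x ∈ U) (hs' : List Γ(X, U)), hs'.map (X.presheaf.germ U x hx) = hs ∧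
      Mor2.IsRegularClosedImmersion (Spec.map (CommRingCat.ofHom (Ideal.Quotient.mk (Ideal.ofList hs'))) ≫ hU.isoSpec.inv) ∧
      x ∈ Set.range ⇑(Spec.map (CommRingCat.ofHom (Ideal.Quotient.mk (Ideal.ofList hs'))) ≫ hU.fromSpec) ∧
      Flat (Spec.map (CommRingCat.ofHom (Ideal.Quotient.mk (Ideal.ofList hs'))) ≫ hU.fromSpec ≫ f) ∧ LocallyOfFinitePresentation (Spec.map (CommRingCat.ofHom (Ideal.Quotient.mk (Ideal.ofList hs'))) ≫ hU.fromSpec ≫ f) ∧
      ∀ (S' : Scheme.{u}) (g : S' ⟶ S), Mor2.IsRegularClosedImmersion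
        (pullback.map (Spec.map (CommRingCat.ofHom (Ideal.Quotient.mk (Ideal.ofList hs'))) ≫ hU.isoSpec.inv ≫ U.ι ≫ f) g (U.ι ≫ f) g (Spec.map (CommRingCat.ofHom (Ideal.Quotient.mk (Ideal.ofList hs'))) ≫ hU.isoSpec.inv) (𝟙 S') (𝟙 S)
          (Category.comp_id _) ((Category.comp_id g).trans (Category.id_comp g).symm)) := by
  set J := Ideal.map (f.stalkMap x).hom (IsLocalRing.maximalIdeal ↑(S.presheaf.stalk (f x))) with hJ
  have hmem : ∀ h ∈ hs, h ∈ IsLocalRing.maximalIdeal (X.presheaf.stalk x) := by
    intro h hh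
    by_contra hne
    apply hreg.top_ne_smul
    have hu : IsUnit (Ideal.Quotient.mk J h) :=
      (not_not.mp (fun hn => hne ((IsLocalRing.mem_maximalIdeal _).mpr hn))).map _
    have htop : Ideal.ofList (hs.map (Ideal.Quotient.mk J)) = ⊤ :=
      Ideal.eq_top_of_isUnit_mem _ (Ideal.subset_span (List.mem_map.mpr ⟨h, hh, rfl⟩)) hu
    rw [htop, Submodule.top_smul]
  obtain ⟨U, hU, hx, hs', -, h0, -, h2, hxr, h3, h4, h5⟩ :=
    L02.CAlg.QFSlice.exists_slice f x hflat hs hmem hreg.toIsWeaklyRegular ⊤ trivial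
  exact ⟨U, hU, hx, hs', h0, h2, hxr, h3, h4, h5⟩

end Groth.Agent.S1459
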