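import Groth.Statements.S14593
import Groth.Agent.L08.SmallNorm.AlbKer
-- import your own Groth.Agent.* helpers here

set_option autoImplicit false
set_option backward.isDefEq.respectTransparency.types false
set_option linter.style.haveILetI false
universe u
open CategoryTheory MonoidalCategory CartesianMonoidalCategory MonObj GrpObj AlgebraicGeometry CategoryTheory.Limits
open AlgGrp

namespace Groth.Agent.S14593

/-- Let k be a field, G a smooth k-group scheme of finite type, i₀ : G⁰ → G its neutral component (a
connected open subgroup scheme) and α : G⁰ → A the Albanese homomorphism of G⁰: a flat surjective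
homomorphism onto an abelian variety A (proper, smooth, connected) through which every morphism from
G⁰ to an abelian variety preserving the unit factors uniquely. Let j : N → G⁰ be the kernel of α.
Then N is normal in G, affine and connected; it is the kernel of a flat surjective homomorphism from
G onto a proper k-group scheme of finite type; and it is the smallest normal subgroup scheme of G
with proper quotient: every flat surjective homomorphism from G onto a proper k-group scheme of
finite type kills N. -/
theorem result (k : Type u) [Field k]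
    (G : Over (Spec (CommRingCat.of k))) [GrpObj G] [Smooth G.hom] [QuasiCompact G.hom]
    (G₀ : Over (Spec (CommRingCat.of k))) [GrpObj G₀] (i₀ : G₀ ⟶ G) [IsMonHom i₀] [IsOpenImmersion i₀.left] [ConnectedSpace ↥G₀.left]
    (A : Over (Spec (CommRingCat.of k))) [GrpObj A] [IsProper A.hom] [Smooth A.hom] [ConnectedSpace ↥A.left]
    (α : G₀ ⟶ A) [IsMonHom α] [Surjective α.left] [Flat α.left]
    (hα : ∀ (B : Over (Spec (CommRingCat.of k))) [GrpObj B] [IsProper B.hom] [Smooth B.hom] [ConnectedSpace ↥B.left] (f : G₀ ⟶ B),
      η[G₀] ≫ f = η[B] → ∃! g : A ⟶ B, α ≫ g = f)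
    (N : Over (Spec (CommRingCat.of k))) [GrpObj N] (j : N ⟶ G₀) [IsMonHom j] [IsClosedImmersion j.left] (hN : AlgGrp.IsKernel j α) :
    AlgGrp.IsNormalHom (j ≫ i₀) ∧ IsAffine N.left ∧ ConnectedSpace ↥N.left ∧
      (∃ (Q : Over (Spec (CommRingCat.of k))) (_ : GrpObj Q) (q : G ⟶ Q), IsMonHom q ∧ Surjective q.left ∧ Flat q.left ∧
        AlgGrp.IsKernel (j ≫ i₀) q ∧ IsProper Q.hom) ∧
      ∀ (Q' : Over (Spec (CommRingCat.of k))) [GrpObj Q'] [IsProper Q'.hom] (q' : G ⟶ Q') [IsMonHom q'] [Surjective q'.left] [Flat q'.left],
        (j ≫ i₀) ≫ q' = 1 := by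
  have hi := Groth.L08.SmallNorm.idCompData_of_open i₀
  haveI := hi.smooth
  haveI := hi.quasiCompact
  obtain ⟨ha, hc, hkill⟩ := Groth.L08.SmallNorm.ker_albanese A α hα j hN
  have hn := Groth.L08.SmallNorm.normal_albanese_kernel hi j α hN hkill
  refine ⟨hn, ha, hc, Groth.L08.SmallNorm.exists_proper_quotient hi j α hN hn, fun Q' _ _ q' _ _ _ => ?_⟩
  rw [Category.assoc]
  exact hkill Q' (i₀ ≫ q')

end Groth.Agent.S14593
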