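import Groth.Statements.S14595
import Groth.Agent.L19.AlgGrpBasic.TorusAxes
import Groth.Agent.S17451
import Groth.Agent.L24.PinchBC.Std
import Groth.Agent.S14584
import Groth.Agent.S7982
import Groth.Agent.L25.Locus.FixedConn

set_option autoImplicit false
set_option linter.unusedSimpArgs false
set_option backward.isDefEq.respectTransparency.types false
set_option linter.style.haveILetI false
universe u
open CategoryTheory MonoidalCategory CartesianMonoidalCategory MonObj GrpObj AlgebraicGeometry CategoryTheory.Limits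
open AlgGrp

namespace Groth.Agent.S14595
open Groth.L19.AlgGrpBasic

/-- Let k be a field, X and Y varieties over k (separated, geometrically integral, of finite type) with
rational points x₀, y₀, G a semi-abelian variety (an extension of a proper smooth connected k-group
scheme by a torus) and f : X × Y → G a k-morphism. Then f(x, y) f(x, y₀)⁻¹ f(x₀, y)⁻¹ f(x₀, y₀) = e
identically, in the group of morphisms X × Y → G. -/
theorem result (k : Type u) [Field k]
    (X Y G : Over (Spec (CommRingCat.of k)))
    [LocallyOfFiniteType X.hom] [QuasiCompact X.hom] [IsSeparated X.hom] [GeometricallyIntegral X.hom]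
    [LocallyOfFiniteType Y.hom] [QuasiCompact Y.hom] [IsSeparated Y.hom] [GeometricallyIntegral Y.hom]
    [GrpObj G] [LocallyOfFiniteType G.hom] [QuasiCompact G.hom] (hG : (∃ (T : Over (Spec (CommRingCat.of k))) (_ : GrpObj T) (i : T ⟶ G) (A : Over (Spec (CommRingCat.of k))) (_ : GrpObj A) (q : G ⟶ A),
        IsMonHom i ∧ IsClosedImmersion i.left ∧ Red.IsTorus T ∧ IsMonHom q ∧ Surjective q.left ∧ Flat q.left ∧
        AlgGrp.IsKernel i q ∧ IsProper A.hom ∧ Smooth A.hom ∧ ConnectedSpace ↥A.left))
    (x₀ : 𝟙_ (Over (Spec (CommRingCat.of k))) ⟶ X) (y₀ : 𝟙_ (Over (Spec (CommRingCat.of k))) ⟶ Y) (f : X ⊗ Y ⟶ G) :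
    f * (fst X Y ≫ lift (𝟙 X) (toUnit X ≫ y₀) ≫ f)⁻¹ * (snd X Y ≫ lift (toUnit Y ≫ x₀) (𝟙 Y) ≫ f)⁻¹ *
      (toUnit (X ⊗ Y) ≫ lift x₀ y₀ ≫ f) = 1 := by
  obtain ⟨T, _, i, A, _, q, hi, hic, hT, hq, hqs, hqf, hker, hAp, hAs, hAc⟩ := hG
  haveI := hi; haveI := hic; haveI := hq; haveI := hqs; haveI := hqf
  haveI := hAp; haveI := hAs; haveI := hAc
  let b := Spec.map (CommRingCat.ofHom <| algebraMap k (AlgebraicClosure k))
  let F := Over.pullback b
  letI : GrpObj (F.obj G) := Functor.grpObjObj
  letI : GrpObj (F.obj T) := Functor.grpObjObj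
  letI : GrpObj (F.obj A) := Functor.grpObjObj
  obtain ⟨hTs, hTc⟩ := Groth.L25.Locus.smooth_connected_torus hT
  haveI : QuasiCompact T.hom := by rw [← Over.w i]; infer_instance
  haveI : Smooth G.hom := (Groth.Agent.S7982.result k T G A i q hker).2.1 hTs hAs
  haveI : ConnectedSpace ↥G.left := (Groth.Agent.S7982.result k T G A i q hker).2.2 hTc hAc
  have hkerF : AlgGrp.IsKernel (F.map i) (F.map q) := by
    refine CategoryTheory.IsPullback.of_iso (hker.map F) (Iso.refl _) (Iso.refl _) (Functor.Monoidal.εIso F).symm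
      (Iso.refl _) (by simp) (toUnit_unique _ _) (by simp) ?_
    change F.map η[A] ≫ 𝟙 _ = Functor.OplaxMonoidal.η F ≫ η[F.obj A]
    rw [Category.comp_id, Functor.obj.η_def, ← Category.assoc]
    simp
  have hcomm : IsCommMonObj G := Groth.Agent.S17451.result k G ⟨Red.bc b T, inferInstance, F.map i,
    Red.bc b A, inferInstance, F.map q, (inferInstance : IsMonHom (F.map i)),
    MorphismProperty.of_isPullback (P := @IsClosedImmersion) (Groth.L24.PinchBC.isPullback_overMap b i).flip hic,
    Groth.L25.Locus.isTorus_bc hT b, (inferInstance : IsMonHom (F.map q)),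
    MorphismProperty.of_isPullback (P := @Surjective) (Groth.L24.PinchBC.isPullback_overMap b q).flip hqs,
    MorphismProperty.of_isPullback (P := @Flat) (Groth.L24.PinchBC.isPullback_overMap b q).flip hqf,
    hkerF, inferInstanceAs (IsProper (pullback.snd A.hom b)), inferInstanceAs (Smooth (pullback.snd A.hom b)), by
      haveI : GeometricallyReduced A.hom := Groth.Agent.AV.geometricallyReduced_of_smooth A.hom
      haveI : GeometricallyIntegral A.hom := Groth.Agent.AV.geometricallyIntegral_of_connected A
      haveI : GeometricallyIntegral (Red.bc b A).hom := inferInstanceAs (GeometricallyIntegral (pullback.snd A.hom b))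
      haveI : IsIntegral (Red.bc b A).left := GeometricallyIntegral.isIntegral_of_subsingleton (Red.bc b A).hom
      infer_instance⟩
  haveI := hcomm
  haveI : QuasiCompact q.left := by
    haveI : QuasiCompact (q.left ≫ A.hom) := by rw [Over.w q]; infer_instance
    exact QuasiCompact.of_comp q.left A.hom
  haveI : LocallyOfFiniteType (q.left ≫ A.hom) := by rw [Over.w q]; infer_instance
  haveI : LocallyOfFiniteType q.left := locallyOfFiniteType_of_comp q.left A.hom
  haveI : IsLocallyNoetherian A.left := LocallyOfFiniteType.isLocallyNoetherian A.hom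
  haveI : LocallyOfFinitePresentation q.left := Groth.L25.TrivLocus.lfp_of_noetherian q.left
  haveI : IsCommMonObj A := Groth.L08.AbelianGrp.isCommMonObj_of_cover q
  set P := fst X Y ≫ lift (𝟙 X) (toUnit X ≫ y₀) ≫ f with hP
  set Q := snd X Y ≫ lift (toUnit Y ≫ x₀) (𝟙 Y) ≫ f with hQ
  set c := toUnit (X ⊗ Y) ≫ lift x₀ y₀ ≫ f with hc
  set d := f * P⁻¹ * Q⁻¹ * c with hd
  have hdq : d ≫ q = 1 := by
    have e := Groth.Agent.S14584.result k X Y A x₀ y₀ (f ≫ q)
    simp only [← Category.assoc, ← comp_lift_assoc] at e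
    simp only [hd, hP, hQ, hc, MonObj.mul_comp, GrpObj.inv_comp, ← Category.assoc, ← comp_lift_assoc]
    conv_lhs => arg 1; arg 1; arg 1; rw [e]
    apply Additive.ofMul.injective
    simp only [ofMul_mul, ofMul_inv, ofMul_one]
    abel
  haveI : Mono i := Over.mono_of_mono_left i
  let d' : X ⊗ Y ⟶ T := hker.lift d (toUnit _) (by rw [hdq, Hom.one_def])
  have hd' : d' ≫ i = d := hker.lift_fst _ _ _
  have h1 : lift (toUnit Y ≫ x₀) (𝟙 Y) ≫ d' = 1 := by
    rw [← cancel_mono i, Category.assoc, hd', MonObj.one_comp i]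
    simp only [hd, hP, hQ, hc, MonObj.comp_mul, GrpObj.comp_inv, lift_fst_assoc, lift_snd_assoc, comp_lift_assoc,
      comp_toUnit_assoc, Category.assoc, Category.id_comp, Category.comp_id]
    simp [mul_comm]
  have h2 : lift (𝟙 X) (toUnit X ≫ y₀) ≫ d' = 1 := by
    rw [← cancel_mono i, Category.assoc, hd', MonObj.one_comp i]
    simp only [hd, hP, hQ, hc, MonObj.comp_mul, GrpObj.comp_inv, lift_fst_assoc, lift_snd_assoc, comp_lift_assoc,
      comp_toUnit_assoc, Category.assoc, Category.id_comp, Category.comp_id]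
    simp [mul_comm]
  suffices h : d' = 1 by rw [← hd', h, MonObj.one_comp i]
  have : LocallyOfFiniteType (F.obj X).hom := by dsimp [F]; infer_instance
  have : LocallyOfFiniteType (F.obj Y).hom := by dsimp [F]; infer_instance
  have : IsSeparated (F.obj X).hom := by dsimp [F]; infer_instance
  have : IsSeparated (F.obj Y).hom := by dsimp [F]; infer_instance
  have : GeometricallyIntegral (F.obj X).hom := by dsimp [F]; infer_instance
  have : GeometricallyIntegral (F.obj Y).hom := by dsimp [F]; infer_instance
  have hone : ∀ (U : Over (Spec (CommRingCat.of k))), F.map (1 : U ⟶ T) = 1 := fun U => F.map_one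
  have key := eq_one_of_axes_torus (T := F.obj T) (Groth.L25.Locus.isTorus_bc hT b)
    (Functor.LaxMonoidal.ε F ≫ F.map x₀) (Functor.LaxMonoidal.ε F ≫ F.map y₀)
    (Functor.LaxMonoidal.μ F X Y ≫ F.map d') (by
      have := congrArg F.map h1
      rw [hone, F.map_comp, ← Functor.Monoidal.lift_μ, Category.assoc, F.map_comp, F.map_id,
        Groth.Agent.AV.map_toUnit, Category.assoc] at this
      exact this) (by
      have := congrArg F.map h2
      rw [hone, F.map_comp, ← Functor.Monoidal.lift_μ, Category.assoc, F.map_comp, F.map_id,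
        Groth.Agent.AV.map_toUnit, Category.assoc] at this
      exact this)
  apply F.map_injective
  rw [← cancel_epi (Functor.LaxMonoidal.μ F X Y), key, hone, MonObj.comp_one]

end Groth.Agent.S14595
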