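import Groth.Statements.S14596
import Groth.Agent.L25.Translate
import Groth.Agent.L25.Actions
import Groth.Agent.L25.RatConn
import Groth.Agent.L08.IdentityComponent
import Groth.Agent.L21.CurveTop
import Groth.Agent.L19.AlgGrpBasic.Points
import Mathlib.AlgebraicGeometry.Morphisms.UniversallyOpen
import Groth.Agent.L26.AV.GroupSep

set_option autoImplicit false
set_option backward.isDefEq.respectTransparency.types false
set_option linter.style.haveILetI false
universe u
open CategoryTheory MonoidalCategory CartesianMonoidalCategory MonObj GrpObj AlgebraicGeometry CategoryTheory.Limits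
open AlgGrp

namespace Groth.Agent.S14596

/-- A quotient by a subgroup with open range is discrete. -/
theorem discrete_of_open {k : Type u} [Field k] {G H X : Over (Spec (CommRingCat.of k))} [GrpObj G] [GrpObj H]
    [LocallyOfFiniteType G.hom] (i : H ⟶ G) [IsMonHom i] (hi : IsOpen (Set.range i.left))
    (a : AlgGrp.Action G X) (o : 𝟙_ (Over (Spec (CommRingCat.of k))) ⟶ X) (hq : AGF.IsQuotient i X a o) :
    DiscreteTopology X.left := by
  obtain ⟨_, hflat, hsurj, sq⟩ := hq
  let π := a.orbitMap o
  haveI : Flat π.left := hflat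
  haveI : IsLocallyNoetherian X.left := LocallyOfFiniteType.isLocallyNoetherian X.hom
  haveI : LocallyOfFiniteType (π.left ≫ X.hom) := by rw [Over.w π]; infer_instance
  haveI : LocallyOfFiniteType π.left := locallyOfFiniteType_of_comp π.left X.hom
  haveI : LocallyOfFinitePresentation π.left := LocallyOfFinitePresentation.iff_locallyOfFiniteType.2 inferInstance
  let sh : G ⊗ H ⟶ G ⊗ G := lift (fst G H) ((G ◁ i) ≫ μ[G])
  let s : G ⊗ G ⟶ G ⊗ G := lift (fst G G) μ[G]
  let s' : G ⊗ G ⟶ G ⊗ G := lift (fst G G) ((fst G G)⁻¹ * snd G G)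
  haveI : IsIso s := by
    refine ⟨s', CartesianMonoidalCategory.hom_ext _ _ ?_ ?_, CartesianMonoidalCategory.hom_ext _ _ ?_ ?_⟩
    · simp [s, s']
    · simp only [s, s', Category.assoc, lift_snd, MonObj.comp_mul, GrpObj.comp_inv, lift_fst, Category.id_comp]
      rw [show μ[G] = fst G G * snd G G by rw [Hom.mul_def, lift_fst_snd, Category.id_comp], inv_mul_cancel_left]
    · simp [s, s']
    · simp only [s, s', Category.assoc, lift_snd, Category.id_comp]
      rw [show μ[G] = fst G G * snd G G by rw [Hom.mul_def, lift_fst_snd, Category.id_comp]]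
      simp [MonObj.comp_mul, GrpObj.comp_inv]
  haveI : IsIso s.left := inferInstanceAs (IsIso ((Over.forget _).map s))
  have hsh : sh = (G ◁ i) ≫ s := by
    refine CartesianMonoidalCategory.hom_ext _ _ ?_ ?_ <;> simp [sh, s]
  have hR : IsOpen (Set.range sh.left) := by
    have : Set.range sh.left = s.left '' Set.range (G ◁ i).left := by
      rw [← Set.range_comp, hsh]
      rfl
    rw [this]
    refine s.left.homeomorph.isOpenMap _ ?_
    rw [← id_tensorHom, Groth.L25.Translate.range_tensorHom]
    have h1 : Set.range (𝟙 G : G ⟶ G).left = Set.univ := Set.range_eq_univ.2 fun x => ⟨x, rfl⟩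
    rw [h1, Set.preimage_univ, Set.univ_inter]
    exact hi.preimage (snd G G).left.continuous
  have key : ∀ g : G.left, IsOpen (π.left ⁻¹' {π.left g}) := by
    intro g
    let T : Over (Spec (CommRingCat.of k)) := Over.mk (G.left.fromSpecResidueField g ≫ G.hom)
    let t : T ⟶ G := Over.homMk (G.left.fromSpecResidueField g) rfl
    haveI : UniversallyOpen T.hom := inferInstance
    haveI : UniversallyOpen (snd T G).left :=
      inferInstanceAs (UniversallyOpen (pullback.snd T.hom G.hom))
    have he : π.left ⁻¹' {π.left g} = (snd T G).left '' ((t ▷ G).left ⁻¹' Set.range sh.left) := by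
      have ht : ∀ y, t.left y = g := fun y => by
        have : G.left.fromSpecResidueField g y ∈ Set.range (G.left.fromSpecResidueField g) := ⟨y, rfl⟩
        rw [Scheme.range_fromSpecResidueField] at this
        exact this
      refine Set.ext fun z => ⟨fun hz => ?_, ?_⟩
      · have hsq := sq.map (Over.forget _)
        obtain ⟨r, hr1, hr2⟩ := Scheme.Pullback.exists_preimage_pullback (f := π.left) (g := π.left) g z hz.symm
        let w := hsq.isoPullback.inv r
        have w1 : (fst G H).left w = g := (congr(($(hsq.isoPullback_inv_fst)) r)).trans hr1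
        have w2 : ((G ◁ i) ≫ μ[G]).left w = z := (congr(($(hsq.isoPullback_inv_snd)) r)).trans hr2
        obtain ⟨v, hv⟩ : sh.left w ∈ Set.range (t ▷ G).left := by
          rw [← tensorHom_id, Groth.L25.Translate.range_tensorHom]
          refine ⟨⟨IsLocalRing.closedPoint _, (ht _).trans ?_⟩, ⟨_, rfl⟩⟩
          rw [← w1]
          show _ = (sh ≫ fst G G).left w
          rw [lift_fst]
        refine ⟨v, ⟨w, hv.symm⟩, ?_⟩
        rw [← w2, ← show (sh ≫ snd G G).left w = ((G ◁ i) ≫ μ[G]).left w by rw [lift_snd]]
        show _ = (snd G G).left (sh.left w)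
        rw [← hv]
        show _ = ((t ▷ G) ≫ snd G G).left v
        rw [whiskerRight_snd]
      · rintro ⟨v, ⟨w, hw⟩, rfl⟩
        have e1 : (fst G H).left w = g := by
          rw [← show (sh ≫ fst G G).left w = (fst G H).left w by rw [lift_fst]]
          show (fst G G).left (sh.left w) = g
          rw [hw]
          show ((t ▷ G) ≫ fst G G).left v = g
          rw [whiskerRight_fst]
          exact ht _
        have e2 : ((G ◁ i) ≫ μ[G]).left w = (snd T G).left v := by
          rw [← show (sh ≫ snd G G).left w = ((G ◁ i) ≫ μ[G]).left w by rw [lift_snd]]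
          show (snd G G).left (sh.left w) = _
          rw [hw]
          show ((t ▷ G) ≫ snd G G).left v = _
          rw [whiskerRight_snd]
        show π.left ((snd T G).left v) = π.left g
        rw [← e2, ← e1]
        exact (congr(($(sq.w)).left w)).symm
    rw [he]
    exact (snd T G).left.isOpenMap _ (hR.preimage (t ▷ G).left.continuous)
  refine discreteTopology_iff_isOpen_singleton.2 fun x => ?_
  obtain ⟨g, rfl⟩ := hsurj.surj x
  have : ({π.left g} : Set X.left) = π.left '' (π.left ⁻¹' {π.left g}) := by
    rw [Set.image_preimage_eq _ hsurj.surj]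
  rw [this]
  exact π.left.isOpenMap _ (key g)

/-- Let k be a perfect field, G a k-group scheme of finite type and r₀ : G⁰_red → G the reduced neutral
component of G, i.e. a homomorphism and closed immersion from a reduced k-group scheme whose image
is the connected component of the identity. Then the homogeneous space G/G⁰_red is finite, and
G⁰_red is the smallest closed subgroup scheme H of G such that G/H is finite: every such H contains
G⁰_red. -/
theorem result (k : Type u) [Field k] [PerfectField k]
    (G G₀ : Over (Spec (CommRingCat.of k))) [GrpObj G] [GrpObj G₀] [LocallyOfFiniteType G.hom] [QuasiCompact G.hom]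
    [LocallyOfFiniteType G₀.hom] [QuasiCompact G₀.hom]
    (r₀ : G₀ ⟶ G) [IsMonHom r₀] [IsClosedImmersion r₀.left] [IsReduced G₀.left] (t : ↥((𝟙_ (Over (Spec (CommRingCat.of k)))).left))
    (hr₀ : Set.range ⇑r₀.left.base = connectedComponent ((η[G]).left.base t)) :
    (∀ (X : Over (Spec (CommRingCat.of k))) (a : AlgGrp.Action G X) (o : 𝟙_ (Over (Spec (CommRingCat.of k))) ⟶ X), AGF.IsQuotient r₀ X a o → IsFinite X.hom) ∧
    ∀ (H : Over (Spec (CommRingCat.of k))) [GrpObj H] (h : H ⟶ G) [IsMonHom h] [IsClosedImmersion h.left]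
      (X : Over (Spec (CommRingCat.of k))) (a : AlgGrp.Action G X) (o : 𝟙_ (Over (Spec (CommRingCat.of k))) ⟶ X),
      AGF.IsQuotient h X a o → IsFinite X.hom → ∃ g : G₀ ⟶ H, g ≫ h = r₀ := by
  have hC : IsOpen (Set.range r₀.left) := by
    obtain ⟨C, _, j, _, _, hjo, hr⟩ := Groth.L08.IdComp.exists_identityComponent G
    haveI := hjo
    rw [show Set.range r₀.left = Set.range j.left by
      rw [hr]
      exact hr₀.trans (congrArg (fun x => connectedComponent (η[G].left x)) (Subsingleton.elim (α := PrimeSpectrum k) _ _))]
    exact j.left.isOpenEmbedding.isOpen_range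
  refine ⟨fun X a o hq => ?_, ?_⟩
  · haveI := discrete_of_open r₀ hC a o hq
    obtain ⟨_, _, hsurj, -⟩ := hq
    haveI : CompactSpace G.left := (quasiCompact_iff_compactSpace G.hom).mp inferInstance
    haveI : CompactSpace X.left := ⟨by
      rw [← Set.range_eq_univ.2 hsurj.surj]
      exact isCompact_range (a.orbitMap o).left.continuous⟩
    haveI : Finite X.left := finite_of_compact_of_discrete
    exact Groth.L21.CurveTop.isFinite_of_discrete X.hom
  · intro H _ h _ _ X a o hq hX
    obtain ⟨hlft, _, hsurj, sq⟩ := hq
    haveI := hlft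
    haveI : DiscreteTopology X.left := by
      haveI := hX
      haveI : IsLocallyArtinian X.left := .of_locallyQuasiFinite X.hom
      exact IsLocallyArtinian.discreteTopology
    haveI : IsClosedImmersion o.left := by
      haveI := hX
      have h : IsClosedImmersion (o.left ≫ X.hom) := by
        rw [Over.w]
        exact inferInstanceAs (IsClosedImmersion (𝟙 (Spec (CommRingCat.of k))))
      exact IsClosedImmersion.of_comp _ X.hom
    obtain ⟨l, hl⟩ := Groth.L19.AlgGrpBasic.exists_lift_of_range o (r₀ ≫ a.orbitMap o) (by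
      rintro _ ⟨z, rfl⟩
      have hpre : _root_.IsPreconnected (Set.range (r₀ ≫ a.orbitMap o).left) := by
        have : Set.range (r₀ ≫ a.orbitMap o).left = (a.orbitMap o).left '' Set.range r₀.left := by
          rw [← Set.range_comp]
          rfl
        rw [this, hr₀]
        exact (isConnected_connectedComponent.isPreconnected).image _ (a.orbitMap o).left.continuous.continuousOn
      refine ⟨t, ?_⟩
      refine hpre.subsingleton ?_ ⟨z, rfl⟩
      obtain ⟨z₀, hz₀⟩ : (η[G]).left t ∈ Set.range r₀.left := by rw [hr₀]; exact mem_connectedComponent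
      refine ⟨z₀, ?_⟩
      show (a.orbitMap o).left (r₀.left z₀) = _
      rw [hz₀]
      show (η[G] ≫ a.orbitMap o).left t = _
      rw [AlgGrp.Action.orbitMap, comp_lift_assoc, Category.comp_id, ← Category.assoc η[G], toUnit_unique (η[G] ≫ toUnit G) (𝟙 _),
        Category.id_comp, show (η[G] : 𝟙_ _ ⟶ G) = 1 by rw [Hom.one_def, toUnit_unique (toUnit _) (𝟙 _), Category.id_comp],
        Groth.L25.Actions.one_act])
    have hone : r₀ ≫ a.orbitMap o = (1 : G₀ ⟶ G) ≫ a.orbitMap o := by
      rw [← hl, toUnit_unique l (toUnit G₀), Hom.one_def, Category.assoc, AlgGrp.Action.orbitMap, comp_lift_assoc,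
        Category.comp_id, ← Category.assoc η[G], toUnit_unique (η[G] ≫ toUnit G) (𝟙 _), Category.id_comp,
        show (η[G] : 𝟙_ _ ⟶ G) = 1 by rw [Hom.one_def, toUnit_unique (toUnit _) (𝟙 _), Category.id_comp],
        Groth.L25.Actions.one_act]
    obtain ⟨w, hw1, hw2⟩ := sq.exists_lift (1 : G₀ ⟶ G) r₀ hone.symm
    refine ⟨w ≫ snd G H, ?_⟩
    have e : w = lift (1 : G₀ ⟶ G) (w ≫ snd G H) := by
      refine CartesianMonoidalCategory.hom_ext _ _ ?_ ?_ <;> simp [hw1]
    rw [e, lift_whiskerLeft_assoc, ← Hom.mul_def, _root_.one_mul] at hw2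
    exact hw2

end Groth.Agent.S14596
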