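import Groth.Statements.S14598
import Groth.Agent.L08.SmallNorm.GaffSep
-- import your own Groth.Agent.* helpers here

set_option autoImplicit false
set_option backward.isDefEq.respectTransparency.types false
set_option linter.style.haveILetI false
universe u
open CategoryTheory MonoidalCategory CartesianMonoidalCategory MonObj GrpObj AlgebraicGeometry CategoryTheory.Limits
open AlgGrp

namespace Groth.Agent.S14598

/-- Let k ⊆ K be a separable algebraic extension of fields, G a k-group scheme of finite type and l : L
→ G the biggest normal subgroup scheme of G that is smooth, connected and affine (a homomorphism and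
closed immersion from a smooth, connected, affine k-group scheme, normal in G, through which every
other such subgroup scheme factors). Then the formation of L commutes with the base change to K:
every smooth connected affine normal closed subgroup scheme of G_K factors through L_K → G_K. -/
theorem result (k K : Type u) [Field k] [Field K]
    [Algebra k K] [Algebra.IsSeparable k K]
    (G : Over (Spec (CommRingCat.of k))) [GrpObj G] [LocallyOfFiniteType G.hom] [QuasiCompact G.hom]
    (L : Over (Spec (CommRingCat.of k))) [GrpObj L] (l : L ⟶ G) [IsMonHom l] [IsClosedImmersion l.left]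
    [Smooth L.hom] [ConnectedSpace ↥L.left] [IsAffine L.left] (hLn : AlgGrp.IsNormalHom l)
    (hLmax : ∀ (L' : Over (Spec (CommRingCat.of k))) [GrpObj L'] (l' : L' ⟶ G) [IsMonHom l'] [IsClosedImmersion l'.left]
      [Smooth L'.hom] [ConnectedSpace ↥L'.left] [IsAffine L'.left], AlgGrp.IsNormalHom l' → ∃ f : L' ⟶ L, f ≫ l = l') :
    ∀ (L' : Over (Spec (CommRingCat.of K))) [GrpObj L'] (l' : L' ⟶ Red.bc (Spec.map (CommRingCat.ofHom (algebraMap k K))) G) [IsMonHom l'] [IsClosedImmersion l'.left]
      [Smooth L'.hom] [ConnectedSpace ↥L'.left] [IsAffine L'.left],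
      AlgGrp.IsNormalHom l' → ∃ f : L' ⟶ Red.bc (Spec.map (CommRingCat.ofHom (algebraMap k K))) L, f ≫ (Over.pullback (Spec.map (CommRingCat.ofHom (algebraMap k K)))).map l = l' := by
  intro L' _ l' _ _ _ _ _ hn
  exact Groth.L08.SmallNorm.gaff_separable l hLmax L' l' hn

end Groth.Agent.S14598
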