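import Groth.Statements.S14601
import Groth.Agent.L19.SpecSub.SabPow
import Groth.Agent.L19.AlgGrpBasic.GeomPoint

set_option autoImplicit false
set_option backward.isDefEq.respectTransparency.types false
universe u
open CategoryTheory MonoidalCategory CartesianMonoidalCategory MonObj GrpObj AlgebraicGeometry CategoryTheory.Limits
open AlgGrp

namespace Groth.Agent.S14601

/-- Let k be a field of characteristic p > 0, G a commutative k-group scheme of finite type and s : S →
G its largest semi-abelian subvariety, i.e. a closed subgroup scheme which is an extension of a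
proper smooth connected k-group scheme by a torus and through which every other such closed subgroup
scheme of G factors. Then (1) for every flat surjective homomorphism q : G → Q of k-group schemes of
finite type with kernel S, the group scheme Q has finite exponent: its n-th power endomorphism is
trivial for some n ≥ 1; and (2) there is a closed subgroup scheme h : H → G such that G = S · H, in
the sense that the multiplication S × H → G is flat and surjective, and S ∩ H = S ×_G H is finite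
over k. -/
theorem result (k : Type u) [Field k]
    (p : ℕ) [Fact p.Prime] [CharP k p]
    (G : Over (Spec (CommRingCat.of k))) [GrpObj G] [IsCommMonObj G] [LocallyOfFiniteType G.hom] [QuasiCompact G.hom]
    (S : Over (Spec (CommRingCat.of k))) [GrpObj S] (s : S ⟶ G) [IsMonHom s] [IsClosedImmersion s.left] (hS : (∃ (T : Over (Spec (CommRingCat.of k))) (_ : GrpObj T) (i : T ⟶ S) (A : Over (Spec (CommRingCat.of k))) (_ : GrpObj A) (q : S ⟶ A),
        IsMonHom i ∧ IsClosedImmersion i.left ∧ Red.IsTorus T ∧ IsMonHom q ∧ Surjective q.left ∧ Flat q.left ∧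
        AlgGrp.IsKernel i q ∧ IsProper A.hom ∧ Smooth A.hom ∧ ConnectedSpace ↥A.left))
    (hSmax : ∀ (S' : Over (Spec (CommRingCat.of k))) [GrpObj S'] (s' : S' ⟶ G) [IsMonHom s'] [IsClosedImmersion s'.left],
      (∃ (T : Over (Spec (CommRingCat.of k))) (_ : GrpObj T) (i : T ⟶ S') (A : Over (Spec (CommRingCat.of k))) (_ : GrpObj A) (q : S' ⟶ A),
        IsMonHom i ∧ IsClosedImmersion i.left ∧ Red.IsTorus T ∧ IsMonHom q ∧ Surjective q.left ∧ Flat q.left ∧
        AlgGrp.IsKernel i q ∧ IsProper A.hom ∧ Smooth A.hom ∧ ConnectedSpace ↥A.left) → ∃ g : S' ⟶ S, g ≫ s = s') :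
    (∀ (Q : Over (Spec (CommRingCat.of k))) [GrpObj Q] [LocallyOfFiniteType Q.hom] [QuasiCompact Q.hom] (q : G ⟶ Q) [IsMonHom q]
        [Surjective q.left] [Flat q.left], AlgGrp.IsKernel s q → ∃ n : ℕ, 0 < n ∧ (𝟙 Q) ^ n = 1) ∧
    ∃ (H : Over (Spec (CommRingCat.of k))) (_ : GrpObj H) (h : H ⟶ G), IsMonHom h ∧ IsClosedImmersion h.left ∧
      Flat ((s ⊗ₘ h) ≫ μ[G]).left ∧ Surjective ((s ⊗ₘ h) ≫ μ[G]).left ∧
      IsFinite (pullback.fst s.left h.left ≫ S.hom) := by
  have hP : Groth.L19.SpecSub.IsSemiab S := hS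
  have hmax : ∀ (S' : Over (Spec (CommRingCat.of k))) [GrpObj S'] (s' : S' ⟶ G) [IsMonHom s'] [IsClosedImmersion s'.left],
      Groth.L19.SpecSub.IsSemiab S' → ∃ g : S' ⟶ S, g ≫ s = s' := fun S' _ s' _ _ h => hSmax S' s' h
  refine ⟨fun Q _ _ _ q _ _ _ hker => ?_, ?_⟩
  · haveI : LocallyOfFinitePresentation q.left := Groth.L19.SpecSub.lfp_hom_field q
    haveI : IsCommMonObj Q := Groth.L08.AbelianGrp.isCommMonObj_of_cover q
    exact Groth.L19.SpecSub.exists_pow_eq_one p Q fun C _ i _ _ hC =>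
      Groth.L19.SpecSub.quot_noSemiab s hP hmax q hker C i hC
  haveI : LocallyOfFiniteType S.hom := by rw [← Over.w s]; infer_instance
  haveI : QuasiCompact S.hom := by rw [← Over.w s]; infer_instance
  haveI := hP.comm
  haveI := hP.smooth
  haveI : Mono s := (Over.forget _).mono_of_mono_map (inferInstanceAs (Mono s.left))
  obtain ⟨n, φ, hn, hφ⟩ := Groth.L19.SpecSub.exists_pow_fac s hP hmax p
  haveI : IsMonHom ((𝟙 G : G ⟶ G) ^ n) := Groth.Agent.AV.Isogeny.isMonHom_pow n
  haveI : IsMonHom ((𝟙 S : S ⟶ S) ^ n) := Groth.Agent.AV.Isogeny.isMonHom_pow n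
  haveI := Groth.L08.AbelianGrp.isSeparated G
  haveI := Groth.L08.AbelianGrp.isSeparated S
  obtain ⟨H, _, e, he, hec, hHc, hkH⟩ := Groth.L08.AbelianGrp.exists_kernel ((𝟙 G : G ⟶ G) ^ n)
  haveI := he; haveI := hec
  haveI : IsCommMonObj H := hHc inferInstance
  haveI : LocallyOfFiniteType H.hom := by rw [← Over.w e]; infer_instance
  haveI : QuasiCompact H.hom := by rw [← Over.w e]; infer_instance
  haveI : Mono e := (Over.forget _).mono_of_mono_map (inferInstanceAs (Mono e.left))
  refine ⟨H, inferInstance, e, he, hec, ?_⟩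
  obtain ⟨m, hm⟩ : ∃ m, m = (s ⊗ₘ e) ≫ μ[G] := ⟨_, rfl⟩
  haveI : IsMonHom m := by rw [hm]; infer_instance
  haveI : LocallyOfFiniteType (S ⊗ H).hom := Groth.L19.AlgGrpBasic.lft_tensor S H
  haveI : QuasiCompact (S ⊗ H).hom := Groth.L19.AlgGrpBasic.qc_tensor S H
  rw [← hm]
  obtain ⟨C, _, π, i, hπ, hi, hπi, hπf, hπs, hπl, hic⟩ := Groth.L08.AbelianGrp.exists_image m
  haveI := hπ; haveI := hi; haveI := hπf; haveI := hπs; haveI := hπl; haveI := hic
  haveI : Mono i := (Over.forget _).mono_of_mono_map (inferInstanceAs (Mono i.left))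
  haveI : Surjective ((𝟙 S : S ⟶ S) ^ n).left := hP.surjective_pow n hn
  haveI : IsReduced S.left := Groth.Agent.AV.isReduced_of_smooth_field S.hom
  haveI : Flat ((𝟙 S : S ⟶ S) ^ n).left := Groth.L08.FlatHom.flat_of_surjective S S _
  haveI : LocallyOfFinitePresentation ((𝟙 S : S ⟶ S) ^ n).left := Groth.L19.SpecSub.lfp_hom_field _
  let a : pullback φ ((𝟙 S : S ⟶ S) ^ n) ⟶ G := pullback.fst _ _
  let b : pullback φ ((𝟙 S : S ⟶ S) ^ n) ⟶ S := pullback.snd _ _
  have sq := (IsPullback.of_hasPullback φ ((𝟙 S : S ⟶ S) ^ n)).map (Over.forget (Spec (CommRingCat.of k)))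
  haveI : Surjective a.left := MorphismProperty.of_isPullback (P := @Surjective) sq.flip ‹_›
  haveI : Flat a.left := MorphismProperty.of_isPullback (P := @Flat) sq.flip ‹_›
  haveI : LocallyOfFinitePresentation a.left :=
    MorphismProperty.of_isPullback (P := @LocallyOfFinitePresentation) sq.flip ‹_›
  have hab : a ^ n = (b ≫ s) ^ n := by
    have h1 : a ≫ φ = b ≫ ((𝟙 S : S ⟶ S) ^ n) := pullback.condition
    have h2 := congrArg (· ≫ s) h1
    simpa [hφ, MonObj.comp_pow, MonObj.pow_comp] using h2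
  obtain ⟨z, hz, -⟩ := hkH.exists_lift (a * (b ≫ s)⁻¹) (toUnit _) (by
    rw [MonObj.comp_pow, Category.comp_id, mul_pow, inv_pow, hab, mul_inv_cancel, Hom.one_def])
  have hw : (lift b z ≫ π) ≫ i = a := by
    rw [Category.assoc, hπi, hm, lift_map_assoc, ← Hom.mul_def, hz, mul_comm (b ≫ s), inv_mul_cancel_right]
  obtain ⟨l, hl⟩ := Groth.L08.AffHull.exists_desc_cover a (lift b z ≫ π) (fun x y hxy => by
    rw [← cancel_mono i, Category.assoc x, Category.assoc y, hw, hxy])
  have hli : l ≫ i = 𝟙 G := by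
    haveI : Epi a := Groth.L08.GQuot.epi_of_cover a
    rw [← cancel_epi a, ← Category.assoc, hl, hw, Category.comp_id]
  haveI : IsIso i := ⟨l, by rw [← cancel_mono i, Category.assoc, hli, Category.id_comp, Category.comp_id], hli⟩
  haveI : IsIso i.left := inferInstanceAs (IsIso ((Over.forget _).map i))
  refine ⟨?_, ?_, ?_⟩
  · rw [← hπi, Over.comp_left]; infer_instance
  · rw [← hπi, Over.comp_left]; infer_instance
  obtain ⟨K, _, kS, hk, hkc, -, hkK⟩ := Groth.L08.AbelianGrp.exists_kernel ((𝟙 S : S ⟶ S) ^ n)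
  haveI := hk; haveI := hkc
  haveI : Mono kS := (Over.forget _).mono_of_mono_map (inferInstanceAs (Mono kS.left))
  have hkS : kS ≫ ((𝟙 S : S ⟶ S) ^ n) = 1 := hkK.w.trans (Hom.one_def).symm
  have hK1 : (𝟙 K : K ⟶ K) ^ n = 1 := by
    rw [← cancel_mono kS, MonObj.pow_comp, Category.id_comp, MonObj.one_comp]
    simpa [MonObj.comp_pow] using hkS
  haveI := hP.isFinite_of_pow kS n hn hK1
  let u : K ⟶ H := hkH.lift (kS ≫ s) (toUnit K) (by
    rw [MonObj.comp_pow, Category.comp_id, ← MonObj.pow_comp,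
      show kS ^ n = 1 from by simpa [MonObj.comp_pow] using hkS, MonObj.one_comp, Hom.one_def])
  have hu : u ≫ e = kS ≫ s := hkH.lift_fst _ _ _
  have hsq : IsPullback kS u s e := by
    refine IsPullback.mk' hu.symm (fun T x y h1 _ => (cancel_mono kS).1 h1) (fun T x y hxy => ?_)
    have hx : x ^ n = 1 := by
      rw [← cancel_mono s, MonObj.pow_comp, hxy, MonObj.one_comp]
      have h1 := congrArg (y ≫ ·) (hkH.w.trans (Hom.one_def).symm)
      simpa [MonObj.comp_pow] using h1
    obtain ⟨w, hw1, -⟩ := hkK.exists_lift x (toUnit T) (by rw [MonObj.comp_pow, Category.comp_id, hx, Hom.one_def])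
    exact ⟨w, hw1, by rw [← cancel_mono e, Category.assoc, hu, ← Category.assoc, hw1, hxy]⟩
  have sqK : IsPullback kS.left u.left s.left e.left := hsq.map (Over.forget (Spec (CommRingCat.of k)))
  have h2 : pullback.fst s.left e.left ≫ S.hom = sqK.isoPullback.inv ≫ K.hom :=
    ((congrArg (· ≫ S.hom) sqK.isoPullback_inv_fst).symm.trans (Category.assoc _ _ _)).trans
      (congrArg (sqK.isoPullback.inv ≫ ·) (Over.w kS))
  rw [h2]
  exact (MorphismProperty.cancel_left_of_respectsIso @IsFinite sqK.isoPullback.inv K.hom).2 ‹_›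
end Groth.Agent.S14601
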