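import Groth.Statements.S14603
import Groth.Agent.L19.SpecSub.SabExponent

set_option autoImplicit false
set_option backward.isDefEq.respectTransparency.types false
universe u
open CategoryTheory MonoidalCategory CartesianMonoidalCategory MonObj GrpObj AlgebraicGeometry CategoryTheory.Limits
open AlgGrp

namespace Groth.Agent.S14603

/-- Let k be a field of characteristic p > 0 and G a commutative k-group scheme of finite type. Then
G_sab is trivial — every closed subgroup scheme of G which is an extension of a proper smooth
connected k-group scheme by a torus is the trivial group — exactly when, for some positive integer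
n, multiplication by n on G (the map n_G) is zero (G has finite exponent). (A third equivalent
condition, that G is affine with finite largest subgroup of multiplicative type, is not stated
here.) -/
theorem result (k : Type u) [Field k] (p : ℕ) [Fact p.Prime] [CharP k p]
    (G : Over (Spec (CommRingCat.of k))) [GrpObj G] [IsCommMonObj G] [LocallyOfFiniteType G.hom] [QuasiCompact G.hom] :
    (∀ (S : Over (Spec (CommRingCat.of k))) [GrpObj S] (s : S ⟶ G) [IsMonHom s] [IsClosedImmersion s.left],
        (∃ (T : Over (Spec (CommRingCat.of k))) (_ : GrpObj T) (i : T ⟶ S) (A : Over (Spec (CommRingCat.of k))) (_ : GrpObj A) (q : S ⟶ A),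
        IsMonHom i ∧ IsClosedImmersion i.left ∧ Red.IsTorus T ∧ IsMonHom q ∧ Surjective q.left ∧ Flat q.left ∧
        AlgGrp.IsKernel i q ∧ IsProper A.hom ∧ Smooth A.hom ∧ ConnectedSpace ↥A.left) → IsIso η[S]) ↔
    ∃ n : ℕ, 0 < n ∧ (𝟙 G) ^ n = 1 := by
  constructor
  · intro h
    exact Groth.L19.SpecSub.exists_pow_eq_one p G fun S _ s _ _ hS => h S s hS
  · rintro ⟨n, hn, hn1⟩ S _ s _ _ hS
    haveI : LocallyOfFiniteType S.hom := by rw [← Over.w s]; infer_instance
    haveI : QuasiCompact S.hom := by rw [← Over.w s]; infer_instance
    have hP : Groth.L19.SpecSub.IsSemiab S := hS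
    haveI := hP.smooth
    haveI : Mono s := (Over.forget _).mono_of_mono_map (inferInstanceAs (Mono s.left))
    have hS1 : (𝟙 S : S ⟶ S) ^ n = 1 := by
      rw [← cancel_mono s, MonObj.pow_comp, Category.id_comp, MonObj.one_comp]
      have := congrArg (s ≫ ·) hn1
      simpa [MonObj.comp_pow] using this
    let t := AbVar.ext k (AlgebraicClosure k)
    haveI := Groth.L19.SpecSub.smooth_gbc S
    haveI := Groth.L19.SpecSub.qc_gbc S
    have hK : (𝟙 (Groth.L19.SpecSub.gbc S) : _ ⟶ _) ^ n = 1 := by
      have h1 := ((Over.pullback t).homMonoidHom (X := S) (M := S)).map_pow (𝟙 S) n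
      rw [hS1, map_one] at h1
      rw [show (Over.pullback t).homMonoidHom (𝟙 S) = 𝟙 (Groth.L19.SpecSub.gbc S) from (Over.pullback t).map_id S] at h1
      exact h1.symm
    haveI := (hP.bc (AlgebraicClosure k)).isIso_unit_of_pow n hn hK
    refine Groth.L19.SpecSub.isIso_unit_of_surjective_one ?_
    have h2 : (1 : S ⟶ S) = 𝟙 S := by
      refine Over.OverMorphism.ext ?_
      have hb : (Over.pullback t).map (1 : S ⟶ S) = (Over.pullback t).map (𝟙 S) :=
        (Groth.L19.SpecSub.eq_one_of_isIso_unit (G := Groth.L19.SpecSub.gbc S) _).trans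
          (Groth.L19.SpecSub.eq_one_of_isIso_unit (G := Groth.L19.SpecSub.gbc S) _).symm
      haveI : Epi (pullback.fst S.hom t) := by
        haveI : Surjective t := Groth.L08.ChevPerf.ext_props.1
        haveI : Flat t := Groth.L08.ChevPerf.ext_props.2.1
        haveI : QuasiCompact t := Groth.L08.ChevPerf.ext_props.2.2
        haveI : Surjective (pullback.fst S.hom t) := MorphismProperty.pullback_fst _ _ ‹Surjective t›
        haveI : Flat (pullback.fst S.hom t) := MorphismProperty.pullback_fst _ _ ‹Flat t›
        exact Flat.epi_of_flat_of_surjective _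
      rw [← cancel_epi (pullback.fst S.hom t)]
      exact (Groth.L08.Albanese.isPullback_bc_map (K := AlgebraicClosure k) (1 : S ⟶ S)).w.symm.trans
        ((congrArg (fun m => m.left ≫ pullback.fst S.hom t) hb).trans
          (Groth.L08.Albanese.isPullback_bc_map (K := AlgebraicClosure k) (𝟙 S)).w)
    rw [h2, Over.id_left]
    infer_instance

end Groth.Agent.S14603
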