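import Groth.Statements.S14605
import Groth.Agent.L19.SpecSub.SabPow

set_option autoImplicit false
set_option backward.isDefEq.respectTransparency.types false
universe u
open CategoryTheory MonoidalCategory CartesianMonoidalCategory MonObj GrpObj AlgebraicGeometry CategoryTheory.Limits
open AlgGrp

namespace Groth.Agent.S14605

/-- Let k be a field of characteristic p > 0, G a commutative k-group scheme of finite type, h : H → G a
closed subgroup scheme and q : G → Q a flat surjective homomorphism of k-group schemes of finite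
type with kernel H (Q = G/H). Let s : S → G and s' : S' → Q be the largest semi-abelian subvarieties
of G and of Q (closed subgroup schemes which are extensions of a proper smooth connected k-group
scheme by a torus, through which every other such closed subgroup scheme factors). Then q maps S
onto S': the image of S → G → Q equals the underlying set of S'. Since S' is smooth, this is the
statement that G_sab/(G_sab ∩ H) → (G/H)_sab is an isomorphism. -/
theorem result (k : Type u) [Field k] (p : ℕ) [Fact p.Prime] [CharP k p]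
    (G : Over (Spec (CommRingCat.of k))) [GrpObj G] [IsCommMonObj G] [LocallyOfFiniteType G.hom] [QuasiCompact G.hom]
    (H : Over (Spec (CommRingCat.of k))) [GrpObj H] (h : H ⟶ G) [IsMonHom h] [IsClosedImmersion h.left]
    (Q : Over (Spec (CommRingCat.of k))) [GrpObj Q] [LocallyOfFiniteType Q.hom] [QuasiCompact Q.hom]
    (q : G ⟶ Q) [IsMonHom q] [Surjective q.left] [Flat q.left] (hq : AlgGrp.IsKernel h q)
    (S : Over (Spec (CommRingCat.of k))) [GrpObj S] (s : S ⟶ G) [IsMonHom s] [IsClosedImmersion s.left] (hS : (∃ (T : Over (Spec (CommRingCat.of k))) (_ : GrpObj T) (i : T ⟶ S) (A : Over (Spec (CommRingCat.of k))) (_ : GrpObj A) (q : S ⟶ A),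
        IsMonHom i ∧ IsClosedImmersion i.left ∧ Red.IsTorus T ∧ IsMonHom q ∧ Surjective q.left ∧ Flat q.left ∧
        AlgGrp.IsKernel i q ∧ IsProper A.hom ∧ Smooth A.hom ∧ ConnectedSpace ↥A.left))
    (hSmax : ∀ (S₁ : Over (Spec (CommRingCat.of k))) [GrpObj S₁] (s₁ : S₁ ⟶ G) [IsMonHom s₁] [IsClosedImmersion s₁.left],
      (∃ (T : Over (Spec (CommRingCat.of k))) (_ : GrpObj T) (i : T ⟶ S₁) (A : Over (Spec (CommRingCat.of k))) (_ : GrpObj A) (q : S₁ ⟶ A),
        IsMonHom i ∧ IsClosedImmersion i.left ∧ Red.IsTorus T ∧ IsMonHom q ∧ Surjective q.left ∧ Flat q.left ∧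
        AlgGrp.IsKernel i q ∧ IsProper A.hom ∧ Smooth A.hom ∧ ConnectedSpace ↥A.left) → ∃ g : S₁ ⟶ S, g ≫ s = s₁)
    (S' : Over (Spec (CommRingCat.of k))) [GrpObj S'] (s' : S' ⟶ Q) [IsMonHom s'] [IsClosedImmersion s'.left] (hS' : (∃ (T : Over (Spec (CommRingCat.of k))) (_ : GrpObj T) (i : T ⟶ S') (A : Over (Spec (CommRingCat.of k))) (_ : GrpObj A) (q : S' ⟶ A),
        IsMonHom i ∧ IsClosedImmersion i.left ∧ Red.IsTorus T ∧ IsMonHom q ∧ Surjective q.left ∧ Flat q.left ∧
        AlgGrp.IsKernel i q ∧ IsProper A.hom ∧ Smooth A.hom ∧ ConnectedSpace ↥A.left))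
    (hS'max : ∀ (S₁ : Over (Spec (CommRingCat.of k))) [GrpObj S₁] (s₁ : S₁ ⟶ Q) [IsMonHom s₁] [IsClosedImmersion s₁.left],
      (∃ (T : Over (Spec (CommRingCat.of k))) (_ : GrpObj T) (i : T ⟶ S₁) (A : Over (Spec (CommRingCat.of k))) (_ : GrpObj A) (q : S₁ ⟶ A),
        IsMonHom i ∧ IsClosedImmersion i.left ∧ Red.IsTorus T ∧ IsMonHom q ∧ Surjective q.left ∧ Flat q.left ∧
        AlgGrp.IsKernel i q ∧ IsProper A.hom ∧ Smooth A.hom ∧ ConnectedSpace ↥A.left) → ∃ g : S₁ ⟶ S', g ≫ s' = s₁) :
    Set.range ⇑(s ≫ q).left.base = Set.range ⇑s'.left.base := by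
  have hP : Groth.L19.SpecSub.IsSemiab S := hS
  have hP' : Groth.L19.SpecSub.IsSemiab S' := hS'
  have hmax : ∀ (S₁ : Over (Spec (CommRingCat.of k))) [GrpObj S₁] (s₁ : S₁ ⟶ G) [IsMonHom s₁] [IsClosedImmersion s₁.left],
      Groth.L19.SpecSub.IsSemiab S₁ → ∃ g : S₁ ⟶ S, g ≫ s = s₁ := fun S₁ _ s₁ _ _ h => hSmax S₁ s₁ h
  haveI : LocallyOfFiniteType S.hom := by rw [← Over.w s]; infer_instance
  haveI : QuasiCompact S.hom := by rw [← Over.w s]; infer_instance
  haveI : LocallyOfFiniteType S'.hom := by rw [← Over.w s']; infer_instance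
  haveI : QuasiCompact S'.hom := by rw [← Over.w s']; infer_instance
  haveI := Groth.L08.AbelianGrp.isSeparated Q
  obtain ⟨C, _, π, i, hπ, hi, hπi, hπf, hπs, hπl, hic⟩ := Groth.L08.AbelianGrp.exists_image (s ≫ q)
  haveI := hπ; haveI := hi; haveI := hπf; haveI := hπs; haveI := hπl; haveI := hic
  haveI : LocallyOfFiniteType C.hom := by rw [← Over.w i]; infer_instance
  haveI : QuasiCompact C.hom := by rw [← Over.w i]; infer_instance
  obtain ⟨g, hg⟩ := hS'max C i (hP.of_surjective π)
  apply Set.Subset.antisymm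
  · rintro _ ⟨x, rfl⟩
    refine ⟨(π ≫ g).left x, ?_⟩
    rw [← hπi, ← hg, ← Category.assoc]
    exact (Scheme.Hom.comp_apply _ _ x).symm
  · obtain ⟨n, φ, hn, hφ⟩ := Groth.L19.SpecSub.exists_pow_fac s hP hmax p
    haveI : Surjective ((𝟙 S' : S' ⟶ S') ^ n).left := hP'.surjective_pow n hn
    rintro _ ⟨y, rfl⟩
    obtain ⟨y', rfl⟩ := ((𝟙 S' : S' ⟶ S') ^ n).left.surjective y
    have sq := (IsPullback.of_hasPullback q s').map (Over.forget (Spec (CommRingCat.of k)))
    haveI : Surjective (pullback.snd q s').left := MorphismProperty.of_isPullback (P := @Surjective) sq ‹Surjective q.left›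
    obtain ⟨z, rfl⟩ := (pullback.snd q s').left.surjective y'
    have h1 : (pullback.fst q s' ≫ φ) ≫ s ≫ q = pullback.snd q s' ≫ ((𝟙 S' : S' ⟶ S') ^ n) ≫ s' := by
      rw [Category.assoc, ← Category.assoc φ, hφ, MonObj.pow_comp, Category.id_comp, MonObj.comp_pow,
        pullback.condition, MonObj.pow_comp, Category.id_comp, MonObj.comp_pow]
    refine ⟨(pullback.fst q s' ≫ φ).left z, ?_⟩
    have h2 := congr(($h1).left z)
    simp only [Over.comp_left, Scheme.Hom.comp_apply] at h2 ⊢
    exact h2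

end Groth.Agent.S14605
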