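import Groth.Statements.S14606
import Mathlib.RingTheory.Nilpotent.GeometricallyReduced
import Mathlib.FieldTheory.IsAlgClosed.AlgebraicClosure
import Mathlib.FieldTheory.Perfect
import Mathlib.RingTheory.Noetherian.Nilpotent
import Mathlib.RingTheory.Flat.Basic
import Mathlib.RingTheory.FiniteStability
import Mathlib.RingTheory.TensorProduct.Maps

set_option autoImplicit false
universe u
open FrobAlg TensorProduct

namespace Groth.Agent.S14606

/-- Let k be a field of characteristic p > 0 and R a finitely generated commutative k-algebra. The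
scheme-theoretic image of the n-th relative Frobenius morphism of Spec R is the spectrum of the
k-subalgebra k[R^(p^n)] generated by all p^n-th powers; for n large enough this image is
geometrically reduced: there is an n such that k[R^(p^n)] is a geometrically reduced k-algebra.
(Stated in affine, ring-theoretic form.) -/
theorem result (k : Type u) [Field k] (p : ℕ) [Fact p.Prime] [CharP k p]
    (R : Type u) [CommRing R] [Algebra k R] [Algebra.FiniteType k R] :
    ∃ n : ℕ, Algebra.IsGeometricallyReduced k ↥(Algebra.adjoin k (Set.range (fun x : R => x ^ (p ^ n)))) := by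
  classical
  rcases subsingleton_or_nontrivial R with hR | hR
  · refine ⟨0, ?_⟩
    rw [Algebra.isGeometricallyReduced_field_iff]
    set S := Algebra.adjoin k (Set.range (fun x : R => x ^ (p ^ 0)))
    haveI : Subsingleton S := Subtype.coe_injective.subsingleton
    haveI : Subsingleton (AlgebraicClosure k ⊗[k] S) :=
      subsingleton_of_forall_eq 0 fun z => by
        induction z using TensorProduct.induction_on with
        | zero => rfl
        | tmul a b => rw [Subsingleton.elim b 0, tmul_zero]
        | add x y hx hy => rw [hx, hy, add_zero]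
    exact ⟨fun x _ => Subsingleton.elim _ _⟩
  let K := AlgebraicClosure k
  let B := K ⊗[k] R
  have hiR : Function.Injective (Algebra.TensorProduct.includeRight : R →ₐ[k] B) :=
    Algebra.TensorProduct.includeRight_injective (algebraMap k K).injective
  haveI : Nontrivial B := hiR.nontrivial
  haveI : CharP B p := charP_of_injective_algebraMap (algebraMap k B).injective p
  haveI : Algebra.FiniteType K B := Algebra.FiniteType.baseChange K
  haveI : IsNoetherianRing B := Algebra.FiniteType.isNoetherianRing K B
  obtain ⟨e, he⟩ := IsNoetherianRing.isNilpotent_nilradical B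
  have hzero : ∀ b : B, IsNilpotent b → b ^ p ^ e = 0 := by
    intro b hb
    have h1 : b ^ e ∈ nilradical B ^ e := Ideal.pow_mem_pow (mem_nilradical.2 hb) e
    rw [he] at h1
    obtain ⟨c, hc⟩ := Nat.exists_eq_add_of_le (Nat.lt_pow_self (a := p) (n := e) (Fact.out : p.Prime).one_lt).le
    rw [hc, pow_add, Ideal.mem_bot.1 h1, zero_mul]
  refine ⟨e, ?_⟩
  rw [Algebra.isGeometricallyReduced_field_iff]
  set S := Algebra.adjoin k (Set.range (fun x : R => x ^ (p ^ e)))
  let φ : K ⊗[k] S →ₐ[K] B := Algebra.TensorProduct.map (AlgHom.id K K) S.val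
  have hφ : Function.Injective φ :=
    Module.Flat.lTensor_preserves_injective_linearMap (M := K) S.val.toLinearMap Subtype.coe_injective
  have hK : ∀ c : K, c ⊗ₜ[k] (1 : R) ∈ (iterateFrobenius B p e).range := by
    intro c
    obtain ⟨d, hd⟩ := IsAlgClosed.exists_pow_nat_eq c (pow_pos (Fact.out : p.Prime).pos e)
    refine ⟨d ⊗ₜ 1, ?_⟩
    rw [iterateFrobenius_def, Algebra.TensorProduct.tmul_pow, hd, one_pow]
  have hS : ∀ a ∈ S, (1 : K) ⊗ₜ[k] a ∈ (iterateFrobenius B p e).range := by
    intro a ha
    induction ha using Algebra.adjoin_induction with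
    | mem x hx =>
      obtain ⟨y, rfl⟩ := hx
      refine ⟨1 ⊗ₜ y, ?_⟩
      rw [iterateFrobenius_def, Algebra.TensorProduct.tmul_pow, one_pow]
    | algebraMap r =>
      have h : (1 : K) ⊗ₜ[k] algebraMap k R r = algebraMap k K r ⊗ₜ[k] (1 : R) := by
        rw [Algebra.algebraMap_eq_smul_one, Algebra.algebraMap_eq_smul_one, smul_tmul]
      rw [h]
      exact hK _
    | add x y _ _ hx hy => rw [tmul_add]; exact add_mem hx hy
    | mul x y _ _ hx hy =>
      have h := mul_mem hx hy
      rwa [Algebra.TensorProduct.tmul_mul_tmul, one_mul] at h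
  have hrange : ∀ z, φ z ∈ (iterateFrobenius B p e).range := by
    intro z
    induction z using TensorProduct.induction_on with
    | zero => rw [map_zero]; exact zero_mem _
    | tmul c a =>
      have h := mul_mem (hK c) (hS a a.2)
      rw [Algebra.TensorProduct.tmul_mul_tmul, mul_one, one_mul] at h
      exact h
    | add x y hx hy => rw [map_add]; exact add_mem hx hy
  refine ⟨fun z hz => hφ ?_⟩
  obtain ⟨b, hb⟩ := hrange z
  rw [map_zero, ← hb, iterateFrobenius_def]
  refine hzero b ?_
  have hn : IsNilpotent (φ z) := hz.map φ
  rw [← hb, iterateFrobenius_def] at hn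
  exact hn.of_pow

end Groth.Agent.S14606
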