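import Groth.Statements.S14607
import Groth.Agent.L06.PicHomotopy.Seminormal

set_option autoImplicit false
set_option maxSynthPendingDepth 3
set_option linter.style.haveILetI false
universe u
open CategoryTheory AlgebraicGeometry CategoryTheory.Limits
open PicF

namespace Groth.Agent.S14607

/-- Let k be a field and X an integral, separated k-scheme of finite type which is seminormal, in the
sense that every point has an affine open neighbourhood whose ring of functions is seminormal (x³ =
y² implies x = a² and y = a³ for exactly one a). Then the pull-back along the first projection X ×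
A¹ → X induces a bijection from the isomorphism classes of invertible O_X-modules onto those of
invertible modules on X × A¹, i.e. Pic(X) → Pic(X × A¹) is an isomorphism. (This is the assertion
established in the course of the published proof, which deduces from it that the Picard variety of a
geometrically semi-normal proper variety is semi-abelian; semi-normality is taken in the
ring-theoretic form used by the cited input on Picard groups of polynomial rings.) -/
theorem result (k : Type u) [Field k]
    (X : Scheme.{u}) (f : X ⟶ Spec (CommRingCat.of k)) [IsIntegral X] [IsSeparated f] [LocallyOfFiniteType f] [QuasiCompact f]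
    (hX : HTop.IsSeminormal X) :
    Set.BijOn (PicF.pullCl (pullback.fst f (𝔸(PUnit.{u + 1}; Spec (CommRingCat.of k)) ↘ Spec (CommRingCat.of k))))
      {c : PicF.Cl X | PicF.IsInvertibleCl c}
      {c : PicF.Cl (pullback f (𝔸(PUnit.{u + 1}; Spec (CommRingCat.of k)) ↘ Spec (CommRingCat.of k))) | PicF.IsInvertibleCl c} := by
  let A := 𝔸(PUnit.{u + 1}; Spec (CommRingCat.of k))
  let φ : 𝔸(PUnit.{u + 1}; X) ≅ pullback f (A ↘ Spec (CommRingCat.of k)) :=
    (AffineSpace.isPullback_map f).flip.isoPullback
  have hφ : φ.hom ≫ pullback.fst f (A ↘ Spec (CommRingCat.of k)) = Groth.L06.PicHomotopy.prA PUnit.{u + 1} X :=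
    (AffineSpace.isPullback_map f).flip.isoPullback_hom_fst
  have hfst : ∀ c, PicF.pullCl (pullback.fst f (A ↘ Spec (CommRingCat.of k))) c =
      PicF.pullCl φ.inv (PicF.pullCl (Groth.L06.PicHomotopy.prA PUnit.{u + 1} X) c) := fun c => by
    rw [← PicLoc.pullCl_comp, ← hφ, Iso.inv_hom_id_assoc]
  have h1 : ∀ c, PicF.pullCl φ.inv (PicF.pullCl φ.hom c) = c := fun c => by
    rw [← PicLoc.pullCl_comp, Iso.inv_hom_id, PicLoc.pullCl_id]
  have h2 : ∀ c, PicF.pullCl φ.hom (PicF.pullCl φ.inv c) = c := fun c => by
    rw [← PicLoc.pullCl_comp, Iso.hom_inv_id, PicLoc.pullCl_id]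
  have hB := Groth.L06.PicHomotopy.bijOn_pullCl_line hX
  refine ⟨fun c hc => PicLoc.isInvertibleCl_pullCl _ hc, fun c hc d hd h => ?_, fun c hc => ?_⟩
  · rw [hfst, hfst] at h
    exact hB.injOn hc hd (by simpa only [h2] using congrArg (PicF.pullCl φ.hom) h)
  · obtain ⟨d, hd, hdc⟩ := hB.surjOn (PicLoc.isInvertibleCl_pullCl φ.hom hc)
    exact ⟨d, hd, by rw [hfst, hdc, h1]⟩

end Groth.Agent.S14607
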