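import Groth.Statements.S14610
import Groth.Agent.L01.RankExchange

set_option autoImplicit false
universe u v
open CAlg

namespace Groth.Agent.S14610

open TensorProduct in
/-- Let A be a reduced Noetherian ring, M a finitely generated A-module, F a finitely generated free
A-module and δ : M → F an A-linear map such that the function p ↦ dim_{κ(p)} ker(δ ⊗ κ(p)) is
locally constant on Spec A. Then M, ker δ and coker δ = F / im δ are projective A-modules, and for
every A-module N the natural map (ker δ) ⊗ N → M ⊗ N is injective with image equal to the kernel of
δ ⊗ N. -/
theorem result (A : Type u) [CommRing A]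
    [IsNoetherianRing A] [IsReduced A] (M : Type v) (F : Type v) [AddCommGroup M] [Module A M]
    [Module.Finite A M] [AddCommGroup F] [Module A F] [Module.Finite A F] [Module.Free A F]
    (δ : M →ₗ[A] F)
    (h : IsLocallyConstant (fun x : PrimeSpectrum A =>
      Module.finrank x.asIdeal.ResidueField
        (LinearMap.ker (δ.baseChange x.asIdeal.ResidueField)))) :
    Module.Projective A M ∧ Module.Projective A (LinearMap.ker δ) ∧
      Module.Projective A (F ⧸ LinearMap.range δ) ∧
      ∀ (N : Type v) [AddCommGroup N] [Module A N],
        Function.Injective (LinearMap.rTensor N (LinearMap.ker δ).subtype) ∧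
        Function.Exact (LinearMap.rTensor N (LinearMap.ker δ).subtype) (LinearMap.rTensor N δ) := Groth.L01.RankExchange.of_isLocallyConstant_ker δ h

end Groth.Agent.S14610
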