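import Groth.Statements.S14611
import Groth.Agent.L01.FlatCx.BC
import Groth.Agent.L01.FlatCx.Local
import Mathlib.RingTheory.Finiteness.Projective
import Mathlib.RingTheory.Flat.EquationalCriterion
import Mathlib.RingTheory.LocalProperties.Basic

set_option autoImplicit false
universe u
open FlatCx

namespace Groth.Agent.S14611

open CategoryTheory CategoryTheory.Limits
open scoped TensorProduct
open Groth.L01.FlatCx

/-- Freeness after localizing from injectivity at the residue field. -/
theorem free_tensor_localization {A : Type u} [CommRing A] [IsNoetherianRing A] (P : Ideal A) [P.IsPrime]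
    {X : Type u} [AddCommGroup X] [Module A X] [Module.Finite A X] [Module.Projective A X]
    (I : Submodule A X)
    (h : Function.Injective (I.subtype.lTensor (IsLocalRing.ResidueField (Localization.AtPrime P)))) :
    Module.Free (Localization.AtPrime P) (Localization.AtPrime P ⊗[A] (X ⧸ I)) := by
  let T := Localization.AtPrime P
  let k := IsLocalRing.ResidueField T
  have : Module.Finite A I := inferInstance
  have : Module.Free T (T ⊗[A] X) := Module.free_of_flat_of_isLocalRing
  refine Module.free_of_lTensor_residueField_injective (I.subtype.baseChange T) (I.mkQ.baseChange T) ?_ ?_ ?_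
  · rw [LinearMap.baseChange_eq_ltensor]
    exact LinearMap.lTensor_surjective T I.mkQ_surjective
  · rw [LinearMap.baseChange_eq_ltensor, LinearMap.baseChange_eq_ltensor]
    exact lTensor_exact T (LinearMap.exact_subtype_mkQ I) I.mkQ_surjective
  · let e := TensorProduct.AlgebraTensorModule.cancelBaseChange A T T k I
    let e' := TensorProduct.AlgebraTensorModule.cancelBaseChange A T T k X
    have hc : ∀ z, e' ((I.subtype.baseChange T).lTensor k z) = I.subtype.lTensor k (e z) := by
      intro z
      induction z using TensorProduct.induction_on with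
      | zero => simp
      | tmul a w =>
        induction w using TensorProduct.induction_on with
        | zero => simp
        | tmul b x => simp [e, e']
        | add x y hx hy => simp only [TensorProduct.tmul_add, map_add, hx, hy]
      | add x y hx hy => simp only [map_add, hx, hy]
    intro a b hab
    refine e.injective (h ?_)
    rw [← hc, ← hc]
    exact congrArg e' hab

/-- Vanishing at `A/P` gives injectivity at the residue field. -/
theorem inj_residue {A : Type u} [CommRing A] (Q : CochainComplex (ModuleCat.{u} A) ℤ) (d : ℤ)
    (P : Ideal A) [P.IsMaximal]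
    (h : IsZero ((CohIII.TFun Q (d - 1)).obj (ModuleCat.of A (A ⧸ P)))) :
    Function.Injective ((LinearMap.range (dd Q (d - 1) d)).subtype.lTensor
      (IsLocalRing.ResidueField (Localization.AtPrime P))) := by
  let k := IsLocalRing.ResidueField (Localization.AtPrime P)
  let R := dd Q (d - 1) d
  letI := Ideal.Quotient.field P
  let bas := Module.Free.chooseBasis (A ⧸ P) k
  have hz : Subsingleton ((CohIII.TFun Q (d - 1)).obj (ModuleCat.of A k) : Type u) := by
    let e := (LinearEquiv.restrictScalars A bas.repr).toModuleIso
    have hs : IsZero ((CohIII.TFun Q (d - 1)).obj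
        (ModuleCat.of A (Module.Free.ChooseBasisIndex (A ⧸ P) k →₀ (A ⧸ P)))) := by
      have : Subsingleton ((CohIII.TFun Q (d - 1)).obj
          (ModuleCat.of A (Module.Free.ChooseBasisIndex (A ⧸ P) k →₀ (A ⧸ P))) : Type u) := by
        refine subsingleton_of_forall_eq 0 fun y => ?_
        have hy := gen_TFun Q (d - 1) (Module.Free.ChooseBasisIndex (A ⧸ P) k) (ModuleCat.of A (A ⧸ P)) y
        refine (Submodule.mem_bot A).mp (SetLike.le_def.mp (iSup_le fun j => ?_) hy)
        rintro _ ⟨w, rfl⟩
        rw [@Subsingleton.elim _ (ModuleCat.subsingleton_of_isZero h) w 0, map_zero]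
        exact Submodule.zero_mem _
      exact ModuleCat.isZero_of_subsingleton _
    exact ModuleCat.subsingleton_of_isZero (hs.of_iso ((CohIII.TFun Q (d - 1)).mapIso e))
  rw [LinearMap.lTensor_inj_iff_rTensor_inj]
  refine (injective_iff_map_eq_zero _).mpr fun z hz' => ?_
  obtain ⟨w, rfl⟩ := LinearMap.rTensor_surjective k R.surjective_rangeRestrict z
  rw [← LinearMap.comp_apply, ← LinearMap.rTensor_comp] at hz'
  have hk : (ComplexShape.up ℤ).next (d - 1) = d := (ComplexShape.up ℤ).next_eq' (by simp)
  have hw : w ∈ Cyc Q (d - 1) (ModuleCat.of A k) := by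
    show (dd Q (d - 1) _).rTensor k w = 0
    rw [hk]
    exact hz'
  obtain ⟨y, hy⟩ := (cls_eq_zero_iff Q (i := (ComplexShape.up ℤ).prev (d - 1)) rfl (ModuleCat.of A k)
    ⟨w, hw⟩).mp (Subsingleton.elim _ _)
  show R.rangeRestrict.rTensor k w = 0
  have hy : (dd Q ((ComplexShape.up ℤ).prev (d - 1)) (d - 1)).rTensor k y = w := hy
  rw [← hy, ← LinearMap.comp_apply, ← LinearMap.rTensor_comp,
    show R.rangeRestrict ∘ₗ dd Q _ (d - 1) = 0 from LinearMap.ext fun v => Subtype.ext (dd_dd Q _ _ _ v),
    LinearMap.rTensor_zero]
  rfl


/-- Let A be a Noetherian ring, Q a cochain complex whose terms are finitely generated projective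
A-modules, and d an integer such that H^p(Q) = 0 for every p < d and H^p(Q ⊗_A A/m) = 0 for every p
< d and every maximal ideal m of A. Then Q^d / im(Q^{d-1} → Q^d), the degree-d term of the
truncation τ_{≥ d} Q, is a projective A-module, so that τ_{≥ d} Q is again a complex of projective
modules. (The published statement also asserts that Q → τ_{≥ d} Q is a quasi-isomorphism when H^p(Q)
= 0 for p < d; this row omits that clause.) -/
theorem result (A : Type u) [CommRing A] [IsNoetherianRing A]
    (Q : CochainComplex (ModuleCat.{u} A) ℤ)
    (hQ : ∀ i, Module.Finite A (Q.X i) ∧ Module.Projective A (Q.X i)) (d : ℤ)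
    (h1 : ∀ p < d, IsZero (Q.homology p))
    (h2 : ∀ (m : Ideal A) [m.IsMaximal], ∀ p < d,
      IsZero ((CohIII.tensorObj Q (ModuleCat.of A (A ⧸ m))).homology p)) :
    Module.Projective A (Q.opcycles d) := by
  have := fun i => (hQ i).1
  have := fun i => (hQ i).2
  have hi : (ComplexShape.up ℤ).prev d = d - 1 := (ComplexShape.up ℤ).prev_eq' (by simp)
  obtain ⟨e⟩ := nonempty_opcycles_equiv Q hi
  suffices h : Module.Projective A (Coker Q (d - 1) d) from Module.Projective.of_equiv e.symm
  have : Module.FinitePresentation A (Coker Q (d - 1) d) := Module.finitePresentation_of_finite A _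
  have hflat : Module.Flat A (Coker Q (d - 1) d) := by
    refine Module.flat_of_localized_maximal _ fun P hP => ?_
    let T := Localization.AtPrime P
    have : Module.Free T (T ⊗[A] Coker Q (d - 1) d) := by
      refine free_tensor_localization P (LinearMap.range (dd Q (d - 1) d)) ?_
      exact inj_residue Q d P (h2 P (d - 1) (by omega))
    have : Module.Flat A T := IsLocalization.flat T P.primeCompl
    have : Module.Flat A (T ⊗[A] Coker Q (d - 1) d) := Module.Flat.trans A T _
    exact Module.Flat.of_linearEquiv
      ((LocalizedModule.equivTensorProduct P.primeCompl (Coker Q (d - 1) d)).restrictScalars A)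
  exact Module.Flat.projective_of_finitePresentation

end Groth.Agent.S14611
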