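import Groth.Statements.S14612
import Groth.Agent.L01.FlatCx.Seq

set_option autoImplicit false
universe u
open FlatCx

namespace Groth.Agent.S14612

open CategoryTheory CategoryTheory.Limits in
/-- Let A be a commutative ring and F a cochain complex of flat A-modules which is bounded above (F^i =
0 for all large i) and whose cohomology H^p(F) vanishes for every p > d. Then the module of
d-cocycles Z^d = ker(F^d → F^{d+1}) is flat over A; hence the truncation τ_{≤ d} F is again a
complex of flat modules (and τ_{≤ d} F → F is a quasi-isomorphism, which is not restated).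
Boundedness cannot be dropped. -/
theorem result (A : Type u) [CommRing A]
    (F : CochainComplex (ModuleCat.{u} A) ℤ) (hF : ∀ i, Module.Flat A (F.X i))
    (hb : ∃ b : ℤ, ∀ i, b < i → IsZero (F.X i)) (d : ℤ) (hac : ∀ p, d < p → IsZero (F.homology p)) :
    Module.Flat A (F.cycles d) := by
  let dd := fun i : ℤ => Groth.L01.FlatCx.dd F i (i + 1)
  have hi : ∀ i : ℤ, (ComplexShape.up ℤ).prev (i + 1) = i := fun i => (ComplexShape.up ℤ).prev_eq' rfl
  have hk : ∀ i : ℤ, (ComplexShape.up ℤ).next i = i + 1 := fun i => (ComplexShape.up ℤ).next_eq' rfl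
  obtain ⟨b, hb⟩ := hb
  have key : ∀ n : ℕ, ∀ i : ℤ, d ≤ i → b < i + n → Module.Flat A (LinearMap.ker (dd i)) := by
    intro n
    induction n with
    | zero =>
      intro i _ hbi
      have := ModuleCat.subsingleton_of_isZero (hb i (by simpa using hbi))
      infer_instance
    | succ n ih =>
      intro i hdi hbi
      have := ih (i + 1) (by omega) (by omega)
      have := hF i
      let g : (F.X i : Type u) →ₗ[A] LinearMap.ker (dd (i + 1)) :=
        (dd i).codRestrict _ fun x => Groth.L01.FlatCx.dd_dd F _ _ _ x
      refine Groth.L01.FlatCx.flat_left (f := (LinearMap.ker (dd i)).subtype) (g := g)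
        (Submodule.injective_subtype _) ?_ ?_
      · rintro ⟨y, hy⟩
        obtain ⟨x, hx⟩ := (Groth.L28.HomElt.isZero_homology_iff (K := F) (hi i) (hk (i + 1))).mp
          (hac (i + 1) (by omega)) y hy
        exact ⟨x, Subtype.ext hx⟩
      · rw [LinearMap.exact_iff, Submodule.range_subtype]
        exact LinearMap.ker_codRestrict _ _ _
  have := key (b + 1 - d).toNat d le_rfl (by omega)
  have hinj := Groth.L28.HomElt.iCycles_injective F d
  refine Module.Flat.of_linearEquiv (R := A) (M := LinearMap.ker (dd d)) ?_
  refine (LinearEquiv.ofInjective (F.iCycles d).hom hinj).trans (LinearEquiv.ofEq _ _ ?_)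
  refine le_antisymm ?_ fun x hx => ?_
  · rintro _ ⟨z, rfl⟩
    exact Groth.L28.HomElt.d_iCycles d (d + 1) z
  · obtain ⟨z, hz⟩ := Groth.L28.HomElt.exists_cycle (hk d) x hx
    exact ⟨z, hz⟩

end Groth.Agent.S14612
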