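import Groth.Statements.S14613
import Groth.Agent.L00.ConeTransfer
import Groth.Agent.L01.FlatCx.BC
import Mathlib.Algebra.Homology.HomotopyCategory.MappingCone

set_option autoImplicit false
universe u
open FlatCx

namespace Groth.Agent.S14613

open CategoryTheory CategoryTheory.Limits
open scoped TensorProduct
open Groth.L01.FlatCx


/-- Let A be a commutative ring (not necessarily Noetherian), C and D cochain complexes of flat
A-modules that are bounded above (zero in all large degrees), φ : C → D a quasi-isomorphism and M an
arbitrary A-module. Then φ ⊗ id_M : C ⊗_A M → D ⊗_A M, the tensor product taken degreewise, is a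
quasi-isomorphism. Boundedness cannot be dropped. -/
theorem result (A : Type u) [CommRing A]
    (C D : CochainComplex (ModuleCat.{u} A) ℤ)
    (hC : ∀ i, Module.Flat A (C.X i)) (hD : ∀ i, Module.Flat A (D.X i))
    (bC : ∃ b : ℤ, ∀ i, b < i → IsZero (C.X i)) (bD : ∃ b : ℤ, ∀ i, b < i → IsZero (D.X i))
    (φ : C ⟶ D) [QuasiIso φ] (M : ModuleCat.{u} A) :
    QuasiIso (((MonoidalCategory.tensorRight M).mapHomologicalComplex (ComplexShape.up ℤ)).map φ) := by
  let K := CochainComplex.mappingCone φ
  obtain ⟨b₁, hb₁⟩ := bC
  obtain ⟨b₂, hb₂⟩ := bD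
  have hdec : ∀ (i : ℤ) (x : K.X i),
      ((CochainComplex.mappingCone.inl φ).v (i + 1) i (by omega)).hom
          (((CochainComplex.mappingCone.fst φ).1.v i (i + 1) rfl).hom x) +
        ((CochainComplex.mappingCone.inr φ).f i).hom
          (((CochainComplex.mappingCone.snd φ).v i i (add_zero i)).hom x) = x := fun i x =>
    LinearMap.congr_fun (ModuleCat.hom_ext_iff.mp (CochainComplex.mappingCone.id_X φ i (i + 1) rfl)) x
  have hK : ∀ i, Module.Flat A (K.X i) := fun i => by
    have := hC (i + 1)
    have := hD i
    refine flat_middle (f := ((CochainComplex.mappingCone.inr φ).f i).hom)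
      (g := ((CochainComplex.mappingCone.fst φ).1.v i (i + 1) rfl).hom) ?_ ?_ ?_
    · exact Function.LeftInverse.injective
        (g := ((CochainComplex.mappingCone.snd φ).v i i (add_zero i)).hom) fun y =>
        LinearMap.congr_fun (ModuleCat.hom_ext_iff.mp (CochainComplex.mappingCone.inr_f_snd_v φ i)) y
    · exact Function.RightInverse.surjective
        (g := ((CochainComplex.mappingCone.inl φ).v (i + 1) i (by omega)).hom) fun y =>
        LinearMap.congr_fun (ModuleCat.hom_ext_iff.mp (CochainComplex.mappingCone.inl_v_fst_v φ (i + 1) i rfl)) y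
    · intro x
      refine ⟨fun hx => ⟨((CochainComplex.mappingCone.snd φ).v i i (add_zero i)).hom x, ?_⟩, ?_⟩
      · have h := hdec i x
        rw [hx, map_zero, zero_add] at h
        exact h
      · rintro ⟨y, rfl⟩
        exact LinearMap.congr_fun (ModuleCat.hom_ext_iff.mp
          (CochainComplex.mappingCone.inr_f_fst_v φ i (i + 1) rfl)) y
  let b := max b₁ b₂
  have hzero : ∀ i, b < i → IsZero (K.X i) := fun i hi => by
    have := ModuleCat.subsingleton_of_isZero (hb₁ (i + 1) (by omega))
    have := ModuleCat.subsingleton_of_isZero (hb₂ i (by omega))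
    have : Subsingleton (K.X i) := subsingleton_of_forall_eq 0 fun x => by
      rw [← hdec i x, Subsingleton.elim (((CochainComplex.mappingCone.fst φ).1.v i (i + 1) rfl).hom x) 0,
        Subsingleton.elim (((CochainComplex.mappingCone.snd φ).v i i (add_zero i)).hom x) 0,
        map_zero, map_zero, zero_add]
    exact ModuleCat.isZero_of_subsingleton _
  have hk : ∀ j : ℤ, (ComplexShape.up ℤ).next j = j + 1 := fun j => (ComplexShape.up ℤ).next_eq' rfl
  have hkj : ∀ j : ℤ, (ComplexShape.up ℤ).prev (j + 1) = j := fun j => (ComplexShape.up ℤ).prev_eq' rfl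
  have hH : ∀ j, Subsingleton ((CohIII.TFun K j).obj (ModuleCat.of A A) : Type u) := fun j =>
    have := ModuleCat.subsingleton_of_isZero (Groth.L00.ConeTransfer.acyclic_cone φ j)
    (unitEquiv K j).toEquiv.subsingleton
  have key : ∀ n : ℕ, ∀ j : ℤ, b < j + n → (CohIII.TFun K j).PreservesMonomorphisms := by
    intro n
    induction n with
    | zero =>
      intro j hj
      refine (preservesMono_iff K (i := j - 1) ((ComplexShape.up ℤ).prev_eq' (by simp)) hK).mpr ?_
      have := ModuleCat.subsingleton_of_isZero (hzero j (by simpa using hj))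
      have := (Submodule.mkQ_surjective (LinearMap.range (dd K (j - 1) j))).subsingleton
      infer_instance
    | succ n ih =>
      intro j hj
      have := (preservesEpi_iff_preservesMono K (hk j) (hkj j) hK).mpr (ih (j + 1) (by omega))
      have := hH j
      exact (preservesMono_iff_flat_obj K j hK).mpr inferInstance
  have hac : ∀ j, IsZero ((CohIII.TFun K j).obj M) := fun j => by
    have := (preservesEpi_iff_preservesMono K (hk j) (hkj j) hK).mpr
      (key (b + 1 - (j + 1)).toNat (j + 1) (by omega))
    have := hH j
    have : Subsingleton ((CohIII.TFun K j).obj M : Type u) :=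
      (bijective_of_preservesEpi K j hK M).2.subsingleton
    exact ModuleCat.isZero_of_subsingleton _
  refine Groth.L00.Cell.quasiIso_of_acyclic_cone _ fun n => (hac n).of_iso ?_
  exact ((HomologicalComplex.homologyFunctor _ _ n).mapIso
    (CochainComplex.mappingCone.mapHomologicalComplexIso φ (MonoidalCategory.tensorRight M))).symm

end Groth.Agent.S14613
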