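import Groth.Statements.S14614
import Mathlib.AlgebraicGeometry.Morphisms.FlatMono
import Mathlib.AlgebraicGeometry.Noetherian
import Mathlib.RingTheory.Filtration
import Mathlib.AlgebraicGeometry.Morphisms.ClosedImmersion
import Mathlib.RingTheory.HopkinsLevitzki

set_option autoImplicit false
set_option backward.isDefEq.respectTransparency.types false
set_option backward.isDefEq.respectTransparency false
set_option linter.style.haveILetI false
universe u
open Mor

namespace Groth.Agent.S14614

open CategoryTheory AlgebraicGeometry in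
/-- Let S be a locally Noetherian scheme and i : Z → S a closed immersion with the following property:
for every Artinian local ring A with residue field k and every morphism g : Spec A → S, if the
restriction Spec k → Spec A → S of g factors through i then so does g. Then i is also an open
immersion, i.e. the closed subscheme Z is open in S as a subscheme. (The published hypothesis is an
equivalence; its other direction always holds, so this row assumes only the implication.) -/
theorem result (S : Scheme.{u}) [IsLocallyNoetherian S]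
    {Z : Scheme.{u}} (i : Z ⟶ S) [IsClosedImmersion i]
    (h : ∀ (A : Type u) [CommRing A] [IsArtinianRing A] [IsLocalRing A] (g : Spec (CommRingCat.of A) ⟶ S),
      (∃ t : Spec (CommRingCat.of (IsLocalRing.ResidueField A)) ⟶ Z,
          t ≫ i = Spec.map (CommRingCat.ofHom (IsLocalRing.residue A)) ≫ g) →
        ∃ g' : Spec (CommRingCat.of A) ⟶ Z, g' ≫ i = g) :
    IsOpenImmersion i := by
  haveI : LocallyOfFinitePresentation i :=
    LocallyOfFinitePresentation.iff_locallyOfFiniteType.mpr inferInstance
  suffices hinj : ∀ z, Function.Injective (i.stalkMap z) by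
    haveI : Flat i := (Flat.iff_flat_stalkMap (f := i)).mpr fun z =>
      RingHom.Flat.of_bijective ⟨hinj z, i.stalkMap_surjective z⟩
    exact IsOpenImmersion.of_flat_of_mono i
  intro z
  haveI : IsNoetherianRing (S.presheaf.stalk (i z)) := inferInstance
  rw [injective_iff_map_eq_zero]
  intro r hr
  rw [← Submodule.mem_bot (R := S.presheaf.stalk (i z)), ← Ideal.iInf_pow_eq_bot_of_isLocalRing
    (IsLocalRing.maximalIdeal (S.presheaf.stalk (i z))) (IsLocalRing.maximalIdeal.isMaximal _).ne_top,
    Submodule.mem_iInf]
  intro n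
  rcases n with _ | n
  · simp
  let m := IsLocalRing.maximalIdeal (S.presheaf.stalk (i z))
  let A := S.presheaf.stalk (i z) ⧸ m ^ (n + 1)
  have hne : m ^ (n + 1) ≠ ⊤ := fun h' => (IsLocalRing.maximalIdeal.isMaximal _).ne_top
    (top_le_iff.mp (h'.ge.trans (Ideal.pow_le_self (Nat.succ_ne_zero n))))
  haveI : Nontrivial A := Ideal.Quotient.nontrivial_iff.mpr hne
  haveI : IsLocalRing A := IsLocalRing.of_surjective' (Ideal.Quotient.mk _) Ideal.Quotient.mk_surjective
  haveI : IsArtinianRing A := by
    rw [isArtinianRing_iff_isNilpotent_maximalIdeal]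
    refine ⟨n + 1, ?_⟩
    rw [← IsLocalRing.map_maximalIdeal_of_surjective (Ideal.Quotient.mk _) Ideal.Quotient.mk_surjective,
      ← Ideal.map_pow, Ideal.zero_eq_bot, Ideal.map_quotient_self]
  let mk : S.presheaf.stalk (i z) →+* A := Ideal.Quotient.mk _
  haveI : IsLocalHom mk := .of_surjective mk Ideal.Quotient.mk_surjective
  let g : Spec (CommRingCat.of A) ⟶ S := Spec.map (CommRingCat.ofHom mk) ≫ S.fromSpecStalk (i z)
  have hsurj := i.stalkMap_surjective z
  let ψ : Z.presheaf.stalk z →+* IsLocalRing.ResidueField A :=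
    RingHom.liftOfSurjective (i.stalkMap z).hom hsurj ⟨(IsLocalRing.residue A).comp mk, fun a ha => by
      rw [RingHom.mem_ker, RingHom.comp_apply, IsLocalRing.residue_eq_zero_iff,
        IsLocalRing.mem_maximalIdeal, map_mem_nonunits_iff]
      exact fun hu => (hu.map (i.stalkMap z).hom).ne_zero ha⟩
  have hψ : ψ.comp (i.stalkMap z).hom = (IsLocalRing.residue A).comp mk :=
    RingHom.liftOfRightInverse_comp _ _ _ _
  obtain ⟨g', hg'⟩ := h A g ⟨Spec.map (CommRingCat.ofHom ψ) ≫ Z.fromSpecStalk z, by
    rw [Category.assoc, ← Scheme.SpecMap_stalkMap_fromSpecStalk, ← Spec.map_comp_assoc,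
      ← Spec.map_comp_assoc]
    congr 2
    exact CommRingCat.hom_ext hψ⟩
  have hpt : g' (IsLocalRing.closedPoint A) = z := by
    apply i.isClosedEmbedding.injective
    rw [← Scheme.Hom.comp_apply, hg', Scheme.Hom.comp_apply, Spec_closedPoint]
    exact Scheme.fromSpecStalk_closedPoint
  have gen : ∀ z', g' (IsLocalRing.closedPoint A) = z' →
      ∃ χ : Z.presheaf.stalk z' ⟶ CommRingCat.of A, g' = Spec.map χ ≫ Z.fromSpecStalk z' := by
    rintro _ rfl
    exact ⟨Scheme.stalkClosedPointTo g', (Scheme.Spec_stalkClosedPointTo_fromSpecStalk g').symm⟩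
  obtain ⟨χ, hχ⟩ := gen z hpt
  rw [hχ, Category.assoc, ← Scheme.SpecMap_stalkMap_fromSpecStalk, ← Spec.map_comp_assoc] at hg'
  have e := Spec.map_injective ((cancel_mono (S.fromSpecStalk (i z))).mp hg')
  have e' : χ.hom (i.stalkMap z r) = mk r := congr($e r)
  rw [hr, map_zero] at e'
  exact Ideal.Quotient.eq_zero_iff_mem.mp e'.symm

end Groth.Agent.S14614
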