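import Groth.Statements.S14616
import Groth.Agent.L17.Tower

set_option autoImplicit false
universe u
open Formal2

namespace Groth.Agent.S14616

open CategoryTheory in
/-- Let … → G_2 → G_1 → G_0 be an inverse system of abelian groups with transition maps t_n : G_{n+1} →
G_n which satisfies the Mittag-Leffler condition: for every i there is j ≥ i such that for all k ≥ j
the images of G_k → G_i and G_j → G_i coincide. Then lim¹ G_n = 0, i.e. the map (x_n) ↦ (x_n −
t_n(x_{n+1})) on ∏ G_n is surjective. -/
theorem result (G : ℕ → Type u) [∀ n, AddCommGroup (G n)]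
    (t : ∀ n, G (n + 1) →+ G n)
    (h : (Functor.ofOpSequence (X := fun n => AddCommGrpCat.of (G n))
      (fun n => AddCommGrpCat.ofHom (t n)) ⋙ forget AddCommGrpCat).IsMittagLeffler) :
    Function.Surjective (Formal2.towerDiff G t) := by
  intro y
  obtain ⟨x, hx⟩ := Groth.L17.Tower.exists_solution_of_ml t
    (Groth.L17.Tower.ml_of_isMittagLeffler t h) y
  exact ⟨x, funext hx⟩

end Groth.Agent.S14616
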