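import Groth.Statements.S14617
import Mathlib.Algebra.Group.Hom.Basic

set_option autoImplicit false
universe u
open Formal2

namespace Groth.Agent.S14617

/-- Let 0 → (G'_n) → (G_n) → (G''_n) → 0 be a short exact sequence of inverse systems of abelian groups
indexed by ℕ: maps u_n : G'_n → G_n and v_n : G_n → G''_n commuting with the transition maps, with
u_n injective, v_n surjective and ker v_n = im u_n for every n. Writing lim and lim¹ for the kernel
and cokernel of (x_n) ↦ (x_n − t_n(x_{n+1})) on the product, there is an exact sequence 0 → lim G' →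
lim G → lim G'' → lim¹ G' → lim¹ G → lim¹ G'' → 0 in which the four outer maps are the ones induced
by u and v on products and the connecting map δ sends a compatible sequence (z_n) to the class of
the unique (w_n) with u_n(w_n) = y_n − t_n(y_{n+1}), for any levelwise lift (y_n) of (z_n). -/
theorem result (G' G G'' : ℕ → Type u)
    [∀ n, AddCommGroup (G' n)] [∀ n, AddCommGroup (G n)] [∀ n, AddCommGroup (G'' n)]
    (t' : ∀ n, G' (n + 1) →+ G' n) (t : ∀ n, G (n + 1) →+ G n) (t'' : ∀ n, G'' (n + 1) →+ G'' n)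
    (u : ∀ n, G' n →+ G n) (v : ∀ n, G n →+ G'' n)
    (hu : ∀ n x, t n (u (n + 1) x) = u n (t' n x)) (hv : ∀ n x, t'' n (v (n + 1) x) = v n (t n x))
    (hinj : ∀ n, Function.Injective (u n)) (hsurj : ∀ n, Function.Surjective (v n))
    (hex : ∀ n, (v n).ker = (u n).range) :
    ∃ (α : Formal2.limZero G' t' →+ Formal2.limZero G t) (β : Formal2.limZero G t →+ Formal2.limZero G'' t'')
      (δ : Formal2.limZero G'' t'' →+ Formal2.limOne G' t')
      (ε : Formal2.limOne G' t' →+ Formal2.limOne G t) (ζ : Formal2.limOne G t →+ Formal2.limOne G'' t''),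
      (∀ (x : Formal2.limZero G' t') (n : ℕ), (α x : ∀ n, G n) n = u n ((x : ∀ n, G' n) n)) ∧
      (∀ (x : Formal2.limZero G t) (n : ℕ), (β x : ∀ n, G'' n) n = v n ((x : ∀ n, G n) n)) ∧
      (∀ (z : Formal2.limZero G'' t'') (y : ∀ n, G n) (w : ∀ n, G' n),
          (∀ n, v n (y n) = (z : ∀ n, G'' n) n) → (∀ n, u n (w n) = Formal2.towerDiff G t y n) →
            δ z = (QuotientAddGroup.mk w : Formal2.limOne G' t')) ∧
      (∀ y : ∀ n, G' n, ε (QuotientAddGroup.mk y : Formal2.limOne G' t') =
          (QuotientAddGroup.mk (fun n => u n (y n)) : Formal2.limOne G t)) ∧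
      (∀ y : ∀ n, G n, ζ (QuotientAddGroup.mk y : Formal2.limOne G t) =
          (QuotientAddGroup.mk (fun n => v n (y n)) : Formal2.limOne G'' t'')) ∧
      Function.Injective α ∧ α.range = β.ker ∧ β.range = δ.ker ∧ δ.range = ε.ker ∧ ε.range = ζ.ker ∧
      Function.Surjective ζ := by
  classical
  have hdu : ∀ y : ∀ n, G' n, Formal2.towerDiff G t (fun n => u n (y n)) =
      fun n => u n (Formal2.towerDiff G' t' y n) := by
    intro y
    funext n
    simp [Formal2.towerDiff, hu, map_sub]
  have hdv : ∀ y : ∀ n, G n, Formal2.towerDiff G'' t'' (fun n => v n (y n)) =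
      fun n => v n (Formal2.towerDiff G t y n) := by
    intro y
    funext n
    simp [Formal2.towerDiff, hv, map_sub]
  have hvu : ∀ n x, v n (u n x) = 0 := fun n x ↦ by
    rw [← AddMonoidHom.mem_ker, hex]
    exact ⟨x, rfl⟩
  have hlift : ∀ n (g : G n), v n g = 0 → ∃ g', u n g' = g := fun n g hg ↦ by
    rw [← AddMonoidHom.mem_ker, hex] at hg
    exact hg
  let U : (∀ n, G' n) →+ ∀ n, G n := AddMonoidHom.piMap u
  let V : (∀ n, G n) →+ ∀ n, G'' n := AddMonoidHom.piMap v
  let α : Formal2.limZero G' t' →+ Formal2.limZero G t :=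
    (U.comp (Formal2.limZero G' t').subtype).codRestrict _ fun x => by
      rw [AddMonoidHom.mem_ker]
      exact (hdu x.1).trans (funext fun n => by rw [AddMonoidHom.mem_ker.mp x.2]; simp)
  let β : Formal2.limZero G t →+ Formal2.limZero G'' t'' :=
    (V.comp (Formal2.limZero G t).subtype).codRestrict _ fun x => by
      rw [AddMonoidHom.mem_ker]
      exact (hdv x.1).trans (funext fun n => by rw [AddMonoidHom.mem_ker.mp x.2]; simp)
  have hyex : ∀ z : Formal2.limZero G'' t'', ∃ yw : (∀ n, G n) × (∀ n, G' n),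
      (∀ n, v n (yw.1 n) = (z : ∀ n, G'' n) n) ∧
      (∀ n, u n (yw.2 n) = Formal2.towerDiff G t yw.1 n) := by
    intro z
    choose y hy using fun n => hsurj n ((z : ∀ n, G'' n) n)
    have h0 : ∀ n, v n (Formal2.towerDiff G t y n) = 0 := fun n => by
      have h1 := congrFun (hdv y) n
      rw [show (fun n => v n (y n)) = (z : ∀ n, G'' n) from funext hy,
        AddMonoidHom.mem_ker.mp z.2] at h1
      exact h1.symm
    choose w hw using fun n => hlift n _ (h0 n)
    exact ⟨(y, w), hy, hw⟩
  have huniq : ∀ (y₁ y₂ : ∀ n, G n) (w₁ w₂ : ∀ n, G' n),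
      (∀ n, v n (y₁ n) = v n (y₂ n)) → (∀ n, u n (w₁ n) = Formal2.towerDiff G t y₁ n) →
      (∀ n, u n (w₂ n) = Formal2.towerDiff G t y₂ n) →
      (QuotientAddGroup.mk w₁ : Formal2.limOne G' t') = QuotientAddGroup.mk w₂ := by
    intro y₁ y₂ w₁ w₂ hy h₁ h₂
    rw [QuotientAddGroup.eq]
    choose d hd using fun n => hlift n (y₂ n - y₁ n) (by rw [map_sub, hy, sub_self])
    refine ⟨d, funext fun n => hinj n ?_⟩
    rw [← congrFun (hdu d) n, show (fun n => u n (d n)) = y₂ - y₁ from funext hd, map_sub]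
    simp [h₁, h₂, sub_eq_neg_add]
  choose yw hyw using hyex
  let δ : Formal2.limZero G'' t'' →+ Formal2.limOne G' t' :=
    AddMonoidHom.mk' (fun z => QuotientAddGroup.mk (yw z).2) fun z z' => by
      rw [← QuotientAddGroup.mk_add]
      refine huniq (yw (z + z')).1 ((yw z).1 + (yw z').1) _ _ (fun n => ?_) (hyw _).2 fun n => ?_
      · simp [(hyw _).1]
      · simp [(hyw _).2, map_add]
  let ε : Formal2.limOne G' t' →+ Formal2.limOne G t :=
    QuotientAddGroup.map _ _ U (by
      rintro _ ⟨y, rfl⟩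
      exact ⟨fun n => u n (y n), hdu y⟩)
  let ζ : Formal2.limOne G t →+ Formal2.limOne G'' t'' :=
    QuotientAddGroup.map _ _ V (by
      rintro _ ⟨y, rfl⟩
      exact ⟨fun n => v n (y n), hdv y⟩)
  refine ⟨α, β, δ, ε, ζ, fun _ _ => rfl, fun _ _ => rfl, fun z y w hy hw => ?_, fun _ => rfl,
    fun _ => rfl, ?_, ?_, ?_, ?_, ?_, ?_⟩
  · exact huniq _ y _ w (fun n => by rw [(hyw z).1, hy]) (hyw z).2 hw
  · intro a b hab
    exact Subtype.ext (funext fun n => hinj n (congrFun (congrArg Subtype.val hab) n))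
  · ext x
    constructor
    · rintro ⟨a, rfl⟩
      exact Subtype.ext (funext fun n => hvu n _)
    · intro hx
      choose a ha using fun n => hlift n _ (congrFun (congrArg Subtype.val hx) n)
      refine ⟨⟨a, AddMonoidHom.mem_ker.mpr (funext fun n => hinj n ?_)⟩, Subtype.ext (funext ha)⟩
      rw [← congrFun (hdu a) n, show (fun n => u n (a n)) = x.1 from funext ha,
        AddMonoidHom.mem_ker.mp x.2]
      simp
  · ext z
    constructor
    · rintro ⟨x, rfl⟩
      refine (huniq _ x.1 _ 0 (fun n => (hyw (β x)).1 n) (hyw _).2 (fun n => ?_)).trans rfl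
      rw [AddMonoidHom.mem_ker.mp x.2]
      simp
    · intro hz
      obtain ⟨d, hd⟩ := (QuotientAddGroup.eq_zero_iff _).mp hz
      refine ⟨⟨(yw z).1 - (fun n => u n (d n)), ?_⟩, Subtype.ext (funext fun n => ?_)⟩
      · rw [AddMonoidHom.mem_ker, map_sub, hdu, sub_eq_zero, hd]
        exact funext fun n => ((hyw z).2 n).symm
      · exact (map_sub (v n) _ _).trans (by rw [hvu, sub_zero, (hyw z).1])
  · ext c
    obtain ⟨w, rfl⟩ := QuotientAddGroup.mk_surjective c
    constructor
    · rintro ⟨z, hz⟩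
      rw [← hz]
      refine (QuotientAddGroup.eq_zero_iff _).mpr ⟨(yw z).1, funext fun n => ((hyw z).2 n).symm⟩
    · intro hw
      obtain ⟨y, hy⟩ := (QuotientAddGroup.eq_zero_iff _).mp hw
      refine ⟨⟨fun n => v n (y n), ?_⟩, huniq _ y _ w (fun n => (hyw _).1 n) (hyw _).2
        (fun n => (congrFun hy n).symm)⟩
      rw [AddMonoidHom.mem_ker, hdv, hy]
      exact funext fun n => hvu n _
  · ext c
    obtain ⟨y, rfl⟩ := QuotientAddGroup.mk_surjective c
    constructor
    · rintro ⟨b, hb⟩
      rw [← hb]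
      obtain ⟨a, rfl⟩ := QuotientAddGroup.mk_surjective b
      exact (QuotientAddGroup.eq_zero_iff _).mpr ⟨0, by rw [map_zero]; exact funext fun n => (hvu n _).symm⟩
    · intro hy
      obtain ⟨z, hz⟩ := (QuotientAddGroup.eq_zero_iff _).mp hy
      choose s hs using fun n => hsurj n (z n)
      choose a ha using fun n => hlift n (y n - Formal2.towerDiff G t s n) (by
        rw [map_sub, ← congrFun (hdv s) n, show (fun n => v n (s n)) = z from funext hs, hz]
        exact sub_self _)
      refine ⟨QuotientAddGroup.mk a, QuotientAddGroup.eq.mpr ⟨s, funext fun n => ?_⟩⟩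
      simp [U, ha, sub_eq_neg_add]
  · intro c
    obtain ⟨z, rfl⟩ := QuotientAddGroup.mk_surjective c
    choose y hy using fun n => hsurj n (z n)
    exact ⟨QuotientAddGroup.mk y, congrArg _ (funext hy)⟩

end Groth.Agent.S14617
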