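import Groth.Statements.S14621
import Groth.Agent.L09.ToposEps
import Groth.Agent.L09.ToposFP
import Mathlib.CategoryTheory.Limits.Preserves.Basic

set_option autoImplicit false
open CategoryTheory CategoryTheory.Limits
universe u
open CohSite

namespace Groth.Agent.S14621

/-- Let C be a small category with pullbacks and J a Grothendieck topology on C in which every object is
quasi-compact in the site sense (every covering sieve contains finitely many morphisms which already
generate a covering sieve). Then for every small filtered category I the inclusion of sheaves of
sets on (C, J) into presheaves preserves colimits of shape I: filtered colimits of sheaves are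
computed objectwise. (Only sheaves of sets are stated; the same holds for sheaves of abelian groups
or modules. All pullbacks in C are assumed.) -/
theorem result {C : Type u} [SmallCategory C]
    [HasPullbacks C] (J : GrothendieckTopology C) (hJ : ∀ U : C, ToposFin.IsQCSite J U)
    (I : Type u) [SmallCategory I] [IsFiltered I] :
    PreservesColimitsOfShape I (sheafToPresheaf J (Type u)) := by
  refine preservesColimitsOfShape_of_evaluation _ _ fun U => ?_
  let G := coyoneda.obj (Opposite.op (ToposFin.eps J U.unop))
  haveI : PreservesColimitsOfShape I G := ⟨fun {D} => by
    haveI : IsIso (colimit.post D G) := (isIso_iff_bijective _).2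
      (Groth.L09.Topos.bijective_post_of_isCoherent (Groth.L09.Topos.genBy_eps_qc hJ) (fun _ h => h)
        (Groth.L09.Topos.isCoherent_eps hJ U.unop) I D)
    exact preservesColimit_of_isIso_post G D⟩
  let e : G ≅ sheafToPresheaf J (Type u) ⋙ (evaluation Cᵒᵖ (Type u)).obj U :=
    NatIso.ofComponents (fun F => Groth.L09.Topos.epsEquiv.toIso) fun {F F'} f => by
      refine ConcreteCategory.hom_ext _ _ fun a => ?_
      exact Groth.L09.Topos.epsEquiv_comp a f
  exact preservesColimitsOfShape_of_natIso e

end Groth.Agent.S14621
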