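import Groth.Statements.S14622
import Groth.Agent.L28.Spz.Trivial

set_option autoImplicit false
set_option backward.isDefEq.respectTransparency.types false
set_option linter.style.haveILetI false
open CategoryTheory AlgebraicGeometry
universe u
open EtBase

namespace Groth.Agent.S14622

/-- Let g : Y' → Y be a morphism of schemes which is surjective on points. Then for every abelian sheaf
F on the small étale site of Y the unit F → g_* g⁻¹ F of the adjunction between inverse image and
direct image is a monomorphism. -/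
theorem result {Y Y' : Scheme.{u}} (g : Y' ⟶ Y) [Surjective g]
    (F : EtCoh.Ab Y) : Mono ((EtCoh.pullPushAdj g).unit.app F) := by
  refine (Groth.L27.EtSite.mono_iff_stalks _).2 fun Ω _ _ ξ => ?_
  obtain ⟨y', hy'⟩ := g.surjective (ξ default)
  obtain ⟨Ω', _, _, ζ, hζ⟩ := Groth.L27.EtSite.exists_geometric_point y'
  let u := (EtCoh.pullPushAdj g).unit.app F
  haveI : IsSplitMono ((EtCoh.pull g).map u) :=
    IsSplitMono.mk' ⟨(EtCoh.pullPushAdj g).counit.app _, (EtCoh.pullPushAdj g).left_triangle_components F⟩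
  haveI : Mono ((EtCoh.stalk ζ).map ((EtCoh.pull g).map u)) := inferInstance
  haveI h1 : Mono ((EtCoh.stalk (ζ ≫ g)).map u) :=
    ((MorphismProperty.monomorphisms _).arrow_mk_iso_iff
      (((Functor.mapArrowFunctor _ _).mapIso (Groth.L27.EtSite.stalkPullIso g ζ)).app (Arrow.mk u))).1
      (show Mono ((EtCoh.stalk ζ).map ((EtCoh.pull g).map u)) from inferInstance)
  obtain ⟨i⟩ := Groth.L28.Spz.nonempty_iso (ζ ≫ g) ξ (by rw [Scheme.Hom.comp_apply, hζ, hy'])
  intro a b e
  have hnat : ∀ a, (GrothendieckTopology.Point.Hom.sheafFiber (A := AddCommGrpCat.{u + 1}) i.hom).app _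
      ((EtCoh.stalk ξ).map u a) =
      (EtCoh.stalk (ζ ≫ g)).map u ((GrothendieckTopology.Point.Hom.sheafFiber (A := AddCommGrpCat.{u + 1}) i.hom).app F a) :=
    fun a => NatTrans.naturality_apply (GrothendieckTopology.Point.Hom.sheafFiber (A := AddCommGrpCat.{u + 1}) i.hom) u a
  refine (Groth.L28.Spz.bijective_sheafFiber i.hom F).1 ((AddCommGrpCat.mono_iff_injective _).1 h1 ?_)
  rw [← hnat, ← hnat, e]

end Groth.Agent.S14622
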