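import Groth.Statements.S14623
import Groth.Agent.L10.DerivedAdjPlus

set_option autoImplicit false
open CategoryTheory CategoryTheory.Limits
universe w v u
open CohDer

namespace Groth.Agent.S14623

/-- Let A and B be abelian categories with enough injectives, L : A ⥤ B an exact additive functor and R
: B ⥤ A an additive right adjoint of L. Then on bounded below derived categories the functor induced
by L (written as its total right derived functor, L being exact) is left adjoint to the right
derived functor of R; the existence of an adjunction is asserted. -/
theorem result {A B : Type u} [Category.{v} A] [Category.{v} B]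
    [Abelian A] [Abelian B] [HasDerivedCategory.{w} A] [HasDerivedCategory.{w} B]
    [EnoughInjectives A] [EnoughInjectives B] {L : A ⥤ B} {R : B ⥤ A} (adj : L ⊣ R)
    [L.Additive] [R.Additive] [PreservesFiniteLimits L] [PreservesFiniteColimits L] :
    Nonempty (L.rightDerivedFunctorPlus ⊣ R.rightDerivedFunctorPlus) := by
  exact ⟨Groth.L10.DerivedAdjPlus.derived adj⟩

end Groth.Agent.S14623
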