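import Groth.Statements.S14625
import Groth.Agent.L28.Misc.MuConst

set_option autoImplicit false
open CategoryTheory AlgebraicGeometry
universe u
open EtBase

namespace Groth.Agent.S14625

/-- Let A be a strictly henselian local ring, n ≥ 1 an integer invertible in A, and X a scheme over Spec
A. Then the étale sheaf μ_n of n-th roots of unity on X is isomorphic to the constant sheaf with
value ℤ/n. Only the existence of an isomorphism is asserted; it depends on the choice of a primitive
n-th root of unity in A. -/
theorem result (A : Type u) [CommRing A]
    (hA : EtCoh.IsStrictlyHenselianLocalRing A) (n : ℕ) (hn : 1 ≤ n) (hu : IsUnit (n : A))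
    (X : Scheme.{u}) (f : X ⟶ Spec (CommRingCat.of A)) :
    Nonempty (EtCoh.mu X n ≅ EtCoh.const X (ZMod n)) := by
  exact Groth.L28.Misc.nonempty_mu_iso_const_of_strictly_henselian hA hn hu f

end Groth.Agent.S14625
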