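import Groth.Statements.S14627
import Groth.Agent.L27.EtSite.Points
import Mathlib.AlgebraicGeometry.Morphisms.UniversallyOpen

set_option autoImplicit false
set_option backward.isDefEq.respectTransparency.types false
set_option linter.style.haveILetI false
open CategoryTheory AlgebraicGeometry
universe u
open EtBase

namespace Groth.Agent.S14627

/-- Let S be a quasi-compact scheme and U an étale S-scheme quasi-compact over S. Then every jointly
surjective family of étale U-schemes has a finite subfamily which is still jointly surjective (the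
étale site on finitely presented objects over a quasi-compact scheme is Noetherian). -/
theorem result (S : Scheme.{u}) [CompactSpace ↥S] (U : S.Etale)
    [QuasiCompact U.hom] (ι : Type (u + 1)) (Uf : ι → Over U)
    (hU : ∀ x : ↥(U.left), ∃ (i : ι) (y : ↥((Uf i).left.left)), (Uf i).hom.left.base y = x) :
    ∃ t : Finset ι, ∀ x : ↥(U.left), ∃ i ∈ t, ∃ y : ↥((Uf i).left.left), (Uf i).hom.left.base y = x := by
  let h : U.left ⟶ S := U.hom
  haveI : QuasiCompact h := ‹QuasiCompact U.hom›
  haveI : CompactSpace U.left := QuasiCompact.compactSpace_of_compactSpace h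
  obtain ⟨t, ht⟩ := (isCompact_univ (X := U.left)).elim_finite_subcover
    (fun i => Set.range (Uf i).hom.left)
    (fun i => by
      haveI := Groth.L27.EtSite.etale_left (Uf i).hom
      exact AlgebraicGeometry.Scheme.Hom.isOpenMap (Uf i).hom.left |>.isOpen_range)
    (fun x _ => Set.mem_iUnion.2 (by obtain ⟨i, y, hy⟩ := hU x; exact ⟨i, y, hy⟩))
  refine ⟨t, fun x => ?_⟩
  obtain ⟨i, hi, y, hy⟩ := Set.mem_iUnion₂.1 (ht (Set.mem_univ x))
  exact ⟨i, hi, y, hy⟩

end Groth.Agent.S14627
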