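import Groth.Statements.S14628
import Groth.Agent.L10.CechDelta
import Groth.Agent.L27.EtSite.Points
import Groth.Agent.L27.EtSite.Common

set_option autoImplicit false
open CategoryTheory CategoryTheory.Limits AlgebraicGeometry
universe u
open EtBase

set_option backward.isDefEq.respectTransparency.types false
set_option backward.defeqAttrib.useBackward true
set_option linter.style.haveILetI false

namespace Groth.Agent.S14628

open Opposite Groth.L27.CechInj Groth.L10.CechDelta

/-- sections are exact on the right when the first Cech cohomology of the kernel vanishes -/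
theorem surjective_app {X : Scheme.{u}} [∀ U : X.Etale, HasFiniteProducts (Over U)]
    (S : ShortComplex (EtCoh.Ab X)) (hS : S.ShortExact)
    (h1 : ∀ (U : X.Etale) (ι : Type (u + 1)) (Uf : ι → Over U),
      (∀ x : ↥(U.left), ∃ (i : ι) (y : ↥((Uf i).left.left)), (Uf i).hom.left.base y = x) →
      ∀ p : ℕ, 0 < p → IsZero (EtCech.cechH Uf S.X₁.obj p))
    (W : X.Etale) : Function.Surjective (S.g.hom.app (op W)) := by
  intro s
  let ι : Type (u + 1) := Σ (V : X.Etale), {g : V ⟶ W // ∃ x, S.g.hom.app (op V) x = S.X₃.obj.map g.op s}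
  let Uf : ι → Over W := fun i => Over.mk i.2.1
  haveI : Epi S.g := hS.epi_g
  haveI : Sheaf.IsLocallySurjective S.g := (Sheaf.isLocallySurjective_iff_epi' AddCommGrpCat.{u + 1} _).2 ‹_›
  have hcov : ∀ w : W.left, ∃ (i : ι) (y : (Uf i).left.left), (Uf i).hom.left.base y = w := fun w => by
    obtain ⟨V, g, v, hg, hv⟩ := (Groth.L27.EtSite.mem_topology_iff _).1
      (Presheaf.imageSieve_mem X.smallEtaleTopology S.g.hom s) w
    exact ⟨⟨V, g, hg⟩, v, hv⟩
  choose x hx using fun i : ι => i.2.2
  let P := S.X₂.obj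
  let x₀ : (EtCech.cechComplex Uf P).X 0 := mk fun a => P.map (Pi.π (Uf ∘ a) 0).left.op (x (a 0))
  have hgx : ∀ a : Fin 1 → ι, S.g.hom.app _ (co a x₀) = S.X₃.obj.map (tup Uf a).hom.op s := fun a => by
    rw [co_mk]
    refine (NatTrans.naturality_apply S.g.hom _ (x (a 0))).trans ?_
    refine (congrArg _ (hx (a 0))).trans ((Functor.map_comp_apply S.X₃.obj _ _ s).symm.trans ?_)
    exact congrArg (fun l => S.X₃.obj.map (Quiver.Hom.op l) s) (Over.w (Pi.π (Uf ∘ a) 0))
  let cxf := ((cx Uf).map S.f.hom).f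
  have hf : ∀ V : X.Etale, Function.Injective (S.f.hom.app (op V)) := fun V => by
    haveI := hS.mono_f
    haveI : Mono ((sheafToPresheaf X.smallEtaleTopology AddCommGrpCat.{u + 1}).map S.f) := inferInstance
    exact (AddCommGrpCat.mono_iff_injective _).1 ((NatTrans.mono_iff_mono_app _).1
      ‹Mono ((sheafToPresheaf X.smallEtaleTopology AddCommGrpCat.{u + 1}).map S.f)› (op V))
  have hex : ∀ (V : X.Etale) (z : P.obj (op V)), S.g.hom.app (op V) z = 0 → ∃ y, S.f.hom.app (op V) y = z := by
    intro V z hz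
    have h := (hS.exact.map_of_mono_of_preservesKernel
      (sheafToPresheaf X.smallEtaleTopology AddCommGrpCat.{u + 1} ⋙ (evaluation _ _).obj (op V)) hS.mono_f inferInstance)
    rw [ShortComplex.ab_exact_iff] at h
    exact h z hz
  choose c hc using fun a : Fin 2 → ι => hex (tup Uf a).left (co a ((EtCech.cechComplex Uf P).d 0 1 x₀)) (by
    rw [co_d, Fin.sum_univ_two, map_add, map_zsmul, map_zsmul]
    have e : ∀ j : Fin 2, S.g.hom.app _ (P.map (face Uf j a).left.op (co (a ∘ j.succAbove) x₀)) =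
        S.X₃.obj.map (tup Uf a).hom.op s := fun j => by
      refine (NatTrans.naturality_apply S.g.hom _ _).trans ((congrArg _ (hgx _)).trans ?_)
      refine (Functor.map_comp_apply S.X₃.obj _ _ s).symm.trans ?_
      exact congrArg (fun l => S.X₃.obj.map (Quiver.Hom.op l) s) (Over.w (face Uf j a))
    simp only [e]
    simp)
  let c₁ : (EtCech.cechComplex Uf S.X₁.obj).X 1 := mk c
  have hc₁ : cxf 1 c₁ = (EtCech.cechComplex Uf P).d 0 1 x₀ := co_ext fun a => by
    rw [co_map, co_mk]; exact hc a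
  have hz : (EtCech.cechComplex Uf S.X₁.obj).d 1 2 c₁ = 0 := co_ext fun a => hf _ (by
    rw [← co_map, ← co_map]
    refine congrArg (co a) ?_
    refine ((ConcreteCategory.congr_hom (((cx Uf).map S.f.hom).comm 1 2) c₁).symm).trans ?_
    refine (congrArg ((EtCech.cechComplex Uf P).d 1 2) hc₁).trans ?_
    refine (ConcreteCategory.congr_hom ((EtCech.cechComplex Uf P).d_comp_d 0 1 2) x₀).trans ?_
    exact (map_zero _).symm)
  have hE : (EtCech.cechComplex Uf S.X₁.obj).ExactAt 1 :=
    (HomologicalComplex.exactAt_iff_isZero_homology _ _).2 (h1 W ι Uf hcov 1 Nat.one_pos)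
  rw [HomologicalComplex.exactAt_iff' _ 0 1 2 (by simp) (by simp), ShortComplex.ab_exact_iff] at hE
  obtain ⟨(e : (EtCech.cechComplex Uf S.X₁.obj).X 0), he⟩ := hE c₁ hz
  let x₁ : (EtCech.cechComplex Uf P).X 0 := x₀ - (show (EtCech.cechComplex Uf P).X 0 from cxf 0 e)
  have hd : (EtCech.cechComplex Uf P).d 0 1 x₁ = 0 := by
    rw [map_sub, sub_eq_zero, ← hc₁]
    exact (congrArg (cxf 1) he.symm).trans (ConcreteCategory.congr_hom (((cx Uf).map S.f.hom).comm 0 1) e).symm
  have hgz : ∀ a : Fin 1 → ι, S.g.hom.app _ (co a x₁) = S.X₃.obj.map (tup Uf a).hom.op s := fun a => by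
    rw [map_sub, map_sub, hgx, co_map]
    refine (congrArg (_ - ·) (ConcreteCategory.congr_hom
      (congrArg (fun k : S.X₁ ⟶ S.X₃ => k.hom.app _) S.zero) (co a e))).trans ?_
    exact sub_zero _
  let d : ∀ i : ι, Uf i ⟶ tup Uf (fun _ : Fin 1 => i) := fun i => Pi.lift fun _ => 𝟙 (Uf i)
  let z : ∀ i : ι, P.obj (op i.1) := fun i => P.map (d i).left.op (co (fun _ : Fin 1 => i) x₁)
  let Sv : Sieve W := Sieve.ofArrows (fun i : ι => i.1) (fun i => i.2.1)
  have hSv : Sv ∈ X.smallEtaleTopology W := (Groth.L27.EtSite.mem_topology_iff Sv).2 fun w => by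
    obtain ⟨i, y, hy⟩ := hcov w
    exact ⟨_, i.2.1, y, Sieve.ofArrows_mk _ _ i, hy⟩
  have hsh := (isSheaf_iff_isSheaf_of_type _ _).1
    ((sheafCompose X.smallEtaleTopology (CategoryTheory.forget AddCommGrpCat.{u + 1})).obj S.X₂).property
  obtain ⟨t, ht, -⟩ := (Presieve.isSheafFor_arrows_iff _ _).1 ((Presieve.isSheafFor_iff_generate _).2 (hsh Sv hSv)) z
    (fun i k Z gi gk hgk => by
      show P.map gi.op (z i) = P.map gk.op (z k)
      let a : Fin 2 → ι := ![i, k]
      let Z' : Over W := Over.mk (gi ≫ i.2.1)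
      let mi : Z' ⟶ Uf i := Over.homMk gi
      let mk' : Z' ⟶ Uf k := Over.homMk gk hgk.symm
      let m : ∀ l : Fin 2, Z' ⟶ Uf (a l) := Fin.cases mi (Fin.cases mk' fun q => q.elim0)
      let h : Z' ⟶ tup Uf a := Pi.lift m
      have h0 := congrArg (fun q => P.map h.left.op (co a q)) hd
      rw [map_zero, map_zero, co_d, Fin.sum_univ_two] at h0
      simp only [Fin.val_zero, Fin.val_one, pow_zero, pow_one, one_zsmul, neg_zsmul, map_add, map_neg] at h0
      rw [add_neg_eq_zero] at h0
      have zb : ∀ (b : Fin 1 → ι) (q : Z' ⟶ tup Uf b),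
          P.map q.left.op (co b x₁) = P.map (q ≫ Pi.π (Uf ∘ b) 0).left.op (z (b 0)) := by
        intro b q
        obtain ⟨l, rfl⟩ : ∃ l, b = fun _ => l := ⟨b 0, funext fun n => congrArg b (Fin.fin_one_eq_zero n)⟩
        refine Eq.trans ?_ (Functor.map_comp_apply P (d l).left.op _ _)
        refine (congrArg (fun q : Z' ⟶ tup Uf (fun _ => l) => P.map q.left.op (co (fun _ : Fin 1 => l) x₁))
          (?_ : q = (q ≫ Pi.π (Uf ∘ fun _ => l) 0) ≫ d l)).trans rfl
        refine Pi.hom_ext _ _ fun n => ?_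
        obtain rfl : n = 0 := Fin.fin_one_eq_zero n
        rw [Category.assoc]
        exact ((congrArg (_ ≫ ·) (Pi.lift_π (fun _ => 𝟙 (Uf l)) 0)).trans (Category.comp_id _)).symm
      have key : ∀ j : Fin 2, P.map h.left.op (P.map (face Uf j a).left.op (co (a ∘ j.succAbove) x₁)) =
          P.map (m (j.succAbove 0)).left.op (z (a (j.succAbove 0))) := by
        intro j
        refine (Functor.map_comp_apply P _ _ _).symm.trans ((zb _ (h ≫ face Uf j a)).trans ?_)
        refine congrArg (fun q : Z' ⟶ Uf (a (j.succAbove 0)) => P.map q.left.op (z (a (j.succAbove 0)))) ?_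
        exact (Category.assoc _ _ _).trans ((congrArg (h ≫ ·) (Pi.lift_π _ 0)).trans (Pi.lift_π m _))
      exact (key 1).symm.trans (h0.symm.trans (key 0)))
  refine ⟨t, Groth.L27.EtSite.ext_of_locally S.X₃ fun w => ?_⟩
  obtain ⟨i, y, hy⟩ := hcov w
  refine ⟨i.1, i.2.1, y, hy, ?_⟩
  refine (NatTrans.naturality_apply S.g.hom _ t).symm.trans ((congrArg _ (ht i)).trans ?_)
  refine (NatTrans.naturality_apply S.g.hom _ _).trans ((congrArg _ (hgz _)).trans ?_)
  refine (Functor.map_comp_apply S.X₃.obj _ _ s).symm.trans ?_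
  exact congrArg (fun l => S.X₃.obj.map (Quiver.Hom.op l) s) (Over.w (d i))


/-- On the small étale site of a scheme, let 0 → F' → F → F'' → 0 be a short exact sequence of abelian
étale sheaves on a scheme X. If F' and F are flasque in the Čech sense (for every étale U over X and
every jointly surjective family of étale U-schemes, Čech cohomology in positive degrees vanishes),
then so is F''. The finite products of the over categories (the fibre products entering the Čech
complexes) are carried as instance hypotheses. -/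
theorem result {X : Scheme.{u}}
    [∀ U : X.Etale, HasFiniteProducts (Over U)] (S : ShortComplex (EtCoh.Ab X)) (hS : S.ShortExact)
    (h1 : (∀ (U : X.Etale) (ι : Type (u + 1)) (Uf : ι → Over U),
      (∀ x : ↥(U.left), ∃ (i : ι) (y : ↥((Uf i).left.left)), (Uf i).hom.left.base y = x) →
      ∀ p : ℕ, 0 < p → IsZero (EtCech.cechH Uf S.X₁.obj p)))
    (h2 : (∀ (U : X.Etale) (ι : Type (u + 1)) (Uf : ι → Over U),
      (∀ x : ↥(U.left), ∃ (i : ι) (y : ↥((Uf i).left.left)), (Uf i).hom.left.base y = x) →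
      ∀ p : ℕ, 0 < p → IsZero (EtCech.cechH Uf S.X₂.obj p)))
    (U : X.Etale) (ι : Type (u + 1)) (Uf : ι → Over U)
    (hU : ∀ x : ↥(U.left), ∃ (i : ι) (y : ↥((Uf i).left.left)), (Uf i).hom.left.base y = x)
    (p : ℕ) (hp : 0 < p) :
    IsZero (EtCech.cechH Uf S.X₃.obj p) := by
  let S' := S.map (sheafToPresheaf X.smallEtaleTopology AddCommGrpCat.{u + 1})
  have hS' : S'.ShortExact :=
    { exact := hS.exact.map_of_mono_of_preservesKernel (sheafToPresheaf _ _) hS.mono_f inferInstance
      mono_f := by haveI := hS.mono_f; exact inferInstanceAs (Mono ((sheafToPresheaf _ _).map S.f))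
      epi_g := by
        haveI : ∀ V, Epi (S'.g.app V) := fun V => (AddCommGrpCat.epi_iff_surjective _).2 (surjective_app S hS h1 V.unop)
        exact NatTrans.epi_of_epi_app _ }
  exact ((cx_shortExact Uf hS').homology_exact₃ p (p + 1) rfl).isZero_of_both_zeros
    ((h2 U ι Uf hU p hp).eq_of_src _ _) ((h1 U ι Uf hU (p + 1) p.succ_pos).eq_of_tgt _ _)

end Groth.Agent.S14628
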