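import Groth.Prelude.Def_ClSub2
import Groth.Prelude.Def_Pic
import Groth.Agent.L12.LineLift.IdealKer

set_option autoImplicit false
set_option linter.style.haveILetI false
namespace PicF
end PicF
open CategoryTheory CategoryTheory.Limits AlgebraicGeometry
universe u
open PicF

namespace Groth.Agent.S14629

/-- Let X be a scheme and I a quasi-coherent ideal sheaf of square zero defining the closed subscheme i
: X₀ → X, and suppose H¹(X, I) = 0 for the ideal regarded as an O_X-module (Zariski cohomology).
Then two invertible O_X-modules with isomorphic pullbacks to X₀ are isomorphic: restriction of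
Picard groups along i is injective. (The published statement allows a nilpotent ideal with the same
hypothesis on I alone; its proof treats the square-zero case, which is what is stated.) -/
theorem result (X : Scheme.{u}) (I : X.IdealSheafData)
    (hI : I * I = ⊥) (h1 : Subsingleton (Coh.HH X (ClSub.idealMod I) 1))
    (c d : PicF.Cl X) (hc : PicF.IsInvertibleCl c) (hd : PicF.IsInvertibleCl d)
    (h : PicF.pullCl I.subschemeι c = PicF.pullCl I.subschemeι d) : c = d := by
  obtain ⟨L, rfl, hL⟩ := hc
  obtain ⟨M, rfl, hM⟩ := hd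
  have hI2 : I ^ 2 = ⊥ := by rw [pow_two]; exact hI
  obtain ⟨φ⟩ : Nonempty ((Scheme.Modules.pullback I.subschemeι).obj L ≅ (Scheme.Modules.pullback I.subschemeι).obj M) :=
    Relation.EqvGen.rec (motive := fun A B _ => Nonempty (A ≅ B)) (fun _ _ h => h) (fun _ => ⟨Iso.refl _⟩)
      (fun _ _ _ ih => ih.map Iso.symm) (fun _ _ _ _ _ i1 i2 => i1.elim fun x => i2.map fun y => x ≪≫ y)
      (Quot.eqvGen_exact h)
  obtain ⟨N, hN, ⟨e, he⟩, e', he'⟩ := Groth.L12.LineLift.exists_cover₂ L M hL hM
  have hcov := Groth.L12.LineLift.iSup_eq_top_of_mem fun x => (hN x).1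
  exact Quot.sound (Groth.L12.LineLift.exists_iso (N := N) (Groth.L12.LineLift.sqZero_subschemeι I hI2)
    (fun a => (hN a).2) (fun x => ⟨x, (hN x).1⟩) (Groth.L12.LineLift.cob₁_subschemeι I N hcov h1) L M e he e' he' φ)

end Groth.Agent.S14629
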