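import Groth.Statements.S14631
import Groth.Agent.L27.EtSite.Points
import Mathlib.AlgebraicGeometry.Morphisms.QuasiSeparated

set_option autoImplicit false
set_option backward.isDefEq.respectTransparency.types false
set_option linter.style.haveILetI false
open CategoryTheory AlgebraicGeometry
universe u
open EtBase

namespace Groth.Agent.S14631

/-- Let X be a quasi-separated scheme and U an étale X-scheme. Then there is a jointly surjective family
of étale U-schemes each of which is quasi-compact and quasi-separated, hence of finite presentation,
over X. (Sheaves on the small étale site are therefore determined by their values on étale X-schemes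
of finite presentation; that equivalence is not stated here.) -/
theorem result (X : Scheme.{u})
    [QuasiSeparatedSpace ↥X] (U : X.Etale) :
    ∃ (ι : Type u) (V : ι → Over U), (∀ i, QuasiCompact (V i).left.hom ∧ QuasiSeparated (V i).left.hom) ∧
      ∀ x : ↥(U.left), ∃ (i : ι) (y : ↥((V i).left.left)), (V i).hom.left.base y = x := by
  let h : U.left ⟶ X := U.hom
  haveI : AlgebraicGeometry.Etale h := U.prop
  have hex : ∀ x : U.left, ∃ W : U.left.Opens, IsAffineOpen W ∧ x ∈ W := fun x => by
    obtain ⟨_, ⟨(W : U.left.Opens), hW, rfl⟩, hx, -⟩ :=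
      U.left.isBasis_affineOpens.exists_subset_of_mem_open (Set.mem_univ x) isOpen_univ
    exact ⟨W, hW, hx⟩
  choose W hW hx using hex
  refine ⟨U.left, fun x => CategoryTheory.Over.mk (Y := (Scheme.Etale.mk ((W x).ι ≫ h) : X.Etale))
    (MorphismProperty.Over.homMk (W x).ι rfl), fun x => ?_, fun x => ⟨x, ⟨x, hx x⟩, rfl⟩⟩
  haveI : IsAffine (W x).toScheme := hW x
  exact ⟨quasiCompact_of_compactSpace ((W x).ι ≫ h), QuasiSeparated.of_quasiSeparatedSpace ((W x).ι ≫ h)⟩

end Groth.Agent.S14631
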