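import Groth.Statements.S14633
import Groth.Agent.L19.AlgGrpBasic.GeomPoint
import Groth.Agent.L19.AlgGrpBasic.Points
import Groth.Agent.L06.Dim
import Groth.Agent.L26.AV.SmoothField
import Groth.Agent.L25.RatConn
import Mathlib.AlgebraicGeometry.Artinian
import Mathlib.AlgebraicGeometry.Morphisms.QuasiFinite

set_option autoImplicit false
set_option backward.isDefEq.respectTransparency.types false
set_option backward.isDefEq.respectTransparency false
set_option linter.style.haveILetI false
universe u
open CategoryTheory CategoryTheory.Limits MonoidalCategory CartesianMonoidalCategory MonObj GrpObj AlgebraicGeometry CategoryTheory.Limits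
open AlgGrp

namespace Groth.Agent.S14633
open Groth.L19.AlgGrpBasic

/-- Over a field k, let G be a smooth connected k-group scheme of finite type and let Z be a reduced
k-scheme of finite type of dimension at most 0 (for Z empty the conclusion is immediate). Then every
action of G on Z is trivial: the action morphism G × Z → Z is the second projection. -/
theorem result (k : Type u) [Field k]
    (G Z : Over (Spec (CommRingCat.of k))) [GrpObj G] [Smooth G.hom] [QuasiCompact G.hom] [ConnectedSpace ↥G.left]
    [LocallyOfFiniteType Z.hom] [QuasiCompact Z.hom] [IsReduced Z.left] (hdim : topologicalKrullDim ↥Z.left ≤ 0)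
    (a : AlgGrp.Action G Z) : a.act = CartesianMonoidalCategory.snd G Z := by
  let K := AlgebraicClosure k
  let T := gT k K
  haveI : IsLocallyNoetherian Z.left := LocallyOfFiniteType.isLocallyNoetherian Z.hom
  haveI : CompactSpace Z.left := QuasiCompact.compactSpace_of_compactSpace Z.hom
  haveI : IsNoetherian Z.left := { }
  haveI : DiscreteTopology Z.left := (Groth.L06.Dim.discreteTopology_of_dim_le_zero hdim).2
  haveI : IsArtinianScheme Z.left := IsArtinianScheme.iff_isNoetherian_and_discreteTopology.2 ⟨‹_›, ‹_›⟩
  haveI : IsAffine Z.left := inferInstance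
  haveI : IsSeparated Z.hom := inferInstance
  haveI : Subsingleton (Spec (CommRingCat.of k) : Scheme.{u}) := inferInstance
  haveI : LocallyQuasiFinite Z.hom :=
    locallyQuasiFinite_iff_isDiscrete_preimage_singleton.2 fun x => isDiscrete_iff_discreteTopology.2 inferInstance
  let pr : (Z ⊗ T).left ⟶ Spec (CommRingCat.of K) := (snd Z T).left
  haveI : LocallyQuasiFinite pr := inferInstanceAs (LocallyQuasiFinite (pullback.snd Z.hom T.hom))
  haveI : LocallyOfFiniteType pr := inferInstanceAs (LocallyOfFiniteType (pullback.snd Z.hom T.hom))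
  haveI : DiscreteTopology (Z ⊗ T).left := by
    rw [← isDiscrete_univ_iff]
    have h := pr.isDiscrete_preimage_singleton (IsLocalRing.closedPoint K)
    have e : pr ⁻¹' {IsLocalRing.closedPoint K} = Set.univ :=
      Set.eq_univ_of_forall fun p => Subsingleton.elim (pr p) _
    rwa [e] at h
  haveI : GeometricallyConnected G.hom :=
    Groth.L25.RatConn.geometricallyConnected_of_section G.hom η[G].left (Over.w η[G])
  haveI : ConnectedSpace T.left := inferInstanceAs (ConnectedSpace ↥(Spec (CommRingCat.of K)))
  haveI : ConnectedSpace (G ⊗ T).left := inferInstanceAs (ConnectedSpace ↥(pullback G.hom T.hom))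
  haveI : GeometricallyReduced G.hom := Groth.Agent.AV.geometricallyReduced_of_smooth G.hom
  haveI : IsReduced (G ⊗ Z).left := inferInstanceAs (IsReduced (pullback G.hom Z.hom))
  obtain ⟨E, c, hc, hce, hcu⟩ := exists_eqLocus a.act (snd G Z)
  haveI := lft_tensor G Z
  have hsurj : Set.range c.left = Set.univ := by
    rw [← Set.compl_empty_iff]
    by_contra hne
    obtain ⟨w, hw⟩ := exists_gpt_mem (K := K) c.left.isClosedEmbedding.isClosed_range.isOpen_compl.isLocallyClosed
      (Set.nonempty_iff_ne_empty.2 hne)
    obtain ⟨z, hz⟩ : ∃ z : T ⟶ E, z ≫ c = w := by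
      refine hcu _ w ?_
      let o : G ⊗ T ⟶ Z ⊗ T := lift (lift (fst G T) (snd G T ≫ w ≫ snd G Z) ≫ a.act) (snd G T)
      have ho : ∀ g : T ⟶ G, lift g (𝟙 T) ≫ o = lift (lift g (w ≫ snd G Z) ≫ a.act) (𝟙 T) := fun g => by
        rw [comp_lift, comp_lift_assoc, lift_fst, lift_snd_assoc, Category.id_comp, lift_snd]
      have hc : gpt (lift (w ≫ fst G Z) (𝟙 T) ≫ o) = gpt (lift (1 : T ⟶ G) (𝟙 T) ≫ o) :=
        PreconnectedSpace.constant ‹ConnectedSpace (G ⊗ T).left›.toPreconnectedSpace o.left.continuous
      rw [ho, ho, Groth.L25.Actions.one_act, lift_comp_fst_snd] at hc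
      have hsec : ∀ v : T ⟶ Z, (lift v (𝟙 T)).left ≫ pr = 𝟙 _ := fun v => by
        rw [← Over.comp_left, lift_snd]; rfl
      have := (pointEquivClosedPoint pr).injective (a₁ := ⟨_, hsec (w ≫ a.act)⟩) (a₂ := ⟨_, hsec (w ≫ snd G Z)⟩)
        (Subtype.ext hc)
      have e := congrArg (fun s => s ≫ (fst Z T).left) (congrArg Subtype.val this)
      simp only [← Over.comp_left, lift_fst] at e
      exact Over.OverMorphism.ext e
    exact hw ⟨gpt z, by rw [← gpt_comp, hz]⟩
  obtain ⟨l, hl⟩ := exists_lift_of_range c (𝟙 (G ⊗ Z)) (by rw [hsurj]; exact Set.subset_univ _)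
  calc a.act = l ≫ c ≫ a.act := by rw [reassoc_of% hl]
    _ = snd G Z := by rw [hce, reassoc_of% hl]

end Groth.Agent.S14633
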