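import Groth.Statements.S14634
import Groth.Agent.L19.AlgGrpBasic.GeomPoint
import Groth.Agent.L19.AlgGrpBasic.Points
import Groth.Agent.L19.AlgGrpBasic.DimStrict
import Groth.Agent.L22.GeomConn.Dims
import Groth.Agent.L25.Component
import Groth.Agent.L26.AV.SmoothField

set_option autoImplicit false
set_option backward.isDefEq.respectTransparency.types false
set_option backward.isDefEq.respectTransparency false
set_option linter.style.haveILetI false
universe u
open CategoryTheory MonoidalCategory CartesianMonoidalCategory MonObj GrpObj AlgebraicGeometry CategoryTheory.Limits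
open AlgGrp

namespace Groth.Agent.S14634
open Groth.L19.AlgGrpBasic

/-- Over a field k, let G be a smooth connected k-group scheme of finite type acting on a curve C, i.e.
a separated, geometrically integral k-scheme of finite type of dimension 1. Then C is almost
homogeneous under G, meaning that the graph morphism G × C → C × C, (g, x) ↦ (x, g·x), is dominant,
if and only if the action is not the trivial one (the action morphism is not the second projection). -/
theorem result (k : Type u) [Field k]
    (G C : Over (Spec (CommRingCat.of k))) [GrpObj G] [Smooth G.hom] [QuasiCompact G.hom] [ConnectedSpace ↥G.left]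
    [IsSeparated C.hom] [LocallyOfFiniteType C.hom] [QuasiCompact C.hom] [GeometricallyIntegral C.hom] (hdim : topologicalKrullDim ↥C.left = 1)
    (a : AlgGrp.Action G C) :
    IsDominant (CartesianMonoidalCategory.lift (CartesianMonoidalCategory.snd G C) a.act).left ↔
      a.act ≠ CartesianMonoidalCategory.snd G C := by
  haveI : Flat C.hom := Groth.L22.GeomConn.flat_toSpecField C.hom
  haveI : IsIntegral C.left := GeometricallyIntegral.isIntegral_of_subsingleton C.hom
  haveI : IrreducibleSpace C.left := GeometricallyIrreducible.irreducibleSpace C.hom C.hom.isOpenMap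
  haveI := irreducibleSpace_tensor C C
  haveI : IsLocallyNoetherian G.left := LocallyOfFiniteType.isLocallyNoetherian G.hom
  haveI : IrreducibleSpace G.left := Groth.L25.Component.irreducibleSpace G
  haveI : GeometricallyIrreducible G.hom := Groth.L25.Component.geometricallyIrreducible G
  haveI : GeometricallyReduced G.hom := Groth.Agent.AV.geometricallyReduced_of_smooth G.hom
  haveI : IsLocallyNoetherian C.left := LocallyOfFiniteType.isLocallyNoetherian C.hom
  haveI : Flat G.hom := inferInstance
  haveI : UniversallyOpen G.hom := inferInstance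
  haveI : IsReduced (G ⊗ C).left := inferInstanceAs (IsReduced (pullback G.hom C.hom))
  haveI := irreducibleSpace_tensor G C
  let δ : C ⟶ C ⊗ C := lift (𝟙 C) (𝟙 C)
  haveI : IsClosedImmersion δ.left := inferInstanceAs (IsClosedImmersion (pullback.diagonal C.hom))
  have hdimΔ : topologicalKrullDim (Set.range δ.left) = ((1 : ℕ) : WithBot ℕ∞) := by
    rw [← δ.left.isEmbedding.toHomeomorph.isHomeomorph.topologicalKrullDim_eq, hdim]
    rfl
  have hdimP : topologicalKrullDim (Set.univ : Set (C ⊗ C).left) = ((2 : ℕ) : WithBot ℕ∞) := by
    let w : ↥(pullback C.hom C.hom) := genericPoint (C ⊗ C).left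
    have hw : Groth.L22.GeomConn.IsMaxPt w := Groth.L22.GeomConn.isMaxPt_genericPoint' (X := (C ⊗ C).left)
    obtain ⟨h1, h2, h3⟩ := Groth.L22.GeomConn.dim_closure_prod C.hom C.hom hw
    have key : ∀ {p : C.left}, Groth.L22.GeomConn.IsMaxPt p → topologicalKrullDim (closure ({p} : Set C.left)) = ((1 : ℕ) : WithBot ℕ∞) := by
      intro p hp
      obtain rfl : genericPoint C.left = p := hp _ ((genericPoint_spec C.left).specializes trivial)
      rw [genericPoint_closure, (Homeomorph.Set.univ C.left).isHomeomorph.topologicalKrullDim_eq, hdim]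
      rfl
    rw [key h1, key h2] at h3
    rw [← genericPoint_closure]
    exact h3.trans rfl
  have hΔne : Set.range δ.left ≠ Set.univ := fun h => by
    rw [h, hdimP] at hdimΔ
    exact absurd hdimΔ (by norm_num)
  constructor
  · intro hd ha
    apply hΔne
    rw [← Set.univ_subset_iff, ← hd.1.closure_range]
    refine closure_minimal ?_ δ.left.isClosedEmbedding.isClosed_range
    have e : (lift (snd G C) a.act) = snd G C ≫ δ := by rw [ha]; simp [δ]
    rintro _ ⟨q, rfl⟩
    rw [e]
    exact ⟨_, rfl⟩
  · intro ha
    refine ⟨dense_iff_closure_eq.2 ?_⟩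
    by_contra hne
    apply ha
    set Γ := lift (snd G C) a.act
    set Z := closure (Set.range Γ.left)
    have hZi : IsIrreducible Z := by
      refine IsIrreducible.closure ?_
      rw [← Set.image_univ]
      exact (IrreducibleSpace.isIrreducible_univ _).image _ Γ.left.continuous.continuousOn
    have hΔZ : Set.range δ.left ⊆ Z := by
      have e : lift (toUnit C ≫ η[G]) (𝟙 C) ≫ Γ = δ := by
        rw [comp_lift, lift_snd, ← Hom.one_def, Groth.L25.Actions.one_act]
      rintro _ ⟨q, rfl⟩
      rw [← e]
      exact subset_closure ⟨_, rfl⟩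
    have hle : topologicalKrullDim Z ≤ ((2 : ℕ) : WithBot ℕ∞) :=
      hdimP ▸ Groth.L22.SchemeDim.topologicalKrullDim_mono (Set.subset_univ Z)
    have hge : ((1 : ℕ) : WithBot ℕ∞) ≤ topologicalKrullDim Z :=
      hdimΔ ▸ Groth.L22.SchemeDim.topologicalKrullDim_mono hΔZ
    have hne2 : topologicalKrullDim Z ≠ ((2 : ℕ) : WithBot ℕ∞) := fun h =>
      hne (eq_of_subset_of_dim_eq isClosed_closure (IrreducibleSpace.isIrreducible_univ _) (Set.subset_univ _) hdimP h)
    have hZ1 : topologicalKrullDim Z = ((1 : ℕ) : WithBot ℕ∞) := by
      revert hle hge hne2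
      generalize topologicalKrullDim Z = d
      intro hle hge hne2
      induction d with
      | bot => simp at hge
      | coe d =>
        have h1 : (1 : ℕ∞) ≤ d := WithBot.coe_le_coe.1 hge
        have h2 : d ≤ (2 : ℕ∞) := WithBot.coe_le_coe.1 hle
        have h3 : d < 1 + 1 := lt_of_le_of_ne h2 (fun h => hne2 (congrArg WithBot.some h))
        exact congrArg WithBot.some (le_antisymm (Order.le_of_lt_add_one h3) h1)
    have hZΔ : Set.range δ.left = Z :=
      eq_of_subset_of_dim_eq δ.left.isClosedEmbedding.isClosed_range hZi hΔZ hZ1 hdimΔ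
    obtain ⟨l, hl⟩ := exists_lift_of_range δ Γ (by rw [hZΔ]; exact subset_closure)
    have e1 : l = snd G C := by simpa [δ, Γ] using congr($hl ≫ fst C C)
    have e2 : l = a.act := by simpa [δ, Γ] using congr($hl ≫ snd C C)
    rw [← e2, e1]

end Groth.Agent.S14634
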