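import Groth.Statements.S14636
import Groth.Agent.S1585
import Groth.Agent.L19.AlgGrpBasic.GeomPoint

set_option autoImplicit false
set_option backward.isDefEq.respectTransparency.types false
set_option backward.isDefEq.respectTransparency false
set_option linter.style.haveILetI false
universe u
open CategoryTheory MonoidalCategory CartesianMonoidalCategory MonObj GrpObj AlgebraicGeometry CategoryTheory.Limits
open AlgGrp

namespace Groth.Agent.S14636
open Groth.L19.AlgGrpBasic

/-- Over a field k, let G be a smooth connected k-group scheme of finite type acting on a variety X (a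
separated, geometrically integral k-scheme of finite type), let ν : X̃ → X be the normalization of
X, and let G act on X̃ so that ν is equivariant (such an action exists and is unique). Then X is
almost homogeneous, i.e. the graph morphism G × X → X × X, (g, x) ↦ (x, g·x), is dominant, if and
only if X̃ is almost homogeneous for the lifted action. (The quasi-compactness and
quasi-separatedness binders on the morphism from the generic point always hold; they are only needed
to form the normalization.) -/
theorem result (k : Type u) [Field k]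
    (G X : Over (Spec (CommRingCat.of k))) [GrpObj G] [Smooth G.hom] [QuasiCompact G.hom] [ConnectedSpace ↥G.left]
    [IsSeparated X.hom] [LocallyOfFiniteType X.hom] [QuasiCompact X.hom] [GeometricallyIntegral X.hom] [IsIntegral X.left] [QuasiCompact (X.left.fromSpecStalk (genericPoint ↥X.left))] [QuasiSeparated (X.left.fromSpecStalk (genericPoint ↥X.left))]
    (a : AlgGrp.Action G X)
    (b : AlgGrp.Action G (Over.mk (Curv2.normalizationι X.left ≫ X.hom)))
    (hb : (G ◁ (Over.homMk (Curv2.normalizationι X.left) rfl : Over.mk (Curv2.normalizationι X.left ≫ X.hom) ⟶ X)) ≫ a.act =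
      b.act ≫ Over.homMk (Curv2.normalizationι X.left) rfl) :
    IsDominant (CartesianMonoidalCategory.lift (CartesianMonoidalCategory.snd G X) a.act).left ↔
      IsDominant (CartesianMonoidalCategory.lift
        (CartesianMonoidalCategory.snd G (Over.mk (Curv2.normalizationι X.left ≫ X.hom))) b.act).left := by
  letI : X.left.Over (Spec (CommRingCat.of k)) := ⟨X.hom⟩
  haveI : LocallyOfFiniteType (X.left ↘ (Spec (CommRingCat.of k))) := ‹LocallyOfFiniteType X.hom›
  obtain ⟨hfin, hdom, ⟨V, hVne, hViso⟩, hint, -⟩ := Groth.Agent.S1585.result k X.left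
  haveI := hfin
  haveI := hdom
  haveI := hint
  haveI := hViso
  let Xt : Over (Spec (CommRingCat.of k)) := Over.mk (Curv2.normalizationι X.left ≫ X.hom)
  let n : Xt ⟶ X := Over.homMk (Curv2.normalizationι X.left) rfl
  haveI : IsFinite n.left := hfin
  haveI : Surjective n.left :=
    ⟨Set.range_eq_univ.1 ((n.left.isClosedMap.isClosed_range.closure_eq).symm.trans hdom.1.closure_range)⟩
  let P : Xt ⊗ Xt ⟶ X ⊗ X := n ⊗ₘ n
  haveI : IsFinite P.left :=
    MorphismProperty.pullbackMap (P := @IsFinite) ‹IsFinite n.left› ‹IsFinite n.left› (Over.w n).symm (Over.w n).symm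
  haveI : Surjective P.left :=
    MorphismProperty.pullbackMap (P := @Surjective) ‹Surjective n.left› ‹Surjective n.left› (Over.w n).symm (Over.w n).symm
  haveI : Surjective (G ◁ n).left :=
    MorphismProperty.pullbackMap (P := @Surjective) (inferInstanceAs (Surjective (𝟙 G.left))) ‹Surjective n.left›
      (Category.id_comp G.hom).symm (Over.w n).symm
  let Γa := lift (snd G X) a.act
  let Γb := lift (snd G Xt) b.act
  have e : (G ◁ n) ≫ Γa = Γb ≫ P := by
    simp only [Γa, Γb, P, comp_lift, whiskerLeft_snd, lift_map]
    rw [hb]
  change IsDominant Γa.left ↔ IsDominant Γb.left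
  constructor
  · intro h
    haveI := h
    have h2 : IsDominant (Γb.left ≫ P.left) := by
      rw [← Over.comp_left, ← e, Over.comp_left]
      infer_instance
    -- the image of the closure is everything
    have himg : ∀ p : (X ⊗ X).left, p ∈ P.left '' closure (Set.range Γb.left) := by
      intro p
      refine (closure_minimal ?_ (P.left.isClosedMap _ isClosed_closure)) (h2.1.closure_range.symm.subset (Set.mem_univ p))
      rintro _ ⟨q, rfl⟩
      exact ⟨Γb.left q, subset_closure ⟨q, rfl⟩, rfl⟩
    let U : Xt.left.Opens := n.left ⁻¹ᵁ V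
    let jU : U.toScheme ⟶ X.left := U.ι ≫ n.left
    haveI : IsOpenImmersion jU := by
      have : jU = (n.left ∣_ V) ≫ V.ι := (morphismRestrict_ι n.left V).symm
      rw [this]
      haveI : IsIso (n.left ∣_ V) := hViso
      infer_instance
    let J : pullback (U.ι ≫ Xt.hom) (U.ι ≫ Xt.hom) ⟶ (Xt ⊗ Xt).left :=
      pullback.map _ _ _ _ U.ι U.ι (𝟙 _) (Category.comp_id _) (Category.comp_id _)
    haveI : IsOpenImmersion (J ≫ P.left) := by
      have : J ≫ P.left = pullback.map (U.ι ≫ Xt.hom) (U.ι ≫ Xt.hom) X.hom X.hom jU jU (𝟙 _)
          (by rw [Category.comp_id]; exact (Category.assoc _ _ _).symm)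
          (by rw [Category.comp_id]; exact (Category.assoc _ _ _).symm) := by
        simp only [J, P, Over.tensorHom_left, pullback.map_comp, Category.comp_id]
        rfl
      rw [this]
      exact MorphismProperty.pullbackMap (P := @IsOpenImmersion) ‹IsOpenImmersion jU› ‹IsOpenImmersion jU›
        (Category.assoc U.ι n.left X.hom).symm (Category.assoc U.ι n.left X.hom).symm
    have hJr : Set.range J = (fst Xt Xt).left ⁻¹' (U : Set Xt.left) ∩ (snd Xt Xt).left ⁻¹' (U : Set Xt.left) := by
      refine (Scheme.Pullback.range_map _ _ _ _ _ _ _ _ _).trans ?_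
      rw [Scheme.Opens.range_ι]
      rfl
    have hsub : Set.range J ⊆ closure (Set.range Γb.left) := by
      rintro _ ⟨p, rfl⟩
      obtain ⟨z, hz, hzp⟩ := himg (P.left (J p))
      have hzmem : z ∈ Set.range J := by
        rw [hJr]
        have hp : J p ∈ Set.range J := ⟨p, rfl⟩
        rw [hJr] at hp
        have c1 : ∀ q, n.left ((fst Xt Xt).left q) = (fst X X).left (P.left q) := fun q => by
          rw [← Scheme.Hom.comp_apply, ← Scheme.Hom.comp_apply, ← Over.comp_left, ← Over.comp_left]
          simp [P]
        have c2 : ∀ q, n.left ((snd Xt Xt).left q) = (snd X X).left (P.left q) := fun q => by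
          rw [← Scheme.Hom.comp_apply, ← Scheme.Hom.comp_apply, ← Over.comp_left, ← Over.comp_left]
          simp [P]
        refine ⟨?_, ?_⟩
        · show n.left ((fst Xt Xt).left z) ∈ V
          rw [c1, hzp, ← c1]
          exact hp.1
        · show n.left ((snd Xt Xt).left z) ∈ V
          rw [c2, hzp, ← c2]
          exact hp.2
      obtain ⟨z', rfl⟩ := hzmem
      obtain rfl : z' = p := (J ≫ P.left).isOpenEmbedding.injective (by simpa [Scheme.Hom.comp_apply] using hzp)
      exact hz
    haveI : LocallyOfFiniteType Xt.hom := inferInstanceAs (LocallyOfFiniteType (Curv2.normalizationι X.left ≫ X.hom))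
    haveI : IrreducibleSpace Xt.left := inferInstanceAs (IrreducibleSpace ↥(Curv2.normalization X.left))
    have hUd : Dense (U : Set Xt.left) := by
      obtain ⟨v, hv⟩ := hVne
      obtain ⟨v', rfl⟩ := n.left.surjective v
      exact U.2.dense ⟨v', hv⟩
    haveI : UniversallyOpen (fst Xt Xt).left := inferInstanceAs (UniversallyOpen (pullback.fst Xt.hom Xt.hom))
    haveI : UniversallyOpen (snd Xt Xt).left := universallyOpen_snd Xt Xt
    have hd : Dense (Set.range J) := by
      rw [hJr]
      exact (hUd.preimage (fst Xt Xt).left.isOpenMap).inter_of_isOpen_left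
        (hUd.preimage (snd Xt Xt).left.isOpenMap) (U.2.preimage (fst Xt Xt).left.continuous)
    exact ⟨dense_closure.1 (hd.mono hsub)⟩
  · intro h
    haveI := h
    have h2 : IsDominant ((G ◁ n).left ≫ Γa.left) := by
      rw [← Over.comp_left, e, Over.comp_left]
      infer_instance
    exact IsDominant.of_comp (G ◁ n).left Γa.left

end Groth.Agent.S14636
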