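import Groth.Statements.S14637
import Groth.Agent.L15.GaLaw.Gm

set_option autoImplicit false
set_option backward.isDefEq.respectTransparency.types false
set_option backward.isDefEq.respectTransparency false
set_option linter.style.haveILetI false
universe u
open CategoryTheory CategoryTheory.Limits MonoidalCategory CartesianMonoidalCategory MonObj GrpObj AlgebraicGeometry CategoryTheory.Limits
open AlgGrp

namespace Groth.Agent.S14637

/-- Over a field k, the only structure of algebraic group on the punctured affine line Spec k[T, T⁻¹]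
with unit element the point T = 1 is the multiplicative group. Precisely: let G be a k-group scheme
and e an isomorphism of k-schemes from the underlying scheme of G to Spec k[T, T⁻¹] under which the
unit section has T-coordinate 1; then for every k-scheme S and all S-valued points g, h of G, the
T-coordinate of g · h (the pull-back of the global function T along the point composed with e) is
the product of the T-coordinates of g and of h. -/
theorem result (k : Type u) [Field k]
    (G : Over (Spec (CommRingCat.of k))) [GrpObj G]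
    (e : G.left ≅ Spec (CommRingCat.of (LaurentPolynomial k)))
    (he : e.hom ≫ Spec.map (CommRingCat.ofHom (algebraMap k (LaurentPolynomial k))) = G.hom)
    (hunit : ((η[G]).left ≫ e.hom).appTop.hom ((Scheme.ΓSpecIso (CommRingCat.of (LaurentPolynomial k))).inv.hom (LaurentPolynomial.T 1)) = 1)
    (S : Over (Spec (CommRingCat.of k))) (g h : S ⟶ G) :
    ((g * h).left ≫ e.hom).appTop.hom ((Scheme.ΓSpecIso (CommRingCat.of (LaurentPolynomial k))).inv.hom (LaurentPolynomial.T 1)) =
      (g.left ≫ e.hom).appTop.hom ((Scheme.ΓSpecIso (CommRingCat.of (LaurentPolynomial k))).inv.hom (LaurentPolynomial.T 1)) * (h.left ≫ e.hom).appTop.hom ((Scheme.ΓSpecIso (CommRingCat.of (LaurentPolynomial k))).inv.hom (LaurentPolynomial.T 1)) := by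
  letI : Algebra k (LaurentPolynomial k) := inferInstance
  let τ : ∀ {S : Over (Spec (CommRingCat.of k))} (g : S ⟶ G), Γ(S.left, ⊤) := fun g =>
    (g.left ≫ e.hom).appTop.hom ((Scheme.ΓSpecIso (CommRingCat.of (LaurentPolynomial k))).inv.hom (LaurentPolynomial.T 1))
  have hτc : ∀ {S S' : Over (Spec (CommRingCat.of k))} (f : S' ⟶ S) (g : S ⟶ G),
      τ (f ≫ g) = f.left.appTop.hom (τ g) := fun f g => rfl
  have hτS : ∀ {R : Type u} [CommRing R] [Algebra k R] (g : Groth.L15.GaLaw.U (k := k) R ⟶ G),
      τ g = (Scheme.ΓSpecIso (CommRingCat.of R)).inv.hom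
        ((Spec.preimage (g.left ≫ e.hom)).hom (LaurentPolynomial.T 1)) := by
    intro R _ _ g
    show (g.left ≫ e.hom).appTop.hom _ = _
    conv_lhs => rw [← Spec.map_preimage (g.left ≫ e.hom)]
    exact (congr($(Scheme.ΓSpecIso_inv_naturality (Spec.preimage (g.left ≫ e.hom))) (LaurentPolynomial.T 1))).symm
  have hcomm : ∀ {R : Type u} [CommRing R] [Algebra k R] (g : Groth.L15.GaLaw.U (k := k) R ⟶ G) (r : k),
      (Spec.preimage (g.left ≫ e.hom)).hom (algebraMap k (LaurentPolynomial k) r) = algebraMap k R r := by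
    intro R _ _ g r
    have h : CommRingCat.ofHom (algebraMap k (LaurentPolynomial k)) ≫ Spec.preimage (g.left ≫ e.hom) =
        CommRingCat.ofHom (algebraMap k R) := by
      apply Spec.map_injective
      rw [Spec.map_comp, Spec.map_preimage, Category.assoc, he]
      exact Over.w g
    exact ConcreteCategory.congr_hom h r
  -- the points of `G` are the units
  let fwd : ∀ (R : Type u) [CommRing R] [Algebra k R], Rˣ → (Groth.L15.GaLaw.U (k := k) R ⟶ G) :=
    fun R _ _ v => Over.homMk (Spec.map (CommRingCat.ofHom (LaurentPolynomial.eval₂ (algebraMap k R) v)) ≫ e.inv) (by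
      show (Spec.map _ ≫ e.inv) ≫ G.hom = Spec.map _
      rw [← he, Category.assoc, Iso.inv_hom_id_assoc, ← Spec.map_comp, ← CommRingCat.ofHom_comp]
      congr 2
      ext r
      exact LaurentPolynomial.eval₂_C _ _ r)
  have hfwd : ∀ (R : Type u) [CommRing R] [Algebra k R] (v : Rˣ),
      Spec.preimage ((fwd R v).left ≫ e.hom) = CommRingCat.ofHom (LaurentPolynomial.eval₂ (algebraMap k R) v) := by
    intro R _ _ v
    apply Spec.map_injective
    rw [Spec.map_preimage]
    simp [fwd]
  let bwd : ∀ (R : Type u) [CommRing R] [Algebra k R], (Groth.L15.GaLaw.U (k := k) R ⟶ G) → Rˣ :=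
    fun R _ _ g => Units.map (Spec.preimage (g.left ≫ e.hom)).hom (LaurentPolynomial.isUnit_T (R := k) 1).unit
  have hbwd : ∀ (R : Type u) [CommRing R] [Algebra k R] (g : Groth.L15.GaLaw.U (k := k) R ⟶ G),
      fwd R (bwd R g) = g := by
    intro R _ _ g
    apply Over.OverMorphism.ext
    rw [← cancel_mono e.hom, ← Spec.map_preimage ((fwd R (bwd R g)).left ≫ e.hom), hfwd,
      ← Spec.map_preimage (g.left ≫ e.hom)]
    congr 1
    apply CommRingCat.hom_ext
    refine IsLocalization.ringHom_ext (Submonoid.powers (Polynomial.X : Polynomial k)) ?_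
    refine Polynomial.ringHom_ext (fun r => ?_) ?_
    · simp only [RingHom.comp_apply, LaurentPolynomial.algebraMap_eq_toLaurent, Polynomial.toLaurent_C,
        CommRingCat.hom_ofHom, LaurentPolynomial.eval₂_C]
      exact (hcomm g r).symm
    · simp only [RingHom.comp_apply, LaurentPolynomial.algebraMap_eq_toLaurent, Polynomial.toLaurent_X,
        CommRingCat.hom_ofHom, LaurentPolynomial.eval₂_T, zpow_one]
      rfl
  let L : Groth.L15.GaLaw.UnitPts G :=
    { pt := fun R _ _ =>
        { toFun := fwd R
          invFun := bwd R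
          left_inv := fun v => Units.ext (by
            show (Spec.preimage ((fwd R v).left ≫ e.hom)).hom (LaurentPolynomial.T 1) = _
            rw [hfwd, CommRingCat.hom_ofHom, LaurentPolynomial.eval₂_T, zpow_one])
          right_inv := hbwd R }
      pt_natural := by
        intro R R' _ _ _ _ f a
        show Groth.L15.GaLaw.Um f ≫ fwd R a = fwd R' _
        apply Over.OverMorphism.ext
        show Spec.map _ ≫ Spec.map _ ≫ e.inv = Spec.map _ ≫ e.inv
        rw [← Category.assoc, ← Spec.map_comp]
        congr 2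
        apply CommRingCat.hom_ext
        refine IsLocalization.ringHom_ext (Submonoid.powers (Polynomial.X : Polynomial k)) ?_
        refine Polynomial.ringHom_ext (fun r => ?_) ?_
        · simp [LaurentPolynomial.algebraMap_eq_toLaurent]
        · simp [LaurentPolynomial.algebraMap_eq_toLaurent] }
  have hτpt : ∀ (R : Type u) [CommRing R] [Algebra k R] (v : Rˣ),
      τ (L.pt R v) = (Scheme.ΓSpecIso (CommRingCat.of R)).inv.hom (v : R) := by
    intro R _ _ v
    rw [hτS]
    show (Scheme.ΓSpecIso _).inv.hom ((Spec.preimage ((fwd R v).left ≫ e.hom)).hom _) = _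
    rw [hfwd, CommRingCat.hom_ofHom, LaurentPolynomial.eval₂_T, zpow_one]
  have hunit1 : L.unit = 1 := by
    refine Units.ext ((Scheme.ΓSpecIso (CommRingCat.of k)).symm.commRingCatIsoToRingEquiv.injective ?_)
    show (Scheme.ΓSpecIso (CommRingCat.of k)).inv.hom (L.unit : k) = (Scheme.ΓSpecIso (CommRingCat.of k)).inv.hom 1
    rw [← hτpt, map_one]
    show τ (L.pt k ((L.pt k).symm 1)) = 1
    rw [Equiv.apply_symm_apply, Hom.one_def, hτc]
    show (toUnit (Groth.L15.GaLaw.U (k := k) k)).left.appTop.hom ((η[G].left ≫ e.hom).appTop.hom _) = 1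
    rw [hunit, map_one]
  haveI : IsAffine G.left := IsAffine.of_isIso e.hom
  haveI : IsAffineHom G.hom := isAffineHom_of_isAffine _
  haveI : IsAffine (G ⊗ G).left := by
    haveI : IsAffineHom (G ⊗ G).hom := inferInstanceAs (IsAffineHom (pullback.fst G.hom G.hom ≫ G.hom))
    exact isAffine_of_isAffineHom (G ⊗ G).hom
  let A := Γ((G ⊗ G).left, ⊤)
  let φ : CommRingCat.of k ⟶ A := (Scheme.ΓSpecIso (CommRingCat.of k)).inv ≫ (G ⊗ G).hom.appTop
  letI : Algebra k A := φ.hom.toAlgebra
  have hw : (G ⊗ G).left.toSpecΓ ≫ Spec.map φ = (G ⊗ G).hom := by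
    rw [Spec.map_comp, ← Scheme.toSpecΓ_naturality_assoc, ← Scheme.isoSpec_Spec_inv,
      Scheme.toSpecΓ_isoSpec_inv, Category.comp_id]
  let p : G ⊗ G ⟶ Groth.L15.GaLaw.U (k := k) A := Over.homMk (G ⊗ G).left.toSpecΓ hw
  haveI : IsIso p.left := inferInstanceAs (IsIso (G ⊗ G).left.toSpecΓ)
  haveI : IsIso p := by
    haveI : IsIso ((Over.forget _).map p) := ‹IsIso p.left›
    exact isIso_of_reflects_iso p (Over.forget _)
  obtain ⟨a, ha⟩ := (L.pt A).surjective (inv p ≫ fst G G)
  obtain ⟨b, hb⟩ := (L.pt A).surjective (inv p ≫ snd G G)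
  have hop := L.op_eq A a b
  rw [hunit1, map_one, _root_.mul_one] at hop
  have hU : τ (L.pt A a * L.pt A b) = τ (L.pt A a) * τ (L.pt A b) := by
    rw [← L.pt_op, hop, hτpt, hτpt, hτpt, Units.val_mul, map_mul]
  have hGG : τ (fst G G * snd G G) = τ (fst G G) * τ (snd G G) := by
    have h1 : fst G G = p ≫ L.pt A a := by rw [ha, IsIso.hom_inv_id_assoc]
    have h2 : snd G G = p ≫ L.pt A b := by rw [hb, IsIso.hom_inv_id_assoc]
    rw [h1, h2, ← MonObj.comp_mul, hτc, hτc, hτc, hU, map_mul]
  show τ (g * h) = τ g * τ h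
  have key : g * h = lift g h ≫ (fst G G * snd G G) := by rw [MonObj.comp_mul, lift_fst, lift_snd]
  rw [key, hτc, hGG, map_mul, ← hτc, ← hτc, lift_fst, lift_snd]

end Groth.Agent.S14637
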