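import Groth.Statements.S18824
import Groth.Agent.L19.AlgGrpBasic.Descent

set_option autoImplicit false
set_option backward.isDefEq.respectTransparency.types false
set_option backward.isDefEq.respectTransparency false
set_option linter.style.haveILetI false
universe u
open CategoryTheory MonoidalCategory CartesianMonoidalCategory MonObj AlgebraicGeometry
open AlgGrp

namespace Groth.Agent.S18824
open Groth.L19.AlgGrpBasic

/-- Let k be a field, G a locally algebraic group over k (a group k-scheme locally of finite type)
acting on a k-scheme X through a : G ×_k X → X, and U an open subset of X. Let G·U ⊆ X be the image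
under a of G ×_k U (the preimage of U under the projection). Then G·U is open in X, contains U, is
G-stable in the sense that a maps G ×_k (G·U) into G·U, and is the smallest such set: every G-stable
open subset of X containing U contains G·U. -/
theorem result (k : Type u) [Field k]
    (G X : Over (Spec (CommRingCat.of k))) [GrpObj G] [LocallyOfFiniteType G.hom] (a : AlgGrp.Action G X)
    (U : Set ↥X.left) (hU : IsOpen U) :
    IsOpen (a.act.left.base '' ((CartesianMonoidalCategory.snd G X).left.base ⁻¹' U)) ∧
      U ⊆ a.act.left.base '' ((CartesianMonoidalCategory.snd G X).left.base ⁻¹' U) ∧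
      a.act.left.base '' ((CartesianMonoidalCategory.snd G X).left.base ⁻¹'
          (a.act.left.base '' ((CartesianMonoidalCategory.snd G X).left.base ⁻¹' U))) ⊆
        a.act.left.base '' ((CartesianMonoidalCategory.snd G X).left.base ⁻¹' U) ∧
      ∀ W : Set ↥X.left, IsOpen W → U ⊆ W →
        a.act.left.base '' ((CartesianMonoidalCategory.snd G X).left.base ⁻¹' W) ⊆ W →
          a.act.left.base '' ((CartesianMonoidalCategory.snd G X).left.base ⁻¹' U) ⊆ W := by
  let σ : G ⊗ X ⟶ G ⊗ X := lift (fst G X) a.act
  haveI : IsIso σ := ⟨lift (fst G X) (lift (fst G X)⁻¹ (snd G X) ≫ a.act), by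
      apply CartesianMonoidalCategory.hom_ext
      · simp [σ]
      · simp only [σ, Category.assoc, lift_snd, Category.id_comp, ← Category.assoc, comp_lift, GrpObj.comp_inv,
          lift_fst]
        have e0 := act_mul a (fst G X)⁻¹ (fst G X) (snd G X)
        rw [inv_mul_cancel, act_one, lift_fst_snd, Category.id_comp] at e0
        exact e0.symm, by
      apply CartesianMonoidalCategory.hom_ext
      · simp [σ]
      · simp only [σ, Category.assoc, lift_snd, Category.id_comp]
        rw [← act_mul, mul_inv_cancel, act_one]⟩
  haveI : Flat G.hom := inferInstance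
  haveI : LocallyOfFinitePresentation G.hom := inferInstance
  haveI : UniversallyOpen (snd G X).left :=
    MorphismProperty.of_isPullback (isPullback_left G X) (inferInstance : UniversallyOpen G.hom)
  have hact : a.act.left = σ.left ≫ (snd G X).left := by rw [← Over.comp_left, lift_snd]
  haveI : UniversallyOpen a.act.left := hact ▸ inferInstance
  let one : X ⟶ G ⊗ X := lift (1 : X ⟶ G) (𝟙 X)
  have ho1 : one ≫ a.act = 𝟙 X := act_one a _
  have ho2 : one ≫ snd G X = 𝟙 X := lift_snd _ _
  refine ⟨a.act.left.isOpenMap _ (hU.preimage (snd G X).left.continuous), fun x hx => ⟨one.left x, ?_, ?_⟩, ?_,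
    fun W _ hUW hW => (Set.image_mono (Set.preimage_mono hUW)).trans hW⟩
  · show (snd G X).left (one.left x) ∈ U
    rw [← Scheme.Hom.comp_apply, ← Over.comp_left, ho2]
    exact hx
  · show a.act.left (one.left x) = x
    rw [← Scheme.Hom.comp_apply, ← Over.comp_left, ho1]
    rfl
  · rintro _ ⟨p, ⟨q, hq, hqp⟩, rfl⟩
    obtain ⟨r, hr1, hr2⟩ := Scheme.exists_preimage_of_isPullback (isPullback_whiskerLeft G a.act) p q hqp.symm
    refine ⟨((α_ G G X).inv ≫ (μ[G] ▷ X)).left r, ?_, ?_⟩
    · show (snd G X).left _ ∈ U
      rw [← Scheme.Hom.comp_apply, ← Over.comp_left, Category.assoc, whiskerRight_snd,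
        associator_inv_snd, Over.comp_left, Scheme.Hom.comp_apply, hr2]
      exact hq
    · show a.act.left _ = a.act.left p
      rw [← Scheme.Hom.comp_apply, ← Over.comp_left, Category.assoc, a.mul_act, Iso.inv_hom_id_assoc,
        Over.comp_left, Scheme.Hom.comp_apply, hr1]

end Groth.Agent.S18824
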