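import Groth.Statements.S14638
import Groth.Agent.L19.AlgGrpBasic.OpenTrans
import Groth.Agent.S18824

set_option autoImplicit false
set_option backward.isDefEq.respectTransparency.types false
set_option backward.isDefEq.respectTransparency false
set_option linter.style.haveILetI false
universe u
open CategoryTheory MonoidalCategory CartesianMonoidalCategory MonObj GrpObj AlgebraicGeometry CategoryTheory.Limits
open AlgGrp

namespace Groth.Agent.S14638
open Groth.L19.AlgGrpBasic

/-- Over a field k, let G be a smooth k-group scheme of finite type acting on a variety X (a separated,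
geometrically integral k-scheme of finite type). Then X is almost homogeneous, i.e. the graph
morphism G × X → X × X, (g, x) ↦ (x, g·x), is dominant, if and only if there is a nonempty open
subscheme U of X which is G-stable (the action restricts to an action on U) and homogeneous (the
graph morphism G × U → U × U is surjective). Moreover there is at most one such open subscheme U
(the open orbit). -/
theorem result (k : Type u) [Field k]
    (G X : Over (Spec (CommRingCat.of k))) [GrpObj G] [Smooth G.hom] [QuasiCompact G.hom]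
    [IsSeparated X.hom] [LocallyOfFiniteType X.hom] [QuasiCompact X.hom] [GeometricallyIntegral X.hom]
    (a : AlgGrp.Action G X) :
    (IsDominant (CartesianMonoidalCategory.lift (CartesianMonoidalCategory.snd G X) a.act).left ↔
      ∃ U : X.left.Opens, (U : Set ↥X.left).Nonempty ∧
        ∃ b : AlgGrp.Action G (Over.mk (U.ι ≫ X.hom)),
          (G ◁ (Over.homMk U.ι rfl : Over.mk (U.ι ≫ X.hom) ⟶ X)) ≫ a.act = b.act ≫ Over.homMk U.ι rfl ∧
          Surjective (CartesianMonoidalCategory.lift (CartesianMonoidalCategory.snd G (Over.mk (U.ι ≫ X.hom))) b.act).left) ∧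
    ∀ U U' : X.left.Opens,
      ((U : Set ↥X.left).Nonempty ∧ ∃ b : AlgGrp.Action G (Over.mk (U.ι ≫ X.hom)),
          (G ◁ (Over.homMk U.ι rfl : Over.mk (U.ι ≫ X.hom) ⟶ X)) ≫ a.act = b.act ≫ Over.homMk U.ι rfl ∧
          Surjective (CartesianMonoidalCategory.lift (CartesianMonoidalCategory.snd G (Over.mk (U.ι ≫ X.hom))) b.act).left) →
      ((U' : Set ↥X.left).Nonempty ∧ ∃ b' : AlgGrp.Action G (Over.mk (U'.ι ≫ X.hom)),
          (G ◁ (Over.homMk U'.ι rfl : Over.mk (U'.ι ≫ X.hom) ⟶ X)) ≫ a.act = b'.act ≫ Over.homMk U'.ι rfl ∧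
          Surjective (CartesianMonoidalCategory.lift (CartesianMonoidalCategory.snd G (Over.mk (U'.ι ≫ X.hom))) b'.act).left) →
      U = U' := by
  let K := AlgebraicClosure k
  haveI : GeometricallyIrreducible X.hom := inferInstance
  refine ⟨⟨fun h => ?_, ?_⟩, ?_⟩
  · obtain ⟨V, hVne, hV⟩ := exists_transOn_of_isDominant (K := K) a h
    obtain ⟨hUo, hVU, hUs, -⟩ := Groth.Agent.S18824.result k G X a (V : Set X.left) V.2
    let U : X.left.Opens := ⟨_, hUo⟩
    obtain ⟨b, hb⟩ := exists_action_of_stable a U hUs
    exact ⟨U, hVne.mono hVU, b, hb, surjective_restrict_of_transOn (K := K) a U b hb (hV.image_act a V.2)⟩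
  · rintro ⟨U, hne, b, hb, hs⟩
    exact isDominant_graph (K := K) a U.2 hne (transOn_of_surjective_restrict a U b hb hs)
  · rintro U U' ⟨hne, b, hb, hs⟩ ⟨hne', b', hb', hs'⟩
    haveI : IrreducibleSpace X.left := GeometricallyIrreducible.irreducibleSpace X.hom X.hom.isOpenMap
    haveI := noetherianSpace_left (X := X)
    have key : ∀ (U U' : X.left.Opens), TransOn K a (U : Set X.left) →
        (∀ (g : gT k K ⟶ G) (x : gT k K ⟶ X), gpt x ∈ U' → gpt (lift g x ≫ a.act) ∈ U') →
        (U : Set X.left).Nonempty → (U' : Set X.left).Nonempty → U ≤ U' := by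
      intro U U' hT hst hne hne'
      obtain ⟨x, hx, hx'⟩ := exists_gpt_mem (K := K) (U.2.inter U'.2).isLocallyClosed
        (nonempty_preirreducible_inter U.2 U'.2 hne hne')
      show (U : Set X.left) ⊆ U'
      rw [← Set.sdiff_eq_empty]
      refine eq_empty_of_gpt (K := K) ((Groth.L06.Constr.isConstructible_of_isOpen U.2).sdiff
        (Groth.L06.Constr.isConstructible_of_isOpen U'.2)) fun y hy => ?_
      obtain ⟨g, rfl⟩ := hT x y hx hy.1
      exact hy.2 (hst g x hx')
    exact le_antisymm
      (key U U' (transOn_of_surjective_restrict a U b hb hs) (act_mem_of_restrict a U' b' hb') hne hne')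
      (key U' U (transOn_of_surjective_restrict a U' b' hb' hs') (act_mem_of_restrict a U b hb) hne' hne)

end Groth.Agent.S14638
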