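import Groth.Statements.S14639
import Mathlib.RingTheory.AdjoinRoot
import Mathlib.Algebra.Polynomial.Derivative
import Mathlib.Algebra.Polynomial.Roots
import Mathlib.LinearAlgebra.Dual.Lemmas
import Mathlib.Algebra.Polynomial.RingDivision
import Mathlib.Algebra.Polynomial.Div
import Mathlib.Algebra.Ring.GeomSum
import Mathlib.Algebra.CharP.Defs
import Mathlib.Tactic.Ring
import Mathlib.Tactic.LinearCombination

set_option autoImplicit false
universe u
open Polynomial
open AlgGrp

namespace Groth.Agent.S14639

/-- Classification of the subalgebras of a truncated polynomial ring that are stable under the unipotent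
substitutions, which is the algebraic step behind the classification of curves almost homogeneous
under the additive group in characteristic zero. Let k be a field of characteristic zero, N ≥ 0 and
R = k[u]/(u^(N+1)). The additive group acts on R through the substitutions u ↦ u/(1 + a u), a in k.
If A is a k-subalgebra of R stable under all these substitutions (stated for every k-algebra
endomorphism σ of R with σ(u)(1 + a u) = u for some a in k), then there is an integer n with 1 ≤ n ≤
N + 1 such that A = k ⊕ (u^n): as a k-subspace, A is the span of 1 plus the ideal generated by u^n.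
(In positive characteristic p and for N ≥ p + 1, the subalgebra generated by u^p is stable and not
of this form.) -/
theorem result (k : Type u) [Field k] [CharZero k]
    (N : ℕ) (A : Subalgebra k (AdjoinRoot ((Polynomial.X : Polynomial k) ^ (N + 1))))
    (hA : ∀ (a : k) (σ : AdjoinRoot ((Polynomial.X : Polynomial k) ^ (N + 1)) →ₐ[k] AdjoinRoot ((Polynomial.X : Polynomial k) ^ (N + 1))),
      σ (AdjoinRoot.root ((Polynomial.X : Polynomial k) ^ (N + 1))) * (1 + algebraMap k (AdjoinRoot ((Polynomial.X : Polynomial k) ^ (N + 1))) a * AdjoinRoot.root ((Polynomial.X : Polynomial k) ^ (N + 1))) = AdjoinRoot.root ((Polynomial.X : Polynomial k) ^ (N + 1)) →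
        A.map σ ≤ A) :
    ∃ n : ℕ, 1 ≤ n ∧ n ≤ N + 1 ∧
      Subalgebra.toSubmodule A =
        Submodule.span k {1} ⊔ (Ideal.span {AdjoinRoot.root ((Polynomial.X : Polynomial k) ^ (N + 1)) ^ n}).restrictScalars k := by
  classical
  let F := (Polynomial.X : Polynomial k) ^ (N + 1)
  have hF : F = (Polynomial.X : Polynomial k) ^ (N + 1) := rfl
  let u := AdjoinRoot.root F
  have hu : u = AdjoinRoot.root F := rfl
  have huN : u ^ (N + 1) = 0 := by
    have : AdjoinRoot.mk F F = 0 := AdjoinRoot.mk_self
    rwa [hF, map_pow, AdjoinRoot.mk_X] at this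
  -- the automorphisms
  let W : Polynomial (AdjoinRoot F) := ∑ t ∈ Finset.range (N + 1), (Polynomial.C (-u) * Polynomial.X) ^ t
  have hW : ∀ a : k, W.eval (algebraMap k (AdjoinRoot F) a) * (1 + algebraMap k (AdjoinRoot F) a * u) = 1 := by
    intro a
    have : W.eval (algebraMap k (AdjoinRoot F) a) = ∑ t ∈ Finset.range (N + 1), (-(algebraMap k (AdjoinRoot F) a * u)) ^ t := by
      simp only [W, Polynomial.eval_finsetSum, Polynomial.eval_pow, Polynomial.eval_mul, Polynomial.eval_C,
        Polynomial.eval_X]
      exact Finset.sum_congr rfl fun t _ => by ring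
    rw [this]
    have h := geom_sum_mul (-(algebraMap k (AdjoinRoot F) a * u)) (N + 1)
    rw [neg_pow, mul_pow, huN, mul_zero, mul_zero] at h
    linear_combination -h
  let Q : Polynomial k → Polynomial (AdjoinRoot F) := fun P =>
    (P.map (algebraMap k (AdjoinRoot F))).comp (Polynomial.C u * W)
  have hAe : ∀ P : Polynomial k, AdjoinRoot.mk F P ∈ A → ∀ a : k, (Q P).eval (algebraMap k _ a) ∈ A := by
    intro P hP a
    let w := u * W.eval (algebraMap k (AdjoinRoot F) a)
    have hw : Polynomial.aeval w F = 0 := by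
      simp [hF, w, mul_pow, huN]
    have hw' : (F.map (algebraMap k (AdjoinRoot F))).eval w = 0 := by
      rwa [Polynomial.eval_map_algebraMap]
    let σ : AdjoinRoot F →ₐ[k] AdjoinRoot F := AdjoinRoot.liftAlgHom F (Algebra.ofId k _) w
      (by rwa [Polynomial.aeval_def] at hw)
    have hσu : σ u = w := by rw [hu]; simp [σ]
    have h1 := hA a σ (by rw [hσu, mul_assoc, hW, mul_one]) (Subalgebra.mem_map.2 ⟨_, hP, rfl⟩)
    have h2 : σ (AdjoinRoot.mk F P) = (Q P).eval (algebraMap k _ a) := by
      rw [← AdjoinRoot.aeval_eq, ← Polynomial.aeval_algHom_apply, hσu]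
      simp [Q, Polynomial.eval_comp, w, Polynomial.eval_map, Polynomial.aeval_def]
    rwa [h2] at h1
  -- the derivation
  have hD : ∀ P : Polynomial k, AdjoinRoot.mk F P ∈ A →
      AdjoinRoot.mk F (-(Polynomial.X ^ 2 * Polynomial.derivative P)) ∈ A := by
    intro P hP
    have hcoeff : ∀ n, (Q P).coeff n ∈ A := by
      intro n
      by_contra hnot
      obtain ⟨φ, hφne, hφbot⟩ := Submodule.exists_dual_map_eq_bot_of_notMem
        (p := Subalgebra.toSubmodule A) hnot inferInstance
      have hφ : ∀ y ∈ A, φ y = 0 := fun y hy => by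
        have := Submodule.mem_map_of_mem (f := φ) (show y ∈ Subalgebra.toSubmodule A from hy)
        rwa [hφbot, Submodule.mem_bot] at this
      refine hφne ?_
      let G : Polynomial k := ∑ t ∈ Finset.range ((Q P).natDegree + 1), Polynomial.monomial t (φ ((Q P).coeff t))
      haveI : Infinite k := Infinite.of_injective _ (Nat.cast_injective (R := k))
      have hG : G = 0 := by
        refine Polynomial.funext fun a => ?_
        rw [Polynomial.eval_zero, ← hφ _ (hAe P hP a), Polynomial.eval_eq_sum_range (p := Q P), map_sum]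
        simp only [G, Polynomial.eval_finsetSum, Polynomial.eval_monomial]
        refine Finset.sum_congr rfl fun t _ => ?_
        rw [← map_pow, mul_comm ((Q P).coeff t), ← Algebra.smul_def, map_smul, smul_eq_mul, mul_comm]
      by_cases hn : n ≤ (Q P).natDegree
      · have := congrArg (fun p => Polynomial.coeff p n) hG
        simpa [G, Polynomial.finsetSum_coeff, Polynomial.coeff_monomial, Nat.lt_succ_iff, hn] using this
      · rw [Polynomial.coeff_eq_zero_of_natDegree_lt (not_le.1 hn), map_zero]
    have h1 := hcoeff 1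
    have hW0 : W.eval 0 = 1 := by
      simpa using hW 0
    have hW1 : (Polynomial.derivative W).eval 0 = -u ∨ N = 0 := by
      rcases Nat.eq_zero_or_pos N with hN | hN
      · exact Or.inr hN
      refine Or.inl ?_
      simp only [W, map_sum, Polynomial.eval_finsetSum]
      rw [Finset.sum_eq_single 1]
      · simp
      · intro t _ ht
        rcases t with _ | _ | t
        · simp
        · omega
        · simp [Polynomial.derivative_pow, zero_pow]
      · intro h; exact absurd (Finset.mem_range.2 (by omega)) h
    have h2 : (Q P).coeff 1 = (Polynomial.derivative (Q P)).eval 0 := by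
      rw [← Polynomial.coeff_zero_eq_eval_zero, Polynomial.coeff_derivative]; simp
    rw [h2, Polynomial.derivative_comp, Polynomial.eval_mul, Polynomial.eval_comp, Polynomial.derivative_map,
      Polynomial.derivative_mul, Polynomial.derivative_C, zero_mul, zero_add, Polynomial.eval_mul,
      Polynomial.eval_mul, Polynomial.eval_C, hW0, mul_one, Polynomial.eval_map_algebraMap, hu,
      AdjoinRoot.aeval_eq] at h1
    rcases hW1 with hW1 | hN
    · rw [hW1] at h1
      rwa [map_neg, map_mul, map_pow, AdjoinRoot.mk_X, show -(AdjoinRoot.root F ^ 2 * AdjoinRoot.mk F (Polynomial.derivative P)) =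
        AdjoinRoot.root F * -AdjoinRoot.root F * AdjoinRoot.mk F (Polynomial.derivative P) by ring]
    · have : u ^ 2 = 0 := by
        rw [show 2 = N + 1 + 1 by omega, pow_succ, huN, zero_mul]
      rw [map_neg, map_mul, map_pow, AdjoinRoot.mk_X, ← hu, this, zero_mul, neg_zero]
      exact A.zero_mem
  let pr : ℕ → Prop := fun m => 1 ≤ m ∧ (m = N + 1 ∨ ∃ P : Polynomial k, AdjoinRoot.mk F P ∈ A ∧ Polynomial.X ^ m ∣ P ∧ P.coeff m ≠ 0)
  have hex : ∃ m, pr m := ⟨N + 1, by omega, Or.inl rfl⟩
  set n := Nat.find hex with hn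
  obtain ⟨hn1, hn'⟩ := Nat.find_spec hex
  have hnN : n ≤ N + 1 := Nat.find_le ⟨by omega, Or.inl rfl⟩
  -- elements of every order from `n` on
  have hord : ∀ t, n + t ≤ N → ∃ P : Polynomial k, AdjoinRoot.mk F P ∈ A ∧ Polynomial.X ^ (n + t) ∣ P ∧ P.coeff (n + t) ≠ 0 := by
    intro t
    induction t with
    | zero =>
      intro ht
      rcases hn' with h | h
      · omega
      · exact h
    | succ t IH =>
      intro ht
      obtain ⟨P, hP, hdvd, hc⟩ := IH (by omega)
      refine ⟨_, hD P hP, ?_, ?_⟩
      · rw [dvd_neg]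
        obtain ⟨S, rfl⟩ := hdvd
        rw [Polynomial.derivative_mul, Polynomial.derivative_X_pow, mul_add]
        refine dvd_add ⟨Polynomial.C (↑(n + t) : k) * S, ?_⟩ ⟨Polynomial.X * Polynomial.derivative S, by ring⟩
        obtain ⟨e, he⟩ : ∃ e, n + t = e + 1 := ⟨n + t - 1, by omega⟩
        rw [show n + (t + 1) = e + 2 by omega, he, Nat.add_sub_cancel]
        ring
      · rw [Polynomial.coeff_neg, neg_ne_zero, show n + (t + 1) = (n + t - 1) + 2 by omega, Polynomial.coeff_X_pow_mul,
          Polynomial.coeff_derivative, show n + t - 1 + 1 = n + t by omega, show ((n + t - 1 : ℕ) : k) + 1 = ((n + t : ℕ) : k) by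
            rw [← Nat.cast_add_one, show n + t - 1 + 1 = n + t by omega]]
        exact mul_ne_zero hc (Nat.cast_ne_zero.2 (by omega))
  have hup : ∀ m, n ≤ m → ∀ S : Polynomial k, AdjoinRoot.mk F (Polynomial.X ^ m * S) ∈ A := by
    intro m
    induction hd : (N + 1 - m) generalizing m with
    | zero =>
      intro _ S
      rw [show AdjoinRoot.mk F (Polynomial.X ^ m * S) = 0 from
        AdjoinRoot.mk_eq_zero.2 (dvd_mul_of_dvd_left (pow_dvd_pow _ (by omega)) _)]
      exact A.zero_mem
    | succ d IH =>
      intro hm S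
      obtain ⟨P, hP, ⟨T, hT⟩, hc⟩ := hord (m - n) (by omega)
      rw [show n + (m - n) = m by omega] at hT hc
      have hT0 : T.coeff 0 = P.coeff m := by
        rw [hT, Polynomial.coeff_X_pow_mul', if_pos le_rfl, Nat.sub_self]
      obtain ⟨S', hS'⟩ : Polynomial.X ∣ S - Polynomial.C (S.coeff 0 / T.coeff 0) * T := by
        rw [Polynomial.X_dvd_iff]
        simp [hT0 ▸ hc, div_mul_cancel₀]
      have h3 := IH (m + 1) (by omega) (by omega) S'
      have : Polynomial.X ^ m * S = Polynomial.C (S.coeff 0 / T.coeff 0) * P + Polynomial.X ^ (m + 1) * S' := by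
        rw [hT]; linear_combination Polynomial.X ^ m * hS'
      rw [this, map_add, map_mul, AdjoinRoot.mk_C]
      exact A.add_mem (A.mul_mem (A.algebraMap_mem _) hP) h3
  refine ⟨n, hn1, hnN, le_antisymm ?_ (sup_le ?_ ?_)⟩
  · intro x hx
    obtain ⟨P, rfl⟩ := AdjoinRoot.mk_surjective x
    rw [Subalgebra.mem_toSubmodule] at hx
    have h0 : AdjoinRoot.mk F (P - Polynomial.C (P.coeff 0)) ∈ A := by
      rw [map_sub, AdjoinRoot.mk_C]; exact A.sub_mem hx (A.algebraMap_mem _)
    have hdvd : Polynomial.X ^ n ∣ P - Polynomial.C (P.coeff 0) := by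
      rw [Polynomial.X_pow_dvd_iff]
      intro d
      induction d using Nat.strong_induction_on with
      | _ d IH =>
        intro hd
        by_contra hne
        have hd1 : 1 ≤ d := Nat.one_le_iff_ne_zero.2 fun h => hne (by simp [h])
        exact Nat.find_min hex hd ⟨hd1, Or.inr ⟨_, h0, Polynomial.X_pow_dvd_iff.2 fun e he => IH e he (he.trans hd), hne⟩⟩
    obtain ⟨S, hS⟩ := hdvd
    refine Submodule.mem_sup.2 ⟨algebraMap k _ (P.coeff 0), Submodule.mem_span_singleton.2 ⟨P.coeff 0, (Algebra.algebraMap_eq_smul_one _).symm⟩,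
      u ^ n * AdjoinRoot.mk F S, Ideal.mul_mem_right _ _ (Ideal.subset_span rfl), ?_⟩
    rw [hu, ← AdjoinRoot.mk_X, ← map_pow, ← map_mul, ← hS, map_sub, AdjoinRoot.mk_C, AdjoinRoot.algebraMap_eq]
    ring
  · rw [Submodule.span_singleton_le_iff_mem, Subalgebra.mem_toSubmodule]
    exact A.one_mem
  · intro x hx
    obtain ⟨r, rfl⟩ := Ideal.mem_span_singleton.1 (show x ∈ Ideal.span {u ^ n} from hx)
    obtain ⟨S, rfl⟩ := AdjoinRoot.mk_surjective r
    rw [Subalgebra.mem_toSubmodule, hu, ← AdjoinRoot.mk_X, ← map_pow, ← map_mul]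
    exact hup n le_rfl S

end Groth.Agent.S14639
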