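import Groth.Statements.S14640
import Groth.Agent.L19.AlgGrpBasic.OpenSubgroup

set_option autoImplicit false
set_option backward.isDefEq.respectTransparency.types false
set_option backward.isDefEq.respectTransparency false
set_option linter.style.haveILetI false
universe u
open CategoryTheory MonoidalCategory CartesianMonoidalCategory MonObj GrpObj AlgebraicGeometry CategoryTheory.Limits
open AlgGrp

namespace Groth.Agent.S14640
open Groth.L19.AlgGrpBasic

/-- Over a field k, let G be a smooth k-group scheme of finite type acting on a variety X (a separated,
geometrically integral k-scheme of finite type), and let i : G° → G be its identity component: a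
homomorphism which is an open immersion from a connected k-group scheme whose image is the connected
component of the unit element of G. Let G° act on X through i. Then X is homogeneous under G (the
graph morphism G × X → X × X, (g, x) ↦ (x, g·x), is surjective) if and only if it is homogeneous
under G°, and X is almost homogeneous under G (the graph morphism is dominant) if and only if it is
almost homogeneous under G°. -/
theorem result (k : Type u) [Field k]
    (G G0 X : Over (Spec (CommRingCat.of k))) [GrpObj G] [Smooth G.hom] [QuasiCompact G.hom]
    [GrpObj G0] (i : G0 ⟶ G) [IsMonHom i] [IsOpenImmersion i.left] [ConnectedSpace ↥G0.left]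
    (hi : Set.range i.left.base = connectedComponent ((η[G]).left.base (IsLocalRing.closedPoint k)))
    [IsSeparated X.hom] [LocallyOfFiniteType X.hom] [QuasiCompact X.hom] [GeometricallyIntegral X.hom]
    (a : AlgGrp.Action G X) (a0 : AlgGrp.Action G0 X) (ha0 : a0.act = (i ▷ X) ≫ a.act) :
    (Surjective (CartesianMonoidalCategory.lift (CartesianMonoidalCategory.snd G X) a.act).left ↔
      Surjective (CartesianMonoidalCategory.lift (CartesianMonoidalCategory.snd G0 X) a0.act).left) ∧
    (IsDominant (CartesianMonoidalCategory.lift (CartesianMonoidalCategory.snd G X) a.act).left ↔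
      IsDominant (CartesianMonoidalCategory.lift (CartesianMonoidalCategory.snd G0 X) a0.act).left) := by
  let K := AlgebraicClosure k
  have hΦ : (i ▷ X) ≫ graph a = graph a0 := graph_restrict i a a0 ha0
  haveI : LocallyOfFiniteType G0.hom := by rw [← Over.w i]; infer_instance
  haveI : IsLocallyNoetherian G.left := LocallyOfFiniteType.isLocallyNoetherian G.hom
  haveI : QuasiCompact G0.hom := by rw [← Over.w i]; infer_instance
  refine ⟨⟨fun h => ?_, fun h => ?_⟩, ⟨fun h => ?_, fun h => ?_⟩⟩
  · have h0 := TransOn.restrict i a a0 ha0 isOpen_univ (transOn_of_surjective (K := K) a h)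
    exact ⟨fun p => subset_range_graph a0 isOpen_univ h0 ⟨Set.mem_univ _, Set.mem_univ _⟩⟩
  · haveI : Surjective (graph a0).left := h
    have : Surjective ((i ▷ X).left ≫ (graph a).left) := by rw [← Over.comp_left, hΦ]; exact h
    exact Surjective.of_comp (i ▷ X).left (graph a).left
  · obtain ⟨V, hne, hV⟩ := exists_transOn_of_isDominant (K := K) a h
    exact isDominant_graph a0 V.2 hne (TransOn.restrict i a a0 ha0 V.2 hV)
  · have : IsDominant ((i ▷ X).left ≫ (graph a).left) := by rw [← Over.comp_left, hΦ]; exact h
    exact IsDominant.of_comp (i ▷ X).left (graph a).left

end Groth.Agent.S14640
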