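import Groth.Statements.S14641
import Groth.Agent.L19.AlgGrpBasic.ActKernel

set_option autoImplicit false
set_option backward.isDefEq.respectTransparency.types false
set_option backward.isDefEq.respectTransparency false
set_option linter.style.haveILetI false
universe u
open CategoryTheory MonoidalCategory CartesianMonoidalCategory MonObj GrpObj AlgebraicGeometry CategoryTheory.Limits
open AlgGrp

namespace Groth.Agent.S14641
open Groth.L19.AlgGrpBasic

/-- Over a field k, let G be a k-group scheme of finite type, i : H → G a closed subgroup scheme, and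
(Q, o) the quotient G/H: a k-scheme with a G-action and a rational point o exhibiting it as the
quotient (orbit map flat and surjective, G × H ≅ G ×_Q G). Let n : N → G be a closed subgroup scheme
which is the kernel of the action of G on Q, i.e. for every k-scheme T, a T-point g of G factors
through N exactly when g acts as the identity on Q_T (on all points of Q over T-schemes). Then N is
normal in G and contained in H, and N is the largest such subgroup: every closed subgroup scheme N'
of G which is normal in G and factors through H factors through N. -/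
theorem result (k : Type u) [Field k]
    (G H Q N : Over (Spec (CommRingCat.of k))) [GrpObj G] [LocallyOfFiniteType G.hom] [QuasiCompact G.hom]
    [GrpObj H] (i : H ⟶ G) [IsMonHom i] [IsClosedImmersion i.left]
    (a : AlgGrp.Action G Q) (o : 𝟙_ (Over (Spec (CommRingCat.of k))) ⟶ Q) (hQ : AGF.IsQuotient i Q a o)
    [GrpObj N] (n : N ⟶ G) [IsMonHom n] [IsClosedImmersion n.left]
    (hN : ∀ (T : Over (Spec (CommRingCat.of k))) (g : T ⟶ G),
      (∃ m : T ⟶ N, m ≫ n = g) ↔
        ∀ (T' : Over (Spec (CommRingCat.of k))) (s : T' ⟶ T) (x : T' ⟶ Q),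
          CartesianMonoidalCategory.lift (s ≫ g) x ≫ a.act = x) :
    AlgGrp.IsNormalHom n ∧ (∃ f : N ⟶ H, f ≫ i = n) ∧
      ∀ (N' : Over (Spec (CommRingCat.of k))) [GrpObj N'] (n' : N' ⟶ G) [IsMonHom n'] [IsClosedImmersion n'.left],
        AlgGrp.IsNormalHom n' → (∃ f : N' ⟶ H, f ≫ i = n') → ∃ f' : N' ⟶ N, f' ≫ n = n' := by
  obtain ⟨hlft, hflat, hsurj, hsq⟩ := hQ
  haveI : QuasiCompact (a.orbitMap o).left := qc_left_field (a.orbitMap o)
  haveI := hflat
  haveI := hsurj
  have hepi : ∀ {Y Z : Over (Spec (CommRingCat.of k))} (f g : Y ⊗ Q ⟶ Z),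
      (Y ◁ a.orbitMap o) ≫ f = (Y ◁ a.orbitMap o) ≫ g → f = g := fun {Y Z} f g e => by
    haveI : Flat (Y ◁ a.orbitMap o).left :=
      MorphismProperty.of_isPullback (isPullback_whiskerLeft Y (a.orbitMap o)).flip hflat
    haveI : Surjective (Y ◁ a.orbitMap o).left :=
      MorphismProperty.of_isPullback (isPullback_whiskerLeft Y (a.orbitMap o)).flip hsurj
    haveI : QuasiCompact (Y ◁ a.orbitMap o).left :=
      MorphismProperty.of_isPullback (isPullback_whiskerLeft Y (a.orbitMap o)).flip ‹QuasiCompact (a.orbitMap o).left›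
    haveI := epi_cover (Y ◁ a.orbitMap o)
    exact (cancel_epi _).1 e
  obtain ⟨h1, h2, h3⟩ := core_of_kernel i a o hsq n hN hepi
  exact ⟨h1, h2, fun N' _ n' _ _ hn hm => h3 N' n' hn hm⟩

end Groth.Agent.S14641
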