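import Groth.Statements.S14643
import Groth.Agent.L19.AlgGrpBasic.Descent

set_option autoImplicit false
set_option backward.isDefEq.respectTransparency.types false
set_option backward.isDefEq.respectTransparency false
set_option linter.style.haveILetI false
universe u
open CategoryTheory MonoidalCategory CartesianMonoidalCategory MonObj GrpObj AlgebraicGeometry CategoryTheory.Limits
open AlgGrp

namespace Groth.Agent.S14643
open Groth.L19.AlgGrpBasic

/-- Over a field k, let G be a smooth k-group scheme of finite type acting on a variety X (a separated,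
geometrically integral k-scheme of finite type). Let n : N → G be the kernel of the action: a closed
subgroup scheme such that, for every k-scheme T, a T-point of G factors through N exactly when it
acts as the identity on all points of X over T-schemes. Let π : G → Q be a homomorphism onto a
k-group scheme of finite type which is flat and surjective with kernel N (the quotient G/N). Then
there is a unique action of Q on X inducing the given one along π; this action of Q is faithful (a
T-point of Q acting as the identity on all points of X over T-schemes is the unit); and X is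
homogeneous under G (surjective graph morphism (g, x) ↦ (x, g·x)) if and only if it is homogeneous
under Q, and almost homogeneous under G (dominant graph morphism) if and only if it is almost
homogeneous under Q. -/
theorem result (k : Type u) [Field k]
    (G N Q X : Over (Spec (CommRingCat.of k))) [GrpObj G] [Smooth G.hom] [QuasiCompact G.hom]
    [IsSeparated X.hom] [LocallyOfFiniteType X.hom] [QuasiCompact X.hom] [GeometricallyIntegral X.hom] (a : AlgGrp.Action G X)
    [GrpObj N] (n : N ⟶ G) [IsMonHom n] [IsClosedImmersion n.left]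
    (hN : ∀ (T : Over (Spec (CommRingCat.of k))) (g : T ⟶ G),
      (∃ m : T ⟶ N, m ≫ n = g) ↔
        ∀ (T' : Over (Spec (CommRingCat.of k))) (s : T' ⟶ T) (x : T' ⟶ X), CartesianMonoidalCategory.lift (s ≫ g) x ≫ a.act = x)
    [GrpObj Q] [LocallyOfFiniteType Q.hom] [QuasiCompact Q.hom] (π : G ⟶ Q) [IsMonHom π] [Flat π.left] [Surjective π.left]
    (hker : AlgGrp.IsKernel n π) :
    (∃! b : AlgGrp.Action Q X, (π ▷ X) ≫ b.act = a.act) ∧
    ∀ b : AlgGrp.Action Q X, (π ▷ X) ≫ b.act = a.act →
      (∀ (T : Over (Spec (CommRingCat.of k))) (q : T ⟶ Q),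
        (∀ (T' : Over (Spec (CommRingCat.of k))) (s : T' ⟶ T) (x : T' ⟶ X), CartesianMonoidalCategory.lift (s ≫ q) x ≫ b.act = x) → q = 1) ∧
      (Surjective (CartesianMonoidalCategory.lift (CartesianMonoidalCategory.snd G X) a.act).left ↔
        Surjective (CartesianMonoidalCategory.lift (CartesianMonoidalCategory.snd Q X) b.act).left) ∧
      (IsDominant (CartesianMonoidalCategory.lift (CartesianMonoidalCategory.snd G X) a.act).left ↔
        IsDominant (CartesianMonoidalCategory.lift (CartesianMonoidalCategory.snd Q X) b.act).left) := by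
  haveI : LocallyOfFiniteType G.hom := inferInstance
  haveI : QuasiCompact π.left := qc_left_field π
  haveI : Flat (π ▷ X).left := MorphismProperty.of_isPullback (isPullback_whiskerRight π X).flip ‹Flat π.left›
  haveI : Surjective (π ▷ X).left :=
    MorphismProperty.of_isPullback (isPullback_whiskerRight π X).flip ‹Surjective π.left›
  haveI : QuasiCompact (π ▷ X).left :=
    MorphismProperty.of_isPullback (isPullback_whiskerRight π X).flip ‹QuasiCompact π.left›
  haveI := epi_cover (π ▷ X)
  have key : ∀ (W : Over (Spec (CommRingCat.of k))) (g g' : W ⟶ G) (x : W ⟶ X), g ≫ π = g' ≫ π →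
      lift g x ≫ a.act = lift g' x ≫ a.act := fun W g g' x e => by
    obtain ⟨m, hm⟩ := exists_of_isKernel hker (g⁻¹ * g') (by rw [hom_mul_comp, hom_inv_comp, e, inv_mul_cancel])
    have h1 := (hN W (m ≫ n)).mp ⟨m, rfl⟩ W (𝟙 W) x
    rw [Category.id_comp, hm] at h1
    conv_rhs => rw [← mul_inv_cancel_left g g', act_mul, h1]
  obtain ⟨b, hb, hbu⟩ := existsUnique_desc (π ▷ X) a.act fun W u v e => by
    have e1 : u ≫ fst G X ≫ π = v ≫ fst G X ≫ π := by
      rw [← whiskerRight_fst π X, reassoc_of% e]
    have e2 : u ≫ snd G X = v ≫ snd G X := by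
      rw [← whiskerRight_snd π X, reassoc_of% e]
    rw [show u = lift (u ≫ fst G X) (u ≫ snd G X) by simp, show v = lift (v ≫ fst G X) (v ≫ snd G X) by simp, ← e2]
    exact key W _ _ _ (by simpa using e1)
  have hlift : ∀ {W : Over (Spec (CommRingCat.of k))} (g : W ⟶ G) (x : W ⟶ X),
      lift (g ≫ π) x ≫ b = lift g x ≫ a.act := fun g x => by rw [← hb, lift_whiskerRight_assoc]
  refine ⟨⟨⟨b, ?_, ?_⟩, hb, fun b' hb' => ?_⟩, fun b' hb' => ⟨fun T q hq => ?_, ?_, ?_⟩⟩
  · rw [← IsMonHom.one_hom π, comp_whiskerRight_assoc, hb]
    exact a.one_act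
  · haveI : Flat (G ◁ π).left := MorphismProperty.of_isPullback (isPullback_whiskerLeft G π).flip ‹Flat π.left›
    haveI : Surjective (G ◁ π).left :=
      MorphismProperty.of_isPullback (isPullback_whiskerLeft G π).flip ‹Surjective π.left›
    haveI : QuasiCompact (G ◁ π).left :=
      MorphismProperty.of_isPullback (isPullback_whiskerLeft G π).flip ‹QuasiCompact π.left›
    haveI : Flat (π ▷ Q).left := MorphismProperty.of_isPullback (isPullback_whiskerRight π Q).flip ‹Flat π.left›
    haveI : Surjective (π ▷ Q).left :=
      MorphismProperty.of_isPullback (isPullback_whiskerRight π Q).flip ‹Surjective π.left›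
    haveI : QuasiCompact (π ▷ Q).left :=
      MorphismProperty.of_isPullback (isPullback_whiskerRight π Q).flip ‹QuasiCompact π.left›
    let c : G ⊗ G ⟶ Q ⊗ Q := (G ◁ π) ≫ (π ▷ Q)
    haveI : Flat c.left := inferInstanceAs (Flat ((G ◁ π).left ≫ (π ▷ Q).left))
    haveI : Surjective c.left := inferInstanceAs (Surjective ((G ◁ π).left ≫ (π ▷ Q).left))
    haveI : QuasiCompact c.left := inferInstanceAs (QuasiCompact ((G ◁ π).left ≫ (π ▷ Q).left))
    haveI : Flat (c ▷ X).left := MorphismProperty.of_isPullback (isPullback_whiskerRight c X).flip ‹Flat c.left›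
    haveI : Surjective (c ▷ X).left :=
      MorphismProperty.of_isPullback (isPullback_whiskerRight c X).flip ‹Surjective c.left›
    haveI : QuasiCompact (c ▷ X).left :=
      MorphismProperty.of_isPullback (isPullback_whiskerRight c X).flip ‹QuasiCompact c.left›
    haveI := epi_cover (c ▷ X)
    have hc1 : c ≫ fst Q Q = fst G G ≫ π := by simp [c]
    have hc2 : c ≫ snd Q Q = snd G G ≫ π := by simp [c]
    rw [← cancel_epi (c ▷ X)]
    rw [show (c ▷ X) ≫ (μ[Q] ▷ X) ≫ b = lift ((fst (G ⊗ G) X ≫ μ[G]) ≫ π) (snd (G ⊗ G) X) ≫ b by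
      rw [← Category.assoc]
      congr 1
      apply CartesianMonoidalCategory.hom_ext
      · simp only [Category.assoc, whiskerRight_fst, whiskerRight_fst_assoc, lift_fst]
        rw [MonObj.mul_eq_mul, MonObj.comp_mul, hc1, hc2, ← hom_mul_comp, MonObj.mul_eq_mul]
      · simp]
    rw [hlift, show (c ▷ X) ≫ (α_ Q Q X).hom ≫ (Q ◁ b) ≫ b =
        lift ((fst (G ⊗ G) X ≫ fst G G) ≫ π) (lift ((fst (G ⊗ G) X ≫ snd G G) ≫ π) (snd (G ⊗ G) X) ≫ b) ≫ b by
      simp only [← Category.assoc]
      congr 1
      apply CartesianMonoidalCategory.hom_ext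
      · simp [hc1, reassoc_of% hc1]
      · simp only [Category.assoc, whiskerLeft_snd, lift_snd]
        rw [← Category.assoc, ← Category.assoc]
        congr 1
        apply CartesianMonoidalCategory.hom_ext
        · simp [hc2, reassoc_of% hc2]
        · simp]
    rw [hlift, hlift, MonObj.mul_eq_mul, MonObj.comp_mul, act_mul]
  · cases b'
    simp only [Action.mk.injEq]
    exact hbu _ hb'
  · obtain ⟨T', c, g, hc1, hc2, hc3, hg⟩ := exists_cover_lift π q
    haveI := epi_cover c
    obtain ⟨m, hm⟩ := (hN T' g).mpr fun T'' s x => by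
      have := hq T'' (s ≫ c) x
      rw [Category.assoc, ← hg, ← Category.assoc, ← lift_whiskerRight_assoc, hb'] at this
      exact this
    rw [← cancel_epi c, ← hg, ← hm, Category.assoc, comp_of_isKernel hker, MonObj.comp_one, MonObj.comp_one]
  all_goals
    have hgr : lift (snd G X) a.act = (π ▷ X) ≫ lift (snd Q X) b'.act := by
      rw [comp_lift, whiskerRight_snd, hb']
    rw [hgr, Over.comp_left]
  · exact ⟨fun _ => Surjective.of_comp (π ▷ X).left _, fun _ => inferInstance⟩
  · exact ⟨fun _ => IsDominant.of_comp (π ▷ X).left _, fun _ => inferInstance⟩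

end Groth.Agent.S14643
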