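import Groth.Statements.S14645
import Groth.Agent.L19.AlgGrpBasic.GeomPoint

set_option autoImplicit false
set_option backward.isDefEq.respectTransparency.types false
set_option backward.isDefEq.respectTransparency false
set_option linter.style.haveILetI false
universe u
open CategoryTheory MonoidalCategory CartesianMonoidalCategory MonObj GrpObj AlgebraicGeometry CategoryTheory.Limits
open AlgGrp

namespace Groth.Agent.S14645
open Groth.L19.AlgGrpBasic

/-- Over a field k with algebraic closure K, let G be a smooth k-group scheme of finite type acting on a
variety X (a separated, geometrically integral k-scheme of finite type). Then X is homogeneous under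
G, i.e. the graph morphism G × X → X × X, (g, x) ↦ (x, g·x), is surjective, if and only if the
abstract group G(K) of K-points over k acts transitively on the set X(K): for all K-points x, y of X
there is a K-point g of G with g · x = y. -/
theorem result (k : Type u) [Field k]
    (G X : Over (Spec (CommRingCat.of k))) [GrpObj G] [Smooth G.hom] [QuasiCompact G.hom]
    [IsSeparated X.hom] [LocallyOfFiniteType X.hom] [QuasiCompact X.hom] [GeometricallyIntegral X.hom] (a : AlgGrp.Action G X)
    (K : Type u) [Field K] [Algebra k K] [IsAlgClosure k K] :
    Surjective (CartesianMonoidalCategory.lift (CartesianMonoidalCategory.snd G X) a.act).left ↔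
      ∀ x y : Over.mk (Spec.map (CommRingCat.ofHom (algebraMap k K))) ⟶ X, ∃ g : Over.mk (Spec.map (CommRingCat.ofHom (algebraMap k K))) ⟶ G, CartesianMonoidalCategory.lift g x ≫ a.act = y := by
  haveI := IsAlgClosure.isAlgClosed k (K := K)
  constructor
  · intro h x y
    exact transOn_of_surjective (K := K) a h x y (Set.mem_univ _) (Set.mem_univ _)
  · intro h
    refine ⟨fun p => ?_⟩
    exact subset_range_graph (K := K) a isOpen_univ (fun x y _ _ => h x y) ⟨Set.mem_univ _, Set.mem_univ _⟩

end Groth.Agent.S14645
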