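import Groth.Statements.S14646
import Groth.Agent.L06.LineForm.Fibre
import Mathlib.FieldTheory.IsAlgClosed.AlgebraicClosure

set_option autoImplicit false
set_option maxSynthPendingDepth 3
set_option linter.style.haveILetI false
universe u
open CategoryTheory CategoryTheory.Limits AlgebraicGeometry
open AlgGrp

namespace Groth.Agent.S14646

/-- Over a field k, let P be a closed point of the projective line P¹_k whose residue field κ(P) is
purely inseparable over k, and let C = P¹_k ∖ {P} be its open complement. Then C is a form of the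
affine line: for an algebraic closure K of k, the base change C ×_k Spec K is isomorphic over K to
Spec K[T]. (The published statement assumes moreover that k is imperfect and [κ(P) : k] ≥ 3; this
row assumes only that κ(P) is purely inseparable over k.) -/
theorem result (k : Type u) [Field k]
    (P : ↥(CohB1.ProjSpace 1 k)) (hP : IsClosed ({P} : Set ↥(CohB1.ProjSpace 1 k)))
    (hpi : letI := ((CohB1.ProjSpace.toSpec 1 k).residueFieldMap P).hom.toAlgebra
      IsPurelyInseparable ↑((Spec (CommRingCat.of k)).residueField ((CohB1.ProjSpace.toSpec 1 k) P)) ↑((CohB1.ProjSpace 1 k).residueField P))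
    (K : Type u) [Field K] [Algebra k K] [IsAlgClosure k K] :
    ∃ e : pullback (@Scheme.Opens.ι (CohB1.ProjSpace 1 k) ⟨{P}ᶜ, hP.isOpen_compl⟩ ≫ CohB1.ProjSpace.toSpec 1 k) (Spec.map (CommRingCat.ofHom (algebraMap k K))) ≅
        Spec (CommRingCat.of (Polynomial K)),
      e.hom ≫ Spec.map (CommRingCat.ofHom (algebraMap K (Polynomial K))) = pullback.snd _ _ := by
  haveI : IsAlgClosed K := IsAlgClosure.isAlgClosed k
  have hpi' : ((CohB1.ProjSpace.toSpec 1 k).residueFieldMap P).hom.IsPurelyInseparable := hpi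
  have hcart := Groth.L16.ProjSpace.isPullback_map 1 (algebraMap k K)
  let F := Groth.L16.ProjSpace.map 1 (algebraMap k K)
  let U : (CohB1.ProjSpace 1 k).Opens := ⟨{P}ᶜ, hP.isOpen_compl⟩
  haveI : Surjective F := MorphismProperty.of_isPullback hcart.flip
    (inferInstance : Surjective (Spec.map (CommRingCat.ofHom (algebraMap k K))))
  obtain ⟨Q, hQ⟩ := F.surjective P
  have hset : F.base ⁻¹' {P} = {Q} :=
    (Groth.L06.LineForm.preimage_subsingleton (algebraMap k K) P hpi').eq_singleton_of_mem hQ
  have hQc : IsClosed ({Q} : Set ↥(CohB1.ProjSpace 1 K)) := hset ▸ hP.preimage F.continuous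
  obtain ⟨i, j, c, hij, hD⟩ := Groth.L06.LineForm.compl_eq_basicOpen Q hQc
  obtain ⟨e, he⟩ := Groth.L06.LineForm.exists_iso i j hij c
  let D : (CohB1.ProjSpace 1 K).Opens := Proj.basicOpen (CohB1.polyGrading 1 K) (Groth.L06.LineForm.form i j c)
  have hUD : F ⁻¹ᵁ U = D := by
    apply TopologicalSpace.Opens.ext
    refine Eq.trans ?_ hD.symm
    show F.base ⁻¹' ({P}ᶜ : Set ↥(CohB1.ProjSpace 1 k)) = _
    rw [Set.preimage_compl, hset]
  have hpb : IsPullback (((CohB1.ProjSpace 1 K).isoOfEq hUD.symm).hom ≫ (F ∣_ U))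
      (D.ι ≫ CohB1.ProjSpace.toSpec 1 K) (U.ι ≫ CohB1.ProjSpace.toSpec 1 k)
      (Spec.map (CommRingCat.ofHom (algebraMap k K))) := by
    refine IsPullback.of_iso ((isPullback_morphismRestrict F U).paste_vert hcart)
      ((CohB1.ProjSpace 1 K).isoOfEq hUD) (Iso.refl _) (Iso.refl _) (Iso.refl _) ?_ ?_ ?_ ?_
    · exact (Iso.hom_inv_id_assoc ((CohB1.ProjSpace 1 K).isoOfEq hUD) (F ∣_ U)).symm
    · simp
    · simp
    · simp
  refine ⟨hpb.isoPullback.symm ≪≫ e, ?_⟩
  exact (Category.assoc _ _ _).trans ((congrArg (hpb.isoPullback.inv ≫ ·) he).trans hpb.isoPullback_inv_snd)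

end Groth.Agent.S14646
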