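import Groth.Statements.S14647
import Groth.Agent.L06.LineForm.Lift

set_option autoImplicit false
set_option maxSynthPendingDepth 3
set_option linter.style.haveILetI false
universe u
open CategoryTheory CategoryTheory.Limits AlgebraicGeometry
open AlgGrp

namespace Groth.Agent.S14647

/-- Over a field k, let P be a closed point of the projective line P¹_k whose residue field κ(P) is
purely inseparable over k with [κ(P) : k] ≥ 3 (this forces k to be imperfect). Then the centraliser
of P (with its reduced structure) in the automorphism group of P¹ is infinitesimal; on geometric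
points: for an algebraic closure K of k, every automorphism φ of P¹_k ×_k Spec K over Spec K which
induces the identity on the closed subscheme Spec κ(P) ×_k Spec K — meaning φ ∘ z = z for every
scheme T and every T-point z of P¹_k ×_k Spec K whose image in P¹_k factors through Spec κ(P) → P¹_k
— is the identity. -/
theorem result (k : Type u) [Field k]
    (P : ↥(CohB1.ProjSpace 1 k))
    (hpi : letI := ((CohB1.ProjSpace.toSpec 1 k).residueFieldMap P).hom.toAlgebra
      IsPurelyInseparable ↑((Spec (CommRingCat.of k)).residueField ((CohB1.ProjSpace.toSpec 1 k) P)) ↑((CohB1.ProjSpace 1 k).residueField P))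
    (hdeg : letI := ((CohB1.ProjSpace.toSpec 1 k).residueFieldMap P).hom.toAlgebra
      3 ≤ Module.finrank ↑((Spec (CommRingCat.of k)).residueField ((CohB1.ProjSpace.toSpec 1 k) P)) ↑((CohB1.ProjSpace 1 k).residueField P))
    (K : Type u) [Field K] [Algebra k K] [IsAlgClosure k K]
    (φ : pullback (CohB1.ProjSpace.toSpec 1 k) (Spec.map (CommRingCat.ofHom (algebraMap k K))) ≅ pullback (CohB1.ProjSpace.toSpec 1 k) (Spec.map (CommRingCat.ofHom (algebraMap k K))))
    (hφ : φ.hom ≫ pullback.snd (CohB1.ProjSpace.toSpec 1 k) (Spec.map (CommRingCat.ofHom (algebraMap k K))) = pullback.snd (CohB1.ProjSpace.toSpec 1 k) (Spec.map (CommRingCat.ofHom (algebraMap k K))))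
    (hfix : ∀ (T : Scheme.{u}) (z : T ⟶ pullback (CohB1.ProjSpace.toSpec 1 k) (Spec.map (CommRingCat.ofHom (algebraMap k K)))) (w : T ⟶ Spec ((CohB1.ProjSpace 1 k).residueField P)),
      z ≫ pullback.fst (CohB1.ProjSpace.toSpec 1 k) (Spec.map (CommRingCat.ofHom (algebraMap k K))) = w ≫ (CohB1.ProjSpace 1 k).fromSpecResidueField P → z ≫ φ.hom = z) :
    φ.hom = 𝟙 _ := by
  have hcart := Groth.L16.ProjSpace.isPullback_map 1 (algebraMap k K)
  obtain ⟨i, j, c, w, hij, hw⟩ := Groth.L06.LineForm.exists_thick_factor P hpi hdeg K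
  let e := hcart.isoPullback
  let ψ : CohB1.ProjSpace 1 K ≅ CohB1.ProjSpace 1 K := e ≪≫ φ ≪≫ e.symm
  have hψ : ψ.hom ≫ CohB1.ProjSpace.toSpec 1 K = CohB1.ProjSpace.toSpec 1 K := by
    show (e.hom ≫ φ.hom ≫ e.inv) ≫ _ = _
    rw [Category.assoc, Category.assoc, hcart.isoPullback_inv_snd, hφ, hcart.isoPullback_hom_snd]
  have hthick : Groth.L06.LineForm.thickPt i c ≫ ψ.hom = Groth.L06.LineForm.thickPt i c := by
    show Groth.L06.LineForm.thickPt i c ≫ (e.hom ≫ φ.hom ≫ e.inv) = _
    have h := hfix _ (Groth.L06.LineForm.thickPt i c ≫ e.hom) w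
      (by rw [Category.assoc, hcart.isoPullback_hom_fst, hw])
    simp only [← Category.assoc] at h ⊢
    rw [h, Category.assoc, e.hom_inv_id, Category.comp_id]
  have h := Groth.L06.LineForm.eq_id_of_fix i j hij c ψ hψ hthick
  change e.hom ≫ φ.hom ≫ e.inv = 𝟙 _ at h
  rw [← cancel_epi e.hom, ← cancel_mono e.inv, Category.assoc, h, Category.comp_id, e.hom_inv_id]

end Groth.Agent.S14647
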