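import Groth.Statements.S14648
import Groth.Agent.S1585
import Groth.Agent.L16.Chow.Core
import Groth.Agent.L22.GeomConn.Dims
import Groth.Agent.L25.Actions

set_option autoImplicit false
set_option backward.isDefEq.respectTransparency.types false
set_option backward.isDefEq.respectTransparency false
set_option linter.style.haveILetI false
universe u
open CategoryTheory MonoidalCategory CartesianMonoidalCategory MonObj GrpObj AlgebraicGeometry CategoryTheory.Limits
open AlgGrp

namespace Groth.Agent.S14648

/-- Over a field k, let G be a smooth connected k-group scheme of finite type acting on a variety X (a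
separated, geometrically integral k-scheme of finite type), let ν : X̃ → X be the normalization of X
and let G act on X̃ so that ν is equivariant (such a lifted action exists and is unique; here it is
given). Then the commutative square with the action maps G × X̃ → X̃ and G × X → X as horizontal
sides and id_G × ν, ν as vertical sides is cartesian, and the two actions have the same kernel: for
every k-scheme T, a T-point g of G acts as the identity on all points of X over T-schemes if and
only if it acts as the identity on all points of X̃ over T-schemes. (The quasi-compactness and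
quasi-separatedness binders on the morphism from the generic point always hold; they are only needed
to form the normalization.) -/
theorem result (k : Type u) [Field k]
    (G X : Over (Spec (CommRingCat.of k))) [GrpObj G] [Smooth G.hom] [QuasiCompact G.hom] [ConnectedSpace ↥G.left]
    [IsSeparated X.hom] [LocallyOfFiniteType X.hom] [QuasiCompact X.hom] [GeometricallyIntegral X.hom] [IsIntegral X.left] [QuasiCompact (X.left.fromSpecStalk (genericPoint ↥X.left))] [QuasiSeparated (X.left.fromSpecStalk (genericPoint ↥X.left))]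
    (a : AlgGrp.Action G X) (b : AlgGrp.Action G (Over.mk (Curv2.normalizationι X.left ≫ X.hom)))
    (hb : (G ◁ (Over.homMk (Curv2.normalizationι X.left) rfl : Over.mk (Curv2.normalizationι X.left ≫ X.hom) ⟶ X)) ≫ a.act = b.act ≫ Over.homMk (Curv2.normalizationι X.left) rfl) :
    IsPullback b.act (G ◁ (Over.homMk (Curv2.normalizationι X.left) rfl : Over.mk (Curv2.normalizationι X.left ≫ X.hom) ⟶ X)) (Over.homMk (Curv2.normalizationι X.left) rfl : Over.mk (Curv2.normalizationι X.left ≫ X.hom) ⟶ X) a.act ∧
    ∀ (T : Over (Spec (CommRingCat.of k))) (g : T ⟶ G),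
      (∀ (T' : Over (Spec (CommRingCat.of k))) (s : T' ⟶ T) (x : T' ⟶ X), CartesianMonoidalCategory.lift (s ≫ g) x ≫ a.act = x) ↔
      (∀ (T' : Over (Spec (CommRingCat.of k))) (s : T' ⟶ T) (y : T' ⟶ Over.mk (Curv2.normalizationι X.left ≫ X.hom)), CartesianMonoidalCategory.lift (s ≫ g) y ≫ b.act = y) := by
  letI : X.left.Over (Spec (CommRingCat.of k)) := ⟨X.hom⟩
  haveI : LocallyOfFiniteType (X.left ↘ (Spec (CommRingCat.of k))) := ‹LocallyOfFiniteType X.hom›
  obtain ⟨hfin, hdom, ⟨V, hVne, hViso⟩, hint, -⟩ := Groth.Agent.S1585.result k X.left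
  haveI := hfin
  haveI := hdom
  haveI := hint
  haveI := hViso
  let Xt : Over (Spec (CommRingCat.of k)) := Over.mk (Curv2.normalizationι X.left ≫ X.hom)
  let n : Xt ⟶ X := Over.homMk (Curv2.normalizationι X.left) rfl
  haveI : IsFinite n.left := hfin
  haveI : IsDominant n.left := hdom
  have eqv : ∀ {T : Over (Spec (CommRingCat.of k))} (g : T ⟶ G) (y : T ⟶ Xt),
      lift g y ≫ b.act ≫ n = lift g (y ≫ n) ≫ a.act := fun g y => by
    rw [← hb, lift_whiskerLeft_assoc]
  refine ⟨⟨⟨hb.symm⟩, ⟨PullbackCone.IsLimit.mk hb.symm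
    (fun s => lift (s.snd ≫ fst _ _) (lift (s.snd ≫ fst G X)⁻¹ s.fst ≫ b.act)) (fun s => ?_) (fun s => ?_) (fun s m h1 h2 => ?_)⟩⟩, ?_⟩
  · exact Groth.L25.Actions.act_inv b _ _
  · show lift _ _ ≫ (G ◁ n) = s.snd
    have hc : s.fst ≫ n = lift (s.snd ≫ fst G X) (s.snd ≫ snd G X) ≫ a.act := by
      rw [lift_comp_fst_snd]; exact s.condition
    rw [lift_whiskerLeft, Category.assoc, eqv, hc, Groth.L25.Actions.inv_act, lift_comp_fst_snd]
  · have e1 : m ≫ fst _ _ = s.snd ≫ fst G X := by rw [← h2, Category.assoc, whiskerLeft_fst]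
    refine CartesianMonoidalCategory.hom_ext _ _ (by rw [lift_fst, e1]) ?_
    rw [lift_snd, ← h1, ← e1]
    conv_rhs => rw [show m ≫ b.act = lift (m ≫ fst _ _) (m ≫ snd _ _) ≫ b.act by rw [lift_comp_fst_snd]]
    rw [Groth.L25.Actions.inv_act]
  intro T g
  let φ : T ⊗ X ⟶ X := lift (fst T X ≫ g) (snd T X) ≫ a.act
  let ψ : T ⊗ Xt ⟶ Xt := lift (fst T Xt ≫ g) (snd T Xt) ≫ b.act
  have hφ : φ = snd T X ↔ ∀ (T' : Over (Spec (CommRingCat.of k))) (s : T' ⟶ T) (x : T' ⟶ X), lift (s ≫ g) x ≫ a.act = x :=
    ⟨fun h T' s x => by simpa [φ, comp_lift_assoc] using congr(lift s x ≫ $h), fun h => h _ (fst T X) (snd T X)⟩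
  have hψ : ψ = snd T Xt ↔ ∀ (T' : Over (Spec (CommRingCat.of k))) (s : T' ⟶ T) (x : T' ⟶ Xt), lift (s ≫ g) x ≫ b.act = x :=
    ⟨fun h T' s x => by simpa [ψ, comp_lift_assoc] using congr(lift s x ≫ $h), fun h => h _ (fst T Xt) (snd T Xt)⟩
  refine hφ.symm.trans (Iff.trans ?_ hψ)
  have hcomp : (T ◁ n) ≫ φ = ψ ≫ n := by
    simp only [φ, ψ, Category.assoc]
    rw [eqv, comp_lift_assoc, whiskerLeft_fst_assoc, whiskerLeft_snd]
  haveI : Flat T.hom := Groth.L22.GeomConn.flat_toSpecField T.hom
  haveI : Flat (snd T Xt).left := inferInstanceAs (Flat (pullback.snd T.hom Xt.hom))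
  haveI : Flat (snd T X).left := inferInstanceAs (Flat (pullback.snd T.hom X.hom))
  haveI : IsSchemeTheoreticallyDominant n.left := IsSchemeTheoreticallyDominant.of_isDominant n.left
  constructor
  · intro h
    haveI : LocallyOfFiniteType Xt.hom := inferInstanceAs (LocallyOfFiniteType (n.left ≫ X.hom))
    haveI : IsLocallyNoetherian Xt.left := LocallyOfFiniteType.isLocallyNoetherian Xt.hom
    haveI : IsSeparated Xt.hom := inferInstanceAs (IsSeparated (n.left ≫ X.hom))
    haveI : IrreducibleSpace Xt.left := inferInstanceAs (IrreducibleSpace ↥(Curv2.normalization X.left))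
    haveI : IsReduced Xt.left := inferInstanceAs (IsReduced (Curv2.normalization X.left))
    let U : Xt.left.Opens := n.left ⁻¹ᵁ V
    let jU : U.toScheme ⟶ X.left := U.ι ≫ n.left
    haveI : IsOpenImmersion jU := by
      have : jU = (n.left ∣_ V) ≫ V.ι := (morphismRestrict_ι n.left V).symm
      rw [this]
      haveI : IsIso (n.left ∣_ V) := hViso
      infer_instance
    haveI : IsDominant U.ι := by
      refine ⟨?_⟩
      obtain ⟨q, hq⟩ := n.left.denseRange.exists_mem_open V.2 hVne
      rw [DenseRange, Scheme.Opens.range_ι]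
      exact U.2.dense ⟨q, hq⟩
    haveI : IsSchemeTheoreticallyDominant U.ι := IsSchemeTheoreticallyDominant.of_isDominant U.ι
    haveI : CompactSpace Xt.left := by
      haveI : CompactSpace X.left := QuasiCompact.compactSpace_of_compactSpace X.hom
      exact QuasiCompact.compactSpace_of_compactSpace n.left
    haveI : QuasiCompact U.ι := inferInstance
    let j := pullback.snd U.ι (snd T Xt).left
    refine Over.OverMorphism.ext (Groth.L16.Chow.ext_of_schDominant j Xt.hom ((Over.w ψ).trans (Over.w _).symm) ?_)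
    have hn : ψ ≫ n = snd T Xt ≫ n := by rw [← hcomp, h, whiskerLeft_snd]
    have e : (j ≫ (snd T Xt).left) ≫ n.left = (j ≫ ψ.left) ≫ n.left := by
      rw [Category.assoc, Category.assoc, ← Over.comp_left, ← Over.comp_left, hn]
    have r1 : Set.range (j ≫ (snd T Xt).left) ⊆ Set.range U.ι := by
      rw [← pullback.condition]
      rintro _ ⟨q, rfl⟩
      exact ⟨pullback.fst U.ι (snd T Xt).left q, rfl⟩
    have r2 : Set.range (j ≫ ψ.left) ⊆ Set.range U.ι := by
      rintro _ ⟨q, rfl⟩
      rw [Scheme.Opens.range_ι]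
      show n.left ((j ≫ ψ.left) q) ∈ V
      rw [← Scheme.Hom.comp_apply, ← e, Scheme.Hom.comp_apply]
      exact (Scheme.Opens.range_ι U).subset (r1 ⟨q, rfl⟩)
    rw [← IsOpenImmersion.lift_fac U.ι _ r2, ← IsOpenImmersion.lift_fac U.ι (j ≫ (snd T Xt).left) r1]
    congr 1
    rw [← cancel_mono jU]
    simp only [jU, IsOpenImmersion.lift_fac_assoc]
    exact e.symm
  · intro h
    have hsq : IsPullback (snd T Xt).left (T ◁ n).left n.left (snd T X).left :=
      (IsPullback.of_right (h₁₂ := pullback.fst T.hom X.hom) (v₁₃ := T.hom) (h₂₂ := X.hom)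
        (by
          rw [Over.whiskerLeft_left_fst]
          exact IsPullback.of_hasPullback T.hom (n.left ≫ X.hom))
        (Over.whiskerLeft_left_snd n) (IsPullback.of_hasPullback T.hom X.hom)).flip
    haveI : IsSchemeTheoreticallyDominant (T ◁ n).left := IsSchemeTheoreticallyDominant.of_isPullback hsq
    refine Over.OverMorphism.ext (Groth.L16.Chow.ext_of_schDominant (T ◁ n).left X.hom ((Over.w φ).trans (Over.w _).symm) ?_)
    rw [← Over.comp_left, ← Over.comp_left, hcomp, h, whiskerLeft_snd]

end Groth.Agent.S14648
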