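import Groth.Statements.S1465
import Groth.Agent.L20.Pinch.Rel
import Groth.Agent.L20.Pinch.Nhd
import Groth.Agent.L20.QuasiAffine
import Groth.Agent.L20.Pinch.Lqf

set_option autoImplicit false
universe u
open FlatMor

set_option linter.style.haveILetI false
set_option backward.isDefEq.respectTransparency.types false

namespace Groth.Agent.S1465

open AlgebraicGeometry CategoryTheory Limits in
/-- Let i : Z → X be a closed immersion and j : Z → Y an integral morphism such that each fibre of j
lies in the preimage of an affine open of X. Let i' : Z' → X', j' : Z' → Y' and f : X' → X, g : Y' →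
Y, h : Z' → Z form cartesian squares over i and j, with f, g, h separated and locally quasi-finite.
Then the pushouts W of (i, j) and W' of (i', j') exist in the category of schemes, the induced W' →
W is separated and locally quasi-finite, and the squares comparing Y' → W', X' → W' with Y → W, X →
W are cartesian. -/
theorem result {X Y Z X' Y' Z' : Scheme.{u}}
    (i : Z ⟶ X) [IsClosedImmersion i] (j : Z ⟶ Y) [IsIntegralHom j]
    (h3 : ∀ y : Y, ∃ U : X.Opens, IsAffineOpen U ∧ j ⁻¹' {y} ⊆ (i ⁻¹ᵁ U : Set ↑Z))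
    (i' : Z' ⟶ X') (j' : Z' ⟶ Y') (f : X' ⟶ X) (g : Y' ⟶ Y) (h : Z' ⟶ Z)
    (hX : IsPullback h i' i f) (hY : IsPullback h j' j g)
    [IsSeparated f] [LocallyQuasiFinite f] [LocallyOfFiniteType f] [IsSeparated g] [LocallyQuasiFinite g] [LocallyOfFiniteType g]
    [IsSeparated h] [LocallyQuasiFinite h] [LocallyOfFiniteType h] :
    ∃ (W W' : Scheme.{u}) (a : Y ⟶ W) (b : X ⟶ W) (a' : Y' ⟶ W') (b' : X' ⟶ W') (k : W' ⟶ W),
      IsPushout j i a b ∧ IsPushout j' i' a' b' ∧ a' ≫ k = g ≫ a ∧ b' ≫ k = f ≫ b ∧
      IsSeparated k ∧ LocallyQuasiFinite k ∧ LocallyOfFiniteType k ∧ IsPullback g a' a k ∧ IsPullback f b' b k := by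
  haveI : IsClosedImmersion i' := MorphismProperty.of_isPullback hX inferInstance
  haveI : IsIntegralHom j' := MorphismProperty.of_isPullback hY inferInstance
  have hs := Groth.L20.Pinch.std_of_isIntegralHom (i := i) (j := j) h3
  have hs' : Groth.L20.Pinch.Std i' j' := by
    refine Groth.L20.Pinch.std_of_isIntegralHom fun y => ?_
    obtain ⟨U, hU, hy⟩ := h3 (g y)
    let T : Set X' := i' '' (j' ⁻¹' {y})
    have hT : IsCompact T := (j'.isCompact_preimage_singleton y).image i'.continuous
    have hTU : T ⊆ (f ⁻¹ᵁ U : Set X') := by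
      rintro _ ⟨z, hz, rfl⟩
      have h1 : h z ∈ j ⁻¹' {g y} := by
        show j (h z) = g y
        rw [← Scheme.Hom.comp_apply, hY.w, Scheme.Hom.comp_apply, show j' z = y from hz]
      have h2 : i (h z) ∈ U := hy h1
      show f (i' z) ∈ U
      rw [← Scheme.Hom.comp_apply, ← hX.w, Scheme.Hom.comp_apply]
      exact h2
    obtain ⟨O, hOc, hTO, hOU⟩ := Groth.L20.exists_isCompact_open_between hT hTU
    haveI : CompactSpace O.toScheme := isCompact_iff_compactSpace.mp hOc
    haveI : IsAffine U.toScheme := hU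
    let σ : O.toScheme ⟶ U.toScheme := f.resLE U O hOU
    haveI : LocallyOfFiniteType σ := by
      haveI : LocallyOfFiniteType (σ ≫ U.ι) := by
        rw [Scheme.Hom.resLE_comp_ι]; infer_instance
      exact locallyOfFiniteType_of_comp σ U.ι
    haveI : IsSeparated σ := by
      haveI : IsSeparated (σ ≫ U.ι) := by
        rw [Scheme.Hom.resLE_comp_ι]; infer_instance
      exact IsSeparated.of_comp σ U.ι
    haveI : LocallyQuasiFinite σ := by
      haveI : LocallyQuasiFinite (σ ≫ U.ι) := by
        rw [Scheme.Hom.resLE_comp_ι]; infer_instance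
      exact LocallyQuasiFinite.of_comp σ U.ι
    haveI : QuasiCompact σ := (quasiCompact_iff_compactSpace σ).mpr inferInstance
    exact Groth.L20.Pinch.exists_affine_of_lqf O σ y fun z hz => hTO ⟨z, hz, rfl⟩
  obtain ⟨W, b, a, hW⟩ := hs.exists_isPinch
  obtain ⟨W', b', a', hW'⟩ := hs'.exists_isPinch
  obtain ⟨k, hkb, hka⟩ := hW'.exists_desc (f ≫ b) (g ≫ a) (by
    rw [← Category.assoc, ← hX.w, Category.assoc, hW.comm, ← Category.assoc, hY.w, Category.assoc])
  have pX := hW.isPullback_relX hW' hX hY hkb hka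
  have pY := hW.isPullback_relY hW' hX hY hkb hka
  haveI := hW.isIntegralHom_a
  haveI := hW.isClosedImmersion_b
  haveI := hW'.isIntegralHom_a
  haveI := hW'.isClosedImmersion_b
  haveI : LocallyOfFiniteType k := hW.property_k hW' hX hY hkb hka (Q := @LocallyOfFiniteType)
    (fun o _ => inferInstance) fun k0 k1 ho => (ho.isRelFib hX hY).conclusion.2.1
      (LocallyOfFiniteType.finiteType_appLE g k0.hV k1.hV ho.leV)
      (LocallyOfFiniteType.finiteType_appLE f k0.hU k1.hU ho.leU)
  haveI : IsSeparated k :=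
    Groth.L20.Pinch.isSeparated_of_cover hW'.exists_preimage hkb hka
  haveI : LocallyQuasiFinite k :=
    Groth.L20.Pinch.locallyQuasiFinite_of_relative hW hW' hX hY hkb hka
  exact ⟨W, W', a, b, a', b', k, hW.isPushout.flip, hW'.isPushout.flip, hka, hkb, ‹_›, ‹_›, ‹_›,
    pY, pX⟩

end Groth.Agent.S1465
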