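import Groth.Statements.S14652
import Mathlib.RingTheory.Polynomial.IsIntegral
import Mathlib.RingTheory.Valuation.Basic
import Mathlib.Tactic

set_option autoImplicit false
universe u
open FiltBl

namespace Groth.Agent.S14652

/-- Let A be a Noetherian integrally closed domain with fraction field K, let v_1, …, v_s be finitely
many valuations on K with values in ℤ ∪ {∞} (written additively) that are non-negative on A, and let
r_i = p_i / q_i be positive rationals (p_i, q_i positive integers). Let F be the filtration of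
ideals of A given by F^k = {x ∈ A | q_i · v_i(x) ≥ k · p_i for every i}. Then the Rees algebra ⊕_{k
≥ 0} F^k X^k ⊆ A[X] is an integrally closed domain (it need not be Noetherian). -/
theorem result (A K : Type u) [CommRing A] [IsDomain A]
    [IsNoetherianRing A] [IsIntegrallyClosed A] [Field K] [Algebra A K] [IsFractionRing A K]
    (ι : Type) [Finite ι] (v : ι → AddValuation K (WithTop ℤ))
    (hv : ∀ (i : ι) (x : A), 0 ≤ v i (algebraMap A K x)) (p q : ι → ℕ) (hp : ∀ i, 0 < p i)
    (hq : ∀ i, 0 < q i) (𝓕 : FiltBl.IdealFiltration A)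
    (hF : ∀ (k : ℕ) (x : A), x ∈ 𝓕.F k ↔
      ∀ i, ((k * p i : ℕ) : WithTop ℤ) ≤ (q i : WithTop ℤ) * v i (algebraMap A K x)) :
    IsIntegrallyClosed 𝓕.rees := by
  classical
  haveI : FaithfulSMul (↥𝓕.rees) (Polynomial A) :=
    (faithfulSMul_iff_algebraMap_injective _ _).mpr Subtype.val_injective
  haveI : IsIntegrallyClosedIn (↥𝓕.rees) (Polynomial A) := by
    rw [isIntegrallyClosedIn_iff]
    refine ⟨Subtype.val_injective, fun {f} hf => ?_⟩
    suffices hmem : f ∈ 𝓕.rees by exact ⟨⟨f, hmem⟩, rfl⟩
    by_contra hnot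
    have hnot' : ¬ ∀ n, ∀ i, ((n * p i : ℕ) : WithTop ℤ) ≤ (q i : WithTop ℤ) * v i (algebraMap A K (f.coeff n)) :=
      fun h => hnot fun n => (hF n _).mpr (h n)
    push Not at hnot'
    obtain ⟨n₀, i, hlt⟩ := hnot'
    -- the scaled valuation
    have hsc : ∀ x : WithTop ℤ, (q i : WithTop ℤ) * x = (q i) • x := by
      intro x
      induction x using WithTop.recTopCoe with
      | top =>
        obtain ⟨m, hm⟩ := Nat.exists_eq_succ_of_ne_zero (hq i).ne'
        rw [hm, succ_nsmul, WithTop.add_top, WithTop.mul_top (by exact_mod_cast Nat.succ_ne_zero m)]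
      | coe z =>
        rw [← WithTop.coe_nsmul]
        norm_cast
    let fhom : WithTop ℤ →+ WithTop ℤ := nsmulAddMonoidHom (q i)
    have htop : fhom ⊤ = ⊤ := by
      obtain ⟨m, hm⟩ := Nat.exists_eq_succ_of_ne_zero (hq i).ne'
      show q i • (⊤ : WithTop ℤ) = ⊤
      rw [hm, succ_nsmul, WithTop.add_top]
    let V : AddValuation A (WithTop ℤ) :=
      ((v i).map fhom htop (fun a b hab => nsmul_le_nsmul_right hab (q i))).comap (algebraMap A K)
    have hV : ∀ x, V x = (q i : WithTop ℤ) * v i (algebraMap A K x) := fun x => (hsc _).symm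
    rw [← hV] at hlt
    -- lower bound and exact bound
    let Ge : Polynomial A → ℤ → Prop := fun g α => ∀ n : ℕ, ((α + n * p i : ℤ) : WithTop ℤ) ≤ V (g.coeff n)
    let Ex : Polynomial A → ℕ → ℤ → Prop := fun g k₀ α => Ge g α ∧
      V (g.coeff k₀) = ((α + k₀ * p i : ℤ) : WithTop ℤ) ∧
      ∀ n < k₀, ((α + n * p i : ℤ) : WithTop ℤ) < V (g.coeff n)
    have hGe_mul : ∀ g h α β, Ge g α → Ge h β → Ge (g * h) (α + β) := by
      intro g h α β hg hh n
      rw [Polynomial.coeff_mul]
      refine V.map_le_sum fun ab hab => ?_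
      rw [Finset.mem_antidiagonal] at hab
      rw [V.map_mul]
      refine le_trans (le_of_eq ?_) (add_le_add (hg ab.1) (hh ab.2))
      rw [← WithTop.coe_add, ← hab]
      congr 1
      push_cast
      ring
    have hEx_mul : ∀ g h a b α β, Ex g a α → Ex h b β → Ex (g * h) (a + b) (α + β) := by
      intro g h a b α β ⟨hg, hga, hgs⟩ ⟨hh, hhb, hhs⟩
      have hstrict : ∀ c d : ℕ, (c < a ∨ d < b) →
          ((α + β + (c + d : ℕ) * p i : ℤ) : WithTop ℤ) < V (g.coeff c * h.coeff d) := by
        intro c d hcd
        rw [V.map_mul]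
        have e : ((α + β + (c + d : ℕ) * p i : ℤ) : WithTop ℤ) =
            ((α + c * p i : ℤ) : WithTop ℤ) + ((β + d * p i : ℤ) : WithTop ℤ) := by
          rw [← WithTop.coe_add]
          congr 1
          push_cast
          ring
        rw [e]
        rcases hcd with hc | hd
        · exact lt_of_lt_of_le (WithTop.add_lt_add_right WithTop.coe_ne_top (hgs c hc))
            (add_le_add le_rfl (hh d))
        · exact lt_of_lt_of_le (WithTop.add_lt_add_left WithTop.coe_ne_top (hhs d hd))
            (add_le_add (hg c) le_rfl)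
      refine ⟨hGe_mul g h α β hg hh, ?_, fun n hn => ?_⟩
      · rw [Polynomial.coeff_mul, ← Finset.add_sum_erase _ _
          (Finset.mem_antidiagonal.mpr (rfl : (a, b).1 + (a, b).2 = a + b))]
        have hmain : V (g.coeff a * h.coeff b) = ((α + β + (a + b : ℕ) * p i : ℤ) : WithTop ℤ) := by
          rw [V.map_mul, hga, hhb, ← WithTop.coe_add]
          congr 1
          push_cast
          ring
        rw [← hmain]
        refine V.map_add_eq_of_lt_left ?_
        rw [hmain]
        refine V.map_lt_sum WithTop.coe_ne_top fun cd hcd => ?_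
        rw [Finset.mem_erase, Finset.mem_antidiagonal] at hcd
        have h2 := hstrict cd.1 cd.2 (by
          by_contra hc
          push Not at hc
          exact hcd.1 (Prod.ext (by simp; omega) (by simp; omega)))
        rwa [hcd.2] at h2
      · rw [Polynomial.coeff_mul]
        refine V.map_lt_sum WithTop.coe_ne_top fun cd hcd => ?_
        rw [Finset.mem_antidiagonal] at hcd
        have h2 := hstrict cd.1 cd.2 (by omega)
        rwa [hcd] at h2
    have hV0 : ∀ g : ↥𝓕.rees, Ge (g : Polynomial A) 0 := by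
      intro g n
      rw [hV, zero_add]
      refine le_trans (le_of_eq ?_) ((hF n _).mp (g.2 n) i)
      norm_cast
    -- the minimum
    let wt : ℕ → WithTop ℤ := fun n => V (f.coeff n) + ((-(n * p i : ℤ)) : WithTop ℤ)
    have hwt : ∀ (n : ℕ) (α : ℤ), ((α : WithTop ℤ) ≤ wt n ↔ ((α + n * p i : ℤ) : WithTop ℤ) ≤ V (f.coeff n)) ∧
        ((α : WithTop ℤ) = wt n → V (f.coeff n) = ((α + n * p i : ℤ) : WithTop ℤ)) ∧
        ((α : WithTop ℤ) < wt n → ((α + n * p i : ℤ) : WithTop ℤ) < V (f.coeff n)) := by
      intro n α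
      simp only [wt]
      induction hc : V (f.coeff n) using WithTop.recTopCoe with
      | top =>
        simp
        exact_mod_cast WithTop.coe_lt_top ((n : ℤ) * (p i : ℤ))
      | coe z =>
        norm_cast
        push_cast
        refine ⟨⟨fun h => by omega, fun h => by omega⟩, fun h => by omega, fun h => by omega⟩
    obtain ⟨m, hm, hmin⟩ := Finset.exists_min_image (Finset.range (f.natDegree + 1)) wt ⟨0, by simp⟩
    have hn₀ : n₀ ≤ f.natDegree := by
      by_contra hc
      rw [Polynomial.coeff_eq_zero_of_natDegree_lt (not_le.mp hc), V.map_zero] at hlt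
      exact not_top_lt hlt
    have hneg : wt m < ((0 : ℤ) : WithTop ℤ) := by
      refine lt_of_le_of_lt (hmin n₀ (by simp; omega)) (not_le.mp fun h => ?_)
      have := ((hwt n₀ 0).1).mp h
      rw [zero_add] at this
      refine absurd hlt (not_lt.mpr (le_trans (le_of_eq ?_) this))
      norm_cast
    obtain ⟨μ, hμ⟩ := WithTop.ne_top_iff_exists.mp (ne_top_of_lt hneg)
    have hμ0 : μ < 0 := by rw [← hμ] at hneg; exact_mod_cast hneg
    have hGeμ : Ge f μ := by
      intro n
      refine ((hwt n μ).1).mp ?_
      by_cases hn : n ≤ f.natDegree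
      · exact hμ ▸ hmin n (by simp; omega)
      · simp only [wt, Polynomial.coeff_eq_zero_of_natDegree_lt (not_le.mp hn), V.map_zero, WithTop.top_add]
        exact le_top
    have hex : ∃ n, (μ : WithTop ℤ) = wt n := ⟨m, hμ⟩
    have hExμ : Ex f (Nat.find hex) μ := by
      refine ⟨hGeμ, (hwt _ μ).2.1 (Nat.find_spec hex), fun n hn => (hwt n μ).2.2 ?_⟩
      exact lt_of_le_of_ne (((hwt n μ).1).mpr (hGeμ n)) (Nat.find_min hex hn)
    set k₀ := Nat.find hex
    have hpow : ∀ j : ℕ, Ex (f ^ j) (j * k₀) (j * μ) := by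
      intro j
      induction j with
      | zero =>
        refine ⟨fun n => ?_, ?_, fun n hn => by omega⟩
        · rw [pow_zero, Polynomial.coeff_one]
          split_ifs with h
          · subst h; rw [V.map_one]; simp
          · rw [V.map_zero]; exact le_top
        · simp [V.map_one]
      | succ j ih =>
        have h := hEx_mul _ _ _ _ _ _ ih hExμ
        rw [← pow_succ] at h
        convert h using 2 <;> push_cast <;> ring
    obtain ⟨P, hP, hPf⟩ := hf
    have hsum : f ^ P.natDegree = -∑ j ∈ Finset.range P.natDegree, ((P.coeff j : ↥𝓕.rees) : Polynomial A) * f ^ j := by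
      rw [Polynomial.eval₂_eq_sum_range, Finset.sum_range_succ] at hPf
      rw [show P.coeff P.natDegree = 1 from hP] at hPf
      rw [map_one, one_mul, add_comm] at hPf
      exact eq_neg_of_add_eq_zero_left hPf
    have h1 := (hpow P.natDegree).2.1
    rw [hsum, Polynomial.coeff_neg, V.map_neg, Polynomial.finsetSum_coeff] at h1
    have h2 : ((P.natDegree * μ + (P.natDegree * k₀ : ℕ) * p i : ℤ) : WithTop ℤ) <
        V (∑ j ∈ Finset.range P.natDegree,
          (((P.coeff j : ↥𝓕.rees) : Polynomial A) * f ^ j).coeff (P.natDegree * k₀)) := by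
      refine V.map_lt_sum WithTop.coe_ne_top fun j hj => ?_
      refine lt_of_lt_of_le ?_ (hGe_mul _ _ _ _ (hV0 _) (hpow j).1 _)
      rw [Finset.mem_range] at hj
      refine WithTop.coe_lt_coe.mpr ?_
      have hj' : (j : ℤ) + 1 ≤ P.natDegree := by exact_mod_cast hj
      nlinarith
    exact absurd h1 (ne_of_gt h2)
  exact IsIntegrallyClosed.of_isIntegrallyClosed_of_isIntegrallyClosedIn (R := ↥𝓕.rees) (S := Polynomial A)

end Groth.Agent.S14652
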