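import Groth.Statements.S14654
-- import your own Groth.Agent.* helpers here

set_option autoImplicit false
universe u
open FiltBl

namespace Groth.Agent.S14654

open AlgebraicGeometry in
/-- Let A be a Noetherian ℕ-graded commutative ring which is normal, i.e. every localization of A at a
prime ideal is an integrally closed domain. Then the scheme Proj A is normal: every local ring of
Proj A is an integrally closed domain. -/
theorem result (A : Type u) [CommRing A] [IsNoetherianRing A]
    (𝒜 : ℕ → AddSubgroup A) [GradedRing 𝒜]
    (hA : ∀ (p : Ideal A) [p.IsPrime], IsDomain (Localization.AtPrime p) ∧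
      IsIntegrallyClosed (Localization.AtPrime p))
    (x : Proj 𝒜) :
    IsDomain ((Proj 𝒜).presheaf.stalk x) ∧ IsIntegrallyClosed ((Proj 𝒜).presheaf.stalk x) := by
  classical
  set p := x.asHomogeneousIdeal.toIdeal with hp
  obtain ⟨hdom, hic⟩ := hA p
  haveI := hdom; haveI := hic
  let H := HomogeneousLocalization.AtPrime 𝒜 p
  have hval : ∀ h : H, algebraMap H (Localization.AtPrime p) h = h.val := fun h => rfl
  have hinj : Function.Injective (algebraMap H (Localization.AtPrime p)) := fun a b h =>
    HomogeneousLocalization.val_injective _ h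
  haveI : IsDomain H := hinj.isDomain (algebraMap H (Localization.AtPrime p))
  haveI : IsIntegrallyClosed H := by
    refine (isIntegrallyClosed_iff (FractionRing H)).mpr fun {q} hq => ?_
    let L := FractionRing (Localization.AtPrime p)
    let emb : H →+* L := (algebraMap (Localization.AtPrime p) L).comp (algebraMap H (Localization.AtPrime p))
    have hemb : Function.Injective emb := (IsFractionRing.injective (Localization.AtPrime p) L).comp hinj
    let j : FractionRing H →+* L := IsFractionRing.lift hemb
    have hj : ∀ h, j (algebraMap H (FractionRing H) h) = emb h := fun h => IsFractionRing.lift_algebraMap hemb h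
    have hq' : IsIntegral (Localization.AtPrime p) (j q) :=
      hq.map_of_comp_eq (algebraMap H (Localization.AtPrime p)) j (RingHom.ext fun h => (hj h).symm)
    obtain ⟨z, hz⟩ := (IsIntegrallyClosed.isIntegral_iff (R := Localization.AtPrime p) (K := L)).mp hq'
    obtain ⟨a, b, hb, hab⟩ := IsFractionRing.div_surjective (A := H) q
    have hb0 : b ≠ 0 := nonZeroDivisors.ne_zero hb
    have hbz : b.val * z = a.val := by
      apply IsFractionRing.injective (Localization.AtPrime p) L
      rw [map_mul, hz, ← hab, map_div₀, hj, hj]
      have : emb b ≠ 0 := (map_ne_zero_iff _ hemb).mpr hb0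
      rw [show algebraMap (Localization.AtPrime p) L b.val = emb b from rfl,
        show algebraMap (Localization.AtPrime p) L a.val = emb a from rfl]
      exact mul_div_cancel₀ _ this
    obtain ⟨na, hna⟩ := HomogeneousLocalization.mk_surjective a
    obtain ⟨nb, hnb⟩ := HomogeneousLocalization.mk_surjective b
    obtain ⟨⟨c, s⟩, hcs⟩ := Localization.mkHom_surjective z
    subst hna hnb
    rw [← hcs, Localization.mkHom_apply, HomogeneousLocalization.val_mk, HomogeneousLocalization.val_mk,
      Localization.mk_mul, Localization.mk_eq_mk_iff, Localization.r_iff_exists] at hbz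
    obtain ⟨⟨t, ht⟩, hts⟩ := hbz
    simp only [Submonoid.coe_mul] at hts
    set f : A := (nb.num : A) * (na.den : A)
    set g : A := (na.num : A) * (nb.den : A)
    have hf : f ∈ 𝒜 (nb.deg + na.deg) := SetLike.mul_mem_graded nb.num.2 na.den.2
    have hg : g ∈ 𝒜 (nb.deg + na.deg) := by
      rw [add_comm]; exact SetLike.mul_mem_graded na.num.2 nb.den.2
    have hrel : g * (t * (s : A)) = f * (t * c) := by
      simp only [f, g]; linear_combination -hts
    obtain ⟨k, hk⟩ : ∃ k, ((DirectSum.decompose 𝒜 (t * (s : A)) k : 𝒜 k) : A) ∉ p := by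
      by_contra! hall
      apply (p.primeCompl.mul_mem ht s.2 : t * (s : A) ∈ p.primeCompl)
      rw [← DirectSum.sum_support_decompose 𝒜 (t * (s : A))]
      exact sum_mem fun i _ => hall i
    set σ := (DirectSum.decompose 𝒜 (t * (s : A)) k : 𝒜 k)
    set γ := (DirectSum.decompose 𝒜 (t * c) k : 𝒜 k)
    have hk' : g * (σ : A) = f * (γ : A) := by
      rw [← DirectSum.coe_decompose_mul_add_of_left_mem 𝒜 hg,
        ← DirectSum.coe_decompose_mul_add_of_left_mem 𝒜 hf, hrel]
    let y : H := HomogeneousLocalization.mk ⟨k, γ, σ, hk⟩
    have hy : (HomogeneousLocalization.mk nb : H).val * y.val = (HomogeneousLocalization.mk na : H).val := by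
      rw [HomogeneousLocalization.val_mk, HomogeneousLocalization.val_mk, HomogeneousLocalization.val_mk,
        Localization.mk_mul, Localization.mk_eq_mk_iff, Localization.r_iff_exists]
      refine ⟨1, ?_⟩
      simp only [Submonoid.coe_mul, OneMemClass.coe_one, one_mul]
      simp only [f, g] at hk'
      linear_combination -hk'
    refine ⟨y, j.injective ?_⟩
    rw [hj, ← hab, map_div₀, hj, hj]
    have : emb (HomogeneousLocalization.mk nb) ≠ 0 := (map_ne_zero_iff _ hemb).mpr hb0
    rw [eq_div_iff this]
    show algebraMap (Localization.AtPrime p) L y.val * algebraMap (Localization.AtPrime p) L _ = algebraMap (Localization.AtPrime p) L _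
    rw [← map_mul, mul_comm, hy]
  let e := ((Proj.stalkIso' 𝒜 x).toCommRingCatIso.commRingCatIsoToRingEquiv).symm
  haveI := e.symm.toMulEquiv.isDomain H
  exact ⟨e.symm.toMulEquiv.isDomain H, IsIntegrallyClosed.of_equiv e⟩

end Groth.Agent.S14654
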