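import Groth.Statements.S14655
import Groth.Agent.L15.ProjCM
import Mathlib.AlgebraicGeometry.Stalk
-- import your own Groth.Agent.* helpers here

set_option autoImplicit false
universe u
open FiltBl

namespace Groth.Agent.S14655

open AlgebraicGeometry in
/-- Let A be a Noetherian ℕ-graded commutative ring which is a Cohen–Macaulay ring. Then the scheme Proj
A is Cohen–Macaulay: every local ring of Proj A is a Cohen–Macaulay local ring. -/
theorem result (A : Type u) [CommRing A]
    (𝒜 : ℕ → AddSubgroup A) [GradedRing 𝒜] [LocCoh.IsCohenMacaulayRing A] (x : Proj 𝒜) :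
    LocCoh.IsCohenMacaulayLocalRing ((Proj 𝒜).presheaf.stalk x) := by
  let p : Ideal A := x.asHomogeneousIdeal.toIdeal
  haveI : p.IsPrime := x.isPrime
  obtain ⟨f, hf1, hf2⟩ := SetLike.not_le_iff_exists.mp x.not_irrelevant_le
  obtain ⟨e, he, hfe⟩ : ∃ e, 0 < e ∧ Groth.L15.ProjCM.comp 𝒜 f e ∉ p := by
    classical
    by_contra h
    simp only [not_exists, not_and, not_not] at h
    refine hf2 ?_
    show f ∈ p
    rw [← DirectSum.sum_support_decompose 𝒜 f]
    refine Ideal.sum_mem _ fun i _ => ?_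
    rcases Nat.eq_zero_or_pos i with rfl | hi
    · rw [HomogeneousIdeal.mem_irrelevant_iff, GradedRing.proj_apply] at hf1
      rw [hf1]
      exact p.zero_mem
    · exact h i hi
  let S0 := HomogeneousLocalization 𝒜 (Groth.L15.ProjCM.T 𝒜 p)
  let E1 : HomogeneousLocalization.AtPrime 𝒜 p ≃+* S0 :=
    (RingEquiv.ofBijective _ (Groth.L15.ProjCM.mapId_bijective 𝒜 p)).symm
  let E : (Proj 𝒜).presheaf.stalk x ≃+* S0 := (Proj.stalkIso' 𝒜 x).trans E1
  haveI hloc : IsLocalRing S0 := E1.isLocalRing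
  haveI : IsNoetherianRing S0 := Groth.L15.ProjCM.isNoetherianRing 𝒜 p
  have hdim : ringKrullDim ((Proj 𝒜).presheaf.stalk x) ≤ (p.height : WithBot ℕ∞) := by
    let y : Spec ((Proj 𝒜).presheaf.stalk x) → ProjectiveSpectrum 𝒜 := fun q => (Proj 𝒜).fromSpecStalk x q
    have hle : ∀ q r : PrimeSpectrum ((Proj 𝒜).presheaf.stalk x), q ≤ r → (y q).asHomogeneousIdeal.toIdeal ≤ (y r).asHomogeneousIdeal.toIdeal := by
      intro q r hqr
      have hs : (y q) ⤳ (y r) := ((PrimeSpectrum.le_iff_specializes q r).mp hqr).map ((Proj 𝒜).fromSpecStalk x).continuous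
      exact (ProjectiveSpectrum.le_iff_mem_closure _ _ _).mpr hs.mem_closure
    have hx : ∀ q : PrimeSpectrum ((Proj 𝒜).presheaf.stalk x), (y q).asHomogeneousIdeal.toIdeal ≤ p := by
      intro q
      have h := hle q (IsLocalRing.closedPoint _) (IsLocalRing.le_maximalIdeal q.2.ne_top)
      have hc : y (IsLocalRing.closedPoint _) = x := Scheme.fromSpecStalk_closedPoint
      rwa [hc] at h
    have hinj : Function.Injective y := ((Proj 𝒜).fromSpecStalk x).isEmbedding.injective
    let g : PrimeSpectrum ((Proj 𝒜).presheaf.stalk x) → Set.Iic (⟨p, inferInstance⟩ : PrimeSpectrum A) := fun q =>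
      ⟨⟨(y q).asHomogeneousIdeal.toIdeal, (y q).isPrime⟩, hx q⟩
    have hg : StrictMono g := by
      intro q r hqr
      refine lt_of_le_of_ne (hle q r hqr.le) fun h => hqr.ne (hinj ?_)
      refine ProjectiveSpectrum.ext (HomogeneousIdeal.toIdeal_injective ?_)
      exact congrArg (fun z : Set.Iic (⟨p, inferInstance⟩ : PrimeSpectrum A) => z.1.asIdeal) h
    refine (Order.krullDim_le_of_strictMono g hg).trans (le_of_eq ?_)
    rw [← Order.height_eq_krullDim_Iic]
    congr 1
    exact (PrimeSpectrum.height_eq_orderHeight (⟨p, inferInstance⟩ : PrimeSpectrum A)).symm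
  refine L02.CMMor.cm_of_ringEquiv E.symm (L02.CMMor.cm_mk (le_antisymm ?_ ?_))
  · have h := Groth.L15.ProjCM.depth_ge 𝒜 p he (Groth.L15.ProjCM.comp_mem 𝒜 f e) hfe x.asHomogeneousIdeal.isHomogeneous
    rw [Module.supportDim_self_eq_ringKrullDim, ← ringKrullDim_eq_of_ringEquiv E]
    exact hdim.trans (WithBot.coe_le_coe.mpr h)
  · exact Groth.L04.depth_le_supportDim

end Groth.Agent.S14655
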