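import Groth.Statements.S14656
import Groth.Agent.L18.ProjTopology
import Groth.Agent.L07.GeomRk.Open
import Mathlib.RingTheory.Ideal.MinimalPrime.Localization
import Mathlib.RingTheory.GradedAlgebra.HomogeneousLocalization

set_option autoImplicit false
universe u
open FiltBl

namespace Groth.Agent.S14656

theorem finiteType_zero {A : Type u} [CommRing A] [IsNoetherianRing A] (𝒜 : ℕ → AddSubgroup A)
    [GradedRing 𝒜] : Algebra.FiniteType (𝒜 0) A := by
  let ℬ : ℕ → Submodule (𝒜 0) A := fun i =>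
    { 𝒜 i with
      smul_mem' := fun r x hx => by
        have h := SetLike.mul_mem_graded r.2 hx
        rwa [zero_add] at h }
  haveI : SetLike.GradedMonoid ℬ :=
    { one_mem := SetLike.one_mem_graded 𝒜
      mul_mem := fun _ _ _ _ h1 h2 => SetLike.mul_mem_graded (A := 𝒜) h1 h2 }
  let D : DirectSum.Decomposition 𝒜 := GradedRing.toDecomposition
  haveI : GradedAlgebra ℬ :=
    { decompose' := fun a => (D.decompose' a : _)
      left_inv := fun a => D.left_inv a
      right_inv := fun a => D.right_inv a }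
  obtain ⟨-, ⟨s, hs⟩⟩ := (Groth.L18.isNoetherianRing_iff ℬ).mp inferInstance
  refine ⟨⟨s, eq_top_iff.2 fun a _ => ?_⟩⟩
  have ha : a ∈ Algebra.adjoin (ℬ 0) (s : Set A) := by rw [hs]; trivial
  induction ha using Algebra.adjoin_induction with
  | mem x hx => exact Algebra.subset_adjoin hx
  | algebraMap r => exact Subalgebra.algebraMap_mem _ (⟨r.1, r.2⟩ : 𝒜 0)
  | add x y _ _ hx hy => exact add_mem (hx trivial) (hy trivial)
  | mul x y _ _ hx hy => exact mul_mem (hx trivial) (hy trivial)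

open DirectSum in
theorem minimalPrimes_atPrime {A : Type u} [CommRing A] [IsNoetherianRing A] (𝒜 : ℕ → AddSubgroup A)
    [GradedRing 𝒜] (hA : ∀ Q ∈ associatedPrimes A A, Q ∈ minimalPrimes A) (P : Ideal A) [P.IsPrime]
    (hP : ¬ (HomogeneousIdeal.irrelevant 𝒜).toIdeal ≤ P)
    (q : Ideal (HomogeneousLocalization.AtPrime 𝒜 P)) [q.IsPrime]
    (α : HomogeneousLocalization.AtPrime 𝒜 P) (hq : ∀ z, z ∈ q ↔ z * α = 0) :
    q ∈ minimalPrimes (HomogeneousLocalization.AtPrime 𝒜 P) := by
  classical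
  let L := Localization.AtPrime P
  haveI : IsNoetherianRing L := IsLocalization.isNoetherianRing P.primeCompl L inferInstance
  let ι := algebraMap (HomogeneousLocalization.AtPrime 𝒜 P) L
  have hα : ι α ≠ 0 := by
    intro h
    have : α = 0 := HomogeneousLocalization.val_injective _ (h.trans (map_zero ι).symm)
    exact ‹q.IsPrime›.ne_top ((Ideal.eq_top_iff_one q).2 ((hq 1).2 (by simp [this])))
  obtain ⟨Q0, hQ0, hle⟩ := exists_le_isAssociatedPrime_of_isNoetherianRing L (ι α) hα
  haveI := hQ0.isPrime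
  haveI : IsLocalizedModule P.primeCompl (Algebra.linearMap A L) :=
    (isLocalizedModule_iff_isLocalization' P.primeCompl L).mpr inferInstance
  let Q := Q0.comap (algebraMap A L)
  have hQ : Q ∈ minimalPrimes A := hA _
    (Module.associatedPrimes.comap_mem_associatedPrimes_of_mem_associatedPrimes_of_isLocalizedModule_of_fg
      P.primeCompl (Algebra.linearMap A L) Q0 hQ0 (IsNoetherian.noetherian _))
  have hQhom : Q.IsHomogeneous 𝒜 := by
    have h := le_antisymm (Ideal.toIdeal_homogeneousCore_le 𝒜 Q)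
      (hQ.2 ⟨Ideal.IsPrime.homogeneousCore inferInstance, bot_le⟩ (Ideal.toIdeal_homogeneousCore_le 𝒜 Q))
    rw [← h]
    exact HomogeneousIdeal.isHomogeneous _
  have hqle : q ≤ Q0.comap ι := by
    intro z hz
    refine hle ?_
    simp only [Submodule.mem_colon_singleton, Submodule.mem_bot, smul_eq_mul, ← map_mul, (hq z).1 hz, map_zero]
  obtain ⟨d, hd, hh⟩ : ∃ d : ℕ, 0 < d ∧ ∃ h ∈ 𝒜 d, h ∉ P := by
    by_contra hne
    simp only [not_exists, not_and, not_not] at hne
    refine hP fun f hf => ?_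
    rw [← DirectSum.sum_support_decompose 𝒜 f]
    refine P.sum_mem fun i _ => ?_
    rcases Nat.eq_zero_or_pos i with rfl | hi
    · rw [show (decompose 𝒜 f 0 : A) = 0 by
        rw [← GradedRing.proj_apply]; exact (HomogeneousIdeal.mem_irrelevant_iff 𝒜 f).1 hf]
      exact zero_mem _
    · exact hne i hi _ (decompose 𝒜 f i).2
  obtain ⟨h, hh, hhP⟩ := hh
  refine ⟨⟨‹q.IsPrime›, bot_le⟩, fun r hr hrq z hz => ?_⟩
  haveI := hr.1
  have hz' : ι z ∈ Q0 := hqle hz
  obtain ⟨⟨i, ⟨a, ha⟩, ⟨t, ht⟩, htP⟩, rfl⟩ := HomogeneousLocalization.mk_surjective z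
  have haQ : a ∈ Q := by
    change algebraMap A L a ∈ Q0
    have e : ι (HomogeneousLocalization.mk ⟨i, ⟨a, ha⟩, ⟨t, ht⟩, htP⟩) * algebraMap A L t = algebraMap A L a := by
      change (HomogeneousLocalization.mk ⟨i, ⟨a, ha⟩, ⟨t, ht⟩, htP⟩).val * _ = _
      rw [HomogeneousLocalization.val_mk, Localization.mk_eq_mk']
      exact IsLocalization.mk'_spec L a ⟨t, htP⟩
    rw [← e]
    exact Q0.mul_mem_right _ hz'
  obtain ⟨s, hsQ, n, hsn⟩ : ∃ s, s ∉ Q ∧ ∃ n, s * a ^ n = 0 := by
    haveI := hQ.1.1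
    by_contra hne
    obtain ⟨r, hr, -, hr'⟩ := Ideal.exists_le_prime_disjoint (⊥ : Ideal A)
      (Q.primeCompl ⊔ Submonoid.powers a) (Set.disjoint_left.2 fun x hx hx' => by
        obtain ⟨y, hy, _, ⟨n, rfl⟩, rfl⟩ := Submonoid.mem_sup.1 hx'
        exact hne ⟨y, hy, n, hx⟩)
    have hrQ : r ≤ Q := fun x hx => by
      by_contra h
      exact Set.disjoint_left.1 hr' hx (Submonoid.mem_sup_left h)
    exact Set.disjoint_left.1 hr' (hQ.2 ⟨hr, bot_le⟩ hrQ haQ)
      (Submonoid.mem_sup_right (Submonoid.mem_powers a))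
  obtain ⟨j, hj⟩ : ∃ j, (decompose 𝒜 s j : A) ∉ Q := by
    by_contra hne
    simp only [not_exists, not_not] at hne
    exact hsQ (by rw [← DirectSum.sum_support_decompose 𝒜 s]; exact Q.sum_mem fun j _ => hne j)
  have hsj : (decompose 𝒜 s j : A) * a ^ n = 0 := by
    rw [← DirectSum.coe_decompose_mul_add_of_right_mem 𝒜 (SetLike.pow_mem_graded n ha), hsn]
    simp
  have hu : h ^ j ∈ P.primeCompl := pow_mem (show h ∈ P.primeCompl from hhP) j
  let w : HomogeneousLocalization.AtPrime 𝒜 P := HomogeneousLocalization.mk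
    ⟨j * d, ⟨(decompose 𝒜 s j : A) ^ d, by
      have := SetLike.pow_mem_graded d (decompose 𝒜 s j).2
      rwa [smul_eq_mul, mul_comm] at this⟩, ⟨h ^ j, by
      have := SetLike.pow_mem_graded j hh
      rwa [smul_eq_mul] at this⟩, hu⟩
  have hw : w ∉ r := fun hwr => by
    have h1 : ι w ∈ Q0 := hqle (hrq hwr)
    have h2 : algebraMap A L ((decompose 𝒜 s j : A) ^ d) ∈ Q0 := by
      have e : ι w * algebraMap A L (h ^ j) = algebraMap A L ((decompose 𝒜 s j : A) ^ d) := by
        change w.val * _ = _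
        rw [HomogeneousLocalization.val_mk, Localization.mk_eq_mk']
        exact IsLocalization.mk'_spec L _ ⟨h ^ j, hu⟩
      rw [← e]
      exact Q0.mul_mem_right _ h1
    exact hj (hQ.1.1.mem_of_pow_mem d h2)
  have h0 : w * (HomogeneousLocalization.mk ⟨i, ⟨a, ha⟩, ⟨t, ht⟩, htP⟩) ^ n = 0 := by
    apply HomogeneousLocalization.val_injective
    rw [HomogeneousLocalization.val_mul, HomogeneousLocalization.val_pow, HomogeneousLocalization.val_mk,
      HomogeneousLocalization.val_mk, HomogeneousLocalization.val_zero, Localization.mk_pow, Localization.mk_mul]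
    obtain ⟨d, rfl⟩ := Nat.exists_eq_succ_of_ne_zero hd.ne'
    dsimp only
    simp only [pow_succ, mul_assoc, hsj, mul_zero, Localization.mk_zero]
  exact hr.1.mem_of_pow_mem n ((hr.1.mem_or_mem (by rw [h0]; exact zero_mem r)).resolve_left hw)

open AlgebraicGeometry in
/-- Let A be a Noetherian ℕ-graded commutative ring satisfying Serre's condition (S_1) (every
localization A_p has depth at least min(1, dim A_p)). Then every local ring of the scheme Proj A
satisfies (S_1). -/
theorem result (A : Type u) [CommRing A] [IsNoetherianRing A]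
    (𝒜 : ℕ → AddSubgroup A) [GradedRing 𝒜] (hA : LocCoh.HasSk 1 A A) (x : Proj 𝒜) :
    LocCoh.HasSk 1 ((Proj 𝒜).presheaf.stalk x) ((Proj 𝒜).presheaf.stalk x) := by
  haveI := finiteType_zero 𝒜
  haveI : IsLocallyNoetherian (Spec (CommRingCat.of (𝒜 0))) := inferInstance
  haveI : IsLocallyNoetherian (Proj 𝒜) := LocallyOfFiniteType.isLocallyNoetherian (Proj.toSpecZero 𝒜)
  rw [← Groth.L07.GeomRk.noEmbedded_iff_hasSk_one]
  intro p hp
  haveI := hp.isPrime
  have hA' := (Groth.L07.GeomRk.noEmbedded_iff_hasSk_one A).2 hA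
  let e : (Proj 𝒜).presheaf.stalk x ≃+* HomogeneousLocalization.AtPrime 𝒜 x.asHomogeneousIdeal.toIdeal :=
    AlgebraicGeometry.Proj.stalkIso' 𝒜 x
  obtain ⟨-, y, hy⟩ := isAssociatedPrime_iff.1 hp
  have hmem : ∀ z, z ∈ p ↔ z * y = 0 := fun z => by
    rw [hy, Submodule.mem_colon_singleton, Submodule.mem_bot, smul_eq_mul]
  haveI : (p.comap e.symm.toRingHom).IsPrime := Ideal.comap_isPrime _ _
  have hq := minimalPrimes_atPrime 𝒜 hA' x.asHomogeneousIdeal.toIdeal x.not_irrelevant_le
    (p.comap e.symm.toRingHom) (e y) (fun z => by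
      rw [Ideal.mem_comap, hmem, ← e.symm.map_eq_zero_iff, map_mul, e.symm_apply_apply]; rfl)
  refine ⟨⟨inferInstance, bot_le⟩, fun r hr hrp z hz => ?_⟩
  haveI := hr.1
  have hle : r.comap e.symm.toRingHom ≤ p.comap (e.symm : _ →+* _) := Ideal.comap_mono hrp
  have := hq.2 ⟨Ideal.comap_isPrime _ r, bot_le⟩ hle (show e z ∈ p.comap (e.symm : _ →+* _) by simpa using hz)
  simpa using this

end Groth.Agent.S14656
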