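import Groth.Statements.S14657
import Groth.Agent.L14.GrNormQuot
import Groth.Agent.L01.NagataFiniteType
import Groth.Agent.L18.NormalizationField
import Mathlib.RingTheory.Localization.Integral
import Mathlib.RingTheory.Artinian.Module


set_option autoImplicit false
universe u
open FiltBl

namespace Groth.Agent.S14657

/-- (i) ⇔ (ii): let k be a field and G a Noetherian ℕ-graded k-algebra which is an integral domain of
Krull dimension at least 2 with G_0 = k (the degree-0 part is the image of k); let L be the fraction
field of G and Ḡ the integral closure of G in L. Then the open subscheme Spec G − V(G_+) is normal,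
i.e. G_p is integrally closed for every prime p not containing the irrelevant ideal G_+, if and only
if the G-module Ḡ/G has finite length. -/
theorem result (k : Type u) [Field k]
    (G : Type u) [CommRing G] [IsDomain G] [Algebra k G] [IsNoetherianRing G]
    (𝒢 : ℕ → Submodule k G) [GradedAlgebra 𝒢]
    (h0 : ∀ x ∈ 𝒢 0, x ∈ Set.range (algebraMap k G)) (hdim : 2 ≤ ringKrullDim G)
    (L : Type u) [Field L] [Algebra G L] [IsFractionRing G L] :
    (∀ (p : Ideal G) [p.IsPrime], ¬ (HomogeneousIdeal.irrelevant 𝒢).toIdeal ≤ p →
        IsIntegrallyClosed (Localization.AtPrime p)) ↔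
      IsFiniteLength G (↥(integralClosure G L) ⧸
        LinearMap.range (Algebra.linearMap G ↥(integralClosure G L))) := by
  classical
  have hloc : ∀ (p : Ideal G) [p.IsPrime], (∀ y : integralClosure G L, ∃ s : G, s ∉ p ∧
      ∃ g : G, algebraMap G L g = algebraMap G L s * (y : L)) → IsIntegrallyClosed (Localization.AtPrime p) := by
    intro p _ H
    letI : Algebra (Localization.AtPrime p) L := (IsLocalization.lift (M := p.primeCompl) (g := algebraMap G L)
      fun s => isUnit_iff_ne_zero.2 fun h => s.2 (by
        rw [IsFractionRing.injective G L (h.trans (map_zero _).symm)]; exact p.zero_mem)).toAlgebra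
    haveI : IsScalarTower G (Localization.AtPrime p) L := IsScalarTower.of_algebraMap_eq fun g =>
      (IsLocalization.lift_eq _ g).symm
    haveI : IsFractionRing (Localization.AtPrime p) L :=
      IsFractionRing.isFractionRing_of_isDomain_of_isLocalization p.primeCompl _ _
    refine (isIntegrallyClosed_iff L).2 fun {z} hz => ?_
    obtain ⟨t, ht, hint⟩ : ∃ t : G, t ∉ p ∧ IsIntegral G (algebraMap G L t * z) := by
      obtain ⟨t, ht⟩ := IsIntegral.exists_multiple_integral_of_isLocalization p.primeCompl z hz
      exact ⟨t, t.2, by simpa [Submonoid.smul_def, Algebra.smul_def] using ht⟩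
    obtain ⟨s, hs, g, hg⟩ := H ⟨_, hint⟩
    refine ⟨IsLocalization.mk' (Localization.AtPrime p) g ⟨s * t, p.primeCompl.mul_mem hs ht⟩, ?_⟩
    have hne : algebraMap G L (s * t) ≠ 0 := fun h => p.primeCompl.mul_mem hs ht (by
      rw [IsFractionRing.injective G L (h.trans (map_zero _).symm)]; exact p.zero_mem)
    refine mul_left_cancel₀ hne ?_
    rw [IsScalarTower.algebraMap_apply G (Localization.AtPrime p) L, ← map_mul,
      show (algebraMap G (Localization.AtPrime p) (s * t)) *
          IsLocalization.mk' (Localization.AtPrime p) g ⟨s * t, p.primeCompl.mul_mem hs ht⟩ =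
        algebraMap G (Localization.AtPrime p) g from IsLocalization.mk'_spec' _ g ⟨s * t, _⟩,
      ← IsScalarTower.algebraMap_apply, ← IsScalarTower.algebraMap_apply, hg, map_mul]
    ring
  haveI hmax := Groth.L14.GrNormQuot.isMaximal_irrelevant 𝒢 h0
  constructor
  · intro h
    haveI := Groth.L14.GrNormQuot.finiteType 𝒢 h0
    have hN := Groth.L01.Nagata.isN2_of_isNagata
      (Groth.L01.Nagata.isNagata_of_finiteType (R := k) (S := G) (Groth.L18.NormField.isNagata_field k))
    haveI : Module.Finite G (integralClosure G (FractionRing G)) :=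
      hN (FractionRing G) (Module.Finite.self (FractionRing G))
    haveI : Module.Finite G (integralClosure G L) :=
      Module.Finite.equiv (FractionRing.algEquiv G L).mapIntegralClosure.toLinearEquiv
    obtain ⟨n, y, hy⟩ := Module.Finite.exists_fin (R := G) (M := integralClosure G L)
    set I := Groth.L14.GrNormQuot.conductor (G := G) L
    have hprime : ∀ (P : Ideal G) [P.IsPrime], I ≤ P → P.IsMaximal := by
      intro P _ hIP
      by_cases hm : (HomogeneousIdeal.irrelevant 𝒢).toIdeal ≤ P
      · rw [← hmax.eq_of_le (Ideal.IsPrime.ne_top inferInstance) hm]; exact hmax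
      exfalso
      haveI := h P hm
      letI : Algebra (Localization.AtPrime P) L := (IsLocalization.lift (M := P.primeCompl) (g := algebraMap G L)
        fun s => isUnit_iff_ne_zero.2 fun h => s.2 (by
          rw [IsFractionRing.injective G L (h.trans (map_zero _).symm)]; exact P.zero_mem)).toAlgebra
      haveI : IsScalarTower G (Localization.AtPrime P) L := IsScalarTower.of_algebraMap_eq fun g =>
        (IsLocalization.lift_eq _ g).symm
      haveI : IsFractionRing (Localization.AtPrime P) L :=
        IsFractionRing.isFractionRing_of_isDomain_of_isLocalization P.primeCompl _ _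
      have hy' : ∀ i, ∃ s : G, s ∉ P ∧ ∃ g : G, algebraMap G L g = algebraMap G L s * (y i : L) := by
        intro i
        obtain ⟨a, ha⟩ := IsIntegrallyClosed.isIntegral_iff.1
          ((y i).2.tower_top (A := Localization.AtPrime P))
        obtain ⟨g, s, rfl⟩ := IsLocalization.exists_mk'_eq P.primeCompl a
        refine ⟨s, s.2, g, ?_⟩
        rw [← ha, IsScalarTower.algebraMap_apply G (Localization.AtPrime P) L,
          IsScalarTower.algebraMap_apply G (Localization.AtPrime P) L s, ← map_mul, IsLocalization.mk'_spec']
      choose s hs g hg using hy'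
      have : (∏ i, s i) ∈ I := by
        rw [Groth.L14.GrNormQuot.mem_conductor]
        intro z
        obtain ⟨c, rfl⟩ := (Submodule.mem_span_range_iff_exists_fun G).1 (hy ▸ Submodule.mem_top : z ∈ _)
        refine ⟨∑ i, c i * ((∏ j ∈ Finset.univ.erase i, s j) * g i), ?_⟩
        rw [map_sum, AddSubmonoidClass.coe_finsetSum, Finset.mul_sum]
        refine Finset.sum_congr rfl fun i _ => ?_
        rw [← Finset.mul_prod_erase Finset.univ s (Finset.mem_univ i), SetLike.val_smul, Algebra.smul_def]
        simp only [map_mul, hg]
        ring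
      obtain ⟨i, -, hi⟩ := (Ideal.IsPrime.prod_mem_iff (p := P)).1 (hIP this)
      exact hs i hi
    haveI : Ring.KrullDimLE 0 (G ⧸ I) := Ring.krullDimLE_zero_iff.2 fun Q hQ => by
      have := hprime (Q.comap (Ideal.Quotient.mk I)) (by
        intro x hx
        rw [Ideal.mem_comap, Ideal.Quotient.eq_zero_iff_mem.2 hx]
        exact Q.zero_mem)
      rw [← Ideal.map_comap_of_surjective _ Ideal.Quotient.mk_surjective Q]
      refine (Ideal.map_eq_top_or_isMaximal_of_surjective _ Ideal.Quotient.mk_surjective this).resolve_left ?_
      rw [Ideal.map_comap_of_surjective _ Ideal.Quotient.mk_surjective Q]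
      exact hQ.ne_top
    haveI hA : IsArtinianRing (G ⧸ I) := isArtinianRing_iff_isNoetherianRing_krullDimLE_zero.2 ⟨inferInstance, inferInstance⟩
    haveI : IsArtinian G (G ⧸ I) :=
      isArtinian_of_surjective_algebraMap (R := G ⧸ I) (M := G ⧸ I) (S := G) Ideal.Quotient.mk_surjective
    rw [isFiniteLength_iff_isNoetherian_isArtinian]
    refine ⟨inferInstance, ?_⟩
    let Q := ↥(integralClosure G L) ⧸ LinearMap.range (Algebra.linearMap G ↥(integralClosure G L))
    let f : Fin n → ((G ⧸ I) →ₗ[G] Q) := fun i =>
      Submodule.liftQ I (LinearMap.toSpanSingleton G Q (Submodule.Quotient.mk (y i)))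
        fun r hr => Module.mem_annihilator.1 hr _
    refine isArtinian_of_surjective (R := G) (M := Fin n → G ⧸ I) (∑ i, (f i).comp (LinearMap.proj i)) ?_
    intro q
    obtain ⟨z, rfl⟩ := Submodule.Quotient.mk_surjective _ q
    obtain ⟨c, rfl⟩ := (Submodule.mem_span_range_iff_exists_fun G).1 (hy ▸ Submodule.mem_top : z ∈ _)
    refine ⟨fun i => Submodule.Quotient.mk (c i), ?_⟩
    rw [LinearMap.sum_apply, ← Submodule.mkQ_apply, map_sum]
    refine Finset.sum_congr rfl fun i _ => ?_
    show f i (Submodule.Quotient.mk (c i)) = _
    rw [map_smul]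
    rfl
  · intro hfin p _ hp
    refine hloc p fun y => ?_
    obtain ⟨c, hc, hcp⟩ : ∃ c ∈ Groth.L14.GrNormQuot.conductor (G := G) L, c ∉ p := by
      by_contra! h
      exact hp ((Groth.L14.GrNormQuot.irrelevant_le_radical_conductor 𝒢 h0 hfin).trans
        ((Ideal.IsPrime.radical_le_iff inferInstance).2 h))
    exact ⟨c, hcp, (Groth.L14.GrNormQuot.mem_conductor c).1 hc y⟩

end Groth.Agent.S14657
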