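import Groth.Statements.S1466
import Groth.Agent.L12.FlatZero.Assemble
-- import your own Groth.Agent.* helpers here

set_option autoImplicit false
universe u
open FlatMor

namespace Groth.Agent.S1466

open AlgebraicGeometry CategoryTheory Limits in
/-- Conclusions (a)–(e) (the source adds that they persist after base change in S, which is not restated
here): let f : X → Y be a proper morphism over S (structure maps X → S equal to f ≫ g and g : Y →
S), with g locally of finite presentation, f ≫ g locally of finite presentation and flat at every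
point over s, and suppose the induced morphism of fibres f_s : X_s → Y_s has all fibres of dimension
≤ 1, has H^1 of the structure sheaf vanishing over every affine open of Y_s, and induces
isomorphisms O_{Y_s}(U) → O_{X_s}(f_s⁻¹ U) for all opens U. Then there is an open V of Y containing
the fibre Y_s such that V → S and f⁻¹(V) → S are flat, every fibre of f over V has dimension ≤ 1,
H^1 of the structure sheaf vanishes over the preimage of every affine open of V, and f induces
isomorphisms O_Y(U) → O_X(f⁻¹ U) for all opens U ⊆ V. -/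
theorem result {X Y S : Scheme.{u}} (f : X ⟶ Y) (g : Y ⟶ S) [IsProper f] [LocallyOfFinitePresentation g] [LocallyOfFinitePresentation (f ≫ g)]
    (s : S) (hflat : ∀ x : X, g (f x) = s → ((f ≫ g).stalkMap x).hom.Flat)
    (hdim : ∀ y' : ↥(g.fiber s), topologicalKrullDim ↑((MoreMor.fiberMap f g s).fiber y') ≤ 1)
    (hR1 : ∀ U : (g.fiber s).Opens, IsAffineOpen U → Subsingleton (Coh.HHon ((f ≫ g).fiber s) (Coh.structureModule ((f ≫ g).fiber s)) (MoreMor.fiberMap f g s ⁻¹ᵁ U) 1))
    (hiso : ∀ U : (g.fiber s).Opens, IsIso ((MoreMor.fiberMap f g s).app U)) :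
    ∃ V : Y.Opens, g ⁻¹' {s} ⊆ (V : Set ↑Y) ∧ Flat (V.ι ≫ g) ∧ Flat ((f ⁻¹ᵁ V).ι ≫ f ≫ g) ∧
      (∀ y ∈ V, topologicalKrullDim ↑(f.fiber y) ≤ 1) ∧
      (∀ U : Y.Opens, U ≤ V → IsAffineOpen U → Subsingleton (Coh.HHon X (Coh.structureModule X) (f ⁻¹ᵁ U) 1)) ∧
      ∀ U : Y.Opens, U ≤ V → IsIso (f.app U) := by
  obtain ⟨V, hV, hfl, hflX, hd, h1, hi⟩ := Groth.L12.FlatZero.exists_iso_nhd f g s hflat hdim hR1 hiso
  exact ⟨V, hV, hfl, hflX, hd, fun U hU hUa => Groth.L12.FlatZero.subsingleton_HHon f
    (Groth.L12.GenusZero.subsingleton_h1_over f hUa (fun y hy => hd y (hU hy)) fun y hy => h1 y (hU hy)), hi⟩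

end Groth.Agent.S1466
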