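import Groth.Statements.S14663
import Groth.Agent.L22.SymHilb.Main

set_option autoImplicit false
set_option backward.isDefEq.respectTransparency false
set_option backward.isDefEq.respectTransparency.types false
universe u
open CategoryTheory CategoryTheory.Limits AlgebraicGeometry
open SymProd

namespace Groth.Agent.S14663

/-- Let S be a locally Noetherian scheme and f : C ⟶ S a proper morphism, smooth of relative dimension
1, such that every finite set of points of C lying over a single point of S is contained in an
affine open of C; let n ≥ 0 and let (Y, q, g) be an n-th symmetric power of C over S (q : C ×_S ⋯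
×_S C ⟶ Y a quotient of the n-fold fibre power by the symmetric group permuting the factors: affine,
invariant, identifying sections of O_Y with invariant sections; q ≫ g = the structure map). Then the
quotient map q is finite locally free of degree n!: finite, flat, locally of finite presentation and
of constant rank n!. (The published statement is for a flat projective family whose geometric fibres
are connected regular curves; this row assumes properness, smoothness of relative dimension 1 and
the affine-open property, which is what the proof uses.) -/
theorem result {C S Y : Scheme.{u}} [IsLocallyNoetherian S]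
    (f : C ⟶ S) [IsProper f] [SmoothOfRelativeDimension 1 f] (hAF : SymProd.IsAF f)
    (n : ℕ) (q : SymProd.fibPow f n ⟶ Y) (g : Y ⟶ S) (hq : SymProd.IsSymProd f n q g) :
    Mor2.IsFinLocFreeOfDeg (Nat.factorial n) q := by
  obtain ⟨H, Z, φ, ψ, -, -, -, -, hd, hm⟩ := Groth.L22.SymHilb.exists_iso f hAF n q g hq
  haveI : IsIso ψ.inv.left := inferInstanceAs (IsIso ((Over.forget S).map ψ.inv))
  have e : q = φ.left ≫ ψ.inv.left := by
    rw [← hm, Category.assoc, show ψ.hom.left ≫ ψ.inv.left = 𝟙 _ from congrArg CommaMorphism.left ψ.hom_inv_id]
    exact (Category.comp_id q).symm
  rw [e]
  simpa using Groth.L22.SymHilb.isFinLocFreeOfDeg_comp hd (Groth.L02.Hilb.isFinLocFreeOfDeg_one_of_isIso ψ.inv.left)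

end Groth.Agent.S14663
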