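import Groth.Statements.S14666
import Groth.Agent.L26.AV.Collapse

set_option autoImplicit false
universe u
open CategoryTheory CategoryTheory.Limits AlgebraicGeometry
open AbSch

namespace Groth.Agent.S14666

/-- Let S be a locally Noetherian scheme, ξ : X ⟶ S a proper morphism all of whose geometric fibres are
integral and for which O_S ⟶ ξ_*O_X is an isomorphism (the map Γ(U, O_S) → Γ(ξ⁻¹U, O_X) is bijective
for every open U of S), v : Y ⟶ S an arbitrary S-scheme and f : X ⟶ Y a morphism over S. Let U be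
the set of points s of S such that f sends every point of the fibre ξ⁻¹(s) to one and the same point
of Y. Then U is open in S, and for every morphism τ : T ⟶ S the base change of f to T factors
through the projection X ×_S T ⟶ T — that is, there is r : T ⟶ Y with r ≫ v = τ and fst ≫ f = snd ≫
r on X ×_S T — if and only if τ maps every point of T into U. -/
theorem result {X Y S : Scheme.{u}} [IsLocallyNoetherian S]
    (ξ : X ⟶ S) [IsProper ξ] [GeometricallyIntegral ξ]
    (h0 : ∀ U : S.Opens, Function.Bijective (ξ.app U).hom)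
    (v : Y ⟶ S) (f : X ⟶ Y) (hf : f ≫ v = ξ) :
    IsOpen {s : ↥S | ∃ y : ↥Y, ∀ x : ↥X, ξ.base x = s → f.base x = y} ∧
    ∀ (T : Scheme.{u}) (τ : T ⟶ S),
      ((∃ r : T ⟶ Y, r ≫ v = τ ∧ pullback.fst ξ τ ≫ f = pullback.snd ξ τ ≫ r) ↔
        ∀ t : ↥T, τ.base t ∈ {s : ↥S | ∃ y : ↥Y, ∀ x : ↥X, ξ.base x = s → f.base x = y}) := by
  have hiso : ∀ U : S.Opens, IsIso (ξ.app U) := fun U => (ConcreteCategory.isIso_iff_bijective _).2 (h0 U)
  obtain ⟨U, k, hU, hk⟩ := Groth.Agent.AV.exists_isOpen_collapsed_desc ξ hiso f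
  rw [← Groth.Agent.AV.collapsed_eq_setOf ξ f]
  refine ⟨hU ▸ U.2, fun T τ => ⟨fun ⟨r, hr, hr'⟩ t x x' hx hx' => ?_, fun hT => ?_⟩⟩
  · obtain ⟨p, hp, hpt⟩ := Scheme.Pullback.exists_preimage_pullback x t hx
    obtain ⟨p', hp', hpt'⟩ := Scheme.Pullback.exists_preimage_pullback x' t hx'
    rw [← hp, ← hp', ← Scheme.Hom.comp_apply, ← Scheme.Hom.comp_apply, hr', Scheme.Hom.comp_apply,
      Scheme.Hom.comp_apply, hpt, hpt']
  · have hrange : Set.range τ ⊆ Set.range U.ι := by
      rw [Scheme.Opens.range_ι, hU]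
      rintro _ ⟨t, rfl⟩
      exact hT t
    let τ' := IsOpenImmersion.lift U.ι τ hrange
    have hτ' : τ' ≫ U.ι = τ := IsOpenImmersion.lift_fac _ _ _
    have H := isPullback_morphismRestrict ξ U
    let l := H.lift (pullback.snd ξ τ ≫ τ') (pullback.fst ξ τ) (by
      rw [Category.assoc, hτ', pullback.condition])
    have hl : l ≫ (ξ ⁻¹ᵁ U).ι = pullback.fst ξ τ := H.lift_snd _ _ _
    have hl' : l ≫ (ξ ∣_ U) = pullback.snd ξ τ ≫ τ' := H.lift_fst _ _ _
    have := Groth.Agent.AV.epi_of_app_iso ξ hiso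
    refine ⟨τ' ≫ k, ?_, by rw [← hl, Category.assoc, hk, reassoc_of% hl']⟩
    have hkv : k ≫ v = U.ι := by
      have : UniversallyClosed (ξ ∣_ U) :=
        MorphismProperty.of_isPullback H.flip (inferInstanceAs (UniversallyClosed ξ))
      have := Groth.Agent.AV.epi_of_app_iso (ξ ∣_ U) (Groth.Agent.AV.isIso_app_restrict ξ hiso U)
      rw [← cancel_epi (ξ ∣_ U), ← Category.assoc, ← hk, Category.assoc, hf, morphismRestrict_ι]
    rw [Category.assoc, hkv, hτ']

end Groth.Agent.S14666
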