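import Groth.Statements.S14667
import Groth.Agent.L26.AV.RelMain

set_option autoImplicit false
universe u
open CategoryTheory CategoryTheory.Limits AlgebraicGeometry
open AbSch

namespace Groth.Agent.S14667

/-- Let S be a locally Noetherian scheme, ξ : X ⟶ S a proper flat morphism all of whose geometric fibres
are integral, v : Y ⟶ S a separated morphism and f : X ⟶ Y a morphism over S. Then the set U of
points s of S such that f sends every point of the fibre ξ⁻¹(s) to one and the same point of Y is
closed and open in S. (Under flatness the condition that O_S ⟶ ξ_*O_X be an isomorphism, assumed for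
openness in the non-flat case, holds automatically.) -/
theorem result {X Y S : Scheme.{u}} [IsLocallyNoetherian S]
    (ξ : X ⟶ S) [IsProper ξ] [Flat ξ] [GeometricallyIntegral ξ]
    (v : Y ⟶ S) [IsSeparated v] (f : X ⟶ Y) (hf : f ≫ v = ξ) :
    IsClosed {s : ↥S | ∃ y : ↥Y, ∀ x : ↥X, ξ.base x = s → f.base x = y} ∧ IsOpen {s : ↥S | ∃ y : ↥Y, ∀ x : ↥X, ξ.base x = s → f.base x = y} := by
  rw [← Groth.Agent.AV.collapsed_eq_setOf ξ f]
  exact Groth.Agent.AV.isClopen_collapsed ξ (fun s => Groth.Agent.AV.fibConst_of_geometrically ξ s) v f hf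

end Groth.Agent.S14667
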