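import Groth.Statements.S14668
import Groth.Agent.L26.Weil.AffineConst
import Groth.Agent.L26.AV.NonNoethRigidity
import Groth.Agent.L16.ProjSpace.Basic
import Groth.Agent.L20.GeomFibre
import Groth.Agent.L23.SchemeFacts

set_option autoImplicit false
universe u
open CategoryTheory CategoryTheory.Limits MonoidalCategory CartesianMonoidalCategory MonObj GrpObj AlgebraicGeometry
open AbSch

namespace Groth.Agent.S14668

open Groth.L16.ProjSpace in
/-- A morphism from projective space over a field to a proper group is constant. -/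
theorem projSpace_const {K : Type u} [Field K] (n : ℕ) (A : Over (Spec (CommRingCat.of K))) [GrpObj A]
    [IsProper A.hom] (g : CohB1.ProjSpace n K ⟶ A.left)
    (hg : g ≫ A.hom = CohB1.ProjSpace.toSpec n K) :
    ∃ a : 𝟙_ (Over (Spec (CommRingCat.of K))) ⟶ A, g = CohB1.ProjSpace.toSpec n K ≫ a.left := by
  let m : Type u := ULift.{u} (ChartVar n (0 : Fin (n + 1)))
  let R : CommRingCat.{u} := CommRingCat.of K
  let ren : MvPolynomial (ChartVar n (0 : Fin (n + 1))) K ≃ₐ[K] MvPolynomial m K :=
    MvPolynomial.renameEquiv K Equiv.ulift.symm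
  let ι₀ : Spec (CommRingCat.of (MvPolynomial m K)) ⟶ CohB1.ProjSpace n K :=
    Spec.map (CommRingCat.ofHom ren.toRingEquiv.toRingHom) ≫ chart n K 0
  haveI : IsIso (Spec.map (CommRingCat.ofHom ren.toRingEquiv.toRingHom)) :=
    inferInstanceAs (IsIso (Scheme.Spec.map ren.toRingEquiv.toCommRingCatIso.hom.op))
  let j : 𝔸(m; Spec R) ⟶ CohB1.ProjSpace n K := (AffineSpace.SpecIso m R).hom ≫ ι₀
  have hι₀ : ι₀ ≫ CohB1.ProjSpace.toSpec n K = Spec.map (CommRingCat.ofHom MvPolynomial.C) := by
    rw [Category.assoc, chart_toSpec, ← Spec.map_comp]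
    congr 1
    exact CommRingCat.hom_ext (RingHom.ext fun c => ren.commutes c)
  have hj : j ≫ CohB1.ProjSpace.toSpec n K = 𝔸(m; Spec R) ↘ Spec R := by
    rw [Category.assoc, hι₀, ← cancel_epi (AffineSpace.SpecIso m R).inv, Iso.inv_hom_id_assoc,
      AffineSpace.SpecIso_inv_over]
  let g' : Groth.L26.Weil.aff K m ⟶ A := Over.homMk (j ≫ g) (by
    rw [Category.assoc, hg]
    exact hj)
  have h := congrArg (fun φ : Groth.L26.Weil.aff K m ⟶ A => φ.left)
    (Groth.L26.Weil.affineSpace_const g')
  simp only [g', Over.comp_left, Over.homMk_left, Over.toUnit_left] at h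
  refine ⟨Groth.L26.Weil.affPt (fun _ => 0) ≫ g', ?_⟩
  haveI : IsDominant j := ⟨j.isOpenEmbedding.isOpen_range.dense (Set.range_nonempty j)⟩
  refine ext_of_isDominant_of_isSeparated A.hom ?_ j ?_
  · rw [hg, Category.assoc, Over.w]
    exact (Category.comp_id _).symm
  · rw [← Category.assoc, hj]
    exact h

/-- Geometric connectedness and reducedness of the projective-space fibres. -/
theorem geometrically_of_fibres {S P : Scheme.{u}} (p : P ⟶ S)
    (hP : ∀ (K : Type u) [Field K] [IsAlgClosed K] (s : Spec (CommRingCat.of K) ⟶ S),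
      ∃ (n : ℕ) (e : Limits.pullback p s ≅ CohB1.ProjSpace n K),
        e.hom ≫ CohB1.ProjSpace.toSpec n K = Limits.pullback.snd p s) :
    GeometricallyConnected p ∧ GeometricallyReduced p := by
  have key : ∀ (L : Type u) [Field L] (y : Spec (CommRingCat.of L) ⟶ S),
      ConnectedSpace ↥(Limits.pullback p y) ∧ IsReduced (Limits.pullback p y) := fun L _ y => by
    let c : Spec (CommRingCat.of (AlgebraicClosure L)) ⟶ Spec (CommRingCat.of L) :=
      Spec.map (CommRingCat.ofHom (algebraMap L (AlgebraicClosure L)))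
    haveI : Surjective c := ⟨fun t => ⟨(⟨⊥, Ideal.isPrime_bot⟩ : PrimeSpectrum (AlgebraicClosure L)),
      @Subsingleton.elim _ (inferInstanceAs (Subsingleton (PrimeSpectrum L))) _ _⟩⟩
    haveI : Flat c := by
      rw [HasRingHomProperty.Spec_iff (P := @Flat), CommRingCat.hom_ofHom]
      exact RingHom.flat_algebraMap_iff.mpr inferInstance
    obtain ⟨n, e, -⟩ := hP (AlgebraicClosure L) (c ≫ y)
    let π : Limits.pullback p (c ≫ y) ⟶ Limits.pullback p y :=
      Limits.pullback.lift (Limits.pullback.fst _ _) (Limits.pullback.snd _ _ ≫ c)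
        (by rw [Limits.pullback.condition, Category.assoc])
    have hsq : IsPullback π (Limits.pullback.snd p (c ≫ y)) (Limits.pullback.snd p y) c := by
      refine IsPullback.of_right (h₁₂ := Limits.pullback.fst p y) ?_ (Limits.pullback.lift_snd _ _ _)
        (IsPullback.of_hasPullback p y)
      rw [Limits.pullback.lift_fst]
      exact IsPullback.of_hasPullback p (c ≫ y)
    haveI : Surjective π := MorphismProperty.of_isPullback hsq.flip ‹Surjective c›
    haveI : Flat π := MorphismProperty.of_isPullback hsq.flip ‹Flat c›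
    haveI : Nonempty ↥(Limits.pullback p (c ≫ y)) := ⟨e.inv (Groth.L16.ProjSpace.genericPt n _)⟩
    haveI : IsIntegral (Limits.pullback p (c ≫ y)) := isIntegral_of_isOpenImmersion e.hom
    exact ⟨π.surjective.connectedSpace π.continuous, Groth.L20.isReduced_of_surjective_of_flat π⟩
  exact ⟨⟨geometrically_iff_of_isClosedUnderIsomorphisms.mpr fun L _ y => (key L y).1⟩,
    ⟨geometrically_iff_of_isClosedUnderIsomorphisms.mpr fun L _ y => (key L y).2⟩⟩

/-- Let S be a locally Noetherian scheme, A an abelian scheme over S (an S-group scheme whose structure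
morphism is proper and flat with geometrically integral fibres), and P an S-scheme whose structure
morphism is proper and flat and whose geometric fibres are projective spaces: for every
algebraically closed field K and every K-point of S, the fibre P ×_S Spec K is isomorphic over Spec
K to projective n-space over K for some n. Then every S-morphism P ⟶ A factors through the structure
morphism of P: it is the composite of P ⟶ S with a section S ⟶ A. -/
theorem result {S : Scheme.{u}} [IsLocallyNoetherian S]
    (A : Over S) [GrpObj A] [IsProper A.hom] [Flat A.hom] [GeometricallyIntegral A.hom]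
    (P : Over S) [IsProper P.hom] [Flat P.hom]
    (hP : ∀ (K : Type u) [Field K] [IsAlgClosed K] (s : Spec (CommRingCat.of K) ⟶ S),
      ∃ (n : ℕ) (e : pullback P.hom s ≅ CohB1.ProjSpace n K), e.hom ≫ CohB1.ProjSpace.toSpec n K = pullback.snd P.hom s)
    (φ : P ⟶ A) :
    ∃ a : 𝟙_ (Over S) ⟶ A, φ = toUnit P ≫ a := by
  obtain ⟨h1, h2⟩ := geometrically_of_fibres P.hom hP
  haveI := Groth.L23.lfp_of_lft_locallyNoetherian P.hom
  suffices h : Groth.Agent.AV.collapsed P.hom φ.left = Set.univ by
    obtain ⟨k, hk⟩ := Groth.Agent.AV.exists_factor_of_collapsed_univ P.hom φ.left h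
    refine ⟨Over.homMk k ?_, Over.OverMorphism.ext hk⟩
    rw [← cancel_epi P.hom, ← Category.assoc, ← hk, Over.w]
    exact (Category.comp_id _).symm
  refine Set.eq_univ_of_forall fun s x x' hx hx' => ?_
  let K := AlgebraicClosure (S.residueField s)
  let y : Spec (CommRingCat.of K) ⟶ S :=
    Spec.map (CommRingCat.ofHom (algebraMap (S.residueField s) K)) ≫ S.fromSpecResidueField s
  have hy : ∀ t, y t = s := fun t => by
    rw [Scheme.Hom.comp_apply]
    exact S.fromSpecResidueField_apply s _
  obtain ⟨n, e, he⟩ := hP K y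
  let F := Over.pullback y
  letI : GrpObj (F.obj A) := Functor.grpObjObj
  haveI : IsProper (F.obj A).hom := inferInstanceAs (IsProper (Limits.pullback.snd A.hom y))
  obtain ⟨a, ha⟩ := projSpace_const n (F.obj A) (e.inv ≫ (F.map φ).left) (by
    rw [Category.assoc, Over.w (F.map φ)]
    show e.inv ≫ Limits.pullback.snd P.hom y = _
    rw [← he, Iso.inv_hom_id_assoc])
  have hF : (F.map φ).left ≫ Limits.pullback.fst A.hom y = Limits.pullback.fst P.hom y ≫ φ.left :=
    Limits.pullback.lift_fst _ _ _
  have hconst : Limits.pullback.fst P.hom y ≫ φ.left =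
      Limits.pullback.snd P.hom y ≫ a.left ≫ Limits.pullback.fst A.hom y := by
    rw [← hF, ← he, Category.assoc, ← Category.assoc (CohB1.ProjSpace.toSpec n K) a.left]
    rw [← ha, Category.assoc, Iso.hom_inv_id_assoc]
  let t₀ : Spec (CommRingCat.of K) := (⟨⊥, Ideal.isPrime_bot⟩ : PrimeSpectrum K)
  have hval : ∀ z, P.hom z = s → φ.left z = (a.left ≫ Limits.pullback.fst A.hom y) t₀ := fun z hz => by
    obtain ⟨w, hw, -⟩ := Scheme.Pullback.exists_preimage_pullback (f := P.hom) (g := y) z t₀
      (hz.trans (hy t₀).symm)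
    rw [← hw, ← Scheme.Hom.comp_apply, hconst, Scheme.Hom.comp_apply]
    exact congrArg _ (@Subsingleton.elim _ (inferInstanceAs (Subsingleton (PrimeSpectrum K))) _ _)
  rw [hval x hx, hval x' hx']

end Groth.Agent.S14668
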