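import Groth.Statements.S14669
import Groth.Agent.L26.AV.TorsPts
import Groth.Agent.S0382

set_option autoImplicit false
universe u
open CategoryTheory CategoryTheory.Limits MonoidalCategory CartesianMonoidalCategory MonObj GrpObj AlgebraicGeometry
open AbVar

namespace Groth.Agent.S14669

open CategoryTheory CategoryTheory.Limits MonoidalCategory CartesianMonoidalCategory MonObj AlgebraicGeometry

/-- Let k be an algebraically closed field, A an abelian variety over k (a proper, geometrically
integral, commutative group scheme over k) of dimension g, and n ≥ 1 an integer. Then the group A(k)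
of k-points of A is n-divisible, the number of k-points of A killed by n divides n^(2g), and this
number equals n^(2g) if and only if n is not a multiple of the characteristic of k, i.e. n is
nonzero in k. (The published statement allows g = 0; for A = Spec k and n divisible by the
characteristic the last equivalence fails, and the printed proof uses that Ω_{A/k} has positive
rank, so positive dimension is assumed here.) -/
theorem result (k : Type u) [Field k] [IsAlgClosed k]
    (A : Over (Spec (CommRingCat.of k)))
    [GrpObj A] [IsCommMonObj A] [IsProper A.hom] [GeometricallyIntegral A.hom]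
    (g : ℕ) (hg : topologicalKrullDim A.left = g) (hg0 : 0 < g) (n : ℕ) (hn : 0 < n) :
    (∀ a : (𝟙_ (Over (Spec (CommRingCat.of k)))) ⟶ A, ∃ b : (𝟙_ (Over (Spec (CommRingCat.of k)))) ⟶ A, b ^ n = a) ∧
    Nat.card ↥(AbDual.torsPts A n (𝟙_ (Over (Spec (CommRingCat.of k))))) ∣ n ^ (2 * g) ∧
    (Nat.card ↥(AbDual.torsPts A n (𝟙_ (Over (Spec (CommRingCat.of k))))) = n ^ (2 * g) ↔ (n : k) ≠ 0) := by
  refine ⟨fun a => Groth.Agent.AV.TorsPts.exists_pow_eq hn a, ?_, ?_⟩
  · clear hg0
    induction n using Nat.recOnPrimeCoprime with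
    | zero => exact absurd hn (lt_irrefl 0)
    | prime_pow p e hp =>
      haveI : Fact p.Prime := ⟨hp⟩
      haveI := Groth.Agent.AV.TorsPts.finite_torsPts (A := A) hp.one_lt.le
      haveI : NeZero (p ^ e) := ⟨by omega⟩
      have hm := Groth.Agent.AV.TorsStructure.card_eq_of_model
        (Groth.Agent.AV.TorsStructure.model_primePow
          (fun Q => Groth.Agent.AV.TorsPts.exists_pow_eq (A := A) hp.one_lt.le Q) e)
      have hle := (Groth.Agent.AV.TorsPts.card_torsPts_le (A := A) (n := p ^ e) hn hg).1
      change Nat.card ↥(AbDual.torsPts A (p ^ e) (Groth.Agent.AV.TorsPts.ptk k)) ∣ _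
      rw [hm, ← pow_mul, ← pow_mul] at hle
      rw [hm, ← pow_mul, ← pow_mul]
      exact pow_dvd_pow p ((Nat.pow_le_pow_iff_right hp.one_lt).1 hle)
    | coprime a c ha hc hac iha ihc =>
      rw [Groth.Agent.AV.TorsStructure.card_mul hac, mul_pow]
      exact Nat.mul_dvd_mul (iha (by omega)) (ihc (by omega))
  · refine ⟨fun h => ?_, fun h => Groth.Agent.AV.TorsCard.card_torsPts hg n h⟩
    haveI := (Groth.Agent.AV.TorsPts.card_torsPts_le (A := A) (n := n) hn hg).2 h
    obtain ⟨_, _, _, _⟩ := Groth.Agent.AV.Degree.isogeny_pow (A := A) (n := n) hn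
    haveI : IsMonHom (𝟙 A ^ n) := Groth.Agent.AV.Isogeny.isMonHom_pow n
    let N := pullback (𝟙 A ^ n) η[A]
    have hN : IsPullback (pullback.fst (𝟙 A ^ n) η[A]) (toUnit N) (𝟙 A ^ n) η[A] := by
      rw [toUnit_unique (toUnit N) (pullback.snd (𝟙 A ^ n) η[A])]
      exact IsPullback.of_hasPullback _ _
    have h2 := (Groth.L15.KerFlat.isPullback_kernelPair hN).map (Over.forget _)
    have h3 : Etale (fst A N).left := MorphismProperty.pullback_fst A.hom N.hom inferInstance
    have h4 : Etale (𝟙 A ^ n).left := MorphismProperty.of_isPullback_of_descendsAlong (P := @Etale)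
      (Q := @Surjective ⊓ @Flat ⊓ @QuasiCompact) h2
      ⟨⟨(show Surjective (𝟙 A ^ n).left from inferInstance), (show Flat (𝟙 A ^ n).left from inferInstance)⟩,
        (show QuasiCompact (𝟙 A ^ n).left from inferInstance)⟩ h3
    have h5 := (Groth.Agent.S0382.result k A (by rw [hg]; exact_mod_cast hg0) (n : ℤ)).1 (by
      rwa [zpow_natCast])
    exact_mod_cast h5

end Groth.Agent.S14669
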