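import Groth.Statements.S1467
import Groth.Agent.L20.StrictHensWE
import Groth.Agent.S1412

set_option autoImplicit false
universe u
open FlatMor

namespace Groth.Agent.S1467

open AlgebraicGeometry CategoryTheory Limits in
/-- A morphism f : X → Y is weakly étale if and only if, for every point x of X, strict henselizations
of the local rings at f x and at x coincide under the stalk map: every strict henselization of O_{X,
x} is, through the composite map O_{Y, f x} → O_{X, x} → (strict henselization), a strict
henselization of O_{Y, f x}. -/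
theorem result {X Y : Scheme.{u}} (f : X ⟶ Y) :
    WeaklyEtale f ↔ ∀ (x : X) (R : Type u) [CommRing R] [IsLocalRing R] [Algebra ↑(X.presheaf.stalk x) R]
      [IsLocalHom (algebraMap ↑(X.presheaf.stalk x) R)] [Hensel.IsStrictHenselization ↑(X.presheaf.stalk x) R],
      letI : Algebra ↑(Y.presheaf.stalk (f x)) R := ((algebraMap ↑(X.presheaf.stalk x) R).comp (f.stalkMap x).hom).toAlgebra
      ∃ _ : IsLocalHom (algebraMap ↑(Y.presheaf.stalk (f x)) R), Hensel.IsStrictHenselization ↑(Y.presheaf.stalk (f x)) R := by
  rw [Groth.Agent.S1412.result f]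
  refine forall_congr' fun x => ?_
  let _ := (f.stalkMap x).hom.toAlgebra
  have : IsLocalHom (algebraMap (Y.presheaf.stalk (f x)) (X.presheaf.stalk x)) :=
    inferInstanceAs (IsLocalHom (f.stalkMap x).hom)
  refine Iff.trans ?_ (Groth.L20.StrictHensWE.weaklyEtale_iff (Y.presheaf.stalk (f x)) (X.presheaf.stalk x))
  exact ⟨fun ⟨h1, h2⟩ => ⟨h1, h2⟩, fun h => ⟨h.flat, h.flat_lmul'⟩⟩

end Groth.Agent.S1467
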