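import Groth.Statements.S14670
import Groth.Agent.L13.Wild.Kunz
import Groth.Agent.L12.RegLift
import Groth.Agent.L04.RegularPd
import Groth.Agent.L03.RegularNormal
import Mathlib.RingTheory.Flat.Localization
import Mathlib.RingTheory.IntegralClosure.GoingDown
import Mathlib.RingTheory.Ideal.KrullsHeightTheorem

set_option autoImplicit false
universe u
open CAlg

namespace Groth.Agent.S14670

open IsLocalRing


/-- Let R be a regular local ring and S an integral domain containing R as a subring over which it is a
finitely generated module, such that the localization of S at each of its maximal ideals is a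
Cohen–Macaulay local ring. Then S is a flat R-module. (The published statement does not require S to
be a domain; in that generality it fails — for a discrete valuation ring R with residue field κ the
ring R × κ contains R diagonally, is finite over R with Cohen–Macaulay localizations, and is not
flat — and the printed argument needs every maximal ideal of S to have height dim R, which holds
when S is a domain by going down.) -/
theorem result (R S : Type u) [CommRing R] [CommRing S]
    [IsRegularLocalRing R] [IsDomain S] [Algebra R S] [Module.Finite R S]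
    (hinj : Function.Injective (algebraMap R S))
    (hCM : ∀ (q : Ideal S) [q.IsMaximal], LocCoh.IsCohenMacaulayLocalRing (Localization.AtPrime q)) :
    Module.Flat R S := by
  classical
  haveI : IsDomain R := Groth.L01.isDomain_of_regular R
  haveI : IsIntegrallyClosed R := Groth.L03.RegularNormal.isIntegrallyClosed R
  haveI : FaithfulSMul R S := (faithfulSMul_iff_algebraMap_injective R S).2 hinj
  haveI : Algebra.IsIntegral R S := Algebra.IsIntegral.of_finite R S
  haveI : IsNoetherianRing S := IsNoetherianRing.of_finite R S
  obtain ⟨d, hd⟩ := Groth.L01.exists_dim_eq_nat (R := R)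
  obtain ⟨rs, hlen, hreg, hgen⟩ := Groth.L04.exists_regular_generators hd
  refine Module.flat_of_isLocalized_maximal S S (fun P => Localization.AtPrime P)
    (fun P _ => Algebra.linearMap S (Localization.AtPrime P)) fun q hq => ?_
  haveI := hCM q
  let L := Localization.AtPrime q
  have hover : q.comap (algebraMap R S) = maximalIdeal R :=
    IsLocalRing.eq_maximalIdeal (Ideal.isMaximal_comap_of_isIntegral_of_isMaximal q)
  haveI : q.LiesOver (maximalIdeal R) := ⟨hover.symm⟩
  haveI hloc : IsLocalHom (algebraMap R L) := ⟨fun x hx => by
    by_contra hu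
    have hxq : algebraMap R S x ∈ q := by
      have : x ∈ q.comap (algebraMap R S) := hover.symm ▸ hu
      exact this
    rw [IsScalarTower.algebraMap_apply R S L] at hx
    exact (IsLocalization.AtPrime.isUnit_to_map_iff L q (algebraMap R S x)).1 hx hxq⟩
  have hdimL : ringKrullDim L = (d : WithBot ℕ∞) := by
    rw [IsLocalization.AtPrime.ringKrullDim_eq_height q L,
      Ideal.height_eq_height_add_of_liesOver_of_hasGoingDown (maximalIdeal R) q,
      ← hd, ← maximalIdeal_height_eq_ringKrullDim]
    haveI : Ring.KrullDimLE 0 (S ⧸ (maximalIdeal R).map (algebraMap R S)) := by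
      rw [Ring.krullDimLE_zero_iff]
      intro J hJ
      haveI := hJ
      let J₁ := J.comap (Ideal.Quotient.mk ((maximalIdeal R).map (algebraMap R S)))
      haveI : (J₁.comap (algebraMap R S)).IsMaximal := by
        have hle : maximalIdeal R ≤ J₁.comap (algebraMap R S) := fun x hx => by
          show Ideal.Quotient.mk _ (algebraMap R S x) ∈ J
          rw [Ideal.Quotient.eq_zero_iff_mem.2 (Ideal.mem_map_of_mem _ hx)]
          exact zero_mem _
        rw [← (IsLocalRing.maximalIdeal.isMaximal R).eq_of_le (inferInstance : (J₁.comap (algebraMap R S)).IsPrime).ne_top hle]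
        exact IsLocalRing.maximalIdeal.isMaximal R
      haveI : J₁.IsMaximal := Ideal.isMaximal_of_isIntegral_of_isMaximal_comap (R := R) J₁ inferInstance
      have : J = J₁.map (Ideal.Quotient.mk _) := (Ideal.map_comap_of_surjective _ Ideal.Quotient.mk_surjective J).symm
      rw [this]
      exact ((Ideal.map_eq_top_or_isMaximal_of_surjective _ Ideal.Quotient.mk_surjective inferInstance).resolve_left
        (this ▸ hJ.ne_top))
    have h0 : (q.map (Ideal.Quotient.mk ((maximalIdeal R).map (algebraMap R S)))).height = 0 := by
      have hle : (maximalIdeal R).map (algebraMap R S) ≤ q := Ideal.map_le_iff_le_comap.2 hover.ge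
      haveI := Ideal.map_isPrime_of_surjective (I := q) Ideal.Quotient.mk_surjective
        (show RingHom.ker (Ideal.Quotient.mk ((maximalIdeal R).map (algebraMap R S))) ≤ q by rw [Ideal.mk_ker]; exact hle)
      refine le_antisymm ?_ bot_le
      have h1 := Ideal.height_le_ringKrullDim_of_ne_top (Ideal.IsPrime.ne_top (I := q.map (Ideal.Quotient.mk ((maximalIdeal R).map (algebraMap R S)))) inferInstance)
      exact_mod_cast h1.trans (Ring.krullDimLE_iff.1 inferInstance)
    rw [h0, add_zero]
  refine Groth.L13.Wild.Kunz.flat_of_isWeaklyRegular _ R L rs rfl hgen hreg.toIsWeaklyRegular ?_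
  refine (RingTheory.Sequence.isWeaklyRegular_map_algebraMap_iff L L rs).1 ?_
  have hmemL : ∀ z ∈ rs.map (algebraMap R L), z ∈ maximalIdeal L := by
    intro z hz
    obtain ⟨r, hr, rfl⟩ := List.mem_map.1 hz
    exact map_nonunit (algebraMap R L) r (hgen ▸ Ideal.subset_span hr : r ∈ maximalIdeal R)
  refine Groth.L12.RegLift.isWeaklyRegular_of_dim _ hmemL ?_
  have hz : ringKrullDim (L ⧸ Ideal.ofList (rs.map (algebraMap R L))) = 0 := by
    haveI : Nontrivial (L ⧸ Ideal.ofList (rs.map (algebraMap R L))) := Ideal.Quotient.nontrivial_iff.2
      (ne_top_of_le_ne_top (maximalIdeal.isMaximal L).ne_top (Ideal.span_le.2 hmemL))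
    haveI : Ring.KrullDimLE 0 (L ⧸ Ideal.ofList (rs.map (algebraMap R L))) := by
      rw [Ring.krullDimLE_zero_iff]
      intro J hJ
      haveI := hJ
      let J₁ := J.comap (Ideal.Quotient.mk (Ideal.ofList (rs.map (algebraMap R L))))
      let J₂ := J₁.comap (algebraMap S L)
      have hle : maximalIdeal R ≤ J₂.comap (algebraMap R S) := fun x hx => by
        show Ideal.Quotient.mk _ (algebraMap S L (algebraMap R S x)) ∈ J
        rw [← IsScalarTower.algebraMap_apply, Ideal.Quotient.eq_zero_iff_mem.2 (by
          rw [← Ideal.map_ofList, hgen]; exact Ideal.mem_map_of_mem _ hx)]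
        exact zero_mem _
      haveI : (J₂.comap (algebraMap R S)).IsMaximal := by
        rw [← (IsLocalRing.maximalIdeal.isMaximal R).eq_of_le (inferInstance : (J₂.comap (algebraMap R S)).IsPrime).ne_top hle]
        exact IsLocalRing.maximalIdeal.isMaximal R
      have hJ2 : J₂.IsMaximal := Ideal.isMaximal_of_isIntegral_of_isMaximal_comap (R := R) J₂ inferInstance
      have hsub : J₂ ≤ q := fun x hx => by
        by_contra hxq
        exact (inferInstance : J₁.IsPrime).ne_top (Ideal.eq_top_of_isUnit_mem _ hx
          (IsLocalization.map_units L (⟨x, hxq⟩ : q.primeCompl)))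
      have hJ1 : J₁ = maximalIdeal L := by
        rw [← IsLocalization.map_under q.primeCompl L J₁, ← Localization.AtPrime.map_eq_maximalIdeal]
        exact congrArg (Ideal.map (algebraMap S L)) (hJ2.eq_of_le (Ideal.IsPrime.ne_top inferInstance) hsub)
      have : J = J₁.map (Ideal.Quotient.mk _) := (Ideal.map_comap_of_surjective _ Ideal.Quotient.mk_surjective J).symm
      rw [this]
      haveI hJ1max : J₁.IsMaximal := hJ1 ▸ maximalIdeal.isMaximal L
      exact ((Ideal.map_eq_top_or_isMaximal_of_surjective _ Ideal.Quotient.mk_surjective inferInstance).resolve_left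
        (this ▸ hJ.ne_top))
    exact le_antisymm (Ring.krullDimLE_iff.1 inferInstance) ringKrullDim_nonneg_of_nontrivial
  rw [hz, hdimL, zero_add, List.length_map, hlen]


end Groth.Agent.S14670
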