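import Groth.Statements.S14672
import Groth.Agent.L08.SymTenFlat

set_option autoImplicit false
universe u
open scoped TensorProduct
open SymTen

namespace Groth.Agent.S14672

/-- Let R be a commutative ring, f : M → N a surjective R-linear map whose target N is flat over R, and
n ≥ 0. Then the induced map on symmetric tensors of degree n is surjective: every element of the
n-fold tensor power of N over R which is fixed by every permutation of the factors is the image,
under the n-fold tensor power of f, of an element of the n-fold tensor power of M fixed by every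
permutation of the factors. -/
theorem result (R : Type u) [CommRing R] (M N : Type u) [AddCommGroup M] [Module R M]
    [AddCommGroup N] [Module R N] [Module.Flat R N] (f : M →ₗ[R] N) (hf : Function.Surjective f) (n : ℕ)
    (t : ⨂[R] _ : Fin n, N) (ht : ∀ σ : Equiv.Perm (Fin n), PiTensorProduct.reindex R (fun _ : Fin n => N) σ t = t) :
    ∃ s : ⨂[R] _ : Fin n, M, (∀ σ : Equiv.Perm (Fin n), PiTensorProduct.reindex R (fun _ : Fin n => M) σ s = s) ∧
      PiTensorProduct.map (fun _ : Fin n => f) s = t := by
  classical
  let π : (M →₀ R) →ₗ[R] M := Finsupp.linearCombination R id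
  obtain ⟨u, hu, hu'⟩ := Groth.L08.SymTenFlat.exists_lift (Finsupp.basisSingleOne (ι := M) (R := R))
    (π := f ∘ₗ π) (hf.comp Groth.L08.SymTenFlat.pres_surjective) ht
  refine ⟨Groth.L22.Gamma.tmapL n π u, Groth.L22.Gamma.tmapL_mem π hu, ?_⟩
  rw [← hu', Groth.L22.Gamma.tmapL_comp]
  rfl

end Groth.Agent.S14672
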