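import Groth.Statements.S14674
import Groth.Agent.L08.Cube.RelNPull

set_option autoImplicit false
universe u
open CategoryTheory CategoryTheory.Limits MonoidalCategory CartesianMonoidalCategory MonObj GrpObj AlgebraicGeometry
open AbSch

namespace Groth.Agent.S14674

open Groth.L08.Cube
attribute [local instance] Groth.L08.Cube.clMonoid
set_option backward.isDefEq.respectTransparency false

/-- Let S be a locally Noetherian scheme, X an abelian scheme over S (an S-group scheme whose structure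
morphism α is proper and flat with geometrically integral fibres) with unit section e : S ⟶ X, L an
invertible O_X-module and n an integer; write [n] for the n-th multiple of the identity in the group
of S-endomorphisms of X. Then [n]^*L ⊗ α^*(e^*L)^{⊗ n²} is isomorphic to L^{⊗(n²+n)/2} ⊗
[-1]^*L^{⊗(n²−n)/2} ⊗ α^*e^*L; equivalently [n]^*L ≅ L^{⊗(n²+n)/2} ⊗ [-1]^*L^{⊗(n²−n)/2} ⊗
[0]^*L^{⊗(1−n²)} with [0]^*L = α^*e^*L (existence of an isomorphism of O_X-modules only). -/
theorem result {S : Scheme.{u}} [IsLocallyNoetherian S] (X : Over S) [GrpObj X] [IsProper X.hom] [Flat X.hom] [GeometricallyIntegral X.hom]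
    (L : X.left.Modules) (hL : PicF.IsInvertible L) (n : ℤ) :
    Nonempty (CohB1.tensorMod ((Scheme.Modules.pullback (𝟙 X ^ n).left).obj L)
        ((Scheme.Modules.pullback X.hom).obj (CohB1.tensorPow ((Scheme.Modules.pullback (η[X]).left).obj L) (n.natAbs ^ 2))) ≅
      CohB1.tensorMod (CohB1.tensorMod (CohB1.tensorPow L ((n ^ 2 + n) / 2).toNat)
          ((Scheme.Modules.pullback (𝟙 X ^ (-1 : ℤ)).left).obj (CohB1.tensorPow L ((n ^ 2 - n) / 2).toNat)))
        ((Scheme.Modules.pullback X.hom).obj ((Scheme.Modules.pullback (η[X]).left).obj L))) := by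
  haveI : LocallyOfFinitePresentation X.hom := inferInstance
  haveI : GeometricallyReduced X.hom := inferInstance
  haveI : GeometricallyConnected X.hom := inferInstance
  obtain ⟨M, hM, hn⟩ := exists_pullback_zpow L hL n
  set a := ((n ^ 2 + n) / 2).toNat with ha
  set b := ((n ^ 2 - n) / 2).toNat with hb
  have hab : a + b = n.natAbs ^ 2 := by
    have e1 : (2 : ℤ) ∣ n ^ 2 + n := by
      rw [show n ^ 2 + n = n * (n + 1) by ring]; exact (Int.even_mul_succ_self n).two_dvd
    have e2 : (2 : ℤ) ∣ n ^ 2 - n := by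
      rw [show n ^ 2 - n = (n - 1) * (n - 1 + 1) by ring]; exact (Int.even_mul_succ_self _).two_dvd
    have h1 : 0 ≤ n ^ 2 + n := by nlinarith [sq_nonneg (2 * n + 1)]
    have h2 : 0 ≤ n ^ 2 - n := by nlinarith [sq_nonneg (2 * n - 1)]
    obtain ⟨x, hx⟩ := e1
    obtain ⟨y, hy⟩ := e2
    have hax : (a : ℤ) = x := by
      rw [ha, hx, Int.mul_ediv_cancel_left _ two_ne_zero, Int.toNat_of_nonneg (by omega)]
    have hby : (b : ℤ) = y := by
      rw [hb, hy, Int.mul_ediv_cancel_left _ two_ne_zero, Int.toNat_of_nonneg (by omega)]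
    zify
    rw [hax, hby, sq_abs]
    linarith
  let η' : S ⟶ X.left := η[X].left
  let e : PicF.Cl S := PicF.pullCl η' (PicF.cl L)
  have h1η : (1 : 𝟙_ (Over S) ⟶ X) = η[X] := by rw [Hom.one_def, toUnit_unit, Category.id_comp]
  have key : PicF.cl M * e ^ (a + b) = e := by
    have h1 := congrArg (PicF.pullCl η') hn
    have hη : ∀ m : ℤ, η' ≫ (𝟙 X ^ m).left = η' := fun m => by
      show η[X].left ≫ _ = η[X].left
      rw [← Over.comp_left, GrpObj.comp_zpow, Category.comp_id, ← h1η, one_zpow]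
    have hpow : ∀ (c : PicF.Cl X.left) (m : ℕ), PicF.pullCl η' (c ^ m) = PicF.pullCl η' c ^ m :=
      fun c m => map_pow (pullClHom η') c m
    rw [pullCl_mul, pullCl_mul, hpow, hpow, ← PicLoc.pullCl_comp, hη] at h1
    change PicF.pullCl η' (PicF.pullCl (𝟙 X ^ n).left (PicF.cl L)) = e ^ a * e ^ b * PicF.pullCl η' (PicF.pullCl X.hom (PicF.cl M)) at h1
    rw [← PicLoc.pullCl_comp, hη, ← PicLoc.pullCl_comp, show η' ≫ X.hom = 𝟙 S from Over.w η[X], pullCl_id, ← pow_add] at h1
    rw [_root_.mul_comm]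
    exact h1.symm
  rw [← PicGrp.cl_eq_cl_iff]
  show PicF.cl ((Scheme.Modules.pullback (𝟙 X ^ n).left).obj L) *
      PicF.pullCl X.hom (PicF.cl (CohB1.tensorPow ((Scheme.Modules.pullback η').obj L) (n.natAbs ^ 2))) =
    PicF.cl (CohB1.tensorPow L a) *
        PicF.pullCl (𝟙 X ^ (-1 : ℤ)).left (PicF.cl (CohB1.tensorPow L b)) * PicF.pullCl X.hom e
  have hpow : ∀ {Y Z : Scheme.{u}} (g : Z ⟶ Y) (c : PicF.Cl Y) (m : ℕ),
      PicF.pullCl g (c ^ m) = PicF.pullCl g c ^ m := fun g c m => map_pow (pullClHom g) c m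
  rw [hn, cl_tensorPow, cl_tensorPow, cl_tensorPow, hpow (𝟙 X ^ (-1 : ℤ)).left, _root_.mul_assoc]
  refine congrArg _ ?_
  show PicF.pullCl X.hom (PicF.cl M) * PicF.pullCl X.hom (e ^ (n.natAbs ^ 2)) = PicF.pullCl X.hom e
  rw [← pullCl_mul, ← hab, key]

end Groth.Agent.S14674
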