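import Groth.Statements.S14676
import Mathlib.Algebra.Polynomial.Identities
import Mathlib.Algebra.Polynomial.Div
import Mathlib.Tactic.LinearCombination
import Mathlib.RingTheory.AdicCompletion.Basic
import Mathlib.RingTheory.Polynomial.Basic
import Mathlib.Algebra.Polynomial.Taylor

set_option autoImplicit false
universe u
open CAlg

namespace Groth.Agent.S14676

/-- Let A be a commutative ring which is separated and complete for the I-adic topology of an ideal I,
let P be any polynomial over A (not assumed monic) and a₀ an element of A such that P(a₀) lies in I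
and P'(a₀) is a unit modulo I. Then there is a unique a in A congruent to a₀ modulo I with P(a) = 0. -/
theorem result (A : Type u) [CommRing A] (I : Ideal A) [IsAdicComplete I A]
    (P : Polynomial A) (a₀ : A) (h₀ : P.eval a₀ ∈ I)
    (h₁ : IsUnit (Ideal.Quotient.mk I (P.derivative.eval a₀))) :
    ∃! a : A, a - a₀ ∈ I ∧ P.IsRoot a := by
  have hjac : I ≤ Ideal.jacobson (⊥ : Ideal A) := IsAdicComplete.le_jacobson_bot I
  obtain ⟨c, hc⟩ := h₁.exists_right_inv
  obtain ⟨c, rfl⟩ := Ideal.Quotient.mk_surjective c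
  let T : A → A := fun a => a - c * P.eval a
  let s : ℕ → A := fun n => T^[n] a₀
  have hexp : ∀ x y : A, ∃ k, P.eval y = P.eval x + P.derivative.eval x * (y - x) + k * (y - x) ^ 2 := by
    intro x y
    obtain ⟨k, hk⟩ := Polynomial.binomExpansion P x (y - x)

    exact ⟨k, by rwa [add_sub_cancel] at hk⟩
  have hder : ∀ a, a - a₀ ∈ I → P.derivative.eval a - P.derivative.eval a₀ ∈ I := fun a ha =>
    I.mem_of_dvd (P.derivative.sub_dvd_eval_sub a a₀) ha
  have hunit : ∀ a, a - a₀ ∈ I → 1 - P.derivative.eval a * c ∈ I := by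
    intro a ha
    rw [← Ideal.Quotient.eq_zero_iff_mem, map_sub, map_mul, map_one,
      show Ideal.Quotient.mk I (P.derivative.eval a) = Ideal.Quotient.mk I (P.derivative.eval a₀) from
        (Ideal.Quotient.mk_eq_mk_iff_sub_mem _ _).mpr (hder a ha), hc, sub_self]
  have hs : ∀ n, s n - a₀ ∈ I ∧ P.eval (s n) ∈ I ^ (n + 1) := by
    intro n
    induction n with
    | zero => exact ⟨by simp [s], by simpa [s] using h₀⟩
    | succ n ih =>
      have hnext : s (n + 1) = s n - c * P.eval (s n) := Function.iterate_succ_apply' T n a₀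
      obtain ⟨k, hk⟩ := hexp (s n) (s (n + 1))
      have hd : s (n + 1) - s n = -(c * P.eval (s n)) := by rw [hnext]; ring
      refine ⟨?_, ?_⟩
      · rw [hnext, sub_right_comm]
        exact sub_mem ih.1 (Ideal.mul_mem_left _ _ (Ideal.pow_le_self (Nat.succ_ne_zero n) ih.2))
      · rw [hk, hd, show P.eval (s n) + P.derivative.eval (s n) * -(c * P.eval (s n)) +
          k * (-(c * P.eval (s n))) ^ 2 =
          (1 - P.derivative.eval (s n) * c) * P.eval (s n) + k * c ^ 2 * P.eval (s n) ^ 2 by ring]
        refine add_mem ?_ (Ideal.mul_mem_left _ _ ?_)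
        · rw [pow_succ' I (n + 1)]
          exact Ideal.mul_mem_mul (hunit _ ih.1) ih.2
        · refine Ideal.pow_le_pow_right ?_ (by simpa [← pow_mul] using Ideal.pow_mem_pow ih.2 2)
          omega
  have hcau : ∀ n, s (n + 1) - s n ∈ I ^ (n + 1) := fun n => by
    rw [show s (n + 1) = s n - c * P.eval (s n) from Function.iterate_succ_apply' T n a₀, sub_sub_cancel_left]
    exact neg_mem (Ideal.mul_mem_left _ _ (hs n).2)
  have hcau' : ∀ {m n}, m ≤ n → s n - s m ∈ I ^ m := by
    intro m n hmn
    induction hmn with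
    | refl => simp
    | @step n hmn ih =>
      rw [← sub_add_sub_cancel _ (s n)]
      exact add_mem (Ideal.pow_le_pow_right (Nat.le_succ_of_le hmn) (hcau n)) ih
  obtain ⟨L, hL⟩ := IsPrecomplete.prec' (I := I) s fun {m n} hmn => by
    rw [SModEq.sub_mem, smul_eq_mul, Ideal.mul_top]
    simpa using neg_mem (hcau' hmn)
  have hLn : ∀ n, s n - L ∈ I ^ n := fun n => by
    simpa [SModEq.sub_mem] using hL n
  have hL0 : L - a₀ ∈ I := by
    have := sub_mem (hs 1).1 (by simpa using hLn 1 : s 1 - L ∈ I)
    simpa using this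
  have hroot : P.IsRoot L := by
    refine IsHausdorff.haus' (I := I) _ fun n => ?_
    rw [SModEq.zero, smul_eq_mul, Ideal.mul_top]
    have h1 := Ideal.mem_of_dvd _ (P.sub_dvd_eval_sub (s n) L) (hLn n)
    simpa using sub_mem (Ideal.pow_le_pow_right (Nat.le_succ n) (hs n).2) h1
  refine ⟨L, ⟨hL0, hroot⟩, fun y hy => ?_⟩
  obtain ⟨k, hk⟩ := hexp L y
  rw [hy.2, hroot, zero_add] at hk
  have hmem : 1 - (P.derivative.eval L + k * (y - L)) * c ∈ I := by
    rw [show 1 - (P.derivative.eval L + k * (y - L)) * c = (1 - P.derivative.eval L * c) - k * c * (y - L) by ring]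
    refine sub_mem (hunit L hL0) (Ideal.mul_mem_left _ _ ?_)
    simpa using sub_mem hy.1 hL0
  have hu : IsUnit ((P.derivative.eval L + k * (y - L)) * c) := by
    have := Ideal.mem_jacobson_bot.mp (hjac (neg_mem hmem)) 1
    simpa using this
  have h0 : (y - L) * ((P.derivative.eval L + k * (y - L)) * c) = 0 := by linear_combination c * hk.symm
  exact sub_eq_zero.mp ((hu.mul_left_eq_zero).mp h0)

end Groth.Agent.S14676
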