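import Groth.Statements.S14677
import Mathlib.RingTheory.AdicCompletion.Exactness
import Mathlib.RingTheory.AdicCompletion.AsTensorProduct

set_option autoImplicit false
universe u
open CAlg

namespace Groth.Agent.S14677

/-- Let A be a Noetherian commutative ring, I and J ideals of A and M a finitely generated A-module.
Then the map of I-adic completions induced by the inclusion of the submodule JM into M is injective
with image exactly J·M̂, where M̂ is the I-adic completion of M; that is, the completion of JM is J
times the completion of M. (The published statement does not say that A is Noetherian; its proof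
uses exactness of completion on finitely generated modules, which needs it, so this row assumes A
Noetherian.) -/
theorem result (A : Type u) [CommRing A] [IsNoetherianRing A] (I J : Ideal A)
    (M : Type u) [AddCommGroup M] [Module A M] [Module.Finite A M] :
    Function.Injective (AdicCompletion.map I (J • (⊤ : Submodule A M)).subtype) ∧
      LinearMap.range (AdicCompletion.map I (J • (⊤ : Submodule A M)).subtype) =
        (J.map (algebraMap A (AdicCompletion I A))) • (⊤ : Submodule (AdicCompletion I A) (AdicCompletion I M)) := by
  refine ⟨AdicCompletion.map_injective I (Submodule.injective_subtype _), le_antisymm ?_ ?_⟩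
  · rintro _ ⟨w, rfl⟩
    obtain ⟨z, rfl⟩ := (AdicCompletion.ofTensorProduct_bijective_of_finite_of_isNoetherian I
      (J • (⊤ : Submodule A M) : Submodule A M)).2 w
    induction z using TensorProduct.induction_on with
    | zero => rw [map_zero, map_zero]; exact zero_mem _
    | add a b ha hb => rw [map_add, map_add]; exact add_mem ha hb
    | tmul c x =>
      rw [AdicCompletion.ofTensorProduct_tmul, map_smul]
      refine Submodule.smul_mem _ c ?_
      have key : ∀ y ∈ J • (⊤ : Submodule A M), AdicCompletion.of I M y ∈
          (Ideal.map (algebraMap A (AdicCompletion I A)) J) •
            (⊤ : Submodule (AdicCompletion I A) (AdicCompletion I M)) := fun y hy => by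
        refine Submodule.smul_induction_on hy (fun a ha m _ => ?_) (fun a b ha hb => ?_)
        · rw [map_smul, ← algebraMap_smul (AdicCompletion I A) a (AdicCompletion.of I M m)]
          exact Submodule.smul_mem_smul (Ideal.mem_map_of_mem _ ha) Submodule.mem_top
        · rw [map_add]; exact add_mem ha hb
      exact key x.1 x.2
  · rw [Submodule.smul_le]
    intro b hb z _
    induction hb using Submodule.span_induction generalizing z with
    | zero => rw [zero_smul]; exact zero_mem _
    | add x y _ _ hx hy => rw [add_smul]; exact add_mem (hx z trivial) (hy z trivial)
    | smul r x _ hx => rw [smul_eq_mul, mul_smul]; exact Submodule.smul_mem _ r (hx z trivial)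
    | mem x hx =>
      obtain ⟨a, ha, rfl⟩ := hx
      rw [algebraMap_smul]
      let μ : M →ₗ[A] (J • (⊤ : Submodule A M) : Submodule A M) :=
        (a • LinearMap.id).codRestrict _ fun x => Submodule.smul_mem_smul ha Submodule.mem_top
      refine ⟨AdicCompletion.map I μ z, AdicCompletion.ext fun n => ?_⟩
      rw [AdicCompletion.val_smul_apply, AdicCompletion.map_val_apply, AdicCompletion.map_val_apply]
      obtain ⟨y, hy⟩ := Submodule.Quotient.mk_surjective _ (z.val n)
      rw [← hy]
      rfl

end Groth.Agent.S14677
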