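import Groth.Statements.S14678
import Mathlib.AlgebraicGeometry.Morphisms.Preimmersion
import Mathlib.AlgebraicGeometry.Morphisms.ClosedImmersion
import Mathlib.AlgebraicGeometry.Morphisms.Flat
import Mathlib.AlgebraicGeometry.Morphisms.FinitePresentation
import Mathlib.AlgebraicGeometry.ResidueField
import Mathlib.RingTheory.AdjoinRoot
import Mathlib.RingTheory.Localization.Integral
import Mathlib.RingTheory.Finiteness.ModuleFinitePresentation
import Mathlib.RingTheory.Flat.Stability
import Mathlib.Algebra.Field.Subfield.Basic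

set_option linter.style.haveILetI false
set_option backward.isDefEq.respectTransparency.types false

set_option autoImplicit false
universe u
open CategoryTheory CategoryTheory.Limits AlgebraicGeometry
open EtBase

namespace Groth.Agent.S14678

/-- A flat algebra of finite presentation whose image contains given integral elements. -/
theorem exists_alg (R L : Type u) [CommRing R] [CommRing L] [Algebra R L] (s : List L) :
    (∀ x ∈ s, IsIntegral R x) →
      ∃ (A : Type u) (_ : CommRing A) (_ : Algebra R A) (ψ : A →ₐ[R] L),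
        Module.Flat R A ∧ Algebra.FinitePresentation R A ∧ ∀ x ∈ s, x ∈ ψ.range := by
  induction s with
  | nil =>
    intro _
    exact ⟨R, inferInstance, inferInstance, Algebra.ofId R L, inferInstance, inferInstance, by simp⟩
  | cons x s ih =>
    intro h
    obtain ⟨A, _, _, ψ, hfl, hfp, hs⟩ := ih fun y hy => h y (List.mem_cons_of_mem _ hy)
    obtain ⟨p, hp, hp'⟩ := h x List.mem_cons_self
    let g : Polynomial A := p.map (algebraMap R A)
    have hg : g.Monic := hp.map _
    letI : Algebra A L := ψ.toRingHom.toAlgebra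
    haveI : IsScalarTower R A L := IsScalarTower.of_algebraMap_eq fun r => (ψ.commutes r).symm
    have hx : Polynomial.aeval x g = 0 := by
      rw [Polynomial.aeval_map_algebraMap]; exact hp'
    haveI : Module.Free A (AdjoinRoot g) := hg.free_adjoinRoot
    haveI : Module.Finite A (AdjoinRoot g) := hg.finite_adjoinRoot
    haveI : Module.FinitePresentation A (AdjoinRoot g) := Module.finitePresentation_of_projective A _
    haveI : Algebra.FinitePresentation A (AdjoinRoot g) :=
      Algebra.FinitePresentation.of_finitePresentation A (AdjoinRoot g)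
    haveI := hfl
    haveI := hfp
    let ψ' : AdjoinRoot g →ₐ[A] L := AdjoinRoot.liftAlgHom g (Algebra.ofId A L) x hx
    refine ⟨AdjoinRoot g, inferInstance, inferInstance, ψ'.restrictScalars R, Module.Flat.trans R A _,
      Algebra.FinitePresentation.trans R A _, fun y hy => ?_⟩
    rcases List.mem_cons.1 hy with rfl | hy
    · exact ⟨AdjoinRoot.root g, AdjoinRoot.liftAlgHom_root g (Algebra.ofId A L) _ hx⟩
    · obtain ⟨a, rfl⟩ := hs y hy
      exact ⟨algebraMap A (AdjoinRoot g) a, ψ'.commutes a⟩

theorem exists_alg_field (R K L : Type u) [CommRing R] [Field K] [Field L] [Algebra R K] [Algebra K L]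
    [Algebra R L] [IsScalarTower R K L] [Module.Finite K L]
    (hK : ∀ z : K, ∃ a b : R, z = algebraMap R K a / algebraMap R K b) :
    ∃ (A : Type u) (_ : CommRing A) (_ : Algebra R A) (ψ : A →ₐ[R] L),
      Module.Flat R A ∧ Algebra.FinitePresentation R A ∧ Subfield.closure (Set.range ψ) = ⊤ := by
  classical
  obtain ⟨s, hs⟩ := Module.finite_def.1 ‹Module.Finite K L›
  have hd : ∀ x : L, ∃ d : R, algebraMap R L d ≠ 0 ∧ IsIntegral R (algebraMap R L d * x) := fun x => by
    obtain ⟨p, hp, hp'⟩ := Algebra.IsIntegral.isIntegral (R := K) x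
    have hcd : ∀ c : K, ∃ a b : R, algebraMap R K b ≠ 0 ∧ c = algebraMap R K a / algebraMap R K b := fun c => by
      obtain ⟨a, b, hc⟩ := hK c
      by_cases hb : algebraMap R K b = 0
      · exact ⟨0, 1, by simp, by simpa [hb] using hc⟩
      · exact ⟨a, b, hb, hc⟩
    let M : Submonoid R := (nonZeroDivisors K).comap (algebraMap R K)
    choose a b hb hc using hcd
    let d : R := ∏ i ∈ Finset.range p.natDegree, b (p.coeff i)
    have hd0 : algebraMap R K d ≠ 0 := by
      rw [map_prod]; exact Finset.prod_ne_zero_iff.2 fun i _ => hb _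
    refine ⟨d, by rw [IsScalarTower.algebraMap_apply R K L]; exact (map_ne_zero _).2 hd0, ?_⟩
    have hq : ∀ i, ∃ r : R, algebraMap R K r = (p.scaleRoots (algebraMap R K d)).coeff i := fun i => by
      rw [Polynomial.coeff_scaleRoots]
      rcases lt_trichotomy i p.natDegree with h | h | h
      · refine ⟨a (p.coeff i) * (∏ j ∈ (Finset.range p.natDegree).erase i, b (p.coeff j)) *
          d ^ (p.natDegree - i - 1), ?_⟩
        have hd' : d = b (p.coeff i) * ∏ j ∈ (Finset.range p.natDegree).erase i, b (p.coeff j) :=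
          (Finset.mul_prod_erase _ (fun j => b (p.coeff j)) (Finset.mem_range.2 h)).symm
        obtain ⟨m, hm⟩ : ∃ m, p.natDegree - i = m + 1 := ⟨p.natDegree - i - 1, by omega⟩
        rw [hm, pow_succ' (algebraMap R K d) m, Nat.add_sub_cancel, ← mul_assoc]
        conv_rhs => rw [hc (p.coeff i)]; enter [1, 2]; rw [hd', map_mul]
        rw [map_mul, map_mul, map_pow]
        field_simp [hb (p.coeff i)]
      · subst h
        exact ⟨1, by simp [hp.leadingCoeff]⟩
      · exact ⟨0, by simp [Polynomial.coeff_eq_zero_of_natDegree_lt h]⟩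
    have hmon : (p.scaleRoots (algebraMap R K d)).Monic := (Polynomial.monic_scaleRoots_iff _).2 hp
    have hlift : p.scaleRoots (algebraMap R K d) ∈ Polynomial.lifts (algebraMap R K) :=
      (Polynomial.lifts_iff_coeff_lifts _).2 hq
    obtain ⟨q, hq', -, hqm⟩ := Polynomial.lifts_and_natDegree_eq_and_monic hlift hmon
    refine ⟨q, hqm, ?_⟩
    rw [← Polynomial.aeval_def, ← Polynomial.aeval_map_algebraMap K, hq', IsScalarTower.algebraMap_apply R K L]
    exact Polynomial.scaleRoots_aeval_eq_zero hp'
  choose d hd0 hdi using hd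
  obtain ⟨A, _, _, ψ, hfl, hfp, hsub⟩ := exists_alg R L (s.toList.map fun x => algebraMap R L (d x) * x)
    (fun y hy => by obtain ⟨x, -, rfl⟩ := List.mem_map.1 hy; exact hdi x)
  refine ⟨A, inferInstance, inferInstance, ψ, hfl, hfp, top_le_iff.1 fun z hzt => ?_⟩
  clear hzt
  have hR : ∀ r, algebraMap R L r ∈ Subfield.closure (Set.range ψ) := fun r =>
    Subfield.subset_closure ⟨algebraMap R A r, ψ.commutes r⟩
  have hz : z ∈ Submodule.span K (s : Set L) := hs ▸ Submodule.mem_top
  induction hz using Submodule.span_induction with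
  | mem x hx =>
    obtain ⟨a, ha⟩ := hsub _ (List.mem_map.2 ⟨x, Finset.mem_toList.2 hx, rfl⟩)
    have h1 : x = ψ a / algebraMap R L (d x) := by
      rw [eq_div_iff (hd0 x), mul_comm]; exact ha.symm
    rw [h1]
    exact div_mem (Subfield.subset_closure ⟨a, rfl⟩) (hR _)
  | zero => exact zero_mem _
  | add x y _ _ hx hy => exact add_mem hx hy
  | smul c x _ hx =>
    obtain ⟨a, b, rfl⟩ := hK c
    rw [Algebra.smul_def, map_div₀, ← IsScalarTower.algebraMap_apply, ← IsScalarTower.algebraMap_apply]
    exact mul_mem (div_mem (hR _) (hR _)) hx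

theorem isPreimmersion_SpecMap {A L : Type u} [CommRing A] [Field L] (ψ : A →+* L)
    (h : Subfield.closure (Set.range ψ) = ⊤) : IsPreimmersion (Spec.map (CommRingCat.ofHom ψ)) := by
  let B := A ⧸ RingHom.ker ψ
  let χ : B →+* L := RingHom.kerLift ψ
  letI := χ.toAlgebra
  haveI : FaithfulSMul B L := (faithfulSMul_iff_algebraMap_injective B L).2 (RingHom.kerLift_injective ψ)
  haveI : IsFractionRing B L := IsFractionRing.of_field B L fun z => by
    have hz : z ∈ Subfield.closure (Set.range ψ) := by rw [h]; trivial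
    have hR : Subring.closure (Set.range ψ) = ψ.range := by
      rw [← RingHom.coe_range, Subring.closure_eq]
    obtain ⟨x, hx, y, hy, rfl⟩ := Subfield.mem_closure_iff.1 hz
    rw [hR] at hx hy
    obtain ⟨a, rfl⟩ := hx
    obtain ⟨b, rfl⟩ := hy
    exact ⟨Ideal.Quotient.mk _ a, Ideal.Quotient.mk _ b, rfl⟩
  haveI h1 : IsPreimmersion (Spec.map (CommRingCat.ofHom (algebraMap B L))) :=
    IsPreimmersion.of_isLocalization (nonZeroDivisors B)
  haveI h2 : IsClosedImmersion (Spec.map (CommRingCat.ofHom (Ideal.Quotient.mk (RingHom.ker ψ)))) :=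
    IsClosedImmersion.spec_of_surjective _ Ideal.Quotient.mk_surjective
  have e : Spec.map (CommRingCat.ofHom ψ) = Spec.map (CommRingCat.ofHom (algebraMap B L)) ≫
      Spec.map (CommRingCat.ofHom (Ideal.Quotient.mk (RingHom.ker ψ))) := by
    rw [← Spec.map_comp]; rfl
  rw [e]
  infer_instance


/-- Let S be a scheme, s a point of S and ℓ a finite field extension of the residue field κ(s). Then,
fppf-locally around s, ℓ occurs as a residue field: there are an affine scheme U', a flat morphism b
: U' ⟶ S locally of finite presentation (so with open image containing s) and a morphism t : Spec ℓ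
⟶ U' over the canonical morphism Spec ℓ ⟶ Spec κ(s) ⟶ S which is a preimmersion, i.e. the inclusion
of a point s' of U' above s together with an identification of κ(s') with ℓ over κ(s); such a point
is closed in its fibre over s. (The published statement gives an affine open neighbourhood U of s
and an fppf morphism U' ⟶ U; this row asks only for a flat, locally finitely presented U' ⟶ S, whose
open image then contains s.) -/
theorem result (S : Scheme.{u}) (s : ↥S)
    (ℓ : Type u) [Field ℓ] [Algebra (S.residueField s) ℓ] [Module.Finite (S.residueField s) ℓ] :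
    ∃ (U' : Scheme.{u}) (b : U' ⟶ S) (t : Spec (CommRingCat.of ℓ) ⟶ U'),
      IsAffine U' ∧ Flat b ∧ LocallyOfFinitePresentation b ∧ IsPreimmersion t ∧
        t ≫ b = Spec.map (CommRingCat.ofHom (algebraMap (S.residueField s) ℓ)) ≫ S.fromSpecResidueField s := by
  obtain ⟨U, hU, hs, -⟩ := exists_isAffineOpen_mem_and_subset (x := s) (U := (⊤ : S.Opens)) trivial
  let φ : Γ(S, U) ⟶ S.residueField s := S.presheaf.germ U s hs ≫ S.residue s
  letI : Algebra Γ(S, U) (S.residueField s) := φ.hom.toAlgebra
  letI : Algebra Γ(S, U) ℓ := ((algebraMap (S.residueField s) ℓ).comp φ.hom).toAlgebra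
  haveI : IsScalarTower Γ(S, U) (S.residueField s) ℓ := IsScalarTower.of_algebraMap_eq fun _ => rfl
  have hK : ∀ z : S.residueField s, ∃ a b : Γ(S, U),
      z = algebraMap Γ(S, U) (S.residueField s) a / algebraMap Γ(S, U) (S.residueField s) b := fun z => by
    obtain ⟨w, rfl⟩ := Scheme.residue_surjective S s z
    letI := S.presheaf.algebra_section_stalk (⟨s, hs⟩ : U)
    haveI := hU.isLocalization_stalk ⟨s, hs⟩
    obtain ⟨⟨a, b⟩, hab⟩ := IsLocalization.surj (hU.primeIdealOf ⟨s, hs⟩).asIdeal.primeCompl w
    refine ⟨a, b.1, ?_⟩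
    have hb := (IsLocalization.map_units (S.presheaf.stalk s) b).map (S.residue s).hom
    exact (eq_div_iff hb.ne_zero).2 ((map_mul (S.residue s).hom _ _).symm.trans (congrArg (S.residue s).hom hab))
  obtain ⟨A, _, _, ψ, hfl, hfp, hcl⟩ := exists_alg_field Γ(S, U) (S.residueField s) ℓ hK
  haveI : Flat (Spec.map (CommRingCat.ofHom (algebraMap Γ(S, U) A))) :=
    (HasRingHomProperty.Spec_iff (P := @Flat)).2 (RingHom.flat_algebraMap_iff.2 hfl)
  haveI : LocallyOfFinitePresentation (Spec.map (CommRingCat.ofHom (algebraMap Γ(S, U) A))) :=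
    (HasRingHomProperty.Spec_iff (P := @LocallyOfFinitePresentation)).2 (RingHom.finitePresentation_algebraMap.2 hfp)
  refine ⟨Spec (CommRingCat.of A), Spec.map (CommRingCat.ofHom (algebraMap Γ(S, U) A)) ≫ hU.fromSpec,
    Spec.map (CommRingCat.ofHom ψ.toRingHom), inferInstance, inferInstance, inferInstance,
    isPreimmersion_SpecMap ψ.toRingHom hcl, ?_⟩
  rw [← Category.assoc, ← Spec.map_comp, show S.fromSpecResidueField s = Spec.map (S.residue s) ≫ S.fromSpecStalk s from rfl,
    ← hU.fromSpecStalk_eq_fromSpecStalk hs, IsAffineOpen.fromSpecStalk, ← Spec.map_comp_assoc, ← Spec.map_comp_assoc]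
  congr 2
  exact CommRingCat.hom_ext (RingHom.ext fun r => ψ.commutes r)

end Groth.Agent.S14678
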