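import Groth.Statements.S14679
-- import your own Groth.Agent.* helpers here

set_option autoImplicit false
universe u
open CategoryTheory CategoryTheory.Limits AlgebraicGeometry
open EtBase

namespace Groth.Agent.S14679

/-- Given a morphism of schemes f : X ⟶ Y and a point x ∈ X with image y = f(x), such that the residue
field map κ(y) → κ(x) is bijective; let ℓ be an algebraic extension field of κ(y) and form the base
change X ×_Y Spec ℓ along Spec ℓ ⟶ Spec κ(y) ⟶ Y. Then there is exactly one point of X ×_Y Spec ℓ
mapping to x under the first projection. (The published statement takes ℓ to be an algebraic closure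
of κ(y), noting that any algebraic extension works, and also identifies the local ring at the point
with O_{X,x} ⊗_{O_{Y,y}} ℓ; this row allows any algebraic extension ℓ and states only the first
assertion.) -/
theorem result {X Y : Scheme.{u}} (f : X ⟶ Y) (x : ↥X)
    (hx : Function.Bijective (f.residueFieldMap x).hom)
    (ℓ : Type u) [Field ℓ] [Algebra (Y.residueField (f.base x)) ℓ] [Algebra.IsAlgebraic (Y.residueField (f.base x)) ℓ] :
    ∃! z : ↥(pullback f (Spec.map (CommRingCat.ofHom (algebraMap (Y.residueField (f.base x)) ℓ)) ≫ Y.fromSpecResidueField (f.base x))),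
      (pullback.fst f (Spec.map (CommRingCat.ofHom (algebraMap (Y.residueField (f.base x)) ℓ)) ≫ Y.fromSpecResidueField (f.base x))).base z = x := by
  haveI : IsIso (f.residueFieldMap x) := (ConcreteCategory.isIso_iff_bijective _).2 hx
  let al : Spec (CommRingCat.of ℓ) ⟶ Spec (Y.residueField (f.base x)) :=
    Spec.map (CommRingCat.ofHom (algebraMap (Y.residueField (f.base x)) ℓ))
  let bX : Spec (CommRingCat.of ℓ) ⟶ Spec (X.residueField x) := al ≫ inv (Spec.map (f.residueFieldMap x))
  have hσ : (bX ≫ X.fromSpecResidueField x) ≫ f =
      𝟙 _ ≫ al ≫ Y.fromSpecResidueField (f.base x) := by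
    rw [Category.id_comp, Category.assoc, ← Scheme.Hom.SpecMap_residueFieldMap_fromSpecResidueField,
      Category.assoc, IsIso.inv_hom_id_assoc]
  let σ := pullback.lift (f := f) (g := al ≫ Y.fromSpecResidueField (f.base x))
    (bX ≫ X.fromSpecResidueField x) (𝟙 _) hσ
  refine ⟨σ.base default, ?_, fun z hz => ?_⟩
  · show (pullback.fst f _).base (σ.base default) = x
    rw [← Scheme.Hom.comp_apply, pullback.lift_fst, Scheme.Hom.comp_apply]
    exact Scheme.fromSpecResidueField_apply _ _
  · let a := (pullback f (al ≫ Y.fromSpecResidueField (f.base x))).fromSpecResidueField z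
    obtain ⟨k, hk⟩ : ∃ k : Spec ((pullback f (al ≫ Y.fromSpecResidueField (f.base x))).residueField z) ⟶
        Spec (X.residueField x), k ≫ X.fromSpecResidueField x = a ≫ pullback.fst _ _ := by
      have : ∀ p, (pullback.fst f (al ≫ Y.fromSpecResidueField (f.base x))).base z = p →
          ∃ k : Spec ((pullback f (al ≫ Y.fromSpecResidueField (f.base x))).residueField z) ⟶
            Spec (X.residueField p), k ≫ X.fromSpecResidueField p = a ≫ pullback.fst _ _ := by
        rintro p rfl
        exact ⟨_, Scheme.Hom.SpecMap_residueFieldMap_fromSpecResidueField _ _⟩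
      exact this x hz
    have hk' : k ≫ Spec.map (f.residueFieldMap x) = (a ≫ pullback.snd _ _) ≫ al := by
      rw [← cancel_mono (Y.fromSpecResidueField (f.base x)), Category.assoc,
        Scheme.Hom.SpecMap_residueFieldMap_fromSpecResidueField, ← Category.assoc, hk, Category.assoc,
        pullback.condition, Category.assoc, Category.assoc]
    have ha : a = (a ≫ pullback.snd _ _) ≫ σ := by
      apply pullback.hom_ext
      · rw [Category.assoc, pullback.lift_fst, ← hk]
        simp only [bX, ← Category.assoc]
        rw [← hk', Category.assoc k, IsIso.hom_inv_id, Category.comp_id]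
      · rw [Category.assoc, pullback.lift_snd, Category.comp_id]
    have h1 : a.base default = z := Scheme.fromSpecResidueField_apply _ _
    rw [ha, Scheme.Hom.comp_apply] at h1
    have h2 : (a ≫ pullback.snd f (al ≫ Y.fromSpecResidueField (f.base x))).base default =
        (default : Spec (CommRingCat.of ℓ)) := Subsingleton.elim (α := Spec (CommRingCat.of ℓ)) _ _
    rw [h2] at h1
    exact h1.symm

end Groth.Agent.S14679
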