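import Groth.Statements.S14680
import Mathlib.RingTheory.AdicCompletion.Exactness
import Mathlib.RingTheory.AdicCompletion.Functoriality
import Mathlib.RingTheory.Filtration

set_option autoImplicit false
universe u
open CAlg

namespace Groth.Agent.S14680

/-- Let A be a Noetherian commutative ring and f : M' → M, g : M → M'' linear maps between finitely
generated A-modules. Then the sequence 0 → M' → M → M'' → 0 is exact — f injective, the image of f
equal to the kernel of g, g surjective — if and only if for every maximal ideal m of A the sequence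
of m-adic completions 0 → M'^ → M^ → M''^ → 0 (maps induced by f and g) is exact in the same sense. -/
theorem result (A : Type u) [CommRing A] [IsNoetherianRing A]
    (M' M M'' : Type u) [AddCommGroup M'] [Module A M'] [AddCommGroup M] [Module A M] [AddCommGroup M''] [Module A M'']
    [Module.Finite A M'] [Module.Finite A M] [Module.Finite A M''] (f : M' →ₗ[A] M) (g : M →ₗ[A] M'') :
    (Function.Injective f ∧ Function.Exact f g ∧ Function.Surjective g) ↔
      ∀ (m : Ideal A) [m.IsMaximal],
        Function.Injective (AdicCompletion.map m f) ∧ Function.Exact (AdicCompletion.map m f) (AdicCompletion.map m g) ∧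
          Function.Surjective (AdicCompletion.map m g) := by
  constructor
  · rintro ⟨hf, hfg, hg⟩ m _
    exact ⟨AdicCompletion.map_injective m hf, AdicCompletion.map_exact hf hfg hg, AdicCompletion.map_surjective m hg⟩
  intro h
  have hsep : ∀ {N : Type u} [AddCommGroup N] [Module A N] [Module.Finite A N] (x : N),
      (∀ (m : Ideal A) [m.IsMaximal], AdicCompletion.of m N x = 0) → x = 0 := by
    intro N _ _ _ x hx
    by_contra hne
    obtain ⟨m, hm, hle⟩ := Ideal.exists_le_maximal (Ideal.torsionOf A N x) (fun h => hne (by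
      rwa [Ideal.torsionOf_eq_top_iff] at h))
    have hmem : x ∈ (⨅ i : ℕ, m ^ i • ⊤ : Submodule A N) := Submodule.mem_iInf _ |>.mpr fun n => by
      have h1 : (AdicCompletion.of m N x).val n = 0 := by rw [hx m]; rfl
      exact (Submodule.Quotient.mk_eq_zero _).mp h1
    obtain ⟨⟨r, hr⟩, hrx⟩ := (m.mem_iInf_smul_pow_eq_bot_iff x).mp hmem
    have : 1 - r ∈ Ideal.torsionOf A N x := by
      rw [Ideal.mem_torsionOf_iff, sub_smul, one_smul]
      exact sub_eq_zero.mpr hrx.symm
    exact hm.ne_top ((Ideal.eq_top_iff_one m).mpr (by simpa using m.add_mem (hle this) hr))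
  have hof : ∀ {N N' : Type u} [AddCommGroup N] [Module A N] [AddCommGroup N'] [Module A N']
      (φ : N →ₗ[A] N') (m : Ideal A) (x : N),
      AdicCompletion.map m φ (AdicCompletion.of m N x) = AdicCompletion.of m N' (φ x) := by
    intro N N' _ _ _ _ φ m x
    exact AdicCompletion.ext fun n => rfl
  refine ⟨(injective_iff_map_eq_zero _).mpr fun x hx => hsep x fun m _ => (h m).1 (by
    rw [hof, hx, map_zero, map_zero]), fun y => ⟨fun hy => ?_, ?_⟩, fun z => ?_⟩
  · have hq : (LinearMap.range f).mkQ y = 0 := hsep _ fun m _ => by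
      obtain ⟨w, hw⟩ := ((h m).2.1 (AdicCompletion.of m M y)).mp (by rw [hof, hy, map_zero])
      rw [← hof, ← hw, AdicCompletion.map_comp_apply, LinearMap.range_mkQ_comp, AdicCompletion.map_zero]
      rfl
    exact (Submodule.Quotient.mk_eq_zero _).mp hq
  · rintro ⟨x, rfl⟩
    refine hsep _ fun m _ => ?_
    rw [← hof, ← hof]
    exact ((h m).2.1 _).mpr ⟨_, rfl⟩
  · have hq : (LinearMap.range g).mkQ z = 0 := hsep _ fun m _ => by
      obtain ⟨w, hw⟩ := (h m).2.2 (AdicCompletion.of m M'' z)
      rw [← hof, ← hw, AdicCompletion.map_comp_apply, LinearMap.range_mkQ_comp, AdicCompletion.map_zero]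
      rfl
    exact LinearMap.mem_range.mp ((Submodule.Quotient.mk_eq_zero _).mp hq)

end Groth.Agent.S14680
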