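import Groth.Statements.S14681
import Groth.Agent.L08.Cube.AmpleComponents

set_option autoImplicit false
universe u
open CategoryTheory CategoryTheory.Limits MonoidalCategory CartesianMonoidalCategory MonObj GrpObj AlgebraicGeometry
open AbVar

namespace Groth.Agent.S14681
open Groth.L08.Cube Groth.Agent.AbDualLib
open scoped MonObj
open TopologicalSpace


/-- (b) ⇒ (e): let k be an algebraically closed field, A an abelian variety over k (a proper k-group
scheme whose structure morphism is geometrically integral), D an effective Cartier divisor on A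
given by its ideal sheaf I, and L an invertible O_A-module with L ⊗ I ≅ O_A (so L = O_A(D)). Suppose
the set of k-points a of A whose translation x ↦ x·a maps each irreducible component of the support
of D onto itself is finite. Then L is ample. -/
theorem result (k : Type u) [Field k] [IsAlgClosed k]
    (A : Over (Spec (CommRingCat.of k))) [GrpObj A] [IsProper A.hom] [GeometricallyIntegral A.hom]
    (I : A.left.IdealSheafData) (hI : BlowUp.IsEffCartierIdeal I)
    (L : A.left.Modules) (hL : PicF.IsInvertible L) (hLI : ClSub.IsInverseOf L (ClSub.idealMod I))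
    (hb : Set.Finite {a : (𝟙_ (Over (Spec (CommRingCat.of k)))) ⟶ A |
      ∀ Z ∈ irreducibleComponents ↥(I.support : Set ↥A.left),
        (fun x : ↥A.left => (𝟙 A * (toUnit A ≫ a)).left.base x) '' (Subtype.val '' Z) = Subtype.val '' Z}) :
    CohB1.IsAmple L := by
  letI := clMonoid A.left
  haveI : AlgebraicGeometry.IsIntegral A.left := GeometricallyIntegral.isIntegral_of_subsingleton A.hom
  haveI : JacobsonSpace A.left := LocallyOfFiniteType.jacobsonSpace A.hom
  haveI : IsLocallyNoetherian A.left := LocallyOfFiniteType.isLocallyNoetherian A.hom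
  haveI : CompactSpace A.left := QuasiCompact.compactSpace_of_compactSpace A.hom
  haveI : IsNoetherian A.left := {}
  obtain ⟨N, s, hN, ⟨eN⟩, hs⟩ := exists_section_of_effCartier I hI
  obtain ⟨e⟩ := hLI
  have hLN : PicF.cl N = PicF.cl L := by
    calc PicF.cl N = (PicF.cl L * PicF.cl (ClSub.idealMod I)) * PicF.cl N := by
          rw [show PicF.cl L * PicF.cl (ClSub.idealMod I) = 1 from cl_congr e, _root_.one_mul]
      _ = PicF.cl L := by
          rw [_root_.mul_assoc, show PicF.cl (ClSub.idealMod I) * PicF.cl N = 1 from cl_congr eN, _root_.mul_one]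
  obtain ⟨θ⟩ := (PicGrp.cl_eq_cl_iff _ _).1 hLN
  set t := s ≫ θ.hom
  have hgl : (CohB1.genLocus L t : Set A.left)ᶜ = (I.support : Set A.left) := by
    rw [Groth.L16.genLocus_comp_iso, hs, compl_compl]
  have ht : t ≠ 0 := by
    intro h0
    obtain ⟨x, hx⟩ := compl_support_nonempty I hI
    rw [← hgl, compl_compl] at hx
    obtain ⟨W, e', hxW, he⟩ := Groth.L18.Frame.exists_frame hL x
    have h1 := Groth.L18.GenLoc.genLocus_inf_eq t he (a := 0) (by
      rw [zero_smul, h0]
      exact (map_zero _).symm)
    rw [Scheme.basicOpen_zero] at h1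
    exact (h1.le ⟨hx, hxW⟩ : x ∈ (⊥ : A.left.Opens))
  refine isAmple_of_no_square_trivial L hL t ht fun C i _ _ hC => ?_
  let Cv : Over (Spec (CommRingCat.of k)) := subOver (A := A) i
  haveI : IsProper Cv.hom := inferInstanceAs (IsProper (i ≫ A.hom))
  haveI : AlgebraicGeometry.IsIntegral Cv.left := inferInstanceAs (AlgebraicGeometry.IsIntegral C)
  haveI : JacobsonSpace Cv.left := LocallyOfFiniteType.jacobsonSpace Cv.hom
  obtain ⟨c₀, -⟩ : ∃ c₀ : 𝟙_ (Over (Spec (CommRingCat.of k))) ⟶ Cv, True := by
    obtain ⟨z, -, hz⟩ := nonempty_inter_closedPoints (X := Cv.left) (Z := Set.univ) Set.univ_nonempty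
      isOpen_univ.isLocallyClosed
    obtain ⟨c, -⟩ := exists_kpt z (mem_closedPoints_iff.1 hz)
    exact ⟨c, trivial⟩
  haveI : IsClosedImmersion (subHom (A := A) i).left := ‹IsClosedImmersion i›
  haveI : Mono (subHom (A := A) i) := Over.mono_of_mono_left _
  have hmem : ∀ c : 𝟙_ (Over (Spec (CommRingCat.of k))) ⟶ Cv,
      (c₀ ≫ subHom i)⁻¹ * (c ≫ subHom i) ∈ {a : (𝟙_ (Over (Spec (CommRingCat.of k)))) ⟶ A |
      ∀ Z ∈ irreducibleComponents ↥(I.support : Set ↥A.left),
        (fun x : ↥A.left => (𝟙 A * (toUnit A ≫ a)).left.base x) '' (Subtype.val '' Z) = Subtype.val '' Z} := by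
    intro c Z hZ
    have hD : IsClosed (I.support : Set A.left) := I.support.isClosed
    have hemb := hD.isClosedEmbedding_subtypeVal
    let Z' : Set A.left := Subtype.val '' Z
    let W' : Set A.left := Subtype.val '' (⋃₀ (irreducibleComponents ↥(I.support : Set ↥A.left) \ {Z}))
    have hfin : (irreducibleComponents ↥(I.support : Set ↥A.left)).Finite :=
      TopologicalSpace.NoetherianSpace.finite_irreducibleComponents
    have hW' : IsClosed W' := hemb.isClosedMap _ (by
      rw [Set.sUnion_eq_biUnion]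
      exact (hfin.subset Set.diff_subset).isClosed_biUnion fun T hT => isClosed_of_mem_irreducibleComponents T hT.1)
    have hZW : ¬ Z' ⊆ W' := by
      intro hsub
      have hsub' : Z ⊆ ⋃₀ (irreducibleComponents ↥(I.support : Set ↥A.left) \ {Z}) :=
        (Set.image_subset_image_iff Subtype.val_injective).1 hsub
      obtain ⟨T, hT, hZT⟩ := isIrreducible_iff_sUnion_isClosed.1 hZ.1 (hfin.subset Set.diff_subset).toFinset
        (fun T hT => isClosed_of_mem_irreducibleComponents T ((Set.Finite.mem_toFinset _).1 hT).1)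
        (by rwa [Set.Finite.coe_toFinset])
      have hT' := (Set.Finite.mem_toFinset _).1 hT
      exact hT'.2 (Set.mem_singleton_iff.2 (le_antisymm (hZ.2 hT'.1.1 hZT) hZT))
    have hcov : (CohB1.genLocus L t : Set A.left)ᶜ = Z' ∪ W' := by
      rw [hgl, ← Set.image_union]
      have huniv : Z ∪ ⋃₀ (irreducibleComponents ↥(I.support : Set ↥A.left) \ {Z}) = Set.univ := by
        rw [← Set.sUnion_insert, Set.insert_sdiff_singleton, Set.insert_eq_of_mem hZ, sUnion_irreducibleComponents]
      rw [huniv, Set.image_univ, Subtype.range_coe]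
    have hZ'c : IsClosed Z' := hemb.isClosedMap _ (isClosed_of_mem_irreducibleComponents Z hZ)
    have hZ'i : IsIrreducible Z' := hZ.1.image _ continuous_subtype_val.continuousOn
    have key := fun c c' => translate_component_subset L hL t ht i hC c c' Z' hZ'c hZ'i W' hW' hZW hcov
    refine le_antisymm (key c c₀) fun z hz => ?_
    refine ⟨(trK ((c ≫ subHom i)⁻¹ * (c₀ ≫ subHom i))).left z, key c₀ c ⟨z, hz, rfl⟩, ?_⟩
    show (trK ((c₀ ≫ subHom i)⁻¹ * (c ≫ subHom i))).left ((trK ((c ≫ subHom i)⁻¹ * (c₀ ≫ subHom i))).left z) = z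
    rw [← Scheme.Hom.comp_apply, ← Over.comp_left,
      show trK ((c ≫ subHom i)⁻¹ * (c₀ ≫ subHom i)) ≫ trK ((c₀ ≫ subHom i)⁻¹ * (c ≫ subHom i)) = 𝟙 A by
        simp [trK, MonObj.comp_mul, GrpObj.comp_inv, _root_.mul_assoc]]
    rfl
  haveI : Finite (𝟙_ (Over (Spec (CommRingCat.of k))) ⟶ Cv) := by
    haveI := hb.to_subtype
    exact Finite.of_injective (fun c => (⟨_, hmem c⟩ : {a : (𝟙_ (Over (Spec (CommRingCat.of k)))) ⟶ A |
      ∀ Z ∈ irreducibleComponents ↥(I.support : Set ↥A.left),
        (fun x : ↥A.left => (𝟙 A * (toUnit A ≫ a)).left.base x) '' (Subtype.val '' Z) = Subtype.val '' Z}))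
      fun c c' h => (cancel_mono (subHom i)).1 (mul_left_cancel (congrArg Subtype.val h))
  have hfin : (closedPoints Cv.left).Finite := (Set.finite_range (kpt (A := Cv))).subset fun x hx => by
    obtain ⟨c, hc⟩ := exists_kpt x (mem_closedPoints_iff.1 hx)
    exact ⟨c, hc⟩
  haveI := JacobsonSpace.discreteTopology hfin
  show ∀ a b : Cv.left, a = b
  intro a b
  obtain ⟨c, hca, hcb⟩ := nonempty_preirreducible_inter (isOpen_discrete ({a} : Set Cv.left)) (isOpen_discrete {b})
    (Set.singleton_nonempty a) (Set.singleton_nonempty b)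
  exact (Set.mem_singleton_iff.1 hca).symm.trans (Set.mem_singleton_iff.1 hcb)

end Groth.Agent.S14681
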