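import Groth.Statements.S14683
import Groth.Agent.L08.SekSuwa.GKFinite
import Mathlib.RingTheory.RootsOfUnity.AlgebraicallyClosed
import Mathlib.GroupTheory.SpecificGroups.Cyclic
import Mathlib.FieldTheory.IsAlgClosed.AlgebraicClosure
import Mathlib.LinearAlgebra.Basis.VectorSpace
import Mathlib.LinearAlgebra.TensorProduct.Basis
import Mathlib.FieldTheory.Finite.Basic
-- import your own Groth.Agent.* helpers here

set_option autoImplicit false
set_option backward.isDefEq.respectTransparency.types false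
set_option linter.style.haveILetI false
universe u
open CategoryTheory AlgebraicGeometry MonoidalCategory CartesianMonoidalCategory MonObj GrpObj
open SekSuwa

set_option maxHeartbeats 1000000
namespace Groth.Agent.S14683

/-- Let R be a discrete valuation ring of characteristic zero and residue characteristic p, and let λ, μ
∈ R satisfy the divisibility condition under which the finite R-group schemes G_{λ,1} and G_{μ,1}
(the kernels of the isogenies ψ of the one-parameter groups with law s + t + λst, resp. μ) are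
defined. Then every action of G_{μ,1} on G_{λ,1} by group automorphisms is trivial: for every
R-scheme T and all T-valued points g of G_{μ,1} and x of G_{λ,1}, g · x = x. An action by group
automorphisms is an action of the group scheme G_{μ,1} on the scheme G_{λ,1} whose action map is
multiplicative in the second variable on points. (The published statement is made under standing
assumptions that R contains a primitive p²-th root of unity and that λ, μ have positive valuation;
this row drops both, which the argument does not use.) -/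
theorem result (R : Type u) [CommRing R] [IsDomain R] [IsDiscreteValuationRing R] [CharZero R]
    (p : ℕ) [Fact p.Prime] [CharP (IsLocalRing.ResidueField R) p]
    (lam mu : R) (h₁ : SekSuwa.DivCond lam p) (h₂ : SekSuwa.DivCond mu p)
    (a : AlgGrp.Action (SekSuwa.GK R mu p h₂) (SekSuwa.GK R lam p h₁))
    (hmul : ∀ (T : Over (Spec (CommRingCat.of R))) (g : T ⟶ SekSuwa.GK R mu p h₂)
      (x y : T ⟶ SekSuwa.GK R lam p h₁), lift g (x * y) ≫ a.act = (lift g x ≫ a.act) * (lift g y ≫ a.act))
    (T : Over (Spec (CommRingCat.of R))) (g : T ⟶ SekSuwa.GK R mu p h₂) (x : T ⟶ SekSuwa.GK R lam p h₁) :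
    lift g x ≫ a.act = x := by
  classical
  have hp : p.Prime := Fact.out
  let F := FractionRing R
  let Ω := AlgebraicClosure F
  haveI : CharZero F := charZero_of_injective_algebraMap (IsFractionRing.injective R F)
  haveI : CharZero Ω := charZero_of_injective_algebraMap (algebraMap F Ω).injective
  haveI : NeZero (p : Ω) := ⟨Nat.cast_ne_zero.mpr hp.ne_zero⟩
  have hRΩ : Function.Injective (algebraMap R Ω) := by
    rw [IsScalarTower.algebraMap_eq R F Ω]
    exact (algebraMap F Ω).injective.comp (IsFractionRing.injective R F)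
  -- roots of the polynomial
  have hroots : ∀ (l : R) (hl : SekSuwa.DivCond l p), ∃ x : Fin p → Ω, Function.Injective x ∧
      (∀ i, Polynomial.aeval (x i) (SekSuwa.psiPoly l p hl) = 0) ∧
      ∀ z : Ω, Polynomial.aeval z (SekSuwa.psiPoly l p hl) = 0 → ∃ i, x i = z := by
    intro l hl
    have hl0 : algebraMap R Ω l ≠ 0 := fun h0 =>
      nonZeroDivisors.ne_zero hl.nzd ((map_eq_zero_iff _ hRΩ).mp h0)
    obtain ⟨ζ, hζ⟩ := HasEnoughRootsOfUnity.exists_primitiveRoot Ω p
    have hiff : ∀ z : Ω, Polynomial.aeval z (SekSuwa.psiPoly l p hl) = 0 ↔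
        (1 + algebraMap R Ω l * z) ^ p = 1 := fun z => by
      rw [← sub_eq_zero (a := (1 + algebraMap R Ω l * z) ^ p), ← SekSuwa.aeval_psiPoly hl z,
        mul_eq_zero, map_pow]
      simp [hl0]
    refine ⟨fun i => (ζ ^ i.1 - 1) / algebraMap R Ω l, fun i j hij => ?_, fun i => ?_, fun z hz => ?_⟩
    · exact Fin.ext (hζ.pow_inj i.2 j.2 (sub_left_injective ((div_left_inj' hl0).mp hij)))
    · rw [hiff, mul_div_cancel₀ _ hl0, add_sub_cancel, ← pow_mul, mul_comm, pow_mul, hζ.pow_eq_one, one_pow]
    · obtain ⟨i, hi, he⟩ := hζ.eq_pow_of_pow_eq_one ((hiff z).mp hz)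
      refine ⟨⟨i, hi⟩, ?_⟩
      show (ζ ^ i - 1) / _ = z
      rw [he, add_sub_cancel_left, mul_div_cancel_left₀ _ hl0]
  let T₀ : Over (Spec (CommRingCat.of R)) := Over.mk (Spec.map (CommRingCat.ofHom (algebraMap R Ω)))
  -- points of the group schemes
  have hcard : ∀ (l : R) (hl : SekSuwa.DivCond l p), Nat.card (T₀ ⟶ SekSuwa.GK R l p hl) = p := by
    intro l hl
    obtain ⟨x, hx, hx0, hxs⟩ := hroots l hl
    let e1 : (T₀ ⟶ SekSuwa.GK R l p hl) ≃ (SekSuwa.AK R l p hl →ₐ[R] Ω) :=
      { toFun := fun w => { (Spec.preimage w.left).hom with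
          commutes' := fun r => by
            have e : CommRingCat.ofHom (algebraMap R (SekSuwa.AK R l p hl)) ≫ Spec.preimage w.left =
                CommRingCat.ofHom (algebraMap R Ω) :=
              Spec.map_injective (by rw [Spec.map_comp, Spec.map_preimage]; exact Over.w w)
            exact congr(($e).hom r) }
        invFun := fun a => Over.homMk (Spec.map (CommRingCat.ofHom a.toRingHom)) (by
          show Spec.map _ ≫ Spec.map (CommRingCat.ofHom (algebraMap R _)) = Spec.map _
          rw [← Spec.map_comp]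
          congr 1
          ext r
          exact a.commutes r)
        left_inv := fun w => Over.OverMorphism.ext (Spec.map_preimage w.left)
        right_inv := fun a => AlgHom.ext fun z =>
          congr(($(Spec.preimage_map (CommRingCat.ofHom a.toRingHom))).hom z) }
    let e2 : (SekSuwa.AK R l p hl →ₐ[R] Ω) → Fin p → Prop := fun a i => a SekSuwa.AK.t = x i
    let r : ∀ i, SekSuwa.AK R l p hl →ₐ[R] Ω := fun i =>
      (AdjoinRoot.liftAlgHom _ (Algebra.ofId R Ω) (x i) (hx0 i)).comp
        (Groth.L08.SekSuwaGK.rootEquiv hl hp.pos).toAlgHom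
    have hr : Function.Bijective r := by
      refine ⟨fun i j hij => hx ?_, fun a => ?_⟩
      · have := DFunLike.congr_fun hij ((Groth.L08.SekSuwaGK.rootEquiv hl hp.pos).symm (AdjoinRoot.root _))
        simpa [r] using this
      · obtain ⟨i, hi⟩ := hxs (a.comp (Groth.L08.SekSuwaGK.rootEquiv hl hp.pos).symm.toAlgHom
          (AdjoinRoot.root _)) (by
            rw [Polynomial.aeval_algHom_apply, AdjoinRoot.aeval_eq, AdjoinRoot.mk_self, map_zero])
        refine ⟨i, ?_⟩
        have key : AdjoinRoot.liftAlgHom _ (Algebra.ofId R Ω) (x i) (hx0 i) =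
            a.comp (Groth.L08.SekSuwaGK.rootEquiv hl hp.pos).symm.toAlgHom :=
          AdjoinRoot.algHom_ext (by rw [AdjoinRoot.liftAlgHom_root, hi])
        refine AlgHom.ext fun z => ?_
        show AdjoinRoot.liftAlgHom _ (Algebra.ofId R Ω) (x i) (hx0 i) (Groth.L08.SekSuwaGK.rootEquiv hl hp.pos z) = _
        rw [key, AlgHom.comp_apply]
        simp
    rw [Nat.card_congr (e1.trans (Equiv.ofBijective r hr).symm), Nat.card_eq_fintype_card, Fintype.card_fin]
  -- the action on points
  have hact : ∀ (g : T₀ ⟶ SekSuwa.GK R mu p h₂) (x : T₀ ⟶ SekSuwa.GK R lam p h₁), lift g x ≫ a.act = x := by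
    have h1 : ∀ x : T₀ ⟶ SekSuwa.GK R lam p h₁, lift 1 x ≫ a.act = x := fun x => by
      have e : lift (1 : T₀ ⟶ SekSuwa.GK R mu p h₂) x =
          lift (toUnit T₀) x ≫ (η[SekSuwa.GK R mu p h₂] ▷ _) := by
        rw [lift_whiskerRight]; rfl
      rw [e, Category.assoc, a.one_act, lift_leftUnitor_hom]
    have h2 : ∀ (g g' : T₀ ⟶ SekSuwa.GK R mu p h₂) (x : T₀ ⟶ SekSuwa.GK R lam p h₁),
        lift (g * g') x ≫ a.act = lift g (lift g' x ≫ a.act) ≫ a.act := fun g g' x => by
      rw [Hom.mul_def, ← lift_whiskerRight, Category.assoc, a.mul_act, ← Category.assoc,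
        lift_lift_associator_hom, ← Category.assoc, lift_whiskerLeft]
    let ev : (T₀ ⟶ SekSuwa.GK R mu p h₂) →* MulAut (T₀ ⟶ SekSuwa.GK R lam p h₁) :=
      MonoidHom.mk' (fun g => MulEquiv.mk'
          { toFun := fun x => lift g x ≫ a.act
            invFun := fun x => lift g⁻¹ x ≫ a.act
            left_inv := fun x => by dsimp only; rw [← h2, inv_mul_cancel, h1]
            right_inv := fun x => by dsimp only; rw [← h2, mul_inv_cancel, h1] } (fun x y => hmul T₀ g x y))
        (fun g g' => MulEquiv.ext fun x => h2 g g' x)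
    haveI : Fact p.Prime := ⟨hp⟩
    have hc1 := hcard lam h₁
    have hc2 := hcard mu h₂
    haveI : IsCyclic (T₀ ⟶ SekSuwa.GK R lam p h₁) := isCyclic_of_prime_card hc1
    haveI : Finite (T₀ ⟶ SekSuwa.GK R lam p h₁) :=
      Nat.finite_of_card_ne_zero (by rw [hc1]; exact hp.ne_zero)
    intro g x
    have hg : ev g = 1 := by
      rw [← orderOf_eq_one_iff]
      have d1 : orderOf (ev g) ∣ p := by
        have := (orderOf_map_dvd ev g).trans (orderOf_dvd_natCard g)
        rwa [hc2] at this
      have d2 : orderOf (ev g) ∣ p - 1 := by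
        have := orderOf_dvd_natCard (ev g)
        rwa [IsCyclic.card_mulAut, hc1, Nat.totient_prime hp] at this
      refine Nat.eq_one_of_dvd_coprimes ?_ d1 d2
      exact (Nat.Prime.coprime_iff_not_dvd hp).mpr fun hd => by
        have h2p := hp.two_le
        have := Nat.le_of_dvd (by omega : 0 < p - 1) hd
        omega
    exact DFunLike.congr_fun hg x
  -- the universal identity
  suffices huniv : a.act = snd (SekSuwa.GK R mu p h₂) (SekSuwa.GK R lam p h₁) by rw [huniv, lift_snd]
  apply Over.OverMorphism.ext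
  let D := pullbackSpecIso R (SekSuwa.AK R mu p h₂) (SekSuwa.AK R lam p h₁)
  rw [← cancel_epi (show Spec (CommRingCat.of (TensorProduct R (SekSuwa.AK R mu p h₂) (SekSuwa.AK R lam p h₁))) ⟶
    (SekSuwa.GK R mu p h₂ ⊗ SekSuwa.GK R lam p h₁).left from D.inv)]
  obtain ⟨φ₁, hφ₁⟩ := Spec.map_surjective (show Spec (CommRingCat.of (TensorProduct R (SekSuwa.AK R mu p h₂) (SekSuwa.AK R lam p h₁))) ⟶ Spec (CommRingCat.of (SekSuwa.AK R lam p h₁)) from D.inv ≫ a.act.left)
  obtain ⟨φ₂, hφ₂⟩ := Spec.map_surjective (show Spec (CommRingCat.of (TensorProduct R (SekSuwa.AK R mu p h₂) (SekSuwa.AK R lam p h₁))) ⟶ Spec (CommRingCat.of (SekSuwa.AK R lam p h₁)) from D.inv ≫ (snd (SekSuwa.GK R mu p h₂) (SekSuwa.GK R lam p h₁)).left)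
  refine hφ₁.symm.trans (Eq.trans ?_ hφ₂)
  congr 1
  ext z
  -- points separate the tensor product
  have hsep : ∀ w : TensorProduct R (SekSuwa.AK R mu p h₂) (SekSuwa.AK R lam p h₁),
      (∀ ψ : TensorProduct R (SekSuwa.AK R mu p h₂) (SekSuwa.AK R lam p h₁) →ₐ[R] Ω, ψ w = 0) → w = 0 := by
    intro w hw
    obtain ⟨xm, hxm, hxm0, -⟩ := hroots mu h₂
    obtain ⟨xl, hxl, hxl0, -⟩ := hroots lam h₁
    let em := Groth.L08.SekSuwaGK.rootEquiv h₂ hp.pos
    let el := Groth.L08.SekSuwaGK.rootEquiv h₁ hp.pos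
    let bm := (AdjoinRoot.powerBasis' (Groth.L08.SekSuwaGK.monic h₂ hp.pos)).basis.map em.symm.toLinearEquiv
    let bl := (AdjoinRoot.powerBasis' (Groth.L08.SekSuwaGK.monic h₁ hp.pos)).basis.map el.symm.toLinearEquiv
    have hdm := Groth.L08.SekSuwaGK.natDegree_eq h₂ hp.pos
    have hdl := Groth.L08.SekSuwaGK.natDegree_eq h₁ hp.pos
    let b := bm.tensorProduct bl
    refine b.ext_elem fun ⟨i, j⟩ => ?_
    rw [map_zero, Finsupp.zero_apply]
    let c := fun i j => algebraMap R Ω (b.repr w (i, j))
    have hsum : ∀ u v : Fin p, ∑ i, ∑ j, c i j * xm u ^ (i : ℕ) * xl v ^ (j : ℕ) = 0 := by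
      intro u v
      have := hw (Algebra.TensorProduct.lift
        ((AdjoinRoot.liftAlgHom _ (Algebra.ofId R Ω) (xm u) (hxm0 u)).comp em.toAlgHom)
        ((AdjoinRoot.liftAlgHom _ (Algebra.ofId R Ω) (xl v) (hxl0 v)).comp el.toAlgHom) fun _ _ => .all _ _)
      rw [← b.sum_repr w, map_sum, Fintype.sum_prod_type] at this
      rw [← this]
      refine Finset.sum_congr rfl fun i _ => Finset.sum_congr rfl fun j _ => ?_
      rw [map_smul, Algebra.smul_def, _root_.mul_assoc]
      congr 1
      simp [b, bm, bl, em, el, PowerBasis.coe_basis]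
    have poly0 : ∀ (d : ℕ) (hd : d = p) (f : Fin d → Ω) (y : Fin p → Ω), Function.Injective y →
        (∀ u, ∑ i, f i * y u ^ (i : ℕ) = 0) → f = 0 := by
      intro d hd f y hy h0
      subst hd
      exact Matrix.eq_zero_of_forall_index_sum_mul_pow_eq_zero hy h0
    have hdimm : (AdjoinRoot.powerBasis' (Groth.L08.SekSuwaGK.monic h₂ hp.pos)).dim = p := by
      rw [AdjoinRoot.powerBasis'_dim, hdm]
    have hdiml : (AdjoinRoot.powerBasis' (Groth.L08.SekSuwaGK.monic h₁ hp.pos)).dim = p := by
      rw [AdjoinRoot.powerBasis'_dim, hdl]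
    have h3 : ∀ v, (fun i => ∑ j, c i j * xl v ^ (j : ℕ)) = 0 := fun v =>
      poly0 _ hdimm _ xm hxm fun u => by
        rw [← hsum u v]
        exact Finset.sum_congr rfl fun i _ => by
          rw [Finset.sum_mul]; exact Finset.sum_congr rfl fun j _ => by ring
    have h4 := poly0 _ hdiml (fun j => c i j) xl hxl fun v => congr_fun (h3 v) i
    exact hRΩ ((congr_fun h4 j).trans (map_zero _).symm)
  refine sub_eq_zero.mp (hsep _ fun ψ => ?_)
  rw [map_sub, sub_eq_zero]
  let w : T₀ ⟶ SekSuwa.GK R mu p h₂ ⊗ SekSuwa.GK R lam p h₁ :=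
    Over.homMk (Spec.map (CommRingCat.ofHom ψ.toRingHom) ≫ D.inv) (by
      show (Spec.map _ ≫ D.inv) ≫ Limits.pullback.fst _ _ ≫ Spec.map (CommRingCat.ofHom (algebraMap R _)) = Spec.map _
      rw [Category.assoc, pullbackSpecIso_inv_fst'_assoc, ← Spec.map_comp, ← Spec.map_comp]
      congr 1
      ext r
      show ψ (algebraMap _ _ (algebraMap R (SekSuwa.AK R mu p h₂) r)) = algebraMap R Ω r
      rw [← IsScalarTower.algebraMap_apply, ψ.commutes])
  have hw : w ≫ a.act = w ≫ snd _ _ := by
    conv_lhs => rw [show w = lift (w ≫ fst _ _) (w ≫ snd _ _) by rw [← comp_lift, lift_fst_snd, Category.comp_id]]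
    exact hact _ _
  have key : φ₁ ≫ CommRingCat.ofHom ψ.toRingHom = φ₂ ≫ CommRingCat.ofHom ψ.toRingHom := by
    apply Spec.map_injective
    rw [Spec.map_comp, Spec.map_comp, hφ₁, hφ₂]
    have := congrArg (fun q => q.left) hw
    simp [w] at this ⊢
    exact this
  exact congr(($key).hom z)

end Groth.Agent.S14683
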