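import Groth.Statements.S14684
import Groth.Agent.L09.SekSuwa.Torsor
import Groth.Agent.L09.QuillenTransport
import Groth.Agent.L25.DiagIso
import Groth.Agent.L27.Torsor.Zariski
import Groth.Agent.L19.SpreadLfp
import Groth.Agent.L05.Point.UnramFlat
import Groth.Prelude.Def_ActBC
import Mathlib.RingTheory.FinitePresentation

set_option autoImplicit false
universe u
open CategoryTheory AlgebraicGeometry
open SekSuwa

namespace Groth.Agent.S14684

open Limits MonoidalCategory CartesianMonoidalCategory MonObj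

set_option backward.isDefEq.respectTransparency.types false
set_option linter.style.haveILetI false

theorem lfp_G {R : Type u} [CommRing R] {X : Scheme.{u}} (f : X ⟶ Spec (CommRingCat.of R)) (lam : R) :
    LocallyOfFinitePresentation (Red.bc f (SekSuwa.G R lam)).hom := by
  refine MorphismProperty.pullback_snd (P := @LocallyOfFinitePresentation.{u}) _ _ ?_
  show LocallyOfFinitePresentation (Spec.map (CommRingCat.ofHom (algebraMap R (SekSuwa.A R lam))))
  rw [HasRingHomProperty.Spec_iff (P := @LocallyOfFinitePresentation), CommRingCat.hom_ofHom]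
  haveI : Algebra.FinitePresentation R (SekSuwa.Poly R lam) :=
    inferInstanceAs (Algebra.FinitePresentation R (MvPolynomial (Fin 2) R))
  have h : Algebra.FinitePresentation R (SekSuwa.Poly R lam ⧸ SekSuwa.Poly.relIdeal R lam) :=
    Algebra.FinitePresentation.quotient ⟨{SekSuwa.Poly.rel R lam}, by rw [Finset.coe_singleton]; rfl⟩
  exact RingHom.finitePresentation_algebraMap.2 h

/-- a fppf torsor under the multiplicative group over a local scheme has a section -/
theorem pic_local {R : Type u} [CommRing R] (A : CommRingCat.{u}) [IsLocalRing A]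
    (f : Spec A ⟶ Spec (CommRingCat.of R)) (Q : Over (Spec A))
    (b : AlgGrp.Action (Red.bc f (Red.diag R ℤ)) Q)
    (hb : NonAbH1.IsTorsorFor Scheme.fppfPrecoverage b) : NonAbH1.HasSectionOver Q (𝟙 (Spec A)) := by
  let e₁ : Red.bc f (Red.diag R ℤ) ⟶ Red.bc f (Red.DS (Spec (CommRingCat.of R)) ℤ) :=
    (Over.pullback f).map (Groth.L25.DiagIso.theta R ℤ)
  haveI : IsMonHom e₁ := inferInstanceAs (IsMonHom ((Over.pullback f).map (Groth.L25.DiagIso.theta R ℤ)))
  haveI : IsIso (Groth.L25.DiagIso.theta R ℤ) := ⟨Groth.L25.DiagIso.rho R ℤ,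
    Groth.L25.DiagIso.theta_rho R ℤ, Groth.L25.DiagIso.rho_theta R ℤ⟩
  haveI : IsIso e₁ := inferInstanceAs (IsIso ((Over.pullback f).map (Groth.L25.DiagIso.theta R ℤ)))
  let e₂ : Red.bc f (Red.DS (Spec (CommRingCat.of R)) ℤ) ≅ Red.Gm (Spec A) :=
    ActBC.bcCompIso f _ _ (specULiftZIsTerminal.hom_ext _ _)
  haveI : IsMonHom e₂.hom := ActBC.bcCompIso_isMonHom _ _ _
  let e : Red.bc f (Red.diag R ℤ) ≅ Red.Gm (Spec A) := asIso e₁ ≪≫ e₂
  haveI : IsMonHom e.hom := inferInstanceAs (IsMonHom (e₁ ≫ e₂.hom))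
  have ht := Groth.L09.Conv.isTorsor_restrict e.inv hb
  have hz := Groth.L27.Torsor.isTorsorFor_zariski_Gm Q _
    ⟨ht.1, ht.2.imp fun R hR => ⟨Scheme.fppfPrecoverage_le_fpqcPrecoverage _ hR.1, hR.2⟩⟩
  obtain ⟨C, hC, hs⟩ := hz.2
  obtain ⟨κ, Z, g, rfl⟩ := C.exists_eq_ofArrows
  rw [Scheme.zariskiPrecoverage, Scheme.ofArrows_mem_precoverage_iff] at hC
  obtain ⟨i, hi⟩ := hC.1 (IsLocalRing.closedPoint A)
  haveI : IsOpenImmersion (g i) := hC.2 i
  have hr : Set.range (g i) = Set.univ := Set.eq_univ_iff_forall.2 fun z => by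
    have hsp : z ⤳ IsLocalRing.closedPoint A :=
      (PrimeSpectrum.le_iff_specializes _ _).1 (IsLocalRing.le_maximalIdeal z.isPrime.ne_top)
    exact hsp.mem_open (g i).isOpenEmbedding.isOpen_range hi
  haveI : Surjective (g i) := ⟨Set.range_eq_univ.1 hr⟩
  haveI : Epi (g i).base := (TopCat.epi_iff_surjective _).2 (g i).surjective
  haveI : IsIso (g i) := IsOpenImmersion.isIso (g i)
  obtain ⟨s, hs⟩ := hs (g i) (Presieve.ofArrows.mk i)
  exact ⟨inv (g i) ≫ s, by rw [Category.assoc, hs, IsIso.inv_hom_id]⟩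

theorem units_surjective {A B : Type u} [CommRing A] [CommRing B] [IsLocalRing A] (φ : A →+* B)
    (hφ : Function.Surjective φ) : Function.Surjective (Units.map φ.toMonoidHom) := by
  intro v
  obtain ⟨s, hs⟩ := hφ v
  by_cases h : IsUnit s
  · exact ⟨h.unit, Units.ext hs⟩
  · refine ⟨1, Units.ext ?_⟩
    obtain ⟨t, ht⟩ := hφ ↑v⁻¹
    have h1 : IsUnit (1 - s * t) :=
      IsLocalRing.isUnit_one_sub_self_of_mem_nonunits _ (fun hu => h (isUnit_of_mul_isUnit_left hu))
    have h2 : φ (1 - s * t) = 0 := by rw [map_sub, map_one, map_mul, hs, ht, Units.mul_inv, sub_self]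
    have : Subsingleton B := isUnit_zero_iff.1 (h2 ▸ h1.map φ) |> subsingleton_of_zero_eq_one
    exact Subsingleton.elim _ _

/-- Let R be a discrete valuation ring of characteristic zero and residue characteristic p, λ ≠ 0 in R,
and X a scheme which is faithfully flat over Spec R. Then every torsor for the fppf topology over X
under (the base change to X of) the affine R-group G^(λ) = Spec R[T, 1/(1+λT)], with group law s + t
+ λst, is locally trivial for the Zariski topology; that is, the first higher direct image of G^(λ)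
under the morphism from the flat site to the Zariski site of X vanishes, and fppf and Zariski H¹ of
X with coefficients in G^(λ) agree. -/
theorem result (R : Type u) [CommRing R] [IsDomain R] [IsDiscreteValuationRing R] [CharZero R]
    (p : ℕ) [Fact p.Prime] [CharP (IsLocalRing.ResidueField R) p]
    (lam : R) (hlam : lam ≠ 0)
    (X : Scheme.{u}) (f : X ⟶ Spec (CommRingCat.of R)) [Flat f] [Surjective f]
    (P : Over X) (a : AlgGrp.Action (Red.bc f (SekSuwa.G R lam)) P)
    (hP : NonAbH1.IsTorsorFor Scheme.fppfPrecoverage a) :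
    NonAbH1.IsTorsorFor Scheme.zariskiPrecoverage a := by
  refine ⟨hP.1, Groth.L27.Torsor.locallyTrivial_of_nhd fun x => ?_⟩
  let A := X.presheaf.stalk x
  let d : Spec A ⟶ X := X.fromSpecStalk x
  haveI : Flat d := Groth.L05.Point.flat_fromSpecStalk x
  let c := ActBC.bcCompIso d f (SekSuwa.G R lam) (rfl : d ≫ f = d ≫ f)
  haveI : IsMonHom c.hom := ActBC.bcCompIso_isMonHom _ _ _
  have hb := NonAbH1.isTorsorFor_bc d Scheme.fppfPrecoverage hP
  have ht := Groth.L09.Conv.isTorsor_restrict c.inv hb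
  haveI : IsClosedImmersion (Spec.map (CommRingCat.ofHom (Ideal.Quotient.mk (Ideal.span ({lam} : Set R))))) :=
    IsClosedImmersion.spec_of_surjective _ Ideal.Quotient.mk_surjective
  haveI : IsLocalRing Γ(Spec A, ⊤) :=
    (Scheme.ΓSpecIso A).commRingCatIsoToRingEquiv.symm.isLocalRing
  obtain ⟨s, hs⟩ := Groth.L09.SekSuwaTorsor.exists_section (f := d ≫ f) hlam
    (units_surjective _ (IsClosedImmersion.isAffine_surjective_of_isAffine
      (Limits.pullback.fst (d ≫ f) (Groth.L09.SekSuwaTorsor.quotMap lam))).2)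
    (fun Q b hb => pic_local A (d ≫ f) Q b hb) (Red.bc d P) _ ht
  have hq : NonAbH1.IsTorsorFor Scheme.fpqcPrecoverage a :=
    ⟨hP.1, hP.2.imp fun R hR => ⟨Scheme.fppfPrecoverage_le_fpqcPrecoverage _ hR.1, hR.2⟩⟩
  haveI := Groth.L25.Actions.descendsAlong_flat_fpqc.{u}
  haveI := lfp_G f lam
  haveI : LocallyOfFinitePresentation P.hom :=
    Groth.L09.TorsorSch.of_grp @LocallyOfFinitePresentation.{u} a hq ‹_›
  obtain ⟨U, hxU, σ, -, hσ⟩ := Groth.L19.SpreadLfp.spread_out' (𝟙 X) P.hom (x := x)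
    (s ≫ Limits.pullback.fst P.hom d) (by
      rw [Category.assoc, Limits.pullback.condition, ← Category.assoc, Category.comp_id,
        show s ≫ Limits.pullback.snd P.hom d = 𝟙 _ from hs, Category.id_comp])
  refine ⟨U, U.ι, inferInstance, ⟨⟨x, hxU⟩, rfl⟩, ⟨Over.homMk σ ?_⟩⟩
  rw [hσ, Category.comp_id]
  rfl

end Groth.Agent.S14684
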