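import Groth.Statements.S14685
import Groth.Agent.L08.SekSuwa.PrimeScheme
-- import your own Groth.Agent.* helpers here

set_option autoImplicit false
universe u
open CategoryTheory AlgebraicGeometry
open SekSuwa MonoidalCategory CartesianMonoidalCategory MonObj
open scoped TensorProduct

namespace Groth.Agent.S14685

/-- Let R be a discrete valuation ring of characteristic zero and residue characteristic p containing a
primitive p-th root of unity, with fraction field K, and let G be a finite flat R-group scheme whose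
generic fibre is isomorphic, as a K-group scheme, to the constant group ℤ/pℤ. Then G is isomorphic
as an R-group scheme to G_{λ,1} = Spec R[T]/(((1 + λT)^p − 1)/λ^p) (the kernel of the isogeny ψ on
the one-parameter group with law s + t + λst) for some nonzero λ ∈ R for which that polynomial has
coefficients in R. -/
theorem result (R : Type u) [CommRing R] [IsDomain R] [IsDiscreteValuationRing R] [CharZero R]
    (p : ℕ) [Fact p.Prime] [CharP (IsLocalRing.ResidueField R) p]
    (ζ : R) (hζ : IsPrimitiveRoot ζ p)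
    (G : Over (Spec (CommRingCat.of R))) [GrpObj G] [IsFinite G.hom] [Flat G.hom]
    (e : Red.bc (Spec.map (CommRingCat.ofHom (algebraMap R (FractionRing R)))) G ≅ TwC.const (Spec (CommRingCat.of (FractionRing R))) (Multiplicative (ZMod p)))
    (he : TwC.IsConstGrp (Multiplicative (ZMod p)) (Red.bc (Spec.map (CommRingCat.ofHom (algebraMap R (FractionRing R)))) G) e) :
    ∃ (lam : R) (h : SekSuwa.DivCond lam p), lam ≠ 0 ∧ Nonempty (Grp.mk G ≅ Grp.mk (SekSuwa.GK R lam p h)) := by
  classical
  haveI : IsAffine G.left := isAffine_of_isAffineHom G.hom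
  obtain ⟨H, ⟨eH⟩⟩ := (essImage_hopfSpec (G := Grp.mk G)).mpr ‹IsAffine G.left›
  let A := H.unop
  let X : Over (Spec (CommRingCat.of R)) := (Spec (CommRingCat.of A)).asOver (Spec (CommRingCat.of R))
  let φ : X ⟶ G := eH.hom.hom.hom
  let ψ : G ⟶ X := eH.inv.hom.hom
  have h1 : φ ≫ ψ = 𝟙 X := congrArg (fun f => f.hom.hom) eH.hom_inv_id
  have h2 : ψ ≫ φ = 𝟙 G := congrArg (fun f => f.hom.hom) eH.inv_hom_id
  haveI : IsMonHom φ := eH.hom.hom.isMonHom_hom
  haveI : IsMonHom ψ := eH.inv.hom.isMonHom_hom
  haveI : IsIso φ := ⟨ψ, h1, h2⟩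
  haveI : IsIso φ.left := inferInstanceAs (IsIso ((Over.forget _).map φ))
  have hX : X.hom = Spec.map (CommRingCat.ofHom (algebraMap R A)) := rfl
  have hw : φ.left ≫ G.hom = X.hom := Over.w φ
  haveI hf : IsFinite X.hom := hw ▸ inferInstance
  haveI hfl : Flat X.hom := hw ▸ inferInstance
  rw [hX] at hf hfl
  haveI : Module.Finite R A := RingHom.finite_algebraMap.mp ((IsFinite.SpecMap_iff _).mp hf)
  haveI : Module.Flat R A := RingHom.flat_algebraMap_iff.mp (Flat.SpecMap_iff.mp hfl)
  haveI : Module.Free R A := Module.free_of_flat_of_isLocalRing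
  let f := Spec.map (CommRingCat.ofHom (algebraMap R (FractionRing R)))
  let e' : Red.bc f X ≅ TwC.const (Spec (CommRingCat.of (FractionRing R))) (Multiplicative (ZMod p)) :=
    (Over.pullback f).mapIso ⟨φ, ψ, h1, h2⟩ ≪≫ e
  have he' : TwC.IsConstGrp (Multiplicative (ZMod p)) (Red.bc f X) e' := fun m n => by
    have hm := he m n
    simp only [e', Iso.trans_inv, Functor.mapIso_inv, ← Category.assoc]
    rw [← MonObj.mul_comp, hm]
  obtain ⟨Φ, Q, hQ, hΦ, hQmul⟩ :=
    Groth.L08.SekSuwaPrime.exists_points (R := CommRingCat.of R) (FractionRing R) A (M := Multiplicative (ZMod p)) e' he'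
  -- the points are integral
  have hint : ∀ m a, ∃ r, algebraMap R (FractionRing R) r = Q m a := fun m a =>
    IsIntegrallyClosed.isIntegral_iff.1 ((Algebra.IsIntegral.isIntegral (R := R) a).map (Q m))
  choose P₀ hP₀ using hint
  have hR := IsFractionRing.injective R (FractionRing R)
  let P : ZMod p → (A →ₐ[R] R) := fun i =>
    { toFun := P₀ (Multiplicative.ofAdd i)
      map_one' := hR (by rw [hP₀, map_one, map_one])
      map_mul' := fun x y => hR (by rw [hP₀, map_mul, map_mul, hP₀, hP₀])
      map_zero' := hR (by rw [hP₀, map_zero, map_zero])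
      map_add' := fun x y => hR (by rw [hP₀, map_add, map_add, hP₀, hP₀])
      commutes' := fun r => hR (by rw [hP₀, AlgHom.commutes]; rfl) }
  have hP : ∀ i, (Algebra.ofId R (FractionRing R)).comp (P i) = Q (Multiplicative.ofAdd i) := fun i =>
    AlgHom.ext fun a => hP₀ _ a
  have hinj : ∀ a, (∀ i, P i a = 0) → a = 0 := by
    intro a ha
    refine Algebra.TensorProduct.includeLeft_injective (S := R) (B := FractionRing R) hR ?_
    rw [map_zero, Algebra.TensorProduct.includeLeft_apply]
    refine Φ.injective ?_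
    rw [map_zero]
    funext ⟨m⟩
    rw [← hQ, ← hP₀, show P₀ m a = P (Multiplicative.toAdd m) a from rfl, ha, map_zero]
    rfl
  let L : (FractionRing R) ⊗[R] A ≃ₐ[FractionRing R] (ULift.{u} (Multiplicative (ZMod p)) → FractionRing R) :=
    AlgEquiv.ofRingEquiv (f := (Algebra.TensorProduct.comm R (FractionRing R) A).toRingEquiv.trans Φ) fun c => by
      funext ⟨m⟩
      show Φ ((1 : A) ⊗ₜ c) ⟨m⟩ = c
      exact hΦ m c
  have hrank : Module.finrank R A = p := by
    haveI : NeZero p := ⟨(Fact.out : p.Prime).ne_zero⟩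
    rw [← Module.finrank_baseChange (R := FractionRing R) (S := R) (M' := A), L.toLinearEquiv.finrank_eq,
      Module.finrank_pi]
    simp
  have hmul : ∀ i j, WithConv.toConv (P i) * WithConv.toConv (P j) = WithConv.toConv (P (i + j)) := fun i j => by
    have h := hQmul (Multiplicative.ofAdd i) (Multiplicative.ofAdd j)
    rw [← ofAdd_add, ← hP, ← hP, ← hP] at h
    refine WithConv.ofConv_injective (AlgHom.ext fun a => hR ?_)
    have ha := congrArg (fun g : WithConv (A →ₐ[R] FractionRing R) => g.ofConv a) h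
    simp only [AlgHom.convMul_apply] at ha ⊢
    refine Eq.trans ?_ ha
    induction CoalgebraStruct.comul (R := R) a using TensorProduct.induction_on with
    | zero => simp
    | tmul x y => simp [Algebra.ofId_apply]
    | add x y hx hy => simp only [map_add, hx, hy]
  obtain ⟨lam, hc, hl, ⟨F⟩⟩ := Groth.L08.SekSuwaPrime.exists_bialgEquiv ζ P hζ hinj hrank hmul
  refine ⟨lam, hc, hl, ⟨?_⟩⟩
  let a : X ⟶ SekSuwa.GK R lam p hc := SekSuwa.specHom (F : SekSuwa.AK R lam p hc →ₐc[R] A)
  let b : SekSuwa.GK R lam p hc ⟶ X := SekSuwa.specHom (F.symm : A →ₐc[R] SekSuwa.AK R lam p hc)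
  have hab : a ≫ b = 𝟙 X := by
    apply Over.OverMorphism.ext
    show Spec.map _ ≫ Spec.map _ = 𝟙 _
    rw [← Spec.map_comp, ← Spec.map_id]
    congr 1
    ext x
    exact F.apply_symm_apply x
  have hba : b ≫ a = 𝟙 _ := by
    apply Over.OverMorphism.ext
    show Spec.map _ ≫ Spec.map _ = 𝟙 _
    rw [← Spec.map_comp, ← Spec.map_id]
    congr 1
    ext x
    exact F.symm_apply_apply x
  let i : G ≅ SekSuwa.GK R lam p hc :=
    { hom := ψ ≫ a
      inv := b ≫ φ
      hom_inv_id := by rw [Category.assoc, ← Category.assoc a, hab, Category.id_comp, h2]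
      inv_hom_id := by rw [Category.assoc, ← Category.assoc φ, h1, Category.id_comp, hba] }
  haveI : IsMonHom i.hom := inferInstanceAs (IsMonHom (ψ ≫ a))
  exact Grp.mkIso i

end Groth.Agent.S14685
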