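import Groth.Statements.S14686
import Groth.Agent.L08.SekSuwa.ModelScheme
import Groth.Agent.L08.SekSuwa.GKFinite
import Groth.Agent.L08.SekSuwa.SpecKernel
import Groth.Agent.L15.KerFlat.Basic
import Mathlib.GroupTheory.Sylow
import Mathlib.GroupTheory.PGroup
import Mathlib.GroupTheory.SpecificGroups.Cyclic
-- import your own Groth.Agent.* helpers here

set_option autoImplicit false
universe u
open CategoryTheory AlgebraicGeometry
open SekSuwa MonoidalCategory CartesianMonoidalCategory MonObj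

namespace Groth.Agent.S14686

/-- Let R be a discrete valuation ring of characteristic zero and residue characteristic p containing a
primitive p²-th root of unity, with fraction field K, and let G be a finite flat R-group scheme of
order p² (finite locally free of degree p² over Spec R) whose generic fibre is a constant K-group
scheme (so the underlying group has order p²). Then G is an extension of G_{μ,1} by G_{λ,1} for some
nonzero λ, μ ∈ R satisfying the divisibility condition defining these kernels: there are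
homomorphisms of R-group schemes G_{λ,1} → G and G → G_{μ,1} whose composite is trivial, with G a
pseudo-torsor under G_{λ,1} over G_{μ,1} and G → G_{μ,1} admitting sections locally for the fppf
topology. -/
theorem result (R : Type u) [CommRing R] [IsDomain R] [IsDiscreteValuationRing R] [CharZero R]
    (p : ℕ) [Fact p.Prime] [CharP (IsLocalRing.ResidueField R) p]
    (ζ : R) (hζ : IsPrimitiveRoot ζ (p ^ 2))
    (G : Over (Spec (CommRingCat.of R))) [GrpObj G] (hG : Mor2.IsFinLocFreeOfDeg (p ^ 2) G.hom)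
    (M : Type) [Group M] [Finite M]
    (e : Red.bc (Spec.map (CommRingCat.ofHom (algebraMap R (FractionRing R)))) G ≅ TwC.const (Spec (CommRingCat.of (FractionRing R))) M)
    (he : TwC.IsConstGrp M (Red.bc (Spec.map (CommRingCat.ofHom (algebraMap R (FractionRing R)))) G) e) :
    ∃ (lam mu : R) (h₁ : SekSuwa.DivCond lam p) (h₂ : SekSuwa.DivCond mu p)
      (u : SekSuwa.GK R lam p h₁ ⟶ G) (v : G ⟶ SekSuwa.GK R mu p h₂),
      lam ≠ 0 ∧ mu ≠ 0 ∧ NonAbH1.IsExactSeq Scheme.fppfPrecoverage u v := by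
  classical
  have hp : p.Prime := Fact.out
  haveI : IsFinite G.hom := hG.1.1
  haveI : Flat G.hom := hG.1.2.1
  obtain ⟨A, _, _, P, φ, hφm, hφi, hP, hdeg⟩ := Groth.L08.Models.exists_model G e he
  let x₀ : Spec (CommRingCat.of R) := (⟨⊥, Ideal.isPrime_bot⟩ : PrimeSpectrum R)
  have hM : Nat.card M = p ^ 2 := (hdeg x₀).symm.trans (hG.2 x₀)
  obtain ⟨N, hN⟩ := Sylow.exists_subgroup_card_pow_prime (G := M) p (n := 1) (hM ▸ pow_dvd_pow p (by norm_num))
  rw [pow_one] at hN
  haveI : N.Normal := ⟨fun n hn g => by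
    rw [IsPGroup.commutative_of_card_eq_prime_sq hM g n, _root_.mul_assoc, mul_inv_cancel, _root_.mul_one]; exact hn⟩
  have hQ : Nat.card (M ⧸ N) = p := by
    have h := Subgroup.card_eq_card_quotient_mul_card_subgroup N
    rw [hM, hN, pow_two] at h
    exact (Nat.eq_of_mul_eq_mul_right hp.pos h).symm
  -- the two models of order `p`
  letI := hP.clos_isHopfIdeal N
  letI := hP.invHopf N
  have hI := hP.clos N
  have hB := hP.inv N
  haveI := hI.finite
  haveI := hI.free
  haveI := hB.finite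
  haveI := hB.free
  have hζp : IsPrimitiveRoot (ζ ^ p) p := hζ.pow (pow_pos hp.pos 2) (pow_two p)
  have hcardp : Nat.card (Multiplicative (ZMod p)) = p := by
    rw [Nat.card_congr Multiplicative.toAdd, Nat.card_zmod]
  let eN : Multiplicative (ZMod p) ≃* N := mulEquivOfPrimeCardEq hcardp hN
  let eQ : Multiplicative (ZMod p) ≃* M ⧸ N := mulEquivOfPrimeCardEq hcardp hQ
  obtain ⟨lam, h₁, hl, ⟨F₁⟩⟩ := Groth.L08.SekSuwaPrime.exists_bialgEquiv (ζ ^ p)
    (fun i => Groth.L08.Models.closPt N P (eN (Multiplicative.ofAdd i))) hζp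
    (fun a ha => hI.inj a fun n => by
      have := ha (Multiplicative.toAdd (eN.symm n))
      rwa [ofAdd_toAdd, MulEquiv.apply_symm_apply] at this)
    (hI.rank.trans hN)
    (fun i j => by rw [hI.mul, ← map_mul, ← ofAdd_add])
  obtain ⟨mu, h₂, hm, ⟨F₂⟩⟩ := Groth.L08.SekSuwaPrime.exists_bialgEquiv (ζ ^ p)
    (fun i => Groth.L08.Models.invPt N P (eQ (Multiplicative.ofAdd i))) hζp
    (fun a ha => hB.inj a fun n => by
      have := ha (Multiplicative.toAdd (eQ.symm n))
      rwa [ofAdd_toAdd, MulEquiv.apply_symm_apply] at this)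
    (hB.rank.trans hQ)
    (fun i j => by rw [hB.mul, ← map_mul, ← ofAdd_add])
  -- the maps
  let q₀ : A →ₐc[R] SekSuwa.AK R lam p h₁ :=
    (F₁.symm : A ⧸ Groth.L08.Models.closIdeal N P →ₐc[R] SekSuwa.AK R lam p h₁).comp
      (Bialgebra.Quotient.mkBialgHom (Groth.L08.Models.closIdeal N P))
  let f₀ : SekSuwa.AK R mu p h₂ →ₐc[R] A :=
    (hP.invIncl N).comp (F₂ : SekSuwa.AK R mu p h₂ →ₐc[R] Groth.L08.Models.invAlg N P)
  have hq : Function.Surjective q₀ := F₁.symm.surjective.comp Ideal.Quotient.mk_surjective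
  have hker : RingHom.ker (q₀ : A →ₐ[R] SekSuwa.AK R lam p h₁) =
      (RingHom.ker (Bialgebra.counitAlgHom R (SekSuwa.AK R mu p h₂))).map (f₀ : SekSuwa.AK R mu p h₂ →+* A) := by
    have e1 : RingHom.ker (q₀ : A →ₐ[R] SekSuwa.AK R lam p h₁) = Groth.L08.Models.closIdeal N P := by
      ext a
      show F₁.symm (Ideal.Quotient.mk _ a) = 0 ↔ _
      exact (map_eq_zero_iff F₁.symm (EquivLike.injective F₁.symm)).trans Ideal.Quotient.eq_zero_iff_mem
    have e2 : (RingHom.ker (Bialgebra.counitAlgHom R (SekSuwa.AK R mu p h₂))).map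
        ((F₂ : SekSuwa.AK R mu p h₂ →ₐc[R] Groth.L08.Models.invAlg N P) : _ →+* Groth.L08.Models.invAlg N P) =
        RingHom.ker (Bialgebra.counitAlgHom R (Groth.L08.Models.invAlg N P)) := by
      refine le_antisymm (Ideal.map_le_iff_le_comap.2 fun z hz => ?_) fun b hb => ?_
      · exact (CoalgHomClass.counit_comp_apply F₂ z).trans hz
      · rw [show b = F₂ (F₂.symm b) from (F₂.apply_symm_apply b).symm]
        exact Ideal.mem_map_of_mem _ ((CoalgHomClass.counit_comp_apply F₂.symm b).trans hb)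
    rw [e1, hP.closIdeal_eq N, ← e2, Ideal.map_map]
    rfl
  have hk := Groth.L08.SpecKernel.isKernel f₀ q₀ hq hker
  let u : SekSuwa.GK R lam p h₁ ⟶ G := SekSuwa.specHom q₀ ≫ φ
  let v : G ⟶ SekSuwa.GK R mu p h₂ := inv φ ≫ SekSuwa.specHom f₀
  haveI : IsMonHom (inv φ) := by
    constructor
    · rw [← cancel_mono φ, Category.assoc, IsIso.inv_hom_id, Category.comp_id, IsMonHom.one_hom]
    · rw [← cancel_mono φ, Category.assoc, IsIso.inv_hom_id, Category.comp_id, Category.assoc, IsMonHom.mul_hom,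
        ← Category.assoc, MonoidalCategory.tensorHom_comp_tensorHom, IsIso.inv_hom_id,
        MonoidalCategory.id_tensorHom_id, Category.id_comp]
  have hker' : AlgGrp.IsKernel u v :=
    hk.of_iso (Iso.refl _) (asIso φ) (Iso.refl _) (Iso.refl _) (by simp [u]) (by simp) (by simp [v]) (by simp)
  have hd₁ := Groth.L08.SekSuwaGK.isFinLocFreeOfDeg h₁ hp.pos
  have hd₂ := Groth.L08.SekSuwaGK.isFinLocFreeOfDeg h₂ hp.pos
  obtain ⟨⟨⟨hvf, hvl, hvp⟩, -⟩, hvs⟩ :=
    Groth.L15.KerFlat.isFinLocFreeOfDeg_of_kernel hker' p p hp.pos hd₁ hd₂ (pow_two p ▸ hG)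
  refine ⟨lam, mu, h₁, h₂, u, v, hl, hm, inferInstance, inferInstance, Groth.L15.KerFlat.kernel_comp hker', ?_, ?_⟩
  · rw [show (G ◁ u) ≫ μ[G] = fst G _ * (snd G _ ≫ u) by rw [Hom.mul_def]; congr 1]
    exact Groth.L15.KerFlat.isPullback_kernelPair hker'
  · refine ⟨Presieve.singleton v.left, Scheme.Hom.singleton_mem_fppfPrecoverage _, ?_⟩
    rintro S' g ⟨⟩
    exact ⟨𝟙 _, Category.id_comp _⟩

end Groth.Agent.S14686
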