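import Groth.Statements.S14695
import Groth.Agent.L09.GenericSection
import Groth.Agent.L09.TorsorSch
import Groth.Agent.L09.QuillenTransport
import Groth.Agent.L23.AffineMor

set_option autoImplicit false
universe u
open CategoryTheory AlgebraicGeometry
open NonAbH1

open Limits MonoidalCategory CartesianMonoidalCategory

set_option linter.style.haveILetI false
set_option backward.isDefEq.respectTransparency.types false

namespace Groth.Agent.S14695

lemma exists_point_of_iso {S U : Scheme.{u}} {G G' P P' : Over S} [GrpObj G] [GrpObj G']
    (g : G ⟶ G') [IsMonHom g] (d : U ⟶ S) [IsIso ((Over.pullback d).map g)]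
    {a : AlgGrp.Action G P} {a' : AlgGrp.Action G' P'}
    (ha : NonAbH1.IsTorsorFor Scheme.fppfPrecoverage a) (ha' : IsPseudoTorsorSch a')
    (hpush : NonAbH1.IsPushforwardAlongSch g a a') (h' : NonAbH1.HasSectionOver P' d) :
    NonAbH1.HasSectionOver P d := by
  obtain ⟨f, hf⟩ := hpush
  let φ : Red.bc d G ⟶ Red.bc d G' := (Over.pullback d).map g
  haveI : IsIso φ := ‹_›
  haveI : IsMonHom φ := inferInstanceAs (IsMonHom ((Over.pullback d).map g))
  let e : Red.bc d G ≅ Red.bc d G' := asIso φ
  haveI : IsMonHom e.hom := inferInstanceAs (IsMonHom φ)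
  haveI : IsMonHom e.inv := inferInstance
  have hb := isTorsorFor_bc d Scheme.fppfPrecoverage ha
  have ht := Groth.L09.Conv.isTorsor_restrict e.inv hb
  have hq : NonAbH1.IsTorsorFor Scheme.fpqcPrecoverage ((a.bc d).restrict e.inv) :=
    ⟨ht.1, ht.2.imp fun R hR => ⟨Scheme.fppfPrecoverage_le_fpqcPrecoverage _ hR.1, hR.2⟩⟩
  let fd : Red.bc d P ⟶ Red.bc d P' := (Over.pullback d).map f
  haveI : IsIso fd := Groth.L09.TorsorSch.isIso_of_isEquivariant _ (a'.bc d) hq
    (isPseudoTorsorSch_bc d ha') fd (by
      have h0 : a.act ≫ f = (g ⊗ₘ f) ≫ a'.act := by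
        rw [hf]; rfl
      rw [AlgGrp.Action.restrict_act, AlgGrp.Action.bc_act, AlgGrp.Action.bc_act]
      simp only [Category.assoc, fd]
      rw [← Functor.map_comp, h0, Functor.map_comp, ← Functor.LaxMonoidal.μ_natural_assoc,
        ← MonoidalCategory.tensorHom_id, MonoidalCategory.tensorHom_comp_tensorHom_assoc, Category.id_comp,
        show e.inv ≫ (Over.pullback d).map g = 𝟙 _ from e.inv_hom_id,
        MonoidalCategory.id_tensorHom])
  obtain ⟨s, hs⟩ := h'
  let r : Over.mk (𝟙 U) ⟶ Red.bc d P' := Over.homMk (Limits.pullback.lift s (𝟙 U) (by simp [hs]))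
    (Limits.pullback.lift_snd _ _ _)
  refine ⟨(r ≫ inv fd).left ≫ Limits.pullback.fst P.hom d, ?_⟩
  rw [Category.assoc, Limits.pullback.condition, ← Category.assoc,
    show (r ≫ inv fd).left ≫ Limits.pullback.snd P.hom d = 𝟙 _ from Over.w (r ≫ inv fd)]
  exact Category.id_comp _


/-- In the case where the morphism Y → X is the identity of X: let X be a normal integral scheme
(integral, with every local ring an integrally closed domain), G and G' X-group schemes which are
finite and flat over X, and g : G → G' a homomorphism which becomes an isomorphism after base change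
to the spectrum of the function field of X. If an fppf G-torsor P over X becomes trivial after
extension of the structure group along g — there is an fppf G'-torsor P' over X with a g-equivariant
X-morphism P → P', and P' has a section over X — then P has a section over X. (The published
statement takes G, G' commutative and all schemes Noetherian, allows also composition with the
pull-back along a morphism Y → X admitting a rational section, and is phrased as injectivity of
H¹(X, G) → H¹(Y, G'_Y); this row is the case where Y → X is the identity of X, as the trivial-kernel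
assertion the argument establishes, for which commutativity and the Noetherian condition are not
needed.) -/
theorem result {X : Scheme.{u}} [IsIntegral X]
    (hX : Pi1.IsNormalScheme X) (G G' : Over X) [GrpObj G] [GrpObj G']
    [IsFinite G.hom] [Flat G.hom] [IsFinite G'.hom] [Flat G'.hom]
    (g : G ⟶ G') [IsMonHom g]
    (hg : IsIso ((Over.pullback (X.fromSpecStalk (genericPoint X))).map g))
    (P : Over X) (a : AlgGrp.Action G P) (hP : NonAbH1.IsTorsorFor Scheme.fppfPrecoverage a)
    (P' : Over X) (a' : AlgGrp.Action G' P') (hP' : NonAbH1.IsTorsorFor Scheme.fppfPrecoverage a')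
    (hpush : NonAbH1.IsPushforwardAlongSch g a a') (htriv : NonAbH1.HasSectionOver P' (𝟙 X)) :
    NonAbH1.HasSectionOver P (𝟙 X) := by
  haveI := hg
  have hq : NonAbH1.IsTorsorFor Scheme.fpqcPrecoverage a :=
    ⟨hP.1, hP.2.imp fun R hR => ⟨Scheme.fppfPrecoverage_le_fpqcPrecoverage _ hR.1, hR.2⟩⟩
  haveI : IsIntegralHom P.hom := Groth.L09.TorsorSch.of_grp @IsIntegralHom a hq inferInstance
  obtain ⟨s', hs'⟩ := htriv
  obtain ⟨x, hx⟩ := exists_point_of_iso g (X.fromSpecStalk (genericPoint X)) hP hP'.1 hpush
    ⟨X.fromSpecStalk (genericPoint X) ≫ s', by rw [Category.assoc, hs', Category.comp_id]⟩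
  exact Groth.L09.GenericSection.exists_section hX P.hom x hx

end Groth.Agent.S14695
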