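import Groth.Statements.S14688
import Groth.Agent.L09.SekSuwa.Pts
import Groth.Agent.L08.SekSuwa.GKFinite
import Groth.Agent.S14695
import Groth.Agent.L05.Point.UnramFlat

set_option autoImplicit false
universe u
open CategoryTheory AlgebraicGeometry
open SekSuwa

namespace Groth.Agent.S14688

open Limits MonoidalCategory CartesianMonoidalCategory MonObj Groth.L09.SekSuwaPts

set_option backward.isDefEq.respectTransparency.types false
set_option linter.style.haveILetI false

section

variable {R : Type u} [CommRing R] {X : Scheme.{u}} (f : X ⟶ Spec (CommRingCat.of R)) {lam : R} {N : ℕ}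
  (h : SekSuwa.DivCond lam N)

theorem pr_alphaN {W : Over X} (k : W ⟶ Red.bc f (SekSuwa.GK R lam N h)) :
    pr (B := MonoidAlgebra R (Multiplicative (ZMod N)))
        (k ≫ (Over.pullback f).map (SekSuwa.alphaN R lam N h))
        (MonoidAlgebra.single (Multiplicative.ofAdd (1 : ZMod N)) 1) =
      1 + str f W lam * pr (B := SekSuwa.AK R lam N h) k SekSuwa.AK.t := by
  have e0 : (1 + str f W lam * pr (B := SekSuwa.AK R lam N h) k SekSuwa.AK.t) =
      pr (B := SekSuwa.AK R lam N h) k (1 + lam • SekSuwa.AK.t) := by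
    rw [map_add, map_one, Algebra.smul_def, map_mul, pr_algebraMap]
  rw [e0, pr, pr, CommRingCat.hom_comp, RingHom.comp_apply, CommRingCat.hom_comp, RingHom.comp_apply]
  have e : (k ≫ (Over.pullback f).map (SekSuwa.alphaN R lam N h)).left ≫
      pullback.fst (Red.diag R (ZMod N)).hom f =
      (k.left ≫ pullback.fst (SekSuwa.GK R lam N h).hom f) ≫ (SekSuwa.alphaN R lam N h).left := by
    rw [Over.comp_left, Category.assoc, Category.assoc]
    congr 1
    exact pullback.lift_fst _ _ _
  erw [e]
  rw [SekSuwa.alphaN, SekSuwa.specHom_left]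
  refine congrArg (fun z => (k.left ≫ pullback.fst (SekSuwa.GK R lam N h).hom f).appTop.hom z) ?_
  refine Eq.trans ?_ (congrArg _ (SekSuwa.alphaNHom_single_one R lam N h))
  exact (congr(($(Scheme.ΓSpecIso_inv_naturality (CommRingCat.ofHom
    (SekSuwa.alphaNHom R lam N h : MonoidAlgebra R (Multiplicative (ZMod N)) →+* SekSuwa.AK R lam N h)))).hom
      (MonoidAlgebra.single (Multiplicative.ofAdd (1 : ZMod N)) 1))).symm

/-- `α^{λ,N}` is bijective on points where `λ` is invertible -/
theorem bijective_alphaN (hN : 0 < N) (W : Over X) (hu : IsUnit (str f W lam)) :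
    Function.Bijective
      (fun k : W ⟶ Red.bc f (SekSuwa.GK R lam N h) => k ≫ (Over.pullback f).map (SekSuwa.alphaN R lam N h)) := by
  letI := (str f W).toAlgebra
  have gen : ∀ m : Multiplicative (ZMod N), ∃ i : ℕ, m = Multiplicative.ofAdd (1 : ZMod N) ^ i := fun m => by
    haveI : NeZero N := ⟨hN.ne'⟩
    exact ⟨(Multiplicative.toAdd m).val, by
      rw [← ofAdd_nsmul, nsmul_one, ZMod.natCast_zmod_val, ofAdd_toAdd]⟩
  refine ⟨fun k k' e => ?_, fun q => ?_⟩
  · have h1 := congrArg (fun q => pr (B := MonoidAlgebra R (Multiplicative (ZMod N))) q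
      (MonoidAlgebra.single (Multiplicative.ofAdd (1 : ZMod N)) 1)) e
    simp only [pr_alphaN, add_right_inj] at h1
    have ht := hu.mul_left_cancel h1
    refine pr_inj (B := SekSuwa.AK R lam N h) (RingHom.ext fun z => ?_)
    let H : ∀ k : W ⟶ Red.bc f (SekSuwa.GK R lam N h), SekSuwa.AK R lam N h →ₐ[R] Γ(W.left, ⊤) := fun k =>
      { pr (B := SekSuwa.AK R lam N h) k with commutes' := pr_algebraMap k }
    have : H k = H k' := by
      refine SekSuwa.AK.algHom_ext ht ?_
      rw [Groth.L08.SekSuwaGK.inv_eq h hN, map_pow, map_pow, map_add, map_add, map_one, map_one, map_smul,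
        map_smul, show H k SekSuwa.AK.t = H k' SekSuwa.AK.t from ht]
    exact DFunLike.congr_fun this z
  · let φ := pr (B := MonoidAlgebra R (Multiplicative (ZMod N))) q
    let z := φ (MonoidAlgebra.single (Multiplicative.ofAdd (1 : ZMod N)) 1)
    have hz : z ^ N = 1 := by
      have : (Multiplicative.ofAdd (1 : ZMod N)) ^ N = 1 := by
        rw [← ofAdd_nsmul, nsmul_one, ZMod.natCast_self, ofAdd_zero]
      calc z ^ N = (φ.toMonoidHom.comp (MonoidAlgebra.of R _)) (Multiplicative.ofAdd (1 : ZMod N) ^ N) := by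
            rw [map_pow]; rfl
        _ = 1 := by rw [this, map_one]
    let b : Γ(W.left, ⊤) := ↑hu.unit⁻¹ * (z - 1)
    have hb : 1 + str f W lam * b = z := by
      rw [← _root_.mul_assoc, hu.mul_val_inv, _root_.one_mul, add_sub_cancel]
    have hP : Polynomial.aeval b (SekSuwa.psiPoly lam N h) = 0 := by
      have := SekSuwa.aeval_psiPoly h b
      rw [show algebraMap R Γ(W.left, ⊤) lam = str f W lam from rfl, hb, hz, sub_self, map_pow] at this
      exact (hu.pow N).mul_right_eq_zero.1 this
    let H : SekSuwa.AK R lam N h →ₐ[R] Γ(W.left, ⊤) :=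
      (AdjoinRoot.liftAlgHom _ (Algebra.ofId R _) b hP).comp (Groth.L08.SekSuwaGK.rootEquiv h hN).toAlgHom
    obtain ⟨k, hk⟩ := exists_pr (f := f) (W := W) H.toRingHom H.commutes
    have hkt : pr (B := SekSuwa.AK R lam N h) k SekSuwa.AK.t = b := by
      rw [hk]
      show AdjoinRoot.liftAlgHom _ (Algebra.ofId R _) b hP (Groth.L08.SekSuwaGK.rootEquiv h hN SekSuwa.AK.t) = b
      rw [show Groth.L08.SekSuwaGK.rootEquiv h hN SekSuwa.AK.t = AdjoinRoot.root _ from
        Groth.L08.SekSuwaGK.toRoot_t h hN, AdjoinRoot.liftAlgHom_root]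
    refine ⟨k, pr_inj (B := MonoidAlgebra R (Multiplicative (ZMod N))) (MonoidAlgebra.ringHom_ext (fun r => ?_)
      fun m => ?_)⟩
    · have : MonoidAlgebra.single (1 : Multiplicative (ZMod N)) r = algebraMap R _ r := by
        simp [MonoidAlgebra.coe_algebraMap]
      rw [this, pr_algebraMap, pr_algebraMap]
    · obtain ⟨i, rfl⟩ := gen m
      let F : ∀ q : W ⟶ Red.bc f (Red.diag R (ZMod N)), Multiplicative (ZMod N) →* Γ(W.left, ⊤) := fun q =>
        (pr (B := MonoidAlgebra R (Multiplicative (ZMod N))) q).toMonoidHom.comp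
          (MonoidAlgebra.of R (Multiplicative (ZMod N)))
      have e1 : F (k ≫ (Over.pullback f).map (SekSuwa.alphaN R lam N h)) (Multiplicative.ofAdd 1) =
          F q (Multiplicative.ofAdd 1) :=
        ((pr_alphaN f h k).trans (by rw [hkt])).trans hb
      show F (k ≫ (Over.pullback f).map (SekSuwa.alphaN R lam N h)) (Multiplicative.ofAdd (1 : ZMod N) ^ i) =
        F q (Multiplicative.ofAdd (1 : ZMod N) ^ i)
      rw [map_pow, map_pow, e1]

theorem isIso_alphaN (hN : 0 < N) {U : Scheme.{u}} (d : U ⟶ X)
    (hu : IsUnit (str f (Over.mk d) lam)) :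
    IsIso ((Over.pullback d).map ((Over.pullback f).map (SekSuwa.alphaN R lam N h))) := by
  refine isIso_of_yoneda_map_bijective _ fun V => ?_
  let W : Over X := (Over.map d).obj V
  have hW : IsUnit (str f W lam) := by
    rw [← str_comp f (Over.homMk V.hom : W ⟶ Over.mk d) lam]
    exact hu.map _
  have hb := bijective_alphaN f h hN W hW
  let e := fun Y => (Over.mapPullbackAdj d).homEquiv V Y
  have : (fun k => k ≫ (Over.pullback d).map ((Over.pullback f).map (SekSuwa.alphaN R lam N h))) =
      (e _) ∘ (fun k : W ⟶ Red.bc f (SekSuwa.GK R lam N h) => k ≫ (Over.pullback f).map (SekSuwa.alphaN R lam N h)) ∘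
        (e _).symm := by
    funext k
    simp only [Function.comp_apply, e, Adjunction.homEquiv_naturality_right, Equiv.apply_symm_apply]
  rw [this]
  exact ((e _).bijective.comp hb).comp (e _).symm.bijective

end

/-- Let R be a discrete valuation ring of characteristic zero and residue characteristic p, n ≥ 1, λ ∈ R
satisfying the divisibility condition under which the finite flat R-group scheme G_{λ,n} (the kernel
of ψ on the one-parameter group with law s + t + λst, of order p^n) and its homomorphism α^{λ,n} to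
μ_{p^n} are defined, and X a normal integral scheme which is faithfully flat over Spec R. If an fppf
torsor P over X under G_{λ,n} becomes trivial after extension of the structure group along α^{λ,n} —
there is an fppf μ_{p^n}-torsor P' over X with an α^{λ,n}-equivariant X-morphism P → P', and P' has
a section over X — then P has a section over X. So H¹(X, G_{λ,n}) → H¹(X, μ_{p^n}) has trivial
kernel, and the groups H¹(X, G_{π^i,n}) for decreasing i form an increasing filtration of H¹(X,
μ_{p^n}). (The published statement is the filtration itself, for the commutative groups in question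
injectivity of these homomorphisms; the trivial-kernel assertion stated here is what the argument
establishes.) -/
theorem result (R : Type u) [CommRing R] [IsDomain R] [IsDiscreteValuationRing R] [CharZero R]
    (p : ℕ) [Fact p.Prime] [CharP (IsLocalRing.ResidueField R) p]
    (n : ℕ) (hn : 0 < n) (lam : R) (h : SekSuwa.DivCond lam (p ^ n))
    (X : Scheme.{u}) [IsIntegral X] (hX : Pi1.IsNormalScheme X)
    (f : X ⟶ Spec (CommRingCat.of R)) [Flat f] [Surjective f]
    (P : Over X) (a : AlgGrp.Action (Red.bc f (SekSuwa.GK R lam (p ^ n) h)) P)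
    (hP : NonAbH1.IsTorsorFor Scheme.fppfPrecoverage a)
    (P' : Over X) (a' : AlgGrp.Action (Red.bc f (Red.diag R (ZMod (p ^ n)))) P')
    (hP' : NonAbH1.IsTorsorFor Scheme.fppfPrecoverage a')
    (hpush : NonAbH1.IsPushforwardAlongSch ((Over.pullback f).map (SekSuwa.alphaN R lam (p ^ n) h)) a a')
    (htriv : NonAbH1.HasSectionOver P' (𝟙 X)) :
    NonAbH1.HasSectionOver P (𝟙 X) := by
  have hlam : lam ≠ 0 := nonZeroDivisors.ne_zero h.nzd
  have hN : 0 < p ^ n := pow_pos (Fact.out : p.Prime).pos n
  haveI : NeZero (p ^ n) := ⟨hN.ne'⟩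
  obtain ⟨⟨hf1, hf2, -⟩, -⟩ := Groth.L08.SekSuwaGK.isFinLocFreeOfDeg h hN
  haveI : IsFinite (Red.bc f (SekSuwa.GK R lam (p ^ n) h)).hom :=
    MorphismProperty.pullback_snd (P := @IsFinite.{u}) _ _ hf1
  haveI : Flat (Red.bc f (SekSuwa.GK R lam (p ^ n) h)).hom :=
    MorphismProperty.pullback_snd (P := @Flat.{u}) _ _ hf2
  haveI : IsFinite (Red.bc f (Red.diag R (ZMod (p ^ n)))).hom := by
    refine MorphismProperty.pullback_snd (P := @IsFinite.{u}) _ _ ?_
    exact (IsFinite.SpecMap_iff _).mpr (RingHom.finite_algebraMap.mpr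
      (Module.Finite.of_basis (MonoidAlgebra.basis _ _)))
  haveI : Flat (Red.bc f (Red.diag R (ZMod (p ^ n)))).hom := by
    refine MorphismProperty.pullback_snd (P := @Flat.{u}) _ _ ?_
    exact Flat.SpecMap_iff.mpr (RingHom.flat_algebraMap_iff.mpr inferInstance)
  haveI : Flat (X.fromSpecStalk (genericPoint X)) := Groth.L05.Point.flat_fromSpecStalk _
  haveI : IsMonHom ((Over.pullback f).map (SekSuwa.alphaN R lam (p ^ n) h)) := inferInstance
  refine Groth.Agent.S14695.result hX _ _ ((Over.pullback f).map (SekSuwa.alphaN R lam (p ^ n) h)) ?_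
    P a hP P' a' hP' hpush htriv
  refine isIso_alphaN f h hN _ ?_
  let K := X.presheaf.stalk (genericPoint X)
  let W : Over X := Over.mk (X.fromSpecStalk (genericPoint X))
  haveI : Flat (W.hom ≫ f) := inferInstanceAs (Flat (X.fromSpecStalk (genericPoint X) ≫ f))
  have hfield : IsField Γ(W.left, ⊤) :=
    MulEquiv.isField (Field.toIsField X.functionField) (Scheme.ΓSpecIso K).commRingCatIsoToRingEquiv.toMulEquiv
  letI := hfield.toField
  refine isUnit_iff_ne_zero.2 fun h0 => one_ne_zero (α := Γ(W.left, ⊤)) ?_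
  refine str_regular (f := f) hlam W ⊤ (b := 1) (b' := 0) ?_
  simp only [homOfLE_refl, op_id, CategoryTheory.Functor.map_id]
  show str f W lam * 1 = str f W lam * 0
  rw [h0, MulZeroClass.zero_mul, MulZeroClass.zero_mul]

end Groth.Agent.S14688
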