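import Groth.Statements.S1469
import Groth.Agent.L19.SmoothNormal
-- import your own Groth.Agent.* helpers here

set_option autoImplicit false
universe u
open FlatMor

namespace Groth.Agent.S1469

open AlgebraicGeometry CategoryTheory Limits in
/-- A smooth morphism is normal; concretely, for affine opens U ⊆ f⁻¹(V) the ring map O_Y(V) → O_X(U) is
flat with geometrically normal fibre rings. -/
theorem result {X Y : Scheme.{u}} (f : X ⟶ Y) [Smooth f] (U : X.Opens) (V : Y.Opens) (hU : IsAffineOpen U) (hV : IsAffineOpen V) (hUV : U ≤ f ⁻¹ᵁ V) :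
    letI := (f.appLE V U hUV).hom.toAlgebra
    EGA4.IsNormalHom Γ(Y, V) Γ(X, U) := by
  letI := (f.appLE V U hUV).hom.toAlgebra
  haveI : Algebra.Smooth Γ(Y, V) Γ(X, U) :=
    RingHom.smooth_algebraMap.mp (HasRingHomProperty.appLE @Smooth f inferInstance ⟨V, hV⟩ ⟨U, hU⟩ hUV)
  exact Groth.L19.SmoothNormal.isNormalHom_of_smooth _ _

end Groth.Agent.S1469
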