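import Groth.Statements.S14691
import Groth.Agent.L08.DeligneScheme
-- import your own Groth.Agent.* helpers here

set_option autoImplicit false
universe u
open CategoryTheory AlgebraicGeometry CartesianMonoidalCategory MonoidalCategory MonObj
open SekSuwa

namespace Groth.Agent.S14691

/-- Let R be a discrete valuation ring of characteristic zero and residue characteristic p, and G a
commutative finite flat R-group scheme of order m (finite locally free of degree m over Spec R).
Then the endomorphism of Ext¹(G, 𝔾_m) induced by the m-th power map of the multiplicative group —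
that is, multiplication by m on this group — is zero. Here Ext¹ is taken between the abelian sheaves
of points of G and of the split multiplicative group on the big fppf site of Spec R. (The published
statement is made under a standing assumption that R contains a primitive p²-th root of unity; this
row does not assume it, the argument not using it.) -/
theorem result (R : Type u) [CommRing R] [IsDomain R] [IsDiscreteValuationRing R] [CharZero R]
    (p : ℕ) [Fact p.Prime] [CharP (IsLocalRing.ResidueField R) p]
    (G : Over (Spec (CommRingCat.of R))) [GrpObj G] [IsCommMonObj G]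
    (m : ℕ) (hG : Mor2.IsFinLocFreeOfDeg m G.hom)
    (x : CGrpSh.ExtS Scheme.fppfPrecoverage G (Red.diag R ℤ) 1) : m • x = 0 := by
  haveI : IsFinite G.hom := hG.1.1
  haveI : Flat G.hom := hG.1.2.1
  haveI : LocallyOfFinitePresentation G.hom := hG.1.2.2
  have h1 : (𝟙 G : G ⟶ G) ^ m = 1 := Groth.L08.Deligne.pow_eq_one G m hG.2
  have h2 : m • 𝟙 (CGrpSh.pts Scheme.fppfPrecoverage G) = 0 := by
    refine Sheaf.hom_ext (NatTrans.ext (funext fun T => AddCommGrpCat.ext fun y => ULift.ext _ _ ?_))
    have h3 : (y.down.toMul : T.unop ⟶ G) ^ m = 1 := by
      calc _ = y.down.toMul ≫ (𝟙 G : G ⟶ G) ^ m := by rw [MonObj.comp_pow, Category.comp_id]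
        _ = 1 := by rw [h1, MonObj.comp_one]
    exact congrArg Additive.ofMul h3
  have h4 : ∀ n : ℕ, (Abelian.Ext.mk₀ (n • 𝟙 (CGrpSh.pts Scheme.fppfPrecoverage G))).comp x (zero_add 1) = n • x := by
    intro n
    induction n with
    | zero => rw [zero_nsmul, Abelian.Ext.mk₀_zero, Abelian.Ext.zero_comp, zero_nsmul]
    | succ n ih => rw [succ_nsmul, Abelian.Ext.mk₀_add, Abelian.Ext.add_comp, ih, Abelian.Ext.mk₀_id_comp, succ_nsmul]
  rw [← h4 m, h2]
  simp

end Groth.Agent.S14691
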