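import Groth.Statements.S14692
import Mathlib.Data.Nat.Choose.Factorization
import Mathlib.RingTheory.IntegralClosure.IntegrallyClosed
import Mathlib.RingTheory.Flat.FaithfullyFlat.Algebra
import Mathlib.RingTheory.AdjoinRoot

set_option autoImplicit false
universe u
open CAlg

namespace Groth.Agent.S14692

/-- `((1+x w)^N` expanded, with the two extreme terms isolated. -/
private theorem expand {S : Type*} [CommRing S] (x w : S) (N : ℕ) (hN : 0 < N) :
    (1 + x * w) ^ N = 1 + x ^ N * w ^ N +
      ∑ i ∈ Finset.Ico 1 N, (N.choose i : S) * x ^ i * w ^ i := by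
  rw [add_comm (1 : S), add_pow, Finset.sum_range_succ, Finset.range_eq_Ico,
    Finset.sum_eq_sum_Ico_succ_bot hN]
  simp only [pow_zero, one_pow, Nat.choose_zero_right, Nat.cast_one, mul_one, one_mul, Nat.choose_self, mul_pow, zero_add, tsub_self]
  rw [Finset.sum_congr rfl fun i _ => show x ^ i * w ^ i * (N.choose i : S) = (N.choose i : S) * x ^ i * w ^ i by ring]
  ring

private theorem dvd_terms {R : Type*} [CommRing R] (π : R) (p : ℕ) (hp : p.Prime) (n j i : ℕ)
    (hj : π ^ (p ^ (n - 1) * (p - 1) * (j + 1)) ∣ (p : R)) (hi : 1 ≤ i) (hiN : i < p ^ n) :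
    π ^ (j * p ^ n + 1) ∣ ((p ^ n).choose i : R) * π ^ (i * j) ∧
      π ^ ((j + 1) * p ^ n) ∣ ((p ^ n).choose i : R) * π ^ (i * (j + 1)) := by
  have hk : p ^ (i.factorization p) ≤ i := Nat.ordProj_le p (by omega)
  have hkn : i.factorization p < n :=
    (Nat.pow_lt_pow_iff_right hp.one_lt).mp (hk.trans_lt hiN)
  set k := i.factorization p with hkdef
  set E := p ^ (n - 1) * (p - 1) with hE
  have hchoose : p ^ (n - k) ∣ (p ^ n).choose i := by
    have := Nat.ordProj_dvd ((p ^ n).choose i) p
    rwa [Nat.factorization_choose_prime_pow hp hiN.le (by omega)] at this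
  have hp2 := hp.two_le
  have key : p ^ n ≤ (n - k) * E + i := by
    have hpn : p ^ n = p ^ (n - 1) * p := by
      rw [← pow_succ]; congr 1; omega
    rcases Nat.lt_or_ge (n - k) 2 with h | h
    · have h1 : n - k = 1 := by omega
      have h2 : k = n - 1 := by omega
      rw [h1, one_mul, hE, hpn]
      calc p ^ (n - 1) * p = p ^ (n - 1) * (p - 1) + p ^ (n - 1) := by
            rw [← Nat.mul_succ]; congr 1; omega
        _ ≤ _ := by gcongr; rw [← h2]; exact hk
    · calc p ^ n = p ^ (n - 1) * p := hpn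
        _ ≤ p ^ (n - 1) * (2 * (p - 1)) := by gcongr; omega
        _ = 2 * E := by rw [hE]; ring
        _ ≤ (n - k) * E := Nat.mul_le_mul_right _ h
        _ ≤ _ := Nat.le_add_right _ _
  have hEpos : 1 ≤ (n - k) * E :=
    Nat.mul_pos (by omega) (Nat.mul_pos (pow_pos hp.pos _) (by omega))
  have h : π ^ ((n - k) * E * (j + 1)) ∣ ((p ^ n).choose i : R) := by
    rw [show (n - k) * E * (j + 1) = E * (j + 1) * (n - k) by ring, pow_mul]
    refine (pow_dvd_pow_of_dvd hj _).trans ?_
    rw [← Nat.cast_pow]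
    exact Nat.cast_dvd_cast hchoose
  constructor
  · refine (pow_dvd_pow π ?_).trans ((pow_add π _ (i * j)).symm ▸ mul_dvd_mul_right h _)
    calc j * p ^ n + 1 ≤ j * ((n - k) * E + i) + (n - k) * E := by gcongr
      _ = _ := by ring
  · refine (pow_dvd_pow π ?_).trans ((pow_add π _ (i * (j + 1))).symm ▸ mul_dvd_mul_right h _)
    calc (j + 1) * p ^ n ≤ (j + 1) * ((n - k) * E + i) := by gcongr
      _ = _ := by ring

/-- An element of a localization of a normal domain which is integral is integral. -/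
private theorem exists_eq_of_isIntegral {A S : Type*} [CommRing A] [IsDomain A]
    [IsIntegrallyClosed A] [CommRing S] [Algebra A S] (π : A) (hπ : π ≠ 0)
    [IsLocalization.Away π S] (x : S) (hx : IsIntegral A x) : ∃ a, algebraMap A S a = x := by
  have hu : IsUnit (algebraMap A (FractionRing A) π) :=
    isUnit_iff_ne_zero.mpr fun h => hπ (IsFractionRing.injective A (FractionRing A) (by simpa using h))
  let φ : S →ₐ[A] FractionRing A :=
    { IsLocalization.Away.lift π hu with
      commutes' := fun a => IsLocalization.Away.lift_eq π hu a }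
  obtain ⟨a, ha⟩ := IsIntegrallyClosed.isIntegral_iff.mp (hx.map φ)
  refine ⟨a, ?_⟩
  have hinj : Function.Injective φ := by
    apply IsLocalization.lift_injective_iff (g := algebraMap A (FractionRing A)) _ |>.mpr
    intro x y
    have : Function.Injective (algebraMap A S) :=
      IsLocalization.injective S (powers_le_nonZeroDivisors_of_noZeroDivisors hπ)
    exact ⟨fun h => by rw [this h], fun h => by rw [IsFractionRing.injective A (FractionRing A) h]⟩
  exact hinj (by rw [AlgHom.commutes, ha])

private theorem main {R : Type u} [CommRing R] [IsDomain R] (p : ℕ) (hp : p.Prime) (ϖ : R)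
    (n : ℕ) (hn : 0 < n) (A : Type u) [CommRing A] [IsDomain A] [IsIntegrallyClosed A] [Algebra R A]
    (π : A) (hπe : algebraMap R A ϖ = π) (hπ0 : π ≠ 0)
    (hlift : ∀ a : A, IsUnit (Ideal.Quotient.mk (Ideal.span {π}) a) → IsUnit a)
    (f g : Aˣ) (j : ℕ) (hj : ϖ ^ (p ^ (n - 1) * (p - 1) * (j + 1)) ∣ (p : R)) (f₀ : A)
    (hfg : (f : A) * (g : A) ^ (p ^ n) = 1 + π ^ (j * p ^ n) * f₀)
    (hmax : ∀ (g' : Aˣ) (c : A), (f : A) * (g' : A) ^ (p ^ n) ≠ 1 + π ^ ((j + 1) * p ^ n) * c)
    (S : Type u) [CommRing S] [Algebra A S] [IsLocalization.Away π S]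
    (L : Type u) [CommRing L] [Algebra A L] [Algebra S L] [IsScalarTower A S L]
    (hSL : Function.Injective (algebraMap S L))
    (Z : L) (hZ : Z ^ (p ^ n) = algebraMap A L (f : A))
    (hred : (Ideal.span {algebraMap A (integralClosure A L) π}).IsRadical)
    (g₀ : A) : f₀ - g₀ ^ (p ^ n) ∉ Ideal.span {π} := by
  intro hmem
  obtain ⟨c, hc⟩ := Ideal.mem_span_singleton'.mp hmem
  set N := p ^ n with hN
  have hN0 : 0 < N := pow_pos hp.pos _
  have hj' : π ^ (p ^ (n - 1) * (p - 1) * (j + 1)) ∣ (p : A) := by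
    have := map_dvd (algebraMap R A) hj
    rwa [map_pow, map_natCast, hπe] at this
  have hdvd := fun i (hi : i ∈ Finset.Ico 1 N) =>
    dvd_terms π p hp n j i hj' (Finset.mem_Ico.mp hi).1 (Finset.mem_Ico.mp hi).2
  choose d hd using fun i hi => (hdvd i hi).1
  choose e he using fun i hi => (hdvd i hi).2
  have hpA : ∀ a : A, (1 + π ^ j * a) ^ N = 1 + π ^ (j * N) * a ^ N +
      π ^ (j * N + 1) * ∑ i ∈ (Finset.Ico 1 N).attach, d i.1 i.2 * a ^ i.1 := by
    intro a
    rw [expand _ _ _ hN0, ← pow_mul, Finset.mul_sum, ← Finset.sum_attach (Finset.Ico 1 N)]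
    congr 1
    refine Finset.sum_congr rfl fun i _ => ?_
    rw [← mul_assoc, ← hd, ← pow_mul, mul_comm j]
  set v := 1 + π ^ j * g₀ with hv
  set s := ∑ i ∈ (Finset.Ico 1 N).attach, d i.1 i.2 * g₀ ^ i.1 with hs
  have hfg' : (f : A) * (g : A) ^ N = v ^ N + π ^ (j * N + 1) * (c - s) := by
    rw [hpA, hfg, ← hs]
    linear_combination -(π ^ (j * N)) * hc
  have hvu : IsUnit v := by
    refine hlift v ?_
    have h : IsUnit ((Ideal.Quotient.mk (Ideal.span {π}) v) ^ N) := by
      rw [← map_pow, show v ^ N = (f : A) * (g : A) ^ N - π * (π ^ (j * N) * (c - s)) by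
        rw [hfg']; ring, map_sub, Ideal.Quotient.eq_zero_iff_mem.mpr
          (Ideal.mul_mem_right _ _ (Ideal.mem_span_singleton_self π)), sub_zero]
      exact (f.isUnit.mul (g.isUnit.pow N)).map _
    exact (isUnit_pow_iff hN0.ne').mp h
  obtain ⟨v, hv'⟩ := hvu
  set g' : Aˣ := g * v⁻¹ with hg'
  set c'' : A := (c - s) * ((v⁻¹ : Aˣ) : A) ^ N with hc''
  have hfg'' : (f : A) * (g' : A) ^ N = 1 + π ^ (j * N + 1) * c'' := by
    rw [hg', Units.val_mul, mul_pow, ← mul_assoc, hfg', hc'', ← hv', add_mul, ← mul_pow]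
    simp [mul_assoc]
  have hu : IsUnit (algebraMap A L π) := by
    rw [IsScalarTower.algebraMap_apply A S L]
    exact (IsLocalization.Away.algebraMap_isUnit π).map _
  set F := algebraMap A L with hF
  obtain ⟨W, hW⟩ : ∃ W, F π ^ j * W = Z * F g' - 1 :=
    ((hu.pow j).dvd (a := Z * F g' - 1)).imp fun _ h => h.symm
  have hY : (1 + F π ^ j * W) ^ N = 1 + F π ^ (j * N + 1) * F c'' := by
    rw [hW, add_sub_cancel, mul_pow, hZ, ← map_pow, ← map_mul, hfg'', map_add, map_one, map_mul,
      map_pow]
  have hWeq : W ^ N + ∑ i ∈ (Finset.Ico 1 N).attach, F (π * d i.1 i.2) * W ^ i.1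
      = F (π * c'') := by
    refine (hu.pow (j * N)).mul_left_cancel ?_
    have h := hY
    rw [expand _ _ _ hN0, ← pow_mul, add_assoc, add_right_inj,
      ← Finset.sum_attach (Finset.Ico 1 N)] at h
    rw [mul_add, Finset.mul_sum]
    have : ∀ i ∈ (Finset.Ico 1 N).attach, F π ^ (j * N) * (F (π * d i.1 i.2) * W ^ i.1) =
        (N.choose i.1 : L) * (F π ^ j) ^ i.1 * W ^ i.1 := fun i _ => by
      have := congrArg F (hd i.1 i.2)
      rw [map_mul, map_natCast, map_pow, map_mul, map_pow, mul_comm i.1 j, pow_mul] at this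
      rw [this, map_mul, pow_succ]; ring
    rw [Finset.sum_congr rfl this, h, pow_succ, mul_assoc, ← map_mul]
  have hWint : IsIntegral A W := by
    refine ⟨Polynomial.X ^ N + (∑ i ∈ (Finset.Ico 1 N).attach,
      Polynomial.C (π * d i.1 i.2) * Polynomial.X ^ i.1 - Polynomial.C (π * c'')), ?_, ?_⟩
    · refine Polynomial.monic_X_pow_add ((Polynomial.degree_sub_le _ _).trans_lt (max_lt ?_ ?_))
      · refine (Polynomial.degree_sum_le _ _).trans_lt ((Finset.sup_lt_iff (WithBot.bot_lt_coe N)).mpr
          fun i _ => (Polynomial.degree_C_mul_X_pow_le _ _).trans_lt ?_)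
        exact Nat.cast_lt.mpr (Finset.mem_Ico.mp i.2).2
      · exact Polynomial.degree_C_le.trans_lt (by exact_mod_cast hN0)
    · simp only [Polynomial.eval₂_add, Polynomial.eval₂_sub, Polynomial.eval₂_pow,
        Polynomial.eval₂_X, Polynomial.eval₂_finset_sum, Polynomial.eval₂_mul, Polynomial.eval₂_C]
      linear_combination hWeq
  set B := integralClosure A L with hB
  obtain ⟨W, rfl⟩ : ∃ w : B, (w : L) = W := ⟨⟨W, hWint⟩, rfl⟩
  have hWB : W ^ N + ∑ i ∈ (Finset.Ico 1 N).attach, algebraMap A B (π * d i.1 i.2) * W ^ i.1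
      = algebraMap A B (π * c'') := Subtype.coe_injective (by
    simp only [Subalgebra.coe_add, Subalgebra.coe_pow, AddSubmonoidClass.coe_finset_sum, Subalgebra.coe_mul, Subalgebra.coe_algebraMap]
    exact hWeq)
  obtain ⟨W', hW'⟩ := Ideal.mem_span_singleton'.mp (hred ⟨N, show W ^ N ∈ _ by
    rw [eq_sub_of_add_eq hWB]
    refine sub_mem ?_ (Ideal.sum_mem _ fun i _ => Ideal.mul_mem_right _ _ ?_) <;>
    · rw [map_mul]; exact Ideal.mul_mem_right _ _ (Ideal.mem_span_singleton_self _)⟩)
  set t : L := (W' : L) ^ N + ∑ i ∈ (Finset.Ico 1 N).attach, F (e i.1 i.2) * (W' : L) ^ i.1 with ht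
  have htint : IsIntegral A t := by
    have hW'i : IsIntegral A (W' : L) := W'.2
    exact (hW'i.pow _).add (IsIntegral.sum _ fun i _ => isIntegral_algebraMap.mul (hW'i.pow _))
  have ht' : F π ^ ((j + 1) * N) * t = F π ^ (j * N + 1) * F c'' := by
    have h := hY
    rw [show (W : L) = F π * W' by rw [← hW']; push_cast; rw [mul_comm],
      ← mul_assoc, ← pow_succ, expand _ _ _ hN0, ← pow_mul, add_assoc, add_right_inj,
      ← Finset.sum_attach (Finset.Ico 1 N)] at h
    rw [← h, ht, mul_add, Finset.mul_sum]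
    congr 1
    refine Finset.sum_congr rfl fun i _ => ?_
    have := congrArg F (he i.1 i.2)
    rw [map_mul, map_natCast, map_pow, map_mul, map_pow, mul_comm i.1 (j + 1), pow_mul] at this
    rw [this]; ring
  have hx : IsLocalization.mk' S (π ^ (j * N + 1) * c'')
      (⟨π ^ ((j + 1) * N), _, rfl⟩ : Submonoid.powers π) = IsLocalization.mk' S
      (π ^ (j * N + 1) * c'') (⟨π ^ ((j + 1) * N), _, rfl⟩ : Submonoid.powers π) := rfl
  set x := IsLocalization.mk' S (π ^ (j * N + 1) * c'')
      (⟨π ^ ((j + 1) * N), _, rfl⟩ : Submonoid.powers π)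
  have hxs : x * algebraMap A S (π ^ ((j + 1) * N)) = algebraMap A S (π ^ (j * N + 1) * c'') :=
    IsLocalization.mk'_spec S _ _
  have hxt : algebraMap S L x = t := by
    refine (hu.pow ((j + 1) * N)).mul_left_cancel ?_
    rw [ht', ← map_pow, ← map_pow, ← map_mul, IsScalarTower.algebraMap_apply A S L, hF,
      IsScalarTower.algebraMap_apply A S L (π ^ (j * N + 1) * c''), ← map_mul, mul_comm, hxs]
  obtain ⟨a, ha⟩ := exists_eq_of_isIntegral π hπ0 x
    ((isIntegral_algHom_iff (IsScalarTower.toAlgHom A S L) hSL).mp (by simpa [hxt] using htint))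
  refine hmax g' a ?_
  rw [hfg'']
  congr 1
  apply IsLocalization.injective S (powers_le_nonZeroDivisors_of_noZeroDivisors hπ0)
  rw [← hxs, ← ha, map_mul, mul_comm]

/-- Let R be a discrete valuation ring of characteristic zero and residue characteristic p, with
uniformizer π and a primitive p^n-th root of unity ζ (n ≥ 1), and A a Noetherian integrally closed
domain which is a faithfully flat R-algebra, in which πA is a prime ideal and every element that is
a unit modulo π is a unit (as when A is π-adically complete, or local). Let f, g be units of A, j a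
natural number with π^{p^{n−1}(p−1)(j+1)} dividing p (that is, j is less than the valuation of ζ −
1, so that the polynomials ((1 + π^{j}T)^{p^n} − 1)/π^{jp^n} and ((1 + π^{j+1}T)^{p^n} −
1)/π^{(j+1)p^n} have coefficients in R), and f₀ ∈ A with f·g^{p^n} = 1 + π^{j p^n}·f₀; suppose j is
maximal with this property: there is no unit g' of A with f·g'^{p^n} ≡ 1 modulo π^{(j+1)p^n}.
Suppose moreover that the algebra L = A[1/π][Z]/(Z^{p^n} − f) is an integral domain (the
μ_{p^n}-torsor Z^{p^n} = f is connected on the generic fibre) and that, B denoting the integral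
closure of A in L (the normalization of Spec A in that cover), the ideal πB is radical (the
normalization has reduced special fibre). Then f₀ is not congruent modulo πA to a p^n-th power. (The
published statement phrases the hypothesis on j as: the class of the torsor Z^{p^n} = f lies in
H¹(Spec A, G_{π^j,n}) and not in H¹(Spec A, G_{π^{j+1},n}); the conditions on g and g' are its
ring-theoretic form, which is the first assertion of the same lemma; A is there factorial and
π-adically complete, or normal local, which this row keeps only through the consequences used: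
integrally closed, and units lift modulo π.) -/
theorem result
    (R : Type u) [CommRing R] [IsDomain R] [IsDiscreteValuationRing R] [CharZero R]
    (p : ℕ) [Fact p.Prime] [CharP (IsLocalRing.ResidueField R) p] (ϖ : R) (hϖ : Irreducible ϖ)
    (n : ℕ) (hn : 0 < n) (ζ : R) (hζ : IsPrimitiveRoot ζ (p ^ n))
    (A : Type u) [CommRing A] [IsDomain A] [IsNoetherianRing A] [IsIntegrallyClosed A] [Algebra R A]
    [Module.FaithfullyFlat R A]
    (hprime : (Ideal.span {algebraMap R A ϖ}).IsPrime)
    (hlift : ∀ a : A, IsUnit (Ideal.Quotient.mk (Ideal.span {algebraMap R A ϖ}) a) → IsUnit a)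
    (f g : Aˣ) (j : ℕ) (hj : ϖ ^ (p ^ (n - 1) * (p - 1) * (j + 1)) ∣ (p : R)) (f₀ : A)
    (hfg : (f : A) * (g : A) ^ (p ^ n) = 1 + (algebraMap R A ϖ) ^ (j * p ^ n) * f₀)
    (hmax : ∀ (g' : Aˣ) (c : A), (f : A) * (g' : A) ^ (p ^ n) ≠ 1 + (algebraMap R A ϖ) ^ ((j + 1) * p ^ n) * c)
    [IsDomain (AdjoinRoot (Polynomial.X ^ (p ^ n) - Polynomial.C (algebraMap A (Localization.Away (algebraMap R A ϖ)) (f : A))))]
    (hred : (Ideal.span {algebraMap A (integralClosure A (AdjoinRoot (Polynomial.X ^ (p ^ n) - Polynomial.C (algebraMap A (Localization.Away (algebraMap R A ϖ)) (f : A))))) (algebraMap R A ϖ)}).IsRadical)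
    (g₀ : A) : f₀ - g₀ ^ (p ^ n) ∉ Ideal.span {(algebraMap R A ϖ)} := by
  classical
  have hπ0 : algebraMap R A ϖ ≠ 0 := fun h =>
    hϖ.ne_zero (FaithfulSMul.algebraMap_injective R A (by simpa using h))
  set π := algebraMap R A ϖ with hπe
  set P : Polynomial (Localization.Away π) :=
    Polynomial.X ^ (p ^ n) - Polynomial.C (algebraMap A (Localization.Away π) (f : A)) with hP
  have : IsDomain (Localization.Away π) :=
    IsLocalization.isDomain_localization (powers_le_nonZeroDivisors_of_noZeroDivisors hπ0)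
  have hdeg : P.degree ≠ 0 := by
    rw [hP, Polynomial.degree_X_pow_sub_C (pow_pos (Fact.out : p.Prime).pos n)]
    exact_mod_cast (pow_ne_zero n (Fact.out : p.Prime).ne_zero)
  refine main p Fact.out ϖ n hn A π rfl hπ0 hlift f g j hj f₀ hfg hmax (Localization.Away π)
    (AdjoinRoot P) (AdjoinRoot.of.injective_of_degree_ne_zero hdeg) (AdjoinRoot.root P) ?_ hred g₀
  have h := AdjoinRoot.eval₂_root P
  rw [hP, Polynomial.eval₂_sub, Polynomial.eval₂_pow, Polynomial.eval₂_X, Polynomial.eval₂_C,
    sub_eq_zero] at h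
  rw [h]
  rfl

end Groth.Agent.S14692
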