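import Groth.Statements.S14693
import Groth.Agent.L08.SekSuwa.SpecKernel
-- import your own Groth.Agent.* helpers here

set_option autoImplicit false
universe u
open CategoryTheory AlgebraicGeometry
open SekSuwa

namespace Groth.Agent.S14693

/-- For any commutative ring R, λ ∈ R and N such that λ is a non-zero-divisor and λ^N divides (1 + λX)^N
− 1 in R[X] with quotient P_{λ,N}, the closed subgroup scheme G_{λ,N} = Spec R[T]/(P_{λ,N}(T)) of
the affine R-group G^(λ) = Spec R[T, 1/(1+λT)] (group law s + t + λst) is the kernel of the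
homomorphism ψ_{λ,N} : G^(λ) → G^(λ^N), T ↦ P_{λ,N}(T): the square with sides the inclusion G_{λ,N}
→ G^(λ), ψ_{λ,N}, the unit section of G^(λ^N) and G_{λ,N} → Spec R is cartesian. (The published
text, over a discrete valuation ring and with N = p^n, introduces G_{λ,n} as the kernel of the
isogeny ψ_{λ,n}; this row is that assertion for every N, including the degenerate N = 0 where ψ is
trivial and G_{λ,0} = G^(λ).) -/
theorem result (R : Type u) [CommRing R] (lam : R) (N : ℕ) (h : SekSuwa.DivCond lam N) :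
    AlgGrp.IsKernel (SekSuwa.incl R lam N h) (SekSuwa.psi R lam N h) := by
  refine Groth.L08.SpecKernel.isKernel (SekSuwa.psiHom R lam N h) (SekSuwa.AK.mkHom R lam N h)
    Ideal.Quotient.mk_surjective ?_
  have hk : ∀ z, SekSuwa.AK.mkHom R lam N h z = 0 ↔ z ∈ SekSuwa.kerIdeal lam N h := fun z =>
    Ideal.Quotient.eq_zero_iff_mem
  ext z
  refine (hk z).trans ⟨fun hz => ?_, fun hz => ?_⟩
  · have hle : SekSuwa.kerIdeal lam N h ≤ (RingHom.ker (Bialgebra.counitAlgHom R (SekSuwa.A R (lam ^ N)))).map
        (SekSuwa.psiHom R lam N h : SekSuwa.A R (lam ^ N) →+* SekSuwa.A R lam) := by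
      rw [SekSuwa.kerIdeal, Ideal.span_le, Set.singleton_subset_iff, ← SekSuwa.psiHom_t]
      exact Ideal.mem_map_of_mem _ (RingHom.mem_ker.2 (show Bialgebra.counitAlgHom R (SekSuwa.A R (lam ^ N)) SekSuwa.A.t = 0 from SekSuwa.A.counit_t))
    exact hle hz
  · refine (hk z).1 ?_
    have hle : (RingHom.ker (Bialgebra.counitAlgHom R (SekSuwa.A R (lam ^ N)))).map
        (SekSuwa.psiHom R lam N h : SekSuwa.A R (lam ^ N) →+* SekSuwa.A R lam) ≤
        RingHom.ker (SekSuwa.AK.mkHom R lam N h : SekSuwa.A R lam →ₐ[R] SekSuwa.AK R lam N h) := by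
      rw [Ideal.map_le_iff_le_comap]
      intro b hb
      have e := DFunLike.congr_fun (SekSuwa.mkHom_comp_psiHom R lam N h) b
      exact e.trans (show algebraMap R _ (Bialgebra.counitAlgHom R (SekSuwa.A R (lam ^ N)) b) = 0 by
        rw [show Bialgebra.counitAlgHom R (SekSuwa.A R (lam ^ N)) b = 0 from hb, map_zero])
    exact hle hz

end Groth.Agent.S14693
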