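import Groth.Statements.S14694
import Groth.Agent.L08.SekSuwa.GKFinite
-- import your own Groth.Agent.* helpers here

set_option autoImplicit false
universe u
open CategoryTheory AlgebraicGeometry
open SekSuwa

namespace Groth.Agent.S14694

/-- For any commutative ring R, λ ∈ R and N ≥ 1 such that λ is a non-zero-divisor and λ^N divides (1 +
λX)^N − 1 in R[X] with quotient P_{λ,N}, the R-group scheme G_{λ,N}, defined as the closed subscheme
of the affine R-group G^(λ) = Spec R[T, 1/(1+λT)] cut out by P_{λ,N}(T), is finite locally free of
degree N over Spec R (its coordinate ring is R[T]/(P_{λ,N}(T)) with P_{λ,N} monic of degree N). (The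
published text states this over a discrete valuation ring with N = p^n: G_{λ,n} is a commutative
finite flat group scheme of rank p^n.) -/
theorem result (R : Type u) [CommRing R] (lam : R) (N : ℕ) (hN : 0 < N) (h : SekSuwa.DivCond lam N) :
    Mor2.IsFinLocFreeOfDeg N (SekSuwa.GK R lam N h).hom := by
  exact Groth.L08.SekSuwaGK.isFinLocFreeOfDeg h hN

end Groth.Agent.S14694
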