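import Groth.Statements.S14698
import Groth.Agent.L05.PtSeq.NormNagata
import Groth.Agent.L03.Euler.Dim
import Groth.Agent.L16.ProjSpace.Basic

set_option autoImplicit false
set_option linter.style.haveILetI false
universe u
open CategoryTheory CategoryTheory.Limits AlgebraicGeometry
open Resolve

namespace Groth.Agent.S14698

theorem le_one_of_add_one_le {d : WithBot ℕ∞} (h : d + 1 ≤ 2) : d ≤ 1 := by
  induction d using WithBot.recBotCoe with
  | bot => exact bot_le
  | coe e =>
    have h' : e + 1 ≤ (1 + 1 : ℕ∞) := by rw [one_add_one_eq_two]; exact WithBot.coe_le_coe.1 h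
    exact_mod_cast (ENat.add_le_add_iff_right (k := 1) (by decide)).1 h'

open TopologicalSpace in
theorem one_le_dim {F : Type u} [TopologicalSpace F] [T0Space F] {Z : Set F} (_ : IsClosed Z) (hZi : IsIrreducible Z)
    {a b : F} (ha : a ∈ Z) (hb : b ∈ Z) (hab : a ≠ b) : 1 ≤ topologicalKrullDim ↥Z := by
  haveI : PreirreducibleSpace ↥Z := Subtype.preirreducibleSpace hZi.isPreirreducible
  haveI : IrreducibleSpace ↥Z := { toNonempty := ⟨⟨a, ha⟩⟩ }
  let T : IrreducibleCloseds ↥Z := ⟨Set.univ, IrreducibleSpace.isIrreducible_univ ↥Z, isClosed_univ⟩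
  let c : ↥Z → IrreducibleCloseds ↥Z := fun t => ⟨closure {t}, isIrreducible_singleton.closure, isClosed_closure⟩
  obtain ⟨t, ht⟩ : ∃ t : ↥Z, c t < T := by
    by_contra hcon
    push Not at hcon
    have h : ∀ t : ↥Z, closure ({t} : Set ↥Z) = Set.univ := fun t => by
      by_contra hne
      exact hcon t (lt_of_le_of_ne (fun _ _ => trivial) fun e => hne (congrArg SetLike.coe e))
    have h₁ : (⟨a, ha⟩ : ↥Z) ⤳ ⟨b, hb⟩ := specializes_iff_mem_closure.2 (by rw [h]; trivial)
    have h₂ : (⟨b, hb⟩ : ↥Z) ⤳ ⟨a, ha⟩ := specializes_iff_mem_closure.2 (by rw [h]; trivial)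
    exact hab (congrArg Subtype.val (h₁.antisymm h₂).eq)
  have := Order.le_krullDim_iff (α := IrreducibleCloseds ↥Z) (n := 1)
  exact this.2 ⟨(RelSeries.singleton _ (c t)).snoc T ht, rfl⟩

set_option backward.isDefEq.respectTransparency false in
/-- Let k be an algebraically closed field and X an integral normal scheme of dimension two admitting a
closed immersion into some P^n_k over k. Let φ : Y → X be a k-morphism from an integral scheme Y of
dimension two with all local rings regular, itself admitting a closed immersion into some P^m_k over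
k, which restricts to an isomorphism over an open subset U of X with finite complement. Then for
every point x of X at which the local ring is not regular, the fibre φ⁻¹(x) (with the topology
induced from Y) is nonempty and every irreducible component of it has dimension one: such a
desingularization is a monoidal model. (The published statement takes φ an isomorphism exactly over
the complement of the singular points; this row allows any open U with finite complement over which
φ is an isomorphism.) -/
theorem result (k : Type u) [Field k] [IsAlgClosed k] (X : Scheme.{u}) [X.Over (Spec (CommRingCat.of k))]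
    [IsIntegral X] (hdim : topologicalKrullDim X = 2)
    (hproj : ∃ (n : ℕ) (ι : X ⟶ CohB1.ProjSpace n k), IsClosedImmersion ι ∧ ι ≫ CohB1.ProjSpace.toSpec n k = (X ↘ (Spec (CommRingCat.of k))))
    (hnorm : Pi1.IsNormalScheme X) (U : X.Opens) (hU : ((U : Set X)ᶜ).Finite)
    (Y : Scheme.{u}) (φ : Y ⟶ X) [IsIntegral Y] (hdimY : topologicalKrullDim Y = 2)
    (hregY : ∀ y : Y, IsRegularLocalRing (Y.presheaf.stalk y))
    (hprojY : ∃ (n : ℕ) (ι : Y ⟶ CohB1.ProjSpace n k), IsClosedImmersion ι ∧ ι ≫ CohB1.ProjSpace.toSpec n k = φ ≫ (X ↘ (Spec (CommRingCat.of k))))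
    (hisoY : IsIso (φ ∣_ U))
    (x : X) (hx : ¬ IsRegularLocalRing (X.presheaf.stalk x)) :
    (φ.base ⁻¹' ({x} : Set X)).Nonempty ∧
      ∀ Z ∈ irreducibleComponents ↥(φ.base ⁻¹' ({x} : Set X)), topologicalKrullDim ↥Z = 1 := by
  obtain ⟨n, ι, hι, hιX⟩ := hproj
  obtain ⟨m, j, hj, hjY⟩ := hprojY
  haveI : IsProper (X ↘ (Spec (CommRingCat.of k))) := hιX ▸ inferInstance
  haveI : IsProper (φ ≫ (X ↘ (Spec (CommRingCat.of k)))) := hjY ▸ inferInstance
  haveI : IsProper φ := IsProper.of_comp φ (X ↘ (Spec (CommRingCat.of k)))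
  haveI : IsLocallyNoetherian X := LocallyOfFiniteType.isLocallyNoetherian (X ↘ (Spec (CommRingCat.of k)))
  haveI : IsLocallyNoetherian Y := LocallyOfFiniteType.isLocallyNoetherian φ
  haveI : CompactSpace Y := QuasiCompact.compactSpace_of_compactSpace (φ ≫ (X ↘ (Spec (CommRingCat.of k))))
  haveI : AlgebraicGeometry.IsNoetherian Y := ⟨⟩
  haveI : JacobsonSpace X := LocallyOfFiniteType.jacobsonSpace (X ↘ (Spec (CommRingCat.of k)))
  have hg : ¬ IsClosed ({genericPoint X} : Set X) := Groth.L05.PtSeq.gen_not_closed_of_dim hdim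
  have hUne : (U : Set X).Nonempty := by
    by_contra h
    rw [Set.not_nonempty_iff_eq_empty] at h
    rw [h, Set.compl_empty] at hU
    haveI : Finite X := Set.finite_univ_iff.1 hU
    exact hg (isClosed_discrete _)
  have hreg : ∀ (V : X.Opens), IsIso (φ ∣_ V) → x ∉ V := by
    intro V hV hxV
    haveI := hV
    obtain ⟨y, hy⟩ : ∃ y, φ y = x := by
      obtain ⟨v, hv⟩ := (ConcreteCategory.bijective_of_isIso (φ ∣_ V).base).2 ⟨x, hxV⟩
      exact ⟨v.1, (morphismRestrict_base_coe φ V v).symm.trans (congrArg Subtype.val hv)⟩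
    haveI := Groth.L05.PtSeq.isIso_stalkMap_of_restrict φ V (x := y) (by rw [hy]; exact hxV)
    haveI := hregY y
    subst hy
    exact hx (IsRegularLocalRing.of_ringEquiv (asIso (φ.stalkMap y)).commRingCatIsoToRingEquiv.symm)
  have hxU : x ∈ (U : Set X)ᶜ := hreg U hisoY
  have hxc : IsClosed ({x} : Set X) := by
    have hfin : (closure ({x} : Set X)).Finite :=
      hU.subset (closure_minimal (Set.singleton_subset_iff.2 hxU) U.2.isClosed_compl)
    haveI : Finite (closure ({x} : Set X)) := hfin.to_subtype
    haveI : JacobsonSpace (closure ({x} : Set X)) :=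
      JacobsonSpace.of_isClosedEmbedding isClosed_closure.isClosedEmbedding_subtypeVal
    have h := isClosed_closure.isClosedEmbedding_subtypeVal.isClosedMap
      ({⟨x, subset_closure rfl⟩} : Set (closure ({x} : Set X))) (isClosed_discrete _)
    rwa [Set.image_singleton] at h
  obtain ⟨eφ, hφiso⟩ := Groth.L05.PtSeq.birational_data φ ⟨U, hUne, hisoY⟩
  haveI := hφiso
  obtain ⟨V, hViso, hViso', -⟩ := Groth.Agent.S11555.result φ hnorm eφ
    (ConcreteCategory.bijective_of_isIso (φ.stalkMap (genericPoint Y)))
  have hxV : x ∉ V := hreg V hViso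
  have hiso' : ∀ y : ↥(φ.base ⁻¹' ({x} : Set X)), ¬ IsOpen ({y} : Set ↥(φ.base ⁻¹' ({x} : Set X))) := by
    intro y hy
    refine hViso' x hxV ((φ.fiberHomeo x).symm y) ?_
    have h := hy.preimage (φ.fiberHomeo x).continuous
    convert h using 1
    ext w
    exact ⟨fun e => by rw [Set.mem_singleton_iff.1 e]; exact (φ.fiberHomeo x).apply_symm_apply y,
      fun e => ((φ.fiberHomeo x).symm_apply_apply w).symm.trans (congrArg _ (Set.mem_singleton_iff.1 e))⟩
  refine ⟨?_, fun Z hZ => ?_⟩
  · have h : genericPoint X ∈ Set.range φ := ⟨_, eφ⟩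
    exact (genericPoint_specializes x).mem_closed φ.isClosedMap.isClosed_range h
  · haveI : TopologicalSpace.NoetherianSpace ↥(φ.base ⁻¹' ({x} : Set X)) :=
      TopologicalSpace.NoetherianSpace.set _
    have hZc : IsClosed Z := isClosed_of_mem_irreducibleComponents Z hZ
    have hZi : IsIrreducible Z := hZ.1
    refine le_antisymm ?_ ?_
    · have hF : IsClosed (φ.base ⁻¹' ({x} : Set X)) := hxc.preimage φ.continuous
      have hS : IsClosed (Subtype.val '' Z) := hF.isClosedEmbedding_subtypeVal.isClosedMap Z hZc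
      have hne : Subtype.val '' Z ≠ (Set.univ : Set Y) := fun h => by
        obtain ⟨z, -, hz⟩ : genericPoint Y ∈ Subtype.val '' Z := by rw [h]; trivial
        have hz' : φ z.1 = x := z.2
        rw [hz, eφ] at hz'
        exact hg (hz' ▸ hxc)
      have h := Groth.L03.Euler.topologicalKrullDim_add_one_le hS (IrreducibleSpace.isIrreducible_univ Y)
        (Set.subset_univ _) hne
      rw [(Homeomorph.Set.univ Y).isHomeomorph.topologicalKrullDim_eq, hdimY] at h
      have e : topologicalKrullDim ↥Z = topologicalKrullDim ↥(Subtype.val '' Z) :=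
        ((Topology.IsEmbedding.subtypeVal).homeomorphImage Z).isHomeomorph.topologicalKrullDim_eq
      rw [e]
      exact le_one_of_add_one_le h
    · have hnt : ∃ a ∈ Z, ∃ b ∈ Z, a ≠ b := by
        by_contra hcon
        push Not at hcon
        obtain ⟨y, hy⟩ := hZi.nonempty
        refine hiso' y ?_
        have hZe : Z = {y} := Set.eq_singleton_iff_unique_mem.2 ⟨hy, fun w hw => hcon w hw y hy⟩
        have hfin := TopologicalSpace.NoetherianSpace.finite_irreducibleComponents
          (α := ↥(φ.base ⁻¹' ({x} : Set X)))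
        have hcl : IsClosed (⋃₀ (irreducibleComponents ↥(φ.base ⁻¹' ({x} : Set X)) \ {Z})) :=
          by rw [Set.sUnion_eq_biUnion]; exact Set.Finite.isClosed_biUnion (Set.Finite.sdiff hfin) fun W hW => isClosed_of_mem_irreducibleComponents W hW.1
        have heq : ({y} : Set ↥(φ.base ⁻¹' ({x} : Set X))) =
            (⋃₀ (irreducibleComponents ↥(φ.base ⁻¹' ({x} : Set X)) \ {Z}))ᶜ := by
          ext w
          constructor
          · rintro rfl ⟨W, ⟨hW, hne⟩, hwW⟩
            refine hne (Set.Subset.antisymm (hZ.2 hW.1 ?_) ?_)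
            · rw [hZe]; exact Set.singleton_subset_iff.2 hwW
            · rw [hZe]; exact Set.singleton_subset_iff.2 hwW
          · intro hw
            obtain ⟨W, hW, hwW⟩ : w ∈ ⋃₀ irreducibleComponents ↥(φ.base ⁻¹' ({x} : Set X)) :=
              ⟨irreducibleComponent w, irreducibleComponent_mem_irreducibleComponents w, mem_irreducibleComponent⟩
            by_cases hWZ : W = Z
            · rw [hWZ, hZe] at hwW; exact hwW
            · exact absurd ⟨W, ⟨hW, hWZ⟩, hwW⟩ hw
        rw [heq]
        exact hcl.isOpen_compl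
      obtain ⟨a, ha, b, hb, hab⟩ := hnt
      exact one_le_dim hZc hZi ha hb hab

end Groth.Agent.S14698
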