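import Groth.Statements.S14700
import Groth.Agent.L03.BlowPt.CurveUnion
import Groth.Agent.L03.BlowPt.Rules
-- import your own Groth.Agent.* helpers here

set_option autoImplicit false
universe u
open CategoryTheory CategoryTheory.Limits AlgebraicGeometry
open Surf

namespace Groth.Agent.S14700

open Groth.L03.BlowPt Groth.L22.Big

/-- Let k be an algebraically closed field and X an integral scheme of dimension two with all local
rings regular, admitting a closed immersion into some P^n_k over k. Let C_1, …, C_n be pairwise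
distinct integral one-dimensional closed subschemes of X with ideal sheaves I_1, …, I_n, and let Y
be the reduced closed subscheme with ideal I_1 ∩ ⋯ ∩ I_n (their union); assume Y is connected. Then
χ(O_Y) ≤ 1, i.e. the arithmetic genus 1 - χ(O_Y) of Y is nonnegative. If moreover χ(O_Y) = 1, then
χ(O_{C_i}) = 1 for every i (each C_i has arithmetic genus zero) and Σ_{i<j} (C_i · C_j) = n - 1, so
that the incidence graph of the C_i, which is connected with Σ_{i<j} (C_i · C_j) edges, contains no
cycle; here (C_i · C_j) = χ(O_X) - χ(I_i) - χ(I_j) + χ(I_i ⊗ I_j) is the intersection number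
(packaged as FGA.intNum). (The published statement allows any integral projective surface regular in
codimension one; this row takes X with all local rings regular, where the intersection numbers used
by the proof are defined.) -/
theorem result (k : Type u) [Field k] [IsAlgClosed k] (X : Scheme.{u}) [X.Over (Spec (CommRingCat.of k))]
    [IsIntegral X] (hdim : topologicalKrullDim X = 2)
    (hproj : ∃ (n : ℕ) (ι : X ⟶ CohB1.ProjSpace n k), IsClosedImmersion ι ∧ ι ≫ CohB1.ProjSpace.toSpec n k = (X ↘ (Spec (CommRingCat.of k))))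
    (hreg : ∀ x : X, IsRegularLocalRing (X.presheaf.stalk x))
    (n : ℕ) (C : Fin n → X.IdealSheafData) (hCint : ∀ i, IsIntegral (C i).subscheme)
    (hCdim : ∀ i, topologicalKrullDim ((C i).support : Set X) = 1)
    (hCinj : Function.Injective fun i => ((C i).support : Set X))
    (hconn : _root_.IsConnected ((⨅ i, C i).support : Set X)) :
    Curv2.euler k X (ClSub.quotMod (⨅ i, C i)) ≤ 1 ∧
      (Curv2.euler k X (ClSub.quotMod (⨅ i, C i)) = 1 →
        (∀ i, Curv2.euler k X (ClSub.quotMod (C i)) = 1) ∧
          (∑ i : Fin n, ∑ j : Fin n,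
              if i < j then FGA.intNum k X 2 ![ClSub.idealMod (C i), ClSub.idealMod (C j)] (Coh.structureModule X) else 0) =
            (n : ℤ) - 1) := by
  classical
  haveI : IsProper (X ↘ (Spec (CommRingCat.of k))) := isProper_of_projective k _ hproj
  have hd : topologicalKrullDim X = (2 : ℕ) := hdim.trans Nat.cast_ofNat.symm
  have hn : 0 < n := by
    rcases Nat.eq_zero_or_pos n with h | h
    · subst h
      obtain ⟨z, hz⟩ := hconn.nonempty
      rw [iInf_of_empty] at hz
      simp at hz
    · exact h
  have hle := le_sum_ii k hd hreg C hCint hCdim hCinj hconn.isPreconnected hn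
  obtain ⟨hinf, hχ⟩ := prod_eq_inf k hd hreg C hCint hCdim hCinj Finset.univ
  rw [Finset.inf_univ_eq_iInf] at hinf
  rw [← hinf] at hχ
  have h1 : ∀ i, Curv2.euler k X (ClSub.quotMod (C i)) ≤ 1 := fun i =>
    haveI := hCint i
    (Groth.L03.SurfAdj.curve_euler k (C i) (hCdim i)).1
  set G : Fin n → Fin n → ℤ := fun i j =>
    FGA.intNum k X 2 ![ClSub.idealMod (C i), ClSub.idealMod (C j)] (Coh.structureModule X) with hG
  have hGii : ∀ i j, (G i j : ℚ) = ii k (ClSub.idealMod (C i)) (ClSub.idealMod (C j)) := fun i j =>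
    intNum_eq_ii k hd.le _ _
  have hsymm : ∀ i j, G i j = G j i := fun i j => by
    have : (G i j : ℚ) = G j i := by rw [hGii, hGii, ii_comm]
    exact_mod_cast this
  have hsplit : ∑ i, ∑ j, (if i = j then 0 else G i j) = 2 * ∑ i, ∑ j, (if i < j then G i j else 0) := by
    rw [two_mul]
    nth_rewrite 3 [Finset.sum_comm]
    simp only [← Finset.sum_add_distrib]
    refine Finset.sum_congr rfl fun i _ => Finset.sum_congr rfl fun j _ => ?_
    rcases lt_trichotomy i j with h | h | h
    · simp [h, h.ne, h.not_gt]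
    · simp [h]
    · simp [h, h.ne', h.not_gt, hsymm i j]
  have hsplit' : (∑ i, ∑ j, (if i = j then 0 else ii k (ClSub.idealMod (C i)) (ClSub.idealMod (C j))) : ℚ) =
      2 * ((∑ i, ∑ j, (if i < j then G i j else 0) : ℤ) : ℚ) := by
    rw [show (2 : ℚ) = ((2 : ℤ) : ℚ) by norm_num, ← Int.cast_mul, ← hsplit]
    push_cast
    simp only [hGii]
  rw [hsplit'] at hle hχ
  have hle' : (n : ℤ) - 1 ≤ ∑ i, ∑ j, (if i < j then G i j else 0) := by
    have : (n : ℚ) - 1 ≤ ((∑ i, ∑ j, (if i < j then G i j else 0) : ℤ) : ℚ) := by linarith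
    exact_mod_cast this
  have hχ' : Curv2.euler k X (ClSub.quotMod (⨅ i, C i)) =
      (∑ i, Curv2.euler k X (ClSub.quotMod (C i))) - ∑ i, ∑ j, (if i < j then G i j else 0) := by
    have : (Curv2.euler k X (ClSub.quotMod (⨅ i, C i)) : ℚ) = ((∑ i, Curv2.euler k X (ClSub.quotMod (C i)) : ℤ) : ℚ) -
        ((∑ i, ∑ j, (if i < j then G i j else 0) : ℤ) : ℚ) := by
      push_cast at hχ ⊢
      linarith
    exact_mod_cast this
  have hsum : ∑ i, Curv2.euler k X (ClSub.quotMod (C i)) ≤ (n : ℤ) := by
    calc ∑ i, Curv2.euler k X (ClSub.quotMod (C i)) ≤ ∑ _i : Fin n, (1 : ℤ) := Finset.sum_le_sum fun i _ => h1 i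
      _ = (n : ℤ) := by simp
  simp only [G] at hle' hχ'
  refine ⟨by omega, fun h => ⟨fun i => le_antisymm (h1 i) ?_, by omega⟩⟩
  by_contra hlt
  have : ∑ i, Curv2.euler k X (ClSub.quotMod (C i)) < ∑ _i : Fin n, (1 : ℤ) :=
    Finset.sum_lt_sum (fun j _ => h1 j) ⟨i, Finset.mem_univ i, by omega⟩
  simp at this
  omega

end Groth.Agent.S14700
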