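import Groth.Statements.S14702
import Groth.Agent.L29.Dual.NormalDualizing
import Groth.Agent.L10.RelCan.Basic
import Groth.Agent.L22.Adjunction.SmoothDual
-- import your own Groth.Agent.* helpers here

set_option autoImplicit false
set_option backward.isDefEq.respectTransparency false
set_option linter.style.haveILetI false
universe u
open CategoryTheory CategoryTheory.Limits AlgebraicGeometry
open ProjDual

namespace Groth.Agent.S14702

/-- Let k be an algebraically closed field and X an integral closed subscheme of P^N_k of dimension two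
which is a local complete intersection (every local ring is a complete intersection) with only
finitely many non-regular points; let U ⊆ X be the open subset of regular points. Let (ω, t) be a
dualizing sheaf for X: ω coherent, t a k-linear form on H^2(X, ω), and for every coherent F and
every k-linear form ψ on H^2(X, F) there is exactly one φ : F → ω with ψ = t ∘ H^2(φ). Then the
restriction of ω to U is isomorphic to ω_U, a second exterior power of the sheaf of differentials
Ω_{U/k} (existence of an isomorphism of O_U-modules; the published statement also asserts an unnamed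
isomorphism). -/
theorem result (k : Type u) [Field k] [IsAlgClosed k] (N : ℕ)
    (X : Scheme.{u}) [X.Over (Spec (CommRingCat.of k))] [IsIntegral X] (hdim : topologicalKrullDim X = 2)
    (ι : X ⟶ CohB1.ProjSpace N k) [IsClosedImmersion ι] (hι : ι ≫ CohB1.ProjSpace.toSpec N k = X ↘ (Spec (CommRingCat.of k)))
    (hlci : ∀ x : X, Pi1.IsCompleteIntersection (X.presheaf.stalk x))
    (U : X.Opens) (hUreg : ∀ x : X, x ∈ U ↔ IsRegularLocalRing (X.presheaf.stalk x)) (hU : ((U : Set X)ᶜ).Finite)
    (ω : X.Modules) (hωcoh : Coh.IsCoh ω) (t : Coh.HH X ω 2 →ₗ[k] k)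
    (hdual : ∀ F : X.Modules, Coh.IsCoh F → ∀ ψ : Coh.HH X F 2 →ₗ[k] k,
        ∃! φ : F ⟶ ω, ∀ x : Coh.HH X F 2,
          ψ x = t (Sheaf.H.map ((SheafOfModules.toSheaf X.ringCatSheaf).map φ) 2 x))
    (W : (U : Scheme.{u}).Modules) (hW : ExtPow.IsExtPow 2 (Omega.sheaf (U.ι ≫ (X ↘ (Spec (CommRingCat.of k))))) W) :
    Nonempty ((Scheme.Modules.restrictFunctor U.ι).obj ω ≅ W) := by
  let p := X ↘ Spec (CommRingCat.of k)
  haveI : IsProper p := Groth.L22.Adjunction.isProper_of_closed k X ι hι
  haveI : Dual3.IsSepFT p := ⟨inferInstance, inferInstance, inferInstance⟩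
  haveI : LocallyOfFinitePresentation p := LocallyOfFinitePresentation.iff_locallyOfFiniteType.mpr inferInstance
  haveI : IsLocallyNoetherian X := LocallyOfFiniteType.isLocallyNoetherian p
  haveI : Flat p := inferInstance
  haveI : ∀ (U V : Scheme.{u}) (j : U ⟶ V) [IsOpenImmersion j],
      PreservesFiniteLimits (Scheme.Modules.restrictFunctor j) := fun U V j _ => inferInstance
  obtain ⟨hreg, hdense⟩ := Groth.Agent.S1561.result k X
  have hUs : U = p.smoothLocus := by
    ext x
    exact (hUreg x).trans (hreg x).symm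
  subst hUs
  haveI : Smooth (p.smoothLocus.ι ≫ p) := by
    rw [← Scheme.Hom.smoothLocus_eq_top_iff, ← Scheme.Hom.preimage_smoothLocus_eq]
    ext z
    exact iff_of_true z.2 trivial
  have hdim' : topologicalKrullDim X = ((2 : ℕ) : WithBot ℕ∞) := hdim
  have hrd : Cyc.HasRelDim p 2 := by
    intro y T hT
    let h := p.fiberι y
    have hs : Function.Surjective h := fun x => by
      rw [← Set.mem_range, Scheme.Hom.range_fiberι]
      exact @Subsingleton.elim _ (inferInstanceAs (Subsingleton (PrimeSpectrum k))) _ _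
    let e : ↥(p.fiber y) ≃ₜ ↥X := h.isEmbedding.toHomeomorphOfSurjective hs
    haveI : IrreducibleSpace ↥(p.fiber y) :=
      haveI : Nonempty ↥(p.fiber y) := ⟨e.symm (Classical.arbitrary _)⟩
      haveI : PreirreducibleSpace ↥(p.fiber y) := e.symm.surjective.preirreducibleSpace e.symm.continuous
      { toPreirreducibleSpace := inferInstance, toNonempty := inferInstance }
    rw [irreducibleComponents_eq_singleton, Set.mem_singleton_iff] at hT
    subst hT
    rw [(Homeomorph.Set.univ _).isHomeomorph.topologicalKrullDim_eq, e.isHomeomorph.topologicalKrullDim_eq, hdim']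
  obtain ⟨c, _, hc, a, adj, O, hO, hmodel⟩ := Groth.L10.RelCan.exists_model (A := k) (Y := X) 2 hrd
  let ω₀ := DCoh.HD ((Dual3.shriekC c a).obj O) (-((2 : ℕ) : ℤ))
  have hc₀ : Coh.IsCoh ω₀ := Groth.L10.ShriekLoc.isCoh_omega c adj O hO _
  obtain ⟨t₀, -, ht₀⟩ := (Groth.L10.RelCan.isDualizingSheaf_iff _).1 ((hmodel ω₀).2 ⟨Iso.refl _⟩)
  obtain ⟨φ, hφ, -⟩ := hdual ω₀ hc₀ t₀
  obtain ⟨ψ, hψ, -⟩ := ht₀ ω hωcoh.1 t
  let eω : ω ≅ ω₀ := ⟨ψ, φ,
    (hdual ω hωcoh t).unique
      (fun z => by
        change t z = t (Groth.L16.CohLinear.hmap (ψ ≫ φ) 2 z)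
        rw [Groth.L16.CohLinear.hmap_comp, hψ z]
        exact hφ _)
      (fun z => by
        change t z = t (Groth.L16.CohLinear.hmap (𝟙 ω) 2 z)
        rw [Groth.L16.CohLinear.hmap_id]),
    (ht₀ ω₀ hc₀.1 t₀).unique
      (fun z => by
        rw [Groth.L16.CohLinear.hmap_comp, hφ z]
        exact hψ _)
      (fun z => by rw [Groth.L16.CohLinear.hmap_id])⟩
  obtain ⟨e⟩ := Groth.L29.NormalDual.nonempty_restrict_HD p p.smoothLocus hdense.nonempty 2 hdim' c hc a adj O hO W hW
  exact ⟨(Scheme.Modules.restrictFunctor p.smoothLocus.ι).mapIso eω ≪≫ e⟩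

end Groth.Agent.S14702
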