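import Groth.Statements.S14703
import Groth.Agent.L03.BlowPt.Contracted
-- import your own Groth.Agent.* helpers here

set_option autoImplicit false
universe u
open CategoryTheory CategoryTheory.Limits AlgebraicGeometry
open Surf

namespace Groth.Agent.S14703

open Groth.L03.BlowPt Groth.L22.Big

/-- Let k be an algebraically closed field, X an integral scheme of dimension two admitting a closed
immersion into some P^n_k over k, and U ⊆ X open with finite complement. Let φ : Y → X be a
k-morphism from an integral scheme of dimension two with all local rings regular, itself admitting a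
closed immersion into some projective space over k, restricting to an isomorphism over U; let μ_1,
…, μ_s be distinct integral one-dimensional closed subschemes of Y, each mapped to a point, such
that every integral one-dimensional closed subscheme of Y mapped to a point has the support of one
of them. Let D be an effective Cartier divisor on X (an ideal sheaf I_D locally generated by one
nonzerodivisor) and D̃ an effective Cartier divisor on Y whose support contains no μ_j and whose
ideal agrees with the inverse-image ideal φ⁻¹I_D · O_Y on every affine open contained in φ⁻¹(U) —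
the strict transform of D. Then there are natural numbers γ_1, …, γ_s such that φ⁻¹I_D · O_Y =
I_{D̃} · ∏_j I_{μ_j}^{γ_j} (the total transform is the strict transform plus Σ γ_j μ_j) and Σ_j (μ_i
· μ_j) γ_j = -(D̃ · μ_i) for every i (the total transform meets every μ_i with intersection number
zero), where (A · B) = χ(O_Y) - χ(I_A) - χ(I_B) + χ(I_A ⊗ I_B) (packaged as FGA.intNum). (The
published statement writes the coefficient vector as γ = -d⁻¹ (D̃ · μ), with d = (μ_i · μ_j), for a
locally principal divisor on a normal surface and a resolution that is an isomorphism exactly off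
the singular points with exceptional fibres of pure dimension one; this row states the linear system
d γ = -(D̃ · μ), for effective Cartier divisors, any resolution that is an isomorphism over an open
subset with finite complement, and X not assumed normal.) -/
theorem result (k : Type u) [Field k] [IsAlgClosed k] (X : Scheme.{u}) [X.Over (Spec (CommRingCat.of k))]
    [IsIntegral X] (hdim : topologicalKrullDim X = 2)
    (hproj : ∃ (n : ℕ) (ι : X ⟶ CohB1.ProjSpace n k), IsClosedImmersion ι ∧ ι ≫ CohB1.ProjSpace.toSpec n k = (X ↘ (Spec (CommRingCat.of k))))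
    (U : X.Opens) (hU : ((U : Set X)ᶜ).Finite)
    (Y : Scheme.{u}) (φ : Y ⟶ X) [IsIntegral Y] (hdimY : topologicalKrullDim Y = 2)
    (hregY : ∀ y : Y, IsRegularLocalRing (Y.presheaf.stalk y))
    (hprojY : ∃ (n : ℕ) (ι : Y ⟶ CohB1.ProjSpace n k), IsClosedImmersion ι ∧ ι ≫ CohB1.ProjSpace.toSpec n k = φ ≫ (X ↘ (Spec (CommRingCat.of k))))
    (hiso : IsIso (φ ∣_ U))
    (s : ℕ) (μ : Fin s → Y.IdealSheafData) (hμint : ∀ j, IsIntegral (μ j).subscheme)
    (hμdim : ∀ j, topologicalKrullDim ((μ j).support : Set Y) = 1)
    (hμpt : ∀ j, ∃ x : X, φ.base '' ((μ j).support : Set Y) = {x})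
    (hμinj : Function.Injective fun j => ((μ j).support : Set Y))
    (hμall : ∀ E : Y.IdealSheafData, IsIntegral E.subscheme → topologicalKrullDim (E.support : Set Y) = 1 →
      (∃ x : X, φ.base '' (E.support : Set Y) = {x}) → ∃ j, (E.support : Set Y) = (μ j).support)
    (D : X.IdealSheafData) (hD : FGA.IsEffCartier D) (Dt : Y.IdealSheafData) (hDt : FGA.IsEffCartier Dt)
    (hDtexc : ∀ j, ¬ ((μ j).support : Set Y) ⊆ Dt.support)
    (hDtU : ∀ W : Y.affineOpens, (W : Y.Opens) ≤ φ ⁻¹ᵁ U → Dt.ideal W = (D.comap φ).ideal W) :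
    letI : Y.Over (Spec (CommRingCat.of k)) := ⟨φ ≫ (X ↘ (Spec (CommRingCat.of k)))⟩
    ∃ γ : Fin s → ℕ, D.comap φ = Dt * ∏ j : Fin s, μ j ^ γ j ∧
      ∀ i : Fin s, (∑ j : Fin s, FGA.intNum k Y 2 ![ClSub.idealMod (μ i), ClSub.idealMod (μ j)] (Coh.structureModule Y) * (γ j : ℤ)) =
        - FGA.intNum k Y 2 ![ClSub.idealMod Dt, ClSub.idealMod (μ i)] (Coh.structureModule Y) := by
  letI : Y.Over (Spec (CommRingCat.of k)) := ⟨φ ≫ (X ↘ (Spec (CommRingCat.of k)))⟩
  haveI : IsProper (X ↘ (Spec (CommRingCat.of k))) := isProper_of_projective k _ hproj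
  haveI : IsProper (Y ↘ (Spec (CommRingCat.of k))) := isProper_of_projective k _ hprojY
  have hd : topologicalKrullDim X = (2 : ℕ) := hdim.trans Nat.cast_ofNat.symm
  have hd' : topologicalKrullDim Y = (2 : ℕ) := hdimY.trans Nat.cast_ofNat.symm
  haveI := hμint
  let ξ : Fin s → Y := fun j => (μ j).subschemeι (genericPoint (μ j).subscheme)
  have hpt : ∀ j, μ j = Groth.L22.Inter.pt (ξ j) := fun j => Groth.L22.Nef.eq_pt (μ j)
  have hgen : ∀ j, IsGenericPoint (ξ j) ((μ j).support : Set Y) := fun j => isGenericPoint_ι (μ j)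
  obtain ⟨γ, h1, h2⟩ := exists_total_eq k hd hd' hregY φ U hU hiso ξ
    (fun j => by rw [(hgen j).def, hμdim j, Nat.cast_one])
    (fun i j h => hμinj (show ((μ i).support : Set Y) = (μ j).support by rw [← (hgen i).def, ← (hgen j).def, h]))
    (fun j => by
      obtain ⟨x, hx⟩ := hμpt j
      exact ⟨x, fun w hw => hx.subset (Set.mem_image_of_mem _ ((hgen j).def ▸ hw))⟩)
    (fun y hy hyc => by
      obtain ⟨x, hx⟩ := hyc
      obtain ⟨hyi, hyd, hyg⟩ := curve_of_dim hy
      haveI := hyi
      have hE : IsGenericPoint y ((Groth.L22.Inter.pt y).support : Set Y) := by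
        simpa [Groth.L22.Inter.genericPoint_pt] using isGenericPoint_ι (Groth.L22.Inter.pt y)
      obtain ⟨j, hj⟩ := hμall (Groth.L22.Inter.pt y) hyi hyd ⟨x, by
        rw [← hE.def]
        refine Set.Subset.antisymm (by rintro _ ⟨w, hw, rfl⟩; exact hx w hw) ?_
        rintro _ rfl
        exact ⟨y, subset_closure rfl, hx y (subset_closure rfl)⟩⟩
      exact ⟨j, (hgen j).eq (hj ▸ hE)⟩)
    hD hDt (fun j h => hDtexc j (fun w hw => by
      rw [← (hgen j).def] at hw
      exact closure_minimal (Set.singleton_subset_iff.2 h) Dt.support.isClosed hw)) hDtU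
  refine ⟨γ, ?_, fun i => ?_⟩
  · rw [h1]
    simp only [← hpt]
  · have h := h2 i
    simp only [← hpt, ← intNum_eq_ii k hd'.le] at h
    have h' : ∑ j : Fin s, ((γ j : ℤ) * FGA.intNum k Y 2 ![ClSub.idealMod (μ i), ClSub.idealMod (μ j)] (Coh.structureModule Y)) =
        - FGA.intNum k Y 2 ![ClSub.idealMod Dt, ClSub.idealMod (μ i)] (Coh.structureModule Y) := by exact_mod_cast h
    rw [← h']
    exact Finset.sum_congr rfl fun j _ => mul_comm _ _

end Groth.Agent.S14703
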