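import Groth.Statements.S14704
import Groth.Agent.L17.FSheaf.ClosedBC

set_option linter.style.haveILetI false
set_option backward.isDefEq.respectTransparency false
set_option backward.isDefEq.respectTransparency.types false

set_option autoImplicit false
open CategoryTheory
universe u
open FCompl

namespace Groth.Agent.S14704

/-- Let 𝔖, 𝔛, 𝔜 be locally Noetherian formal schemes, presented as adic systems of locally Noetherian
thickenings with a common underlying space, let f : 𝔛 ⟶ 𝔖 be a closed immersion (adic, with a closed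
immersion at level 0) and g : 𝔜 ⟶ 𝔖 any morphism, and let p, q be the two projections of the
levelwise fibre product 𝔛 ×_𝔖 𝔜, assumed to be again a locally Noetherian formal scheme (which
holds, f being of finite type). Then for every coherent O_𝔛-module 𝔉 the base-change morphism u :
g^*(f_* 𝔉) ⟶ q_*(p^* 𝔉), whose adjunct f_* 𝔉 ⟶ g_* q_* p^* 𝔉 = f_* p_* p^* 𝔉 is f_* of the unit 𝔉 ⟶
p_* p^* 𝔉, is an isomorphism. -/
theorem result (𝔖 𝔛 𝔜 : FSch.Sys.{u})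
    (h𝔖 : 𝔖.IsLocNoethFormal) (h𝔛 : 𝔛.IsLocNoethFormal) (h𝔜 : 𝔜.IsLocNoethFormal)
    (f : 𝔛 ⟶ 𝔖) (g : 𝔜 ⟶ 𝔖) (hf : FSch.IsClosedImmHom f)
    (hZ : (FSch.pullbackSys f g).IsLocNoethFormal)
    (𝔉 : FSch.ModF 𝔛 h𝔛.1) (h𝔉 : FSch.IsCohF 𝔛 h𝔛.1 𝔉) :
    IsIso (FSch.bcMapF (FSch.pullbackFst f g) f (FSch.pullbackSnd f g) g (FSch.pullbackSys_condition f g)
      hZ.1 h𝔛.1 h𝔜.1 h𝔖.1 𝔉) := by
  have hcl : ∀ k, AlgebraicGeometry.IsClosedImmersion (Groth.L17.FSheaf.fL f k) := fun k =>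
    haveI := hf.2
    Groth.L17.ThickLevels.isClosedImmersion_app f h𝔖.1 h𝔖.2.1 hf.1 k
  let 𝔑 := Groth.L17.FSheaf.canonSys 𝔛 h𝔛.1 𝔉
  let θ := Groth.L17.FSheaf.toCanon 𝔛 h𝔛.1 𝔉
  haveI : IsIso θ := Groth.L17.FSheaf.isIso_toCanon 𝔛 h𝔛 𝔉 h𝔉
  haveI := Groth.L17.ClosedBC.isIso_bcMapF_realMod (FSch.pullbackFst f g) f (FSch.pullbackSnd f g) g
    (FSch.pullbackSys_condition f g) hZ h𝔛 h𝔜 h𝔖 hf.1 hcl (fun k => CategoryTheory.IsPullback.of_hasPullback _ _) 𝔑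
    (Groth.L17.FSheaf.isCoh_canonSys 𝔛 h𝔛 𝔉 h𝔉)
  have h := Groth.L17.ClosedBC.bcMapF_natural (FSch.pullbackFst f g) f (FSch.pullbackSnd f g) g
    (FSch.pullbackSys_condition f g) hZ.1 h𝔛.1 h𝔜.1 h𝔖.1 θ
  haveI : IsIso (FSch.bcMapF (FSch.pullbackFst f g) f (FSch.pullbackSnd f g) g (FSch.pullbackSys_condition f g)
      hZ.1 h𝔛.1 h𝔜.1 h𝔖.1 𝔉 ≫ (FSch.pushF (FSch.pullbackSnd f g) hZ.1 h𝔜.1).map
        ((FSch.pullF (FSch.pullbackFst f g) hZ.1 h𝔛.1).map θ)) := h ▸ inferInstance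
  exact IsIso.of_isIso_comp_right _ ((FSch.pushF (FSch.pullbackSnd f g) hZ.1 h𝔜.1).map
        ((FSch.pullF (FSch.pullbackFst f g) hZ.1 h𝔛.1).map θ))

end Groth.Agent.S14704
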