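import Groth.Statements.S14708
import Groth.Agent.L18.ExtFunNat

set_option autoImplicit false
universe u
open HRes

namespace Groth.Agent.S14708

open CategoryTheory CategoryTheory.Limits AlgebraicGeometry Opposite in
theorem pullConst_id (K : Precoverage Scheme.{u}) (S : Scheme.{u}) (M : AddCommGrpCat.{u + 1}) :
    (HRes.pullConst K (𝟙 S) M).inv ≫
      (K.toGrothendieck.overMapPullbackId AddCommGrpCat.{u + 1} S).hom.app
        ((constantSheaf (QuotSh.J K S) AddCommGrpCat.{u + 1}).obj M) = 𝟙 _ := by
  apply Sheaf.hom_ext
  apply sheafify_hom_ext _ _ _ ((constantSheaf (QuotSh.J K S) AddCommGrpCat.{u + 1}).obj M).property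
  have h : toSheafify (QuotSh.J K S) ((Functor.const _).obj M) ≫ (HRes.pullConst K (𝟙 S) M).inv.hom =
      Functor.whiskerLeft (Over.map (𝟙 S)).op (toSheafify (QuotSh.J K S) ((Functor.const _).obj M)) :=
    (Over.map (𝟙 S)).toSheafify_pullbackSheafificationCompatibility AddCommGrpCat.{u + 1}
      (QuotSh.J K S) (QuotSh.J K S) ((Functor.const _).obj M)
  erw [reassoc_of% h]
  ext1
  ext1 V
  refine Eq.trans ?_ (Category.comp_id _).symm
  exact ((toSheafify (QuotSh.J K S) ((Functor.const _).obj M)).naturality
    ((Over.mapId S).inv.app V.unop).op).symm.trans (Category.id_comp _)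

open CategoryTheory AlgebraicGeometry in
/-- Let S be a scheme, K a precoverage on schemes with its big site over S, F an abelian sheaf on that
site and n ≥ 0. For every class x ∈ H^n(S, F), restricting x along the identity of S and then
applying the map induced on cohomology by the canonical isomorphism (𝟙_S)⁻¹ F ≅ F gives back x; this
is the identity law of the presheaf U ↦ H^n(U, F) given by the restriction maps. The statement is
asserted for every precoverage K; it has no hypothesis depending on K. -/
theorem result (K : Precoverage Scheme.{u}) (S : Scheme.{u})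
    (F : BigSite.Ab K S) (n : ℕ) (x : BigSite.H K S F n) :
    Sheaf.H.map ((K.toGrothendieck.overMapPullbackId AddCommGrpCat.{u + 1} S).hom.app F) n
      (HRes.pull K (𝟙 S) F n x) = x := by
  have h := Groth.L18.ExtFunNat.natTrans_comp (BigSite.pullBig K (𝟙 S) AddCommGrpCat.{u + 1}) (𝟭 _)
    (K.toGrothendieck.overMapPullbackId AddCommGrpCat.{u + 1} S).hom x
  rw [Groth.L18.ExtFunNat.id_eq] at h
  rw [Sheaf.H.map_apply, HRes.pull_apply]
  erw [Abelian.Ext.comp_assoc _ _ _ (zero_add n) (add_zero n) (by omega), ← h,
    ← Abelian.Ext.comp_assoc _ _ _ (zero_add 0) (zero_add n) (by omega)]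
  erw [Abelian.Ext.mk₀_comp_mk₀, pullConst_id]
  exact Abelian.Ext.mk₀_id_comp x

end Groth.Agent.S14708
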