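import Groth.Statements.S14709
import Groth.Agent.L18.ExtFunNat

set_option autoImplicit false
universe u
open HRes

namespace Groth.Agent.S14709

open CategoryTheory CategoryTheory.Limits AlgebraicGeometry Opposite in
theorem pullConst_comp (K : Precoverage Scheme.{u}) {S T T' : Scheme.{u}} (f : T ⟶ S) (g : T' ⟶ T)
    (M : AddCommGrpCat.{u + 1}) :
    (HRes.pullConst K g M).inv ≫
      (BigSite.pullBig K g AddCommGrpCat.{u + 1}).map (HRes.pullConst K f M).inv ≫
      (K.toGrothendieck.overMapPullbackComp AddCommGrpCat.{u + 1} g f).hom.app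
        ((constantSheaf (QuotSh.J K S) AddCommGrpCat.{u + 1}).obj M) =
      (HRes.pullConst K (g ≫ f) M).inv := by
  apply Sheaf.hom_ext
  apply sheafify_hom_ext _ _ _ ((BigSite.pullBig K (g ≫ f) AddCommGrpCat.{u + 1}).obj
    ((constantSheaf (QuotSh.J K S) AddCommGrpCat.{u + 1}).obj M)).property
  have h : ∀ {A B : Scheme.{u}} (k : B ⟶ A),
      toSheafify (QuotSh.J K B) ((Functor.const _).obj M) ≫ (HRes.pullConst K k M).inv.hom =
      Functor.whiskerLeft (Over.map k).op (toSheafify (QuotSh.J K A) ((Functor.const _).obj M)) := fun k =>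
    (Over.map k).toSheafify_pullbackSheafificationCompatibility AddCommGrpCat.{u + 1}
      (QuotSh.J K _) (QuotSh.J K _) ((Functor.const _).obj M)
  erw [reassoc_of% (h g), h (g ≫ f)]
  ext1
  ext1 V
  have hf := congrArg (fun t => t.app ((Over.map g).op.obj V)) (h f)
  refine (Category.assoc _ _ _).symm.trans ?_
  erw [reassoc_of% hf]
  exact ((toSheafify (QuotSh.J K S) ((Functor.const _).obj M)).naturality _).symm.trans (Category.id_comp _)

open CategoryTheory CategoryTheory.Abelian in
theorem final_step.{w, v, u₁} {C : Type u₁} [Category.{v} C] [Abelian C] [HasExt.{w} C] {a b c d e : C} {n : ℕ}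
    (p : a ⟶ b) (η : b ⟶ c) (q : a ⟶ c) (y : Ext.{w} c e n) (z : Ext.{w} b d n) {ψ : d ⟶ e}
    (h : (Ext.mk₀ η).comp y (zero_add n) = z.comp (Ext.mk₀ ψ) (add_zero n)) (hq : p ≫ η = q) :
    (Ext.mk₀ p).comp (z.comp (Ext.mk₀ ψ) (add_zero n)) (zero_add n) = (Ext.mk₀ q).comp y (zero_add n) := by
  rw [← h, ← Ext.comp_assoc _ _ _ (zero_add 0) (zero_add n) (by omega), Ext.mk₀_comp_mk₀, hq]

open CategoryTheory AlgebraicGeometry in
/-- Let g : T' ⟶ T and f : T ⟶ S be morphisms of schemes, K a precoverage on schemes with its big sites,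
F an abelian sheaf on the big site of S and n ≥ 0. For every x ∈ H^n(S, F), the restriction of x
along g ≫ f is the restriction of x along f, restricted further along g, and then carried along the
map induced on cohomology by the canonical isomorphism g⁻¹(f⁻¹ F) ≅ (g ≫ f)⁻¹ F; this is the
composition law of the presheaf U ↦ H^n(U, F) given by the restriction maps. The statement is
asserted for every precoverage K; it has no hypothesis depending on K. -/
theorem result (K : Precoverage Scheme.{u}) {S T T' : Scheme.{u}}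
    (f : T ⟶ S) (g : T' ⟶ T) (F : BigSite.Ab K S) (n : ℕ) (x : BigSite.H K S F n) :
    HRes.pull K (g ≫ f) F n x =
      Sheaf.H.map ((K.toGrothendieck.overMapPullbackComp AddCommGrpCat.{u + 1} g f).hom.app F) n
        (HRes.pull K g ((BigSite.pullBig K f AddCommGrpCat.{u + 1}).obj F) n (HRes.pull K f F n x)) := by
  have h := Groth.L18.ExtFunNat.natTrans_comp
    (BigSite.pullBig K f AddCommGrpCat.{u + 1} ⋙ BigSite.pullBig K g AddCommGrpCat.{u + 1})
    (BigSite.pullBig K (g ≫ f) AddCommGrpCat.{u + 1})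
    (K.toGrothendieck.overMapPullbackComp AddCommGrpCat.{u + 1} g f).hom x
  rw [Sheaf.H.map_apply, HRes.pull_apply, HRes.pull_apply, HRes.pull_apply,
    Abelian.Ext.mapExactFunctor_comp, Abelian.Ext.mapExactFunctor_mk₀,
    Groth.L18.ExtFunNat.comp_eq]
  symm
  rw [← Abelian.Ext.comp_assoc _ _ _ (zero_add 0) (zero_add n) (by omega), Abelian.Ext.mk₀_comp_mk₀]
  erw [Abelian.Ext.comp_assoc _ _ _ (zero_add n) (add_zero n) (by omega)]
  refine final_step _ _ _ _ _ h ((Category.assoc _ _ _).trans (pullConst_comp K f g _))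

end Groth.Agent.S14709
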