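import Groth.Statements.S14713
import Groth.Agent.L14.GITLin.Main

set_option autoImplicit false
universe u
open CategoryTheory MonoidalCategory CartesianMonoidalCategory MonObj GrpObj AlgebraicGeometry Topology
open GIT

namespace Groth.Agent.S14713

/-- Let k be a field of characteristic zero, G a connected reductive algebraic group over k (affine,
smooth, with connected reductive geometric fibre) acting by σ on a finite-type k-scheme X (not
necessarily separated), and L a G-linearised line bundle on X, taken in total-space form (a line
bundle V → X with a linear atlas and a fibrewise-linear lifting of the action; sections of L^n are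
the weight-n functions on V, invariant sections those fixed by the lifted action, X_s the locus over
which s does not vanish identically on the fibre). Let U = X^ss(L) be the open set of semi-stable
points (those x admitting an invariant section s of some L^n, n ≥ 1, with s(x) ≠ 0 and X_s affine),
with the action restricted to U. Then a uniform categorical quotient (Y, φ) of U by G exists; φ is
affine and universally submersive; and Y is separated, of finite type over k and carries an ample
invertible sheaf, so that Y is a quasi-projective scheme. (The published statement also identifies
the pull-back of that ample sheaf with a power of L; this identification is not expressed here. The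
published statement is for any reductive G in any characteristic; this row is the
characteristic-zero case with G connected. L is taken in total-space form.) -/
theorem result (k : Type u) [Field k] [CharZero k]
    (G X : Over (Spec (CommRingCat.of k))) [GrpObj G] (hG : Red.IsReductive G)
    [LocallyOfFiniteType X.hom] [QuasiCompact X.hom]
    (a : AlgGrp.Action G X) (B : GLinSh.LinBun G a)
    (U : X.left.Opens) (hU : (U : Set X.left) = B.ssLocus)
    (aU : AlgGrp.Action G (Over.mk (U.ι ≫ X.hom)))
    (jU : Over.mk (U.ι ≫ X.hom) ⟶ X) (hjU : jU.left = U.ι)
    (haU : aU.act ≫ jU = (G ◁ jU) ≫ a.act) :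
    ∃ (Y : Over (Spec (CommRingCat.of k))) (φ : Over.mk (U.ι ≫ X.hom) ⟶ Y),
      GIT.IsUnifCatQuot aU φ ∧ IsAffineHom φ.left ∧ GIT.IsUnivSubmersive φ.left ∧
      IsSeparated Y.hom ∧ LocallyOfFiniteType Y.hom ∧
      ∃ M : Y.left.Modules, CohB1.IsAmple M := by
  obtain ⟨Y, φ, h, h2, h3, h4, h5, h6⟩ := Groth.L14.GITLin.exists_quotient hG U hU aU jU hjU haU
  exact ⟨Y, φ, ⟨h.1, fun X' Y' pr φ' g _ hpb => h.2 pr φ' g trivial hpb⟩, h2, h3, h4, h5, h6⟩

end Groth.Agent.S14713
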