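import Groth.Statements.S14714
import Groth.Agent.L14.GITLin.Stable

set_option autoImplicit false
universe u
open CategoryTheory MonoidalCategory CartesianMonoidalCategory MonObj GrpObj AlgebraicGeometry Topology
open GIT

namespace Groth.Agent.S14714

/-- Let k be a field of characteristic zero, G a connected reductive algebraic group over k (affine,
smooth, with connected reductive geometric fibre) acting by σ on a finite-type k-scheme X (not
necessarily separated), and L a G-linearised line bundle on X, taken in total-space form (a line
bundle V → X with a linear atlas and a fibrewise-linear lifting of the action; sections of L^n are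
the weight-n functions on V, invariant sections those fixed by the lifted action, X_s the locus over
which s does not vanish identically on the fibre). Let U = X^ss(L) be the open set of semi-stable
points and U' = X^s(L) ⊆ U the open set of stable points (x admitting an invariant section s of some
L^n, n ≥ 1, with s(x) ≠ 0, X_s affine and the action of G on X_s closed; no condition on
stabilisers), each with the restricted action, and let (Y, φ) be a categorical quotient of U by G.
Then there is an open subset Ỹ of Y with φ⁻¹(Ỹ) = U' such that (Ỹ, φ restricted to U') is a uniform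
geometric quotient of U' by G. (Stated for any categorical quotient of U, which is unique up to
unique isomorphism. The published statement is for any reductive G in any characteristic; this row
is the characteristic-zero case with G connected. L is taken in total-space form.) -/
theorem result (k : Type u) [Field k] [CharZero k]
    (G X : Over (Spec (CommRingCat.of k))) [GrpObj G] (hG : Red.IsReductive G)
    [LocallyOfFiniteType X.hom] [QuasiCompact X.hom]
    (a : AlgGrp.Action G X) (B : GLinSh.LinBun G a)
    (U : X.left.Opens) (hU : (U : Set X.left) = B.ssLocus)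
    (aU : AlgGrp.Action G (Over.mk (U.ι ≫ X.hom)))
    (jU : Over.mk (U.ι ≫ X.hom) ⟶ X) (hjU : jU.left = U.ι)
    (haU : aU.act ≫ jU = (G ◁ jU) ≫ a.act)
    (Y : Over (Spec (CommRingCat.of k))) (φ : Over.mk (U.ι ≫ X.hom) ⟶ Y) (hφ : GIT.IsCatQuot aU φ)
    (Us : X.left.Opens) (hUs : (Us : Set X.left) = B.sLocus) (hle : Us ≤ U)
    (aS : AlgGrp.Action G (Over.mk (Us.ι ≫ X.hom)))
    (jS : Over.mk (Us.ι ≫ X.hom) ⟶ X) (hjS : jS.left = Us.ι)
    (haS : aS.act ≫ jS = (G ◁ jS) ≫ a.act) :
    ∃ (Yt : Y.left.Opens) (φs : Over.mk (Us.ι ≫ X.hom) ⟶ Over.mk (Yt.ι ≫ Y.hom)),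
      φs.left ≫ Yt.ι = X.left.homOfLE hle ≫ φ.left ∧
      φ.left ⁻¹ᵁ Yt = U.ι ⁻¹ᵁ Us ∧
      GIT.IsUnifGeomQuot aS φs := by
  obtain ⟨Yt, φs, h1, h2, h3⟩ := Groth.L14.GITLin.exists_stable_quotient hG U hU aU jU hjU haU Y φ hφ Us hUs hle
    aS jS hjS haS
  exact ⟨Yt, φs, h1, h2, h3.1, fun X' Y' pr φ' g _ hpb => h3.2 pr φ' g trivial hpb⟩

end Groth.Agent.S14714
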