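import Groth.Prelude.Def_GLinSh
import Groth.Prelude.Def_W4bk4git07Quot
import Groth.Prelude.Def_AlgGrp
import Groth.Prelude.Def_Red
import Groth.Prelude.Def_CohB1
import Mathlib.AlgebraicGeometry.Morphisms.Proper
import Mathlib.AlgebraicGeometry.Morphisms.Affine
import Mathlib.AlgebraicGeometry.Morphisms.Smooth
import Mathlib.AlgebraicGeometry.Morphisms.FiniteType
import Mathlib.AlgebraicGeometry.Morphisms.Separated
import Mathlib.AlgebraicGeometry.Properties
import Mathlib.AlgebraicGeometry.Morphisms.Finite
import Mathlib.Topology.KrullDimension
import Groth.Agent.L11.AffInvBun.Loci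
-- import your own Groth.Agent.* helpers here

set_option autoImplicit false
universe u
open CategoryTheory MonoidalCategory CartesianMonoidalCategory MonObj GrpObj AlgebraicGeometry Topology
open GIT

namespace Groth.Agent.S14718

/-- Let k be a field, G a group scheme over k acting by σ on a k-scheme X, φ : X → Y an invariant
k-morphism (φ ∘ σ = φ ∘ p₂) which is affine, and M an ample invertible sheaf on Y. Then there is a
G-linearised line bundle L on X, taken in total-space form, with X = X^ss(L): every point x has an
invariant section s of some L^n, n ≥ 1, with s(x) ≠ 0 and X_s affine. If moreover (Y, φ) is a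
geometric quotient of X by G, then X = X^s(L) for the same L (the action of G on those X_s is
closed; no condition on stabilisers). (The published statement assumes G reductive, X of finite type
and (Y, φ) a categorical quotient with Y quasi-projective; this row keeps only what the construction
uses: φ invariant and affine, M ample. L is taken in total-space form.) -/
theorem result (k : Type u) [Field k]
    (G X Y : Over (Spec (CommRingCat.of k))) [GrpObj G]
    (a : AlgGrp.Action G X) (φ : X ⟶ Y) (hφ : GIT.IsInvariant a φ) [IsAffineHom φ.left]
    (M : Y.left.Modules) (hM : CohB1.IsAmple M) :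
    ∃ B : GLinSh.LinBun G a, B.ssLocus = Set.univ ∧ (GIT.IsGeomQuot a φ → B.sLocus = Set.univ) := by
  haveI := Groth.L21.Extend.isQCoh_of_isInvertible hM.1
  exact Groth.L11.AffInv.exists_bundle a φ M hφ hM

end Groth.Agent.S14718
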