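import Groth.Statements.S1472
import Groth.Agent.S1356
import Groth.Agent.L06.NormalTensorField
import Groth.Agent.L06.NormalTensorApps
import Groth.Agent.L05.NeronFinite.Dedekind
import Groth.Agent.L21.Curve.NormalConnected

set_option autoImplicit false
universe u
open FlatMor

set_option backward.isDefEq.respectTransparency.types false
set_option linter.style.haveILetI false
set_option backward.isDefEq.respectTransparency false
set_option backward.isDefEq.respectTransparency.types false
namespace Groth.Agent.S1472
open AlgebraicGeometry CategoryTheory Limits TensorProduct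

theorem normal_tensor {A B K : Type u} [CommRing A] [CommRing B] [Field K] [Algebra A B] [Algebra A K]
    (hn : EGA4.IsNormalHom A B) : EGA4.IsNormalRing (B ⊗[A] K) := by
  let p := RingHom.ker (algebraMap A K)
  haveI : p.IsPrime := RingHom.ker_isPrime _
  let ρ : p.ResidueField →+* K := Ideal.ResidueField.lift p (algebraMap A K) le_rfl (fun x hx => isUnit_iff_ne_zero.mpr hx)
  letI : Algebra p.ResidueField K := ρ.toAlgebra
  haveI : IsScalarTower A p.ResidueField K := IsScalarTower.of_algebraMap_eq fun x =>
    (Ideal.ResidueField.lift_algebraMap p (algebraMap A K) le_rfl (fun x hx => isUnit_iff_ne_zero.mpr hx) x).symm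
  have h1 := Groth.L06.NormalTensor.isNormalRing_field_tensor (hn.2 p) K Groth.L06.NormalTensor.normal_of_field.1
  exact Groth.L06.NormalAscent.isNormalRing_of_ringEquiv
    (((Algebra.TensorProduct.comm p.ResidueField (p.Fiber B) K).toRingEquiv.trans
      (Algebra.TensorProduct.cancelBaseChange A p.ResidueField K K B).toRingEquiv).trans
      (Algebra.TensorProduct.comm A K B).toRingEquiv) h1

variable {Y S : Scheme.{u}} (h : Y ⟶ S)
    (hn : ∀ (U : Y.Opens) (V : S.Opens) (hU : IsAffineOpen U) (hV : IsAffineOpen V) (hUV : U ≤ h ⁻¹ᵁ V),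
      letI := (h.appLE V U hUV).hom.toAlgebra
      EGA4.IsNormalHom Γ(S, V) Γ(Y, U))

include hn in
theorem flat : Flat h := by
  refine (HasRingHomProperty.iff_appLE (P := @Flat)).mpr fun V U e => ?_
  exact (hn U.1 V.1 U.2 V.2 e).1

include hn in
theorem normal_fibres (K : Type u) [Field K] (t : Spec (CommRingCat.of K) ⟶ S) : Pi1.IsNormalScheme (pullback h t) := by
  intro z
  let x := pullback.fst h t z
  obtain ⟨V, hV, htV, -⟩ := exists_isAffineOpen_mem_and_subset (show t (IsLocalRing.closedPoint K) ∈ (⊤ : S.Opens) from trivial)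
  have hxV : h x ∈ V := by
    rw [← Scheme.Hom.comp_apply, pullback.condition, Scheme.Hom.comp_apply]
    rw [Subsingleton.elim (α := PrimeSpectrum K) (pullback.snd h t z) (IsLocalRing.closedPoint K)]
    exact htV
  obtain ⟨U, hU, hxU, hUV⟩ := exists_isAffineOpen_mem_and_subset (show x ∈ h ⁻¹ᵁ V from hxV)
  let A := Γ(S, V)
  let B := Γ(Y, U)
  letI : Algebra A B := (h.appLE V U hUV).hom.toAlgebra
  let tV : Spec (CommRingCat.of K) ⟶ Spec A := IsOpenImmersion.lift hV.fromSpec t (by
    rw [hV.range_fromSpec]
    rintro _ ⟨w, rfl⟩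
    rw [Subsingleton.elim (α := PrimeSpectrum K) w (IsLocalRing.closedPoint K)]
    exact htV)
  have htV' : tV ≫ hV.fromSpec = t := IsOpenImmersion.lift_fac _ _ _
  obtain ⟨φ, hφ⟩ := Spec.map_surjective tV
  letI : Algebra A K := φ.hom.toAlgebra
  let a := Spec.map (CommRingCat.ofHom (algebraMap A B))
  let c := Spec.map (CommRingCat.ofHom (algebraMap A K))
  have hc : c ≫ hV.fromSpec = t := by rw [← htV', ← hφ]; rfl
  have ha : a ≫ hV.fromSpec = hU.fromSpec ≫ h := hV.SpecMap_appLE_fromSpec h hU hUV
  let j : pullback a c ⟶ pullback h t := pullback.lift (pullback.fst a c ≫ hU.fromSpec) (pullback.snd a c)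
    (by rw [Category.assoc, ← ha, pullback.condition_assoc, hc])
  have hP : IsPullback (pullback.fst a c) (pullback.snd a c) (hU.fromSpec ≫ h) t := by
    rw [← ha, ← hc]
    exact IsPullback.of_isLimit' ⟨by rw [pullback.condition_assoc]⟩ (pullbackIsPullbackOfCompMono a c hV.fromSpec)
  have hj : IsPullback (pullback.fst a c) j hU.fromSpec (pullback.fst h t) := by
    refine IsPullback.of_bot ?_ (by simp [j]) (IsPullback.of_hasPullback h t)
    rw [pullback.lift_snd]; exact hP
  haveI : IsOpenImmersion j := MorphismProperty.of_isPullback (P := @IsOpenImmersion) hj inferInstance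
  obtain ⟨x', hx'⟩ : x ∈ Set.range hU.fromSpec := by rw [hU.range_fromSpec]; exact hxU
  obtain ⟨w, -, hw⟩ := Scheme.exists_preimage_of_isPullback hj x' z hx'
  let e := pullbackSpecIso A B K
  let j' := e.inv ≫ j
  obtain ⟨w', hw'⟩ : ∃ w', j' w' = z := ⟨e.hom w, by
    show j (e.inv (e.hom w)) = z
    rw [← Scheme.Hom.comp_apply e.hom, e.hom_inv_id]; exact hw⟩
  have hN : Pi1.IsNormalScheme (Spec (CommRingCat.of (B ⊗[A] K))) :=
    Groth.L05.NeronFinite.isNormalScheme_spec (normal_tensor (hn U V hU hV hUV))
  subst hw'
  let ee : (pullback h t).presheaf.stalk (j' w') ≃+* (Spec (CommRingCat.of (B ⊗[A] K))).presheaf.stalk w' :=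
    (asIso (j'.stalkMap w')).commRingCatIsoToRingEquiv
  haveI := (hN w').1
  haveI := (hN w').2
  exact ⟨ee.toMulEquiv.isDomain _, IsIntegrallyClosed.of_equiv ee.symm⟩

include hn in
theorem geometricallyReduced : GeometricallyReduced h := by
  refine ⟨geometrically_iff_of_isClosedUnderIsomorphisms.mpr fun K _ t => ?_⟩
  haveI : ∀ z : ↥(pullback h t), _root_.IsReduced ((pullback h t).presheaf.stalk z) := fun z => by
    haveI := (normal_fibres h hn K t z).1; infer_instance
  exact isReduced_of_isReduced_stalk _

end Groth.Agent.S1472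
namespace Groth.Agent.S1472

open AlgebraicGeometry CategoryTheory Limits in
/-- Let h : Y → S be of finite presentation and normal (affine-locally its ring maps are flat with
geometrically normal fibres), let s be a point of S and T an open of the fibre over s which is
geometrically irreducible over the residue field of s. Then there are an affine elementary étale
neighbourhood (S', s') of (S, s) and a quasi-compact open V of the base change of Y to S' such that
all fibres of V → S' are geometrically integral and the points of V over s' are exactly the points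
of the base change over s' whose image in Y lies in T. -/
theorem result {Y S : Scheme.{u}} (h : Y ⟶ S) [LocallyOfFinitePresentation h] [QuasiCompact h] [QuasiSeparated h]
    (hn : ∀ (U : Y.Opens) (V : S.Opens) (hU : IsAffineOpen U) (hV : IsAffineOpen V) (hUV : U ≤ h ⁻¹ᵁ V),
      letI := (h.appLE V U hUV).hom.toAlgebra
      EGA4.IsNormalHom Γ(S, V) Γ(Y, U))
    (s : S) (T : (h.fiber s).Opens) (hT : GeometricallyIrreducible (T.ι ≫ h.fiberToSpecResidueField s)) :
    ∃ (S' : Scheme.{u}) (g : S' ⟶ S) (s' : S'), IsAffine S' ∧ Hens2.IsEtaleNbhd g s' s ∧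
      ∃ V : (pullback h g).Opens, IsCompact (V : Set ↑(pullback h g)) ∧ GeometricallyIntegral (V.ι ≫ pullback.snd h g) ∧
        ∀ y' : ↑(pullback h g), pullback.snd h g y' = s' → (y' ∈ V ↔ pullback.fst h g y' ∈ (h.fiberι s) '' (T : Set ↑(h.fiber s))) := by
  haveI := flat h hn
  haveI := geometricallyReduced h hn
  have hTc : GeometricallyConnected (T.ι ≫ h.fiberToSpecResidueField s) := by
    refine ⟨geometrically_iff_of_isClosedUnderIsomorphisms.mpr fun K _ t => ?_⟩
    haveI := hT.geometrically_irreducibleSpace _ _ _ (IsPullback.of_hasPullback (T.ι ≫ h.fiberToSpecResidueField s) t)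
    infer_instance
  obtain ⟨S', g, s', hS', hnb, V, hVc, hVconn, hVmem⟩ := Groth.Agent.S1356.result h s T hTc
  haveI := hnb.etale
  refine ⟨S', g, s', hS', hnb, V, hVc, ?_, hVmem⟩
  let b := V.ι ≫ pullback.snd h g
  haveI : CompactSpace ↥(V : Scheme.{u}) := isCompact_iff_compactSpace.mp hVc
  haveI : QuasiCompact b := (quasiCompact_iff_compactSpace _).mpr inferInstance
  refine ⟨fun K _ t P fst snd hsq => ?_⟩
  haveI : ConnectedSpace ↥P := hVconn.geometrically_connectedSpace _ _ _ hsq
  suffices hI : IsIntegral (pullback b t) by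
    haveI : Nonempty ↥P := inferInstance
    exact isIntegral_of_isOpenImmersion hsq.isoPullback.hom
  haveI : ConnectedSpace ↥(pullback b t) := hVconn.geometrically_connectedSpace _ _ _ (IsPullback.of_hasPullback b t)
  haveI : LocallyOfFiniteType (pullback.snd b t) := MorphismProperty.pullback_snd _ _ inferInstance
  haveI : QuasiCompact (pullback.snd b t) := MorphismProperty.pullback_snd _ _ inferInstance
  haveI : IsLocallyNoetherian (pullback b t) := LocallyOfFiniteType.isLocallyNoetherian (pullback.snd b t)
  haveI : CompactSpace ↥(pullback b t) := QuasiCompact.compactSpace_of_compactSpace (pullback.snd b t)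
  haveI : IsNoetherian (pullback b t) := ⟨⟩
  let m : pullback b t ⟶ pullback h (t ≫ g) := (pullbackRightPullbackFstIso (pullback.snd h g) t V.ι).inv ≫
    pullback.snd V.ι _ ≫ (pullbackLeftPullbackSndIso h g t).hom
  haveI : IsOpenImmersion m := by
    haveI : IsOpenImmersion (pullback.snd V.ι (pullback.fst (pullback.snd h g) t)) := inferInstance
    show IsOpenImmersion (_ ≫ _ ≫ _); infer_instance
  refine Groth.L21.NormalTotal.isIntegral_of_connected fun z => ?_
  haveI := (normal_fibres h hn K (t ≫ g) (m z)).1
  exact (asIso (m.stalkMap z)).symm.commRingCatIsoToRingEquiv.toMulEquiv.isDomain _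


end Groth.Agent.S1472
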