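import Groth.Statements.S14727
import Mathlib.Tactic.LinearCombination
import Mathlib.RingTheory.AdicCompletion.Functoriality
import Mathlib.RingTheory.Localization.AtPrime.Basic
import Mathlib.RingTheory.Ideal.Quotient.Operations

set_option autoImplicit false
universe u
open ValPrufer

namespace Groth.Agent.S14727

/-- Let R be a semilocal ring (finitely many maximal ideals) and I an ideal of R of co-height zero, i.e.
every prime ideal containing I is maximal. Then the canonical map from the I-adic completion of R to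
the product, over the maximal ideals m ⊇ I, of the I-adic completions of the local rings R_m
(equivalently their IR_m-adic completions) is bijective; it is the continuous ring isomorphism of
the source, stated here as bijectivity of the canonical map of completed modules. -/
theorem result
    (R : Type u) [CommRing R] (hR : Finite (MaximalSpectrum R)) (I : Ideal R)
    (hI : ∀ (p : Ideal R), p.IsPrime → I ≤ p → p.IsMaximal) :
    Function.Bijective (LinearMap.pi (fun m : {m : MaximalSpectrum R // I ≤ m.asIdeal} =>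
      AdicCompletion.map I (Algebra.linearMap R (Localization.AtPrime m.1.asIdeal)))) := by
  classical
  haveI := hR
  let ι := {m : MaximalSpectrum R // I ≤ m.asIdeal}
  let P : ι → Ideal R := fun m => m.1.asIdeal
  haveI hP : ∀ m : ι, (P m).IsMaximal := fun m => m.1.isMaximal
  let A : ι → Type u := fun m => Localization.AtPrime (P m)
  let Q : ℕ → ι → Ideal R := fun n m => ((I ^ n).map (algebraMap R (A m))).comap (algebraMap R (A m))
  have hQ : ∀ n m x, x ∈ Q n m ↔ ∃ s ∉ P m, s * x ∈ I ^ n := fun n m x => by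
    rw [Ideal.mem_comap, IsLocalization.algebraMap_mem_map_algebraMap_iff (P m).primeCompl]
    exact Iff.rfl
  have htop : ∀ n (m : ι) (M : Ideal R), M.IsMaximal → Q n m ≤ M → M = P m := by
    intro n m M hM hle
    by_contra hne
    by_cases hIM : I ≤ M
    · haveI := Fintype.ofFinite ι
      have hz : ∀ k : ι, ∃ z, z ∉ P m ∧ (k ≠ m → z ∈ P k) := fun k => by
        by_cases hk : k = m
        · exact ⟨1, (P m).ne_top_iff_one.mp (hP m).ne_top, fun h => absurd hk h⟩
        · obtain ⟨z, hz, hz'⟩ := SetLike.not_le_iff_exists.mp fun h : P k ≤ P m => hk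
            (Subtype.ext (MaximalSpectrum.ext ((hP k).eq_of_le (hP m).ne_top h)))
          exact ⟨z, hz', fun _ => hz⟩
      choose z hzm hz using hz
      obtain ⟨t, htm, htM⟩ := SetLike.not_le_iff_exists.mp fun h : P m ≤ M => hne ((hP m).eq_of_le hM.ne_top h).symm
      have hrad : (∏ k, z k) * t ∈ I.radical := by
        rw [Ideal.radical_eq_sInf, Submodule.mem_sInf]
        rintro p ⟨hIp, hp⟩
        let k : ι := ⟨⟨p, hI p hp hIp⟩, hIp⟩
        by_cases hk : k = m
        · exact Ideal.mul_mem_left _ _ (hk ▸ htm : t ∈ P k)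
        · exact Ideal.mul_mem_right _ _ (Ideal.mem_of_dvd _ (Finset.dvd_prod_of_mem z (Finset.mem_univ k)) (hz k hk))
      obtain ⟨e, he⟩ := hrad
      have hmem : t ^ (e * n) ∈ Q n m := by
        refine (hQ n m _).mpr ⟨(∏ k, z k) ^ (e * n), fun h => ?_, ?_⟩
        · obtain ⟨k, -, hk⟩ := (Ideal.IsPrime.prod_mem_iff (p := P m)).mp ((hP m).isPrime.mem_of_pow_mem _ h)
          exact hzm k hk
        · rw [← mul_pow, pow_mul]
          exact Ideal.pow_mem_pow he n
      exact htM (hM.isPrime.mem_of_pow_mem _ (hle hmem))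
    · obtain ⟨i, hi, hiM⟩ := SetLike.not_le_iff_exists.mp hIM
      exact hiM (hM.isPrime.mem_of_pow_mem n (hle ((hQ n m _).mpr
        ⟨1, (P m).ne_top_iff_one.mp (hP m).ne_top, by rw [one_mul]; exact Ideal.pow_mem_pow hi n⟩)))
  have hsup : ∀ n (m : ι) (J : Ideal R), Q n m ≤ J → ¬ J ≤ P m → J = ⊤ := fun n m J hJ hJ' => by
    by_contra h
    obtain ⟨M, hM, hle⟩ := Ideal.exists_le_maximal J h
    exact hJ' (htop n m M hM (hJ.trans hle) ▸ hle)
  have hker : ∀ n (x : R), (∀ m, x ∈ Q n m) → x ∈ I ^ n := by
    intro n x hx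
    let C : Ideal R := (I ^ n).colon {x}
    suffices C = ⊤ by
      have h1 := Submodule.mem_colon_singleton.mp (this ▸ Submodule.mem_top : (1 : R) ∈ C)
      rwa [one_smul] at h1
    by_contra hC
    obtain ⟨M, hM, hle⟩ := Ideal.exists_le_maximal C hC
    by_cases hIM : I ≤ M
    · obtain ⟨s, hs, hsx⟩ := (hQ n ⟨⟨M, hM⟩, hIM⟩ x).mp (hx _)
      exact hs (hle (Submodule.mem_colon_singleton.mpr hsx))
    · obtain ⟨i, hi, hiM⟩ := SetLike.not_le_iff_exists.mp hIM
      exact hiM (hM.isPrime.mem_of_pow_mem n (hle (Submodule.mem_colon_singleton.mpr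
        (Ideal.mul_mem_right _ _ (Ideal.pow_mem_pow hi n)))))
  have hsurj : ∀ n (z : ∀ m : ι, A m), ∃ x : R, ∀ m, algebraMap R (A m) x - z m ∈ (I ^ n).map (algebraMap R (A m)) := by
    intro n z
    have hy : ∀ m, ∃ y : R, algebraMap R (A m) y - z m ∈ (I ^ n).map (algebraMap R (A m)) := fun m => by
      obtain ⟨⟨r, s⟩, hrs⟩ := IsLocalization.mk'_surjective (P m).primeCompl (z m)
      obtain ⟨q, hq, w, hw, hqw⟩ := Submodule.mem_sup.mp (show (1 : R) ∈ Q n m ⊔ Ideal.span {(s : R)} from
        (Ideal.eq_top_iff_one _).mp (hsup n m _ le_sup_left fun h => s.2 (h (le_sup_right (α := Ideal R) (Ideal.mem_span_singleton_self _)))))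
      obtain ⟨c, rfl⟩ := Ideal.mem_span_singleton'.mp hw
      refine ⟨r * c, ?_⟩
      have h : algebraMap R (A m) (r * c) - z m = - (z m * algebraMap R (A m) q) := by
        have hz : z m * algebraMap R (A m) s = algebraMap R (A m) r := by
          rw [← hrs]; exact IsLocalization.mk'_spec _ r s
        have h1 := congrArg (algebraMap R (A m)) hqw
        rw [map_add, map_mul, map_one] at h1
        rw [map_mul, ← hz]
        linear_combination z m * h1
      rw [h]
      exact neg_mem (Ideal.mul_mem_left _ _ hq)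
    choose y hy using hy
    obtain ⟨x, hx⟩ := Ideal.exists_forall_sub_mem_ideal (I := Q n) (fun i j hij => by
      refine Ideal.isCoprime_iff_sup_eq.mpr ?_
      refine hsup n i _ le_sup_left fun h => hij ?_
      exact Subtype.ext (MaximalSpectrum.ext (htop n j _ (hP i) (le_sup_right.trans h)))) y
    refine ⟨x, fun m => ?_⟩
    have h1 : algebraMap R (A m) (x - y m) ∈ (I ^ n).map (algebraMap R (A m)) := hx m
    rw [map_sub] at h1
    simpa using add_mem h1 (hy m)
  have hmem : ∀ n (m : ι) (v : A m), v ∈ (I ^ n • ⊤ : Submodule R (A m)) ↔ v ∈ (I ^ n).map (algebraMap R (A m)) :=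
    fun n m v => by rw [Ideal.smul_top_eq_map]; rfl
  let lev : ∀ n, (R ⧸ (I ^ n • ⊤ : Submodule R R)) →ₗ[R] ∀ m : ι, (A m) ⧸ (I ^ n • ⊤ : Submodule R (A m)) := fun n =>
    LinearMap.pi fun m => ((Algebra.linearMap R (A m)).reduceModIdeal (I ^ n)).restrictScalars R
  have hlev : ∀ n, Function.Bijective (lev n) := fun n => by
    constructor
    · rw [injective_iff_map_eq_zero]
      intro a ha
      obtain ⟨x, rfl⟩ := Submodule.Quotient.mk_surjective _ a
      refine (Submodule.Quotient.mk_eq_zero _).mpr ?_
      rw [Ideal.smul_eq_mul, Ideal.mul_top]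
      exact hker n x fun m => (hmem n m _).mp ((Submodule.Quotient.mk_eq_zero _).mp (congrFun ha m))
    · intro b
      choose z hz using fun m => Submodule.Quotient.mk_surjective _ (b m)
      obtain ⟨x, hx⟩ := hsurj n z
      refine ⟨Submodule.Quotient.mk x, funext fun m => ?_⟩
      rw [← hz m]
      exact (Submodule.Quotient.eq _).mpr ((hmem n m _).mpr (hx m))
  constructor
  · intro a b h
    refine AdicCompletion.ext fun n => (hlev n).1 (funext fun m => ?_)
    exact congrArg (fun c => c.val n) (congrFun h m)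
  · intro b
    choose a ha using fun n => (hlev n).2 fun m => (b m).val n
    refine ⟨⟨a, fun {p q} hpq => (hlev p).1 (funext fun m => ?_)⟩, funext fun m => AdicCompletion.ext fun n => congrFun (ha n) m⟩
    obtain ⟨x, hx⟩ := Submodule.Quotient.mk_surjective _ (a q)
    have h1 := congrFun (ha q) m
    rw [congrFun (ha p) m, ← (b m).2 hpq]
    change _ = _
    rw [← h1, ← hx]
    rfl

end Groth.Agent.S14727
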