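import Groth.Statements.S14729
import Groth.Agent.L05.Prufer.Subfield

set_option autoImplicit false
universe u
open ValPrufer

namespace Groth.Agent.S14729

/-- Let R be a semilocal Prüfer domain (an integral domain with finitely many maximal ideals whose
localisations at primes are valuation rings) with fraction field L, and let K ⊆ L be a subfield.
Then R ∩ K is again a semilocal Prüfer domain and its fraction field is K, i.e. every element of K
is a quotient of two elements of R ∩ K. -/
theorem result
    (R L : Type u) [CommRing R] [IsDomain R] [Field L] [Algebra R L] [IsFractionRing R L]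
    (hR : ∀ (p : Ideal R) [p.IsPrime], ValuationRing (Localization.AtPrime p))
    (hfin : Finite (MaximalSpectrum R)) (K : Subfield L) :
    (∀ (p : Ideal ↥((algebraMap R L).range ⊓ K.toSubring)) [p.IsPrime],
        ValuationRing (Localization.AtPrime p)) ∧
      Finite (MaximalSpectrum ↥((algebraMap R L).range ⊓ K.toSubring)) ∧
      ∀ x : L, x ∈ K → ∃ a b : L, a ∈ (algebraMap R L).range ⊓ K.toSubring ∧
        b ∈ (algebraMap R L).range ⊓ K.toSubring ∧ b ≠ 0 ∧ x = a / b := by
  obtain ⟨V, hV⟩ := Groth.L05.Prufer.exists_valuationSubrings R L hR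
  have hS : ∀ x : L, x ∈ ((algebraMap R L).range ⊓ K.toSubring).subtype.range ↔ x ∈ K ∧ ∀ i, x ∈ V i := by
    intro x
    rw [Subring.range_subtype, Subring.mem_inf, ← hV, and_comm]
    rfl
  haveI := hfin
  refine ⟨fun p _ => Groth.L05.Prufer.valuationRing_localization _ Subtype.val_injective V K hS p,
    Groth.L05.Prufer.finite_maximalSpectrum _ Subtype.val_injective V K hS, fun x hx => ?_⟩
  obtain ⟨a, b, ha, hb, hb0, hx'⟩ := Groth.L05.Prufer.fraction_of_mem _ V K hS x hx
  rw [Subring.range_subtype] at ha hb
  exact ⟨a, b, ha, hb, hb0, hx'⟩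

end Groth.Agent.S14729
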