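import Groth.Statements.S14730
import Groth.Agent.L05.Prufer.Subfield

set_option autoImplicit false
universe u
open ValPrufer

namespace Groth.Agent.S14730

/-- Let R be a semilocal Prüfer domain (an integral domain with finitely many maximal ideals whose
localisations at primes are valuation rings). Then R is the increasing union of subrings that are
semilocal Prüfer domains of finite Krull dimension; equivalently, every finite subset of R is
contained in such a subring. -/
theorem result
    (R : Type u) [CommRing R] [IsDomain R]
    (hR : ∀ (p : Ideal R) [p.IsPrime], ValuationRing (Localization.AtPrime p))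
    (hfin : Finite (MaximalSpectrum R)) (s : Finset R) :
    ∃ R' : Subring R, (↑s : Set R) ⊆ R' ∧
      (∀ (p : Ideal R') [p.IsPrime], ValuationRing (Localization.AtPrime p)) ∧
      Finite (MaximalSpectrum R') ∧ ringKrullDim R' < ⊤ := by
  classical
  let L := FractionRing R
  obtain ⟨V, hV⟩ := Groth.L05.Prufer.exists_valuationSubrings R L hR
  let t : Finset L := s.image (algebraMap R L)
  let R' : Subring R := (Subfield.closure (t : Set L)).toSubring.comap (algebraMap R L)
  have hinj : Function.Injective ((algebraMap R L).comp R'.subtype) :=
    (IsFractionRing.injective R L).comp Subtype.val_injective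
  have hS : ∀ x : L, x ∈ ((algebraMap R L).comp R'.subtype).range ↔
      x ∈ Subfield.closure (t : Set L) ∧ ∀ i, x ∈ V i := by
    intro x
    rw [← hV]
    exact ⟨fun ⟨a, ha⟩ => ⟨ha ▸ a.2, a.1, ha⟩, fun ⟨hx, a, ha⟩ => ⟨⟨a, by subst ha; exact hx⟩, ha⟩⟩
  haveI := hfin
  exact ⟨R', fun x hx => Subfield.subset_closure (Finset.mem_coe.mpr (Finset.mem_image_of_mem _ hx)),
    fun p _ => Groth.L05.Prufer.valuationRing_localization _ hinj V _ hS p,
    Groth.L05.Prufer.finite_maximalSpectrum _ hinj V _ hS,
    Groth.L05.Prufer.ringKrullDim_lt_top_of_closure _ hinj V t hS⟩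

end Groth.Agent.S14730
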