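import Groth.Statements.S14731
import Groth.Agent.L05.SmModel.Basic
import Mathlib.RingTheory.Etale.Basic
import Mathlib.Algebra.Algebra.Rat
import Mathlib.FieldTheory.Perfect

set_option autoImplicit false
universe u
open ValPrufer

namespace Groth.Agent.S14731

/-- In characteristic zero, every field K generated as a field by a finite set is the fraction field of
a subring A of K of finite type and smooth over the integers. -/
theorem result
    (K : Type u) [Field K] [CharZero K] (s : Finset K)
    (hs : Subfield.closure (↑s : Set K) = ⊤) :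
    ∃ A : Subring K, Algebra.FiniteType ℤ A ∧ Algebra.Smooth ℤ A ∧ IsFractionRing A K := by
  haveI := Groth.L05.SmModel.essFiniteType ℚ K s hs
  haveI : Algebra.FormallySmooth ℤ ℚ := Algebra.FormallySmooth.of_isLocalization (nonZeroDivisors ℤ)
  haveI : Algebra.FormallySmooth ℤ K := Algebra.FormallySmooth.comp ℤ ℚ K
  obtain ⟨A, h1, h2, h3⟩ := Groth.L05.SmModel.exists_smooth_model ℤ K s hs
  let e : A ≃ₐ[ℤ] A.toSubring := (RingEquiv.refl A : A ≃+* A.toSubring).toIntAlgEquiv
  exact ⟨A.toSubring, Algebra.FiniteType.equiv h1 e, Algebra.Smooth.of_equiv e, h3⟩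

end Groth.Agent.S14731
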