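import Groth.Statements.S14733
import Groth.Agent.L06.ValuationFibreDim
-- import your own Groth.Agent.* helpers here

set_option autoImplicit false
open CategoryTheory AlgebraicGeometry
universe u
open ValPrufer

namespace Groth.Agent.S14733

/-- Let R be a Prüfer domain (an integral domain whose localisations at primes are valuation rings), X
an irreducible scheme and f : X ⟶ Spec R a dominant morphism of finite type. If the fibre of f over
a point γ of Spec R is nonempty, then it has the same dimension as the fibre over the generic point. -/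
theorem result
    (R : Type u) [CommRing R] [IsDomain R]
    (hR : ∀ (p : Ideal R) [p.IsPrime], ValuationRing (Localization.AtPrime p))
    (X : Scheme.{u}) [IrreducibleSpace X] (f : X ⟶ Spec (CommRingCat.of R))
    [LocallyOfFiniteType f] [QuasiCompact f] [IsDominant f] (γ : Spec (CommRingCat.of R))
    (h0 : Nonempty ↥(f.fiber γ)) :
    topologicalKrullDim ↥(f.fiber γ) =
      topologicalKrullDim ↥(f.fiber (genericPoint (Spec (CommRingCat.of R)))) := by
  let p := γ.asIdeal
  haveI := hR p
  let A := Localization.AtPrime p
  let g : Spec (CommRingCat.of A) ⟶ Spec (CommRingCat.of R) := Spec.map (CommRingCat.ofHom (algebraMap R A))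
  let f' : Limits.pullback f g ⟶ Spec (CommRingCat.of A) := Limits.pullback.snd f g
  let q : Limits.pullback f g ⟶ X := Limits.pullback.fst f g
  haveI : IsPreimmersion g := IsPreimmersion.of_isLocalization p.primeCompl
  haveI : IrreducibleSpace ↥(Spec (CommRingCat.of R)) := inferInstanceAs (IrreducibleSpace (PrimeSpectrum R))
  haveI : IrreducibleSpace ↥(Spec (CommRingCat.of A)) := inferInstanceAs (IrreducibleSpace (PrimeSpectrum A))
  obtain ⟨hgen, -⟩ := Groth.L07.DimToolkit.generic_data f
  have hmem : ∀ r : ↥(Spec (CommRingCat.of R)), r.asIdeal ≤ p → r ∈ Set.range g := fun r hr => by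
    show r ∈ Set.range (PrimeSpectrum.comap (algebraMap R A))
    rw [PrimeSpectrum.localization_comap_range A p.primeCompl]
    show Disjoint (p.primeCompl : Set R) (r.asIdeal : Set R)
    exact Set.disjoint_left.mpr fun x hx hx' => hx (hr hx')
  have hbot : (genericPoint ↥(Spec (CommRingCat.of R))).asIdeal ≤ p :=
    (PrimeSpectrum.le_iff_specializes _ γ).mpr ((genericPoint_spec _).specializes trivial)
  obtain ⟨η, hη⟩ : genericPoint ↥X ∈ Set.range q := by
    rw [Scheme.Pullback.range_fst]
    show f (genericPoint ↥X) ∈ Set.range g
    rw [hgen]; exact hmem _ hbot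
  haveI : IrreducibleSpace ↥(Limits.pullback f g) := by
    rw [irreducibleSpace_def]
    have : closure ({η} : Set ↥(Limits.pullback f g)) = Set.univ := Set.eq_univ_of_forall fun z =>
      (q.isEmbedding.isInducing.specializes_iff.mp (hη.symm ▸ (genericPoint_spec X).specializes trivial)).mem_closure
    rw [Set.top_eq_univ, ← this]; exact isIrreducible_singleton.closure
  have hw : ∀ z, g (f' z) = f (q z) := fun z => by
    rw [← Scheme.Hom.comp_apply, ← Scheme.Hom.comp_apply, Limits.pullback.condition]
  have key : ∀ a : ↥(Spec (CommRingCat.of A)), Nonempty (↥(f'.fiber a) ≃ₜ ↥(f.fiber (g a))) := fun a => by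
    have himg : q '' (f' ⁻¹' {a}) = f ⁻¹' {g a} := by
      ext x
      refine ⟨fun ⟨z, hz, hzx⟩ => ?_, fun hx => ?_⟩
      · show f x = g a
        rw [← hzx, ← hw, show f' z = a from hz]
      · obtain ⟨z, rfl⟩ : x ∈ Set.range q := by rw [Scheme.Pullback.range_fst]; exact ⟨a, hx.symm⟩
        exact ⟨z, g.isEmbedding.injective ((hw z).trans hx), rfl⟩
    exact ⟨(f'.fiberHomeo a).trans (((q.isEmbedding.homeomorphImage _).trans (.setCongr himg)).trans (f.fiberHomeo (g a)).symm)⟩
  haveI : IsDominant f' := by
    refine ⟨?_⟩
    have h1 : f' η = genericPoint ↥(Spec (CommRingCat.of A)) := by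
      refine g.isEmbedding.injective ?_
      rw [hw, hη, hgen]
      refine ((genericPoint_spec _).eq ?_)
      have hd : DenseRange g := by
        show DenseRange (PrimeSpectrum.comap (algebraMap R A))
        rw [PrimeSpectrum.denseRange_comap_iff_ker_le_nilRadical]
        rw [(RingHom.injective_iff_ker_eq_bot _).mp (IsLocalization.injective A p.primeCompl_le_nonZeroDivisors)]
        exact bot_le
      show closure {g (genericPoint ↥(Spec (CommRingCat.of A)))} = Set.univ
      exact ((genericPoint_spec ↥(Spec (CommRingCat.of A))).image g.continuous).def.trans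
        (by rw [Set.image_univ]; exact hd.closure_range)
    show Dense (Set.range f')
    rw [dense_iff_closure_eq, Set.eq_univ_iff_forall]
    exact fun a => closure_mono (Set.singleton_subset_iff.mpr (h1 ▸ ⟨η, rfl⟩))
      ((genericPoint_spec ↥(Spec (CommRingCat.of A))).def.ge trivial)
  obtain ⟨b, hb⟩ := hmem γ le_rfl
  obtain ⟨e1⟩ := key b
  obtain ⟨e2⟩ := key (genericPoint _)
  haveI : LocallyOfFiniteType f' := inferInstance
  have h := Groth.L06.ValuationFibreDim.dim_closed_fibre_eq f' b
    ⟨e1.symm (hb.symm ▸ h0.some)⟩
  rw [IsHomeomorph.topologicalKrullDim_eq _ e1.isHomeomorph, IsHomeomorph.topologicalKrullDim_eq _ e2.isHomeomorph, hb] at h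
  have hgg : g (genericPoint ↥(Spec (CommRingCat.of A))) = genericPoint ↥(Spec (CommRingCat.of R)) := by
    refine ((genericPoint_spec _).eq ?_).symm
    have hd : DenseRange g := by
      show DenseRange (PrimeSpectrum.comap (algebraMap R A))
      rw [PrimeSpectrum.denseRange_comap_iff_ker_le_nilRadical]
      rw [(RingHom.injective_iff_ker_eq_bot _).mp (IsLocalization.injective A p.primeCompl_le_nonZeroDivisors)]
      exact bot_le
    exact ((genericPoint_spec ↥(Spec (CommRingCat.of A))).image g.continuous).def.trans
      (by rw [Set.image_univ]; exact hd.closure_range)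
  rwa [hgg] at h

end Groth.Agent.S14733
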