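import Groth.Statements.S14736
import Groth.Agent.L05.Prufer.Vanishing

set_option autoImplicit false
universe u
open CategoryTheory AlgebraicGeometry
open ValPrufer

namespace Groth.Agent.S14736

/-- Let R be a semilocal Prüfer domain (an integral domain with finitely many maximal ideals whose
localisations at primes are valuation rings) of finite Krull dimension, m ≥ 1, and X a closed
subscheme of projective (m-1)-space over R which is flat over R; put O_X(1) for the pullback of O(1)
and F(n) = F ⊗ O_X(1)^{⊗ n}. Then for every finitely presented O_X-module F (on such X these are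
exactly the coherent modules) there is an integer N with H^q(X, F(n)) = 0 for all n ≥ N and all q ≥
1. -/
theorem result
    (R : Type u) [CommRing R] [IsDomain R]
    (hR : ∀ (p : Ideal R) [p.IsPrime], ValuationRing (Localization.AtPrime p))
    (hfin : Finite (MaximalSpectrum R)) (hdim : ringKrullDim R < ⊤)
    (m : ℕ) (hm : 1 ≤ m) (X : Scheme.{u}) (ι : X ⟶ CohB1.ProjSpace (m - 1) R) [IsClosedImmersion ι]
    [Flat (ι ≫ CohB1.ProjSpace.toSpec (m - 1) R)]
    (F : X.Modules) (hF : CohB1.IsFP F) :
    ∃ N : ℕ, ∀ n : ℕ, N ≤ n → ∀ q : ℕ, 1 ≤ q →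
      Subsingleton (Coh.HH X (CohB1.tensorMod F (CohB1.tensorPow
        ((Scheme.Modules.pullback ι).obj (Twist.twistProjSpace (m - 1) R 1)) n)) q) := by
  obtain ⟨N, hN⟩ := Groth.L05.Prufer.exists_vanishing_closedSubscheme ι ⟨hR, hfin⟩ F hF
  exact ⟨N, fun n hn q hq => hN n hn q hq⟩

end Groth.Agent.S14736
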