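import Groth.Statements.S14737
import Groth.Agent.L05.TorsorGlue.Main
import Groth.Agent.L05.TorsionTensor
import Groth.Agent.L01.Regular
import Mathlib.AlgebraicGeometry.Morphisms.Smooth
import Mathlib.RingTheory.AdicCompletion.AsTensorProduct
import Mathlib.RingTheory.Flat.Stability

set_option autoImplicit false
universe u
open CategoryTheory MonoidalCategory CartesianMonoidalCategory MonObj AlgebraicGeometry
open ValPrufer
open scoped TensorProduct
open GrpObj

namespace Groth.Agent.S14737

/-- Let R be a regular local ring with fraction field K, r ∈ R, R̂ the r-adic completion of R, and G a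
reductive R-group scheme. Assume the Grothendieck–Serre statement for R and G: every G-torsor for
the fppf topology over Spec R that has a K-point has a section. Then G(R̂[1/r]) = G(R̂) · G(R[1/r]):
every point g of G over R̂[1/r] is the product, in the group of R̂[1/r]-points, of the restriction
of an R̂-point g₂ and the restriction of an R[1/r]-point g₁; the product is written through the pair
morphism h = (g₂, g₁) into G ×_R G followed by the multiplication of G. (The published statement is
the implication from the Grothendieck–Serre conjecture; only its instance for this R and this G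
enters the proof, so that instance is the hypothesis here.) -/
theorem result (R : Type u) [CommRing R] [IsRegularLocalRing R] (r : R)
    (G : Over (Spec (CommRingCat.of R))) [GrpObj G] (hG : Red.IsReductive G)
    (hGS : ∀ (X : Over (Spec (CommRingCat.of R))) (a : AlgGrp.Action G X),
      NonAbH1.IsTorsorFor Scheme.fppfPrecoverage a →
      NonAbH1.HasSectionOver X (Spec.map (CommRingCat.ofHom (algebraMap R (FractionRing R)))) →
      NonAbH1.HasSectionOver X (𝟙 (Spec (CommRingCat.of R))))
    (g : Spec (CommRingCat.of (Localization.Away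
            (algebraMap R (AdicCompletion (Ideal.span {r}) R) r))) ⟶ G.left)
    (hg : g ≫ G.hom = Spec.map (CommRingCat.ofHom (algebraMap R (Localization.Away
            (algebraMap R (AdicCompletion (Ideal.span {r}) R) r))))) :
    ∃ (g₁ : Spec (CommRingCat.of (Localization.Away r)) ⟶ G.left)
      (g₂ : Spec (CommRingCat.of (AdicCompletion (Ideal.span {r}) R)) ⟶ G.left)
      (h : Spec (CommRingCat.of (Localization.Away
            (algebraMap R (AdicCompletion (Ideal.span {r}) R) r))) ⟶ (G ⊗ G).left),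
      g₁ ≫ G.hom = Spec.map (CommRingCat.ofHom (algebraMap R (Localization.Away r))) ∧
      g₂ ≫ G.hom = Spec.map (CommRingCat.ofHom (algebraMap R (AdicCompletion (Ideal.span {r}) R))) ∧
      h ≫ (fst G G).left = Spec.map (CommRingCat.ofHom (algebraMap (AdicCompletion (Ideal.span {r}) R)
                (Localization.Away (algebraMap R (AdicCompletion (Ideal.span {r}) R) r)))) ≫ g₂ ∧
      h ≫ (snd G G).left = Spec.map (CommRingCat.ofHom (Localization.awayMap
                (algebraMap R (AdicCompletion (Ideal.span {r}) R)) r)) ≫ g₁ ∧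
      g = h ≫ (μ[G]).left := by
  classical
  haveI : IsDomain R := Groth.L01.isDomain_of_regular R
  set R' := AdicCompletion (Ideal.span {r}) R
  let S' := Groth.L05.TorsorGlue.sp R R'
  let S₁ := Groth.L05.TorsorGlue.sp R (Localization.Away r)
  let S'' := Groth.L05.TorsorGlue.sp R (Localization.Away (algebraMap R R' r))
  let gO : S'' ⟶ G := Over.homMk g hg
  let j₂ : S'' ⟶ S' := Groth.L05.TorsorGlue.ov' (f := r)
  let j₁ : S'' ⟶ S₁ := Groth.L05.TorsorGlue.ov₁ (R' := R') (f := r)
  suffices ∃ (g₁O : S₁ ⟶ G) (g₂O : S' ⟶ G), gO = (j₂ ≫ g₂O) * (j₁ ≫ g₁O) by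
    obtain ⟨g₁O, g₂O, hgO⟩ := this
    refine ⟨g₁O.left, g₂O.left, (lift (j₂ ≫ g₂O) (j₁ ≫ g₁O)).left, Over.w g₁O, Over.w g₂O, ?_, ?_, ?_⟩
    · rw [← Over.comp_left, lift_fst]; rfl
    · rw [← Over.comp_left, lift_snd]; rfl
    · rw [← Over.comp_left]
      have h2 : (j₂ ≫ g₂O) * (j₁ ≫ g₁O) = lift (j₂ ≫ g₂O) (j₁ ≫ g₁O) ≫ μ[G] := Hom.mul_def _ _
      exact congrArg CommaMorphism.left (hgO.trans h2)
  by_cases hr : r = 0
  · haveI : Subsingleton (Localization.Away (algebraMap R R' r)) :=
      IsLocalization.subsingleton (M := Submonoid.powers (algebraMap R R' r)) (by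
        rw [show algebraMap R R' r = 0 from (congrArg _ hr).trans (map_zero _)]; exact Submonoid.mem_powers _)
    haveI : IsEmpty S''.left := inferInstanceAs (IsEmpty (PrimeSpectrum (Localization.Away (algebraMap R R' r))))
    refine ⟨1, 1, ?_⟩
    ext : 1
    exact isInitialOfIsEmpty.hom_ext _ _
  have hnzd : r ∈ nonZeroDivisors R := mem_nonZeroDivisors_of_ne_zero hr
  have hfg : (Ideal.span {r} : Ideal R).FG := ⟨{r}, by simp⟩
  haveI : Module.Flat R R' := AdicCompletion.flat_of_isNoetherian _
  have hq : EtGlue.QuotPowBijective R R' r := fun n hn => by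
    have h := Groth.L05.quotientMap_adicCompletion_bijective hfg n
    have key : ∀ J : Ideal R, J = Ideal.span {r} ^ n → Function.Bijective
        (Ideal.quotientMap (J.map (algebraMap R R')) (algebraMap R R') Ideal.le_comap_map) := by
      rintro J rfl
      exact h
    exact key _ (Ideal.span_singleton_pow r n).symm
  have hpair : EtGlue.IsGlueingPair R R' r := by
    refine (Groth.L05.Glue.isGlueingPair_iff hq).mpr ⟨fun x hx _ => ?_, fun x' hx' => ?_⟩
    · obtain ⟨n, hn⟩ := hx
      exact (smul_eq_zero.mp hn).resolve_left (pow_ne_zero n hr)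
    · obtain ⟨n, hn⟩ := hx'
      refine ⟨0, ⟨0, by simp⟩, ?_⟩
      have hinj : Function.Injective fun z : R' => r ^ n • z := by
        have h1 := Module.Flat.rTensor_preserves_injective_linearMap (M := R') (LinearMap.lsmul R R (r ^ n))
          (LinearMap.ker_eq_bot.mp (LinearMap.ker_eq_bot'.mpr fun y hy =>
            (smul_eq_zero.mp hy).resolve_left (pow_ne_zero n hr)))
        intro a b hab
        refine (TensorProduct.lid R R').symm.injective (h1 ?_)
        simp only [TensorProduct.lid_symm_apply, LinearMap.rTensor_tmul, LinearMap.lsmul_apply,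
          TensorProduct.smul_tmul]
        exact congrArg ((1 : R) ⊗ₜ[R] ·) hab
      rw [map_zero]
      exact (hinj (by simpa using hn : r ^ n • x' = r ^ n • (0 : R'))).symm
  haveI : IsAffineHom G.hom := hG.1
  haveI : Smooth G.hom := hG.2.1
  haveI : IsAffine G.left := isAffine_of_isAffineHom G.hom
  obtain ⟨A, _, _, ⟨eG⟩⟩ := Groth.L05.TorsorGlue.exists_iso_sp G
  haveI : IsIso eG.hom.left := inferInstanceAs (IsIso ((Over.forget _).map eG.hom))
  have hA : Spec.map (CommRingCat.ofHom (algebraMap R A)) = eG.hom.left ≫ G.hom := (Over.w eG.hom).symm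
  haveI : Module.Flat R A := by
    rw [← RingHom.flat_algebraMap_iff]
    refine (HasRingHomProperty.Spec_iff (P := @Flat) (φ := CommRingCat.ofHom (algebraMap R A))).mp ?_
    rw [hA]; infer_instance
  haveI : Algebra.FinitePresentation R A := by
    rw [← RingHom.finitePresentation_algebraMap]
    refine (HasRingHomProperty.Spec_iff (P := @LocallyOfFinitePresentation)
      (φ := CommRingCat.ofHom (algebraMap R A))).mp ?_
    rw [hA]; infer_instance
  obtain ⟨B, _, _, _, _, ψ', ψ₁, _, _, hcompat⟩ := Groth.L05.TorsorGlue.exists_charts hpair eG gO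
  haveI : IsAffine (Groth.L05.TorsorGlue.sp R B).left := inferInstanceAs (IsAffine (Spec (CommRingCat.of B)))
  obtain ⟨a, hps, hφ⟩ := Groth.L05.TorsorGlue.exists_action gO ψ' ψ₁ hcompat
    (Groth.L05.TorsorGlue.desc_sp hpair B)
    (Groth.L05.TorsorGlue.desc_of_iso (Groth.L05.TorsorGlue.spI A B ≪≫ whiskerRightIso eG _)
      (Groth.L05.TorsorGlue.desc_sp hpair _))
    (Groth.L05.TorsorGlue.desc_of_iso (Groth.L05.TorsorGlue.spI B B) (Groth.L05.TorsorGlue.desc_sp hpair _))
    (Groth.L05.TorsorGlue.desc_of_iso (Groth.L05.TorsorGlue.spI (A ⊗[R] A) B ≪≫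
        whiskerRightIso (Groth.L05.TorsorGlue.spI A A ≪≫ tensorIso eG eG) _)
      (Groth.L05.TorsorGlue.desc_sp hpair _))
  let X : Over (Spec (CommRingCat.of R)) := Groth.L05.TorsorGlue.sp R B
  let x' : S' ⟶ X := lift (𝟙 S') 1 ≫ ψ'
  let x₁ : S₁ ⟶ X := lift (𝟙 S₁) 1 ≫ ψ₁
  have htor : NonAbH1.IsTorsorFor Scheme.fppfPrecoverage a := by
    refine ⟨hps, Presieve.singleton X.hom, (Scheme.singleton_mem_precoverage_iff (P := @Flat ⊓ @LocallyOfFinitePresentation) X.hom).mpr ⟨fun p => ?_, ?_⟩, ?_⟩
    · rcases Groth.L05.TorsorGlue.exists_comap_eq hq p with ⟨q, hq'⟩ | ⟨q, hq'⟩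
      · exact ⟨x'.left q, by rw [← Scheme.Hom.comp_apply, Over.w x']; exact hq'⟩
      · exact ⟨x₁.left q, by rw [← Scheme.Hom.comp_apply, Over.w x₁]; exact hq'⟩
    · exact ⟨(HasRingHomProperty.Spec_iff (P := @Flat) (φ := CommRingCat.ofHom (algebraMap R B))).mpr
          (RingHom.flat_algebraMap_iff.mpr ‹_›),
        (HasRingHomProperty.Spec_iff (P := @LocallyOfFinitePresentation)
          (φ := CommRingCat.ofHom (algebraMap R B))).mpr (RingHom.finitePresentation_algebraMap.mpr ‹_›)⟩
    · rintro Z f ⟨⟩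
      exact ⟨𝟙 _, Category.id_comp _⟩
  have hK : IsUnit (algebraMap R (FractionRing R) r) := IsLocalization.map_units (FractionRing R) ⟨r, hnzd⟩
  let κ : Localization.Away r →ₐ[R] FractionRing R :=
    { IsLocalization.Away.lift r hK with
      commutes' := fun x => IsLocalization.Away.lift_eq r hK x }
  obtain ⟨σ, hσ⟩ := hGS X a htor
    ⟨(Groth.L05.TorsorGlue.spMap κ ≫ x₁).left, Over.w (Groth.L05.TorsorGlue.spMap κ ≫ x₁)⟩
  let σO : 𝟙_ (Over (Spec (CommRingCat.of R))) ⟶ X := Over.homMk σ hσ
  let φ' := Groth.L05.TorsorGlue.chartInv ψ'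
  let φ₁ := Groth.L05.TorsorGlue.chartInv ψ₁
  refine ⟨lift (𝟙 S₁) (toUnit S₁ ≫ σO) ≫ φ₁, (lift (𝟙 S') (toUnit S' ≫ σO) ≫ φ')⁻¹, ?_⟩
  have hu₁ : j₁ ≫ toUnit S₁ ≫ σO = toUnit S'' ≫ σO := by
    rw [← Category.assoc]; congr 1; exact toUnit_unique _ _
  have hu₂ : j₂ ≫ toUnit S' ≫ σO = toUnit S'' ≫ σO := by
    rw [← Category.assoc]; congr 1; exact toUnit_unique _ _
  have h3 := hφ S'' (𝟙 _) (toUnit S'' ≫ σO)
  rw [Category.id_comp, Category.id_comp] at h3
  rw [GrpObj.comp_inv, comp_lift_assoc, comp_lift_assoc, Category.comp_id, Category.comp_id, hu₁, hu₂]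
  change lift (Groth.L05.TorsorGlue.ov₁ (R' := R') (f := r)) (toUnit S'' ≫ σO) ≫ φ₁ = _ at h3
  rw [h3, Category.id_comp, inv_mul_cancel_left]

end Groth.Agent.S14737
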