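import Groth.Statements.S14738
import Groth.Agent.L05.Prufer.Basics

set_option autoImplicit false
universe u
open ValPrufer

namespace Groth.Agent.S14738

/-- Let R be a semilocal Prüfer domain (an integral domain with finitely many maximal ideals whose
localisations at primes are valuation rings) of finite Krull dimension, and m a maximal ideal of R.
Then there is a ∈ R with V(a) = {m}, i.e. m is the only prime ideal containing a, and there is b ∉ m
such that R[1/b] is the localisation R_m (every element outside m becomes invertible after inverting
b); consequently the spectra of the local rings R_m form a Zariski open covering of Spec R. (The
published remark assumes positive Krull dimension to construct a; for R a field the assertions hold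
with a = 0 and b = 1. It also takes b to be the product of the elements a_n chosen in the same way
for the other maximal ideals n; that choice fails as soon as a non-maximal prime lies in another
maximal ideal but not in m, e.g. for the intersection of two independent rank-two valuation rings of
a field, so this row asserts only that some such b exists.) -/
theorem result
    (R : Type u) [CommRing R] [IsDomain R]
    (hR : ∀ (p : Ideal R) [p.IsPrime], ValuationRing (Localization.AtPrime p))
    (hfin : Finite (MaximalSpectrum R)) (hdim : ringKrullDim R < ⊤)
    (m : Ideal R) [m.IsMaximal] :
    (∃ a : R, ∀ (p : Ideal R), p.IsPrime → (a ∈ p ↔ p = m)) ∧
      ∃ b : R, b ∉ m ∧ IsLocalization.AtPrime (Localization.Away b) m := by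
  haveI := Groth.L05.Prufer.finite_primeSpectrum hR hfin hdim
  exact Groth.L05.Prufer.exists_generic_and_localization m

end Groth.Agent.S14738
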