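import Groth.Statements.S14739
import Groth.Agent.L05.Prufer.Basics

set_option autoImplicit false
universe u
open ValPrufer

namespace Groth.Agent.S14739

/-- Let R be a semilocal Prüfer domain (an integral domain with finitely many maximal ideals whose
localisations at primes are valuation rings) of finite Krull dimension and S an R-algebra of finite
type. Then Spec S is a Noetherian topological space, and so is Spec T for every localisation T of S.
(The published remark is for a scheme of finite type over R and the spectrum of any
semilocalisation; the affine case with arbitrary localisations is stated.) -/
theorem result
    (R : Type u) [CommRing R] [IsDomain R]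
    (hR : ∀ (p : Ideal R) [p.IsPrime], ValuationRing (Localization.AtPrime p))
    (hfin : Finite (MaximalSpectrum R)) (hdim : ringKrullDim R < ⊤)
    (S : Type u) [CommRing S] [Algebra R S] [Algebra.FiniteType R S]
    (M : Submonoid S) (T : Type u) [CommRing T] [Algebra S T] [IsLocalization M T] :
    TopologicalSpace.NoetherianSpace (PrimeSpectrum S) ∧
      TopologicalSpace.NoetherianSpace (PrimeSpectrum T) := by
  haveI := Groth.L05.Prufer.noetherianSpace_of_finiteType hR hfin hdim S
  exact ⟨inferInstance, (PrimeSpectrum.localization_comap_isEmbedding T M).isInducing.noetherianSpace⟩

end Groth.Agent.S14739
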