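import Groth.Statements.S1474
import Groth.Agent.L06.GeomFibreLocal


set_option autoImplicit false
set_option maxSynthPendingDepth 3
set_option linter.style.haveILetI false
universe u
open FlatMor

namespace Groth.Agent.S1474

open AlgebraicGeometry CategoryTheory Limits in
/-- (2) ⇔ (3): let f : X → Y have locally Noetherian fibres. Then the ring maps O_Y(V) → O_X(U) are
regular for all affine opens U ⊆ f⁻¹(V) if and only if f is flat and every fibre X_y is
geometrically regular over κ(y), i.e. every affine open of X_y has Noetherian, geometrically regular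
coordinate ring over κ(y). -/
theorem result {X Y : Scheme.{u}} (f : X ⟶ Y) (hN : ∀ y : Y, IsLocallyNoetherian (f.fiber y)) :
    (∀ (U : X.Opens) (V : Y.Opens) (hU : IsAffineOpen U) (hV : IsAffineOpen V) (hUV : U ≤ f ⁻¹ᵁ V),
        letI := (f.appLE V U hUV).hom.toAlgebra
        CAlg.IsRegularHom Γ(Y, V) Γ(X, U)) ↔
      Flat f ∧ ∀ (y : Y) (W : (f.fiber y).Opens), IsAffineOpen W →
        letI : Algebra ↑(Y.residueField y) ↑Γ(f.fiber y, W) := ((Scheme.ΓSpecIso (Y.residueField y)).inv ≫ (f.fiberToSpecResidueField y).appTop ≫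
          (f.fiber y).presheaf.map (homOfLE le_top).op).hom.toAlgebra
        IsNoetherianRing ↑Γ(f.fiber y, W) ∧ CAlg.IsGeometricallyRegular ↑(Y.residueField y) ↑Γ(f.fiber y, W) := by
  open Groth.L06.GeomFibreLocal in
  haveI := hN
  have hring : ∀ (U : X.Opens) (V : Y.Opens) (hU : IsAffineOpen U) (hV : IsAffineOpen V) (hUV : U ≤ f ⁻¹ᵁ V)
      (p : Ideal Γ(Y, V)) [p.IsPrime],
      letI := (f.appLE V U hUV).hom.toAlgebra
      IsNoetherianRing (p.Fiber Γ(X, U)) ∧ (GeoRing Reg p.ResidueField (p.Fiber Γ(X, U)) ↔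
        CAlg.IsGeometricallyRegular p.ResidueField (p.Fiber Γ(X, U))) := by
    intro U V hU hV hUV p _
    letI := (f.appLE V U hUV).hom.toAlgebra
    haveI := isNoetherianRing_fiber f hV hU hUV p
    exact ⟨inferInstance, geoRing_reg_iff _ _⟩
  refine Iff.trans ⟨fun h U V hU hV e => ⟨(h U V hU hV e).1,
      fun p _ => (hring U V hU hV e p).2.mpr ((h U V hU hV e).2 p).2⟩,
    fun h U V hU hV e => ⟨(h U V hU hV e).1,
      fun p _ => ⟨(hring U V hU hV e p).1, (hring U V hU hV e p).2.mp ((h U V hU hV e).2 p)⟩⟩⟩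
    ((hom_iff f adm_reg).trans ?_)
  refine and_congr Iff.rfl (forall_congr' fun y => ?_)
  have hw : ∀ (W : (f.fiber y).Opens) (hW : IsAffineOpen W),
      Spec.map ((Scheme.ΓSpecIso (Y.residueField y)).inv ≫ (f.fiberToSpecResidueField y).appTop ≫
        (f.fiber y).presheaf.map (homOfLE le_top).op) = hW.fromSpec ≫ f.fiberToSpecResidueField y := by
    intro W hW
    rw [Spec.map_comp, Spec.map_comp, Category.assoc, ← hW.fromSpec_toSpecΓ, Category.assoc,
      ← Scheme.toSpecΓ_naturality_assoc]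
    congr 1
    rw [← Category.comp_id (f.fiberToSpecResidueField y), Category.assoc]
    congr 1
    rw [Category.id_comp, toSpecΓ_SpecMap_ΓSpecIso_inv]
  refine ⟨fun h W hW => ?_, fun h => geoSch_of_cover _ adm_reg fun z => ?_⟩
  · letI : Algebra ↑(Y.residueField y) ↑Γ(f.fiber y, W) := ((Scheme.ΓSpecIso (Y.residueField y)).inv ≫ (f.fiberToSpecResidueField y).appTop ≫
          (f.fiber y).presheaf.map (homOfLE le_top).op).hom.toAlgebra
    haveI := isNoetherianRing_chart hW.fromSpec
    exact ⟨inferInstance, (geoRing_reg_iff _ _).mp (geoRing_of_chart _ adm_reg h hW.fromSpec (hw W hW))⟩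
  · obtain ⟨W, hW, hzW, -⟩ := exists_isAffineOpen_mem_and_subset (x := z) (U := ⊤) trivial
    letI : Algebra ↑(Y.residueField y) ↑Γ(f.fiber y, W) := ((Scheme.ΓSpecIso (Y.residueField y)).inv ≫ (f.fiberToSpecResidueField y).appTop ≫
          (f.fiber y).presheaf.map (homOfLE le_top).op).hom.toAlgebra
    haveI := (h W hW).1
    exact ⟨_, inferInstance, inferInstance, hW.fromSpec, inferInstance,
      by rw [hW.range_fromSpec]; exact hzW, hw W hW, (geoRing_reg_iff _ _).mpr (h W hW).2⟩

end Groth.Agent.S1474
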