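import Groth.Statements.S14743
import Groth.Agent.L19.AlgGrpBasic.Descent

set_option autoImplicit false
set_option backward.isDefEq.respectTransparency.types false
set_option backward.isDefEq.respectTransparency false
set_option linter.style.haveILetI false
universe u
open CategoryTheory MonoidalCategory CartesianMonoidalCategory MonObj GrpObj AlgebraicGeometry
open AlgGrp

namespace Groth.Agent.S14743
open Groth.L19.AlgGrpBasic

/-- Over an algebraically closed field k let L, G, B be commutative k-group schemes, i : L → G and π : G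
→ B homomorphisms with i the kernel of π, and suppose that every k-morphism B × B → L is constant
(factors through a k-point of L). If π admits a section which is a morphism of k-schemes, then it
admits a section which is a homomorphism, so the extension splits. (The published statement is for
algebraic groups, that is, of finite type over k; finiteness plays no role and is not assumed here.) -/
theorem result (k : Type u) [Field k] [IsAlgClosed k]
    (L G B : Over (Spec (CommRingCat.of k))) [GrpObj L] [GrpObj G] [GrpObj B]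
    [IsCommMonObj L] [IsCommMonObj G] [IsCommMonObj B]
    (i : L ⟶ G) [IsMonHom i] (π : G ⟶ B) [IsMonHom π] (hker : AlgGrp.IsKernel i π)
    (hconst : ∀ f : B ⊗ B ⟶ L, ∃ l : 𝟙_ (Over (Spec (CommRingCat.of k))) ⟶ L, f = toUnit (B ⊗ B) ≫ l)
    (s : B ⟶ G) (hs : s ≫ π = 𝟙 B) :
    ∃ s' : B ⟶ G, IsMonHom s' ∧ s' ≫ π = 𝟙 B := by
  haveI : Mono i := ⟨fun a b e => hker.hom_ext e (toUnit_unique _ _)⟩
  let s0 : B ⟶ G := s * (toUnit B ≫ η[B] ≫ s)⁻¹
  have hs0 : s0 ≫ π = 𝟙 B := by
    simp only [s0, hom_mul_comp, hom_inv_comp, Category.assoc, hs, Category.comp_id]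
    rw [MonObj.one_eq_one, MonObj.comp_one, inv_one, _root_.mul_one]
  have h1 : η[B] ≫ s0 = η[G] := by
    simp only [s0, MonObj.comp_mul, GrpObj.comp_inv, ← Category.assoc, toUnit_unique (η[B] ≫ toUnit B) (𝟙 _),
      Category.id_comp, mul_inv_cancel]
    rw [MonObj.one_eq_one]
  let d : B ⊗ B ⟶ G := ((fst B B * snd B B) ≫ s0) * ((fst B B ≫ s0) * (snd B B ≫ s0))⁻¹
  obtain ⟨l, hl⟩ := exists_of_isKernel hker d (by
    simp only [d, hom_mul_comp, hom_inv_comp, Category.assoc, hs0, Category.comp_id, mul_inv_cancel])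
  obtain ⟨l0, rfl⟩ := hconst l
  have he : lift η[B] η[B] ≫ d = 1 := by
    simp only [d, MonObj.comp_mul, GrpObj.comp_inv, ← Category.assoc, lift_fst, lift_snd]
    rw [show η[B] * η[B] = η[B] by simp [MonObj.one_eq_one], h1]
    simp [MonObj.one_eq_one]
  have hl0 : l0 ≫ i = 1 := by
    rw [← he, ← hl, ← Category.assoc, ← Category.assoc, toUnit_unique (lift η[B] η[B] ≫ toUnit _) (𝟙 _),
      Category.id_comp]
  have hd : d = 1 := by rw [← hl, Category.assoc, hl0, MonObj.comp_one]
  refine ⟨s0, ⟨h1, ?_⟩, hs0⟩
  rw [MonObj.mul_eq_mul, MonObj.mul_eq_mul, MonObj.comp_mul (s0 ⊗ₘ s0), tensorHom_fst, tensorHom_snd]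
  exact mul_inv_eq_one.mp hd

end Groth.Agent.S14743
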