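import Groth.Statements.S14746
import Groth.Agent.L08.Borel.Dominant
import Groth.Agent.L08.Borel.Factor

set_option autoImplicit false
set_option backward.isDefEq.respectTransparency.types false
set_option linter.style.haveILetI false
universe u
open CategoryTheory MonoidalCategory CartesianMonoidalCategory MonObj GrpObj AlgebraicGeometry CategoryTheory.Limits
open AlgGrp

namespace Groth.Agent.S14746

open Groth.L08.Borel in
/-- An endomorphism of an irreducible scheme with one finite fibre of rational points is dominant. -/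
theorem exists_open_range {k : Type u} [Field k] [IsAlgClosed k] {H : Over (Spec (CommRingCat.of k))}
    [LocallyOfFiniteType H.hom] [QuasiCompact H.hom] [IrreducibleSpace ↥H.left] (f : H ⟶ H)
    (x₀ : 𝟙_ (Over (Spec (CommRingCat.of k))) ⟶ H)
    (hfin : Set.Finite {x : 𝟙_ (Over (Spec (CommRingCat.of k))) ⟶ H | x ≫ f = x₀ ≫ f}) :
    ∃ U : Set ↥H.left, IsOpen U ∧ U.Nonempty ∧ U ⊆ Set.range f.left := by
  classical
  haveI : IsLocallyNoetherian H.left := LocallyOfFiniteType.isLocallyNoetherian H.hom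
  letI : H.left.Over (Spec (CommRingCat.of k)) := ⟨H.hom⟩
  haveI : LocallyOfFiniteType (H.left ↘ Spec (CommRingCat.of k)) := ‹LocallyOfFiniteType H.hom›
  obtain ⟨e, he⟩ : ∃ e : H.left, closure ({e} : Set H.left) = Set.univ :=
    ⟨genericPoint _, (genericPoint_spec _).def⟩
  obtain ⟨z, cξ, aξ, cz, a0, -, -, hzf, h1, h2, h3, -, hle⟩ :=
    Groth.L22.FibreBound.exists_fibre_ge k f.left (Over.w f) (ξ := e) (x := ptOf x₀)
      (specializes_iff_mem_closure.2 (by rw [he]; trivial))
  -- the fibre consists of finitely many rational points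
  have hS : f.left ⁻¹' {ptOf (x₀ ≫ f)} ⊆ ptOf '' {x : 𝟙_ (Over (Spec (CommRingCat.of k))) ⟶ H | x ≫ f = x₀ ≫ f} := by
    refine subset_of_pts ((isClosed_pt _).preimage f.left.continuous) ?_ fun x hx => ⟨x, ?_, rfl⟩
    · rw [← Set.biUnion_of_singleton (ptOf '' _)]
      exact (hfin.image _).isClosed_biUnion fun p hp => by
        obtain ⟨x, -, rfl⟩ := hp
        exact isClosed_pt x
    · exact pt_ext (X := H) hx
  obtain ⟨x, -, hxz⟩ := hS (show f.left z ∈ ({ptOf (x₀ ≫ f)} : Set H.left) from hzf)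
  have hcl : closure ({z} : Set H.left) = {z} := by
    rw [← hxz]; exact (isClosed_pt x).closure_eq
  have hcz : cz = 0 := by
    have h : topologicalKrullDim (closure ({z} : Set H.left)) ≤ 0 := by
      haveI : Subsingleton ↥(closure ({z} : Set H.left)) := by
        rw [hcl]; infer_instance
      exact topologicalKrullDim_zero_of_discreteTopology _
    rw [h3] at h
    exact_mod_cast Nat.le_zero.1 (by exact_mod_cast h)
  have hgen : e ∈ Set.range f.left := by
    refine ⟨e, ?_⟩
    by_contra hne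
    have hs : e ⤳ f.left e := specializes_iff_mem_closure.2 (by rw [he]; trivial)
    have hns : ¬ f.left e ⤳ e := fun h => hne (h.antisymm hs).eq
    have h5 := Groth.L22.FibreIrr.dim_lt_of_specializes hs hns
    rw [h2, h1] at h5
    have : aξ + 1 ≤ cξ := by exact_mod_cast h5
    omega
  have hr : closure (Set.range f.left) = Set.univ := by
    refine Set.eq_univ_of_univ_subset ?_
    rw [← he]
    exact closure_mono (Set.singleton_subset_iff.2 hgen)
  haveI : CompactSpace H.left := QuasiCompact.compactSpace_of_compactSpace H.hom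
  haveI : IsNoetherian H.left := ⟨⟩
  obtain ⟨U, hU, hUd, hUE⟩ := Groth.L19.AlgGrpBasic.exists_open_dense_of_constructible
    (Groth.L19.AlgGrpBasic.isConstructible_range (G := H) (X := H) f)
  rw [hr] at hUE hUd
  refine ⟨U, hU, ?_, fun y hy => hUE ⟨hy, trivial⟩⟩
  by_contra hne
  have h6 : ptOf x₀ ∈ closure (U ∩ Set.univ) := hUd trivial
  rw [Set.not_nonempty_iff_eq_empty.1 hne, Set.empty_inter, closure_empty] at h6
  exact h6

/-- Over an algebraically closed field k let G be a k-group scheme of finite type, i : H → G a smooth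
connected affine closed subgroup scheme, and X = G/H the quotient with its G-action, base point o
and orbit map G → X. Let σ be an endomorphism of G restricting to a surjective endomorphism τ of H
and compatible with an endomorphism φ of X under the orbit map, and suppose σ has only finitely many
fixed k-points. Then the number of fixed k-points of σ equals the number of fixed k-points of τ
times the number of fixed k-points of φ. (The published statement allows any subgroup H and any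
restriction τ; for the square roots of unity inside the multiplicative group and the cube map the
count fails, and the published proof applies the surjectivity of the Lang map h ↦ h⁻¹τ(h) of H, so H
is taken smooth, connected and affine and τ surjective here.) -/
theorem result (k : Type u) [Field k] [IsAlgClosed k]
    (G H : Over (Spec (CommRingCat.of k))) [GrpObj G] [GrpObj H] [QuasiCompact G.hom] [LocallyOfFiniteType G.hom]
    (i : H ⟶ G) [IsMonHom i] [IsClosedImmersion i.left] [Smooth H.hom] [ConnectedSpace ↥H.left] [IsAffine H.left]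
    (X : Over (Spec (CommRingCat.of k))) (a : AlgGrp.Action G X) (o : 𝟙_ (Over (Spec (CommRingCat.of k))) ⟶ X)
    (hX : AGF.IsQuotient i X a o)
    (σ : G ⟶ G) [IsMonHom σ] (τ : H ⟶ H) [IsMonHom τ] (hτ : τ ≫ i = i ≫ σ) (hτs : Surjective τ.left)
    (φ : X ⟶ X) (hφ : a.orbitMap o ≫ φ = σ ≫ a.orbitMap o)
    (hfin : Finite {g : 𝟙_ (Over (Spec (CommRingCat.of k))) ⟶ G // g ≫ σ = g}) :
    Nat.card {g : 𝟙_ (Over (Spec (CommRingCat.of k))) ⟶ G // g ≫ σ = g} =
      Nat.card {h : 𝟙_ (Over (Spec (CommRingCat.of k))) ⟶ H // h ≫ τ = h} *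
        Nat.card {x : 𝟙_ (Over (Spec (CommRingCat.of k))) ⟶ X // x ≫ φ = x} := by
  classical
  haveI : LocallyOfFiniteType H.hom := inferInstance
  haveI : QuasiCompact H.hom := (by rw [← Over.w i]; infer_instance)
  haveI : IsLocallyNoetherian H.left := LocallyOfFiniteType.isLocallyNoetherian H.hom
  haveI : IrreducibleSpace ↥H.left := Groth.L25.Component.irreducibleSpace H
  haveI : Mono i := Groth.L08.mono_of_closedImmersion i
  let U1 := 𝟙_ (Over (Spec (CommRingCat.of k)))
  let π := a.orbitMap o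
  haveI := hX.1
  have hτi : ∀ h : U1 ⟶ H, (h ≫ i) ≫ σ = (h ≫ τ) ≫ i := fun h => by
    rw [Category.assoc, ← hτ, Category.assoc]
  -- twisting is surjective
  have lang : ∀ (g : U1 ⟶ G) (c : U1 ⟶ H), c ≫ i = g⁻¹ * (g ≫ σ) → ∃ z : U1 ⟶ H, c * (z ≫ τ) = z := by
    intro g c hc
    let F : (U1 ⟶ H) → (H ⟶ H) := fun c => (𝟙 H)⁻¹ * (toUnit H ≫ c) * τ
    have hF : ∀ c x : U1 ⟶ H, x ≫ F c = x⁻¹ * c * (x ≫ τ) := fun c x => by
      simp only [F, MonObj.comp_mul, GrpObj.comp_inv, Category.comp_id, ← Category.assoc,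
        toUnit_unique (x ≫ toUnit H) (𝟙 _), Category.id_comp]
    have open_of : ∀ (g : U1 ⟶ G) (c : U1 ⟶ H), c ≫ i = g⁻¹ * (g ≫ σ) →
        ∃ U : Set ↥H.left, IsOpen U ∧ U.Nonempty ∧ U ⊆ Set.range (F c).left := by
      intro g c hc
      refine exists_open_range (F c) 1 ?_
      haveI : Finite ↑{g : U1 ⟶ G | g ≫ σ = g} := hfin
      refine Set.Finite.of_finite_image (f := fun x : U1 ⟶ H => g * (x ≫ i) * g⁻¹)
        ((Set.toFinite {g : U1 ⟶ G | g ≫ σ = g}).subset ?_) (fun x _ y _ h => (cancel_mono i).1 (by simpa using h))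
      rintro _ ⟨x, hx, rfl⟩
      have hx' : x⁻¹ * c * (x ≫ τ) = c := by
        have := hx
        rw [Set.mem_setOf_eq, hF, hF, inv_one, _root_.one_mul, MonObj.one_comp, _root_.mul_one] at this
        exact this
      have hx2 : (x ≫ τ) = c⁻¹ * x * c := by
        rw [_root_.mul_assoc, eq_inv_mul_iff_mul_eq]
        calc c * (x ≫ τ) = x * (x⁻¹ * c * (x ≫ τ)) := by group
          _ = x * c := by rw [hx']
      show (g * (x ≫ i) * g⁻¹) ≫ σ = g * (x ≫ i) * g⁻¹
      have hgσ : g ≫ σ = g * (c ≫ i) := by rw [hc, mul_inv_cancel_left]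
      rw [MonObj.mul_comp, MonObj.mul_comp, GrpObj.inv_comp, hτi, hx2, hgσ, MonObj.mul_comp, MonObj.mul_comp,
        GrpObj.inv_comp]
      group
    obtain ⟨V₁, hV₁o, hV₁n, hV₁⟩ := open_of 1 1 (by rw [MonObj.one_comp, MonObj.one_comp, inv_one, _root_.one_mul])
    obtain ⟨V₂, hV₂o, hV₂n, hV₂⟩ := open_of g c hc
    obtain ⟨w, hw⟩ := Groth.L08.Borel.exists_pt_mem (X := H) (O := V₁ ∩ V₂) (hV₁o.inter hV₂o).isLocallyClosed
      (nonempty_preirreducible_inter hV₁o hV₂o hV₁n hV₂n)
    obtain ⟨x, hx⟩ := Groth.L08.Borel.exists_pt_lift (F 1) w (hV₁ hw.1)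
    obtain ⟨y, hy⟩ := Groth.L08.Borel.exists_pt_lift (F c) w (hV₂ hw.2)
    rw [hF] at hx hy
    refine ⟨y * x⁻¹, ?_⟩
    rw [MonObj.mul_comp, GrpObj.inv_comp]
    calc c * ((y ≫ τ) * (x ≫ τ)⁻¹) = y * (y⁻¹ * c * (y ≫ τ)) * (x ≫ τ)⁻¹ := by group
      _ = y * (x⁻¹ * 1 * (x ≫ τ)) * (x ≫ τ)⁻¹ := by rw [hy, hx]
      _ = y * x⁻¹ := by group
  -- fixed points of the quotient lift
  have hs : ∀ x : {x : U1 ⟶ X // x ≫ φ = x}, ∃ g : {g : U1 ⟶ G // g ≫ σ = g}, g.1 ≫ π = x.1 := by
    rintro ⟨x, hx⟩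
    obtain ⟨g, hg⟩ := Groth.L08.Borel.exists_point_eq hX x
    obtain ⟨c, hc⟩ := (Groth.L08.Borel.orbitMap_eq_iff hX g (g ≫ σ)).1 (by
      rw [Category.assoc, ← hφ, ← Category.assoc, hg, hx])
    obtain ⟨z, hz⟩ := lang g c hc
    refine ⟨⟨g * (z ≫ i), ?_⟩, ?_⟩
    · rw [MonObj.mul_comp, hτi, show g ≫ σ = g * (c ≫ i) by rw [hc, mul_inv_cancel_left], _root_.mul_assoc,
        ← MonObj.mul_comp, hz]
    · refine Eq.trans ?_ hg
      exact ((Groth.L08.Borel.orbitMap_eq_iff hX g (g * (z ≫ i))).2 ⟨z, by rw [inv_mul_cancel_left]⟩).symm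
  choose s hs using hs
  rw [← Nat.card_prod]
  symm
  refine Nat.card_congr (Equiv.ofBijective (fun p => ⟨(s p.2).1 * (p.1.1 ≫ i), by
    rw [MonObj.mul_comp, (s p.2).2, hτi, p.1.2]⟩) ⟨?_, ?_⟩)
  · rintro ⟨⟨h, hh⟩, x⟩ ⟨⟨h', hh'⟩, x'⟩ e
    have e1 := congrArg Subtype.val e
    simp only at e1
    have hxx : x = x' := by
      refine Subtype.ext ?_
      rw [← hs x, ← hs x']
      refine (Groth.L08.Borel.orbitMap_eq_iff hX _ _).2 ⟨h * h'⁻¹, ?_⟩
      rw [MonObj.mul_comp, GrpObj.inv_comp, eq_inv_mul_iff_mul_eq, ← _root_.mul_assoc, e1, mul_inv_cancel_right]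
    subst hxx
    obtain rfl : h = h' := (cancel_mono i).1 (mul_left_cancel e1)
    rfl
  · rintro ⟨g, hg⟩
    let x : {x : U1 ⟶ X // x ≫ φ = x} := ⟨g ≫ π, by rw [Category.assoc, hφ, ← Category.assoc, hg]⟩
    obtain ⟨h, hh⟩ := (Groth.L08.Borel.orbitMap_eq_iff hX (s x).1 g).1 (hs x)
    refine ⟨(⟨h, (cancel_mono i).1 ?_⟩, x), Subtype.ext ?_⟩
    · rw [← hτi, hh, MonObj.mul_comp, GrpObj.inv_comp, (s x).2, hg]
    · show (s x).1 * (h ≫ i) = g
      rw [hh, mul_inv_cancel_left]
end Groth.Agent.S14746
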