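import Groth.Statements.S1475
import Groth.Agent.L06.GeomFibreLocal
import Groth.Agent.S1405


set_option autoImplicit false
set_option maxSynthPendingDepth 3
set_option linter.style.haveILetI false
universe u
open FlatMor

namespace Groth.Agent.S1475

open AlgebraicGeometry CategoryTheory Limits in
/-- Let Y' → Y be flat, locally of finite presentation and surjective and f' the base change of f : X →
Y. Then f has locally Noetherian fibres and is normal (affine-locally: flat ring maps with
geometrically normal fibres) if and only if the same holds for f'. -/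
theorem result {X Y X' Y' : Scheme.{u}} (f : X ⟶ Y) (f' : X' ⟶ Y') (g' : X' ⟶ X) (g : Y' ⟶ Y) [Flat g] [LocallyOfFinitePresentation g] [Surjective g]
    (hc : IsPullback g' f' f g) :
    ((∀ y : Y, IsLocallyNoetherian (f.fiber y)) ∧ (∀ (U : X.Opens) (V : Y.Opens) (hU : IsAffineOpen U) (hV : IsAffineOpen V) (hUV : U ≤ f ⁻¹ᵁ V),
        letI := (f.appLE V U hUV).hom.toAlgebra
        EGA4.IsNormalHom Γ(Y, V) Γ(X, U))) ↔
      ((∀ y' : Y', IsLocallyNoetherian (f'.fiber y')) ∧ (∀ (U : X'.Opens) (V : Y'.Opens) (hU : IsAffineOpen U) (hV : IsAffineOpen V) (hUV : U ≤ f' ⁻¹ᵁ V),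
        letI := (f'.appLE V U hUV).hom.toAlgebra
        EGA4.IsNormalHom Γ(Y', V) Γ(X', U))) := by
  open Groth.L06.GeomFibreLocal in
  have hN : (∀ y : Y, IsLocallyNoetherian (f.fiber y)) ↔ ∀ y' : Y', IsLocallyNoetherian (f'.fiber y') :=
    Groth.Agent.S1405.result f f' g' g hc
  exact ⟨fun h => ⟨hN.mp h.1, (hom_iff_baseChange f adm_nor f' g' g hc h.1 (hN.mp h.1)).mp h.2⟩,
    fun h => ⟨hN.mpr h.1, (hom_iff_baseChange f adm_nor f' g' g hc (hN.mpr h.1) h.1).mpr h.2⟩⟩

end Groth.Agent.S1475
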