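import Groth.Statements.S14751
import Groth.Agent.L08.Centre.Rigid
import Groth.Agent.L08.FibreTranslate
import Groth.Agent.L23.SourceRegular
import Mathlib.AlgebraicGeometry.ZariskisMainTheorem

set_option autoImplicit false
set_option backward.isDefEq.respectTransparency.types false
set_option linter.style.haveILetI false
universe u
open CategoryTheory CategoryTheory.Limits MonoidalCategory CartesianMonoidalCategory MonObj GrpObj AlgebraicGeometry
open AlgGrp

namespace Groth.Agent.S14751

/-- Over an algebraically closed field k let G be a group variety (smooth connected k-group scheme of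
finite type), i : N → G an affine closed subgroup scheme which is the kernel of a flat surjective
homomorphism π : G → Q, and j : A → G an abelian subvariety (a smooth connected proper closed
subgroup scheme) with A · N = G, that is, the multiplication A × N → G is surjective. Then the
multiplication A × N → G is a homomorphism and an isogeny (surjective with finite kernel), and so is
the composite A → G → Q. (In the published statement N is the largest connected affine normal
subgroup variety and Q = G/N the Albanese quotient; only the listed properties are used.) -/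
theorem result (k : Type u) [Field k] [IsAlgClosed k]
    (G N A Q : Over (Spec (CommRingCat.of k))) [GrpObj G] [GrpObj N] [GrpObj A] [GrpObj Q]
    [Smooth G.hom] [QuasiCompact G.hom] [ConnectedSpace ↥G.left]
    (i : N ⟶ G) [IsMonHom i] [IsClosedImmersion i.left] [IsAffine N.left]
    (π : G ⟶ Q) [IsMonHom π] [Flat π.left] [Surjective π.left] (hker : AlgGrp.IsKernel i π)
    (j : A ⟶ G) [IsMonHom j] [IsClosedImmersion j.left] [Smooth A.hom] [ConnectedSpace ↥A.left] [IsProper A.hom]
    (hsurj : Surjective ((j ⊗ₘ i) ≫ μ[G]).left) :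
    IsMonHom ((j ⊗ₘ i) ≫ μ[G]) ∧ SGA7.IsIsogenyOver ((j ⊗ₘ i) ≫ μ[G]) ∧ SGA7.IsIsogenyOver (j ≫ π) := by
  haveI : IsSeparated G.hom := Groth.Agent.AV.isSeparated_of_grpObj G
  haveI : IsSeparated Q.hom := Groth.Agent.AV.isSeparated_of_grpObj Q
  haveI : IsReduced A.left := Groth.L23.isReduced_of_smooth A.hom
  have hA : Function.Surjective A.hom.appTop.hom := (Groth.L08.FibreTranslate.bijective_appTop A η[A]).2
  have hc := Groth.L08.Centre.central hA j
  have comm : ∀ {T : Over (Spec (CommRingCat.of k))} (a : T ⟶ A) (g : T ⟶ G), (a ≫ j) * g = g * (a ≫ j) := by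
    intro T a g
    have := congrArg (lift a g ≫ ·) hc
    simpa only [MonObj.comp_mul, lift_fst_assoc, lift_snd] using this
  have mulHom : ∀ {X Y : Over (Spec (CommRingCat.of k))} [MonObj X] [MonObj Y] (φ : X ⟶ Y) [IsMonHom φ],
      μ[X] ≫ φ = (fst X X ≫ φ) * (snd X X ≫ φ) := by
    intro X Y _ _ φ _
    rw [IsMonHom.mul_hom, Hom.mul_def, ← lift_fst_comp_snd_comp]
  let m := (j ⊗ₘ i) ≫ μ[G]
  have hm : m = (fst A N ≫ j) * (snd A N ≫ i) := by
    show (j ⊗ₘ i) ≫ μ[G] = _
    rw [Hom.mul_def, ← lift_fst_comp_snd_comp]
  haveI : Mono j.left := inferInstance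
  haveI : Mono j := (Over.forget _).mono_of_mono_map (inferInstanceAs (Mono j.left))
  haveI : IsClosedImmersion (η[G] : 𝟙_ _ ⟶ G).left := by
    haveI : IsSeparated G.hom := Groth.Agent.AV.isSeparated_of_grpObj G
    have h : IsClosedImmersion ((η[G] : 𝟙_ _ ⟶ G).left ≫ G.hom) := by
      rw [Over.w]
      exact inferInstanceAs (IsClosedImmersion (𝟙 (Spec (CommRingCat.of k))))
    exact IsClosedImmersion.of_comp _ G.hom
  haveI : IsClosedImmersion (η[Q] : 𝟙_ _ ⟶ Q).left := by
    have h : IsClosedImmersion ((η[Q] : 𝟙_ _ ⟶ Q).left ≫ Q.hom) := by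
      rw [Over.w]
      exact inferInstanceAs (IsClosedImmersion (𝟙 (Spec (CommRingCat.of k))))
    exact IsClosedImmersion.of_comp _ Q.hom
  refine ⟨?_, ⟨hsurj, ?_⟩, ?_, ?_⟩
  · show IsMonHom m
    refine ⟨?_, ?_⟩
    · rw [hm, MonObj.comp_mul, ← Category.assoc, ← Category.assoc, IsMonHom.one_hom, IsMonHom.one_hom,
        IsMonHom.one_hom, IsMonHom.one_hom]
      show _ = (η[G] : 𝟙_ _ ⟶ G)
      rw [← Category.id_comp η[G], ← toUnit_unique (toUnit _) (𝟙 _), ← Hom.one_def, _root_.one_mul]
    · rw [hm, MonObj.comp_mul, ← Category.assoc, ← Category.assoc, mulHom (fst A N), mulHom (snd A N),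
        MonObj.mul_comp, MonObj.mul_comp, ← lift_fst_comp_snd_comp, ← Hom.mul_def, MonObj.comp_mul,
        MonObj.comp_mul]
      simp only [Category.assoc]
      have h := comm (snd (A ⊗ N) (A ⊗ N) ≫ fst A N) (fst (A ⊗ N) (A ⊗ N) ≫ snd A N ≫ i)
      simp only [Category.assoc] at h
      rw [_root_.mul_assoc, ← _root_.mul_assoc (snd _ _ ≫ fst A N ≫ j), h]
      simp only [_root_.mul_assoc]
  · intro K l hK
    let a := l ≫ fst A N
    let b := l ≫ snd A N
    haveI hl : IsClosedImmersion l.left :=
      MorphismProperty.of_isPullback (hK.map (Over.forget _)).flip ‹IsClosedImmersion (η[G] : 𝟙_ _ ⟶ G).left›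
    haveI : Mono l := (Over.forget _).mono_of_mono_map (inferInstanceAs (Mono l.left))
    have hab : a ≫ j = (b ≫ i)⁻¹ := by
      refine eq_inv_of_mul_eq_one_left ?_
      have h : l ≫ m = toUnit K ≫ η[G] := hK.w
      rw [hm, MonObj.comp_mul, ← Category.assoc, ← Category.assoc, ← Hom.one_def] at h
      exact h
    haveI : Mono b := ⟨fun t t' h => by
      rw [← cancel_mono l]
      refine CartesianMonoidalCategory.hom_ext _ _ ?_ ?_
      · rw [Category.assoc, Category.assoc, ← cancel_mono j, Category.assoc, Category.assoc]
        show t ≫ a ≫ j = t' ≫ a ≫ j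
        rw [hab, GrpObj.comp_inv, GrpObj.comp_inv, ← Category.assoc t b, ← Category.assoc t' b, h]
      · rw [Category.assoc, Category.assoc]
        exact h⟩
    haveI : Mono b.left := inferInstanceAs (Mono ((Over.forget _).map b))
    haveI : IsProper (snd A N).left := inferInstanceAs (IsProper (pullback.snd A.hom N.hom))
    haveI : IsProper b.left := inferInstanceAs (IsProper (l.left ≫ (snd A N).left))
    haveI : IsClosedImmersion b.left := (IsClosedImmersion.iff_isProper_and_mono _).2 ⟨inferInstance, inferInstance⟩
    haveI : IsAffine K.left := isAffine_of_isAffineHom b.left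
    haveI : IsIso (GrpObj.inv (X := G)) := inferInstance
    haveI : IsIso (GrpObj.inv (X := G)).left := inferInstanceAs (IsIso ((Over.forget _).map (GrpObj.inv (X := G))))
    haveI : IsClosedImmersion (a.left ≫ j.left) := by
      rw [← Over.comp_left, hab, Hom.inv_def, Over.comp_left, Over.comp_left]
      infer_instance
    haveI : IsClosedImmersion a.left := IsClosedImmersion.of_comp _ j.left
    haveI : IsProper K.hom := by
      rw [← Over.w a]
      infer_instance
    exact IsFinite.iff_isProper_and_isAffineHom.2 ⟨inferInstance, inferInstance⟩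
  · have h : m ≫ π = fst A N ≫ j ≫ π := by
      rw [hm, MonObj.mul_comp, Category.assoc, Category.assoc, hker.w, ← Category.assoc (snd A N), comp_toUnit,
        ← Hom.one_def, _root_.mul_one]
    haveI : Surjective m.left := hsurj
    haveI : Surjective ((fst A N).left ≫ (j ≫ π).left) := by
      rw [← Over.comp_left, ← h, Over.comp_left]
      infer_instance
    exact Surjective.of_comp (fst A N).left (j ≫ π).left
  · intro K l hK
    haveI hl : IsClosedImmersion l.left :=
      MorphismProperty.of_isPullback (hK.map (Over.forget _)).flip ‹IsClosedImmersion (η[Q] : 𝟙_ _ ⟶ Q).left›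
    let r := hker.lift (l ≫ j) (toUnit K) (by rw [Category.assoc]; exact hK.w)
    haveI : IsClosedImmersion (r.left ≫ i.left) := by
      rw [← Over.comp_left, hker.lift_fst, Over.comp_left]
      infer_instance
    haveI : IsClosedImmersion r.left := IsClosedImmersion.of_comp _ i.left
    haveI : IsAffine K.left := isAffine_of_isAffineHom r.left
    haveI : IsProper K.hom := by
      rw [← Over.w l]
      infer_instance
    exact IsFinite.iff_isProper_and_isAffineHom.2 ⟨inferInstance, inferInstance⟩

end Groth.Agent.S14751
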