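import Groth.Statements.S14757
import Groth.Agent.L08.SmallNorm.GaffFun
-- import your own Groth.Agent.* helpers here

set_option autoImplicit false
set_option backward.isDefEq.respectTransparency.types false
set_option linter.style.haveILetI false
universe u
open CategoryTheory CategoryTheory.Limits MonoidalCategory CartesianMonoidalCategory MonObj GrpObj AlgebraicGeometry
open AlgGrp

namespace Groth.Agent.S14757

/-- Let k be a perfect field and G a group variety over k (smooth connected k-group scheme of finite
type); let i : N → G be its largest smooth connected affine normal closed subgroup scheme G_lin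
(every other such subgroup factors through it) and j : M → G its largest anti-affine closed subgroup
scheme G_ant (the global functions of M are the constants k, and every closed subgroup scheme with
that property factors through it). Then the multiplication G_ant × G_lin → G is a homomorphism and
is surjective. (The published statement says it is a quotient map; surjectivity is what the
published proof establishes, faithful flatness then being automatic for a surjective homomorphism of
algebraic groups.) -/
theorem result (k : Type u) [Field k] [PerfectField k]
    (G : Over (Spec (CommRingCat.of k))) [GrpObj G] [Smooth G.hom] [QuasiCompact G.hom] [ConnectedSpace ↥G.left]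
    (N : Over (Spec (CommRingCat.of k))) [GrpObj N] (i : N ⟶ G) [IsMonHom i] [IsClosedImmersion i.left]
    [Smooth N.hom] [ConnectedSpace ↥N.left] [IsAffine N.left] (hN : AlgGrp.IsNormalHom i)
    (hNmax : ∀ (N' : Over (Spec (CommRingCat.of k))) [GrpObj N'] (i' : N' ⟶ G) [IsMonHom i'] [IsClosedImmersion i'.left]
      [Smooth N'.hom] [ConnectedSpace ↥N'.left] [IsAffine N'.left], AlgGrp.IsNormalHom i' → ∃ f : N' ⟶ N, f ≫ i = i')
    (M : Over (Spec (CommRingCat.of k))) [GrpObj M] (j : M ⟶ G) [IsMonHom j] [IsClosedImmersion j.left]
    (hM : Function.Bijective ((Scheme.ΓSpecIso (CommRingCat.of k)).inv ≫ M.hom.appTop).hom)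
    (hMmax : ∀ (M' : Over (Spec (CommRingCat.of k))) [GrpObj M'] (j' : M' ⟶ G) [IsMonHom j'] [IsClosedImmersion j'.left],
      Function.Bijective ((Scheme.ΓSpecIso (CommRingCat.of k)).inv ≫ M'.hom.appTop).hom → ∃ f : M' ⟶ M, f ≫ j = j') :
    IsMonHom ((j ⊗ₘ i) ≫ μ[G]) ∧ Surjective ((j ⊗ₘ i) ≫ μ[G]).left := by
  exact Groth.L08.SmallNorm.ant_mul_aff i hNmax j hM hMmax

end Groth.Agent.S14757
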