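import Groth.Statements.S14762
import Groth.Agent.L25.RedField.Unipotent
import Groth.Agent.L08.NormalQuot.Affine
import Groth.Agent.L23.FppfSmooth

set_option autoImplicit false
universe u
open CategoryTheory CategoryTheory.Limits MonoidalCategory CartesianMonoidalCategory MonObj GrpObj AlgebraicGeometry
open Red

namespace Groth.Agent.S14762

/-- Over an algebraically closed field k, every quotient of a reductive group variety is reductive: if G
is a reductive k-group (affine, smooth, connected, with trivial unipotent radical) and π : G → H is
a flat surjective homomorphism onto a k-group scheme of finite type H, then H is reductive. (The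
published lemma also covers the properties complete, semisimple and solvable.) -/
theorem result (k : Type u) [Field k] [IsAlgClosed k]
    (G H : Over (Spec (CommRingCat.of k))) [GrpObj G] [GrpObj H] (hG : Red.IsReductiveOver k G)
    [QuasiCompact H.hom] [LocallyOfFiniteType H.hom]
    (π : G ⟶ H) [IsMonHom π] [Flat π.left] [Surjective π.left] :
    Red.IsReductiveOver k H := by
  haveI := hG.1; haveI := hG.2.1; haveI := hG.2.2.1
  haveI : LocallyOfFiniteType G.hom := inferInstance
  haveI : IsAffine H.left := Groth.L08.NormalQuot.isAffine_of_surjective_hom π
  haveI : IsLocallyNoetherian H.left := LocallyOfFiniteType.isLocallyNoetherian H.hom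
  haveI : LocallyOfFiniteType (π.left ≫ H.hom) := by rw [Over.w π]; infer_instance
  haveI : LocallyOfFiniteType π.left := locallyOfFiniteType_of_comp π.left H.hom
  haveI : LocallyOfFinitePresentation π.left := inferInstance
  haveI : Smooth H.hom := Groth.L23.FppfSmooth.smooth_of_fppf_comp π.left H.hom (by rw [Over.w π]; exact hG.2.1)
  haveI : ConnectedSpace H.left := π.left.surjective.connectedSpace π.left.continuous
  exact Groth.L25.RedField.isReductiveOver_of_surjective hG π

end Groth.Agent.S14762
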