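import Groth.Statements.S14763
import Groth.Agent.L08.SmallNorm.ExtClass
-- import your own Groth.Agent.* helpers here

set_option autoImplicit false
set_option backward.isDefEq.respectTransparency.types false
set_option linter.style.haveILetI false
universe u
open CategoryTheory CategoryTheory.Limits MonoidalCategory CartesianMonoidalCategory MonObj GrpObj AlgebraicGeometry
open AlgGrp

namespace Groth.Agent.S14763

/-- Over an algebraically closed field k let G be a commutative group variety (smooth connected
commutative k-group scheme of finite type) written as an extension 0 → L → G → A → 0 of an abelian
variety by its largest connected affine subgroup: i : L → G a smooth connected affine closed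
subgroup scheme, kernel of a flat surjective homomorphism π : G → A onto an abelian variety A
(proper, smooth, connected). Then the following are equivalent: (a) for some d ≥ 1 there is a
homomorphism s : A → G with π ∘ s equal to multiplication by d on A (the class of the extension is
killed by d: its pullback along multiplication by d splits); (b) there is an abelian subvariety A'
of G (a smooth connected proper closed subgroup scheme) with A' · L = G, that is, the multiplication
A' × L → G is surjective. (The published statement phrases (a) as the class of G having finite order
in the group of extension classes and (b) as G being isogenous to L × A; the published proof passes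
through exactly the two conditions stated here.) -/
theorem result (k : Type u) [Field k] [IsAlgClosed k]
    (G L A : Over (Spec (CommRingCat.of k))) [GrpObj G] [GrpObj L] [GrpObj A] [IsCommMonObj G]
    [Smooth G.hom] [QuasiCompact G.hom] [ConnectedSpace ↥G.left]
    (i : L ⟶ G) [IsMonHom i] [IsClosedImmersion i.left] [IsAffine L.left] [Smooth L.hom] [ConnectedSpace ↥L.left]
    (π : G ⟶ A) [IsMonHom π] [Flat π.left] [Surjective π.left] (hker : AlgGrp.IsKernel i π)
    [IsProper A.hom] [Smooth A.hom] [ConnectedSpace ↥A.left] :
    (∃ d : ℕ, 0 < d ∧ ∃ s : A ⟶ G, IsMonHom s ∧ s ≫ π = (𝟙 A) ^ d) ↔
      (∃ (A' : Over (Spec (CommRingCat.of k))) (_ : GrpObj A') (j : A' ⟶ G), IsMonHom j ∧ IsClosedImmersion j.left ∧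
        Smooth A'.hom ∧ ConnectedSpace ↥A'.left ∧ IsProper A'.hom ∧ Surjective ((j ⊗ₘ i) ≫ μ[G]).left) := by
  exact Groth.L08.SmallNorm.section_pow_iff i π hker

end Groth.Agent.S14763
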