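import Groth.Statements.S14768
import Groth.Agent.L09.Subtr

set_option autoImplicit false
universe u
open CategoryTheory CategoryTheory.Limits AlgebraicGeometry
open Subtr

namespace Groth.Agent.S14768

/-- Let f : X ⟶ Y be any morphism of schemes. Then every base change of f has the lifting property for
ordered pairs of points if and only if this holds for the base changes X ×_Y Spec V ⟶ Spec V along
all morphisms Spec V ⟶ Y with V a valuation ring. (The published statement is about universally
subtrusive morphisms and assumes f universally submersive for the constructible topologies; the
lifting property alone descends from valuation rings with the same proof, and for quasi-compact f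
the two statements agree.) -/
theorem result {X Y : Scheme.{u}} (f : X ⟶ Y) :
    Subtr.UnivSSubtrusive f ↔
      ∀ (V : Type u) [CommRing V] [IsDomain V] [ValuationRing V] (g : Spec (CommRingCat.of V) ⟶ Y),
        Subtr.IsSSubtrusive (pullback.snd f g) := by
  exact ⟨fun h V _ _ _ g => Groth.L09.Subtr.univ_snd h g, fun h =>
    Groth.L09.Subtr.univ_of_forall_valuationRing h⟩

end Groth.Agent.S14768
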