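import Groth.Statements.S14771
import Groth.Agent.L09.SubtrNoeth
import Mathlib.Tactic.TFAE

set_option autoImplicit false
universe u
open CategoryTheory CategoryTheory.Limits AlgebraicGeometry
open Subtr

namespace Groth.Agent.S14771

/-- Let Y be locally Noetherian and f : X ⟶ Y quasi-compact and locally of finite type. The following
are equivalent: (i) f is universally submersive; (ii) every base change of f has the lifting
property for ordered pairs of points; (iii) for every discrete valuation ring D and morphism g :
Spec D ⟶ Y there are a discrete valuation ring D', a morphism a : Spec D' ⟶ X and a surjective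
morphism b : Spec D' ⟶ Spec D with a ≫ f = b ≫ g. (The published statement assumes f only locally of
finite type. Quasi-compactness cannot be dropped: over the local ring of a regular surface at a
closed point s, the disjoint union of the punctured surface, a regular curve C through s and, for
every n ≥ 1, the n-fold blow-up along successive points of the strict transform of C with the n-th
such point removed, satisfies (iii) with D' = D, while (ii) fails at a valuation ring of rank two
whose centres are exactly the removed points; the limit argument behind the published proof uses
quasi-compactness of the fibres.) -/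
theorem result {X Y : Scheme.{u}} [IsLocallyNoetherian Y]
    (f : X ⟶ Y) [LocallyOfFiniteType f] [QuasiCompact f] :
    List.TFAE [
      SGA1.UnivSubmersive f,
      Subtr.UnivSSubtrusive f,
      ∀ (D : Type u) [CommRing D] [IsDomain D] [IsDiscreteValuationRing D] (g : Spec (CommRingCat.of D) ⟶ Y),
        ∃ (D' : Type u) (_ : CommRing D') (_ : IsDomain D') (_ : IsDiscreteValuationRing D')
          (a : Spec (CommRingCat.of D') ⟶ X) (b : Spec (CommRingCat.of D') ⟶ Spec (CommRingCat.of D)),
          Surjective b ∧ a ≫ f = b ≫ g] := by
  tfae_have 1 → 2 := fun h => (Groth.L09.Subtr.dvrPair_of_univSubmersive h).univSSubtrusive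
  tfae_have 2 → 1 := Groth.L09.Subtr.univSubmersive_of_univSSubtrusive f
  tfae_have 2 → 3 := fun h D _ _ _ g => Groth.L09.Subtr.exists_dvr_lift h D g
  tfae_have 3 → 2 := fun h => (Groth.L09.Subtr.dvrPair_of_lift h).univSSubtrusive
  tfae_finish

end Groth.Agent.S14771
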