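import Groth.Statements.S14779
import Groth.Agent.L06.Subtr.Global

set_option autoImplicit false
set_option maxSynthPendingDepth 3
set_option linter.style.haveILetI false
universe u
open CategoryTheory CategoryTheory.Limits AlgebraicGeometry
open Subtr

namespace Groth.Agent.S14779

/-- Let Y be a scheme that is affine or Noetherian and f : X ⟶ Y a morphism of finite presentation every
base change of which has the lifting property for ordered pairs of points. Then there are schemes
X', Y', a morphism h : X' ⟶ X, a flat surjective morphism p : X' ⟶ Y' of finite presentation and a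
proper surjective morphism q : Y' ⟶ Y of finite presentation with h ≫ f = p ≫ q (so p ≫ q is a
covering refining f). -/
theorem result {X Y : Scheme.{u}} (f : X ⟶ Y)
    (hY : IsAffine Y ∨ IsNoetherian Y) [LocallyOfFinitePresentation f] [QuasiCompact f] [QuasiSeparated f]
    (hf : Subtr.UnivSSubtrusive f) :
    ∃ (X' Y' : Scheme.{u}) (h : X' ⟶ X) (p : X' ⟶ Y') (q : Y' ⟶ Y), h ≫ f = p ≫ q ∧
      Flat p ∧ Surjective p ∧ LocallyOfFinitePresentation p ∧ QuasiCompact p ∧ QuasiSeparated p ∧
      IsProper q ∧ Surjective q ∧ LocallyOfFinitePresentation q := by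
  obtain ⟨X', Y', h, p, q, hw, hs, hqc, hps, hloc, hq, hqs, hqfp⟩ :=
    Groth.L06.Subtr.exists_refinement f hY hf
  obtain ⟨hfl, hfp⟩ := Groth.L06.Subtr.flat_of_localIso p hloc
  exact ⟨X', Y', h, p, q, hw, hfl, hs, hfp, hqc, hps, hq, hqs, hqfp⟩

end Groth.Agent.S14779
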