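import Groth.Statements.S14787
import Groth.Agent.L23.UHRep.Main

set_option autoImplicit false
universe u
open CategoryTheory CategoryTheory.Limits AlgebraicGeometry
open AlgSp

namespace Groth.Agent.S14787

/-- Let S be a quasi-separated scheme and f : X ⟶ Y a morphism of algebraic spaces over S, with X and Y
quasi-separated over S. If f is separated and a universal homeomorphism, then f is representable by
schemes and integral. -/
theorem result {S : Scheme.{u}} [QuasiSeparatedSpace S]
    {X Y : AlgSp.Space S} (hX : AlgSp.IsQuasiSeparatedSp X.obj) (hY : AlgSp.IsQuasiSeparatedSp Y.obj)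
    (f : X ⟶ Y) (hsep : AlgSp.IsSeparatedMor f.hom) (hh : AlgSp.IsUnivHomeoMor f.hom) :
    AlgSp.Representable f.hom ∧ AlgSp.IsIntegralMor f.hom :=
  have h := Groth.L23.UHRep.isIntegralMor_of_univHomeo hX hY f hsep hh
  ⟨(Groth.L23.isIntegralMor_iff.1 h).1, h⟩

end Groth.Agent.S14787
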