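import Groth.Statements.S14788
import Groth.Agent.L09.Subtr

set_option autoImplicit false
universe u
open CategoryTheory CategoryTheory.Limits AlgebraicGeometry
open Subtr

namespace Groth.Agent.S14788

/-- (i) ⇔ (iv): a morphism of schemes f : X ⟶ Y has the lifting property for ordered pairs of points if
and only if, for every pro-constructible subset Z ⊆ Y, the image under f of the closure of f⁻¹(Z) is
the closure of Z. (In the published item (iv) the right-hand side is printed as Z itself; the
closure is meant, as the case of a non-closed point shows and as the proof uses.) -/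
theorem result {X Y : Scheme.{u}} (f : X ⟶ Y) :
    Subtr.IsSSubtrusive f ↔
      ∀ Z : Set Y, ProCons.IsProConstructible Z → f '' closure (f ⁻¹' Z) = closure Z := by
  refine ⟨fun hf Z hZ => ?_, fun h y y' hy => ?_⟩
  · refine (Set.image_subset_iff.mpr (f.continuous.closure_preimage_subset Z)).antisymm fun y hy => ?_
    obtain ⟨e, he, hey⟩ :=
      (Groth.L06.ProCons.isProConstructible_iff_cc.mp hZ).exists_specializes_of_mem_closure hy
    obtain ⟨x, x', hxx, hx, hx'⟩ := hf hey
    exact ⟨x, hxx.mem_closed isClosed_closure (subset_closure (show f x' ∈ Z by rw [hx']; exact he)), hx⟩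
  · obtain ⟨x, hx, rfl⟩ := (h {y'} (Groth.L06.ProCons.isProConstructible_iff_cc.mpr
      (Groth.L09.Subtr.cc_singleton y'))).ge hy.mem_closure
    obtain ⟨x', hx', hxx⟩ := Groth.L09.Subtr.exists_specializes_fibre f hx
    exact ⟨x, x', hxx, rfl, hx'⟩

end Groth.Agent.S14788
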