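import Groth.Statements.S14789
import Groth.Agent.L09.Subtr

set_option autoImplicit false
universe u
open CategoryTheory CategoryTheory.Limits AlgebraicGeometry
open Subtr

namespace Groth.Agent.S14789

/-- Let f : X ⟶ Y be a morphism of schemes with the lifting property for ordered pairs of points, and U
⊆ Y a subset containing every maximal point of Y (every point all of whose generizations are equal
to it). Then the closure of f⁻¹(U) maps onto Y. -/
theorem result {X Y : Scheme.{u}} (f : X ⟶ Y)
    (hf : Subtr.IsSSubtrusive f) (U : Set Y) (hU : ∀ y : Y, (∀ y' : Y, y' ⤳ y → y' = y) → y ∈ U) :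
    f '' closure (f ⁻¹' U) = Set.univ := by
  refine Set.eq_univ_of_forall fun y => ?_
  obtain ⟨η, hη, hmax⟩ := Groth.L09.Subtr.exists_maximal_generization y
  obtain ⟨x, x', hxx, hx, hx'⟩ := hf hη
  refine ⟨x, hxx.mem_closed isClosed_closure (subset_closure ?_), hx⟩
  show f x' ∈ U
  rw [hx']
  exact hU η hmax

end Groth.Agent.S14789
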