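import Groth.Statements.S14791
import Groth.Agent.L09.SubtrPairs
import Groth.Agent.L19.Limit.Pullback
import Groth.Agent.L19.Limit.Stalk

set_option autoImplicit false
universe u
open CategoryTheory CategoryTheory.Limits AlgebraicGeometry
open Subtr

namespace Groth.Agent.S14791

/-- Let S = lim S_i be a cofiltered limit of schemes with affine transition morphisms, Y₀ a scheme over
a stage S_{i₀}, f₀ : X₀ ⟶ Y₀ a quasi-compact morphism, and write f_i, f for the base changes of f₀
to the stages S_i and to S (realised as second projections of fibre products). If there is a stage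
S_{i₁} such that f_i has the lifting property for ordered pairs of points for every stage S_i over
S_{i₁}, then f has it. (The published statement is about subtrusive morphisms and assumes f a
quotient map for the constructible topologies; this row keeps only the lifting property and assumes
f₀ quasi-compact, which makes the fibres quasi-compact as the filtered-intersection step of the
argument requires.) -/
theorem result {I : Type u} [SmallCategory I] [IsCofiltered I]
    (D : I ⥤ Scheme.{u}) (c : Limits.Cone D) (hc : Limits.IsLimit c)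
    [∀ (i j : I) (a : i ⟶ j), IsAffineHom (D.map a)] (i₀ : I)
    {X₀ Y₀ : Scheme.{u}} (f₀ : X₀ ⟶ Y₀) (g₀ : Y₀ ⟶ D.obj i₀) [QuasiCompact f₀]
    (h : ∃ (i₁ : I) (ψ : i₁ ⟶ i₀), ∀ (i : I) (φ : i ⟶ i₁),
      Subtr.IsSSubtrusive (pullback.snd f₀ (pullback.fst g₀ (D.map (φ ≫ ψ))))) :
    Subtr.IsSSubtrusive (pullback.snd f₀ (pullback.fst g₀ (c.π.app i₀))) := by
  classical
  haveI : ∀ {i j} (a : i ⟶ j), IsAffineHom (D.map a) := fun {i j} a => inferInstance
  obtain ⟨i₁, ψ, h⟩ := h
  intro y y' hy
  let π := c.π.app i₀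
  have hsq : IsPullback (pullback.fst g₀ π) (pullback.snd g₀ π) g₀ (c.π.app i₀) :=
    IsPullback.of_hasPullback g₀ π
  let c' := Groth.L19.Limit.sqCone hsq
  have hc' : IsLimit c' := Groth.L19.Limit.isLimitSqCone hc hsq
  let Z := pullback g₀ π
  obtain ⟨p, hp⟩ : y' ∈ Set.range (Scheme.fromSpecStalk Z y) := by
    rw [Scheme.range_fromSpecStalk]; exact hy
  let p' : PrimeSpectrum (Z.presheaf.stalk y) := p
  haveI : IsDomain (Z.presheaf.stalk y ⧸ p'.asIdeal) := Ideal.Quotient.isDomain _
  let P : Type u := Z.presheaf.stalk y ⧸ p'.asIdeal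
  let q : Z.presheaf.stalk y →+* P := Ideal.Quotient.mk _
  have hqs : Function.Surjective q := Ideal.Quotient.mk_surjective
  haveI : IsLocalRing P := IsLocalRing.of_surjective' q hqs
  haveI : IsLocalHom q := .of_surjective q hqs
  let bP : Spec (CommRingCat.of P) ⟶ Z := Spec.map (CommRingCat.ofHom q) ≫ Z.fromSpecStalk y
  have hbgen : bP (Groth.L09.Subtr.genPt P) = y' := by
    rw [Scheme.Hom.comp_apply, ← hp]
    congr 1
    exact PrimeSpectrum.ext (Ideal.mk_ker : RingHom.ker q = p'.asIdeal)
  have hbcl : bP (IsLocalRing.closedPoint P) = y := by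
    rw [Scheme.Hom.comp_apply]
    exact (congrArg _ (IsLocalRing.comap_closedPoint q)).trans Scheme.fromSpecStalk_closedPoint
  -- base ring
  obtain ⟨_, ⟨(U : Y₀.Opens), hU, rfl⟩, hyU, -⟩ := Y₀.isBasis_affineOpens.exists_subset_of_mem_open
    (Set.mem_univ (pullback.fst g₀ π y)) isOpen_univ
  replace hU : IsAffineOpen U := hU
  have hrange : Set.range (bP ≫ pullback.fst g₀ π) ⊆ Set.range hU.fromSpec := by
    rw [hU.range_fromSpec]
    rintro _ ⟨v, rfl⟩
    refine ((Groth.L09.Subtr.specializes_closedPt v).map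
      (bP ≫ pullback.fst g₀ π).continuous).mem_open U.2 ?_
    show (bP ≫ pullback.fst g₀ π) (IsLocalRing.closedPoint P) ∈ U
    rw [Scheme.Hom.comp_apply, hbcl]
    exact hyU
  obtain ⟨α, hα⟩ := Spec.map_surjective (IsOpenImmersion.lift hU.fromSpec _ hrange)
  have hαf : Spec.map α ≫ hU.fromSpec = bP ≫ pullback.fst g₀ π := by
    rw [hα, IsOpenImmersion.lift_fac]
  let : Algebra Γ(Y₀, U) P := α.hom.toAlgebra
  have main : Groth.L09.Subtr.HasPair (pullback.snd f₀ (bP ≫ pullback.fst g₀ π))
      (Groth.L09.Subtr.genPt P) (IsLocalRing.closedPoint P) := by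
    rw [← hαf, ← Groth.L09.Subtr.hasPair_snd_snd_iff]
    refine Groth.L09.Subtr.hasPair_of_forall_fg (A := Γ(Y₀, U)) (P := P) _
      (IsLocalRing.closedPoint P) fun C hC => ?_
    rw [Groth.L09.Subtr.hasPair_snd_snd_iff]
    obtain ⟨t, ht⟩ := hC
    let S : CategoryTheory.Over i₀ → Set P := fun j => Set.range (fun b => q ((c'.π.app j).stalkMap y b))
    have hmono : ∀ {j k : CategoryTheory.Over i₀} (a : k ⟶ j), S j ⊆ S k := by
      intro j k a
      have key : ∀ (φ : c'.pt ⟶ (Groth.L19.Limit.bcDiagram D g₀).obj j)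
          (_ : φ = c'.π.app k ≫ (Groth.L19.Limit.bcDiagram D g₀).map a),
          Set.range (fun b => q (φ.stalkMap y b)) ⊆ S k := by
        rintro _ rfl _ ⟨b, rfl⟩
        exact ⟨((Groth.L19.Limit.bcDiagram D g₀).map a).stalkMap _ b, by
          simp only [Scheme.Hom.stalkMap_comp, ConcreteCategory.comp_apply]; rfl⟩
      exact key (c'.π.app j) (c'.w a).symm
    have hS : ∀ a : P, ∃ j, a ∈ S j := fun a => by
      obtain ⟨o, rfl⟩ := hqs a
      obtain ⟨j, b, hb⟩ := Groth.L19.Limit.exists_stalkMap_eq hc' y o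
      exact ⟨j, b, congrArg q hb⟩
    choose j hj using hS
    obtain ⟨k, hk⟩ := IsCofiltered.inf_objs_exists
      (insert (CategoryTheory.Over.mk ψ) (t.image j))
    obtain ⟨w⟩ := @hk (CategoryTheory.Over.mk ψ) (Finset.mem_insert_self _ _)
    let ρ : _ →+* P := q.comp ((c'.π.app k).stalkMap y).hom
    let Pk := ρ.range
    have htk : ∀ x ∈ t, x ∈ Pk := fun x hx => by
      obtain ⟨a⟩ := @hk (j x) (Finset.mem_insert_of_mem (Finset.mem_image_of_mem j hx))
      exact hmono a (hj x)
    let e : Spec (CommRingCat.of Pk) ⟶ (Groth.L19.Limit.bcDiagram D g₀).obj k :=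
      Spec.map (CommRingCat.ofHom ρ.rangeRestrict) ≫ Scheme.fromSpecStalk _ (c'.π.app k y)
    haveI : IsClosedImmersion (Spec.map (CommRingCat.ofHom ρ.rangeRestrict)) :=
      IsClosedImmersion.spec_of_surjective _ ρ.rangeRestrict_surjective
    let inc : Spec (CommRingCat.of P) ⟶ Spec (CommRingCat.of Pk) :=
      Spec.map (CommRingCat.ofHom Pk.subtype)
    let toY : (Groth.L19.Limit.bcDiagram D g₀).obj k ⟶ Y₀ := pullback.snd (D.map k.hom) g₀
    have hinc : inc ≫ e = bP ≫ c'.π.app k := by
      have h1 := Scheme.SpecMap_stalkMap_fromSpecStalk (c'.π.app k) (x := y)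
      refine Eq.trans ?_ ((congrArg (Spec.map (CommRingCat.ofHom q) ≫ ·) h1).trans
        (Category.assoc _ _ _).symm)
      show Spec.map _ ≫ Spec.map _ ≫ _ = Spec.map _ ≫ Spec.map _ ≫ _
      rw [← Spec.map_comp_assoc, ← Spec.map_comp_assoc]
      rfl
    have hincY : inc ≫ e ≫ toY = bP ≫ pullback.fst g₀ π := by
      rw [reassoc_of% hinc]
      exact congrArg (bP ≫ ·) (Groth.L19.Limit.toStage_snd hsq k)
    haveI : IsLocalRing Pk := IsLocalRing.of_surjective' ρ.rangeRestrict ρ.rangeRestrict_surjective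
    haveI : IsLocalHom ρ.rangeRestrict := .of_surjective _ ρ.rangeRestrict_surjective
    have hrk : Set.range (e ≫ toY) ⊆ Set.range hU.fromSpec := by
      rw [hU.range_fromSpec]
      rintro _ ⟨v, rfl⟩
      refine ((Groth.L09.Subtr.specializes_closedPt v).map (e ≫ toY).continuous).mem_open U.2 ?_
      have he1 : e (IsLocalRing.closedPoint Pk) = c'.π.app k y :=
        (Scheme.Hom.comp_apply _ _ _).trans ((congrArg _ (IsLocalRing.comap_closedPoint
          ρ.rangeRestrict)).trans Scheme.fromSpecStalk_closedPoint)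
      have hy1 : toY (c'.π.app k y) = pullback.fst g₀ π y :=
        (Scheme.Hom.comp_apply _ _ _).symm.trans
          (congrArg (fun m => m y) (Groth.L19.Limit.toStage_snd hsq k))
      have he2 : (e ≫ toY) (IsLocalRing.closedPoint Pk) = pullback.fst g₀ π y :=
        (Scheme.Hom.comp_apply e toY _).trans ((congrArg (fun v => toY v) he1).trans hy1)
      exact he2.symm ▸ hyU
    obtain ⟨β, hβ⟩ := Spec.map_surjective (IsOpenImmersion.lift hU.fromSpec _ hrk)
    have hβf : Spec.map β ≫ hU.fromSpec = e ≫ toY := by rw [hβ, IsOpenImmersion.lift_fac]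
    have hαβ : β ≫ CommRingCat.ofHom Pk.subtype = α := by
      apply Spec.map_injective
      rw [← cancel_mono hU.fromSpec, hαf, Spec.map_comp, Category.assoc, hβf]
      exact hincY
    have hCk : ∀ x : C, (x : P) ∈ Pk := by
      intro x
      have hx : (x : P) ∈ Algebra.adjoin Γ(Y₀, U) (t : Set P) := by rw [ht]; exact x.2
      refine Algebra.adjoin_induction (fun z hz => htk z hz) (fun r => ?_)
        (fun _ _ _ _ => add_mem) (fun _ _ _ _ => mul_mem) hx
      show α.hom r ∈ Pk
      rw [← hαβ]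
      exact (β.hom r).2
    let ι : C →+* Pk := C.val.toRingHom.codRestrict Pk hCk
    have hι : Spec.map (CommRingCat.ofHom ι) ≫ Spec.map (CommRingCat.ofHom (algebraMap Γ(Y₀, U) C))
        ≫ hU.fromSpec = e ≫ toY := by
      rw [← Spec.map_comp_assoc, ← hβf]
      congr 2
      ext r
      exact (congrArg (fun g : Γ(Y₀, U) ⟶ CommRingCat.of P => g r) hαβ).symm
    -- move to the stage of the hypothesis
    have hk0 : k.hom = w.left ≫ ψ := (CategoryTheory.Over.w w).symm
    let s : pullback g₀ (D.map (w.left ≫ ψ)) ≅ (Groth.L19.Limit.bcDiagram D g₀).obj k :=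
      pullbackSymmetry g₀ (D.map (w.left ≫ ψ)) ≪≫
        pullback.congrHom (congrArg D.map hk0.symm) rfl
    have hs : s.hom ≫ toY = pullback.fst g₀ (D.map (w.left ≫ ψ)) := by
      show ((pullbackSymmetry g₀ (D.map (w.left ≫ ψ))).hom ≫ _) ≫ pullback.snd _ _ = _
      simp only [Category.assoc, pullback.congrHom_hom, pullback.map, pullback.lift_snd,
        Category.comp_id, pullbackSymmetry_hom_comp_snd]
    have hpair := Groth.L09.Subtr.HasPair.snd_comp f₀ _ (e ≫ s.inv)
      (t' := Groth.L09.Subtr.genPt Pk)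
      (t := (PrimeSpectrum.comap Pk.subtype (IsLocalRing.closedPoint P) : PrimeSpectrum Pk))
      (h _ w.left ((Groth.L09.Subtr.genPt_specializes _).map (e ≫ s.inv).continuous))
    have he : (e ≫ s.inv) ≫ pullback.fst g₀ (D.map (w.left ≫ ψ)) = e ≫ toY := by
      rw [Category.assoc, ← hs, Iso.inv_hom_id_assoc]
    rw [he, ← hι] at hpair
    have h2 := Groth.L09.Subtr.HasPair.of_comp _ _ (Spec.map (CommRingCat.ofHom ι)) hpair
    have hgen : Spec.map (CommRingCat.ofHom ι) (Groth.L09.Subtr.genPt Pk) = Groth.L09.Subtr.genPt C :=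
      PrimeSpectrum.ext (Ideal.comap_bot_of_injective _
        (fun a b hab => Subtype.ext (congrArg Subtype.val hab :)))
    rw [hgen] at h2
    exact h2
  have := Groth.L09.Subtr.HasPair.of_comp _ _ bP main
  rw [hbgen, hbcl] at this
  exact this

end Groth.Agent.S14791
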