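import Groth.Statements.S14793
import Groth.Agent.L20.BlowFlat.Subtrusive

set_option autoImplicit false
universe u
open Subtr

set_option backward.isDefEq.respectTransparency.types false
namespace Groth.Agent.S14793

open AlgebraicGeometry CategoryTheory Limits in
/-- Let Y be a reduced, quasi-compact and quasi-separated scheme whose set of maximal points is
quasi-compact (for instance Y Noetherian), and f : X ⟶ Y a morphism of finite presentation every
base change of which has the lifting property for ordered pairs of points. Then there are a dense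
quasi-compact open U ⊆ Y, an ideal sheaf 𝓘 admissible for U (of finite type, cosupported off U) and
a blow-up b : Y' ⟶ Y of Y in 𝓘, with b surjective, such that the strict transform X'' of X (the
closed subscheme of X' = X ×_Y Y' whose ideal consists, on each affine open, of the functions
annihilated by a power of the pulled-back exceptional ideal) is flat, surjective and of finite
presentation over Y'. -/
theorem result {X Y : Scheme.{u}} [IsReduced Y] [CompactSpace Y]
    [QuasiSeparatedSpace Y] (hgen : IsCompact {y : Y | ∀ y' : Y, y' ⤳ y → y' = y})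
    (f : X ⟶ Y) [LocallyOfFinitePresentation f] [QuasiCompact f] [QuasiSeparated f]
    (hf : Subtr.UnivSSubtrusive f) :
    ∃ (U : Y.Opens) (𝓘 : Y.IdealSheafData) (Y' : Scheme.{u}) (b : Y' ⟶ Y),
      Dense (U : Set Y) ∧ IsCompact (U : Set Y) ∧ BlowUp.IsBlowUp b 𝓘 ∧ BlowUp.IsAdmissibleFor U 𝓘 ∧
      Surjective b ∧
      ∀ (X' : Scheme.{u}) (p₁ : X' ⟶ X) (p₂ : X' ⟶ Y'), IsPullback p₁ p₂ f b →
      ∀ (𝒥 : X'.IdealSheafData),
        (∀ (V : X'.affineOpens) (a : Γ(X', V.1)), a ∈ 𝒥.ideal V ↔
          BlowUp.KilledByPowerNear ((𝓘.comap f).comap p₁) (Coh.structureModule X') V a) →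
        Flat (𝒥.subschemeι ≫ p₂) ∧ Surjective (𝒥.subschemeι ≫ p₂) ∧
          LocallyOfFinitePresentation (𝒥.subschemeι ≫ p₂) ∧
          QuasiCompact (𝒥.subschemeι ≫ p₂) ∧ QuasiSeparated (𝒥.subschemeι ≫ p₂) := by
  exact Groth.L20.BlowFlat.exists_flattening_subtrusive hgen f hf


end Groth.Agent.S14793
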