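import Groth.Statements.S14794
import Groth.Agent.L23.WNFac.Main

set_option backward.isDefEq.respectTransparency.types false

set_option autoImplicit false
universe u
open CategoryTheory CategoryTheory.Limits AlgebraicGeometry
open Subtr

namespace Groth.Agent.S14794

/-- Let X ⟶ S be a quasi-separated morphism of schemes, T ⟶ S an S-scheme, p : T' ⟶ T a quasi-compact,
quasi-separated and universally submersive morphism, and f' : T' ⟶ X an S-morphism whose composites
with the two projections T' ×_T T' ⟶ T' agree on every reduced scheme mapping to T' ×_T T' (that is,
they agree on the reduction of T' ×_T T'). Then there are a scheme T₁ and a factorization p = q ≫ u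
with q : T' ⟶ T₁ schematically dominant (injective on sections) and u : T₁ ⟶ T a separated universal
homeomorphism, together with an S-morphism f₁ : T₁ ⟶ X with q ≫ f₁ = f'. In particular f' descends
to T as soon as every such factorization of p has u an isomorphism (p weakly normal). (This is the
factorization produced by the proof of the descent of morphisms along weakly normal morphisms. The
published remark is for algebraic spaces X with X ⟶ S locally separated and also asserts that the
factorization can be chosen minimal; this row is the case of schemes, which are locally separated,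
without the minimality.) -/
theorem result {S X T T' : Scheme.{u}}
    (πX : X ⟶ S) [QuasiSeparated πX] (t : T ⟶ S) (p : T' ⟶ T) [QuasiCompact p] [QuasiSeparated p]
    (hp : SGA1.UnivSubmersive p) (f' : T' ⟶ X) (hf' : f' ≫ πX = p ≫ t)
    (heq : ∀ (W : Scheme.{u}) [IsReduced W] (w : W ⟶ pullback p p),
      w ≫ pullback.fst p p ≫ f' = w ≫ pullback.snd p p ≫ f') :
    ∃ (T₁ : Scheme.{u}) (q : T' ⟶ T₁) (u : T₁ ⟶ T) (f₁ : T₁ ⟶ X), q ≫ u = p ∧
      (∀ U : T₁.Opens, Function.Injective (q.app U).hom) ∧ FlatMor.IsUnivHomeo u ∧ IsSeparated u ∧
      q ≫ f₁ = f' ∧ f₁ ≫ πX = u ≫ t := by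
  exact Groth.L23.WNFac.exists_factorization πX t p f' hf' heq hp

end Groth.Agent.S14794
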