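import Groth.Statements.S14796
import Groth.Agent.L09.SubtrWeakClosure

set_option autoImplicit false
universe u
open CategoryTheory CategoryTheory.Limits AlgebraicGeometry
open Subtr

namespace Groth.Agent.S14796

/-- Let A ⊆ B be a ring extension and A ⟶ A' a ring map that is a localization or étale; put B' = A' ⊗_A
B. Let C ⊆ B be the weak subintegral closure of A in B and C' ⊆ B' that of A' in B' (each the
largest subalgebra whose spectrum maps to the base by a universal homeomorphism, characterised here
by that maximality). Then C' is the image of A' ⊗_A C ⟶ A' ⊗_A B: the weak subintegral closure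
commutes with such base changes. -/
theorem result {A B A' : Type u} [CommRing A] [CommRing B]
    [CommRing A'] [Algebra A B] [Algebra A A'] (hinj : Function.Injective (algebraMap A B))
    (hA' : (∃ M : Submonoid A, IsLocalization M A') ∨ Algebra.Etale A A')
    (C : Subalgebra A B) (hC : FlatMor.IsUnivHomeo (Spec.map (CommRingCat.ofHom (algebraMap A C))))
    (hmax : ∀ D : Subalgebra A B, FlatMor.IsUnivHomeo (Spec.map (CommRingCat.ofHom (algebraMap A D))) → D ≤ C)
    (C' : Subalgebra A' (TensorProduct A A' B)) (hC' : FlatMor.IsUnivHomeo (Spec.map (CommRingCat.ofHom (algebraMap A' C'))))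
    (hmax' : ∀ D : Subalgebra A' (TensorProduct A A' B), FlatMor.IsUnivHomeo (Spec.map (CommRingCat.ofHom (algebraMap A' D))) → D ≤ C') :
    (C' : Set (TensorProduct A A' B)) =
      Set.range (Algebra.TensorProduct.map (AlgHom.id A A') C.val) := by
  have e := @Groth.L28.AWN.isUnivHomeo_iff_isUH
  rcases hA' with ⟨M, hM⟩ | hE
  · haveI := Groth.L09.Subtr.weaklyEtale_of_isLocalization (A' := A') M
    exact Groth.L09.Subtr.weakClosure_baseChange hinj
      (TensorProduct.toIntegralClosure_bijective_of_isLocalization M) C ((e _).mp hC)
      (fun D hD => hmax D ((e _).mpr hD)) C' ((e _).mp hC') (fun D hD => hmax' D ((e _).mpr hD))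
  · exact Groth.L09.Subtr.weakClosure_baseChange hinj
      TensorProduct.toIntegralClosure_bijective_of_smooth C ((e _).mp hC)
      (fun D hD => hmax D ((e _).mpr hD)) C' ((e _).mp hC') (fun D hD => hmax' D ((e _).mpr hD))

end Groth.Agent.S14796
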