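import Groth.Statements.S14797
import Groth.Agent.L27.SGA1.SubmersiveDescent
import Groth.Agent.L23.LocalDimEtale
import Mathlib.AlgebraicGeometry.ZariskisMainTheorem

set_option autoImplicit false
universe u
open CategoryTheory CategoryTheory.Limits AlgebraicGeometry
open Subtr

namespace Groth.Agent.S14797

/-- Let g : S' ⟶ S be a quasi-compact universally submersive morphism of schemes and f : X ⟶ S an étale
morphism whose base change X ×_S S' ⟶ S' is finite. Then f is finite. (The published statement
treats the properties universally closed, separated and quasi-compact one at a time as well; this
row is the finite case. It assumes g universally subtrusive, using it only through universal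
submersiveness and, for quasi-compactness, through the constructible topology; for quasi-compact g
universal submersiveness suffices by the same proof.) -/
theorem result {X S S' : Scheme.{u}} (g : S' ⟶ S)
    [QuasiCompact g] (hg : SGA1.UnivSubmersive g) (f : X ⟶ S) [Etale f]
    [IsFinite (pullback.snd f g)] : IsFinite f := by
  haveI : LocallyQuasiFinite f := Groth.L23.lqf_of_etale f
  have sq : IsPullback (pullback.snd f g) (pullback.fst f g) g f :=
    (IsPullback.of_hasPullback f g).flip
  have hs : IsSeparated f := Groth.L27.SubDesc.isSeparated sq hg inferInstance
  haveI : UniversallyClosed f := by
    have := Groth.L27.SubDesc.universallyClosed_descendsAlong.{u}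
    exact MorphismProperty.DescendsAlong.of_isPullback (P := @UniversallyClosed)
      (Q := SGA1.UnivSubmersive.{u}) sq hg inferInstance
  haveI := hs
  haveI : IsProper f := {}
  exact IsFinite.of_isProper_of_locallyQuasiFinite f

end Groth.Agent.S14797
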