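import Groth.Statements.S1480
import Groth.Agent.L20.FlatSection

set_option autoImplicit false
universe u
open FlatMor

set_option backward.isDefEq.respectTransparency.types false

namespace Groth.Agent.S1480

open AlgebraicGeometry CategoryTheory Limits in
/-- Let f : X → S be flat, locally of finite presentation and locally quasi-finite, and g a nonzero
global function on X. Then there are affine opens V of X and U of S with f(V) ⊆ U and g nonzero on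
V, an ideal F of O_S(U), a positive integer r and an injective O_S(U)-linear map from F^r to O_X(V)
whose image contains the restriction of g to V. -/
theorem result {X S : Scheme.{u}} (f : X ⟶ S) [Flat f] [LocallyOfFinitePresentation f] [LocallyQuasiFinite f]
    (g : Γ(X, ⊤)) (hg : g ≠ 0) :
    ∃ (U : S.Opens) (hU : IsAffineOpen U) (V : X.Opens) (hV : IsAffineOpen V) (hVU : V ≤ f ⁻¹ᵁ U),
      X.presheaf.map (homOfLE le_top).op g ≠ (0 : Γ(X, V)) ∧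
      ∃ (F : Ideal Γ(S, U)) (r : ℕ), 0 < r ∧
        letI := (f.appLE U V hVU).hom.toAlgebra
        ∃ φ : (Fin r → ↥F) →ₗ[Γ(S, U)] Γ(X, V), Function.Injective φ ∧ X.presheaf.map (homOfLE le_top).op g ∈ LinearMap.range φ := by
  classical
  -- an affine piece where `g` does not vanish
  obtain ⟨U₀, hU₀, V₀, hV₀, e₀, hg₀⟩ : ∃ (U₀ : S.Opens) (_ : IsAffineOpen U₀) (V₀ : X.Opens)
      (_ : IsAffineOpen V₀) (_ : V₀ ≤ f ⁻¹ᵁ U₀), X.presheaf.map (homOfLE le_top).op g ≠ (0 : Γ(X, V₀)) := by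
    by_contra hc
    push Not at hc
    have hx : ∀ x : X, ∃ (U₀ : S.Opens) (V₀ : X.Opens),
        IsAffineOpen U₀ ∧ IsAffineOpen V₀ ∧ V₀ ≤ f ⁻¹ᵁ U₀ ∧ x ∈ V₀ := fun x => by
      obtain ⟨U₀, hU₀, hx₀, -⟩ := exists_isAffineOpen_mem_and_subset (U := (⊤ : S.Opens)) (show f x ∈ ⊤ by trivial)
      obtain ⟨V₀, hV₀, hxV, hle⟩ := exists_isAffineOpen_mem_and_subset (U := f ⁻¹ᵁ U₀) hx₀
      exact ⟨U₀, V₀, hU₀, hV₀, hle, hxV⟩
    choose U₀ V₀ hU₀ hV₀ hle hmem using hx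
    refine hg (X.sheaf.eq_of_locally_eq' V₀ ⊤ (fun x => homOfLE le_top)
      (fun x _ => TopologicalSpace.Opens.mem_iSup.mpr ⟨x, hmem x⟩) g 0 fun x => ?_)
    rw [map_zero]
    exact hc (U₀ x) (hU₀ x) (V₀ x) (hV₀ x) (hle x)
  let φ₀ := f.appLE U₀ V₀ e₀
  have hflat : φ₀.hom.Flat := HasRingHomProperty.appLE (P := @Flat) f inferInstance ⟨U₀, hU₀⟩ ⟨V₀, hV₀⟩ e₀
  have hfp : φ₀.hom.FinitePresentation :=
    HasRingHomProperty.appLE (P := @LocallyOfFinitePresentation) f inferInstance ⟨U₀, hU₀⟩ ⟨V₀, hV₀⟩ e₀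
  have hqf : φ₀.hom.QuasiFinite :=
    HasRingHomProperty.appLE (P := @LocallyQuasiFinite) f inferInstance ⟨U₀, hU₀⟩ ⟨V₀, hV₀⟩ e₀
  algebraize [φ₀.hom]
  obtain ⟨a, ha⟩ := Groth.L20.FlatSection.exists_torsionFree_map (A := Γ(S, U₀)) (B := Γ(X, V₀))
    (X.presheaf.map (homOfLE le_top).op g) hg₀
  have hVU : X.basicOpen (φ₀ a) ≤ f ⁻¹ᵁ S.basicOpen a := by
    intro x hx
    rw [Scheme.basicOpen_appLE] at hx
    exact hx.2
  refine ⟨S.basicOpen a, hU₀.basicOpen a, X.basicOpen (φ₀ a), hV₀.basicOpen _, hVU, ?_⟩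
  algebraize [(f.appLE (S.basicOpen a) (X.basicOpen (φ₀ a)) hVU).hom]
  let _ : Algebra Γ(S, U₀) Γ(X, X.basicOpen (φ₀ a)) :=
    (φ₀ ≫ X.presheaf.map (homOfLE (X.basicOpen_le _)).op).hom.toAlgebra
  have : IsScalarTower Γ(S, U₀) Γ(X, V₀) Γ(X, X.basicOpen (φ₀ a)) := IsScalarTower.of_algebraMap_eq' rfl
  have : IsScalarTower Γ(S, U₀) Γ(S, S.basicOpen a) Γ(X, X.basicOpen (φ₀ a)) := by
    refine IsScalarTower.of_algebraMap_eq' ?_
    change (φ₀ ≫ X.presheaf.map (homOfLE (X.basicOpen_le _)).op).hom =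
      (S.presheaf.map (homOfLE (S.basicOpen_le a)).op ≫ f.appLE (S.basicOpen a) (X.basicOpen (φ₀ a)) hVU).hom
    rw [Scheme.Hom.appLE_map, Scheme.Hom.map_appLE]
  have := hU₀.isLocalization_basicOpen a
  have : IsLocalization.Away (algebraMap Γ(S, U₀) Γ(X, V₀) a) Γ(X, X.basicOpen (φ₀ a)) :=
    hV₀.isLocalization_basicOpen (φ₀ a)
  have : Module.Flat Γ(S, S.basicOpen a) Γ(X, X.basicOpen (φ₀ a)) :=
    HasRingHomProperty.appLE (P := @Flat) f inferInstance ⟨_, hU₀.basicOpen a⟩ ⟨_, hV₀.basicOpen (φ₀ a)⟩ hVU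
  obtain ⟨hne, F, r, hr, φ, hφ, hmem⟩ := ha Γ(S, S.basicOpen a) Γ(X, X.basicOpen (φ₀ a))
  have e : algebraMap Γ(X, V₀) Γ(X, X.basicOpen (φ₀ a)) (X.presheaf.map (homOfLE le_top).op g) =
      X.presheaf.map (homOfLE le_top).op g := by
    change X.presheaf.map (homOfLE (X.basicOpen_le _)).op (X.presheaf.map (homOfLE le_top).op g) = _
    rw [← CommRingCat.comp_apply, ← X.presheaf.map_comp]
    rfl
  rw [e] at hne hmem
  exact ⟨hne, F, r, hr, φ, hφ, hmem⟩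

end Groth.Agent.S1480
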