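import Groth.Statements.S14800
import Groth.Agent.L15.CompGrp.Contract
import Mathlib.Algebra.BigOperators.Ring.Finset

set_option autoImplicit false
universe u
open Finset
open LabGraph

namespace Groth.Agent.S14800

/-- Let (G, β) be a finite multigraph with a multiplicity function (each β(v) is a positive integer
dividing Σ_{w ≠ v} β(w)·#edges(v, w)) and let C be a connecting chain of G (distinct vertices v₀, …,
v_k and distinct edges e₁, …, e_k, e_i joining v_{i-1} and v_i, every e_i a connecting edge) such
that β is constant on the vertices of C. Let G' be the contraction of C (the vertices of C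
identified to a single vertex, the edges of C removed) and β' the function it induces (β'([v]) =
β(v)). Then (G', β') is again a multigraph with a multiplicity function. -/
theorem result {V E : Type u} [Fintype V] [Fintype E] [DecidableEq V] [DecidableEq E]
    (ends : E → V × V) (β : V → ℤ) (hβ : LabGraph.IsMultFn ends β)
    {k : ℕ} (f : Fin (k + 1) → V) (e : Fin k → E) (hC : LabGraph.IsChain ends f e)
    (hconn : ∀ i, LabGraph.IsConnecting ends (e i)) (hconst : ∀ i j, β (f i) = β (f j)) :
    LabGraph.IsMultFn (DualGr.ctrEnds ends (univ.image e))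
      (LabGraph.ctrFn ends (univ.image e) β) := by
  classical
  set D : Finset E := univ.image e with hD
  obtain ⟨-, -, he⟩ := hC
  have hrel : ∀ x y : V, (DualGr.ctrSetoid ends D).r x y → β x = β y := by
    intro x y h
    change Relation.EqvGen (DualGr.CtrRel ends D) x y at h
    induction h with
    | rel a b hab =>
      obtain ⟨d, hd, hde⟩ := hab
      obtain ⟨i, -, rfl⟩ := mem_image.1 hd
      rcases he i with h1 | h1 <;> rw [hde] at h1 <;> obtain ⟨rfl, rfl⟩ := Prod.mk.inj h1 <;>
        exact hconst _ _
    | refl a => rfl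
    | symm a b _ ih => exact ih.symm
    | trans a b c _ _ ih1 ih2 => exact ih1.trans ih2
  have hmk : ∀ v : V, LabGraph.ctrFn ends D β (DualGr.ctrMk ends D v) = β v := fun v =>
    hrel _ _ (Quotient.exact (Quotient.out_eq (s := DualGr.ctrSetoid ends D) (DualGr.ctrMk ends D v)))
  intro c
  obtain ⟨v, rfl⟩ := DualGr.ctrMk_surjective ends D c
  rw [hmk]
  refine ⟨(hβ v).1, ?_⟩
  show β v ∣ Groth.L15.CompGrp.nb (DualGr.ctrEnds ends D) (DualGr.ctrMk ends D v) (LabGraph.ctrFn ends D β)
  rw [Groth.L15.CompGrp.nb_ctr]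
  simp only [hmk]
  let C : Finset V := univ.filter (fun w => DualGr.ctrMk ends D w = DualGr.ctrMk ends D v)
  have hC' : ∀ w, w ∈ C ↔ DualGr.ctrMk ends D w = DualGr.ctrMk ends D v := fun w => by simp [C]
  have hCβ : ∀ w, DualGr.ctrMk ends D w = DualGr.ctrMk ends D v → β w = β v := fun w hw => by
    rw [← hmk w, hw, hmk]
  have h1 : β v ∣ ∑ w ∈ C, Groth.L15.CompGrp.nb ends w β :=
    dvd_sum fun w hw => hCβ w ((hC' w).1 hw) ▸ (hβ w).2
  simp only [Groth.L15.CompGrp.nb_eq_sum_edges] at h1
  rw [sum_comm] at h1
  refine (dvd_sub_right h1).1 ?_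
  rw [← sum_sub_distrib]
  refine dvd_sum fun d _ => ?_
  rw [sum_add_distrib]
  have e1 : ∀ a b : V, (∑ w ∈ C, if a = w ∧ b ≠ w then β b else 0) =
      if DualGr.ctrMk ends D a = DualGr.ctrMk ends D v ∧ b ≠ a then β b else 0 := by
    intro a b
    by_cases ha : a ∈ C
    · rw [sum_eq_single a (fun w _ hw => if_neg fun h => hw h.1.symm) (fun h => absurd ha h)]
      simp [(hC' a).1 ha]
    · rw [sum_eq_zero fun w hw => if_neg fun h : a = w ∧ b ≠ w => ha (h.1 ▸ hw), if_neg fun h => ha ((hC' a).2 h.1)]
  rw [e1, e1]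
  generalize (ends d).1 = a
  generalize (ends d).2 = b
  by_cases ha : DualGr.ctrMk ends D a = DualGr.ctrMk ends D v <;>
    by_cases hb : DualGr.ctrMk ends D b = DualGr.ctrMk ends D v <;>
    by_cases hab : a = b <;>
    simp_all [Ne.symm]


end Groth.Agent.S14800
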