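import Groth.Statements.S14803
import Groth.Agent.L15.CompGrp.MatrixTree
import Mathlib.Tactic.FieldSimp
import Mathlib.Algebra.Field.Basic
import Mathlib.Algebra.BigOperators.Field
import Mathlib.Tactic.Ring
import Mathlib.Tactic.LinearCombination
import Mathlib.Tactic.FieldSimp
import Mathlib.Algebra.BigOperators.Ring.Finset

set_option autoImplicit false
universe u
open Finset
open LabGraph

namespace Groth.Agent.S14803

open Classical in
/-- Let (G, β) be a connected finite multigraph with a multiplicity function, α its matrix (α_{vw} =
#edges(v, w) for v ≠ w, Σ_w β(w) α_{vw} = 0) and Φ(G) = ker β / im α its component group; let m be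
the gcd of all the values β(v). Then Φ(G) is finite of order m² · Σ_T Π_v β(v)^{#N_T(v) - 2}, where
T runs over the spanning trees of G and N_T(v) is the set of neighbours of v in T. (The published
statement gives this order for the Néron component group of a curve's Jacobian, G being the weighted
dual graph of a proper regular model and β its component multiplicities; this row states the
identity for every connected pair (G, β) with a positive multiplicity function.) -/
theorem result {V E : Type u} [Fintype V] [Fintype E] [DecidableEq V] [DecidableEq E]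
    (ends : E → V × V) (β : V → ℤ) (hβ : LabGraph.IsMultFn ends β) (hG : LabGraph.Connected ends) :
    (Nat.card (LabGraph.CompGrp ends β) : ℚ) =
      ((univ.gcd β : ℤ) : ℚ) ^ 2 *
        ∑ T ∈ univ.powerset.filter (fun T : Finset E => LabGraph.IsSpanningTree ends T),
          ∏ v : V, ((β v : ℚ) ^ ((LabGraph.nbrCount ends T v : ℤ) - 2)) := by
  classical
  have h := Groth.L15.CompGrp.card_compGrp hβ hG
  rw [Groth.L15.CompGrp.tau_eq hG (univ.powerset.filter (fun T : Finset E => LabGraph.IsSpanningTree ends T))
    (fun T => by simp)] at h
  have hne : ∀ v, (β v : ℚ) ≠ 0 := fun v => Int.cast_ne_zero.2 (hβ v).1.ne'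
  have hP : (∏ v, (β v : ℚ)) ^ 2 ≠ 0 := pow_ne_zero _ (Finset.prod_ne_zero_iff.2 fun v _ => hne v)
  have key : ∀ T : Finset E, ∏ v : V, ((β v : ℚ) ^ ((LabGraph.nbrCount ends T v : ℤ) - 2)) =
      (∏ v : V, (β v : ℚ) ^ LabGraph.nbrCount ends T v) / (∏ v, (β v : ℚ)) ^ 2 := by
    intro T
    rw [← Finset.prod_pow, ← Finset.prod_div_distrib]
    refine Finset.prod_congr rfl fun v _ => ?_
    rw [zpow_sub₀ (hne v), zpow_natCast]
    norm_num [zpow_two, pow_two]
  simp only [key]
  rw [← Finset.sum_div, ← mul_div_assoc, eq_div_iff hP]
  exact_mod_cast h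

end Groth.Agent.S14803
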