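import Groth.Statements.S14804
import Groth.Agent.L15.CompGrp.Tree
-- import your own Groth.Agent.* helpers here

set_option autoImplicit false
universe u
open Finset
open LabGraph

namespace Groth.Agent.S14804

/-- In a connected finite multigraph G, a vertex v belongs to some cycle of G (here: v is an endpoint of
an edge of some circuit, a circuit being a minimal nonempty edge set meeting every vertex in an even
number of edge-ends, which includes loops and pairs of parallel edges) if and only if G has a
spanning tree T such that some edge outside T has v as an endpoint. (The published statement is for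
an arbitrary multigraph; when G is disconnected it has no spanning tree while a vertex may lie on a
cycle, so G is taken connected here, the case of dual graphs for which it is used.) -/
theorem result
    {V E : Type u} [Fintype V] [Fintype E] [DecidableEq V] [DecidableEq E]
    (ends : E → V × V) (hG : LabGraph.Connected ends) (v : V) :
    (∃ C : Finset E, LabGraph.IsCircuit ends C ∧ LabGraph.endCount ends C v ≠ 0) ↔
      ∃ T : Finset E, LabGraph.IsSpanningTree ends T ∧
        ∃ e : E, e ∉ T ∧ ((ends e).1 = v ∨ (ends e).2 = v) := by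
  classical
  constructor
  · rintro ⟨C, hC, hv⟩
    obtain ⟨e, heC, hev⟩ : ∃ e ∈ C, (ends e).1 = v ∨ (ends e).2 = v := by
      by_contra hh
      push Not at hh
      exact hv (Finset.sum_eq_zero fun f hf => by simp [(hh f hf).1, (hh f hf).2])
    let T₀ : Finset E := Finset.univ.erase e
    let ends' : T₀ → V × V := fun f => ends f.1
    have hsymm : ∀ a b, LabGraph.Adj ends' a b → LabGraph.Adj ends' b a := fun a b ⟨f, hf⟩ => ⟨f, hf.symm⟩
    have hpath : Relation.ReflTransGen (LabGraph.Adj ends') (ends e).1 (ends e).2 := by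
      by_contra hno
      let S : Finset V := Finset.univ.filter fun w => Relation.ReflTransGen (LabGraph.Adj ends') (ends e).1 w
      have hS : ∀ f, f ≠ e → ((ends f).1 ∈ S ↔ (ends f).2 ∈ S) := fun f hf => by
        simp only [S, Finset.mem_filter, Finset.mem_univ, true_and]
        have hadj : LabGraph.Adj ends' (ends f).1 (ends f).2 :=
          ⟨⟨f, Finset.mem_erase.2 ⟨hf, Finset.mem_univ _⟩⟩, Or.inl rfl⟩
        exact ⟨fun h => h.tail hadj, fun h => h.tail (hsymm _ _ hadj)⟩
      have h1 : (∑ w ∈ S, (LabGraph.endCount ends C w : ZMod 2)) = 0 :=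
        Finset.sum_eq_zero fun w _ => (ZMod.natCast_eq_zero_iff_even).2 (hC.2.1 w)
      have h2 : (∑ w ∈ S, (LabGraph.endCount ends C w : ZMod 2)) =
          ∑ f ∈ C, ((if (ends f).1 ∈ S then (1 : ZMod 2) else 0) + if (ends f).2 ∈ S then 1 else 0) := by
        simp only [LabGraph.endCount, Nat.cast_sum, Nat.cast_add, Nat.cast_ite, Nat.cast_one, Nat.cast_zero]
        rw [Finset.sum_comm]
        refine Finset.sum_congr rfl fun f _ => ?_
        rw [Finset.sum_add_distrib, Finset.sum_ite_eq, Finset.sum_ite_eq]
      rw [h1, Finset.sum_eq_single e (fun f _ hf => ?_) (fun h => absurd heC h)] at h2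
      · have ha : (ends e).1 ∈ S := Finset.mem_filter.2 ⟨Finset.mem_univ _, .refl⟩
        have hb : (ends e).2 ∉ S := fun h => hno (Finset.mem_filter.1 h).2
        simp [ha, hb] at h2
      · by_cases hm : (ends f).1 ∈ S
        · simp [hm, (hS f hf).1 hm, CharTwo.add_self_eq_zero]
        · simp [hm, mt (hS f hf).2 hm]
    have hconn : LabGraph.Connected ends' := by
      refine ⟨hG.1, fun a b => ?_⟩
      induction hG.2 a b with
      | refl => exact .refl
      | tail _ hab ih =>
        refine ih.trans ?_
        obtain ⟨f, hf⟩ := hab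
        by_cases hfe : f = e
        · subst hfe
          rcases hf with hf | hf <;> rw [hf] at hpath
          · exact hpath
          · exact Groth.L15.CompGrp.reflTransGen_symm hsymm hpath
        · exact .single ⟨⟨f, Finset.mem_erase.2 ⟨hfe, Finset.mem_univ _⟩⟩, hf⟩
    obtain ⟨c, hc, hsub⟩ := Groth.L15.CompGrp.exists_good_of_connected (ends := ends) v hconn
    exact ⟨_, Groth.L15.CompGrp.isSpanningTree_imgE hc, e,
      fun he => (Finset.mem_erase.1 (hsub he)).1 rfl, hev⟩
  · rintro ⟨T, hT, e, heT, hev⟩
    obtain ⟨c, hc, hsub⟩ := Groth.L15.CompGrp.exists_good_of_connected (ends := ends) v hT.1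
    obtain ⟨x, hx, hxp⟩ := Groth.L15.CompGrp.path_exists hc (ends e).1
    obtain ⟨y, hy, hyp⟩ := Groth.L15.CompGrp.path_exists hc (ends e).2
    let z : E → ZMod 2 := x + y + Pi.single e 1
    have hzp : ∀ w, Groth.L15.CompGrp.par ends z w = 0 := fun w => by
      rw [Groth.L15.CompGrp.par_add, Groth.L15.CompGrp.par_add, hxp, hyp, Groth.L15.CompGrp.par_single]
      split_ifs <;> decide
    have hout : ∀ f, f ≠ e → f ∉ T → z f = 0 := fun f hf hfT => by
      simp [z, hf, not_imp_comm.1 (hx f) (fun h => hfT (hsub h)), not_imp_comm.1 (hy f) (fun h => hfT (hsub h))]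
    have hze : z e = 1 := by
      simp [z, not_imp_comm.1 (hx e) (fun h => heT (hsub h)), not_imp_comm.1 (hy e) (fun h => heT (hsub h))]
    let C₀ : Finset E := Finset.univ.filter fun f => z f ≠ 0
    have heven : ∀ w, Even (LabGraph.endCount ends C₀ w) := fun w => by
      rw [← ZMod.natCast_eq_zero_iff_even, ← hzp w, LabGraph.endCount, Groth.L15.CompGrp.par, Nat.cast_sum,
        Finset.sum_filter]
      refine Finset.sum_congr rfl fun f _ => ?_
      rcases (show ∀ a : ZMod 2, a = 0 ∨ a = 1 by decide) (z f) with h | h <;> simp [h]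
    obtain ⟨C, hC, hmin⟩ := Finset.exists_min_image
      (Finset.univ.filter fun C : Finset E => C ⊆ C₀ ∧ C.Nonempty ∧ ∀ w, Even (LabGraph.endCount ends C w))
      Finset.card ⟨C₀, Finset.mem_filter.2 ⟨Finset.mem_univ _, subset_rfl,
        ⟨e, Finset.mem_filter.2 ⟨Finset.mem_univ _, by rw [hze]; decide⟩⟩, heven⟩⟩
    obtain ⟨-, hsub₀, hne, hev'⟩ := Finset.mem_filter.1 hC
    have hmin' : ∀ C' : Finset E, C' ⊂ C → C'.Nonempty → ∃ w, ¬ Even (LabGraph.endCount ends C' w) := by
      intro C' hlt hne'
      by_contra hh
      push Not at hh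
      have := hmin C' (Finset.mem_filter.2 ⟨Finset.mem_univ _, hlt.subset.trans hsub₀, hne', hh⟩)
      have := Finset.card_lt_card hlt
      omega
    have heC : e ∈ C := by
      by_contra hne_e
      have hCT : ∀ f ∈ C, f ∈ T := fun f hf => by
        by_contra hfT
        exact (Finset.mem_filter.1 (hsub₀ hf)).2 (hout f (fun h => hne_e (h ▸ hf)) hfT)
      let emb : T ↪ E := Function.Embedding.subtype _
      have hcount : ∀ (D : Finset T) w, LabGraph.endCount (fun f : T => ends f.1) D w =
          LabGraph.endCount ends (D.map emb) w := fun D w => by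
        simp only [LabGraph.endCount, Finset.sum_map]
        rfl
      have hmap : (C.subtype (· ∈ T)).map emb = C := Finset.subtype_map_of_mem hCT
      refine hT.2 (C.subtype (· ∈ T)) ⟨?_, fun w => ?_, fun D hD hDne => ?_⟩
      · rw [← Finset.map_nonempty (f := emb), hmap]; exact hne
      · rw [hcount, hmap]; exact hev' w
      · obtain ⟨w, hw⟩ := hmin' (D.map emb)
          (hmap ▸ Finset.map_ssubset_map.2 hD) (Finset.map_nonempty.2 hDne)
        exact ⟨w, by rwa [hcount]⟩
    refine ⟨C, ⟨hne, hev', hmin'⟩, fun h => ?_⟩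
    have := Finset.sum_eq_zero_iff.1 h e heC
    rcases hev with h' | h' <;> simp [h'] at this

end Groth.Agent.S14804
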