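import Groth.Statements.S14805
import Groth.Agent.L05.CompLat.Index

set_option autoImplicit false
open Finset
open CompLat

namespace Groth.Agent.S14805

/-- Let n ≥ 1 and let D, D' : ℤⁿ → ℤⁿ be given by diagonal matrices with nonzero diagonal entries (rank
n), A : ℤⁿ → ℤⁿ an integer matrix of rank n - 1, S : ℤⁿ → ℤ the sum of the coordinates and Δ : ℤ →
ℤⁿ the diagonal embedding; assume S D A = 0 and A D' Δ = 0, and let d > 0 with dℤ = im(S D), i.e. d
is the greatest common divisor of the diagonal entries of D. Then #(ker(S D)/im A) · |det D| = d ·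
#(ker S/im(D A)). -/
theorem result (n : ℕ) (hn : 0 < n) (δ δ' : Fin n → ℤ) (hδ : ∀ i, δ i ≠ 0) (hδ' : ∀ i, δ' i ≠ 0)
    (A : Matrix (Fin n) (Fin n) ℤ) (hA : A.rank = n - 1)
    (hSDA : (∑ i : Fin n, (LinearMap.proj i : (Fin n → ℤ) →ₗ[ℤ] ℤ)) ∘ₗ
        (Matrix.mulVecLin (Matrix.diagonal δ)) ∘ₗ (Matrix.mulVecLin A) = 0)
    (hADΔ : (Matrix.mulVecLin A) ∘ₗ (Matrix.mulVecLin (Matrix.diagonal δ')) ∘ₗ
        (LinearMap.pi fun _ : Fin n => (LinearMap.id : ℤ →ₗ[ℤ] ℤ)) = 0) :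
    (Nat.card (LinearMap.ker ((∑ i : Fin n, (LinearMap.proj i : (Fin n → ℤ) →ₗ[ℤ] ℤ)) ∘ₗ (Matrix.mulVecLin (Matrix.diagonal δ))) ⧸
          (LinearMap.range (Matrix.mulVecLin A)).comap (LinearMap.ker ((∑ i : Fin n, (LinearMap.proj i : (Fin n → ℤ) →ₗ[ℤ] ℤ)) ∘ₗ (Matrix.mulVecLin (Matrix.diagonal δ)))).subtype) : ℤ) * |∏ i, δ i| =
      (univ.gcd δ) * Nat.card (LinearMap.ker (∑ i : Fin n, (LinearMap.proj i : (Fin n → ℤ) →ₗ[ℤ] ℤ)) ⧸ (LinearMap.range ((Matrix.mulVecLin (Matrix.diagonal δ)) ∘ₗ (Matrix.mulVecLin A))).comap (LinearMap.ker (∑ i : Fin n, (LinearMap.proj i : (Fin n → ℤ) →ₗ[ℤ] ℤ))).subtype) := by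
  open Groth.L05.CompLat in
  have hD : ∀ (d : Fin n → ℤ) (x : Fin n → ℤ), Matrix.mulVecLin (Matrix.diagonal d) x = diagHom d x :=
    fun d x => funext fun i => Matrix.mulVec_diagonal d x i
  let Sm : (Fin n → ℤ) →ₗ[ℤ] ℤ := ∑ i : Fin n, LinearMap.proj i
  have hS : ∀ x : Fin n → ℤ, Sm x = Groth.L05.CompLat.sumHom n x := fun x => by
    simp [Sm, LinearMap.sum_apply, Groth.L05.CompLat.sumHom]
  let T := (Matrix.mulVecLin A).toAddMonoidHom.range
  have hT : T ≤ ((Groth.L05.CompLat.sumHom n).comp (Groth.L05.CompLat.diagHom δ)).ker := by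
    rintro _ ⟨x, rfl⟩
    show Groth.L05.CompLat.sumHom n (Groth.L05.CompLat.diagHom δ (Matrix.mulVecLin A x)) = 0
    rw [← hD, ← hS]
    exact LinearMap.congr_fun hSDA x
  have key := Groth.L05.CompLat.card_ker_sumDiag hn hδ T hT
  have e1 : T.relIndex ((Groth.L05.CompLat.sumHom n).comp (Groth.L05.CompLat.diagHom δ)).ker =
      T.relIndex (LinearMap.ker (Sm ∘ₗ Matrix.mulVecLin (Matrix.diagonal δ))).toAddSubgroup := by
    congr 1
    ext x
    simp [hS, hD]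
  have e2 : T.map (Groth.L05.CompLat.diagHom δ) =
      (LinearMap.range (Matrix.mulVecLin (Matrix.diagonal δ) ∘ₗ Matrix.mulVecLin A)).toAddSubgroup := by
    ext x
    simp [T, hD]
  have e3 : (Groth.L05.CompLat.sumHom n).ker = (LinearMap.ker Sm).toAddSubgroup := by
    ext x
    simp [hS]
  rw [e1, e2, e3] at key
  have key' := congrArg (Nat.cast : ℕ → ℤ) key
  simp only [Nat.cast_mul, Nat.cast_prod, Int.natCast_natAbs, ← Finset.abs_prod] at key'
  rw [abs_of_nonneg (show (0 : ℤ) ≤ univ.gcd δ by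
    rw [← Finset.normalize_gcd, ← Int.abs_eq_normalize]; exact abs_nonneg _)] at key'
  exact key'

end Groth.Agent.S14805
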