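import Groth.Statements.S14806
import Groth.Agent.L05.CompLat.Index

set_option autoImplicit false
open Finset
open CompLat

namespace Groth.Agent.S14806

/-- Let n ≥ 1, let D, D' : ℤⁿ → ℤⁿ be given by diagonal matrices with nonzero diagonal entries, A : ℤⁿ →
ℤⁿ an integer matrix of rank n - 1, S : ℤⁿ → ℤ the sum of the coordinates and Δ : ℤ → ℤⁿ the
diagonal embedding, with S D A = 0 and A D' Δ = 0; let d, d' be the greatest common divisors of the
diagonal entries of D and of D' (dℤ = im(S D), d'ℤ = im(S D')). Then #(ker(S D)/im A) · |det D| ·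
|det D'| = d d' · #(ker S/im(D A D')). -/
theorem result (n : ℕ) (hn : 0 < n) (δ δ' : Fin n → ℤ) (hδ : ∀ i, δ i ≠ 0) (hδ' : ∀ i, δ' i ≠ 0)
    (A : Matrix (Fin n) (Fin n) ℤ) (hA : A.rank = n - 1)
    (hSDA : (∑ i : Fin n, (LinearMap.proj i : (Fin n → ℤ) →ₗ[ℤ] ℤ)) ∘ₗ
        (Matrix.mulVecLin (Matrix.diagonal δ)) ∘ₗ (Matrix.mulVecLin A) = 0)
    (hADΔ : (Matrix.mulVecLin A) ∘ₗ (Matrix.mulVecLin (Matrix.diagonal δ')) ∘ₗ
        (LinearMap.pi fun _ : Fin n => (LinearMap.id : ℤ →ₗ[ℤ] ℤ)) = 0) :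
    (Nat.card (LinearMap.ker ((∑ i : Fin n, (LinearMap.proj i : (Fin n → ℤ) →ₗ[ℤ] ℤ)) ∘ₗ (Matrix.mulVecLin (Matrix.diagonal δ))) ⧸
          (LinearMap.range (Matrix.mulVecLin A)).comap (LinearMap.ker ((∑ i : Fin n, (LinearMap.proj i : (Fin n → ℤ) →ₗ[ℤ] ℤ)) ∘ₗ (Matrix.mulVecLin (Matrix.diagonal δ)))).subtype) : ℤ) * |∏ i, δ i| * |∏ i, δ' i| =
      (univ.gcd δ) * (univ.gcd δ') * Nat.card (LinearMap.ker (∑ i : Fin n, (LinearMap.proj i : (Fin n → ℤ) →ₗ[ℤ] ℤ)) ⧸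
          (LinearMap.range ((Matrix.mulVecLin (Matrix.diagonal δ)) ∘ₗ (Matrix.mulVecLin A) ∘ₗ (Matrix.mulVecLin (Matrix.diagonal δ')))).comap (LinearMap.ker (∑ i : Fin n, (LinearMap.proj i : (Fin n → ℤ) →ₗ[ℤ] ℤ))).subtype) := by
  have hD : ∀ (d : Fin n → ℤ) (x : Fin n → ℤ), Matrix.mulVecLin (Matrix.diagonal d) x = Groth.L05.CompLat.diagHom d x :=
    fun d x => funext fun i => Matrix.mulVec_diagonal d x i
  let Sm : (Fin n → ℤ) →ₗ[ℤ] ℤ := ∑ i : Fin n, LinearMap.proj i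
  have hS : ∀ x : Fin n → ℤ, Sm x = Groth.L05.CompLat.sumHom n x := fun x => by
    simp [Sm, LinearMap.sum_apply, Groth.L05.CompLat.sumHom]
  let Aₐ := (Matrix.mulVecLin A).toAddMonoidHom
  have hT : Aₐ.range ≤ ((Groth.L05.CompLat.sumHom n).comp (Groth.L05.CompLat.diagHom δ)).ker := by
    rintro _ ⟨x, rfl⟩
    show Groth.L05.CompLat.sumHom n (Groth.L05.CompLat.diagHom δ (Matrix.mulVecLin A x)) = 0
    rw [← hD, ← hS]
    exact LinearMap.congr_fun hSDA x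
  have hAδ' : Matrix.mulVecLin A δ' = 0 := by
    have h := LinearMap.congr_fun hADΔ 1
    have e : Matrix.mulVecLin (Matrix.diagonal δ') (fun _ => (1 : ℤ)) = δ' := by
      rw [hD]; exact funext fun i => mul_one _
    change Matrix.mulVecLin A (Matrix.mulVecLin (Matrix.diagonal δ') (fun _ => (1 : ℤ))) = 0 at h
    rwa [e] at h
  have key := Groth.L05.CompLat.card_ker_sumDiag hn hδ Aₐ.range hT
  have key2 := Groth.L05.CompLat.relIndex_map_diagHom_range hn hδ hδ' A hA hAδ'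
  have hle : (Groth.L05.CompLat.diagHom δ').range.map ((Groth.L05.CompLat.diagHom δ).comp Aₐ) ≤
      Aₐ.range.map (Groth.L05.CompLat.diagHom δ) := by
    rintro _ ⟨x, -, rfl⟩
    exact ⟨Aₐ x, ⟨x, rfl⟩, rfl⟩
  have hle2 : Aₐ.range.map (Groth.L05.CompLat.diagHom δ) ≤ (Groth.L05.CompLat.sumHom n).ker := by
    rintro _ ⟨x, hx, rfl⟩
    exact hT hx
  have key3 := AddSubgroup.relIndex_mul_relIndex _ _ _ hle hle2
  have e1 : ((Groth.L05.CompLat.sumHom n).comp (Groth.L05.CompLat.diagHom δ)).ker =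
      (LinearMap.ker (Sm ∘ₗ Matrix.mulVecLin (Matrix.diagonal δ))).toAddSubgroup := by
    ext x
    simp [hS, hD]
  have e2 : (Groth.L05.CompLat.diagHom δ').range.map ((Groth.L05.CompLat.diagHom δ).comp Aₐ) =
      (LinearMap.range (Matrix.mulVecLin (Matrix.diagonal δ) ∘ₗ Matrix.mulVecLin A ∘ₗ
        Matrix.mulVecLin (Matrix.diagonal δ'))).toAddSubgroup := by
    ext x
    simp [Aₐ, hD]
  have e3 : (Groth.L05.CompLat.sumHom n).ker = (LinearMap.ker Sm).toAddSubgroup := by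
    ext x
    simp [hS]
  have final : Aₐ.range.relIndex ((Groth.L05.CompLat.sumHom n).comp (Groth.L05.CompLat.diagHom δ)).ker *
      (∏ i, (δ i).natAbs) * (∏ i, (δ' i).natAbs) = (univ.gcd δ).natAbs * (univ.gcd δ').natAbs *
      ((Groth.L05.CompLat.diagHom δ').range.map ((Groth.L05.CompLat.diagHom δ).comp Aₐ)).relIndex
        (Groth.L05.CompLat.sumHom n).ker := by
    rw [key, ← key3, ← key2]
    ring
  rw [e1, e2, e3] at final
  have key' := congrArg (Nat.cast : ℕ → ℤ) final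
  simp only [Nat.cast_mul, Nat.cast_prod, Int.natCast_natAbs, ← Finset.abs_prod] at key'
  have hpos : ∀ d : Fin n → ℤ, (0 : ℤ) ≤ univ.gcd d := fun d => by
    rw [← Finset.normalize_gcd, ← Int.abs_eq_normalize]; exact abs_nonneg _
  rw [abs_of_nonneg (hpos δ), abs_of_nonneg (hpos δ')] at key'
  exact key'

end Groth.Agent.S14806
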