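import Groth.Statements.S14807
import Mathlib.GroupTheory.OrderOfElement
import Mathlib.Data.Fintype.Pigeonhole

set_option autoImplicit false
universe u
open CAlg

namespace Groth.Agent.S14807

/-- Let G be a finite abelian group, written additively, and ℓ a prime number. Every sequence (g_n)_{n ≥
0} of elements of G with ℓ^n · g_n = 0 and ℓ · g_{n+1} = g_n for all n is identically zero; in other
words the inverse limit of the subgroups of ℓ^n-torsion elements, with transition maps
multiplication by ℓ, vanishes. -/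
theorem result (G : Type u) [AddCommGroup G] [Finite G]
    (ℓ : ℕ) (hℓ : ℓ.Prime) (g : ℕ → G) (htor : ∀ n : ℕ, ℓ ^ n • g n = 0)
    (hcomp : ∀ n : ℕ, ℓ • g (n + 1) = g n) (n : ℕ) : g n = 0 := by
  classical
  obtain ⟨a, ha⟩ : ∃ a, ∀ n, ℓ ^ a • g n = 0 := by
    have key : ∀ m k, ℓ ^ k • g (m + k) = g m := by
      intro m k
      induction k with
      | zero => simp
      | succ k ih => rw [pow_succ, mul_smul, ← Nat.add_assoc, hcomp, ih]
    obtain ⟨N, hN⟩ : ∃ N, ∀ x : G, ∀ k, ℓ ^ k • x = 0 → ℓ ^ N • x = 0 := by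
      have : Fintype G := Fintype.ofFinite G
      have hx : ∀ x : G, ∃ N, ∀ k, ℓ ^ k • x = 0 → ℓ ^ N • x = 0 := fun x => by
        by_cases hk : ∃ k, ℓ ^ k • x = 0
        · exact ⟨hk.choose, fun k _ => hk.choose_spec⟩
        · exact ⟨0, fun k h => absurd ⟨k, h⟩ hk⟩
      choose N hN using hx
      refine ⟨Finset.univ.sup N, fun x k h => ?_⟩
      obtain ⟨c, hc⟩ := Nat.exists_eq_add_of_le (Finset.le_sup (f := N) (Finset.mem_univ x))
      rw [hc, add_comm, pow_add, mul_smul, hN x k h, smul_zero]
    exact ⟨N, fun m => hN _ m (htor m)⟩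
  have key : ∀ m k, ℓ ^ k • g (m + k) = g m := by
    intro m k
    induction k with
    | zero => simp
    | succ k ih => rw [pow_succ, mul_smul, ← Nat.add_assoc, hcomp, ih]
  rw [← key n a, ha]

end Groth.Agent.S14807
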