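import Groth.Statements.S14809
import Groth.Agent.L18.GenLocus
import Groth.Agent.L18.Ample
import Groth.Agent.L16.ProjSpace.Ample
import Groth.Agent.L08.Cube.SecCosec

set_option autoImplicit false
universe u
open CategoryTheory CategoryTheory.Limits AlgebraicGeometry
open PicF

namespace Groth.Agent.S14809

set_option backward.isDefEq.respectTransparency false
open Groth.L18.GenLoc Groth.L18.Frame

/-- Let X be an integral scheme such that Γ(X, O_X) is a field and L an invertible O_X-module with a
nonzero global section (a nonzero morphism O_X → L). If some tensor power L^{⊗d} with d ≥ 1 is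
isomorphic to O_X, then L itself is isomorphic to O_X. -/
theorem result (X : Scheme.{u}) [IsIntegral X]
    (hfield : IsField (Γ(X, ⊤) : Type u)) (L : X.Modules) (hL : PicF.IsInvertible L)
    (s : Coh.structureModule X ⟶ L) (hs : s ≠ 0) (d : ℕ) (hd : 0 < d)
    (htriv : Nonempty (CohB1.tensorPow L d ≅ Coh.structureModule X)) :
    Nonempty (L ≅ Coh.structureModule X) := by
  -- a frame of the zero section lives only on the empty open
  have hzero : ∀ {M : X.Modules} (u : Coh.structureModule X ⟶ M), CohB1.genLocus M u ≠ ⊥ → u ≠ 0 := by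
    intro M u hne h
    subst h
    refine hne (eq_bot_iff.2 fun x hx => ?_)
    exfalso
    have hF := isFrame_genLocus (0 : Coh.structureModule X ⟶ M)
    have hinj := (hF _ le_rfl).1
    have h1 : (1 : Γ(X, CohB1.genLocus M (0 : Coh.structureModule X ⟶ M))) = 0 := hinj (by
      show (1 : Γ(X, _)) • _ = (0 : Γ(X, _)) • _
      rw [show secOf (0 : Coh.structureModule X ⟶ M) = 0 from rfl]
      simp [rs])
    have : Nontrivial Γ(X, CohB1.genLocus M (0 : Coh.structureModule X ⟶ M)) :=
      haveI : Nonempty ↥(CohB1.genLocus M (0 : Coh.structureModule X ⟶ M)) := ⟨⟨x, hx⟩⟩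
      inferInstance
    exact one_ne_zero h1
  have hne : CohB1.genLocus L s ≠ ⊥ := by
    intro hbot
    refine hs ?_
    rw [← homOfSection_secOf s]
    choose W e hW he using fun x : X => exists_frame hL x
    choose a ha using fun x : X => (he x).exists_coeff le_rfl (rs L le_top (secOf s))
    simp only [rs_self] at ha
    have h0 : ∀ x, a x = 0 := fun x => by
      rw [← AlgebraicGeometry.basicOpen_eq_bot_iff, ← genLocus_inf_eq s (he x) (ha x), hbot, bot_inf_eq]
    have hsec : secOf s = 0 := by
      let OM : TopCat.Sheaf Ab.{u} X.toTopCat := ⟨L.presheaf, L.isSheaf⟩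
      refine OM.eq_of_locally_eq' W ⊤ (fun x => homOfLE le_top)
        (fun x _ => TopologicalSpace.Opens.mem_iSup.2 ⟨x, hW x⟩) (secOf s) 0 fun x => ?_
      show rs L le_top (secOf s) = rs L le_top 0
      rw [← ha x, h0, zero_smul]
      exact (map_zero _).symm
    rw [hsec]
    refine Scheme.Modules.hom_ext _ _ fun V => ?_
    ext r
    show (show Γ(X, V) from r) • rs L (le_top : V ≤ ⊤) 0 = 0
    rw [rs, map_zero, smul_zero]
  have hpow : ∀ n : ℕ, ∃ u : Coh.structureModule X ⟶ CohB1.tensorPow L (n + 1),
      CohB1.genLocus _ u = CohB1.genLocus L s := by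
    intro n
    induction n with
    | zero =>
      refine ⟨tensHom (𝟙 (Coh.structureModule X)) s, ?_⟩
      refine (genLocus_tensHom (Groth.L18.Ample.isInvertible_structureModule X) hL _ s).trans ?_
      have htop : CohB1.genLocus (Coh.structureModule X) (𝟙 (Coh.structureModule X)) = ⊤ :=
        eq_top_iff.2 (le_sSup (by
          show IsIso ((Scheme.Modules.restrictFunctor (⊤ : X.Opens).ι).map (𝟙 (Coh.structureModule X)))
          infer_instance))
      rw [htop, top_inf_eq]
    | succ n ih =>
      obtain ⟨u, hu⟩ := ih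
      refine ⟨tensHom u s, ?_⟩
      refine (genLocus_tensHom (Groth.L18.Ample.isInvertible_tensorPow hL _) hL u s).trans ?_
      rw [hu, inf_idem]
  obtain ⟨n, rfl⟩ := Nat.exists_eq_add_one.2 hd
  obtain ⟨u, hu⟩ := hpow n
  obtain ⟨φ⟩ := htriv
  let v := u ≫ φ.hom
  have hv : CohB1.genLocus _ v = CohB1.genLocus L s :=
    (Groth.L16.genLocus_comp_iso u φ).trans hu
  letI := hfield.toField
  have hσ : IsUnit (show Γ(X, ⊤) from secOf v) :=
    isUnit_iff_ne_zero.2 (Groth.L08.Cube.secOf_ne_zero (hzero v (hv ▸ hne)))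
  have htop : CohB1.genLocus _ v = ⊤ := by
    refine eq_top_iff.2 (le_genLocus v ?_)
    rw [rs_self]
    intro V h
    have hu' : IsUnit (ro h (show Γ(X, ⊤) from secOf v)) := hσ.map (X.presheaf.map (homOfLE h).op).hom
    exact ⟨fun p q hpq => hu'.mul_left_inj.1 hpq, fun c => ⟨(show Γ(X, V) from c) * ↑hu'.unit⁻¹, by
      show ((show Γ(X, V) from c) * ↑hu'.unit⁻¹) * ro h (show Γ(X, ⊤) from secOf v) = c
      rw [_root_.mul_assoc, hu'.val_inv_mul, _root_.mul_one]⟩⟩
  have hF := isFrame_genLocus s
  have hs' : CohB1.genLocus L s = ⊤ := hv.symm.trans htop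
  exact Groth.L08.Cube.nonempty_iso_of_frame_top (σ := secOf s) (by
    rw [hs'] at hF
    rwa [rs_self] at hF)

end Groth.Agent.S14809
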