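import Groth.Prelude.Def_Pic13
import Groth.Prelude.Def_FGA
import Groth.Prelude.Def_Pic
import Groth.Prelude.Def_CohB1
import Groth.Prelude.Def_Coh
import Mathlib.AlgebraicGeometry.Morphisms.Proper
import Mathlib.AlgebraicGeometry.Morphisms.ClosedImmersion
import Mathlib.Topology.KrullDimension
import Groth.Agent.L11.NumOrth.Main
import Groth.Agent.L11.NumOrth.NumZero
import Groth.Agent.L22.CurveThrough
import Groth.Agent.L08.Cube.NoCurve
-- import your own Groth.Agent.* helpers here

set_option autoImplicit false
universe u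
open CategoryTheory CategoryTheory.Limits AlgebraicGeometry
open Pic13

namespace Groth.Agent.S14810

/-- Let X be an integral scheme, proper over a field k, such that Γ(X, O_X) is a field, and let L be an
invertible O_X-module which is numerically trivial: its restriction to every closed subscheme of X
which is integral of dimension one has degree 0. If L has a nonzero global section (a nonzero
morphism O_X → L), then L is isomorphic to O_X. -/
theorem result (k : Type u) [Field k] (X : Scheme.{u})
    [X.Over (Spec (CommRingCat.of k))] [IsProper (X ↘ Spec (CommRingCat.of k))] [IsIntegral X]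
    (hfield : IsField (Γ(X, ⊤) : Type u)) (L : X.Modules) (hL : PicF.IsInvertible L)
    (hnum : Pic13.IsNumEquivZero k X L) (s : Coh.structureModule X ⟶ L) (hs : s ≠ 0) :
    Nonempty (L ≅ Coh.structureModule X) := by
  haveI := Groth.L21.RR.isNoetherian_of_proper (X := X) k
  by_cases htop : CohB1.genLocus L s = ⊤
  · exact Groth.L08.Cube.nonempty_iso_of_genLocus_eq_top s htop
  exfalso
  have hne : ((CohB1.genLocus L s : Set X)ᶜ).Nonempty := by
    by_contra h
    exact htop (TopologicalSpace.Opens.ext (Set.eq_univ_of_forall fun x => not_not.1 fun hx => h ⟨x, hx⟩))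
  obtain ⟨q, hqT, hq⟩ := (CohB1.genLocus L s).2.isClosed_compl.exists_closed_singleton hne
  obtain ⟨y, -, hyq, hyT, hy⟩ := Groth.L22.CurveThrough.exists_curve_avoiding k X
    (CohB1.genLocus L s).2.isClosed_compl ((genericPoint_spec X).specializes (Set.mem_univ q)) hq hqT
    (not_not.2 (Groth.L22.CurveAmple.genericPoint_mem_genLocus hL hs))
  haveI := Groth.L22.Inter.isIntegral_pt y
  let i := (Groth.L22.Inter.pt y).subschemeι
  let C := (Groth.L22.Inter.pt y).subscheme
  letI : C.Over (Spec (CommRingCat.of k)) := ⟨i ≫ (X ↘ Spec (CommRingCat.of k))⟩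
  haveI : IsProper (C ↘ Spec (CommRingCat.of k)) :=
    inferInstanceAs (IsProper (i ≫ (X ↘ Spec (CommRingCat.of k))))
  haveI := Groth.L21.RR.isNoetherian_of_proper (X := C) k
  have hy' : topologicalKrullDim (closure ({y} : Set X)) = (1 : ℕ) := by exact_mod_cast hy
  have hC : topologicalKrullDim C = (1 : ℕ) := by
    rw [← Groth.L22.Nef.dim_closure_image i, Groth.L22.Inter.genericPoint_pt, hy']
  obtain ⟨q₁, hq₁⟩ : q ∈ Set.range i := by
    rw [Groth.L22.Inter.range_pt]; exact specializes_iff_mem_closure.1 hyq
  let t := Groth.L18.Ample.pullHom i s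
  have hN := Groth.L18.Ample.isInvertible_pullback i hL
  have hgen : CohB1.genLocus _ t = i ⁻¹ᵁ CohB1.genLocus L s := Groth.L18.Ample.genLocus_pullHom i hL s
  have hη : genericPoint C ∈ CohB1.genLocus _ t := by
    rw [hgen]
    show i (genericPoint C) ∈ CohB1.genLocus L s
    rw [Groth.L22.Inter.genericPoint_pt]
    exact not_not.1 hyT
  haveI : Mono t := Groth.L22.Nakai.mono_of_injective (Groth.L18.Ample.isInvertible_structureModule C) t
    (Groth.L22.Big.bijective_stalk_section t hη).1
  obtain ⟨hD, hDη⟩ := Groth.L22.Big.cokernel_facts k (Groth.L18.Ample.isInvertible_structureModule C) hN t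
  haveI : Coh.IsQCoh ((Scheme.Modules.pullback i).obj L) := (Groth.L18.Ample.isCoh_of_isInvertible hN).1
  have hqD : q₁ ∈ CohB1.support (cokernel t) := by
    by_contra h
    rw [Groth.L03.Euler.notMem_support_cokernel_iff] at h
    have h' : q₁ ∈ CohB1.genLocus _ t := (Groth.L21.RR.mem_genLocus_iff hN t q₁).2 h
    rw [hgen] at h'
    exact hqT (show q ∈ CohB1.genLocus L s from hq₁ ▸ h')
  have hd0 : topologicalKrullDim (CohB1.support (cokernel t)) = ((0 : ℕ) : WithBot ℕ∞) := by
    refine le_antisymm (Groth.L22.Big.dim_le_of_generic_notMem (Groth.L16.CohSupport.isClosed_support _ hD.2) hDη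
      hC.le) ?_
    simpa using Groth.L03.Euler.zero_le_topologicalKrullDim (S := CohB1.support (cokernel t)) ⟨q₁, hqD⟩
  have hpos := ((Groth.L22.Inter.mixed k (Fin.elim0 : Fin 0 → C.Modules) Fin.elim0 (fun i => i.elim0)
    (fun i => i.elim0) hD hd0.le).2.2) hd0
  rw [← Groth.L11.NumOrth.altT_cons_coker k hN (fun i => i.elim0) t] at hpos
  have hzero := (Groth.L11.NumOrth.numZero_iff k hL).1 hnum y hy'
  have h5 := Groth.L22.Nef.altT_push_eq k i rfl hC (L := fun _ : Fin 1 => L) fun _ => hL
  rw [Groth.L22.Inter.genericPoint_pt, hzero] at h5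
  rw [show (Fin.cons ((Scheme.Modules.pullback i).obj L) (Fin.elim0 : Fin 0 → C.Modules) : Fin 1 → C.Modules) =
    fun _ => (Scheme.Modules.pullback i).obj L from funext fun j => Fin.cases rfl (fun l => l.elim0) j,
    h5] at hpos
  exact lt_irrefl _ hpos

end Groth.Agent.S14810
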