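import Groth.Prelude.Def_Pic13
import Groth.Prelude.Def_FGA
import Groth.Prelude.Def_Pic
import Groth.Prelude.Def_CohB1
import Groth.Prelude.Def_Coh
import Mathlib.AlgebraicGeometry.Morphisms.Proper
import Mathlib.AlgebraicGeometry.Morphisms.ClosedImmersion
import Mathlib.Topology.KrullDimension
import Groth.Prelude.Def_Mor2
import Mathlib.AlgebraicGeometry.Morphisms.Smooth
import Mathlib.AlgebraicGeometry.Morphisms.Etale
import Groth.Agent.L02.EtEuler.Main
import Groth.Agent.L22.Inter.Fga
import Groth.Agent.L19.IntegralHom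

set_option autoImplicit false
set_option linter.style.haveILetI false
namespace FGA
end FGA
universe u
open CategoryTheory CategoryTheory.Limits AlgebraicGeometry
open FGA

namespace Groth.Agent.S14813

/-- Let k be an arbitrary field and let X and X' be smooth, integral, proper k-schemes, X of dimension
n, with an étale k-morphism φ : X' → X (it is then finite étale); suppose φ is finite locally free
of constant degree d. Then χ(O_{X'}) = d · χ(O_X), where χ denotes the alternating sum of dim_k
H^i(·, O) over 0 ≤ i ≤ n (X' has dimension n as well). -/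
theorem result (k : Type u) [Field k] (X X' : Scheme.{u})
    [X.Over (Spec (CommRingCat.of k))] [X'.Over (Spec (CommRingCat.of k))]
    [IsProper (X ↘ Spec (CommRingCat.of k))] [IsProper (X' ↘ Spec (CommRingCat.of k))] [Smooth (X ↘ Spec (CommRingCat.of k))] [Smooth (X' ↘ Spec (CommRingCat.of k))]
    [IsIntegral X] [IsIntegral X'] (φ : X' ⟶ X) [Etale φ] (hφ : φ ≫ (X ↘ Spec (CommRingCat.of k)) = X' ↘ Spec (CommRingCat.of k))
    (d : ℕ) (hd : Mor2.IsFinLocFreeOfDeg d φ) (n : ℕ) (hn : topologicalKrullDim X = n) :
    FGA.eulerCharLE k X' (Coh.structureModule X') n = d * FGA.eulerCharLE k X (Coh.structureModule X) n := by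
  haveI : IsFinite φ := hd.1.1
  haveI := Groth.L21.RR.isNoetherian_of_proper (X := X) k
  haveI := Groth.L21.RR.isNoetherian_of_proper (X := X') k
  have hdim : topologicalKrullDim X ≤ n := hn.le
  rw [Groth.L22.Inter.eulerCharLE_eq k ((Groth.L19.topologicalKrullDim_le_of_isIntegralHom φ).trans hdim),
    Groth.L22.Inter.eulerCharLE_eq k hdim]
  rw [← Groth.L02.EtEuler.euler_pullback_etale d φ hφ (Groth.L27.Deg.isFinLocFreeOfRank_push φ hd.2)
    (Coh.structureModule X) Groth.L16.CohClosedPush.isCoh_structure]
  exact Groth.L03.Euler.euler_iso (Groth.L29.LocFree.pullbackUnitIso φ).symm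

end Groth.Agent.S14813
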