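import Groth.Statements.S14816
import Groth.Agent.L26.AV.TorsionFp

set_option autoImplicit false
universe u
open CategoryTheory MonoidalCategory CartesianMonoidalCategory MonObj GrpObj AlgebraicGeometry
open AbVar

namespace Groth.Agent.S14816

/-- Let k be an algebraically closed field of characteristic p > 0 which is algebraic over its prime
field (every element x satisfies x^(p^n) = x for some n ≥ 1) and let A be an abelian variety over k
(a proper, geometrically integral group scheme over k). Then every k-rational point of A has finite
order in the group A(k) of k-points. -/
theorem result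
    (p : ℕ) [Fact (Nat.Prime p)] (k : Type u) [Field k] [IsAlgClosed k] [CharP k p]
    (halg : ∀ x : k, ∃ n : ℕ, 0 < n ∧ x ^ (p ^ n) = x)
    (A : Over (Spec (CommRingCat.of k))) [GrpObj A] [IsProper A.hom] [GeometricallyIntegral A.hom]
    (a : 𝟙_ (Over (Spec (CommRingCat.of k))) ⟶ A) : IsOfFinOrder a := by
  exact Groth.Agent.AV.TorsionFp.isOfFinOrder_point halg a

end Groth.Agent.S14816
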