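import Groth.Statements.S14818
import Groth.Agent.L18.NormModule
import Groth.Agent.L18.NormFlat
import Groth.Agent.L21.RR.PicFieldExt

set_option autoImplicit false
universe u
open CategoryTheory CategoryTheory.Limits AlgebraicGeometry
open PicF

namespace Groth.Agent.S14818

open Groth.L18.Frame Groth.L18.GenLoc Groth.L18.NormDesc

/-- Let X be a connected locally Noetherian scheme, f : X' → X a finite locally free morphism of
constant degree d (a finite flat covering of X of degree d) and L an invertible O_X-module whose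
pullback f^*L is isomorphic to O_{X'}. Then L^{⊗d} ≅ O_X; in particular L has finite order in Pic(X)
dividing the degree of f. -/
theorem result (X X' : Scheme.{u})
    [IsLocallyNoetherian X] [ConnectedSpace X] (f : X' ⟶ X) (d : ℕ) (hf : Mor2.IsFinLocFreeOfDeg d f)
    (L : X.Modules) (hL : PicF.IsInvertible L)
    (htriv : Nonempty ((Scheme.Modules.pullback f).obj L ≅ Coh.structureModule X')) :
    Nonempty (CohB1.tensorPow L d ≅ Coh.structureModule X) := by
  rcases Nat.eq_zero_or_pos d with rfl | hd
  · exact ⟨Iso.refl _⟩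
  haveI : IsFinite f := hf.1.1
  obtain ⟨N⟩ := Groth.L18.NormFree.hasNorm_of_isFinLocFreeOfDeg hd hf
  obtain ⟨ψ⟩ := htriv
  have he : IsFrame ((Scheme.Modules.pullback f).obj L) ⊤
      (rs ((Scheme.Modules.pullback f).obj L) le_top (secOf ψ.inv)) :=
    (isIso_restrict_iff_isFrame ψ.inv ⊤).1 inferInstance
  generalize rs ((Scheme.Modules.pullback f).obj L) le_top (secOf ψ.inv) = e at he
  choose V g hyV hg using exists_frame hL
  choose a ha using fun i => he.exists_coeff le_top (pull f L (V i) (g i))
  have hau : ∀ i, IsUnit (a i) := fun i => isUnit_of_isFrame (he.mono le_top) (by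
    rw [ha]; exact (hg i).pullback f L)
  have hbu : ∀ i, IsUnit (N.norm (V i) (a i)) := fun i => (hau i).map (N.norm (V i))
  choose c hc using fun i => (hbu i).exists_left_inv
  let τ : ∀ i, Γ(CohB1.tensorPow L d, V i) := fun i => c i • pf (g i) d
  have hcov : ∀ y, ∃ i, y ∈ V i := fun y => ⟨y, hyV y⟩
  obtain ⟨σ, hσ, -⟩ := TopCat.Sheaf.existsUnique_gluing'
    (⟨(CohB1.tensorPow L d).presheaf, (CohB1.tensorPow L d).isSheaf⟩ : TopCat.Sheaf Ab X.toTopCat) V ⊤
    (fun _ => homOfLE le_top) (fun y _ => TopologicalSpace.Opens.mem_iSup.2 (hcov y)) τ fun i j => by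
      show rs _ (inf_le_left : V i ⊓ V j ≤ V i) (τ i) = rs _ (inf_le_right : V i ⊓ V j ≤ V j) (τ j)
      set W := V i ⊓ V j
      have hl : W ≤ V i := inf_le_left
      have hr : W ≤ V j := inf_le_right
      obtain ⟨t, ht⟩ := (hg i).exists_coeff hl (rs L hr (g j))
      have hpull : ∀ (k : X) (h : W ≤ V k), ro (f.preimage_mono h) (a k) • rs _ (le_top : f ⁻¹ᵁ W ≤ ⊤) e =
          pull f L W (rs L h (g k)) := fun k h => by
        have h1 := congrArg (rs _ (f.preimage_mono h)) (ha k)
        rwa [rs_smul, rs_rs, pull_rs] at h1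
      have hmul : ro (f.preimage_mono hr) (a j) = f.app W t * ro (f.preimage_mono hl) (a i) := by
        refine he.inj (le_top : f ⁻¹ᵁ W ≤ ⊤) ?_
        rw [mul_smul, hpull i hl, hpull j hr, ← pull_smul, ht]
      have hn := congrArg (N.norm W) hmul
      rw [map_mul, N.norm_app] at hn
      simp only [τ, rs_smul, pf_rs]
      rw [← ht, pf_smul, ← mul_smul]
      refine congrArg (· • pf (rs L hl (g i)) d) ?_
      have e1 : ∀ (k : X) (h : W ≤ V k), ro h (c k) * N.norm W (ro (f.preimage_mono h) (a k)) = 1 := fun k h => by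
        have h2 : ro h (N.norm (V k) (a k)) = N.norm W (ro (f.preimage_mono h) (a k)) := N.norm_res (homOfLE h) (a k)
        rw [← h2, ← ro_mul, hc k]
        exact map_one _
      calc ro hl (c i) = ro hl (c i) * (ro hr (c j) * N.norm W (ro (f.preimage_mono hr) (a j))) := by
            rw [e1 j hr, mul_one]
        _ = (ro hr (c j) * t ^ d) * (ro hl (c i) * N.norm W (ro (f.preimage_mono hl) (a i))) := by
            rw [hn]; ring
        _ = ro hr (c j) * t ^ d := by rw [e1 i hl, mul_one]
  have hframe : IsFrame (CohB1.tensorPow L d) ⊤ σ :=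
    IsFrame.of_cover V (fun _ => le_top) (fun y _ => TopologicalSpace.Opens.mem_iSup.2 (hcov y)) fun i => by
      show IsFrame _ _ (rs _ _ σ)
      rw [show rs (CohB1.tensorPow L d) (le_top : V i ≤ ⊤) σ = τ i from hσ i]
      exact (isFrame_pf (hg i) d).smul_unit (IsUnit.of_mul_eq_one _ (hc i))
  exact ⟨(Groth.L21.PicExt.nonempty_iso_of_isFrame_top hframe).some.symm⟩

end Groth.Agent.S14818
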