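import Groth.Prelude.Def_Pic
import Groth.Prelude.Def_Coh
import Groth.Prelude.Def_CohB1
import Groth.Prelude.Def_Pi1
import Mathlib.AlgebraicGeometry.Noetherian
import Mathlib.AlgebraicGeometry.Morphisms.Finite
import Mathlib.AlgebraicGeometry.Morphisms.Etale
import Mathlib.Algebra.CharP.Defs
import Groth.Agent.L02.PicTors.Root
import Groth.Agent.L12.FrobLift.Pow
import Groth.Agent.L08.Cube.Inverse
import Groth.Agent.L08.Cube.NP.Glue
import Groth.Agent.L19.ProjBdl.PullComp
import Groth.Agent.L21.RR.Coh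
import Mathlib.AlgebraicGeometry.Morphisms.Etale
import Mathlib.AlgebraicGeometry.Morphisms.Finite
import Mathlib.Algebra.CharP.Frobenius

set_option autoImplicit false
set_option linter.style.haveILetI false
namespace PicF
end PicF
universe u
open CategoryTheory CategoryTheory.Limits AlgebraicGeometry
open PicF

namespace Groth.Agent.S14819

/-- Let X be an integral Noetherian scheme which is normal (all local rings integrally closed domains)
and whose ring of global functions Γ(X, O_X) is a field of characteristic p > 0; let L be an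
invertible O_X-module of exact order d in Pic(X), i.e. L^{⊗d} ≅ O_X with d ≥ 1 and L^{⊗i} not
isomorphic to O_X for 0 < i < d, and suppose p divides d. Let X' be a connected scheme such that
every unit of Γ(X', O_{X'}) has a p-th root. Then no finite étale morphism f : X' → X (a finite
étale covering of X by X') satisfies f^*L ≅ O_{X'}. -/
theorem result (X X' : Scheme.{u})
    [IsIntegral X] [IsNoetherian X] (hnorm : Pi1.IsNormalScheme X)
    (hfield : IsField (Γ(X, ⊤) : Type u)) (p : ℕ) [Fact (Nat.Prime p)] [CharP (Γ(X, ⊤) : Type u) p]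
    (L : X.Modules) (hL : PicF.IsInvertible L) (d : ℕ) (hd : 0 < d)
    (hord : Nonempty (CohB1.tensorPow L d ≅ Coh.structureModule X))
    (hmin : ∀ i : ℕ, 0 < i → i < d → IsEmpty (CohB1.tensorPow L i ≅ Coh.structureModule X))
    (hpd : p ∣ d) [ConnectedSpace X']
    (hroot : ∀ u : (Γ(X', ⊤) : Type u), IsUnit u → ∃ v : (Γ(X', ⊤) : Type u), v ^ p = u)
    (f : X' ⟶ X) [IsFinite f] [Etale f] :
    IsEmpty ((Scheme.Modules.pullback f).obj L ≅ Coh.structureModule X') := by
  refine ⟨fun ψ => ?_⟩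
  have hp : p.Prime := Fact.out
  obtain ⟨q, rfl⟩ : ∃ q, d = q * p := by obtain ⟨q, hq⟩ := hpd; exact ⟨q, hq.trans (mul_comm _ _)⟩
  have hq : 0 < q := Nat.pos_of_mul_pos_right hd
  refine (hmin q hq (by nlinarith [hp.two_le])).elim (Nonempty.some ?_)
  choose O e hxO he using fun x : X => Groth.L18.Frame.exists_frame hL x
  choose W hW hxW hWO using fun x : X => exists_isAffineOpen_mem_and_subset (hxO x)
  let ε : ∀ x, Γ(L, W x) := fun x => Groth.L18.Frame.rs L (hWO x) (e x)
  have hε : ∀ x, Groth.L18.Frame.IsFrame L (W x) (ε x) := fun x => (he x).mono (hWO x)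
  haveI : ∀ x, Nonempty (W x) := fun x => ⟨⟨x, hxW x⟩⟩
  -- the global frames
  obtain ⟨G, hG⟩ : ∃ G, Groth.L18.Frame.IsFrame (CohB1.tensorPow L (q * p)) ⊤ G :=
    ⟨_, Groth.L19.ProjBdl.isFrame_of_iso hord.some.symm Groth.L21.RR.isFrame_oneSec⟩
  obtain ⟨τ, hτ⟩ : ∃ τ, Groth.L18.Frame.IsFrame ((Scheme.Modules.pullback f).obj L) ⊤ τ :=
    ⟨_, Groth.L19.ProjBdl.isFrame_of_iso ψ.symm Groth.L21.RR.isFrame_oneSec⟩
  choose w hw using fun x => (hτ.mono (le_top : f ⁻¹ᵁ W x ≤ ⊤)).exists_coeff le_rfl (Groth.L18.Frame.pull f L (W x) (ε x))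
  choose u hu using fun x => (hG.mono (le_top : W x ≤ ⊤)).exists_coeff le_rfl (Groth.L12.FrobLift.pf (ε x) (q * p))
  simp only [Groth.L18.Frame.rs_self] at hw hu
  have hwu : ∀ x, IsUnit (w x) := fun x => Groth.L18.Frame.isUnit_of_isFrame (hτ.mono le_top) (by
    rw [hw x]; exact (hε x).pullback f L)
  have huu : ∀ x, IsUnit (u x) := fun x => Groth.L18.Frame.isUnit_of_isFrame (hG.mono le_top) (by
    rw [hu x]; exact Groth.L12.FrobLift.isFrame_pf (hε x) _)
  choose g hg using fun x y => ((hε x).mono (inf_le_left : W x ⊓ W y ≤ W x)).exists_coeff le_rfl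
    (Groth.L18.Frame.rs L inf_le_right (ε y))
  simp only [Groth.L18.Frame.rs_self] at hg
  -- transition functions
  have hgu : ∀ x y, g x y ^ (q * p) * Groth.L18.Frame.ro inf_le_left (u x) =
      Groth.L18.Frame.ro inf_le_right (u y) := fun x y => by
    refine hG.inj (le_top : W x ⊓ W y ≤ ⊤) ?_
    have e1 := congrArg (Groth.L18.Frame.rs _ (inf_le_left : W x ⊓ W y ≤ W x)) (hu x)
    have e2 := congrArg (Groth.L18.Frame.rs _ (inf_le_right : W x ⊓ W y ≤ W y)) (hu y)
    rw [Groth.L18.Frame.rs_smul, Groth.L18.Frame.rs_rs, Groth.L12.FrobLift.pf_rs] at e1 e2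
    rw [mul_smul, e1, e2, ← hg x y, Groth.L12.FrobLift.pf_smul]
  have hgw : ∀ x y, f.app _ (g x y) * Groth.L18.Frame.ro (f.preimage_mono inf_le_left) (w x) =
      Groth.L18.Frame.ro (f.preimage_mono inf_le_right) (w y) := fun x y => by
    refine hτ.inj (le_top : f ⁻¹ᵁ (W x ⊓ W y) ≤ ⊤) ?_
    have e1 := congrArg (Groth.L18.Frame.rs _ (f.preimage_mono (inf_le_left : W x ⊓ W y ≤ W x))) (hw x)
    have e2 := congrArg (Groth.L18.Frame.rs _ (f.preimage_mono (inf_le_right : W x ⊓ W y ≤ W y))) (hw y)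
    rw [Groth.L18.Frame.rs_smul, Groth.L18.Frame.rs_rs, Groth.L18.Frame.pull_rs f L inf_le_left] at e1
    rw [Groth.L18.Frame.rs_smul, Groth.L18.Frame.rs_rs, Groth.L18.Frame.pull_rs f L inf_le_right] at e2
    rw [mul_smul, e1, e2, ← hg x y, Groth.L18.Frame.pull_smul]
  -- the global unit upstairs
  let a : ∀ x, Γ(X', f ⁻¹ᵁ W x) := fun x => f.app _ (u x) * (↑(hwu x).unit⁻¹ : Γ(X', f ⁻¹ᵁ W x)) ^ (q * p)
  have ha : ∀ x, a x * w x ^ (q * p) = f.app _ (u x) := fun x => by
    show _ * _ * _ = _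
    rw [mul_assoc, ← mul_pow, IsUnit.val_inv_mul, one_pow, mul_one]
  have hau : ∀ x, IsUnit (a x) := fun x => ((huu x).map _).mul ((Units.isUnit _).pow _)
  have hcompat : ∀ x y, Groth.L18.Frame.ro (f.preimage_mono (inf_le_left : W x ⊓ W y ≤ W x)) (a x) =
      Groth.L18.Frame.ro (f.preimage_mono (inf_le_right : W x ⊓ W y ≤ W y)) (a y) := fun x y => by
    have hU : IsUnit (Groth.L18.Frame.ro (f.preimage_mono (inf_le_right : W x ⊓ W y ≤ W y)) (w y) ^ (q * p)) :=
      ((hwu y).map _).pow _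
    refine hU.mul_right_cancel ?_
    have hr : ∀ (V : X.Opens) (hV : V ≤ W x) (hV' : V ≤ W y),
        Groth.L18.Frame.ro (f.preimage_mono hV') (f.app _ (u y)) = f.app V (Groth.L18.Frame.ro hV' (u y)) :=
      fun V _ hV' => (ConcreteCategory.congr_hom (f.naturality (homOfLE hV').op) (u y)).symm
    have hr' : Groth.L18.Frame.ro (f.preimage_mono (inf_le_left : W x ⊓ W y ≤ W x)) (f.app _ (u x)) =
        f.app _ (Groth.L18.Frame.ro inf_le_left (u x)) :=
      (ConcreteCategory.congr_hom (f.naturality (homOfLE (inf_le_left : W x ⊓ W y ≤ W x)).op) (u x)).symm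
    have ey := congrArg (Groth.L18.Frame.ro (f.preimage_mono (inf_le_right : W x ⊓ W y ≤ W y))) (ha y)
    have ex := congrArg (Groth.L18.Frame.ro (f.preimage_mono (inf_le_left : W x ⊓ W y ≤ W x))) (ha x)
    rw [hr' ] at ex
    rw [hr _ inf_le_left inf_le_right, ← hgu x y] at ey
    simp only [Groth.L18.Frame.ro, map_mul, map_pow] at ex ey ⊢
    refine Eq.trans ?_ ey.symm
    rw [← ex]
    have egw := hgw x y
    simp only [Groth.L18.Frame.ro] at egw
    rw [← egw, mul_pow]
    ring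
  obtain ⟨c, hc, -⟩ := X'.sheaf.existsUnique_gluing' (fun x => f ⁻¹ᵁ W x) ⊤ (fun x => homOfLE le_top)
    (fun x' _ => TopologicalSpace.Opens.mem_iSup.2 ⟨f x', hxW _⟩) a fun x y => hcompat x y
  have hcu : IsUnit c := by
    refine X'.toRingedSpace.isUnit_of_isUnit_germ ⊤ c fun x' _ => ?_
    have h := (hau (f x')).map (X'.presheaf.germ (f ⁻¹ᵁ W (f x')) x' (hxW (f x'))).hom
    rw [← hc (f x')] at h
    have hres := TopCat.Presheaf.germ_res_apply X'.presheaf (homOfLE (le_top : f ⁻¹ᵁ W (f x') ≤ ⊤)) x'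
      (hxW (f x')) c
    exact hres ▸ h
  obtain ⟨v, hv⟩ := hroot c hcu
  -- a point over the generic point
  obtain ⟨x₀, hx₀⟩ : ∃ x', f x' = genericPoint X := by
    have hclopen : IsClopen (Set.range f) := ⟨f.isClosedMap.isClosed_range, f.isOpenMap.isOpen_range⟩
    have hne : (Set.range f).Nonempty := Set.range_nonempty _
    exact (hclopen.eq_univ hne).symm.subset (Set.mem_univ _)
  haveI hchar : ∀ V : X.Opens, ∀ [Nonempty V], CharP Γ(X, V) p := fun V _ => by
    refine (CharP.charP_iff_prime_eq_zero hp).2 ?_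
    have := map_natCast (X.presheaf.map (homOfLE (le_top : V ≤ ⊤)).op).hom p
    rw [← this, CharP.cast_eq_zero, map_zero]
  have hzex : ∀ x, ∃ z, z ^ p = u x := fun x => by
    refine Groth.L02.PicTors.exists_root hnorm f p x₀ hx₀ (hW x) inferInstance ?_ (u x)
      (Groth.L18.Frame.ro le_top v * w x ^ q) ?_
    · rw [hx₀]
      exact ((genericPoint_spec X).mem_open_set_iff (W x).2).2 ⟨x, trivial, hxW x⟩
    · rw [← ha x, mul_pow, ← pow_mul, ← map_pow, hv]
      exact congrArg (· * _) (hc x).symm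
  choose z hz using hzex
  have hzu : ∀ x, IsUnit (z x) := fun x => (isUnit_pow_iff hp.ne_zero).1 ((hz x).symm ▸ huu x)
  obtain ⟨F, hF⟩ := Groth.L08.Cube.NP.exists_frame_top W (fun y => ⟨y, hxW y⟩)
    (fun x => Groth.L12.FrobLift.pf (ε x) q) (fun x => Groth.L12.FrobLift.isFrame_pf (hε x) q) z hzu fun x y => by
      haveI : ∀ V : X.Opens, V = W x ⊓ W y → Nonempty V := by
        rintro _ rfl
        refine ⟨⟨genericPoint X, ?_, ?_⟩⟩ <;>
          exact ((genericPoint_spec X).mem_open_set_iff (W _).2).2 ⟨_, trivial, hxW _⟩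
      haveI := this _ rfl
      haveI := hchar (W x ⊓ W y)
      have key : Groth.L18.Frame.ro inf_le_right (z y) = Groth.L18.Frame.ro inf_le_left (z x) * g x y ^ q := by
        refine frobenius_inj Γ(X, W x ⊓ W y) p ?_
        simp only [frobenius_def, mul_pow, ← map_pow, hz, ← pow_mul]
        exact (hgu x y).symm.trans (mul_comm _ _)
      rw [key, mul_smul, Groth.L12.FrobLift.pf_rs, Groth.L12.FrobLift.pf_rs, ← hg x y, Groth.L12.FrobLift.pf_smul]
  exact Groth.L08.Cube.nonempty_iso_of_frame_top hF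

end Groth.Agent.S14819
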