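import Groth.Statements.S1482
import Groth.Agent.L20.Weight.IsolateNonSep

set_option autoImplicit false
universe u
open FlatMor

set_option backward.isDefEq.respectTransparency.types false
namespace Groth.Agent.S1482

open AlgebraicGeometry CategoryTheory Limits in
/-- Let f : X → S be locally of finite type, s a point of S and x_1, …, x_n pairwise distinct points
over s at which f is quasi-finite. Then there are an étale morphism g : U → S with a point u over s
and, for each i, finitely many opens V_{i,j} of X_U = X ×_S U, each finite over U and containing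
exactly one point v_{i,j} over u, with κ(v_{i,j}) finite purely inseparable over κ(u), the v_{i,j}
pairwise distinct, v_{i,j} mapping to x_i, and every point of X_U over u mapping to some x_i equal
to one of the v_{i,j}. -/
theorem result {X S : Scheme.{u}} (f : X ⟶ S) [LocallyOfFiniteType f] (s : S) {ι : Type} [Finite ι]
    (x : ι → ↑X) (hinj : Function.Injective x) (hs : ∀ i, f (x i) = s) (hx : ∀ i, f.QuasiFiniteAt (x i)) :
    ∃ (U : Scheme.{u}) (g : U ⟶ S) (u : U), Etale g ∧ g u = s ∧
      ∃ (J : ι → Type) (_ : ∀ i, Finite (J i)) (V : ∀ i, J i → (pullback f g).Opens) (v : ∀ i, J i → ↑(pullback f g)),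
        (∀ i j, v i j ∈ V i j ∧ IsFinite ((V i j).ι ≫ pullback.snd f g) ∧ pullback.snd f g (v i j) = u ∧
          (∀ w : ↑(pullback f g), w ∈ V i j → pullback.snd f g w = u → w = v i j) ∧
          (letI := ((pullback.snd f g).residueFieldMap (v i j)).hom.toAlgebra
           Module.Finite ↑(U.residueField (pullback.snd f g (v i j))) ↑((pullback f g).residueField (v i j)) ∧
           IsPurelyInseparable ↑(U.residueField (pullback.snd f g (v i j))) ↑((pullback f g).residueField (v i j))) ∧
          pullback.fst f g (v i j) = x i) ∧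
        (∀ i j i' j', v i j = v i' j' → i = i' ∧ HEq j j') ∧
        (∀ (w : ↑(pullback f g)) (i : ι), pullback.snd f g w = u → pullback.fst f g w = x i → ∃ j, w = v i j) := by
  classical
  haveI := Fintype.ofFinite ι
  obtain ⟨U, g, u, hg, hus, κ, _, W, v, hvi, hWv, hcov⟩ :=
    Groth.L20.Weight.exists_isolate_nonsep f s (Finset.univ.image x) (fun y hy => by
      obtain ⟨i, -, rfl⟩ := Finset.mem_image.1 hy; exact hx i)
  let K : ι → Set κ := fun i => {a | pullback.fst f g (v a) = x i}
  let e : ∀ i, Fin (Nat.card (K i)) ≃ K i := fun i => (Finite.equivFin (K i)).symm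
  refine ⟨U, g, u, hg, hus, fun i => Fin (Nat.card (K i)), fun i => inferInstance,
    fun i j => W (e i j).1, fun i j => v (e i j).1, fun i j => ?_, ?_, ?_⟩
  · obtain ⟨h1, h2, h3, h4, h5, h6, -⟩ := hWv (e i j).1
    exact ⟨h1, h2, h3, h4, ⟨h6, h5⟩, (e i j).2⟩
  · intro i j i' j' h
    have h1 : (e i j).1 = (e i' j').1 := hvi h
    have hii : i = i' := hinj (by
      have h2 := (e i j).2
      have h3 := (e i' j').2
      simp only [K, Set.mem_ofPred_eq] at h2 h3
      rw [← h2, ← h3, h1])
    subst hii
    exact ⟨rfl, heq_of_eq ((e i).injective (Subtype.ext h1))⟩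
  · intro w i hwu hwx
    obtain ⟨a, ha⟩ := hcov w hwu (Finset.mem_image.2 ⟨i, Finset.mem_univ _, hwx.symm⟩)
    have hva : a ∈ K i := by
      show pullback.fst f g (v a) = x i
      rw [← ha, hwx]
    exact ⟨(e i).symm ⟨a, hva⟩, by show w = v (e i _).1; rw [Equiv.apply_symm_apply]; exact ha⟩

end Groth.Agent.S1482
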