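import Groth.Statements.S14820
import Groth.Agent.L26.AV.Image
import Groth.Agent.L26.AV.GenericMax
import Groth.Agent.L26.AV.Hom
import Groth.Agent.L26.AV.SmoothField
import Mathlib.AlgebraicGeometry.Group.Smooth

set_option autoImplicit false
universe u
open CategoryTheory MonoidalCategory CartesianMonoidalCategory MonObj GrpObj AlgebraicGeometry
open AbVar

namespace Groth.Agent.S14820

open CategoryTheory.Limits
set_option backward.isDefEq.respectTransparency.types false

variable {k : Type u} [Field k]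

def IsAbSub (G M : Over (Spec (CommRingCat.of k))) [GrpObj G] (i : M ⟶ G) : Prop :=
  ∃ _ : GrpObj M, IsMonHom i ∧ IsClosedImmersion i.left ∧ IsProper M.hom ∧ GeometricallyIntegral M.hom

theorem isMonHom_mul_of_one {A G : Over (Spec (CommRingCat.of k))} [GrpObj A] [IsProper A.hom]
    [GeometricallyIntegral A.hom] [GrpObj G] [LocallyOfFiniteType G.hom]
    (f g : A ⟶ G) (hf : η[A] ≫ f = η[G]) (hg : η[A] ≫ g = η[G]) : IsMonHom (f * g) := by
  have : IsSeparated G.hom := Groth.Agent.AV.isSeparated_of_grpObj G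
  refine Groth.Agent.AV.isMonHom_of_one _ ?_
  have h1 : η[G] = (1 : 𝟙_ _ ⟶ G) := by
    rw [Hom.one_def, toUnit_unique (toUnit _) (𝟙 _), Category.id_comp]
  rw [MonObj.comp_mul, hf, hg, h1, _root_.mul_one]

/-- Let k be an arbitrary field and G a commutative group scheme locally of finite type over k. Then
there is a closed subgroup scheme M of G which is an abelian variety over k (proper and
geometrically integral) and through which every homomorphism A → G from an abelian variety A over k
(a geometrically reduced, connected, proper k-group scheme) factors. -/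
theorem result (k : Type u) [Field k]
    (G : Over (Spec (CommRingCat.of k))) [GrpObj G] [IsCommMonObj G] [LocallyOfFiniteType G.hom] :
    ∃ (M : Over (Spec (CommRingCat.of k))) (_ : GrpObj M) (i : M ⟶ G), IsMonHom i ∧ IsClosedImmersion i.left ∧
      IsProper M.hom ∧ GeometricallyIntegral M.hom ∧
      ∀ (A : Over (Spec (CommRingCat.of k))) [GrpObj A] [IsProper A.hom] [GeometricallyReduced A.hom] [ConnectedSpace ↥A.left]
        (φ : A ⟶ G), IsMonHom φ → ∃ ψ : A ⟶ M, ψ ≫ i = φ := by
  have hsepG : IsSeparated G.hom := Groth.Agent.AV.isSeparated_of_grpObj G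
  have : IsLocallyNoetherian G.left := LocallyOfFiniteType.isLocallyNoetherian G.hom
  let e : G.left := η[G].left (Nonempty.some (inferInstance : Nonempty ↥(Spec (CommRingCat.of k))))
  let T : Set G.left := {x | ∃ (M : Over (Spec (CommRingCat.of k))) (i : M ⟶ G),
    IsAbSub G M i ∧ IsGenericPoint x (Set.range i.left)}
  have hgen : ∀ (M : Over (Spec (CommRingCat.of k))) (i : M ⟶ G), IsAbSub G M i →
      ∃ x, IsGenericPoint x (Set.range i.left) := by
    rintro M i ⟨_, _, hcl, _, hgi⟩
    have : IsIntegral M.left := GeometricallyIntegral.isIntegral_of_subsingleton M.hom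
    have hirr := (IrreducibleSpace.isIrreducible_univ ↥M.left).image i.left
      i.left.continuous.continuousOn
    rw [Set.image_univ] at hirr
    exact ⟨_, hirr.isGenericPoint_genericPoint i.left.isClosedEmbedding.isClosed_range⟩
  have he : ∀ x ∈ T, x ⤳ e := by
    rintro x ⟨M, i, ⟨_, hi, _, _, _⟩, hx⟩
    refine hx.specializes ?_
    refine ⟨η[M].left (Nonempty.some (inferInstance : Nonempty ↥(Spec (CommRingCat.of k)))), ?_⟩
    show (η[M].left ≫ i.left) _ = _
    rw [← Over.comp_left, IsMonHom.one_hom]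
  have : IsProper (𝟙_ (Over (Spec (CommRingCat.of k)))).hom := inferInstanceAs (IsProper (𝟙 _))
  have : GeometricallyIntegral (𝟙_ (Over (Spec (CommRingCat.of k)))).hom := by
    refine ⟨fun K _ y Z fst' snd' h => ?_⟩
    have : IsIso (𝟙_ (Over (Spec (CommRingCat.of k)))).hom := inferInstanceAs (IsIso (𝟙 _))
    have : IsIso snd' := h.isIso_snd_of_isIso
    have : Nonempty Z := ⟨(inv snd') (Nonempty.some inferInstance)⟩
    exact isIntegral_of_isOpenImmersion snd'
  have : IsMonHom (η[G] : 𝟙_ _ ⟶ G) := Groth.Agent.AV.isMonHom_of_one _ (by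
    rw [toUnit_unique η[𝟙_ (Over (Spec (CommRingCat.of k)))] (𝟙 _), Category.id_comp])
  obtain ⟨M₀, g₀, i₀, p₀, hM₀⟩ := Groth.Agent.AV.exists_image (η[G] : 𝟙_ _ ⟶ G)
  have hne : T.Nonempty := by
    have hM : IsAbSub G M₀ i₀ := ⟨g₀, hM₀.1, hM₀.2.1, hM₀.2.2.1, hM₀.2.2.2.1⟩
    obtain ⟨x, hx⟩ := hgen M₀ i₀ hM
    exact ⟨x, M₀, i₀, hM, hx⟩
  obtain ⟨x, ⟨M, i, hMsub, hx⟩, hmax⟩ := Groth.Agent.AV.exists_generic_max e T hne he
  obtain ⟨gM, hi, hcl, hMp, hMgi⟩ := hMsub
  refine ⟨M, gM, i, hi, hcl, hMp, hMgi, ?_⟩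
  intro A _ _ _ _ φ hφ
  have : GeometricallyIntegral A.hom := Groth.Agent.AV.geometricallyIntegral_of_connected A
  letI : GrpObj (M ⊗ A) := inferInstance
  have : IsProper (M ⊗ A).hom := by
    change IsProper (pullback.fst M.hom A.hom ≫ M.hom)
    infer_instance
  have : GeometricallyIntegral (M ⊗ A).hom := by
    have : GeometricallyReduced (M ⊗ A).hom := by
      have : GrpObj (Over.mk M.hom) := inferInstanceAs (GrpObj M)
      have : GrpObj (Over.mk A.hom) := inferInstanceAs (GrpObj A)
      have : Smooth M.hom := smooth_of_grpObj M.hom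
      have : Smooth A.hom := smooth_of_grpObj A.hom
      have : Smooth (pullback.fst M.hom A.hom) := inferInstance
      change GeometricallyReduced (pullback.fst M.hom A.hom ≫ M.hom)
      exact Groth.Agent.AV.geometricallyReduced_of_smooth _
    have : ConnectedSpace (M ⊗ A).left := by
      have : IsIntegral M.left := GeometricallyIntegral.isIntegral_of_subsingleton M.hom
      have : IsLocallyNoetherian M.left := LocallyOfFiniteType.isLocallyNoetherian M.hom
      have : IsIntegral (M ⊗ A).left := by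
        change IsIntegral (pullback M.hom A.hom)
        infer_instance
      infer_instance
    exact Groth.Agent.AV.geometricallyIntegral_of_connected _
  let f : M ⊗ A ⟶ G := (fst M A ≫ i) * (snd M A ≫ φ)
  have h1 : η[M ⊗ A] ≫ fst M A = η[M] := IsMonHom.one_hom _
  have h2 : η[M ⊗ A] ≫ snd M A = η[A] := IsMonHom.one_hom _
  have : IsMonHom f := isMonHom_mul_of_one _ _
    (by rw [← Category.assoc, h1, IsMonHom.one_hom]) (by rw [← Category.assoc, h2, IsMonHom.one_hom])
  obtain ⟨C, gC, j, p, hj, hjcl, hCp, hCgi, hps, hpf, hp⟩ := Groth.Agent.AV.exists_image f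
  have h1' : (1 : M ⟶ A) ≫ φ = 1 := MonObj.one_comp φ
  have hmi : lift (𝟙 M) (1 : M ⟶ A) ≫ p ≫ j = i := by
    rw [hpf, MonObj.comp_mul, lift_fst_assoc, lift_snd_assoc, h1', _root_.mul_one, Category.id_comp]
  obtain ⟨z, hz⟩ := hgen C j ⟨gC, hj, hjcl, hCp, hCgi⟩
  have hzx : z = x := hmax z ⟨C, j, ⟨gC, hj, hjcl, hCp, hCgi⟩, hz⟩ (hz.specializes (by
    obtain ⟨m, hm⟩ := hx.mem
    exact ⟨(lift (𝟙 M) (1 : M ⟶ A) ≫ p).left m, by
      rw [← hm]; show (((lift (𝟙 M) (1 : M ⟶ A) ≫ p) ≫ j).left) m = _
      rw [Category.assoc, hmi]⟩))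
  subst hzx
  let m : M ⟶ C := lift (𝟙 M) (1 : M ⟶ A) ≫ p
  have hm : m ≫ j = i := by rw [Category.assoc]; exact hmi
  have : IsClosedImmersion (m.left ≫ j.left) := by rw [← Over.comp_left, hm]; exact hcl
  have : IsClosedImmersion m.left := IsClosedImmersion.of_comp m.left j.left
  have : IsIntegral C.left := GeometricallyIntegral.isIntegral_of_subsingleton C.hom
  have : Surjective m.left := ⟨fun c => by
    have : j.left c ∈ Set.range i.left := by
      rw [← hx.def, hz.def]; exact ⟨c, rfl⟩
    obtain ⟨a, ha⟩ := this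
    exact ⟨a, j.left.isClosedEmbedding.injective (by rw [← ha, ← hm]; rfl)⟩⟩
  have : IsIso m.left := isIso_of_isClosedImmersion_of_surjective m.left
  have : IsIso ((Over.forget _).map m) := ‹_›
  have : IsIso m := isIso_of_reflects_iso m (Over.forget _)
  refine ⟨lift (1 : A ⟶ M) (𝟙 A) ≫ p ≫ CategoryTheory.inv m, ?_⟩
  have : CategoryTheory.inv m ≫ i = j := by rw [IsIso.inv_comp_eq, hm]
  rw [Category.assoc, Category.assoc, this, hpf, MonObj.comp_mul, lift_fst_assoc, lift_snd_assoc,
    MonObj.one_comp, _root_.one_mul, Category.id_comp]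

end Groth.Agent.S14820
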