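import Groth.Statements.S14822
import Groth.Agent.L15.PushFunctions
-- import your own Groth.Agent.* helpers here

set_option autoImplicit false
universe u
open CategoryTheory CategoryTheory.Limits AlgebraicGeometry
open CohIII

namespace Groth.Agent.S14822

/-- Let k be a field and f : X → Y a surjective k-morphism between integral proper k-schemes of the same
dimension, with Y normal (all local rings integrally closed domains). Then f is a fibration (Γ(U,
O_Y) → Γ(f⁻¹U, O_X) bijective for every open U ⊆ Y) if and only if f is birational: the embedding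
K(Y) → K(X) of function fields given by the stalk map at the generic points is bijective. -/
theorem result (k : Type u) [Field k]
    (X Y : Scheme.{u}) [X.Over (Spec (CommRingCat.of k))] [Y.Over (Spec (CommRingCat.of k))]
    [IsProper (X ↘ Spec (CommRingCat.of k))] [IsProper (Y ↘ Spec (CommRingCat.of k))] [IsIntegral X] [IsIntegral Y]
    (hY : Pi1.IsNormalScheme Y) (f : X ⟶ Y) [Surjective f] (hf : f ≫ (Y ↘ Spec (CommRingCat.of k)) = X ↘ Spec (CommRingCat.of k))
    (hdim : topologicalKrullDim ↥X = topologicalKrullDim ↥Y)
    (h : f.base (genericPoint ↥X) ⤳ genericPoint ↥Y) :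
    (∀ U : Y.Opens, IsIso (f.app U)) ↔ Function.Bijective (CohIII.stalkToFunctionField f (genericPoint ↥Y) h) := by
  haveI : UniversallyClosed (f ≫ (Y ↘ Spec (CommRingCat.of k))) := hf ▸ inferInstance
  haveI : UniversallyClosed f := .of_comp_of_isSeparated f (Y ↘ Spec (CommRingCat.of k))
  haveI : LocallyOfFiniteType (f ≫ (Y ↘ Spec (CommRingCat.of k))) := hf ▸ inferInstance
  haveI : LocallyOfFiniteType f := locallyOfFiniteType_of_comp f (Y ↘ Spec (CommRingCat.of k))
  haveI : Y.IsSeparated := ⟨by rw [← Limits.terminal.comp_from (Y ↘ Spec (CommRingCat.of k))]; infer_instance⟩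
  refine ⟨fun H => Groth.L15.PushFun.bijective_of_isIso_app f h
      (fun x hx => Groth.L15.PushFun.eq_generic_of_dim_eq f k hf hdim x hx) H,
    fun H U => Groth.L15.PushFun.isIso_app f h hY (fun x _ => H.2 x) U⟩

end Groth.Agent.S14822
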