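import Groth.Statements.S14823
import Groth.Agent.L26.AlbProper.Albanese

set_option autoImplicit false
universe u
open CategoryTheory MonoidalCategory CartesianMonoidalCategory MonObj GrpObj AlgebraicGeometry
open AbVar

namespace Groth.Agent.S14823

/-- Let k be an arbitrary field and X a proper k-scheme with H^0(X, O_X) = k (the map k → Γ(X, O_X) is
bijective), not assumed reduced, irreducible or smooth, and let x₀ be a k-rational point of X. Then
there exist an abelian variety A over k (a proper, geometrically integral k-group scheme) and a
k-morphism alb : X → A with alb(x₀) = 0 which is universal: for every abelian variety B over k (a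
geometrically reduced, connected, proper k-group scheme) and every k-morphism g : X → B with g(x₀) =
0 there is a unique homomorphism h : A → B of k-group schemes with alb ≫ h = g. -/
theorem result (k : Type u) [Field k] (X : Over (Spec (CommRingCat.of k)))
    [IsProper X.hom] (h0 : Function.Bijective (X.hom.appTop).hom)
    (x₀ : 𝟙_ (Over (Spec (CommRingCat.of k))) ⟶ X) :
    ∃ (A : Over (Spec (CommRingCat.of k))) (_ : GrpObj A) (alb : X ⟶ A), IsProper A.hom ∧ GeometricallyIntegral A.hom ∧
      x₀ ≫ alb = η[A] ∧
      ∀ (B : Over (Spec (CommRingCat.of k))) [GrpObj B] [IsProper B.hom] [GeometricallyReduced B.hom] [ConnectedSpace ↥B.left]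
        (g : X ⟶ B), x₀ ≫ g = η[B] → ∃! h : A ⟶ B, IsMonHom h ∧ alb ≫ h = g := by
  obtain ⟨A, gA, f, hp, hi, hx, hu⟩ := Groth.Agent.L26.AlbProper.exists_albanese h0 x₀
  refine ⟨A, gA, f, hp, hi, hx, ?_⟩
  intro B _ _ _ _ g hg
  haveI : GeometricallyIntegral B.hom := Groth.Agent.AV.geometricallyIntegral_of_connected B
  exact hu B g hg

end Groth.Agent.S14823
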