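import Groth.Statements.S14824
import Groth.Agent.L26.H1Bound.Main
import Groth.Agent.L26.AlbProper.Descend
import Groth.Agent.L26.AV.TateRankGeom

set_option autoImplicit false
universe u
open CategoryTheory MonoidalCategory CartesianMonoidalCategory MonObj GrpObj AlgebraicGeometry
open AbVar

namespace Groth.Agent.S14824

open Groth.L02.PicTan (TA YA tA)

/-- Let k be a field and X a proper k-scheme with H^0(X, O_X) one-dimensional and a k-rational point x₀;
let alb : X → A be the Albanese morphism, i.e. A is an abelian variety over k (proper, geometrically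
integral group scheme), alb(x₀) = 0, and every k-morphism g : X → B to an abelian variety B
(geometrically reduced, connected, proper group scheme) with g(x₀) = 0 factors as alb ≫ h for a
unique homomorphism h. Then dim A ≤ dim_k H^1(X, O_X); consequently the Albanese dimension of X (the
dimension of the image of alb) is at most h^1(O_X). (The published statement does not assume a
rational point (it works with the Albanese torsor); this row assumes one.) -/
theorem result (k : Type u) [Field k] (X : Scheme.{u}) [X.Over (Spec (CommRingCat.of k))]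
    [IsProper (X ↘ Spec (CommRingCat.of k))] (h0 : Module.finrank k (Coh.HH X (Coh.structureModule X) 0) = 1)
    (x₀ : 𝟙_ (Over (Spec (CommRingCat.of k))) ⟶ Over.mk (X ↘ Spec (CommRingCat.of k)))
    (A : Over (Spec (CommRingCat.of k))) [GrpObj A] [IsProper A.hom] [GeometricallyIntegral A.hom]
    (alb : Over.mk (X ↘ Spec (CommRingCat.of k)) ⟶ A) (halb : x₀ ≫ alb = η[A])
    (huniv : ∀ (B : Over (Spec (CommRingCat.of k))) [GrpObj B] [IsProper B.hom] [GeometricallyReduced B.hom] [ConnectedSpace ↥B.left]
      (g : Over.mk (X ↘ Spec (CommRingCat.of k)) ⟶ B), x₀ ≫ g = η[B] → ∃! h : A ⟶ B, IsMonHom h ∧ alb ≫ h = g) :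
    topologicalKrullDim ↥A.left ≤ (Module.finrank k (Coh.HH X (Coh.structureModule X) 1) : WithBot ℕ∞) := by
  let q := X ↘ Spec (CommRingCat.of k)
  let Xo : Over (Spec (CommRingCat.of k)) := Over.mk q
  haveI : IsProper Xo.hom := inferInstanceAs (IsProper q)
  haveI : IsCommMonObj A := isCommMonObj_of_isProper_of_geometricallyIntegral A
  have hq : Function.Bijective (Coh.toGlobal q) := (Groth.L08.Cube.bijective_toGlobal_of_finrank q h0).2
  have happ := Groth.Agent.L26.H1Bound.bijective_app_of_toGlobal q hq
  haveI : GeometricallyConnected Xo.hom := Groth.L16.Connected.geometricallyConnected q fun W =>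
    (ConcreteCategory.isIso_iff_bijective _).2 (happ W)
  -- enough sums cover the Albanese
  obtain ⟨M, hM⟩ := Groth.Agent.L26.AlbProper.exists_sumSet_of_field Xo x₀
  obtain ⟨C, gC, j, _, _, _, _, hj, hgj⟩ := hM A alb halb
  letI := gC
  have hiso : IsIso Xo.hom.appTop := (ConcreteCategory.isIso_iff_bijective _).2 (happ ⊤)
  obtain ⟨g', hg'⟩ := Groth.Agent.L26.AlbProper.exists_factor_of_range hiso x₀ alb halb j hgj
  haveI : Mono j := Over.mono_of_mono_left j
  haveI : IsIntegral C.left := GeometricallyIntegral.isIntegral_of_subsingleton C.hom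
  have hp : x₀ ≫ g' = η[C] := by rw [← cancel_mono j, Category.assoc, hg', halb, IsMonHom.one_hom]
  obtain ⟨h, ⟨hh, hfac⟩, -⟩ := huniv C g' hp
  haveI := hh
  haveI : IsIntegral A.left := GeometricallyIntegral.isIntegral_of_subsingleton A.hom
  haveI : ConnectedSpace A.left := inferInstance
  haveI : GeometricallyReduced A.hom := inferInstance
  obtain ⟨h₁, -, huniq⟩ := huniv A alb halb
  have hid : h ≫ j = 𝟙 A := (huniq (h ≫ j) ⟨inferInstance, by rw [← Category.assoc, hfac, hg']⟩).trans
    (huniq (𝟙 A) ⟨inferInstance, Category.comp_id _⟩).symm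
  have hsurj : Set.range (Groth.Agent.L26.AlbSm.sumPow alb M).left = Set.univ := by
    rw [← hj]
    refine Set.eq_univ_of_forall fun a => ⟨h.left a, ?_⟩
    have := congr(($hid).left a)
    simpa using this
  -- pass to the algebraic closure
  let K := AlgebraicClosure k
  let F := Over.pullback (AbVar.ext k K)
  let XK := F.obj Xo
  let AK := F.obj A
  haveI : IsProper XK.hom := MorphismProperty.of_isPullback (P := @IsProper) (IsPullback.of_hasPullback Xo.hom (AbVar.ext k K)) ‹_›
  haveI : IsProper AK.hom := MorphismProperty.of_isPullback (P := @IsProper) (IsPullback.of_hasPullback A.hom (AbVar.ext k K)) ‹_›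
  haveI : GeometricallyIntegral AK.hom :=
    MorphismProperty.of_isPullback (P := @GeometricallyIntegral) (IsPullback.of_hasPullback A.hom (AbVar.ext k K)) ‹_›
  have sq : IsPullback (Limits.pullback.fst Xo.hom (AbVar.ext k K)) XK.hom q
      (Spec.map (CommRingCat.ofHom (algebraMap k K))) := IsPullback.of_hasPullback _ _
  haveI : Nonempty X := ⟨x₀.left (IsLocalRing.closedPoint k)⟩
  have hqK : Function.Bijective (Coh.toGlobal XK.hom) :=
    (Groth.L08.Cube.bijective_toGlobal_baseChange q hq _ _ sq).2
  have hsurjK : Surjective (Groth.Agent.L26.AlbSm.sumPow (F.map alb) M).left := ⟨fun a => by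
    have := Groth.Agent.L26.AlbProper.range_sumPow_map (K := K) alb M
    rw [hsurj, Set.preimage_univ] at this
    exact (Set.ext_iff.1 this a).2 trivial⟩
  have hmain := Groth.Agent.L26.H1Bound.dim_le hqK (F.map alb) (Functor.LaxMonoidal.ε F ≫ F.map x₀) M hsurjK
  obtain ⟨g, -, hg⟩ := Groth.L08.GrpDim.exists_dim A
  have hdim : topologicalKrullDim AK.left = g := Groth.Agent.AV.TateRankGeom.dim_bc K (A := A) hg
  rw [hg]
  rw [hdim] at hmain
  refine hmain.trans (le_of_eq ?_)
  letI : (YA XK.hom K K).Over (Spec (CommRingCat.of K)) := ⟨tA XK.hom K K⟩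
  have sq' : IsPullback (Limits.pullback.fst XK.hom (TA (k := K) K K).hom)
      ((YA XK.hom K K) ↘ Spec (CommRingCat.of K)) XK.hom (Spec.map (CommRingCat.ofHom (algebraMap K K))) := by
    have e : (TA (k := K) K K).hom = Spec.map (CommRingCat.ofHom (algebraMap K K)) := by
      show Spec.map _ = _
      rw [Algebra.algebraMap_self, RingHom.id_comp]
    rw [← e]
    exact IsPullback.of_hasPullback _ _
  have sq2 := sq'.paste_horiz sq
  rw [← Spec.map_comp, ← CommRingCat.ofHom_comp, Algebra.algebraMap_self, RingHom.id_comp] at sq2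
  exact congrArg (fun n : ℕ => (n : WithBot ℕ∞)) (Groth.L21.RR.h_structure_bc (k := k) (K := K) (X := X) _ sq2 1)

end Groth.Agent.S14824
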