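import Groth.Statements.S14825
import Groth.Agent.L26.AV.Albanese

set_option autoImplicit false
universe u
open CategoryTheory MonoidalCategory CartesianMonoidalCategory MonObj GrpObj AlgebraicGeometry
open AbVar

namespace Groth.Agent.S14825

/-- In the pointed case, let k be a field and X a proper k-scheme with H^0(X, O_X) one-dimensional and a
k-rational point x₀; let alb : X → A be the Albanese morphism (A an abelian variety over k — proper,
geometrically integral group scheme — with alb(x₀) = 0, universal among pointed k-morphisms from X
to abelian varieties, the latter being geometrically reduced, connected, proper group schemes). Then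
X has Albanese dimension zero, i.e. the image of alb is a single point of A (X is connected, so this
says the image is zero-dimensional), if and only if A is the trivial abelian variety, i.e. A → Spec
k is an isomorphism. (The published statement does not assume a rational point (it works with the
Albanese torsor); this row assumes one.) -/
theorem result (k : Type u) [Field k] (X : Scheme.{u}) [X.Over (Spec (CommRingCat.of k))]
    [IsProper (X ↘ Spec (CommRingCat.of k))] (h0 : Module.finrank k (Coh.HH X (Coh.structureModule X) 0) = 1)
    (x₀ : 𝟙_ (Over (Spec (CommRingCat.of k))) ⟶ Over.mk (X ↘ Spec (CommRingCat.of k)))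
    (A : Over (Spec (CommRingCat.of k))) [GrpObj A] [IsProper A.hom] [GeometricallyIntegral A.hom]
    (alb : Over.mk (X ↘ Spec (CommRingCat.of k)) ⟶ A) (halb : x₀ ≫ alb = η[A])
    (huniv : ∀ (B : Over (Spec (CommRingCat.of k))) [GrpObj B] [IsProper B.hom] [GeometricallyReduced B.hom] [ConnectedSpace ↥B.left]
      (g : Over.mk (X ↘ Spec (CommRingCat.of k)) ⟶ B), x₀ ≫ g = η[B] → ∃! h : A ⟶ B, IsMonHom h ∧ alb ≫ h = g) :
    (Set.range alb.left.base).Subsingleton ↔ IsIso A.hom := by
  constructor
  · intro hs
    haveI : Nonempty X := ⟨x₀.left (IsLocalRing.closedPoint k)⟩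
    have hb := Groth.Agent.AV.bijective_toGlobal X h0
    have hX : Function.Bijective (Over.mk (X ↘ Spec (CommRingCat.of k))).hom.appTop.hom := by
      have h2 : Function.Bijective (Scheme.ΓSpecIso (CommRingCat.of k)).inv.hom :=
        ConcreteCategory.bijective_of_isIso (Scheme.ΓSpecIso (CommRingCat.of k)).inv
      exact (Function.Bijective.of_comp_iff _ h2).1 hb
    have ha : alb = toUnit _ ≫ η[A] := by
      rw [← halb]; exact Groth.Agent.AV.eq_const_of_singleton hX x₀ alb hs
    haveI : IsIntegral A.left := GeometricallyIntegral.isIntegral_of_subsingleton A.hom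
    obtain ⟨h, -, hu⟩ := huniv A alb halb
    have hid : IsMonHom (toUnit A ≫ η[A] : A ⟶ A) := Groth.Agent.AV.isMonHom_of_one _ (by
      rw [← Category.assoc, comp_toUnit]; simp)
    have e1 := hu (toUnit A ≫ η[A]) ⟨hid, by rw [← Category.assoc, comp_toUnit, ha]⟩
    have e2 := hu (𝟙 A) ⟨inferInstance, Category.comp_id _⟩
    refine ⟨η[A].left, ?_, Over.w η[A]⟩
    have e3 := congrArg Over.Hom.left (e1.trans e2.symm)
    simpa using e3
  · intro h
    haveI := h
    have hsub : Subsingleton A.left :=
      ((asIso A.hom).schemeIsoToHomeo.toEquiv).subsingleton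
    intro a _ b _
    exact hsub.elim a b

end Groth.Agent.S14825
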