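import Groth.Statements.S14826
import Groth.Agent.L26.AV.Albanese

set_option autoImplicit false
universe u
open CategoryTheory MonoidalCategory CartesianMonoidalCategory MonObj GrpObj AlgebraicGeometry
open AbVar

namespace Groth.Agent.S14826

/-- Over a field k (the published statement is over a base scheme S), let X be a proper k-scheme with
H^0(X, O_X) one-dimensional and a k-rational point x₀, and alb : X → A the Albanese morphism (A an
abelian variety — proper, geometrically integral group scheme — with alb(x₀) = 0, universal among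
pointed morphisms from X to geometrically reduced, connected, proper group schemes). Let φ : X → A'
be an arbitrary k-morphism to such an abelian variety A', not necessarily pointed. Then φ factors
through alb by exactly one k-morphism A → A', and that morphism is a homomorphism h followed by the
translation of A' by the k-point φ(x₀): there is a homomorphism h : A → A' with φ = (alb ≫ h) ·
(constant map with value φ(x₀)) in the group of morphisms into A', and every k-morphism g : A → A'
with alb ≫ g = φ equals h · (constant map A → A' with value φ(x₀)). -/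
theorem result (k : Type u) [Field k] (X : Scheme.{u}) [X.Over (Spec (CommRingCat.of k))]
    [IsProper (X ↘ Spec (CommRingCat.of k))] (h0 : Module.finrank k (Coh.HH X (Coh.structureModule X) 0) = 1)
    (x₀ : 𝟙_ (Over (Spec (CommRingCat.of k))) ⟶ Over.mk (X ↘ Spec (CommRingCat.of k)))
    (A : Over (Spec (CommRingCat.of k))) [GrpObj A] [IsProper A.hom] [GeometricallyIntegral A.hom]
    (alb : Over.mk (X ↘ Spec (CommRingCat.of k)) ⟶ A) (halb : x₀ ≫ alb = η[A])
    (huniv : ∀ (B : Over (Spec (CommRingCat.of k))) [GrpObj B] [IsProper B.hom] [GeometricallyReduced B.hom] [ConnectedSpace ↥B.left]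
      (g : Over.mk (X ↘ Spec (CommRingCat.of k)) ⟶ B), x₀ ≫ g = η[B] → ∃! h : A ⟶ B, IsMonHom h ∧ alb ≫ h = g)
    (A' : Over (Spec (CommRingCat.of k))) [GrpObj A'] [IsProper A'.hom] [GeometricallyReduced A'.hom] [ConnectedSpace ↥A'.left]
    (φ : Over.mk (X ↘ Spec (CommRingCat.of k)) ⟶ A') :
    ∃ h : A ⟶ A', IsMonHom h ∧ (alb ≫ h) * (toUnit (Over.mk (X ↘ Spec (CommRingCat.of k))) ≫ x₀ ≫ φ) = φ ∧
      ∀ g : A ⟶ A', alb ≫ g = φ → g = h * (toUnit A ≫ x₀ ≫ φ) := by
  haveI := Groth.Agent.AV.geometricallyIntegral_of_connected A'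
  have hone : ∀ (T : Over (Spec (CommRingCat.of k))), toUnit T ≫ η[A'] = (1 : T ⟶ A') := fun T => rfl
  have heta : η[A'] = (1 : 𝟙_ (Over (Spec (CommRingCat.of k))) ⟶ A') := by rw [← hone]; simp
  have hpt : ∀ {T : Over (Spec (CommRingCat.of k))} (y : 𝟙_ (Over (Spec (CommRingCat.of k))) ⟶ T)
      (b : 𝟙_ (Over (Spec (CommRingCat.of k))) ⟶ A'), y ≫ toUnit T ≫ b = b := fun y b => by
    rw [← Category.assoc, comp_toUnit]; simp
  set c := x₀ ≫ φ
  set φ' := φ * (toUnit (Over.mk (X ↘ Spec (CommRingCat.of k))) ≫ c)⁻¹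
  have hφ' : x₀ ≫ φ' = η[A'] := by
    simp only [φ', MonObj.comp_mul, GrpObj.comp_inv, hpt, c, mul_inv_cancel, heta]
  obtain ⟨h, ⟨hh, hh'⟩, huniq⟩ := huniv A' φ' hφ'
  refine ⟨h, hh, by rw [hh']; simp [φ'], fun g hg => ?_⟩
  have hge : η[A] ≫ g = c := by rw [← halb, Category.assoc, hg]
  have hg1 : η[A] ≫ (g * (toUnit A ≫ c)⁻¹) = η[A'] := by
    simp only [MonObj.comp_mul, GrpObj.comp_inv, hpt, hge, mul_inv_cancel, heta]
  have hm := Groth.Agent.AV.isMonHom_of_one (g * (toUnit A ≫ c)⁻¹) hg1
  have := huniq _ ⟨hm, by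
    simp only [φ', MonObj.comp_mul, GrpObj.comp_inv, hg, ← Category.assoc, comp_toUnit]⟩
  rw [← this]
  simp

end Groth.Agent.S14826
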