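import Groth.Statements.S14827
import Groth.Agent.L26.AV.Albanese

set_option autoImplicit false
universe u
open CategoryTheory MonoidalCategory CartesianMonoidalCategory MonObj GrpObj AlgebraicGeometry
open AbVar

namespace Groth.Agent.S14827

/-- Over a field k (the published statement is over a base scheme S), let X be a proper k-scheme with
H^0(X, O_X) one-dimensional and a k-rational point x₀, and alb : X → A the Albanese morphism for the
base point x₀ (A an abelian variety — proper, geometrically integral group scheme — with alb(x₀) =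
0, universal among pointed morphisms to geometrically reduced, connected, proper group schemes). For
a second k-rational point x₁ let alb' = alb · (constant map with value alb(x₁))⁻¹, i.e. alb followed
by the translation of A by −alb(x₁). Then alb' is the Albanese morphism of X pointed by x₁: alb'(x₁)
= 0, and every k-morphism g : X → B to an abelian variety B with g(x₁) = 0 equals alb' ≫ h for a
unique homomorphism h : A → B. -/
theorem result (k : Type u) [Field k] (X : Scheme.{u}) [X.Over (Spec (CommRingCat.of k))]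
    [IsProper (X ↘ Spec (CommRingCat.of k))] (h0 : Module.finrank k (Coh.HH X (Coh.structureModule X) 0) = 1)
    (x₀ : 𝟙_ (Over (Spec (CommRingCat.of k))) ⟶ Over.mk (X ↘ Spec (CommRingCat.of k)))
    (A : Over (Spec (CommRingCat.of k))) [GrpObj A] [IsProper A.hom] [GeometricallyIntegral A.hom]
    (alb : Over.mk (X ↘ Spec (CommRingCat.of k)) ⟶ A) (halb : x₀ ≫ alb = η[A])
    (huniv : ∀ (B : Over (Spec (CommRingCat.of k))) [GrpObj B] [IsProper B.hom] [GeometricallyReduced B.hom] [ConnectedSpace ↥B.left]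
      (g : Over.mk (X ↘ Spec (CommRingCat.of k)) ⟶ B), x₀ ≫ g = η[B] → ∃! h : A ⟶ B, IsMonHom h ∧ alb ≫ h = g)
    (x₁ : 𝟙_ (Over (Spec (CommRingCat.of k))) ⟶ Over.mk (X ↘ Spec (CommRingCat.of k))) :
    x₁ ≫ (alb * (toUnit (Over.mk (X ↘ Spec (CommRingCat.of k))) ≫ x₁ ≫ alb)⁻¹) = η[A] ∧
    ∀ (B : Over (Spec (CommRingCat.of k))) [GrpObj B] [IsProper B.hom] [GeometricallyReduced B.hom] [ConnectedSpace ↥B.left]
      (g : Over.mk (X ↘ Spec (CommRingCat.of k)) ⟶ B), x₁ ≫ g = η[B] →
        ∃! h : A ⟶ B, IsMonHom h ∧ (alb * (toUnit (Over.mk (X ↘ Spec (CommRingCat.of k))) ≫ x₁ ≫ alb)⁻¹) ≫ h = g := by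
  set s := x₁ ≫ alb
  have hc : ∀ (a : Over.mk (X ↘ Spec (CommRingCat.of k)) ⟶ A), x₁ ≫ (toUnit (Over.mk (X ↘ Spec (CommRingCat.of k))) ≫ x₁ ≫ a) = x₁ ≫ a := fun a => by
    rw [← Category.assoc, comp_toUnit]; simp
  refine ⟨?_, fun B _ _ _ _ g hg => ?_⟩
  · rw [MonObj.comp_mul, GrpObj.comp_inv, hc, mul_inv_cancel, Hom.one_def]; simp
  let g' := g * (toUnit (Over.mk (X ↘ Spec (CommRingCat.of k))) ≫ x₀ ≫ g)⁻¹
  have hone : ∀ (T : Over (Spec (CommRingCat.of k))), toUnit T ≫ η[B] = (1 : T ⟶ B) := fun T => rfl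
  have heta : η[B] = (1 : 𝟙_ (Over (Spec (CommRingCat.of k))) ⟶ B) := by rw [← hone]; simp
  have hx : ∀ (y : 𝟙_ (Over (Spec (CommRingCat.of k))) ⟶ Over.mk (X ↘ Spec (CommRingCat.of k)))
      (b : 𝟙_ (Over (Spec (CommRingCat.of k))) ⟶ B),
      y ≫ toUnit (Over.mk (X ↘ Spec (CommRingCat.of k))) ≫ b = b := fun y b => by
    rw [← Category.assoc, comp_toUnit]; simp
  have hg' : x₀ ≫ g' = η[B] := by
    simp only [g', MonObj.comp_mul, GrpObj.comp_inv, hx, mul_inv_cancel, heta]
  obtain ⟨h, ⟨hh, hh'⟩, huniq⟩ := huniv B g' hg'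
  refine ⟨h, ⟨hh, ?_⟩, fun h' ⟨hm, he⟩ => huniq h' ⟨hm, ?_⟩⟩
  · haveI := hh
    rw [MonObj.mul_comp, GrpObj.inv_comp, Category.assoc, Category.assoc, hh']
    simp only [g', MonObj.comp_mul, GrpObj.comp_inv, hx, hg]
    simp [heta]
  · haveI := hm
    rw [MonObj.mul_comp, GrpObj.inv_comp, Category.assoc, Category.assoc] at he
    have e0 := congrArg (fun φ => x₀ ≫ φ) he
    simp only [MonObj.comp_mul, GrpObj.comp_inv, hx] at e0
    rw [← Category.assoc x₀ alb, halb, IsMonHom.one_hom, heta, _root_.one_mul] at e0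
    show alb ≫ h' = g * (toUnit _ ≫ x₀ ≫ g)⁻¹
    rw [← e0, ← he]
    simp [GrpObj.comp_inv]

end Groth.Agent.S14827
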