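import Groth.Statements.S14828
import Groth.Agent.L17.CartierDual.Main

set_option autoImplicit false
universe u
open CategoryTheory CategoryTheory.Limits AlgebraicGeometry
open Canon

namespace Groth.Agent.S14828

/-- Take any field k and a proper k-scheme X that is Cohen–Macaulay and equidimensional of dimension n
(the local ring at every closed point is Cohen–Macaulay of dimension n, and dim X = n), let (ω_X,
tr_X) be a dualizing sheaf of X in the sense that Hom(F, ω_X) → H^n(X, F)^∨, φ ↦ tr_X ∘ H^n(φ), is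
bijective for every quasi-coherent F, and let i : D → X be an effective Cartier divisor, i.e. a
closed subscheme whose ideal sheaf I is an invertible O_X-module, with O_X(D) an inverse of I. Then
(i) D is Cohen–Macaulay and every closed point of D has local ring of dimension n − 1, and (ii) for
every dualizing sheaf (ω_D, tr_D) of D in degree n − 1 there is an isomorphism ω_D ≅ (O_X(D) ⊗
ω_X)|_D (existence of an isomorphism; the canonical identification through Ext¹(O_D, ω_X) is not
constructed here). -/
theorem result (k : Type u) [Field k]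
    (X : Scheme.{u}) [X.Over (Spec (CommRingCat.of k))] [IsProper (X ↘ Spec (CommRingCat.of k))] (n : ℕ) (hn : topologicalKrullDim ↥X = n)
    (hCM : ∀ x : X, LocCoh.IsCohenMacaulayLocalRing (X.presheaf.stalk x))
    (heq : ∀ x : X, IsClosed ({x} : Set ↥X) → ringKrullDim (X.presheaf.stalk x) = n)
    (ωX : X.Modules) (trX : Coh.HH X ωX n →ₗ[k] k) (hωX : Canon.IsRDualOver k X n ωX trX)
    (D : Scheme.{u}) (i : D ⟶ X) [IsClosedImmersion i] (hI : PicF.IsInvertible (ClSub.idealMod i.ker))
    (OD : X.Modules) (hOD : ClSub.IsInverseOf OD (ClSub.idealMod i.ker)) :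
    letI : D.Over (Spec (CommRingCat.of k)) := ⟨i ≫ (X ↘ Spec (CommRingCat.of k))⟩
    (∀ d : D, LocCoh.IsCohenMacaulayLocalRing (D.presheaf.stalk d) ∧
        (IsClosed ({d} : Set ↥D) → ringKrullDim (D.presheaf.stalk d) = (n - 1 : ℕ))) ∧
      ∀ (ωD : D.Modules) (trD : Coh.HH D ωD (n - 1) →ₗ[k] k), Canon.IsRDualOver k D (n - 1) ωD trD →
        Nonempty (ωD ≅ (Scheme.Modules.pullback i).obj (CohB1.tensorMod OD ωX)) := by
  letI : D.Over (Spec (CommRingCat.of k)) := ⟨i ≫ (X ↘ Spec (CommRingCat.of k))⟩
  haveI : IsLocallyNoetherian X := LocallyOfFiniteType.isLocallyNoetherian (X ↘ Spec (CommRingCat.of k))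
  haveI : CompactSpace X := QuasiCompact.compactSpace_of_compactSpace (X ↘ Spec (CommRingCat.of k))
  haveI : CompactSpace D := i.isClosedEmbedding.compactSpace
  refine ⟨fun d => ⟨Groth.L17.CartierDual.cm_stalk i hI d (hCM _),
    fun hd => (Groth.L17.CartierDual.dim_closed k n hn heq i hI d hd).2⟩, fun ωD trD hD => ?_⟩
  rcases isEmpty_or_nonempty D with hE | ⟨⟨d⟩⟩
  · exact ⟨(Groth.L22.Adjunction.isZero_of_isEmpty ωD).iso (Groth.L22.Adjunction.isZero_of_isEmpty _)⟩
  · obtain ⟨d', -, hd'⟩ := (isClosed_closure (s := ({d} : Set D))).exists_closed_singleton ⟨d, subset_closure rfl⟩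
    have h1 := (Groth.L17.CartierDual.dim_closed k n hn heq i hI d' hd').1
    obtain ⟨t, ht⟩ := Groth.L17.CartierDual.exists_dual k n hn hCM heq i hI hOD ωX trX hωX h1
    haveI : IsProper (D ↘ Spec (CommRingCat.of k)) := inferInstanceAs (IsProper (i ≫ _))
    obtain ⟨⟨ρ, hρ, -⟩, hiso⟩ := Groth.Agent.S13308.result k D (n - 1)
      (fun y => le_trans (((D ↘ Spec (CommRingCat.of k)).fiberι y).isEmbedding.isInducing.topologicalKrullDim_le)
        (Groth.L17.CartierDual.dim_le k n hn heq i hI)) _ ωD t trD ht hD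
    haveI := hiso ρ hρ
    exact ⟨asIso ρ⟩

end Groth.Agent.S14828
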