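import Groth.Statements.S14830
import Groth.Agent.L26.AV.Hom
import Groth.Agent.L26.AV.GroupSep

set_option autoImplicit false
universe u
open CategoryTheory MonoidalCategory CartesianMonoidalCategory MonObj GrpObj AlgebraicGeometry
open AbVar

namespace Groth.Agent.S14830

/-- A morphism from a product which is trivial on the two axes is trivial. -/
lemma eq_one_of_axes {K : Type u} [Field K] {X Y Z : Over (Spec (CommRingCat.of K))}
    [IsProper X.hom] [GeometricallyIntegral X.hom]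
    [IsSeparated Y.hom] [LocallyOfFiniteType Y.hom] [GeometricallyIntegral Y.hom]
    [GrpObj Z] [IsSeparated Z.hom] [LocallyOfFiniteType Z.hom]
    (d : X ⊗ Y ⟶ Z) (x₀ : 𝟙_ _ ⟶ X) (y₀ : 𝟙_ _ ⟶ Y)
    (hX : lift (𝟙 X) (toUnit X ≫ y₀) ≫ d = 1) (hY : lift (toUnit Y ≫ x₀) (𝟙 Y) ≫ d = 1) : d = 1 := by
  rw [Groth.Agent.AV.rigidity d x₀ y₀ η[Z] (hX.trans Hom.one_def), hY, MonObj.comp_one]

/-- Let k be a field and X, Y proper, geometrically integral k-schemes with k-rational points x₀ and y₀.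
Let albX : X → A and albY : Y → B be Albanese morphisms: A, B abelian varieties over k (proper,
geometrically integral group schemes), albX(x₀) = 0, albY(y₀) = 0, each universal among pointed
k-morphisms into abelian varieties (geometrically reduced, connected, proper group schemes). Then
the product morphism albX × albY : X ×_k Y → A ×_k B is the Albanese morphism of X ×_k Y pointed at
(x₀, y₀): for every abelian variety C and every k-morphism g : X ×_k Y → C with g(x₀, y₀) = 0 there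
is a unique homomorphism h : A ×_k B → C with (albX × albY) ≫ h = g. -/
theorem result (k : Type u) [Field k] (X Y : Scheme.{u}) [X.Over (Spec (CommRingCat.of k))] [Y.Over (Spec (CommRingCat.of k))]
    [IsProper (X ↘ Spec (CommRingCat.of k))] [IsProper (Y ↘ Spec (CommRingCat.of k))]
    [GeometricallyIntegral (X ↘ Spec (CommRingCat.of k))] [GeometricallyIntegral (Y ↘ Spec (CommRingCat.of k))]
    (x₀ : 𝟙_ (Over (Spec (CommRingCat.of k))) ⟶ Over.mk (X ↘ Spec (CommRingCat.of k))) (y₀ : 𝟙_ (Over (Spec (CommRingCat.of k))) ⟶ Over.mk (Y ↘ Spec (CommRingCat.of k)))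
    (A : Over (Spec (CommRingCat.of k))) [GrpObj A] [IsProper A.hom] [GeometricallyIntegral A.hom]
    (albX : Over.mk (X ↘ Spec (CommRingCat.of k)) ⟶ A) (halbX : x₀ ≫ albX = η[A])
    (hunivA : ∀ (C : Over (Spec (CommRingCat.of k))) [GrpObj C] [IsProper C.hom] [GeometricallyReduced C.hom] [ConnectedSpace ↥C.left]
      (g : Over.mk (X ↘ Spec (CommRingCat.of k)) ⟶ C), x₀ ≫ g = η[C] → ∃! h : A ⟶ C, IsMonHom h ∧ albX ≫ h = g)
    (B : Over (Spec (CommRingCat.of k))) [GrpObj B] [IsProper B.hom] [GeometricallyIntegral B.hom]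
    (albY : Over.mk (Y ↘ Spec (CommRingCat.of k)) ⟶ B) (halbY : y₀ ≫ albY = η[B])
    (hunivB : ∀ (C : Over (Spec (CommRingCat.of k))) [GrpObj C] [IsProper C.hom] [GeometricallyReduced C.hom] [ConnectedSpace ↥C.left]
      (g : Over.mk (Y ↘ Spec (CommRingCat.of k)) ⟶ C), y₀ ≫ g = η[C] → ∃! h : B ⟶ C, IsMonHom h ∧ albY ≫ h = g)
    (C : Over (Spec (CommRingCat.of k))) [GrpObj C] [IsProper C.hom] [GeometricallyReduced C.hom] [ConnectedSpace ↥C.left]
    (g : Over.mk (X ↘ Spec (CommRingCat.of k)) ⊗ Over.mk (Y ↘ Spec (CommRingCat.of k)) ⟶ C) (hg : lift x₀ y₀ ≫ g = η[C]) :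
    ∃! h : A ⊗ B ⟶ C, IsMonHom h ∧ (albX ⊗ₘ albY) ≫ h = g := by
  have : GeometricallyIntegral C.hom := Groth.Agent.AV.geometricallyIntegral_of_connected C
  let X' := Over.mk (X ↘ Spec (CommRingCat.of k))
  let Y' := Over.mk (Y ↘ Spec (CommRingCat.of k))
  have : IsProper X'.hom := ‹IsProper (X ↘ Spec (CommRingCat.of k))›
  have : IsProper Y'.hom := ‹IsProper (Y ↘ Spec (CommRingCat.of k))›
  have : GeometricallyIntegral X'.hom := ‹GeometricallyIntegral (X ↘ Spec (CommRingCat.of k))›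
  have : GeometricallyIntegral Y'.hom := ‹GeometricallyIntegral (Y ↘ Spec (CommRingCat.of k))›
  let jX : X' ⟶ X' ⊗ Y' := lift (𝟙 X') (toUnit X' ≫ y₀)
  let jY : Y' ⟶ X' ⊗ Y' := lift (toUnit Y' ≫ x₀) (𝟙 Y')
  have hu : toUnit (𝟙_ (Over (Spec (CommRingCat.of k)))) = 𝟙 _ := toUnit_unique _ _
  have hx0 : x₀ ≫ jX = lift x₀ y₀ := by
    apply CartesianMonoidalCategory.hom_ext <;> simp [jX, hu, X', Y']
  have hy0 : y₀ ≫ jY = lift x₀ y₀ := by
    apply CartesianMonoidalCategory.hom_ext <;> simp [jY, hu, X', Y']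
  obtain ⟨hA, ⟨hAm, hAe⟩, hAu⟩ := hunivA C (jX ≫ g) (by rw [← Category.assoc, hx0, hg])
  obtain ⟨hB, ⟨hBm, hBe⟩, hBu⟩ := hunivB C (jY ≫ g) (by rw [← Category.assoc, hy0, hg])
  let h : A ⊗ B ⟶ C := (fst A B ≫ hA) * (snd A B ≫ hB)
  have hone : ∀ (T : Over (Spec (CommRingCat.of k))), toUnit T ≫ η[C] = (1 : T ⟶ C) := fun T => rfl
  -- the images commute
  have hcomm : (fst A B ≫ hA) * (snd A B ≫ hB) = (snd A B ≫ hB) * (fst A B ≫ hA) := by
    refine mul_inv_eq_one.1 (eq_one_of_axes _ η[A] η[B] ?_ ?_)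
    · simp [MonObj.comp_mul, GrpObj.comp_inv, IsMonHom.one_hom, hone]
    · simp [MonObj.comp_mul, GrpObj.comp_inv, IsMonHom.one_hom, hone]
  have hcomm' : ∀ {T : Over (Spec (CommRingCat.of k))} (a : T ⟶ A) (b : T ⟶ B),
      (a ≫ hA) * (b ≫ hB) = (b ≫ hB) * (a ≫ hA) := fun a b => by
    have := congrArg (fun e => lift a b ≫ e) hcomm
    simpa [MonObj.comp_mul] using this
  have hmul : ∀ {T : Over (Spec (CommRingCat.of k))} (p q : T ⟶ A ⊗ B), (p * q) ≫ h = (p ≫ h) * (q ≫ h) := by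
    intro T p q
    simp only [h, MonObj.comp_mul, ← Category.assoc, MonObj.mul_comp]
    have e := hcomm' (q ≫ fst A B) (p ≫ snd A B)
    simp only [_root_.mul_assoc]
    congr 1
    rw [← _root_.mul_assoc, ← _root_.mul_assoc, e]
  have hm : IsMonHom h := by
    refine ⟨?_, ?_⟩
    · simp [h, MonObj.comp_mul, IsMonHom.one_hom, ← Category.assoc]
      simp [Hom.one_def]
    · have := hmul (fst (A ⊗ B) (A ⊗ B)) (snd (A ⊗ B) (A ⊗ B))
      rw [Hom.mul_def, Hom.mul_def, lift_fst_snd, Category.id_comp, lift_fst_comp_snd_comp] at this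
      simpa using this
  -- the factorisation
  have hge : (albX ⊗ₘ albY) ≫ h = g := by
    refine (mul_inv_eq_one.1 (eq_one_of_axes (g * ((albX ⊗ₘ albY) ≫ h)⁻¹) x₀ y₀ ?_ ?_)).symm
    · rw [MonObj.comp_mul, GrpObj.comp_inv, mul_inv_eq_one, ← hAe]
      simp [h, MonObj.comp_mul, reassoc_of% halbY, reassoc_of% halbX, IsMonHom.one_hom, hone]
    · rw [MonObj.comp_mul, GrpObj.comp_inv, mul_inv_eq_one, ← hBe]
      simp [h, MonObj.comp_mul, reassoc_of% halbY, reassoc_of% halbX, IsMonHom.one_hom, hone]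
  refine ⟨h, ⟨hm, hge⟩, fun h' ⟨hm', he'⟩ => ?_⟩
  let iA : A ⟶ A ⊗ B := lift (𝟙 A) (toUnit A ≫ η[B])
  let iB : B ⟶ A ⊗ B := lift (toUnit B ≫ η[A]) (𝟙 B)
  have e1 : iA ≫ h' = hA := hAu _ ⟨Groth.Agent.AV.isMonHom_of_one _ (by
      have : η[A] ≫ iA = η[A ⊗ B] := by
        apply CartesianMonoidalCategory.hom_ext <;> simp [iA, hu]
      rw [← Category.assoc, this, IsMonHom.one_hom]), by
    show albX ≫ iA ≫ h' = jX ≫ g
    rw [← he', ← Category.assoc, ← Category.assoc]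
    congr 1
    apply CartesianMonoidalCategory.hom_ext <;> simp [iA, jX, halbY, X', Y', hu]⟩
  have e2 : iB ≫ h' = hB := hBu _ ⟨Groth.Agent.AV.isMonHom_of_one _ (by
      have : η[B] ≫ iB = η[A ⊗ B] := by
        apply CartesianMonoidalCategory.hom_ext <;> simp [iB, hu]
      rw [← Category.assoc, this, IsMonHom.one_hom]), by
    show albY ≫ iB ≫ h' = jY ≫ g
    rw [← he', ← Category.assoc, ← Category.assoc]
    congr 1
    apply CartesianMonoidalCategory.hom_ext <;> simp [iB, jY, halbX, X', Y', hu]⟩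
  have hid : (fst A B ≫ iA) * (snd A B ≫ iB) = 𝟙 (A ⊗ B) := by
    apply CartesianMonoidalCategory.hom_ext
    · rw [MonObj.mul_comp]; simp [iA, iB, ← Hom.one_def]
    · rw [MonObj.mul_comp]; simp [iA, iB, ← Hom.one_def]
  calc h' = ((fst A B ≫ iA) * (snd A B ≫ iB)) ≫ h' := by rw [hid, Category.id_comp]
    _ = h := by rw [MonObj.mul_comp, Category.assoc, Category.assoc, e1, e2]

end Groth.Agent.S14830
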