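import Groth.Prelude.Def_Pic
import Groth.Prelude.Def_Coh
import Groth.Prelude.Def_CohB1
import Groth.Prelude.Def_Mor2
import Mathlib.AlgebraicGeometry.Noetherian
import Mathlib.AlgebraicGeometry.Morphisms.Etale
import Groth.Agent.L02.CycCover.Sections
import Groth.Agent.L12.FrobLift.Pow
import Groth.Agent.L08.Cube.NP.Glue
import Groth.Agent.L21.RR.Coh
import Groth.Agent.L16.Connected.Fibre

set_option autoImplicit false
set_option linter.style.haveILetI false
namespace PicF
end PicF
set_option linter.style.haveILetI false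
set_option backward.isDefEq.respectTransparency false
universe u
open CategoryTheory CategoryTheory.Limits AlgebraicGeometry
open PicF

namespace Groth.Agent.S14831

/-- Let X be an integral Noetherian scheme such that Γ(X, O_X) is a field, and L an invertible
O_X-module of exact order d ≥ 1 in Pic(X) (L^{⊗d} ≅ O_X and L^{⊗i} ≇ O_X for 0 < i < d). Then there
are a connected scheme X' and a finite locally free morphism g : X' → X of constant degree d (a
finite flat covering of degree d) with g^*L ≅ O_{X'}; if moreover d is invertible in Γ(X, O_X), such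
a g exists which is in addition étale. (The published proof constructs g as the spectrum of the
O_X-algebra O_X ⊕ L^{−1} ⊕ ⋯ ⊕ L^{−(d−1)}; this row states only existence.) -/
theorem result (X : Scheme.{u}) [IsIntegral X] [IsNoetherian X]
    (hfield : IsField (Γ(X, ⊤) : Type u)) (L : X.Modules) (hL : PicF.IsInvertible L) (d : ℕ) (hd : 0 < d)
    (hord : Nonempty (CohB1.tensorPow L d ≅ Coh.structureModule X))
    (hmin : ∀ i : ℕ, 0 < i → i < d → IsEmpty (CohB1.tensorPow L i ≅ Coh.structureModule X)) :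
    (∃ (X' : Scheme.{u}) (g : X' ⟶ X), ConnectedSpace ↥X' ∧ Mor2.IsFinLocFreeOfDeg d g ∧
        Nonempty ((Scheme.Modules.pullback g).obj L ≅ Coh.structureModule X')) ∧
      (IsUnit ((d : ℕ) : (Γ(X, ⊤) : Type u)) →
        ∃ (X' : Scheme.{u}) (g : X' ⟶ X), ConnectedSpace ↥X' ∧ Mor2.IsFinLocFreeOfDeg d g ∧ Etale g ∧
          Nonempty ((Scheme.Modules.pullback g).obj L ≅ Coh.structureModule X')) := by
  classical
  -- frames of L on a finite cover
  choose O e hxO he using fun x : X => Groth.L18.Frame.exists_frame hL x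
  obtain ⟨T, hT⟩ := isCompact_univ.elim_finite_subcover (fun x : X => (O x : Set X)) (fun x => (O x).2)
    (fun x _ => Set.mem_iUnion.2 ⟨x, hxO x⟩)
  let W : {x // x ∈ T} → X.Opens := fun x => O x.1
  let ε : ∀ i, Γ(L, W i) := fun x => e x.1
  have hε : ∀ i, Groth.L18.Frame.IsFrame L (W i) (ε i) := fun x => he x.1
  obtain ⟨G, hG⟩ : ∃ G, Groth.L18.Frame.IsFrame (CohB1.tensorPow L d) ⊤ G :=
    ⟨_, Groth.L19.ProjBdl.isFrame_of_iso hord.some.symm Groth.L21.RR.isFrame_oneSec⟩
  choose θ hθe using fun i => (hG.mono (le_top : W i ≤ ⊤)).exists_coeff le_rfl (Groth.L12.FrobLift.pf (ε i) d)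
  simp only [Groth.L18.Frame.rs_self] at hθe
  have hθu : ∀ i, IsUnit (θ i) := fun i => Groth.L18.Frame.isUnit_of_isFrame (hG.mono le_top) (by
    rw [hθe i]; exact Groth.L12.FrobLift.isFrame_pf (hε i) _)
  choose g hg using fun i j => ((hε j).mono (inf_le_right : W i ⊓ W j ≤ W j)).exists_coeff le_rfl
    (Groth.L18.Frame.rs L inf_le_left (ε i))
  simp only [Groth.L18.Frame.rs_self] at hg
  let I : Groth.L02.CycCover.Input X :=
    { ι := {x // x ∈ T}
      fin := inferInstance
      W := W
      cover := fun x => by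
        obtain ⟨y, hy, hxy⟩ := Set.mem_iUnion₂.1 (hT (Set.mem_univ x))
        exact ⟨⟨y, hy⟩, hxy⟩
      d := d
      hd := hd
      θ := θ
      hθ := hθu
      g := g
      hgθ := fun i j => by
        refine hG.inj (le_top : W i ⊓ W j ≤ ⊤) ?_
        have e1 := congrArg (Groth.L18.Frame.rs _ (inf_le_left : W i ⊓ W j ≤ W i)) (hθe i)
        have e2 := congrArg (Groth.L18.Frame.rs _ (inf_le_right : W i ⊓ W j ≤ W j)) (hθe j)
        rw [Groth.L18.Frame.rs_smul, Groth.L18.Frame.rs_rs, Groth.L12.FrobLift.pf_rs] at e1 e2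
        rw [mul_smul, e1, e2, ← hg i j, Groth.L12.FrobLift.pf_smul]
      g_self := fun i => by
        refine (hε i).inj (inf_le_right : W i ⊓ W i ≤ W i) ?_
        rw [one_smul, hg i i]
      g_comp := fun i j k => by
        refine (hε k).inj (inf_le_right : (W i ⊓ W j) ⊓ W k ≤ W k) ?_
        have e1 := congrArg (Groth.L18.Frame.rs L (le_inf (inf_le_left.trans inf_le_left) (inf_le_left.trans inf_le_right) :
          (W i ⊓ W j) ⊓ W k ≤ W i ⊓ W j)) (hg i j)
        have e2 := congrArg (Groth.L18.Frame.rs L (le_inf (inf_le_left.trans inf_le_right) inf_le_right :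
          (W i ⊓ W j) ⊓ W k ≤ W j ⊓ W k)) (hg j k)
        have e3 := congrArg (Groth.L18.Frame.rs L (le_inf (inf_le_left.trans inf_le_left) inf_le_right :
          (W i ⊓ W j) ⊓ W k ≤ W i ⊓ W k)) (hg i k)
        simp only [Groth.L18.Frame.rs_smul, Groth.L18.Frame.rs_rs] at e1 e2 e3
        rw [mul_smul, e2, e1, e3] }
  -- trivialisation
  have htriv : Nonempty ((Scheme.Modules.pullback I.π).obj L ≅ Coh.structureModule I.cov) := by
    choose U i hU hxU hUW using I.exists_nhd
    obtain ⟨F, hF⟩ := Groth.L08.Cube.NP.exists_frame_top (M := (Scheme.Modules.pullback I.π).obj L)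
      (fun x : X => I.π ⁻¹ᵁ U x) (fun y => ⟨I.π y, hxU _⟩)
      (fun x => Groth.L18.Frame.pull I.π L (U x) (Groth.L18.Frame.rs L (hUW x) (ε (i x))))
      (fun x => ((hε (i x)).mono (hUW x)).pullback I.π L)
      (fun x => I.sec (i x) (hU x) (hUW x)) (fun x => I.isUnit_sec (i x) (hU x) (hUW x)) fun a b => by
        show Groth.L18.Frame.ro (I.π.preimage_mono (inf_le_right : U a ⊓ U b ≤ U b)) _ •
            Groth.L18.Frame.rs _ (I.π.preimage_mono (inf_le_left : U a ⊓ U b ≤ U a)) _ =
          Groth.L18.Frame.ro (I.π.preimage_mono (inf_le_left : U a ⊓ U b ≤ U a)) _ •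
            Groth.L18.Frame.rs _ (I.π.preimage_mono (inf_le_right : U a ⊓ U b ≤ U b)) _
        have h1 := congrArg (Groth.L18.Frame.rs L (inf_le_inf (hUW a) (hUW b))) (hg (i a) (i b))
        rw [Groth.L18.Frame.rs_smul, Groth.L18.Frame.rs_rs, Groth.L18.Frame.rs_rs] at h1
        rw [Groth.L18.Frame.pull_rs I.π L (inf_le_left : U a ⊓ U b ≤ U a),
          Groth.L18.Frame.pull_rs I.π L (inf_le_right : U a ⊓ U b ≤ U b), Groth.L18.Frame.rs_rs,
          Groth.L18.Frame.rs_rs, ← h1, Groth.L18.Frame.pull_smul, smul_smul,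
          I.sec_compat (i a) (i b) (hU a) (hU b) (hUW a) (hUW b), mul_comm]
    exact Groth.L08.Cube.nonempty_iso_of_frame_top hF
  -- connectedness
  have hconn : ConnectedSpace I.cov := by
    have hsurj : Function.Surjective (I.π.app ⊤).hom := fun z => by
      let z' : Γ(I.cov, I.π ⁻¹ᵁ ⊤) := z
      have hex : ∀ (k : ℕ) (i : I.ι), ∃ c : Γ(X, W i), k < d → ∀ (V : X.Opens) (hV : IsAffineOpen V) (h : V ≤ W i),
          Groth.L18.Frame.ro h c = I.coef i z' k hV le_top h := fun k i => by
        by_cases hk : k < d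
        · obtain ⟨c, hc⟩ := I.exists_coef i z' hk
          refine ⟨Groth.L18.Frame.ro (le_inf le_top le_rfl : W i ≤ ⊤ ⊓ W i) c, fun _ V hV h => ?_⟩
          rw [Groth.L18.Frame.ro_ro]
          exact hc V hV (le_inf le_top h)
        · exact ⟨0, fun h => absurd h hk⟩
      choose C hC using hex
      have hCij : ∀ k, k < d → ∀ i j, Groth.L18.Frame.ro (inf_le_right : W i ⊓ W j ≤ W j) (C k j) =
          Groth.L18.Frame.ro (inf_le_left : W i ⊓ W j ≤ W i) (C k i) * g i j ^ k := fun k hk i j => by
        refine Groth.L02.CycCover.eq_of_affines' _ _ fun V hV hVle => ?_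
        rw [Groth.L18.Frame.ro_mul, Groth.L18.Frame.ro_ro, Groth.L18.Frame.ro_ro, hC k j hk V hV (hVle.trans inf_le_right),
          hC k i hk V hV (hVle.trans inf_le_left),
          I.coef_ro i j z' hk hV hV le_top (hVle.trans inf_le_left) (hVle.trans inf_le_right) le_rfl]
        simp [Groth.L18.Frame.ro, I]
      have hzero : ∀ k, 0 < k → k < d → ∀ i, C k i = 0 := by
        intro k hk0 hk i
        let N : ∀ i, Γ(X, W i) := fun i => C k i ^ d * θ i ^ k
        have hN : ∀ i j, Groth.L18.Frame.ro (inf_le_left : W i ⊓ W j ≤ W i) (N i) =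
            Groth.L18.Frame.ro (inf_le_right : W i ⊓ W j ≤ W j) (N j) := fun i j => by
          have h1 := hCij k hk i j
          have h2 := I.hgθ i j
          simp only [Groth.L18.Frame.ro, N, map_mul, map_pow, I] at h1 h2 ⊢
          rw [h1, h2]; ring
        obtain ⟨n, hn, -⟩ := X.sheaf.existsUnique_gluing' W ⊤ (fun i => homOfLE le_top)
          (fun x _ => TopologicalSpace.Opens.mem_iSup.2 (I.cover x)) N fun i j => hN i j
        by_cases hn0 : n = 0
        · have h1 : Groth.L18.Frame.ro (le_top : W i ≤ ⊤) n = N i := hn i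
          rw [hn0, Groth.L18.Frame.ro, map_zero] at h1
          exact eq_zero_of_pow_eq_zero (((hθu i).pow k).mul_left_eq_zero.1 h1.symm)
        · exfalso
          have hnu : IsUnit n := by
            obtain ⟨b, hb⟩ := hfield.mul_inv_cancel hn0
            exact IsUnit.of_mul_eq_one b hb
          have hCu : ∀ i, IsUnit (C k i) := fun i => by
            have h1 : IsUnit (N i) := (hn i) ▸ hnu.map _
            exact (isUnit_pow_iff hd.ne').1 (isUnit_of_mul_isUnit_left h1)
          obtain ⟨F, hF⟩ := Groth.L08.Cube.NP.exists_frame_top W (fun y => I.cover y)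
            (fun i => C k i • Groth.L12.FrobLift.pf (ε i) k)
            (fun i => (Groth.L12.FrobLift.isFrame_pf (hε i) k).smul_unit (hCu i)) (fun _ => 1) (fun _ => isUnit_one)
            fun a b => by
              simp only [Groth.L18.Frame.ro, map_one, one_smul, Groth.L18.Frame.rs_smul]
              have h1 := hCij k hk a b
              simp only [Groth.L18.Frame.ro] at h1
              rw [h1, Groth.L12.FrobLift.pf_rs, Groth.L12.FrobLift.pf_rs, ← hg a b, Groth.L12.FrobLift.pf_smul,
                smul_smul]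
          exact (hmin k hk0 hk).elim (Groth.L08.Cube.nonempty_iso_of_frame_top hF).some
      obtain ⟨lam, hlam, -⟩ := X.sheaf.existsUnique_gluing' W ⊤ (fun i => homOfLE le_top)
        (fun x _ => TopologicalSpace.Opens.mem_iSup.2 (I.cover x)) (C 0) fun i j => by
          have h1 := hCij 0 hd i j
          rw [pow_zero, mul_one] at h1
          exact h1.symm
      refine ⟨lam, (I.eq_app_of_coef z' lam fun i V hV hVW hi => ⟨?_, fun k hk0 hk => ?_⟩).symm⟩
      · rw [← hC 0 i hd V hV hi, ← hlam i]
        exact Groth.L18.Frame.ro_ro (le_top : W i ≤ ⊤) hi lam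
      · rw [← hC k i hk V hV hi, hzero k hk0 hk i]
        exact map_zero _
    haveI := I.surjective_π
    obtain ⟨y, -⟩ := I.π.surjective (Classical.arbitrary X)
    haveI : Nontrivial Γ(I.cov, ⊤) := (I.cov.presheaf.germ ⊤ y trivial).hom.domain_nontrivial
    haveI : IsLocalRing Γ(X, ⊤) :=
      letI := hfield.toField
      inferInstanceAs (IsLocalRing Γ(X, ⊤))
    haveI : IsLocalRing Γ(I.cov, ⊤) := IsLocalRing.of_surjective' (I.π.app ⊤).hom hsurj
    exact Groth.L16.Connected.connectedSpace_of_isLocalRing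
  exact ⟨⟨I.cov, I.π, hconn, I.isFinLocFreeOfDeg_π, htriv⟩,
    fun hu => ⟨I.cov, I.π, hconn, I.isFinLocFreeOfDeg_π, I.etale_π hu, htriv⟩⟩

end Groth.Agent.S14831
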