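import Groth.Statements.S14833
import Groth.Agent.L07.DiffMonoGeomRed

set_option autoImplicit false
set_option linter.style.haveILetI false
universe u
open CategoryTheory CategoryTheory.Limits AlgebraicGeometry
open OmegaSh

namespace Groth.Agent.S14833

/-- Let k be a field and f : X → Z a surjective k-morphism between integral proper k-schemes, where X is
geometrically normal (its base change to an algebraic closure of k has integrally closed local
domains), Z is smooth over k, and the generic fibre of f is geometrically reduced over the function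
field of Z (equivalently K(Z) ⊆ K(X) is separable). Let d_Z : O_Z → Ω_Z and d_X : O_X → Ω_X be
universal k-derivations (sheaves of Kähler differentials over k) and c : f^*Ω_Z → Ω_X the O_X-linear
map compatible with them. Then for every open subscheme U ⊆ X which is smooth over k, the
restriction of c to U is a monomorphism of O_U-modules; in particular c is injective on the smooth
locus of X. -/
theorem result (k : Type u) [Field k]
    (X Z : Scheme.{u}) [X.Over (Spec (CommRingCat.of k))] [Z.Over (Spec (CommRingCat.of k))]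
    [IsProper (X ↘ Spec (CommRingCat.of k))] [IsProper (Z ↘ Spec (CommRingCat.of k))] [IsIntegral X] [IsIntegral Z]
    [Smooth (Z ↘ Spec (CommRingCat.of k))]
    (hgn : ∀ (K : Type u) [Field K] [Algebra k K] [IsAlgClosure k K],
      Pi1.IsNormalScheme (pullback (X ↘ Spec (CommRingCat.of k)) (Spec.map (CommRingCat.ofHom (algebraMap k K)))))
    (f : X ⟶ Z) [Surjective f] (hf : f ≫ (Z ↘ Spec (CommRingCat.of k)) = X ↘ Spec (CommRingCat.of k))
    (hsep : GeometricallyReduced (pullback.snd f (Z.fromSpecResidueField (genericPoint ↥Z))))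
    (ΩZ : Z.Modules) (dZ : OmegaSh.Der (Z ↘ Spec (CommRingCat.of k)) ΩZ) (hdZ : OmegaSh.IsUniversal dZ)
    (ΩX : X.Modules) (dX : OmegaSh.Der (X ↘ Spec (CommRingCat.of k)) ΩX) (hdX : OmegaSh.IsUniversal dX)
    (c : (Scheme.Modules.pullback f).obj ΩZ ⟶ ΩX) (hc : OmegaSh.IsDiffCompat f dZ dX c)
    (U : X.Opens) (hU : Smooth (U.ι ≫ (X ↘ Spec (CommRingCat.of k)))) :
    Mono ((Scheme.Modules.restrictFunctor U.ι).map c) := by
  haveI : IsLocallyNoetherian Z := LocallyOfFiniteType.isLocallyNoetherian (Z ↘ Spec (CommRingCat.of k))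
  haveI : LocallyOfFiniteType (f ≫ (Z ↘ Spec (CommRingCat.of k))) := by rw [hf]; infer_instance
  haveI : LocallyOfFiniteType f := locallyOfFiniteType_of_comp f (Z ↘ Spec (CommRingCat.of k))
  haveI : LocallyOfFinitePresentation f := inferInstance
  obtain ⟨V, hV, hs⟩ := Groth.L07.DiffMono.exists_smooth_open_of_geomReduced f f.surjective.denseRange hsep
  haveI := hs
  obtain ⟨e, -⟩ := Groth.L19.OmegaSh.exists_iso_of_isUniversal
    (Groth.L19.OmegaSh.isUniversal_dOmega (f := Z ↘ Spec (CommRingCat.of k))) hdZ
  haveI : Mono c := Groth.L07.DiffMono.mono_diffCompat_of_open hf V hV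
    (Groth.L07.DiffMono.isFormallySmoothHom_of_smooth _) hdZ
    (Groth.L20.DescLocus.isFinLocFree_pullback f (fun y => by
      obtain ⟨W, n, hy, ⟨i⟩⟩ := Groth.L21.Duality.isFinLocFree_omega (Z ↘ Spec (CommRingCat.of k)) y
      exact ⟨W, n, hy, ⟨(Scheme.Modules.restrictFunctor W.ι).mapIso e.symm ≪≫ i⟩⟩)) hdX hc
  haveI : (Scheme.Modules.restrictFunctor U.ι).PreservesMonomorphisms :=
    Functor.preservesMonomorphisms_of_isRightAdjoint _
  exact Functor.map_mono _ c

end Groth.Agent.S14833
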