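import Groth.Statements.S14835
import Groth.Agent.S7811
import Groth.Agent.L21.RR.BirationalGenus
import Groth.Agent.L26.Weil.Axes
import Groth.Agent.L12.HypSq.Curve
import Groth.Agent.L18.NormalizationField
import Groth.Agent.L18.NormalizationGeneric
import Groth.Agent.L22.BM.NormIso
import Groth.Agent.L21.Curve.SmoothDescent
import Groth.Agent.L08.Cube.SliceFibre

set_option autoImplicit false
set_option backward.isDefEq.respectTransparency false
set_option backward.isDefEq.respectTransparency.types false
set_option linter.style.haveILetI false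
universe u
open CategoryTheory CategoryTheory.Limits AlgebraicGeometry
open Curves

namespace Groth.Agent.S14835

/-- Let k be an algebraically closed field, C and B proper curves over k (proper k-schemes of dimension
one) with B connected and regular (all local rings regular), φ : C → B a k-morphism, and ι : C_i → C
a closed integral one-dimensional subscheme (an integral component) such that the composite C_i → B
is finite. Then dim_k H^1(C, O_C) ≥ dim_k H^1(C_i, O_{C_i}) ≥ dim_k H^1(B, O_B). -/
theorem result (k : Type u) [Field k] [IsAlgClosed k]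
    (C B Ci : Scheme.{u}) [C.Over (Spec (CommRingCat.of k))] [B.Over (Spec (CommRingCat.of k))] [Ci.Over (Spec (CommRingCat.of k))]
    [IsProper (C ↘ Spec (CommRingCat.of k))] [IsProper (B ↘ Spec (CommRingCat.of k))]
    (hC : topologicalKrullDim ↥C = 1) (hB : topologicalKrullDim ↥B = 1) [ConnectedSpace ↥B]
    (hBreg : ∀ b : B, IsRegularLocalRing (B.presheaf.stalk b))
    (φ : C ⟶ B) (hφ : φ ≫ (B ↘ Spec (CommRingCat.of k)) = C ↘ Spec (CommRingCat.of k))
    (ι : Ci ⟶ C) [IsClosedImmersion ι] [IsIntegral Ci] (hCi : topologicalKrullDim ↥Ci = 1)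
    (hι : ι ≫ (C ↘ Spec (CommRingCat.of k)) = Ci ↘ Spec (CommRingCat.of k)) [IsFinite (ι ≫ φ)] :
    Module.finrank k (Coh.HH Ci (Coh.structureModule Ci) 1) ≤ Module.finrank k (Coh.HH C (Coh.structureModule C) 1) ∧
      Module.finrank k (Coh.HH B (Coh.structureModule B) 1) ≤ Module.finrank k (Coh.HH Ci (Coh.structureModule Ci) 1) := by
  haveI : IsProper (Ci ↘ Spec (CommRingCat.of k)) := by rw [← hι]; infer_instance
  refine ⟨Groth.L21.RR.genus_le_of_closedImmersion_over_dense ι k hC.le hι (U := ⊤)
    (by simpa using dense_univ), ?_⟩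
  haveI : Smooth (B ↘ Spec (CommRingCat.of k)) :=
    Groth.L26.Weil.smooth_of_regular_closed (B ↘ Spec (CommRingCat.of k)) fun x _ => hBreg x
  haveI : IsIntegral B := Groth.L12.HypSq.isIntegral (k := k) (C := B)
  haveI := Groth.L21.RR.isNoetherian_of_proper (X := Ci) k
  haveI := Groth.L21.RR.isNoetherian_of_proper (X := B) k
  have hgX : Ci.fromSpecStalk (genericPoint Ci) =
      Spec.map (CommRingCat.ofHom (RingHom.id Ci.functionField)) ≫ Ci.fromSpecStalk (genericPoint Ci) := by simp
  let N := Curv2.normalization Ci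
  let ν : N ⟶ Ci := Curv2.normalizationι Ci
  haveI : IsFinite ν :=
    Groth.L18.NormField.isFinite_fromNormalization (K := Ci.functionField) (φ := RingHom.id Ci.functionField)
      (Ci ↘ (Spec (CommRingCat.of k))) (RingHom.Finite.id _) hgX
  have hN : Pi1.IsNormalScheme N :=
    Groth.L18.NormField.isNormalScheme (K := Ci.functionField) (φ := RingHom.id Ci.functionField) hgX
  haveI : IsIntegral N := by
    show IsIntegral (Ci.fromSpecStalk (genericPoint Ci)).normalization
    infer_instance
  letI : N.Over (Spec (CommRingCat.of k)) := ⟨ν ≫ Ci ↘ Spec (CommRingCat.of k)⟩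
  haveI : IsProper (N ↘ Spec (CommRingCat.of k)) := inferInstanceAs (IsProper (ν ≫ Ci ↘ Spec (CommRingCat.of k)))
  haveI := Groth.L21.RR.isNoetherian_of_proper (X := N) k
  have hNd : topologicalKrullDim N = 1 := by
    haveI : Surjective ν := Groth.L18.NormField.surjective_fromNormalization (K := Ci.functionField)
      (φ := RingHom.id Ci.functionField) hgX
    obtain ⟨x, -, hx⟩ := (isClosed_univ (X := Ci)).exists_closed_singleton Set.univ_nonempty
    obtain ⟨y, hy⟩ := ν.surjective x
    haveI : IsIntegralHom ν := inferInstance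
    refine Groth.L21.RR.dim_eq_one_of_ne ((Groth.L19.topologicalKrullDim_le_of_isIntegralHom ν).trans hCi.le)
      (z := y) fun h => Groth.L21.RR.ne_genericPoint_of_isClosed hCi hx ?_
    rw [← hy, h]
    exact Groth.L18.NormField.fromNormalization_genericPoint (K := Ci.functionField)
      (φ := RingHom.id Ci.functionField) hgX
  haveI : Smooth (N ↘ Spec (CommRingCat.of k)) := Groth.L21.SmoothDescent.smooth_of_principal _ fun y _ => by
    haveI : IsDomain (N.presheaf.stalk y) := (hN y).1
    have hD : IsDedekindDomain (N.presheaf.stalk y) := Groth.L21.isDedekindDomain_stalk_of_normal hNd.le hN y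
    have hiff : IsDedekindDomain (N.presheaf.stalk y) ↔ (IsLocalRing.maximalIdeal (N.presheaf.stalk y)).IsPrincipal :=
      (tfae_of_isNoetherianRing_of_isLocalRing_of_isDomain (N.presheaf.stalk y)).out 2 4
    exact ⟨inferInstance, hiff.1 hD⟩
  haveI : GeometricallyIntegral (N ↘ Spec (CommRingCat.of k)) := Groth.L08.Cube.geometricallyIntegral_of_isAlgClosed _
  haveI : GeometricallyIntegral (B ↘ Spec (CommRingCat.of k)) := Groth.L08.Cube.geometricallyIntegral_of_isAlgClosed _
  haveI : IsFinite (ν ≫ ι ≫ φ) := inferInstance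
  have h1 := Groth.Agent.S7811.result k (N ↘ Spec (CommRingCat.of k)) (B ↘ Spec (CommRingCat.of k)) hNd hB
    (ν ≫ ι ≫ φ) (by rw [Category.assoc, Category.assoc, hφ, hι]; rfl)
  obtain ⟨W, hW, hiso⟩ := Groth.L22.BM.exists_isIso_normalizationι Ci
  haveI := hiso
  have hle := Groth.L21.RR.genus_le_of_closedImmersion_over_dense ν k hCi.le rfl
    (U := W) (W.isOpen.dense hW)
  exact le_trans h1 hle

end Groth.Agent.S14835
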