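import Groth.Statements.S14837
import Groth.Agent.L16.SectCmp.Basic
import Groth.Agent.L10.TopCoh
import Groth.Agent.L17.PushMV
import Groth.Agent.L16.CohLinear
import Groth.Agent.L16.ProperFinite
import Groth.Agent.L20.DescLocus.Unit
import Groth.Agent.L20.Strat.Stratification
import Groth.Agent.L21.RR.Sections

set_option autoImplicit false
universe u
open CategoryTheory CategoryTheory.Limits AlgebraicGeometry
open Coh

set_option backward.isDefEq.respectTransparency.types false
set_option linter.style.haveILetI false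
set_option backward.isDefEq.respectTransparency false
namespace Groth.Agent.S14837

/-- Let k be a field and f : X → Y a k-morphism between proper k-schemes which is a fibration (Γ(V, O_Y)
→ Γ(f⁻¹V, O_X) bijective for every open V ⊆ Y). Then H^1(Y, O_Y) injects naturally into H^1(X, O_X)
(edge map of the Leray spectral sequence); stated here as the inequality dim_k H^1(Y, O_Y) ≤ dim_k
H^1(X, O_X) of finite dimensions. -/
theorem result (k : Type u) [Field k] (X Y : Scheme.{u})
    [X.Over (Spec (CommRingCat.of k))] [Y.Over (Spec (CommRingCat.of k))] [IsProper (X ↘ Spec (CommRingCat.of k))] [IsProper (Y ↘ Spec (CommRingCat.of k))]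
    (f : X ⟶ Y) (hf : f ≫ (Y ↘ Spec (CommRingCat.of k)) = X ↘ Spec (CommRingCat.of k)) (hfib : ∀ V : Y.Opens, IsIso (f.app V)) :
    Module.finrank k (Coh.HH Y (Coh.structureModule Y) 1) ≤ Module.finrank k (Coh.HH X (Coh.structureModule X) 1) := by
  classical
  haveI : IsLocallyNoetherian X := LocallyOfFiniteType.isLocallyNoetherian (X ↘ Spec (CommRingCat.of k))
  haveI : IsLocallyNoetherian Y := LocallyOfFiniteType.isLocallyNoetherian (Y ↘ Spec (CommRingCat.of k))
  let O := Coh.structureModule X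
  let S := Groth.L16.SectCmp.seq O
  have hS : S.ShortExact := Groth.L16.SectCmp.shortExact_seq O
  let g' := (Coh.push f).map S.g
  let T : ShortComplex Y.Modules :=
    ShortComplex.mk ((Coh.push f).map S.f) (Abelian.factorThruImage g') (by
      rw [← cancel_mono (Abelian.image.ι g'), Category.assoc, Abelian.image.fac, zero_comp, ← Functor.map_comp,
        S.zero, Functor.map_zero])
  haveI : Mono S.f := hS.mono_f
  haveI : Mono ((Coh.push f).map S.f) := inferInstance
  have hT : T.ShortExact := by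
    refine { exact := ?_ }
    let ψ : T ⟶ S.map (Coh.push f) :=
      { τ₁ := 𝟙 _, τ₂ := 𝟙 _, τ₃ := Abelian.image.ι g'
        comm₁₂ := by simp [T]
        comm₂₃ := by simp [T, g'] }
    haveI : Epi ψ.τ₁ := inferInstanceAs (Epi (𝟙 _))
    haveI : IsIso ψ.τ₂ := inferInstanceAs (IsIso (𝟙 _))
    haveI : Mono ψ.τ₃ := inferInstanceAs (Mono (Abelian.image.ι g'))
    exact (ShortComplex.exact_iff_of_epi_of_isIso_of_mono ψ).2
      ((S.map (Coh.push f)).exact_of_f_is_kernel (KernelFork.mapIsLimit _ hS.fIsKernel (Coh.push f)))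
  -- the acyclic middle terms
  haveI : Injective S.X₂ := Groth.L16.SectCmp.injective_seq O
  have hfl := Groth.L17.PushMV.isFlasque_of_injective S.X₂
  have hX1 : Subsingleton (Coh.HH X S.X₂ 1) :=
    Groth.L10.TopCoh.subsingleton_H_of_flasque (X := X.toTopCat) (Coh.toAb S.X₂) hfl 0
  have hY1 : Subsingleton (Coh.HH Y T.X₂ 1) :=
    Groth.L10.TopCoh.subsingleton_H_of_flasque (X := Y.toTopCat) (Coh.toAb T.X₂) ⟨fun {U V} i =>
      hfl.epi ((TopologicalSpace.Opens.map f.base).op.map i)⟩ 0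
  -- sections of push-forwards
  have hfk : ∀ a : k, f.app ⊤ (Coh.toGlobal (Y ↘ Spec (CommRingCat.of k)) a) =
      Coh.toGlobal (X ↘ Spec (CommRingCat.of k)) a := fun a => by
    show f.appTop ((Y ↘ Spec (CommRingCat.of k)).appTop ((Scheme.ΓSpecIso (CommRingCat.of k)).inv a)) = _
    rw [← CommRingCat.comp_apply, ← Scheme.Hom.comp_appTop, hf]
    rfl
  have he : ∀ {Z : Scheme.{u}} (M : Z.Modules) (r : Coh.Γtop Z) (x : Coh.HH Z M 0),
      Groth.L21.RR.e0 M (r • x) = (show Γ(Z, ⊤) from r) • (Groth.L21.RR.e0 M x : Γ(M, ⊤)) := by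
    intro Z M r x
    refine (CategoryTheory.Sheaf.H.equiv₀_naturality _ (Coh.smulAb M r) x).symm.trans ?_
    exact (Coh.smulAb_app M r _ _).trans (congrArg (fun c : Γ(Z, ⊤) => c • (Groth.L21.RR.e0 M x : Γ(M, ⊤)))
      (congr($(Z.presheaf.map_id _) r)))
  let ι : ∀ M : X.Modules, Coh.HH Y ((Coh.push f).obj M) 0 →ₗ[k] Coh.HH X M 0 := fun M =>
    { toFun := fun x => (Groth.L21.RR.e0 M).symm
        (show Γ(M, ⊤) from (Groth.L21.RR.e0 ((Coh.push f).obj M) x : Γ((Coh.push f).obj M, ⊤)))
      map_add' := fun x y => by rw [map_add]; exact map_add _ _ _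
      map_smul' := fun a x => by
        refine (Groth.L21.RR.e0 M).injective ?_
        refine ((Groth.L21.RR.e0 M).apply_symm_apply _).trans ?_
        refine Eq.trans ?_ (he M (Coh.toGlobal (X ↘ Spec (CommRingCat.of k)) a) _).symm
        rw [AddEquiv.apply_symm_apply]
        refine (he ((Coh.push f).obj M) (Coh.toGlobal (Y ↘ Spec (CommRingCat.of k)) a) x).trans ?_
        exact congrArg (fun c : Γ(X, ⊤) => c • (show Γ(M, ⊤) from
          (Groth.L21.RR.e0 ((Coh.push f).obj M) x : Γ((Coh.push f).obj M, ⊤)))) (hfk a) }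
  let dY := Groth.L16.CohLinear.overLin (A := k) (Groth.L16.CohLinear.delta hT 0)
  let dX := Groth.L16.CohLinear.overLin (A := k) (Groth.L16.CohLinear.delta hS 0)
  let L : Coh.HH Y T.X₃ 0 →ₗ[k] Coh.HH X O 1 :=
    dX ∘ₗ ι S.X₃ ∘ₗ Groth.L16.CohLinear.overLin (A := k) (Groth.L16.CohLinear.hmap (Abelian.image.ι g') 0)
  have hsurj : Function.Surjective dY := fun y => by
    obtain ⟨x, hx⟩ := (Groth.L16.CohLinear.exact_delta_hmap hT 0 y).1 (hY1.elim _ _)
    exact ⟨x, hx⟩
  have hker : LinearMap.ker L = LinearMap.ker dY := by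
    ext b
    rw [LinearMap.mem_ker, LinearMap.mem_ker]
    constructor
    · intro hb
      obtain ⟨a, ha⟩ := (Groth.L16.CohLinear.exact_hmap_delta hS 0 _).1 hb
      let a' : Coh.HH Y T.X₂ 0 := (Groth.L21.RR.e0 T.X₂).symm (show Γ(T.X₂, ⊤) from Groth.L21.RR.e0 S.X₂ a)
      refine (Groth.L16.CohLinear.exact_hmap_delta hT 0 b).2 ⟨a', ?_⟩
      refine (Groth.L21.RR.e0 T.X₃).injective
        (Groth.L20.Strat.app_injective_of_mono (Abelian.image.ι g') ⊤ ?_)
      rw [Groth.L21.RR.e0_hmap]
      have h1 : (Abelian.image.ι g').app ⊤ ((Abelian.factorThruImage g').app ⊤ (Groth.L21.RR.e0 T.X₂ a')) =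
          g'.app ⊤ (Groth.L21.RR.e0 T.X₂ a') :=
        congr($(congrArg (fun φ => Scheme.Modules.Hom.app φ ⊤) (Abelian.image.fac g')) (Groth.L21.RR.e0 T.X₂ a'))
      refine h1.trans ?_
      rw [AddEquiv.apply_symm_apply]
      have h2 : S.g.app ⊤ (Groth.L21.RR.e0 S.X₂ a) = _ :=
        (Groth.L21.RR.e0_hmap S.g a).symm.trans (congrArg (Groth.L21.RR.e0 S.X₃) ha)
      refine h2.trans (((Groth.L21.RR.e0 S.X₃).apply_symm_apply _).trans ?_)
      exact Groth.L21.RR.e0_hmap (Abelian.image.ι g') b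
    · intro hb
      obtain ⟨a, ha⟩ := (Groth.L16.CohLinear.exact_hmap_delta hT 0 b).1 hb
      refine (Groth.L16.CohLinear.exact_hmap_delta hS 0 _).2 ⟨ι S.X₂ a, ?_⟩
      refine (Groth.L21.RR.e0 S.X₃).injective ?_
      refine (Groth.L21.RR.e0_hmap S.g _).trans ?_
      refine Eq.trans ?_ ((Groth.L21.RR.e0 S.X₃).apply_symm_apply _).symm
      refine (congrArg (S.g.app ⊤) ((Groth.L21.RR.e0 S.X₂).apply_symm_apply _)).trans ?_
      refine Eq.trans ?_ ((Groth.L21.RR.e0_hmap (Abelian.image.ι g') b).symm)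
      rw [← ha, Groth.L21.RR.e0_hmap]
      exact (congr($(congrArg (fun φ => Scheme.Modules.Hom.app φ ⊤) (Abelian.image.fac g'))
        (Groth.L21.RR.e0 T.X₂ a))).symm
  haveI : Module.Finite k (Coh.HH X O 1) :=
    Groth.L16.ProperFinite.finite_HH (A := k) (Groth.L16.CohClosedPush.isCoh_structure (X := X)) 1
  haveI : ∀ V : Y.Opens, IsIso (f.app V) := hfib
  haveI : IsIso (ClSub.unitToPush f) := Groth.L20.DescLocus.isIso_unitToPush f hfib
  let u := Groth.L16.CohLinear.overLin (A := k) (Groth.L16.CohLinear.hmap (ClSub.unitToPush f) 1)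
  have hu : Function.Injective u := Function.LeftInverse.injective
    (g := Groth.L16.CohLinear.hmap (inv (ClSub.unitToPush f)) 1) fun x => by
      show Groth.L16.CohLinear.hmap (inv (ClSub.unitToPush f)) 1 (Groth.L16.CohLinear.hmap (ClSub.unitToPush f) 1 x) = x
      rw [← Groth.L16.CohLinear.hmap_comp, IsIso.hom_inv_id, Groth.L16.CohLinear.hmap_id]
  let e : Coh.HH Y ((Coh.push f).obj O) 1 ≃ₗ[k] LinearMap.range L :=
    (dY.quotKerEquivOfSurjective hsurj).symm.trans ((Submodule.quotEquivOfEq _ _ hker.symm).trans L.quotKerEquivRange)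
  exact LinearMap.finrank_le_finrank_of_injective
    (f := (LinearMap.range L).subtype ∘ₗ e.toLinearMap ∘ₗ u)
    ((Subtype.val_injective).comp (e.injective.comp hu))

end Groth.Agent.S14837
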