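import Groth.Statements.S14838
import Groth.Agent.S14828
import Groth.Agent.S14818
import Groth.Agent.S14810
import Groth.Agent.L11.NumOrth.NumFamily
import Groth.Agent.L02.TauOpen.Fibre
import Groth.Agent.L05.EulerDiv.PowerFibre
import Groth.Agent.L22.PDual.RegVanish
import Groth.Agent.L17.ProjFormula
import Groth.Agent.L26.Poincare.Positive
import Groth.Agent.L13.PointBlow.Twist
import Mathlib.AlgebraicGeometry.Morphisms.Proper

set_option autoImplicit false
set_option backward.isDefEq.respectTransparency false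
set_option linter.style.haveILetI false
universe u
open CategoryTheory CategoryTheory.Limits AlgebraicGeometry
open Canon

namespace Groth.Agent.S14838

open Groth.L00.Tensor (tensorMap tensorIso tensorComm tensorUnitLeft tensorUnitRight tensorPowIso tensorPowMul tensorPowTensor tensorPowUnit tensorLeftF)
open Groth.L11.NumOrth (NT)

theorem mono_of_ne_zero {D : Scheme.{u}} [IsIntegral D] {A : D.Modules} (hA : PicF.IsInvertible A)
    {s : Coh.structureModule D ⟶ A} (hs : s ≠ 0) : Mono s :=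
  (Groth.L21.Mod.mono_iff_stalk_injective s).2 fun x => Groth.Agent.Poincare.Positive.injective_st hA hs x

theorem ne_zero_of_mono {D : Scheme.{u}} [IsIntegral D] {A : D.Modules}
    (s : Coh.structureModule D ⟶ A) [Mono s] : s ≠ 0 := by
  intro h
  have h1 : (𝟙 (Coh.structureModule D) : Coh.structureModule D ⟶ Coh.structureModule D) = 0 := by
    rw [← cancel_mono s, h, Category.id_comp, zero_comp]
  have hz : IsZero (Coh.structureModule D) := (IsZero.iff_id_eq_zero _).2 h1
  haveI := (Groth.L21.Mod.isZero_iff_stalk_subsingleton _).1 hz (genericPoint D)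
  exact zero_ne_one ((Groth.L21.RR.bijective_smul_one (genericPoint D)).1 (Subsingleton.elim
    ((0 : D.presheaf.stalk (genericPoint D)) • Groth.L21.RR.one D (genericPoint D))
    ((1 : D.presheaf.stalk (genericPoint D)) • Groth.L21.RR.one D (genericPoint D))))

theorem exists_section_pow {D : Scheme.{u}} [IsIntegral D] {A : D.Modules} (hA : PicF.IsInvertible A)
    {s : Coh.structureModule D ⟶ A} (hs : s ≠ 0) :
    ∀ q : ℕ, ∃ t : Coh.structureModule D ⟶ CohB1.tensorPow A q, Mono t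
  | 0 => ⟨𝟙 _, inferInstance⟩
  | q + 1 => by
    obtain ⟨t, ht⟩ := exists_section_pow hA hs q
    haveI := mono_of_ne_zero hA hs
    let P := CohB1.tensorPow A q
    haveI := Groth.L17.ChangeRings.preservesMono_tensorLeftF
      (Groth.L21.RR.isFlat_of_isInvertible (Groth.L18.Ample.isInvertible_tensorPow hA q))
    haveI : Mono (tensorMap (𝟙 P) s) := (tensorLeftF P).map_mono s
    exact ⟨t ≫ (tensorUnitRight P).inv ≫ tensorMap (𝟙 P) s, inferInstanceAs (Mono (t ≫ _ ≫ tensorMap (𝟙 P) s))⟩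


/-- Let k be a field and X an integral proper k-scheme of dimension n which is Gorenstein: every local
ring is Cohen–Macaulay and X carries an invertible dualizing sheaf (ω_X, tr_X) in degree n (Hom(F,
ω_X) → H^n(X, F)^∨ bijective for all quasi-coherent F); assume ω_X is numerically trivial. Let i : D
→ X be an integral effective Cartier divisor (integral closed subscheme with invertible ideal sheaf
I; O_X(D) an inverse of I) with a dualizing sheaf (ω_D, tr_D) in degree n − 1, let Y be a proper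
k-scheme and f : X → Y a surjective k-morphism, and let m₁, m₂, m₃ ≥ 1 be integers with: (i)
ω_D^{⊗m₁} ≅ O_D and O_D(m₂D) = (O_X(D)|_D)^{⊗m₂} has a nonzero global section; (ii) ω_X^{⊗m₃} ≅ f^*N
for some invertible O_Y-module N; (iii) the restriction f|_D factors as D → Z → Y with O_Z → α_*O_D
an isomorphism and β : Z → Y finite locally free of constant degree r (a flat Stein factorisation).
Then ω_X^{⊗(r·lcm(m₁,m₂,m₃))} ≅ O_X; thus ω_X has finite order in Pic(X) dividing r·lcm(m₁,m₂,m₃).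
(The published statement prints the bound r·lcm(m₁, m₂, m₂); its proof takes m to be a common
multiple for which (i) and (ii) hold with m in place of m₁, m₂ and m₃, i.e. m = lcm(m₁, m₂, m₃),
which is the bound this row states.) -/
theorem result (k : Type u) [Field k]
    (X : Scheme.{u}) [X.Over (Spec (CommRingCat.of k))] [IsProper (X ↘ Spec (CommRingCat.of k))] [IsIntegral X] (n : ℕ) (hn : topologicalKrullDim ↥X = n)
    (hCM : ∀ x : X, LocCoh.IsCohenMacaulayLocalRing (X.presheaf.stalk x))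
    (ωX : X.Modules) (trX : Coh.HH X ωX n →ₗ[k] k) (hωX : Canon.IsRDualOver k X n ωX trX) (hωXinv : PicF.IsInvertible ωX)
    (hnum : Pic13.IsNumEquivZero k X ωX)
    (D : Scheme.{u}) (i : D ⟶ X) [IsClosedImmersion i] [IsIntegral D] (hI : PicF.IsInvertible (ClSub.idealMod i.ker))
    (OD : X.Modules) (hOD : ClSub.IsInverseOf OD (ClSub.idealMod i.ker))
    (Y : Scheme.{u}) [Y.Over (Spec (CommRingCat.of k))] [IsProper (Y ↘ Spec (CommRingCat.of k))] (f : X ⟶ Y) [Surjective f] (hf : f ≫ (Y ↘ Spec (CommRingCat.of k)) = X ↘ Spec (CommRingCat.of k))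
    (m₁ m₂ m₃ : ℕ) (hm₁ : 0 < m₁) (hm₂ : 0 < m₂) (hm₃ : 0 < m₃)
    (N : Y.Modules) (hN : PicF.IsInvertible N) (hii : Nonempty (CohB1.tensorPow ωX m₃ ≅ (Scheme.Modules.pullback f).obj N))
    (Z : Scheme.{u}) (α : D ⟶ Z) (β : Z ⟶ Y) (hαβ : α ≫ β = i ≫ f) (hα : ∀ V : Z.Opens, IsIso (α.app V))
    (r : ℕ) (hβ : Mor2.IsFinLocFreeOfDeg r β) :
    letI : D.Over (Spec (CommRingCat.of k)) := ⟨i ≫ (X ↘ Spec (CommRingCat.of k))⟩
    ∀ (ωD : D.Modules) (trD : Coh.HH D ωD (n - 1) →ₗ[k] k), Canon.IsRDualOver k D (n - 1) ωD trD →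
      Nonempty (CohB1.tensorPow ωD m₁ ≅ Coh.structureModule D) →
      ∀ (s : Coh.structureModule D ⟶ CohB1.tensorPow ((Scheme.Modules.pullback i).obj OD) m₂), s ≠ 0 →
        Nonempty (CohB1.tensorPow ωX (r * Nat.lcm m₁ (Nat.lcm m₂ m₃)) ≅ Coh.structureModule X) := by
  letI : D.Over (Spec (CommRingCat.of k)) := ⟨i ≫ (X ↘ Spec (CommRingCat.of k))⟩
  haveI : IsProper (D ↘ Spec (CommRingCat.of k)) := inferInstanceAs (IsProper (i ≫ _))
  intro ωD trD hD hωD s hs
  obtain ⟨eD⟩ := (Groth.Agent.S14828.result k X n hn hCM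
    (fun x hx => Groth.L22.PDual.dim_stalk_closed_point k hn hx) ωX trX hωX D i hI OD hOD).2 ωD trD hD
  obtain ⟨eN⟩ := hii
  obtain ⟨e1⟩ := hωD
  have hODi := Groth.L13.PointBlow.isInvertible_of_isInverseOf hI hOD
  let A := (Scheme.Modules.pullback i).obj OD
  let B := (Scheme.Modules.pullback i).obj ωX
  have hA : PicF.IsInvertible A := Groth.L18.Ample.isInvertible_pullback i hODi
  have hB : PicF.IsInvertible B := Groth.L18.Ample.isInvertible_pullback i hωXinv
  obtain ⟨q₁, hq₁⟩ := Nat.dvd_lcm_left m₁ (Nat.lcm m₂ m₃)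
  obtain ⟨q₂, hq₂⟩ := (Nat.dvd_lcm_left m₂ m₃).trans (Nat.dvd_lcm_right m₁ _)
  obtain ⟨q₃, hq₃⟩ := (Nat.dvd_lcm_right m₂ m₃).trans (Nat.dvd_lcm_right m₁ _)
  generalize Nat.lcm m₁ (Nat.lcm m₂ m₃) = m at hq₁ hq₂ hq₃
  -- triviality on the divisor
  have eAB : CohB1.tensorMod (CohB1.tensorPow A m) (CohB1.tensorPow B m) ≅ Coh.structureModule D :=
    (tensorPowTensor A B m).symm ≪≫
      tensorPowIso ((Groth.L29.DC.PullTensor.pullTensor i OD ωX) ≪≫ eD.symm) m ≪≫
      eqToIso (congrArg (CohB1.tensorPow ωD) hq₁) ≪≫ (tensorPowMul ωD m₁ q₁).symm ≪≫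
      tensorPowIso e1 q₁ ≪≫ tensorPowUnit D q₁
  have hBn : NT k (CohB1.tensorPow B m) :=
    NT.pow ⟨hB, Groth.L02.TauOpen.num_pullback (k := k) i rfl hωXinv hnum⟩ m
  obtain ⟨Q, hQ, ⟨eQ⟩⟩ := hBn.exists_inverse
  have hAm := Groth.L18.Ample.isInvertible_tensorPow hA m
  obtain ⟨eAQ⟩ := Groth.L13.PointBlow.inverse_unique eAB (tensorComm Q _ ≪≫ eQ)
  have hAn : Pic13.IsNumEquivZero k D (CohB1.tensorPow A m) :=
    Groth.L02.TauOpen.num_congr (k := k) hQ.1 eAQ.symm hQ.2
  obtain ⟨t, ht⟩ := exists_section_pow (Groth.L18.Ample.isInvertible_tensorPow hA m₂) hs q₂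
  let eA := tensorPowMul A m₂ q₂ ≪≫ eqToIso (congrArg (CohB1.tensorPow A) hq₂.symm)
  obtain ⟨eA1⟩ := Groth.Agent.S14810.result k D (isField_of_universallyClosed k (D ↘ Spec (CommRingCat.of k)))
    (CohB1.tensorPow A m) hAm hAn (t ≫ eA.hom) (ne_zero_of_mono _)
  have eB : CohB1.tensorPow B m ≅ Coh.structureModule D :=
    (tensorUnitLeft _).symm ≪≫ tensorIso eA1.symm (Iso.refl _) ≪≫ eAB
  -- descend to the base
  let N' := CohB1.tensorPow N q₃
  have hN' : PicF.IsInvertible N' := Groth.L18.Ample.isInvertible_tensorPow hN q₃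
  obtain ⟨eNq⟩ := Groth.L05.EulerDiv.nonempty_pullback_tensorPow f N q₃
  let eX : CohB1.tensorPow ωX m ≅ (Scheme.Modules.pullback f).obj N' :=
    eqToIso (congrArg (CohB1.tensorPow ωX) hq₃) ≪≫ (tensorPowMul ωX m₃ q₃).symm ≪≫
      tensorPowIso eN q₃ ≪≫ eNq.symm
  obtain ⟨eBm⟩ := Groth.L05.EulerDiv.nonempty_pullback_tensorPow i ωX m
  let M := (Scheme.Modules.pullback β).obj N'
  let eM : (Scheme.Modules.pullback α).obj M ≅ Coh.structureModule D :=
    (Scheme.Modules.pullbackComp α β).app N' ≪≫ (Scheme.Modules.pullbackCongr hαβ).app N' ≪≫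
      ((Scheme.Modules.pullbackComp i f).app N').symm ≪≫ (Scheme.Modules.pullback i).mapIso eX.symm ≪≫
      eBm ≪≫ eB
  have hMf : FlatMod.IsFinLocFree M :=
    Groth.L16.Existence.isFinLocFree_of_isInvertible (Groth.L18.Ample.isInvertible_pullback β hN')
  haveI : IsIso (ClSub.unitToPush α) := by
    rw [Scheme.Modules.Hom.isIso_iff_isIso_app]
    intro V
    rw [ConcreteCategory.isIso_iff_bijective]
    haveI := hα V
    exact ConcreteCategory.bijective_of_isIso (α.app V)
  haveI := Groth.L17.ProjFormula.isIso_θ α M (Coh.structureModule D) hMf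
  let eM1 : M ≅ Coh.structureModule Z :=
    (tensorUnitRight M).symm ≪≫ tensorIso (Iso.refl M) (asIso (ClSub.unitToPush α)) ≪≫
      asIso (Groth.L17.ClosedPush.θ α (Coh.structureModule D) M) ≪≫
      (Scheme.Modules.pushforward α).mapIso (tensorUnitRight _ ≪≫ eM) ≪≫ (asIso (ClSub.unitToPush α)).symm
  haveI : IsLocallyNoetherian Y := LocallyOfFiniteType.isLocallyNoetherian (Y ↘ Spec (CommRingCat.of k))
  haveI : ConnectedSpace Y := f.surjective.connectedSpace f.continuous
  obtain ⟨eN1⟩ := Groth.Agent.S14818.result Y Z β r hβ N' hN' ⟨eM1⟩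
  obtain ⟨eNr⟩ := Groth.L05.EulerDiv.nonempty_pullback_tensorPow f N' r
  exact ⟨eqToIso (congrArg (CohB1.tensorPow ωX) (mul_comm r m)) ≪≫ (tensorPowMul ωX m r).symm ≪≫
    tensorPowIso eX r ≪≫ eNr.symm ≪≫ (Scheme.Modules.pullback f).mapIso eN1 ≪≫
    Groth.L29.LocFree.pullbackUnitIso f⟩

end Groth.Agent.S14838
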