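import Groth.Statements.S1484
import Mathlib.FieldTheory.AlgebraicClosure
import Mathlib.RingTheory.LocalRing.ResidueField.Ideal

set_option autoImplicit false
universe u
open FlatMor

namespace Groth.Agent.S1484

/-- Let R be a ring, p_1, …, p_r primes of R none of which is contained in another, k_i ⊆ κ(p_i)
subfields over which κ(p_i) is not algebraic, and J an ideal of R contained in none of the p_i. Then
some x ∈ J has image in κ(p_i) transcendental over k_i for every i. -/
theorem result {R : Type u} [CommRing R] {r : ℕ} (p : Fin r → Ideal R) [∀ i, (p i).IsPrime]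
    (hp : ∀ i j, i ≠ j → ¬ p i ≤ p j) (k : ∀ i, Subfield (p i).ResidueField)
    (hk : ∀ i, ¬ Algebra.IsAlgebraic ↥(k i) (p i).ResidueField) (J : Ideal R) (hJ : ∀ i, ¬ J ≤ p i) :
    ∃ x ∈ J, ∀ i, Transcendental ↥(k i) (algebraMap R (p i).ResidueField x) := by
  classical
  have hy : ∀ i, ∃ y, y ∈ J ∧ (∀ j, j ≠ i → y ∈ p j) ∧ y ∉ p i := by
    intro i
    have hI : ¬ J ⊓ (Finset.univ.erase i).inf p ≤ p i := fun h => by
      rcases (inferInstance : (p i).IsPrime).inf_le.mp h with h | h
      · exact hJ i h
      · obtain ⟨j, hj, hji⟩ := (inferInstance : (p i).IsPrime).inf_le'.mp h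
        exact hp j i (Finset.ne_of_mem_erase hj) hji
    obtain ⟨y, hy, hyi⟩ := SetLike.not_le_iff_exists.mp hI
    have hy' := Submodule.mem_inf.mp hy
    refine ⟨y, hy'.1, fun j hj => ?_, hyi⟩
    exact Submodule.mem_finsetInf.mp hy'.2 j (Finset.mem_erase.mpr ⟨hj, Finset.mem_univ j⟩)
  choose y hyJ hyj hyi using hy
  have hc : ∀ i, ∃ c : R, Transcendental ↥(k i) (algebraMap R (p i).ResidueField (c * y i)) := by
    intro i
    by_contra hne
    simp only [not_exists, Transcendental, not_not] at hne
    refine hk i ⟨fun z => ?_⟩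
    obtain ⟨a, b, -, rfl⟩ := IsFractionRing.div_surjective (R ⧸ p i) z
    obtain ⟨a, rfl⟩ := Ideal.Quotient.mk_surjective a
    obtain ⟨b, rfl⟩ := Ideal.Quotient.mk_surjective b
    have hy0 : algebraMap R (p i).ResidueField (y i) ≠ 0 := fun h0 =>
      hyi i (Ideal.algebraMap_residueField_eq_zero.mp h0)
    have hmem : ∀ c : R, algebraMap R (p i).ResidueField c ∈ algebraicClosure ↥(k i) (p i).ResidueField := by
      intro c
      have h1 : algebraMap R (p i).ResidueField (c * y i) ∈ algebraicClosure ↥(k i) (p i).ResidueField :=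
        mem_algebraicClosure_iff.mpr (hne c)
      have h2 : algebraMap R (p i).ResidueField (1 * y i) ∈ algebraicClosure ↥(k i) (p i).ResidueField :=
        mem_algebraicClosure_iff.mpr (hne 1)
      rw [one_mul] at h2
      have h3 := div_mem h1 h2
      rwa [map_mul, mul_div_cancel_right₀ _ hy0] at h3
    exact mem_algebraicClosure_iff.mp (div_mem (hmem a) (hmem b))
  choose c hc using hc
  refine ⟨∑ i, c i * y i, Ideal.sum_mem _ fun i _ => J.mul_mem_left _ (hyJ i), fun i => ?_⟩
  rw [map_sum, Finset.sum_eq_single i]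
  · exact hc i
  · intro j _ hji
    exact Ideal.algebraMap_residueField_eq_zero.mpr ((p i).mul_mem_left _ (hyj j i (Ne.symm hji)))
  · intro h
    exact absurd (Finset.mem_univ i) h

end Groth.Agent.S1484
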