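import Groth.Statements.S14840
import Groth.Agent.L25.FixedClosed

set_option backward.isDefEq.respectTransparency.types false

set_option autoImplicit false
open CategoryTheory MonoidalCategory CartesianMonoidalCategory AlgebraicGeometry
universe u
open AlgGrp

namespace Groth.Agent.S14840

/-- Let G be a group scheme over a scheme S, affine over S and with structure sheaf locally free over
O_S (each point of S has an affine open neighbourhood U such that the sections of O_G over the
preimage of U form a free module over the sections of O_S over U), acting on an S-scheme Y which is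
separated over S. Then the subfunctor of G-fixed points of Y is a closed subfunctor: there are an
S-scheme Z and a closed immersion i : Z → Y over S such that a T-valued point y of Y factors through
i exactly when it is fixed, i.e. g · y = y for every S-scheme T' over T and every T'-valued point g
of G. -/
theorem result
    {S : Scheme.{u}} (G Y : Over S) [GrpObj G] (a : AlgGrp.Action G Y)
    [IsAffineHom G.hom] [IsSeparated Y.hom]
    (hfree : ∀ s : S, ∃ U : S.affineOpens, s ∈ (U : S.Opens) ∧
      @Module.Free Γ(S, U) Γ(G.left, G.hom ⁻¹ᵁ U) _ _ (G.hom.app U).hom.toAlgebra.toModule) :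
    ∃ (Z : Over S) (i : Z ⟶ Y), IsClosedImmersion i.left ∧
      ∀ (T : Over S) (y : T ⟶ Y),
        (∀ (T' : Over S) (t : T' ⟶ T) (g : T' ⟶ G), lift g (t ≫ y) ≫ a.act = t ≫ y) ↔
          ∃ z : T ⟶ Z, z ≫ i = y := by
  have hf : SGA3x.IsEssentiallyFree (CategoryTheory.Limits.pullback.snd G.hom Y.hom) :=
    (Groth.Agent.S5356.result).2.2.2 _ _ _ G.hom Y.hom
      (Groth.L25.FixedClosed.isEssentiallyFree_of_free G.hom hfree)
  let w : (G ⊗ Y).left ⟶ CategoryTheory.Limits.pullback Y.hom Y.hom :=
    CategoryTheory.Limits.pullback.lift a.act.left (snd G Y).left (by rw [Over.w, Over.w])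
  let Δ := CategoryTheory.Limits.pullback.diagonal Y.hom
  let j := CategoryTheory.Limits.pullback.snd Δ w
  obtain ⟨Z, t, ht, -, hZ⟩ := Groth.L02.SchDom.exists_weilLocus_free (f := (snd G Y).left) (j := j) hf
  haveI := ht
  refine ⟨Over.mk (t ≫ Y.hom), Over.homMk t rfl, ht, fun T y => ?_⟩
  trans ∃ g', g' ≫ t = y.left
  swap
  · exact ⟨fun ⟨g', hg⟩ => ⟨Over.homMk g' (by
      show g' ≫ t ≫ Y.hom = T.hom
      rw [← Category.assoc, hg, Over.w]), Over.OverMorphism.ext hg⟩, fun ⟨z, hz⟩ => ⟨z.left, congr($(hz).left)⟩⟩
  rw [hZ]
  let p₁ := CategoryTheory.Limits.pullback.fst (snd G Y).left y.left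
  let p₂ := CategoryTheory.Limits.pullback.snd (snd G Y).left y.left
  have hlands : Groth.L02.SchDom.Lands (snd G Y).left j (𝟙 _) y.left ↔
      p₁ ≫ a.act.left = p₁ ≫ (snd G Y).left := by
    constructor
    · rintro ⟨l, hl⟩
      rw [Category.comp_id] at hl
      have e : l ≫ CategoryTheory.Limits.pullback.fst Δ w ≫ Δ = p₁ ≫ w := by
        rw [CategoryTheory.Limits.pullback.condition, ← Category.assoc, hl]
      have e1 := congrArg (· ≫ CategoryTheory.Limits.pullback.fst Y.hom Y.hom) e
      have e2 := congrArg (· ≫ CategoryTheory.Limits.pullback.snd Y.hom Y.hom) e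
      simp only [Category.assoc, w, Δ, CategoryTheory.Limits.pullback.lift_fst, CategoryTheory.Limits.pullback.lift_snd,
        CategoryTheory.Limits.pullback.diagonal_fst, CategoryTheory.Limits.pullback.diagonal_snd, Category.comp_id] at e1 e2
      exact e1.symm.trans e2
    · intro h
      refine ⟨CategoryTheory.Limits.pullback.lift (p₁ ≫ (snd G Y).left) p₁ ?_, ?_⟩
      · apply CategoryTheory.Limits.pullback.hom_ext
        · simp only [Category.assoc, w, Δ, CategoryTheory.Limits.pullback.diagonal_fst, Category.comp_id]
          erw [CategoryTheory.Limits.pullback.lift_fst]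
          exact h.symm
        · simp only [Category.assoc, w, Δ, CategoryTheory.Limits.pullback.diagonal_snd, Category.comp_id]
          erw [CategoryTheory.Limits.pullback.lift_snd]
      · exact (CategoryTheory.Limits.pullback.lift_snd _ _ _).trans (Category.comp_id _).symm
  rw [hlands]
  constructor
  · intro h
    let T' : Over S := Over.mk (p₁ ≫ (G ⊗ Y).hom)
    let t' : T' ⟶ T := Over.homMk p₂ (by
      show p₂ ≫ T.hom = p₁ ≫ (G ⊗ Y).hom
      rw [← Over.w y, ← Category.assoc, ← CategoryTheory.Limits.pullback.condition, Category.assoc, Over.w])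
    let q : T' ⟶ G ⊗ Y := Over.homMk p₁ rfl
    have hq : q ≫ snd G Y = t' ≫ y := Over.OverMorphism.ext CategoryTheory.Limits.pullback.condition
    have := h T' t' (q ≫ fst G Y)
    rw [← hq, ← comp_lift, lift_fst_snd, Category.comp_id] at this
    exact congr($(this).left)
  · intro h T' t' g
    apply Over.OverMorphism.ext
    let m : T'.left ⟶ CategoryTheory.Limits.pullback (snd G Y).left y.left :=
      CategoryTheory.Limits.pullback.lift (lift g (t' ≫ y)).left t'.left
        (congr($(lift_snd g (t' ≫ y)).left))
    have hm : m ≫ p₁ = (lift g (t' ≫ y)).left := CategoryTheory.Limits.pullback.lift_fst _ _ _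
    rw [Over.comp_left, ← hm, Category.assoc, h, ← Category.assoc, hm]
    exact congr($(lift_snd g (t' ≫ y)).left)

end Groth.Agent.S14840
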