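import Groth.Statements.S14843
import Groth.Agent.L08.SimpleSubcoalg

set_option autoImplicit false
universe u v
open HopfRep

namespace Groth.Agent.S14843
open Groth.L08 TensorProduct

open TensorProduct in
/-- Over a field K, a coalgebra C is cosemisimple, i.e. C is the internal direct sum of a family of
simple subcoalgebras, if and only if every right C-comodule is completely reducible (every
subcomodule admits a complementary subcomodule). Here a subcoalgebra of C is a subspace B whose
comultiplication lands in the image of B ⊗ B, and a simple subcoalgebra is a nonzero subcoalgebra D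
whose only subcoalgebras contained in D are 0 and D. (Comodules are quantified in the universe of C;
the published statement is for left comodules, and the equivalence of 'direct sum of simple
subcomodules' with 'every subcomodule is a direct summand' is the standard one.) -/
theorem result {K : Type u} {C : Type v} [Field K]
    [AddCommGroup C] [Module K C] [Coalgebra K C] :
    (∃ (ι : Type v) (D : ι → Submodule K C), iSupIndep D ∧ iSup D = ⊤ ∧ ∀ i,
        D i ≠ ⊥ ∧ (∀ b ∈ D i, CoalgebraStruct.comul (R := K) b ∈ LinearMap.range (TensorProduct.map (D i).subtype (D i).subtype)) ∧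
        ∀ B : Submodule K C, B ≤ D i → (∀ b ∈ B, CoalgebraStruct.comul (R := K) b ∈ LinearMap.range (TensorProduct.map B.subtype B.subtype)) → B = ⊥ ∨ B = D i) ↔
      ∀ (V : Type v) [AddCommGroup V] [Module K V] [HopfRep.Comod K C V],
        HopfRep.IsSemisimpleComod K C V := by
  constructor
  · rintro ⟨ι, D, -, htop, hD⟩ V _ _ _
    haveI : IsSemisimpleModule (Dl K C) C := by
      have hs := fun i => IsSimpleSubcoalg.isSemisimple (k := K) (A := C) (D := D i) (hD i)
      have h2 : (⨆ i, toSub (isSubcoalg_iff.1 ((hD i).2.1 : IsSubcoalg (D i))).1) = (⊤ : Submodule (Dl K C) C) :=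
        Submodule.restrictScalars_injective K _ _ (by simpa [Submodule.restrictScalars_iSup] using htop)
      exact isSemisimpleModule_of_isSemisimpleModule_submodule' hs h2
    exact isSemisimpleComod_of_regular V
  · intro h
    haveI := isSemisimpleComod_iff.1 (h C)
    refine ⟨{D : Submodule K C // IsSimpleSubcoalg D}, fun D => D.1, iSupIndep_simpleSubcoalg,
      eq_top_iff.2 ?_, fun D => ⟨D.2.1, D.2.2.1, D.2.2.2⟩⟩
    have h2 := congrArg (Submodule.restrictScalars K) (IsSemisimpleModule.sSup_simples_eq_top (Dl K C) C)
    rw [sSup_eq_iSup', Submodule.restrictScalars_iSup, Submodule.restrictScalars_top] at h2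
    rw [← h2]
    refine iSup_le fun m => ?_
    haveI : IsSimpleModule (Dl K C) m.1 := m.2
    exact le_iSup_of_le ⟨_, isSimpleSubcoalg_coeff (S := m.1)⟩ (le_coeff_self _)

end Groth.Agent.S14843
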