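import Groth.Statements.S14844
import Groth.Agent.L08.Basic
import Mathlib.Algebra.DirectSum.Module

set_option autoImplicit false
universe u v w w'
open HopfRep

namespace Groth.Agent.S14844
open TensorProduct

open TensorProduct in
/-- Let R be a commutative ring and C an R-coalgebra, flat over R, which is the internal direct sum of
subcoalgebras D_i (submodules whose comultiplication lands in the image of D_i ⊗ D_i, independent
and with supremum C). Then every right C-comodule V is the internal direct sum of the subcomodules
V_i, where V_i is the preimage under the coaction of the image of V ⊗ D_i in V ⊗ C, and the coaction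
maps V_i into the image of V_i ⊗ D_i, so that the comodule structure of V_i reduces to a
D_i-comodule structure. (The published statement is for a flat sheaf of coalgebras over a base
scheme and left comodules on a scheme over it; this row is the case of an affine base with modules
of global sections, for right comodules.) -/
theorem result {R : Type u} {C : Type v} [CommRing R]
    [AddCommGroup C] [Module R C] [Coalgebra R C] [Module.Flat R C]
    {ι : Type w} (D : ι → Submodule R C)
    (hD : ∀ i, ∀ d ∈ D i, CoalgebraStruct.comul (R := R) d ∈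
      LinearMap.range (TensorProduct.map (D i).subtype (D i).subtype))
    (hind : iSupIndep D) (htop : iSup D = ⊤)
    {V : Type w'} [AddCommGroup V] [Module R V] [HopfRep.Comod R C V] :
    (∀ i, HopfRep.IsSubcomod (k := R) (A := C) ((LinearMap.range (LinearMap.lTensor V (D i).subtype)).comap
        (HopfRep.Comod.coact (k := R) (A := C) (V := V)))) ∧
    iSupIndep (fun i => ((LinearMap.range (LinearMap.lTensor V (D i).subtype)).comap
        (HopfRep.Comod.coact (k := R) (A := C) (V := V)))) ∧
    (⨆ i, ((LinearMap.range (LinearMap.lTensor V (D i).subtype)).comap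
        (HopfRep.Comod.coact (k := R) (A := C) (V := V)))) = ⊤ ∧
    ∀ i, ∀ v ∈ ((LinearMap.range (LinearMap.lTensor V (D i).subtype)).comap
        (HopfRep.Comod.coact (k := R) (A := C) (V := V))),
      HopfRep.Comod.coact (k := R) (A := C) v ∈
        LinearMap.range (TensorProduct.map ((LinearMap.range (LinearMap.lTensor V (D i).subtype)).comap
        (HopfRep.Comod.coact (k := R) (A := C) (V := V))).subtype (D i).subtype) := by
  classical
  have hint : DirectSum.IsInternal D :=
    (DirectSum.isInternal_submodule_iff_iSupIndep_and_iSup_eq_top D).2 ⟨hind, htop⟩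
  let e := LinearEquiv.ofBijective (DirectSum.coeLinearMap D) hint
  let p : ι → C →ₗ[R] C := fun i =>
    (D i).subtype ∘ₗ DirectSum.component R ι (fun i => D i) i ∘ₗ e.symm.toLinearMap
  have hesymm : ∀ j (x : D j), e.symm (x : C) = DirectSum.lof R ι (fun i => D i) j x := fun j x => by
    rw [LinearEquiv.symm_apply_eq, DirectSum.lof_eq_of]
    exact (DirectSum.coeLinearMap_of D j x).symm
  have hp : ∀ i j (x : D j), p i (x : C) = if j = i then (x : C) else 0 := fun i j x => by
    simp only [p, LinearMap.comp_apply, LinearEquiv.coe_coe, hesymm]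
    split_ifs with h
    · subst h
      simp
    · rw [DirectSum.component.of, dif_neg h]
      simp
  have hD' : ∀ i (φ : C →ₗ[R] R) (c : C),
      TensorProduct.rid R C ((φ ∘ₗ p i).lTensor C (Coalgebra.comul (R := R) c)) =
        TensorProduct.rid R C (φ.lTensor C (Coalgebra.comul (R := R) (p i c))) ∧
      TensorProduct.lid R C ((φ ∘ₗ p i).rTensor C (Coalgebra.comul (R := R) c)) =
        TensorProduct.lid R C (φ.rTensor C (Coalgebra.comul (R := R) (p i c))) := by
    intro i φ c
    obtain ⟨x, rfl⟩ := e.surjective c
    induction x using DirectSum.induction_on with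
    | zero => simp
    | add a b ha hb => simp only [map_add, ha.1, hb.1, ha.2, hb.2, and_self]
    | of j x =>
      have hx : e (DirectSum.of (fun i => D i) j x) = (x : C) := DirectSum.coeLinearMap_of D j x
      rw [hx, hp]
      obtain ⟨y, hy⟩ := hD j _ x.2
      split_ifs with h
      · rw [← hy]
        clear hy
        induction y with
        | zero => simp
        | add a b ha hb => simp only [map_add, ha.1, hb.1, ha.2, hb.2, and_self]
        | tmul a b => simp [hp, h]
      · rw [← hy]
        clear hy
        induction y with
        | zero => simp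
        | add a b ha hb =>
          simp only [map_zero] at ha hb ⊢
          simp only [map_add, ha.1, hb.1, ha.2, hb.2, add_zero, and_self]
        | tmul a b => simp [hp, h]
  let ρ : V →ₗ[R] V ⊗[R] C := HopfRep.Comod.coact (k := R) (A := C)
  let P : ι → V →ₗ[R] V := fun i => L08.fAct V (Coalgebra.counit ∘ₗ p i)
  have hc1 : ∀ i (c : C), TensorProduct.rid R C
      ((Coalgebra.counit ∘ₗ p i).lTensor C (Coalgebra.comul (R := R) c)) = p i c := fun i c => by
    rw [(hD' i Coalgebra.counit c).1, Coalgebra.lTensor_counit_comul]; simp
  have hc2 : ∀ i (c : C), TensorProduct.lid R C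
      ((Coalgebra.counit ∘ₗ p i).rTensor C (Coalgebra.comul (R := R) c)) = p i c := fun i c => by
    rw [(hD' i Coalgebra.counit c).2, Coalgebra.rTensor_counit_comul]; simp
  have hρP : ∀ i v, ρ (P i v) = (p i).lTensor V (ρ v) ∧ (P i).rTensor C (ρ v) = (p i).lTensor V (ρ v) := by
    intro i v
    let φ := Coalgebra.counit ∘ₗ p i
    have hA : ∀ y : V ⊗[R] C,
        ρ (TensorProduct.rid R V (φ.lTensor V y)) =
          ((TensorProduct.rid R C).toLinearMap ∘ₗ φ.lTensor C).lTensor V
            (TensorProduct.assoc R V C C (ρ.rTensor C y)) := by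
      intro y
      induction y with
      | zero => simp
      | add a b ha hb => simp only [map_add, ha, hb]
      | tmul m c =>
        simp only [LinearMap.lTensor_tmul, TensorProduct.rid_tmul, map_smul, LinearMap.rTensor_tmul]
        induction ρ m with
        | zero => simp
        | add a b ha hb => simp only [map_add, add_tmul, smul_add, ha, hb]
        | tmul a b => simp [TensorProduct.smul_tmul', TensorProduct.tmul_smul]
    have hB : ∀ y : V ⊗[R] C,
        (P i).rTensor C y =
          ((TensorProduct.lid R C).toLinearMap ∘ₗ φ.rTensor C).lTensor V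
            (TensorProduct.assoc R V C C (ρ.rTensor C y)) := by
      intro y
      induction y with
      | zero => simp
      | add a b ha hb => simp only [map_add, ha, hb]
      | tmul m c =>
        simp only [LinearMap.rTensor_tmul, P, L08.fAct_apply]
        change (TensorProduct.rid R V (φ.lTensor V (ρ m))) ⊗ₜ[R] c = _
        induction ρ m with
        | zero => simp
        | add a b ha hb => simp only [map_add, add_tmul, ha, hb]
        | tmul a b => simp [φ, TensorProduct.smul_tmul]
    refine ⟨(hA (ρ v)).trans ?_, (hB (ρ v)).trans ?_⟩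
    · rw [L08.coassoc_apply, ← LinearMap.lTensor_comp_apply,
        show ((TensorProduct.rid R C).toLinearMap ∘ₗ φ.lTensor C) ∘ₗ Coalgebra.comul = p i from
          LinearMap.ext (hc1 i)]
    · rw [L08.coassoc_apply, ← LinearMap.lTensor_comp_apply,
        show ((TensorProduct.lid R C).toLinearMap ∘ₗ φ.rTensor C) ∘ₗ Coalgebra.comul = p i from
          LinearMap.ext (hc2 i)]
  let W : ι → Submodule R V := fun i =>
    (LinearMap.range (LinearMap.lTensor V (D i).subtype)).comap ρ
  have hPmem : ∀ i v, P i v ∈ W i := fun i v =>
    ⟨(DirectSum.component R ι (fun i => D i) i ∘ₗ e.symm.toLinearMap).lTensor V (ρ v),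
      ((hρP i v).1.trans (LinearMap.lTensor_comp_apply _ _ _ _)).symm⟩
  have hlz : ∀ i j, ∀ v ∈ W j, (p i).lTensor V (ρ v) = if j = i then ρ v else 0 := by
    intro i j v hv
    obtain ⟨y, hy⟩ := hv
    rw [← hy, ← LinearMap.lTensor_comp_apply]
    split_ifs with h
    · congr 2
      exact LinearMap.ext fun x => by simp [hp, h]
    · rw [show p i ∘ₗ (D j).subtype = 0 from LinearMap.ext fun x => by simp [hp, h]]
      simp
  have hPW : ∀ i j, ∀ v ∈ W j, P i v = if j = i then v else 0 := by
    intro i j v hv
    apply L08.coact_injective (k := R) (A := C)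
    refine (hρP i v).1.trans ((hlz i j v hv).trans ?_)
    split_ifs <;> simp [ρ]
  have hmap : ∀ i, ∀ v ∈ W i, ρ v ∈ LinearMap.range (TensorProduct.map (W i).subtype (D i).subtype) := by
    intro i v hv
    obtain ⟨y, hy⟩ := id hv
    have e1 : ρ v = (P i).rTensor C (ρ v) := by
      rw [(hρP i v).2, hlz i i v hv, if_pos rfl]
    refine ⟨((P i).codRestrict (W i) (hPmem i)).rTensor (D i) y, ?_⟩
    rw [e1, ← hy, ← LinearMap.comp_apply, ← LinearMap.comp_apply, LinearMap.map_comp_rTensor,
      LinearMap.subtype_comp_codRestrict, LinearMap.rTensor_comp_lTensor]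
  refine ⟨fun i v hv => ?_, ?_, ?_, hmap⟩
  · obtain ⟨y, hy⟩ := hmap i v hv
    refine ⟨(D i).subtype.lTensor (W i) y, ?_⟩
    rw [← LinearMap.comp_apply, LinearMap.rTensor_comp_lTensor]
    exact hy
  · refine fun i => Submodule.disjoint_def.2 fun v hv hv' => ?_
    have h0 : P i v = 0 := by
      refine LinearMap.mem_ker.1 (SetLike.le_def.1 (iSup₂_le fun j hj => ?_) hv')
      intro x hx
      rw [LinearMap.mem_ker, hPW i j x hx, if_neg hj]
    rwa [hPW i i v hv, if_pos rfl] at h0
  · refine eq_top_iff.2 fun v _ => ?_
    obtain ⟨s, hs⟩ : ∃ s : Finset ι, ∑ i ∈ s, (p i).lTensor V (ρ v) = ρ v := by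
      suffices ∀ y : V ⊗[R] C, ∃ s : Finset ι, ∀ t, s ⊆ t → ∑ i ∈ t, (p i).lTensor V y = y by
        obtain ⟨s, hs⟩ := this (ρ v)
        exact ⟨s, hs s le_rfl⟩
      intro y
      induction y with
      | zero => exact ⟨∅, fun t _ => by simp⟩
      | add a b ha hb =>
        obtain ⟨s, hs⟩ := ha
        obtain ⟨s', hs'⟩ := hb
        refine ⟨s ∪ s', fun t ht => ?_⟩
        simp only [map_add, Finset.sum_add_distrib]
        rw [hs t ((Finset.subset_union_left).trans ht), hs' t ((Finset.subset_union_right).trans ht)]
      | tmul m c =>
        suffices ∃ s : Finset ι, ∀ t, s ⊆ t → ∑ i ∈ t, p i c = c by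
          obtain ⟨s, hs⟩ := this
          exact ⟨s, fun t ht => by simp only [LinearMap.lTensor_tmul, ← TensorProduct.tmul_sum, hs t ht]⟩
        obtain ⟨x, rfl⟩ := e.surjective c
        induction x using DirectSum.induction_on with
        | zero => exact ⟨∅, fun t _ => by simp⟩
        | add a b ha hb =>
          obtain ⟨s, hs⟩ := ha
          obtain ⟨s', hs'⟩ := hb
          refine ⟨s ∪ s', fun t ht => ?_⟩
          simp only [map_add, Finset.sum_add_distrib]
          rw [hs t ((Finset.subset_union_left).trans ht), hs' t ((Finset.subset_union_right).trans ht)]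
        | of j x =>
          refine ⟨{j}, fun t ht => ?_⟩
          have hx : e (DirectSum.of (fun i => D i) j x) = (x : C) := DirectSum.coeLinearMap_of D j x
          simp only [hx, hp]
          rw [Finset.sum_ite_eq, if_pos (ht (Finset.mem_singleton_self j))]
    have hv : v = ∑ i ∈ s, P i v := by
      apply L08.coact_injective (k := R) (A := C)
      rw [map_sum]
      exact hs.symm.trans (Finset.sum_congr rfl fun i _ => ((hρP i v).1).symm)
    rw [hv]
    exact sum_mem fun i _ => Submodule.mem_iSup_of_mem i (hPmem i v)

end Groth.Agent.S14844
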