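import Groth.Statements.S14846
import Mathlib.RingTheory.TwoSidedIdeal.Operations
import Mathlib.FieldTheory.Galois.Infinite
import Mathlib.RingTheory.SimpleRing.Basic
import Mathlib.RingTheory.TensorProduct.Free

set_option autoImplicit false
universe u v w
open Brauer

namespace Groth.Agent.S14846

open TensorProduct in
/-- Let L/K be a Galois extension with group Γ = Aut_K(L), and A a K-algebra which is a simple ring. If
L ⊗_K A is semisimple, then Γ, acting on L ⊗_K A through the first tensor factor, permutes its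
simple components, i.e. its minimal nonzero two-sided ideals, transitively: any minimal two-sided
ideal is carried onto any other by some γ ⊗ id. -/
theorem result
    {K : Type u} {L : Type v} [Field K] [Field L] [Algebra K L] [IsGalois K L]
    {A : Type w} [Ring A] [Algebra K A] [IsSimpleRing A]
    [IsSemisimpleRing (L ⊗[K] A)]
    (I J : TwoSidedIdeal (L ⊗[K] A)) (hI : IsAtom I) (hJ : IsAtom J) :
    ∃ γ : L ≃ₐ[K] L, (J : Set (L ⊗[K] A)) =
      Algebra.TensorProduct.map (γ : L →ₐ[K] L) (AlgHom.id K A) '' (I : Set (L ⊗[K] A)) := by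
  classical
  let φ : (L ≃ₐ[K] L) → (L ⊗[K] A ≃ₐ[K] L ⊗[K] A) := fun γ => Algebra.TensorProduct.congr γ AlgEquiv.refl
  have hφ : ∀ γ (z : L ⊗[K] A), φ γ z = Algebra.TensorProduct.map (γ : L →ₐ[K] L) (AlgHom.id K A) z := fun γ z => rfl
  have hφmul : ∀ (γ δ : L ≃ₐ[K] L) (z : L ⊗[K] A), φ γ (φ δ z) = φ (γ * δ) z := fun γ δ z => by
    induction z using TensorProduct.induction_on with
    | zero => simp
    | tmul l a => simp [hφ]
    | add x y hx hy => simp [map_add, hx, hy]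
  -- the translates of `I`
  let tr : (L ≃ₐ[K] L) → TwoSidedIdeal (L ⊗[K] A) := fun γ =>
    TwoSidedIdeal.comap ((φ γ).symm : L ⊗[K] A →+* L ⊗[K] A) I
  have htr : ∀ γ z, z ∈ tr γ ↔ (φ γ).symm z ∈ I := fun γ z => TwoSidedIdeal.mem_comap (f := ((φ γ).symm : L ⊗[K] A →+* L ⊗[K] A))
  have htr' : ∀ γ z, z ∈ I → φ γ z ∈ tr γ := fun γ z hz => (htr _ _).2 (by rwa [AlgEquiv.symm_apply_apply])
  by_cases hexists : ∃ γ, J ≤ tr γ
  · obtain ⟨γ, hγ⟩ := hexists
    refine ⟨γ, ?_⟩
    have h1 : TwoSidedIdeal.comap ((φ γ : L ⊗[K] A ≃ₐ[K] L ⊗[K] A) : L ⊗[K] A →+* L ⊗[K] A) J ≤ I := fun z hz => by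
      have := (htr γ _).1 (hγ ((TwoSidedIdeal.mem_comap (f := ((φ γ : L ⊗[K] A ≃ₐ[K] L ⊗[K] A) : L ⊗[K] A →+* L ⊗[K] A))).1 hz))
      change (φ γ).symm (φ γ z) ∈ I at this
      rwa [AlgEquiv.symm_apply_apply] at this
    have h2 : TwoSidedIdeal.comap ((φ γ : L ⊗[K] A ≃ₐ[K] L ⊗[K] A) : L ⊗[K] A →+* L ⊗[K] A) J = I := by
      refine (hI.le_iff.1 h1).resolve_left fun hb => hJ.1 (bot_unique fun y hy => ?_)
      have : (φ γ).symm y ∈ TwoSidedIdeal.comap ((φ γ : L ⊗[K] A ≃ₐ[K] L ⊗[K] A) : L ⊗[K] A →+* L ⊗[K] A) J := by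
        rw [TwoSidedIdeal.mem_comap]
        change φ γ ((φ γ).symm y) ∈ J
        rwa [AlgEquiv.apply_symm_apply]
      rw [hb, TwoSidedIdeal.mem_bot] at this
      rw [TwoSidedIdeal.mem_bot]
      simpa using congrArg (φ γ) this
    ext y
    constructor
    · intro hy
      refine ⟨(φ γ).symm y, ?_, (hφ γ _).symm.trans ((φ γ).apply_symm_apply y)⟩
      rw [SetLike.mem_coe, ← h2, TwoSidedIdeal.mem_comap]
      change φ γ ((φ γ).symm y) ∈ J
      rw [AlgEquiv.apply_symm_apply]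
      exact hy
    · rintro ⟨z, hz, rfl⟩
      rw [SetLike.mem_coe, ← h2, TwoSidedIdeal.mem_comap] at hz
      exact hz
  exfalso
  push Not at hexists
  set S : Set (L ⊗[K] A) := ⋃ γ, (tr γ : Set (L ⊗[K] A))
  set W := TwoSidedIdeal.span S with hW
  have hstable : ∀ σ z, z ∈ W → φ σ z ∈ W := fun σ z hz => by
    have hle : W ≤ TwoSidedIdeal.comap ((φ σ : L ⊗[K] A ≃ₐ[K] L ⊗[K] A) : L ⊗[K] A →+* L ⊗[K] A) W := by
      rw [hW, TwoSidedIdeal.span_le]
      intro y hy
      obtain ⟨γ, hγ⟩ := Set.mem_iUnion.1 hy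
      rw [SetLike.mem_coe, TwoSidedIdeal.mem_comap]
      refine TwoSidedIdeal.subset_span (Set.mem_iUnion.2 ⟨σ * γ, ?_⟩)
      have : φ σ y = φ (σ * γ) ((φ γ).symm y) := by rw [← hφmul, AlgEquiv.apply_symm_apply]
      change φ σ y ∈ tr (σ * γ)
      rw [this]
      exact htr' _ _ ((htr γ y).1 hγ)
    exact (TwoSidedIdeal.mem_comap (f := ((φ σ : L ⊗[K] A ≃ₐ[K] L ⊗[K] A) : L ⊗[K] A →+* L ⊗[K] A))).1 (hle hz)
  -- a nonzero invariant ideal contains a nonzero rational element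
  obtain ⟨w₀, hw₀, hw₀0⟩ : ∃ w ∈ W, w ≠ 0 := by
    by_contra! h
    refine hI.1 (bot_unique fun z hz => (TwoSidedIdeal.mem_bot _).2 ?_)
    have := h (φ 1 z) (TwoSidedIdeal.subset_span (Set.mem_iUnion.2 ⟨1, htr' 1 z hz⟩))
    simpa using congrArg (φ 1).symm this
  let b := Module.Free.chooseBasis K A
  let B := b.baseChange L
  have hBφ : ∀ σ z i, B.repr (φ σ z) i = σ (B.repr z i) := fun σ z i => by
    induction z using TensorProduct.induction_on with
    | zero => simp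
    | tmul l a => simp [hφ, B, map_smul]
    | add x y hx hy => simp [map_add, hx, hy]
  have hne : {n : ℕ | ∃ w ∈ W, w ≠ 0 ∧ (B.repr w).support.card = n}.Nonempty := ⟨_, w₀, hw₀, hw₀0, rfl⟩
  obtain ⟨w, hw, hw0, hcard⟩ := Nat.sInf_mem hne
  obtain ⟨i₀, hi₀⟩ : (B.repr w).support.Nonempty := Finsupp.support_nonempty_iff.2 (by simpa using hw0)
  set c := B.repr w i₀ with hc
  have hc0 : c ≠ 0 := Finsupp.mem_support_iff.1 hi₀
  set w' := (c⁻¹ ⊗ₜ[K] (1 : A)) * w
  have hw'W : w' ∈ W := W.mul_mem_left _ _ hw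
  have hsmul : ∀ (l : L) (z : L ⊗[K] A), (l ⊗ₜ[K] (1 : A)) * z = l • z := fun l z => by
    induction z using TensorProduct.induction_on with
    | zero => simp
    | tmul l' a => simp [Algebra.TensorProduct.tmul_mul_tmul, TensorProduct.smul_tmul']
    | add x y hx hy => simp [mul_add, smul_add, hx, hy]
  have hw' : ∀ i, B.repr w' i = c⁻¹ * B.repr w i := fun i => by
    rw [show w' = c⁻¹ • w from hsmul _ _, map_smul, Finsupp.smul_apply, smul_eq_mul]
  have hfix : ∀ (σ : L ≃ₐ[K] L) i, σ (B.repr w' i) = B.repr w' i := by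
    intro σ
    by_contra! h
    obtain ⟨i, hi⟩ := h
    have hu : φ σ w' - w' ∈ W := W.sub_mem (hstable σ w' hw'W) hw'W
    have hu0 : φ σ w' - w' ≠ 0 := fun h => hi (by rw [← hBφ, sub_eq_zero.1 h])
    have hlt : (B.repr (φ σ w' - w')).support.card < (B.repr w).support.card := by
      have hsub : (B.repr (φ σ w' - w')).support ⊆ (B.repr w).support := by
        intro j hj
        rw [Finsupp.mem_support_iff] at hj ⊢
        intro h0
        apply hj
        rw [map_sub, Finsupp.sub_apply, hBφ, hw', h0, mul_zero, map_zero, sub_zero]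
      refine Finset.card_lt_card ((Finset.ssubset_iff_of_subset hsub).2 ⟨i₀, hi₀, ?_⟩)
      rw [Finsupp.notMem_support_iff, map_sub, Finsupp.sub_apply, hBφ, hw', ← hc, inv_mul_cancel₀ hc0,
        map_one, sub_self]
    have := Nat.sInf_le (show (B.repr (φ σ w' - w')).support.card ∈
      {n : ℕ | ∃ w ∈ W, w ≠ 0 ∧ (B.repr w).support.card = n} from ⟨_, hu, hu0, rfl⟩)
    omega
  choose r hr using fun i => (InfiniteGalois.mem_range_algebraMap_iff_fixed (k := K) (B.repr w' i)).2 fun σ => hfix σ i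
  let a : A := ∑ i ∈ (B.repr w').support, r i • b i
  have ha : (1 : L) ⊗ₜ[K] a = w' := by
    have hB : ∀ i, B i = (1 : L) ⊗ₜ[K] b i := fun i => by simp [B]
    have hterm : ∀ i, (1 : L) ⊗ₜ[K] (r i • b i) = B.repr w' i • B i := fun i => by
      rw [hB, TensorProduct.smul_tmul', TensorProduct.tmul_smul, TensorProduct.smul_tmul', smul_eq_mul,
        mul_one, Algebra.smul_def, mul_one, hr]
    rw [TensorProduct.tmul_sum, Finset.sum_congr rfl fun i _ => hterm i]
    conv_rhs => rw [← B.linearCombination_repr w', Finsupp.linearCombination_apply, Finsupp.sum]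
  let I0 : TwoSidedIdeal A := TwoSidedIdeal.comap
    ((Algebra.TensorProduct.includeRight : A →ₐ[K] L ⊗[K] A) : A →+* L ⊗[K] A) W
  have haI : a ∈ I0 := (TwoSidedIdeal.mem_comap (f := ((Algebra.TensorProduct.includeRight : A →ₐ[K] L ⊗[K] A) : A →+* L ⊗[K] A))).2 (show (1 : L) ⊗ₜ[K] a ∈ W by rw [ha]; exact hw'W)
  have hI0 : I0 = ⊤ := (eq_bot_or_eq_top I0).resolve_left fun h => by
    rw [h, TwoSidedIdeal.mem_bot] at haI
    have h1 := hw' i₀
    rw [← ha, haI, TensorProduct.tmul_zero, map_zero, Finsupp.zero_apply, ← hc, inv_mul_cancel₀ hc0] at h1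
    exact zero_ne_one h1
  have hone : (1 : L ⊗[K] A) ∈ W := by
    have : (1 : A) ∈ I0 := hI0 ▸ trivial
    rw [Algebra.TensorProduct.one_def]
    exact (TwoSidedIdeal.mem_comap (f := ((Algebra.TensorProduct.includeRight : A →ₐ[K] L ⊗[K] A) : A →+* L ⊗[K] A))).1 this
  -- `J` is orthogonal to every translate
  let N : TwoSidedIdeal (L ⊗[K] A) := TwoSidedIdeal.mk' {y | ∀ x, x ∈ J → x * y = 0}
    (fun x _ => mul_zero x) (fun h h' x hx => by rw [mul_add, h x hx, h' x hx, add_zero])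
    (fun h x hx => by rw [mul_neg, h x hx, neg_zero])
    (fun {u v} h x hx => by rw [← mul_assoc]; exact h _ (J.mul_mem_right _ _ hx))
    (fun {u v} h x hx => by rw [← mul_assoc, h x hx, zero_mul])
  have hWN : W ≤ N := by
    rw [hW, TwoSidedIdeal.span_le]
    intro y hy
    obtain ⟨γ, hγ⟩ := Set.mem_iUnion.1 hy
    rw [SetLike.mem_coe, TwoSidedIdeal.mem_mk']
    intro x hx
    have hinf : J ⊓ tr γ = ⊥ := (hJ.le_iff.1 inf_le_left).resolve_right fun h => hexists γ (inf_eq_left.1 h)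
    have : x * y ∈ J ⊓ tr γ := (TwoSidedIdeal.mem_inf (L ⊗[K] A)).2 ⟨J.mul_mem_right _ _ hx, (tr γ).mul_mem_left _ _ hγ⟩
    rwa [hinf, TwoSidedIdeal.mem_bot] at this
  have h1N := hWN hone
  rw [TwoSidedIdeal.mem_mk'] at h1N
  exact hJ.1 (bot_unique fun x hx => (TwoSidedIdeal.mem_bot _).2 (by simpa using h1N x hx))

end Groth.Agent.S14846
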