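import Groth.Statements.S14848
import Groth.Agent.L16.SL2Trace

set_option autoImplicit false
universe u v
open McKay

namespace Groth.Agent.S14848

/-- Let K be a field of characteristic zero, L an extension field of K and ξ ∈ L a primitive n-th root
of unity (n ≥ 1) with ξ + ξ⁻¹ ∈ K, say ξ + ξ⁻¹ = 2c with c ∈ K (the character of the natural
two-dimensional representation of the cyclic group of order n takes values in K). Then the cyclic
group of order n is realisable over K as a subgroup of SL(2, K): there is an element of SL(2, K) of
order n. -/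
theorem result {K : Type u} {L : Type v} [Field K] [Field L]
    [CharZero K] [Algebra K L] (n : ℕ) (hn : 1 ≤ n) (ξ : L) (hξ : IsPrimitiveRoot ξ n) (c : K)
    (hc : algebraMap K L (2 * c) = ξ + ξ⁻¹) :
    ∃ M : Matrix.SpecialLinearGroup (Fin 2) K, orderOf M = n := by
  open Groth.L16.SL2Trace in
  rcases (show n = 1 ∨ n = 2 ∨ 3 ≤ n by omega) with h | h | h
  · exact ⟨1, by rw [orderOf_one, h]⟩
  · refine ⟨-1, ?_⟩
    subst h
    rw [orderOf_eq_iff (by norm_num)]
    refine ⟨by simp, fun m hm hm0 => ?_⟩
    have : m = 1 := by omega
    subst this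
    rw [pow_one]
    intro h1
    have := congrFun (congrFun (congrArg (fun g : Matrix.SpecialLinearGroup (Fin 2) K =>
      (g : Matrix (Fin 2) (Fin 2) K)) h1) 0) 0
    simp at this
    exact absurd this (by
      intro h2
      have : (2 : K) = 0 := by linear_combination -h2
      exact two_ne_zero this)
  · exact ⟨Groth.L16.SL2Trace.Mt (2 * c), Groth.L16.SL2Trace.orderOf_Mt n _ ξ h hξ hc⟩

end Groth.Agent.S14848
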