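import Groth.Statements.S14849
import Groth.Agent.L16.SL2Trace
import Mathlib.GroupTheory.SpecificGroups.Quaternion

set_option autoImplicit false
universe u v
open McKay

namespace Groth.Agent.S14849

/-- Let K be a field of characteristic zero, L an extension field of K, n ≥ 2, and ξ ∈ L a primitive
2n-th root of unity with ξ + ξ⁻¹ = 2c for some c ∈ K. If the Hilbert symbol of -1 and c² - 1 over K
equals 1, i.e. x² - (c² - 1) y² = -1 has a solution in K, then the binary dihedral group of order 4n
(generators σ, τ with τ² = σⁿ = (τσ)²) is isomorphic to a subgroup of SL(2, K). (The published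
statement is an equivalence; this row is the direction realising the group from a solution of the
conic.) -/
theorem result {K : Type u} {L : Type v}
    [Field K] [Field L] [CharZero K] [Algebra K L] (n : ℕ) (hn : 2 ≤ n) (ξ : L)
    (hξ : IsPrimitiveRoot ξ (2 * n)) (c : K) (hc : algebraMap K L (2 * c) = ξ + ξ⁻¹)
    (hsol : ∃ x y : K, x ^ 2 - (c ^ 2 - 1) * y ^ 2 = -1) :
    ∃ f : QuaternionGroup n →* Matrix.SpecialLinearGroup (Fin 2) K, Function.Injective f := by
  obtain ⟨x, y, hxy⟩ := hsol
  haveI : NeZero (2 * n) := ⟨by omega⟩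
  set M : Matrix.SpecialLinearGroup (Fin 2) K := Groth.L16.SL2Trace.Mt (2 * c) with hM
  have hord : orderOf M = 2 * n := Groth.L16.SL2Trace.orderOf_Mt (2 * n) _ ξ (by omega) hξ hc
  have hξ0 : ξ ≠ 0 := hξ.ne_zero (by omega)
  -- M ^ n = -1
  have hneg : ξ ^ n = -1 := by
    have h2 : (ξ ^ n) ^ 2 = 1 := by rw [← pow_mul, mul_comm, hξ.pow_eq_one]
    rcases sq_eq_one_iff.1 h2 with h3 | h3
    · have := Nat.le_of_dvd (by omega) ((hξ.pow_eq_one_iff_dvd n).1 h3)
      omega
    · exact h3
  have hMn : (M : Matrix (Fin 2) (Fin 2) K) ^ n = -1 := by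
    obtain ⟨a, b, h1, h2, h3⟩ := Groth.L16.SL2Trace.pow_rep (2 * c) ξ hξ0 hc n
    have h3' : ξ⁻¹ ^ n = -1 := by rw [inv_pow, hneg]; norm_num
    rw [hneg] at h2
    rw [h3'] at h3
    have hne := Groth.L16.SL2Trace.ne_inv_of_primitive (2 * n) ξ (by omega) hξ
    have ha : algebraMap K L a = 0 := by
      have h4 : algebraMap K L a * (ξ - ξ⁻¹) = 0 := by linear_combination h2 - h3
      rcases mul_eq_zero.1 h4 with h5 | h5
      · exact h5
      · exact absurd (sub_eq_zero.1 h5) hne
    have hb : b = -1 := by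
      apply (algebraMap K L).injective
      rw [map_neg, map_one]; linear_combination h2 - ξ * ha
    have ha0 : a = 0 := (algebraMap K L).injective (by rw [ha, map_zero])
    rw [hM, h1, ha0, hb]; simp
  let q : K := y
  let p : K := x - c * y
  let A : Matrix.SpecialLinearGroup (Fin 2) K := ⟨!![p, q; 2 * c * p + q, -p], by
    rw [Matrix.det_fin_two_of]; simp only [p, q]; linear_combination -hxy⟩
  have hAv : (A : Matrix (Fin 2) (Fin 2) K) = !![p, q; 2 * c * p + q, -p] := rfl
  have hMv : (M : Matrix (Fin 2) (Fin 2) K) = !![2 * c, -1; 1, 0] := rfl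
  have hA2 : A * A = M ^ n := by
    apply Subtype.ext
    simp only [Matrix.SpecialLinearGroup.coe_mul, Matrix.SpecialLinearGroup.coe_pow, hMn]
    rw [hAv]
    ext i j
    fin_cases i <;> fin_cases j <;> simp [p, q] <;>
      first | linear_combination hxy | linear_combination -hxy | ring
  have hAM : A * M = M⁻¹ * A := by
    apply Subtype.ext
    simp only [Matrix.SpecialLinearGroup.coe_mul, Matrix.SpecialLinearGroup.coe_inv]
    rw [hAv, hMv, Matrix.adjugate_fin_two_of]
    ext i j
    fin_cases i <;> fin_cases j <;> simp [p, q] <;> ring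
  let φ : ZMod (2 * n) → Matrix.SpecialLinearGroup (Fin 2) K := fun i => M ^ i.val
  have hφadd : ∀ i j, φ (i + j) = φ i * φ j := by
    intro i j
    show M ^ (i + j).val = M ^ i.val * M ^ j.val
    rw [← pow_add, ZMod.val_add]
    conv_rhs => rw [← pow_mod_orderOf, hord]
  have hφ0 : φ 0 = 1 := by simp [φ]
  have hφneg : ∀ i, φ (-i) = (φ i)⁻¹ := fun i => by
    apply eq_inv_of_mul_eq_one_left
    rw [← hφadd, neg_add_cancel, hφ0]
  have hφn : φ (n : ZMod (2 * n)) = M ^ n := by
    show M ^ _ = _
    rw [ZMod.val_natCast_of_lt (by omega)]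
  have hswap : ∀ i, A * φ i = φ (-i) * A := by
    intro i
    rw [hφneg]
    show A * M ^ i.val = (M ^ i.val)⁻¹ * A
    rw [← inv_pow]
    exact (SemiconjBy.pow_right (hAM : SemiconjBy A M M⁻¹) i.val)
  have hswap' : ∀ i, φ i * A = A * φ (-i) := fun i => by rw [hswap, neg_neg]
  let F : QuaternionGroup n → Matrix.SpecialLinearGroup (Fin 2) K := fun g =>
    match g with
    | QuaternionGroup.a i => φ i
    | QuaternionGroup.xa i => A * φ i
  have hmul : ∀ g h, F (g * h) = F g * F h := by
    rintro (i | i) (j | j)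
    · simp only [QuaternionGroup.a_mul_a, F, hφadd]
    · simp only [QuaternionGroup.a_mul_xa, F]
      rw [← mul_assoc, hswap' i, mul_assoc, ← hφadd, sub_eq_neg_add]
    · simp only [QuaternionGroup.xa_mul_a, F, hφadd, mul_assoc]
    · simp only [QuaternionGroup.xa_mul_xa, F]
      calc φ ((n : ZMod (2 * n)) + j - i) = φ (n : ZMod (2 * n)) * φ (-i + j) := by
            rw [← hφadd]; congr 1; ring
        _ = A * A * (φ (-i) * φ j) := by rw [hφn, hA2, hφadd]
        _ = A * (A * φ (-i)) * φ j := by simp only [mul_assoc]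
        _ = A * (φ i * A) * φ j := by rw [hswap' i]
        _ = _ := by simp only [mul_assoc]
  refine ⟨MonoidHom.mk' F hmul, ?_⟩
  rw [injective_iff_map_eq_one]
  rintro (i | i) h
  · change φ i = 1 at h
    have h1 : 2 * n ∣ i.val := by
      have h0 := orderOf_dvd_of_pow_eq_one (x := M) h
      exact dvd_trans (dvd_of_eq hord.symm) h0
    have h2 := ZMod.val_lt i
    have h3 : i.val = 0 := Nat.eq_zero_of_dvd_of_lt h1 h2
    rw [ZMod.val_eq_zero] at h3
    rw [h3]; rfl
  · change A * φ i = 1 at h
    exfalso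
    have h1 : A = (M ^ i.val)⁻¹ := eq_inv_of_mul_eq_one_left h
    have hcomm : A * M = M * A := by
      rw [h1]; exact ((Commute.refl M).pow_left _).inv_left.eq
    have h2 : M = M⁻¹ := mul_right_cancel (hcomm.symm.trans hAM)
    have h3 : M ^ 2 = 1 := by rw [pow_two]; nth_rewrite 2 [h2]; exact mul_inv_cancel M
    have h4 := Nat.le_of_dvd (by norm_num) (hord ▸ orderOf_dvd_of_pow_eq_one h3)
    omega

end Groth.Agent.S14849
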