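import Groth.Statements.S1485
import Groth.Agent.L12.GenusZero.Local
import Mathlib.RingTheory.Flat.FaithfullyFlat.Basic

set_option autoImplicit false
universe u
open FlatMor

namespace Groth.Agent.S1485

open AlgebraicGeometry CategoryTheory Limits in
/-- Vanishing descends along an extension of the ground field. -/
theorem descend {K L : CommRingCat.{u}} (hK : IsField K) [Nontrivial L] (φ : K ⟶ L) {F F₂ : Scheme.{u}}
    (fF : F ⟶ Spec K) [IsProper fF] (f₂ : F₂ ⟶ Spec L) (g₂ : F₂ ⟶ F) (sq : IsPullback g₂ f₂ fF (Spec.map φ))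
    (h2 : Subsingleton (Coh.HH F₂ (Coh.structureModule F₂) 1)) :
    Subsingleton (Coh.HH F (Coh.structureModule F) 1) := by
  letI : Algebra K L := φ.hom.toAlgebra
  letI := hK.toField
  haveI : Coh.IsQCoh (Coh.structureModule F) := (Groth.L12.GenusZero.isCoh_structure_any F).1
  letI : Module K (Coh.HH F (Coh.structureModule F) 1) := Module.compHom _ (Coh.toGlobal (A := K) fF)
  obtain ⟨e⟩ := Groth.L16.Rees.exists_flat_bc_equiv (A := K) (B := L) fF f₂ g₂ sq (Coh.structureModule F) 1
  haveI : Subsingleton (TensorProduct K L (Coh.HH F (Coh.structureModule F) 1)) :=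
    haveI := Groth.L12.GenusZero.subsingleton_of_iso (Groth.L29.LocFree.pullbackUnitIso g₂).symm 1
    e.toEquiv.subsingleton
  refine subsingleton_of_forall_eq 0 fun x => ?_
  refine Module.FaithfullyFlat.tensorProduct_mk_injective (A := K) (B := L)
    (Coh.HH F (Coh.structureModule F) 1) ?_
  exact Subsingleton.elim _ _

open AlgebraicGeometry CategoryTheory Limits in
/-- Let f : X → Y be proper and y a point with fibre of dimension ≤ 1. Suppose there is a morphism g :
Y' → Y whose image contains y such that, for the base change f' : X' → Y', H^1 of the structure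
sheaf vanishes over the preimage of every affine open of Y' (that is, R^1 f'_* O = 0; taking g the
identity covers the case R^1 f_* O_X = 0). Then H^1(X_y, O_{X_y}) = 0. -/
theorem result {X Y Y' : Scheme.{u}} (f : X ⟶ Y) [IsProper f] (y : Y) (hdim : topologicalKrullDim ↑(f.fiber y) ≤ 1)
    (g : Y' ⟶ Y) (hy : y ∈ Set.range ⇑g)
    (hR1 : ∀ U : Y'.Opens, IsAffineOpen U → Subsingleton (Coh.HHon (pullback f g) (Coh.structureModule (pullback f g)) (pullback.snd f g ⁻¹ᵁ U) 1)) :
    Subsingleton (Coh.HH (f.fiber y) (Coh.structureModule (f.fiber y)) 1) := by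
  obtain ⟨y', rfl⟩ := hy
  let f' := pullback.snd f g
  have sq : IsPullback (pullback.fst f g) f' f g := IsPullback.of_hasPullback _ _
  haveI : IsProper f' := MorphismProperty.of_isPullback sq inferInstance
  have hy' := Groth.L12.GenusZero.fiber_dim_le_of_isPullback sq y' hdim
  obtain ⟨_, ⟨U, hU, rfl⟩, hyU, hUd⟩ := Y'.isBasis_affineOpens.exists_subset_of_mem_open
    (show y' ∈ {s : Y' | topologicalKrullDim ↥(f'.fiber s) ≤ 1} from hy')
    (Groth.L07.FibreDim.isOpen_fiber_dim_le f' f'.isClosedMap _)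
  replace hU : IsAffineOpen U := hU
  haveI := Groth.L12.GenusZero.isProper_fV f' hU
  let f₀ := Groth.L17.BC.fV f' hU
  have h1 : Subsingleton (Coh.HH (f' ⁻¹ᵁ U).toScheme (Coh.structureModule (f' ⁻¹ᵁ U).toScheme) 1) :=
    haveI := hR1 U hU
    Groth.L12.GenusZero.subsingleton_of_iso
      (((Scheme.Modules.restrictFunctorIsoPullback (f' ⁻¹ᵁ U).ι).app (Coh.structureModule (pullback f g))) ≪≫
        Groth.L29.LocFree.pullbackUnitIso (f' ⁻¹ᵁ U).ι) 1
  have hd₀ := Groth.L12.GenusZero.fiber_dim_fV f' hU (d := 1) fun z hz => hUd hz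
  let ρ : Spec (Y'.residueField y') ⟶ Spec (Y.residueField (g y')) := Spec.map (g.residueFieldMap y')
  let F := f.fiber (g y')
  let fF := f.fiberToSpecResidueField (g y')
  have sqF : IsPullback (f.fiberι (g y')) fF f (Y.fromSpecResidueField (g y')) := IsPullback.of_hasPullback _ _
  haveI : IsProper fF := MorphismProperty.of_isPullback sqF inferInstance
  let X₂ := pullback fF ρ
  let f₂ := pullback.snd fF ρ
  let g₂ := pullback.fst fF ρ
  have sq₂ : IsPullback g₂ f₂ fF ρ := IsPullback.of_hasPullback _ _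
  let p := hU.primeIdealOf ⟨y', hyU⟩
  obtain ⟨b, hb⟩ : ∃ b : Spec (Y'.residueField y') ⟶ Spec Γ(Y', U), b ≫ hU.fromSpec = Y'.fromSpecResidueField y' :=
    ⟨IsOpenImmersion.lift hU.fromSpec (Y'.fromSpecResidueField y') (by
      rw [hU.range_fromSpec, Scheme.range_fromSpecResidueField]
      exact Set.singleton_subset_iff.2 hyU), IsOpenImmersion.lift_fac _ _ _⟩
  have sqU := (Groth.L17.BC.Classes.isPullback_fV f' hU).paste_horiz sq
  have sqT : IsPullback (g₂ ≫ f.fiberι (g y')) f₂ f (b ≫ hU.fromSpec ≫ g) := by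
    rw [← Category.assoc b, hb, ← Scheme.Hom.SpecMap_residueFieldMap_fromSpecResidueField]
    exact sq₂.paste_horiz sqF
  let j := sqU.lift (g₂ ≫ f.fiberι (g y')) (f₂ ≫ b) (by rw [Category.assoc]; exact sqT.w)
  have sqj : IsPullback j f₂ f₀ b := IsPullback.of_right
    (show IsPullback (j ≫ (f' ⁻¹ᵁ U).ι ≫ pullback.fst f g) f₂ f (b ≫ hU.fromSpec ≫ g) by
      rw [sqU.lift_fst]; exact sqT)
    (sqU.lift_snd _ _ _) sqU
  haveI h2 := (Groth.L12.GenusZero.baseChange_spec f₀ hd₀ h1 f₂ j b sqj).1
  exact descend (Field.toIsField _) (g.residueFieldMap y') fF f₂ g₂ sq₂ h2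

end Groth.Agent.S1485
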