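import Groth.Statements.S14850
import Groth.Agent.L08.SimpleSubcoalg

set_option autoImplicit false
universe u v
open HopfRep

namespace Groth.Agent.S14850
open Groth.L08 TensorProduct

open TensorProduct in
/-- Over a field K, a nonzero coalgebra C is simple if and only if C is isotypic as a right comodule
over itself, i.e. C is the internal direct sum of the images of a family of injective comodule maps
from one simple right C-comodule E. Here a subcoalgebra of C is a subspace B whose comultiplication
lands in the image of B ⊗ B, and C is simple when its only subcoalgebras are 0 and C. (Stated for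
the right regular comodule; the published statement allows left or right.) -/
theorem result {K : Type u} {C : Type v} [Field K] [AddCommGroup C]
    [Module K C] [Coalgebra K C] [Nontrivial C] :
    (∀ B : Submodule K C, (∀ b ∈ B, CoalgebraStruct.comul (R := K) b ∈ LinearMap.range (TensorProduct.map B.subtype B.subtype)) → B = ⊥ ∨ B = ⊤) ↔
    ∃ (E : Type v) (_ : AddCommGroup E) (_ : Module K E) (_ : HopfRep.Comod K C E),
      HopfRep.IsSimpleComod K C E ∧
      ∃ (ι : Type v) (f : ι → (E →ₗ[K] C)),
        (∀ i, Hoch.IsComodHom C (f i) ∧ Function.Injective (f i)) ∧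
        iSupIndep (fun i => LinearMap.range (f i)) ∧ (⨆ i, LinearMap.range (f i)) = ⊤ := by
  constructor
  · intro h
    obtain ⟨T, -, hT⟩ := exists_simple_subcomod (k := K) (A := C) (V := C) (W := ⊤) top_ne_bot
    have hsub := isSubcomod_restrictScalars T
    letI := ComodSub.Comod.restr (inferInstance : HopfRep.Comod K C C) _ hsub
    have hsimp : HopfRep.IsSimpleComod K C (T.restrictScalars K) := isSimpleComod_restr hsub hT
    obtain ⟨h0, hc, -⟩ := isSimpleSubcoalg_coeff_top hsimp
    have htop := (h _ hc).resolve_left h0
    haveI := isSimpleComod_iff.1 hsimp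
    let ι₀ := {f : (T.restrictScalars K) →ₗ[Dl K C] C // Function.Injective f}
    have hatom : ∀ f : ι₀, IsAtom (LinearMap.range f.1) := fun f =>
      isSimpleModule_iff_isAtom.1 (IsSimpleModule.congr (LinearEquiv.ofInjective _ f.2).symm)
    have hsum : (⨆ f : ι₀, LinearMap.range f.1) = ⊤ := by
      rw [eq_top_iff]
      have : (coeffSub (k := K) (A := C) (E := T.restrictScalars K)) = ⊤ :=
        Submodule.restrictScalars_injective K _ _ (by simpa [coeffSub] using htop)
      rw [← this, coeffSub_eq_iSup]
      refine iSup_le fun f => ?_
      rcases (homToMod (isComodHom_cf (A := C) f)).injective_or_eq_zero with hi | hz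
      · exact le_iSup (fun f : ι₀ => LinearMap.range f.1) ⟨_, hi⟩
      · simp [hz]
    obtain ⟨J, hJ, hJc⟩ := exists_indep_isCompl _ hatom hsum ⊥
    refine ⟨T.restrictScalars K, inferInstance, inferInstance, inferInstance, hsimp, J,
      fun j => j.1.1.restrictScalars K, fun j => ⟨isComodHom_restrictScalars _, j.1.2⟩, ?_, ?_⟩
    · exact iSupIndep_restrictScalars_iff (S := fun j : J => LinearMap.range j.1.1) |>.2 hJ
    · have := congrArg (Submodule.restrictScalars K) (eq_top_of_isCompl_bot hJc.symm)
      rwa [Submodule.restrictScalars_iSup, Submodule.restrictScalars_top] at this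
  · rintro ⟨E, _, _, _, hE, ι, f, hf, -, htop⟩ B hB
    have hle : (⊤ : Submodule K C) ≤ coeff K C (⊤ : Submodule K E) := by
      rw [← htop]
      refine iSup_le fun i => ?_
      rintro _ ⟨e, rfl⟩
      rw [eq_cf_of_isComodHom (hf i).1]
      exact cf_mem_coeff _ trivial
    have hs := isSimpleSubcoalg_coeff_top hE
    rw [eq_top_iff.2 hle] at hs
    exact hs.2.2 B le_top hB

end Groth.Agent.S14850
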