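import Groth.Statements.S14851
import Groth.Agent.L08.SimpleSubcoalg

set_option autoImplicit false
universe u v w w'
open HopfRep

namespace Groth.Agent.S14851
open Groth.L08 TensorProduct

open TensorProduct in
/-- The map E ↦ C(E) from isomorphism classes of simple comodules to simple subcoalgebras is injective,
that is: over a field K, two simple right comodules E, E' over a coalgebra C with the same
coefficient space D (the least subspace D' of C such that the coaction lands in E ⊗ D', resp. E' ⊗
D') are isomorphic as comodules. (The published statement is made for a cosemisimple coalgebra and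
for left comodules; the printed argument for this part uses neither restriction.) -/
theorem result {K : Type u} {C : Type v} [Field K]
    [AddCommGroup C] [Module K C] [Coalgebra K C]
    {E : Type w} [AddCommGroup E] [Module K E] [HopfRep.Comod K C E]
    {E' : Type w'} [AddCommGroup E'] [Module K E'] [HopfRep.Comod K C E']
    (hE : HopfRep.IsSimpleComod K C E) (hE' : HopfRep.IsSimpleComod K C E') (D : Submodule K C)
    (hD : IsLeast {D' : Submodule K C |
      ∀ e : E, HopfRep.Comod.coact (k := K) (A := C) e ∈ LinearMap.range (LinearMap.lTensor E D'.subtype)} D)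
    (hD' : IsLeast {D' : Submodule K C |
      ∀ e : E', HopfRep.Comod.coact (k := K) (A := C) e ∈ LinearMap.range (LinearMap.lTensor E' D'.subtype)} D) :
    ∃ e : E ≃ₗ[K] E', Hoch.IsComodHom C e.toLinearMap := by
  have h1 := eq_coeff_of_isLeast hD
  have h2 := eq_coeff_of_isLeast hD'
  haveI := isSimpleComod_iff.1 hE
  haveI := isSimpleComod_iff.1 hE'
  obtain ⟨h0, -, -⟩ := isSimpleSubcoalg_coeff_top hE
  obtain ⟨h, hh, hhle⟩ := exists_injective_of_le_coeff hE (le_refl (coeffSub (k := K) (A := C) (E := E)))
    (fun e => h0 (by simpa [coeffSub] using congrArg (Submodule.restrictScalars K) e))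
  have hle' : LinearMap.range h ≤ coeffSub (k := K) (A := C) (E := E') := fun x hx => by
    have := hhle hx
    simp only [coeffSub, mem_toSub] at this ⊢
    rwa [← h2, h1]
  haveI := IsSimpleModule.nontrivial (Dl K C) E
  obtain ⟨g, hg, hgle⟩ := exists_injective_of_le_coeff hE' hle' (fun e => by
    obtain ⟨x, hx⟩ := exists_ne (0 : E)
    exact hx (hh (by simpa [e] using LinearMap.mem_range_self h x)))
  let φ : E' →ₗ[Dl K C] E := (LinearEquiv.ofInjective h hh).symm.toLinearMap ∘ₗ
    g.codRestrict (LinearMap.range h) (fun x => hgle ⟨x, rfl⟩)
  have hφ : Function.Injective φ :=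
    (LinearEquiv.ofInjective h hh).symm.injective.comp fun a b hab => hg (congrArg Subtype.val hab)
  haveI := IsSimpleModule.nontrivial (Dl K C) E'
  have hb : Function.Bijective φ := (LinearMap.bijective_or_eq_zero φ).resolve_right fun e => by
    obtain ⟨x, hx⟩ := exists_ne (0 : E')
    exact hx (hφ (by rw [e]; rfl))
  exact ⟨((LinearEquiv.ofBijective φ hb).symm).restrictScalars K,
    isComodHom_restrictScalars (LinearEquiv.ofBijective φ hb).symm.toLinearMap⟩

end Groth.Agent.S14851
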