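import Groth.Statements.S14852
import Groth.Agent.L08.SimpleSubcoalg

set_option autoImplicit false
universe u v w w'
open HopfRep

namespace Groth.Agent.S14852
open Groth.L08 TensorProduct

open TensorProduct in
/-- Over a field K, let C be a cosemisimple coalgebra and D₁ ≠ D₂ simple subcoalgebras of C. If V is a
right C-comodule whose coaction lands in V ⊗ D₁ and W one whose coaction lands in W ⊗ D₂, then the
only comodule map V → W is zero. Here a subcoalgebra of C is a subspace B whose comultiplication
lands in the image of B ⊗ B, and a simple subcoalgebra is a nonzero subcoalgebra D whose only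
subcoalgebras contained in D are 0 and D; cosemisimple means C is the internal direct sum of a
family of simple subcoalgebras. (The published statement is for quasi-coherent G-sheaves on a scheme
with trivial action of G = Spec C; this row is the statement on spaces of sections to which its
proof reduces.) -/
theorem result {K : Type u} {C : Type v} [Field K]
    [AddCommGroup C] [Module K C] [Coalgebra K C]
    (hC : ∃ (ι : Type v) (D : ι → Submodule K C), iSupIndep D ∧ iSup D = ⊤ ∧ ∀ i,
        D i ≠ ⊥ ∧ (∀ b ∈ (D i), CoalgebraStruct.comul (R := K) b ∈ LinearMap.range (TensorProduct.map (D i).subtype (D i).subtype)) ∧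
        ∀ B : Submodule K C, B ≤ D i → (∀ b ∈ B, CoalgebraStruct.comul (R := K) b ∈ LinearMap.range (TensorProduct.map B.subtype B.subtype)) → B = ⊥ ∨ B = D i)
    (D₁ D₂ : Submodule K C) (hne : D₁ ≠ D₂)
    (h₁ : D₁ ≠ ⊥ ∧ (∀ b ∈ D₁, CoalgebraStruct.comul (R := K) b ∈ LinearMap.range (TensorProduct.map D₁.subtype D₁.subtype)) ∧ ∀ B : Submodule K C, B ≤ D₁ → (∀ b ∈ B, CoalgebraStruct.comul (R := K) b ∈ LinearMap.range (TensorProduct.map B.subtype B.subtype)) → B = ⊥ ∨ B = D₁)
    (h₂ : D₂ ≠ ⊥ ∧ (∀ b ∈ D₂, CoalgebraStruct.comul (R := K) b ∈ LinearMap.range (TensorProduct.map D₂.subtype D₂.subtype)) ∧ ∀ B : Submodule K C, B ≤ D₂ → (∀ b ∈ B, CoalgebraStruct.comul (R := K) b ∈ LinearMap.range (TensorProduct.map B.subtype B.subtype)) → B = ⊥ ∨ B = D₂)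
    {V : Type w} [AddCommGroup V] [Module K V] [HopfRep.Comod K C V]
    {W : Type w'} [AddCommGroup W] [Module K W] [HopfRep.Comod K C W]
    (hV : ∀ v : V, HopfRep.Comod.coact (k := K) (A := C) v ∈ LinearMap.range (LinearMap.lTensor V D₁.subtype))
    (hW : ∀ w : W, HopfRep.Comod.coact (k := K) (A := C) w ∈ LinearMap.range (LinearMap.lTensor W D₂.subtype))
    (φ : V →ₗ[K] W) (hφ : Hoch.IsComodHom C φ) : φ = 0 := by
  have hbot : D₁ ⊓ D₂ = ⊥ := by
    have hc := isSubcoalg_inf (k := K) (A := C) h₁.2.1 h₂.2.1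
    refine (h₁.2.2 _ inf_le_left hc).resolve_right fun e => ?_
    rcases h₂.2.2 _ inf_le_right hc with e' | e'
    · exact h₁.1 (e.symm.trans e')
    · exact hne (e.symm.trans e')
  ext v
  have hzero : ∀ f : Module.Dual K W, cf (A := C) f (φ v) = 0 := fun f => by
    refine (Submodule.mem_bot K).1 (hbot ▸ ⟨?_, (mem_range_lTensor_subtype_iff D₂ _).1 (hW (φ v)) f⟩)
    have h := (mem_range_lTensor_subtype_iff D₁ _).1 (hV v) (f ∘ₗ φ)
    have e : HopfRep.Comod.coact (k := K) (A := C) (φ v) = φ.rTensor C (HopfRep.Comod.coact (k := K) (A := C) v) :=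
      LinearMap.congr_fun hφ v
    rw [LinearMap.rTensor_comp, LinearMap.comp_apply, ← e] at h
    exact h
  refine (Module.forall_dual_apply_eq_zero_iff K _).1 fun f => ?_
  have := congrArg (Coalgebra.counit (R := K)) (hzero f)
  rwa [apply_cf, fAct_counit, LinearMap.id_apply, map_zero] at this

end Groth.Agent.S14852
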