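import Groth.Agent.L18.Grass.LeftIdeal
import Groth.Statements.S14853
-- import your own Groth.Agent.* helpers here

set_option autoImplicit false
universe u
open scoped TensorProduct
open HilbD

namespace Groth.Agent.S14853

open AlgebraicGeometry CategoryTheory in
/-- Let R be a commutative ring, B a commutative R-algebra, e a natural number, and X an R-scheme
representing the Grassmannian functor Grass^e(B) on affine R-schemes — bijections, natural in the
commutative R-algebra A, between R-morphisms Spec A → X and A-submodules U of A ⊗_R B whose quotient
is finite projective of constant rank e. Then the Hilbert functor of e points of Spec B over Spec R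
is a closed subfunctor: there is a closed immersion ι : Z → X such that an R-morphism g : Spec A → X
factors through ι if and only if the submodule U attached to g is an ideal of A ⊗_R B, i.e. is
stable under multiplication by every 1 ⊗ b. (The published statement is for a quasi-coherent algebra
over an arbitrary base scheme and for the equivariant functors; this row is the case of an affine
base and trivial group.) -/
theorem result (R : Type u) [CommRing R]
    (B : Type u) [CommRing B] [Algebra R B]
    (e : ℕ) (X : Over (Spec (CommRingCat.of R)))
    (eX : ∀ A : CommAlgCat.{u} R,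
      ((Over.mk (Spec.map (CommRingCat.ofHom (algebraMap R A)))) ⟶ X) ≃ (Module.Grassmannian.functor (R := R) (M := B) e).obj A)
    (heX : ∀ (A C : CommAlgCat.{u} R) (φ : A ⟶ C)
      (g : Over.mk (Spec.map (CommRingCat.ofHom (algebraMap R A))) ⟶ X) (g' : Over.mk (Spec.map (CommRingCat.ofHom (algebraMap R C))) ⟶ X),
      g'.left = Spec.map (CommRingCat.ofHom φ.hom.toRingHom) ≫ g.left →
        eX C g' = (Module.Grassmannian.functor (R := R) (M := B) e).map φ (eX A g)) :
    ∃ (Z : Scheme.{u}) (ι : Z ⟶ X.left), IsClosedImmersion ι ∧
      ∀ (A : CommAlgCat.{u} R) (g : Over.mk (Spec.map (CommRingCat.ofHom (algebraMap R A))) ⟶ X),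
        (∃ h : (Over.mk (Spec.map (CommRingCat.ofHom (algebraMap R A)))).left ⟶ Z, h ≫ ι = g.left) ↔
          ∀ (b : B) (x : ↑A ⊗[R] B), x ∈ (eX A g).toSubmodule →
            ((1 : ↑A) ⊗ₜ[R] b) * x ∈ (eX A g).toSubmodule := by
  exact Groth.L18.GrassIdeal.exists_closedImmersion eX heX

end Groth.Agent.S14853
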