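import Groth.Statements.S14855
import Mathlib.RingTheory.WittVector.Truncated
import Mathlib.RingTheory.WittVector.Identities
import Mathlib.RingTheory.WittVector.Domain
import Mathlib.RingTheory.AdicCompletion.Basic

set_option autoImplicit false
universe u
open CAlg

namespace Groth.Agent.S14855

open WittVector in
theorem trunc_pow_mul_eq_zero (p : ℕ) [Fact p.Prime] {R : Type u} [CommRing R] {k : ℕ} (hk : (p : R) ^ k = 0)
    (j : ℕ) (x : WittVector p R) : ∀ l < j, ((p : WittVector p R) ^ (k * j) * x).coeff l = 0 := by
  induction j with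
  | zero => simp
  | succ j ih =>
    intro l hl
    rw [show k * (j + 1) = k + k * j by ring, pow_add, mul_assoc]
    set y := (p : WittVector p R) ^ (k * j) * x with hy
    have hy' : y = verschiebung^[j] (y.shift j) := eq_iterate_verschiebung ih
    have hV : (p : WittVector p R) ^ k * y = verschiebung^[j] ((p : WittVector p R) ^ k * y.shift j) := by
      rw [← Nat.cast_pow, ← nsmul_eq_mul, ← nsmul_eq_mul]
      conv_lhs => rw [hy']
      exact (Function.Commute.iterate_left (f := ⇑(WittVector.verschiebung : WittVector p R →+ WittVector p R))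
        (g := fun z => p ^ k • z) (fun z => map_nsmul _ _ _) j _).symm
    rw [hV]
    rcases Nat.lt_succ_iff_lt_or_eq.mp hl with h | rfl
    · exact iterate_verschiebung_coeff_eq_zero _ h
    · have h0 := iterate_verschiebung_coeff ((p : WittVector p R) ^ k * y.shift l) l 0
      rw [zero_add] at h0
      rw [h0]
      rw [← WittVector.constantCoeff_apply]
      rw [map_mul, map_pow, map_natCast, hk, zero_mul]

section
variable (p : ℕ) [Fact p.Prime] (R : Type u) [CommRing R]

/-- Reduce coefficients mod `p^k` and truncate. -/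
noncomputable def red (k j : ℕ) : WittVector p R →+* TruncatedWittVector p j (R ⧸ Ideal.span {(p : R)} ^ k) :=
  (WittVector.truncate j).comp (WittVector.map (Ideal.Quotient.mk _))

theorem red_eq_iff {k j : ℕ} {x y : WittVector p R} :
    red p R k j x = red p R k j y ↔ ∀ i < j, x.coeff i - y.coeff i ∈ Ideal.span {(p : R)} ^ k := by
  simp only [red, RingHom.comp_apply, TruncatedWittVector.ext_iff, WittVector.coeff_truncate,
    WittVector.map_coeff, Ideal.Quotient.mk_eq_mk_iff_sub_mem]
  exact Fin.forall_iff

theorem red_pow_eq_zero {k j n : ℕ} (h : k * j ≤ n) {x : WittVector p R}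
    (hx : x ∈ Ideal.span {(p : WittVector p R)} ^ n) : red p R k j x = 0 := by
  rw [Ideal.span_singleton_pow, Ideal.mem_span_singleton'] at hx
  obtain ⟨c, rfl⟩ := hx
  rw [red, RingHom.comp_apply, ← RingHom.mem_ker, WittVector.mem_ker_truncate]
  intro i hi
  rw [map_mul, map_pow, map_natCast, mul_comm, show n = k * j + (n - k * j) by omega, pow_add, mul_assoc]
  refine trunc_pow_mul_eq_zero p ?_ j _ i hi
  rw [← map_natCast (Ideal.Quotient.mk (Ideal.span {(p : R)} ^ k)), ← map_pow,
    Ideal.Quotient.eq_zero_iff_mem, Ideal.span_singleton_pow]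
  exact Ideal.mem_span_singleton_self _

variable [IsAdicComplete (Ideal.span {(p : R)}) R]

theorem ext_red {x y : WittVector p R} (h : ∀ k j, red p R k j x = red p R k j y) : x = y := by
  ext i
  refine sub_eq_zero.mp (IsHausdorff.haus (I := Ideal.span {(p : R)}) inferInstance _ fun k => ?_)
  rw [SModEq.zero, smul_eq_mul, Ideal.mul_top]
  exact (red_eq_iff p R).mp (h k (i + 1)) i (Nat.lt_succ_self i)

theorem red_eq_of_mem {k j : ℕ} (z : ℕ → WittVector p R)
    (hz : ∀ n, z (n + 1) - z n ∈ Ideal.span {(p : WittVector p R)} ^ n) :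
    ∀ n, k * j ≤ n → red p R k j (z n) = red p R k j (z (k * j)) := by
  intro n hn
  induction n, hn using Nat.le_induction with
  | base => rfl
  | succ n hn ih =>
    rw [← ih, ← sub_eq_zero, ← map_sub]
    exact red_pow_eq_zero p R hn (hz n)

theorem exists_limit (z : ℕ → WittVector p R)
    (hz : ∀ n, z (n + 1) - z n ∈ Ideal.span {(p : WittVector p R)} ^ n) :
    ∃ L, ∀ k j n, k * j ≤ n → red p R k j (z n) = red p R k j L := by
  have hcoeff : ∀ k j n, k * j ≤ n → ∀ i < j, (z n).coeff i - (z (k * j)).coeff i ∈ Ideal.span {(p : R)} ^ k :=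
    fun k j n hn => (red_eq_iff p R).mp (red_eq_of_mem p R z hz n hn)
  have hL : ∀ i, ∃ L, ∀ k, (z (k * (i + 1))).coeff i - L ∈ Ideal.span {(p : R)} ^ k := fun i => by
    obtain ⟨L, hL⟩ := IsPrecomplete.prec' (I := Ideal.span {(p : R)}) (fun k => (z (k * (i + 1))).coeff i)
      fun {m n} hmn => by
        rw [SModEq.sub_mem, smul_eq_mul, Ideal.mul_top]
        simpa using neg_mem (hcoeff m (i + 1) (n * (i + 1)) (Nat.mul_le_mul_right _ hmn) i (Nat.lt_succ_self i))
    exact ⟨L, fun k => by simpa [SModEq.sub_mem] using hL k⟩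
  choose L hL using hL
  refine ⟨WittVector.mk p L, fun k j n hn => (red_eq_iff p R).mpr fun i hi => ?_⟩
  have h1 := hcoeff k (i + 1) n (le_trans (Nat.mul_le_mul_left k hi) hn) i (Nat.lt_succ_self i)
  simpa [WittVector.coeff_mk] using add_mem h1 (hL i k)

theorem isAdicComplete_span : IsAdicComplete (Ideal.span {(p : WittVector p R)}) (WittVector p R) := by
  refine { haus' := fun x hx => ext_red p R fun k j => ?_, prec' := fun f hf => ?_ }
  · have h := hx (k * j)
    rw [SModEq.zero, smul_eq_mul, Ideal.mul_top] at h
    rw [map_zero]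
    exact red_pow_eq_zero p R le_rfl h
  have hf' : ∀ {m n}, m ≤ n → f n - f m ∈ Ideal.span {(p : WittVector p R)} ^ m := fun {m n} hmn => by
    have h := hf hmn
    rw [SModEq.sub_mem, smul_eq_mul, Ideal.mul_top] at h
    simpa using neg_mem h
  have hd : ∀ n, ∃ c, c * (p : WittVector p R) ^ n = f (n + 1) - f n := fun n => by
    have h := hf' (Nat.le_succ n)
    rw [Ideal.span_singleton_pow] at h
    exact Ideal.mem_span_singleton'.mp h
  choose d hd using hd
  obtain ⟨L, hL⟩ := exists_limit p R f fun n => hf' (Nat.le_succ n)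
  refine ⟨L, fun m => ?_⟩
  rw [SModEq.sub_mem, smul_eq_mul, Ideal.mul_top]
  let s : ℕ → WittVector p R := fun n => ∑ l ∈ Finset.range n, d (m + l) * (p : WittVector p R) ^ l
  have hs : ∀ n, s n * (p : WittVector p R) ^ m = f (m + n) - f m := fun n => by
    induction n with
    | zero => simp [s]
    | succ n ih =>
      simp only [s] at ih ⊢
      rw [Finset.sum_range_succ, add_mul, ih, mul_assoc, ← pow_add, add_comm n m, hd (m + n)]
      ring_nf
  obtain ⟨T, hT⟩ := exists_limit p R s fun n => by
    simp only [s, Finset.sum_range_succ, add_sub_cancel_left, Ideal.span_singleton_pow]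
    exact Ideal.mem_span_singleton'.mpr ⟨_, rfl⟩
  rw [Ideal.span_singleton_pow, Ideal.mem_span_singleton']
  refine ⟨-T, ext_red p R fun k j => ?_⟩
  rw [neg_mul, map_neg, map_mul, ← hT k j (k * j) le_rfl, ← map_mul, hs, ← map_neg, map_sub (red p R k j) (f m) L,
    neg_sub, map_sub, hL k j (m + k * j) (by omega)]

end

theorem verschiebung_mem_ker {p : ℕ} [Fact p.Prime] {R : Type u} [CommRing R] (x : WittVector p R) :
    WittVector.verschiebung x ∈ RingHom.ker (WittVector.constantCoeff : WittVector p R →+* R) := by
  rw [RingHom.mem_ker, WittVector.constantCoeff_apply]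
  exact WittVector.verschiebung_coeff_zero x

theorem mul_mem_pow_ker (p : ℕ) [Fact p.Prime] {R : Type u} [CommRing R] (n : ℕ) (z : WittVector p R) :
    WittVector.verschiebung ((p : WittVector p R) ^ n * z) ∈
      RingHom.ker (WittVector.constantCoeff : WittVector p R →+* R) ^ (n + 1) := by
  induction n generalizing z with
  | zero =>
    rw [zero_add, pow_one, pow_zero, one_mul]
    exact verschiebung_mem_ker _
  | succ n ih =>
    have h1 : WittVector.verschiebung (1 : WittVector p R) ∈
        RingHom.ker (WittVector.constantCoeff : WittVector p R →+* R) := verschiebung_mem_ker _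
    have h := Ideal.mul_mem_mul (ih z) h1
    rw [← WittVector.verschiebung_mul_frobenius, WittVector.frobenius_verschiebung, one_mul, ← pow_succ] at h
    convert h using 2
    rw [pow_succ]
    ring

theorem isAdicComplete_ker (p : ℕ) [Fact p.Prime] (R : Type u) [CommRing R]
    [IsAdicComplete (Ideal.span {(p : WittVector p R)}) (WittVector p R)] :
    IsAdicComplete (RingHom.ker (WittVector.constantCoeff : WittVector p R →+* R)) (WittVector p R) := by
  set I := RingHom.ker (WittVector.constantCoeff : WittVector p R →+* R) with hI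
  have hV : ∀ x ∈ I, x = WittVector.verschiebung (x.shift 1) := fun x hx => by
    have := WittVector.eq_iterate_verschiebung (x := x) (n := 1) (fun i hi => by
      obtain rfl : i = 0 := by omega
      exact hx)
    simpa using this
  have hle : ∀ n, I ^ (n + 1) ≤ Ideal.span {(p : WittVector p R)} ^ n * I := fun n => by
    induction n with
    | zero => simp
    | succ n ih =>
      rw [pow_succ (n := n + 1)]
      refine (Ideal.mul_mono ih le_rfl).trans ?_
      rw [pow_succ, mul_assoc, mul_assoc]
      refine Ideal.mul_mono le_rfl (Ideal.mul_le.mpr fun a ha b hb => ?_)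
      rw [hV a ha, hV b hb, ← WittVector.verschiebung_mul_frobenius, WittVector.frobenius_verschiebung,
        ← mul_assoc, mul_comm _ (p : WittVector p R), ← nsmul_eq_mul, map_nsmul, nsmul_eq_mul]
      exact Ideal.mul_mem_mul (Ideal.mem_span_singleton_self _) (verschiebung_mem_ker _)
  refine { haus' := fun x hx => ?_, prec' := fun f hf => ?_ }
  · refine IsHausdorff.haus (I := Ideal.span {(p : WittVector p R)}) inferInstance _ fun n => ?_
    have h := hx (n + 1)
    rw [SModEq.zero, smul_eq_mul, Ideal.mul_top] at h ⊢
    exact Ideal.mul_le_left (hle n h)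
  · have hf' : ∀ {m n}, m ≤ n → f m - f n ∈ I ^ m := fun {m n} hmn => by
      simpa [SModEq.sub_mem] using hf hmn
    have hmem : ∀ n, f (n + 1) - f 1 ∈ I := fun n => by
      simpa using neg_mem (hf' (Nat.le_add_left 1 n))
    let z : ℕ → WittVector p R := fun n => (f (n + 1) - f 1).shift 1
    have hzV : ∀ n, WittVector.verschiebung (z n) = f (n + 1) - f 1 := fun n => (hV _ (hmem n)).symm
    have hVp : ∀ n, ∀ y ∈ Ideal.span {(p : WittVector p R)} ^ n * I,
        ∃ w ∈ Ideal.span {(p : WittVector p R)} ^ n, WittVector.verschiebung w = y := by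
      intro n y hy
      rw [Ideal.span_singleton_pow] at hy ⊢
      obtain ⟨t, ht, rfl⟩ := Ideal.mem_span_singleton_mul.mp hy
      refine ⟨(p : WittVector p R) ^ n * t.shift 1, Ideal.mem_span_singleton'.mpr ⟨_, mul_comm _ _⟩, ?_⟩
      rw [← Nat.cast_pow, ← nsmul_eq_mul, map_nsmul, ← hV t ht, nsmul_eq_mul]
    obtain ⟨Z, hZ⟩ := IsPrecomplete.prec' (I := Ideal.span {(p : WittVector p R)}) z fun {m n} hmn => by
      rw [SModEq.sub_mem, smul_eq_mul, Ideal.mul_top]
      obtain ⟨w, hw, hwe⟩ := hVp m _ (hle m (hf' (Nat.succ_le_succ hmn)))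
      have : w = z m - z n := WittVector.verschiebung_injective p R
        (by rw [hwe, map_sub, hzV, hzV]; ring)
      exact this ▸ hw
    refine ⟨f 1 + WittVector.verschiebung Z, fun n => ?_⟩
    rw [SModEq.sub_mem, smul_eq_mul, Ideal.mul_top]
    rcases n with _ | n
    · simp
    have h := hZ n
    rw [SModEq.sub_mem, smul_eq_mul, Ideal.mul_top, Ideal.span_singleton_pow, Ideal.mem_span_singleton'] at h
    obtain ⟨c, hc⟩ := h
    rw [show f (n + 1) - (f 1 + WittVector.verschiebung Z) = WittVector.verschiebung (z n - Z) by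
      rw [map_sub, hzV]; ring, ← hc, mul_comm]
    exact mul_mem_pow_ker p n c


/-- Let p be a prime and R a commutative ring which is complete and separated for the p-adic topology.
Then the ring W(R) of p-typical Witt vectors of R is complete and separated for its own p-adic
topology, and it is also complete and separated for the adic topology of the ideal I_R, the kernel
of the projection of W(R) onto the zeroth Witt component. -/
theorem result (p : ℕ) [Fact p.Prime] (R : Type u) [CommRing R]
    [IsAdicComplete (Ideal.span {(p : R)}) R] :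
    IsAdicComplete (Ideal.span {(p : WittVector p R)}) (WittVector p R) ∧
      IsAdicComplete (RingHom.ker (WittVector.constantCoeff : WittVector p R →+* R)) (WittVector p R) := by
  haveI := isAdicComplete_span p R
  exact ⟨this, isAdicComplete_ker p R⟩

end Groth.Agent.S14855
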