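import Groth.Statements.S14856
import Mathlib.RingTheory.WittVector.Basic
import Mathlib.Algebra.Order.Ring.GeomSum

set_option autoImplicit false
universe u
open CAlg

namespace Groth.Agent.S14856

/-- Let p be a prime and S a commutative ring in which p is a non-zero-divisor. For a p-typical Witt
vector x over S, a natural number m and an integer s ≥ 1, the power p^s divides each of the Witt
components x_0, …, x_m if and only if p^(n+s) divides the n-th ghost component w_n(x) = x_0^(p^n) +
p x_1^(p^(n-1)) + ⋯ + p^n x_n for every n ≤ m. -/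
theorem result (p : ℕ) [Fact p.Prime] (S : Type u) [CommRing S]
    (hS : ∀ y : S, (p : S) * y = 0 → y = 0) (x : WittVector p S) (m s : ℕ) (hs : 1 ≤ s) :
    (∀ i ≤ m, (p : S) ^ s ∣ x.coeff i) ↔
      (∀ n ≤ m, (p : S) ^ (n + s) ∣ WittVector.ghostComponent n x) := by
  have hg : ∀ n, WittVector.ghostComponent n x =
      ∑ i ∈ Finset.range (n + 1), (p : S) ^ i * x.coeff i ^ p ^ (n - i) := fun n => by
    rw [WittVector.ghostComponent_apply, wittPolynomial_eq_sum_C_mul_X_pow]
    simp [map_sum]
  have hexp : ∀ i n, i ≤ n → n + s ≤ i + s * p ^ (n - i) := fun i n h => by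
    have h1 : n - i < p ^ (n - i) := Nat.lt_pow_self (Fact.out : p.Prime).one_lt
    have h2 : p ^ (n - i) + (s - 1) ≤ s * p ^ (n - i) := by
      obtain ⟨t, rfl⟩ : ∃ t, s = t + 1 := ⟨s - 1, by omega⟩
      have h3 : t * 1 ≤ t * p ^ (n - i) := Nat.mul_le_mul_left t (by omega)
      rw [add_mul, one_mul]
      omega
    omega
  have hterm : ∀ i n, i ≤ n → (p : S) ^ s ∣ x.coeff i →
      (p : S) ^ (n + s) ∣ (p : S) ^ i * x.coeff i ^ p ^ (n - i) := fun i n h hd => by
    refine (pow_dvd_pow _ (hexp i n h)).trans ?_
    rw [pow_add, pow_mul]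
    exact mul_dvd_mul_left _ (pow_dvd_pow_of_dvd hd _)
  have hcancel : ∀ n (a b : S), (p : S) ^ n * a = (p : S) ^ n * b → a = b := fun n => by
    induction n with
    | zero => simp
    | succ n ih =>
      intro a b h
      rw [pow_succ, mul_assoc, mul_assoc] at h
      exact sub_eq_zero.mp (hS _ (by rw [mul_sub, sub_eq_zero]; exact ih _ _ h))
  constructor
  · intro h n hn
    rw [hg]
    exact Finset.dvd_sum fun i hi => hterm i n (Nat.lt_succ_iff.mp (Finset.mem_range.mp hi))
      (h i (by have := Finset.mem_range.mp hi; omega))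
  · intro h i hi
    induction i using Nat.strong_induction_on with
    | _ i ih =>
      have h1 := h i hi
      rw [hg, Finset.sum_range_succ, Nat.sub_self, pow_zero, pow_one,
        dvd_add_right (Finset.dvd_sum fun j hj => hterm j i (Finset.mem_range.mp hj).le
          (ih j (Finset.mem_range.mp hj) (by have := Finset.mem_range.mp hj; omega)))] at h1
      obtain ⟨c, hc⟩ := h1
      exact ⟨c, hcancel i _ _ (by rw [hc, pow_add, mul_assoc])⟩

end Groth.Agent.S14856
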