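import Groth.Statements.S14857
import Mathlib.RingTheory.WittVector.Identities
import Mathlib.RingTheory.WittVector.Domain
import Mathlib.RingTheory.WittVector.Teichmuller

set_option autoImplicit false
open CAlg

namespace Groth.Agent.S14857

/-- For a prime p, the Teichmüller representative [p^p] of the element p^p of the p-adic integers is
divisible by p in the ring of p-typical Witt vectors W(ℤ_p). -/
theorem result (p : ℕ) [Fact p.Prime] :
    (p : WittVector p ℤ_[p]) ∣ WittVector.teichmuller p ((p : ℤ_[p]) ^ p) := by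
  have h0 : (WittVector.teichmuller p (p : ℤ_[p]) - (p : WittVector p ℤ_[p])).coeff 0 = 0 := by
    change WittVector.constantCoeff (WittVector.teichmuller p (p : ℤ_[p]) - (p : WittVector p ℤ_[p])) = 0
    rw [RingHom.map_sub, map_natCast WittVector.constantCoeff p]
    change (WittVector.teichmuller p (p : ℤ_[p])).coeff 0 - _ = 0
    rw [WittVector.teichmuller_coeff_zero, sub_self]
  obtain ⟨z, hz⟩ : ∃ z, WittVector.teichmuller p (p : ℤ_[p]) - (p : WittVector p ℤ_[p]) =
      WittVector.verschiebung z := by
    refine ⟨(WittVector.teichmuller p (p : ℤ_[p]) - (p : WittVector p ℤ_[p])).shift 1, ?_⟩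
    rw [WittVector.verschiebung_shift (k := 0) _ (fun i hi => by
      rw [show i = 0 by omega]; exact h0)]
    ext i
    simp [WittVector.shift_coeff]
  have hsq : (p : WittVector p ℤ_[p]) ∣ WittVector.verschiebung z ^ 2 := by
    refine ⟨WittVector.verschiebung (z * z), ?_⟩
    rw [pow_two, ← WittVector.verschiebung_mul_frobenius, WittVector.frobenius_verschiebung,
      ← mul_assoc, mul_comm (z * z), ← nsmul_eq_mul, map_nsmul, nsmul_eq_mul]
  have hpow : (p : WittVector p ℤ_[p]) ∣ WittVector.verschiebung z ^ p :=
    hsq.trans (pow_dvd_pow _ (Fact.out : p.Prime).two_le)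
  rw [map_pow, show WittVector.teichmuller p (p : ℤ_[p]) =
    (p : WittVector p ℤ_[p]) + WittVector.verschiebung z by rw [← hz, add_sub_cancel]]
  obtain ⟨r, hr⟩ := Commute.exists_add_pow_prime_eq (Fact.out : p.Prime)
    (Commute.all (p : WittVector p ℤ_[p]) (WittVector.verschiebung z))
  rw [hr]
  refine dvd_add (dvd_add (dvd_pow_self _ (Fact.out : p.Prime).ne_zero) hpow) ?_
  exact dvd_mul_of_dvd_left (dvd_mul_of_dvd_left (dvd_mul_right _ _) _) _

end Groth.Agent.S14857
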