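import Groth.Statements.S14859
import Groth.Agent.L15.DW.Disp
import Mathlib.RingTheory.FiniteType
import Mathlib.LinearAlgebra.Dimension.StrongRankCondition
import Mathlib.Tactic.Ring
import Mathlib.Tactic.LinearCombination
import Mathlib.Tactic.FieldSimp
import Mathlib.Algebra.BigOperators.Ring.Finset

set_option autoImplicit false
universe u v w
open Disp

namespace Groth.Agent.S14859

/-- Let p be a prime, R a commutative ring with p-typical Witt vectors W = W(R), and (P, Q, F, V⁻¹) a
3n-display over R with a normal decomposition P = L ⊕ T, Q = L + I_R·T. Then V⁻¹ ⊕ F : L ⊕ T → P is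
a Frobenius-linear isomorphism; stated here in the case where L and T are free with bases (l_i) and
(t_j): the family consisting of the V⁻¹(l_i) and the F(t_j) is a basis of the W-module P, i.e. it is
linearly independent over W and spans P. -/
theorem result (p : ℕ) [Fact p.Prime] (R : Type u) [CommRing R]
    (P : Type v) [AddCommGroup P] [Module (WittVector p R) P] (D : W4c1extbt610.Display3n p R P)
    (L T : Submodule (WittVector p R) P) (hLT : IsCompl L T)
    (hQ : D.Q = L ⊔ W4c1extbt610.IV p R • T) (hLQ : L ≤ D.Q)
    (ιL ιT : Type w) (bL : Module.Basis ιL (WittVector p R) L) (bT : Module.Basis ιT (WittVector p R) T) :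
    LinearIndependent (WittVector p R)
        (Sum.elim (fun i : ιL => D.Vinv ⟨(bL i : P), hLQ (bL i).2⟩) (fun j : ιT => D.F (bT j : P))) ∧
      Submodule.span (WittVector p R)
        (Set.range (Sum.elim (fun i : ιL => D.Vinv ⟨(bL i : P), hLQ (bL i).2⟩) (fun j : ιT => D.F (bT j : P)))) = ⊤ := by
  classical
  set W := WittVector p R
  set fam : ιL ⊕ ιT → P := Sum.elim (fun i : ιL => D.Vinv ⟨(bL i : P), hLQ (bL i).2⟩) (fun j : ιT => D.F (bT j : P)) with hfam
  have hspan : Submodule.span W (Set.range fam) = ⊤ := by
    rw [eq_top_iff, ← D.span_range_Vinv, Submodule.span_le]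
    rintro _ ⟨y, rfl⟩
    refine Groth.L15.DW.Vinv_mem D hQ (Submodule.span W (Set.range fam)) (fun l hl => ?_) (fun t ht => ?_) y
    · suffices ∀ m : L, D.Vinv ⟨m.1, hLQ m.2⟩ ∈ Submodule.span W (Set.range fam) from this ⟨l, hl⟩
      let g : L →ₛₗ[(WittVector.frobenius : W →+* W)] P := D.Vinv.comp (Submodule.inclusion hLQ)
      intro m
      show g m ∈ _
      rw [← bL.linearCombination_repr m, Finsupp.linearCombination_apply, map_finsuppSum]
      refine Submodule.sum_mem _ fun i _ => ?_
      dsimp only
      rw [LinearMap.map_smulₛₗ]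
      exact Submodule.smul_mem _ _ (Submodule.subset_span ⟨Sum.inl i, rfl⟩)
    · suffices ∀ m : T, D.F m.1 ∈ Submodule.span W (Set.range fam) from this ⟨t, ht⟩
      let g : T →ₛₗ[(WittVector.frobenius : W →+* W)] P := D.F.comp T.subtype
      intro m
      show g m ∈ _
      rw [← bT.linearCombination_repr m, Finsupp.linearCombination_apply, map_finsuppSum]
      refine Submodule.sum_mem _ fun i _ => ?_
      dsimp only
      rw [LinearMap.map_smulₛₗ]
      exact Submodule.smul_mem _ _ (Submodule.subset_span ⟨Sum.inr i, rfl⟩)
  refine ⟨?_, hspan⟩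
  rcases subsingleton_or_nontrivial W with hW | hW
  · exact linearIndependent_of_subsingleton
  haveI := D.finite
  let b : Module.Basis (ιL ⊕ ιT) W P :=
    (bL.prod bT).map (Submodule.prodEquivOfIsCompl L T hLT)
  haveI : Finite (ιL ⊕ ιT) := Module.Finite.finite_basis b
  haveI := Fintype.ofFinite (ιL ⊕ ιT)
  let f : P →ₗ[W] P := b.constr W fam
  have hf : Function.Surjective f := by
    rw [← LinearMap.range_eq_top, b.constr_range, hspan]
  have hi := OrzechProperty.injective_of_surjective_endomorphism f hf
  have := b.linearIndependent.map' f (LinearMap.ker_eq_bot.2 hi)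
  have he : fam = f ∘ b := funext fun i => (b.constr_basis W fam i).symm
  rw [he]
  exact this

end Groth.Agent.S14859
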