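import Groth.Statements.S14860
import Groth.Agent.L01.CompleteProj
import Groth.Agent.L15.DW.Basic

set_option autoImplicit false
universe u v
open CAlg

namespace Groth.Agent.S14860

/-- Let p be a prime and R a commutative ring in which p is nilpotent; write W = W(R) for the p-typical
Witt vectors and, for n ≥ 0, I_n ⊆ W for the ideal of Witt vectors whose first n components vanish
(the kernel of the truncation W → W_n(R), so W/I_n = W_n(R)). For a W-module P conditions (i) and
(ii) below are equivalent: (i) P is a projective W-module of finite type; (ii) P is separated for
the filtration by the submodules I_n P, and for every n the W_n(R)-module P/I_n P is finitely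
generated and projective. (The published statement is made for every ℤ_(p)-algebra R, the section's
standing convention; over R = ℚ, where W(ℚ) ≅ ℚ^ℕ by the ghost map, the module ⊕_ℕ ℚ satisfies (ii)
but is not finitely generated, and the published proof uses that I_1 is nilpotent in each W_n(R),
which holds when p is nilpotent in R; so p is taken nilpotent here. The third equivalent condition
of the published statement, freeness Zariski-locally on R, is not rendered.) -/
theorem result (p : ℕ) [Fact p.Prime] (R : Type u) [CommRing R]
    (hp : IsNilpotent (p : R))
    (P : Type v) [AddCommGroup P] [Module (WittVector p R) P] :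
    (Module.Finite (WittVector p R) P ∧ Module.Projective (WittVector p R) P) ↔
      ((⨅ n : ℕ, (RingHom.ker (WittVector.truncate (p := p) (R := R) n) • (⊤ : Submodule (WittVector p R) P))) = ⊥ ∧
        ∀ n : ℕ, Module.Finite (WittVector p R ⧸ RingHom.ker (WittVector.truncate (p := p) (R := R) n))
              (P ⧸ (RingHom.ker (WittVector.truncate (p := p) (R := R) n) • (⊤ : Submodule (WittVector p R) P))) ∧
            Module.Projective (WittVector p R ⧸ RingHom.ker (WittVector.truncate (p := p) (R := R) n))
              (P ⧸ (RingHom.ker (WittVector.truncate (p := p) (R := R) n) • (⊤ : Submodule (WittVector p R) P)))) := by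
  constructor
  · rintro ⟨h1, h2⟩
    exact ⟨Groth.L01.CompleteProj.iInf_eq_bot (fun n => RingHom.ker (WittVector.truncate (p := p) (R := R) n))
      TruncatedWittVector.iInf_ker_truncate, fun n => Groth.L01.CompleteProj.finite_proj_quot _⟩
  · rintro ⟨hsep, h⟩
    refine Groth.L01.CompleteProj.finite_projective (fun n => RingHom.ker (WittVector.truncate (p := p) (R := R) n))
      ?_ TruncatedWittVector.iInf_ker_truncate ?_ ?_ ?_ hsep (fun n => (h n).1) (fun n => (h n).2)
    · intro a b hab x hx
      rw [WittVector.mem_ker_truncate] at hx ⊢
      exact fun i hi => hx i (lt_of_lt_of_le hi hab)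
    · intro a ha
      have key : ∀ i n, i < n → (a n).coeff i = (a (i + 1)).coeff i := by
        intro i n hin
        induction n, (hin : i + 1 ≤ n) using Nat.le_induction with
        | base => rfl
        | succ n hn ih =>
          rw [← ih]
          have h1 := ha n
          rw [RingHom.mem_ker, map_sub, sub_eq_zero] at h1
          have h2 := congrArg (fun t => TruncatedWittVector.coeff ⟨i, by omega⟩ t) h1
          simpa [WittVector.coeff_truncate] using h2
      refine ⟨WittVector.mk p fun i => (a (i + 1)).coeff i, fun n => ?_⟩
      rw [RingHom.mem_ker, map_sub, sub_eq_zero]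
      ext i
      rw [WittVector.coeff_truncate, WittVector.coeff_truncate]
      exact (key i n i.2).symm
    · intro x hx
      rw [WittVector.mem_ker_truncate] at hx
      rw [Ideal.mem_jacobson_bot]
      intro y
      rw [add_comm]
      exact Groth.L15.DW.isUnit_one_add hp (Ideal.mul_mem_right _ _
        (Groth.L15.DW.mem_IV_iff.2 (hx 0 one_pos)))
    · rw [eq_top_iff]
      intro x _
      rw [WittVector.mem_ker_truncate]
      intro i hi
      omega

end Groth.Agent.S14860
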