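import Groth.Statements.S14862
import Groth.Agent.L01.WittTorsFree

set_option autoImplicit false
universe u
open CAlg

namespace Groth.Agent.S14862

/-- Let p be a prime and S a commutative ring without p-torsion which is complete and separated for the
p-adic topology; write W = W(S) for the p-typical Witt vectors, I_r ⊆ W for the ideal of Witt
vectors whose first r components vanish (the image of the r-th iterate of the Verschiebung) and
W(p^s S) ⊆ W for the ideal of Witt vectors all of whose components lie in p^s S (the kernel of W(S)
→ W(S/p^s S)). Then for every natural number u the ideal p^u W is closed for the linear topology on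
W in which the ideals I_r + W(p^s S) form a neighbourhood basis of zero: the intersection over all r
and s of p^u W + I_r + W(p^s S) equals p^u W. (The published statement asks only that S have no
p-torsion; S is moreover taken p-adically complete and separated here, the case in which the result
is applied and through which the published proof goes.) -/
theorem result (p : ℕ) [Fact p.Prime] (S : Type u) [CommRing S]
    (hS : ∀ y : S, (p : S) * y = 0 → y = 0) [IsAdicComplete (Ideal.span {(p : S)}) S] (u : ℕ) :
    (⨅ r : ℕ, ⨅ s : ℕ,
        Ideal.span {(p : WittVector p S) ^ u} ⊔ RingHom.ker (WittVector.truncate (p := p) (R := S) r) ⊔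
          RingHom.ker (WittVector.map (p := p) (Ideal.Quotient.mk (Ideal.span {(p : S) ^ s})))) =
      Ideal.span {(p : WittVector p S) ^ u} := by
  refine le_antisymm (fun x hx => ?_) (le_iInf fun r => le_iInf fun s => le_trans le_sup_left le_sup_left)
  simp only [Submodule.mem_iInf] at hx
  obtain ⟨y, hy⟩ := Groth.L01.WittTorsFree.exists_global_solution hS x u fun m =>
    Groth.L01.WittTorsFree.exists_solution hS x m u fun s => by
      obtain ⟨ab, hab, w, hw, hx'⟩ := Submodule.mem_sup.mp (hx m s)
      obtain ⟨a', ha', t, ht, hab'⟩ := Submodule.mem_sup.mp hab
      obtain ⟨c, rfl⟩ := Ideal.mem_span_singleton'.mp ha'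
      refine ⟨c, fun i hi => ?_⟩
      have h1 : ((p : WittVector p S) ^ u * c - x) = -(t + w) := by
        rw [← hx', ← hab']; ring
      let q := (WittVector.truncate (p := p) (R := S ⧸ Ideal.span {(p : S) ^ s}) m).comp
        (WittVector.map (p := p) (Ideal.Quotient.mk (Ideal.span {(p : S) ^ s})))
      have h2 : q ((p : WittVector p S) ^ u * c - x) = 0 := by
        rw [h1, map_neg, map_add]
        have ht' : q t = 0 := by
          refine RingHom.mem_ker.mp ((WittVector.mem_ker_truncate (p := p) m (WittVector.map (p := p) (Ideal.Quotient.mk (Ideal.span {(p : S) ^ s})) t)).mpr fun j hj => ?_)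
          rw [WittVector.map_coeff, (WittVector.mem_ker_truncate m t).mp ht j hj, map_zero]
        have hw' : q w = 0 := by
          simp only [q, RingHom.comp_apply]
          rw [RingHom.mem_ker.mp hw, map_zero]
        rw [ht', hw', add_zero, neg_zero]
      have h3 := (WittVector.mem_ker_truncate (p := p) m (WittVector.map (p := p) (Ideal.Quotient.mk (Ideal.span {(p : S) ^ s})) ((p : WittVector p S) ^ u * c - x))).mp (RingHom.mem_ker.mpr h2) i hi
      rwa [WittVector.map_coeff, Ideal.Quotient.eq_zero_iff_mem] at h3
  exact Ideal.mem_span_singleton'.mpr ⟨y, by rw [mul_comm]; exact hy⟩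


end Groth.Agent.S14862
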