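import Groth.Statements.S14863
import Groth.Agent.L15.DW.DieuDisplay
import Mathlib.Tactic.Ring
import Mathlib.Tactic.LinearCombination
import Mathlib.Tactic.FieldSimp
import Mathlib.Algebra.BigOperators.Ring.Finset

set_option autoImplicit false
universe u v
open Disp

namespace Groth.Agent.S14863

/-- Let p be a prime and k a perfect commutative ring of characteristic p, so that the Frobenius σ of W
= W(k) is an automorphism. Let M be a Dieudonné module over k, that is, a projective W-module of
finite type with a σ-semilinear operator F and a σ⁻¹-semilinear operator V such that FV = VF = p.
Then (M, VM, F, V⁻¹) is a 3n-display over k: there exists a 3n-display structure on the W-module M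
whose distinguished submodule is exactly the image of V, whose Frobenius operator is F, and whose
operator V⁻¹ sends V m to m for every m. (The published statement is the equivalence of the category
of 3n-displays over k with that of Dieudonné modules, displays corresponding to topologically
nilpotent V; this row is the passage from a Dieudonné module to a 3n-display.) -/
theorem result (p : ℕ) [Fact p.Prime] (k : Type u) [CommRing k]
    [CharP k p] [PerfectRing k p]
    (M : Type v) [AddCommGroup M] [Module (WittVector p k) M]
    [Module.Finite (WittVector p k) M] [Module.Projective (WittVector p k) M]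
    (F : M →ₛₗ[(WittVector.frobenius : WittVector p k →+* WittVector p k)] M)
    (V : M →ₛₗ[((WittVector.frobeniusEquiv p k).symm : WittVector p k →+* WittVector p k)] M)
    (hFV : ∀ m : M, F (V m) = (p : WittVector p k) • m) (hVF : ∀ m : M, V (F m) = (p : WittVector p k) • m) :
    ∃ D : W4c1extbt610.Display3n p k M,
      D.F = F ∧ (∀ x : M, x ∈ D.Q ↔ x ∈ Set.range V) ∧
        ∀ (m : M) (h : V m ∈ D.Q), D.Vinv ⟨V m, h⟩ = m := by
  exact Groth.L15.DW.exists_display_of_dieudonne F V hFV hVF

end Groth.Agent.S14863
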