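import Groth.Statements.S14864
import Groth.Agent.S14855
import Mathlib.RingTheory.WittVector.Identities
import Mathlib.RingTheory.WittVector.Truncated

set_option autoImplicit false
universe u
open CAlg

namespace Groth.Agent.S14864

/-- Let p be a prime and R a commutative ring in which p is nilpotent; write W = W(R) for the p-typical
Witt vectors, I ⊆ W for the kernel of the projection onto the zeroth component, and I_n ⊆ W for the
kernel of the truncation W → W_n(R). The p-adic topology on W equals its I-adic topology — every
power of the ideal pW contains some power of I and every power of I contains some power of pW — and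
this common topology is finer than the V-adic one: every I_n contains some power of pW. -/
theorem result (p : ℕ) [Fact p.Prime] (R : Type u) [CommRing R]
    (hp : IsNilpotent (p : R)) :
    (∀ n : ℕ, ∃ m : ℕ, (RingHom.ker (WittVector.constantCoeff : WittVector p R →+* R)) ^ m ≤ Ideal.span {(p : WittVector p R)} ^ n) ∧
      (∀ n : ℕ, ∃ m : ℕ, Ideal.span {(p : WittVector p R)} ^ m ≤ (RingHom.ker (WittVector.constantCoeff : WittVector p R →+* R)) ^ n) ∧
        ∀ n : ℕ, ∃ m : ℕ, Ideal.span {(p : WittVector p R)} ^ m ≤ RingHom.ker (WittVector.truncate (p := p) (R := R) n) := by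
  obtain ⟨k, hk⟩ := hp
  set I := RingHom.ker (WittVector.constantCoeff : WittVector p R →+* R) with hI
  have hV : ∀ x ∈ I, ∃ a, x = WittVector.verschiebung a := by
    intro x hx
    refine ⟨x.shift 1, ?_⟩
    have h0 : ∀ i < 1, x.coeff i = 0 := fun i hi => by
      obtain rfl : i = 0 := by omega
      exact hx
    simpa using WittVector.eq_iterate_verschiebung h0
  have hsq : I ^ 2 ≤ Ideal.span {(p : WittVector p R)} := by
    rw [pow_two, Ideal.mul_le]
    intro x hx y hy
    obtain ⟨a, rfl⟩ := hV x hx
    obtain ⟨b, rfl⟩ := hV y hy
    rw [Ideal.mem_span_singleton]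
    refine ⟨WittVector.verschiebung (a * b), ?_⟩
    rw [← WittVector.verschiebung_mul_frobenius, WittVector.frobenius_verschiebung]
    rw [← mul_assoc, mul_comm (a * b) (p : WittVector p R), ← nsmul_eq_mul, map_nsmul, nsmul_eq_mul]
  refine ⟨fun n => ⟨2 * n, ?_⟩, fun n => ⟨k * n, ?_⟩, fun n => ⟨k * n, ?_⟩⟩
  · rw [pow_mul]; exact Ideal.pow_right_mono hsq n
  · rw [pow_mul]
    refine Ideal.pow_right_mono ?_ n
    rw [Ideal.span_singleton_pow, Ideal.span_singleton_le_iff_mem, hI, RingHom.mem_ker, map_pow,
      map_natCast, hk]
  · rw [Ideal.span_singleton_pow, Ideal.span_singleton_le_iff_mem, WittVector.mem_ker_truncate]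
    intro i hi
    have h := Groth.Agent.S14855.trunc_pow_mul_eq_zero p hk n (1 : WittVector p R) i hi
    rwa [mul_one] at h


end Groth.Agent.S14864
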