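import Groth.Statements.S14866
import Groth.Agent.L15.DW.Rigid
import Mathlib.Tactic.Ring
import Mathlib.Tactic.LinearCombination
import Mathlib.Tactic.FieldSimp
import Mathlib.Algebra.BigOperators.Ring.Finset

set_option autoImplicit false
universe u v w z
open Disp

namespace Groth.Agent.S14866

/-- Let p be a prime and S → R a surjective homomorphism of commutative rings with kernel 𝔞, with p
nilpotent in S and with a^N = 0 for every a ∈ 𝔞 for one exponent N; let P_1, P_2 be free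
W(S)-modules of finite rank with Frobenius-semilinear endomorphisms F_1, F_2 each carrying a basis
to a basis. Let 𝔠 be an ideal of W(S) contained in W(𝔞) = ker(W(S) → W(R)) and stable under the
Frobenius of W(S), and let α_0 : P_1 → P_2 be a W(S)-linear map with F_2 α_0 ≡ α_0 F_1 modulo 𝔠·P_2.
Then there is a W(S)-linear map α : P_1 → P_2 with F_2 α = α F_1 which is congruent to α_0 modulo
𝔠·P_2. (The published statement has P_1, P_2 finitely generated projective; this row takes them free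
with given finite bases.) -/
theorem result (p : ℕ) [Fact p.Prime] (S R : Type u)
    [CommRing S] [CommRing R] (φ : S →+* R) (hφ : Function.Surjective φ) (hp : IsNilpotent (p : S))
    (N : ℕ) (hN : ∀ a : S, φ a = 0 → a ^ N = 0)
    (P₁ : Type v) [AddCommGroup P₁] [Module (WittVector p S) P₁]
    (P₂ : Type w) [AddCommGroup P₂] [Module (WittVector p S) P₂]
    (ι₁ ι₂ : Type z) [Finite ι₁] [Finite ι₂]
    (b₁ : Module.Basis ι₁ (WittVector p S) P₁) (b₂ : Module.Basis ι₂ (WittVector p S) P₂)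
    (F₁ : P₁ →ₛₗ[(WittVector.frobenius : WittVector p S →+* WittVector p S)] P₁)
    (F₂ : P₂ →ₛₗ[(WittVector.frobenius : WittVector p S →+* WittVector p S)] P₂)
    (hF₁ : LinearIndependent (WittVector p S) (fun i => F₁ (b₁ i)) ∧
      Submodule.span (WittVector p S) (Set.range fun i => F₁ (b₁ i)) = ⊤)
    (hF₂ : LinearIndependent (WittVector p S) (fun i => F₂ (b₂ i)) ∧
      Submodule.span (WittVector p S) (Set.range fun i => F₂ (b₂ i)) = ⊤)
    (𝔠 : Ideal (WittVector p S)) (h𝔠 : 𝔠 ≤ RingHom.ker (WittVector.map (p := p) φ))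
    (h𝔠F : ∀ x ∈ 𝔠, WittVector.frobenius x ∈ 𝔠)
    (α₀ : P₁ →ₗ[WittVector p S] P₂)
    (hα₀ : ∀ x : P₁, F₂ (α₀ x) - α₀ (F₁ x) ∈ 𝔠 • (⊤ : Submodule (WittVector p S) P₂)) :
    ∃ α : P₁ →ₗ[WittVector p S] P₂,
      (∀ x : P₁, α x - α₀ x ∈ 𝔠 • (⊤ : Submodule (WittVector p S) P₂)) ∧ ∀ x : P₁, F₂ (α x) = α (F₁ x) := by
  obtain ⟨α, h, -⟩ := Groth.L15.DW.rigid φ hp N hN b₁ F₁ F₂ hF₁ 𝔠 h𝔠 h𝔠F α₀ hα₀
  exact ⟨α, h⟩

end Groth.Agent.S14866
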