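import Groth.Statements.S14867
import Groth.Agent.L15.DW.Basic
import Mathlib.RingTheory.Idempotents
import Mathlib.RingTheory.Noetherian.Nilpotent
import Mathlib.RingTheory.Nakayama
import Mathlib.LinearAlgebra.Matrix.ToLin
import Mathlib.RingTheory.Noetherian.Orzech
import Mathlib.RingTheory.Finiteness.Projective

set_option autoImplicit false
universe u
open CAlg

namespace Groth.Agent.S14867

section
open WittVector
variable {p : ℕ} [Fact p.Prime] {S R : Type u} [CommRing S] [CommRing R]

theorem exists_limit (a : ℕ → WittVector p S)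
    (ha : ∀ n, a (n + 1) - a n ∈ RingHom.ker (truncate (p := p) (R := S) n)) :
    ∃ x, ∀ n, x - a n ∈ RingHom.ker (truncate (p := p) (R := S) n) := by
  have key : ∀ i n, i < n → (a n).coeff i = (a (i + 1)).coeff i := by
    intro i n hin
    induction n, (hin : i + 1 ≤ n) using Nat.le_induction with
    | base => rfl
    | succ n hn ih =>
      rw [← ih]
      have h1 := ha n
      rw [RingHom.mem_ker, map_sub, sub_eq_zero] at h1
      have h2 := congrArg (fun t => TruncatedWittVector.coeff ⟨i, by omega⟩ t) h1
      simpa [WittVector.coeff_truncate] using h2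
  refine ⟨WittVector.mk p fun i => (a (i + 1)).coeff i, fun n => ?_⟩
  rw [RingHom.mem_ker, map_sub, sub_eq_zero]
  ext i
  rw [WittVector.coeff_truncate, WittVector.coeff_truncate]
  exact (key i n i.2).symm

theorem eq_of_sub_mem (x y : WittVector p S)
    (h : ∀ n, x - y ∈ RingHom.ker (truncate (p := p) (R := S) n)) : x = y := by
  rw [← sub_eq_zero, ← Ideal.mem_bot, ← TruncatedWittVector.iInf_ker_truncate, Ideal.mem_iInf]
  exact h

variable {φ : S →+* R}

theorem coeff_zero_nilpotent (hnil : ∀ a : S, φ a = 0 → IsNilpotent a) {x : WittVector p S}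
    (hx : x ∈ RingHom.ker (WittVector.map (p := p) φ)) : IsNilpotent (x.coeff 0) :=
  hnil _ (by
    rw [← WittVector.map_coeff, RingHom.mem_ker.1 hx, WittVector.zero_coeff])

theorem ker_le_jacobson (hp : IsNilpotent (p : S)) (hnil : ∀ a : S, φ a = 0 → IsNilpotent a) :
    RingHom.ker (WittVector.map (p := p) φ) ≤ Ideal.jacobson ⊥ := by
  intro x hx
  rw [Ideal.mem_jacobson_bot]
  intro y
  refine Groth.L15.DW.isUnit_of_constantCoeff hp ?_
  change IsUnit (constantCoeff (x * y + 1))
  rw [map_add, map_mul, map_one]
  exact (Commute.isNilpotent_mul_right (Commute.all (x.coeff 0) (constantCoeff y)) (coeff_zero_nilpotent hnil hx)).isUnit_add_one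

theorem isNilpotent_mk (hp : IsNilpotent (p : S)) (hnil : ∀ a : S, φ a = 0 → IsNilpotent a)
    {x : WittVector p S} (hx : x ∈ RingHom.ker (WittVector.map (p := p) φ)) (n : ℕ) :
    IsNilpotent (Ideal.Quotient.mk (RingHom.ker (truncate (p := p) (R := S) n)) x) := by
  have hV : (x - teichmuller p (x.coeff 0)) ∈ W4c1extbt610.IV p S :=
    Groth.L15.DW.mem_IV_iff.2 (Groth.L15.DW.sub_teich_coeff_zero x)
  obtain ⟨m, hm⟩ := coeff_zero_nilpotent hnil hx
  have h1 : IsNilpotent (truncate n (teichmuller p (x.coeff 0))) :=
    ⟨m, by rw [← map_pow, ← map_pow, hm, WittVector.teichmuller_zero, map_zero]⟩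
  have h2 : IsNilpotent (truncate n x) := by
    rw [show x = (x - teichmuller p (x.coeff 0)) + teichmuller p (x.coeff 0) by ring, map_add]
    exact (Commute.all _ _).isNilpotent_add (Groth.L15.DW.isNilpotent_truncate_IV hp n hV) h1
  obtain ⟨m', hm'⟩ := h2
  refine ⟨m', ?_⟩
  rw [← map_pow, Ideal.Quotient.eq_zero_iff_mem, RingHom.mem_ker, map_pow, hm']

theorem matrix_isNilpotent {A : Type u} [CommRing A] {k : ℕ} (M : Matrix (Fin k) (Fin k) A)
    (h : ∀ i j, IsNilpotent (M i j)) : IsNilpotent M := by
  let b : Ideal A := Ideal.span (Set.range fun ij : Fin k × Fin k => M ij.1 ij.2)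
  have hb : IsNilpotent b := by
    refine (Ideal.FG.isNilpotent_iff_le_nilradical (Submodule.fg_span (Set.finite_range _))).2 ?_
    exact Ideal.span_le.2 (by rintro _ ⟨ij, rfl⟩; exact h ij.1 ij.2)
  have hpow : ∀ m, ∀ i j, (M ^ m) i j ∈ b ^ m := by
    intro m
    induction m with
    | zero => intro i j; simp
    | succ m ih =>
      intro i j
      rw [pow_succ, pow_succ, Matrix.mul_apply]
      exact Ideal.sum_mem _ fun l _ => Ideal.mul_mem_mul (ih i l)
        (Ideal.subset_span ⟨(l, j), rfl⟩)
  obtain ⟨m, hm⟩ := hb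
  refine ⟨m, ?_⟩
  ext i j
  have := hpow m i j
  rw [hm] at this
  exact this

theorem exists_idempotent_lift (hp : IsNilpotent (p : S)) (hnil : ∀ a : S, φ a = 0 → IsNilpotent a)
    (hφ : Function.Surjective φ) {k : ℕ} (e : Matrix (Fin k) (Fin k) (WittVector p R)) (he : e * e = e) :
    ∃ E : Matrix (Fin k) (Fin k) (WittVector p S), E * E = E ∧
      (WittVector.map (p := p) φ).mapMatrix E = e := by
  classical
  let I : ℕ → Ideal (WittVector p S) := fun n => RingHom.ker (truncate (p := p) (R := S) n)
  let J := RingHom.ker (WittVector.map (p := p) φ)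
  let Good : ℕ → Matrix (Fin k) (Fin k) (WittVector p S) → Prop := fun n E =>
    (∀ i j, (E * E - E) i j ∈ I n) ∧ (WittVector.map (p := p) φ).mapMatrix E = e
  have h0 : ∃ E, Good 0 E := by
    choose E hE using fun i j => WittVector.map_surjective φ hφ (e i j)
    refine ⟨E, fun i j => ?_, Matrix.ext hE⟩
    rw [WittVector.mem_ker_truncate]
    intro l hl
    omega
  have hI : Antitone I := fun a b hab x hx => by
    simp only [I, WittVector.mem_ker_truncate] at hx ⊢
    exact fun i hi => hx i (lt_of_lt_of_le hi hab)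
  have hstep : ∀ n E, Good n E → ∃ E', Good (n + 1) E' ∧ ∀ i j, (E' - E) i j ∈ I n := by
    intro n E ⟨hE1, hE2⟩
    let q := Ideal.Quotient.mk (I (n + 1))
    let K := (I n ⊓ J).map q
    have hdJ : ∀ i j, (E * E - E) i j ∈ J := fun i j => by
      have := congrFun (congrFun (show (WittVector.map (p := p) φ).mapMatrix (E * E - E) = 0 by
        rw [map_sub, map_mul, hE2, he, sub_self]) i) j
      exact this
    have hidem : IsIdempotentElem ((Ideal.Quotient.mk K).mapMatrix (q.mapMatrix E)) := by
      rw [IsIdempotentElem, ← sub_eq_zero, ← map_mul, ← map_mul, ← map_sub, ← map_sub]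
      ext i j
      exact Ideal.Quotient.eq_zero_iff_mem.2 (Ideal.mem_map_of_mem q ⟨hE1 i j, hdJ i j⟩)
    obtain ⟨e', he', he'2⟩ := exists_isIdempotentElem_eq_of_ker_isNilpotent
      (Ideal.Quotient.mk K).mapMatrix
      (fun M hM => matrix_isNilpotent M fun i j => by
        have h1 : M i j ∈ K := Ideal.Quotient.eq_zero_iff_mem.1 (congrFun (congrFun hM i) j)
        obtain ⟨x, hx, hxM⟩ := (Ideal.mem_map_iff_of_surjective q Ideal.Quotient.mk_surjective).1 h1
        rw [← hxM]
        exact isNilpotent_mk hp hnil hx.2 (n + 1))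
      _ ⟨_, rfl⟩ hidem
    have hd : ∀ i j, ∃ x ∈ I n ⊓ J, q x = e' i j - q (E i j) := fun i j => by
      refine (Ideal.mem_map_iff_of_surjective q Ideal.Quotient.mk_surjective).1 ?_
      rw [← Ideal.Quotient.eq]
      exact congrFun (congrFun he'2 i) j
    choose x hx hqx using hd
    refine ⟨E + Matrix.of x, ⟨fun i j => ?_, ?_⟩, fun i j => ?_⟩
    · have hq : q.mapMatrix (E + Matrix.of x) = e' := Matrix.ext fun a b => by
        change q (E a b + x a b) = e' a b
        rw [map_add, hqx, add_sub_cancel]
      rw [← Ideal.Quotient.eq_zero_iff_mem]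
      have h2 : q.mapMatrix ((E + Matrix.of x) * (E + Matrix.of x) - (E + Matrix.of x)) = 0 := by
        rw [map_sub, map_mul, hq, he', sub_self]
      exact congrFun (congrFun h2 i) j
    · rw [map_add, hE2, show (WittVector.map (p := p) φ).mapMatrix (Matrix.of x) = 0 from
        Matrix.ext fun a b => (hx a b).2, add_zero]
    · rw [add_sub_cancel_left]
      exact (hx i j).1
  obtain ⟨E₀, hE₀⟩ := h0
  choose next hnext hnext' using hstep
  obtain ⟨sq, hsq, hsq'⟩ : ∃ sq : ℕ → Matrix (Fin k) (Fin k) (WittVector p S),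
      (∀ n, Good n (sq n)) ∧ ∀ n i j, (sq (n + 1) - sq n) i j ∈ I n := by
    let seq : ∀ n, {E // Good n E} := fun n =>
      Nat.rec ⟨E₀, hE₀⟩ (fun m E => ⟨next m E.1 E.2, hnext m E.1 E.2⟩) n
    exact ⟨fun n => (seq n).1, fun n => (seq n).2, fun n => hnext' n (seq n).1 (seq n).2⟩
  choose L hL using fun i j => exists_limit (fun n => sq n i j) (fun n => by
    rw [← Matrix.sub_apply]; exact hsq' n i j)
  refine ⟨Matrix.of L, ?_, ?_⟩
  · refine Matrix.ext fun i j => ?_
    refine eq_of_sub_mem _ _ fun n => ?_
    have hmap : (truncate n).mapMatrix (Matrix.of L) = (truncate n).mapMatrix (sq n) := by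
      refine Matrix.ext fun a b => ?_
      rw [RingHom.mapMatrix_apply, RingHom.mapMatrix_apply, Matrix.map_apply, Matrix.map_apply, Matrix.of_apply]
      have := RingHom.mem_ker.1 (hL a b n)
      rwa [map_sub, sub_eq_zero] at this
    have h1 : (truncate n).mapMatrix (sq n * sq n - sq n) = 0 := by
      refine Matrix.ext fun a b => ?_
      rw [RingHom.mapMatrix_apply, Matrix.map_apply, Matrix.zero_apply]
      exact RingHom.mem_ker.1 ((hsq n).1 a b)
    have h2 : (truncate n).mapMatrix (Matrix.of L * Matrix.of L - Matrix.of L) = 0 := by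
      rw [map_sub, map_mul, hmap, ← map_mul, ← map_sub, h1]
    have h3 := congrFun (congrFun h2 i) j
    rw [RingHom.mapMatrix_apply, Matrix.map_apply, Matrix.sub_apply, Matrix.zero_apply] at h3
    exact RingHom.mem_ker.2 h3
  · refine Matrix.ext fun i j => ?_
    refine eq_of_sub_mem _ _ fun n => ?_
    rw [← (hsq n).2, RingHom.mapMatrix_apply, RingHom.mapMatrix_apply, Matrix.map_apply,
      Matrix.map_apply, Matrix.of_apply]
    have h := hL i j n
    rw [WittVector.mem_ker_truncate] at h
    rw [← map_sub, WittVector.mem_ker_truncate]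
    intro l hl
    rw [WittVector.map_coeff, h l hl, map_zero]

end


/-- Let p be a prime and S → R a surjective homomorphism of commutative rings such that every element of
its kernel 𝔞 is nilpotent and p is nilpotent in S; write J = W(𝔞) for the kernel of the induced
surjection W(S) → W(R) of rings of p-typical Witt vectors. Then finitely generated projective
modules lift along W(S) → W(R), uniquely up to isomorphism: for every finitely generated projective
W(R)-module P there is a finitely generated projective W(S)-module P̃ together with a surjection P̃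
→ P, semilinear over W(S) → W(R), whose kernel is J·P̃ (that is, an isomorphism W(R) ⊗_{W(S)} P̃ ≅
P); and for any two such pairs (P̃_1, π_1), (P̃_2, π_2) there is a W(S)-linear isomorphism P̃_1 ≅
P̃_2 compatible with π_1 and π_2. -/
theorem result (p : ℕ) [Fact p.Prime] (S R : Type u)
    [CommRing S] [CommRing R] (φ : S →+* R) (hφ : Function.Surjective φ)
    (hnil : ∀ a : S, φ a = 0 → IsNilpotent a) (hp : IsNilpotent (p : S))
    (P : Type u) [AddCommGroup P] [Module (WittVector p R) P]
    [Module.Finite (WittVector p R) P] [Module.Projective (WittVector p R) P] :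
    (∃ (P' : Type u) (_ : AddCommGroup P') (_ : Module (WittVector p S) P'),
        Module.Finite (WittVector p S) P' ∧ Module.Projective (WittVector p S) P' ∧
          ∃ π : P' →ₛₗ[WittVector.map (p := p) φ] P, Function.Surjective π ∧
            LinearMap.ker π = RingHom.ker (WittVector.map (p := p) φ) • (⊤ : Submodule (WittVector p S) P')) ∧
      ∀ (P₁ : Type u) [AddCommGroup P₁] [Module (WittVector p S) P₁]
        [Module.Finite (WittVector p S) P₁] [Module.Projective (WittVector p S) P₁]
        (P₂ : Type u) [AddCommGroup P₂] [Module (WittVector p S) P₂]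
        [Module.Finite (WittVector p S) P₂] [Module.Projective (WittVector p S) P₂]
        (π₁ : P₁ →ₛₗ[WittVector.map (p := p) φ] P) (π₂ : P₂ →ₛₗ[WittVector.map (p := p) φ] P),
        Function.Surjective π₁ →
          LinearMap.ker π₁ = RingHom.ker (WittVector.map (p := p) φ) • (⊤ : Submodule (WittVector p S) P₁) →
        Function.Surjective π₂ →
          LinearMap.ker π₂ = RingHom.ker (WittVector.map (p := p) φ) • (⊤ : Submodule (WittVector p S) P₂) →
        ∃ e : P₁ ≃ₗ[WittVector p S] P₂, ∀ x : P₁, π₂ (e x) = π₁ x := by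
  classical
  set g := WittVector.map (p := p) φ with hg
  have hjac := ker_le_jacobson (p := p) (φ := φ) hp hnil
  letI : Module (WittVector p S) P := Module.compHom P g
  have hgs : ∀ (a : WittVector p S) (y : P), a • y = g a • y := fun _ _ => rfl
  constructor
  · obtain ⟨k, Φ, hΦ⟩ := Module.Finite.exists_fin' (WittVector p R) P
    obtain ⟨σ, hσ⟩ := Module.projective_lifting_property Φ LinearMap.id hΦ
    have hσ' : ∀ y, Φ (σ y) = y := fun y => LinearMap.congr_fun hσ y
    have he : LinearMap.toMatrix' (σ ∘ₗ Φ) * LinearMap.toMatrix' (σ ∘ₗ Φ) = LinearMap.toMatrix' (σ ∘ₗ Φ) := by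
      rw [← LinearMap.toMatrix'_comp]
      congr 1
      exact LinearMap.ext fun c => by simp only [LinearMap.comp_apply, hσ']
    obtain ⟨E, hE, hEe⟩ := exists_idempotent_lift hp hnil hφ _ he
    let T := Matrix.toLin' E
    let P' := LinearMap.range T
    have hT : ∀ c, T (T c) = T c := fun c => by
      rw [← LinearMap.comp_apply, ← Matrix.toLin'_mul, hE]
    have hbar : ∀ c : Fin k → WittVector p S, (fun i => g (T c i)) = σ (Φ fun i => g (c i)) := fun c => by
      have h1 : (fun i => g (T c i)) = (g.mapMatrix E).mulVec (fun i => g (c i)) :=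
        funext fun i => RingHom.map_mulVec g E c i
      rw [h1, hEe, ← Matrix.toLin'_apply, Matrix.toLin'_toMatrix', LinearMap.comp_apply]
    let π : P' →ₛₗ[g] P :=
      { toFun := fun x => Φ fun i => g (x.1 i)
        map_add' := fun x y => by
          rw [← map_add]; exact congrArg Φ (funext fun i => map_add g _ _)
        map_smul' := fun a x => by
          rw [← map_smul]; exact congrArg Φ (funext fun i => map_mul g _ _) }
    haveI : Module.Finite (WittVector p S) P' := Module.Finite.range T
    refine ⟨P', inferInstance, inferInstance, inferInstance, ?_, π, ?_, ?_⟩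
    · refine Module.Projective.of_split P'.subtype T.rangeRestrict (LinearMap.ext fun x => Subtype.ext ?_)
      obtain ⟨c, hc⟩ := x.2
      change T x.1 = x.1
      rw [← hc, hT]
    · intro y
      choose c hc using fun i => WittVector.map_surjective φ hφ (σ y i)
      refine ⟨⟨T c, c, rfl⟩, ?_⟩
      change Φ (fun i => g (T c i)) = y
      rw [hbar, show (fun i => g (c i)) = σ y from funext hc, hσ', hσ']
    · refine le_antisymm (fun x hx => ?_) (Submodule.smul_le.2 fun r hr z _ => ?_)
      · obtain ⟨c, hc⟩ := x.2
        have hx0 : ∀ i, g (x.1 i) = 0 := fun i => by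
          have h1 := hbar c
          rw [hc] at h1
          have h3 : Φ (fun i => g (x.1 i)) = 0 := hx
          rw [h1, hσ'] at h3
          rw [h3, map_zero] at h1
          exact congrFun h1 i
        have hmem : x.1 ∈ RingHom.ker g • (⊤ : Submodule (WittVector p S) (Fin k → WittVector p S)) := by
          rw [pi_eq_sum_univ x.1]
          exact Submodule.sum_mem _ fun i _ => Submodule.smul_mem_smul (hx0 i) Submodule.mem_top
        have hxT : T.rangeRestrict x.1 = x := Subtype.ext (by
          change T x.1 = x.1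
          rw [← hc, hT])
        rw [← hxT]
        have h2 := Submodule.mem_map_of_mem (f := T.rangeRestrict) hmem
        rw [Submodule.map_smul''] at h2
        exact Submodule.smul_mono le_rfl le_top h2
      · change π (r • z) = 0
        rw [map_smulₛₗ, (RingHom.mem_ker.1 hr : g r = 0), zero_smul]
  · intro P₁ _ _ _ _ P₂ _ _ _ _ π₁ π₂ hs₁ hk₁ hs₂ hk₂
    have key : ∀ (A B : Type u) [AddCommGroup A] [Module (WittVector p S) A]
        [Module.Projective (WittVector p S) A] [AddCommGroup B] [Module (WittVector p S) B]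
        [Module.Finite (WittVector p S) B] (α : A →ₛₗ[g] P) (β : B →ₛₗ[g] P),
        Function.Surjective α → Function.Surjective β →
        LinearMap.ker β = RingHom.ker g • (⊤ : Submodule (WittVector p S) B) →
        ∃ f : A →ₗ[WittVector p S] B, Function.Surjective f ∧ ∀ x, β (f x) = α x := by
      intro A B _ _ _ _ _ _ α β hα hβ hkβ
      let α' : A →ₗ[WittVector p S] P :=
        { toFun := α, map_add' := map_add α, map_smul' := fun a x => map_smulₛₗ α a x }
      let β' : B →ₗ[WittVector p S] P :=
        { toFun := β, map_add' := map_add β, map_smul' := fun a x => map_smulₛₗ β a x }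
      obtain ⟨f, hf⟩ := Module.projective_lifting_property β' α' hβ
      have hf' : ∀ x, β (f x) = α x := fun x => LinearMap.congr_fun hf x
      refine ⟨f, ?_, hf'⟩
      rw [← LinearMap.range_eq_top, eq_top_iff]
      refine Submodule.le_of_le_smul_of_le_jacobson_bot (I := RingHom.ker g) Module.Finite.fg_top hjac ?_
      intro y _
      obtain ⟨x, hx⟩ := hα (β y)
      rw [show y = f x + (y - f x) by abel, ← hkβ]
      exact Submodule.add_mem_sup ⟨x, rfl⟩ (by rw [LinearMap.mem_ker, map_sub, hf', hx, sub_self])
    obtain ⟨f, hfs, hf⟩ := key P₁ P₂ π₁ π₂ hs₁ hs₂ hk₂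
    obtain ⟨f', hf's, hf'⟩ := key P₂ P₁ π₂ π₁ hs₂ hs₁ hk₁
    have hinj : Function.Injective (f' ∘ₗ f) :=
      OrzechProperty.injective_of_surjective_endomorphism (f' ∘ₗ f) (hf's.comp hfs)
    exact ⟨LinearEquiv.ofBijective f ⟨fun a b h => hinj (congrArg f' h), hfs⟩, hf⟩

end Groth.Agent.S14867
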