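import Groth.Statements.S14868
import Mathlib.RingTheory.WittVector.Identities
import Mathlib.RingTheory.WittVector.Verschiebung
import Mathlib.Tactic.Ring
import Mathlib.Tactic.LinearCombination
import Mathlib.Tactic.FieldSimp
import Mathlib.Algebra.BigOperators.Ring.Finset

set_option autoImplicit false
universe u v w
open Disp

namespace Groth.Agent.S14868

/-- Let p be a prime, R a commutative ring, W = W(R) its ring of p-typical Witt vectors with Frobenius σ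
and Verschiebung V, and let (P_1, Q_1, F, V⁻¹) and (P_2, Q_2, F, V⁻¹) be 3n-displays over R. A
bilinear form of 3n-displays is a W-bilinear map ( , ) : P_1 × P_2 → W such that V((V⁻¹y_1, V⁻¹y_2))
= (y_1, y_2) for all y_1 ∈ Q_1 and y_2 ∈ Q_2. For such a form the following relations hold: (V⁻¹y_1,
F x_2) = σ((y_1, x_2)) for y_1 ∈ Q_1, x_2 ∈ P_2; (F x_1, F x_2) = p·σ((x_1, x_2)) for x_1 ∈ P_1, x_2
∈ P_2; (F x_1, V⁻¹y_2) = σ((x_1, y_2)) for x_1 ∈ P_1, y_2 ∈ Q_2; and (y_1, y_2) lies in the ideal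
I_R = V W for y_1 ∈ Q_1, y_2 ∈ Q_2. -/
theorem result (p : ℕ) [Fact p.Prime] (R : Type u) [CommRing R]
    (P₁ : Type v) [AddCommGroup P₁] [Module (WittVector p R) P₁]
    (P₂ : Type w) [AddCommGroup P₂] [Module (WittVector p R) P₂]
    (D₁ : W4c1extbt610.Display3n p R P₁) (D₂ : W4c1extbt610.Display3n p R P₂)
    (B : P₁ →ₗ[WittVector p R] P₂ →ₗ[WittVector p R] WittVector p R)
    (hB : ∀ (y₁ : D₁.Q) (y₂ : D₂.Q),
      WittVector.verschiebung (B (D₁.Vinv y₁) (D₂.Vinv y₂)) = B (y₁ : P₁) (y₂ : P₂)) :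
    (∀ (y₁ : D₁.Q) (x₂ : P₂), B (D₁.Vinv y₁) (D₂.F x₂) = WittVector.frobenius (B (y₁ : P₁) x₂)) ∧
      (∀ (x₁ : P₁) (x₂ : P₂),
        B (D₁.F x₁) (D₂.F x₂) = (p : WittVector p R) * WittVector.frobenius (B x₁ x₂)) ∧
      (∀ (x₁ : P₁) (y₂ : D₂.Q), B (D₁.F x₁) (D₂.Vinv y₂) = WittVector.frobenius (B x₁ (y₂ : P₂))) ∧
      ∀ (y₁ : D₁.Q) (y₂ : D₂.Q), B (y₁ : P₁) (y₂ : P₂) ∈ W4c1extbt610.IV p R := by
  have hinj : Function.Injective (WittVector.verschiebung : WittVector p R → WittVector p R) :=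
    WittVector.verschiebung_injective p R
  have hVF : ∀ z : WittVector p R,
      WittVector.verschiebung (1 : WittVector p R) * z = WittVector.verschiebung (WittVector.frobenius z) := by
    intro z
    have h := WittVector.verschiebung_mul_frobenius (1 : WittVector p R) z
    rw [one_mul] at h
    exact h.symm
  have hF1 : ∀ x : P₁, ∃ y : D₁.Q, (y : P₁) = WittVector.verschiebung (1 : WittVector p R) • x ∧
      D₁.Vinv y = D₁.F x := fun x => ⟨_, rfl, (D₁.Vinv_verschiebung_smul 1 x).trans (one_smul _ _)⟩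
  have hF2 : ∀ x : P₂, ∃ y : D₂.Q, (y : P₂) = WittVector.verschiebung (1 : WittVector p R) • x ∧
      D₂.Vinv y = D₂.F x := fun x => ⟨_, rfl, (D₂.Vinv_verschiebung_smul 1 x).trans (one_smul _ _)⟩
  have h1 : ∀ (y₁ : D₁.Q) (x₂ : P₂), B (D₁.Vinv y₁) (D₂.F x₂) = WittVector.frobenius (B (y₁ : P₁) x₂) := by
    intro y₁ x₂
    obtain ⟨y, hy, hy'⟩ := hF2 x₂
    apply hinj
    rw [← hy', hB, hy, map_smul, smul_eq_mul, hVF]
  have h3 : ∀ (x₁ : P₁) (y₂ : D₂.Q), B (D₁.F x₁) (D₂.Vinv y₂) = WittVector.frobenius (B x₁ (y₂ : P₂)) := by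
    intro x₁ y₂
    obtain ⟨y, hy, hy'⟩ := hF1 x₁
    apply hinj
    rw [← hy', hB, hy, map_smul, LinearMap.smul_apply, smul_eq_mul, hVF]
  refine ⟨h1, fun x₁ x₂ => ?_, h3, fun y₁ y₂ => ?_⟩
  · obtain ⟨y, hy, hy'⟩ := hF1 x₁
    rw [← hy', h1, hy, map_smul, LinearMap.smul_apply, smul_eq_mul, map_mul,
      WittVector.frobenius_verschiebung, one_mul]
  · rw [← hB]
    exact W4c1extbt610.verschiebung_mem_IV p R _

end Groth.Agent.S14868
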