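import Groth.Statements.S14869
import Mathlib.LinearAlgebra.TensorProduct.RightExactness
import Mathlib.Algebra.Module.Projective
import Mathlib.LinearAlgebra.TensorProduct.Quotient

set_option autoImplicit false
universe u v w
open CAlg

namespace Groth.Agent.S14869

open TensorProduct in
/-- Let S → R be a surjective homomorphism of commutative rings, let π : P_1 → P_2 be a surjective
homomorphism of S-modules with P_2 projective, and let π̄ : R ⊗_S P_1 → R ⊗_S P_2 be its base
change. Then every R-linear section σ̄ of π̄ lifts to a section of π: there is an S-linear map σ :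
P_2 → P_1 with π ∘ σ = id whose base change R ⊗_S σ is σ̄. -/
theorem result (S R : Type u) [CommRing S] [CommRing R] [Algebra S R]
    (hSR : Function.Surjective (algebraMap S R))
    (P₁ : Type v) [AddCommGroup P₁] [Module S P₁]
    (P₂ : Type w) [AddCommGroup P₂] [Module S P₂] [Module.Projective S P₂]
    (π : P₁ →ₗ[S] P₂) (hπ : Function.Surjective π)
    (σ' : R ⊗[S] P₂ →ₗ[R] R ⊗[S] P₁) (hσ' : (π.baseChange R).comp σ' = LinearMap.id) :
    ∃ σ : P₂ →ₗ[S] P₁, π.comp σ = LinearMap.id ∧ σ.baseChange R = σ' := by
  have hsurj : ∀ (P : Type v) [AddCommGroup P] [Module S P],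
      Function.Surjective (fun x : P => (1 : R) ⊗ₜ[S] x) := fun P _ _ z => by
    induction z using TensorProduct.induction_on with
    | zero => exact ⟨0, by simp⟩
    | tmul r x =>
      obtain ⟨s, rfl⟩ := hSR r
      exact ⟨s • x, by simp [Algebra.algebraMap_eq_smul_one, TensorProduct.smul_tmul]⟩
    | add a b ha hb =>
      obtain ⟨a, rfl⟩ := ha; obtain ⟨b, rfl⟩ := hb
      exact ⟨a + b, by simp [TensorProduct.tmul_add]⟩
  obtain ⟨τ, hτ⟩ := Module.projective_lifting_property (TensorProduct.mk S R P₁ 1)
    ((σ'.restrictScalars S).comp (TensorProduct.mk S R P₂ 1)) (hsurj P₁)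
  let J := (⊤ : Submodule S P₁).map (LinearMap.id : P₁ →ₗ[S] P₁)
  -- correct the lift so that it becomes a section
  let δ : P₂ →ₗ[S] P₂ := LinearMap.id - π ∘ₗ τ
  have hδ : ∀ x, (1 : R) ⊗ₜ[S] δ x = 0 := fun x => by
    have h1 := LinearMap.congr_fun hσ' ((1 : R) ⊗ₜ[S] x)
    have h2 := LinearMap.congr_fun hτ x
    simp only [LinearMap.comp_apply, TensorProduct.mk_apply, LinearMap.coe_restrictScalars] at h2
    simp only [LinearMap.comp_apply, LinearMap.id_apply] at h1
    rw [← h2, LinearMap.baseChange_tmul] at h1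
    simp [δ, TensorProduct.tmul_sub, h1]
  let K : Submodule S P₁ := LinearMap.ker (TensorProduct.mk S R P₁ 1)
  have hK : ∀ x, δ x ∈ Submodule.map π K := fun x => by
    have hex : RingHom.ker (algebraMap S R) • (⊤ : Submodule S P₂) ≤ Submodule.map π K := by
      refine Submodule.smul_le.mpr fun a ha y _ => ?_
      obtain ⟨z, rfl⟩ := hπ y
      refine ⟨a • z, ?_, map_smul π a z⟩
      change (1 : R) ⊗ₜ[S] (a • z) = 0
      rw [← TensorProduct.smul_tmul, ← Algebra.algebraMap_eq_smul_one, RingHom.mem_ker.mp ha,
        TensorProduct.zero_tmul]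
    apply hex
    have hexact : Function.Exact (Submodule.subtype (RingHom.ker (algebraMap S R)))
        (Algebra.linearMap S R) := fun a =>
      ⟨fun h => ⟨⟨a, h⟩, rfl⟩, by rintro ⟨b, rfl⟩; exact b.2⟩
    obtain ⟨w, hw⟩ := (rTensor_exact P₂ hexact hSR ((1 : S) ⊗ₜ[S] δ x)).mp (by simpa using hδ x)
    have hmem : ∀ w, TensorProduct.lid S P₂ (LinearMap.rTensor P₂
        (Submodule.subtype (RingHom.ker (algebraMap S R))) w) ∈
        RingHom.ker (algebraMap S R) • (⊤ : Submodule S P₂) := fun w => by
      induction w using TensorProduct.induction_on with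
      | zero => simp
      | tmul a y => simpa using Submodule.smul_mem_smul a.2 Submodule.mem_top
      | add a b ha hb => simpa [map_add] using add_mem ha hb
    simpa [hw] using hmem w
  obtain ⟨ε, hε⟩ := Module.projective_lifting_property ((π ∘ₗ K.subtype).rangeRestrict)
    (δ.codRestrict _ fun x => by rw [LinearMap.range_comp, Submodule.range_subtype]; exact hK x)
    (LinearMap.surjective_rangeRestrict _)
  refine ⟨τ + K.subtype ∘ₗ ε, LinearMap.ext fun x => ?_, LinearMap.ext fun z => ?_⟩
  · have := congrArg Subtype.val (LinearMap.congr_fun hε x)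
    simp only [LinearMap.comp_apply, LinearMap.codRestrict_apply] at this
    simp only [LinearMap.comp_apply, LinearMap.add_apply, map_add, LinearMap.id_apply]
    rw [show π (K.subtype (ε x)) = δ x from this]
    simp [δ]
  · obtain ⟨x, rfl⟩ : ∃ x : P₂, (1 : R) ⊗ₜ[S] x = z := by
      induction z using TensorProduct.induction_on with
      | zero => exact ⟨0, by simp⟩
      | tmul r x =>
        obtain ⟨s, rfl⟩ := hSR r
        exact ⟨s • x, by simp [Algebra.algebraMap_eq_smul_one, TensorProduct.smul_tmul]⟩
      | add a b ha hb =>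
        obtain ⟨a, rfl⟩ := ha; obtain ⟨b, rfl⟩ := hb
        exact ⟨a + b, by simp [TensorProduct.tmul_add]⟩
    have h2 := LinearMap.congr_fun hτ x
    simp only [LinearMap.comp_apply, TensorProduct.mk_apply, LinearMap.coe_restrictScalars] at h2
    have h3 : (1 : R) ⊗ₜ[S] (K.subtype (ε x)) = 0 := (ε x).2
    simp only [LinearMap.baseChange_tmul, LinearMap.add_apply, TensorProduct.tmul_add, h2,
      LinearMap.comp_apply, h3, add_zero]

end Groth.Agent.S14869
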