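import Groth.Statements.S1487
import Groth.Agent.L23.InfEtaleRing
import Groth.Agent.L23.FlatUnram
-- import your own Groth.Agent.* helpers here

set_option autoImplicit false
set_option backward.isDefEq.respectTransparency.types false
universe u
open FlatMor

namespace Groth.Agent.S1487

open AlgebraicGeometry CategoryTheory Limits in
/-- (1) ⇔ (3): a morphism f : X → Y is formally étale (unique lifting against first order thickenings of
affine schemes, rings in the same universe) if and only if for all affine opens U ⊆ f⁻¹(V) the ring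
map O_Y(V) → O_X(U) is formally étale. -/
theorem result {X Y : Scheme.{u}} (f : X ⟶ Y) :
    MoreMor.IsFormallyEtaleHom f ↔ ∀ (U : X.Opens) (V : Y.Opens) (hU : IsAffineOpen U) (hV : IsAffineOpen V) (hUV : U ≤ f ⁻¹ᵁ V),
      letI := (f.appLE V U hUV).hom.toAlgebra
      Algebra.FormallyEtale Γ(Y, V) Γ(X, U) := by
  constructor
  · intro hf U V hU hV e
    have h₁ : MoreMor.IsFormallyEtaleHom (Spec.map (f.appLE V U e) ≫ hV.fromSpec) := by
      rw [hV.SpecMap_appLE_fromSpec f hU e]
      exact Groth.L23.formallyEtaleHom_comp (Groth.L23.formallyEtaleHom_of_etale hU.fromSpec) hf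
    have h₂ := Groth.L23.formallyEtaleHom_of_comp (Groth.L23.formallyEtaleHom_of_etale hV.fromSpec) h₁
    algebraize [(f.appLE V U e).hom]
    exact Groth.L23.formallyEtale_algebra h₂
  · intro H
    haveI : FormallyUnramified f := by
      rw [HasRingHomProperty.iff_appLE (P := @FormallyUnramified)]
      intro V U e
      have := H U V U.2 V.2 e
      algebraize [(f.appLE V.1 U.1 e).hom]
      exact (inferInstance : Algebra.FormallyUnramified Γ(Y, V.1) Γ(X, U.1))
    refine Groth.L23.formallyEtaleHom_of_local f fun x => ?_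
    obtain ⟨_, ⟨V, hV, rfl⟩, hxV, -⟩ :=
      Y.isBasis_affineOpens.exists_subset_of_mem_open (Set.mem_univ (f x)) isOpen_univ
    obtain ⟨_, ⟨U, hU, rfl⟩, hx, hle⟩ :=
      X.isBasis_affineOpens.exists_subset_of_mem_open (a := x) (u := ↑(f ⁻¹ᵁ V)) hxV (f ⁻¹ᵁ V).2
    replace hV : IsAffineOpen V := hV
    replace hU : IsAffineOpen U := hU
    have e : U ≤ f ⁻¹ᵁ V := hle
    have := H U V hU hV e
    algebraize [(f.appLE V U e).hom]
    refine ⟨U, hx, ?_⟩
    have h3 : hU.isoSpec.hom ≫ hU.fromSpec = Scheme.Opens.ι U := by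
      rw [← IsAffineOpen.isoSpec_inv_ι, Iso.hom_inv_id_assoc]
    rw [← h3, Category.assoc, ← hV.SpecMap_appLE_fromSpec f hU e]
    refine Groth.L23.formallyEtaleHom_comp (Groth.L23.formallyEtaleHom_of_etale _)
      (Groth.L23.formallyEtaleHom_comp ?_ (Groth.L23.formallyEtaleHom_of_etale _))
    exact Groth.L23.formallyEtaleHom_of_algebra (R := Γ(Y, V)) (A := Γ(X, U))

end Groth.Agent.S1487
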