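import Groth.Statements.S14871
import Groth.Agent.L08.PLieBasic

set_option autoImplicit false
universe u v
open PLie

namespace Groth.Agent.S14871

/-- Let `L` be a finite-dimensional Lie algebra over a field of characteristic `p` equipped with a
`p`-mapping `φ`. Then the solvable radical of `L` is stable under `φ` (it is a `p`-subalgebra). -/
theorem result
    (k : Type u) [Field k] (p : ℕ) [Fact p.Prime] [CharP k p]
    (L : Type v) [LieRing L] [LieAlgebra k L] [Module.Finite k L]
    (φ : PLie.PMap k p L) (x : L) (hx : x ∈ LieAlgebra.radical k L) :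
    φ x ∈ LieAlgebra.radical k L := by
  have hp : 0 < p := (Fact.out : p.Prime).pos
  let J := Groth.L08.PLieBasic.enlarge φ hp (LieAlgebra.radical k L) hx
  suffices LieAlgebra.IsSolvable J from
    ((LieAlgebra.LieIdeal.solvable_iff_le_radical k L J).1 this) (Groth.L08.PLieBasic.map_mem_enlarge φ hp _ hx)
  obtain ⟨m, hm⟩ := LieAlgebra.IsSolvable.solvable k (LieAlgebra.radical k L)
  rw [LieIdeal.derivedSeries_eq_bot_iff] at hm
  refine LieAlgebra.IsSolvable.mk (R := k) (k := m + 1) ?_
  rw [LieIdeal.derivedSeries_eq_bot_iff, LieAlgebra.derivedSeriesOfIdeal_add]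
  refine le_bot_iff.1 ?_
  rw [← hm]
  refine LieAlgebra.derivedSeriesOfIdeal_mono ?_ m
  rw [LieAlgebra.derivedSeriesOfIdeal_succ, LieAlgebra.derivedSeriesOfIdeal_zero]
  exact Groth.L08.PLieBasic.lie_enlarge_le φ hp _ hx

end Groth.Agent.S14871
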