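import Groth.Statements.S14875
import Groth.Agent.L08.PLieBasic

set_option autoImplicit false
universe u v
open PLie

namespace Groth.Agent.S14875

/-- Let `L` be a finite-dimensional Lie algebra over a field of characteristic `p` equipped with a
`p`-mapping `φ`, whose Killing form is non-degenerate. Let `U` and `H` be Lie subalgebras of `L`
such that `H` is the normaliser of `U`, `U` is the set of elements of `H` that lie in the solvable
radical of `H` and are `p`-nilpotent, and the orthogonal of `U` for the Killing form is closed under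
the bracket. Then `U` is the orthogonal of `H` for the Killing form. (The published statement is for
the Lie algebra of a reductive group over a field of characteristic `p` with its canonical
`p`-structure; this row states it for any finite-dimensional Lie algebra with a `p`-mapping.) -/
theorem result
    (k : Type u) [Field k] (p : ℕ) [Fact p.Prime] [CharP k p]
    (L : Type v) [LieRing L] [LieAlgebra k L] [Module.Finite k L]
    (φ : PLie.PMap k p L) (hκ : (killingForm k L).Nondegenerate)
    (U H : LieSubalgebra k L) (hH : H = U.normalizer)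
    (hU : ∀ x : L, x ∈ U ↔ ∃ hx : x ∈ H, (⟨x, hx⟩ : ↥H) ∈ LieAlgebra.radical k ↥H ∧ PLie.IsPNilpotent φ x)
    (hperp : ∀ a b : L, (∀ y ∈ U, killingForm k L a y = 0) → (∀ y ∈ U, killingForm k L b y = 0) →
      ∀ y ∈ U, killingForm k L ⁅a, b⁆ y = 0) :
    ∀ x : L, x ∈ U ↔ ∀ h ∈ H, killingForm k L h x = 0 := by
  have hUH : ∀ x ∈ U, x ∈ H := fun x hx => ((hU x).1 hx).1
  haveI : LieModule.IsNilpotent U L := by
    rw [LieModule.isNilpotent_iff_forall (R := k)]
    rintro ⟨x, hx⟩
    obtain ⟨_, _, h⟩ := (hU x).1 hx
    exact Groth.L08.PLieBasic.isNilpotent_ad_of_pNilpotent φ h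
  have hstab : ∀ (i : ℕ), ∀ h ∈ H, ∀ m ∈ LieModule.lowerCentralSeries k U L i,
      ⁅h, m⁆ ∈ LieModule.lowerCentralSeries k U L i := by
    intro i
    induction i with
    | zero => simp
    | succ i ih =>
      intro h hh m hm
      rw [LieModule.lowerCentralSeries_succ, ← LieSubmodule.mem_toSubmodule,
        LieSubmodule.lieIdeal_oper_eq_linear_span'] at hm ⊢
      induction hm using Submodule.span_induction with
      | mem m hm =>
        obtain ⟨u, -, n, hn, rfl⟩ := hm
        have hu : ⁅h, (u : L)⁆ ∈ U := by
          subst hH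
          exact (LieSubalgebra.mem_normalizer_iff _ _).1 hh _ u.2
        rw [LieSubalgebra.coe_bracket_of_module, leibniz_lie]
        exact add_mem (Submodule.subset_span ⟨⟨_, hu⟩, LieSubmodule.mem_top _, n, hn, rfl⟩)
          (Submodule.subset_span ⟨u, LieSubmodule.mem_top _, _, ih h hh n hn, rfl⟩)
      | zero => simp
      | add a b _ _ ha hb => rw [lie_add]; exact add_mem ha hb
      | smul c a _ ha => rw [lie_smul]; exact Submodule.smul_mem _ c ha
  obtain ⟨N, hN⟩ := LieModule.IsNilpotent.nilpotent k U L
  have hle : ∀ h ∈ H, ∀ x ∈ U, killingForm k L h x = 0 := by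
    intro h hh x hx
    rw [killingForm, LieModule.traceForm_apply_apply]
    refine IsNilpotent.eq_zero (LinearMap.isNilpotent_trace_of_isNilpotent ⟨N, LinearMap.ext fun y => ?_⟩)
    have key : ∀ j, ((LieModule.toEnd k L L h ∘ₗ LieModule.toEnd k L L x : Module.End k L) ^ j) y ∈
        LieModule.lowerCentralSeries k U L j := by
      intro j
      induction j with
      | zero => simp
      | succ j ih =>
        rw [pow_succ', Module.End.mul_apply]
        refine hstab (j + 1) h hh _ ?_
        rw [LieModule.lowerCentralSeries_succ]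
        exact LieSubmodule.lie_mem_lie (LieSubmodule.mem_top (⟨x, hx⟩ : U)) ih
    simpa [hN] using key N
  have hrefl : LinearMap.IsRefl (killingForm k L) := (LieModule.traceForm_isSymm k L L).isRefl
  have hK : ∀ a : L, (∀ y ∈ U, killingForm k L a y = 0) ↔ a ∈ H := by
    refine fun a => ⟨fun ha => ?_, fun ha y hy => hle a ha y hy⟩
    rw [hH, LieSubalgebra.mem_normalizer_iff]
    intro u hu
    have hmem : ⁅a, u⁆ ∈ (killingForm k L).orthogonal ((killingForm k L).orthogonal U.toSubmodule) := by
      intro b hb
      have hb' : ∀ y ∈ U, killingForm k L b y = 0 := fun y hy => hrefl y b (hb y hy)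
      have h2 := hperp b a hb' ha u hu
      rw [killingForm, LieModule.traceForm_apply_lie_apply] at h2
      exact h2
    rwa [LinearMap.BilinForm.orthogonal_orthogonal hκ hrefl] at hmem
  intro x
  refine ⟨fun hx h hh => hle h hh x hx, fun hx => ?_⟩
  have hmem : x ∈ (killingForm k L).orthogonal ((killingForm k L).orthogonal U.toSubmodule) := by
    intro b hb
    exact hx b ((hK b).1 fun y hy => hrefl y b (hb y hy))
  rwa [LinearMap.BilinForm.orthogonal_orthogonal hκ hrefl] at hmem

end Groth.Agent.S14875
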