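import Groth.Statements.S14876

set_option autoImplicit false
universe u
open CategoryTheory MonoidalCategory CartesianMonoidalCategory MonObj GrpObj AlgebraicGeometry CategoryTheory.Limits
open AlgGrp

namespace Groth.Agent.S14876

/-- Over an algebraically closed field k of characteristic zero, let G be an algebraic group (a smooth
k-group scheme of finite type) and X a variety (a reduced separated k-scheme of finite type). Let Φ
be an endomorphism of X × G over X (it commutes with the first projection) which is equivariant for
the action of G on X × G by right multiplication on the second factor. Then there is a k-morphism φ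
: X → G with Φ(x, g) = (x, φ(x)·g) for all points x of X and g of G with values in any k-scheme.
(The published statement concerns automorphisms of the trivial principal bundle; this row takes any
equivariant endomorphism over X, invertibility playing no role.) -/
theorem result (k : Type u) [Field k] [IsAlgClosed k] [CharZero k]
    (G X : Over (Spec (CommRingCat.of k))) [GrpObj G] [Smooth G.hom] [QuasiCompact G.hom]
    [LocallyOfFiniteType X.hom] [QuasiCompact X.hom] [IsSeparated X.hom] [IsReduced X.left]
    (Φ : X ⊗ G ⟶ X ⊗ G) (h₁ : Φ ≫ fst X G = fst X G)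
    (h₂ : ∀ (T : Over (Spec (CommRingCat.of k))) (x : T ⟶ X) (g h : T ⟶ G),
      lift x (g * h) ≫ Φ ≫ snd X G = (lift x g ≫ Φ ≫ snd X G) * h) :
    ∃ φ : X ⟶ G, ∀ (T : Over (Spec (CommRingCat.of k))) (x : T ⟶ X) (g : T ⟶ G),
      lift x g ≫ Φ = lift x ((x ≫ φ) * g) := by
  refine ⟨lift (𝟙 X) (1 : X ⟶ G) ≫ Φ ≫ snd X G, fun T x g => ?_⟩
  refine CartesianMonoidalCategory.hom_ext _ _ ?_ ?_
  · rw [Category.assoc, h₁, lift_fst, lift_fst]
  · rw [lift_snd, Category.assoc]
    have h3 := h₂ T x 1 g
    rw [_root_.one_mul] at h3
    rw [h3]
    congr 1
    simp only [← Category.assoc]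
    congr 1
    simp
end Groth.Agent.S14876
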