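import Groth.Statements.S14877
import Groth.Agent.L19.AlgGrpBasic.Isotrivial

set_option autoImplicit false
set_option backward.isDefEq.respectTransparency.types false
set_option backward.isDefEq.respectTransparency false
set_option linter.style.haveILetI false
universe u
open CategoryTheory MonoidalCategory CartesianMonoidalCategory MonObj GrpObj AlgebraicGeometry CategoryTheory.Limits
open AlgGrp

namespace Groth.Agent.S14877

/-- Over an algebraically closed field k of characteristic zero, let G be an algebraic group (a smooth
k-group scheme of finite type) acting on a variety P (reduced, separated, of finite type over k),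
and let π : P → X be a geometric quotient by this action onto a variety X: π is invariant,
surjective and open, the map (g, p) ↦ (g·p, p) from G × P to P ×_X P is surjective on points, and
for every open U of X the sections of O_X over U are exactly the invariant sections of O_P over
π⁻¹U. Suppose the bundle is locally isotrivial: every point of X has an open neighbourhood U with a
finite étale surjective morphism U' → U and a morphism s : U' → P lifting U' → U → X such that (u,
g) ↦ g·s(u) exhibits U' × G as the fibre product U' ×_X P. Then the bundle is principal: (g, p) ↦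
(g·p, p) is an isomorphism of G × P onto P ×_X P, and π is flat. (The published definition of an
étale covering asks only for a finite étale morphism; this row also requires it to be surjective,
since an empty cover would make every bundle isotrivial.) -/
theorem result (k : Type u) [Field k] [IsAlgClosed k] [CharZero k]
    (G P X : Over (Spec (CommRingCat.of k))) [GrpObj G] [Smooth G.hom] [QuasiCompact G.hom]
    [LocallyOfFiniteType P.hom] [QuasiCompact P.hom] [IsSeparated P.hom] [IsReduced P.left]
    [LocallyOfFiniteType X.hom] [QuasiCompact X.hom] [IsSeparated X.hom] [IsReduced X.left]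
    (a : AlgGrp.Action G P) (π : P ⟶ X) (hinv : GIT.IsInvariant a π)
    (hq : Function.Surjective π.left.base ∧ IsOpenMap π.left.base ∧
      Function.Surjective (GIT.PsiY a π hinv).base ∧
      ∀ U : X.left.Opens, Function.Injective (π.left.app U) ∧
        Set.range (π.left.app U) = {f | GIT.IsInvSection a π U f})
    (hli : ∀ x : ↥X.left, ∃ (U : X.left.Opens) (_ : x ∈ U) (U' : Scheme.{u}) (φ : U' ⟶ ↑U)
      (_ : IsFinite φ) (_ : Etale φ) (_ : Surjective φ) (s : Over.mk (φ ≫ U.ι ≫ X.hom) ⟶ P),
      s.left ≫ π.left = φ ≫ U.ι ∧
      IsPullback (fst (Over.mk (φ ≫ U.ι ≫ X.hom)) G).left (lift (snd (Over.mk (φ ≫ U.ι ≫ X.hom)) G) (fst (Over.mk (φ ≫ U.ι ≫ X.hom)) G ≫ s) ≫ a.act).left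
        (φ ≫ U.ι) π.left) :
    IsIso (GIT.PsiY a π hinv) ∧ Flat π.left := by
  have := hq
  choose U hU U' φ hfin het hsurj s hs hpb using hli
  have key := fun x => Groth.L19.AlgGrpBasic.Isotrivial.restrict_psiY_and_restrict a π
    (Over.homMk (φ x ≫ (U x).ι) (Category.assoc _ _ _) : Over.mk (φ x ≫ (U x).ι ≫ X.hom) ⟶ X)
    (s x) (hpb x) hinv (U := U x) (φ x) rfl
  have htop : ⨆ x, U x = ⊤ :=
    TopologicalSpace.Opens.ext (Set.eq_univ_of_forall fun x => TopologicalSpace.Opens.mem_iSup.mpr ⟨x, hU x⟩)
  refine ⟨(IsZariskiLocalAtTarget.iff_of_iSup_eq_top (P := MorphismProperty.isomorphisms Scheme.{u})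
    (fun x => (pullback.snd π.left π.left ≫ π.left) ⁻¹ᵁ U x) ?_).mpr fun x => (key x).1,
    (IsZariskiLocalAtTarget.iff_of_iSup_eq_top (P := @Flat) _ htop).mpr fun x => (key x).2⟩
  exact TopologicalSpace.Opens.ext (Set.eq_univ_of_forall fun z =>
    TopologicalSpace.Opens.mem_iSup.mpr ⟨(pullback.snd π.left π.left ≫ π.left) z, hU _⟩)

end Groth.Agent.S14877
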