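import Groth.Statements.S14879
import Mathlib.LinearAlgebra.Matrix.Determinant.Basic
import Mathlib.Data.Finset.Sort
import Mathlib.GroupTheory.Perm.Sign
import Mathlib.Algebra.BigOperators.Fin

set_option autoImplicit false
universe u
open Finset
open AlgGrp

namespace Groth.Agent.S14879

open Equiv Equiv.Perm Finset in
theorem sign_eq_signAux {n : ℕ} (σ : Equiv.Perm (Fin n)) : Equiv.Perm.sign σ = Equiv.Perm.signAux σ := by
  induction σ using Equiv.Perm.swap_induction_on with
  | one => rw [map_one, signAux_one]
  | swap_mul f x y hxy ih => rw [map_mul, signAux_mul, sign_swap hxy, signAux_swap hxy, ih]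

theorem sum_perm_det_mul_det {R : Type u} [CommRing R] (p r : ℕ) (M : Matrix (Fin (p + r)) (Fin (p + r)) R)
    (a : Fin p → Fin (p + r)) (b : Fin r → Fin (p + r)) :
    ∑ π : Equiv.Perm (Fin (p + r)), (((Equiv.Perm.sign π : ℤˣ) : ℤ) : R) *
      ((M.submatrix id π).submatrix a (Fin.castAdd r)).det *
      ((M.submatrix id π).submatrix b (Fin.natAdd p)).det =
    ((p.factorial * r.factorial : ℕ) : R) * (M.submatrix (Fin.append a b) id).det := by
  classical
  let N := M.submatrix (Fin.append a b) id
  have key : ∀ (τ : Equiv.Perm (Fin p)) (ρ : Equiv.Perm (Fin r)),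
      ∑ π : Equiv.Perm (Fin (p + r)), (((Equiv.Perm.sign π : ℤˣ) : ℤ) : R) *
        (((Equiv.Perm.sign τ : ℤˣ) : ℤ) : R) * (∏ i, M (a (τ i)) (π (Fin.castAdd r i))) *
        ((((Equiv.Perm.sign ρ : ℤˣ) : ℤ) : R) * ∏ i, M (b (ρ i)) (π (Fin.natAdd p i))) = N.det := by
    intro τ ρ
    let ω : Equiv.Perm (Fin (p + r)) := (finSumFinEquiv.symm.trans (Equiv.sumCongr τ ρ)).trans finSumFinEquiv
    have hω : Equiv.Perm.sign ω = Equiv.Perm.sign τ * Equiv.Perm.sign ρ := by
      rw [Equiv.Perm.sign_symm_trans_trans, Equiv.Perm.sign_sumCongr]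
    have h := Matrix.det_permute ω N
    rw [← Matrix.det_transpose (N.submatrix ω id), Matrix.det_apply'] at h
    have h' : ∑ π : Equiv.Perm (Fin (p + r)), (((Equiv.Perm.sign π : ℤˣ) : ℤ) : R) *
        ((∏ i, M (a (τ i)) (π (Fin.castAdd r i))) * ∏ i, M (b (ρ i)) (π (Fin.natAdd p i))) =
        (((Equiv.Perm.sign ω : ℤˣ) : ℤ) : R) * N.det := by
      rw [← h]
      refine Finset.sum_congr rfl fun π _ => ?_
      rw [Fin.prod_univ_add]
      simp [N, ω]
    have hsq : (((Equiv.Perm.sign τ : ℤˣ) : ℤ) : R) * (((Equiv.Perm.sign ρ : ℤˣ) : ℤ) : R) *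
        (((Equiv.Perm.sign ω : ℤˣ) : ℤ) : R) = 1 := by
      rw [hω, ← Int.cast_mul, ← Int.cast_mul, ← Units.val_mul, ← Units.val_mul, Int.units_mul_self,
        Units.val_one, Int.cast_one]
    rw [← one_mul N.det, ← hsq, mul_assoc _ _ N.det, ← h', Finset.mul_sum]
    refine Finset.sum_congr rfl fun π _ => ?_
    ring
  simp only [Matrix.det_apply' (Matrix.submatrix (Matrix.submatrix M id _) _ _), Matrix.submatrix_apply, id,
    Finset.mul_sum, Finset.sum_mul]
  rw [Finset.sum_comm, Finset.sum_congr rfl fun ρ _ => Finset.sum_comm]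
  simp only [← mul_assoc] at key ⊢
  simp only [key, Finset.sum_const, Finset.card_univ, Fintype.card_perm, Fintype.card_fin, smul_smul]
  rw [nsmul_eq_mul, mul_comm r.factorial]


/-- Let k be a field of characteristic zero, n = p + r with p, r ≥ 1, M an n × n matrix over k, A a set
of p row indices and B a set of r row indices, both listed increasingly. For a permutation π of the
indices, with permutation matrix P_π, let Y_A(M·P_π) be the minor of M·P_π on the rows A and the
first p columns, and Z_B(M·P_π) the minor on the rows B and the last r columns. Then the sum over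
all π of sign(π)·Y_A(M·P_π)·Z_B(M·P_π) equals p!·r!·(−1)^N·det M when B is the complement of A,
where N is the number of pairs (a, b) with a in A, b outside A and b < a, and equals 0 otherwise.
Taking det M = 1 this says that the pairing (f, h) ↦ Σ_π sign(π) f(π) h(π) between the spans of the
left p-minors and of the right r-minors is invariant under left translation by matrices of
determinant one and pairs Y_A with the signed complementary minor to p!·r!. (The published statement
asserts that the two families of minors are dual bases for this pairing, that is, the value 1 in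
place of p!·r!; the p!·r! permutations preserving the two column blocks each contribute the same
signed term, so this row carries that factor, which is 1 only for n = 2.) -/
theorem result (k : Type u) [Field k] [CharZero k]
    (p r : ℕ) (hp : 1 ≤ p) (hr : 1 ≤ r) (M : Matrix (Fin (p + r)) (Fin (p + r)) k)
    (A : Finset (Fin (p + r))) (hA : A.card = p) (B : Finset (Fin (p + r))) (hB : B.card = r) :
    ∑ π : Equiv.Perm (Fin (p + r)), (((Equiv.Perm.sign π : ℤˣ) : ℤ) : k) *
      ((M * π.permMatrix k).submatrix (A.orderEmbOfFin hA) (Fin.castAdd r)).det *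
      ((M * π.permMatrix k).submatrix (B.orderEmbOfFin hB) (Fin.natAdd p)).det =
    if B = Aᶜ then ((p.factorial * r.factorial : ℕ) : k) *
      (-1 : k) ^ ((A ×ˢ Aᶜ).filter (fun ab => ab.2 < ab.1)).card * M.det else 0 := by
  classical
  have hsum := sum_perm_det_mul_det p r M (A.orderEmbOfFin hA) (B.orderEmbOfFin hB)
  rw [← Equiv.sum_comp (Equiv.inv (Equiv.Perm (Fin (p + r))))]
  refine (Finset.sum_congr rfl fun π _ => ?_).trans (hsum.trans ?_)
  · simp only [Equiv.inv_apply, Equiv.Perm.permMatrix, PEquiv.mul_toMatrix_toPEquiv]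
    simp [Equiv.Perm.inv_def, Matrix.submatrix_submatrix]
  set f := Fin.append (A.orderEmbOfFin hA : Fin p → Fin (p + r)) (B.orderEmbOfFin hB) with hf
  split_ifs with hBA
  · subst hBA
    have hinj : Function.Injective f := by
      intro x y hxy
      refine Fin.addCases (fun i => ?_) (fun i => ?_) x hxy <;> refine Fin.addCases (fun j => ?_) (fun j => ?_) y <;>
        intro hxy <;> simp only [hf, Fin.append_left, Fin.append_right] at hxy
      · rw [(A.orderEmbOfFin hA).injective hxy]
      · exact absurd (Finset.orderEmbOfFin_mem A hA i) (by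
          rw [hxy]; exact Finset.mem_compl.1 (Finset.orderEmbOfFin_mem _ hB j))
      · exact absurd (Finset.orderEmbOfFin_mem A hA j) (by
          rw [← hxy]; exact Finset.mem_compl.1 (Finset.orderEmbOfFin_mem _ hB i))
      · rw [((Aᶜ).orderEmbOfFin hB).injective hxy]
    let σ : Equiv.Perm (Fin (p + r)) := Equiv.ofBijective f (Finite.injective_iff_bijective.1 hinj)
    have hσl : ∀ i, σ (Fin.castAdd r i) = A.orderEmbOfFin hA i := fun i => Fin.append_left _ _ i
    have hσr : ∀ i, σ (Fin.natAdd p i) = (Aᶜ).orderEmbOfFin hB i := fun i => Fin.append_right _ _ i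
    have hsign : Equiv.Perm.sign σ = (-1) ^ ((A ×ˢ Aᶜ).filter (fun ab => ab.2 < ab.1)).card := by
      rw [sign_eq_signAux, Equiv.Perm.signAux, Finset.prod_ite, Finset.prod_const, Finset.prod_const_one, mul_one]
      congr 1
      refine Finset.card_bij (fun x _ => (σ x.2, σ x.1)) ?_ ?_ ?_
      · rintro ⟨x, y⟩ hxy
        simp only [Finset.mem_filter, Equiv.Perm.mem_finPairsLT] at hxy
        obtain ⟨hlt, hle⟩ := hxy
        revert hlt hle
        simp only [Finset.mem_filter, Finset.mem_product]
        refine Fin.addCases (fun i => ?_) (fun i => ?_) x <;> refine Fin.addCases (fun j => ?_) (fun j => ?_) y <;>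
          intro hlt hle <;> simp only [hσl, hσr] at hle ⊢
        · exact absurd ((A.orderEmbOfFin hA).le_iff_le.1 hle) (not_le.2 (Fin.lt_def.2 (by
            have := Fin.lt_def.1 hlt
            simp only [Fin.val_castAdd, Fin.val_natAdd] at this
            omega)))
        · exact absurd hlt (by simp [Fin.lt_def]; omega)
        · refine ⟨⟨Finset.orderEmbOfFin_mem _ _ _, Finset.orderEmbOfFin_mem _ _ _⟩, lt_of_le_of_ne hle ?_⟩
          intro h
          exact Finset.mem_compl.1 (Finset.orderEmbOfFin_mem _ hB i) (h ▸ Finset.orderEmbOfFin_mem A hA j)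
        · exact absurd (((Aᶜ).orderEmbOfFin hB).le_iff_le.1 hle) (not_le.2 (Fin.lt_def.2 (by
            have := Fin.lt_def.1 hlt
            simp only [Fin.val_castAdd, Fin.val_natAdd] at this
            omega)))
      · rintro ⟨x, y⟩ _ ⟨x', y'⟩ _ h
        simp only [Prod.mk.injEq, EmbeddingLike.apply_eq_iff_eq] at h
        obtain ⟨rfl, rfl⟩ := h
        rfl
      · rintro ⟨u, v⟩ huv
        simp only [Finset.mem_filter, Finset.mem_product] at huv
        obtain ⟨⟨hu, hv⟩, hvu⟩ := huv
        obtain ⟨j, rfl⟩ : ∃ j, A.orderEmbOfFin hA j = u := by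
          rw [← Finset.mem_coe, ← Finset.range_orderEmbOfFin A hA] at hu
          exact hu
        obtain ⟨i, rfl⟩ : ∃ i, (Aᶜ).orderEmbOfFin hB i = v := by
          rw [← Finset.mem_coe, ← Finset.range_orderEmbOfFin _ hB] at hv
          exact hv
        exact ⟨⟨Fin.natAdd p i, Fin.castAdd r j⟩, by
          simp only [Finset.mem_filter, Equiv.Perm.mem_finPairsLT, hσl, hσr]
          exact ⟨Fin.lt_def.2 (by simp; omega), hvu.le⟩, by simp [hσl, hσr]⟩
    rw [show M.submatrix f id = M.submatrix σ id from rfl, Matrix.det_permute, hsign]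
    push_cast
    ring
  · obtain ⟨x, hxA, hxB⟩ : ∃ x, x ∈ A ∧ x ∈ B := by
      by_contra hne
      simp only [not_exists, not_and] at hne
      refine hBA (Finset.eq_of_subset_of_card_le (fun x hx => Finset.mem_compl.2 fun hA' => hne x hA' hx) ?_)
      rw [Finset.card_compl, Fintype.card_fin, hA, hB]
      omega
    rw [← Finset.mem_coe, ← Finset.range_orderEmbOfFin A hA] at hxA
    rw [← Finset.mem_coe, ← Finset.range_orderEmbOfFin B hB] at hxB
    obtain ⟨i, hi⟩ := hxA
    obtain ⟨j, hj⟩ := hxB
    rw [Matrix.det_zero_of_row_eq (i := Fin.castAdd r i) (j := Fin.natAdd p j)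
      (by simp [Fin.ext_iff]; omega) (by funext c; simp [hf, hi, hj]), mul_zero]

end Groth.Agent.S14879
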