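import Groth.Statements.S14885
import Mathlib.Geometry.RingedSpace.SheafedSpace

set_option autoImplicit false
universe u v
open CategoryTheory TopologicalSpace Opposite AlgebraicGeometry Topology
open AlgGrp

namespace Groth.Agent.S14885

open CategoryTheory TopologicalSpace Opposite AlgebraicGeometry in
lemma lift_ring {A B C : CommRingCat.{u}} (i : B ⟶ C) (hi : Function.Injective i) (ψ : A ⟶ C)
    (h : ∀ a, ψ a ∈ Set.range i) : ∃ χ : A ⟶ B, χ ≫ i = ψ := by
  choose χ hχ using h
  refine ⟨CommRingCat.ofHom
    { toFun := χ, map_one' := hi (by rw [hχ, map_one, map_one])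
      map_mul' := fun a b => hi (by rw [hχ, map_mul, map_mul, hχ, hχ])
      map_zero' := hi (by rw [hχ, map_zero, map_zero])
      map_add' := fun a b => hi (by rw [hχ, map_add, map_add, hχ, hχ]) }, ?_⟩
  ext a
  exact hχ a


/-- Let a group Γ act on a ringed space X (a topological space with a sheaf of rings) by automorphisms
τ_g, and let π : X → Y be a Γ-invariant morphism of ringed spaces which exhibits Y as the quotient
ringed space X/Γ: the underlying continuous map of π is a topological quotient map whose fibres are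
exactly the Γ-orbits, and for every open subset V of Y the ring map O_Y(V) → O_X(π⁻¹V) is injective
with image the sections s satisfying τ_g^♯(s) = s for all g. Then (Y, π) is a categorical quotient
for the action in the category of ringed spaces: every morphism of ringed spaces f : X → Z with f ∘
τ_g = f for all g (as morphisms of ringed spaces) factors uniquely as f = f̄ ∘ π. -/
theorem result (X Y : SheafedSpace CommRingCat.{u}) (Γ : Type v) [Group Γ]
    (τ : Γ →* Aut X) (π : X ⟶ Y) (hτ : ∀ g : Γ, (τ g).hom ≫ π = π)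
    (h1 : IsQuotientMap π.hom.base)
    (h2 : ∀ x x' : X, π.hom.base x = π.hom.base x' ↔ ∃ g : Γ, (τ g).hom.hom.base x = x')
    (h3 : ∀ V : Opens Y, Function.Injective (π.hom.c.app (op V)) ∧
      Set.range (π.hom.c.app (op V)) =
        {s | ∀ g : Γ, (τ g).hom.hom.c.app (op ((Opens.map π.hom.base).obj V)) s =
          X.presheaf.map (eqToHom (congrArg (fun f : X ⟶ Y => op ((Opens.map f.hom.base).obj V)) (hτ g).symm)) s})
    (Z : SheafedSpace CommRingCat.{u}) (f : X ⟶ Z) (hf : ∀ g : Γ, (τ g).hom ≫ f = f) :
    ∃! fbar : Y ⟶ Z, π ≫ fbar = f := by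
  have hs : Function.Surjective π.hom.base := h1.surjective
  let s := Function.surjInv hs
  have hsec : ∀ y, π.hom.base (s y) = y := Function.surjInv_eq hs
  have hfib : ∀ x, f.hom.base (s (π.hom.base x)) = f.hom.base x := by
    intro x
    obtain ⟨g, hg⟩ := (h2 _ _).1 (hsec (π.hom.base x))
    conv_rhs => rw [← hg]
    exact (congrArg (fun F : X ⟶ Z => F.hom.base (s (π.hom.base x))) (hf g)).symm
  let b : (Y : TopCat) ⟶ (Z : TopCat) := TopCat.ofHom ⟨fun y => f.hom.base (s y),
    h1.continuous_iff.2 (f.hom.base.hom.continuous.congr fun x => (hfib x).symm)⟩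
  have hb : π.hom.base ≫ b = f.hom.base := by ext x; exact hfib x
  have eU : ∀ U : (Opens (Z : TopCat))ᵒᵖ, (Opens.map f.hom.base).obj U.unop =
      (Opens.map π.hom.base).obj ((Opens.map b).obj U.unop) := by
    intro U; rw [← hb]; rfl
  let ψ : ∀ U : (Opens (Z : TopCat))ᵒᵖ, Z.presheaf.obj U ⟶
      X.presheaf.obj (op ((Opens.map π.hom.base).obj ((Opens.map b).obj U.unop))) := fun U =>
    f.hom.c.app U ≫ X.presheaf.map (eqToHom (congrArg op (eU U)))
  have inv : ∀ (U : (Opens (Z : TopCat))ᵒᵖ) (g : Γ), ψ U ≫ (τ g).hom.hom.c.app (op ((Opens.map π.hom.base).obj ((Opens.map b).obj U.unop))) =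
      ψ U ≫ X.presheaf.map (eqToHom (congrArg (fun F : X ⟶ Y => op ((Opens.map F.hom.base).obj ((Opens.map b).obj U.unop))) (hτ g).symm)) := by
    intro U g
    have h := SheafedSpace.congr_hom_app (hf g) U
    rw [SheafedSpace.comp_hom_c_app] at h
    simp only [ψ, Category.assoc]
    rw [NatTrans.naturality]
    erw [reassoc_of% h]
    simp only [TopCat.Presheaf.pushforward_obj_map, ← Functor.map_comp]
    erw [Category.assoc, ← Functor.map_comp]
    rfl
  have ex : ∀ U : (Opens (Z : TopCat))ᵒᵖ, ∃ χ : Z.presheaf.obj U ⟶ Y.presheaf.obj (op ((Opens.map b).obj U.unop)),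
      χ ≫ π.hom.c.app (op ((Opens.map b).obj U.unop)) = ψ U := by
    intro U
    refine lift_ring _ (h3 _).1 _ fun a => ?_
    rw [(h3 _).2]
    intro g
    exact ConcreteCategory.congr_hom (inv U g) a
  choose χ hχ using ex
  have cancel : ∀ (V : Opens Y) {A : CommRingCat.{u}} (u v : A ⟶ Y.presheaf.obj (op V)),
      u ≫ π.hom.c.app (op V) = v ≫ π.hom.c.app (op V) → u = v := by
    intro V A u v huv
    ext a
    exact (h3 V).1 (ConcreteCategory.congr_hom huv a)
  let c : Z.presheaf ⟶ b _* Y.presheaf :=
    { app := χ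
      naturality := fun U V i => by
        apply cancel
        simp only [Category.assoc, hχ, TopCat.Presheaf.pushforward_obj_map, ψ]
        rw [NatTrans.naturality, reassoc_of% hχ U]
        simp only [ψ, Category.assoc]
        rw [f.hom.c.naturality_assoc]
        simp only [TopCat.Presheaf.pushforward_obj_map, ← Functor.map_comp]
        congr 1 }
  refine ⟨⟨⟨b, c⟩⟩, ?_, ?_⟩
  · refine SheafedSpace.ext _ _ hb ?_
    ext1 U
    change (χ (op U) ≫ π.hom.c.app (op ((Opens.map b).obj U))) ≫ X.presheaf.map _ = _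
    rw [hχ]
    simp only [ψ, Category.assoc]
    erw [← Functor.map_comp, Subsingleton.elim (_ ≫ _) (𝟙 _), CategoryTheory.Functor.map_id, Category.comp_id]
  · intro F hF
    have hFb : F.hom.base = b := by
      ext y
      obtain ⟨x, rfl⟩ := hs y
      exact (congrArg (fun G : X ⟶ Z => G.hom.base x) hF).trans (hfib x).symm
    obtain ⟨⟨Fb, Fc⟩⟩ := F
    simp only at hFb
    subst hFb
    congr 2
    ext1 U
    apply cancel
    change _ = χ (op U) ≫ π.hom.c.app _
    rw [hχ]
    have := SheafedSpace.congr_hom_app hF (op U)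
    rw [SheafedSpace.comp_hom_c_app] at this
    exact this
end Groth.Agent.S14885
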