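import Groth.Statements.S14888
import Groth.Agent.L01.FinSpecLoc
import Mathlib.RingTheory.QuasiFinite.Basic
import Mathlib.AlgebraicGeometry.Morphisms.QuasiFinite
import Mathlib.AlgebraicGeometry.Stalk
import Mathlib.AlgebraicGeometry.Morphisms.FiniteType

set_option autoImplicit false
universe u
open CategoryTheory AlgebraicGeometry
open CAlg

namespace Groth.Agent.S14888

/-- Let R be a valuation ring whose spectrum is finite (finite height) and let f : X → Spec R be locally
of finite type with locally quasi-finite fibres. For every x ∈ X the canonical morphism Spec O_{X,x}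
→ X is an open immersion, and the composite Spec O_{X,x} → Spec R is locally of finite type; in
particular O_{X,x} is finitely generated as an R-algebra. (The published statement takes X
quasi-finite over Spec R; the assertions are local at x, so this row assumes only that X is locally
of finite type with discrete fibres.) -/
theorem result
    (R : Type u) [CommRing R] [IsDomain R] [ValuationRing R] [Finite (PrimeSpectrum R)]
    {X : Scheme.{u}} (f : X ⟶ Spec (CommRingCat.of R)) [LocallyOfFiniteType f] [LocallyQuasiFinite f]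
    (x : X) :
    IsOpenImmersion (X.fromSpecStalk x) ∧ LocallyOfFiniteType (X.fromSpecStalk x ≫ f) := by
  obtain ⟨U, hU, hxU, -⟩ := exists_isAffineOpen_mem_and_subset (X := X) (x := x) (U := ⊤) trivial
  have hq : (f.appLE ⊤ U le_top).hom.QuasiFinite :=
    HasRingHomProperty.appLE (P := @LocallyQuasiFinite) f inferInstance ⟨⊤, isAffineOpen_top _⟩ ⟨U, hU⟩ le_top
  haveI : Finite (PrimeSpectrum Γ(Spec (CommRingCat.of R), ⊤)) :=
    Finite.of_equiv _ (PrimeSpectrum.comapEquiv (Scheme.ΓSpecIso (CommRingCat.of R)).commRingCatIsoToRingEquiv.symm).toEquiv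
  letI := (f.appLE ⊤ U le_top).hom.toAlgebra
  haveI : Algebra.QuasiFinite Γ(Spec (CommRingCat.of R), ⊤) Γ(X, U) := hq
  haveI := Algebra.QuasiFinite.finite_primeSpectrum Γ(Spec (CommRingCat.of R), ⊤) Γ(X, U)
  haveI := hU.isLocalization_stalk ⟨x, hxU⟩
  letI : Algebra Γ(X, U) (X.presheaf.stalk x) := TopCat.Presheaf.algebra_section_stalk X.presheaf ⟨x, hxU⟩
  obtain ⟨g, -, hg⟩ := L01.FinSpecLoc.exists_away (hU.primeIdealOf ⟨x, hxU⟩).asIdeal (X.presheaf.stalk x)
  haveI : IsOpenImmersion (X.fromSpecStalk x) := by
    rw [← hU.fromSpecStalk_eq_fromSpecStalk hxU]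
    haveI : IsOpenImmersion (Spec.map (X.presheaf.germ U x hxU)) :=
      IsOpenImmersion.of_isLocalization (S := X.presheaf.stalk x) g
    exact inferInstanceAs (IsOpenImmersion (Spec.map (X.presheaf.germ U x hxU) ≫ hU.fromSpec))
  exact ⟨this, inferInstance⟩


end Groth.Agent.S14888
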