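import Groth.Statements.S14889
import Groth.Agent.L20.NormalFibre.Sat
import Groth.Agent.L18.NormalExtend
import Mathlib.AlgebraicGeometry.FunctionField
import Mathlib.AlgebraicGeometry.Morphisms.SchemeTheoreticallyDominant

set_option autoImplicit false
universe u
open CategoryTheory CategoryTheory.Limits AlgebraicGeometry
open FlatMor

set_option backward.isDefEq.respectTransparency.types false
set_option linter.style.haveILetI false
set_option backward.isDefEq.respectTransparency false
set_option backward.isDefEq.respectTransparency.types false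
open AlgebraicGeometry CategoryTheory CategoryTheory.Limits
open scoped TensorProduct nonZeroDivisors

namespace Groth.Agent.S14889

open scoped TensorProduct nonZeroDivisors

/-- The affine pieces have geometrically reduced fibres. -/
theorem isReduced_tensor {S X : Scheme.{u}} (φ : X ⟶ S)
    (hred : ∀ (K : Type u) [Field K] (k : Spec (CommRingCat.of K) ⟶ S), IsReduced (pullback φ k))
    {W : S.Opens} (hW : IsAffineOpen W) {V : X.Opens} (hV : IsAffineOpen V) (hVW : V ≤ φ ⁻¹ᵁ W)
    (K : Type u) [Field K] :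
    letI := (φ.appLE W V hVW).hom.toAlgebra
    ∀ [Algebra Γ(S, W) K], _root_.IsReduced (K ⊗[Γ(S, W)] Γ(X, V)) := by
  letI := (φ.appLE W V hVW).hom.toAlgebra
  intro _
  let kR := Spec.map (CommRingCat.ofHom (algebraMap Γ(S, W) K))
  let φR := Spec.map (CommRingCat.ofHom (algebraMap Γ(S, W) Γ(X, V)))
  have hsq : φR ≫ hW.fromSpec = hV.fromSpec ≫ φ := hW.SpecMap_appLE_fromSpec φ hV hVW
  let l : pullback φR kR ⟶ pullback φ (kR ≫ hW.fromSpec) :=
    pullback.map _ _ _ _ hV.fromSpec (𝟙 _) hW.fromSpec hsq (Category.id_comp _).symm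
  haveI : IsOpenImmersion l := by infer_instance
  haveI := hred K (kR ≫ hW.fromSpec)
  haveI : IsReduced (pullback φR kR) := isReduced_of_isOpenImmersion l
  haveI : IsReduced (Spec (CommRingCat.of (Γ(X, V) ⊗[Γ(S, W)] K))) :=
    isReduced_of_isOpenImmersion (pullbackSpecIso Γ(S, W) Γ(X, V) K).inv
  haveI : _root_.IsReduced (Γ(X, V) ⊗[Γ(S, W)] K) := (affine_isReduced_iff (CommRingCat.of (Γ(X, V) ⊗[Γ(S, W)] K))).1 inferInstance
  exact isReduced_of_injective (Algebra.TensorProduct.comm Γ(S, W) K Γ(X, V)).toRingEquiv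
    (Algebra.TensorProduct.comm Γ(S, W) K Γ(X, V)).injective

/-- The ring statement. -/
theorem bijective_of_generic {R B B' : Type u} [CommRing R] [IsDomain R] [IsIntegrallyClosed R] [CommRing B]
    [Algebra R B] [Algebra.FinitePresentation R B] [Module.Flat R B]
    (hred : ∀ (K : Type u) [Field K] [Algebra R K], _root_.IsReduced (K ⊗[R] B))
    [CommRing B'] [Algebra B B'] [Algebra R B'] [IsScalarTower R B B'] [Module.Finite B B']
    (htf : ∀ r : R, r ≠ 0 → ∀ x : B', r • x = 0 → x = 0)
    (h : Function.Bijective (Algebra.TensorProduct.includeLeftRingHom :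
      Localization (Algebra.algebraMapSubmonoid B R⁰) →+* Localization (Algebra.algebraMapSubmonoid B R⁰) ⊗[B] B')) :
    Function.Bijective (algebraMap B B') := by
  let M : Submonoid B := Algebra.algebraMapSubmonoid B R⁰
  let BK := Localization M
  have hden : ∀ x : B', ∃ r : R, r ≠ 0 ∧ ∃ b : B, r • x = algebraMap B B' b := by
    intro x
    obtain ⟨k, hk⟩ := h.2 ((1 : BK) ⊗ₜ[B] x)
    obtain ⟨⟨b, ⟨_, m, hm, rfl⟩⟩, hbm⟩ := IsLocalization.surj M k
    have hk' : (k ⊗ₜ[B] (1 : B')) = (1 : BK) ⊗ₜ[B] x := hk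
    have h0 : TensorProduct.mk B BK B' 1 (algebraMap R B m • x - algebraMap B B' b) = 0 := by
      rw [map_sub, map_smul, sub_eq_zero, TensorProduct.mk_apply, TensorProduct.mk_apply, ← hk',
        TensorProduct.smul_tmul', Algebra.smul_def, mul_comm, hbm, Algebra.algebraMap_eq_smul_one (A := B'),
        TensorProduct.tmul_smul, TensorProduct.smul_tmul', Algebra.smul_def, mul_one]
    obtain ⟨⟨_, m', hm', rfl⟩, hm0⟩ := (IsLocalizedModule.eq_zero_iff M (TensorProduct.mk B BK B' 1)).1 h0
    refine ⟨m' * m, mul_ne_zero (nonZeroDivisors.ne_zero hm') (nonZeroDivisors.ne_zero hm),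
      algebraMap R B m' * b, ?_⟩
    rw [Submonoid.smul_def, smul_sub, sub_eq_zero, smul_smul, ← map_mul, algebraMap_smul] at hm0
    rw [hm0, Algebra.smul_def, map_mul]
  have hinjB : Function.Injective (algebraMap B B') := by
    rw [injective_iff_map_eq_zero]
    intro b hb
    have h1 : (1 : BK) ⊗ₜ[B] algebraMap B B' b = 0 := by rw [hb, TensorProduct.tmul_zero]
    have h2 : algebraMap B BK b = 0 := h.1 (by
      show (algebraMap B BK b) ⊗ₜ[B] (1 : B') = (0 : BK) ⊗ₜ[B] (1 : B')
      rw [TensorProduct.zero_tmul, ← h1, Algebra.algebraMap_eq_smul_one, TensorProduct.smul_tmul,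
        Algebra.algebraMap_eq_smul_one])
    obtain ⟨⟨_, m, hm, rfl⟩, hm0⟩ := (IsLocalization.map_eq_zero_iff M BK b).1 h2
    exact Module.Flat.isSMulRegular_of_nonZeroDivisors (M := B) hm
      (show m • b = m • 0 by rw [smul_zero, Algebra.smul_def]; exact hm0)
  exact ⟨hinjB, Groth.L20.NormalFibre.surjective_of_integral (R := R) hred hinjB htf hden⟩

/-- Sections of the modification have no torsion over the base. -/
theorem eq_zero_of_mul_eq_zero {S X X' : Scheme.{u}} [IsIntegral S] [QuasiSeparatedSpace S] (φ : X ⟶ S) [Flat φ]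
    (f : X' ⟶ X) (U : X.Opens) (hU' : IsSchemeTheoreticallyDominant (f ⁻¹ᵁ U).ι) [IsIso (f ∣_ U)]
    {W : S.Opens} (hWne : Nonempty W) {V' : X'.Opens} (e : V' ≤ (f ≫ φ) ⁻¹ᵁ W) {r : Γ(S, W)} (hr : r ≠ 0)
    {x : Γ(X', V')} (hx : (f ≫ φ).appLE W V' e r * x = 0) : x = 0 := by
  haveI := hU'
  let η := S.fromSpecStalk (genericPoint S)
  haveI : QuasiCompact η := quasiCompact_of_compactSpace η
  haveI : IsDominant η := ⟨by
    rw [DenseRange, dense_iff_closure_eq, Set.eq_univ_iff_forall]
    intro s
    refine closure_mono (Set.singleton_subset_iff.2 ?_) ((genericPoint_specializes s).mem_closure)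
    rw [Scheme.range_fromSpecStalk]
    exact specializes_refl _⟩
  haveI : IsSchemeTheoreticallyDominant η := .of_isDominant η
  haveI : QuasiCompact (pullback.snd η (U.ι ≫ φ)) := MorphismProperty.pullback_snd _ _ inferInstance
  let g' := pullback.fst (f ≫ φ) η
  haveI : QuasiCompact g' := MorphismProperty.pullback_fst _ _ inferInstance
  let k := pullback.snd η (U.ι ≫ φ) ≫ inv (f ∣_ U) ≫ (f ⁻¹ᵁ U).ι
  let l := pullback.lift k (pullback.fst η (U.ι ≫ φ)) (show k ≫ f ≫ φ = pullback.fst η (U.ι ≫ φ) ≫ η by
    simp only [k, Category.assoc, ← morphismRestrict_ι_assoc, IsIso.inv_hom_id_assoc, pullback.condition])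
  have hk : l ≫ g' = k := pullback.lift_fst _ _ _
  haveI : IsSchemeTheoreticallyDominant g' := ⟨by
    have h1 : k.ker = ⊥ := IsSchemeTheoreticallyDominant.ker_eq_bot k
    rw [← hk] at h1
    exact le_bot_iff.1 ((Scheme.Hom.le_ker_comp l g').trans h1.le)⟩
  refine g'.app_injective V' ?_
  rw [map_zero]
  have hu : IsUnit (g'.app V' ((f ≫ φ).appLE W V' e r)) := by
    have hη : genericPoint S ∈ W := (genericPoint_spec S).mem_open_set_iff W.2 |>.2 (by
      obtain ⟨w⟩ := hWne; exact ⟨w.1, Set.mem_univ _, w.2⟩)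
    have h1 : IsUnit (η.app W r) := by
      rw [Scheme.fromSpecStalk_app hη]
      simp only [CommRingCat.comp_apply]
      refine (IsUnit.map _ ?_).map _
      haveI := functionField_isFractionRing_of_isAffineOpen
      refine isUnit_iff_ne_zero.2 fun h0 => hr ?_
      exact (germ_injective_of_isIntegral S (genericPoint S) hη) (h0.trans (map_zero _).symm)
    have e2 : g' ⁻¹ᵁ V' ≤ pullback.snd (f ≫ φ) η ⁻¹ᵁ (η ⁻¹ᵁ W) := by
      rw [← Scheme.Hom.comp_preimage, ← pullback.condition, Scheme.Hom.comp_preimage]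
      exact fun z hz => e hz
    have h2 : g'.app V' ((f ≫ φ).appLE W V' e r) =
        (pullback.snd (f ≫ φ) η).appLE (η ⁻¹ᵁ W) (g' ⁻¹ᵁ V') e2 (η.app W r) := by
      rw [Scheme.Hom.app_eq_appLE, Scheme.Hom.app_eq_appLE, ← CommRingCat.comp_apply, ← CommRingCat.comp_apply,
        Scheme.Hom.appLE_comp_appLE, Scheme.Hom.appLE_comp_appLE]
      simp only [g', pullback.condition]
    rw [h2]
    exact h1.map _
  have h3 := congrArg (g'.app V') hx
  rw [map_mul, map_zero] at h3
  exact hu.mul_right_eq_zero.1 h3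

end Groth.Agent.S14889

namespace Groth.Agent.S14889

/-- Let S be integral, normal (all local rings integrally closed domains), quasi-compact and
quasi-separated, with generic point η, and let φ : X → S be flat, locally of finite presentation,
quasi-compact and quasi-separated, with geometrically reduced fibres (every base change of φ to the
spectrum of a field is reduced). Let f : X' → X be a finite morphism which restricts to an
isomorphism over an open U ⊆ X that is schematically dense in X and whose preimage is schematically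
dense in X', and whose base change to the generic fibre X_η = X ×_S Spec O_{S,η} is an isomorphism.
Then f is an isomorphism: X admits no non-trivial finite η-modification. -/
theorem result
    {S X X' : Scheme.{u}} [IsIntegral S] [CompactSpace S] [QuasiSeparatedSpace S]
    (hS : Pi1.IsNormalScheme S) (φ : X ⟶ S) [Flat φ] [LocallyOfFinitePresentation φ]
    [QuasiCompact φ] [QuasiSeparated φ]
    (hred : ∀ (K : Type u) [Field K] (k : Spec (CommRingCat.of K) ⟶ S), IsReduced (pullback φ k))
    (f : X' ⟶ X) [IsFinite f] (U : X.Opens) (hU : IsSchemeTheoreticallyDominant U.ι)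
    (hU' : IsSchemeTheoreticallyDominant (f ⁻¹ᵁ U).ι) (hfU : IsIso (f ∣_ U))
    (hη : IsIso (pullback.snd f (pullback.fst φ (S.fromSpecStalk (genericPoint S))))) :
    IsIso f := by
  have key : ∀ (W : S.Opens) (_ : IsAffineOpen W) (_ : Nonempty W) (V : X.Opens) (_ : IsAffineOpen V)
      (_ : V ≤ φ ⁻¹ᵁ W), IsIso (f ∣_ V) := by
    intro W hW hWne V hV hVW
    refine (isIso_morphismRestrict_iff_isIso_app (f := f) hV).2 ?_
    let R := Γ(S, W)
    let B := Γ(X, V)
    let B' := Γ(X', f ⁻¹ᵁ V)
    letI : Algebra R B := (φ.appLE W V hVW).hom.toAlgebra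
    letI : Algebra B B' := (f.app V).hom.toAlgebra
    letI : Algebra R B' := ((algebraMap B B').comp (algebraMap R B)).toAlgebra
    haveI : IsScalarTower R B B' := IsScalarTower.of_algebraMap_eq' rfl
    haveI := hWne
    haveI : IsIntegrallyClosed R := Groth.L18.isIntegrallyClosed_of_isNormalScheme hS hW
    haveI : Algebra.FinitePresentation R B := LocallyOfFinitePresentation.finitePresentation_appLE φ hW hV hVW
    haveI : Module.Flat R B := φ.flat_appLE hW hV hVW
    have hV' : IsAffineOpen (f ⁻¹ᵁ V) := hV.preimage f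
    haveI : Module.Finite B B' := IsFinite.finite_app f _ hV
    haveI : IsDomain R := inferInstanceAs (IsDomain Γ(S, W))
    have hmapR : ∀ r : R, algebraMap R B' r = (f ≫ φ).appLE W (f ⁻¹ᵁ V) (f.preimage_mono hVW) r := fun r => by
      show f.app V (φ.appLE W V hVW r) = _
      rw [Scheme.Hom.app_eq_appLE, ← CommRingCat.comp_apply, Scheme.Hom.appLE_comp_appLE]
    have htf : ∀ r : R, r ≠ 0 → ∀ x : B', r • x = 0 → x = 0 := fun r hr x hx => by
      rw [Algebra.smul_def, hmapR] at hx
      exact eq_zero_of_mul_eq_zero φ f U hU' hWne _ hr hx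
    -- the generic fibre
    let M : Submonoid B := Algebra.algebraMapSubmonoid B R⁰
    let BK := Localization M
    letI : Algebra R S.functionField := (S.germToFunctionField W).hom.toAlgebra
    haveI : IsFractionRing R S.functionField := functionField_isFractionRing_of_isAffineOpen S W hW
    let ψ : S.functionField →+* BK := IsLocalization.lift (M := R⁰) (g := (algebraMap B BK).comp (algebraMap R B))
      fun r => IsLocalization.map_units BK (⟨_, r.1, r.2, rfl⟩ : M)
    have hη' : genericPoint S ∈ W := (genericPoint_spec S).mem_open_set_iff W.2 |>.2 (by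
      obtain ⟨w⟩ := hWne; exact ⟨w.1, Set.mem_univ _, w.2⟩)
    let gV : Spec (CommRingCat.of BK) ⟶ X := Spec.map (CommRingCat.ofHom (algebraMap B BK)) ≫ hV.fromSpec
    have hgV : gV ≫ φ = Spec.map (CommRingCat.ofHom ψ) ≫ S.fromSpecStalk (genericPoint S) := by
      rw [← hW.fromSpecStalk_eq_fromSpecStalk hη', IsAffineOpen.fromSpecStalk, Category.assoc,
        ← hW.SpecMap_appLE_fromSpec φ hV hVW, ← Category.assoc, ← Category.assoc, ← Spec.map_comp]
      erw [← Spec.map_comp]
      congr 2
      ext r
      exact (IsLocalization.lift_eq (M := R⁰) (S := S.functionField)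
        (fun r => IsLocalization.map_units BK (⟨_, r.1, r.2, rfl⟩ : M)) r).symm
    let lη : Spec (CommRingCat.of BK) ⟶ pullback φ (S.fromSpecStalk (genericPoint S)) := pullback.lift gV _ hgV
    have hlη : lη ≫ pullback.fst _ _ = gV := pullback.lift_fst _ _ _
    let T := BK ⊗[B] B'
    have sq1 := isPullback_SpecMap_of_isPushout _ _ _ _ (CommRingCat.isPushout_tensorProduct B BK B')
    have sq2 : IsPullback (Spec.map (f.app V)) hV'.fromSpec hV.fromSpec f := by
      refine IsOpenImmersion.isPullback _ _ _ _ ?_ (by rw [hV.opensRange_fromSpec, hV'.opensRange_fromSpec])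
      rw [Scheme.Hom.app_eq_appLE, hV.SpecMap_appLE_fromSpec f hV']
    have sq3 := (sq1.flip.paste_horiz sq2.flip)
    haveI := hη
    have sq4 := IsPullback.of_hasPullback f (pullback.fst φ (S.fromSpecStalk (genericPoint S)))
    have hiso : IsIso (Spec.map (CommRingCat.ofHom (Algebra.TensorProduct.includeLeftRingHom : BK →+* T))) := by
      rw [show Spec.map (CommRingCat.ofHom (algebraMap B BK)) ≫ hV.fromSpec = lη ≫ pullback.fst _ _ from hlη.symm] at sq3
      have sq5 := IsPullback.of_right' sq3 sq4
      exact MorphismProperty.of_isPullback (P := MorphismProperty.isomorphisms Scheme) sq5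
        (show IsIso _ from hη)
    have hbij : Function.Bijective (Algebra.TensorProduct.includeLeftRingHom : BK →+* T) :=
      (ConcreteCategory.isIso_iff_bijective (CommRingCat.ofHom
        (Algebra.TensorProduct.includeLeftRingHom : BK →+* T))).1 (by
          haveI : IsIso (Scheme.Spec.map (CommRingCat.ofHom (Algebra.TensorProduct.includeLeftRingHom : BK →+* T)).op) := hiso
          haveI := isIso_of_reflects_iso (CommRingCat.ofHom
            (Algebra.TensorProduct.includeLeftRingHom : BK →+* T)).op Scheme.Spec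
          exact isIso_of_op _)
    exact (ConcreteCategory.isIso_iff_bijective _).2 (bijective_of_generic (R := R)
      (fun K _ _ => isReduced_tensor φ hred hW hV hVW K) htf hbij)
  refine (IsZariskiLocalAtTarget.iff_of_iSup_eq_top (P := MorphismProperty.isomorphisms Scheme)
    (fun i : {p : S.Opens × X.Opens // IsAffineOpen p.1 ∧ IsAffineOpen p.2 ∧ p.2 ≤ φ ⁻¹ᵁ p.1 ∧ Nonempty p.1} => i.1.2) ?_).2
    fun i => key i.1.1 i.2.1 i.2.2.2.2 i.1.2 i.2.2.1 i.2.2.2.1
  refine eq_top_iff.2 fun x _ => ?_
  obtain ⟨W, hW, hxW, -⟩ := exists_isAffineOpen_mem_and_subset (show φ x ∈ (⊤ : S.Opens) from trivial)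
  obtain ⟨V, hV, hxV, hle⟩ := exists_isAffineOpen_mem_and_subset (show x ∈ φ ⁻¹ᵁ W from hxW)
  exact TopologicalSpace.Opens.mem_iSup.2 ⟨⟨(W, V), hW, hV, hle, ⟨⟨φ x, hxW⟩⟩⟩, hxV⟩


end Groth.Agent.S14889
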