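import Groth.Statements.S14891
import Mathlib.RingTheory.Valuation.Extension
import Mathlib.RingTheory.AlgebraicIndependent.TranscendenceBasis
import Mathlib.RingTheory.AlgebraicIndependent.Transcendental
import Mathlib.LinearAlgebra.Dimension.Localization

set_option autoImplicit false
universe u
open CAlg

namespace Groth.Agent.S14891

/-- Let L/K be an extension of valued fields, i.e. v_L is a valuation on L whose restriction to K is
equivalent to v_K. Write E for the rational rank of the quotient of value groups |L^×|/|K^×| — here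
the rank of the abelian group L^× modulo the subgroup generated by the units of the valuation ring
of v_L and the image of K^× — and F for the transcendence degree of the residue field of v_L over
that of v_K. Then E + F ≤ tr.deg(L/K) (an inequality of cardinals). -/
theorem result
    {K L Γ₀ Γ₁ : Type u} [Field K] [Field L] [Algebra K L]
    [LinearOrderedCommGroupWithZero Γ₀] [LinearOrderedCommGroupWithZero Γ₁]
    (vK : Valuation K Γ₀) (vL : Valuation L Γ₁) [vK.HasExtension vL] :
    Module.rank ℤ (Additive Lˣ ⧸ Subgroup.toAddSubgroup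
        (vL.valuationSubring.unitGroup ⊔ (Units.map (algebraMap K L).toMonoidHom).range)) +
      Algebra.trdeg (IsLocalRing.ResidueField vK.valuationSubring)
        (IsLocalRing.ResidueField vL.valuationSubring) ≤ Algebra.trdeg K L := by
  classical
  let K₀ := vK.valuationSubring
  let L₀ := vL.valuationSubring
  let κK := IsLocalRing.ResidueField K₀
  let κL := IsLocalRing.ResidueField L₀
  let G := vL.valuationSubring.unitGroup ⊔ (Units.map (algebraMap K L).toMonoidHom).range
  let Q := Additive Lˣ ⧸ Subgroup.toAddSubgroup G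
  obtain ⟨s, hs, hsli⟩ := exists_set_linearIndependent ℤ Q
  obtain ⟨t, ht⟩ := exists_isTranscendenceBasis κK κL
  rw [← hs, ← ht.cardinalMk_eq_trdeg]
  have hy' : ∀ g : s, ∃ y : Lˣ, (QuotientAddGroup.mk (Additive.ofMul y) : Q) = g.1 := fun g => by
    obtain ⟨a, ha⟩ := QuotientAddGroup.mk_surjective g.1
    exact ⟨Additive.toMul a, ha⟩
  choose y hy using hy'
  have hx' : ∀ g : t, ∃ x : L₀, IsLocalRing.residue L₀ x = g.1 := fun g => IsLocalRing.residue_surjective g.1
  choose x hx using hx'
  let xL : t → L := fun g => (x g : L)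
  -- Gauss: values on the subring generated by the lifts come from K
  have gauss : ∀ p : MvPolynomial t K, p ≠ 0 → ∃ c : K, c ≠ 0 ∧
      vL (MvPolynomial.aeval xL p) = vL (algebraMap K L c) := by
    intro p hp
    obtain ⟨b₀, hb₀, hmax⟩ := p.support.exists_max_image (fun b => vL (algebraMap K L (p.coeff b)))
      (MvPolynomial.support_nonempty.mpr hp)
    have hc : p.coeff b₀ ≠ 0 := MvPolynomial.mem_support_iff.mp hb₀
    refine ⟨p.coeff b₀, hc, ?_⟩
    have hle : ∀ b ∈ p.support, p.coeff b * (p.coeff b₀)⁻¹ ∈ K₀ := fun b hb => by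
      rw [Valuation.mem_valuationSubring_iff, ← Valuation.HasExtension.val_map_le_one_iff (vR := vK) (vA := vL),
        map_mul, map_mul, map_inv₀, map_inv₀]
      refine mul_inv_le_one_of_le₀ (hmax b hb) zero_le
    let q : MvPolynomial t K₀ := ∑ b ∈ p.support.attach,
      MvPolynomial.monomial b.1 ⟨p.coeff b.1 * (p.coeff b₀)⁻¹, hle b.1 b.2⟩
    have hq : MvPolynomial.map K₀.subtype q = MvPolynomial.C (p.coeff b₀)⁻¹ * p := by
      simp only [q, map_sum, MvPolynomial.map_monomial]
      refine Eq.trans ?_ (congrArg (MvPolynomial.C (p.coeff b₀)⁻¹ * ·) p.as_sum).symm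
      rw [Finset.mul_sum, ← Finset.sum_attach p.support (fun v => MvPolynomial.C (p.coeff b₀)⁻¹ * MvPolynomial.monomial v (p.coeff v))]
      refine Finset.sum_congr rfl fun b _ => ?_
      rw [MvPolynomial.C_mul_monomial]
      exact congrArg _ (mul_comm _ _)
    have hq1 : q.coeff b₀ = 1 := by
      refine Subtype.ext ?_
      show K₀.subtype (q.coeff b₀) = 1
      rw [← MvPolynomial.coeff_map, hq, MvPolynomial.coeff_C_mul, inv_mul_cancel₀ hc]
    let z : L₀ := MvPolynomial.aeval x q
    have hz : IsLocalRing.residue L₀ z ≠ 0 := by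
      have h2 : IsLocalRing.residue L₀ z = MvPolynomial.aeval (Subtype.val : t → κL) (MvPolynomial.map (IsLocalRing.residue K₀) q) := by
        rw [MvPolynomial.aeval_def, MvPolynomial.eval₂_map]
        show IsLocalRing.residue L₀ (MvPolynomial.eval₂ (algebraMap K₀ L₀) x q) = _
        rw [MvPolynomial.eval₂_comp_left]
        congr 1
        funext g
        exact hx g
      rw [h2]
      intro h0
      have := congrArg (MvPolynomial.coeff b₀) (ht.1.eq_zero_of_aeval_eq_zero _ h0)
      rw [MvPolynomial.coeff_map, hq1, map_one, MvPolynomial.coeff_zero] at this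
      exact one_ne_zero this
    have hv : vL (z : L) = 1 := by
      have hu : IsUnit z := (IsLocalRing.residue_ne_zero_iff_isUnit z).mp hz
      exact (vL.mem_unitGroup_iff (x := hu.unit.map L₀.subtype.toMonoidHom)).mp
        (by
          rw [ValuationSubring.mem_unitGroup_iff]
          exact (L₀.valuation_eq_one_iff z).mp hu)
    have hzL : (z : L) = MvPolynomial.aeval xL (MvPolynomial.C (p.coeff b₀)⁻¹ * p) := by
      rw [← hq]
      show L₀.subtype (MvPolynomial.eval₂ (algebraMap K₀ L₀) x q) = MvPolynomial.eval₂ (algebraMap K L) xL _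
      rw [MvPolynomial.eval₂_map, MvPolynomial.eval₂_comp_left]
      rfl
    rw [hzL, map_mul, MvPolynomial.aeval_C, map_mul, map_inv₀, map_inv₀] at hv
    exact (inv_mul_eq_one₀ (by simpa using hc)).mp hv |>.symm
  have hxi : AlgebraicIndependent K xL := by
    refine algebraicIndependent_iff.mpr fun p hp => ?_
    by_contra hne
    obtain ⟨c, hc, hv⟩ := gauss p hne
    rw [hp, map_zero, eq_comm, map_eq_zero, map_eq_zero] at hv
    exact hc hv
  have hyi : AlgebraicIndependent (Algebra.adjoin K (Set.range xL)) (fun g => (y g : L)) := by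
    refine algebraicIndependent_iff.mpr fun p hp => ?_
    by_contra hne
    let term : (s →₀ ℕ) → L := fun a => ((p.coeff a : Algebra.adjoin K (Set.range xL)) : L) * ∏ g ∈ a.support, (y g : L) ^ a g
    have hval : ∀ a ∈ p.support, ∃ c : Kˣ, vL ((p.coeff a : Algebra.adjoin K (Set.range xL)) : L) = vL (algebraMap K L c) := fun a ha => by
      obtain ⟨P, hP⟩ : ∃ P : MvPolynomial t K, MvPolynomial.aeval xL P = ((p.coeff a : Algebra.adjoin K (Set.range xL)) : L) := by
        have := (p.coeff a).2
        exact (Algebra.adjoin_range_eq_range_aeval K xL).le this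
      have hP0 : P ≠ 0 := by
        rintro rfl
        rw [map_zero] at hP
        exact MvPolynomial.mem_support_iff.mp ha (Subtype.ext hP.symm)
      obtain ⟨c, hc, hv⟩ := gauss P hP0
      exact ⟨Units.mk0 c hc, by rw [← hP]; exact hv⟩
    choose c hc using hval
    let w : (s →₀ ℕ) → Lˣ := fun a => ∏ g ∈ a.support, (y g) ^ a g
    have hw : ∀ a, ((w a : Lˣ) : L) = ∏ g ∈ a.support, (y g : L) ^ a g := fun a => by
      simp [w, Units.coe_prod]
    have hmk : ∀ a, (QuotientAddGroup.mk (Additive.ofMul (w a)) : Q) =
        Finsupp.linearCombination ℤ (Subtype.val : s → Q) (a.mapRange Int.ofNat rfl) := fun a => by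
      show QuotientAddGroup.mk' (Subgroup.toAddSubgroup G) (Additive.ofMul (∏ g ∈ a.support, (y g) ^ a g)) = _
      rw [ofMul_prod, map_sum, Finsupp.linearCombination_apply,
        Finsupp.sum_of_support_subset _ Finsupp.support_mapRange (fun (i : s) (z : ℤ) => z • i.1) (fun i _ => zero_smul ℤ i.1)]
      refine Finset.sum_congr rfl fun g _ => ?_
      rw [ofMul_pow, map_nsmul, Finsupp.mapRange_apply, QuotientAddGroup.mk'_apply, hy, Int.ofNat_eq_natCast, natCast_zsmul]
    have hdist : ∀ a (ha : a ∈ p.support) a' (ha' : a' ∈ p.support), vL (term a) = vL (term a') → a = a' := by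
      intro a ha a' ha' h
      simp only [term, map_mul, hc a ha, hc a' ha', ← hw] at h
      let u : Lˣ := (Units.map (algebraMap K L).toMonoidHom (c a ha)) * w a *
        ((Units.map (algebraMap K L).toMonoidHom (c a' ha')) * w a')⁻¹
      have hu : u ∈ vL.valuationSubring.unitGroup := by
        rw [vL.mem_unitGroup_iff]
        simp only [u, Units.val_mul, Units.val_inv_eq_inv_val, map_mul, map_inv₀]
        have hne' : vL (algebraMap K L (c a' ha') : L) * vL (w a' : L) ≠ 0 :=
          mul_ne_zero (by simp) (by simp)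
        rw [← div_eq_mul_inv, div_eq_one_iff_eq (by exact hne')]
        exact h
      have hmem : w a * (w a')⁻¹ ∈ G := by
        have h2 : w a * (w a')⁻¹ = u * (Units.map (algebraMap K L).toMonoidHom (c a' ha' * (c a ha)⁻¹)) := by
          refine Units.ext ?_
          have hc1 : algebraMap K L (c a ha) ≠ 0 := by simp
          have hc2 : algebraMap K L (c a' ha') ≠ 0 := by simp
          have hw1 : ((w a' : Lˣ) : L) ≠ 0 := Units.ne_zero _
          simp only [u, Units.val_mul, Units.val_inv_eq_inv_val, Units.coe_map, RingHom.toMonoidHom_eq_coe,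
            MonoidHom.coe_coe, map_mul, map_inv₀]
          field_simp
        rw [h2]
        exact mul_mem (Subgroup.mem_sup_left hu) (Subgroup.mem_sup_right ⟨_, rfl⟩)
      have h3 : (QuotientAddGroup.mk (Additive.ofMul (w a)) : Q) = QuotientAddGroup.mk (Additive.ofMul (w a')) := by
        rw [QuotientAddGroup.eq_iff_sub_mem]
        exact hmem
      rw [hmk, hmk] at h3
      exact Finsupp.mapRange_injective _ rfl Int.ofNat_injective (hsli h3)
    obtain ⟨a₀, ha₀, hmax⟩ := p.support.exists_max_image (fun a => vL (term a)) (MvPolynomial.support_nonempty.mpr hne)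
    have hsum : MvPolynomial.aeval (fun g => (y g : L)) p = ∑ a ∈ p.support, term a := by
      rw [MvPolynomial.aeval_def, MvPolynomial.eval₂_eq]
      rfl
    rw [hp] at hsum
    have h4 := congrArg vL hsum
    rw [map_zero, vL.map_sum_eq_of_lt ha₀ (fun a ha => by
      obtain ⟨ha, hne'⟩ := Finset.mem_sdiff.mp ha
      exact lt_of_le_of_ne (hmax a ha) fun h => hne' (Finset.mem_singleton.mpr (hdist a ha a₀ ha₀ h))),
      eq_comm, map_eq_zero] at h4
    simp only [term, ← hw, mul_eq_zero, Units.ne_zero, or_false] at h4
    exact MvPolynomial.mem_support_iff.mp ha₀ (Subtype.ext h4)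
  have key := (hxi.sumElim hyi).cardinalMk_le_trdeg
  rwa [Cardinal.mk_sum, Cardinal.lift_id, Cardinal.lift_id] at key

end Groth.Agent.S14891
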