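import Groth.Statements.S14893
import Groth.Agent.L01.ValHeight
import Mathlib.RingTheory.Localization.FractionRing
import Mathlib.RingTheory.Valuation.ValuationRing
import Mathlib.RingTheory.AlgebraicIndependent.TranscendenceBasis
import Mathlib.FieldTheory.IntermediateField.Adjoin.Algebra
import Mathlib.RingTheory.Ideal.Maps
import Mathlib.Order.KrullDimension
import Mathlib.RingTheory.AlgebraicIndependent.AlgebraicClosure

set_option autoImplicit false
universe u
open CAlg

namespace Groth.Agent.S14893

/-- Every valuation ring R is a filtered union of subrings which are valuation rings with finite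
spectrum (finite height): there is a nonempty directed index type and a monotone family of such
subrings of R whose supremum is R. -/
theorem result
    (R : Type u) [CommRing R] [IsDomain R] [ValuationRing R] :
    ∃ (ι : Type u) (_ : Preorder ι) (_ : IsDirected ι (fun a b ↦ a ≤ b)) (_ : Nonempty ι)
      (F : ι → Subring R), Monotone F ∧ (⨆ i, F i) = ⊤ ∧
        ∀ i, ValuationRing (F i) ∧ Finite (PrimeSpectrum (F i)) := by
  classical
  let K := FractionRing R
  let emb := algebraMap R K
  have hemb : Function.Injective emb := IsFractionRing.injective R K
  let L : Finset K → Subfield K := fun s => Subfield.closure (s : Set K)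
  let F : Finset K → Subring R := fun s => (L s).toSubring.comap emb
  refine ⟨Finset K, inferInstance, inferInstance, inferInstance, F, ?_, ?_, fun s => ?_⟩
  · intro s t hst x hx
    exact Subfield.closure_mono (Finset.coe_subset.mpr hst) hx
  · rw [eq_top_iff]
    intro x _
    exact (le_iSup F {emb x}) (Subfield.subset_closure (by simp))
  · -- the valuation subring of `L s`
    let A : ValuationSubring (L s) :=
      { toSubring := emb.range.comap (L s).subtype
        mem_or_inv_mem' := fun x => by
          rcases ValuationRing.isInteger_or_isInteger R (x : K) with h | h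
          · exact Or.inl h
          · exact Or.inr h }
    let g : F s →+* A :=
      { toFun := fun x => ⟨⟨emb x.1, x.2⟩, ⟨x.1, rfl⟩⟩
        map_one' := by apply Subtype.ext; apply Subtype.ext; exact map_one emb
        map_mul' := fun a b => by apply Subtype.ext; apply Subtype.ext; exact map_mul emb _ _
        map_zero' := by apply Subtype.ext; apply Subtype.ext; exact map_zero emb
        map_add' := fun a b => by apply Subtype.ext; apply Subtype.ext; exact map_add emb _ _ }
    have hg : Function.Bijective g := by
      refine ⟨fun a b h => Subtype.ext (hemb (congrArg (fun y : A => ((y : L s) : K)) h)), fun y => ?_⟩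
      obtain ⟨r, hr⟩ := y.2
      exact ⟨⟨r, by show emb r ∈ L s; rw [hr]; exact (y : L s).2⟩, Subtype.ext (Subtype.ext hr)⟩
    let e : A ≃+* F s := (RingEquiv.ofBijective g hg).symm
    refine ⟨e.surjective.valuationRing e.toRingHom, ?_⟩
    -- finitely many primes
    obtain ⟨d, hd⟩ : ∃ d : ℕ, Algebra.trdeg (⊥ : Subfield (L s)) (L s) = d := by
      apply Cardinal.lt_aleph0.mp
      let k0 : Subfield (L s) := ⊥
      let T : Set (L s) := Set.range fun a : s => (⟨(a : K), Subfield.subset_closure a.2⟩ : L s)
      have htop : IntermediateField.adjoin k0 T = ⊤ := by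
        rw [eq_top_iff]
        intro y _
        have h1 : Subfield.closure (s : Set K) ≤
            (IntermediateField.adjoin k0 T).toSubfield.map (L s).subtype := by
          rw [Subfield.closure_le]
          intro a ha
          exact ⟨⟨a, Subfield.subset_closure ha⟩, IntermediateField.subset_adjoin _ _ ⟨⟨a, ha⟩, rfl⟩, rfl⟩
        obtain ⟨z, hz, hzy⟩ := h1 y.2
        rwa [Subtype.ext hzy] at hz
      haveI : Algebra.IsAlgebraic (Algebra.adjoin k0 T) (L s) := by
        have h3 : Algebra.IsAlgebraic (IntermediateField.adjoin k0 T) (L s) := by
          rw [htop]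
          exact ⟨fun y => isAlgebraic_algebraMap (⟨y, trivial⟩ : (⊤ : IntermediateField k0 (L s)))⟩
        exact (IntermediateField.isAlgebraic_adjoin_iff_top).mp h3
      obtain ⟨B, hBT, hB⟩ := exists_isTranscendenceBasis_subset (R := k0) (A := L s) (s := T)
      rw [← hB.cardinalMk_eq_trdeg]
      exact (Set.Finite.subset (Set.finite_range _) hBT).lt_aleph0
    have hdim := Groth.L01.ValHeight.ringKrullDim_le A hd
    haveI : Finite (PrimeSpectrum A) := by
      by_contra hinf
      rw [not_finite_iff_infinite] at hinf
      obtain ⟨t, ht⟩ := Infinite.exists_subset_card_eq (PrimeSpectrum A) (d + 3)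
      have htot : ∀ a b : PrimeSpectrum A, a ≤ b ∨ b ≤ a := fun a b => total_of (· ≤ ·) a.asIdeal b.asIdeal
      letI : LinearOrder (PrimeSpectrum A) :=
        { (inferInstance : PartialOrder (PrimeSpectrum A)) with
          le_total := htot
          toDecidableLE := Classical.decRel _ }
      let l : LTSeries (PrimeSpectrum A) :=
        LTSeries.mk (d + 2) (fun i => t.orderEmbOfFin ht i) (t.orderEmbOfFin ht).strictMono
      have h := (Order.LTSeries.length_le_krullDim l).trans hdim
      have h4 : d + 2 ≤ d + 1 := by exact_mod_cast h
      omega
    exact Finite.of_injective (PrimeSpectrum.comap e.toRingHom)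
      (PrimeSpectrum.comap_injective_of_surjective e.toRingHom e.surjective)


end Groth.Agent.S14893
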