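import Groth.Statements.S14897
import Groth.Agent.L02.Misc.STD
import Groth.Agent.L16.ProjSpace.Basic
import Mathlib.AlgebraicGeometry.IdealSheaf.Subscheme

set_option autoImplicit false
universe u
open CategoryTheory CategoryTheory.Limits AlgebraicGeometry
open FlatMor

set_option backward.isDefEq.respectTransparency.types false
set_option linter.style.haveILetI false
namespace Groth.Agent.S14897

/-- Let S be integral, quasi-compact and quasi-separated, K̄ a field with a dominant morphism η̄ : Spec
K̄ → S, and f ∈ K̄. Then there is a K̄-modification of S on which f is a rational function defining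
a morphism to the projective line: η̄ factors as a schematically dominant s : Spec K̄ → S' followed
by a proper S' → S, and there is F : S' → P¹ (Proj of ℤ[T₀, T₁], universe-lifted) with s ≫ F equal
to the K̄-point [1 : f] of the chart T₀ ≠ 0. -/
theorem result
    {S : Scheme.{u}} [IsIntegral S] [CompactSpace S] [QuasiSeparatedSpace S]
    (Kb : Type u) [Field Kb] (ηb : Spec (CommRingCat.of Kb) ⟶ S) [IsDominant ηb] (f : Kb) :
    ∃ (S' : Scheme.{u}) (s : Spec (CommRingCat.of Kb) ⟶ S') (q : S' ⟶ S)
      (F : S' ⟶ CohB1.ProjSpace 1 P1.R0.{u}),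
      IsSchemeTheoreticallyDominant s ∧ IsProper q ∧ s ≫ q = ηb ∧
      s ≫ F = Spec.map (CommRingCat.ofHom (P1.chartMap 0 Kb f)) ≫
        Proj.awayι P1.grading (P1.T 0) (P1.X_mem 0) one_pos := by
  let k := Spec.map (CommRingCat.ofHom (P1.chartMap 0 Kb f)) ≫ Proj.awayι P1.grading (P1.T 0) (P1.X_mem 0) one_pos
  let j : Spec (CommRingCat.of Kb) ⟶ CohB1.ProjSpaceOver 1 S :=
    pullback.lift (f := CohB1.ProjSpace.toSpec 1 (ULift.{u} ℤ)) k ηb (specULiftZIsTerminal.hom_ext _ _)
  haveI : QuasiCompact ηb := quasiCompact_of_compactSpace ηb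
  haveI : QuasiCompact j := by
    haveI : QuasiCompact (j ≫ CohB1.ProjSpaceOver.toBase 1 S) := by
      rw [show j ≫ CohB1.ProjSpaceOver.toBase 1 S = ηb from pullback.lift_snd _ _ _]; infer_instance
    exact QuasiCompact.of_comp j (CohB1.ProjSpaceOver.toBase 1 S)
  refine ⟨j.image, j.toImage, j.imageι ≫ CohB1.ProjSpaceOver.toBase 1 S, j.imageι ≫ pullback.fst _ _,
    Groth.L02.STD.toImage_dominant j, inferInstance, ?_, ?_⟩
  · rw [← Category.assoc, Scheme.Hom.toImage_imageι]
    exact pullback.lift_snd _ _ _
  · rw [← Category.assoc, Scheme.Hom.toImage_imageι]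
    exact pullback.lift_fst _ _ _

end Groth.Agent.S14897
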