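import Groth.Statements.S14898
import Groth.Agent.S0384

set_option autoImplicit false
universe u
open CategoryTheory CategoryTheory.Limits AlgebraicGeometry
open FlatMor

set_option backward.isDefEq.respectTransparency.types false
set_option linter.style.haveILetI false
set_option backward.isDefEq.respectTransparency.types false
open AlgebraicGeometry CategoryTheory CategoryTheory.Limits

namespace Groth.Agent.S14898

/-- A common proper target with a compatible point for finitely many proper schemes. -/
theorem exists_product {S Z : Scheme.{u}} (η : Z ⟶ S) :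
    ∀ (n : ℕ) (T : Fin n → Scheme.{u}) (g : ∀ i, T i ⟶ S) (_ : ∀ i, IsProper (g i)) (t : ∀ i, Z ⟶ T i)
      (_ : ∀ i, t i ≫ g i = η),
      ∃ (P : Scheme.{u}) (q : P ⟶ S) (z : Z ⟶ P) (r : ∀ i, P ⟶ T i), IsProper q ∧ z ≫ q = η ∧
        ∀ i, r i ≫ g i = q ∧ z ≫ r i = t i := by
  intro n
  induction n with
  | zero =>
    intro T g _ t _
    exact ⟨S, 𝟙 S, η, fun i => i.elim0, inferInstance, Category.comp_id η, fun i => i.elim0⟩
  | succ n ih =>
    intro T g hg t ht
    obtain ⟨P, q, z, r, hq, hz, hr⟩ := ih (fun i => T i.succ) (fun i => g i.succ) (fun i => hg _)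
      (fun i => t i.succ) (fun i => ht _)
    haveI := hg 0
    haveI := hq
    let z' := pullback.lift (t 0) z ((ht 0).trans hz.symm)
    refine ⟨pullback (g 0) q, pullback.snd _ _ ≫ q, z',
      Fin.cases (pullback.fst _ _) (fun i => pullback.snd _ _ ≫ r i), ?_, ?_, ?_⟩
    · haveI : IsProper (pullback.snd (g 0) q) := MorphismProperty.pullback_snd _ _ inferInstance
      infer_instance
    · rw [← Category.assoc, pullback.lift_snd, hz]
    · refine Fin.cases ?_ ?_
      · exact ⟨pullback.condition, pullback.lift_fst _ _ _⟩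
      · intro i
        exact ⟨by simp only [Fin.cases_succ, Category.assoc, (hr i).1],
          by simp only [Fin.cases_succ, z', pullback.lift_snd_assoc, (hr i).2]⟩

end Groth.Agent.S14898

namespace Groth.Agent.S14898

/-- Let S be integral, quasi-compact and quasi-separated and η̄ : Spec K̄ → S dominant, K̄ a field.
Suppose given finitely many K̄-quasi-modifications of S: schematically dominant t_i : Spec K̄ → T_i
followed by separated, quasi-compact, locally finite type p_i : T_i → S with t_i ≫ p_i = η̄. Then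
there is a K̄-modification of S — a schematically dominant s : Spec K̄ → S' followed by a proper q :
S' → S with s ≫ q = η̄ — and opens V_i ⊆ S' through which s factors, together with proper
S-morphisms r_i : V_i → T_i sending the K̄-point to t_i; that is, each V_i is a K̄-modification of
T_i sitting inside S' as an open subscheme over S. -/
theorem result
    {S : Scheme.{u}} [IsIntegral S] [CompactSpace S] [QuasiSeparatedSpace S]
    (Kb : Type u) [Field Kb] (ηb : Spec (CommRingCat.of Kb) ⟶ S) [IsDominant ηb]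
    {ι : Type u} [Finite ι] (T : ι → Scheme.{u}) (t : ∀ i, Spec (CommRingCat.of Kb) ⟶ T i)
    (p : ∀ i, T i ⟶ S) [∀ i, IsSchemeTheoreticallyDominant (t i)] [∀ i, IsSeparated (p i)]
    [∀ i, LocallyOfFiniteType (p i)] [∀ i, QuasiCompact (p i)] (hp : ∀ i, t i ≫ p i = ηb) :
    ∃ (S' : Scheme.{u}) (s : Spec (CommRingCat.of Kb) ⟶ S') (q : S' ⟶ S),
      IsSchemeTheoreticallyDominant s ∧ IsProper q ∧ s ≫ q = ηb ∧
      ∀ i, ∃ (V : S'.Opens) (v : Spec (CommRingCat.of Kb) ⟶ (V : Scheme.{u}))
        (r : (V : Scheme.{u}) ⟶ T i),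
        v ≫ V.ι = s ∧ IsProper r ∧ v ≫ r = t i ∧ r ≫ p i = V.ι ≫ q := by
  choose Tc j g hj hjq hg hjg using fun i => Groth.Agent.S0384.result (p i)
  let e := Finite.equivFin ι
  obtain ⟨P, q₀, z, r₀, hq₀, hz, hr₀⟩ := exists_product ηb _ (fun k => Tc (e.symm k)) (fun k => g (e.symm k))
    (fun k => hg _) (fun k => t (e.symm k) ≫ j (e.symm k)) (fun k => by rw [Category.assoc, hjg, hp])
  have key : ∀ k i, e.symm k = i → ∃ r : P ⟶ Tc i, r ≫ g i = q₀ ∧ z ≫ r = t i ≫ j i := by
    rintro k _ rfl
    exact ⟨r₀ k, hr₀ k⟩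
  choose r hr using fun i => key (e i) i (e.symm_apply_apply i)
  haveI : QuasiSeparatedSpace P := quasiSeparatedSpace_of_quasiSeparated q₀
  haveI : QuasiCompact z := quasiCompact_of_compactSpace z
  have hs : z.toImage ≫ z.imageι = z := z.toImage_imageι
  refine ⟨z.image, z.toImage, z.imageι ≫ q₀, inferInstance, inferInstance, by rw [reassoc_of% hs, hz], fun i => ?_⟩
  haveI := hj i
  haveI := hg i
  let R := z.imageι ≫ r i
  haveI : IsProper (R ≫ g i) := by
    rw [Category.assoc, (hr i).1]
    infer_instance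
  haveI : IsProper R := IsProper.of_comp R (g i)
  let V : z.image.Opens := R ⁻¹ᵁ (j i).opensRange
  let rV : (V : Scheme.{u}) ⟶ T i := (R ∣_ (j i).opensRange) ≫ (j i).isoOpensRange.inv
  have hrV : rV ≫ j i = V.ι ≫ R := by
    simp only [rV, Category.assoc, Scheme.Hom.isoOpensRange_inv_comp, V, morphismRestrict_ι]
  haveI : IsProper (R ∣_ (j i).opensRange) := inferInstance
  have hsV : Set.range z.toImage ⊆ Set.range V.ι := by
    rw [Scheme.Opens.range_ι]
    rintro _ ⟨a, rfl⟩
    show R (z.toImage a) ∈ (j i).opensRange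
    rw [← Scheme.Hom.comp_apply, show z.toImage ≫ R = t i ≫ j i by rw [reassoc_of% hs, (hr i).2],
      Scheme.Hom.comp_apply]
    exact ⟨t i a, rfl⟩
  let v := IsOpenImmersion.lift V.ι z.toImage hsV
  have hv : v ≫ V.ι = z.toImage := IsOpenImmersion.lift_fac _ _ _
  refine ⟨V, v, rV, hv, inferInstance, ?_, ?_⟩
  · rw [← cancel_mono (j i), Category.assoc, hrV, reassoc_of% hv, reassoc_of% hs, (hr i).2]
  · rw [← hjg i, reassoc_of% hrV]
    simp only [R, Category.assoc, (hr i).1]


end Groth.Agent.S14898
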