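import Groth.Statements.S14901
import Groth.Agent.L22.FibreSemicont
import Groth.Agent.L06.Constr
import Mathlib.AlgebraicGeometry.Morphisms.FinitePresentation
import Mathlib.AlgebraicGeometry.Noetherian

set_option autoImplicit false
universe u
open MovLem

namespace Groth.Agent.S14901

open AlgebraicGeometry CategoryTheory in
/-- Let k be a field, let S and X be separated k-schemes of finite type that are locally equidimensional
(all irreducible components passing through a given point have the same dimension), let f : S → X be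
a k-morphism and Z ⊆ X a closed subset. Let d be the dimension of the image f(S), as a subspace of
X. If every point s of S with f(s) ∈ Z satisfies dim O_{S,s} ≥ d + 1 (equivalently: the closed
subset f⁻¹(Z) of S has local codimension at least d + 1 at each of its points), then f⁻¹(Z) is
empty. -/
theorem result (k : Type u) [Field k] (S X : Scheme.{u})
    (pS : S ⟶ Spec (CommRingCat.of k)) (pX : X ⟶ Spec (CommRingCat.of k))
    [IsSeparated pS] [LocallyOfFiniteType pS] [QuasiCompact pS]
    [IsSeparated pX] [LocallyOfFiniteType pX] [QuasiCompact pX]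
    (hS : ∀ (s : S) (A B : Set S), A ∈ irreducibleComponents (S : Type u) → B ∈ irreducibleComponents (S : Type u) →
      s ∈ A → s ∈ B → topologicalKrullDim A = topologicalKrullDim B)
    (hX : ∀ (x : X) (A B : Set X), A ∈ irreducibleComponents (X : Type u) → B ∈ irreducibleComponents (X : Type u) →
      x ∈ A → x ∈ B → topologicalKrullDim A = topologicalKrullDim B)
    (f : S ⟶ X) (hf : f ≫ pX = pS) (Z : Set X) (hZ : IsClosed Z)
    (h : ∀ s : S, f.base s ∈ Z →
      topologicalKrullDim (Set.range f.base) + 1 ≤ ringKrullDim (S.presheaf.stalk s)) :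
    f.base ⁻¹' Z = ∅ := by
  letI : S.Over (Spec (CommRingCat.of k)) := ⟨pS⟩
  letI : X.Over (Spec (CommRingCat.of k)) := ⟨pX⟩
  haveI : LocallyOfFiniteType (S ↘ Spec (CommRingCat.of k)) := ‹LocallyOfFiniteType pS›
  haveI : LocallyOfFiniteType (X ↘ Spec (CommRingCat.of k)) := ‹LocallyOfFiniteType pX›
  haveI : LocallyOfFiniteType f := by
    haveI : LocallyOfFiniteType (f ≫ pX) := hf ▸ ‹LocallyOfFiniteType pS›
    exact locallyOfFiniteType_of_comp f pX
  haveI : CompactSpace S := HasAffineProperty.iff_of_isAffine.mp ‹QuasiCompact pS›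
  haveI : CompactSpace X := HasAffineProperty.iff_of_isAffine.mp ‹QuasiCompact pX›
  haveI : IsLocallyNoetherian X := LocallyOfFiniteType.isLocallyNoetherian pX
  haveI : IsLocallyNoetherian S := LocallyOfFiniteType.isLocallyNoetherian pS
  haveI : IsNoetherian X := {}
  haveI : IsNoetherian S := {}
  haveI : QuasiCompact f := quasiCompact_of_noetherianSpace_source f
  haveI : LocallyOfFinitePresentation f := inferInstance
  refine Set.eq_empty_iff_forall_notMem.2 fun s hs => ?_
  -- a maximal point of the fibre through `s`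
  obtain ⟨w, hw, hwmax⟩ := Groth.L22.FibreDim.exists_maximal_specializes (f.asFiber s)
  have hfη : f (f.fiberι (f s) w) = f s := (f.range_fiberι (f s)).subset ⟨w, rfl⟩
  obtain ⟨η, hη⟩ : ∃ η, η = f.fiberι (f s) w := ⟨_, rfl⟩
  rw [← hη] at hfη
  have hmax : ∀ z : S, z ⤳ η → f z = f η → z = η := by
    intro z hz hfz
    obtain ⟨v, rfl⟩ := (f.range_fiberι (f s)).ge (show z ∈ f ⁻¹' {f s} from hfz.trans hfη)
    rw [hη] at hz ⊢
    rw [hwmax v ((f.fiberι (f s)).isEmbedding.isInducing.specializes_iff.1 hz)]
  obtain ⟨a, b, ha, hb, hab⟩ := Groth.L22.SchemeDim.exists_localDim k S η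
  have hge := h η (show f η ∈ Z by rw [hfη]; exact hs)
  rw [hb] at hge
  have hE : Topology.IsConstructible (Set.range f) := by
    rw [← Set.image_univ]
    exact f.isConstructible_image Topology.IsConstructible.univ
  -- the image is at least as big as the closure of any of its points
  have himg : ∀ x : S, topologicalKrullDim (closure ({f x} : Set X)) ≤
      topologicalKrullDim (Set.range f) := by
    intro x
    have hxmem : f x ∈ Set.range f ∩ closure {f x} := ⟨⟨x, rfl⟩, subset_closure rfl⟩
    obtain ⟨U, hUo, ⟨y, hyU, hy⟩, hUE⟩ := Groth.L06.Constr.exists_open_inter_subset' hE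
      isIrreducible_singleton.closure
      (closure_mono (Set.singleton_subset_iff.2 hxmem))
    have hxU : f x ∈ U := (specializes_iff_mem_closure.2 hy).mem_open hUo hyU
    obtain ⟨_, ⟨V, hV, rfl⟩, hxV, hVU⟩ := X.isBasis_affineOpens.exists_subset_of_mem_open hxU hUo
    change X.Opens at V
    rw [Groth.L22.FibreBound.dim_closure_eq k hV hxV,
      ← Groth.L22.SchemeDim.topologicalKrullDim_closure_inter hV hxV]
    exact Groth.L22.SchemeDim.topologicalKrullDim_mono fun z hz => hUE ⟨hVU hz.2, hz.1⟩
  obtain ⟨c, hc, hct⟩ := Groth.L22.SchemeDim.exists_dim_closure_eq_trdeg k S η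
  have hca : c = a := by exact_mod_cast hct.symm.trans ha
  subst hca
  have hbound : ∀ η' : {η' : S // η' ⤳ η}, ∃ c' : ℕ,
      topologicalKrullDim (closure ({η'.1} : Set S)) = (c' : WithBot ℕ∞) ∧ c' + 1 ≤ c + b := by
    intro η'
    obtain ⟨z, cξ, aξ, cz, az, -, hzη, hfz, hcξ, haξ, hcz, haz, hle⟩ :=
      Groth.L22.FibreBound.exists_fibre_ge k f hf η'.2
    rw [hmax z hzη hfz] at hcz
    have e1 : cz = c := by exact_mod_cast hcz.symm.trans hc
    have e2 : aξ + 1 ≤ b := by
      have h1 : ((aξ + 1 : ℕ) : WithBot ℕ∞) ≤ (b : WithBot ℕ∞) := by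
        rw [Nat.cast_add, Nat.cast_one]
        exact (add_le_add ((haξ ▸ himg η'.1 :) ) le_rfl).trans hge
      exact_mod_cast h1
    exact ⟨cξ, hcξ, by omega⟩
  obtain ⟨c0, -, h0⟩ := hbound ⟨η, specializes_rfl⟩
  have hle : FlatMor.localDim S η ≤ ((c + b - 1 : ℕ) : WithBot ℕ∞) := by
    rw [Groth.L22.FibreSemicont.localDim_eq_iSup k]
    refine iSup_le fun η' => ?_
    obtain ⟨c', hc', hc'b⟩ := hbound η'
    rw [hc']
    exact_mod_cast (show c' ≤ c + b - 1 by omega)
  rw [hab] at hle
  have : c + b ≤ c + b - 1 := by exact_mod_cast hle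
  omega

end Groth.Agent.S14901
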