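import Groth.Statements.S1491
import Groth.Agent.L07.KoszulMor

set_option autoImplicit false
set_option linter.style.haveILetI false
universe u
attribute [local instance] HasDerivedCategory.standard
open FlatMor

namespace Groth.Agent.S1491

open AlgebraicGeometry CategoryTheory Limits in
/-- Let f : X → Y and g : Y → Z be local complete intersection morphisms, in the affine-local sense that
all ring maps between affine opens are local complete intersection homomorphisms. Then f ≫ g is a
local complete intersection morphism. -/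
theorem result {X Y Z : Scheme.{u}} (f : X ⟶ Y) (g : Y ⟶ Z)
    (hf : (∀ (U : X.Opens) (V : Y.Opens) (hU : IsAffineOpen U) (hV : IsAffineOpen V) (hUV : U ≤ f ⁻¹ᵁ V),
        letI := (f.appLE V U hUV).hom.toAlgebra
        LCI.IsLCI Γ(Y, V) Γ(X, U)))
    (hg : (∀ (U : Y.Opens) (V : Z.Opens) (hU : IsAffineOpen U) (hV : IsAffineOpen V) (hUV : U ≤ g ⁻¹ᵁ V),
        letI := (g.appLE V U hUV).hom.toAlgebra
        LCI.IsLCI Γ(Z, V) Γ(Y, U))) :
    (∀ (U : X.Opens) (V : Z.Opens) (hU : IsAffineOpen U) (hV : IsAffineOpen V) (hUV : U ≤ (f ≫ g) ⁻¹ᵁ V),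
        letI := ((f ≫ g).appLE V U hUV).hom.toAlgebra
        LCI.IsLCI Γ(Z, V) Γ(X, U)) := by
  exact (Groth.L07.KoszulChart.forall_isLCI_iff (f ≫ g)).mpr fun x =>
    Groth.L07.KoszulChart.isKoszulAt_comp f g x ((Groth.L07.KoszulChart.forall_isLCI_iff f).mp hf x)
      ((Groth.L07.KoszulChart.forall_isLCI_iff g).mp hg _)

end Groth.Agent.S1491
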