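import Groth.Statements.S14925
import Groth.Agent.L24.PerfModel.Pic
import Groth.Prelude.Def_PicGrp

set_option autoImplicit false
set_option backward.isDefEq.respectTransparency.types false
universe u
open CategoryTheory AlgebraicGeometry
open PerfSch

namespace Groth.Agent.S14925

/-- Let p be a prime and X a quasi-compact quasi-separated scheme of characteristic p. Let π : X' ⟶ X be
a perfection of X: X' is a perfect scheme of characteristic p (its absolute Frobenius is an
isomorphism) and every morphism from a perfect scheme of characteristic p to X factors uniquely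
through π. For an invertible O_X-module L, the pullback π^*L is isomorphic to the structure sheaf of
X' if and only if some tensor power L^{⊗ p^n}, n ≥ 0, is isomorphic to the structure sheaf of X.
(The published statement is that pullback along π induces an isomorphism Pic(X)[1/p] ≅ Pic(X'); this
row is the assertion that the kernel of Pic(X) → Pic(X') is the p-power torsion.) -/
theorem result (p : ℕ) [Fact p.Prime] {X XP : Scheme.{u}} [FrobSch.IsCharP X p] [FrobSch.IsCharP XP p]
    [CompactSpace X] [QuasiSeparatedSpace X] (πX : XP ⟶ X) (hX : FrobSch.IsPerfection πX p)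
    (L : X.Modules) (hL : PicF.IsInvertible L) :
    PicF.IsTrivialCl (PicF.pullCl πX (PicF.cl L)) ↔
      ∃ n : ℕ, PicF.IsTrivialCl (PicF.cl (CohB1.tensorPow L (p ^ n))) := by
  obtain ⟨θ, hθ⟩ := Groth.L09.Perf.exists_iso hX (Groth.L24.PerfModel.isPerfection_PF p X)
  have key : Nonempty ((Scheme.Modules.pullback πX).obj L ≅ Coh.structureModule XP) ↔
      Nonempty ((Scheme.Modules.pullback (Groth.L24.PerfModel.q p X 0)).obj L ≅
        Coh.structureModule (Groth.L24.PerfModel.PF p X)) := by
    constructor
    · rintro ⟨e⟩
      have h : θ.inv ≫ πX = Groth.L24.PerfModel.q p X 0 := by rw [← hθ, Iso.inv_hom_id_assoc]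
      exact ⟨(Scheme.Modules.pullbackCongr h.symm).app L ≪≫
        (Scheme.Modules.pullbackComp θ.inv πX).symm.app L ≪≫
        (Scheme.Modules.pullback θ.inv).mapIso e ≪≫ Groth.L29.LocFree.pullbackUnitIso θ.inv⟩
    · rintro ⟨e⟩
      exact ⟨(Scheme.Modules.pullbackCongr hθ.symm).app L ≪≫
        (Scheme.Modules.pullbackComp θ.hom (Groth.L24.PerfModel.q p X 0)).symm.app L ≪≫
        (Scheme.Modules.pullback θ.hom).mapIso e ≪≫ Groth.L29.LocFree.pullbackUnitIso θ.hom⟩
  refine ((PicGrp.cl_eq_cl_iff _ _).trans key).trans
    ((Groth.L24.PerfModel.nonempty_pullback_iso_unit_iff p X hL).trans ?_)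
  exact exists_congr fun n => (PicGrp.cl_eq_cl_iff _ _).symm

end Groth.Agent.S14925
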