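import Groth.Statements.S14926
import Groth.Agent.L24.PerfModel.Pic
import Groth.Prelude.Def_PicGrp

set_option autoImplicit false
set_option backward.isDefEq.respectTransparency.types false
universe u
open CategoryTheory AlgebraicGeometry
open PerfSch

namespace Groth.Agent.S14926

/-- Let p be a prime and X a quasi-compact quasi-separated scheme of characteristic p. Let π : X' ⟶ X be
a perfection of X: X' is a perfect scheme of characteristic p (its absolute Frobenius is an
isomorphism) and every morphism from a perfect scheme of characteristic p to X factors uniquely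
through π. For every invertible O_{X'}-module M there are n ≥ 0 and an invertible O_X-module L with
M^{⊗ p^n} isomorphic to π^*L. (The published statement is that pullback along π induces an
isomorphism Pic(X)[1/p] ≅ Pic(X'); this row is the assertion that every class in Pic(X') has a
p^n-th multiple in the image of Pic(X).) -/
theorem result (p : ℕ) [Fact p.Prime] {X XP : Scheme.{u}} [FrobSch.IsCharP X p] [FrobSch.IsCharP XP p]
    [CompactSpace X] [QuasiSeparatedSpace X] (πX : XP ⟶ X) (hX : FrobSch.IsPerfection πX p)
    (M : XP.Modules) (hM : PicF.IsInvertible M) :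
    ∃ (n : ℕ) (L : X.Modules), PicF.IsInvertible L ∧
      PicF.cl (CohB1.tensorPow M (p ^ n)) = PicF.pullCl πX (PicF.cl L) := by
  obtain ⟨θ, hθ⟩ := Groth.L09.Perf.exists_iso hX (Groth.L24.PerfModel.isPerfection_PF p X)
  obtain ⟨n, L, hL, ⟨e⟩⟩ := Groth.L24.PerfModel.exists_pow_iso_pullback p X
    (M := (Scheme.Modules.pullback θ.inv).obj M) (Groth.L18.Ample.isInvertible_pullback θ.inv hM)
  refine ⟨n, L, hL, (PicGrp.cl_eq_cl_iff _ _).2 ⟨?_⟩⟩
  exact ((Scheme.Modules.pullbackId XP).app _).symm ≪≫
    (Scheme.Modules.pullbackCongr θ.hom_inv_id.symm).app _ ≪≫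
    (Scheme.Modules.pullbackComp θ.hom θ.inv).symm.app _ ≪≫
    (Scheme.Modules.pullback θ.hom).mapIso (Groth.L18.Ample.pullPow θ.inv M (p ^ n) ≪≫ e) ≪≫
    (Scheme.Modules.pullbackComp θ.hom (Groth.L24.PerfModel.q p X 0)).app L ≪≫
    (Scheme.Modules.pullbackCongr hθ).app L

end Groth.Agent.S14926
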