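import Groth.Statements.S14930
import Groth.Agent.L15.Frob.Sch
-- import your own Groth.Agent.* helpers here

set_option autoImplicit false
universe u
open CategoryTheory CategoryTheory.Limits AlgebraicGeometry
open Variety

namespace Groth.Agent.S14930

/-- Let p be a prime, S a scheme of characteristic p (p is zero in the structure sheaf) and f : X → S a
morphism of schemes. Then the relative Frobenius F_{X/S} : X → X^(p), where X^(p) = X ×_{S,F_S} S is
the base change of X along the absolute Frobenius of S and F_{X/S} is the morphism over S whose
composite with the projection X^(p) → X is the absolute Frobenius of X, is a universal homeomorphism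
(every base change of it is a homeomorphism), is integral, and induces a purely inseparable
extension of residue fields at every point of X. -/
theorem result (p : ℕ) [Fact p.Prime]
    {X S : Scheme.{u}} [FrobSch.IsCharP S p] (f : X ⟶ S) :
    FlatMor.IsUnivHomeo (FrobSch.relFrob f p) ∧ IsIntegralHom (FrobSch.relFrob f p) ∧
      ∀ x : X, ((FrobSch.relFrob f p).residueFieldMap x).hom.IsPurelyInseparable := by
  exact ⟨Groth.L15.Frob.isUnivHomeo_relFrob p f,
    Groth.L20.isIntegralHom_of_isUnivHomeo (Groth.L15.Frob.isUnivHomeo_relFrob p f),
    Groth.L15.Frob.isPurelyInseparable_residueFieldMap (Groth.L15.Frob.isUnivHomeo_relFrob p f)⟩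

end Groth.Agent.S14930
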