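import Groth.Statements.S14933
import Groth.Agent.L19.OmegaSh.Rebase

set_option autoImplicit false
set_option backward.isDefEq.respectTransparency.types false
set_option backward.isDefEq.respectTransparency false
set_option linter.style.haveILetI false
universe u
open CategoryTheory CategoryTheory.Limits AlgebraicGeometry
open Variety

namespace Groth.Agent.S14933

/-- Let p be a prime, S a scheme of characteristic p (p is zero in the structure sheaf) and f : X → S a
morphism of schemes, with relative Frobenius F_{X/S} : X → X^(p) = X ×_{S,F_S} S over S. Then the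
sheaf of differentials of X over S is also the sheaf of differentials of X over X^(p): if Ω is an
O_X-module and d : O_X → Ω a universal S-derivation, then d kills every section coming from X^(p),
i.e. there is a derivation O_X → Ω relative to F_{X/S} with the same values as d, and that
derivation is universal among derivations relative to F_{X/S}. -/
theorem result (p : ℕ) [Fact p.Prime]
    {X S : Scheme.{u}} [FrobSch.IsCharP S p] (f : X ⟶ S)
    (Ω : X.Modules) (d : OmegaSh.Der f Ω) (hd : OmegaSh.IsUniversal d) :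
    ∃ d' : OmegaSh.Der (FrobSch.relFrob f p) Ω,
      (∀ (U : X.Opens) (s : Γ(X, U)), d'.app U s = d.app U s) ∧ OmegaSh.IsUniversal d' := by
  haveI : FrobSch.IsCharP X p := FrobSch.IsCharP.of_hom f p
  have hp : ∀ (U : X.Opens) (a : Γ(X, U)), d.app U (a ^ p) = 0 := by
    intro U a
    obtain ⟨m, hm⟩ := Nat.exists_eq_succ_of_ne_zero (Fact.out : p.Prime).ne_zero
    have h0 : ((m + 1 : ℕ) : Γ(X, U)) = 0 := by
      rw [← Nat.succ_eq_add_one, ← hm]
      exact FrobSch.natCast_eq_zero_app X p U
    rw [hm, Nat.succ_eq_add_one, Groth.L19.OmegaSh.der_pow_succ, h0, zero_mul, zero_smul]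
  have hh : ∀ U : X.affineOpens, Groth.L19.OmegaSh.Good f U →
      Groth.L19.OmegaSh.dPt d U ≫ FrobSch.relFrob f p =
        (Spec.map (Groth.L19.OmegaSh.inlL Ω U.1) ≫ U.2.fromSpec) ≫ FrobSch.relFrob f p := by
    intro U hU
    refine pullback.hom_ext ?_ ?_
    · rw [Category.assoc, Category.assoc, FrobSch.relFrob_fst]
      have h1 := Groth.L19.OmegaSh.prL_dPt_comp d U (FrobSch.frob X p)
      have h2 : Spec.map (Groth.L19.OmegaSh.prL Ω U.1) ≫
          (Spec.map (Groth.L19.OmegaSh.inlL Ω U.1) ≫ U.2.fromSpec) ≫ FrobSch.frob X p =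
            U.2.fromSpec ≫ FrobSch.frob X p := by
        rw [Category.assoc, ← Spec.map_comp_assoc, Groth.L19.OmegaSh.inlL_prL, Spec.map_id, Category.id_comp]
      have hU' : U.1 ≤ FrobSch.frob X p ⁻¹ᵁ U.1 := fun x hx => hx
      refine Groth.L19.OmegaSh.point_ext U.2 _ _ (FrobSch.frob X p) h1 h2 U.2
        (Groth.L19.OmegaSh.top_le_of_prL _ _ h1 hU') (Groth.L19.OmegaSh.top_le_of_prL _ _ h2 hU') hU' fun a => ?_
      rw [Groth.L19.OmegaSh.μ_dPt_comp d U (FrobSch.frob X p) hU' a, FrobSch.frob_app, hp]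
      refine (map_zero _).trans (Eq.symm ?_)
      have e0 := Groth.L19.OmegaSh.top_le_of_prL _ _ h2 hU'
      refine (Groth.L19.OmegaSh.μ_comp Ω _ (FrobSch.frob X p) (W := FrobSch.frob X p ⁻¹ᵁ U.1)
        (e0.trans (Scheme.Hom.comp_preimage _ _ _).le) le_rfl e0 a).trans ?_
      rw [Groth.L19.OmegaSh.μ_specMap U.2 _ _ hU']
      exact Groth.L19.OmegaSh.snd_mk Ω _ _
    · rw [Category.assoc, Category.assoc, FrobSch.relFrob_snd]
      exact Groth.L19.OmegaSh.dPt_base d hU
  have hD := Groth.L19.OmegaSh.der_app_of_dPt_comp d (FrobSch.relFrob f p) _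
    Groth.L19.OmegaSh.exists_good hh
  exact ⟨Groth.L19.OmegaSh.rebase d _ hD, fun U s => rfl,
    Groth.L19.OmegaSh.isUniversal_rebase hd _ (pullback.snd f (FrobSch.frob S p)) (FrobSch.relFrob_snd f p) hD⟩

end Groth.Agent.S14933
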