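import Groth.Statements.S14942
import Groth.Agent.L26.AV.SimpleDomain

set_option autoImplicit false
universe u
open CategoryTheory MonoidalCategory CartesianMonoidalCategory MonObj GrpObj AlgebraicGeometry
open AbVar

namespace Groth.Agent.S14942

open Groth.Agent.AV Polynomial

/-- Part 1: let A be a simple abelian variety over a finite field k with q elements — a proper,
geometrically integral commutative group scheme over k whose only abelian subvarieties over k
(geometrically integral closed subgroup schemes) are the trivial subgroup and A itself — with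
q-Frobenius endomorphism π_A (the identity on points, the q-th power map on sections; a
homomorphism). Let Ω be an algebraic closure of k, l a prime invertible in k, and assume (as is the
case) that the l-adic Tate module of Ω-points T_l A is free of finite rank over ℤ_l. Then the
characteristic polynomial of T_l(π_A), which has rational coefficients, is a power of the minimal
polynomial of π_A over ℚ: viewed over ℚ_l it equals h^n for some polynomial h with rational
coefficients irreducible over ℚ and some n. -/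
theorem result (k Ω : Type u) [Field k] [Finite k] [Field Ω] [Algebra k Ω] [IsAlgClosure k Ω]
    (l : ℕ) [Fact l.Prime] (hl : (l : k) ≠ 0) (A : Over (Spec (CommRingCat.of k)))
    [GrpObj A] [IsCommMonObj A] [IsProper A.hom] [GeometricallyIntegral A.hom]
    (hsimple : ∀ (B : Over (Spec (CommRingCat.of k))) [GrpObj B] [GeometricallyIntegral B.hom] (i : B ⟶ A) [IsMonHom i]
      [IsClosedImmersion i.left], Subsingleton B.left ∨ IsIso i)
    (πA : A ⟶ A) [IsMonHom πA] (hπAb : πA.left.base = 𝟙 _)
    (hπAle : ∀ U : A.left.Opens, U ≤ πA.left ⁻¹ᵁ U)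
    (hπAapp : ∀ (U : A.left.Opens) (s : Γ(A.left, U)), (πA.left.appLE U U (hπAle U)).hom s = s ^ Nat.card k)
    [Module.Free ℤ_[l] (AbDual.TateMod A l (SGA7.pt Ω))] [Module.Finite ℤ_[l] (AbDual.TateMod A l (SGA7.pt Ω))] :
    ∃ (h : Polynomial ℚ) (n : ℕ), Irreducible h ∧
      ((AbDual.tateMapₗ (l := l) (T := SGA7.pt Ω) πA).charpoly).map (algebraMap ℤ_[l] ℚ_[l]) =
        (h.map (algebraMap ℚ ℚ_[l])) ^ n := by
  haveI : IsAlgClosed Ω := IsAlgClosure.isAlgClosed k
  let φ : EndAV.End A := EndAV.End.of πA
  obtain ⟨P, -, -, hT, -⟩ := CharTateExt.exists_char Ω πA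
  have hP := (hT l hl).1
  obtain ⟨g, -, hg⟩ := Groth.L08.GrpDim.exists_dim A
  obtain ⟨hm, hd⟩ := CharMin.natDegree_char Ω l hl hg _ P hP
  obtain ⟨hdvd, hroots⟩ := CharMin.minpoly_dvd_and_roots Ω l hl φ P hP
  obtain ⟨ν, hνm, hν, hν0⟩ := CharMin.exists_int_min Ω l hl φ
  rw [hP]
  have hfin : ∀ (R : Polynomial ℤ), (R.map (Int.castRingHom ℤ_[l])).map (algebraMap ℤ_[l] ℚ_[l]) =
      (R.map (Int.castRingHom ℚ)).map (algebraMap ℚ ℚ_[l]) := fun R => by
    rw [Polynomial.map_map, Polynomial.map_map]
    exact congrArg (fun f => R.map f) (RingHom.ext_int _ _)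
  rw [hfin]
  rcases Nat.eq_zero_or_pos P.natDegree with h0 | hpos
  · refine ⟨Polynomial.X, 0, Polynomial.irreducible_X, ?_⟩
    rw [pow_zero, hm.natDegree_eq_zero.1 h0, Polynomial.map_one, Polynomial.map_one]
  have hunit : ¬ IsUnit ν := fun hu => by
    obtain ⟨α, hα⟩ := IsAlgClosed.exists_root (P.map (Int.castRingHom ℂ)) (by
      rw [hm.degree_map]; exact (natDegree_pos_iff_degree_pos.1 hpos).ne')
    have h1 := hroots α (mem_roots'.2 ⟨(hm.map _).ne_zero, hα⟩)
    rw [← hν, hνm.eq_one_of_isUnit hu, Polynomial.map_one, map_one] at h1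
    exact one_ne_zero h1
  have hirrZ : Irreducible ν := by
    refine ⟨hunit, fun a b hab => ?_⟩
    have key : ∀ c d : Polynomial ℤ, ν = c * d → Polynomial.aeval φ c = 0 → IsUnit d := fun c d hcd hc => by
      have h1 : minpoly ℚ (EndAV.toEnd0 φ) ∣ c.map (Int.castRingHom ℚ) :=
        minpoly.dvd ℚ _ (by rw [CharMin.aeval_toEnd0, hc, map_zero])
      rw [← hν] at h1
      have hd0 : d ≠ 0 := fun h => hνm.ne_zero (by rw [hcd, h, mul_zero])
      have hc0 : c ≠ 0 := fun h => hνm.ne_zero (by rw [hcd, h, zero_mul])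
      have h2 := natDegree_le_of_dvd h1 ((Polynomial.map_ne_zero_iff Int.cast_injective).2 hc0)
      rw [natDegree_map_eq_of_injective Int.cast_injective, natDegree_map_eq_of_injective Int.cast_injective, hcd,
        natDegree_mul hc0 hd0] at h2
      have h3 : d.natDegree = 0 := by omega
      have h4 : c.leadingCoeff * d.leadingCoeff = 1 := by rw [← leadingCoeff_mul, ← hcd, hνm.leadingCoeff]
      rw [eq_C_of_natDegree_eq_zero h3] at h4 ⊢
      rw [leadingCoeff_C] at h4
      exact (IsUnit.of_mul_eq_one_right _ h4).map C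
    rcases SimpleDomain.eq_zero_or_eq_zero hsimple (Polynomial.aeval φ a) (Polynomial.aeval φ b)
      (by rw [← map_mul, ← hab, hν0]) with h | h
    · exact Or.inr (key a b hab h)
    · exact Or.inl (key b a (hab.trans (_root_.mul_comm a b)) h)
  have hirr : Irreducible (minpoly ℚ (EndAV.toEnd0 φ)) :=
    hν ▸ (hνm.irreducible_iff_irreducible_map_fraction_map (K := ℚ)).1 hirrZ
  have he := CharMin.eq_pow_of_irreducible (p := P.map (Int.castRingHom ℚ))
    (hν ▸ hνm.map _) hirr (hm.map _) (fun α hα => hroots α (by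
      rw [Polynomial.map_map] at hα
      rwa [RingHom.ext_int ((algebraMap ℚ ℂ).comp (Int.castRingHom ℚ)) (Int.castRingHom ℂ)] at hα))
  exact ⟨_, _, hirr, (congrArg (Polynomial.map (algebraMap ℚ ℚ_[l])) he).trans (Polynomial.map_pow _ _)⟩

end Groth.Agent.S14942
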