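import Groth.Statements.S14944
import Groth.Agent.L26.AV.FrobRH
import Groth.Agent.L26.AV.CharTateExt
import Groth.Agent.L26.Misc.CentralizerDim
import Mathlib.FieldTheory.Perfect

set_option autoImplicit false
universe u
open CategoryTheory MonoidalCategory CartesianMonoidalCategory MonObj GrpObj AlgebraicGeometry
open scoped TensorProduct
open AbVar

namespace Groth.Agent.S14944

open Groth.Agent.AV
open scoped MonObj

/-- Let A be an abelian variety over a finite field k with q elements (a proper, geometrically integral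
commutative group scheme over k), π_A its q-Frobenius endomorphism (the identity on points and the
q-th power map on sections; a homomorphism), Ω an algebraic closure of k, and l₁, l₂ primes
invertible in k; assume (as is the case) that the l_i-adic Tate modules of Ω-points are free of
finite rank. Then the dimension over ℚ_l of the space of ℚ_l-linear endomorphisms of V_l(A) = ℚ_l
⊗_{ℤ_l} T_l(A) commuting with V_l(π_A) — the endomorphisms commuting with the Galois action — does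
not depend on l: it is the same number for l₁ and l₂. -/
theorem result (k Ω : Type u) [Field k] [Finite k] [Field Ω] [Algebra k Ω] [IsAlgClosure k Ω]
    (A : Over (Spec (CommRingCat.of k)))
    [GrpObj A] [IsCommMonObj A] [IsProper A.hom] [GeometricallyIntegral A.hom]
    (πA : A ⟶ A) [IsMonHom πA] (hπAb : πA.left.base = 𝟙 _)
    (hπAle : ∀ U : A.left.Opens, U ≤ πA.left ⁻¹ᵁ U)
    (hπAapp : ∀ (U : A.left.Opens) (s : Γ(A.left, U)), (πA.left.appLE U U (hπAle U)).hom s = s ^ Nat.card k)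
    (l₁ l₂ : ℕ) [Fact l₁.Prime] [Fact l₂.Prime] (h₁ : (l₁ : k) ≠ 0) (h₂ : (l₂ : k) ≠ 0)
    [Module.Free ℤ_[l₁] (AbDual.TateMod A l₁ (SGA7.pt Ω))] [Module.Finite ℤ_[l₁] (AbDual.TateMod A l₁ (SGA7.pt Ω))]
    [Module.Free ℤ_[l₂] (AbDual.TateMod A l₂ (SGA7.pt Ω))] [Module.Finite ℤ_[l₂] (AbDual.TateMod A l₂ (SGA7.pt Ω))] :
    Module.finrank ℚ_[l₁] (LinearMap.ker (LinearMap.lcomp ℚ_[l₁] _ ((AbDual.tateMapₗ (l := l₁) (T := SGA7.pt Ω) πA).baseChange ℚ_[l₁]) -
          LinearMap.llcomp ℚ_[l₁] _ _ _ ((AbDual.tateMapₗ (l := l₁) (T := SGA7.pt Ω) πA).baseChange ℚ_[l₁]) :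
        Module.End ℚ_[l₁] (ℚ_[l₁] ⊗[ℤ_[l₁]] AbDual.TateMod A l₁ (SGA7.pt Ω)) →ₗ[ℚ_[l₁]]
          Module.End ℚ_[l₁] (ℚ_[l₁] ⊗[ℤ_[l₁]] AbDual.TateMod A l₁ (SGA7.pt Ω)))) =
      Module.finrank ℚ_[l₂] (LinearMap.ker (LinearMap.lcomp ℚ_[l₂] _ ((AbDual.tateMapₗ (l := l₂) (T := SGA7.pt Ω) πA).baseChange ℚ_[l₂]) -
          LinearMap.llcomp ℚ_[l₂] _ _ _ ((AbDual.tateMapₗ (l := l₂) (T := SGA7.pt Ω) πA).baseChange ℚ_[l₂]) :
        Module.End ℚ_[l₂] (ℚ_[l₂] ⊗[ℤ_[l₂]] AbDual.TateMod A l₂ (SGA7.pt Ω)) →ₗ[ℚ_[l₂]]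
          Module.End ℚ_[l₂] (ℚ_[l₂] ⊗[ℤ_[l₂]] AbDual.TateMod A l₂ (SGA7.pt Ω)))) := by
  haveI : IsAlgClosed Ω := IsAlgClosure.isAlgClosed k
  obtain ⟨m, -, hm0, hsq, -⟩ := FrobRH.exists_mu πA (Nat.card k)
    (FrobRH.pullPow_of_frobenius πA (Nat.card k) hπAle hπAapp) Nat.card_pos
  obtain ⟨P, -, -, hT, -⟩ := CharTateExt.exists_char Ω πA
  have key : ∀ (l : ℕ) [Fact l.Prime], (l : k) ≠ 0 →
      ∀ [Module.Free ℤ_[l] (AbDual.TateMod A l (SGA7.pt Ω))] [Module.Finite ℤ_[l] (AbDual.TateMod A l (SGA7.pt Ω))],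
      Module.finrank ℚ_[l] (LinearMap.ker (LinearMap.lcomp ℚ_[l] _ ((AbDual.tateMapₗ (l := l) (T := SGA7.pt Ω) πA).baseChange ℚ_[l]) -
          LinearMap.llcomp ℚ_[l] _ _ _ ((AbDual.tateMapₗ (l := l) (T := SGA7.pt Ω) πA).baseChange ℚ_[l]) :
        Module.End ℚ_[l] (ℚ_[l] ⊗[ℤ_[l]] AbDual.TateMod A l (SGA7.pt Ω)) →ₗ[ℚ_[l]]
          Module.End ℚ_[l] (ℚ_[l] ⊗[ℤ_[l]] AbDual.TateMod A l (SGA7.pt Ω)))) =
      CentralizerDim.pairCount (P.map (Int.castRingHom (AlgebraicClosure ℚ))).roots := by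
    intro l _ hl _ _
    have hsep : (m.map (algebraMap ℤ ℚ_[l])).Separable := by
      have h : (m.map (Int.castRingHom ℚ)).Separable := PerfectField.separable_iff_squarefree.2 hsq
      have h2 := h.map (f := algebraMap ℚ ℚ_[l])
      rwa [Polynomial.map_map, RingHom.ext_int ((algebraMap ℚ ℚ_[l]).comp (Int.castRingHom ℚ)) (algebraMap ℤ ℚ_[l])] at h2
    refine CentralizerDim.finrank_centralizer _ (m.map (algebraMap ℤ ℚ_[l])) hsep ?_ P ?_
    · rw [Polynomial.aeval_map_algebraMap]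
      show Polynomial.aeval (((Module.End.baseChangeHom ℤ_[l] ℚ_[l] (AbDual.TateMod A l (SGA7.pt Ω))).toRingHom.comp
        (EndAV.End.tateRep l (SGA7.pt Ω))) (EndAV.End.of πA)) m = 0
      rw [FrobRH.aeval_ringHom, hm0, map_zero]
    · have h := (hT l hl).1
      rw [LinearMap.charpoly_baseChange, h, Polynomial.map_map]
      exact congrArg (fun f => P.map f) (RingHom.ext_int _ _)
  rw [key l₁ h₁, key l₂ h₂]

end Groth.Agent.S14944
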