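import Groth.Statements.S14947
import Groth.Agent.L26.AV.CharTateExt

set_option autoImplicit false
universe u
open CategoryTheory MonoidalCategory CartesianMonoidalCategory MonObj GrpObj AlgebraicGeometry
open AbVar

namespace Groth.Agent.S14947

open Groth.Agent.AV

/-- Degree as determinant: let A be an abelian variety over a finite field k (a proper, geometrically
integral commutative group scheme over k), Ω an algebraic closure of k, l a prime invertible in k,
and f an endomorphism of A (a homomorphism); assume (as is the case) that the l-adic Tate module of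
Ω-points T_l A is free of finite rank over ℤ_l. If f is finite (an isogeny), its degree — the rank
of the finite flat morphism f at any point of A — equals the determinant of T_l(f); if f is not
finite, the determinant of T_l(f) is 0 (the degree of a non-isogeny being 0 by convention). (The
published statement is the l-independence of the characteristic polynomial of Frobenius; this row
states the identity deg f = det T_l(f) that its proof establishes for every endomorphism.) -/
theorem result (k Ω : Type u) [Field k] [Finite k] [Field Ω] [Algebra k Ω] [IsAlgClosure k Ω]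
    (l : ℕ) [Fact l.Prime] (hl : (l : k) ≠ 0) (A : Over (Spec (CommRingCat.of k)))
    [GrpObj A] [IsCommMonObj A] [IsProper A.hom] [GeometricallyIntegral A.hom]
    (f : A ⟶ A) [IsMonHom f]
    [Module.Free ℤ_[l] (AbDual.TateMod A l (SGA7.pt Ω))] [Module.Finite ℤ_[l] (AbDual.TateMod A l (SGA7.pt Ω))] :
    (IsFinite f.left → ∀ a : A.left,
        ((Scheme.Hom.finrank f.left a : ℕ) : ℤ_[l]) = LinearMap.det (AbDual.tateMapₗ (l := l) (T := SGA7.pt Ω) f)) ∧
      (¬ IsFinite f.left → LinearMap.det (AbDual.tateMapₗ (l := l) (T := SGA7.pt Ω) f) = 0) := by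
  haveI : IsAlgClosed Ω := IsAlgClosure.isAlgClosed k
  obtain ⟨P, -, hv, h, hd⟩ := CharTateExt.exists_char Ω f
  have hc : (AbDual.tateMapₗ (l := l) (T := SGA7.pt Ω) f).charpoly = P.map (Int.castRingHom ℤ_[l]) := (h l hl).1
  have hdet : LinearMap.det (AbDual.tateMapₗ (l := l) (T := SGA7.pt Ω) f) = ((P.eval 0 : ℤ) : ℤ_[l]) := by
    have e : Module.finrank ℤ_[l] (AbDual.TateMod A l (SGA7.pt Ω)) = P.natDegree := by
      rw [← LinearMap.charpoly_natDegree (AbDual.tateMapₗ (l := l) (T := SGA7.pt Ω) f), hc,
        Polynomial.natDegree_map_eq_of_injective (RingHom.injective_int _)]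
    rw [LinearMap.det_eq_sign_charpoly_coeff, e, hd.neg_one_pow, _root_.one_mul, hc, Polynomial.coeff_map,
      Polynomial.coeff_zero_eq_eval_zero]
    rfl
  have h0 := hv 0
  simp only [neg_zero, zpow_zero, _root_.mul_one] at h0
  refine ⟨fun hf a => ?_, fun hf => ?_⟩
  · rw [hdet, ← h0.1 hf a, Int.cast_natCast]
  · rw [hdet, h0.2 hf, Int.cast_zero]

end Groth.Agent.S14947
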