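import Groth.Statements.S1495
import Groth.Agent.L19.Limit.AmpleNearPoint

set_option autoImplicit false
set_option backward.isDefEq.respectTransparency.types false
set_option backward.isDefEq.respectTransparency false
set_option linter.style.haveILetI false
universe u
attribute [local instance] HasDerivedCategory.standard
open FlatMor

namespace Groth.Agent.S1495

open AlgebraicGeometry CategoryTheory Limits in
/-- Let f : X → Y be proper, L an invertible O_X-module and y a point such that the pullback of L to the
fibre X_y is ample. Then there is an open neighbourhood V of y such that L restricted to f⁻¹(V) is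
ample relative to f⁻¹(V) → V. -/
theorem result {X Y : Scheme.{u}} (f : X ⟶ Y) [IsProper f] (L : X.Modules) (hL : PicF.IsInvertible L)
    (y : Y) (hy : CohB1.IsAmple ((Scheme.Modules.pullback (f.fiberι y)).obj L)) :
    ∃ V : Y.Opens, y ∈ V ∧ RelAmple.IsRelAmple (f ∣_ V) (L.restrict (f ⁻¹ᵁ V).ι) := by
  open Groth.L18.Ample Groth.L19.Limit in
  obtain ⟨U, hU, hyU, -⟩ := exists_isAffineOpen_mem_and_subset (X := Y) (x := y) (U := ⊤) trivial
  haveI : IsAffine (U : Scheme.{u}) := hU
  haveI : IsProper (f ∣_ U) :=
    MorphismProperty.of_isPullback (isPullback_morphismRestrict f U).flip inferInstance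
  obtain ⟨V, hV, hyV, hA⟩ := exists_nhd_isAmple_of_fibre (f ∣_ U) _ (isInvertible_restrict hL (f ⁻¹ᵁ U))
    ⟨y, hyU⟩ ((mem_ampleLocus_restrict_iff f L hL U _).mpr hy)
  rw [isAmple_restrict_restrict_iff, isAmple_restrict_congr (image_morphismRestrict_preimage f U V)] at hA
  haveI : IsAffine ((U.ι ''ᵁ V : Y.Opens) : Scheme.{u}) := hV.image_of_isOpenImmersion _
  exact ⟨U.ι ''ᵁ V, ⟨⟨y, hyU⟩, hyV, rfl⟩, isRelAmple_of_isAmple hA⟩

end Groth.Agent.S1495
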