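import Groth.Statements.S14955
import Groth.Agent.L20.Pinch.Props
import Mathlib.Algebra.Category.Ring.Constructions

set_option autoImplicit false
universe u
open TensorProduct
open EtAlg

set_option linter.style.haveILetI false
set_option backward.isDefEq.respectTransparency.types false

namespace Groth.Agent.S14955

/-- Let B' = B ×_A A' be a fibre product of commutative rings with A' → A surjective. Then the square is
also a pushout of commutative rings: the canonical map B ⊗_{B'} A' → A is an isomorphism. -/
theorem result (B' B A' A : Type u) [CommRing B'] [CommRing B] [CommRing A'] [CommRing A]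
    [Algebra B' B] [Algebra B' A'] [Algebra B A] [Algebra A' A] [Algebra B' A] [IsScalarTower B' B A] [IsScalarTower B' A' A]
    (hsq : EtMil.IsFibreSquare B' B A' A) : Algebra.IsPushout B' B A' A := by
  have h : Groth.L20.Pinch.IsFib (algebraMap B' B) (algebraMap B' A') (algebraMap B A)
      (algebraMap A' A) :=
    ⟨by rw [← IsScalarTower.algebraMap_eq, ← IsScalarTower.algebraMap_eq], fun t h1 h2 => by
      obtain ⟨s, -, hu⟩ := hsq.2 0 0 (by rw [map_zero, map_zero])
      exact (hu t ⟨h1, h2⟩).trans (hu 0 ⟨map_zero _, map_zero _⟩).symm,
      fun x y e => (hsq.2 x y e).exists, hsq.1⟩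
  exact CommRingCat.isPushout_iff_isPushout.mp h.isPushout_ring.flip

end Groth.Agent.S14955
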