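import Groth.Statements.S14958
import Groth.Agent.L01.TorLES
import Mathlib.LinearAlgebra.TensorProduct.Prod
import Mathlib.CategoryTheory.Abelian.LeftDerived
import Mathlib.Algebra.Category.ModuleCat.Monoidal.Closed

set_option autoImplicit false
universe u
open TensorProduct CategoryTheory CategoryTheory.Limits
open EtAlg

namespace Groth.Agent.S14958

/-- Let B' = B ×_A A' be a fibre product of commutative rings with A' → A surjective and L' a B'-module.
Then L' is a fixed point of the glueing adjunction, i.e. the canonical map from L' to the compatible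
pairs in (B ⊗_{B'} L') × (A' ⊗_{B'} L') is injective (it is always surjective), if and only if the
map Tor_1(L', B) ⊕ Tor_1(L', A') → Tor_1(L', A) over B' induced by B → A and A' → A is surjective.
Here Tor_1(L', –) is the first left derived functor of L' ⊗_{B'} – on B'-modules. -/
theorem result (B' B A' A : Type u) [CommRing B'] [CommRing B] [CommRing A'] [CommRing A]
    [Algebra B' B] [Algebra B' A'] [Algebra B A] [Algebra A' A] [Algebra B' A] [IsScalarTower B' B A] [IsScalarTower B' A' A]
    (hsq : EtMil.IsFibreSquare B' B A' A)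
    (L' : Type u) [AddCommGroup L'] [Module B' L'] :
    (∀ l : L', ((1 : B) ⊗ₜ[B'] l : B ⊗[B'] L') = 0 → ((1 : A') ⊗ₜ[B'] l : A' ⊗[B'] L') = 0 → l = 0) ↔
    Epi (biprod.desc
      (((Tor (ModuleCat.{u} B') 1).obj (ModuleCat.of B' L')).map
        (ModuleCat.ofHom (IsScalarTower.toAlgHom B' B A).toLinearMap))
      (((Tor (ModuleCat.{u} B') 1).obj (ModuleCat.of B' L')).map
        (ModuleCat.ofHom (IsScalarTower.toAlgHom B' A' A).toLinearMap))) := by
  let a := (IsScalarTower.toAlgHom B' B A).toLinearMap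
  let c := (IsScalarTower.toAlgHom B' A' A).toLinearMap
  let i : B' →ₗ[B'] B × A' := (Algebra.linearMap B' B).prod (Algebra.linearMap B' A')
  let g : B × A' →ₗ[B'] A := a ∘ₗ LinearMap.fst B' B A' - c ∘ₗ LinearMap.snd B' B A'
  have hig : g ∘ₗ i = 0 := LinearMap.ext fun x => by
    show algebraMap B A (algebraMap B' B x) - algebraMap A' A (algebraMap B' A' x) = 0
    rw [← IsScalarTower.algebraMap_apply, ← IsScalarTower.algebraMap_apply, sub_self]
  let S : ShortComplex (ModuleCat.{u} B') := ShortComplex.mk (ModuleCat.ofHom i) (ModuleCat.ofHom g) (by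
    rw [← ModuleCat.ofHom_comp, hig]; rfl)
  have hS : S.ShortExact :=
    { exact := (ShortComplex.ShortExact.moduleCat_exact_iff_function_exact _).2 fun x => by
        constructor
        · intro hx
          obtain ⟨b', hb', -⟩ := hsq.2 x.1 x.2 (sub_eq_zero.1 hx)
          exact ⟨b', Prod.ext hb'.1 hb'.2⟩
        · rintro ⟨b', rfl⟩
          exact LinearMap.congr_fun hig b'
      mono_f := (ModuleCat.mono_iff_injective _).2 fun x y hxy => by
        obtain ⟨z, -, hz⟩ := hsq.2 (algebraMap B' B x) (algebraMap B' A' x) (by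
          rw [← IsScalarTower.algebraMap_apply, ← IsScalarTower.algebraMap_apply])
        exact (hz x ⟨rfl, rfl⟩).trans (hz y ⟨(congrArg Prod.fst hxy).symm, (congrArg Prod.snd hxy).symm⟩).symm
      epi_g := (ModuleCat.epi_iff_surjective _).2 fun x => by
        obtain ⟨y, rfl⟩ := hsq.1 x
        exact ⟨((0 : B), -y), by show algebraMap B A 0 - algebraMap A' A (-y) = _; simp⟩ }
  let T := (Tor (ModuleCat.{u} B') 1).obj (ModuleCat.of B' L')
  let T₀ := (Tor (ModuleCat.{u} B') 0).obj (ModuleCat.of B' L')
  haveI : T.Additive := by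
    obtain ⟨e⟩ := Groth.L01.TorLES.nonempty_tor_iso (projectiveResolution (ModuleCat.of B' L')) 1
    haveI : (Groth.L01.TorLES.cx (projectiveResolution (ModuleCat.of B' L')).complex).Additive :=
      ⟨fun {X Y u v} => by
        ext n : 1
        apply ModuleCat.hom_ext
        exact LinearMap.rTensor_add _ u.hom v.hom⟩
    exact Functor.additive_of_iso e.symm
  obtain ⟨-, -, δ, w₁, w₂, h₁, h₂⟩ := Groth.L01.TorLES.tor_longExact (ModuleCat.of B' L') S hS 0
  have hE : Epi (biprod.desc (T.map (ModuleCat.ofHom a)) (T.map (ModuleCat.ofHom c))) ↔ Epi (T.map S.g) := by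
    have ha : T.map (ModuleCat.ofHom a) = T.map (ModuleCat.ofHom (LinearMap.inl B' B A')) ≫ T.map S.g := by
      rw [← T.map_comp]; congr 1; ext x; simp [S, g]
    have hc : T.map (ModuleCat.ofHom c) = -(T.map (ModuleCat.ofHom (LinearMap.inr B' B A')) ≫ T.map S.g) := by
      rw [← T.map_comp, ← T.map_neg]; congr 1; ext x; simp [S, g]
    have hg : T.map S.g = T.map (ModuleCat.ofHom (LinearMap.fst B' B A')) ≫ T.map (ModuleCat.ofHom a) -
        T.map (ModuleCat.ofHom (LinearMap.snd B' B A')) ≫ T.map (ModuleCat.ofHom c) := by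
      rw [← T.map_comp, ← T.map_comp, ← T.map_sub]; congr 1
    constructor
    · intro h
      refine Preadditive.epi_of_cancel_zero _ fun {Z} k hk => ?_
      rw [← cancel_epi (biprod.desc (T.map (ModuleCat.ofHom a)) (T.map (ModuleCat.ofHom c)))]
      refine biprod.hom_ext' _ _ ?_ ?_ <;> simp [ha, hc, hk]
    · intro h
      refine Preadditive.epi_of_cancel_zero _ fun {Z} k hk => ?_
      have h1 := biprod.inl ≫= hk
      have h2 := biprod.inr ≫= hk
      simp only [biprod.inl_desc_assoc, biprod.inr_desc_assoc, comp_zero] at h1 h2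
      rw [← cancel_epi (T.map S.g), hg, Preadditive.sub_comp, Category.assoc, Category.assoc, h1, h2]
      simp
  have hM : Epi (T.map S.g) ↔ Mono (T₀.map S.f) := by
    refine ⟨fun h => ?_, fun h => ?_⟩
    · exact (ShortComplex.exact_iff_mono _ ((cancel_epi (T.map S.g)).1 (w₁.trans comp_zero.symm))).1 h₂
    · exact (ShortComplex.exact_iff_epi _ ((cancel_mono (T₀.map S.f)).1 (w₂.trans zero_comp.symm))).1 h₁
  let e := ((MonoidalCategory.tensoringLeft (ModuleCat.{u} B')).obj (ModuleCat.of B' L')).leftDerivedZeroIsoSelf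
  have hm : Mono (T₀.map S.f) ↔ Function.Injective (LinearMap.lTensor L' i) := by
    refine Iff.trans ?_ (ModuleCat.mono_iff_injective (ModuleCat.ofHom (LinearMap.lTensor L' i)))
    exact (MorphismProperty.monomorphisms _).arrow_mk_iso_iff
      (Arrow.isoMk (e.app S.X₁) (e.app S.X₂) (e.hom.naturality S.f).symm)
  rw [hE, hM, hm]
  have key : ∀ l : L', LinearMap.lTensor L' i (l ⊗ₜ[B'] (1 : B')) = 0 ↔
      ((1 : B) ⊗ₜ[B'] l = 0 ∧ (1 : A') ⊗ₜ[B'] l = 0) := by
    intro l
    rw [LinearMap.lTensor_tmul, ← (TensorProduct.prodRight B' B' L' B A').map_eq_zero_iff,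
      TensorProduct.prodRight_tmul, Prod.mk_eq_zero,
      ← (TensorProduct.comm B' L' B).map_eq_zero_iff, ← (TensorProduct.comm B' L' A').map_eq_zero_iff,
      TensorProduct.comm_tmul, TensorProduct.comm_tmul]
    simp [i]
  rw [injective_iff_map_eq_zero]
  constructor
  · intro h x hx
    obtain ⟨l, rfl⟩ : ∃ l, l ⊗ₜ[B'] (1 : B') = x := ⟨TensorProduct.rid B' L' x, by
      rw [← TensorProduct.rid_symm_apply, LinearEquiv.symm_apply_apply]⟩
    rw [h l ((key l).1 hx).1 ((key l).1 hx).2, TensorProduct.zero_tmul]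
  · intro h l h1 h2
    have := congrArg (TensorProduct.rid B' L') (h _ ((key l).2 ⟨h1, h2⟩))
    simpa using this

end Groth.Agent.S14958
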