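import Groth.Statements.S14964
import Mathlib.RingTheory.Ideal.Maps
import Mathlib.RingTheory.Ideal.Operations
import Mathlib.LinearAlgebra.Span.Basic

set_option autoImplicit false
universe u v w
open EtAlg

namespace Groth.Agent.S14964

/-- Let f : A → A' be a homomorphism of commutative rings, M an A-module and M' an A'-module together
with an A-linear map u : M → M' whose image generates M' over A' (so M' is a quotient of A' ⊗_A M).
Let I be an ideal of A such that the ideal of A' generated by f(I) consists of the elements f(i), i
∈ I. Then f(I) M' = u(I M) as subsets of M'; in particular u(I M) is an A'-submodule. -/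
theorem result (A : Type u) [CommRing A] (A' : Type v) [CommRing A'] [Algebra A A']
    (M : Type w) [AddCommGroup M] [Module A M] (M' : Type w) [AddCommGroup M'] [Module A' M'] [Module A M'] [IsScalarTower A A' M']
    (u : M →ₗ[A] M') (hu : Submodule.span A' (Set.range u) = ⊤)
    (I : Ideal A) (hI : ∀ a ∈ Ideal.map (algebraMap A A') I, ∃ i ∈ I, algebraMap A A' i = a) :
    ((Ideal.map (algebraMap A A') I) • (⊤ : Submodule A' M')).restrictScalars A = Submodule.map u (I • (⊤ : Submodule A M)) := by
  refine le_antisymm ?_ ?_
  · intro y hy
    rw [Submodule.restrictScalars_mem] at hy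
    refine Submodule.smul_induction_on hy (fun a ha z hzt => ?_) (fun z z' hz hz' => add_mem hz hz')
    ·
      have hz : z ∈ Submodule.span A' (Set.range u) := hu ▸ Submodule.mem_top
      suffices h : ∀ a ∈ Ideal.map (algebraMap A A') I, a • z ∈ Submodule.map u (I • (⊤ : Submodule A M)) from h a ha
      clear ha a hzt
      induction hz using Submodule.span_induction with
      | mem w hw =>
        intro a ha
        obtain ⟨m, rfl⟩ := hw
        obtain ⟨i, hi, rfl⟩ := hI a ha
        rw [algebraMap_smul, ← map_smul]
        exact Submodule.mem_map_of_mem (Submodule.smul_mem_smul hi Submodule.mem_top)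
      | zero => intro a _; rw [smul_zero]; exact zero_mem _
      | add w w' _ _ hw hw' => intro a ha; rw [smul_add]; exact add_mem (hw a ha) (hw' a ha)
      | smul c w _ hw => intro a ha; rw [smul_smul]; exact hw (a * c) (Ideal.mul_mem_right c _ ha)
  · rw [Submodule.map_smul'', Submodule.smul_le]
    intro a ha m hm
    rw [Submodule.restrictScalars_mem, ← algebraMap_smul A' a m]
    exact Submodule.smul_mem_smul (Ideal.mem_map_of_mem _ ha) Submodule.mem_top

end Groth.Agent.S14964
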