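import Groth.Statements.S14965
import Groth.Agent.L11.Az.Milnor
import Groth.Agent.S2019
import Groth.Agent.S2021

set_option autoImplicit false
universe u
open TensorProduct
open Brauer

namespace Groth.Agent.S14965

/-- Let B' = B ×_A A' be a fibre product of commutative rings with A' → A surjective, N an Azumaya
B-algebra, M' an Azumaya A'-algebra and φ : A ⊗_B N ≅ A ⊗_{A'} M' an isomorphism of A-algebras. If a
B'-algebra D' with B'-algebra homomorphisms π₁ : D' → N and π₂ : D' → M' is the glued algebra N ×_φ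
M', in the sense that (π₁, π₂) is injective with image the pairs (n, m') satisfying φ(1 ⊗ n) = 1 ⊗
m', then D' is an Azumaya B'-algebra. (The published statement is for Azumaya algebras on the
pushout scheme of a closed immersion and an affine morphism, glued as u_*B' ×_{h_*} f_*A; this row
is the case of an affine pushout.) -/
theorem result (B' B A' A : Type u) [CommRing B'] [CommRing B] [CommRing A'] [CommRing A]
    [Algebra B' B] [Algebra B' A'] [Algebra B A] [Algebra A' A] [Algebra B' A] [IsScalarTower B' B A] [IsScalarTower B' A' A]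
    (hsq : EtMil.IsFibreSquare B' B A' A)
    (N : Type u) [Ring N] [Algebra B N] [Algebra B' N] [IsScalarTower B' B N] [IsAzumaya B N]
    (M' : Type u) [Ring M'] [Algebra A' M'] [Algebra B' M'] [IsScalarTower B' A' M'] [IsAzumaya A' M']
    (φ : A ⊗[B] N ≃ₐ[A] A ⊗[A'] M')
    (D' : Type u) [Ring D'] [Algebra B' D'] (π₁ : D' →ₐ[B'] N) (π₂ : D' →ₐ[B'] M')
    (hinj : ∀ d : D', π₁ d = 0 → π₂ d = 0 → d = 0)
    (himg : ∀ (n : N) (m' : M'), φ ((1 : A) ⊗ₜ[B] n) = (1 : A) ⊗ₜ[A'] m' ↔ ∃ d : D', π₁ d = n ∧ π₂ d = m') :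
    IsAzumaya B' D' := by
  obtain ⟨hb1, hb2⟩ := Groth.Agent.S2019.result B' B A' A hsq N M' φ.toLinearEquiv
  obtain ⟨-, hproj⟩ := Groth.Agent.S2021.result B' B A' A hsq N M' φ.toLinearEquiv
  obtain ⟨hfin, hpr⟩ := hproj inferInstance inferInstance inferInstance inferInstance
  let g : D' →ₗ[B'] EtMil.glue B' φ.toLinearEquiv :=
    (π₁.toLinearMap.prod π₂.toLinearMap).codRestrict _ fun d ↦ (himg (π₁ d) (π₂ d)).2 ⟨d, rfl, rfl⟩
  have hg : Function.Bijective g := by
    refine ⟨(injective_iff_map_eq_zero g).2 fun d hd ↦ ?_, fun z ↦ ?_⟩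
    · have h := congrArg Subtype.val hd
      exact hinj d (congrArg Prod.fst h) (congrArg Prod.snd h)
    · obtain ⟨d, hd1, hd2⟩ := (himg z.1.1 z.1.2).1 z.2
      exact ⟨d, Subtype.ext (Prod.ext hd1 hd2)⟩
  let e := LinearEquiv.ofBijective g hg
  haveI : Module.Finite B' D' := Module.Finite.equiv e.symm
  haveI : Module.Projective B' D' := Module.Projective.of_equiv e.symm
  let F₁ : B ⊗[B'] D' →ₐ[B] N := Algebra.TensorProduct.lift (Algebra.ofId B N) π₁
    fun x d ↦ Algebra.commutes x (π₁ d)
  let F₂ : A' ⊗[B'] D' →ₐ[A'] M' := Algebra.TensorProduct.lift (Algebra.ofId A' M') π₂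
    fun x d ↦ Algebra.commutes x (π₂ d)
  have h1 : Function.Bijective F₁ := by
    have : (F₁ : B ⊗[B'] D' → N) =
        LinearMap.liftBaseChange B (EtMil.glueFst B' φ.toLinearEquiv) ∘ e.toLinearMap.baseChange B := by
      funext z
      induction z using TensorProduct.induction_on with
      | zero => simp
      | tmul b d => simp [F₁, e, g, EtMil.glueFst, Algebra.smul_def]
      | add a b ha hb => simp only [Function.comp_apply, map_add] at *; rw [ha, hb]
    rw [this]
    exact hb1.comp (e.baseChange B' B).bijective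
  have h2 : Function.Bijective F₂ := by
    have : (F₂ : A' ⊗[B'] D' → M') =
        LinearMap.liftBaseChange A' (EtMil.glueSnd B' φ.toLinearEquiv) ∘ e.toLinearMap.baseChange A' := by
      funext z
      induction z using TensorProduct.induction_on with
      | zero => simp
      | tmul b d => simp [F₂, e, g, EtMil.glueSnd, Algebra.smul_def]
      | add a b ha hb => simp only [Function.comp_apply, map_add] at *; rw [ha, hb]
    rw [this]
    exact hb2.comp (e.baseChange B' A').bijective
  haveI : IsAzumaya B (B ⊗[B'] D') := IsAzumaya.of_AlgEquiv B N _ (AlgEquiv.ofBijective F₁ h1).symm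
  haveI : IsAzumaya A' (A' ⊗[B'] D') := IsAzumaya.of_AlgEquiv A' M' _ (AlgEquiv.ofBijective F₂ h2).symm
  exact Groth.L11.Az.isAzumaya_of_pair hsq D'

end Groth.Agent.S14965
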