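import Groth.Statements.S14966
import Mathlib.RingTheory.Ideal.Quotient.Operations

set_option autoImplicit false
universe u
open EtAlg

namespace Groth.Agent.S14966

/-- Let A → A' be an injective homomorphism of commutative rings and let I ⊆ A be the conductor, i.e.
the annihilator of the A-module A'/A. Then the conductor square formed by A → A/I, A → A', A/I →
A'/IA' and A' → A'/IA' is a fibre product square of rings with A' → A'/IA' surjective: A = A/I
×_{A'/IA'} A'. (The published Lemma is for the conductor square of a finite modification of schemes;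
this row is the underlying statement for one injective ring map, which needs no finiteness.) -/
theorem result (A A' : Type u) [CommRing A] [CommRing A'] [Algebra A A']
    (hinj : Function.Injective (algebraMap A A')) :
    EtMil.IsFibreSquare A (A ⧸ Module.annihilator A (A' ⧸ LinearMap.range (Algebra.linearMap A A'))) A'
      (A' ⧸ Ideal.map (algebraMap A A') (Module.annihilator A (A' ⧸ LinearMap.range (Algebra.linearMap A A')))) := by
  set c := Module.annihilator A (A' ⧸ LinearMap.range (Algebra.linearMap A A'))
  have key : ∀ y ∈ Ideal.map (algebraMap A A') c, ∃ x ∈ c, algebraMap A A' x = y := by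
    have hc : ∀ x ∈ c, ∀ a' : A', ∃ r, algebraMap A A' r = algebraMap A A' x * a' := fun x hx a' => by
      have := Module.mem_annihilator.mp hx (Submodule.Quotient.mk a')
      rw [← Submodule.Quotient.mk_smul, Submodule.Quotient.mk_eq_zero, LinearMap.mem_range] at this
      obtain ⟨r, hr⟩ := this
      exact ⟨r, by rw [← Algebra.smul_def]; exact hr⟩
    intro y hy
    induction hy using Submodule.span_induction with
    | mem w hw => obtain ⟨x, hx, rfl⟩ := hw; exact ⟨x, hx, rfl⟩
    | zero => exact ⟨0, zero_mem _, map_zero _⟩
    | add w w' _ _ hw hw' =>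
      obtain ⟨x, hx, rfl⟩ := hw; obtain ⟨x', hx', rfl⟩ := hw'
      exact ⟨x + x', add_mem hx hx', map_add _ _ _⟩
    | smul a' w _ hw =>
      obtain ⟨x, hx, rfl⟩ := hw
      obtain ⟨r, hr⟩ := hc x hx a'
      refine ⟨r, Module.mem_annihilator.mpr fun q => ?_, by rw [smul_eq_mul, hr, mul_comm]⟩
      obtain ⟨q, rfl⟩ := Submodule.Quotient.mk_surjective _ q
      obtain ⟨t, ht⟩ := hc x hx (a' * q)
      rw [← Submodule.Quotient.mk_smul, Submodule.Quotient.mk_eq_zero]
      exact ⟨t, show algebraMap A A' t = r • q by rw [Algebra.smul_def, hr, ht]; ring⟩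
  refine ⟨Ideal.Quotient.mk_surjective, fun b a' h => ?_⟩
  obtain ⟨x, rfl⟩ := Ideal.Quotient.mk_surjective b
  obtain ⟨y, hy, hy'⟩ := key (a' - algebraMap A A' x) (Ideal.Quotient.eq.mp h.symm)
  refine ⟨x + y, ⟨?_, by rw [map_add, hy']; abel⟩, fun z hz => hinj (by rw [hz.2, map_add, hy']; abel)⟩
  exact Ideal.Quotient.eq.mpr (by simpa using hy)

end Groth.Agent.S14966
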