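import Groth.Prelude.Def_W4c2simpsonmod1HP
import Groth.Prelude.Def_Pic13
import Groth.Prelude.Def_Coh
import Groth.Prelude.Def_CohB1
import Groth.Prelude.Def_CurvBase
import Groth.Prelude.Def_Curv2
import Groth.Prelude.Def_Twist2
import Mathlib.Topology.KrullDimension
import Mathlib.Data.Complex.Basic
import Mathlib.Algebra.Polynomial.Eval.Defs
import Mathlib.Algebra.Polynomial.Degree.Defs
import Mathlib.LinearAlgebra.Dimension.Finrank
import Mathlib.Data.Nat.Factorial.Basic
import Groth.Agent.L11.GM.Simpson
-- import your own Groth.Agent.* helpers here

set_option autoImplicit false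
set_option backward.isDefEq.respectTransparency false
set_option backward.isDefEq.respectTransparency.types false
open CategoryTheory CategoryTheory.Limits AlgebraicGeometry
open Coherent

namespace Groth.Agent.S14969

/-- Over the complex numbers, fix natural numbers n, d and r with d at least 1. There is an integer B,
depending only on these, with the following property. Let E be a coherent sheaf on projective
n-space which is pure of dimension d (its support, and the support of every nonzero coherent
subsheaf, has dimension d), of rank r (d! times the degree-d coefficient of its Hilbert polynomial φ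
equals r), and slope-semistable (every nonzero coherent subsheaf has slope at most the slope μ of E,
slopes being ((d-1)! times the coefficient of degree d-1) divided by (d! times the coefficient of
degree d) of the Hilbert polynomial). Then for every integer j: if μ + j + B ≤ 0 the space of global
sections of E(j) is zero, and if μ + j + B ≥ 0 its dimension is at most r (μ + j + B)^d / d!. (The
published statement asserts one B depending only on r and d, for the fibres of every projective
morphism with a relatively very ample invertible sheaf; the published proof, which passes through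
sheaves on projective n-space, gives B depending also on n, which is what this row states, for
projective n-space itself; the restriction d ≥ 1 makes the slope meaningful.) -/
theorem result (n d r : ℕ) (hd : 1 ≤ d) :
    ∃ B : ℤ, ∀ (E : (CohB1.ProjSpace n ℂ).Modules) (φ : Polynomial ℚ), Coh.IsCoh E →
      (∀ m : ℤ, (Curv2.euler ℂ (CohB1.ProjSpace n ℂ) (CohB1.tensorMod E (Twist.twistProjSpace n ℂ m)) : ℚ) = φ.eval (m : ℚ)) →
      topologicalKrullDim ↥(CohB1.support E) = (d : WithBot ℕ∞) →
      W4c2simpsonmod1.rankOf d φ = r →
      (∀ (G : (CohB1.ProjSpace n ℂ).Modules) (ι : G ⟶ E), Mono ι → Coh.IsCoh G → ¬ IsZero G →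
        topologicalKrullDim ↥(CohB1.support G) = (d : WithBot ℕ∞) ∧
        ∀ ψ : Polynomial ℚ, (∀ m : ℤ, (Curv2.euler ℂ (CohB1.ProjSpace n ℂ) (CohB1.tensorMod G (Twist.twistProjSpace n ℂ m)) : ℚ) = ψ.eval (m : ℚ)) →
          W4c2simpsonmod1.slopeOf d ψ ≤ W4c2simpsonmod1.slopeOf d φ) →
      ∀ j : ℤ,
        (W4c2simpsonmod1.slopeOf d φ + j + B ≤ 0 →
          Module.finrank ℂ (Coh.HH (CohB1.ProjSpace n ℂ) (CohB1.tensorMod E (Twist.twistProjSpace n ℂ j)) 0) = 0) ∧
        (0 ≤ W4c2simpsonmod1.slopeOf d φ + j + B →
          (Module.finrank ℂ (Coh.HH (CohB1.ProjSpace n ℂ) (CohB1.tensorMod E (Twist.twistProjSpace n ℂ j)) 0) : ℚ) ≤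
            r * (W4c2simpsonmod1.slopeOf d φ + j + B) ^ d / (d.factorial : ℚ)) := by
  exact Groth.L11.GM.exists_sections_bound d r hd
end Groth.Agent.S14969
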