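import Groth.Prelude.Def_W4c2simpsonmod1HP
import Groth.Prelude.Def_Pic13
import Groth.Prelude.Def_Coh
import Groth.Prelude.Def_CohB1
import Groth.Prelude.Def_CurvBase
import Groth.Prelude.Def_Curv2
import Groth.Prelude.Def_Twist2
import Mathlib.Topology.KrullDimension
import Mathlib.Data.Complex.Basic
import Mathlib.Algebra.Polynomial.Eval.Defs
import Mathlib.Algebra.Polynomial.Degree.Defs
import Mathlib.LinearAlgebra.Dimension.Finrank
import Mathlib.Data.Nat.Factorial.Basic
import Groth.Agent.L11.GM.LePotierRat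
-- import your own Groth.Agent.* helpers here

set_option autoImplicit false
set_option backward.isDefEq.respectTransparency false
set_option backward.isDefEq.respectTransparency.types false
open CategoryTheory CategoryTheory.Limits AlgebraicGeometry
open Coherent

namespace Groth.Agent.S14970

/-- Over the complex numbers, fix n and a polynomial P with rational coefficients; let d be its degree
and write r(ψ) for d! times the degree-d coefficient of a polynomial ψ. There is an integer N₀ such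
that for every integer N ≥ N₀ the following holds. Let E be a coherent sheaf on projective n-space
with Hilbert polynomial P which is pure of dimension d (the support of E and of each nonzero
coherent subsheaf has dimension d) and p-semistable (for every nonzero coherent subsheaf G with
Hilbert polynomial ψ one has ψ(m)/r(ψ) ≤ P(m)/r(P) for all large integers m). Then for every nonzero
coherent subsheaf F of E with Hilbert polynomial ψ, the dimension of the space of global sections of
F(N) divided by r(ψ) is at most P(N)/r(P), and if equality holds then ψ(m)/r(ψ) = P(m)/r(P) for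
every integer m. (The published statement is for sheaves on the fibres of a projective morphism,
uniformly in the fibre; this row is the case of projective n-space itself, through which every fibre
embeds.) -/
theorem result (n : ℕ) (P : Polynomial ℚ) :
    ∃ N₀ : ℤ, ∀ N : ℤ, N₀ ≤ N → ∀ (E : (CohB1.ProjSpace n ℂ).Modules), Coh.IsCoh E →
      (∀ m : ℤ, (Curv2.euler ℂ (CohB1.ProjSpace n ℂ) (CohB1.tensorMod E (Twist.twistProjSpace n ℂ m)) : ℚ) = P.eval (m : ℚ)) →
      topologicalKrullDim ↥(CohB1.support E) = (P.natDegree : WithBot ℕ∞) →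
      (∀ (G : (CohB1.ProjSpace n ℂ).Modules) (ι : G ⟶ E), Mono ι → Coh.IsCoh G → ¬ IsZero G →
        topologicalKrullDim ↥(CohB1.support G) = (P.natDegree : WithBot ℕ∞) ∧
        ∀ ψ : Polynomial ℚ, (∀ m : ℤ, (Curv2.euler ℂ (CohB1.ProjSpace n ℂ) (CohB1.tensorMod G (Twist.twistProjSpace n ℂ m)) : ℚ) = ψ.eval (m : ℚ)) →
          W4c2simpsonmod1.RedLE P.natDegree ψ P) →
      ∀ (F : (CohB1.ProjSpace n ℂ).Modules) (ι : F ⟶ E), Mono ι → Coh.IsCoh F → ¬ IsZero F →
        ∀ ψ : Polynomial ℚ, (∀ m : ℤ, (Curv2.euler ℂ (CohB1.ProjSpace n ℂ) (CohB1.tensorMod F (Twist.twistProjSpace n ℂ m)) : ℚ) = ψ.eval (m : ℚ)) →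
          (Module.finrank ℂ (Coh.HH (CohB1.ProjSpace n ℂ) (CohB1.tensorMod F (Twist.twistProjSpace n ℂ N)) 0) : ℚ) / W4c2simpsonmod1.rankOf P.natDegree ψ ≤
              P.eval (N : ℚ) / W4c2simpsonmod1.rankOf P.natDegree P ∧
          ((Module.finrank ℂ (Coh.HH (CohB1.ProjSpace n ℂ) (CohB1.tensorMod F (Twist.twistProjSpace n ℂ N)) 0) : ℚ) / W4c2simpsonmod1.rankOf P.natDegree ψ =
              P.eval (N : ℚ) / W4c2simpsonmod1.rankOf P.natDegree P →
            ∀ m : ℤ, ψ.eval (m : ℚ) / W4c2simpsonmod1.rankOf P.natDegree ψ =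
              P.eval (m : ℚ) / W4c2simpsonmod1.rankOf P.natDegree P) := by
  obtain ⟨N₀, hN₀⟩ := Groth.L11.GM.exists_lps_rat.{0} n P.natDegree P
  refine ⟨(N₀ : ℤ), fun N hN E hE hP _ hG F ι hι hF hF0 ψ hψ => ?_⟩
  haveI := Groth.L22.Reg.isProper_over_proj (k := ℂ) (n := n)
  haveI := Groth.L11.Slope.noetherian_proj (k := ℂ) (n := n)
  have hev : ∀ {G : (CohB1.ProjSpace n ℂ).Modules} {q : Polynomial ℚ},
      (∀ m : ℤ, (Curv2.euler ℂ (CohB1.ProjSpace n ℂ) (CohB1.tensorMod G (Twist.twistProjSpace n ℂ m)) : ℚ) = q.eval (m : ℚ)) →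
      ∀ t : ℤ, (Groth.L22.Reg.chiP G t : ℚ) = q.eval (t : ℚ) := fun {G q} h t =>
    (congrArg (fun z : ℤ => (z : ℚ)) (Groth.L22.Reg.chiP_eq G t)).trans (h t)
  have hA := Groth.L11.Lemma179.assDim_of_isPure hE fun G g hg hc h0 => (hG G g hg hc h0).1
  have key := hN₀ ℂ E hE hA (hev hP) (fun G g hg hc h0 q hq => by
    haveI := hg
    have hE0 : ¬ IsZero E := fun hz => h0 (IsZero.of_mono g hz)
    obtain ⟨-, -, hP0⟩ := Groth.L11.GM.natDegree_alpha_of_eval hE hA hE0 (hev hP)
    obtain ⟨-, -, hq0⟩ := Groth.L11.GM.natDegree_alpha_of_eval hc (Groth.L11.Lemma179.assDim_of_mono g hA) h0 hq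
    obtain ⟨T, hT⟩ := (hG G g hg hc h0).2 q fun m =>
      (congrArg (fun z : ℤ => (z : ℚ)) (Groth.L22.Reg.chiP_eq G m)).symm.trans (hq m)
    refine ⟨T, fun t ht => ?_⟩
    have h := (div_le_div_iff₀ (show (0 : ℚ) < W4c2simpsonmod1.rankOf P.natDegree q from hq0)
      (show (0 : ℚ) < W4c2simpsonmod1.rankOf P.natDegree P from hP0)).1 (hT t ht)
    show W4c2simpsonmod1.rankOf P.natDegree P * _ ≤ W4c2simpsonmod1.rankOf P.natDegree q * _
    linarith) F ι hι hF hF0 ψ (hev hψ) N.toNat (by omega)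
  rw [Groth.L22.Reg.h0t_eq, show ((N.toNat : ℕ) : ℤ) = N by omega,
    show ((N.toNat : ℕ) : ℚ) = (N : ℚ) by exact_mod_cast Int.toNat_of_nonneg (show 0 ≤ N by omega)] at key
  refine ⟨key.1, fun h m => ?_⟩
  haveI := hι
  have hE0 : ¬ IsZero E := fun hz => hF0 (IsZero.of_mono ι hz)
  obtain ⟨-, -, hP0⟩ := Groth.L11.GM.natDegree_alpha_of_eval hE hA hE0 (hev hP)
  obtain ⟨-, -, hψ0⟩ := Groth.L11.GM.natDegree_alpha_of_eval hF (Groth.L11.Lemma179.assDim_of_mono ι hA) hF0 (hev hψ)
  have h2 := congrArg (Polynomial.eval (m : ℚ)) (key.2 h)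
  rw [Polynomial.eval_smul, Polynomial.eval_smul, smul_eq_mul, smul_eq_mul] at h2
  rw [div_eq_div_iff (show W4c2simpsonmod1.rankOf P.natDegree ψ ≠ 0 from hψ0.ne')
    (show W4c2simpsonmod1.rankOf P.natDegree P ≠ 0 from hP0.ne')]
  rw [mul_comm, mul_comm (Polynomial.eval (m : ℚ) P)]
  exact h2
end Groth.Agent.S14970
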