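import Groth.Prelude.Def_W4c2simpsonmod1HP
import Groth.Prelude.Def_Pic13
import Groth.Prelude.Def_Coh
import Groth.Prelude.Def_CohB1
import Groth.Prelude.Def_CurvBase
import Groth.Prelude.Def_Curv2
import Groth.Prelude.Def_Twist2
import Mathlib.Topology.KrullDimension
import Mathlib.Data.Complex.Basic
import Mathlib.Algebra.Polynomial.Eval.Defs
import Mathlib.Algebra.Polynomial.Degree.Defs
import Mathlib.LinearAlgebra.Dimension.Finrank
import Mathlib.Data.Nat.Factorial.Basic
import Groth.Prelude.Def_FGA
import Mathlib.CategoryTheory.Subobject.Lattice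
import Mathlib.CategoryTheory.Subobject.Limits
import Mathlib.Order.Preorder.Chain
import Groth.Agent.L11.HN.Main
-- import your own Groth.Agent.* helpers here

set_option autoImplicit false
set_option backward.isDefEq.respectTransparency false
set_option backward.isDefEq.respectTransparency.types false
open CategoryTheory CategoryTheory.Limits AlgebraicGeometry
namespace Coherent
end Coherent
open Coherent

namespace Groth.Agent.S14972

/-- Over the complex numbers, let E be a coherent sheaf on projective n-space which is pure of dimension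
d (its support and the support of every nonzero coherent subsheaf have dimension d). Then there is
exactly one finite chain of coherent subsheaves 0 = E_0 ⊂ E_1 ⊂ ⋯ ⊂ E_k = E such that each
successive quotient E_j/E_(j-1) is pure of dimension d and p-semistable (every nonzero coherent
subsheaf G of it with Hilbert polynomial ψ satisfies ψ(m)/r(ψ) ≤ φ(m)/r(φ) for all large integers m,
φ being the Hilbert polynomial of the quotient and r denoting d! times the degree-d coefficient) and
the reduced Hilbert polynomials φ/r(φ) of consecutive quotients strictly decrease for large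
arguments. The chain is recorded as a finite set of subobjects of E, totally ordered by inclusion,
containing 0 and E, all of whose members are coherent. (The published statement is for modules over
a sheaf of rings of differential operators and filtrations by submodules stable under it, and does
not assume E pure, although quotients pure of dimension d force it; this row is the case of the
structure sheaf, where every coherent subsheaf is stable, and assumes E pure.) -/
theorem result (n d : ℕ)
    (E : (CohB1.ProjSpace n ℂ).Modules) (hE : Coh.IsCoh E)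
    (hpure : (topologicalKrullDim ↥(CohB1.support E) = (d : WithBot ℕ∞) ∧
          ∀ (G : (CohB1.ProjSpace n ℂ).Modules) (ι : G ⟶ E), Mono ι → Coh.IsCoh G → ¬ IsZero G → topologicalKrullDim ↥(CohB1.support G) = (d : WithBot ℕ∞))) :
    ∃! C : Finset (Subobject E),
      ⊥ ∈ C ∧ ⊤ ∈ C ∧ IsChain (fun A B : Subobject E => A ≤ B) (↑C : Set (Subobject E)) ∧
      (∀ A ∈ C, Coh.IsCoh (A : (CohB1.ProjSpace n ℂ).Modules)) ∧
      (∀ A ∈ C, ∀ B ∈ C, ∀ hAB : A < B, (∀ D ∈ C, ¬ (A < D ∧ D < B)) →
        (topologicalKrullDim ↥(CohB1.support (cokernel (Subobject.ofLE A B hAB.le))) = (d : WithBot ℕ∞) ∧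
          ∀ (G : (CohB1.ProjSpace n ℂ).Modules) (ι : G ⟶ (cokernel (Subobject.ofLE A B hAB.le))), Mono ι → Coh.IsCoh G → ¬ IsZero G → topologicalKrullDim ↥(CohB1.support G) = (d : WithBot ℕ∞)) ∧
        (∀ (G : (CohB1.ProjSpace n ℂ).Modules) (ι : G ⟶ (cokernel (Subobject.ofLE A B hAB.le))), Mono ι → Coh.IsCoh G → ¬ IsZero G →
          ∀ φ ψ : Polynomial ℚ, (∀ m : ℤ, (Curv2.euler ℂ (CohB1.ProjSpace n ℂ) (CohB1.tensorMod (cokernel (Subobject.ofLE A B hAB.le)) (Twist.twistProjSpace n ℂ m)) : ℚ) = φ.eval (m : ℚ)) → (∀ m : ℤ, (Curv2.euler ℂ (CohB1.ProjSpace n ℂ) (CohB1.tensorMod G (Twist.twistProjSpace n ℂ m)) : ℚ) = ψ.eval (m : ℚ)) →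
            W4c2simpsonmod1.RedLE d ψ φ)) ∧
      (∀ A ∈ C, ∀ B ∈ C, ∀ B' ∈ C, ∀ hAB : A < B, ∀ hBB : B < B',
        (∀ D ∈ C, ¬ (A < D ∧ D < B)) → (∀ D ∈ C, ¬ (B < D ∧ D < B')) →
        ∀ ψ ψ' : Polynomial ℚ, (∀ m : ℤ, (Curv2.euler ℂ (CohB1.ProjSpace n ℂ) (CohB1.tensorMod (cokernel (Subobject.ofLE A B hAB.le)) (Twist.twistProjSpace n ℂ m)) : ℚ) = ψ.eval (m : ℚ)) →
          (∀ m : ℤ, (Curv2.euler ℂ (CohB1.ProjSpace n ℂ) (CohB1.tensorMod (cokernel (Subobject.ofLE B B' hBB.le)) (Twist.twistProjSpace n ℂ m)) : ℚ) = ψ'.eval (m : ℚ)) →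
          W4c2simpsonmod1.RedLT d ψ' ψ) := by
  exact Groth.L11.HN.existsUnique_chain d E hE hpure
end Groth.Agent.S14972
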