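import Groth.Prelude.Def_W4c2simpsonmod1HP
import Groth.Prelude.Def_Pic13
import Groth.Prelude.Def_Coh
import Groth.Prelude.Def_CohB1
import Groth.Prelude.Def_CurvBase
import Groth.Prelude.Def_Curv2
import Groth.Prelude.Def_Twist2
import Mathlib.Topology.KrullDimension
import Mathlib.Data.Complex.Basic
import Mathlib.Algebra.Polynomial.Eval.Defs
import Mathlib.Algebra.Polynomial.Degree.Defs
import Mathlib.LinearAlgebra.Dimension.Finrank
import Mathlib.Data.Nat.Factorial.Basic
import Groth.Prelude.Def_Pic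
import Groth.Prelude.Def_FlatMod2
import Mathlib.AlgebraicGeometry.Morphisms.FiniteType
import Mathlib.AlgebraicGeometry.Morphisms.Separated
import Mathlib.AlgebraicGeometry.Morphisms.ClosedImmersion
import Groth.Agent.L11.Lemma179.Simpson
-- import your own Groth.Agent.* helpers here

set_option autoImplicit false
set_option backward.isDefEq.respectTransparency false
set_option backward.isDefEq.respectTransparency.types false
set_option backward.isDefEq.respectTransparency false
set_option backward.isDefEq.respectTransparency.types false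
open CategoryTheory CategoryTheory.Limits AlgebraicGeometry
namespace Coherent
end Coherent
open Coherent

namespace Groth.Agent.S14974

/-- For plain coherent sheaves and the two Hilbert-polynomial notions of stability. Over the complex
numbers, let S be a separated scheme of finite type, X a closed subscheme of projective n-space over
S, d a natural number, and E a coherent sheaf on X, flat over S, whose restriction E_t to the fibre
of X over every complex point t of S is pure of dimension d (the support of E_t and of each of its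
nonzero coherent subsheaves has dimension d). Hilbert polynomials on a fibre are computed with the
twisting sheaves pulled back from projective space over S, and r(ψ) denotes d! times the degree-d
coefficient of ψ. Then there is an open subset U of S such that, for every complex point t of S, E_t
is p-semistable (for every nonzero coherent subsheaf G of E_t, with Hilbert polynomials φ of E_t and
ψ of G, ψ(m)/r(ψ) ≤ φ(m)/r(φ) for all large integers m) if and only if t lies in U; and there is an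
open subset U' of S such that E_t is p-stable (strict inequality for every nonzero proper coherent
subsheaf) if and only if t lies in U'. (The published statement is for modules over a sheaf of rings
of differential operators, also covers slope stability, and tests all geometric points; this row is
the case of the structure sheaf, tested at complex points, and assumes the fibres pure of dimension
d.) -/
theorem result
    (S : Scheme.{0}) (sS : S ⟶ Spec (CommRingCat.of ℂ)) [LocallyOfFiniteType sS] [QuasiCompact sS] [IsSeparated sS]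
    (n : ℕ) (X : Scheme.{0}) (i : X ⟶ CohB1.ProjSpaceOver n S) [IsClosedImmersion i] (d : ℕ)
    (E : X.Modules) (hE : Coh.IsCoh E) (hflat : FlatMod.IsFlatOver (i ≫ (CohB1.ProjSpaceOver n S ↘ S)) E)
    (hpure : ∀ (t : Spec (CommRingCat.of ℂ) ⟶ S), t ≫ sS = 𝟙 (Spec (CommRingCat.of ℂ)) →
      topologicalKrullDim ↥(CohB1.support ((Scheme.Modules.pullback (pullback.fst (i ≫ (CohB1.ProjSpaceOver n S ↘ S)) t)).obj E)) = (d : WithBot ℕ∞) ∧
      ∀ (G : (pullback (i ≫ (CohB1.ProjSpaceOver n S ↘ S)) t).Modules) (ι : G ⟶ ((Scheme.Modules.pullback (pullback.fst (i ≫ (CohB1.ProjSpaceOver n S ↘ S)) t)).obj E)), Mono ι → Coh.IsCoh G → ¬ IsZero G → topologicalKrullDim ↥(CohB1.support G) = (d : WithBot ℕ∞)) :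
    (∃ U : S.Opens, ∀ (t : Spec (CommRingCat.of ℂ) ⟶ S), t ≫ sS = 𝟙 (Spec (CommRingCat.of ℂ)) →
      ((∀ (G : (pullback (i ≫ (CohB1.ProjSpaceOver n S ↘ S)) t).Modules) (ι : G ⟶ ((Scheme.Modules.pullback (pullback.fst (i ≫ (CohB1.ProjSpaceOver n S ↘ S)) t)).obj E)), Mono ι → Coh.IsCoh G → ¬ IsZero G →
          ∀ φ ψ : Polynomial ℚ, (∀ m : ℤ, (@Curv2.euler ℂ _ (pullback (i ≫ (CohB1.ProjSpaceOver n S ↘ S)) t) ⟨pullback.snd (i ≫ (CohB1.ProjSpaceOver n S ↘ S)) t⟩ (CohB1.tensorMod ((Scheme.Modules.pullback (pullback.fst (i ≫ (CohB1.ProjSpaceOver n S ↘ S)) t)).obj E) ((Scheme.Modules.pullback (pullback.fst (i ≫ (CohB1.ProjSpaceOver n S ↘ S)) t ≫ i)).obj (Twist.twistOver n S m))) : ℚ) = φ.eval (m : ℚ)) →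
            (∀ m : ℤ, (@Curv2.euler ℂ _ (pullback (i ≫ (CohB1.ProjSpaceOver n S ↘ S)) t) ⟨pullback.snd (i ≫ (CohB1.ProjSpaceOver n S ↘ S)) t⟩ (CohB1.tensorMod G ((Scheme.Modules.pullback (pullback.fst (i ≫ (CohB1.ProjSpaceOver n S ↘ S)) t ≫ i)).obj (Twist.twistOver n S m))) : ℚ) = ψ.eval (m : ℚ)) →
            W4c2simpsonmod1.RedLE d ψ φ) ↔ Set.range t.base ⊆ (U : Set S))) ∧
    (∃ U' : S.Opens, ∀ (t : Spec (CommRingCat.of ℂ) ⟶ S), t ≫ sS = 𝟙 (Spec (CommRingCat.of ℂ)) →
      ((∀ (G : (pullback (i ≫ (CohB1.ProjSpaceOver n S ↘ S)) t).Modules) (ι : G ⟶ ((Scheme.Modules.pullback (pullback.fst (i ≫ (CohB1.ProjSpaceOver n S ↘ S)) t)).obj E)), Mono ι → Coh.IsCoh G → ¬ IsZero G → ¬ IsIso ι →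
          ∀ φ ψ : Polynomial ℚ, (∀ m : ℤ, (@Curv2.euler ℂ _ (pullback (i ≫ (CohB1.ProjSpaceOver n S ↘ S)) t) ⟨pullback.snd (i ≫ (CohB1.ProjSpaceOver n S ↘ S)) t⟩ (CohB1.tensorMod ((Scheme.Modules.pullback (pullback.fst (i ≫ (CohB1.ProjSpaceOver n S ↘ S)) t)).obj E) ((Scheme.Modules.pullback (pullback.fst (i ≫ (CohB1.ProjSpaceOver n S ↘ S)) t ≫ i)).obj (Twist.twistOver n S m))) : ℚ) = φ.eval (m : ℚ)) →
            (∀ m : ℤ, (@Curv2.euler ℂ _ (pullback (i ≫ (CohB1.ProjSpaceOver n S ↘ S)) t) ⟨pullback.snd (i ≫ (CohB1.ProjSpaceOver n S ↘ S)) t⟩ (CohB1.tensorMod G ((Scheme.Modules.pullback (pullback.fst (i ≫ (CohB1.ProjSpaceOver n S ↘ S)) t ≫ i)).obj (Twist.twistOver n S m))) : ℚ) = ψ.eval (m : ℚ)) →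
            W4c2simpsonmod1.RedLT d ψ φ) ↔ Set.range t.base ⊆ (U' : Set S))) := by
  constructor
  · exact Groth.L11.Lemma179.exists_opens_locus sS i false d d (fun h => h) E hE hflat hpure
      (fun Y _ g M => ∀ (G : Y.Modules) (ι : G ⟶ M), Mono ι → Coh.IsCoh G → ¬ IsZero G → ∀ φ ψ : Polynomial ℚ, Groth.L11.Lemma179.ZPoly ℂ i g M φ → Groth.L11.Lemma179.ZPoly ℂ i g G ψ → W4c2simpsonmod1.RedLE d ψ φ)
      (fun Y _ g t pb _ hA M hM h0 hp => Groth.L11.Lemma179.pSemistable_iff hA hM h0 hp
        fun G hG P => Groth.L11.Lemma179.zPoly_iff i pb hG P)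
  · exact Groth.L11.Lemma179.exists_opens_locus sS i true d d (fun h => h) E hE hflat hpure
      (fun Y _ g M => ∀ (G : Y.Modules) (ι : G ⟶ M), Mono ι → Coh.IsCoh G → ¬ IsZero G → ¬ IsIso ι → ∀ φ ψ : Polynomial ℚ, Groth.L11.Lemma179.ZPoly ℂ i g M φ → Groth.L11.Lemma179.ZPoly ℂ i g G ψ → W4c2simpsonmod1.RedLT d ψ φ)
      (fun Y _ g t pb _ hA M hM h0 hp => Groth.L11.Lemma179.pStable_iff hA hM h0 hp
        fun G hG P => Groth.L11.Lemma179.zPoly_iff i pb hG P)
end Groth.Agent.S14974
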