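import Groth.Statements.S14979
import Groth.Agent.L08.FinFlat.Inertia
-- import your own Groth.Agent.* helpers here

set_option autoImplicit false
set_option backward.isDefEq.respectTransparency.types false
set_option linter.style.haveILetI false
universe u
open CategoryTheory MonoidalCategory CartesianMonoidalCategory MonObj AlgebraicGeometry
open CoactBr

namespace Groth.Agent.S14979

/-- Let `R` be a local commutative ring, `A` a commutative Hopf algebra over `R` which is finite and
flat as an `R`-module (so `G = Spec A` is a finite flat group scheme over `S = Spec R`), and `B` a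
commutative `R`-algebra with a coaction of `A` that is an algebra map (an action of `G` on `X = Spec
B`) whose ring of invariants is `R` itself: the structure map `R → B^A` is bijective, so that `S` is
the quotient `Y = Spec B^A`. Let `K` be a field over `R` in which exactly the maximal ideal of `R`
vanishes and `x : B → K` an `R`-algebra map, a point of `X` over the closed point of `Y`. Then the
action is free — for every scheme `T` over `S`, every `T`-point of `G` fixing a `T`-point of `X` is
the unit — if and only if the inertia group scheme at `x` is trivial: for every `T` over `Spec K`,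
every `T`-point of `G` fixing the point of `X` induced by `x` is the unit. (The published statement
does not say that `G` is finite over `S`; its proof uses it, and it is assumed here.) -/
theorem result
    (R A B K : Type u) [CommRing R] [IsLocalRing R] [CommRing A] [HopfAlgebra R A]
    [Module.Flat R A] [Module.Finite R A]
    [CommRing B] [Algebra R B] [HopfRep.Comod R A B] [GLin.IsCoactAlg R A B]
    (hC : Function.Bijective (algebraMap R (GLin.invariants R A B)))
    [Field K] [Algebra R K] (hK : RingHom.ker (algebraMap R K) = IsLocalRing.maximalIdeal R)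
    (x : B →ₐ[R] K) :
    (∀ (T : Over (Spec (CommRingCat.of R))) (ζ : T ⟶ CoactBr.sp R B) (g : T ⟶ CoactBr.sp R A),
        lift g ζ ≫ (CoactBr.action R A B).act = ζ → g = 1) ↔
      ∀ (T : Over (Spec (CommRingCat.of R))) (h : T ⟶ CoactBr.sp R K) (g : T ⟶ CoactBr.sp R A),
        lift g (h ≫ CoactBr.pt x) ≫ (CoactBr.action R A B).act = h ≫ CoactBr.pt x → g = 1 := by
  rw [Groth.L08.FinFlat.triv_iff x]
  constructor
  · intro H
    exact (Groth.L08.FinFlat.triv_iff x).1 fun T h g hg => H T (h ≫ CoactBr.pt x) g hg
  · intro H T ζ g hg
    refine Groth.L08.FinFlat.eq_one_of_forall hg fun O _ _ et _ z γ _ hfix => ?_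
    haveI := Groth.L08.FinFlat.isIntegral R A B
    haveI : Algebra.IsIntegral R B := ⟨fun b => by
      obtain ⟨q, hq, hq0⟩ := Algebra.IsIntegral.isIntegral (R := GLin.invariants R A B) b
      obtain ⟨q', hq', -, hm⟩ := Polynomial.lifts_and_natDegree_eq_and_monic
        (show q ∈ Polynomial.lifts (algebraMap R (GLin.invariants R A B)) from
          (Polynomial.lifts_iff_coeff_lifts q).2 fun n => hC.2 _) hq
      refine ⟨q', hm, ?_⟩
      rw [← hq', Polynomial.eval₂_map, ← IsScalarTower.algebraMap_eq] at hq0
      exact hq0⟩
    have htop : Groth.L08.FinFlat.badLocus R A B = ⊤ := by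
      by_contra hne
      obtain ⟨n, hn, hle⟩ := Ideal.exists_le_maximal _ hne
      haveI := hn
      refine Groth.L08.FinFlat.not_le_of_triv n (Groth.L08.FinFlat.triv_of_ker_eq x _ ?_ H) hle
      have hm : Ideal.comap (algebraMap R B) n = IsLocalRing.maximalIdeal R :=
        IsLocalRing.eq_maximalIdeal (Ideal.isMaximal_comap_of_isIntegral_of_isMaximal n)
      ext c
      obtain ⟨r, rfl⟩ := hC.2 c
      rw [RingHom.mem_ker, RingHom.mem_ker]
      show x (algebraMap R B r) = 0 ↔ algebraMap B n.ResidueField (algebraMap R B r) = 0
      rw [x.commutes, Ideal.algebraMap_residueField_eq_zero, ← RingHom.mem_ker, hK, ← hm, Ideal.mem_comap]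
    exact Groth.L08.FinFlat.eq_unitPt_of_fix hfix (c := 1) (htop ▸ Submodule.mem_top) (by rw [map_one]; exact isUnit_one)

end Groth.Agent.S14979
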