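import Groth.Statements.S1498
import Groth.Agent.L17.Strat.FlatCriterion
import Groth.Agent.L17.BC.BCStatements
import Groth.Agent.L20.ThickeningProps
import Groth.Agent.L20.ResAmple
import Groth.Agent.L18.LocFreeFP
import Groth.Agent.L16.EtaleFibre.Epi
import Groth.Agent.L26.Pic0.Support
import Groth.Agent.L07.DiffOpSheaf
import Groth.Agent.L24.RpushBC.Main

set_option autoImplicit false
universe u
attribute [local instance] HasDerivedCategory.standard
open FlatMor

set_option backward.isDefEq.respectTransparency.types false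
set_option linter.style.haveILetI false
namespace Groth.Agent.S1498

open AlgebraicGeometry CategoryTheory Limits in
/-- Parts (1) and (2) (the source moreover reconstructs X' as the relative Proj of the resulting
algebra, which is not stated here): let f : X → S be proper, flat and of finite presentation with S
quasi-compact, and let L be an O_X-module ample relative to f. Then there is d₀ ≥ 0 such that for
every thickening i : S → S', every proper flat morphism of finite presentation f' : X' → S' with a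
cartesian square over i, and every invertible O_{X'}-module L' pulling back to L, for all d ≥ d₀ the
cohomology H^p, p > 0, of L'^{⊗d} vanishes over the preimage of every affine open of S' and f'_*
L'^{⊗d} is a finite locally free O_{S'}-module. -/
theorem result {X S : Scheme.{u}} (f : X ⟶ S) [IsProper f] [Flat f] [LocallyOfFinitePresentation f] [CompactSpace ↑S]
    (L : X.Modules) (hL : RelAmple.IsRelAmple f L) :
    ∃ d₀ : ℕ, ∀ (X' S' : Scheme.{u}) (i : S ⟶ S') (i' : X ⟶ X') (f' : X' ⟶ S') (hi : MoreMor.IsThickening i) (hc : IsPullback i' f f' i)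
      (hf'₁ : IsProper f') (hf'₂ : Flat f') (hf'₃ : LocallyOfFinitePresentation f') (L' : X'.Modules) (hL' : PicF.IsInvertible L')
      (e : Nonempty ((Scheme.Modules.pullback i').obj L' ≅ L)) (d : ℕ), d₀ ≤ d →
        (∀ (U : S'.Opens) (p : ℕ), IsAffineOpen U → 0 < p → Subsingleton (Coh.HHon X' (CohB1.tensorPow L' d) (f' ⁻¹ᵁ U) p)) ∧
        FlatMod.IsFinLocFree ((Scheme.Modules.pushforward f').obj (CohB1.tensorPow L' d)) := by
  obtain ⟨N, hN⟩ := Groth.L17.Strat.exists_fibre_vanishing f L (Coh.structureModule X) hL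
    Groth.L16.EtaleFibre.isFP_structure
  refine ⟨N, fun X' S' i i' f' hi hc hf'₁ hf'₂ hf'₃ L' hL' e d hd => ?_⟩
  obtain ⟨e⟩ := e
  haveI := hf'₁; haveI := hf'₂; haveI := hf'₃
  haveI := Groth.L17.PushQCoh.hasInjectiveResolutions X'
  let F' := CohB1.tensorPow L' d
  have hF'inv : PicF.IsInvertible F' := Groth.L18.Ample.isInvertible_tensorPow hL' d
  
  have hFP : CohB1.IsFP F' := Groth.L18.LFP.isFP_of_isFinLocFree F' (Groth.L20.ResDescent.isFinLocFree_of_isInvertible hF'inv)
  haveI : Coh.IsQCoh F' := Groth.L17.Strat.isQCoh_of_isFP F' hFP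
  have hfl : FlatMod.IsFlatOver f' F' := Groth.Agent.Pic0.isFlatOver_of_isInvertible f' hF'inv
  haveI := hi.1
  have hvan : ∀ (s' : S') (j : ℕ), 0 < j → Subsingleton (CohIII.fiberH f' F' s' j) := fun s' j hj => by
    obtain ⟨s, rfl⟩ := hi.2.surj s'
    let G : f.fiber s ⟶ f'.fiber (i s) := pullback.map _ _ _ _ i' (Spec.map (i.residueFieldMap s)) i hc.w.symm (by simp)
    have H : IsPullback G (f.fiberToSpecResidueField s) (f'.fiberToSpecResidueField (i s)) (Spec.map (i.residueFieldMap s)) :=
      isPullback_fiberToSpecResidueField_of_isPullback hc s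
    haveI : IsIso (i.residueFieldMap s) := Groth.L20.Thick.isIso_residueFieldMap i s
    haveI : IsIso G := (MorphismProperty.isomorphisms Scheme.{u}).of_isPullback H.flip
      (inferInstanceAs (IsIso (Spec.map (i.residueFieldMap s))))
    obtain ⟨e'⟩ := Groth.L17.nonempty_HH_push_of_isClosedImmersion G
      ((Scheme.Modules.pullback G).obj (CohIII.fiberMod f' F' (i s))) j
    haveI := Groth.L07.DiffOpSheaf.isIso_unit_of_isIso G (CohIII.fiberMod f' F' (i s))
    suffices Subsingleton (Coh.HH (f.fiber s) ((Scheme.Modules.pullback G).obj (CohIII.fiberMod f' F' (i s))) j) from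
      ((Groth.L17.BC.HHequiv (asIso ((Scheme.Modules.pullbackPushforwardAdjunction G).unit.app (CohIII.fiberMod f' F' (i s)))) j).toAddEquiv.trans
        e'.symm).toEquiv.subsingleton
    let α : (Scheme.Modules.pullback (f.fiberι s)).obj (CohB1.tensorMod (Coh.structureModule X) (CohB1.tensorPow L d)) ≅
        (Scheme.Modules.pullback G).obj ((Scheme.Modules.pullback (f'.fiberι (i s))).obj F') :=
      (Scheme.Modules.pullback (f.fiberι s)).mapIso (Groth.L00.Tensor.tensorUnitLeft _ ≪≫
        (Groth.L18.Ample.pullPow i' L' d ≪≫ Groth.L00.Tensor.tensorPowIso e d).symm) ≪≫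
      (Scheme.Modules.pullbackComp (f.fiberι s) i').app F' ≪≫
      (Scheme.Modules.pullbackCongr (show f.fiberι s ≫ i' = G ≫ f'.fiberι (i s) from (pullback.lift_fst _ _ _).symm)).app F' ≪≫
      ((Scheme.Modules.pullbackComp G (f'.fiberι (i s))).app F').symm
    haveI := hN d hd s j hj
    exact (Groth.L17.BC.HHequiv α.symm j).toEquiv.subsingleton
  refine ⟨fun U p hU hp => ?_, ?_⟩
  · refine Groth.L24.RpushBC.subsingleton_HHon f' hU F' p ?_
    obtain ⟨e'⟩ := Groth.L17.nonempty_toAb_Rpush_iso f' F' p
    refine IsZero.of_iso ((Groth.L17.toAbShF S').map_isZero ?_) e'.symm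
    refine Groth.L21.Mod.isZero_of_restrict (fun _ : Unit => 𝟙 S') (fun z => ⟨(), z, rfl⟩) _ fun _ => ?_
    exact (Scheme.Modules.restrictFunctor (𝟙 S')).map_isZero
      (Groth.L21.Mod.isZero_of_restrict (fun _ : Unit => (⊤ : S'.Opens).ι) (fun z => ⟨(), ⟨z, trivial⟩, rfl⟩) _
        fun _ => Groth.L17.BC.Classes.isZero_restrict_of_vanishing f' F' hFP hfl ⊤ p fun s' _ => hvan s' p hp)
  · intro y
    obtain ⟨U, hyU, ⟨e1⟩⟩ := Groth.L17.BC.exists_free_of_vanishing f' F' hFP hfl y 0
      (fun q hq => absurd hq (Nat.succ_ne_zero q)) (hvan y 1 Nat.one_pos)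
    obtain ⟨e₀⟩ := Groth.L17.BC.Classes.nonempty_Rpush_zero_iso f' F'
    exact ⟨U, _, hyU, ⟨(Scheme.Modules.restrictFunctor U.ι).mapIso e₀.symm ≪≫ e1⟩⟩


end Groth.Agent.S1498
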