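import Groth.Statements.S14982
import Groth.Agent.L08.FinFlat.Inertia
-- import your own Groth.Agent.* helpers here

set_option autoImplicit false
set_option backward.isDefEq.respectTransparency.types false
set_option linter.style.haveILetI false
universe u
open CategoryTheory MonoidalCategory CartesianMonoidalCategory MonObj AlgebraicGeometry
open CoactBr

namespace Groth.Agent.S14982

/-- Let `R` be a commutative ring, `A` a commutative Hopf algebra over `R` which is finite locally free
as an `R`-module (`G = Spec A` a finite flat group scheme over `S = Spec R`), `B` a commutative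
`R`-algebra with a coaction of `A` that is an algebra map (an action of `G` on `X = Spec B`), `C =
B^A` the ring of invariants and `π : X → Y = Spec C` the quotient map. Let `K` be a field over `R`,
`x : B → K` an `R`-algebra map (a point of `X`) and `y` the image in `Y` of the point underlying
`x`. Then the inertia group scheme at `x` is trivial (for every scheme `T` over `Spec K`, every
`T`-point of `G` fixing the point of `X` induced by `x` is the unit) if and only if there is a flat
morphism locally of finite presentation `Y' → Y` whose image contains `y` and over which the action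
becomes free: for every scheme `T` over `S` and every `T`-point `ζ` of `X` whose composite with `π`
lifts to `Y'`, every `T`-point of `G` fixing `ζ` is the unit (this is freeness of the base-changed
action of `G ×_S Y'` on `X ×_Y Y'`, written through points of `G` and `X`). (`G` finite flat is read
as finite locally free. The published result also says that `X ×_Y Y'` is then a torsor under
`G_{Y'}` and gives a third equivalent condition, that after a further fppf base change the action is
induced from an action of the trivial group; neither is stated here.) -/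
theorem result
    (R A B K : Type u) [CommRing R] [CommRing A] [HopfAlgebra R A]
    [Module.Flat R A] [Module.Finite R A] [Module.Projective R A]
    [CommRing B] [Algebra R B] [HopfRep.Comod R A B] [GLin.IsCoactAlg R A B]
    [Field K] [Algebra R K] (x : B →ₐ[R] K) :
    (∀ (T : Over (Spec (CommRingCat.of R))) (h : T ⟶ CoactBr.sp R K) (g : T ⟶ CoactBr.sp R A),
        lift g (h ≫ CoactBr.pt x) ≫ (CoactBr.action R A B).act = h ≫ CoactBr.pt x → g = 1) ↔
      ∃ (Y' : Scheme.{u}) (c : Y' ⟶ Spec (CommRingCat.of (GLin.invariants R A B))),
        Flat c ∧ LocallyOfFinitePresentation c ∧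
        (∃ y' : Y', c.base y' =
          (Spec.map (CommRingCat.ofHom (x.toRingHom.comp (GLin.invariants R A B).val.toRingHom))).base
            (IsLocalRing.closedPoint K)) ∧
        ∀ (T : Over (Spec (CommRingCat.of R))) (ζ : T ⟶ CoactBr.sp R B),
          (∃ t : T.left ⟶ Y', t ≫ c = ζ.left ≫ Spec.map (CommRingCat.ofHom (GLin.invariants R A B).val.toRingHom)) →
          ∀ g : T ⟶ CoactBr.sp R A, lift g ζ ≫ (CoactBr.action R A B).act = ζ → g = 1 := by
  haveI := Groth.L08.FinFlat.isIntegral R A B
  let C := GLin.invariants R A B
  constructor
  · intro H0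
    have H := (Groth.L08.FinFlat.triv_iff x).1 H0
    let f : C →+* K := x.toRingHom.comp C.val.toRingHom
    let q : Ideal C := RingHom.ker f
    haveI : q.IsPrime := RingHom.ker_isPrime _
    obtain ⟨s, hs, hsq⟩ : ∃ s : C, (s : B) ∈ Groth.L08.FinFlat.badLocus R A B ∧ s ∉ q := by
      by_contra! hcon
      obtain ⟨n, hle, hn, hnq⟩ := Ideal.exists_ideal_over_prime_of_isIntegral q (Groth.L08.FinFlat.badLocus R A B) hcon
      haveI := hn
      refine Groth.L08.FinFlat.not_le_of_triv n (Groth.L08.FinFlat.triv_of_ker_eq x _ ?_ H) hle
      ext c
      show c ∈ q ↔ algebraMap B n.ResidueField (c : B) = 0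
      rw [Ideal.algebraMap_residueField_eq_zero, ← hnq]
      exact Iff.rfl
    refine ⟨Spec (CommRingCat.of (Localization.Away s)),
      Spec.map (CommRingCat.ofHom (algebraMap C (Localization.Away s))), inferInstance, inferInstance, ?_, ?_⟩
    · have hmem : (Spec.map (CommRingCat.ofHom f)).base (IsLocalRing.closedPoint K) ∈
          Set.range (PrimeSpectrum.comap (algebraMap C (Localization.Away s))) := by
        rw [PrimeSpectrum.localization_away_comap_range (Localization.Away s) s]
        show s ∉ (IsLocalRing.maximalIdeal K).comap f
        rw [IsLocalRing.maximalIdeal_eq_bot]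
        exact hsq
      exact hmem
    · rintro T ζ ⟨t, ht⟩ g hg
      refine Groth.L08.FinFlat.eq_one_of_forall hg fun O _ _ et hO z γ hz hfix => ?_
      refine Groth.L08.FinFlat.eq_unitPt_of_fix hfix hs ?_
      have hw : t ≫ Spec.map (CommRingCat.ofHom (algebraMap R (Localization.Away s))) = T.hom := by
        rw [IsScalarTower.algebraMap_eq R C (Localization.Away s), CommRingCat.ofHom_comp, Spec.map_comp,
          ← Category.assoc, ht, Category.assoc]
        exact (congrArg (ζ.left ≫ ·) (Spec.map_comp _ _).symm).trans (Over.w ζ)
      obtain ⟨τ, hτ⟩ := (hO (Localization.Away s)).1 (Over.homMk t hw)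
      have e : τ.comp (IsScalarTower.toAlgHom R C (Localization.Away s)) = z.comp C.val := by
        refine (hO C).2 _ _ ?_
        rw [CoactBr.pt_comp, CoactBr.pt_comp, ← Category.assoc, ← hτ, ← Category.assoc, ← hz]
        exact Over.OverMorphism.ext ht
      rw [show z (s : B) = τ (algebraMap C (Localization.Away s) s) from (AlgHom.congr_fun e s).symm]
      exact (IsLocalization.Away.algebraMap_isUnit s).map τ
  · rintro ⟨Y', c, _, _, ⟨y', hy'⟩, hfree⟩
    refine (Groth.L08.FinFlat.triv_iff x).2 ?_
    let f : C →+* K := x.toRingHom.comp C.val.toRingHom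
    obtain ⟨p, -, -⟩ := Scheme.Pullback.exists_preimage_pullback y' (IsLocalRing.closedPoint K)
      (f := c) (g := Spec.map (CommRingCat.ofHom f)) hy'
    let P := Limits.pullback c (Spec.map (CommRingCat.ofHom f))
    let L : Type u := P.residueField p
    let w : Spec (CommRingCat.of L) ⟶ P := P.fromSpecResidueField p
    let j : K →+* L := (Spec.preimage (w ≫ Limits.pullback.snd c (Spec.map (CommRingCat.ofHom f)))).hom
    letI : Algebra R L := (j.comp (algebraMap R K)).toAlgebra
    let J : K →ₐ[R] L := { j with commutes' := fun r => rfl }
    have hlift : ∃ t : (CoactBr.sp R L).left ⟶ Y', t ≫ c =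
        (CoactBr.pt (J.comp x)).left ≫ Spec.map (CommRingCat.ofHom C.val.toRingHom) := by
      refine ⟨w ≫ Limits.pullback.fst c (Spec.map (CommRingCat.ofHom f)), ?_⟩
      rw [Category.assoc, Limits.pullback.condition, ← Category.assoc]
      show _ = Spec.map (CommRingCat.ofHom (j.comp x.toRingHom)) ≫ Spec.map (CommRingCat.ofHom C.val.toRingHom)
      refine (congrArg (· ≫ Spec.map (CommRingCat.ofHom f))
        (Spec.map_preimage (w ≫ Limits.pullback.snd c (Spec.map (CommRingCat.ofHom f)))).symm).trans ?_
      refine (Spec.map_comp _ _).symm.trans (Eq.trans (congrArg Spec.map ?_) (Spec.map_comp _ _))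
      exact CommRingCat.hom_ext rfl
    refine Groth.L08.FinFlat.triv_of_comp J ((Groth.L08.FinFlat.triv_iff (J.comp x)).1 fun T h g hg => ?_)
    obtain ⟨t, ht⟩ := hlift
    refine hfree T (h ≫ CoactBr.pt (J.comp x)) ⟨h.left ≫ t, ?_⟩ g hg
    rw [Category.assoc, ht, ← Category.assoc]
    rfl

end Groth.Agent.S14982
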