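import Groth.Statements.S14984
import Groth.Agent.L08.Basic

set_option autoImplicit false
universe u v w
open HopfRep

namespace Groth.Agent.S14984
open TensorProduct in
theorem core {R : Type u} {A : Type v} {B : Type w} {C : Type w}
    [CommRing R] [CommRing A] [HopfAlgebra R A] [CommRing B] [Algebra R B]
    [HopfRep.Comod R A B] [GLin.IsCoactAlg R A B] [CommRing C] [Algebra R C] [Algebra C B]
    [IsScalarTower R C B]
    (hinv : ∀ c : C, HopfRep.Comod.coact (k := R) (A := A) (algebraMap C B c) =
      algebraMap C B c ⊗ₜ[R] (1 : A))
    (β : C ⊗[R] A →ₗ[C] C ⊗[R] B)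
    (hβ : @Hoch.IsComodHom C _ (C ⊗[R] A) _ _ _ (C ⊗[R] A) _ _
        (HopfRep.Comod.regular C (C ⊗[R] A)) (C ⊗[R] B) _ _
        (CoactBr.Comod.baseChange R C A B) β) (h1 : β 1 = 1) :
    ∃ α : A →ₗ[R] B, Hoch.IsComodHom A α ∧ α 1 = 1 := by
  let μ : C ⊗[R] B →ₗ[R] B := TensorProduct.lift ((LinearMap.mul R B) ∘ₗ (IsScalarTower.toAlgHom R C B).toLinearMap)
  let ι : A →ₗ[R] C ⊗[R] A := TensorProduct.mk R C A 1
  refine ⟨μ ∘ₗ β.restrictScalars R ∘ₗ ι, LinearMap.ext fun a => ?_, ?_⟩
  · letI := CoactBr.Comod.baseChange R C A B
    let P : C ⊗[R] B →ₗ[C] C ⊗[R] A →ₗ[C] B ⊗[R] A :=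
      TensorProduct.AlgebraTensorModule.lift
        { toFun := fun c =>
            { toFun := fun b => c • TensorProduct.AlgebraTensorModule.lift
                { toFun := fun c' =>
                    { toFun := fun a => c' • (b ⊗ₜ[R] a)
                      map_add' := fun x y => by simp [tmul_add]
                      map_smul' := fun r x => by simp [smul_comm r] }
                  map_add' := fun x y => by ext; simp [add_smul]
                  map_smul' := fun r x => by ext; simp [mul_smul] }
              map_add' := fun x y => by
                rw [← smul_add]; congr 1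
                ext; simp [add_tmul]
              map_smul' := fun r x => by
                rw [RingHom.id_apply, smul_comm r c]; congr 1
                ext; simp [← TensorProduct.smul_tmul', smul_comm r] }
          map_add' := fun x y => by ext : 1; simp [add_smul]
          map_smul' := fun r x => by ext : 1; simp [mul_smul] }
    let Ψ : (C ⊗[R] B) ⊗[C] (C ⊗[R] A) →ₗ[C] B ⊗[R] A := TensorProduct.lift P
    have hΨ : ∀ (c : C) (b : B) (c' : C) (x : A),
        Ψ ((c ⊗ₜ b) ⊗ₜ (c' ⊗ₜ x)) = (algebraMap C B c * (algebraMap C B c' * b)) ⊗ₜ[R] x := by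
      intro c b c' x
      simp [Ψ, P, TensorProduct.smul_tmul', Algebra.smul_def]
    have hμ : ∀ z : C ⊗[R] B, HopfRep.Comod.coact (k := R) (A := A) (μ z) =
        Ψ (HopfRep.Comod.coact (k := C) (A := C ⊗[R] A) z) := by
      intro z
      induction z with
      | zero => simp
      | add x y hx hy => simp only [map_add, hx, hy]
      | tmul c b =>
        have hc := hinv c
        rw [CoactBr.baseChange_coact_tmul]
        simp only [μ, TensorProduct.lift.tmul, LinearMap.comp_apply, LinearMap.mul_apply',
          AlgHom.toLinearMap_apply, IsScalarTower.coe_toAlgHom', GLin.IsCoactAlg.coact_mul, hc]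
        induction HopfRep.Comod.coact (k := R) (A := A) b with
        | zero => simp
        | add x y hx hy => simp only [mul_add, tmul_add, map_add, hx, hy]
        | tmul x y => simp [hΨ]
    have h' := LinearMap.congr_fun hβ (ι a)
    simp only [LinearMap.comp_apply, LinearMap.restrictScalars_apply] at h' ⊢
    rw [hμ, h']
    change Ψ (LinearMap.rTensor _ β (Coalgebra.comul (R := C) (ι a))) =
      LinearMap.rTensor A _ (Coalgebra.comul (R := R) a)
    simp only [ι, TensorProduct.mk_apply, TensorProduct.comul_tmul]
    induction Coalgebra.comul (R := R) a with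
    | zero => simp
    | add x y hx hy => simp only [map_add, tmul_add, hx, hy]
    | tmul x y =>
      simp only [CommSemiring.comul_apply, LinearMap.rTensor_tmul,
        TensorProduct.AlgebraTensorModule.tensorTensorTensorComm_tmul, LinearMap.comp_apply,
        LinearMap.restrictScalars_apply, TensorProduct.mk_apply]
      induction β ((1 : C) ⊗ₜ x) with
      | zero => simp
      | add u v hu hv => simp only [map_add, add_tmul, hu, hv]
      | tmul c b => simp [hΨ, μ]
  · simp only [LinearMap.comp_apply, LinearMap.restrictScalars_apply, ι, TensorProduct.mk_apply]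
    rw [← Algebra.TensorProduct.one_def, h1]
    simp [μ, Algebra.TensorProduct.one_def]


/-- Let `R` be a commutative ring, `A` a commutative Hopf algebra over `R`, flat as an `R`-module, `B` a
commutative `R`-algebra with a coaction of `A` that is an algebra map (an action of `G = Spec A` on
`X = Spec B`), and `C = B^A` the ring of invariants. If the action base-changed along `R → C` — the
`C`-Hopf algebra `C ⊗ A` coacting on `C ⊗ B` — is tame, i.e. there is a `C`-linear comodule map `β :
C ⊗ A → C ⊗ B` (regular coaction on the source, base-changed coaction on the target) with `β 1 = 1`,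
then the original action is tame: there is an `R`-linear comodule map `α : A → B` with `α 1 = 1`.
(The converse is the case `S = C` of stability of tameness under base change. The published lemma
also lists, as a third equivalent condition, tameness of the action of `C ⊗ A` on `B` itself over
`C`; that condition is not stated here.) -/
theorem result
    (R : Type u) (A : Type v) (B : Type w)
    [CommRing R] [CommRing A] [HopfAlgebra R A] [Module.Flat R A]
    [CommRing B] [Algebra R B] [HopfRep.Comod R A B] [GLin.IsCoactAlg R A B]
    (h : ∃ β : TensorProduct R ↥(GLin.invariants R A B) A →ₗ[↥(GLin.invariants R A B)]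
        TensorProduct R ↥(GLin.invariants R A B) B,
      @Hoch.IsComodHom ↥(GLin.invariants R A B) _ (TensorProduct R ↥(GLin.invariants R A B) A) _ _ _
        (TensorProduct R ↥(GLin.invariants R A B) A) _ _
        (HopfRep.Comod.regular ↥(GLin.invariants R A B) (TensorProduct R ↥(GLin.invariants R A B) A))
        (TensorProduct R ↥(GLin.invariants R A B) B) _ _
        (CoactBr.Comod.baseChange R ↥(GLin.invariants R A B) A B) β ∧ β 1 = 1) :
    ∃ α : A →ₗ[R] B, Hoch.IsComodHom A α ∧ α 1 = 1 := by
  obtain ⟨β, hβ, h1⟩ := h
  exact core (C := ↥(GLin.invariants R A B)) (fun c => c.2) β hβ h1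

end Groth.Agent.S14984
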