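import Groth.Agent.L16.HomSh.Adjunction
import Groth.Agent.L29.DCoh.TensorPerfect
import Groth.Agent.L29.LocFree
import Groth.Statements.S14988
-- import your own Groth.Agent.* helpers here

set_option autoImplicit false
universe u
open CategoryTheory CategoryTheory.Limits AlgebraicGeometry
open ResProp

namespace Groth.Agent.S14988

/-- In the case of schemes, let f : X ⟶ Y be a morphism of quasi-compact quasi-separated schemes. If
every quasi-coherent module on Y is a quotient of a direct sum of finite locally free modules (Y has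
the resolution property) and some family (W_i) of finite locally free modules on X is f-generating,
i.e. every quasi-coherent module on X is a quotient of a direct sum of modules W_i ⊗ f^*N with N
quasi-coherent on Y, then every quasi-coherent module on X is a quotient of a direct sum of finite
locally free modules (X has the resolution property). (The published statement is for quasi-compact
quasi-separated morphisms of algebraic stacks and assumes the family universally f-generating; this
row is the case of schemes and assumes the family only f-generating, which is what the argument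
uses.) -/
theorem result {X Y : Scheme.{u}}
    [CompactSpace X] [QuasiSeparatedSpace X] [CompactSpace Y] [QuasiSeparatedSpace Y] (f : X ⟶ Y)
    (hY : ∀ N : Y.Modules, Coh.IsQCoh N →
      ∃ (κ : Type u) (V : κ → Y.Modules) (π : (∐ V) ⟶ N), (∀ k, FlatMod.IsFinLocFree (V k)) ∧ Epi π)
    {ι : Type u} (W : ι → X.Modules) (hW : ∀ i, FlatMod.IsFinLocFree (W i))
    (hf : ∀ M : X.Modules, Coh.IsQCoh M →
      ∃ (κ : Type u) (j : κ → ι) (N : κ → Y.Modules)
        (π : (∐ fun k => CohB1.tensorMod (W (j k)) ((Scheme.Modules.pullback f).obj (N k))) ⟶ M),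
        (∀ k, Coh.IsQCoh (N k)) ∧ Epi π) :
    ∀ M : X.Modules, Coh.IsQCoh M →
      ∃ (κ : Type u) (E : κ → X.Modules) (π : (∐ E) ⟶ M), (∀ k, FlatMod.IsFinLocFree (E k)) ∧ Epi π := by
  intro M hM
  obtain ⟨κ, j, N, π, hN, hπ⟩ := hf M hM
  choose κ' V p hV hp using fun k : κ => hY (N k) (hN k)
  let A : κ → X.Modules := fun k => CohB1.tensorMod (W (j k)) ((Scheme.Modules.pullback f).obj (N k))
  let F : κ → (Y.Modules ⥤ X.Modules) := fun k =>
    Scheme.Modules.pullback f ⋙ Groth.L00.Tensor.tensorLeftF (W (j k))
  let E : (Σ k, κ' k) → X.Modules := fun a => (F a.1).obj (V a.1 a.2)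
  refine ⟨Σ k, κ' k, E,
    Sigma.desc (fun a => (F a.1).map (Sigma.ι (V a.1) a.2 ≫ p a.1) ≫ Sigma.ι A a.1 ≫ π),
    fun a => Groth.L29.DC.isFinLocFree_tensor (hW _) (Groth.L29.LocFree.pullback f (hV _ _)), ?_⟩
  refine Preadditive.epi_of_cancel_zero _ fun {Q : X.Modules} g hg => ?_
  haveI := hπ
  rw [← cancel_epi π, comp_zero]
  refine Sigma.hom_ext _ _ fun k => ?_
  rw [comp_zero]
  haveI : (F k).IsLeftAdjoint :=
    ((Scheme.Modules.pullbackPushforwardAdjunction f).comp
      (Groth.L16.HomSh.tensorHomAdj (W (j k)))).isLeftAdjoint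
  haveI := hp k
  refine (cancel_epi ((F k).map (p k))).1 ?_
  refine Eq.trans ?_ comp_zero.symm
  refine (isColimitCofanMkObjOfIsColimit (F k) _ _ (coproductIsCoproduct (V k))).hom_ext fun l => ?_
  obtain ⟨l⟩ := l
  rw [comp_zero]
  have h := congrArg (fun q => Sigma.ι E ⟨k, l⟩ ≫ q) hg
  simp only [comp_zero, Sigma.ι_desc_assoc, Functor.map_comp, Category.assoc] at h
  exact h

end Groth.Agent.S14988
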