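import Groth.Statements.S14990
import Groth.Agent.L24.Bertini.Main

set_option autoImplicit false
set_option backward.isDefEq.respectTransparency.types false
universe u
open CategoryTheory CategoryTheory.Limits AlgebraicGeometry
open Variety

namespace Groth.Agent.S14990

/-- Let k be an algebraically closed field, Y a scheme smooth and of finite type over k, L an invertible
O_Y-module, s_1, …, s_m global sections of L (morphisms O_Y ⟶ L) such that at every closed point p
the span of the s_i maps onto L_p/m_p^2 L_p, and f a further global section of L. Then the zero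
scheme of f + Σ c_i s_i is smooth over k for all c outside the zero set of some nonzero polynomial
in m variables. (The published hypothesis is stated at every point of Y; it can only hold at closed
points, which is where the argument uses it, so this row asks it at closed points.) -/
theorem result (k : Type u) [Field k] [IsAlgClosed k]
    (Y : Scheme.{u}) [Y.Over (Spec (CommRingCat.of k))] [Smooth (Y ↘ Spec (CommRingCat.of k))]
    [QuasiCompact (Y ↘ Spec (CommRingCat.of k))]
    (L : Y.Modules) (hL : FlatMod.IsFinLocFreeOfRank 1 L) (m : ℕ)
    (s : Fin m → (Coh.structureModule Y ⟶ L)) (f : Coh.structureModule Y ⟶ L)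
    (hjet : ∀ p : Y, IsClosed ({p} : Set Y) → ∀ l : ↥(L.presheaf.stalk p), ∃ c : Fin m → k,
      (L.presheaf.germ ⊤ p trivial)
          (PicF2.secVal L (∑ i : Fin m, Formal.smulMod k (Coh.structureModule Y) (c i) ≫ s i) ⊤) - l ∈
        (IsLocalRing.maximalIdeal ↥(Y.presheaf.stalk p)) ^ 2 •
          (⊤ : Submodule ↥(Y.presheaf.stalk p) ↥(L.presheaf.stalk p))) :
    ∃ q : MvPolynomial (Fin m) k, q ≠ 0 ∧ ∀ c : Fin m → k, MvPolynomial.eval c q ≠ 0 →
      Smooth ((PicF2.zeroScheme L (f + ∑ i : Fin m, Formal.smulMod k (Coh.structureModule Y) (c i) ≫ s i)).subschemeι ≫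
        (Y ↘ Spec (CommRingCat.of k))) := by
  exact Groth.L24.Bertini.exists_poly_smooth_of_jets (Groth.L24.Bertini.isInvertible_of_rank hL) s f hjet

end Groth.Agent.S14990
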