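import Groth.Statements.S14991
import Groth.Agent.S1691
import Groth.Agent.L14.ParaF.FinLoc
import Groth.Agent.L07.RefExtend.Coh
import Groth.Agent.L15.Ref.FreeLocus
import Groth.Agent.L03.RefRegAlg
import Groth.Agent.L22.PDual.RegVanish
import Groth.Agent.L16.NegPow.Gen
import Groth.Agent.L21.Mod.Locality
import Groth.Agent.L29.LocFree

set_option autoImplicit false
set_option linter.style.haveILetI false
universe u
open CategoryTheory CategoryTheory.Limits AlgebraicGeometry Opposite
open ResProp

namespace Groth.Agent.S14991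

theorem extend_epi (X : Scheme.{u}) [IsIntegral X] [IsLocallyNoetherian X]
    (hdim : topologicalKrullDim ↥X ≤ 2) (p : X) (U : X.Opens) (hU : (U : Set X) = {p}ᶜ)
    (hreg : IsRegularLocalRing ↥(X.presheaf.stalk p))
    (hd : (2 : ℕ∞) ≤ LocCoh.depth (X.presheaf.stalk p) (X.presheaf.stalk p))
    (F : X.Modules) (W : X.Opens) (hpW : p ∈ W) (hW : FlatMod.IsFinLocFree (F.restrict W.ι))
    (E : (U : Scheme.{u}).Modules) (π : E ⟶ F.restrict U.ι) (hE : FlatMod.IsFinLocFree E) (hπ : Epi π) :
    ∃ (E' : X.Modules) (π' : E' ⟶ F), FlatMod.IsFinLocFree E' ∧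
      Epi ((Scheme.Modules.restrictFunctor U.ι).map π') := by
  have hU' : ∀ x : ↥X, x ∉ U → (2 : ℕ∞) ≤ LocCoh.depth (X.presheaf.stalk x) (X.presheaf.stalk x) := by
    intro x hx
    obtain rfl : x = p := by
      by_contra h
      exact hx (show x ∈ (U : Set X) from hU ▸ h)
    exact hd
  have hO := Groth.L07.RefExtend.supportedOn_structureModule hU'
  have hF : Groth.L21.Extend.SupportedOn F U := by
    refine Groth.L14.ParaF.supportedOn_of_cover (fun b : Bool => cond b U W)
      (top_unique fun x _ => ?_) fun b => ?_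
    · by_cases hx : x = p
      · exact TopologicalSpace.Opens.mem_iSup.mpr ⟨false, hx ▸ hpW⟩
      · exact TopologicalSpace.Opens.mem_iSup.mpr ⟨true, show x ∈ (U : Set X) from hU ▸ hx⟩
    · cases b
      · exact Groth.L14.ParaF.supportedOn_of_finLocFree
          (Groth.L14.ParaF.supportedOn_structureModule_restrict W.ι hO) hW
      · show Groth.L21.Extend.SupportedOn (F.restrict U.ι) (U.ι ⁻¹ᵁ U)
        rw [Scheme.Opens.ι_preimage_self]
        exact Groth.L14.ParaF.supportedOn_top _
  haveI : IsIso ((Scheme.Modules.restrictAdjunction U.ι).unit.app F) :=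
    Groth.L14.ParaF.isIso_unit U.ι (by rw [Scheme.Opens.opensRange_ι]; exact hF)
  haveI : IsLocallyNoetherian (U : Scheme.{u}) := isLocallyNoetherian_of_isOpenImmersion U.ι
  have hEc : Coh.IsCoh E := Groth.L16.NegPow.isCoh_of_isFinLocFree hE
  obtain ⟨hc, hr⟩ := (Groth.Agent.S1691.result X U hU').2 E hEc fun x => by
    haveI := Groth.L18.LFP.free_stalk E hE x
    haveI := Groth.L19.SupportPullback.finite_stalk E hEc x
    infer_instance
  have hEU : FlatMod.IsFinLocFree (((Scheme.Modules.pushforward U.ι).obj E).restrict U.ι) :=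
    Groth.L29.LocFree.of_iso ((Scheme.Modules.restrictFunctorAdjCounitIso U.ι).app E).symm hE
  refine ⟨(Scheme.Modules.pushforward U.ι).obj E,
    (Scheme.Modules.pushforward U.ι).map π ≫ inv ((Scheme.Modules.restrictAdjunction U.ι).unit.app F), ?_, ?_⟩
  · haveI := hc.1
    refine Groth.L15.CohFlat.isFinLocFree_of_isCoh_isFlat _ hc fun x => ?_
    haveI := Groth.L19.SupportPullback.finite_stalk _ hc x
    by_cases hx : x = p
    · subst hx
      haveI := hreg
      haveI := Groth.L01.isDomain_of_regular (X.presheaf.stalk x)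
      haveI := hr x
      haveI := Groth.L03.RefRegAlg.free_of_isReflexive (R := X.presheaf.stalk x)
        ((Groth.L15.CohFlat.ringKrullDim_stalk_le x).trans hdim)
        (((Scheme.Modules.pushforward U.ι).obj E).presheaf.stalk x)
      exact (inferInstance : Module.Flat (X.presheaf.stalk x)
        (((Scheme.Modules.pushforward U.ι).obj E).presheaf.stalk x))
    · haveI := Groth.L15.Ref.free_of_restrict _ hc hEU (show x ∈ (U : Set X) from hU ▸ hx)
      exact (inferInstance : Module.Flat (X.presheaf.stalk x)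
        (((Scheme.Modules.pushforward U.ι).obj E).presheaf.stalk x))
  · rw [Functor.map_comp]
    haveI : Epi ((Scheme.Modules.restrictFunctor U.ι).map ((Scheme.Modules.pushforward U.ι).map π)) := by
      have h := (Scheme.Modules.restrictFunctorAdjCounitIso U.ι).hom.naturality π
      exact ((MorphismProperty.epimorphisms _).arrow_mk_iso_iff
        (Arrow.isoMk ((Scheme.Modules.restrictFunctorAdjCounitIso U.ι).app E)
          ((Scheme.Modules.restrictFunctorAdjCounitIso U.ι).app _) h.symm)).2 hπ
    exact inferInstance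

/-- In the case of schemes, let X be an integral scheme of dimension 2, separated and of finite type
over a field k and regular in codimension 1, F a coherent module on X, and p ≠ q regular closed
points of X near each of which F is finite locally free. If F restricted to X minus q and F
restricted to X minus p are both quotients of finite locally free modules, then F is a quotient of a
finite locally free module on X. (The published statement is for algebraic spaces and also assumes F
locally free off a closed subset of codimension 2, an assumption the argument does not use; this row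
is the case of schemes without it.) -/
theorem result {k : Type u} [Field k] (X : Scheme.{u})
    [X.Over (Spec (CommRingCat.of k))] [IsIntegral X] [IsSeparated (X ↘ Spec (CommRingCat.of k))]
    [LocallyOfFiniteType (X ↘ Spec (CommRingCat.of k))] [QuasiCompact (X ↘ Spec (CommRingCat.of k))]
    (hdim : topologicalKrullDim ↥X = 2)
    (hR1 : ∀ x : X, ringKrullDim ↥(X.presheaf.stalk x) ≤ 1 → IsRegularLocalRing ↥(X.presheaf.stalk x))
    (F : X.Modules) (hF : Coh.IsCoh F) (p q : X) (hpq : p ≠ q)
    (hp : IsClosed ({p} : Set X)) (hq : IsClosed ({q} : Set X))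
    (hpreg : IsRegularLocalRing ↥(X.presheaf.stalk p)) (hqreg : IsRegularLocalRing ↥(X.presheaf.stalk q))
    (hFp : ∃ W : X.Opens, p ∈ W ∧ FlatMod.IsFinLocFree (F.restrict W.ι))
    (hFq : ∃ W : X.Opens, q ∈ W ∧ FlatMod.IsFinLocFree (F.restrict W.ι))
    (Up Uq : X.Opens) (hUp : (Up : Set X) = {p}ᶜ) (hUq : (Uq : Set X) = {q}ᶜ)
    (hp' : ∃ (E : (↑Up : Scheme.{u}).Modules) (π : E ⟶ F.restrict Up.ι), FlatMod.IsFinLocFree E ∧ Epi π)
    (hq' : ∃ (E : (↑Uq : Scheme.{u}).Modules) (π : E ⟶ F.restrict Uq.ι), FlatMod.IsFinLocFree E ∧ Epi π) :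
    ∃ (E : X.Modules) (π : E ⟶ F), FlatMod.IsFinLocFree E ∧ Epi π := by
  haveI : IsLocallyNoetherian X := LocallyOfFiniteType.isLocallyNoetherian (X ↘ Spec (CommRingCat.of k))
  have hd : ∀ x : X, IsClosed ({x} : Set X) → IsRegularLocalRing ↥(X.presheaf.stalk x) →
      (2 : ℕ∞) ≤ LocCoh.depth (X.presheaf.stalk x) (X.presheaf.stalk x) := fun x hx hr => by
    haveI := hr
    exact (Groth.L22.PDual.depth_eq_dim (d := 2)
      (Groth.L22.PDual.dim_stalk_closed_point k (d := 2) (by exact_mod_cast hdim) hx)).ge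
  obtain ⟨W₁, hW₁, hW₁'⟩ := hFp
  obtain ⟨W₂, hW₂, hW₂'⟩ := hFq
  obtain ⟨E₁, π₁, hE₁, hπ₁⟩ := hp'
  obtain ⟨E₂, π₂, hE₂, hπ₂⟩ := hq'
  obtain ⟨A, a, hA, ha⟩ := extend_epi X hdim.le p Up hUp hpreg (hd p hp hpreg) F W₁ hW₁ hW₁' E₁ π₁ hE₁ hπ₁
  obtain ⟨B, b, hB, hb⟩ := extend_epi X hdim.le q Uq hUq hqreg (hd q hq hqreg) F W₂ hW₂ hW₂' E₂ π₂ hE₂ hπ₂
  refine ⟨A ⊞ B, biprod.desc a b, Groth.L29.LocFree.biprod hA hB,
    Groth.L21.Mod.epi_of_restrict_opens (fun c : Bool => cond c Up Uq) (top_unique fun x _ => ?_) _ fun c => ?_⟩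
  · by_cases hx : x = p
    · exact TopologicalSpace.Opens.mem_iSup.mpr ⟨false, show x ∈ (Uq : Set X) from hUq ▸ hx ▸ hpq⟩
    · exact TopologicalSpace.Opens.mem_iSup.mpr ⟨true, show x ∈ (Up : Set X) from hUp ▸ hx⟩
  · cases c <;> dsimp only [cond_true, cond_false]
    · haveI := hb
      refine epi_of_epi_fac (f := (Scheme.Modules.restrictFunctor Uq.ι).map (biprod.inr : B ⟶ A ⊞ B))
        (h := (Scheme.Modules.restrictFunctor Uq.ι).map b) ?_
      rw [← Functor.map_comp, biprod.inr_desc]
    · haveI := ha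
      refine epi_of_epi_fac (f := (Scheme.Modules.restrictFunctor Up.ι).map (biprod.inl : A ⟶ A ⊞ B))
        (h := (Scheme.Modules.restrictFunctor Up.ι).map a) ?_
      rw [← Functor.map_comp, biprod.inl_desc]

end Groth.Agent.S14991
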