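import Groth.Statements.S14994
import Mathlib.Algebra.Module.LocalizedModule.Basic
import Mathlib.LinearAlgebra.Dual.Lemmas
import Mathlib.Algebra.Module.Torsion.Basic
import Mathlib.RingTheory.Localization.FractionRing
import Mathlib.RingTheory.Localization.Integer
import Mathlib.RingTheory.Finiteness.Basic
import Mathlib.RingTheory.TensorProduct.Basic
import Mathlib.RingTheory.Localization.Module
import Mathlib.LinearAlgebra.Basis.VectorSpace

set_option autoImplicit false
universe u
open CAlg

namespace Groth.Agent.S14994

/-- Let A be a Noetherian integrally closed domain, M a finitely generated torsion-free A-module, N a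
submodule of M and ι : M → M** the canonical map to the double dual. Write N** → M** for the double
dual of the inclusion N → M. Then every m ∈ M whose image ι(m) lies in the image of N** is a torsion
element modulo N: some nonzero a ∈ A satisfies a·m ∈ N. In other words the preimage of N** under ι
is contained in the saturation of N in M (the preimage of the torsion submodule of M/N), and the two
coincide when M/N is torsion-free. (The published statement asserts equality of the preimage with
the saturation for every N; for N = xA inside M = A = k[x] the saturation is all of M while N** has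
image xA = N under the identification M** = M, so only the inclusion stated here holds, and it is
the inclusion later used, for saturated N, where the two sides agree.) -/
theorem result (A : Type u) [CommRing A] [IsDomain A]
    [IsNoetherianRing A] [IsIntegrallyClosed A]
    (M : Type u) [AddCommGroup M] [Module A M] [Module.Finite A M] [NoZeroSMulDivisors A M]
    (N : Submodule A M) :
    (LinearMap.range N.subtype.dualMap.dualMap).comap (Module.Dual.eval A M) ≤
      (Submodule.torsion A (M ⧸ N)).comap N.mkQ := by
  classical
  intro m hm
  simp only [Submodule.mem_comap] at hm ⊢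
  by_contra hne
  let K := FractionRing A
  let Q := M ⧸ N
  let V := LocalizedModule (nonZeroDivisors A) Q
  let ι : Q →ₗ[A] V := LocalizedModule.mkLinearMap (nonZeroDivisors A) Q
  have hι : ι (N.mkQ m) ≠ 0 := fun h => hne <| by
    obtain ⟨s, hs⟩ := (IsLocalizedModule.eq_zero_iff (nonZeroDivisors A) ι).mp h
    exact ⟨s, hs⟩
  obtain ⟨g, hg⟩ : ∃ g : V →ₗ[K] K, g (ι (N.mkQ m)) ≠ 0 := by
    obtain ⟨g, hg⟩ := not_forall.mp (mt (Module.forall_dual_apply_eq_zero_iff K (ι (N.mkQ m))).mp hι)
    exact ⟨g, hg⟩
  let h : M →ₗ[A] K := (g.restrictScalars A).comp (ι.comp N.mkQ)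
  obtain ⟨s, hs⟩ := (‹Module.Finite A M›).fg_top
  obtain ⟨d, hd⟩ := IsLocalization.exist_integer_multiples_of_finset (nonZeroDivisors A) (s.image fun x => h x)
  have hint : ∀ x : M, IsLocalization.IsInteger A ((d : A) • h x) := by
    intro x
    have hx : x ∈ Submodule.span A (s : Set M) := hs ▸ Submodule.mem_top
    induction hx using Submodule.span_induction with
    | mem y hy => exact hd _ (Finset.mem_image_of_mem _ hy)
    | zero => simp [IsLocalization.isInteger_zero]
    | add y z _ _ hy hz => rw [map_add, smul_add]; exact IsLocalization.isInteger_add hy hz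
    | smul c y _ hy => rw [map_smul, smul_comm]; exact IsLocalization.isInteger_smul hy
  choose ℓ hℓ using hint
  let L : M →ₗ[A] A :=
    { toFun := ℓ
      map_add' := fun x y => IsFractionRing.injective A K (by rw [map_add, hℓ, hℓ, hℓ, map_add, smul_add])
      map_smul' := fun c x => IsFractionRing.injective A K (by
        rw [RingHom.id_apply, smul_eq_mul, map_mul, hℓ, hℓ, map_smul, smul_comm, Algebra.smul_def c]) }
  obtain ⟨φ, hφ⟩ := hm
  have h1 : L m = φ (L.comp N.subtype) := by
    have := LinearMap.congr_fun hφ L
    exact this.symm
  have h2 : L.comp N.subtype = 0 := by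
    refine LinearMap.ext fun x => IsFractionRing.injective A K ?_
    show algebraMap A K (ℓ x) = algebraMap A K 0
    rw [hℓ, map_zero]
    have h0 : N.mkQ (x : M) = 0 := (Submodule.Quotient.mk_eq_zero N).mpr x.2
    show (d : A) • g (ι (N.mkQ (x : M))) = 0
    rw [h0, map_zero, map_zero, smul_zero]
  rw [h2, map_zero] at h1
  have h3 : algebraMap A K (ℓ m) = 0 := by rw [show ℓ m = 0 from h1, map_zero]
  rw [hℓ, Algebra.smul_def, mul_eq_zero] at h3
  exact h3.elim (fun h => nonZeroDivisors.ne_zero d.2 ((map_eq_zero_iff _ (IsFractionRing.injective A K)).mp h)) hg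

end Groth.Agent.S14994
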