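import Groth.Statements.S14997
import Mathlib.Algebra.Polynomial.Taylor
import Mathlib.Algebra.Polynomial.HasseDeriv
import Mathlib.Data.Nat.Choose.Cast
import Mathlib.Tactic.FieldSimp
import Mathlib.Tactic.Ring
import Mathlib.Order.PiLex
import Mathlib.Algebra.BigOperators.Field

set_option autoImplicit false
open HilbPol

namespace Groth.Agent.S14997

open Polynomial in
/-- Let d and ℓ be natural numbers with ℓ + 1 ≤ d, let a be a nonzero rational number and let P, Q be
polynomials with rational coefficients, both of degree exactly d. For a polynomial R of degree e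
write R(m) = Σ_i α_i(R) m^i / i! (so α_i(R) = i! · coeff_i(R)) and let r_ℓ(R) ∈ ℚ^ℓ be the vector
(α_{e−1}(R)/α_e(R), …, α_{e−ℓ}(R)/α_e(R)) of the ℓ coefficients after the leading one of the reduced
polynomial R/α_e(R), ordered lexicographically. The polynomials P(m) − P(m − a) and Q(m) − Q(m − a)
have degree d − 1, and r_ℓ(P) ≤ r_ℓ(Q) lexicographically if and only if r_ℓ(P(m) − P(m − a)) ≤
r_ℓ(Q(m) − Q(m − a)) lexicographically (hence the same with strict inequalities, by exchanging P and
Q). When P and Q are the Hilbert polynomials of pure d-dimensional coherent sheaves E → F on a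
polarized projective scheme and D is a hypersurface section of degree a containing no associated
point of E or F, the Hilbert polynomials of E|_D and F|_D are P(m) − P(m − a) and Q(m) − Q(m − a),
and the two sides are the comparisons of the ℓ-truncated reduced Hilbert polynomials p_ℓ(E) ≥ p_ℓ(F)
and p_ℓ(E|_D) ≥ p_ℓ(F|_D). (The published statement is phrased for the sheaves; this row is the
statement about their Hilbert polynomials that the displayed coefficient formula yields.) -/
theorem result (d ℓ : ℕ) (hℓ : ℓ + 1 ≤ d) (a : ℚ) (ha : a ≠ 0)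
    (P Q : ℚ[X]) (hP : P.natDegree = d) (hQ : Q.natDegree = d) (hP0 : P ≠ 0) (hQ0 : Q ≠ 0) :
    toLex (fun j : Fin ℓ => ((P).coeff (d - 1 - (j : ℕ)) * (Nat.factorial (d - 1 - (j : ℕ)) : ℚ)) / ((P).coeff (d) * (Nat.factorial (d) : ℚ))) ≤ toLex (fun j : Fin ℓ => ((Q).coeff (d - 1 - (j : ℕ)) * (Nat.factorial (d - 1 - (j : ℕ)) : ℚ)) / ((Q).coeff (d) * (Nat.factorial (d) : ℚ))) ↔
      toLex (fun j : Fin ℓ => ((P - P.comp (X - C a)).coeff ((d - 1) - 1 - (j : ℕ)) * (Nat.factorial ((d - 1) - 1 - (j : ℕ)) : ℚ)) / ((P - P.comp (X - C a)).coeff ((d - 1)) * (Nat.factorial ((d - 1)) : ℚ))) ≤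
        toLex (fun j : Fin ℓ => ((Q - Q.comp (X - C a)).coeff ((d - 1) - 1 - (j : ℕ)) * (Nat.factorial ((d - 1) - 1 - (j : ℕ)) : ℚ)) / ((Q - Q.comp (X - C a)).coeff ((d - 1)) * (Nat.factorial ((d - 1)) : ℚ))) := by
  classical
  let b : ℕ → ℚ := fun m => (-a) ^ (m + 1) / ((m + 1).factorial : ℚ)
  let al : ℚ[X] → ℕ → ℚ := fun R i => R.coeff i * (i.factorial : ℚ)
  -- coefficients of `R(X) - R(X - a)`
  have hcoeff : ∀ (R : ℚ[X]), R.natDegree = d → ∀ e < d,
      al (R - R.comp (Polynomial.X - Polynomial.C a)) e = -∑ m ∈ Finset.range (d - e), al R (e + 1 + m) * b m := by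
    intro R hR e he
    have h1 : (R.comp (Polynomial.X - Polynomial.C a)).coeff e = (Polynomial.hasseDeriv e R).eval (-a) := by
      rw [← Polynomial.taylor_coeff, Polynomial.taylor_apply, map_neg, sub_eq_add_neg]
    have hdeg : (Polynomial.hasseDeriv e R).natDegree < d - e + 1 :=
      Nat.lt_succ_of_le ((Polynomial.natDegree_hasseDeriv_le R e).trans (by rw [hR]))
    rw [Polynomial.eval_eq_sum_range' hdeg, Finset.sum_range_succ'] at h1
    simp only [Polynomial.hasseDeriv_coeff, zero_add, Nat.choose_self, Nat.cast_one, one_mul, pow_zero, mul_one] at h1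
    change (R - R.comp (Polynomial.X - Polynomial.C a)).coeff e * (e.factorial : ℚ) = _
    rw [Polynomial.coeff_sub, h1, sub_add_cancel_right, neg_mul, Finset.sum_mul]
    congr 1
    refine Finset.sum_congr rfl fun m _ => ?_
    rw [show m + 1 + e = e + 1 + m by omega]
    have hc := Nat.choose_mul_factorial_mul_factorial (show e ≤ e + 1 + m by omega)
    rw [show e + 1 + m - e = m + 1 by omega] at hc
    have hc' : ((e + 1 + m).choose e : ℚ) * (e.factorial : ℚ) * ((m + 1).factorial : ℚ) =
        ((e + 1 + m).factorial : ℚ) := by exact_mod_cast hc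
    have hm : ((m + 1).factorial : ℚ) ≠ 0 := by exact_mod_cast (m + 1).factorial_ne_zero
    change _ = R.coeff (e + 1 + m) * ((e + 1 + m).factorial : ℚ) * ((-a) ^ (m + 1) / ((m + 1).factorial : ℚ))
    rw [← hc']
    field_simp
  have hb0 : b 0 ≠ 0 := by simp [b, ha]
  let G : (Fin ℓ → ℚ) → Fin ℓ → ℚ := fun r j => ∑ m ∈ Finset.range ((j : ℕ) + 1),
    b (m + 1) / b 0 * (if h : m < (j : ℕ) then r ⟨(j : ℕ) - 1 - m, by omega⟩ else 1)
  have hG : ∀ (r r' : Fin ℓ → ℚ) (j : Fin ℓ), (∀ i < j, r i = r' i) → G r j = G r' j := by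
    intro r r' j h
    refine Finset.sum_congr rfl fun m _ => ?_
    split_ifs with hm
    · rw [h _ (by rw [Fin.lt_def]; change (j : ℕ) - 1 - m < j; omega)]
    · rfl
  have hu : ∀ (R : ℚ[X]), R.natDegree = d → R ≠ 0 →
      (fun j : Fin ℓ => ((R - R.comp (Polynomial.X - Polynomial.C a)).coeff ((d - 1) - 1 - (j : ℕ)) * (Nat.factorial ((d - 1) - 1 - (j : ℕ)) : ℚ)) /
        ((R - R.comp (Polynomial.X - Polynomial.C a)).coeff (d - 1) * (Nat.factorial (d - 1) : ℚ))) =
      fun j : Fin ℓ => al R (d - 1 - (j : ℕ)) / al R d +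
        G (fun j => al R (d - 1 - (j : ℕ)) / al R d) j := by
    intro R hR hR0
    funext j
    have hd0 : al R d ≠ 0 := by
      refine mul_ne_zero ?_ (by exact_mod_cast d.factorial_ne_zero)
      rw [← hR]; exact Polynomial.leadingCoeff_ne_zero.2 hR0
    have hj := j.isLt
    change al _ (d - 1 - 1 - (j : ℕ)) / al _ (d - 1) = _
    rw [hcoeff R hR _ (by omega), hcoeff R hR _ (by omega), show d - (d - 1 - 1 - (j : ℕ)) = (j : ℕ) + 1 + 1 by omega,
      show d - (d - 1) = 1 by omega, Finset.sum_range_one, show d - 1 + 1 + 0 = d by omega, Finset.sum_range_succ']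
    rw [show d - 1 - 1 - (j : ℕ) + 1 + 0 = d - 1 - (j : ℕ) by omega, neg_div_neg_eq, add_div, mul_div_mul_right _ _ hb0,
      add_comm, Finset.sum_div]
    congr 1
    refine Finset.sum_congr rfl fun m hm => ?_
    rw [Finset.mem_range] at hm
    by_cases hmj : m < (j : ℕ)
    · rw [dif_pos hmj, show d - 1 - (j : ℕ) + (m + 1) = d - 1 - ((j : ℕ) - 1 - m) by omega]
      field_simp
    · rw [dif_neg hmj, show d - 1 - (j : ℕ) + (m + 1) = d by omega]
      field_simp
  -- the triangular change of coordinates respects the order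
  have heqv : ∀ (r s : Fin ℓ → ℚ), (∀ j, r j + G r j = s j + G s j) → r = s := by
    intro r s h
    have : ∀ n, ∀ j : Fin ℓ, (j : ℕ) = n → r j = s j := by
      intro n
      induction n using Nat.strong_induction_on with
      | _ n IH =>
        intro j hjn
        have := h j
        rw [hG r s j fun i hi => IH i (by rw [← hjn]; exact hi) i rfl] at this
        exact add_right_cancel this
    exact funext fun j => this j j rfl
  have hlt : ∀ (r s : Fin ℓ → ℚ), toLex r < toLex s → toLex (fun j => r j + G r j) < toLex (fun j => s j + G s j) := by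
    rintro r s ⟨i, h1, h2⟩
    refine ⟨i, fun j hj => ?_, ?_⟩
    · change r j + G r j = s j + G s j
      rw [hG r s j fun t ht => h1 t (ht.trans hj), show r j = s j from h1 j hj]
    · change r i + G r i < s i + G s i
      rw [hG r s i fun t ht => h1 t ht]
      exact (add_lt_add_iff_right _).2 h2
  rw [hu P hP hP0, hu Q hQ hQ0]
  constructor
  · intro h
    rcases h.eq_or_lt with h | h
    · rw [toLex.injective.eq_iff] at h
      exact le_of_eq (congrArg toLex (funext fun j => by rw [show (fun j : Fin ℓ => al P (d - 1 - (j : ℕ)) / al P d) = _ from h]; exact congrArg (· + _) (congrFun h j)))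
    · exact (hlt _ _ h).le
  · intro h
    by_contra hne
    have := hlt _ _ (not_le.1 hne)
    exact absurd h (not_le.2 this)

end Groth.Agent.S14997
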