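import Groth.Statements.S14998
import Groth.Agent.L19.AlgGrpBasic.GUnivClosed

set_option autoImplicit false
set_option backward.isDefEq.respectTransparency.types false
set_option backward.isDefEq.respectTransparency false
set_option linter.style.haveILetI false
universe u
open CategoryTheory CategoryTheory.Limits AlgebraicGeometry
open AlgGrp

namespace Groth.Agent.S14998

/-- Let k be a field and G a group scheme over k (a group object of schemes over Spec k) acting on a
k-scheme R of finite type. Let f : R → S and q : S → T be morphisms of k-schemes of finite type such
that q is separated, f is invariant under the action, and the composite p = q ∘ f is G-universally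
closed: p is invariant and for every discrete valuation ring A over k with fraction field K, every
K-point of R and A-point of T over k forming a commutative square with p admit an A-point of R over
T restricting on Spec K to a translate of the given K-point by a K-point of G. Then the
set-theoretic image f(R) is closed in S, and the reduced closed subscheme of S with underlying set
f(R) is proper over T. (The published statement fixes a connected algebraic group over the complex
numbers; this row allows any group scheme over any field, which is what the printed argument uses.) -/
theorem result (k : Type u) [Field k]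
    (G R S T : Over (Spec (CommRingCat.of k))) [GrpObj G]
    [LocallyOfFiniteType R.hom] [CompactSpace ↥R.left] [LocallyOfFiniteType S.hom] [CompactSpace ↥S.left]
    [LocallyOfFiniteType T.hom] [CompactSpace ↥T.left]
    (a : AlgGrp.Action G R) (f : R ⟶ S) (q : S ⟶ T) [IsSeparated q.left]
    (hf : W4c2lssmoduli.IsInvariantMor a f) (hp : W4c2lssmoduli.IsGUnivClosed a (f ≫ q)) :
    IsClosed (Set.range f.left.base) ∧
      IsProper ((Scheme.IdealSheafData.vanishingIdeal
          (⟨closure (Set.range f.left.base), isClosed_closure⟩ : TopologicalSpace.Closeds ↥S.left)).subschemeι ≫ q.left) := by
  haveI : IsLocallyNoetherian R.left := LocallyOfFiniteType.isLocallyNoetherian R.hom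
  haveI : IsLocallyNoetherian S.left := LocallyOfFiniteType.isLocallyNoetherian S.hom
  haveI : IsLocallyNoetherian T.left := LocallyOfFiniteType.isLocallyNoetherian T.hom
  haveI : IsNoetherian R.left := {}
  haveI : IsNoetherian S.left := {}
  haveI : IsNoetherian T.left := {}
  haveI : LocallyOfFiniteType (f.left ≫ S.hom) := by rw [Over.w f]; infer_instance
  haveI : LocallyOfFiniteType f.left := locallyOfFiniteType_of_comp f.left S.hom
  haveI : LocallyOfFiniteType (q.left ≫ T.hom) := by rw [Over.w q]; infer_instance
  haveI : LocallyOfFiniteType q.left := locallyOfFiniteType_of_comp q.left T.hom
  have hcl := Groth.L19.AlgGrpBasic.GUnivClosed.isClosed_range a f q hf hp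
  refine ⟨hcl, ?_⟩
  let c := (Scheme.IdealSheafData.vanishingIdeal
    (⟨closure (Set.range f.left.base), isClosed_closure⟩ : TopologicalSpace.Closeds ↥S.left)).subschemeι
  have hc : Set.range c = Set.range f.left := by
    rw [Scheme.IdealSheafData.range_subschemeι]
    exact hcl.closure_eq
  haveI : UniversallyClosed (c ≫ q.left) :=
    Groth.L19.AlgGrpBasic.GUnivClosed.universallyClosed_comp a f q hf hp c hc
  exact {}

end Groth.Agent.S14998
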