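import Groth.Statements.S14999
import Groth.Agent.L19.AlgGrpBasic.GUnivClosed
import Groth.Agent.S0573
import Groth.Agent.S0566
import Groth.Agent.L18.NormalizationField

set_option autoImplicit false
set_option backward.isDefEq.respectTransparency.types false
set_option backward.isDefEq.respectTransparency false
set_option linter.style.haveILetI false
universe u
open CategoryTheory CategoryTheory.Limits AlgebraicGeometry
open AlgGrp

namespace Groth.Agent.S14999

/-- Let k be a field, A a finitely generated k-algebra and G a group scheme over k acting on an integral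
k-scheme Y of finite type; let p : Y → Spec A be a morphism over k which is G-universally closed
(invariant under the action, and for every discrete valuation ring over k with fraction field K
every commutative square of a K-point of Y and a point of Spec A with values in that ring lifts, up
to translation of the K-point by a K-point of G, to a point of Y with values in the ring). Call a
global function s on Y invariant when its pullbacks along the action morphism and along the
projection G ×_k Y → Y agree. Then the invariant global functions form a finite A-module: there are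
finitely many invariant functions such that every invariant function is a linear combination of them
with coefficients from A (acting on Γ(Y, O_Y) through p). (The published statement is for an
integral G-stable closed subscheme Y of a G-universally closed scheme over Spec A, with k the
complex numbers and G a connected algebraic group; such a Y is itself G-universally closed over Spec
A, and the printed argument uses only a field k and a group scheme G.) -/
theorem result (k : Type u) [Field k]
    (G Y : Over (Spec (CommRingCat.of k))) [GrpObj G]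
    [LocallyOfFiniteType Y.hom] [CompactSpace ↥Y.left] [IsIntegral Y.left]
    (A : Type u) [CommRing A] [Algebra k A] [Algebra.FiniteType k A]
    (a : AlgGrp.Action G Y)
    (p : Y ⟶ Over.mk (Spec.map (CommRingCat.ofHom (algebraMap k A))))
    (hp : W4c2lssmoduli.IsGUnivClosed a p) :
    ∃ t : Finset ↑Γ(Y.left, ⊤),
      (∀ s ∈ t, a.act.left.appTop s = (CartesianMonoidalCategory.snd G Y).left.appTop s) ∧
      ∀ s : ↑Γ(Y.left, ⊤), a.act.left.appTop s = (CartesianMonoidalCategory.snd G Y).left.appTop s →
        ∃ c : ↑Γ(Y.left, ⊤) → A,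
          s = ∑ x ∈ t, ((Scheme.ΓSpecIso (CommRingCat.of A)).inv ≫ p.left.appTop) (c x) * x := by
  classical
  haveI : IsLocallyNoetherian (Spec (CommRingCat.of k)) := inferInstance
  haveI : IsNoetherianRing A := Algebra.FiniteType.isNoetherianRing k A
  haveI : IsLocallyNoetherian Y.left := LocallyOfFiniteType.isLocallyNoetherian Y.hom
  haveI : IsNoetherian Y.left := {}
  let pA : A →+* Γ(Y.left, ⊤) := ((Scheme.ΓSpecIso (CommRingCat.of A)).inv ≫ p.left.appTop).hom
  letI : Algebra A Γ(Y.left, ⊤) := pA.toAlgebra
  have hp0 : a.act ≫ p = CartesianMonoidalCategory.snd G Y ≫ p := hp.1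
  have hpA : ∀ c : A, a.act.left.appTop.hom (pA c) = (CartesianMonoidalCategory.snd G Y).left.appTop.hom (pA c) := by
    intro c
    have h := congrArg (fun m => m.left.appTop.hom ((Scheme.ΓSpecIso (CommRingCat.of A)).inv.hom c)) hp0
    simpa [Over.comp_left, Scheme.Hom.comp_appTop, pA] using h
  have hYA : p.left = Y.left.toSpecΓ ≫ Spec.map (CommRingCat.ofHom pA) := by
    simp only [pA, CommRingCat.ofHom_hom, Spec.map_comp]
    rw [← Scheme.toSpecΓ_naturality_assoc]
    exact ((congrArg (p.left ≫ ·) (toSpecΓ_SpecMap_ΓSpecIso_inv (CommRingCat.of A))).trans (Category.comp_id _)).symm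
  have hint : ∀ s : Γ(Y.left, ⊤), a.act.left.appTop s = (CartesianMonoidalCategory.snd G Y).left.appTop s →
      pA.IsIntegralElem s := by
    intro s hs
    let φ : Polynomial A →+* Γ(Y.left, ⊤) := Polynomial.eval₂RingHom pA s
    have hφC : φ.comp Polynomial.C = pA := RingHom.ext fun c => Polynomial.eval₂_C _ _
    have hφinv : a.act.left.appTop.hom.comp φ = (CartesianMonoidalCategory.snd G Y).left.appTop.hom.comp φ :=
      Polynomial.ringHom_ext (fun c => by simpa [φ] using hpA c) (by simpa [φ] using hs)
    let C₀ := CommRingCat.ofHom (Polynomial.C : A →+* Polynomial A)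
    let T : Over (Spec (CommRingCat.of k)) := Over.mk (Spec.map (CommRingCat.ofHom (algebraMap k A)))
    let S₁ : Over (Spec (CommRingCat.of k)) := Over.mk (Spec.map C₀ ≫ T.hom)
    let q : S₁ ⟶ T := Over.homMk (Spec.map C₀)
    let f₀ : Y.left ⟶ Spec (CommRingCat.of (Polynomial A)) := Y.left.toSpecΓ ≫ Spec.map (CommRingCat.ofHom φ)
    have hfq : f₀ ≫ Spec.map C₀ = p.left := by
      rw [hYA, Category.assoc, ← Spec.map_comp, ← CommRingCat.ofHom_comp, hφC]
    let f : Y ⟶ S₁ := Over.homMk f₀ (by
      show f₀ ≫ Spec.map C₀ ≫ T.hom = Y.hom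
      rw [reassoc_of% hfq]
      exact Over.w p)
    have hfp : f ≫ q = p := Over.OverMorphism.ext hfq
    have hf : W4c2lssmoduli.IsInvariantMor a f := Over.OverMorphism.ext (by
      show a.act.left ≫ Y.left.toSpecΓ ≫ Spec.map (CommRingCat.ofHom φ) =
        (CartesianMonoidalCategory.snd G Y).left ≫ Y.left.toSpecΓ ≫ Spec.map (CommRingCat.ofHom φ)
      rw [Scheme.toSpecΓ_naturality_assoc, Scheme.toSpecΓ_naturality_assoc, ← Spec.map_comp, ← Spec.map_comp]
      congr 2
      exact CommRingCat.hom_ext hφinv)
    haveI : LocallyOfFiniteType S₁.hom := by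
      show LocallyOfFiniteType (Spec.map C₀ ≫ Spec.map (CommRingCat.ofHom (algebraMap k A)))
      rw [← Spec.map_comp, HasRingHomProperty.Spec_iff (P := @LocallyOfFiniteType), ← CommRingCat.ofHom_comp,
        CommRingCat.hom_ofHom]
      exact RingHom.finiteType_algebraMap.2 ((inferInstance : Algebra.FiniteType k (Polynomial A)))
    haveI : LocallyOfFiniteType T.hom := by
      show LocallyOfFiniteType (Spec.map (CommRingCat.ofHom (algebraMap k A)))
      rw [HasRingHomProperty.Spec_iff (P := @LocallyOfFiniteType), CommRingCat.hom_ofHom]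
      exact RingHom.finiteType_algebraMap.2 inferInstance
    haveI : IsAffine S₁.left := inferInstanceAs (IsAffine (Spec _))
    haveI : IsAffine T.left := inferInstanceAs (IsAffine (Spec _))
    haveI : IsLocallyNoetherian S₁.left := LocallyOfFiniteType.isLocallyNoetherian S₁.hom
    haveI : IsLocallyNoetherian T.left := LocallyOfFiniteType.isLocallyNoetherian T.hom
    haveI : LocallyOfFiniteType (f.left ≫ S₁.hom) := by rw [Over.w f]; infer_instance
    haveI : LocallyOfFiniteType f.left := locallyOfFiniteType_of_comp f.left S₁.hom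
    haveI : LocallyOfFiniteType (q.left ≫ T.hom) := by rw [Over.w q]; infer_instance
    haveI : LocallyOfFiniteType q.left := locallyOfFiniteType_of_comp q.left T.hom
    haveI : IsSeparated q.left := inferInstance
    have hp' : W4c2lssmoduli.IsGUnivClosed a (f ≫ q) := hfp ▸ hp
    have hcl := Groth.L19.AlgGrpBasic.GUnivClosed.isClosed_range a f q hf hp'
    let c := (Scheme.IdealSheafData.vanishingIdeal
      (⟨closure (Set.range f.left.base), isClosed_closure⟩ : TopologicalSpace.Closeds ↥S₁.left)).subschemeι
    have hc : Set.range c = Set.range f.left := by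
      rw [Scheme.IdealSheafData.range_subschemeι]
      exact hcl.closure_eq
    haveI : UniversallyClosed (c ≫ q.left) :=
      Groth.L19.AlgGrpBasic.GUnivClosed.universallyClosed_comp a f q hf hp' c hc
    haveI : IsFinite (c ≫ q.left) := IsFinite.iff_isProper_and_isAffineHom.2 ⟨{}, inferInstance⟩
    obtain ⟨l, hl⟩ := Groth.L19.exists_lift_of_isImmersion c f.left hc.ge
    have hZ := RingHom.Finite.to_isIntegral (Scheme.Hom.finite_appTop (c ≫ q.left))
    let X' : Γ(S₁.left, ⊤) := (Scheme.ΓSpecIso (CommRingCat.of (Polynomial A))).inv.hom Polynomial.X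
    obtain ⟨P, hPm, hP⟩ := hZ (c.appTop.hom X')
    have hs' : l.appTop.hom (c.appTop.hom X') = s := by
      rw [← RingHom.comp_apply, ← CommRingCat.hom_comp, ← Scheme.Hom.comp_appTop, hl]
      show f₀.appTop.hom X' = s
      have e : f₀.appTop = (Scheme.ΓSpecIso (CommRingCat.of (Polynomial A))).hom ≫ CommRingCat.ofHom φ := by
        simp only [f₀, Scheme.Hom.comp_appTop, Scheme.toSpecΓ_appTop]
        exact Scheme.ΓSpecIso_naturality _
      rw [e]
      show φ ((Scheme.ΓSpecIso (CommRingCat.of (Polynomial A))).hom.hom X') = s
      rw [show (Scheme.ΓSpecIso (CommRingCat.of (Polynomial A))).hom.hom X' = Polynomial.X from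
        (Scheme.ΓSpecIso (CommRingCat.of (Polynomial A))).commRingCatIsoToRingEquiv.apply_symm_apply _]
      exact Polynomial.eval₂_X _ _
    refine ⟨P.map (Scheme.ΓSpecIso (CommRingCat.of A)).hom.hom, hPm.map _, ?_⟩
    have e3 : pA.comp (Scheme.ΓSpecIso (CommRingCat.of A)).hom.hom =
        l.appTop.hom.comp (c ≫ q.left).appTop.hom := by
      have e4 : l.appTop.hom.comp (c ≫ q.left).appTop.hom = p.left.appTop.hom := by
        rw [← CommRingCat.hom_comp, ← Scheme.Hom.comp_appTop, ← Category.assoc, hl,
          show f.left ≫ q.left = p.left from hfq]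
      rw [e4]
      refine RingHom.ext fun z => ?_
      show p.left.appTop.hom ((Scheme.ΓSpecIso (CommRingCat.of A)).inv.hom ((Scheme.ΓSpecIso (CommRingCat.of A)).hom.hom z)) = _
      rw [show (Scheme.ΓSpecIso (CommRingCat.of A)).inv.hom ((Scheme.ΓSpecIso (CommRingCat.of A)).hom.hom z) = z from
        (Scheme.ΓSpecIso (CommRingCat.of A)).commRingCatIsoToRingEquiv.symm_apply_apply z]
      rfl
    rw [Polynomial.eval₂_map, e3, ← hs', ← Polynomial.hom_eval₂, hP, map_zero]
  obtain ⟨_, ⟨V, hV, rfl⟩, hxV, -⟩ := Y.left.isBasis_affineOpens.exists_subset_of_mem_open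
    (Set.mem_univ (genericPoint Y.left)) isOpen_univ
  haveI : Nonempty V := ⟨⟨_, hxV⟩⟩
  let res : Γ(Y.left, ⊤) →+* Γ(Y.left, V) := (Y.left.presheaf.map (homOfLE (le_top : V ≤ ⊤)).op).hom
  have hres : Function.Injective res := map_injective_of_isIntegral Y.left _
  letI : Algebra A Γ(Y.left, V) := (res.comp pA).toAlgebra
  haveI : Algebra.FiniteType A Γ(Y.left, V) := by
    haveI : LocallyOfFiniteType (p.left ≫ Spec.map (CommRingCat.ofHom (algebraMap k A))) := by
      rw [show p.left ≫ Spec.map (CommRingCat.ofHom (algebraMap k A)) = Y.hom from Over.w p]; infer_instance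
    haveI : LocallyOfFiniteType p.left :=
      locallyOfFiniteType_of_comp p.left (Spec.map (CommRingCat.ofHom (algebraMap k A)))
    have h1 := p.left.finiteType_appLE (isAffineOpen_top (Spec (CommRingCat.of A))) hV (show V ≤ p.left ⁻¹ᵁ ⊤ from le_top)
    show (res.comp pA).FiniteType
    exact h1.comp (RingHom.FiniteType.of_surjective (Scheme.ΓSpecIso (CommRingCat.of A)).inv.hom
      (Scheme.ΓSpecIso (CommRingCat.of A)).commRingCatIsoToRingEquiv.symm.surjective)
  haveI : IsReduced (V : Scheme) := inferInstance
  haveI : _root_.IsReduced Γ(Y.left, V) := IsReduced.component_reduced V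
  haveI := Groth.Agent.S0573.result A (Groth.Agent.S0566.result k (Groth.L18.NormField.isNagata_field k) A) Γ(Y.left, V)
  let M : Submodule A Γ(Y.left, ⊤) :=
    { carrier := {s | a.act.left.appTop.hom s = (CartesianMonoidalCategory.snd G Y).left.appTop.hom s}
      add_mem' := fun {x y} (hx : _ = _) (hy : _ = _) => show _ = _ by rw [map_add, map_add, hx, hy]
      zero_mem' := show _ = _ by rw [map_zero, map_zero]
      smul_mem' := fun c x (hx : _ = _) => show _ = _ by
        rw [Algebra.smul_def, map_mul, map_mul, hx]
        exact congrArg (· * _) (hpA c) }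
  let r : M →ₗ[A] integralClosure A Γ(Y.left, V) :=
    { toFun := fun x => ⟨res x.1, by
        obtain ⟨P, hPm, hP⟩ := hint x.1 x.2
        refine ⟨P, hPm, ?_⟩
        show P.eval₂ (res.comp pA) (res x.1) = 0
        rw [← Polynomial.hom_eval₂, hP, map_zero]⟩
      map_add' := fun x y => Subtype.ext (map_add res _ _)
      map_smul' := fun c x => Subtype.ext (map_mul res _ _) }
  haveI : Module.Finite A M := Module.Finite.of_injective r fun x y h =>
    Subtype.ext (hres (congrArg Subtype.val h))
  obtain ⟨t, ht⟩ := (Module.Finite.iff_fg.1 ‹_› : M.FG)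
  refine ⟨t, fun s hs => ?_, fun s hs => ?_⟩
  · exact (show s ∈ M from ht ▸ Submodule.subset_span hs)
  · obtain ⟨c, -, hc⟩ := Submodule.mem_span_finset.1 (show s ∈ Submodule.span A (t : Set Γ(Y.left, ⊤)) from ht.symm ▸ hs)
    exact ⟨c, hc.symm⟩

end Groth.Agent.S14999
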