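import Groth.Statements.S15002
import Groth.Agent.L17.Stable.LexSimple

set_option autoImplicit false
universe u
open CategoryTheory CategoryTheory.Limits AlgebraicGeometry
open Coherent

namespace Groth.Agent.S15002

open Polynomial in
/-- Let k be an algebraically closed field and X an integral scheme, smooth and proper over k, with a
closed immersion ι into projective N-space over k compatible with the structure maps; write E(m) = E
⊗ ι^*O(m). Let 1 ≤ ℓ ≤ d and let E be a coherent O_X-module whose Hilbert polynomial P (χ(E(m)) =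
P(m) for all integers m) is nonzero of degree d, which is pure of dimension d (every nonzero
coherent subsheaf of E has support of Krull dimension d) and ℓ-stable: writing R(m) = Σ_i α_i(R)
m^i/i! for a polynomial R, for every coherent subsheaf F of E with Hilbert polynomial Q such that 0
< α_d(Q) < α_d(P), the vector (α_{d−1}(Q)/α_d(Q), …, α_{d−ℓ}(Q)/α_d(Q)) is strictly smaller than
(α_{d−1}(P)/α_d(P), …, α_{d−ℓ}(P)/α_d(P)) in the lexicographic order. Then E is simple: every
endomorphism φ of E is multiplication by a scalar, i.e. there is c ∈ k with φ(s) = c·s for every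
local section s of E. (The published statement gives more generally, for such E, that the
endomorphisms of the restriction of E to the complement of any closed subset meeting the support of
E in codimension at least ℓ + 1 are the scalars; this row is the case of the empty closed subset.) -/
theorem result (k : Type u) [Field k] [IsAlgClosed k]
    (X : Scheme.{u}) [X.Over (Spec (CommRingCat.of k))] [IsIntegral X]
    [Smooth (X ↘ Spec (CommRingCat.of k))] [IsProper (X ↘ Spec (CommRingCat.of k))]
    (N : ℕ) (ι : X ⟶ CohB1.ProjSpace N k) [IsClosedImmersion ι] (hι : ι ≫ CohB1.ProjSpace.toSpec N k = X ↘ Spec (CommRingCat.of k))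
    (d ℓ : ℕ) (hℓ : 1 ≤ ℓ) (hℓd : ℓ ≤ d)
    (E : X.Modules) (hE : Coh.IsCoh E) (P : ℚ[X]) (hPd : P.natDegree = d) (hP0 : P ≠ 0)
    (hP : ∀ m : ℤ, (Curv2.euler k X (Pic13.twistOn k ι E m) : ℚ) = P.eval (m : ℚ))
    (hpure : ∀ (F : X.Modules) (j : F ⟶ E), Mono j → Coh.IsCoh F → ¬ IsZero F →
      topologicalKrullDim (CohB1.support F) = (d : WithBot ℕ∞))
    (hst : ∀ (F : X.Modules) (j : F ⟶ E), Mono j → Coh.IsCoh F → ∀ Q : ℚ[X],
      (∀ m : ℤ, (Curv2.euler k X (Pic13.twistOn k ι F m) : ℚ) = Q.eval (m : ℚ)) →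
        0 < Q.coeff d → Q.coeff d < P.coeff d →
          toLex (fun j : Fin ℓ => ((Q).coeff (d - 1 - (j : ℕ)) * (Nat.factorial (d - 1 - (j : ℕ)) : ℚ)) / ((Q).coeff d * (Nat.factorial d : ℚ))) < toLex (fun j : Fin ℓ => ((P).coeff (d - 1 - (j : ℕ)) * (Nat.factorial (d - 1 - (j : ℕ)) : ℚ)) / ((P).coeff d * (Nat.factorial d : ℚ))))
    (φ : E ⟶ E) :
    ∃ c : k, ∀ (V : X.Opens) (s : E.val.obj (Opposite.op V)),
      (φ.val.app (Opposite.op V)) s = (X.ringCatSheaf.obj.map (homOfLE (le_top : V ≤ ⊤)).op (Coh.toGlobal (X ↘ Spec (CommRingCat.of k)) c : X.ringCatSheaf.obj.obj (Opposite.op ⊤))) • s := by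
  obtain ⟨c, rfl⟩ := Groth.L17.Stable.exists_scalar ι hι E hE P hP0 hP hpure hst φ
  exact ⟨c, fun V s => rfl⟩

end Groth.Agent.S15002
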