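import Groth.Statements.S15003
import Groth.Agent.L13.UnramDegree

set_option autoImplicit false
universe u
open CategoryTheory CategoryTheory.Limits AlgebraicGeometry
open Harb

namespace Groth.Agent.S15003

/-- Let k be an algebraically closed field and let π : Y → X be a finite, surjective and unramified
k-morphism of smooth varieties over k (X and Y integral, separated and of finite type over k with
all local rings regular) which sends the generic point of Y to the generic point of X, so that the
function field k(X) embeds in k(Y). Then for every closed point p of X the fibre π⁻¹(p) consists of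
exactly deg π points, where deg π = [k(Y) : k(X)] is the degree of that field extension. -/
theorem result (k : Type u) [Field k] [IsAlgClosed k]
    (X Y : Scheme.{u}) [X.Over (Spec (CommRingCat.of k))] [Y.Over (Spec (CommRingCat.of k))]
    [IsIntegral X] [IsIntegral Y]
    [IsSeparated (X ↘ (Spec (CommRingCat.of k)))] [LocallyOfFiniteType (X ↘ (Spec (CommRingCat.of k)))]
    [QuasiCompact (X ↘ (Spec (CommRingCat.of k)))]
    [IsSeparated (Y ↘ (Spec (CommRingCat.of k)))] [LocallyOfFiniteType (Y ↘ (Spec (CommRingCat.of k)))]
    [QuasiCompact (Y ↘ (Spec (CommRingCat.of k)))]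
    (hregX : ∀ x : X, IsRegularLocalRing (X.presheaf.stalk x))
    (hregY : ∀ y : Y, IsRegularLocalRing (Y.presheaf.stalk y))
    (π : Y ⟶ X) (hπ : π ≫ (X ↘ (Spec (CommRingCat.of k))) = (Y ↘ (Spec (CommRingCat.of k))))
    [AlgebraicGeometry.IsFinite π] [AlgebraicGeometry.Surjective π] [AlgebraicGeometry.FormallyUnramified π]
    (e : π.base (genericPoint Y) = genericPoint X) (p : X) (hp : IsClosed ({p} : Set X)) :
    Nat.card {q : Y // π.base q = p} =
      Models.homDegree (X.presheaf.stalkSpecializes (specializes_of_eq e) ≫ π.stalkMap (genericPoint Y)).hom := by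
  rw [Groth.L13.UnramDegree.homDegree_eq π e]
  exact Groth.L13.UnramDegree.natCard_fibre k hregX hregY π hπ e p hp

end Groth.Agent.S15003
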