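import Groth.Statements.S15006
import Groth.Agent.L13.Incidence

set_option autoImplicit false
universe u v
open Harb

namespace Groth.Agent.S15006

/-- Let C be a finite family of d ≥ 2 curves, recorded as an incidence relation between a type of points
and a finite index type, such that any two distinct curves of the family meet in exactly h ≥ 1
points and no point lies on every curve of the family. Then f₀ ≥ d: the number of multiple points
(points lying on at least two of the curves) is at least the number of curves. (The published
statement is for a transversal arrangement of d ≥ 4 curves on a geometrically ruled surface with
invariant e ≥ 4, all numerically equivalent to a C₀ + b f with a ≥ 1 and b ≥ ae and with no point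
common to all of them, satisfying in addition either a ≥ 2, or a = 1 with some four of the curves
having no point in common, where any two of the curves meet transversally in h = 2ab − a²e ≥ 1
points; only d ≥ 2, h ≥ 1 and the absence of a common point enter the proof, and this row states the
bound for an abstract incidence relation.) -/
theorem result (P : Type u) (ι : Type v) [Fintype ι]
    (inc : P → ι → Prop) (h : ℕ) (hh : 0 < h) (hd : 2 ≤ Fintype.card ι)
    (hfin : ∀ i j : ι, i ≠ j → {p : P | inc p i ∧ inc p j}.Finite)
    (hcount : ∀ i j : ι, i ≠ j → {p : P | inc p i ∧ inc p j}.ncard = h)
    (hnone : ∀ p : P, ∃ i : ι, ¬ inc p i) :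
    Fintype.card ι ≤ Nat.card {p : P // 2 ≤ Nat.card {j : ι // inc p j}} := by
  exact Groth.L13.Incidence.card_le inc hfin hcount hh hd hnone

end Groth.Agent.S15006
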