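import Groth.Statements.S15008
import Groth.Agent.L21.TFDual.Length

set_option autoImplicit false
universe u
open CategoryTheory
open TFCurv

namespace Groth.Agent.S15008

open Groth.L21.TFDual

/-- Let O be a one-dimensional Noetherian local domain with algebraically closed residue field whose
integral closure O~ in its fraction field K is a finite O-module, and suppose O is not Gorenstein.
If w is an O-submodule of K with O ⊆ w ⊆ O~ whose injective dimension as an O-module is at most one
(a canonical ideal placed between O and O~), then length(w/O) + length(O~/C) = 2 · length(O~/O),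
where C is the conductor of O in O~. -/
theorem result (O : Type u) [CommRing O] [IsDomain O] [IsNoetherianRing O] [IsLocalRing O] (hdim : ringKrullDim O = 1) [IsAlgClosed (IsLocalRing.ResidueField O)] (K : Type u) [Field K] [Algebra O K] [IsFractionRing O K] (hfin : Module.Finite O ↥(integralClosure O K)) (hG : ¬ LocCoh.IsGorensteinLocalRing O) (ω : Submodule O K) (hω1 : (1 : Submodule O K) ≤ ω) (hω2 : ω ≤ (Subalgebra.toSubmodule (integralClosure O K))) (hωinj : HasInjectiveDimensionLT (ModuleCat.of O ↥ω) 2) : Module.length O (↥ω ⧸ Submodule.comap ω.subtype (1 : Submodule O K)) + Module.length O (↥(integralClosure O K) ⧸ ((1 : Submodule O K).colon (Subalgebra.toSubmodule (integralClosure O K))) • (⊤ : Submodule O ↥(integralClosure O K))) = 2 * Module.length O (↥(integralClosure O K) ⧸ Submodule.comap (Subalgebra.toSubmodule (integralClosure O K)).subtype (1 : Submodule O K)) := by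
  haveI := krullDimLE_one hdim
  have hne := maximalIdeal_ne_bot hdim
  haveI : FaithfulSMul O K :=
    (faithfulSMul_iff_algebraMap_injective O K).2 (IsFractionRing.injective O K)
  set T := Subalgebra.toSubmodule (integralClosure O K) with hT
  haveI : Module.Finite O ↥T := hfin
  haveI : Module.Finite O ↥ω := Module.Finite.of_injective _ (Submodule.inclusion_injective hω2)
  have h1ω : (1 : K) ∈ ω := Submodule.one_le.1 hω1
  haveI : Nontrivial ↥ω := ⟨⟨⟨1, h1ω⟩, 0, fun h => one_ne_zero (congrArg Subtype.val h)⟩⟩
  have hbir : ∀ s : K, ∃ c : O, c ≠ 0 ∧ c • s ∈ (1 : Submodule O K) := fun s => by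
    obtain ⟨a, c, hc, rfl⟩ := IsFractionRing.div_surjective O s
    refine ⟨c, nonZeroDivisors.ne_zero hc, Submodule.mem_one.2 ⟨a, ?_⟩⟩
    have hc' : algebraMap O K c ≠ 0 := IsFractionRing.to_map_ne_zero_of_mem_nonZeroDivisors hc
    rw [Algebra.smul_def]
    field_simp
  have h1T : (1 : K) ∈ T := (integralClosure O K).one_mem
  have h1T' : (1 : Submodule O K) ≤ T := Submodule.one_le.2 h1T
  -- `(ω : T) = (O : T)`
  have hCeq : ω / T = (1 : Submodule O K) / T := by
    refine le_antisymm (fun x hx => ?_) (fun x hx => ?_)
    · rw [Submodule.mem_div_iff_forall_mul_mem] at hx ⊢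
      intro m hm
      rw [← colon_self_eq_one hbir hne ω hωinj, Submodule.mem_div_iff_forall_mul_mem]
      intro w hw
      rw [mul_assoc]
      exact hx _ ((integralClosure O K).mul_mem hm (hω2 hw))
    · rw [Submodule.mem_div_iff_forall_mul_mem] at hx ⊢
      exact fun m hm => hω1 (hx m hm)
  have hω_one : ω / (1 : Submodule O K) = ω := by
    refine le_antisymm (fun x hx => ?_) (fun x hx => ?_)
    · simpa using Submodule.mem_div_iff_forall_mul_mem.1 hx 1 (Submodule.one_le.1 le_rfl)
    · refine Submodule.mem_div_iff_forall_mul_mem.2 fun m hm => ?_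
      obtain ⟨a, rfl⟩ := Submodule.mem_one.1 hm
      rw [mul_comm, ← Algebra.smul_def]
      exact ω.smul_mem a hx
  set C := (1 : Submodule O K) / T with hC
  have hC1 : C ≤ 1 := fun x hx => by
    simpa using Submodule.mem_div_iff_forall_mul_mem.1 hx 1 h1T
  have key := length_colon_quotient hbir hne ω hωinj h1T' (Submodule.one_le.1 le_rfl)
  rw [hω_one, hCeq, length_quotient_add hC1 hω1] at key
  have hsub : ((1 : Submodule O K).colon T) • (⊤ : Submodule O ↥(integralClosure O K)) =
      C.comap T.subtype := by
    refine le_antisymm (Submodule.smul_le.2 fun r hr z _ => ?_) (fun z hz => ?_)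
    · refine Submodule.mem_div_iff_forall_mul_mem.2 fun m hm => ?_
      change (r • (z : K)) * m ∈ (1 : Submodule O K)
      rw [smul_mul_assoc]
      exact Submodule.mem_colon.1 hr _ ((integralClosure O K).mul_mem z.2 hm)
    · have hz' : (z : K) ∈ C := hz
      obtain ⟨r, hr⟩ := Submodule.mem_one.1 (hC1 hz')
      have hz1 : z = r • (1 : ↥(integralClosure O K)) := Subtype.ext (by
        rw [← hr, Subalgebra.coe_smul, Subalgebra.coe_one, Algebra.smul_def, mul_one])
      rw [hz1]
      refine Submodule.smul_mem_smul (Submodule.mem_colon.2 fun m hm => ?_) trivial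
      rw [Algebra.smul_def, hr]
      exact Submodule.mem_div_iff_forall_mul_mem.1 hz' m hm
  rw [hsub]
  refine (congrArg (_ + ·) (length_quotient_add hC1 h1T')).trans ?_
  rw [← add_assoc, add_comm (Module.length O (↥ω ⧸ _))]
  refine (congrArg (· + _) key).trans ?_
  rw [two_mul]
  rfl

end Groth.Agent.S15008
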