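import Groth.Agent.L18.AmpleThick
import Groth.Statements.S1501
-- import your own Groth.Agent.* helpers here

set_option autoImplicit false
universe u
open FlatMor

namespace Groth.Agent.S1501

open AlgebraicGeometry CategoryTheory Limits in
/-- Let (f, f') : (X ⊂ X') → (S ⊂ S') be a morphism of thickenings (iX : X → X' and iS : S → S'
thickenings with f ≫ iS = iX ≫ f') and L' an invertible O_{X'}-module with pullback L to X. Then L'
is ample relative to f' if and only if L is ample relative to f. -/
theorem result {X X' S S' : Scheme.{u}} (iX : X ⟶ X') (iS : S ⟶ S') (f : X ⟶ S) (f' : X' ⟶ S')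
    (hX : MoreMor.IsThickening iX) (hS : MoreMor.IsThickening iS) (w : iX ≫ f' = f ≫ iS)
    (L' : X'.Modules) (hL' : PicF.IsInvertible L') :
    RelAmple.IsRelAmple f' L' ↔ RelAmple.IsRelAmple f ((Scheme.Modules.pullback iX).obj L') := by
  exact Groth.L18.AmpleNil.isRelAmple_thickening_iff iX iS f f' hX hS w hL'

end Groth.Agent.S1501
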