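import Groth.Statements.S15010
import Groth.Agent.L21.Lattice.Basic

set_option autoImplicit false
universe u
open TFCurv

namespace Groth.Agent.S15010

/-- Let O be a one-dimensional Noetherian local domain with algebraically closed residue field whose
integral closure O~ in its fraction field K is a finite O-module. If M and N are O-submodules of K^n
with O^n ⊆ M ⊆ O~^n and O^n ⊆ N ⊆ O~^n, then every O-linear isomorphism M → N is the restriction of
x ↦ A·x for an invertible n × n matrix A with entries in O~. -/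
theorem result (O : Type u) [CommRing O] [IsDomain O] [IsNoetherianRing O] [IsLocalRing O] (hdim : ringKrullDim O = 1) [IsAlgClosed (IsLocalRing.ResidueField O)] (K : Type u) [Field K] [Algebra O K] [IsFractionRing O K] (hfin : Module.Finite O ↥(integralClosure O K)) (n : ℕ) (M N : Submodule O (Fin n → K)) (hM1 : Submodule.pi Set.univ (fun _ : Fin n => (1 : Submodule O K)) ≤ M) (hM2 : M ≤ Submodule.pi Set.univ (fun _ : Fin n => (Subalgebra.toSubmodule (integralClosure O K)))) (hN1 : Submodule.pi Set.univ (fun _ : Fin n => (1 : Submodule O K)) ≤ N) (hN2 : N ≤ Submodule.pi Set.univ (fun _ : Fin n => (Subalgebra.toSubmodule (integralClosure O K)))) (φ : ↥M ≃ₗ[O] ↥N) : ∃ A : Matrix (Fin n) (Fin n) ↥(integralClosure O K), IsUnit A ∧ ∀ x : ↥M, ((φ x : ↥N) : Fin n → K) = (A.map (algebraMap ↥(integralClosure O K) K)).mulVec (x : Fin n → K) := by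
  classical
  haveI : FaithfulSMul O K := (faithfulSMul_iff_algebraMap_injective O K).2 (IsFractionRing.injective O K)
  have hstd : ∀ (P : Submodule O (Fin n → K)), Submodule.pi Set.univ (fun _ : Fin n => (1 : Submodule O K)) ≤ P →
      ∀ j, (Pi.single j 1 : Fin n → K) ∈ P := fun P hP j => hP (Submodule.mem_pi.mpr fun i _ => by
    rw [Pi.single_apply]; split
    · exact Submodule.one_le.1 le_rfl
    · exact zero_mem _)
  let eM : Fin n → ↥M := fun j => ⟨_, hstd M hM1 j⟩
  let eN : Fin n → ↥N := fun j => ⟨_, hstd N hN1 j⟩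
  have hf := fun x => Groth.L21.Lattice.eq_mulVec (K := K) hM1 (N.subtype ∘ₗ φ.toLinearMap) eM (fun j => rfl) x
  have hg := fun x => Groth.L21.Lattice.eq_mulVec (K := K) hN1 (M.subtype ∘ₗ φ.symm.toLinearMap) eN (fun j => rfl) x
  simp only [LinearMap.coe_comp, Function.comp_apply, Submodule.coe_subtype, LinearEquiv.coe_coe] at hf hg
  let A : Matrix (Fin n) (Fin n) ↥(integralClosure O K) :=
    Matrix.of fun i j => ⟨(φ (eM j) : Fin n → K) i, Submodule.mem_pi.mp (hN2 (φ (eM j)).2) i trivial⟩
  let B : Matrix (Fin n) (Fin n) ↥(integralClosure O K) :=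
    Matrix.of fun i j => ⟨(φ.symm (eN j) : Fin n → K) i, Submodule.mem_pi.mp (hM2 (φ.symm (eN j)).2) i trivial⟩
  have hfA : ∀ x : ↥M, ((φ x : ↥N) : Fin n → K) = (A.map (algebraMap ↥(integralClosure O K) K)).mulVec (x : Fin n → K) := hf
  have hgB : ∀ x : ↥N, ((φ.symm x : ↥M) : Fin n → K) = (B.map (algebraMap ↥(integralClosure O K) K)).mulVec (x : Fin n → K) := hg
  have hAB : A * B = 1 := by
    apply Matrix.map_injective (f := algebraMap ↥(integralClosure O K) K) Subtype.val_injective
    show (A * B).map (algebraMap ↥(integralClosure O K) K) = (1 : Matrix (Fin n) (Fin n) ↥(integralClosure O K)).map (algebraMap ↥(integralClosure O K) K)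
    rw [Matrix.map_mul, Matrix.map_one _ (map_zero _) (map_one _)]
    refine Matrix.ext_of_mulVec_single fun j => ?_
    rw [← Matrix.mulVec_mulVec, Matrix.one_mulVec]
    have h1 := hfA (φ.symm (eN j))
    rw [hgB (eN j), LinearEquiv.apply_symm_apply] at h1
    exact h1.symm
  exact ⟨A, IsUnit.of_mul_eq_one B hAB, hfA⟩

end Groth.Agent.S15010
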