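import Groth.Statements.S15011
import Groth.Agent.L21.Mult.Basic
import Mathlib.RingTheory.KrullDimension.Field

set_option autoImplicit false
universe u
open TFCurv

namespace Groth.Agent.S15011

/-- Let O be a one-dimensional Noetherian local domain with maximal ideal m and algebraically closed
residue field, whose integral closure O~ in its fraction field K is a finite O-module; put e =
length(O~/m O~), the multiplicity of O. Then a finitely generated torsion-free O-module of rank n
can be generated by at most n·e elements. -/
theorem result (O : Type u) [CommRing O] [IsDomain O] [IsNoetherianRing O] [IsLocalRing O] (hdim : ringKrullDim O = 1) [IsAlgClosed (IsLocalRing.ResidueField O)] (K : Type u) [Field K] [Algebra O K] [IsFractionRing O K] (hfin : Module.Finite O ↥(integralClosure O K)) (M : Type u) [AddCommGroup M] [Module O M] [Module.Finite O M] [NoZeroSMulDivisors O M] (n : ℕ) (hn : Module.finrank K (TensorProduct O K M) = n) : ((⊤ : Submodule O M).spanFinrank : ℕ∞) ≤ (n : ℕ∞) * Module.length O (↥(integralClosure O K) ⧸ (IsLocalRing.maximalIdeal O) • (⊤ : Submodule O ↥(integralClosure O K))) := by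
  haveI : Ring.KrullDimLE 1 O := Ring.krullDimLE_iff.mpr hdim.le
  haveI : Infinite (IsLocalRing.ResidueField O) := IsAlgClosed.instInfinite
  haveI : Module.Finite K (TensorProduct O K M) := inferInstance
  have hne : ¬ IsField O := fun h => by
    letI := h.toField
    rw [ringKrullDim_eq_zero_of_field O] at hdim
    exact zero_ne_one hdim
  haveI : IsLocalizedModule (nonZeroDivisors O) (TensorProduct.mk O K M 1) :=
    (isLocalizedModule_iff_isBaseChange (nonZeroDivisors O) K _).mpr (TensorProduct.isBaseChange O M K)
  have hι : Function.Injective (TensorProduct.mk O K M 1) := (injective_iff_map_eq_zero _).mpr fun m hm => by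
    obtain ⟨c, hc⟩ := (IsLocalizedModule.eq_zero_iff (nonZeroDivisors O) (TensorProduct.mk O K M 1)).mp hm
    exact (smul_eq_zero.mp hc).resolve_left (nonZeroDivisors.ne_zero c.2)
  exact hn ▸ Groth.L21.Mult.spanFinrank_le_rank_mul_multiplicity hne hfin M (TensorProduct.mk O K M 1) hι

end Groth.Agent.S15011
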