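import Groth.Statements.S15035
import Groth.Agent.L21.Lattice.Basic
import Groth.Agent.L21.TFDual.Canonical

set_option autoImplicit false
universe u
open TFCurv

namespace Groth.Agent.S15035

/-- Let O be a one-dimensional Gorenstein local domain with algebraically closed residue field whose
integral closure O~ in its fraction field K is a finite O-module, and C ⊆ O the conductor of O in
O~. Then every finitely generated torsion-free O-module of rank n is isomorphic to an O-submodule
M'' of K^n with C^n ⊆ M'' ⊆ O^n. (For a general O the published statement places M'' between (O~*)^n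
and ω^n for the canonical ideal ω; only the Gorenstein case ω = O, O~* = C is stated.) -/
theorem result (O : Type u) [CommRing O] [IsDomain O] [LocCoh.IsGorensteinLocalRing O] (hdim : ringKrullDim O = 1) [IsAlgClosed (IsLocalRing.ResidueField O)] (K : Type u) [Field K] [Algebra O K] [IsFractionRing O K] (hfin : Module.Finite O ↥(integralClosure O K)) (M : Type u) [AddCommGroup M] [Module O M] [Module.Finite O M] [NoZeroSMulDivisors O M] (n : ℕ) (hn : Module.finrank K (TensorProduct O K M) = n) : ∃ M'' : Submodule O (Fin n → K), Submodule.pi Set.univ (fun _ : Fin n => (((1 : Submodule O K).colon (Subalgebra.toSubmodule (integralClosure O K))) • (1 : Submodule O K))) ≤ M'' ∧ M'' ≤ Submodule.pi Set.univ (fun _ : Fin n => (1 : Submodule O K)) ∧ Nonempty (M ≃ₗ[O] ↥M'') := by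
  classical
  haveI : Infinite (IsLocalRing.ResidueField O) := IsAlgClosed.instInfinite
  haveI := Groth.L21.TFDual.isTorsionFree_of_noZeroSMulDivisors (A := O) (M := M)
  haveI : FaithfulSMul O K := (faithfulSMul_iff_algebraMap_injective O K).2 (IsFractionRing.injective O K)
  have hne := Groth.L21.TFDual.maximalIdeal_ne_bot hdim
  haveI := Groth.L21.TFDual.krullDimLE_one hdim
  have hev := Groth.L21.TFDual.eval_bijective (W := O) Groth.L21.TFDual.vanishes_self
    (fun f => ⟨f 1, LinearMap.ext fun x => by
      have h := f.map_smul x (1 : O)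
      simp only [smul_eq_mul, mul_one] at h
      simp [h, mul_comm]⟩) M
  haveI : NoZeroSMulDivisors O (M →ₗ[O] O) := ⟨fun {c f} h => (em (c = 0)).imp_right fun hc => LinearMap.ext fun m =>
    (mul_eq_zero.mp (LinearMap.congr_fun h m)).resolve_left hc⟩
  have hfd : Module.Finite O (M →ₗ[O] O) := inferInstance
  obtain ⟨p, hp⟩ : ∃ p, Module.finrank K (TensorProduct O K (M →ₗ[O] O)) = p := ⟨_, rfl⟩
  obtain ⟨D, hD1, hD2, ⟨e⟩⟩ := Groth.L21.Lattice.exists_normal_form hdim hfin (M →ₗ[O] O) p hp
  have hstd : ∀ j, (Pi.single j 1 : Fin p → K) ∈ D := fun j => hD1 (Submodule.mem_pi.mpr fun i _ => by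
    rw [Pi.single_apply]; split
    · exact Submodule.one_le.1 le_rfl
    · exact zero_mem _)
  let eD : Fin p → ↥D := fun j => ⟨_, hstd j⟩
  let C : Submodule O (Fin p → K) :=
    { carrier := {y | ∀ x : ↥D, dotProduct y (x : Fin p → K) ∈ (1 : Submodule O K)}
      add_mem' := fun ha hb x => by rw [add_dotProduct]; exact add_mem (ha x) (hb x)
      zero_mem' := fun x => by rw [zero_dotProduct]; exact zero_mem _
      smul_mem' := fun c y hy x => by rw [smul_dotProduct]; exact Submodule.smul_mem _ c (hy x) }
  let P : (↥D →ₗ[O] O) →ₗ[O] (Fin p → K) :=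
    LinearMap.pi fun j => Algebra.linearMap O K ∘ₗ LinearMap.applyₗ (eD j)
  have hP : ∀ (ψ : ↥D →ₗ[O] O) (x : ↥D), algebraMap O K (ψ x) = dotProduct (P ψ) (x : Fin p → K) := by
    intro ψ x
    obtain ⟨c, hc⟩ := IsLocalization.exist_integer_multiples_of_finite (nonZeroDivisors O) (fun i => (x : Fin p → K) i)
    choose a ha using hc
    have hcx : (c : O) • x = ∑ j, a j • eD j := Subtype.ext (funext fun i => by
      simp only [SetLike.val_smul, Pi.smul_apply, AddSubmonoidClass.coe_finset_sum, Finset.sum_apply, eD,
        Pi.single_apply, smul_ite, smul_zero, Finset.sum_ite_eq, Finset.mem_univ, if_true]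
      rw [← ha i, Algebra.algebraMap_eq_smul_one])
    refine mul_left_cancel₀ (IsFractionRing.to_map_ne_zero_of_mem_nonZeroDivisors c.2 : algebraMap O K c ≠ 0) ?_
    rw [← map_mul, ← smul_eq_mul, ← map_smul, hcx, map_sum, map_sum, dotProduct, Finset.mul_sum]
    refine Finset.sum_congr rfl fun j _ => ?_
    rw [map_smul, smul_eq_mul, map_mul, ha j, Algebra.smul_def]
    show _ = algebraMap O K ↑c * (algebraMap O K (ψ (eD j)) * (x : Fin p → K) j)
    ring
  have hPinj : Function.Injective P := fun ψ ψ' h => LinearMap.ext fun x =>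
    IsFractionRing.injective O K (by rw [hP, hP, h])
  have hrange : LinearMap.range P = C := by
    refine le_antisymm ?_ fun y hy => ?_
    · rintro _ ⟨ψ, rfl⟩ x
      exact Submodule.mem_one.mpr ⟨ψ x, hP ψ x⟩
    · let dp : ↥D →ₗ[O] K :=
        { toFun := fun x => dotProduct y (x : Fin p → K)
          map_add' := fun a b => dotProduct_add y _ _
          map_smul' := fun c a => dotProduct_smul c y _ }
      choose g hg using fun x : ↥D => Submodule.mem_one.mp (hy x)
      have hinj := IsFractionRing.injective O K
      let ψ : ↥D →ₗ[O] O :=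
        { toFun := g
          map_add' := fun a b => hinj (by rw [map_add, hg, hg, hg]; exact dp.map_add a b)
          map_smul' := fun c a => hinj (by
            rw [RingHom.id_apply, smul_eq_mul, map_mul, hg, hg]
            exact (dp.map_smul c a).trans (Algebra.smul_def c _)) }
      refine ⟨ψ, funext fun j => ?_⟩
      show algebraMap O K (g (eD j)) = y j
      rw [hg (eD j)]
      exact dotProduct_single_one y j
  have eMC : M ≃ₗ[O] ↥C := (LinearEquiv.ofBijective _ hev) ≪≫ₗ (e.arrowCongr (LinearEquiv.refl O O)) ≪≫ₗ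
    (LinearEquiv.ofInjective P hPinj) ≪≫ₗ LinearEquiv.ofEq _ _ hrange
  have hC1 : Submodule.pi Set.univ (fun _ : Fin p => (((1 : Submodule O K).colon (Subalgebra.toSubmodule (integralClosure O K))) • (1 : Submodule O K))) ≤ C := by
    intro y hy x
    refine sum_mem fun i _ => ?_
    have hx := Submodule.mem_pi.mp (hD2 x.2) i trivial
    have hyi := Submodule.mem_pi.mp hy i trivial
    clear hy
    refine Submodule.smul_induction_on hyi (fun r hr a ha => ?_) (fun a b ha hb => by rw [add_mul]; exact add_mem ha hb)
    obtain ⟨b, rfl⟩ := Submodule.mem_one.mp ha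
    rw [smul_mul_assoc, ← Algebra.smul_def, smul_comm]
    exact Submodule.smul_mem _ b (Submodule.mem_colon.1 hr _ hx)
  have hC2 : C ≤ Submodule.pi Set.univ (fun _ : Fin p => (1 : Submodule O K)) := fun y hy =>
    Submodule.mem_pi.mpr fun i _ => by
      have := hy (eD i)
      rwa [show dotProduct y (eD i : Fin p → K) = y i from dotProduct_single_one y i] at this
  obtain rfl : p = n := by
    obtain ⟨c, hc0, hc⟩ : ∃ c : O, c ≠ 0 ∧ ∀ j, (c • (Pi.single j 1 : Fin p → K)) ∈ C := by
      haveI : Module.Finite O ↥(Subalgebra.toSubmodule (integralClosure O K)) := hfin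
      obtain ⟨T, hT⟩ := (Module.Finite.iff_fg.mp (inferInstance : Module.Finite O ↥(Subalgebra.toSubmodule (integralClosure O K))))
      obtain ⟨c, hc⟩ := IsLocalization.exist_integer_multiples_of_finset (nonZeroDivisors O) T
      refine ⟨c, nonZeroDivisors.ne_zero c.2, fun j => hC1 (Submodule.mem_pi.mpr fun i _ => ?_)⟩
      rw [Pi.smul_apply, Pi.single_apply]
      split
      · refine Submodule.smul_mem_smul (Submodule.mem_colon.2 fun m hm => ?_) (Submodule.one_le.1 le_rfl)
        rw [← hT] at hm
        induction hm using Submodule.span_induction with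
        | mem z hz => obtain ⟨a, ha⟩ := hc z hz; exact Submodule.mem_one.mpr ⟨a, ha⟩
        | zero => rw [smul_zero]; exact zero_mem _
        | add a b _ _ ha hb => rw [smul_add]; exact add_mem ha hb
        | smul r a _ ha => rw [smul_comm]; exact Submodule.smul_mem _ r ha
      · rw [smul_zero]; exact zero_mem _
    let ι : M →ₗ[O] (Fin p → K) := C.subtype ∘ₗ eMC.toLinearMap
    let L : TensorProduct O K M →ₗ[K] (Fin p → K) := LinearMap.liftBaseChange K ι
    have hLs : Function.Surjective L := by
      rw [← LinearMap.range_eq_top, eq_top_iff, ← (Pi.basisFun K (Fin p)).span_eq, Submodule.span_le]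
      rintro _ ⟨j, rfl⟩
      refine ⟨(algebraMap O K c)⁻¹ ⊗ₜ eMC.symm ⟨_, hc j⟩, ?_⟩
      have hc' : algebraMap O K c ≠ 0 := fun h => hc0 (IsFractionRing.injective O K (h.trans (map_zero _).symm))
      rw [LinearMap.liftBaseChange_tmul, Pi.basisFun_apply]
      show (algebraMap O K c)⁻¹ • ((eMC (eMC.symm ⟨_, hc j⟩) : ↥C) : Fin p → K) = _
      rw [LinearEquiv.apply_symm_apply]
      show (algebraMap O K c)⁻¹ • (c • (Pi.single j 1 : Fin p → K)) = _
      rw [← algebraMap_smul K c (Pi.single j 1 : Fin p → K), inv_smul_smul₀ hc']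
    haveI : IsLocalizedModule (nonZeroDivisors O) (TensorProduct.mk O K M 1) :=
      (isLocalizedModule_iff_isBaseChange (nonZeroDivisors O) K _).mpr (TensorProduct.isBaseChange O M K)
    have hιinj : Function.Injective ι := C.subtype_injective.comp eMC.injective
    have hLi : Function.Injective L := (injective_iff_map_eq_zero L).mpr fun x hx => by
      obtain ⟨⟨m, s⟩, hms⟩ := IsLocalizedModule.surj (nonZeroDivisors O) (TensorProduct.mk O K M 1) x
      have h1 : L ((s : O) • x) = ι m := by
        rw [show ((s : O) • x) = TensorProduct.mk O K M 1 m from hms, TensorProduct.mk_apply,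
          LinearMap.liftBaseChange_tmul, one_smul]
      rw [L.map_smul_of_tower, hx, smul_zero] at h1
      have hm : m = 0 := hιinj (h1.symm.trans (map_zero ι).symm)
      have h2 : (s : O) • x = 0 := hms.trans (by rw [hm, map_zero])
      rw [← algebraMap_smul K (s : O) x, smul_eq_zero] at h2
      exact h2.resolve_left (IsFractionRing.to_map_ne_zero_of_mem_nonZeroDivisors s.2)
    have := (LinearEquiv.ofBijective L ⟨hLi, hLs⟩).finrank_eq
    rw [hn, Module.finrank_fin_fun] at this
    exact this.symm
  exact ⟨C, hC1, hC2, ⟨eMC⟩⟩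

end Groth.Agent.S15035
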