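import Groth.Statements.S15012
import Groth.Agent.L21.Lattice.Colength
import Groth.Agent.L21.TFDual.Frac
import Groth.Agent.S15035

set_option autoImplicit false
universe u
open TFCurv

namespace Groth.Agent.S15012

/-- Let O be a one-dimensional Gorenstein local domain with algebraically closed residue field whose
integral closure O~ in its fraction field K is a finite O-module, and let C ⊆ O be the conductor of
O in O~. Every finitely generated torsion-free O-module of rank n is isomorphic to an O-submodule M'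
of K^n with C^n ⊆ M' ⊆ O~^n and length(M'/C^n) = n · length(O/C); that is, every isomorphism class
of rank-n torsion-free modules is represented by a submodule of (O~/C)^n of the same length as
(O/C)^n. -/
theorem result (O : Type u) [CommRing O] [IsDomain O] [LocCoh.IsGorensteinLocalRing O] (hdim : ringKrullDim O = 1) [IsAlgClosed (IsLocalRing.ResidueField O)] (K : Type u) [Field K] [Algebra O K] [IsFractionRing O K] (hfin : Module.Finite O ↥(integralClosure O K)) (M : Type u) [AddCommGroup M] [Module O M] [Module.Finite O M] [NoZeroSMulDivisors O M] (n : ℕ) (hn : Module.finrank K (TensorProduct O K M) = n) : ∃ M' : Submodule O (Fin n → K), Submodule.pi Set.univ (fun _ : Fin n => (((1 : Submodule O K).colon (Subalgebra.toSubmodule (integralClosure O K))) • (1 : Submodule O K))) ≤ M' ∧ M' ≤ Submodule.pi Set.univ (fun _ : Fin n => (Subalgebra.toSubmodule (integralClosure O K))) ∧ Nonempty (M ≃ₗ[O] ↥M') ∧ Module.length O (↥M' ⧸ Submodule.comap M'.subtype (Submodule.pi Set.univ (fun _ : Fin n => (((1 :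 Submodule O K).colon (Subalgebra.toSubmodule (integralClosure O K))) • (1 : Submodule O K))))) = (n : ℕ∞) * Module.length O (O ⧸ ((1 : Submodule O K).colon (Subalgebra.toSubmodule (integralClosure O K)))) := by
  classical
  haveI : Infinite (IsLocalRing.ResidueField O) := IsAlgClosed.instInfinite
  haveI := Groth.L21.TFDual.krullDimLE_one hdim
  haveI : FaithfulSMul O K := (faithfulSMul_iff_algebraMap_injective O K).2 (IsFractionRing.injective O K)
  obtain ⟨hpid, -⟩ := Groth.L21.Lattice.semilocal_pid hdim hfin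
  haveI := hpid
  haveI := hfin
  haveI : IsFractionRing ↥(integralClosure O K) K := integralClosure.isFractionRing_of_finite_extension K K
  obtain ⟨M', hO, hN, ⟨f'⟩⟩ := Groth.L21.Lattice.exists_normal_form hdim hfin M n hn
  obtain ⟨M'', hC'', hO'', ⟨f''⟩⟩ := Groth.Agent.S15035.result O hdim K hfin M n hn
  let 𝔠 : Ideal O := (1 : Submodule O K).colon (Subalgebra.toSubmodule (integralClosure O K))
  let Cs : Submodule O K := 𝔠 • (1 : Submodule O K)
  have hmem : ∀ x, x ∈ Cs ↔ ∃ c ∈ 𝔠, algebraMap O K c = x := by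
    intro x
    constructor
    · intro hx
      refine Submodule.smul_induction_on hx (fun r hr a ha => ?_) fun a b ha hb => ?_
      · obtain ⟨b, rfl⟩ := Submodule.mem_one.mp ha
        exact ⟨r * b, Ideal.mul_mem_right b _ hr, by rw [map_mul, Algebra.smul_def]⟩
      · obtain ⟨c, hc, rfl⟩ := ha
        obtain ⟨d, hd, rfl⟩ := hb
        exact ⟨c + d, add_mem hc hd, map_add _ _ _⟩
    · rintro ⟨c, hc, rfl⟩
      rw [Algebra.algebraMap_eq_smul_one]
      exact Submodule.smul_mem_smul hc (Submodule.one_le.1 le_rfl)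
  have hstab : ∀ (s : ↥(integralClosure O K)) (x : K), x ∈ Cs → (s : K) * x ∈ Cs := by
    intro s x hx
    obtain ⟨c, hc, rfl⟩ := (hmem x).1 hx
    obtain ⟨d, hd⟩ := Submodule.mem_one.mp (Submodule.mem_colon.1 hc (s : K) s.2)
    refine (hmem _).2 ⟨d, Submodule.mem_colon.2 fun m hm => ?_, by rw [hd, Algebra.smul_def, mul_comm]⟩
    rw [Algebra.smul_def, hd, smul_mul_assoc]
    exact Submodule.mem_colon.1 hc _ (Subalgebra.mul_mem _ s.2 hm)
  obtain ⟨c, hc0, hcC⟩ : ∃ c : O, c ≠ 0 ∧ c ∈ 𝔠 := by
    haveI : Module.Finite O ↥(Subalgebra.toSubmodule (integralClosure O K)) := hfin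
    obtain ⟨T, hT⟩ := Module.Finite.iff_fg.mp
      (inferInstance : Module.Finite O ↥(Subalgebra.toSubmodule (integralClosure O K)))
    obtain ⟨c, hc⟩ := IsLocalization.exist_integer_multiples_of_finset (nonZeroDivisors O) T
    refine ⟨c, nonZeroDivisors.ne_zero c.2, Submodule.mem_colon.2 fun m hm => ?_⟩
    rw [← hT] at hm
    induction hm using Submodule.span_induction with
    | mem z hz => obtain ⟨a, ha⟩ := hc z hz; exact Submodule.mem_one.mpr ⟨a, ha⟩
    | zero => rw [smul_zero]; exact zero_mem _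
    | add a b _ _ ha hb => rw [smul_add]; exact add_mem ha hb
    | smul r a _ ha => rw [smul_comm]; exact Submodule.smul_mem _ r ha
  let I : Ideal ↥(integralClosure O K) :=
    { carrier := {s | (s : K) ∈ Cs}
      add_mem' := fun ha hb => Cs.add_mem ha hb
      zero_mem' := Cs.zero_mem
      smul_mem' := fun s x hx => hstab s x hx }
  obtain ⟨t, ht⟩ := (IsPrincipalIdealRing.principal I).principal
  have hI : ∀ d ∈ 𝔠, algebraMap O ↥(integralClosure O K) d ∈ I := fun d hd => (hmem _).2 ⟨d, hd, rfl⟩
  have htK : (t : K) ≠ 0 := fun h => by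
    have h1 : algebraMap O ↥(integralClosure O K) c ∈ I := hI c hcC
    rw [ht, Submodule.mem_span_singleton] at h1
    obtain ⟨a, ha⟩ := h1
    have h2 : (a : K) * (t : K) = algebraMap O K c := congrArg Subtype.val ha
    rw [h, mul_zero] at h2
    exact hc0 (IsFractionRing.injective O K (h2.symm.trans (map_zero _).symm))
  have hCs : ∀ x, x ∈ Cs ↔ ∃ s : ↥(integralClosure O K),
      x = (t : K) * algebraMap ↥(integralClosure O K) K s := by
    intro x
    constructor
    · intro hx
      obtain ⟨d, hd, rfl⟩ := (hmem x).1 hx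
      have h1 : algebraMap O ↥(integralClosure O K) d ∈ I := hI d hd
      rw [ht, Submodule.mem_span_singleton] at h1
      obtain ⟨a, ha⟩ := h1
      exact ⟨a, (congrArg Subtype.val ha).symm.trans (mul_comm _ _)⟩
    · rintro ⟨s, rfl⟩
      have h1 : (s * t : ↥(integralClosure O K)) ∈ I := by
        rw [ht, Submodule.mem_span_singleton]; exact ⟨s, rfl⟩
      rw [mul_comm]
      exact h1
  have hrange : LinearMap.range (IsScalarTower.toAlgHom O ↥(integralClosure O K) K).toLinearMap =
      Subalgebra.toSubmodule (integralClosure O K) := by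
    ext x
    exact ⟨fun ⟨y, h⟩ => h ▸ y.2, fun hx => ⟨⟨x, hx⟩, rfl⟩⟩
  have hCs1 : Cs ≤ 1 := fun x hx => by
    obtain ⟨d, -, rfl⟩ := (hmem x).1 hx
    exact Submodule.mem_one.mpr ⟨d, rfl⟩
  have hcomap : Cs.comap (Algebra.linearMap O K) = 𝔠 := by
    ext d
    refine ⟨fun h => ?_, fun h => (hmem _).2 ⟨d, h, rfl⟩⟩
    obtain ⟨d', hd', h'⟩ := (hmem _).1 h
    exact IsFractionRing.injective O K h' ▸ hd'
  obtain ⟨M₁, h1, h2, ⟨g⟩, h4⟩ := Groth.L21.Lattice.exists_colength (S := ↥(integralClosure O K)) Cs (t : K)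
    htK hCs hCs1 ⟨c, hc0, (hmem _).2 ⟨c, hcC, rfl⟩⟩ M' M'' hO (by rw [hrange]; exact hN) hC'' hO''
    (f'.symm ≪≫ₗ f'')
  rw [hcomap] at h4
  rw [hrange] at h2
  exact ⟨M₁, h1, h2, ⟨f' ≪≫ₗ g⟩, h4⟩


end Groth.Agent.S15012
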