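import Groth.Statements.S15013
import Groth.Agent.L21.TFDual.Frac
import Groth.Agent.L21.ExtLattice.Congr
-- import your own Groth.Agent.* helpers here

set_option autoImplicit false
universe u
open CategoryTheory
open TFCurv

open Groth.L21.TFDual
namespace Groth.Agent.S15013

/-- Let O be a one-dimensional Noetherian local domain with algebraically closed residue field whose
integral closure O~ in its fraction field K is a finite O-module, and let w be a canonical ideal of
O, taken here as a nonzero finitely generated O-submodule of K whose injective dimension as an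
O-module is at most one. Then Ext^i_O(M, w) vanishes for all i ≥ 1 and every finitely generated
torsion-free O-module M. -/
theorem result (O : Type u) [CommRing O] [IsDomain O] [IsNoetherianRing O] [IsLocalRing O] (hdim : ringKrullDim O = 1) [IsAlgClosed (IsLocalRing.ResidueField O)] (K : Type u) [Field K] [Algebra O K] [IsFractionRing O K] (hfin : Module.Finite O ↥(integralClosure O K)) (ω : Submodule O K) (hω0 : ω ≠ ⊥) (hωfg : ω.FG) (hωinj : HasInjectiveDimensionLT (ModuleCat.of O ↥ω) 2) (M : Type u) [AddCommGroup M] [Module O M] [Module.Finite O M] [NoZeroSMulDivisors O M] (i : ℕ) (hi : 1 ≤ i) : Subsingleton (Abelian.Ext (ModuleCat.of O M) (ModuleCat.of O ↥ω) i) := by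
  haveI := krullDimLE_one hdim
  haveI : Module.IsTorsionFree O M := isTorsionFree_of_noZeroSMulDivisors
  obtain ⟨j, rfl⟩ : ∃ j, i = j + 1 := ⟨i - 1, by omega⟩
  exact vanishes_of_injdim ↥ω hωinj M j

end Groth.Agent.S15013
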