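import Groth.Statements.S15015
import Groth.Agent.L21.ValueSemigroup

set_option autoImplicit false
universe u
open TFCurv

namespace Groth.Agent.S15015

/-- Let k be an algebraically closed field and A ≠ k[[t]] a k-subalgebra of k[[t]] that is closed in the
t-adic topology, over which k[[t]] is a finite module, and such that every power series is carried
into A by multiplication with some nonzero element of A (so k[[t]] lies in the fraction field of A
and is its normalisation, as for the complete local ring of a unibranch curve singularity), and let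
Γ ⊆ ℕ be the set of t-orders of the nonzero elements of A (its value semigroup). Then ℕ ∖ Γ is
finite and the k-dimension of k[[t]]/A equals the number of gaps of Γ. -/
theorem result (k : Type u) [Field k] [IsAlgClosed k] (A : Subalgebra k (PowerSeries k)) (hA : Module.Finite ↥A (PowerSeries k)) (hcl : ∀ f : PowerSeries k, (∀ n : ℕ, ∃ g ∈ A, (n : ℕ∞) ≤ PowerSeries.order (f - g)) → f ∈ A) (hsing : A ≠ ⊤) (hbir : ∀ f : PowerSeries k, ∃ a ∈ A, a ≠ 0 ∧ a * f ∈ A) (Γ : Set ℕ) (hΓ : ∀ n : ℕ, n ∈ Γ ↔ ∃ f ∈ A, PowerSeries.order f = n) : Γᶜ.Finite ∧ Module.finrank k (PowerSeries k ⧸ Subalgebra.toSubmodule A) = Γᶜ.ncard := by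
  obtain ⟨d, hd⟩ := Groth.L21.ValueSemigroup.exists_conductor A hA hbir
  exact Groth.L21.ValueSemigroup.finrank_quot_eq A Γ hΓ d hd

end Groth.Agent.S15015
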