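import Groth.Statements.S15016
import Groth.Agent.L21.ValueSemigroup

set_option autoImplicit false
universe u
open TFCurv

namespace Groth.Agent.S15016

/-- Let k be an algebraically closed field and A ≠ k[[t]] a k-subalgebra of k[[t]] that is closed in the
t-adic topology and over which k[[t]] is a finite module (as for the complete local ring of a
unibranch curve singularity inside its normalisation), and let Γ ⊆ ℕ be the set of t-orders of the
nonzero elements of A (its value semigroup); let c be the conductor of Γ, so that every n ≥ c lies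
in Γ and c − 1 does not. Then for a power series f, f · k[[t]] ⊆ A holds exactly when the order of f
is at least c: the conductor of A in k[[t]] is t^c · k[[t]], of codimension c. -/
theorem result (k : Type u) [Field k] [IsAlgClosed k] (A : Subalgebra k (PowerSeries k)) (hA : Module.Finite ↥A (PowerSeries k)) (hcl : ∀ f : PowerSeries k, (∀ n : ℕ, ∃ g ∈ A, (n : ℕ∞) ≤ PowerSeries.order (f - g)) → f ∈ A) (hsing : A ≠ ⊤) (Γ : Set ℕ) (hΓ : ∀ n : ℕ, n ∈ Γ ↔ ∃ f ∈ A, PowerSeries.order f = n) (c : ℕ) (hc : ∀ n : ℕ, c ≤ n → n ∈ Γ) (hc0 : c ≠ 0) (hc1 : c - 1 ∉ Γ) (f : PowerSeries k) : (∀ g : PowerSeries k, g * f ∈ A) ↔ (c : ℕ∞) ≤ PowerSeries.order f := by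
  constructor
  · intro h
    by_contra hlt
    rw [not_le] at hlt
    have hf0 : f ≠ 0 := fun h0 => by simp [h0] at hlt
    set m := f.order.toNat with hm
    have hmc : m < c := by
      rw [← PowerSeries.coe_toNat_order hf0] at hlt
      exact_mod_cast hlt
    obtain ⟨u, hu⟩ : IsUnit (PowerSeries.divXPowOrder f) :=
      PowerSeries.isUnit_iff_constantCoeff.2 (isUnit_iff_ne_zero.2 fun h0 => hf0 (PowerSeries.constantCoeff_divXPowOrder_eq_zero_iff.1 h0))
    have hmem := h ((PowerSeries.X : PowerSeries k) ^ (c - 1 - m) * (↑u⁻¹ : PowerSeries k))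
    have he : (PowerSeries.X : PowerSeries k) ^ (c - 1 - m) * (↑u⁻¹ : PowerSeries k) * f = PowerSeries.X ^ (c - 1) := by
      rw [← PowerSeries.X_pow_order_mul_divXPowOrder (f := f), ← hu, ← hm]
      rw [show (c - 1) = (c - 1 - m) + m by omega, pow_add, Nat.add_sub_cancel]
      calc _ = PowerSeries.X ^ (c - 1 - m) * PowerSeries.X ^ m * ((↑u⁻¹ : PowerSeries k) * ↑u) := by ring
        _ = _ := by rw [Units.inv_mul, mul_one]
    rw [he] at hmem
    exact hc1 ((hΓ _).2 ⟨_, hmem, PowerSeries.order_X_pow _⟩)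
  · intro h g
    refine (Groth.L21.ValueSemigroup.mem_selfSubmodule A).1 ?_
    refine Groth.L21.ValueSemigroup.mem_of_orders A hA hcl _ c (fun n hn => ?_) _ ?_
    · obtain ⟨f', hf', ho⟩ := (hΓ n).1 (hc n hn)
      exact ⟨f', hf', ho⟩
    · rw [PowerSeries.order_mul]
      exact le_trans h (le_add_of_nonneg_left zero_le)

end Groth.Agent.S15016
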