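import Groth.Statements.S15017
import Groth.Agent.L21.Semigroup

set_option autoImplicit false
open TFCurv

namespace Groth.Agent.S15017

/-- Let Γ be a numerical semigroup (a submonoid of (ℕ, +) with finite complement), Γ ≠ ℕ, with conductor
c (every n ≥ c lies in Γ, c − 1 does not). If Γ is symmetric (for x < c, x is a gap exactly when c −
1 − x ∈ Γ) and has multiplicity greater than 2 (neither 1 nor 2 lies in Γ), then Γ is generated by
its elements smaller than c: every minimal generator of Γ is less than the conductor. -/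
theorem result (Γ : AddSubmonoid ℕ) (c : ℕ) (hc : ∀ n : ℕ, c ≤ n → n ∈ Γ) (hc0 : c ≠ 0) (hc1 : c - 1 ∉ Γ) (hsymm : ∀ x : ℕ, x < c → (x ∉ Γ ↔ c - 1 - x ∈ Γ)) (he : (1 : ℕ) ∉ Γ ∧ (2 : ℕ) ∉ Γ) : AddSubmonoid.closure {γ : ℕ | γ ∈ Γ ∧ γ < c} = Γ := by
  refine le_antisymm (AddSubmonoid.closure_le.2 fun x hx => hx.1) ?_
  intro γ
  induction γ using Nat.strong_induction_on with
  | _ γ ih =>
    intro hγ
    rcases lt_or_ge γ c with h | h
    · exact AddSubmonoid.subset_closure ⟨hγ, h⟩
    · obtain ⟨a, b, ha, hb, ha0, hb0, rfl⟩ :=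
        Groth.L21.Semigroup.decompose Γ c hc hc0 hc1 hsymm he γ h
      exact add_mem (ih a (by omega) ha) (ih b (by omega) hb)

end Groth.Agent.S15017
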