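import Groth.Statements.S15018

set_option autoImplicit false
open TFCurv

namespace Groth.Agent.S15018

/-- Let Γ be a numerical semigroup (a submonoid of (ℕ, +) with finite complement), Γ ≠ ℕ, with conductor
c (every n ≥ c lies in Γ, c − 1 does not). Then Γ is symmetric (for x < c, x is a gap exactly when c
− 1 − x ∈ Γ) if and only if there is exactly one gap n of Γ such that Γ ∪ {n} is again stable under
adding elements of Γ, i.e. n + γ ∈ Γ for every nonzero γ ∈ Γ. -/
theorem result (Γ : AddSubmonoid ℕ) (c : ℕ) (hc : ∀ n : ℕ, c ≤ n → n ∈ Γ) (hc0 : c ≠ 0) (hc1 : c - 1 ∉ Γ) : (∀ x : ℕ, x < c → (x ∉ Γ ↔ c - 1 - x ∈ Γ)) ↔ ∃! n : ℕ, n ∉ Γ ∧ ∀ γ : ℕ, γ ∈ Γ → γ ≠ 0 → n + γ ∈ Γ := by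
  constructor
  · intro hsymm
    refine ⟨c - 1, ⟨hc1, fun γ _ hγ0 => hc _ (by omega)⟩, ?_⟩
    rintro n ⟨hn, hn'⟩
    by_contra hne
    have hlt : n < c := by
      by_contra hh
      exact hn (hc n (by omega))
    have := hn' _ ((hsymm n hlt).1 hn) (by omega)
    rw [show n + (c - 1 - n) = c - 1 by omega] at this
    exact hc1 this
  · rintro ⟨n, -, huniq⟩ x hx
    refine ⟨?_, ?_⟩
    · -- downward induction on x
      suffices H : ∀ d x, c - x = d → x < c → x ∉ Γ → c - 1 - x ∈ Γ from H _ x rfl hx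
      intro d
      induction d using Nat.strong_induction_on with
      | _ d ih =>
        intro x hd hx hxΓ
        by_cases hP : ∀ γ : ℕ, γ ∈ Γ → γ ≠ 0 → x + γ ∈ Γ
        · have h1 := huniq x ⟨hxΓ, hP⟩
          have h2 := huniq (c - 1) ⟨hc1, fun γ _ hγ0 => hc _ (by omega)⟩
          rw [show c - 1 - x = 0 by omega]
          exact Γ.zero_mem
        · push Not at hP
          obtain ⟨γ, hγ, hγ0, hg⟩ := hP
          have hlt : x + γ < c := by
            by_contra hh
            exact hg (hc _ (by omega))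
          have := ih (c - (x + γ)) (by omega) (x + γ) rfl hlt hg
          rw [show c - 1 - x = c - 1 - (x + γ) + γ by omega]
          exact Γ.add_mem this hγ
    · intro h hxΓ
      have := Γ.add_mem hxΓ h
      rw [show x + (c - 1 - x) = c - 1 by omega] at this
      exact hc1 this

end Groth.Agent.S15018
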