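import Groth.Statements.S15019
import Groth.Agent.L21.Semigroup

set_option autoImplicit false
open TFCurv

namespace Groth.Agent.S15019

/-- Let Γ be a numerical semigroup (a submonoid of (ℕ, +) with finite complement), Γ ≠ ℕ, with conductor
c (every n ≥ c lies in Γ, c − 1 does not), let e be its multiplicity (the least nonzero element of
Γ), and let S ⊆ ℕ be a Γ-module in normal form: 0 ∈ S and γ + s ∈ S for all γ ∈ Γ, s ∈ S. Then the
set of gaps n of S with S ∪ {n} again a Γ-module (n + γ ∈ S for every nonzero γ ∈ Γ) has at most e −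
1 elements, and so does the set of nonzero s ∈ S with S ∖ {s} again a Γ-module (s − γ ∉ S for every
nonzero γ ∈ Γ with γ ≤ s). -/
theorem result (Γ : AddSubmonoid ℕ) (c : ℕ) (hc : ∀ n : ℕ, c ≤ n → n ∈ Γ) (hc0 : c ≠ 0) (hc1 : c - 1 ∉ Γ) (e : ℕ) (he : e ∈ Γ) (he0 : e ≠ 0) (hemin : ∀ γ : ℕ, γ ∈ Γ → γ ≠ 0 → e ≤ γ) (S : Set ℕ) (hS0 : (0 : ℕ) ∈ S) (hS : ∀ γ : ℕ, γ ∈ Γ → ∀ s : ℕ, s ∈ S → γ + s ∈ S) : {n : ℕ | n ∉ S ∧ ∀ γ : ℕ, γ ∈ Γ → γ ≠ 0 → n + γ ∈ S}.encard ≤ ((e - 1 : ℕ) : ℕ∞) ∧ {s : ℕ | s ∈ S ∧ s ≠ 0 ∧ ∀ γ : ℕ, γ ∈ Γ → γ ≠ 0 → γ ≤ s → s - γ ∉ S}.encard ≤ ((e - 1 : ℕ) : ℕ∞) := by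
  classical
  have hk : ∀ k : ℕ, k * e ∈ Γ := fun k => by simpa [nsmul_eq_mul] using Γ.nsmul_mem he k
  have hcard : (↑(Finset.Ico 1 e) : Set ℕ).encard = ((e - 1 : ℕ) : ℕ∞) := by
    rw [Set.encard_coe_eq_coe_finsetCard, Nat.card_Ico]
  have hmul : ∀ n, n % e = 0 → n ∈ Γ := fun n hn => by
    have := hk (n / e)
    rwa [Nat.div_mul_cancel (Nat.dvd_of_mod_eq_zero hn)] at this
  constructor
  · rw [← hcard]
    refine Set.encard_le_encard_of_injOn (f := fun n => n % e) ?_ ?_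
    · rintro n ⟨hn, -⟩
      simp only [Finset.coe_Ico, Set.mem_Ico]
      refine ⟨Nat.one_le_iff_ne_zero.2 fun h0 => hn ?_, Nat.mod_lt _ (by omega)⟩
      simpa using hS n (hmul n h0) 0 hS0
    · rintro a ⟨ha, ha'⟩ b ⟨hb, hb'⟩ hab
      wlog hle : a ≤ b generalizing a b
      · exact (this hb hb' ha ha' hab.symm (by omega)).symm
      by_contra hne
      have h0 : (b - a) % e = 0 := Nat.sub_mod_eq_zero_of_mod_eq hab.symm
      have := ha' _ (hmul _ h0) (by omega)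
      rw [show a + (b - a) = b by omega] at this
      exact hb this
  · rw [← hcard]
    refine Set.encard_le_encard_of_injOn (f := fun n => n % e) ?_ ?_
    · rintro n ⟨hn, hn0, hn'⟩
      simp only [Finset.coe_Ico, Set.mem_Ico]
      refine ⟨Nat.one_le_iff_ne_zero.2 fun h0 => ?_, Nat.mod_lt _ (by omega)⟩
      exact hn' n (hmul n h0) hn0 le_rfl (by simpa using hS0)
    · rintro a ⟨ha, ha0, ha'⟩ b ⟨hb, hb0, hb'⟩ hab
      wlog hle : a ≤ b generalizing a b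
      · exact (this hb hb0 hb' ha ha0 ha' hab.symm (by omega)).symm
      by_contra hne
      have h0 : (b - a) % e = 0 := Nat.sub_mod_eq_zero_of_mod_eq hab.symm
      refine hb' _ (hmul _ h0) (by omega) (by omega) ?_
      rwa [show b - (b - a) = a by omega]

end Groth.Agent.S15019
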