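import Groth.Statements.S15022
import Groth.Agent.L21.TFDual.ValueLattice

set_option autoImplicit false
universe u
open CategoryTheory
open TFCurv

namespace Groth.Agent.S15022

/-- Let k be an algebraically closed field and A ≠ k[[t]] a k-subalgebra of k[[t]] that is closed in the
t-adic topology and over which k[[t]] is a finite module (as for the complete local ring of a
unibranch curve singularity inside its normalisation), and let Γ ⊆ ℕ be the set of t-orders of the
nonzero elements of A (its value semigroup); let c be the conductor of Γ (every n ≥ c lies in Γ, c −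
1 does not) and suppose A is not Gorenstein. If w is an A-submodule of k[[t]] with 1 ∈ w whose
injective dimension as an A-module is at most one (a canonical ideal of A placed between A and
k[[t]]), then the value set of w is the dual of Γ: a natural number n is the t-order of some element
of w exactly when n ≥ c or c − 1 − n is a gap of Γ. (The published statement does not exclude the
Gorenstein case; this row assumes that A is not Gorenstein.) -/
theorem result (k : Type u) [Field k] [IsAlgClosed k] (A : Subalgebra k (PowerSeries k)) (hA : Module.Finite ↥A (PowerSeries k)) (hcl : ∀ f : PowerSeries k, (∀ n : ℕ, ∃ g ∈ A, (n : ℕ∞) ≤ PowerSeries.order (f - g)) → f ∈ A) (hsing : A ≠ ⊤) (Γ : Set ℕ) (hΓ : ∀ n : ℕ, n ∈ Γ ↔ ∃ f ∈ A, PowerSeries.order f = n) (c : ℕ) (hc : ∀ n : ℕ, c ≤ n → n ∈ Γ) (hc0 : c ≠ 0) (hc1 : c - 1 ∉ Γ) (hG : ¬ LocCoh.IsGorensteinLocalRing ↥A) (ω : Submodule ↥A (PowerSeries k)) (hω1 : (1 : PowerSeries k) ∈ ω) (hωfg : ω.FG) (hωinj : HasInjectiveDimensionLT (ModuleCat.of ↥A ↥ω) 2) (n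 : ℕ) : (∃ f ∈ ω, PowerSeries.order f = n) ↔ (c ≤ n ∨ c - 1 - n ∉ Γ) := by
  have hX : ∀ f : PowerSeries k, (c : ℕ∞) ≤ f.order → f ∈ A := fun f hf =>
    Groth.L21.ValueSemigroup.mem_of_orders A hA hcl (Groth.L21.ValueSemigroup.selfSubmodule A) c
      (fun m hm => (hΓ m).1 (hc m hm)) f hf
  have key := Groth.L21.ValueLattice.values_colon A hX Γ hΓ hc0 hc1 ω hω1 hωinj
    (Groth.L21.ValueSemigroup.selfSubmodule A) A.one_mem n
  rw [hΓ (c - 1 - n)]
  refine Iff.trans ⟨fun ⟨f, hf, hfo⟩ => ⟨f, hfo, fun m hm => ?_⟩, fun ⟨u, huo, hu⟩ => ⟨u, ?_, huo⟩⟩ key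
  · rw [mul_comm]
    exact ω.smul_mem (⟨m, hm⟩ : A) hf
  · simpa using hu 1 A.one_mem

end Groth.Agent.S15022
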