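import Groth.Statements.S15023
import Groth.Agent.L21.TFDual.Normalize

set_option autoImplicit false
universe u
open TFCurv

namespace Groth.Agent.S15023

/-- Let k be an algebraically closed field and A ≠ k[[t]] a k-subalgebra of k[[t]] that is closed in the
t-adic topology, over which k[[t]] is a finite module, and such that every power series is carried
into A by multiplication with some nonzero element of A (so k[[t]] lies in the fraction field of A
and is its normalisation, as for the complete local ring of a unibranch curve singularity), and let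
Γ ⊆ ℕ be the set of t-orders of the nonzero elements of A (its value semigroup); assume moreover
that A is the monomial ring of Γ (a power series lies in A exactly when all its exponents lie in Γ),
and let δ be the number of gaps of Γ. Then every finitely generated torsion-free A-module of rank
one is isomorphic to an A-submodule M' of k[[t]] with t^{2δ} k[[t]] ⊆ M' and dim_k(k[[t]]/M') = δ,
equivalently dim_k(M'/t^{2δ}k[[t]]) = δ: every isomorphism class of rank-one torsion-free modules is
represented by a δ-dimensional A-stable subspace of k[[t]]/t^{2δ}k[[t]]. -/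
theorem result (k : Type u) [Field k] [IsAlgClosed k] (A : Subalgebra k (PowerSeries k)) (hA : Module.Finite ↥A (PowerSeries k)) (hcl : ∀ f : PowerSeries k, (∀ n : ℕ, ∃ g ∈ A, (n : ℕ∞) ≤ PowerSeries.order (f - g)) → f ∈ A) (hsing : A ≠ ⊤) (hbir : ∀ f : PowerSeries k, ∃ a ∈ A, a ≠ 0 ∧ a * f ∈ A) (Γ : Set ℕ) (hΓ : ∀ n : ℕ, n ∈ Γ ↔ ∃ f ∈ A, PowerSeries.order f = n) (hmono : ∀ f : PowerSeries k, f ∈ A ↔ ∀ n : ℕ, PowerSeries.coeff n f ≠ 0 → n ∈ Γ) (M : Type u) [AddCommGroup M] [Module ↥A M] [Module.Finite ↥A M] [NoZeroSMulDivisors ↥A M] (hrk : Module.finrank (FractionRing ↥A) (TensorProduct ↥A (FractionRing ↥A) M) = 1) : ∃ M' : Submodule ↥A (PowerSeries k), (Ideal.span {(PowerSeries.X : PowerSeries k) ^ (2 * Γᶜ.ncard)}).restrictScalars ↥A ≤ M' ∧ Nonempty (M ≃ₗ[↥A] ↥M') ∧ Module.finrank k (PowerSeries k ⧸ M'.restrictScalars k) = Γᶜ.ncard := by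
  obtain ⟨φ, hφ, m, hm⟩ := Groth.L21.ValueLattice.exists_injective_functional M hrk
  let ψ : M →ₗ[↥A] PowerSeries k := (Algebra.linearMap ↥A (PowerSeries k)).comp φ
  have hψ : Function.Injective ψ := Subtype.val_injective.comp hφ
  have hne : LinearMap.range ψ ≠ ⊥ := fun h => hm (Subtype.ext ((Submodule.mem_bot ↥A).1 (h ▸ ⟨m, rfl⟩)))
  obtain ⟨N, hN1, ⟨e⟩⟩ := Groth.L21.ValueLattice.exists_normalize A (LinearMap.range ψ) hne
  obtain ⟨d, hd⟩ := Groth.L21.ValueSemigroup.exists_conductor A hA hbir
  obtain ⟨M', hhigh, ⟨e'⟩, hrank⟩ := Groth.L21.ValueLattice.exists_colength_eq A Γ hΓ hmono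
    (Groth.L21.ValueSemigroup.finrank_quot_eq A Γ hΓ d hd).1 hA hcl N hN1
  refine ⟨M', fun f hf => hhigh ?_, ⟨(LinearEquiv.ofInjective ψ hψ).trans (e.trans e')⟩, hrank⟩
  obtain ⟨q, rfl⟩ := Ideal.mem_span_singleton.1 hf
  exact Groth.L21.ValueLattice.le_order_mul_left q (by rw [PowerSeries.order_X_pow])

end Groth.Agent.S15023
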