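import Groth.Statements.S15024
import Groth.Agent.L21.Lattice.Tor

set_option autoImplicit false
universe u
open CategoryTheory
open TFCurv

namespace Groth.Agent.S15024

/-- Let O be a one-dimensional Noetherian local domain with algebraically closed residue field whose
integral closure O~ in its fraction field K is a finite O-module, M a finitely generated
torsion-free O-module and f : O^n → M an injective O-linear map whose cokernel T has finite length.
Then Tor_1^O(O~, M) and Tor_1^O(O~, T) are isomorphic (existence of an isomorphism only), and O~ ⊗_O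
f : O~ ⊗ O^n → O~ ⊗ M is injective, so that 0 → O~^n → O~ ⊗ M → O~ ⊗ T → 0 is exact. -/
theorem result (O : Type u) [CommRing O] [IsDomain O] [IsNoetherianRing O] [IsLocalRing O] (hdim : ringKrullDim O = 1) [IsAlgClosed (IsLocalRing.ResidueField O)] (K : Type u) [Field K] [Algebra O K] [IsFractionRing O K] (hfin : Module.Finite O ↥(integralClosure O K)) (M : Type u) [AddCommGroup M] [Module O M] [Module.Finite O M] [NoZeroSMulDivisors O M] (n : ℕ) (f : (Fin n → O) →ₗ[O] M) (hf : Function.Injective f) (hT : IsFiniteLength O (M ⧸ LinearMap.range f)) : Nonempty (((Tor (ModuleCat.{u} O) 1).obj (ModuleCat.of O ↥(integralClosure O K))).obj (ModuleCat.of O M) ≅ ((Tor (ModuleCat.{u} O) 1).obj (ModuleCat.of O ↥(integralClosure O K))).obj (ModuleCat.of O (M ⧸ LinearMap.range f))) ∧ Function.Injective (LinearMap.lTensor ↥(integralClosure O K) f) := by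
  haveI : FaithfulSMul O K := (faithfulSMul_iff_algebraMap_injective O K).2 (IsFractionRing.injective O K)
  haveI := Groth.L21.TFDual.isTorsionFree_submodule (A := O) (K := K) (Subalgebra.toSubmodule (integralClosure O K))
  haveI : Module.IsTorsionFree O ↥(integralClosure O K) :=
    inferInstanceAs (Module.IsTorsionFree O ↥(Subalgebra.toSubmodule (integralClosure O K)))
  exact Groth.L21.Lattice.nonempty_tor_iso_of_injective hdim _ f hf hT

end Groth.Agent.S15024
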