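import Groth.Statements.S15029
import Groth.Agent.L21.Semigroup

set_option autoImplicit false
open TFCurv

namespace Groth.Agent.S15029

/-- Let Γ be a numerical semigroup (a submonoid of (ℕ, +) with finite complement), Γ ≠ ℕ, with conductor
c (every n ≥ c lies in Γ, c − 1 does not), and let S ⊆ ℕ be a Γ-module in normal form (0 ∈ S and γ +
s ∈ S for γ ∈ Γ, s ∈ S). If S ≠ ℕ then some gap n of S can be added (n + γ ∈ S for every nonzero γ ∈
Γ, so S ∪ {n} is a Γ-module), and if S ≠ Γ then some s ∈ S outside Γ can be removed (s − γ ∉ S for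
every nonzero γ ∈ Γ with γ ≤ s, so S ∖ {s} is a Γ-module containing Γ); iterating, S is joined to ℕ
and to Γ by chains in the diagram of Γ-modules, which is therefore connected. -/
theorem result (Γ : AddSubmonoid ℕ) (c : ℕ) (hc : ∀ n : ℕ, c ≤ n → n ∈ Γ) (hc0 : c ≠ 0) (hc1 : c - 1 ∉ Γ) (S : Set ℕ) (hS0 : (0 : ℕ) ∈ S) (hS : ∀ γ : ℕ, γ ∈ Γ → ∀ s : ℕ, s ∈ S → γ + s ∈ S) : (S ≠ Set.univ → ∃ n : ℕ, n ∉ S ∧ ∀ γ : ℕ, γ ∈ Γ → γ ≠ 0 → n + γ ∈ S) ∧ ((↑Γ : Set ℕ) ≠ S → ∃ s : ℕ, s ∈ S ∧ s ∉ Γ ∧ ∀ γ : ℕ, γ ∈ Γ → γ ≠ 0 → γ ≤ s → s - γ ∉ S) := by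
  classical
  have hΓS : ∀ γ, γ ∈ Γ → γ ∈ S := fun γ hγ => by simpa using hS γ hγ 0 hS0
  constructor
  · intro hne
    obtain ⟨n, hn⟩ : ∃ n, n ∉ S := by
      by_contra hh
      push Not at hh
      exact hne (Set.eq_univ_of_forall hh)
    have hfin : (Sᶜ : Set ℕ).Finite := (Set.finite_Iio c).subset fun m hm => by
      by_contra hh
      exact hm (hΓS _ (hc m (by simpa using hh)))
    obtain ⟨m, hm, hmax⟩ := hfin.toFinset.exists_maximal ⟨n, by simpa using hn⟩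
    simp only [Set.Finite.mem_toFinset, Set.mem_compl_iff] at hm hmax
    refine ⟨m, hm, fun γ hγ hγ0 => ?_⟩
    by_contra hh
    have := hmax hh (Nat.le_add_right m γ)
    omega
  · intro hne
    have hex : ∃ s, s ∈ S ∧ s ∉ Γ := by
      by_contra hh
      push Not at hh
      exact hne (Set.Subset.antisymm (fun x hx => hΓS x hx) hh)
    obtain ⟨h1, h2⟩ := Nat.find_spec hex
    refine ⟨Nat.find hex, h1, h2, fun γ hγ hγ0 hle hmem => ?_⟩
    have h3 : Nat.find hex - γ ∈ Γ := by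
      by_contra hh
      exact Nat.find_min hex (by omega) ⟨hmem, hh⟩
    have := Γ.add_mem h3 hγ
    rw [show Nat.find hex - γ + γ = Nat.find hex by omega] at this
    exact h2 this

end Groth.Agent.S15029
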