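import Groth.Statements.S1503
import Groth.Agent.L29.RelPC.Mor
import Groth.Agent.S7067

set_option autoImplicit false
set_option backward.isDefEq.respectTransparency false
universe u
attribute [local instance] HasDerivedCategory.standard
open FlatMor

namespace Groth.Agent.S1503

open AlgebraicGeometry CategoryTheory Limits in
/-- Let f : X → S with S locally Noetherian. Then f is pseudo-coherent (affine-locally: pseudo-coherent
ring maps) if and only if f is locally of finite type. -/
theorem result {X S : Scheme.{u}} (f : X ⟶ S) [IsLocallyNoetherian S] :
    MoreMor.IsPseudoCoherentMor f ↔ LocallyOfFiniteType f := by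
  refine ⟨fun hf => Groth.L29.RelPC.lft_of_mor hf, fun _ U V hU hV hle => ?_⟩
  letI := (f.appLE V U hle).hom.toAlgebra
  haveI : IsNoetherianRing Γ(S, V) := IsLocallyNoetherian.component_noetherian ⟨V, hV⟩
  haveI : Algebra.FiniteType Γ(S, V) Γ(X, U) := f.finiteType_appLE hV hU hle
  exact Groth.Agent.S7067.result _ _

end Groth.Agent.S1503
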