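import Groth.Statements.S15030
import Groth.Agent.L21.ExtLattice.Mono

set_option autoImplicit false
universe u
open CategoryTheory
open TFCurv

namespace Groth.Agent.S15030

open Groth.L21.ExtLattice.Mono

/-- Let k be an algebraically closed field of characteristic zero, δ ≥ 1, and A ⊂ k[[t]] the complete
local ring of the A_{2δ} singularity, i.e. the k-subalgebra of power series all of whose exponents
lie in the semigroup generated by 2 and 2δ + 1 (so A = k[[t², t^{2δ+1}]]). For 0 ≤ i ≤ δ let M_i ⊂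
k[[t]] be the A-submodule generated by 1 and t^{2δ+1−2i} (these represent all rank-one torsion-free
A-modules). Then for 0 ≤ i, j ≤ δ the A-module Ext¹_A(M_i, M_j) has length 2·min(i, j) (length over
A equals k-dimension here). (The published statement also covers the two-branch case n = 2δ − 1 with
the same value; only the one-branch case is stated.) -/
theorem result (k : Type u) [Field k] [IsAlgClosed k] [CharZero k] (δ : ℕ) (hδ : 1 ≤ δ) (A : Subalgebra k (PowerSeries k)) (hmono : ∀ f : PowerSeries k, f ∈ A ↔ ∀ n : ℕ, PowerSeries.coeff n f ≠ 0 → n ∈ AddSubmonoid.closure ({2, 2 * δ + 1} : Set ℕ)) (i j : ℕ) (hi : i ≤ δ) (hj : j ≤ δ) : Module.length ↥A (Abelian.Ext (ModuleCat.of ↥A ↥(Submodule.span ↥A ({1, (PowerSeries.X : PowerSeries k) ^ (2 * δ + 1 - 2 * i)} : Set (PowerSeries k)))) (ModuleCat.of ↥A ↥(Submodule.span ↥A ({1, (PowerSeries.X : PowerSeries k) ^ (2 * δ + 1 - 2 * j)} : Set (PowerSeries k)))) 1) = ((2 * min i j : ℕ) : ℕ∞) := by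
  classical
  let Γ : Set ℕ := {m | m % 2 = 0 ∨ 2 * δ + 1 ≤ m}
  have hΓ : ∀ m, m ∈ AddSubmonoid.closure ({2, 2 * δ + 1} : Set ℕ) ↔ m ∈ Γ := by
    intro m
    constructor
    · intro hm
      induction hm using AddSubmonoid.closure_induction with
      | mem x hx =>
        rcases hx with rfl | rfl
        · exact Or.inl rfl
        · exact Or.inr le_rfl
      | zero => simp [Γ]
      | add x y _ _ hx hy => simp only [Γ, Set.mem_ofPred_eq] at hx hy ⊢; omega
    · intro hm
      simp only [Γ, Set.mem_ofPred_eq] at hm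
      by_cases h : m % 2 = 0
      · rw [show m = m / 2 * 2 by omega]
        exact nsmul_mem (AddSubmonoid.subset_closure (Set.mem_insert _ _)) _
      · rw [show m = (2 * δ + 1) + (m - (2 * δ + 1)) / 2 * 2 by omega]
        exact add_mem (AddSubmonoid.subset_closure (Set.mem_insert_of_mem _ rfl))
          (nsmul_mem (AddSubmonoid.subset_closure (Set.mem_insert _ _)) _)
  have hA : ∀ f, f ∈ A ↔ InSupp Γ f := fun f => by
    rw [hmono]; exact forall₂_congr fun m _ => hΓ m
  have h0 : 0 ∈ Γ := Or.inl rfl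
  have hadd : ∀ a ∈ Γ, ∀ b ∈ Γ, a + b ∈ Γ := fun a ha b hb => by
    simp only [Γ, Set.mem_ofPred_eq] at ha hb ⊢; omega
  set a := 2 * δ + 1 - 2 * i with ha
  set b := 2 * δ + 1 - 2 * j with hb
  let Δ : Set ℕ := {m | m % 2 = 0 ∨ b ≤ m}
  have hΔ : ∀ x ∈ Γ, ∀ y ∈ Δ, x + y ∈ Δ := fun x hx y hy => by
    simp only [Γ, Δ, Set.mem_ofPred_eq] at hx hy ⊢; omega
  have hN := span_pair_eq_mset A hA b Δ hΔ (fun m => by
    constructor
    · intro hm
      simp only [Δ, Γ, Set.mem_ofPred_eq] at hm ⊢
      by_cases hmΓ : m % 2 = 0 ∨ 2 * δ + 1 ≤ m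
      · exact Or.inl hmΓ
      · exact Or.inr ⟨m - b, by omega, by omega⟩
    · rintro (hm | ⟨g, hg, rfl⟩) <;> simp only [Δ, Γ, Set.mem_ofPred_eq] at * <;> omega) h0
  have key := length_ext_add_one A hA h0 hadd (a := a) (d := 2 * i)
    (Or.inl (by omega)) (Or.inr (by omega)) hΔ _ hN
    ((Finset.Ico (i - j) i).image (fun m => 2 * m) ∪ (Finset.range i).image (fun m => b + 2 * m))
    ((Finset.range (i - j)).image (fun m => 2 * m)) (fun q => by
      simp only [Finset.mem_union, Finset.mem_image, Finset.mem_Ico, Finset.mem_range, Δ, Γ,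
        Set.mem_ofPred_eq]
      constructor
      · intro hq
        refine ⟨⟨?_, fun p hp hpa => ⟨p + q - 2 * i, ?_, ?_⟩⟩, ?_⟩
        · rcases hq with ⟨m, hm, rfl⟩ | ⟨m, hm, rfl⟩ <;> omega
        · rcases hq with ⟨m, hm, rfl⟩ | ⟨m, hm, rfl⟩ <;> omega
        · rcases hq with ⟨m, hm, rfl⟩ | ⟨m, hm, rfl⟩ <;> omega
        · rintro ⟨n', hn, h⟩
          rcases hq with ⟨m, hm, rfl⟩ | ⟨m, hm, rfl⟩ <;> omega
      · rintro ⟨⟨hq, hq'⟩, hq''⟩
        obtain ⟨n', hn, hn'⟩ := hq' (2 * δ + 1) (Or.inr le_rfl) (Or.inr (Nat.le_add_right _ _))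
        by_cases he : q % 2 = 0
        · refine Or.inl ⟨q / 2, ⟨by omega, ?_⟩, by omega⟩
          by_contra h
          exact hq'' ⟨q - 2 * i, by omega, by omega⟩
        · refine Or.inr ⟨(q - b) / 2, ?_, by omega⟩
          by_contra h
          exact hq'' ⟨q - 2 * i, by omega, by omega⟩)
    (fun q => by
      simp only [Finset.mem_image, Finset.mem_range, Δ, Set.mem_ofPred_eq]
      constructor
      · rintro ⟨m, hm, rfl⟩; omega
      · intro hq; exact ⟨q / 2, by omega, by omega⟩)
  refine enat_cancel key ?_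
  have hdisj : Disjoint ((Finset.Ico (i - j) i).image (fun m => 2 * m))
      ((Finset.range i).image (fun m => b + 2 * m)) := by
    simp only [Finset.disjoint_left, Finset.mem_image, not_exists, not_and]
    rintro x ⟨m, -, rfl⟩ y -
    omega
  rw [Finset.card_union_of_disjoint hdisj, Finset.card_image_of_injective _ (fun x y h => by omega), Finset.card_image_of_injective _ (fun x y h => by omega),
    Finset.card_image_of_injective _ (fun x y h => by omega),
    Finset.card_range, Finset.card_range, Nat.card_Ico]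
  omega

end Groth.Agent.S15030
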