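import Groth.Statements.S15031
import Groth.Agent.L21.ExtLattice.Cubical

set_option autoImplicit false
universe u
open CategoryTheory
open TFCurv

namespace Groth.Agent.S15031

open Groth.L21.ExtLattice.Mono Groth.L21.ExtLattice.Cubical

/-- Let k be an algebraically closed field, n ≥ 2, and A = R_n ⊂ k[[t]] the monomial ring of the cubical
semigroup ⟨n, n+1, …, 2n−1⟩, i.e. the k-subalgebra of power series with no terms of degree 1, …,
n−1. For 0 ≤ i ≤ n − 2 let M_i ⊂ k[[t]] be the A-submodule generated by 1, t, …, t^i (the monomial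
module whose value set is Γ_n together with 1, …, i). Then the A-module Ext¹_A(M_i, M_i) has length
i·(n − 2 − i); as the A-endomorphisms of M_i are the scalars, this number is the invariant χ₁(M_i) =
dim Ext¹(M_i, M_i) − dim(End(M_i)/A). (The published statement asserts the value for every module
with this value set; only the monomial module is stated here.) -/
theorem result (k : Type u) [Field k] [IsAlgClosed k] (n : ℕ) (hn : 2 ≤ n) (A : Subalgebra k (PowerSeries k)) (hmono : ∀ f : PowerSeries k, f ∈ A ↔ ∀ m : ℕ, PowerSeries.coeff m f ≠ 0 → (m = 0 ∨ n ≤ m)) (i : ℕ) (hi : i + 2 ≤ n) : Module.length ↥A (Abelian.Ext (ModuleCat.of ↥A ↥(Submodule.span ↥A ((fun a : ℕ => (PowerSeries.X : PowerSeries k) ^ a) '' Set.Iic i))) (ModuleCat.of ↥A ↥(Submodule.span ↥A ((fun a : ℕ => (PowerSeries.X : PowerSeries k) ^ a) '' Set.Iic i))) 1) = ((i * (n - 2 - i) : ℕ) : ℕ∞) := by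
  classical
  have hA : ∀ f, f ∈ A ↔ InSupp (Gam n) f := hmono
  have hJ : ∀ m, m ∈ Finset.range (i + 1) ↔ m = 0 ∨ (1 ≤ m ∧ m < 1 + i) := fun m => by
    simp only [Finset.mem_range]; omega
  have hset : (fun a : ℕ => (PowerSeries.X : PowerSeries k) ^ a) '' Set.Iic i =
      (fun a : ℕ => (PowerSeries.X : PowerSeries k) ^ a) '' ((Finset.range (i + 1)) : Set ℕ) := by
    congr 1
    ext m
    simp [Nat.lt_succ_iff]
  rw [hset]
  have key := length_ext A hA (by omega) (s := 1) (r := i) le_rfl (by omega) (Finset.range (i + 1)) hJ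
    (Finset.Ico (n + i + 1) (2 * n)) (Finset.Icc 1 i) (fun q => by
      simp only [Finset.mem_Ico, Del, Set.mem_ofPred_eq]
      constructor
      · intro hq
        refine ⟨⟨by omega, fun m hm => by omega⟩, ?_⟩
        rintro ⟨m, hm, h⟩; omega
      · rintro ⟨⟨hq, hq'⟩, hq''⟩
        have h1 : n ≤ q := by
          by_contra h
          have := hq' (n - 1) (by omega); omega
        constructor
        · by_contra h
          exact hq'' ⟨q - n, by omega, by omega⟩
        · by_contra h
          exact hq'' ⟨q - n, by omega, by omega⟩)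
    (fun q => by
      simp only [Finset.mem_Icc, Del, Set.mem_ofPred_eq]
      constructor
      · intro hq
        exact ⟨by omega, ⟨i - q, by omega⟩, by simp only; omega⟩
      · rintro ⟨hq, j, hj⟩
        have := j.isLt
        omega)
  refine enat_cancel key ?_
  rw [Nat.card_Ico, Nat.card_Icc, Nat.add_sub_cancel]
  obtain ⟨c, rfl⟩ : ∃ c, n = i + 2 + c := ⟨n - 2 - i, by omega⟩
  rw [show i + 2 + c - 2 - i = c by omega, show 2 * (i + 2 + c) - (i + 2 + c + i + 1) = c + 1 by omega]
  ring

end Groth.Agent.S15031
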