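import Groth.Statements.S15032
import Groth.Agent.L21.ExtLattice.Cubical
import Groth.Agent.L21.ExtLattice.Congr

set_option autoImplicit false
universe u
open CategoryTheory
open TFCurv

namespace Groth.Agent.S15032

open Groth.L21.ExtLattice.Mono Groth.L21.ExtLattice.Cubical

/-- Let k be an algebraically closed field, n ≥ 2, and A = R_n ⊂ k[[t]] the monomial ring of the cubical
semigroup ⟨n, n+1, …, 2n−1⟩, i.e. the k-subalgebra of power series with no terms of degree 1, …,
n−1. For the normalisation R~ = k[[t]] viewed as an A-module, χ₁(R~) = (n − 1)², where χ₁(M) = dim_k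
Ext¹_A(M, M) − dim_k(End_A(M)/A): the length of the A-module Ext¹_A(k[[t]], k[[t]]) equals (n − 1)²
plus the length of the A-linear endomorphisms of k[[t]] modulo multiplications by elements of A. -/
theorem result (k : Type u) [Field k] [IsAlgClosed k] (n : ℕ) (hn : 2 ≤ n) (A : Subalgebra k (PowerSeries k)) (hmono : ∀ f : PowerSeries k, f ∈ A ↔ ∀ m : ℕ, PowerSeries.coeff m f ≠ 0 → (m = 0 ∨ n ≤ m)) : Module.length ↥A (Abelian.Ext (ModuleCat.of ↥A (PowerSeries k)) (ModuleCat.of ↥A (PowerSeries k)) 1) = (((n - 1) ^ 2 : ℕ) : ℕ∞) + Module.length ↥A ((PowerSeries k →ₗ[↥A] PowerSeries k) ⧸ LinearMap.range (Algebra.lsmul ↥A ↥A (PowerSeries k) : ↥A →ₐ[↥A] Module.End ↥A (PowerSeries k)).toLinearMap) := by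
  classical
  have hA : ∀ f, f ∈ A ↔ InSupp (Gam n) f := hmono
  have hJ : ∀ m, m ∈ Finset.range n ↔ m = 0 ∨ (1 ≤ m ∧ m < 1 + (n - 1)) := fun m => by
    simp only [Finset.mem_range]; omega
  have htop : Submodule.span A ((fun a : ℕ => (PowerSeries.X : PowerSeries k) ^ a) ''
      ((Finset.range n) : Set ℕ)) = ⊤ := by
    rw [span_eq A hA (s := 1) (r := n - 1) _ (by omega) hJ, eq_top_iff]
    intro f _ m _
    simp only [Del, Set.mem_ofPred_eq]; omega
  have key := length_ext A hA (by omega) (s := 1) (r := n - 1) le_rfl (by omega) (Finset.range n) hJ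
    (Finset.range n) ∅ (fun q => by
      simp only [Finset.mem_range, Del, Set.mem_ofPred_eq]
      constructor
      · intro hq
        refine ⟨⟨by omega, fun m hm => by omega⟩, ?_⟩
        rintro ⟨m, hm, h⟩; omega
      · rintro ⟨-, hq''⟩
        by_contra h
        exact hq'' ⟨q - n, by omega, by omega⟩)
    (fun q => by
      simp only [Finset.notMem_empty, Del, Set.mem_ofPred_eq, false_iff, not_and, not_exists,
        Decidable.not_not]
      intro hq j
      omega)
  let e : ↥(Submodule.span A ((fun a : ℕ => (PowerSeries.X : PowerSeries k) ^ a) ''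
      ((Finset.range n) : Set ℕ))) ≃ₗ[A] PowerSeries k := LinearEquiv.ofTop _ htop
  rw [(Groth.L21.ExtLattice.extCongr e e 1).length_eq, Finset.card_empty, Nat.cast_zero, add_zero,
    Finset.card_range] at key
  -- endomorphisms are multiplications
  have hmul : ∀ (φ : PowerSeries k →ₗ[A] PowerSeries k) (f : PowerSeries k), φ f = f * φ 1 := by
    intro φ f
    have hn' : n ∈ Gam n := Or.inr le_rfl
    have ha : PowerSeries.X ^ n * f ∈ A := (hA _).2 fun m hm => by
      rw [PowerSeries.coeff_X_pow_mul'] at hm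
      split_ifs at hm with h
      · exact Or.inr h
      · exact absurd rfl hm
    let a : A := ⟨_, ha⟩
    have h1 : φ (PowerSeries.X ^ n * f) = PowerSeries.X ^ n * φ f := by
      rw [← xp_smul A hA hn', map_smul, xp_smul]
    have h2 : φ (PowerSeries.X ^ n * f) = PowerSeries.X ^ n * f * φ 1 := by
      have h3 := φ.map_smul a 1
      change φ (PowerSeries.X ^ n * f * 1) = PowerSeries.X ^ n * f * φ 1 at h3
      rwa [mul_one] at h3
    refine mul_left_cancel₀ (pow_ne_zero n PowerSeries.X_ne_zero) ?_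
    rw [← h1, h2, mul_assoc]
  let ev : (PowerSeries k →ₗ[A] PowerSeries k) ≃ₗ[A] PowerSeries k :=
    { toFun := fun φ => φ 1
      map_add' := fun φ ψ => rfl
      map_smul' := fun a φ => rfl
      invFun := fun g => LinearMap.mulRight A g
      left_inv := fun φ => LinearMap.ext fun f => (hmul φ f).symm
      right_inv := fun g => one_mul g }
  have hend : Module.length ↥A ((PowerSeries k →ₗ[↥A] PowerSeries k) ⧸
      LinearMap.range (Algebra.lsmul ↥A ↥A (PowerSeries k) :
        ↥A →ₐ[↥A] Module.End ↥A (PowerSeries k)).toLinearMap) = ((n - 1 : ℕ) : ℕ∞) := by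
    rw [length_quotient_of_equiv (eps A) (isUnit_of_eps A hA (gam_zero n) (gam_add n)) ev _
      (Gam n) (Finset.Ico 1 n) (fun φ => ?_) (fun m => by
        simp only [Finset.mem_Ico, Gam, Set.mem_ofPred_eq]; omega), Nat.card_Ico]
    constructor
    · rintro ⟨a, rfl⟩
      change InSupp _ ((a : PowerSeries k) * 1)
      rw [mul_one]
      exact (hA _).1 a.2
    · intro h
      refine ⟨⟨φ 1, (hA _).2 h⟩, LinearMap.ext fun f => ?_⟩
      rw [hmul φ f, mul_comm]
      rfl
  rw [key, hend, ← Nat.cast_add]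
  congr 1
  obtain ⟨c, rfl⟩ : ∃ c, n = c + 1 := ⟨n - 1, by omega⟩
  rw [Nat.add_sub_cancel]
  ring

end Groth.Agent.S15032
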