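import Groth.Statements.S15033
import Groth.Agent.L21.ExtLattice.Cubical

set_option autoImplicit false
universe u
open CategoryTheory
open TFCurv

namespace Groth.Agent.S15033

open Groth.L21.ExtLattice.Mono Groth.L21.ExtLattice.Cubical

/-- Let k be an algebraically closed field, n ≥ 2, and A = R_n ⊂ k[[t]] the monomial ring of the cubical
semigroup ⟨n, n+1, …, 2n−1⟩, i.e. the k-subalgebra of power series with no terms of degree 1, …,
n−1. For 0 ≤ i < n − 1 let R_{n−i} ⊂ k[[t]] be the A-submodule generated by 1, t^{n−i}, t^{n−i+1},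
…, t^{n−1}, i.e. the overring of A consisting of the power series with no terms of degree 1, …, n −
i − 1. Then the A-module Ext¹_A(R_{n−i}, R_{n−i}) has length i·(n − 1). Since the A-endomorphisms of
R_{n−i} are the multiplications by elements of R_{n−i}, of colength i over A, this is the published
value χ₁(R_{n−i}) = i·(n − 2) of χ₁(M) = dim Ext¹(M, M) − dim(End(M)/A). -/
theorem result (k : Type u) [Field k] [IsAlgClosed k] (n : ℕ) (hn : 2 ≤ n) (A : Subalgebra k (PowerSeries k)) (hmono : ∀ f : PowerSeries k, f ∈ A ↔ ∀ m : ℕ, PowerSeries.coeff m f ≠ 0 → (m = 0 ∨ n ≤ m)) (i : ℕ) (hi : i + 2 ≤ n) : Module.length ↥A (Abelian.Ext (ModuleCat.of ↥A ↥(Submodule.span ↥A ((fun a : ℕ => (PowerSeries.X : PowerSeries k) ^ a) '' ({0} ∪ Set.Icc (n - i) (n - 1))))) (ModuleCat.of ↥A ↥(Submodule.span ↥A ((fun a : ℕ => (PowerSeries.X : PowerSeries k) ^ a) '' ({0} ∪ Set.Icc (n - i) (n - 1))))) 1) = ((i * (n - 1) : ℕ) : ℕ∞) := by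
  classical
  have hA : ∀ f, f ∈ A ↔ InSupp (Gam n) f := hmono
  let J : Finset ℕ := insert 0 (Finset.Ico (n - i) n)
  have hJ : ∀ m, m ∈ J ↔ m = 0 ∨ (n - i ≤ m ∧ m < n - i + i) := fun m => by
    simp only [J, Finset.mem_insert, Finset.mem_Ico, show n - i + i = n by omega]
  have hset : (fun a : ℕ => (PowerSeries.X : PowerSeries k) ^ a) '' ({0} ∪ Set.Icc (n - i) (n - 1)) =
      (fun a : ℕ => (PowerSeries.X : PowerSeries k) ^ a) '' (J : Set ℕ) := by
    congr 1
    ext m
    rw [Finset.mem_coe, hJ]
    simp only [Set.mem_union, Set.mem_singleton_iff, Set.mem_Icc]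
    omega
  rw [hset]
  have key := length_ext A hA (by omega) (s := n - i) (r := i) (by omega) (by omega) J hJ
    ((Finset.Ico (n - i) (2 * n - i)).erase n) ∅ (fun q => by
      simp only [Finset.mem_erase, Finset.mem_Ico, Del, Set.mem_ofPred_eq]
      constructor
      · intro hq
        refine ⟨⟨by omega, fun m hm => by omega⟩, ?_⟩
        rintro ⟨m, hm, h⟩; omega
      · rintro ⟨⟨hq, hq'⟩, hq''⟩
        have h0 : q ≠ n := fun h => hq'' ⟨0, by omega, by omega⟩
        refine ⟨h0, ?_, ?_⟩
        · by_contra h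
          by_cases h1 : 1 < n - i
          · have := hq' (n - i - 1) (by omega); omega
          · omega
        · by_contra h
          exact hq'' ⟨q - n, by omega, by omega⟩)
    (fun q => by
      simp only [Finset.notMem_empty, Del, Set.mem_ofPred_eq, false_iff, not_and, not_exists,
        Decidable.not_not]
      intro hq j
      have := j.isLt
      omega)
  refine enat_cancel key ?_
  rw [Finset.card_erase_eq_ite, Nat.card_Ico, show 2 * n - i - (n - i) = n by omega]
  split_ifs with h
  · simp
  · simp only [Finset.mem_Ico, not_and, not_lt] at h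
    have := h (by omega)
    rw [show i = 0 by omega]; simp

end Groth.Agent.S15033
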