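import Groth.Statements.S15036
import Groth.Agent.L21.Semigroup

set_option autoImplicit false
open TFCurv

namespace Groth.Agent.S15036

/-- Let Γ be a numerical semigroup (a submonoid of (ℕ, +) with finite complement), Γ ≠ ℕ, with conductor
c (every n ≥ c lies in Γ, c − 1 does not); let S ⊆ ℕ be a Γ-module in normal form (0 ∈ S, γ + s ∈ S
for γ ∈ Γ, s ∈ S) with conductor c(S) (all n ≥ c(S) in S, c(S) − 1 ∉ S), and let s be a gap of S
such that S ∪ {s} is again a Γ-module. Enumerate S increasingly as s_0 < s_1 < ⋯ and put τ_i(S) =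
s_i + ℓ(S), where ℓ counts the gaps of Γ filled; since ℓ(S ∪ {s}) = ℓ(S) + 1, the termwise
comparison τ(S) ≤ τ(S ∪ {s}) says that the i-th element of S is at most one more than the i-th
element of S ∪ {s} for every i. This holds if and only if s = c(S) − 1, the largest gap of S. -/
theorem result (Γ : AddSubmonoid ℕ) (c : ℕ) (hc : ∀ n : ℕ, c ≤ n → n ∈ Γ) (hc0 : c ≠ 0) (hc1 : c - 1 ∉ Γ) (S : Set ℕ) (hS0 : (0 : ℕ) ∈ S) (hS : ∀ γ : ℕ, γ ∈ Γ → ∀ s : ℕ, s ∈ S → γ + s ∈ S) (cS : ℕ) (hcS : ∀ n : ℕ, cS ≤ n → n ∈ S) (hcS0 : cS ≠ 0) (hcS1 : cS - 1 ∉ S) (s : ℕ) (hs : s ∉ S) (hs' : ∀ γ : ℕ, γ ∈ Γ → γ ≠ 0 → s + γ ∈ S) : (∀ i : ℕ, Nat.nth (fun m => m ∈ S) i ≤ Nat.nth (fun m => m ∈ insert s S) i + 1) ↔ s + 1 = cS := by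
  classical
  have hcT : ∀ n : ℕ, cS ≤ n → n ∈ insert s S := fun n hn => Set.mem_insert_of_mem _ (hcS n hn)
  have hsc : s < cS := by
    by_contra hh
    exact hs (hcS s (by omega))
  -- members below n in the enlarged set
  have hins : ∀ n, Groth.L21.Semigroup.memBelow (insert s S) n
      = Groth.L21.Semigroup.memBelow S n + (if s < n then 1 else 0) := by
    intro n
    unfold Groth.L21.Semigroup.memBelow
    induction n with
    | zero => simp
    | succ n ih =>
      rw [Nat.count_succ, Nat.count_succ, ih]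
      rcases lt_trichotomy n s with h | h | h
      · by_cases hn : n ∈ S <;> simp [hn, h.ne] <;> split_ifs <;> omega
      · subst h; simp [hs]
      · by_cases hn : n ∈ S <;> simp [hn, h.ne'] <;> split_ifs <;> omega
  constructor
  · intro h
    by_contra hne
    have hi := h (Groth.L21.Semigroup.memBelow S cS)
    rw [Groth.L21.Semigroup.nth_memBelow (hcS cS le_rfl)] at hi
    set r := Groth.L21.Semigroup.memBelow S cS with hr
    have h1 : r < Groth.L21.Semigroup.memBelow (insert s S) cS := by
      rw [hins, if_pos hsc]; omega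
    have h2 := Groth.L21.Semigroup.nth_lt h1
    have h3 := Groth.L21.Semigroup.nth_mem hcT r
    have h4 : cS - 1 ∉ insert s S := by
      rintro (h' | h')
      · omega
      · exact hcS1 h'
    have h5 : Nat.nth (fun m => m ∈ insert s S) r ≠ cS - 1 := fun e => h4 (e ▸ h3)
    omega
  · intro hscS i
    set m := Nat.nth (fun m => m ∈ insert s S) i with hm
    have h1 : Groth.L21.Semigroup.memBelow (insert s S) (m + 1) = i + 1 := by
      rw [Groth.L21.Semigroup.memBelow_succ_of_mem _ (Groth.L21.Semigroup.nth_mem hcT i),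
        Groth.L21.Semigroup.memBelow_nth hcT]
    suffices hlt : i < Groth.L21.Semigroup.memBelow S (m + 2) by
      have := Groth.L21.Semigroup.nth_lt hlt
      omega
    rw [hins] at h1
    by_cases hsm : s < m + 1
    · rw [if_pos hsm] at h1
      have := Groth.L21.Semigroup.memBelow_succ_of_mem S (hcS (m + 1) (by omega))
      rw [show m + 1 + 1 = m + 2 from rfl] at this
      omega
    · rw [if_neg hsm] at h1
      have : Groth.L21.Semigroup.memBelow S (m + 1) ≤ Groth.L21.Semigroup.memBelow S (m + 2) :=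
        Groth.L21.Semigroup.memBelow_mono S (Nat.le_succ _)
      omega

end Groth.Agent.S15036
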