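import Groth.Statements.S15037
import Groth.Agent.L21.Semigroup

set_option autoImplicit false
open TFCurv

namespace Groth.Agent.S15037

/-- Let Γ be a numerical semigroup (a submonoid of (ℕ, +) with finite complement), Γ ≠ ℕ, with conductor
c (every n ≥ c lies in Γ, c − 1 does not); let S and S' ⊆ ℕ be Γ-modules in normal form with
conductors c(S), c(S'), let δ(S), δ(S') be their numbers of gaps and r(S), r(S') their numbers of
elements below the conductor, and enumerate them increasingly as s_i, s'_i (i ≥ 0). With τ_i(S) =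
s_i + ℓ(S) and ℓ(S) = δ(Γ) − δ(S), the termwise order τ(S) ≤ τ(S') reads s_i + δ(S') ≤ s'_i + δ(S)
for all i. It holds if and only if r(S') ≤ r(S) and s_i + δ(S') ≤ s'_i + δ(S) for all i < r(S')
(beyond r(S) the entries τ_i(S) = i + δ(Γ) are the largest possible). -/
theorem result (Γ : AddSubmonoid ℕ) (c : ℕ) (hc : ∀ n : ℕ, c ≤ n → n ∈ Γ) (hc0 : c ≠ 0) (hc1 : c - 1 ∉ Γ) (S : Set ℕ) (hS0 : (0 : ℕ) ∈ S) (hS : ∀ γ : ℕ, γ ∈ Γ → ∀ s : ℕ, s ∈ S → γ + s ∈ S) (cS : ℕ) (hcS : ∀ n : ℕ, cS ≤ n → n ∈ S) (hcS1 : cS = 0 ∨ cS - 1 ∉ S) (S' : Set ℕ) (hS'0 : (0 : ℕ) ∈ S') (hS' : ∀ γ : ℕ, γ ∈ Γ → ∀ s : ℕ, s ∈ S' → γ + s ∈ S') (cS' : ℕ) (hcS' : ∀ n : ℕ, cS' ≤ n → n ∈ S') (hcS'1 : cS' = 0 ∨ cS' - 1 ∉ S') : (∀ i : ℕ, Nat.nth (fun m => m ∈ S) i + S'ᶜ.ncard ≤ Nat.nth (fun m => m ∈ S') i + Sᶜ.ncard) ↔ ((S' ∩ Set.Iio cS').ncard ≤ (S ∩ Set.Iio cS).ncard ∧ ∀ i : ℕ, i < (S' ∩ Set.Iio cS').ncard → Nat.nth (fun m => m ∈ S) i + S'ᶜ.ncard ≤ Nat.nth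 (fun m => m ∈ S') i + Sᶜ.ncard) := by
  have hr : (S ∩ Set.Iio cS).ncard = Groth.L21.Semigroup.memBelow S cS :=
    Groth.L21.Semigroup.ncard_inter_Iio cS
  have hr' : (S' ∩ Set.Iio cS').ncard = Groth.L21.Semigroup.memBelow S' cS' :=
    Groth.L21.Semigroup.ncard_inter_Iio cS'
  rw [hr, hr']
  have hsum := Groth.L21.Semigroup.mem_add_gaps S cS
  rw [Groth.L21.Semigroup.gapsBelow_eq_ncard_compl hcS le_rfl] at hsum
  have hsum' := Groth.L21.Semigroup.mem_add_gaps S' cS'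
  rw [Groth.L21.Semigroup.gapsBelow_eq_ncard_compl hcS' le_rfl] at hsum'
  constructor
  · intro h
    refine ⟨?_, fun i _ => h i⟩
    by_contra hlt
    set r := Groth.L21.Semigroup.memBelow S cS with hrr
    have hi := h r
    rw [hrr, Groth.L21.Semigroup.nth_memBelow (hcS cS le_rfl), ← hrr] at hi
    set m := Nat.nth (fun x => x ∈ S') r with hm
    have hm1 : m < cS' := Groth.L21.Semigroup.nth_lt (by omega)
    have hgap : cS' - 1 ∉ S' := by
      rcases hcS'1 with h0 | h0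
      · omega
      · exact h0
    have hm2 : m ≠ cS' - 1 := fun e => hgap (e ▸ Groth.L21.Semigroup.nth_mem hcS' r)
    have hm3 : m = r + Groth.L21.Semigroup.gapsBelow S' m := Groth.L21.Semigroup.nth_eq hcS' r
    have h1 := Groth.L21.Semigroup.gapsBelow_succ_of_notMem S' hgap
    have h2 := Groth.L21.Semigroup.gapsBelow_mono S' (show m ≤ cS' - 1 by omega)
    rw [show cS' - 1 + 1 = cS' by omega,
      Groth.L21.Semigroup.gapsBelow_eq_ncard_compl hcS' le_rfl] at h1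
    omega
  · rintro ⟨hle, h⟩ i
    rcases lt_or_ge i (Groth.L21.Semigroup.memBelow S' cS') with hi | hi
    · exact h i hi
    · have hS'i : cS' ≤ Nat.nth (fun x => x ∈ S') i := by
        by_contra hh
        have h2 : Groth.L21.Semigroup.memBelow S' (Nat.nth (fun x => x ∈ S') i + 1) ≤
            Groth.L21.Semigroup.memBelow S' cS' := Groth.L21.Semigroup.memBelow_mono S' (by omega)
        rw [Groth.L21.Semigroup.memBelow_succ_of_mem _ (Groth.L21.Semigroup.nth_mem hcS' i),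
          Groth.L21.Semigroup.memBelow_nth hcS'] at h2
        omega
      rw [Groth.L21.Semigroup.nth_eq hcS i, Groth.L21.Semigroup.nth_eq hcS' i,
        Groth.L21.Semigroup.gapsBelow_eq_ncard_compl hcS' hS'i]
      have := Groth.L21.Semigroup.gapsBelow_le_ncard_compl hcS (Nat.nth (fun m => m ∈ S) i)
      omega

end Groth.Agent.S15037
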