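import Groth.Statements.S15038
import Groth.Agent.L21.Semigroup

set_option autoImplicit false
open TFCurv

namespace Groth.Agent.S15038

/-- Let Γ be a numerical semigroup (a submonoid of (ℕ, +) with finite complement), Γ ≠ ℕ, with conductor
c (every n ≥ c lies in Γ, c − 1 does not). If Γ is symmetric (for x < c, x is a gap exactly when c −
1 − x ∈ Γ) and its multiplicity e, the least nonzero element of Γ, is greater than 2, then Γ is
generated as an additive monoid by at most e − 1 elements. -/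
theorem result (Γ : AddSubmonoid ℕ) (c : ℕ) (hc : ∀ n : ℕ, c ≤ n → n ∈ Γ) (hc0 : c ≠ 0) (hc1 : c - 1 ∉ Γ) (hsymm : ∀ x : ℕ, x < c → (x ∉ Γ ↔ c - 1 - x ∈ Γ)) (e : ℕ) (he : e ∈ Γ) (he0 : e ≠ 0) (hemin : ∀ γ : ℕ, γ ∈ Γ → γ ≠ 0 → e ≤ γ) (he2 : 2 < e) : ∃ G : Finset ℕ, G.card ≤ e - 1 ∧ AddSubmonoid.closure (↑G : Set ℕ) = Γ := by
  classical
  have he3 : (1 : ℕ) ∉ Γ ∧ (2 : ℕ) ∉ Γ :=
    ⟨fun h => absurd (hemin 1 h one_ne_zero) (by omega),
      fun h => absurd (hemin 2 h two_ne_zero) (by omega)⟩
  have hk : ∀ k : ℕ, k * e ∈ Γ := fun k => by simpa [nsmul_eq_mul] using Γ.nsmul_mem he k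
  have hmul : ∀ n, n % e = 0 → n ∈ Γ := fun n hn => by
    have := hk (n / e)
    rwa [Nat.div_mul_cancel (Nat.dvd_of_mod_eq_zero hn)] at this
  set r₀ := (c - 1) % e with hr₀
  have hr₀0 : r₀ ≠ 0 := fun h => hc1 (hmul _ h)
  -- the Apéry elements outside the class of c - 1
  set A : Finset ℕ := (Finset.range (c + e)).filter
    (fun γ => γ ∈ Γ ∧ γ ≠ 0 ∧ γ - e ∉ Γ ∧ γ % e ≠ r₀) with hA
  have hAcard : A.card ≤ e - 2 := by
    have hcard : (((Finset.Ico 1 e).erase r₀)).card = e - 2 := by
      rw [Finset.card_erase_of_mem, Nat.card_Ico]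
      · omega
      · simp only [Finset.mem_Ico]
        exact ⟨Nat.one_le_iff_ne_zero.2 hr₀0, Nat.mod_lt _ (by omega)⟩
    rw [← hcard]
    refine Finset.card_le_card_of_injOn (fun n => n % e) ?_ ?_
    · intro n hn
      simp only [hA, Finset.mem_coe, Finset.mem_filter] at hn
      obtain ⟨-, hnΓ, hn0, hne, hnr⟩ := hn
      simp only [Finset.coe_erase, Finset.coe_Ico, Set.mem_sdiff, Set.mem_Ico,
        Set.mem_singleton_iff, Finset.mem_coe, Finset.mem_erase, Finset.mem_Ico]
      have hen := hemin n hnΓ hn0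
      refine ⟨⟨Nat.one_le_iff_ne_zero.2 fun h => hne (hmul _ ?_), Nat.mod_lt _ (by omega)⟩, hnr⟩
      rw [← Nat.mod_eq_sub_mod hen]
      exact h
    · intro a ha b hb hab
      simp only [hA, Finset.mem_coe, Finset.mem_filter] at ha hb
      wlog hle : a ≤ b generalizing a b with H
      · exact (H hab.symm hb ha (by omega)).symm
      by_contra hne
      have h0 : (b - a) % e = 0 := Nat.sub_mod_eq_zero_of_mod_eq hab.symm
      refine hb.2.2.2.1 ?_
      have hge : e ≤ b - a := Nat.le_of_dvd (by omega) (Nat.dvd_of_mod_eq_zero h0)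
      have h1 : (b - a - e) % e = 0 := by rw [← Nat.mod_eq_sub_mod hge]; exact h0
      have := Γ.add_mem ha.2.1 (hmul _ h1)
      rwa [show a + (b - a - e) = b - e by omega] at this
  refine ⟨insert e A, (Finset.card_insert_le _ _).trans (by omega), ?_⟩
  refine le_antisymm (AddSubmonoid.closure_le.2 ?_) ?_
  · intro x hx
    simp only [Finset.coe_insert, Set.mem_insert_iff, hA, Finset.coe_filter,
      Set.mem_ofPred_eq] at hx
    rcases hx with rfl | hx
    · exact he
    · exact hx.2.1
  intro γ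
  induction γ using Nat.strong_induction_on with
  | _ γ ih =>
    intro hγ
    rcases Nat.eq_zero_or_pos γ with rfl | hpos
    · exact zero_mem _
    have heγ := hemin γ hγ (by omega)
    by_cases hge : γ - e ∈ Γ
    · have := add_mem (ih _ (by omega) hge)
        (AddSubmonoid.subset_closure (show e ∈ (↑(insert e A) : Set ℕ) by simp))
      rwa [show γ - e + e = γ by omega] at this
    have hlt : γ < c + e := by
      by_contra hh
      exact hge (hc _ (by omega))
    by_cases hr : γ % e = r₀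
    · rcases lt_or_ge γ c with hγc | hγc
      · exfalso
        have h0 : (c - 1 - γ) % e = 0 := Nat.sub_mod_eq_zero_of_mod_eq hr.symm
        have := Γ.add_mem hγ (hmul _ h0)
        rw [show γ + (c - 1 - γ) = c - 1 by omega] at this
        exact hc1 this
      · obtain ⟨a, b, ha, hb, ha0, hb0, rfl⟩ :=
          Groth.L21.Semigroup.decompose Γ c hc hc0 hc1 hsymm he3 γ hγc
        exact add_mem (ih a (by omega) ha) (ih b (by omega) hb)
    · refine AddSubmonoid.subset_closure ?_
      simp only [Finset.coe_insert, Set.mem_insert_iff, hA, Finset.coe_filter, Set.mem_ofPred_eq,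
        Finset.mem_range]
      exact Or.inr ⟨hlt, hγ, by omega, hge, hr⟩

end Groth.Agent.S15038
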