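import Groth.Statements.S15039
import Groth.Agent.L21.PushNorm.Main
import Groth.Agent.S15027
import Groth.Agent.S1585
import Groth.Agent.L19.IntegralHom
import Groth.Agent.L21.Curve.DVR
import Groth.Agent.L16.CohGab.Closed
import Groth.Agent.L12.StabLimit

set_option autoImplicit false
set_option backward.isDefEq.respectTransparency false
set_option backward.isDefEq.respectTransparency.types false
set_option linter.style.haveILetI false
set_option maxHeartbeats 1000000
set_option synthInstance.maxHeartbeats 400000
universe u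
open CategoryTheory CategoryTheory.Limits AlgebraicGeometry
open TFCurv

namespace Groth.Agent.S15039

/-- Let X be an integral proper curve (integral, proper, of dimension one) over an algebraically closed
field k, with normalisation ν : X~ → X, and write Õ_x for the integral closure of the local ring
O_{X,x} in the function field of X. Then ν_* induces a bijection from isomorphism classes of locally
free modules of rank n on X~ to isomorphism classes of coherent O_X-modules all of whose stalks F_x
are isomorphic to Õ_x^n as O_{X,x}-modules: every such module is isomorphic to ν_*E for some locally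
free E of rank n on X~, and two locally free modules of rank n on X~ with isomorphic direct images
are isomorphic. -/
theorem result (k : Type u) [Field k] [IsAlgClosed k] (X : Scheme.{u}) [X.Over (Spec (CommRingCat.of k))] [IsIntegral X] [IsProper (X ↘ Spec (CommRingCat.of k))] (hdim : topologicalKrullDim X = 1) [QuasiCompact (X.fromSpecStalk (genericPoint X))] [QuasiSeparated (X.fromSpecStalk (genericPoint X))] (n : ℕ) : (∀ F : X.Modules, Coh.IsCoh F → (∀ x : X, Nonempty (↑(F.presheaf.stalk x) ≃ₗ[↑(X.presheaf.stalk x)] (Fin n → ↥(integralClosure ↑(X.presheaf.stalk x) X.functionField)))) → ∃ E : (Curv2.normalization X).Modules, FlatMod.IsFinLocFreeOfRank n E ∧ Nonempty ((Coh.push (Curv2.normalizationι X)).obj E ≅ F)) ∧ (∀ E E' : (Curv2.normalization X).Modules, FlatMod.IsFinLocFreeOfRank n E → FlatMod.IsFinLocFreeOfRank n E' → Nonempty ((Coh.push (Curv2.normalizationι X)).obj E ≅ (Coh.push (Curv2.normalizationι X)).obj E') → Nonempty (E ≅ E')) := by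
  obtain ⟨hfin, hdom', ⟨U, hUne, hUi⟩, hint, hN⟩ := Groth.Agent.S1585.result k X
  haveI := hfin; haveI := hdom'; haveI := hint; haveI := hUi
  haveI := Groth.L21.RR.isNoetherian_of_proper (X := X) k
  let Y := Curv2.normalization X
  let ν : Y ⟶ X := Curv2.normalizationι X
  haveI : IsLocallyNoetherian Y := LocallyOfFiniteType.isLocallyNoetherian ν
  have hdimY : topologicalKrullDim ↥Y ≤ 1 :=
    (Groth.L19.topologicalKrullDim_le_of_isIntegralHom ν).trans hdim.le
  have hpre : ∀ D : X.Opens, genericPoint X ∈ D → Dense ((ν ⁻¹ᵁ D : Y.Opens) : Set Y) := fun D hD => by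
    obtain ⟨y, hy⟩ := ν.denseRange.exists_mem_open D.2 ⟨_, hD⟩
    exact (ν ⁻¹ᵁ D).2.dense ⟨y, hy⟩
  have hgU : genericPoint X ∈ U := by
    obtain ⟨v, hv⟩ := hUne
    exact ((genericPoint_spec X).mem_open_set_iff U.2).2 ⟨v, trivial, hv⟩
  have hinj : ∀ V : X.Opens, Function.Injective (ν.app V).hom :=
    Groth.L21.NormRed.app_injective ν (U := U) (U.2.dense hUne)
  have hcohp : ∀ {M : Y.Modules}, Coh.IsCoh M → Coh.IsCoh ((Scheme.Modules.pushforward ν).obj M) := fun hM =>
    Groth.L07.PrinParts.isCoh_pushforward_finite ν hM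
  have hrank : ∀ {E : Y.Modules}, FlatMod.IsFinLocFreeOfRank n E → Coh.IsCoh E := fun hE =>
    Groth.L16.NegPow.isCoh_of_isFinLocFree (Groth.L22.CurveDeg.isFinLocFree_of_rank hE)
  refine ⟨fun F hF he => ?_, fun E E' hE hE' ⟨φ⟩ => ?_⟩
  swap
  · haveI := (hrank hE).1; haveI := (hrank hE').1
    haveI := (hcohp (hrank hE)).1; haveI := (hcohp (hrank hE')).1
    exact Groth.L21.PushNorm.nonempty_iso_of_push ν (U := U) (hpre U hgU)
      (Groth.L21.TFNodal.isTorsionFree_of_rank hE) (Groth.L21.TFNodal.isTorsionFree_of_rank hE') φ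
  haveI := hF.1
  haveI : Coh.IsQCoh ((𝟭 X.Modules).obj F) := hF.1
  -- torsion free
  have htF : TorSh.IsTorsionFree F := fun x => by
    obtain ⟨e⟩ := he x
    refine ⟨fun c hc v w hvw => ?_⟩
    have hcK : algebraMap (X.presheaf.stalk x) X.functionField c ≠ 0 :=
      (map_ne_zero_iff _ (IsFractionRing.injective _ _)).2 hc.ne_zero
    have h := congrArg e (show c • v = c • w from hvw)
    simp only [map_smul] at h
    refine e.injective (funext fun i => Subtype.ext (mul_left_cancel₀ hcK ?_))
    have h1 := congrArg Subtype.val (congrFun h i)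
    simp only [Pi.smul_apply, SetLike.val_smul, Algebra.smul_def] at h1
    exact h1
  -- rank
  have hn : Module.finrank (X.presheaf.stalk (genericPoint X)) (F.presheaf.stalk (genericPoint X)) = n := by
    obtain ⟨e⟩ := he (genericPoint X)
    let K := X.presheaf.stalk (genericPoint X)
    letI : Algebra K X.functionField := stalkFunctionFieldAlgebra X (genericPoint X)
    have hid : ∀ c : K, algebraMap K X.functionField c = c := fun c =>
      congr($(X.presheaf.stalkSpecializes_refl (genericPoint X)) c)
    let S := @integralClosure K X.functionField _ _ (stalkFunctionFieldAlgebra X (genericPoint X))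
    let f : K →ₗ[K] ↥S := Algebra.linearMap K ↥S
    have hf : Function.Bijective f := by
      refine ⟨fun a b hab => ?_, fun z => ⟨(z : X.functionField), Subtype.ext (hid _)⟩⟩
      exact (hid a).symm.trans ((congrArg Subtype.val hab).trans (hid b))
    rw [(e.trans (LinearEquiv.piCongrRight fun _ : Fin n => (LinearEquiv.ofBijective f hf).symm)).finrank_eq]
    exact Module.finrank_fin_fun K
  obtain ⟨E', j, hE', hj, hjc⟩ := (Groth.Agent.S15027.result k X hdim F hF htF n hn).2
  haveI := hj
  have hE'c : Coh.IsCoh E' := Groth.L16.NegPow.isCoh_of_isFinLocFree (Groth.L22.CurveDeg.isFinLocFree_of_rank hE')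
  haveI := hE'c.1
  haveI : Coh.IsQCoh ((𝟭 X.Modules).obj E') := hE'c.1
  have hCj := (Groth.L16.CohKernel.isCoh_kernel_cokernel hF hE'c j).2
  let D : X.Opens := ⟨(CohB1.support (cokernel j))ᶜ, (Groth.L16.CohGab.isClosed_support hCj).isOpen_compl⟩
  have hgD : genericPoint X ∈ D := fun h => h (hjc _ (by
    show IsRegularLocalRing X.functionField
    infer_instance))
  have hjD : ∀ x ∈ D, Function.Surjective ((Groth.L00.Stk.F X x).map j).hom := fun x hx => by
    have hs : Subsingleton ((cokernel j).presheaf.stalk x) := not_not.1 hx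
    have h0 := (Module.length_eq_zero_iff (R := X.presheaf.stalk x)).2 hs
    rw [Groth.L21.TFNodal.length_coker_stalk, Module.length_eq_zero_iff,
      Submodule.Quotient.subsingleton_iff, LinearMap.range_eq_top] at h0
    exact h0
  -- upstairs
  let adj := Scheme.Modules.pullbackPushforwardAdjunction ν
  let G := (Scheme.Modules.pullback ν).obj E'
  have hG : FlatMod.IsFinLocFreeOfRank n G := Groth.L12.StabLimit.isFinLocFreeOfRank_pullback ν hE'
  have hGc : Coh.IsCoh G := hrank hG
  have hPF := Groth.L16.AffineBC.isCoh_pullback (f := ν) hF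
  haveI := hPF.1
  let i := (Scheme.Modules.pullback ν).map j
  let E₀ := Abelian.image i
  let p : (Scheme.Modules.pullback ν).obj F ⟶ E₀ := Abelian.factorThruImage i
  let ι₀ : E₀ ⟶ G := Abelian.image.ι i
  have hpι : p ≫ ι₀ = i := Abelian.image.fac i
  have hE₀c : Coh.IsCoh E₀ := (Groth.L16.CohKernel.isCoh_kernel_cokernel hGc
    (Groth.L16.CohKernel.isCoh_kernel_cokernel hPF hGc i).2 (cokernel.π i)).1
  haveI := hE₀c.1
  have hι₀D : ∀ y ∈ ν ⁻¹ᵁ D, Function.Surjective (Groth.L21.Bundle.sm ι₀ y) := fun y hy w => by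
    obtain ⟨v, hv⟩ := Groth.L15.TFCurve.BC.pullback_st_surjective ν y j (hjD (ν y) hy) w
    refine ⟨Groth.L21.Bundle.sm p y v, ?_⟩
    show ((Groth.L00.Stk.F Y y).map p ≫ (Groth.L00.Stk.F Y y).map ι₀).hom v = w
    rw [← Functor.map_comp, hpι]
    exact hv
  have hpir : ∀ y : Y, IsPrincipalIdealRing (Y.presheaf.stalk y) := fun y => by
    by_cases hy : y = genericPoint Y
    · subst hy
      show IsPrincipalIdealRing Y.functionField
      infer_instance
    · haveI := (hN y).1
      haveI := Groth.L21.Curve.isDVR_stalk hdimY hN hy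
      infer_instance
  have hE₀ : FlatMod.IsFinLocFreeOfRank n E₀ := Groth.L21.TFNodal.Modif.rank_of_mono (fun y => (hN y).1) hpir ι₀
    hE₀c hG (ν ⁻¹ᵁ D) (hpre D hgD) hι₀D
  refine ⟨E₀, hE₀, ?_⟩
  let β : F ⟶ (Scheme.Modules.pushforward ν).obj E₀ := adj.unit.app F ≫ (Scheme.Modules.pushforward ν).map p
  haveI : Mono (adj.unit.app E') := Groth.L21.TFNodal.mono_of_injective_on_dense
    (Groth.L21.TFNodal.isTorsionFree_of_rank hE') _ U (U.2.dense hUne)
    fun x hx => Groth.L21.PushNorm.injective_stalk_unit ν (F := E') hx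
  have hβι : β ≫ (Scheme.Modules.pushforward ν).map ι₀ = j ≫ adj.unit.app E' := by
    rw [Category.assoc, ← Functor.map_comp, hpι]
    exact (adj.unit.naturality j).symm
  haveI : Mono (β ≫ (Scheme.Modules.pushforward ν).map ι₀) := by rw [hβι]; infer_instance
  haveI : Mono β := mono_of_mono β ((Scheme.Modules.pushforward ν).map ι₀)
  haveI : IsIso β := (Groth.L21.Mod.isIso_iff_stalk_bijective _).2 fun x => ⟨(Groth.L21.Mod.mono_iff_stalk_injective _).1 ‹_› x, by
    refine Groth.L21.PushNorm.surjective_of_divisible ν (U := U) hUi hUne β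
      (Groth.L21.TFNodal.generates_comp (π := ν) p) (fun x c hc => ?_) (fun x a c z hc hzc hz v => ?_) x
    · haveI := Groth.L21.PushNorm.isTorsionFree_push ν hinj (Groth.L21.TFNodal.isTorsionFree_of_rank hE₀) x
      exact Module.IsTorsionFree.isSMulRegular (isRegular_of_ne_zero hc)
    · obtain ⟨e⟩ := he x
      refine ⟨e.symm fun i => ⟨z, hz⟩ * e v i, e.injective (funext fun i => Subtype.ext ?_)⟩
      simp only [map_smul, LinearEquiv.apply_symm_apply, Pi.smul_apply, SetLike.val_smul, Algebra.smul_def,
        MulMemClass.coe_mul]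
      show algebraMap (X.presheaf.stalk x) X.functionField c * (z * _) =
        algebraMap (X.presheaf.stalk x) X.functionField a * _
      rw [← hzc]
      ring⟩
  exact ⟨(asIso β).symm⟩

end Groth.Agent.S15039
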