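import Groth.Statements.S1504
import Groth.Agent.L29.RelPC.Hom2

set_option autoImplicit false
set_option backward.isDefEq.respectTransparency false
universe u
attribute [local instance] HasDerivedCategory.standard
open FlatMor

namespace Groth.Agent.S1504

open AlgebraicGeometry CategoryTheory Limits in
/-- The composition of two pseudo-coherent morphisms of schemes is pseudo-coherent (pseudo-coherence
taken affine-locally through pseudo-coherent ring maps). -/
theorem result {X Y Z : Scheme.{u}} (f : X ⟶ Y) (g : Y ⟶ Z) (hf : MoreMor.IsPseudoCoherentMor f) (hg : MoreMor.IsPseudoCoherentMor g) :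
    MoreMor.IsPseudoCoherentMor (f ≫ g) := by
  refine Groth.L29.RelPC.mor_of_local fun x => ?_
  obtain ⟨W, V, hWV, hW, hV, hxW⟩ := Groth.L29.RelPC.exists_affine (f x) g
  obtain ⟨_, ⟨U, hU, rfl⟩, hx, hle⟩ := X.isBasis_affineOpens.exists_subset_of_mem_open
    (show x ∈ f ⁻¹ᵁ W from hxW) (f ⁻¹ᵁ W).isOpen
  have hUV : U ≤ (f ≫ g) ⁻¹ᵁ V := hle.trans (f.preimage_mono hWV)
  refine ⟨U, V, hUV, hU, hV, hx, ?_⟩
  letI : Algebra Γ(Y, W) Γ(X, U) := (f.appLE W U hle).hom.toAlgebra
  letI : Algebra Γ(Z, V) Γ(Y, W) := (g.appLE V W hWV).hom.toAlgebra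
  letI : Algebra Γ(Z, V) Γ(X, U) := ((f ≫ g).appLE V U hUV).hom.toAlgebra
  haveI : IsScalarTower Γ(Z, V) Γ(Y, W) Γ(X, U) := IsScalarTower.of_algebraMap_eq fun r =>
    (ConcreteCategory.congr_hom (Scheme.Hom.appLE_comp_appLE f g V W U hWV hle) r).symm
  exact (Groth.L29.RelPC.hom_tower_iff (hg W V hW hV hWV)).1 (hf U W hU hW hle)

end Groth.Agent.S1504
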