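import Groth.Statements.S15041
import Groth.Agent.L21.ExtLattice.Mono

set_option autoImplicit false
universe u
open CategoryTheory
open TFCurv

namespace Groth.Agent.S15041

open Groth.L21.ExtLattice.Mono

/-- Let k be an algebraically closed field of characteristic zero and A ⊂ k[[t]] the complete local ring
of the E_6 singularity, i.e. the k-subalgebra of power series all of whose exponents lie in the
semigroup generated by 3 and 4 (A = k[[t³, t⁴]]). Its rank-one torsion-free modules are A, M₁ = A +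
A·t⁵, its dual M₁* = A + A·t, M₂ = A + A·t² and M₃ = A + A·t + A·t² = k[[t]], of index 0, 1, 1, 2,
3. Then Ext¹_A(M, M) has length 2·index(M): length 2 for M₁ and for M₁*, 4 for M₂ and 6 for M₃
(length over A equals k-dimension). As End_A(M₁) = End_A(M₁*) = M₁, End_A(M₂) = M₂, End_A(M₃) = M₃
have colength 1, 1, 2, 3 over A, this is the identity χ₁(M) = dim Ext¹(M, M) − dim(End(M)/A) =
index(M). -/
theorem result (k : Type u) [Field k] [IsAlgClosed k] [CharZero k] (A : Subalgebra k (PowerSeries k)) (hmono : ∀ f : PowerSeries k, f ∈ A ↔ ∀ n : ℕ, PowerSeries.coeff n f ≠ 0 → n ∈ AddSubmonoid.closure ({3, 4} : Set ℕ)) : Module.length ↥A (Abelian.Ext (ModuleCat.of ↥A ↥(Submodule.span ↥A ({1, (PowerSeries.X : PowerSeries k) ^ 5} : Set (PowerSeries k)))) (ModuleCat.of ↥A ↥(Submodule.span ↥A ({1, (PowerSeries.X : PowerSeries k) ^ 5} : Set (PowerSeries k)))) 1) = 2 ∧ Module.length ↥A (Abelian.Ext (ModuleCat.of ↥A ↥(Submodule.span ↥A ({1, (PowerSeries.X : PowerSeries k)} : Set (PowerSeries k)))) (ModuleCat.of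 ↥A ↥(Submodule.span ↥A ({1, (PowerSeries.X : PowerSeries k)} : Set (PowerSeries k)))) 1) = 2 ∧ Module.length ↥A (Abelian.Ext (ModuleCat.of ↥A ↥(Submodule.span ↥A ({1, (PowerSeries.X : PowerSeries k) ^ 2} : Set (PowerSeries k)))) (ModuleCat.of ↥A ↥(Submodule.span ↥A ({1, (PowerSeries.X : PowerSeries k) ^ 2} : Set (PowerSeries k)))) 1) = 4 ∧ Module.length ↥A (Abelian.Ext (ModuleCat.of ↥A ↥(Submodule.span ↥A ({1, (PowerSeries.X : PowerSeries k), (PowerSeries.X : PowerSeries k) ^ 2} : Set (PowerSeries k)))) (ModuleCat.of ↥A ↥(Submodule.span ↥A ({1, (PowerSeries.X : PowerSeries k), (PowerSeries.X : PowerSeries k) ^ 2} : Set (PowerSeries k)))) 1) = 6 := by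
  classical
  let Γ : Set ℕ := {m | m = 0 ∨ m = 3 ∨ m = 4 ∨ 6 ≤ m}
  have hΓ : ∀ m, m ∈ AddSubmonoid.closure ({3, 4} : Set ℕ) ↔ m ∈ Γ := by
    intro m
    constructor
    · intro hm
      induction hm using AddSubmonoid.closure_induction with
      | mem x hx => rcases hx with rfl | rfl <;> simp [Γ]
      | zero => simp [Γ]
      | add x y _ _ hx hy => simp only [Γ, Set.mem_ofPred_eq] at hx hy ⊢; omega
    · intro hm
      rw [show m = (m - 4 * (m % 3)) / 3 * 3 + (m % 3) * 4 by simp only [Γ, Set.mem_ofPred_eq] at hm; omega]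
      exact add_mem (nsmul_mem (AddSubmonoid.subset_closure (by simp)) _)
        (nsmul_mem (AddSubmonoid.subset_closure (by simp)) _)
  have hA : ∀ f, f ∈ A ↔ InSupp Γ f := fun f => by
    rw [hmono]; exact forall₂_congr fun m _ => hΓ m
  have h0 : 0 ∈ Γ := Or.inl rfl
  have hadd : ∀ a ∈ Γ, ∀ b ∈ Γ, a + b ∈ Γ := fun a ha b hb => by
    simp only [Γ, Set.mem_ofPred_eq] at ha hb ⊢; omega
  refine ⟨?_, ?_, ?_, ?_⟩
  · -- M₁
    let Δ : Set ℕ := {m | m = 0 ∨ 3 ≤ m}
    have hΔ : ∀ a ∈ Γ, ∀ b ∈ Δ, a + b ∈ Δ := fun a ha b hb => by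
      simp only [Γ, Δ, Set.mem_ofPred_eq] at ha hb ⊢; omega
    have hN := span_pair_eq_mset A hA 5 Δ hΔ (fun m => by
      constructor
      · intro hm
        simp only [Δ, Γ, Set.mem_ofPred_eq] at hm ⊢
        rcases eq_or_ne m 5 with rfl | h5
        · exact Or.inr ⟨0, Or.inl rfl, rfl⟩
        · exact Or.inl (by omega)
      · rintro (hm | ⟨g, hg, rfl⟩) <;> simp only [Δ, Γ, Set.mem_ofPred_eq] at * <;> omega) h0
    have key := length_ext_add_one A hA h0 hadd (a := 5) (d := 6) (by simp [Γ]) (by simp [Γ]) hΔ _ hN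
      {7, 8} ∅ (fun q => by
        simp only [Finset.mem_insert, Finset.mem_singleton, Δ, Γ, Set.mem_ofPred_eq]
        constructor
        · intro hq
          refine ⟨⟨by omega, fun p hp hpa => ⟨p + q - 6, by omega, by omega⟩⟩, ?_⟩
          rintro ⟨n, hn, h⟩; omega
        · rintro ⟨⟨hq, hq'⟩, hq''⟩
          have h1 : ∀ n, (n = 0 ∨ 3 ≤ n) → 6 + n ≠ q := fun n hn h => hq'' ⟨n, hn, h⟩
          obtain ⟨n₃, hn₃, e₃⟩ := hq' 3 (by omega) (by omega)
          obtain ⟨n₄, hn₄, e₄⟩ := hq' 4 (by omega) (by omega)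
          obtain ⟨n₆, hn₆, e₆⟩ := hq' 6 (by omega) (by omega)
          have := h1 0 (Or.inl rfl)
          by_contra hne
          by_cases h9 : 9 ≤ q
          · exact h1 (q - 6) (by omega) (by omega)
          · omega)
      (fun q => by simp only [Finset.notMem_empty, Δ, Set.mem_ofPred_eq]; exact ⟨False.elim, fun h => h.2 (by omega)⟩)
    simpa using key
  · -- its dual
    let Δ : Set ℕ := {m | m ≠ 2}
    have hΔ : ∀ a ∈ Γ, ∀ b ∈ Δ, a + b ∈ Δ := fun a ha b hb => by
      simp only [Γ, Δ, Set.mem_ofPred_eq] at ha hb ⊢; omega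
    have hN := span_pair_eq_mset A hA 1 Δ hΔ (fun m => by
      constructor
      · intro hm
        simp only [Δ, Γ, Set.mem_ofPred_eq] at hm ⊢
        by_cases hmΓ : m = 0 ∨ m = 3 ∨ m = 4 ∨ 6 ≤ m
        · exact Or.inl hmΓ
        · exact Or.inr ⟨m - 1, by omega, by omega⟩
      · rintro (hm | ⟨g, hg, rfl⟩) <;> simp only [Δ, Γ, Set.mem_ofPred_eq] at * <;> omega) h0
    have key := length_ext_add_one A hA h0 hadd (a := 1) (d := 3) (by simp [Γ]) (by simp [Γ]) hΔ _ hN
      {0, 1, 5} {1} (fun q => by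
        simp only [Finset.mem_insert, Finset.mem_singleton, Δ, Γ, Set.mem_ofPred_eq]
        constructor
        · intro hq
          refine ⟨⟨by omega, fun p hp hpa => ⟨p + q - 3, by omega, by omega⟩⟩, ?_⟩
          rintro ⟨n, hn, h⟩; omega
        · rintro ⟨⟨hq, -⟩, hq''⟩
          by_contra hne
          exact hq'' ⟨q - 3, by omega, by omega⟩)
      (fun q => by simp only [Finset.mem_singleton, Δ, Set.mem_ofPred_eq]; omega)
    rw [pow_one] at key
    exact enat_cancel key (by simp)
  · -- M₂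
    let Δ : Set ℕ := {m | m ≠ 1}
    have hΔ : ∀ a ∈ Γ, ∀ b ∈ Δ, a + b ∈ Δ := fun a ha b hb => by
      simp only [Γ, Δ, Set.mem_ofPred_eq] at ha hb ⊢; omega
    have hN := span_pair_eq_mset A hA 2 Δ hΔ (fun m => by
      constructor
      · intro hm
        simp only [Δ, Γ, Set.mem_ofPred_eq] at hm ⊢
        by_cases hmΓ : m = 0 ∨ m = 3 ∨ m = 4 ∨ 6 ≤ m
        · exact Or.inl hmΓ
        · exact Or.inr ⟨m - 2, by omega, by omega⟩
      · rintro (hm | ⟨g, hg, rfl⟩) <;> simp only [Δ, Γ, Set.mem_ofPred_eq] at * <;> omega) h0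
    have key := length_ext_add_one A hA h0 hadd (a := 2) (d := 4) (by simp [Γ]) (by simp [Γ]) hΔ _ hN
      {0, 2, 3, 5} ∅ (fun q => by
        simp only [Finset.mem_insert, Finset.mem_singleton, Δ, Γ, Set.mem_ofPred_eq]
        constructor
        · intro hq
          refine ⟨⟨by omega, fun p hp hpa => ⟨p + q - 4, by omega, by omega⟩⟩, ?_⟩
          rintro ⟨n, hn, h⟩; omega
        · rintro ⟨⟨hq, -⟩, hq''⟩
          by_contra hne
          exact hq'' ⟨q - 4, by omega, by omega⟩)
      (fun q => by simp only [Finset.notMem_empty, Δ, Set.mem_ofPred_eq]; exact ⟨False.elim, fun h => h.2 (by omega)⟩)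
    simpa using key
  · -- the normalisation
    have hΔ : ∀ a ∈ Γ, ∀ b ∈ (Set.univ : Set ℕ), a + b ∈ (Set.univ : Set ℕ) := fun _ _ _ _ => trivial
    have hN := span_eq_mset A hA ({0, 1, 2} : Finset ℕ) Set.univ hΔ (fun m => by
      refine ⟨fun _ => ?_, fun _ => trivial⟩
      by_cases hm : m = 1 ∨ m = 2 ∨ m = 5
      · rcases hm with rfl | rfl | rfl
        · exact ⟨1, by simp, 0, h0, rfl⟩
        · exact ⟨2, by simp, 0, h0, rfl⟩
        · exact ⟨1, by simp, 4, by simp [Γ], rfl⟩
      · exact ⟨0, by simp, m, by simp only [Γ, Set.mem_ofPred_eq]; omega, zero_add m⟩) h0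
    have hset : (fun a => (PowerSeries.X : PowerSeries k) ^ a) '' (({0, 1, 2} : Finset ℕ) : Set ℕ) =
        {1, PowerSeries.X, PowerSeries.X ^ 2} := by simp [Set.image_insert_eq]
    rw [hset] at hN
    have key := length_ext_add A hA h0 hadd (r := 2) ![1, 2] (d := 6) (by simp [Γ])
      (fun j => by fin_cases j <;> exact Or.inr (Or.inr (Or.inr (by norm_num)))) (T := {1, PowerSeries.X, PowerSeries.X ^ 2})
      (by ext x; simp [Set.mem_range, Fin.exists_fin_two, eq_comm]) hΔ _ hN
      (fun _ => {m | 3 ≤ m}) ?_ (fun _ => Finset.Ico 3 6) ?_ ?_ ∅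
      (fun m => by simp)
    · simpa using key
    · intro y
      simp only [Fin.forall_fin_two, Fin.sum_univ_two, Matrix.cons_val_zero, Matrix.cons_val_one]
      constructor
      · intro hy
        refine ⟨⟨fun n _ => trivial, fun n _ => trivial⟩, fun a ha => ?_⟩
        have hc : ∀ j : Fin 2, InSupp {m | 3 ≤ m} (a j : PowerSeries k) := by
          intro j m hm
          have hm' := (hA _).1 (a j).2 m hm
          simp only [Γ, Set.mem_ofPred_eq] at hm' ⊢
          rcases hm' with rfl | h
          swap; · omega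
          exfalso
          have h1 := ha 1
          have h2 := ha 2
          rw [map_add, PowerSeries.coeff_mul_X_pow', PowerSeries.coeff_mul_X_pow'] at h1 h2
          norm_num at h1 h2
          have hz : PowerSeries.constantCoeff (a 0 : PowerSeries k) = 0 := by
            by_contra h'; simpa [Γ] using h1 h'
          have hone : PowerSeries.coeff 1 (a 0 : PowerSeries k) = 0 := by
            by_contra h'; simpa [Γ] using (hA _).1 (a 0).2 1 h'
          fin_cases j
          · exact hm (by simpa using hz)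
          · refine hm ?_
            by_contra h'
            have := h2 (by simpa [hone] using h')
            simp [Γ] at this
        have h6 : ∀ p ∈ {m : ℕ | 3 ≤ m}, ∀ q ∈ {m : ℕ | 3 ≤ m},
            p + q ∈ {m : ℕ | ∃ q ∈ (Set.univ : Set ℕ), 6 + q = m} :=
          fun p hp q hq => ⟨p + q - 6, trivial, by simp only [Set.mem_ofPred_eq] at hp hq; omega⟩
        exact InSupp.add (InSupp.mul (hc 0) hy.1 h6) (InSupp.mul (hc 1) hy.2 h6)
      · rintro ⟨-, h⟩
        have h3 := h ![xp A hA (n := 3) (by simp [Γ]), 0] (by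
          simp only [Matrix.cons_val_zero, Matrix.cons_val_one, ZeroMemClass.coe_zero, zero_mul,
            add_zero, xp]
          rw [← pow_add]
          exact InSupp.X_pow (by simp [Γ]))
        have h4 := h ![0, xp A hA (n := 4) (by simp [Γ])] (by
          simp only [Matrix.cons_val_zero, Matrix.cons_val_one, ZeroMemClass.coe_zero, zero_mul,
            zero_add, xp]
          rw [← pow_add]
          exact InSupp.X_pow (by simp [Γ]))
        have h43 := h ![xp A hA (n := 4) (by simp [Γ]), -xp A hA (n := 3) (by simp [Γ])] (by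
          simp only [Matrix.cons_val_zero, Matrix.cons_val_one, NegMemClass.coe_neg, xp, neg_mul]
          rw [← pow_add, ← pow_add, add_neg_cancel]
          exact InSupp.zero _)
        simp only [Matrix.cons_val_zero, Matrix.cons_val_one, ZeroMemClass.coe_zero, zero_mul,
          add_zero, zero_add, NegMemClass.coe_neg, neg_mul, xp] at h3 h4 h43
        have e3 : InSupp {m | 3 ≤ m} (y 0) := fun m hm => by
          obtain ⟨q, -, hq⟩ := h3 (m + 3) (by rwa [PowerSeries.coeff_X_pow_mul])
          simp only [Set.mem_ofPred_eq]; omega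
        refine ⟨e3, fun m hm => ?_⟩
        obtain ⟨q, -, hq⟩ := h4 (m + 4) (by rwa [PowerSeries.coeff_X_pow_mul])
        simp only [Set.mem_ofPred_eq]
        by_contra h'
        obtain rfl : m = 2 := by omega
        have hy1 : PowerSeries.coeff 1 (y 0) = 0 := by
          by_contra h1; have := e3 1 h1; simp at this
        obtain ⟨q', -, hq'⟩ := h43 5 (by
          rw [map_add, map_neg, PowerSeries.coeff_X_pow_mul', PowerSeries.coeff_X_pow_mul']
          norm_num
          simpa [hy1] using hm)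
        omega
    · intro j m
      simp only [Finset.mem_Ico, Set.mem_ofPred_eq, Set.mem_univ, true_and]
      refine ⟨fun h => ⟨h.1, fun ⟨q, hq⟩ => by omega⟩, fun h => ⟨h.1, ?_⟩⟩
      by_contra h'
      exact h.2 ⟨m - 6, by omega⟩
    · intro j q _
      simp only [Set.mem_ofPred_eq]; omega

end Groth.Agent.S15041
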