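import Groth.Statements.S15049
import Groth.Agent.L11.LubinTate.Basic

set_option autoImplicit false
universe u
open LubinTate

namespace Groth.Agent.S15049

/-- Let O be a discrete valuation ring with finite residue field of cardinality q, π a uniformizer of O,
and f = πT + T^q ∈ O[[T]]. Then there is a one-dimensional commutative formal group law F(X,Y) over
O for which f is an endomorphism, f(F(X,Y)) = F(f(X), f(Y)); and F is the unique power series in
O[[X,Y]] with zero constant term and linear part X + Y satisfying this identity. (The published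
statement is for the ring of integers of a finite extension of ℚ_p or of 𝔽_q((X)); completeness is
not used and any discrete valuation ring with finite residue field is allowed here.) -/
theorem result (O : Type u) [CommRing O] [IsDomain O] [IsDiscreteValuationRing O]
    [Finite (IsLocalRing.ResidueField O)] (π : O) (hπ : Irreducible π) (f : PowerSeries O)
    (hf : f = π • PowerSeries.X + PowerSeries.X ^ Nat.card (IsLocalRing.ResidueField O)) :
    ∃ F : FormalGroup O, F.IsComm ∧
      PowerSeries.subst F.toPowerSeries f =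
        MvPowerSeries.subst (fun i : Fin 2 => PowerSeries.subst (MvPowerSeries.X i : MvPowerSeries (Fin 2) O) f) F.toPowerSeries ∧
      ∀ G : MvPowerSeries (Fin 2) O, G.constantCoeff = 0 → G.coeff (Finsupp.single 0 1) = 1 →
        G.coeff (Finsupp.single 1 1) = 1 →
        PowerSeries.subst G f =
        MvPowerSeries.subst (fun i : Fin 2 => PowerSeries.subst (MvPowerSeries.X i : MvPowerSeries (Fin 2) O) f) G →
        G = F.toPowerSeries := by
  classical
  have hq := Groth.L11.LubinTate.two_le_card O
  set q := Nat.card (IsLocalRing.ResidueField O) with hqdef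
  have hne : ∀ n, 2 ≤ n → π - π ^ n ≠ 0 := fun n hn => Groth.L11.LubinTate.sub_pow_ne_zero hπ hn
  have hφ : (fun i : Fin 2 => PowerSeries.subst (MvPowerSeries.X i : MvPowerSeries (Fin 2) O) f) =
      Groth.L11.LubinTate.frob π q := Groth.L11.LubinTate.series_eq_frob hπ hf
  obtain ⟨F₀, h0, h1, hI⟩ := Groth.L11.LubinTate.exists_inter hπ (σ := Fin 2) (fun _ => 1)
  have hc3 : ∀ (i j : Fin 3), ∀ s, MvPowerSeries.constantCoeff (![MvPowerSeries.X i, MvPowerSeries.X j] s : MvPowerSeries (Fin 3) O) = 0 :=
    fun i j s => by fin_cases s <;> simp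
  have hI3 : ∀ (i j : Fin 3), ∀ s, Groth.L11.LubinTate.Inter π q (![MvPowerSeries.X i, MvPowerSeries.X j] s : MvPowerSeries (Fin 3) O) :=
    fun i j s => by fin_cases s <;> exact Groth.L11.LubinTate.inter_X hq _
  have hz3 : ∀ (i j : Fin 3), MvPowerSeries.constantCoeff (MvPowerSeries.subst (![MvPowerSeries.X i, MvPowerSeries.X j] : Fin 2 → MvPowerSeries (Fin 3) O) F₀) = 0 :=
    fun i j => MvPowerSeries.constantCoeff_subst_eq_zero (MvPowerSeries.hasSubst_of_constantCoeff_zero (hc3 i j)) (hc3 i j) h0
  let F : FormalGroup O := ⟨F₀, h0, h1 0, h1 1, by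
    have hl : ∀ s, MvPowerSeries.constantCoeff (![MvPowerSeries.subst ![MvPowerSeries.X (0 : Fin 3), MvPowerSeries.X 1] F₀, MvPowerSeries.X 2] s : MvPowerSeries (Fin 3) O) = 0 :=
      fun s => by fin_cases s <;> simp [hz3]
    have hr : ∀ s, MvPowerSeries.constantCoeff (![MvPowerSeries.X 0, MvPowerSeries.subst ![MvPowerSeries.X (1 : Fin 3), MvPowerSeries.X 2] F₀] s : MvPowerSeries (Fin 3) O) = 0 :=
      fun s => by fin_cases s <;> simp [hz3]
    refine Groth.L11.LubinTate.Inter.ext hq hne (hI.comp hq hl fun s => ?_) (hI.comp hq hr fun s => ?_)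
      (MvPowerSeries.constantCoeff_subst_eq_zero (MvPowerSeries.hasSubst_of_constantCoeff_zero hl) hl h0)
      (MvPowerSeries.constantCoeff_subst_eq_zero (MvPowerSeries.hasSubst_of_constantCoeff_zero hr) hr h0) fun i => ?_
    · fin_cases s
      · exact hI.comp hq (hc3 0 1) (hI3 0 1)
      · exact Groth.L11.LubinTate.inter_X hq _
    · fin_cases s
      · exact Groth.L11.LubinTate.inter_X hq _
      · exact hI.comp hq (hc3 1 2) (hI3 1 2)
    · rw [Groth.L11.LubinTate.coeff_one_subst hl h0 _ (by simp), Groth.L11.LubinTate.coeff_one_subst hr h0 _ (by simp),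
        Fin.sum_univ_two, Fin.sum_univ_two]
      simp only [h1, one_mul, Matrix.cons_val_zero, Matrix.cons_val_one]
      rw [Groth.L11.LubinTate.coeff_one_subst (hc3 0 1) h0 _ (by simp), Groth.L11.LubinTate.coeff_one_subst (hc3 1 2) h0 _ (by simp),
        Fin.sum_univ_two, Fin.sum_univ_two]
      simp only [h1, one_mul, Matrix.cons_val_zero, Matrix.cons_val_one]
      ring⟩
  refine ⟨F, ⟨?_⟩, ?_, fun G hG0 hG1 hG2 hG => ?_⟩
  · have hc : ∀ s, MvPowerSeries.constantCoeff (![MvPowerSeries.X 1, MvPowerSeries.X 0] s : MvPowerSeries (Fin 2) O) = 0 :=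
      fun s => by fin_cases s <;> simp
    refine Groth.L11.LubinTate.Inter.ext hq hne hI (hI.comp hq hc fun s => ?_) h0
      (MvPowerSeries.constantCoeff_subst_eq_zero (MvPowerSeries.hasSubst_of_constantCoeff_zero hc) hc h0) fun i => ?_
    · fin_cases s <;> exact Groth.L11.LubinTate.inter_X hq _
    · rw [Groth.L11.LubinTate.coeff_one_subst hc h0 _ (by simp), Fin.sum_univ_two]
      simp only [F, h1, one_mul, Matrix.cons_val_zero, Matrix.cons_val_one]
      fin_cases i <;> simp [MvPowerSeries.coeff_index_single_X]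
  · rw [Groth.L11.LubinTate.subst_series hπ hf h0, hφ]
    exact hI
  · rw [Groth.L11.LubinTate.subst_series hπ hf hG0, hφ] at hG
    refine Groth.L11.LubinTate.Inter.ext hq hne hG hI hG0 h0 fun i => ?_
    rw [h1 i]
    fin_cases i
    · exact hG1
    · exact hG2

end Groth.Agent.S15049
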