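import Groth.Statements.S15050
import Groth.Agent.L11.LubinTate.Basic

set_option autoImplicit false
universe u
open LubinTate

namespace Groth.Agent.S15050

/-- Let O be a discrete valuation ring with finite residue field of cardinality q, π a uniformizer of O,
and f = πT + T^q ∈ O[[T]]. For every α ∈ O there is a unique power series g = [α] ∈ O[[T]] with zero
constant term and linear coefficient α which commutes with f under substitution, g(f(T)) = f(g(T)).
(The published statement is for the ring of integers of a finite extension of ℚ_p or of 𝔽_q((X));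
completeness is not used and any discrete valuation ring with finite residue field is allowed here.) -/
theorem result (O : Type u) [CommRing O] [IsDomain O] [IsDiscreteValuationRing O]
    [Finite (IsLocalRing.ResidueField O)] (π : O) (hπ : Irreducible π) (f : PowerSeries O)
    (hf : f = π • PowerSeries.X + PowerSeries.X ^ Nat.card (IsLocalRing.ResidueField O)) (α : O) :
    ∃! g : PowerSeries O, g.constantCoeff = 0 ∧ g.coeff 1 = α ∧
      PowerSeries.subst g f = PowerSeries.subst f g := by
  classical
  have hq := Groth.L11.LubinTate.two_le_card O
  set q := Nat.card (IsLocalRing.ResidueField O) with hqdef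
  have hne : ∀ n, 2 ≤ n → π - π ^ n ≠ 0 := fun n hn => Groth.L11.LubinTate.sub_pow_ne_zero hπ hn
  obtain ⟨g, h0, h1, hI⟩ := Groth.L11.LubinTate.exists_inter hπ (σ := Unit) (fun _ => α)
  refine ⟨g, ⟨h0, h1 (), (Groth.L11.LubinTate.inter_iff hπ hf h0).mpr hI⟩, fun g' ⟨h0', h1', hg'⟩ => ?_⟩
  exact Groth.L11.LubinTate.Inter.ext hq hne ((Groth.L11.LubinTate.inter_iff hπ hf h0').mp hg') hI h0' h0
    fun i => h1'.trans (h1 i).symm

end Groth.Agent.S15050
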