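import Groth.Statements.S15051
import Groth.Agent.L11.LubinTate.Basic

set_option autoImplicit false
universe u
open LubinTate

namespace Groth.Agent.S15051

/-- Let O be a discrete valuation ring with finite residue field of cardinality q, π a uniformizer of O,
and f = πT + T^q ∈ O[[T]]; let F be a one-dimensional formal group law over O for which f is an
endomorphism, f(F(X,Y)) = F(f(X), f(Y)), and g ∈ O[[T]] a power series with zero constant term which
commutes with f, g(f(T)) = f(g(T)). Then g is an endomorphism of F, that is g(F(X,Y)) = F(g(X),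
g(Y)); so α ↦ [α] maps O into the endomorphisms of the Lubin–Tate formal group. (The published
statement is for the ring of integers of a finite extension of ℚ_p or of 𝔽_q((X)); completeness is
not used and any discrete valuation ring with finite residue field is allowed here.) -/
theorem result (O : Type u) [CommRing O] [IsDomain O] [IsDiscreteValuationRing O]
    [Finite (IsLocalRing.ResidueField O)] (π : O) (hπ : Irreducible π) (f : PowerSeries O)
    (hf : f = π • PowerSeries.X + PowerSeries.X ^ Nat.card (IsLocalRing.ResidueField O))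
    (F : FormalGroup O)
    (hF : PowerSeries.subst F.toPowerSeries f =
        MvPowerSeries.subst (fun i : Fin 2 => PowerSeries.subst (MvPowerSeries.X i : MvPowerSeries (Fin 2) O) f) F.toPowerSeries)
    (g : PowerSeries O) (hg0 : g.constantCoeff = 0)
    (hgf : PowerSeries.subst g f = PowerSeries.subst f g) :
    PowerSeries.subst F.toPowerSeries g =
      MvPowerSeries.subst (fun i : Fin 2 => PowerSeries.subst (MvPowerSeries.X i : MvPowerSeries (Fin 2) O) g)
        F.toPowerSeries := by
  classical
  have hq := Groth.L11.LubinTate.two_le_card O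
  set q := Nat.card (IsLocalRing.ResidueField O) with hqdef
  have hne : ∀ n, 2 ≤ n → π - π ^ n ≠ 0 := fun n hn => Groth.L11.LubinTate.sub_pow_ne_zero hπ hn
  have hI : Groth.L11.LubinTate.Inter π q F.toPowerSeries := by
    rw [Groth.L11.LubinTate.subst_series hπ hf F.zero_constantCoeff, Groth.L11.LubinTate.series_eq_frob hπ hf] at hF
    exact hF
  have hg := (Groth.L11.LubinTate.inter_iff hπ hf hg0).mp hgf
  set gX : Fin 2 → MvPowerSeries (Fin 2) O := fun i => PowerSeries.subst (MvPowerSeries.X i : MvPowerSeries (Fin 2) O) g with hgX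
  have hX : ∀ i : Fin 2, MvPowerSeries.constantCoeff (MvPowerSeries.X i : MvPowerSeries (Fin 2) O) = 0 := fun i => by simp
  have hgX0 : ∀ i, MvPowerSeries.constantCoeff (gX i) = 0 := fun i =>
    PowerSeries.constantCoeff_subst_eq_zero (hX i) g hg0
  refine Groth.L11.LubinTate.Inter.ext hq hne (hg.comp hq (fun _ => F.zero_constantCoeff) fun _ => hI)
    (hI.comp hq hgX0 fun i => hg.comp hq (fun _ => hX i) fun _ => Groth.L11.LubinTate.inter_X hq i)
    (PowerSeries.constantCoeff_subst_eq_zero F.zero_constantCoeff g hg0)
    (MvPowerSeries.constantCoeff_subst_eq_zero (MvPowerSeries.hasSubst_of_constantCoeff_zero hgX0) hgX0 F.zero_constantCoeff)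
    fun i => ?_
  rw [PowerSeries.subst_def, Groth.L11.LubinTate.coeff_one_subst (fun _ => F.zero_constantCoeff) hg0 _ (by simp),
    Groth.L11.LubinTate.coeff_one_subst hgX0 F.zero_constantCoeff _ (by simp), Fin.sum_univ_two, Fintype.sum_unique]
  simp only [hgX, PowerSeries.subst_def, F.lin_coeff_X, F.lin_coeff_Y, one_mul]
  rw [Groth.L11.LubinTate.coeff_one_subst (fun _ => hX 0) hg0 _ (by simp),
    Groth.L11.LubinTate.coeff_one_subst (fun _ => hX 1) hg0 _ (by simp), Fintype.sum_unique, Fintype.sum_unique, ← mul_add]
  congr 1
  fin_cases i <;> simp [MvPowerSeries.coeff_index_single_X, F.lin_coeff_X, F.lin_coeff_Y]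

end Groth.Agent.S15051
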