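import Groth.Statements.S15052
import Groth.Agent.L11.LubinTate.Log

set_option autoImplicit false
universe u
open LubinTate

namespace Groth.Agent.S15052

/-- Let O be a discrete valuation ring with finite residue field of cardinality q, π a uniformizer of O,
and f = πT + T^q ∈ O[[T]]; let K be the fraction field of O and F a one-dimensional formal group law
over O for which f is an endomorphism, f(F(X,Y)) = F(f(X), f(Y)). Then there is a unique power
series ℓ ∈ K[[T]] with zero constant term and linear coefficient 1 such that ℓ(f(T)) = π·ℓ(T); this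
logarithm is a homomorphism to the additive formal group, ℓ(F(T,S)) = ℓ(T) + ℓ(S), and it is
O-linear in the sense that ℓ(g(T)) = α·ℓ(T) for every α ∈ O and every series g ∈ O[[T]] with zero
constant term and linear coefficient α commuting with f. (The published statement is for the ring of
integers of a finite extension of ℚ_p; completeness is not used and any discrete valuation ring with
finite residue field is allowed here.) -/
theorem result (O : Type u) [CommRing O] [IsDomain O] [IsDiscreteValuationRing O]
    [Finite (IsLocalRing.ResidueField O)] (K : Type u) [Field K] [Algebra O K] [IsFractionRing O K]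
    (π : O) (hπ : Irreducible π) (f : PowerSeries O)
    (hf : f = π • PowerSeries.X + PowerSeries.X ^ Nat.card (IsLocalRing.ResidueField O))
    (F : FormalGroup O)
    (hF : PowerSeries.subst F.toPowerSeries f =
        MvPowerSeries.subst (fun i : Fin 2 => PowerSeries.subst (MvPowerSeries.X i : MvPowerSeries (Fin 2) O) f) F.toPowerSeries) :
    ∃ ℓ : PowerSeries K, (ℓ.constantCoeff = 0 ∧ ℓ.coeff 1 = 1 ∧
      PowerSeries.subst (PowerSeries.map (algebraMap O K) f) ℓ = algebraMap O K π • ℓ) ∧
      (∀ ℓ' : PowerSeries K, ℓ'.constantCoeff = 0 → ℓ'.coeff 1 = 1 →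
        PowerSeries.subst (PowerSeries.map (algebraMap O K) f) ℓ' = algebraMap O K π • ℓ' → ℓ' = ℓ) ∧
      PowerSeries.subst ((F.toPowerSeries).map (algebraMap O K)) ℓ =
        PowerSeries.subst (MvPowerSeries.X (0 : Fin 2) : MvPowerSeries (Fin 2) K) ℓ +
          PowerSeries.subst (MvPowerSeries.X (1 : Fin 2) : MvPowerSeries (Fin 2) K) ℓ ∧
      (∀ (α : O) (g : PowerSeries O), g.constantCoeff = 0 → g.coeff 1 = α →
        PowerSeries.subst g f = PowerSeries.subst f g →
        PowerSeries.subst (PowerSeries.map (algebraMap O K) g) ℓ = algebraMap O K α • ℓ) := by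
  classical
  have hq := Groth.L11.LubinTate.two_le_card O
  set q := Nat.card (IsLocalRing.ResidueField O) with hqdef
  have hne : ∀ n, 2 ≤ n → π - π ^ n ≠ 0 := fun n hn => Groth.L11.LubinTate.sub_pow_ne_zero hπ hn
  set φ := algebraMap O K
  have hKne : ∀ n, 2 ≤ n → φ π ^ n - φ π ≠ 0 := fun n hn h => hne n hn (by
    refine IsFractionRing.injective O K ?_
    rw [map_zero, map_sub, map_pow, ← neg_sub, h, neg_zero])
  have hfK : (fun _ : Unit => (PowerSeries.map φ f : MvPowerSeries Unit K)) = Groth.L11.LubinTate.frob (φ π) q := by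
    rw [← funext (Groth.L11.LubinTate.map_frob (π := π) (q := q) φ), ← Groth.L11.LubinTate.series_eq hπ hf]
    rfl
  have key : ∀ l : PowerSeries K, PowerSeries.subst (PowerSeries.map φ f) l = φ π • l ↔
      Groth.L11.LubinTate.IsLogSol (φ π) q (l : MvPowerSeries Unit K) := fun l => by
    rw [PowerSeries.subst_def, hfK, Groth.L11.LubinTate.IsLogSol, sub_eq_zero]
  have hI : Groth.L11.LubinTate.Inter (φ π) q (F.toPowerSeries.map φ) := by
    rw [Groth.L11.LubinTate.subst_series hπ hf F.zero_constantCoeff, Groth.L11.LubinTate.series_eq_frob hπ hf] at hF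
    exact Groth.L11.LubinTate.Inter.map φ hq hF
  obtain ⟨l, h0, h1, hl⟩ := Groth.L11.LubinTate.exists_log (K := K) hq hKne
  have hX : ∀ i : Fin 2, MvPowerSeries.constantCoeff (MvPowerSeries.X i : MvPowerSeries (Fin 2) K) = 0 := fun i => by simp
  have hF0 : MvPowerSeries.constantCoeff (F.toPowerSeries.map φ) = 0 := by
    rw [MvPowerSeries.constantCoeff_map, F.zero_constantCoeff, map_zero]
  refine ⟨l, ⟨h0, h1, (key l).mpr hl⟩, fun l' h0' h1' hl' =>
    Groth.L11.LubinTate.IsLogSol.ext hq hKne ((key l').mp hl') hl h0' h0 fun _ => h1'.trans h1.symm, ?_, ?_⟩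
  · refine Groth.L11.LubinTate.IsLogSol.ext hq hKne (hl.comp hq (fun _ => hF0) fun _ => hI)
      ((hl.comp hq (fun _ => hX 0) fun _ => Groth.L11.LubinTate.inter_X hq 0).add hq
        (hl.comp hq (fun _ => hX 1) fun _ => Groth.L11.LubinTate.inter_X hq 1))
      (PowerSeries.constantCoeff_subst_eq_zero hF0 l h0)
      (by rw [map_add]; exact add_eq_zero_iff_eq_neg.mpr (by
        change MvPowerSeries.constantCoeff (PowerSeries.subst _ _) = - MvPowerSeries.constantCoeff (PowerSeries.subst _ _)
        rw [PowerSeries.constantCoeff_subst_eq_zero (hX 0) l h0, PowerSeries.constantCoeff_subst_eq_zero (hX 1) l h0, neg_zero]))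
      fun i => ?_
    change MvPowerSeries.coeff _ (MvPowerSeries.subst _ l) = MvPowerSeries.coeff _ (MvPowerSeries.subst _ l + MvPowerSeries.subst _ l)
    rw [map_add, Groth.L11.LubinTate.coeff_one_subst (fun _ => hF0) h0 _ (by simp),
      Groth.L11.LubinTate.coeff_one_subst (fun _ => hX 0) h0 _ (by simp),
      Groth.L11.LubinTate.coeff_one_subst (fun _ => hX 1) h0 _ (by simp), Fintype.sum_unique, Fintype.sum_unique,
      Fintype.sum_unique, h1, one_mul, one_mul, one_mul, MvPowerSeries.coeff_map]
    fin_cases i <;> simp [MvPowerSeries.coeff_index_single_X, F.lin_coeff_X, F.lin_coeff_Y]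
  · intro α g hg0 hg1 hgf
    have hgK := Groth.L11.LubinTate.Inter.map φ hq ((Groth.L11.LubinTate.inter_iff hπ hf hg0).mp hgf)
    have hgK0 : MvPowerSeries.constantCoeff (MvPowerSeries.map φ (g : MvPowerSeries Unit O)) = 0 := by
      rw [MvPowerSeries.constantCoeff_map]; exact (congrArg φ hg0).trans φ.map_zero
    refine Groth.L11.LubinTate.IsLogSol.ext (R := K) (σ := Unit) hq hKne (hl.comp hq (fun _ => hgK0) fun _ => hgK)
      (hl.smul hq (φ α)) (PowerSeries.constantCoeff_subst_eq_zero hgK0 l h0)
      (by rw [MvPowerSeries.smul_eq_C_mul, map_mul, h0, mul_zero]) fun i => ?_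
    change MvPowerSeries.coeff _ (MvPowerSeries.subst (fun _ : Unit => MvPowerSeries.map φ (g : MvPowerSeries Unit O)) l) =
      MvPowerSeries.coeff _ (φ α • (l : MvPowerSeries Unit K))
    rw [Groth.L11.LubinTate.coeff_one_subst (fun _ => hgK0) h0 _ (by simp), Fintype.sum_unique, h1, one_mul,
      MvPowerSeries.coeff_map, MvPowerSeries.coeff_smul, h1, mul_one]
    exact congrArg φ hg1

end Groth.Agent.S15052
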