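import Groth.Statements.S15053
import Groth.Agent.L03.HopfShrink
import Groth.Agent.L15.OT.Cocomm
import Mathlib.Algebra.Algebra.Shrink
import Mathlib.Logic.Small.Defs
-- import your own Groth.Agent.* helpers here

set_option autoImplicit false
universe u v
open Hopf

namespace Groth.Agent.S15053

/-- Let R be a commutative ring, p a prime number and A a commutative Hopf algebra over R which is
finitely generated and projective as an R-module, of rank p at every prime of R (a finite locally
free R-group scheme G = Spec A of order p, not assumed commutative). Then G is commutative: the
comultiplication of A is cocommutative. (The published statement assumes a Noetherian base ring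
which is an algebra over a certain ring of integers Λ of a cyclotomic field; this row allows any
commutative base ring.) -/
theorem result (R : Type u) [CommRing R] (p : ℕ) [Fact p.Prime] (A : Type v) [CommRing A]
    [HopfAlgebra R A] [Module.Finite R A] [Module.Projective R A]
    (hp : ∀ q : PrimeSpectrum R, Module.rankAtStalk A q = p) :
    Coalgebra.IsCocomm R A := by
  obtain ⟨n, π, hπ⟩ := Module.Finite.exists_fin' R A
  haveI : Small.{u} A := small_of_surjective hπ
  let e : A ≃ₐ[R] Shrink.{u} A := (Shrink.algEquiv R A).symm
  letI := Groth.L03.HopfShrink.hopfAlgebra e
  haveI : Module.Finite R (Shrink.{u} A) := Module.Finite.equiv e.toLinearEquiv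
  haveI : Module.Projective R (Shrink.{u} A) := Module.Projective.of_equiv e.toLinearEquiv
  exact Groth.L03.HopfShrink.isCocomm e (Groth.L15.OT.isCocomm (p := p) fun q =>
    (congrFun (Module.rankAtStalk_eq_of_equiv e.toLinearEquiv) q).symm.trans (hp q))

end Groth.Agent.S15053
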