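import Groth.Statements.S15054
import Groth.Agent.L15.KerFlat.BT
import Mathlib.Tactic.Ring
import Mathlib.Tactic.LinearCombination
import Mathlib.Tactic.FieldSimp
import Mathlib.Algebra.BigOperators.Ring.Finset

set_option autoImplicit false
universe u
open CategoryTheory CategoryTheory.Limits MonoidalCategory CartesianMonoidalCategory MonObj GrpObj AlgebraicGeometry
open BTGrp

namespace Groth.Agent.S15054

/-- Let ℓ be a prime and G = (G_ν)_ν an ℓ-divisible (Barsotti–Tate) group of height h over a scheme S,
given as the system of its finite locally free layers G_ν of order ℓ^{νh} with inclusions G_ν →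
G_{ν+1} exhibiting G_ν as the ℓ^ν-torsion of G_{ν+1} and projections G_{ν+1} → G_ν (multiplication
by ℓ). Let i_t : G_1 → G_{t+1} denote the iterated inclusions, pinned by i_0 = id and i_{t+1} = i_t
followed by G_{t+1} → G_{t+2}. Then for every t, i_t identifies G_1 with the kernel of
multiplication by ℓ on G_{t+1}: the ℓ-torsion of every layer is the first layer. (The published
statement identifies G_v with the ℓ^v-torsion of G_{v+t} for all v; this row is its case v = 1. The
published base is the spectrum of a Noetherian ring; the argument is formal and any base scheme is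
allowed here.) -/
theorem result {S : Scheme.{u}} (ℓ h : ℕ) [Fact ℓ.Prime] (G : BTGrp.ProBT ℓ S h)
    (i : (t : ℕ) → (G.G 1 ⟶ G.G (t + 1))) (hi0 : i 0 = 𝟙 (G.G 1))
    (hi : ∀ t : ℕ, i (t + 1) = i t ≫ G.incl (t + 1)) (t : ℕ) :
    AlgGrp.IsKernel (i t) ((𝟙 (G.G (t + 1))) ^ ℓ) := by
  exact Groth.L15.KerFlat.isKernel_pow G i hi0 hi t

end Groth.Agent.S15054
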