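import Groth.Statements.S15056
import Mathlib.RingTheory.IntegralClosure.Algebra.Basic
import Mathlib.RingTheory.Noetherian.Nilpotent
import Mathlib.FieldTheory.IsAlgClosed.AlgebraicClosure
import Mathlib.RingTheory.LocalRing.MaximalIdeal.Basic
import Mathlib.RingTheory.FiniteType
import Mathlib.RingTheory.Nilpotent.Basic

set_option autoImplicit false
universe u
open scoped TensorProduct
open FrobAlg

namespace Groth.Agent.S15056

/-- Let p be a prime number, R a Noetherian ring of characteristic p and A a finitely generated
commutative Hopf algebra over R (an affine algebraic R-group G = Spec A). The n-fold relative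
Frobenius of G is the trivial homomorphism exactly when a^(p^n) = 0 for every a in the augmentation
ideal; G has finite Frobenius height when this holds for some n. Then G has finite Frobenius height
if and only if A is a finite R-module and, for every algebraically closed field K and every ring
homomorphism R → K, the base change K ⊗_R A is a local ring (G is finite over R with connected
geometric fibres). -/
theorem result (p : ℕ) [Fact p.Prime] (R : Type u) [CommRing R] [CharP R p]
    [IsNoetherianRing R] (A : Type u) [CommRing A] [HopfAlgebra R A] [Algebra.FiniteType R A] :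
    (∃ n : ℕ, ∀ a : A, Bialgebra.counitAlgHom R A a = 0 → a ^ p ^ n = 0) ↔
      (Module.Finite R A ∧ ∀ (K : Type u) [Field K] [IsAlgClosed K] [Algebra R K], IsLocalRing (K ⊗[R] A)) := by
  haveI : IsNoetherianRing A := Algebra.FiniteType.isNoetherianRing R A
  let ε := Bialgebra.counitAlgHom R A
  let I : Ideal A := RingHom.ker ε
  have hsplit : ∀ a : A, a - algebraMap R A (ε a) ∈ I := fun a => by simp [I, RingHom.mem_ker, ε]
  constructor
  · rintro ⟨n, hn⟩
    refine ⟨?_, ?_⟩
    · haveI : Algebra.IsIntegral R A := ⟨fun a => by
        obtain ⟨m, hm⟩ : IsNilpotent (a - algebraMap R A (ε a)) := ⟨p ^ n, hn _ (hsplit a)⟩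
        have h : IsIntegral R (a - algebraMap R A (ε a)) :=
          IsIntegral.of_pow (Nat.succ_pos m) (by rw [pow_succ, hm, zero_mul]; exact isIntegral_zero)
        have h' := h.add (isIntegral_algebraMap (R := R) (A := A) (x := ε a))
        rwa [sub_add_cancel] at h'⟩
      exact Algebra.IsIntegral.finite
    · intro K _ _ _
      let εK : K ⊗[R] A →ₐ[K] K :=
        Algebra.TensorProduct.lift (AlgHom.id K K) ((Algebra.ofId R K).comp ε) fun _ _ => Commute.all _ _
      haveI : Nontrivial (K ⊗[R] A) := εK.toRingHom.domain_nontrivial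
      have hnil : ∀ z : K ⊗[R] A, IsNilpotent (z - algebraMap K _ (εK z)) := by
        intro z
        induction z with
        | zero => simp
        | add x y hx hy =>
          have := (Commute.all _ _).isNilpotent_add hx hy
          rw [map_add, map_add]
          rwa [add_sub_add_comm]
        | tmul c a =>
          have h1 : c ⊗ₜ[R] a - algebraMap K _ (εK (c ⊗ₜ[R] a)) = c ⊗ₜ[R] (a - algebraMap R A (ε a)) := by
            rw [TensorProduct.tmul_sub]
            congr 1
            have e : εK (c ⊗ₜ[R] a) = ε a • c := by
              simp [εK, Algebra.smul_def, mul_comm]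
            rw [e, Algebra.TensorProduct.algebraMap_apply, Algebra.algebraMap_self, RingHom.id_apply,
              Algebra.algebraMap_eq_smul_one, TensorProduct.smul_tmul]
          rw [h1]
          refine ⟨p ^ n, ?_⟩
          rw [Algebra.TensorProduct.tmul_pow, hn _ (hsplit a), TensorProduct.tmul_zero]
      refine IsLocalRing.of_nonunits_add fun x y hx hy hu => ?_
      have hz : ∀ z : K ⊗[R] A, εK z ≠ 0 → IsUnit z := by
        intro z h0
        have := (hnil z).isUnit_add_right_of_commute ((isUnit_iff_ne_zero.2 h0).map (algebraMap K (K ⊗[R] A))) (Commute.all _ _)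
        rwa [sub_add_cancel] at this
      have hx0 : εK x = 0 := by_contra fun h => hx (hz x h)
      have hy0 : εK y = 0 := by_contra fun h => hy (hz y h)
      have := hu.map εK
      rw [map_add, hx0, hy0, add_zero] at this
      exact not_isUnit_zero this
  · rintro ⟨-, hloc⟩
    have hle : I ≤ nilradical A := by
      rw [nilradical_eq_sInf]
      refine le_sInf fun P hP => ?_
      haveI : P.IsPrime := hP
      intro a ha
      let K := AlgebraicClosure (FractionRing (A ⧸ P))
      let g : A →+* K := ((algebraMap (FractionRing (A ⧸ P)) K).comp (algebraMap (A ⧸ P) (FractionRing (A ⧸ P)))).comp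
        (Ideal.Quotient.mk P)
      letI : Algebra R K := (g.comp (algebraMap R A)).toAlgebra
      let gA : A →ₐ[R] K := { g with commutes' := fun r => rfl }
      haveI := hloc K
      let φ₁ : K ⊗[R] A →ₐ[K] K := Algebra.TensorProduct.lift (AlgHom.id K K) gA fun _ _ => Commute.all _ _
      let φ₂ : K ⊗[R] A →ₐ[K] K :=
        Algebra.TensorProduct.lift (AlgHom.id K K) ((Algebra.ofId R K).comp ε) fun _ _ => Commute.all _ _
      have hmax : ∀ φ : K ⊗[R] A →ₐ[K] K, RingHom.ker φ = IsLocalRing.maximalIdeal (K ⊗[R] A) := fun φ => by
        haveI : (RingHom.ker φ).IsMaximal := RingHom.ker_isMaximal_of_surjective φ fun c => ⟨algebraMap K _ c, φ.commutes c⟩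
        exact IsLocalRing.eq_maximalIdeal inferInstance
      have h1 : (1 : K) ⊗ₜ[R] a - algebraMap K _ (g a) ∈ RingHom.ker φ₁ := by
        rw [RingHom.mem_ker, map_sub, AlgHom.commutes]
        simp [φ₁, gA]
      rw [hmax φ₁, ← hmax φ₂, RingHom.mem_ker, map_sub, AlgHom.commutes] at h1
      have h0 : φ₂ ((1 : K) ⊗ₜ[R] a) = 0 := by
        simp [φ₂, show Coalgebra.counit (R := R) a = 0 from ha, ε]
      rw [h0, zero_sub, neg_eq_zero] at h1
      have hinj : Function.Injective ((algebraMap (FractionRing (A ⧸ P)) K).comp (algebraMap (A ⧸ P) (FractionRing (A ⧸ P)))) :=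
        (algebraMap (FractionRing (A ⧸ P)) K).injective.comp (IsFractionRing.injective (A ⧸ P) (FractionRing (A ⧸ P)))
      exact Ideal.Quotient.eq_zero_iff_mem.1 (hinj ((show g a = 0 from h1).trans (map_zero _).symm))
    obtain ⟨N, hN⟩ := IsNoetherianRing.isNilpotent_nilradical A
    refine ⟨N, fun a ha => ?_⟩
    have h1 := Ideal.pow_mem_pow (hle (show a ∈ I from ha)) N
    rw [hN] at h1
    exact pow_eq_zero_of_le (Nat.lt_pow_self (Fact.out : p.Prime).one_lt).le h1


end Groth.Agent.S15056
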