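import Groth.Statements.S15057
import Groth.Agent.L28.Amitsur.Conerve

set_option autoImplicit false
universe u
open CategoryTheory CategoryTheory.Limits
open Desc

namespace Groth.Agent.S15057

/-- Let R → A be a faithfully flat homomorphism of commutative rings. The Amitsur complex A → A ⊗_R A →
A ⊗_R A ⊗_R A → ⋯, whose differential is the alternating sum of the maps inserting a unit in each
tensor slot, is realised here as the alternating coface complex (of underlying abelian groups) of
the Čech conerve of R → A in the category of commutative rings, whose degree-n term is the
(n+1)-fold coproduct of A under R, i.e. the (n+1)-fold tensor power over R. Then this complex is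
exact in every degree n ≥ 1. (Exactness at the start, namely that R → A is injective with image the
equaliser of the two maps A → A ⊗_R A, is the degree-0 statement and is not part of this row.) -/
theorem result (R A : Type u) [CommRing R] [CommRing A] [Algebra R A] [Module.FaithfullyFlat R A]
    (n : ℕ) (hn : 0 < n) :
    (AlgebraicTopology.AlternatingCofaceMapComplex.obj
      ((Arrow.mk (CommRingCat.ofHom (algebraMap R A))).cechConerve ⋙ forget₂ CommRingCat RingCat ⋙
        forget₂ RingCat AddCommGrpCat)).ExactAt n := by
  obtain ⟨m, rfl⟩ : ∃ m, n = m + 1 := ⟨n - 1, by omega⟩
  exact Groth.L28.Amitsur.exactAt_conerve m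

end Groth.Agent.S15057
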