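import Groth.Statements.S15058
import Mathlib.RingTheory.FormalGroup.Basic
import Mathlib.Algebra.Ring.GeomSum
import Mathlib.Tactic.Ring
set_option linter.style.haveILetI false
-- import your own Groth.Agent.* helpers here

set_option autoImplicit false
universe u
open FmlGrp

namespace Groth.Agent.S15058

section Aux

variable {R : Type u} [CommRing R] (F : FormalGroup R)

/-- Substitution of `X` and a series. -/
noncomputable def ev (s : PowerSeries R) : PowerSeries R := F.toPowerSeries.subst ![PowerSeries.X, s]

theorem hasSubst_pair {x y : PowerSeries R} (hx : x.constantCoeff = 0) (hy : y.constantCoeff = 0) :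
    MvPowerSeries.HasSubst ![x, y] :=
  MvPowerSeries.hasSubst_of_constantCoeff_zero fun i => by
    fin_cases i
    · exact hx
    · exact hy

theorem coeff_ev_eq_sum (s : PowerSeries R) (hs : s.constantCoeff = 0) (n : ℕ) :
    PowerSeries.coeff n (ev F s) = ∑ p ∈ Finset.range (n + 1) ×ˢ Finset.range (n + 1),
      MvPowerSeries.coeff (Finsupp.single 0 p.1 + Finsupp.single 1 p.2) F.toPowerSeries *
        PowerSeries.coeff n (PowerSeries.X ^ p.1 * s ^ p.2) := by
  classical
  let emb : ℕ × ℕ → (Fin 2 →₀ ℕ) := fun p => Finsupp.single 0 p.1 + Finsupp.single 1 p.2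
  have hval : ∀ p, emb p 0 = p.1 ∧ emb p 1 = p.2 := fun p => by simp [emb]
  have hemb : Function.Injective emb := fun p q h =>
    Prod.ext ((hval p).1.symm.trans ((congrArg (· 0) h).trans (hval q).1))
      ((hval p).2.symm.trans ((congrArg (· 1) h).trans (hval q).2))
  rw [ev, PowerSeries.coeff, MvPowerSeries.coeff_subst (hasSubst_pair PowerSeries.constantCoeff_X hs)]
  rw [finsum_eq_sum_of_support_subset (s := (Finset.range (n + 1) ×ˢ Finset.range (n + 1)).image emb) _ (fun d hd => ?_),
    Finset.sum_image hemb.injOn]
  · refine Finset.sum_congr rfl fun p _ => ?_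
    rw [Finsupp.prod_fintype _ _ (fun i => pow_zero _), Fin.prod_univ_two, (hval p).1, (hval p).2]
    rfl
  · rw [Finset.coe_image]
    rw [Function.mem_support, Finsupp.prod_fintype _ _ (fun i => pow_zero _), Fin.prod_univ_two] at hd
    refine ⟨(d 0, d 1), ?_, Finsupp.ext fun i => ?_⟩
    · by_contra hout
      refine hd ?_
      have hdvd : (PowerSeries.X : PowerSeries R) ^ (d 0 + d 1) ∣ PowerSeries.X ^ d 0 * s ^ d 1 := by
        rw [pow_add]
        exact mul_dvd_mul_left _ (pow_dvd_pow_of_dvd (PowerSeries.X_dvd_iff.2 hs) _)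
      have h0 := PowerSeries.X_pow_dvd_iff.1 hdvd n (by
        simp only [Finset.coe_product, Set.mem_prod, Finset.mem_coe, Finset.mem_range] at hout
        omega)
      show _ • PowerSeries.coeff n (PowerSeries.X ^ d 0 * s ^ d 1) = 0
      rw [h0, smul_zero]
    · fin_cases i
      · exact (hval _).1
      · exact (hval _).2

theorem coeff_ev_add (s δ : PowerSeries R) (hs : s.constantCoeff = 0) (N : ℕ) (hN : 1 ≤ N)
    (hδ : PowerSeries.X ^ N ∣ δ) (n : ℕ) (hn : n ≤ N) :
    PowerSeries.coeff n (ev F (s + δ)) = PowerSeries.coeff n (ev F s) + PowerSeries.coeff n δ := by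
  classical
  have hX : PowerSeries.X ∣ δ := (dvd_pow_self _ (by omega)).trans hδ
  have hsδ : (s + δ).constantCoeff = 0 := by rw [map_add, hs, PowerSeries.X_dvd_iff.1 hX, add_zero]
  rw [coeff_ev_eq_sum F (s + δ) hsδ, coeff_ev_eq_sum F s hs]
  rcases Nat.eq_zero_or_pos n with rfl | hnpos
  · have : PowerSeries.coeff 0 δ = 0 := by rw [PowerSeries.coeff_zero_eq_constantCoeff]; exact PowerSeries.X_dvd_iff.1 hX
    rw [this, add_zero]
    refine Finset.sum_congr rfl fun p hp => ?_
    simp only [Finset.mem_product, Finset.mem_range] at hp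
    rw [show p.2 = 0 by omega, pow_zero, pow_zero]
  have hmem : ((0 : ℕ), (1 : ℕ)) ∈ Finset.range (n + 1) ×ˢ Finset.range (n + 1) := by simp; omega
  rw [← sub_eq_iff_eq_add', ← Finset.sum_sub_distrib, Finset.sum_eq_single ((0 : ℕ), (1 : ℕ)) (fun p _ hp => ?_)
    (fun h => absurd hmem h)]
  · simp [F.lin_coeff_Y]
  · rw [← mul_sub, ← map_sub, ← mul_sub]
    refine mul_eq_zero_of_right _ (PowerSeries.X_pow_dvd_iff.1 ?_ n (Nat.lt_succ_of_le hn))
    rw [← geom_sum₂_mul (s + δ) s p.2, add_sub_cancel_left, pow_succ', ← mul_assoc]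
    refine mul_dvd_mul ?_ hδ
    rcases Nat.eq_zero_or_pos p.1 with h1 | h1
    · rcases Nat.lt_or_ge p.2 2 with h2 | h2
      · rcases (show p.2 = 0 ∨ p.2 = 1 by omega) with h | h
        · simp [h]
        · exact absurd (Prod.ext h1 h) hp
      · refine (Finset.dvd_sum fun i hi => ?_).mul_left _
        rw [Finset.mem_range] at hi
        rcases Nat.eq_zero_or_pos i with rfl | h
        · exact ((PowerSeries.X_dvd_iff.2 hs).trans (dvd_pow_self _ (by omega))).mul_left _
        · exact ((PowerSeries.X_dvd_iff.2 hsδ).trans (dvd_pow_self _ (by omega))).mul_right _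
    · exact (dvd_pow_self _ (by omega)).mul_right _

/-- Successive approximations of the inverse. -/
noncomputable def approx : ℕ → PowerSeries R
  | 0 => 0
  | n + 1 => approx n + PowerSeries.C (- PowerSeries.coeff (n + 1) (ev F (approx n))) * PowerSeries.X ^ (n + 1)

theorem approx_spec (n : ℕ) :
    (approx F n).constantCoeff = 0 ∧ ∀ m ≤ n, PowerSeries.coeff m (ev F (approx F n)) = 0 := by
  induction n with
  | zero =>
    refine ⟨map_zero _, fun m hm => ?_⟩
    obtain rfl : m = 0 := by omega
    rw [show approx F 0 = 0 from rfl, coeff_ev_eq_sum F 0 (map_zero _)]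
    simp [F.zero_constantCoeff]
  | succ n ih =>
    obtain ⟨h0, hz⟩ := ih
    refine ⟨by simp [approx, h0], fun m hm => ?_⟩
    rw [approx, coeff_ev_add F _ _ h0 (n + 1) (by omega) (dvd_mul_left _ _) m hm, PowerSeries.coeff_C_mul_X_pow]
    rcases Nat.lt_or_eq_of_le hm with h | h
    · rw [hz m (by omega), if_neg (by omega), add_zero]
    · rw [if_pos h, h, add_neg_cancel]

theorem coeff_approx {m n : ℕ} (h : m ≤ n) :
    PowerSeries.coeff m (approx F n) = PowerSeries.coeff m (approx F m) := by
  induction n, h using Nat.le_induction with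
  | base => rfl
  | succ n hn ih => rw [approx, map_add, PowerSeries.coeff_C_mul_X_pow, if_neg (by omega), add_zero, ih]

theorem exists_right_inverse : ∃ g : PowerSeries R, g.constantCoeff = 0 ∧ ev F g = 0 := by
  let g : PowerSeries R := PowerSeries.mk fun n => PowerSeries.coeff n (approx F n)
  refine ⟨g, ?_, PowerSeries.ext fun n => ?_⟩
  · rw [← PowerSeries.coeff_zero_eq_constantCoeff_apply, PowerSeries.coeff_mk, approx, map_zero]
  · have hd : PowerSeries.X ^ (n + 1) ∣ g - approx F n := PowerSeries.X_pow_dvd_iff.2 fun m hm => by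
      rw [map_sub, PowerSeries.coeff_mk, coeff_approx F (by omega : m ≤ n), sub_self]
    have h1 := coeff_ev_add F (approx F n) (g - approx F n) (approx_spec F n).1 (n + 1) (by omega) hd n (by omega)
    rw [add_sub_cancel] at h1
    rw [h1, (approx_spec F n).2 n le_rfl, zero_add, map_zero]
    exact PowerSeries.X_pow_dvd_iff.1 hd n (by omega)

end Aux

/-- Let R be a commutative ring and F(X,Y) ∈ R[[X,Y]] a one-dimensional formal group law (zero constant
term, linear part X + Y, associative). Then there is a power series g(X) ∈ R[[X]] with zero constant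
term which is a two-sided inverse for F, F(X, g(X)) = 0 = F(g(X), X), and it is unique: every power
series with zero constant term which is a right inverse or a left inverse equals g. (The published
text proves this for formal group laws of any finite dimension with coefficients in a complete
Noetherian local ring; the argument is a formal degree-by-degree construction, and this row states
the one-dimensional case over an arbitrary commutative ring.) -/
theorem result (R : Type u) [CommRing R] (F : FormalGroup R) :
    ∃ g : PowerSeries R, g.constantCoeff = 0 ∧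
      F.toPowerSeries.subst ![PowerSeries.X, g] = (0 : PowerSeries R) ∧
      F.toPowerSeries.subst ![g, PowerSeries.X] = (0 : PowerSeries R) ∧
      ∀ k : PowerSeries R, k.constantCoeff = 0 →
        (F.toPowerSeries.subst ![PowerSeries.X, k] = (0 : PowerSeries R) ∨
          F.toPowerSeries.subst ![k, PowerSeries.X] = (0 : PowerSeries R)) → k = g := by
  obtain ⟨g, hg0, hg⟩ := exists_right_inverse F
  have hS : ∀ {x : PowerSeries R}, x.constantCoeff = 0 → PowerSeries.HasSubst x :=
    fun hx => PowerSeries.HasSubst.of_constantCoeff_zero' hx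
  let P : PowerSeries R → PowerSeries R → PowerSeries R := fun x y => F.toPowerSeries.subst ![x, y]
  have hgS : PowerSeries.HasSubst g := hS hg0
  have hXS : PowerSeries.HasSubst (PowerSeries.X : PowerSeries R) := PowerSeries.HasSubst.X'
  have hXg : P PowerSeries.X g = 0 := hg
  let h : PowerSeries R := PowerSeries.subst g g
  have hh0 : h.constantCoeff = 0 := PowerSeries.constantCoeff_subst_eq_zero hg0 g hg0
  have hhS : PowerSeries.HasSubst h := hS hh0
  have hgh : P g h = 0 := by
    have h1 := congrArg (PowerSeries.subst g) hXg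
    simp only [P] at h1 ⊢
    rw [← PowerSeries.coe_substAlgHom hgS, map_zero, PowerSeries.coe_substAlgHom hgS, PowerSeries.subst,
      MvPowerSeries.subst_comp_subst_apply (hasSubst_pair PowerSeries.constantCoeff_X hg0) hgS.const] at h1
    refine Eq.trans ?_ h1
    refine congrArg (fun v => MvPowerSeries.subst v F.toPowerSeries) (funext fun i => ?_)
    fin_cases i
    · exact (PowerSeries.subst_X hgS).symm
    · rfl
  have hgX : P g PowerSeries.X = 0 := by
    have e1 : P PowerSeries.X (P g h) = P (P PowerSeries.X g) h := (F.assoc' hXS hgS hhS).symm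
    rw [hgh, hXg] at e1
    have e2 : P PowerSeries.X 0 = PowerSeries.X := F.add_zero hXS
    have e3 : P 0 h = h := F.zero_add hhS
    rw [e2, e3] at e1
    rw [e1]
    exact e1 ▸ hgh
  refine ⟨g, hg0, hXg, hgX, fun k hk hinv => ?_⟩
  rcases hinv with hinv | hinv
  · have e1 : P (P g PowerSeries.X) k = P g (P PowerSeries.X k) := F.assoc' hgS hXS (hS hk)
    rw [hgX, show P PowerSeries.X k = 0 from hinv] at e1
    exact ((F.zero_add (hS hk)).symm.trans e1).trans (F.add_zero hgS)
  · have e1 : P (P k PowerSeries.X) g = P k (P PowerSeries.X g) := F.assoc' (hS hk) hXS hgS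
    rw [show P k PowerSeries.X = 0 from hinv, hXg] at e1
    exact (((F.zero_add hgS).symm.trans e1).trans (F.add_zero (hS hk))).symm

end Groth.Agent.S15058
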