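import Groth.Statements.S15060
import Groth.Agent.L11.LubinTate.Basic

set_option autoImplicit false
universe u
open LubinTate

namespace Groth.Agent.S15060

/-- Let O be a discrete valuation ring with finite residue field of cardinality q, π a uniformizer of O,
f = πT + T^q ∈ O[[T]], and F a one-dimensional formal group law over O for which f is an
endomorphism, f(F(X,Y)) = F(f(X), f(Y)). For α ∈ O write [α] for a power series with zero constant
term and linear coefficient α commuting with f (it is unique). Then for all α, β ∈ O and all such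
series [α], [β], [αβ], [α+β] one has [α]([β](T)) = [αβ](T) and F([α](T), [β](T)) = [α+β](T): the map
α ↦ [α] is a ring homomorphism from O to the endomorphisms of F with their formal-group addition and
composition. (The published statement is for the ring of integers of a finite extension of ℚ_p or of
𝔽_q((X)); completeness is not used and any discrete valuation ring with finite residue field is
allowed here.) -/
theorem result (O : Type u) [CommRing O] [IsDomain O] [IsDiscreteValuationRing O]
    [Finite (IsLocalRing.ResidueField O)] (π : O) (hπ : Irreducible π) (f : PowerSeries O)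
    (hf : f = π • PowerSeries.X + PowerSeries.X ^ Nat.card (IsLocalRing.ResidueField O))
    (F : FormalGroup O)
    (hF : PowerSeries.subst F.toPowerSeries f =
        MvPowerSeries.subst (fun i : Fin 2 => PowerSeries.subst (MvPowerSeries.X i : MvPowerSeries (Fin 2) O) f)
          F.toPowerSeries)
    (α β : O) (gα gβ gαβ gs : PowerSeries O)
    (hα0 : gα.constantCoeff = 0) (hα1 : gα.coeff 1 = α) (hαf : PowerSeries.subst gα f = PowerSeries.subst f gα)
    (hβ0 : gβ.constantCoeff = 0) (hβ1 : gβ.coeff 1 = β) (hβf : PowerSeries.subst gβ f = PowerSeries.subst f gβ)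
    (hαβ0 : gαβ.constantCoeff = 0) (hαβ1 : gαβ.coeff 1 = α * β)
    (hαβf : PowerSeries.subst gαβ f = PowerSeries.subst f gαβ)
    (hs0 : gs.constantCoeff = 0) (hs1 : gs.coeff 1 = α + β) (hsf : PowerSeries.subst gs f = PowerSeries.subst f gs) :
    PowerSeries.subst gβ gα = gαβ ∧ F.toPowerSeries.subst ![gα, gβ] = gs := by
  classical
  have hq := Groth.L11.LubinTate.two_le_card O
  set q := Nat.card (IsLocalRing.ResidueField O) with hqdef
  have hne : ∀ n, 2 ≤ n → π - π ^ n ≠ 0 := fun n hn => Groth.L11.LubinTate.sub_pow_ne_zero hπ hn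
  have hI : Groth.L11.LubinTate.Inter π q F.toPowerSeries := by
    rw [Groth.L11.LubinTate.subst_series hπ hf F.zero_constantCoeff, Groth.L11.LubinTate.series_eq_frob hπ hf] at hF
    exact hF
  have hα := (Groth.L11.LubinTate.inter_iff hπ hf hα0).mp hαf
  have hβ := (Groth.L11.LubinTate.inter_iff hπ hf hβ0).mp hβf
  constructor
  · refine Groth.L11.LubinTate.Inter.ext (R := O) (σ := Unit) hq hne (hα.comp hq (fun _ => hβ0) fun _ => hβ)
      ((Groth.L11.LubinTate.inter_iff hπ hf hαβ0).mp hαβf)
      (PowerSeries.constantCoeff_subst_eq_zero hβ0 gα hα0) hαβ0 fun i => ?_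
    change MvPowerSeries.coeff _ (MvPowerSeries.subst _ gα) = _
    rw [Groth.L11.LubinTate.coeff_one_subst (fun _ => hβ0) hα0 _ (by simp), Fintype.sum_unique]
    change gα.coeff 1 * gβ.coeff 1 = gαβ.coeff 1
    rw [hα1, hβ1, hαβ1]
  · have hc : ∀ s, MvPowerSeries.constantCoeff ((![gα, gβ] : Fin 2 → MvPowerSeries Unit O) s) = 0 := fun s => by
      fin_cases s
      · exact hα0
      · exact hβ0
    refine Groth.L11.LubinTate.Inter.ext (R := O) (σ := Unit) hq hne (hI.comp hq hc fun s => ?_)
      ((Groth.L11.LubinTate.inter_iff hπ hf hs0).mp hsf)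
      (MvPowerSeries.constantCoeff_subst_eq_zero (MvPowerSeries.hasSubst_of_constantCoeff_zero hc) hc F.zero_constantCoeff)
      hs0 fun i => ?_
    · fin_cases s
      · exact hα
      · exact hβ
    rw [Groth.L11.LubinTate.coeff_one_subst hc F.zero_constantCoeff _ (by simp), Fin.sum_univ_two, F.lin_coeff_X,
      F.lin_coeff_Y, one_mul, one_mul]
    change gα.coeff 1 + gβ.coeff 1 = gs.coeff 1
    rw [hα1, hβ1, hs1]

end Groth.Agent.S15060
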