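import Groth.Statements.S15061
import Groth.Agent.L15.Galois.Normal
import Groth.Agent.S13404
import Mathlib.RingTheory.Smooth.Fiber
import Mathlib.RingTheory.Flat.EquationalCriterion
import Mathlib.RingTheory.FiniteStability

set_option autoImplicit false
universe u
open scoped TensorProduct
open Hopf

namespace Groth.Agent.S15061

open TensorProduct WithConv

theorem idem_eq_one_of_aug {R A C : Type*} [CommRing R] [CommRing A] [Algebra R A] [CommRing C] [Algebra R C]
    [Module.Finite R A] [Module.Finite R C] [IsLocalRing C] [Nontrivial R] (εC : C →ₐ[R] R) {f : A ⊗[R] C}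
    (hf : IsIdempotentElem f)
    (h : Algebra.TensorProduct.lift (AlgHom.id R A) ((Algebra.ofId R A).comp εC) (fun _ _ => Commute.all _ _) f = 1) :
    f = 1 := by
  set ψ := Algebra.TensorProduct.lift (AlgHom.id R A) ((Algebra.ofId R A).comp εC) (fun _ _ => Commute.all _ _)
    with hψ
  have hC : ∀ c, c - algebraMap R C (εC c) ∈ IsLocalRing.maximalIdeal C := fun c => by
    rw [IsLocalRing.mem_maximalIdeal]
    intro hu
    have := hu.map εC
    rw [map_sub, AlgHom.commutes, Algebra.algebraMap_self_apply, sub_self] at this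
    exact not_isUnit_zero this
  have hP : ∀ (P : Ideal (A ⊗[R] C)), P.IsMaximal → ∀ z, z - (ψ z) ⊗ₜ (1 : C) ∈ P := by
    intro P hP z
    haveI := hP
    haveI : Module.Finite R (A ⊗[R] C) := inferInstance
    let i : C →ₐ[R] A ⊗[R] C := Algebra.TensorProduct.includeRight
    have hint : (i : C →+* A ⊗[R] C).IsIntegral := fun x => by
      obtain ⟨q, hq, hqx⟩ := Algebra.IsIntegral.isIntegral (R := R) x
      exact ⟨q.map (algebraMap R C), hq.map _, by rw [Polynomial.eval₂_map, AlgHom.comp_algebraMap]; exact hqx⟩
    haveI : (P.comap (i : C →+* A ⊗[R] C)).IsMaximal := Ideal.isMaximal_comap_of_isIntegral_of_isMaximal' _ hint P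
    have hle : IsLocalRing.maximalIdeal C ≤ P.comap (i : C →+* A ⊗[R] C) :=
      (IsLocalRing.eq_maximalIdeal (I := P.comap (i : C →+* A ⊗[R] C)) ‹_›).ge
    induction z using TensorProduct.induction_on with
    | zero => simp
    | add p q hp hq => rw [map_add, add_tmul, add_sub_add_comm]; exact P.add_mem hp hq
    | tmul a c =>
      have e : a ⊗ₜ[R] c - (ψ (a ⊗ₜ c)) ⊗ₜ (1 : C) = (a ⊗ₜ 1) * i (c - algebraMap R C (εC c)) := by
        rw [map_sub, AlgHom.commutes, mul_sub]
        congr 1
        · simp [i]
        · simp [hψ, Algebra.algebraMap_eq_smul_one, Algebra.TensorProduct.one_def, smul_tmul', mul_comm]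
      rw [e]
      exact P.mul_mem_left _ (hle (hC c))
  have hy : ψ (1 - f) = 0 := by rw [map_sub, map_one, h, sub_self]
  have hu : IsUnit f := by
    by_contra hu
    obtain ⟨P, hPm, hle⟩ := exists_max_ideal_of_mem_nonunits (a := f) hu
    have h1 := hP P hPm (1 - f)
    rw [hy, zero_tmul, sub_zero] at h1
    have h2 := P.add_mem h1 hle
    rw [sub_add_cancel] at h2
    exact hPm.ne_top ((Ideal.eq_top_iff_one P).mpr h2)
  exact hu.mul_left_cancel (hf.eq.trans (_root_.mul_one f).symm)

/-- Let R be a henselian Noetherian local ring and A a commutative Hopf algebra over R which is finite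
and flat as an R-module (a finite flat R-group G = Spec A, not assumed commutative); let e ∈ A be an
idempotent with ε(e) = 1 such that A/(1 − e) is a local ring, so that G⁰ = Spec A/(1 − e) is the
connected component of the unit section, and let B ⊆ A be the subalgebra of functions invariant
under right translation by G⁰: the equaliser of a ↦ (id ⊗ π)(Δ a) and a ↦ a ⊗ 1 into A ⊗_R A/(1 −
e). Then B is a sub-Hopf-algebra of A (comultiplication and antipode preserve it), B is finite étale
over R, A is faithfully flat over B, and the ideal of A generated by the elements of B killed by the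
counit is exactly (1 − e). In other words G^ét := Spec B is a finite étale R-group, G → G^ét is a
faithfully flat homomorphism, and its kernel is G⁰: the sequence 1 → G⁰ → G → G^ét → 1 is exact. -/
theorem result (R : Type u) [CommRing R] [HenselianLocalRing R] [IsNoetherianRing R]
    (A : Type u) [CommRing A] [HopfAlgebra R A] [Module.Finite R A] [Module.Flat R A]
    (e : A) (he : IsIdempotentElem e) (hε : Bialgebra.counitAlgHom R A e = 1)
    [IsLocalRing (A ⧸ Ideal.span ({1 - e} : Set A))] :
    SGA3.IsHopfSubalgebra R A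
        (AlgHom.equalizer
          ((Algebra.TensorProduct.map (AlgHom.id R A) (Ideal.Quotient.mkₐ R (Ideal.span ({1 - e} : Set A)))).comp
            (Bialgebra.comulAlgHom R A))
          (Algebra.TensorProduct.includeLeft : A →ₐ[R] A ⊗[R] (A ⧸ Ideal.span ({1 - e} : Set A)))) ∧
      Algebra.Etale R ↥(AlgHom.equalizer
          ((Algebra.TensorProduct.map (AlgHom.id R A) (Ideal.Quotient.mkₐ R (Ideal.span ({1 - e} : Set A)))).comp
            (Bialgebra.comulAlgHom R A))
          (Algebra.TensorProduct.includeLeft : A →ₐ[R] A ⊗[R] (A ⧸ Ideal.span ({1 - e} : Set A)))) ∧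
      Module.FaithfullyFlat ↥(AlgHom.equalizer
          ((Algebra.TensorProduct.map (AlgHom.id R A) (Ideal.Quotient.mkₐ R (Ideal.span ({1 - e} : Set A)))).comp
            (Bialgebra.comulAlgHom R A))
          (Algebra.TensorProduct.includeLeft : A →ₐ[R] A ⊗[R] (A ⧸ Ideal.span ({1 - e} : Set A)))) A ∧
      SGA3.augIdealSpan R A
        (AlgHom.equalizer
          ((Algebra.TensorProduct.map (AlgHom.id R A) (Ideal.Quotient.mkₐ R (Ideal.span ({1 - e} : Set A)))).comp
            (Bialgebra.comulAlgHom R A))
          (Algebra.TensorProduct.includeLeft : A →ₐ[R] A ⊗[R] (A ⧸ Ideal.span ({1 - e} : Set A)))) =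
        Ideal.span ({1 - e} : Set A) := by
  haveI := (Groth.Agent.S13404.result R A e he hε).1
  haveI := (Groth.Agent.S13404.result R A e he hε).2.2.2
  let I : Ideal A := Ideal.span ({1 - e} : Set A)
  haveI : Module.Finite R (A ⧸ I) := Module.Finite.quotient R I
  haveI : Module.FinitePresentation R A := Module.finitePresentation_of_finite R A
  haveI : Module.FinitePresentation R (A ⧸ I) := Module.finitePresentation_of_finite R (A ⧸ I)
  haveI : Module.Projective R A := Module.Flat.projective_of_finitePresentation
  haveI : Module.Projective R (A ⧸ I) := Module.Flat.projective_of_finitePresentation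
  have hN : Groth.L15.Galois.IsNormal R A I := by
    intro a ha
    obtain ⟨c, rfl⟩ := Ideal.mem_span_singleton'.mp ha
    let γ : A →ₐ[R] A ⊗[R] (A ⧸ I) :=
      ((Groth.L15.Galois.gPt R A I)⁻¹ * Groth.L15.Galois.hPt R A I * Groth.L15.Galois.gPt R A I).ofConv
    have hγ : γ e = 1 := by
      refine idem_eq_one_of_aug (Bialgebra.counitAlgHom R (A ⧸ I)) (he.map γ) ?_
      rw [← AlgHom.comp_apply]
      have h1 : ∀ a, Coalgebra.counit (R := R) (Ideal.Quotient.mk I a) = Coalgebra.counit (R := R) a := fun a =>
        Groth.L15.Galois.counit_mk R A I a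
      let ψ : A ⊗[R] (A ⧸ I) →ₐ[R] A :=
        Algebra.TensorProduct.lift (AlgHom.id R A) ((Algebra.ofId R A).comp (Bialgebra.counitAlgHom R (A ⧸ I)))
          (fun _ _ => Commute.all _ _)
      have hg : toConv (ψ.comp (Groth.L15.Galois.gPt R A I).ofConv) = toConv (AlgHom.id R A) :=
        WithConv.ofConv_injective (AlgHom.ext fun a => by simp [ψ])
      have hh : toConv (ψ.comp (Groth.L15.Galois.hPt R A I).ofConv) = (1 : WithConv (A →ₐ[R] A)) :=
        WithConv.ofConv_injective (AlgHom.ext fun a => by
          show ψ (1 ⊗ₜ Ideal.Quotient.mk I a) = algebraMap R A (Coalgebra.counit (R := R) a)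
          simp [ψ, h1])
      have hg' : toConv (ψ.comp ((Groth.L15.Galois.gPt R A I)⁻¹).ofConv) = (toConv (AlgHom.id R A))⁻¹ :=
        WithConv.ofConv_injective (AlgHom.ext fun a => by
          show ψ ((HopfAlgebra.antipodeAlgHom R A a) ⊗ₜ 1) = HopfAlgebra.antipodeAlgHom R A a
          simp [ψ])
      have hall : ψ.comp γ = (1 : WithConv (A →ₐ[R] A)).ofConv := by
        rw [Groth.L15.Galois.comp_convMul]
        refine congrArg WithConv.ofConv ?_
        rw [hg, Groth.L15.Galois.comp_convMul, WithConv.toConv_ofConv, hh, hg']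
        exact (congrArg (· * toConv (AlgHom.id R A)) (mul_one (toConv (AlgHom.id R A))⁻¹)).trans (inv_mul_cancel _)
      rw [hall]
      show algebraMap R A (Bialgebra.counitAlgHom R A e) = 1
      rw [hε, map_one]
    show γ (c * (1 - e)) = 0
    rw [map_mul, map_sub, map_one, hγ, sub_self, mul_zero]
  have hII : I * I = I := by
    refine le_antisymm Ideal.mul_le_left fun x hx => ?_
    obtain ⟨c, rfl⟩ := Ideal.mem_span_singleton'.mp hx
    rw [show c * (1 - e) = (c * (1 - e)) * (1 - e) by rw [mul_assoc, he.one_sub.eq]]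
    exact Ideal.mul_mem_mul (Ideal.mem_span_singleton'.mpr ⟨c, rfl⟩) (Ideal.mem_span_singleton_self _)
  obtain ⟨h1, h2, h3, h4⟩ := Groth.L15.Galois.main R A I
  obtain ⟨hb1, hb2⟩ := Groth.L15.Galois.coinv_finite_projective R A I
  haveI := Groth.L15.Galois.formallyUnramified hN hII
  haveI : Algebra.FinitePresentation R (Groth.L15.Galois.coinv (Groth.L15.Galois.coact R A I)) :=
    Algebra.FinitePresentation.of_finiteType.mp inferInstance
  exact ⟨Groth.L15.Galois.isHopfSubalgebra hN, Algebra.Etale.of_formallyUnramified_of_flat, h3,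
    Groth.L15.Galois.aug_eq_span⟩

end Groth.Agent.S15061
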