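import Groth.Statements.S15062
import Mathlib.RingTheory.Unramified.Basic
import Mathlib.RingTheory.Filtration
import Mathlib.RingTheory.Bialgebra.Convolution

set_option autoImplicit false
universe u
open scoped TensorProduct
open Hopf

namespace Groth.Agent.S15062

open scoped TensorProduct

theorem isLocal_point {R : Type u} [CommRing R] (A₀ : Type u) [CommRing A₀] [Algebra R A₀] [IsLocalRing A₀]
    [IsNoetherianRing A₀] (ε₀ : A₀ →ₐ[R] R) [Nontrivial R] {C : Type u} [CommRing C] [Algebra R C]
    [Algebra.FormallyUnramified R C] (f g : C →ₐ[R] A₀) (h : ∀ c, ε₀ (f c) = ε₀ (g c)) : f = g := by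
  have h1 : ∀ c, f c - g c ∈ IsLocalRing.maximalIdeal A₀ := fun c =>
    IsLocalRing.le_maximalIdeal (RingHom.ker_ne_top ε₀.toRingHom)
      (show ε₀ (f c - g c) = 0 by rw [map_sub, h, sub_self])
  refine AlgHom.ext fun c => sub_eq_zero.mp ?_
  have : f c - g c ∈ ⨅ n : ℕ, IsLocalRing.maximalIdeal A₀ ^ n := by
    rw [Submodule.mem_iInf]
    intro n
    let I := IsLocalRing.maximalIdeal A₀ ^ n
    have hn : IsNilpotent ((IsLocalRing.maximalIdeal A₀).map (Ideal.Quotient.mk I)) :=
      ⟨n, by rw [← Ideal.map_pow, Ideal.zero_eq_bot, Ideal.map_quotient_self]⟩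
    have := Algebra.FormallyUnramified.ext (g₁ := (Ideal.Quotient.mkₐ R I).comp f)
      (g₂ := (Ideal.Quotient.mkₐ R I).comp g) _ hn fun x => by
        rw [Ideal.Quotient.eq]
        show Ideal.Quotient.mk I (f x) - Ideal.Quotient.mk I (g x) ∈ _
        rw [← map_sub]
        exact Ideal.mem_map_of_mem _ (h1 x)
    exact Ideal.Quotient.eq.mp (DFunLike.congr_fun this c)
  rwa [Ideal.iInf_pow_eq_bot_of_isLocalRing _ (IsLocalRing.maximalIdeal.isMaximal A₀).ne_top, Submodule.mem_bot] at this


/-- Let R be a henselian Noetherian local ring and A a commutative Hopf algebra over R which is finite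
and flat as an R-module (a finite flat R-group G = Spec A, not assumed commutative); let e ∈ A be an
idempotent with ε(e) = 1 such that A/(1 − e) is a local ring, so that G⁰ = Spec A/(1 − e) is the
connected component of the unit section, and let B ⊆ A be the subalgebra of functions invariant
under right translation by G⁰: the equaliser of a ↦ (id ⊗ π)(Δ a) and a ↦ a ⊗ 1 into A ⊗_R A/(1 − e)
(so Spec B = G^ét). Then: (2) for every commutative Hopf algebra C over R which is finite étale over
R (a finite étale R-group H) and every bialgebra homomorphism φ : C → A (a homomorphism G → H), the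
image of φ lies in B — the homomorphism factors (necessarily uniquely, A being faithfully flat over
B) through G → G^ét; (3) for every commutative Hopf algebra D over R which is finite and flat over R
and a local ring (a connected finite flat R-group H) and every bialgebra homomorphism ψ : A → D (a
homomorphism H → G), ψ(e) = 1, i.e. ψ kills the ideal (1 − e) and the homomorphism factors
(uniquely) through G⁰ → G. -/
theorem result (R : Type u) [CommRing R] [HenselianLocalRing R] [IsNoetherianRing R]
    (A : Type u) [CommRing A] [HopfAlgebra R A] [Module.Finite R A] [Module.Flat R A]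
    (e : A) (he : IsIdempotentElem e) (hε : Bialgebra.counitAlgHom R A e = 1)
    [IsLocalRing (A ⧸ Ideal.span ({1 - e} : Set A))] :
    (∀ (C : Type u) [CommRing C] [HopfAlgebra R C] [Module.Finite R C] [Algebra.Etale R C] (φ : C →ₐc[R] A) (c : C),
        φ c ∈ (AlgHom.equalizer
          ((Algebra.TensorProduct.map (AlgHom.id R A) (Ideal.Quotient.mkₐ R (Ideal.span ({1 - e} : Set A)))).comp
            (Bialgebra.comulAlgHom R A))
          (Algebra.TensorProduct.includeLeft : A →ₐ[R] A ⊗[R] (A ⧸ Ideal.span ({1 - e} : Set A))))) ∧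
      ∀ (D : Type u) [CommRing D] [HopfAlgebra R D] [Module.Finite R D] [Module.Flat R D] [IsLocalRing D]
        (ψ : A →ₐc[R] D), ψ e = 1 := by
  let I := Ideal.span ({1 - e} : Set A)
  haveI : IsNoetherianRing (A ⧸ I) := IsNoetherianRing.of_finite R _
  let π : A →ₐ[R] A ⧸ I := Ideal.Quotient.mkₐ R I
  refine ⟨fun C _ _ _ _ φ c => ?_, fun D _ _ _ _ _ ψ => ?_⟩
  · let ε₀ : A ⧸ I →ₐ[R] R := Ideal.Quotient.liftₐ I (Bialgebra.counitAlgHom R A) (by
      intro a ha
      obtain ⟨b, rfl⟩ := Ideal.mem_span_singleton'.mp ha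
      rw [map_mul, map_sub, hε, map_one, sub_self, mul_zero])
    let η : C →ₐ[R] A ⧸ I := (Algebra.ofId R _).comp (Bialgebra.counitAlgHom R C)
    have hπφ : π.comp (φ : C →ₐ[R] A) = η := isLocal_point (A ⧸ I) ε₀ _ _ fun x => by
      show ε₀ (π (φ x)) = ε₀ (algebraMap R _ _)
      rw [AlgHom.commutes]
      exact CoalgHomClass.counit_comp_apply φ x
    show ((Algebra.TensorProduct.map (AlgHom.id R A) π).comp (Bialgebra.comulAlgHom R A)) (φ c) = φ c ⊗ₜ 1
    have h1 : (Algebra.TensorProduct.map (AlgHom.id R A) π).comp ((Bialgebra.comulAlgHom R A).comp (φ : C →ₐ[R] A)) =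
        (Algebra.TensorProduct.includeLeft : A →ₐ[R] A ⊗[R] (A ⧸ I)).comp (φ : C →ₐ[R] A) := by
      rw [← BialgHom.map_comp_comulAlgHom, ← AlgHom.comp_assoc, ← Algebra.TensorProduct.map_comp, hπφ, AlgHom.id_comp]
      have h2 : (WithConv.toConv ((Algebra.TensorProduct.includeLeft : A →ₐ[R] A ⊗[R] (A ⧸ I)).comp (φ : C →ₐ[R] A)) *
          WithConv.toConv ((Algebra.TensorProduct.includeRight : A ⧸ I →ₐ[R] A ⊗[R] (A ⧸ I)).comp η)).ofConv =
          (Algebra.TensorProduct.map (φ : C →ₐ[R] A) η).comp (Bialgebra.comulAlgHom R C) := by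
        rw [AlgHom.convMul_def]
        show (Algebra.TensorProduct.lmul' R).comp _ = _
        rw [← AlgHom.comp_assoc]
        congr 1
        ext <;> simp
      have h3 : (Algebra.TensorProduct.includeRight : A ⧸ I →ₐ[R] A ⊗[R] (A ⧸ I)).comp η =
          (Algebra.ofId R _).comp (Bialgebra.counitAlgHom R C) := AlgHom.ext fun x =>
        (Algebra.TensorProduct.includeRight : A ⧸ I →ₐ[R] A ⊗[R] (A ⧸ I)).commutes _
      rw [← h2, h3, ← AlgHom.convOne_def]
      exact congrArg WithConv.ofConv (mul_one (WithConv.toConv ((Algebra.TensorProduct.includeLeft : A →ₐ[R] A ⊗[R] (A ⧸ I)).comp (φ : C →ₐ[R] A))))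
    exact DFunLike.congr_fun h1 c
  · have h1 : IsIdempotentElem (ψ e) := he.map ψ
    have h2 : Bialgebra.counitAlgHom R D (ψ e) = 1 := (CoalgHomClass.counit_comp_apply ψ e).trans hε
    rcases IsLocalRing.isUnit_or_isUnit_one_sub_self (ψ e) with h | h
    · exact h.mul_eq_left.mp h1
    · exfalso
      have h3 : ψ e = 0 := (h.mul_right_eq_zero).mp (by rw [sub_mul, one_mul, h1.eq, sub_self])
      rw [h3, map_zero] at h2
      exact zero_ne_one h2

end Groth.Agent.S15062
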