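import Groth.Statements.S15063
import Mathlib.RingTheory.HopfAlgebra.Convolution
import Mathlib.RingTheory.Ideal.GoingUp
import Mathlib.RingTheory.Jacobson.Ideal
import Mathlib.RingTheory.IntegralClosure.IsIntegral.Basic

set_option autoImplicit false
universe u
open Hopf

namespace Groth.Agent.S15063

open scoped TensorProduct
open WithConv

theorem conv3_eq {k A C : Type u} [CommRing k] [CommRing A] [HopfAlgebra k A] [CommRing C] [Algebra k C]
    (f g h : A →ₐ[k] C) : Dyn.conv3 k A f g h = (toConv f * toConv g * toConv h).ofConv := by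
  rw [AlgHom.convMul_def, AlgHom.convMul_def]
  show _ = (Algebra.TensorProduct.lmul' k).comp ((Algebra.TensorProduct.map ((Algebra.TensorProduct.lmul' k).comp
    ((Algebra.TensorProduct.map f g).comp (Bialgebra.comulAlgHom k A))) h).comp (Bialgebra.comulAlgHom k A))
  rw [← AlgHom.comp_assoc (Algebra.TensorProduct.lmul' k) (Algebra.TensorProduct.map f g) (Bialgebra.comulAlgHom k A)]
  conv_rhs => rw [← AlgHom.comp_id h, Algebra.TensorProduct.map_comp]
  rfl

theorem comp_conv3 {k A C D : Type u} [CommRing k] [CommRing A] [HopfAlgebra k A] [CommRing C] [Algebra k C]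
    [CommRing D] [Algebra k D] (u : C →ₐ[k] D) (f g h : A →ₐ[k] C) :
    u.comp (Dyn.conv3 k A f g h) = Dyn.conv3 k A (u.comp f) (u.comp g) (u.comp h) := by
  rw [conv3_eq, conv3_eq]
  simp only [AlgHom.comp_convMul_distrib]


/-- Let R be a henselian Noetherian local ring and A a commutative Hopf algebra over R which is finite
and flat as an R-module (a finite flat R-group G = Spec A, not assumed commutative); let e ∈ A be an
idempotent with ε(e) = 1 such that A/(1 − e) is a local ring, so that Spec A/(1 − e) is the
connected component G⁰ of G containing the unit section. Then G⁰ is normal in G: for every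
commutative R-algebra T, every T-valued point g of G and every T-valued point h of G killing the
ideal (1 − e), the conjugate g·h·g⁻¹ again kills (1 − e). (The published statement is for a flat
affine algebraic R-group and also asserts that G⁰ is an open and closed flat subgroup; this row
states the normality clause for finite flat G.) -/
theorem result (R : Type u) [CommRing R] [HenselianLocalRing R] [IsNoetherianRing R]
    (A : Type u) [CommRing A] [HopfAlgebra R A] [Module.Finite R A] [Module.Flat R A]
    (e : A) (he : IsIdempotentElem e) (hε : Bialgebra.counitAlgHom R A e = 1)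
    [IsLocalRing (A ⧸ Ideal.span ({1 - e} : Set A))] :
    SGA3.IsNormalHopfIdeal R A (Ideal.span ({1 - e} : Set A)) := by
  intro T _ _ g h hh
  let I := Ideal.span ({1 - e} : Set A)
  let A₀ := A ⧸ I
  let π : A →ₐ[R] A₀ := Ideal.Quotient.mkₐ R I
  let iL : A →ₐ[R] A ⊗[R] A₀ := Algebra.TensorProduct.includeLeft
  let iR : A₀ →ₐ[R] A ⊗[R] A₀ := Algebra.TensorProduct.includeRight
  let S := HopfAlgebra.antipodeAlgHom R A
  let F : A →ₐ[R] A ⊗[R] A₀ := Dyn.conv3 R A iL (iR.comp π) (iL.comp S)
  let h0 : A₀ →ₐ[R] T := Ideal.Quotient.liftₐ I h hh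
  let u : A ⊗[R] A₀ →ₐ[R] T := Algebra.TensorProduct.lift g h0 fun _ _ => Commute.all _ _
  have hu : u.comp F = Dyn.conv3 R A g h (g.comp S) := by
    rw [comp_conv3]
    have h1 : u.comp iL = g := AlgHom.ext fun x => by simp [u, iL]
    have h2 : u.comp (iR.comp π) = h := AlgHom.ext fun x => by
      show u (1 ⊗ₜ π x) = h x
      simp only [u, Algebra.TensorProduct.lift_tmul, map_one, one_mul]
      rfl
    rw [h2, ← AlgHom.comp_assoc u iL S, h1]
  let ε₀ : A₀ →ₐ[R] R := Ideal.Quotient.liftₐ I (Bialgebra.counitAlgHom R A) (by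
    intro a ha
    obtain ⟨b, rfl⟩ := Ideal.mem_span_singleton'.mp ha
    rw [map_mul, map_sub, hε, map_one, sub_self, mul_zero])
  let v : A ⊗[R] A₀ →ₐ[R] A := Algebra.TensorProduct.lift (AlgHom.id R A) ((Algebra.ofId R A).comp ε₀) fun _ _ => Commute.all _ _
  have hv : v.comp F = (Algebra.ofId R A).comp (Bialgebra.counitAlgHom R A) := by
    rw [comp_conv3, conv3_eq]
    have h1 : v.comp iL = AlgHom.id R A := AlgHom.ext fun x => by simp [v, iL]
    have h2 : toConv (v.comp (iR.comp π)) = 1 := congrArg toConv (AlgHom.ext fun x => by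
      show v (1 ⊗ₜ π x) = _
      simp only [v, Algebra.TensorProduct.lift_tmul, map_one, one_mul]
      rfl)
    rw [h2, ← AlgHom.comp_assoc v iL S, h1, AlgHom.id_comp, mul_one]
    exact congrArg WithConv.ofConv (mul_inv_cancel (toConv (AlgHom.id R A)))
  haveI : Algebra.IsIntegral R A := Algebra.IsIntegral.of_finite R A
  haveI : Algebra.IsIntegral R A₀ := Algebra.IsIntegral.of_finite R A₀
  have hker : ∀ z, v z = 0 → z ∈ (⊥ : Ideal (A ⊗[R] A₀)).jacobson := by
    intro z hz
    refine Submodule.mem_sInf.mpr ?_
    rintro (M : Ideal (A ⊗[R] A₀)) ⟨-, hM⟩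
    haveI := hM
    haveI : (M.comap (algebraMap R (A ⊗[R] A₀))).IsMaximal := by
      haveI : Algebra.IsIntegral R (A ⊗[R] A₀) := Algebra.IsIntegral.of_finite R _
      exact Ideal.isMaximal_comap_of_isIntegral_of_isMaximal M
    have hA₀ : (M.comap iR.toRingHom).IsMaximal := by
      haveI : (M.comap iR.toRingHom).IsPrime := Ideal.IsPrime.comap _
      refine Ideal.isMaximal_of_isIntegral_of_isMaximal_comap (R := R) _ ?_
      rw [Ideal.comap_comap, show iR.toRingHom.comp (algebraMap R A₀) = algebraMap R (A ⊗[R] A₀) from iR.comp_algebraMap]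
      infer_instance
    have h0 : ∀ x : A₀, ε₀ x = 0 → iR x ∈ M := fun x hx => by
      have : RingHom.ker ε₀.toRingHom ≤ M.comap iR.toRingHom := by
        rw [IsLocalRing.eq_maximalIdeal hA₀]
        exact IsLocalRing.le_maximalIdeal (RingHom.ker_ne_top _)
      exact this hx
    have key : ∀ w : A ⊗[R] A₀, w - iL (v w) ∈ M := by
      intro w
      induction w using TensorProduct.induction_on with
      | zero => simp
      | tmul a x =>
        have e1 : a ⊗ₜ[R] x - iL (v (a ⊗ₜ x)) = iL a * iR (x - algebraMap R A₀ (ε₀ x)) := by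
          rw [map_sub, mul_sub, AlgHom.commutes]
          simp only [iL, iR, v, Algebra.TensorProduct.lift_tmul, AlgHom.id_apply, Algebra.TensorProduct.includeLeft_apply,
            Algebra.TensorProduct.includeRight_apply, Algebra.TensorProduct.tmul_mul_tmul, mul_one, one_mul]
          congr 1
          rw [Algebra.TensorProduct.algebraMap_apply, Algebra.TensorProduct.tmul_mul_tmul, mul_one]
          rfl
        rw [e1]
        exact M.mul_mem_left _ (h0 _ (by rw [map_sub, AlgHom.commutes]; exact sub_self _))
      | add w₁ w₂ h₁ h₂ =>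
        rw [map_add, map_add, add_sub_add_comm]
        exact add_mem h₁ h₂
    simpa [hz] using key z
  have hF : F (1 - e) = 0 := by
    have hid : IsIdempotentElem (F (1 - e)) := he.one_sub.map F
    have h2 : v (F (1 - e)) = 0 := by
      rw [← AlgHom.comp_apply, hv]
      show algebraMap R A (Bialgebra.counitAlgHom R A (1 - e)) = 0
      rw [map_sub, map_one, hε, sub_self, map_zero]
    have hu1 : IsUnit (1 - F (1 - e)) := by
      have h3 := Ideal.mem_jacobson_bot.mp (hker _ h2) (-1)
      convert h3 using 1
      ring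
    exact hu1.mul_right_eq_zero.mp (by rw [sub_mul, one_mul, hid.eq, sub_self])
  intro a ha
  obtain ⟨b, rfl⟩ := Ideal.mem_span_singleton'.mp ha
  rw [← hu, map_mul, AlgHom.comp_apply, AlgHom.comp_apply, hF, map_zero, mul_zero]

end Groth.Agent.S15063
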