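import Groth.Statements.S15064
import Groth.Agent.L15.RankP.Classify

set_option autoImplicit false
universe u
open scoped TensorProduct
open Hopf

namespace Groth.Agent.S15064

theorem isField_of_artinian_reduced (k A : Type*) [Field k] [CommRing A] [Algebra k A] [FiniteDimensional k A]
    [IsLocalRing A] [IsReduced A] : IsField A := by
  haveI : IsArtinianRing A := IsArtinianRing.of_finite k A
  exact IsArtinianRing.isField_of_isReduced_of_isLocalRing A

theorem finrank_le_one' (k A : Type*) [Field k] [CommRing A] [HopfAlgebra k A] [FiniteDimensional k A]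
    (h : RingHom.ker (Bialgebra.counitAlgHom k A) = ⊥) : Module.finrank k A ≤ 1 :=
  _root_.finrank_le_one 1 fun a => ⟨Coalgebra.counit (R := k) a, by
    have : a - algebraMap k A (Coalgebra.counit (R := k) a) ∈ RingHom.ker (Bialgebra.counitAlgHom k A) := by
      rw [RingHom.mem_ker, map_sub, AlgHom.commutes]
      exact sub_self _
    rw [h, Ideal.mem_bot, sub_eq_zero] at this
    rw [← Algebra.algebraMap_eq_smul_one]
    exact this.symm⟩


/-- Let k be a field of characteristic p > 0 and A a finite-dimensional commutative and cocommutative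
Hopf algebra over k (a finite commutative k-group G = Spec A) which is bi-infinitesimal — A is a
local ring and so is the dual algebra Hom_k(A, k) with the convolution product (G and its Cartier
dual are connected) — with dim_k A > 1, and assume G is simple: every Hopf ideal of A is either zero
or the augmentation ideal (G has no closed subgroup schemes other than G and 1). Then G is
isomorphic to α_p: A has a primitive element x (Δ(x) = x ⊗ 1 + 1 ⊗ x) with x^p = 0 whose powers 1,
x, …, x^(p−1) are linearly independent over k, and dim_k A = p (so A = k[x]/(x^p) with x primitive). -/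
theorem result (k : Type u) [Field k] (p : ℕ) [Fact p.Prime] [CharP k p]
    (A : Type u) [CommRing A] [HopfAlgebra k A] [Coalgebra.IsCocomm k A] [FiniteDimensional k A] [IsLocalRing A]
    (hdual : IsLocalRing (WithConv (A →ₗ[k] k))) (hA : 1 < Module.finrank k A)
    (hsimple : ∀ I : Ideal A, I.IsHopfIdeal k → I = ⊥ ∨ I = RingHom.ker (Bialgebra.counitAlgHom k A)) :
    ∃ x : A, Coalgebra.comul x = x ⊗ₜ[k] (1 : A) + (1 : A) ⊗ₜ[k] x ∧ x ^ p = 0 ∧
      LinearIndependent k (fun i : Fin p => x ^ (i : ℕ)) ∧ Module.finrank k A = p := by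
  letI : CommRing (CartDual.D k A) := inferInstance
  haveI : IsLocalRing (CartDual.D k A) := hdual
  have hred : ¬ IsReduced A := fun hred => by
    have h : RingHom.ker (Bialgebra.counitAlgHom k A) = ⊥ :=
      (IsLocalRing.isField_iff_maximalIdeal_eq.mp (isField_of_artinian_reduced k A)) ▸
        (IsLocalRing.eq_maximalIdeal (RingHom.ker_isMaximal_of_surjective _ fun c => ⟨algebraMap k A c, AlgHom.commutes _ c⟩))
    exact absurd (finrank_le_one' k A h) (not_le.mpr hA)
  obtain ⟨x, hx, hx0⟩ := Groth.L15.RankP.exists_prim (k := k) hred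
  haveI : IsArtinianRing (CartDual.D k A) := IsArtinianRing.of_finite k _
  have hxnil : IsNilpotent x := by
    obtain ⟨n, hn⟩ := IsArtinianRing.isNilpotent_jacobson_bot (R := CartDual.D k A)
    rw [IsLocalRing.jacobson_eq_maximalIdeal ⊥ bot_ne_top] at hn
    suffices hm : x ∈ IsLocalRing.maximalIdeal (CartDual.D k A) by
      refine ⟨n, ?_⟩
      have h' := Ideal.pow_mem_pow hm n
      rwa [hn] at h'
    rw [IsLocalRing.mem_maximalIdeal]
    intro hu
    have := hu.map (Bialgebra.counitAlgHom k (CartDual.D k A))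
    rw [show Bialgebra.counitAlgHom k (CartDual.D k A) x = 0 from hx.apply_one] at this
    exact not_isUnit_zero this
  obtain ⟨y, hy, hy0, hyp⟩ := Groth.L15.RankP.exists_nilpotent_prim p hx hx0 hxnil
  obtain ⟨f, hf⟩ := Groth.L15.RankP.exists_surjective_alpha p hy hyp hy0
  have hinj : Function.Injective f := by
    rcases hsimple _ (Groth.L15.Galois.isHopfIdeal_ker f hf) with h | h
    · exact (RingHom.injective_iff_ker_eq_bot (f : A →ₐ[k] AlphaP.A p k).toRingHom).mpr h
    · exfalso
      obtain ⟨a, ha⟩ := hf (AlphaP.x p k)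
      have h0 : Coalgebra.counit (R := k) a = 0 := by rw [← CoalgHomClass.counit_comp_apply f a, ha, AlphaP.counit_x]
      have : a ∈ RingHom.ker (f : A →ₐ[k] AlphaP.A p k) := by rw [h]; exact h0
      have hx' : AlphaP.x p k = 0 := ha.symm.trans this
      have := (AlphaP.basis p k).ne_zero ⟨1, (Fact.out : p.Prime).one_lt⟩
      rw [AlphaP.basis_apply, pow_one] at this
      exact this hx'
  let e := BialgEquiv.ofBijective f ⟨hinj, hf⟩
  have hsymm : ∀ z, f ((e.symm : AlphaP.A p k →ₐc[k] A) z) = z := e.apply_symm_apply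
  refine ⟨(e.symm : AlphaP.A p k →ₐc[k] A) (AlphaP.x p k), ?_, ?_, ?_, ?_⟩
  · rw [← CoalgHomClass.map_comp_comul_apply (e.symm : AlphaP.A p k →ₐc[k] A), AlphaP.comul_x]
    simp
  · rw [← map_pow, AlphaP.x_pow, map_zero]
  · refine LinearIndependent.of_comp (f : A →ₗ[k] AlphaP.A p k) ?_
    rw [show ((f : A →ₗ[k] AlphaP.A p k) ∘ fun i : Fin p => (e.symm : AlphaP.A p k →ₐc[k] A) (AlphaP.x p k) ^ (i : ℕ)) =
      AlphaP.basis p k from funext fun i => by
        show f ((e.symm : AlphaP.A p k →ₐc[k] A) (AlphaP.x p k) ^ (i : ℕ)) = _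
        rw [map_pow, hsymm, AlphaP.basis_apply]]
    exact (AlphaP.basis p k).linearIndependent
  · rw [(LinearEquiv.ofBijective (f : A →ₗ[k] AlphaP.A p k) ⟨hinj, hf⟩).finrank_eq, AlphaP.finrank_eq]

end Groth.Agent.S15064
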