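import Groth.Statements.S15065
import Groth.Agent.L08.FinEtalePoints
import Groth.Agent.S7974
import Mathlib.GroupTheory.SpecificGroups.Cyclic

set_option autoImplicit false
universe u
open Hopf

namespace Groth.Agent.S15065
open Groth.L08.FinEtalePoints

/-- Let k be an algebraically closed field and A a finite-dimensional commutative and cocommutative Hopf
algebra over k which is reduced (a finite étale commutative k-group G = Spec A), with dim_k A > 1,
and assume G is simple: every Hopf ideal of A is either zero or the augmentation ideal (no closed
subgroup schemes other than G and 1). Then the order dim_k A is a prime number ℓ, so that G is the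
constant group ℤ/ℓℤ. (The published statement lists the simple finite commutative groups over an
algebraically closed field of characteristic p > 0; the étale case does not use the characteristic
and is stated here for any algebraically closed field.) -/
theorem result (k : Type u) [Field k] [IsAlgClosed k] (A : Type u) [CommRing A] [HopfAlgebra k A]
    [Coalgebra.IsCocomm k A] [FiniteDimensional k A] [IsReduced A] (hA : 1 < Module.finrank k A)
    (hsimple : ∀ I : Ideal A, I.IsHopfIdeal k → I = ⊥ ∨ I = RingHom.ker (Bialgebra.counitAlgHom k A)) :
    (Module.finrank k A).Prime := by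
  classical
  haveI : Algebra.FiniteType k A := Module.Finite.finiteType A
  haveI : Finite (A →ₐ[k] k) := Groth.L25.OrderKills.finite_points
  haveI : Finite (WithConv (A →ₐ[k] k)) := Finite.of_injective _ WithConv.ofConv_injective
  rw [← card_points]
  haveI : Nontrivial (WithConv (A →ₐ[k] k)) := Finite.one_lt_card_iff_nontrivial.1 (by rw [card_points]; exact hA)
  haveI : IsSimpleGroup (WithConv (A →ₐ[k] k)) := by
    refine ⟨fun H _ => ?_⟩
    rcases hsimple _ (Groth.Agent.S7974.result k A H) with h | h
    · refine Or.inr (eq_top_iff.2 fun g _ => ?_)
      by_contra hg
      obtain ⟨a, ha⟩ := (ev_bijective (k := k) (A := A)).2 (Pi.single g 1)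
      have hmem : a ∈ (⊥ : Ideal A) := by
        rw [← h, Submodule.mem_iInf]
        intro s
        rw [Submodule.mem_iInf]
        intro hs
        rw [RingHom.mem_ker]
        exact (congrFun ha s).trans (Pi.single_eq_of_ne (fun e => hg (by rw [← e]; exact hs)) _)
      have := congrFun ha g
      rw [(Submodule.mem_bot A).1 hmem, map_zero, Pi.single_eq_same] at this
      exact zero_ne_one this
    · refine Or.inl ((Subgroup.eq_bot_iff_forall _).2 fun g hg => WithConv.ext (AlgHom.ext fun a => ?_))
      have hmem : a - algebraMap k A (Coalgebra.counit (R := k) a) ∈ RingHom.ker (g.ofConv : A →ₐ[k] k) := by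
        have h2 : a - algebraMap k A (Coalgebra.counit (R := k) a) ∈
            RingHom.ker (Bialgebra.counitAlgHom k A) := by simp [RingHom.mem_ker]
        rw [← h] at h2
        exact (Submodule.mem_iInf _).1 ((Submodule.mem_iInf _).1 h2 g) hg
      rw [RingHom.mem_ker, map_sub, AlgHom.commutes, sub_eq_zero] at hmem
      rw [hmem, AlgHom.convOne_apply]
  exact IsSimpleGroup.prime_card

end Groth.Agent.S15065
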