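import Groth.Statements.S15066
import Groth.Agent.L15.RankP.Classify

set_option autoImplicit false
universe u
open Hopf

namespace Groth.Agent.S15066

/-- Let k be an algebraically closed field of characteristic p > 0 and A a finite-dimensional
commutative and cocommutative Hopf algebra over k (a finite commutative k-group G = Spec A) which is
a local ring (G connected) and whose dual algebra Hom_k(A, k) with the convolution product is
reduced (the Cartier dual of G is étale, i.e. G is multiplicative), with dim_k A > 1, and assume G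
is simple: every Hopf ideal of A is either zero or the augmentation ideal (no closed subgroup
schemes other than G and 1). Then G is isomorphic to μ_p: A has a group-like element g (Δ(g) = g ⊗
g, ε(g) = 1) with g^p = 1 whose powers 1, g, …, g^(p−1) are linearly independent over k, and dim_k A
= p (so A = k[g]/(g^p − 1)). -/
theorem result (k : Type u) [Field k] [IsAlgClosed k] (p : ℕ) [Fact p.Prime]
    [CharP k p] (A : Type u) [CommRing A] [HopfAlgebra k A] [Coalgebra.IsCocomm k A] [FiniteDimensional k A]
    [IsLocalRing A] (hdual : IsReduced (WithConv (A →ₗ[k] k))) (hA : 1 < Module.finrank k A)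
    (hsimple : ∀ I : Ideal A, I.IsHopfIdeal k → I = ⊥ ∨ I = RingHom.ker (Bialgebra.counitAlgHom k A)) :
    ∃ g : A, IsGroupLikeElem k g ∧ g ^ p = 1 ∧ LinearIndependent k (fun i : Fin p => g ^ (i : ℕ)) ∧
      Module.finrank k A = p := by
  letI : CommRing (CartDual.D k A) := inferInstance
  haveI : IsReduced (CartDual.D k A) := hdual
  have hred : ¬ IsReduced A := fun hred => by
    haveI : IsArtinianRing A := IsArtinianRing.of_finite k A
    have h1 := Groth.L08.FinEtalePoints.card_points (k := k) (A := A)
    haveI : Subsingleton (WithConv (A →ₐ[k] k)) := ⟨fun g g' => by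
      refine WithConv.ext (AlgHom.ext fun a => ?_)
      have hmax : ∀ χ : A →ₐ[k] k, RingHom.ker χ = IsLocalRing.maximalIdeal A := fun χ =>
        IsLocalRing.eq_maximalIdeal (RingHom.ker_isMaximal_of_surjective _ fun c => ⟨algebraMap k A c, χ.commutes c⟩)
      have h : a - algebraMap k A (g.ofConv a) ∈ RingHom.ker g.ofConv := by simp [RingHom.mem_ker]
      rw [hmax, ← hmax g'.ofConv, RingHom.mem_ker, map_sub, AlgHom.commutes, sub_eq_zero] at h
      exact h.symm⟩
    have := Nat.card_of_subsingleton (Classical.arbitrary (WithConv (A →ₐ[k] k)))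
    omega
  rcases Groth.L15.RankP.exists_surjective_of_not_isReduced (k := k) p hred with ⟨f, hf⟩ | ⟨f, hf⟩
  · have hinj : Function.Injective f := by
      rcases hsimple _ (Groth.L15.Galois.isHopfIdeal_ker f hf) with h | h
      · exact (RingHom.injective_iff_ker_eq_bot (f : A →ₐ[k] MonoidAlgebra k (Multiplicative (ZMod p))).toRingHom).mpr h
      · exfalso
        obtain ⟨a, ha⟩ := hf (MonoidAlgebra.single (Multiplicative.ofAdd (1 : ZMod p)) 1 - 1)
        have h0 : Coalgebra.counit (R := k) a = 0 := by
          rw [← CoalgHomClass.counit_comp_apply f a, ha, map_sub, MonoidAlgebra.counit_single, Bialgebra.counit_one]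
          simp
        have hm : a ∈ RingHom.ker (f : A →ₐ[k] MonoidAlgebra k (Multiplicative (ZMod p))) := by rw [h]; exact h0
        have h2 : f a = 0 := hm
        rw [ha, sub_eq_zero, MonoidAlgebra.one_def] at h2
        have h3 : (MonoidAlgebra.basis (Multiplicative (ZMod p)) k) (Multiplicative.ofAdd (1 : ZMod p)) =
            (MonoidAlgebra.basis (Multiplicative (ZMod p)) k) 1 := by simpa using h2
        exact one_ne_zero (Multiplicative.ofAdd.injective ((MonoidAlgebra.basis (Multiplicative (ZMod p)) k).injective h3))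
    let e := BialgEquiv.ofBijective f ⟨hinj, hf⟩
    have hsymm : ∀ z, f ((e.symm : _ →ₐc[k] A) z) = z := e.apply_symm_apply
    let γ : MonoidAlgebra k (Multiplicative (ZMod p)) := MonoidAlgebra.single (Multiplicative.ofAdd (1 : ZMod p)) 1
    refine ⟨(e.symm : _ →ₐc[k] A) γ, ⟨?_, ?_⟩, ?_, ?_, ?_⟩
    · refine (CoalgHomClass.counit_comp_apply (e.symm : MonoidAlgebra k (Multiplicative (ZMod p)) →ₐc[k] A) γ).trans ?_
      simp [γ, MonoidAlgebra.counit_single]
    · refine (CoalgHomClass.map_comp_comul_apply (e.symm : MonoidAlgebra k (Multiplicative (ZMod p)) →ₐc[k] A) γ).symm.trans ?_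
      simp [γ, MonoidAlgebra.comul_single, Algebra.TensorProduct.one_def]
    · rw [← map_pow, MonoidAlgebra.single_pow, one_pow, ← ofAdd_nsmul]
      simp [MonoidAlgebra.one_def]
    · refine LinearIndependent.of_comp (f : A →ₗ[k] MonoidAlgebra k (Multiplicative (ZMod p))) ?_
      rw [show ((f : A →ₗ[k] MonoidAlgebra k (Multiplicative (ZMod p))) ∘ fun i : Fin p => (e.symm : _ →ₐc[k] A) γ ^ (i : ℕ)) =
        (MonoidAlgebra.basis (Multiplicative (ZMod p)) k) ∘ fun i : Fin p => Multiplicative.ofAdd (i : ZMod p) from funext fun i => by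
          show f ((e.symm : _ →ₐc[k] A) γ ^ (i : ℕ)) = _
          rw [map_pow, hsymm, MonoidAlgebra.single_pow, one_pow, ← ofAdd_nsmul, nsmul_eq_mul, _root_.mul_one]
          simp]
      refine (MonoidAlgebra.basis (Multiplicative (ZMod p)) k).linearIndependent.comp _ fun i j h => ?_
      have h' : ((i : ℕ) : ZMod p) = ((j : ℕ) : ZMod p) := Multiplicative.ofAdd.injective h
      rw [ZMod.natCast_eq_natCast_iff', Nat.mod_eq_of_lt i.2, Nat.mod_eq_of_lt j.2] at h'
      exact Fin.ext h'
    · rw [(LinearEquiv.ofBijective (f : A →ₗ[k] MonoidAlgebra k (Multiplicative (ZMod p))) ⟨hinj, hf⟩).finrank_eq,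
        Module.finrank_eq_card_basis (MonoidAlgebra.basis (Multiplicative (ZMod p)) k)]
      simp
  · exfalso
    obtain ⟨h, hh⟩ := Groth.L15.RankP.alpha_self_dual (k := k) p
    have hT : Function.Injective (CartDual.transpose k f) := fun y z e => WithConv.ext (LinearMap.ext fun b => by
      obtain ⟨a, rfl⟩ := hf b
      exact congrArg (fun w : CartDual.D k A => w a) e)
    have hnil : IsNilpotent (CartDual.transpose k f (h (AlphaP.x p k))) :=
      ⟨p, by rw [← map_pow, ← map_pow, AlphaP.x_pow, map_zero, map_zero]⟩
    have h0 : CartDual.transpose k f (h (AlphaP.x p k)) = 0 := hnil.eq_zero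
    have hx : AlphaP.x p k = 0 := hh.1 (hT (by rw [h0, map_zero, map_zero]))
    have := (AlphaP.basis p k).ne_zero ⟨1, (Fact.out : p.Prime).one_lt⟩
    rw [AlphaP.basis_apply, pow_one] at this
    exact this hx

end Groth.Agent.S15066
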