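import Groth.Statements.S15067
import Groth.Agent.L08.KaehlerHopf
import Mathlib.RingTheory.Smooth.Fiber
import Mathlib.RingTheory.IntegralClosure.GoingDown

set_option autoImplicit false
universe u
open scoped TensorProduct
open Hopf

namespace Groth.Agent.S15067

/-- Let R be a henselian Noetherian local ring, A and A'' commutative Hopf algebras over R which are
finite and flat as R-modules (finite flat R-groups G = Spec A, G'' = Spec A''), and A'' → A an
R-algebra homomorphism compatible with the comultiplications and counits (a homomorphism π : G →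
G'') making A a faithfully flat A''-module (π faithfully flat). Let J ⊆ A be the ideal generated by
the image of the augmentation ideal of A'', so that G' = Spec A/J is the kernel of π and 1 → G' → G
→ G'' → 1 is an exact sequence of finite flat R-groups. Then: (2) if A'' and A/J are local rings
(G'' and G' connected), A is a local ring (G is connected); (3) if A'' and A/J are étale over R (G''
and G' finite étale), A is étale over R (G is finite étale). -/
theorem result (R : Type u) [CommRing R] [HenselianLocalRing R] [IsNoetherianRing R]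
    (A A'' : Type u) [CommRing A] [HopfAlgebra R A] [Module.Finite R A] [Module.Flat R A]
    [CommRing A''] [HopfAlgebra R A''] [Module.Finite R A''] [Module.Flat R A'']
    [Algebra A'' A] [IsScalarTower R A'' A] [Module.FaithfullyFlat A'' A]
    (hΔ : (Bialgebra.comulAlgHom R A).comp (IsScalarTower.toAlgHom R A'' A) =
      (Algebra.TensorProduct.map (IsScalarTower.toAlgHom R A'' A) (IsScalarTower.toAlgHom R A'' A)).comp
        (Bialgebra.comulAlgHom R A''))
    (hε : (Bialgebra.counitAlgHom R A).comp (IsScalarTower.toAlgHom R A'' A) = Bialgebra.counitAlgHom R A'') :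
    ((IsLocalRing A'' ∧
        IsLocalRing (A ⧸ (RingHom.ker (Bialgebra.counitAlgHom R A'')).map (algebraMap A'' A))) → IsLocalRing A) ∧
      ((Algebra.Etale R A'' ∧
        Algebra.Etale R (A ⧸ (RingHom.ker (Bialgebra.counitAlgHom R A'')).map (algebraMap A'' A))) →
        Algebra.Etale R A) := by
  let ε' := Bialgebra.counitAlgHom R A''
  let ε := Bialgebra.counitAlgHom R A
  let J : Ideal A := (RingHom.ker ε').map (algebraMap A'' A)
  have hεapp : ∀ x, ε (algebraMap A'' A x) = ε' x := fun x => AlgHom.congr_fun hε x
  constructor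
  · rintro ⟨hloc', hlocJ⟩
    haveI : IsLocalRing (A ⧸ J) := hlocJ
    haveI : Nontrivial A := (Ideal.Quotient.mk J).domain_nontrivial
    haveI : Module.Finite A'' A := Module.Finite.of_restrictScalars_finite R A'' A
    haveI : Algebra.IsIntegral A'' A := Algebra.IsIntegral.of_finite A'' A
    have hker : RingHom.ker ε' ≤ IsLocalRing.maximalIdeal A'' := by
      refine IsLocalRing.le_maximalIdeal fun h => ?_
      have h1 : (1 : A'') ∈ RingHom.ker ε' := h ▸ Submodule.mem_top
      rw [RingHom.mem_ker, map_one] at h1
      haveI : Nontrivial R := (algebraMap R A).domain_nontrivial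
      exact one_ne_zero h1
    have hJle : ∀ P : Ideal A, P.IsMaximal → J ≤ P := fun P hP => by
      haveI := hP
      haveI : (P.comap (algebraMap A'' A)).IsMaximal := Ideal.isMaximal_comap_of_isIntegral_of_isMaximal P
      rw [Ideal.map_le_iff_le_comap, IsLocalRing.eq_maximalIdeal (I := P.comap (algebraMap A'' A)) ‹_›]
      exact hker
    obtain ⟨P0, hP0⟩ := Ideal.exists_maximal A
    refine IsLocalRing.of_unique_max_ideal ⟨P0, hP0, fun Q hQ => ?_⟩
    have key : ∀ P : Ideal A, P.IsMaximal → P = (IsLocalRing.maximalIdeal (A ⧸ J)).comap (Ideal.Quotient.mk J) := by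
      intro P hP
      refine hP.eq_of_le (Ideal.comap_ne_top _ (IsLocalRing.maximalIdeal.isMaximal _).ne_top) fun x hx => ?_
      rw [Ideal.mem_comap, IsLocalRing.mem_maximalIdeal]
      rintro hu
      obtain ⟨y, hy⟩ := hu.exists_right_inv
      obtain ⟨y, rfl⟩ := Ideal.Quotient.mk_surjective y
      rw [← map_mul, ← map_one (Ideal.Quotient.mk J), Ideal.Quotient.eq] at hy
      refine hP.ne_top ((Ideal.eq_top_iff_one P).mpr ?_)
      have := P.sub_mem (P.mul_mem_right y hx) (hJle P hP hy)
      simpa using this
    rw [key Q hQ, key P0 hP0]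
  · rintro ⟨het', hetJ⟩
    haveI := het'
    haveI : Algebra.Etale R (A ⧸ J) := hetJ
    haveI : Algebra.FiniteType R A := inferInstance
    haveI : Algebra.FinitePresentation R A := (Algebra.FinitePresentation.of_finiteType (R := R) (A := A)).1 inferInstance
    let I := Groth.L08.KaehlerHopf.aug R A
    have h' : (RingHom.ker ε') ^ 2 = RingHom.ker ε' :=
      (Groth.L08.KaehlerHopf.formallyUnramified_iff (R := R) (A := A'')).mp inferInstance
    have hJI : J ≤ I ^ 2 := by
      show (RingHom.ker ε').map (algebraMap A'' A) ≤ I ^ 2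
      rw [← h', Ideal.map_pow]
      refine Ideal.pow_right_mono (Ideal.map_le_iff_le_comap.mpr fun x hx => ?_) 2
      rw [Ideal.mem_comap, RingHom.mem_ker, hεapp]
      exact hx
    haveI : Algebra.FormallyUnramified R A := by
      refine (Groth.L08.KaehlerHopf.formallyUnramified_iff (R := R) (A := A)).mpr
        (le_antisymm (Ideal.pow_le_self two_ne_zero) fun x hx => ?_)
      let K : Ideal A := I ^ 2
      let N : Ideal (A ⧸ K) := I.map (Ideal.Quotient.mk K)
      have hN : N ^ 2 = ⊥ := by
        rw [← Ideal.map_pow, Ideal.map_eq_bot_iff_le_ker, Ideal.mk_ker]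
      let f₁ : A ⧸ J →ₐ[R] A ⧸ K := Ideal.Quotient.factorₐ R hJI
      have hJε : ∀ a ∈ J, ε a = 0 := fun a ha => Ideal.pow_le_self two_ne_zero (hJI ha)
      let f₂ : A ⧸ J →ₐ[R] A ⧸ K := Ideal.Quotient.liftₐ J ((Algebra.ofId R (A ⧸ K)).comp ε) fun a ha => by
        show algebraMap R (A ⧸ K) (ε a) = 0
        rw [hJε a ha, map_zero]
      have h12 : f₁ = f₂ := by
        refine Algebra.FormallyUnramified.comp_injective N hN (AlgHom.ext fun y => ?_)
        obtain ⟨a, rfl⟩ := Ideal.Quotient.mk_surjective y
        show Ideal.Quotient.mk N (Ideal.Quotient.mk K a) = Ideal.Quotient.mk N (algebraMap R (A ⧸ K) (ε a))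
        rw [IsScalarTower.algebraMap_apply R A (A ⧸ K), Ideal.Quotient.algebraMap_eq, Ideal.Quotient.eq, ← map_sub]
        refine Ideal.mem_map_of_mem _ ?_
        show ε (a - algebraMap R A (ε a)) = 0
        rw [map_sub, AlgHom.commutes, Algebra.algebraMap_self_apply, sub_self]
      have := AlgHom.congr_fun h12 (Ideal.Quotient.mk J x)
      have hx0 : ε x = 0 := hx
      change Ideal.Quotient.mk K x = algebraMap R (A ⧸ K) (ε x) at this
      rw [hx0, map_zero, Ideal.Quotient.eq_zero_iff_mem] at this
      exact this
    exact Algebra.Etale.of_formallyUnramified_of_flat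

end Groth.Agent.S15067
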