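import Groth.Statements.S15068
import Mathlib.RingTheory.Unramified.Basic
import Mathlib.RingTheory.LocalRing.Module
import Mathlib.RingTheory.Flat.Stability
import Mathlib.RingTheory.Nakayama
import Mathlib.RingTheory.Finiteness.Basic
import Mathlib.LinearAlgebra.Dimension.Free

set_option autoImplicit false
universe u
open scoped TensorProduct
open Hopf

namespace Groth.Agent.S15068

/-- the kernel of an augmentation of an unramified algebra is idempotent -/
theorem ker_le_sq {R C : Type u} [CommRing R] [CommRing C] [Algebra R C] [Algebra.FormallyUnramified R C]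
    (εC : C →ₐ[R] R) : RingHom.ker εC ≤ RingHom.ker εC • RingHom.ker εC := by
  intro x hx
  rw [smul_eq_mul]
  let K : Ideal C := RingHom.ker εC * RingHom.ker εC
  let N : Ideal (C ⧸ K) := (RingHom.ker εC).map (Ideal.Quotient.mk K)
  have hN2 : N ^ 2 = ⊥ := by
    show Ideal.map (Ideal.Quotient.mk K) (RingHom.ker εC) ^ 2 = ⊥
    rw [← Ideal.map_pow, Ideal.map_eq_bot_iff_le_ker, Ideal.mk_ker, pow_two]
  have h12 : Ideal.Quotient.mkₐ R K = (Algebra.ofId R (C ⧸ K)).comp εC := by
    refine Algebra.FormallyUnramified.comp_injective N hN2 (AlgHom.ext fun a => ?_)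
    show Ideal.Quotient.mk N (Ideal.Quotient.mk K a) = Ideal.Quotient.mk N (algebraMap R (C ⧸ K) (εC a))
    rw [IsScalarTower.algebraMap_apply R C (C ⧸ K), Ideal.Quotient.algebraMap_eq, Ideal.Quotient.eq, ← map_sub]
    refine Ideal.mem_map_of_mem _ ?_
    show εC (a - algebraMap R C (εC a)) = 0
    rw [map_sub, AlgHom.commutes, Algebra.algebraMap_self_apply, sub_self]
  have h := AlgHom.congr_fun h12 x
  rw [AlgHom.comp_apply, show εC x = 0 from hx, map_zero] at h
  exact Ideal.Quotient.eq_zero_iff_mem.mp h

/-- Let R be a henselian Noetherian local ring, A and A'' commutative Hopf algebras over R which are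
finite and flat as R-modules, and A'' → A an R-algebra homomorphism compatible with
comultiplications and counits making A faithfully flat over A'' (a faithfully flat homomorphism π :
G → G'' of finite flat R-groups); let J ⊆ A be the ideal generated by the image of the augmentation
ideal of A'' (G' = Spec A/J = ker π, so 1 → G' → G → G'' → 1 is exact). Assume A'' is a local ring
(G'' connected) and A/J is étale over R (G' finite étale), and let e ∈ A be an idempotent with ε(e)
= 1 such that A/(1 − e) is local (G⁰ = Spec A/(1 − e), the unit component of G). Then the composite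
A'' → A → A/(1 − e) is bijective: the restriction G⁰ → G'' of π is an isomorphism, whose inverse
splits the extension, G ≅ G' × G''. -/
theorem result (R : Type u) [CommRing R] [HenselianLocalRing R]
    [IsNoetherianRing R] (A A'' : Type u) [CommRing A] [HopfAlgebra R A] [Module.Finite R A] [Module.Flat R A]
    [CommRing A''] [HopfAlgebra R A''] [Module.Finite R A''] [Module.Flat R A'']
    [Algebra A'' A] [IsScalarTower R A'' A] [Module.FaithfullyFlat A'' A]
    (hΔ : (Bialgebra.comulAlgHom R A).comp (IsScalarTower.toAlgHom R A'' A) =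
      (Algebra.TensorProduct.map (IsScalarTower.toAlgHom R A'' A) (IsScalarTower.toAlgHom R A'' A)).comp
        (Bialgebra.comulAlgHom R A''))
    (hε : (Bialgebra.counitAlgHom R A).comp (IsScalarTower.toAlgHom R A'' A) = Bialgebra.counitAlgHom R A'')
    [IsLocalRing A''] [Algebra.Etale R (A ⧸ (RingHom.ker (Bialgebra.counitAlgHom R A'')).map (algebraMap A'' A))]
    (e : A) (he : IsIdempotentElem e) (heε : Bialgebra.counitAlgHom R A e = 1)
    [IsLocalRing (A ⧸ Ideal.span ({1 - e} : Set A))] :
    Function.Bijective ((Ideal.Quotient.mkₐ R (Ideal.span ({1 - e} : Set A))).comp (IsScalarTower.toAlgHom R A'' A)) := by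
  let ε' := Bialgebra.counitAlgHom R A''
  let ε := Bialgebra.counitAlgHom R A
  let B := A ⧸ Ideal.span ({1 - e} : Set A)
  let I' := RingHom.ker ε'
  have hεapp : ∀ x, ε (algebraMap A'' A x) = ε' x := fun x => AlgHom.congr_fun hε x
  haveI : Module.Finite A'' A := Module.Finite.of_restrictScalars_finite R A'' A
  haveI : Module.Finite A'' B := Module.Finite.of_surjective (Ideal.Quotient.mkₐ A'' (Ideal.span ({1 - e} : Set A))).toLinearMap
    Ideal.Quotient.mk_surjective
  haveI : Module.Flat A B := by
    let i : B →ₗ[A] A := Submodule.liftQ _ (LinearMap.mulRight A e) (by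
      refine Submodule.span_le.mpr ?_
      rintro _ rfl
      show (1 - e) * e = 0
      rw [sub_mul, _root_.one_mul, he.eq, sub_self])
    refine Module.Flat.of_retract i (Submodule.mkQ _) (LinearMap.ext fun y => ?_)
    obtain ⟨x, rfl⟩ := Ideal.Quotient.mk_surjective y
    show Ideal.Quotient.mk _ (x * e) = Ideal.Quotient.mk _ x
    rw [Ideal.Quotient.eq, Ideal.mem_span_singleton]
    exact ⟨-x, by ring⟩
  haveI : Module.Flat A'' B := Module.Flat.trans A'' A B
  haveI : Module.Free A'' B := Module.free_of_flat_of_isLocalRing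
  let εB : B →ₐ[R] R := Ideal.Quotient.liftₐ _ ε fun x hx => by
    obtain ⟨c, rfl⟩ := Ideal.mem_span_singleton'.mp hx
    rw [map_mul, map_sub, map_one, show ε e = 1 from heε, sub_self, mul_zero]
  let J : Ideal A := I'.map (algebraMap A'' A)
  let JB : Ideal B := I'.map (algebraMap A'' B)
  let C := B ⧸ JB
  have hJB : ∀ x ∈ JB, εB x = 0 := by
    intro x hx
    have hle : JB ≤ RingHom.ker (εB : B →+* R) := Ideal.map_le_iff_le_comap.mpr fun z hz => by
      show ε (algebraMap A'' A z) = 0
      rw [hεapp]; exact hz
    exact hle hx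
  let εC : C →ₐ[R] R := Ideal.Quotient.liftₐ _ εB hJB
  haveI : Algebra.FormallyUnramified R C := by
    have hle : J ≤ RingHom.ker ((Ideal.Quotient.mkₐ R JB).comp (Ideal.Quotient.mkₐ R (Ideal.span ({1 - e} : Set A)))) :=
      Ideal.map_le_iff_le_comap.mpr fun z hz => by
        show Ideal.Quotient.mk JB (algebraMap A'' B z) = 0
        exact Ideal.Quotient.eq_zero_iff_mem.mpr (Ideal.mem_map_of_mem _ hz)
    refine Algebra.FormallyUnramified.of_surjective (Ideal.Quotient.liftₐ J _ fun a ha => hle ha) fun y => ?_
    obtain ⟨b, rfl⟩ := Ideal.Quotient.mk_surjective y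
    obtain ⟨a, rfl⟩ := Ideal.Quotient.mk_surjective b
    exact ⟨Ideal.Quotient.mk J a, rfl⟩
  haveI : Nontrivial C := (εC : C →+* R).domain_nontrivial
  haveI : IsLocalRing C := IsLocalRing.of_surjective' (Ideal.Quotient.mk JB) Ideal.Quotient.mk_surjective
  haveI : IsNoetherianRing C := by
    haveI : Module.Finite R B := Module.Finite.of_surjective (Ideal.Quotient.mkₐ R (Ideal.span ({1 - e} : Set A))).toLinearMap
      Ideal.Quotient.mk_surjective
    haveI : Module.Finite R C := Module.Finite.of_surjective (Ideal.Quotient.mkₐ R JB).toLinearMap Ideal.Quotient.mk_surjective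
    exact IsNoetherianRing.of_finite R C
  have hN : RingHom.ker εC = ⊥ := by
    refine Submodule.eq_bot_of_le_smul_of_le_jacobson_bot (RingHom.ker εC) _ (IsNoetherian.noetherian _) (fun x hx => ?_) ?_
    · exact ker_le_sq εC hx
    · rw [IsLocalRing.jacobson_eq_maximalIdeal ⊥ bot_ne_top]
      refine IsLocalRing.le_maximalIdeal fun h => ?_
      have h1 : (1 : C) ∈ RingHom.ker εC := h ▸ Submodule.mem_top
      rw [RingHom.mem_ker, map_one] at h1
      exact one_ne_zero h1
  have hsurj : Function.Surjective (Algebra.linearMap A'' B) := by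
    rw [← LinearMap.range_eq_top, eq_top_iff]
    refine Submodule.le_of_le_smul_of_le_jacobson_bot Module.Finite.fg_top (I := I') ?_ fun b _ => ?_
    · rw [IsLocalRing.jacobson_eq_maximalIdeal ⊥ bot_ne_top]
      refine IsLocalRing.le_maximalIdeal fun h => ?_
      have h1 : (1 : A'') ∈ I' := h ▸ Submodule.mem_top
      rw [RingHom.mem_ker, map_one] at h1
      exact one_ne_zero h1
    · have h1 : b - algebraMap R B (εB b) ∈ JB := by
        rw [← Ideal.Quotient.eq_zero_iff_mem, ← Ideal.mem_bot, ← hN, RingHom.mem_ker]
        show εB (b - algebraMap R B (εB b)) = 0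
        rw [map_sub, AlgHom.commutes, Algebra.algebraMap_self_apply, sub_self]
      refine Submodule.mem_sup.mpr ⟨algebraMap R B (εB b), ⟨algebraMap R A'' (εB b), (IsScalarTower.algebraMap_apply R A'' B _).symm⟩,
        b - algebraMap R B (εB b), ?_, add_sub_cancel _ _⟩
      rw [Ideal.smul_top_eq_map]
      exact h1
  let bs := Module.Free.chooseBasis A'' B
  have hinj : Function.Injective (Algebra.linearMap A'' B) := by
    obtain ⟨i⟩ : Nonempty (Module.Free.ChooseBasisIndex A'' B) := bs.index_nonempty
    intro x y hxy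
    obtain ⟨c, hc⟩ := hsurj (bs i)
    have hci : c * bs.repr 1 i = 1 := by
      have h := congrArg (fun v => bs.repr v i) hc
      rw [Algebra.linearMap_apply, Algebra.algebraMap_eq_smul_one, map_smul] at h
      simpa using h
    have h := congrArg (fun v => bs.repr v i) hxy
    simp only [Algebra.linearMap_apply, Algebra.algebraMap_eq_smul_one, map_smul, Finsupp.smul_apply, smul_eq_mul] at h
    exact (IsUnit.of_mul_eq_one_right c hci).mul_right_cancel h
  exact ⟨hinj, hsurj⟩

end Groth.Agent.S15068
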