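import Groth.Statements.S1507
import Groth.Agent.L10.RelPC.FlatHom

set_option autoImplicit false
universe u
attribute [local instance] HasDerivedCategory.standard
open FlatMor

namespace Groth.Agent.S1507

/-- Let A → B be flat and of finite presentation and I an ideal of B. Then A → B/I is a pseudo-coherent
ring map if and only if I is a pseudo-coherent B-module. -/
theorem result {A B : Type u} [CommRing A] [CommRing B] [Algebra A B] [Module.Flat A B] [Algebra.FinitePresentation A B] (I : Ideal B) :
    MoreMor.IsPseudoCoherentHom A (B ⧸ I) ↔ DRing.IsPseudoCoherentModule' B ↥I := by
  exact Groth.L10.RelPC.isPseudoCoherentHom_quotient_iff I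

end Groth.Agent.S1507
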