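import Groth.Statements.S15070
import Groth.Agent.L15.CohFlat
import Groth.Agent.L03.RefRegSch
import Groth.Agent.L03.RefNormal
import Groth.Agent.L21.Smooth.Scheme
import Groth.Agent.L16.NegPow.Gen
import Groth.Agent.L16.CohSupport
import Groth.Agent.L12.DefoSh.Tensor

set_option autoImplicit false
universe u
open CategoryTheory CategoryTheory.Limits AlgebraicGeometry
open OrdSurf

namespace Groth.Agent.S15070

/-- Let k be an algebraically closed field of characteristic zero and X a smooth projective surface over
k (an integral k-scheme, smooth over k, of dimension two, admitting a closed immersion over k into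
some projective space P^n_k). Let N be a coherent O_X-module all of whose stalks are torsion-free
modules over the local rings, M a finite locally free O_X-module and φ : M → N an epimorphism of
O_X-modules. Then the kernel of φ is a finite locally free O_X-module. -/
theorem result (k : Type u) [Field k] [IsAlgClosed k] [CharZero k]
    (X : Scheme.{u}) [X.Over (Spec (CommRingCat.of k))] [IsIntegral X]
    [Smooth (X ↘ Spec (CommRingCat.of k))] (hdim : topologicalKrullDim X = 2)
    (hproj : ∃ (n : ℕ) (ι : X ⟶ CohB1.ProjSpace n k), IsClosedImmersion ι ∧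
      ι ≫ CohB1.ProjSpace.toSpec n k = X ↘ Spec (CommRingCat.of k))
    (N : X.Modules) (hN : Coh.IsCoh N) (hNtf : TorSh.IsTorsionFree N)
    (M : X.Modules) (hM : FlatMod.IsFinLocFree M) (φ : M ⟶ N) [Epi φ] :
    FlatMod.IsFinLocFree (kernel φ) := by
  haveI : IsLocallyNoetherian X :=
    LocallyOfFiniteType.isLocallyNoetherian (X ↘ Spec (CommRingCat.of k))
  have hreg : ∀ x : X, IsRegularLocalRing (X.presheaf.stalk x) :=
    Groth.L21.Smooth.regular_stalk (X ↘ Spec (CommRingCat.of k))
  have hMc : Coh.IsCoh M := Groth.L16.NegPow.isCoh_of_isFinLocFree hM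
  haveI : Coh.IsQCoh N := hN.1
  have hK : Coh.IsCoh (kernel φ) := Groth.L16.CohSupport.isCoh_kernel hMc φ
  have hMr : RefHull.IsReflexive M := (Groth.L15.Ref.isReflexive_iff_stalks hMc).2 fun x => by
    haveI := Groth.L12.DefoSh.free_stalk hM x
    haveI := Groth.L15.Ref.finite_stalk hMc x
    show Module.IsReflexive _ _
    infer_instance
  let S : ShortComplex X.Modules := ShortComplex.mk (kernel.ι φ) φ (kernel.condition φ)
  have hS : S.ShortExact :=
    { exact := ShortComplex.exact_kernel φ
      mono_f := inferInstanceAs (Mono (kernel.ι φ))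
      epi_g := ‹Epi φ› }
  haveI : Coh.IsQCoh (kernel φ) := hK.1
  have hKtf : ∀ y, Module.IsTorsionFree (X.presheaf.stalk y) ((kernel φ).presheaf.stalk y) := fun y => by
    haveI := Groth.L15.Ref.isTorsionFree_stalk hMc hMr y
    have hinj : Function.Injective (RefHull.stalkMapₗ (kernel.ι φ) y) :=
      (Groth.L21.Mod.mono_iff_stalk_injective (kernel.ι φ)).1 inferInstance y
    exact hinj.moduleIsTorsionFree _ (fun r v => map_smul (RefHull.stalkMapₗ (kernel.ι φ) y) r v)
  have hKr : RefHull.IsReflexive (kernel φ) :=
    Groth.L03.RefNormal.isReflexive_of_normal hreg hK hKtf fun U V hVU hc =>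
      Groth.L03.RefNormal.normal_of_sub hreg S hS hK hMc hN hMr hNtf hVU hc
  refine Groth.L15.CohFlat.isFinLocFree_of_isCoh_isFlat _ hK fun x => ?_
  haveI := Groth.L03.RefRegSch.free_stalk_of_dim_le_two hreg hK hKr
    ((Groth.L15.CohFlat.ringKrullDim_stalk_le x).trans_eq hdim)
  exact Module.Flat.of_free

end Groth.Agent.S15070
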