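import Groth.Statements.S15071
import Groth.Agent.L03.ShStab.StableHom
import Groth.Agent.L21.Smooth.Scheme
import Groth.Agent.L16.NegPow.Gen
import Groth.Agent.L16.CohSupport
import Groth.Agent.L16.CohKernel
import Groth.Agent.L12.DefoSh.Tensor

set_option autoImplicit false
universe u
open CategoryTheory CategoryTheory.Limits AlgebraicGeometry
open OrdSurf

namespace Groth.Agent.S15071

/-- Let k be an algebraically closed field of characteristic zero and X a smooth projective surface over
k (an integral k-scheme, smooth over k, of dimension two, admitting a closed immersion over k into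
some projective space P^n_k). Let φ : M → N be a monomorphism between finite locally free
O_X-modules. Then either φ is an isomorphism, or the support of the cokernel of φ contains a point
of X whose local ring has Krull dimension at most one, i.e. the support has codimension at most one
in X. (The published statement phrases the first alternative as M and N being isomorphic; the
argument shows that the given monomorphism is an isomorphism, which is the form stated here.) -/
theorem result (k : Type u) [Field k] [IsAlgClosed k] [CharZero k]
    (X : Scheme.{u}) [X.Over (Spec (CommRingCat.of k))] [IsIntegral X]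
    [Smooth (X ↘ Spec (CommRingCat.of k))] (hdim : topologicalKrullDim X = 2)
    (hproj : ∃ (n : ℕ) (ι : X ⟶ CohB1.ProjSpace n k), IsClosedImmersion ι ∧
      ι ≫ CohB1.ProjSpace.toSpec n k = X ↘ Spec (CommRingCat.of k))
    (M N : X.Modules) (hM : FlatMod.IsFinLocFree M) (hN : FlatMod.IsFinLocFree N)
    (φ : M ⟶ N) [Mono φ] :
    IsIso φ ∨ ∃ x : X, x ∈ CohB1.support (cokernel φ) ∧ ringKrullDim (X.presheaf.stalk x) ≤ 1 := by
  haveI : IsLocallyNoetherian X :=
    LocallyOfFiniteType.isLocallyNoetherian (X ↘ Spec (CommRingCat.of k))
  by_contra h
  simp only [not_or, not_exists, not_and, not_le] at h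
  refine h.1 ?_
  have hMc : Coh.IsCoh M := Groth.L16.NegPow.isCoh_of_isFinLocFree hM
  have hNc : Coh.IsCoh N := Groth.L16.NegPow.isCoh_of_isFinLocFree hN
  have href : ∀ {P : X.Modules}, FlatMod.IsFinLocFree P → Coh.IsCoh P → RefHull.IsReflexive P := fun hP hPc =>
    (Groth.L15.Ref.isReflexive_iff_stalks hPc).2 fun x => by
      haveI := Groth.L12.DefoSh.free_stalk hP x
      haveI := Groth.L15.Ref.finite_stalk hPc x
      show Module.IsReflexive _ _
      infer_instance
  haveI : Coh.IsQCoh N := hNc.1
  refine Groth.L03.ShStab.StableHom.isIso_of_mono (Groth.L21.Smooth.regular_stalk (X ↘ Spec (CommRingCat.of k)))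
    hMc (href hM hMc) (fun x => Groth.L15.Ref.isTorsionFree_stalk hNc (href hN hNc) x) φ
    (Groth.L16.CohSupport.isClosed_support _ (Groth.L16.CohKernel.isCoh_kernel_cokernel hMc hNc φ).2.2) ?_
  intro x hx
  have h2 := h.2 x hx
  obtain ⟨d, hd⟩ := Groth.L01.exists_dim_eq_nat (R := X.presheaf.stalk x)
  rw [hd] at h2 ⊢
  norm_cast at h2 ⊢

end Groth.Agent.S15071
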