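import Groth.Statements.S15075
import Groth.Agent.L13.OrdSurf.Basic

set_option autoImplicit false
universe u
open CategoryTheory CategoryTheory.Limits AlgebraicGeometry TopologicalSpace Opposite
open OrdSurf

namespace Groth.Agent.S15075

/-- Let k be an algebraically closed field of characteristic zero and X a smooth projective surface over
k (an integral k-scheme, smooth over k, of dimension two, admitting a closed immersion over k into
some projective space P^n_k), with generic point η. Let A be a sheaf of rings on X with a morphism φ
: O_X → A of sheaves of rings with central image (a sheaf of O_X-algebras) whose generic stalk A_η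
is a division ring, i.e. simple as a left module over itself. Let M and N be sheaves of A-modules
whose underlying O_X-modules (through φ) are coherent with torsion-free stalks, and whose generic
stalks M_η and N_η are simple A_η-modules (one-dimensional over the division ring A_η). Then every
nonzero morphism of sheaves of A-modules M → N is a monomorphism. (The published statement takes A
to be an order on X — coherent and torsion-free over O_X with A_η a central division algebra over
k(X) — and M, N torsion-free A-modules of rank one; of these hypotheses only the ones listed are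
assumed here, the others playing no role in the argument.) -/
theorem result (k : Type u) [Field k] [IsAlgClosed k] [CharZero k]
    (X : Scheme.{u}) [X.Over (Spec (CommRingCat.of k))] [IsIntegral X]
    [Smooth (X ↘ Spec (CommRingCat.of k))] (hdim : topologicalKrullDim X = 2)
    (hproj : ∃ (n : ℕ) (ι : X ⟶ CohB1.ProjSpace n k), IsClosedImmersion ι ∧
      ι ≫ CohB1.ProjSpace.toSpec n k = X ↘ Spec (CommRingCat.of k))
    (A : Sheaf (Opens.grothendieckTopology X) RingCat.{u}) (φ : X.ringCatSheaf ⟶ A)
    (hcen : ∀ (U : (Opens X)ᵒᵖ) (s : X.ringCatSheaf.obj.obj U) (a : A.obj.obj U),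
      φ.hom.app U s * a = a * φ.hom.app U s)
    (hAη : IsSimpleModule (↑(TopCat.Presheaf.stalk (C := RingCat.{u}) (X := X.carrier) A.obj (genericPoint X))) (↑(TopCat.Presheaf.stalk (C := RingCat.{u}) (X := X.carrier) A.obj (genericPoint X))))
    (M N : SheafOfModules.{u} A)
    (hMc : Coh.IsCoh (X := X) ((SheafOfModules.restrictScalars φ).obj M))
    (hNc : Coh.IsCoh (X := X) ((SheafOfModules.restrictScalars φ).obj N))
    (hMt : TorSh.IsTorsionFree (X := X) ((SheafOfModules.restrictScalars φ).obj M))
    (hNt : TorSh.IsTorsionFree (X := X) ((SheafOfModules.restrictScalars φ).obj N))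
    (hMη : IsSimpleModule (↑(TopCat.Presheaf.stalk (C := RingCat.{u}) (X := X.carrier) A.obj (genericPoint X))) (↑(TopCat.Presheaf.stalk (C := Ab.{u}) (X := X.carrier) M.val.presheaf (genericPoint X))))
    (hNη : IsSimpleModule (↑(TopCat.Presheaf.stalk (C := RingCat.{u}) (X := X.carrier) A.obj (genericPoint X))) (↑(TopCat.Presheaf.stalk (C := Ab.{u}) (X := X.carrier) N.val.presheaf (genericPoint X))))
    (ψ : M ⟶ N) (hψ : ψ ≠ 0) : Mono ψ := by
  haveI : Coh.IsQCoh (X := X) ((SheafOfModules.restrictScalars φ).obj M) := hMc.1
  haveI : Coh.IsQCoh (X := X) ((SheafOfModules.restrictScalars φ).obj N) := hNc.1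
  set η := genericPoint X with hη
  have hmem : ∀ (U : X.Opens), (U : Set X).Nonempty → η ∈ U := fun U hU =>
    (genericPoint_specializes hU.some).mem_open U.2 hU.some_mem
  have hempty : ∀ (P : SheafOfModules.{u} A) (U : X.Opens), ¬ (U : Set X).Nonempty →
      ∀ s t : P.val.obj (op U), s = t := fun P U hU s t => by
    refine TopCat.Presheaf.section_ext ((SheafOfModules.toSheaf A).obj P) U s t fun x hx => ?_
    exact absurd ⟨x, hx⟩ hU
  have hinj : Function.Injective (Groth.L13.OrdSurf.stalkLin ψ η) := by
    rw [← LinearMap.ker_eq_bot]
    haveI := hMη.toIsSimpleOrder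
    refine (IsSimpleOrder.eq_bot_or_eq_top _).resolve_right fun htop => hψ ?_
    refine SheafOfModules.hom_ext (PresheafOfModules.hom_ext ?_)
    intro ⟨U⟩
    ext m
    by_cases hU : (U : Set X).Nonempty
    · refine Groth.L13.OrdSurf.section_eq_zero_of_generic
        (X := X) ((SheafOfModules.restrictScalars φ).obj N) hNt (hmem U hU) _ ?_
      refine Eq.trans (Groth.L13.OrdSurf.stalkLin_germ ψ η U (hmem U hU) m).symm ?_
      exact (LinearMap.congr_fun (LinearMap.ker_eq_top.mp htop) _ :)
    · exact hempty N U hU _ _
  refine ⟨fun {Z} g h e => SheafOfModules.hom_ext (PresheafOfModules.hom_ext ?_)⟩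
  intro ⟨U⟩
  ext z
  by_cases hU : (U : Set X).Nonempty
  · have he : (ψ.val.app (op U)).hom ((g.val.app (op U)).hom z) =
        (ψ.val.app (op U)).hom ((h.val.app (op U)).hom z) :=
      congrArg (fun f : Z ⟶ N => (f.val.app (op U)).hom z) e
    rw [← sub_eq_zero]
    refine Groth.L13.OrdSurf.section_eq_zero_of_generic
      (X := X) ((SheafOfModules.restrictScalars φ).obj M) hMt (hmem U hU) _ ?_
    refine hinj ((Groth.L13.OrdSurf.stalkLin_germ ψ η U (hmem U hU) _).trans ?_)
    refine Eq.trans (congrArg _ ((map_sub _ _ _).trans (sub_eq_zero.mpr he))) ?_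
    exact (map_zero _).trans (map_zero _).symm
  · exact hempty M U hU _ _

end Groth.Agent.S15075
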