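import Groth.Statements.S15077
import Groth.Agent.L16.Existence.Twist
import Groth.Agent.L08.Cube.Inverse
import Groth.Agent.L29.DCoh.FreeIso
import Groth.Agent.L18.Ample
import Groth.Agent.L18.GenLocus
import Groth.Agent.L22.Reg.Chase
import Groth.Agent.L16.ProjSpace.Basic

set_option autoImplicit false
universe u
open CategoryTheory CategoryTheory.Limits AlgebraicGeometry
open OrdSurf

namespace Groth.Agent.S15077

open Groth.L00.Tensor

/-- The global function of an endomorphism of the structure module. -/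
noncomputable def val {X : Scheme.{u}} (φ : Coh.structureModule X ⟶ Coh.structureModule X) : Γ(X, ⊤) :=
  φ.app ⊤ (1 : Γ(X, ⊤))

theorem isIso_end_structure {X : Scheme.{u}} (hf : IsField Γ(X, ⊤))
    (φ : Coh.structureModule X ⟶ Coh.structureModule X) (hφ : φ ≠ 0) : IsIso φ := by
  have ha : val φ ≠ 0 := fun h => hφ (Groth.L16.eq_zero_of_app_top_eq_zero φ h)
  obtain ⟨b, hb⟩ := hf.mul_inv_cancel ha
  have ext : ∀ f g : Coh.structureModule X ⟶ Coh.structureModule X, val f = val g → f = g := fun f g h => by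
    rw [← sub_eq_zero]
    refine Groth.L16.eq_zero_of_app_top_eq_zero _ ?_
    rw [Scheme.Modules.Hom.sub_app]
    exact sub_eq_zero.2 h
  have hc : ∀ f g : Coh.structureModule X ⟶ Coh.structureModule X, val (f ≫ g) = val f * val g := fun f g => by
    refine Eq.trans ?_ (Scheme.Modules.Hom.app_smul g (val f) (1 : Γ(X, ⊤)))
    show g.app ⊤ (val f) = g.app ⊤ (val f • (1 : Γ(X, ⊤)))
    exact congrArg (g.app ⊤) ((mul_one (val f)).symm : val f = val f * 1)
  have hs : val (Groth.L29.DC.Fib.scal b) = b := Groth.L29.DC.Fib.scal_app b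
  have h1 : val (𝟙 (Coh.structureModule X)) = 1 := rfl
  refine ⟨⟨Groth.L29.DC.Fib.scal b, ext _ _ ?_, ext _ _ ?_⟩⟩
  · rw [hc, hs, hb, h1]
  · rw [hc, hs, mul_comm, hb, h1]

theorem isIso_end_invertible {X : Scheme.{u}} (hf : IsField Γ(X, ⊤)) {L : X.Modules}
    (hL : PicF.IsInvertible L) (φ : L ⟶ L) (hφ : φ ≠ 0) : IsIso φ := by
  obtain ⟨N, -, ⟨e⟩⟩ := Groth.L08.Cube.exists_inverse hL
  let e' : (tensorLeftF N).obj L ≅ Coh.structureModule X := tensorComm N L ≪≫ e
  haveI : (tensorLeftF N).IsEquivalence := Groth.L16.Existence.isEquivalence N L e'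
  haveI : (tensorLeftF N).PreservesZeroMorphisms :=
    Functor.preservesZeroMorphisms_of_isLeftAdjoint _
  haveI := isIso_end_structure hf (e'.inv ≫ (tensorLeftF N).map φ ≫ e'.hom) fun h => hφ <| by
    apply (tensorLeftF N).map_injective
    rw [Functor.map_zero]
    have h2 := congrArg (fun t => e'.hom ≫ t ≫ e'.inv) h
    simp only [Category.assoc, comp_zero, zero_comp, Iso.hom_inv_id_assoc] at h2
    rwa [e'.hom_inv_id, Category.comp_id] at h2
  haveI : IsIso ((tensorLeftF N).map φ) := by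
    haveI := IsIso.of_isIso_comp_left e'.inv ((tensorLeftF N).map φ ≫ e'.hom)
    exact IsIso.of_isIso_comp_right ((tensorLeftF N).map φ) e'.hom
  exact isIso_of_reflects_iso φ (tensorLeftF N)

theorem id_ne_zero_of_invertible {X : Scheme.{u}} (hf : IsField Γ(X, ⊤)) {L : X.Modules}
    (hL : PicF.IsInvertible L) : 𝟙 L ≠ 0 := fun h => by
  obtain ⟨N, -, ⟨e⟩⟩ := Groth.L08.Cube.exists_inverse hL
  haveI : (tensorLeftF L).IsEquivalence := Groth.L16.Existence.isEquivalence L N e
  have h0 : 𝟙 (Coh.structureModule X) = 0 := by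
    have hz : Limits.IsZero (CohB1.tensorMod L N) := by
      refine Limits.IsZero.of_iso ((tensorRightF N).map_isZero ?_) (Iso.refl _)
      exact (IsZero.iff_id_eq_zero L).2 h
    exact (IsZero.iff_id_eq_zero _).1 (hz.of_iso e.symm)
  have h1 := congrArg (fun f : Coh.structureModule X ⟶ Coh.structureModule X => f.app ⊤ (1 : Γ(X, ⊤))) h0
  haveI := hf.nontrivial
  exact one_ne_zero (α := Γ(X, ⊤)) h1

/-- A nonzero round trip between invertible modules is an isomorphism of them. -/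
theorem iso_of_retract {X : Scheme.{u}} (hf : IsField Γ(X, ⊤)) {L P : X.Modules}
    (hL : PicF.IsInvertible L) (hP : PicF.IsInvertible P) (f : L ⟶ P) (g : P ⟶ L) (h : f ≫ g ≠ 0) :
    Nonempty (L ≅ P) := by
  haveI := isIso_end_invertible hf hL _ h
  have hr : f ≫ (g ≫ inv (f ≫ g)) = 𝟙 L := by rw [← Category.assoc, IsIso.hom_inv_id]
  have he : ((g ≫ inv (f ≫ g)) ≫ f) ≠ 0 := fun h0 => h (by
    have : f = 0 := by
      rw [← Category.id_comp f, ← hr, Category.assoc, h0, comp_zero]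
    rw [this, zero_comp])
  haveI := isIso_end_invertible hf hP _ he
  have hi : (g ≫ inv (f ≫ g)) ≫ f = 𝟙 P := by
    rw [← cancel_epi ((g ≫ inv (f ≫ g)) ≫ f), Category.comp_id]
    simp only [Category.assoc]
    rw [reassoc_of% hr]
  exact ⟨⟨f, g ≫ inv (f ≫ g), hr, hi⟩⟩

noncomputable def sum4Iso {C : Type*} [Category C] [Preadditive C] [HasBinaryBiproducts C] {A B P Q A' B' P' Q' : C}
    (a : A ≅ A') (b : B ≅ B') (p : P ≅ P') (q : Q ≅ Q') : A ⊞ B ⊞ P ⊞ Q ≅ A' ⊞ B' ⊞ P' ⊞ Q' :=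
  biprod.mapIso a (biprod.mapIso b (biprod.mapIso p q))

noncomputable def pairs {C : Type*} [Category C] [Preadditive C] [HasBinaryBiproducts C] (A B P Q : C) :
    A ⊞ B ⊞ P ⊞ Q ≅ (A ⊞ B) ⊞ (P ⊞ Q) :=
  (biprod.associator _ _ _).symm


/-- Let k be an algebraically closed field of characteristic zero and X a smooth projective surface over
k (an integral k-scheme, smooth over k, of dimension two, admitting a closed immersion over k into
some projective space P^n_k). Let I and J be invertible O_X-modules that are two-torsion, I ⊗ I ≅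
O_X and J ⊗ J ≅ O_X, let K = I ⊗ J, and let F = O_X ⊕ I ⊕ J ⊕ K (so that O_X, I, J, K form a Klein
four-group of classes in Pic X when I, J, K are nontrivial and distinct). Then for every invertible
O_X-module L, the O_X-modules F ⊗ L and F are isomorphic if and only if L is isomorphic to one of
O_X, I, J, K. (The published statement is for the abelian surface E_1 × E_2, with I and J pulled
back from two-torsion line bundles on the two elliptic curves and F the underlying module of the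
quaternion algebra built from them; this row is stated on any smooth projective surface for any
two-torsion invertible I and J.) -/
theorem result (k : Type u) [Field k] [IsAlgClosed k] [CharZero k]
    (X : Scheme.{u}) [X.Over (Spec (CommRingCat.of k))] [IsIntegral X]
    [Smooth (X ↘ Spec (CommRingCat.of k))] (hdim : topologicalKrullDim X = 2)
    (hproj : ∃ (n : ℕ) (ι : X ⟶ CohB1.ProjSpace n k), IsClosedImmersion ι ∧
      ι ≫ CohB1.ProjSpace.toSpec n k = X ↘ Spec (CommRingCat.of k))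
    (I J : X.Modules) (hI : PicF.IsInvertible I) (hJ : PicF.IsInvertible J)
    (hI2 : Nonempty (CohB1.tensorMod I I ≅ Coh.structureModule X))
    (hJ2 : Nonempty (CohB1.tensorMod J J ≅ Coh.structureModule X))
    (L : X.Modules) (hL : PicF.IsInvertible L) :
    Nonempty (CohB1.tensorMod (Coh.structureModule X ⊞ I ⊞ J ⊞ CohB1.tensorMod I J) L ≅
        Coh.structureModule X ⊞ I ⊞ J ⊞ CohB1.tensorMod I J) ↔
      (Nonempty (L ≅ Coh.structureModule X) ∨ Nonempty (L ≅ I) ∨ Nonempty (L ≅ J) ∨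
        Nonempty (L ≅ CohB1.tensorMod I J)) := by
  haveI : IsProper (X ↘ Spec (CommRingCat.of k)) := by
    obtain ⟨n, ι, hι, hc⟩ := hproj
    rw [← hc]; infer_instance
  have hf := isField_of_universallyClosed k (X ↘ Spec (CommRingCat.of k))
  have hO := Groth.L18.Ample.isInvertible_structureModule X
  have hK := Groth.L18.GenLoc.isInvertible_tensor hI hJ
  obtain ⟨eI⟩ := hI2
  obtain ⟨eJ⟩ := hJ2
  let O := Coh.structureModule X
  let K := CohB1.tensorMod I J
  let T : ∀ M : X.Modules, CohB1.tensorMod (O ⊞ I ⊞ J ⊞ K) M ≅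
      CohB1.tensorMod O M ⊞ CohB1.tensorMod I M ⊞ CohB1.tensorMod J M ⊞ CohB1.tensorMod K M := fun M =>
    (Groth.L22.Reg.tensorBiprod M O (I ⊞ J ⊞ K)).symm ≪≫
      biprod.mapIso (Iso.refl _) ((Groth.L22.Reg.tensorBiprod M I (J ⊞ K)).symm ≪≫
        biprod.mapIso (Iso.refl _) (Groth.L22.Reg.tensorBiprod M J K).symm)
  constructor
  · rintro ⟨e⟩
    obtain ⟨e2⟩ : Nonempty (O ⊞ I ⊞ J ⊞ K ≅ CohB1.tensorMod O L ⊞ CohB1.tensorMod I L ⊞
        CohB1.tensorMod J L ⊞ CohB1.tensorMod K L) := ⟨e.symm ≪≫ T L⟩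
    let ι : L ⟶ O ⊞ I ⊞ J ⊞ K := (tensorUnitLeft L).inv ≫ biprod.inl ≫ e2.inv
    let π : O ⊞ I ⊞ J ⊞ K ⟶ L := e2.hom ≫ biprod.fst ≫ (tensorUnitLeft L).hom
    have hιπ : ι ≫ π = 𝟙 L := by
      simp only [ι, π, Category.assoc]
      rw [e2.inv_hom_id_assoc, biprod.inl_fst_assoc]
      exact (tensorUnitLeft L).inv_hom_id
    have htot : 𝟙 (O ⊞ I ⊞ J ⊞ K) =
        biprod.fst ≫ biprod.inl +
        (biprod.snd ≫ biprod.fst) ≫ (biprod.inl ≫ biprod.inr) +
        (biprod.snd ≫ biprod.snd ≫ biprod.fst) ≫ (biprod.inl ≫ biprod.inr ≫ biprod.inr) +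
        (biprod.snd ≫ biprod.snd ≫ biprod.snd) ≫ (biprod.inr ≫ biprod.inr ≫ biprod.inr) := by
      refine biprod.hom_ext _ _ ?_ (biprod.hom_ext _ _ ?_ (biprod.hom_ext _ _ ?_ ?_)) <;> simp
    have hne : ∀ {P : X.Modules}, PicF.IsInvertible P → ∀ (p : O ⊞ I ⊞ J ⊞ K ⟶ P) (q : P ⟶ O ⊞ I ⊞ J ⊞ K),
        ¬ Nonempty (L ≅ P) → ι ≫ p ≫ q ≫ π = 0 := fun hP p q hn => by
      by_contra h
      exact hn (iso_of_retract hf hL hP (ι ≫ p) (q ≫ π) (by simpa only [Category.assoc] using h))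
    by_contra hcon
    simp only [not_or] at hcon
    have h0 := congrArg (fun t => ι ≫ t ≫ π) htot
    simp only [Preadditive.comp_add, Preadditive.add_comp, Category.id_comp, hιπ, Category.assoc] at h0
    have hA := hne hO (biprod.fst) (biprod.inl) hcon.1
    have hB := hne hI (biprod.snd ≫ biprod.fst) (biprod.inl ≫ biprod.inr) hcon.2.1
    have hC := hne hJ (biprod.snd ≫ biprod.snd ≫ biprod.fst) (biprod.inl ≫ biprod.inr ≫ biprod.inr) hcon.2.2.1
    have hD := hne hK (biprod.snd ≫ biprod.snd ≫ biprod.snd) (biprod.inr ≫ biprod.inr ≫ biprod.inr) hcon.2.2.2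
    simp only [Category.assoc] at hA hB hC hD
    rw [hA, hB, hC, hD, add_zero, add_zero, add_zero] at h0
    exact id_ne_zero_of_invertible hf hL h0
  · have hOM : ∀ M : X.Modules, CohB1.tensorMod O M ≅ M := fun M => tensorUnitLeft M
    have hMO : ∀ M : X.Modules, CohB1.tensorMod M O ≅ M := fun M => tensorUnitRight M
    let IK : CohB1.tensorMod I K ≅ J :=
      (tensorAssoc I I J).symm ≪≫ tensorIso eI (Iso.refl J) ≪≫ hOM J
    let JI : CohB1.tensorMod J I ≅ K := tensorComm J I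
    let KJ : CohB1.tensorMod K J ≅ I :=
      tensorAssoc I J J ≪≫ tensorIso (Iso.refl I) eJ ≪≫ hMO I
    let KK : CohB1.tensorMod K K ≅ O :=
      tensorMiddleFour I J I J ≪≫ tensorIso eI eJ ≪≫ hOM O
    rintro (⟨⟨eL⟩⟩ | ⟨⟨eL⟩⟩ | ⟨⟨eL⟩⟩ | ⟨⟨eL⟩⟩) <;>
      refine ⟨tensorIso (Iso.refl (O ⊞ I ⊞ J ⊞ K)) eL ≪≫ ?_⟩
    · exact hMO _
    · exact T I ≪≫ sum4Iso (hOM I) eI JI (tensorComm K I ≪≫ IK) ≪≫ pairs _ _ _ _ ≪≫
        biprod.mapIso (biprod.braiding _ _) (biprod.braiding _ _) ≪≫ (pairs _ _ _ _).symm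
    · exact T J ≪≫ sum4Iso (hOM J) (Iso.refl K) eJ KJ ≪≫ pairs _ _ _ _ ≪≫
        biprod.braiding _ _ ≪≫ (pairs _ _ _ _).symm
    · exact T K ≪≫ sum4Iso (hOM K) IK (tensorComm J K ≪≫ KJ) KK ≪≫ pairs _ _ _ _ ≪≫
        biprod.mapIso (biprod.braiding _ _) (biprod.braiding _ _) ≪≫ biprod.braiding _ _ ≪≫
          (pairs _ _ _ _).symm

end Groth.Agent.S15077
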