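import Groth.Statements.S15079
import Groth.Agent.L13.TwistLead
import Mathlib.RingTheory.AdjoinRoot

set_option autoImplicit false
universe u v
open MovLem

namespace Groth.Agent.S15079

/-- Let k be an infinite perfect field, r, m ≥ 1, and let f be an irreducible polynomial in t over
k[x_1, …, x_r] whose constant term in t is a unit of k[x_1, …, x_r], so that the hypersurface Z : f
= 0 in affine (r+1)-space with coordinates x_1, …, x_r, t is integral and does not meet the divisor
t = 0 (the modulus condition in cubical degree one). Then there are a nonzero polynomial h in k[x_1,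
…, x_r] and an integer s₀ such that for every s ≥ s₀, every field K over k and every point g of K^r
with h(g) ≠ 0, the translate of Z_K by the automorphism x_i ↦ x_i + t^{s(m+1)} g_i, t ↦ t is finite
and surjective over affine r-space over K: the quotient of K[x_1, …, x_r][t] by the translated
equation is a finitely generated K[x_1, …, x_r]-module and K[x_1, …, x_r] maps injectively into it.
(The published statement allows every nonzero point g of affine r-space; for r = 2 and f = x_1 t − 1
the point g = (0, 1) translates Z to itself, which is not finite over the affine plane, so the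
conclusion is stated here for g in a nonempty open subset h ≠ 0, which is what the published proof
establishes.) -/
theorem result
    {k : Type u} [Field k] [Infinite k] [PerfectField k] (r m : ℕ) (hr : 1 ≤ r) (hm : 1 ≤ m)
    (f : Polynomial (MvPolynomial (Fin r) k)) (hirr : Irreducible f) (h0 : IsUnit (f.coeff 0)) :
    ∃ h : MvPolynomial (Fin r) k, h ≠ 0 ∧ ∃ s₀ : ℕ, ∀ s : ℕ, s₀ ≤ s →
      ∀ (K : Type v) [Field K] [Algebra k K] (g : Fin r → K), MvPolynomial.aeval g h ≠ 0 →
        ∀ F : Polynomial (MvPolynomial (Fin r) K),
          F = Polynomial.eval₂ (MvPolynomial.aeval (fun i : Fin r => Polynomial.C (MvPolynomial.X i) + Polynomial.C (MvPolynomial.C (g i)) * Polynomial.X ^ (s * (m + 1))) : MvPolynomial (Fin r) k →ₐ[k] Polynomial (MvPolynomial (Fin r) K)).toRingHom Polynomial.X f →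
          Module.Finite (MvPolynomial (Fin r) K) (Polynomial (MvPolynomial (Fin r) K) ⧸ Ideal.span {F}) ∧
          Function.Injective ((Ideal.Quotient.mk (Ideal.span {F})).comp (algebraMap (MvPolynomial (Fin r) K) (Polynomial (MvPolynomial (Fin r) K)))) := by
  classical
  obtain ⟨h, hh0, s₀, hs⟩ := Groth.L13.TwistLead.exists_leading.{u, v} r m f hirr.ne_zero
  refine ⟨h, hh0, s₀, fun s hss K _ _ g hg F hF => ?_⟩
  obtain ⟨c, hc0, hc⟩ := hs s hss K g hg
  change F = Polynomial.eval₂ (Groth.L13.TwistLead.sub (k := k) (s * (m + 1)) g).toRingHom Polynomial.X f at hF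
  rw [← hF] at hc
  have hdegf : f.natDegree ≠ 0 := by
    intro h'
    have : f = Polynomial.C (f.coeff 0) := Polynomial.eq_C_of_natDegree_eq_zero h'
    exact hirr.not_isUnit (this ▸ h0.map Polynomial.C)
  have hdegF : F.natDegree ≠ 0 := by
    intro h'
    let ψ : MvPolynomial (Fin r) K →ₐ[K] Polynomial (MvPolynomial (Fin r) K) :=
      MvPolynomial.aeval fun i => Polynomial.C (MvPolynomial.X i) - Polynomial.C (MvPolynomial.C (g i)) * Polynomial.X ^ (s * (m + 1))
    let Ψ : Polynomial (MvPolynomial (Fin r) K) →+* Polynomial (MvPolynomial (Fin r) K) :=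
      Polynomial.eval₂RingHom ψ.toRingHom Polynomial.X
    have hΨ : Ψ F = f.map (MvPolynomial.map (algebraMap k K)) := by
      rw [hF, Polynomial.hom_eval₂, show Ψ Polynomial.X = Polynomial.X from Polynomial.eval₂_X _ _, Polynomial.map]
      congr 1
      refine MvPolynomial.ringHom_ext (fun a => ?_) (fun i => ?_)
      · simp [Ψ, ψ, Groth.L13.TwistLead.sub, Polynomial.algebraMap_apply, MvPolynomial.algebraMap_apply]
      · simp [Ψ, ψ, Groth.L13.TwistLead.sub]
    have hFc : F = Polynomial.C (MvPolynomial.C c) := by
      rw [← hc, Polynomial.leadingCoeff, h']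
      exact Polynomial.eq_C_of_natDegree_eq_zero h'
    have : (Ψ F).natDegree = 0 := by rw [hFc]; simp [Ψ, ψ, Polynomial.algebraMap_apply]
    rw [hΨ, Polynomial.natDegree_map_eq_of_injective (MvPolynomial.map_injective _ (algebraMap k K).injective)] at this
    exact hdegf this
  set G := F * Polynomial.C (MvPolynomial.C c⁻¹) with hG
  have hGm : G.Monic := by
    rw [hG, Polynomial.Monic, Polynomial.leadingCoeff_mul, hc, Polynomial.leadingCoeff_C, ← map_mul, mul_inv_cancel₀ hc0, map_one]
  have hu : IsUnit (Polynomial.C (MvPolynomial.C c⁻¹ : MvPolynomial (Fin r) K)) :=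
    ((IsUnit.mk0 _ (inv_ne_zero hc0)).map MvPolynomial.C).map Polynomial.C
  rw [← Ideal.span_singleton_mul_right_unit hu F, ← hG]
  refine ⟨hGm.finite_quotient, ?_⟩
  rw [injective_iff_map_eq_zero]
  intro a ha
  rw [RingHom.comp_apply, Ideal.Quotient.eq_zero_iff_mem, Ideal.mem_span_singleton, Polynomial.algebraMap_eq] at ha
  have hGd : 0 < G.natDegree := by
    rw [hG, Polynomial.natDegree_mul_C_eq_of_mul_ne_zero (by rw [hc, ← map_mul, mul_inv_cancel₀ hc0, map_one]; exact one_ne_zero)]
    exact Nat.pos_of_ne_zero hdegF
  have := Polynomial.eq_zero_of_dvd_of_degree_lt ha (lt_of_le_of_lt Polynomial.degree_C_le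
    (Polynomial.natDegree_pos_iff_degree_pos.1 hGd))
  simpa using this

end Groth.Agent.S15079
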