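import Groth.Statements.S15082
import Groth.Agent.L14.Shuffle.Bij
import Mathlib.Algebra.BigOperators.Group.Finset.Sigma

set_option autoImplicit false
open W4c2movlemaddchow

namespace Groth.Agent.S15082

/-- Let r, s, t ≥ 1. In the group ring ℤ[S_{r+s+t}] the element Σ_ν sgn(ν) ν, summed over all (r, s,
t)-shuffles ν, equals Σ_τ Σ_σ sgn(τ) sgn(σ) τ ∘ (σ × id), summed over (r+s, t)-shuffles τ and (r,
s)-shuffles σ of the first r+s letters, and also equals Σ_{τ'} Σ_{σ'} sgn(τ') sgn(σ') τ' ∘ (id ×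
σ'), summed over (r, s+t)-shuffles τ' and (s, t)-shuffles σ' of the last s+t letters. (Shuffles are
permutations monotone on each consecutive block; composites apply the right-hand factor first.) -/
theorem result (r s t : ℕ) (hr : 1 ≤ r) (hs : 1 ≤ s) (ht : 1 ≤ t) :
    ((∑ ν ∈ Finset.univ.filter (W4c2movlemaddchow.IsShuffle₃ r s t),
        MonoidAlgebra.single ν (((Equiv.Perm.sign ν : ℤˣ) : ℤ)) :
          MonoidAlgebra ℤ (Equiv.Perm (Fin (r + s + t)))) =
      ∑ τ ∈ Finset.univ.filter (W4c2movlemaddchow.IsShuffle₂ (r + s) t),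
        ∑ σ ∈ Finset.univ.filter (W4c2movlemaddchow.IsShuffle₂ r s),
          MonoidAlgebra.single (τ * W4c2movlemaddchow.extRight (r + s) t σ)
            (((Equiv.Perm.sign τ : ℤˣ) : ℤ) * ((Equiv.Perm.sign σ : ℤˣ) : ℤ))) ∧
    ((∑ ν ∈ Finset.univ.filter (W4c2movlemaddchow.IsShuffle₃ r s t),
        MonoidAlgebra.single ν (((Equiv.Perm.sign ν : ℤˣ) : ℤ)) :
          MonoidAlgebra ℤ (Equiv.Perm (Fin (r + s + t)))) =
      ∑ τ ∈ Finset.univ.filter (fun τ : Equiv.Perm (Fin (r + s + t)) =>
          W4c2movlemaddchow.IsShuffle₂ r (s + t) ((finCongr (Nat.add_assoc r s t)).permCongr τ)),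
        ∑ σ ∈ Finset.univ.filter (W4c2movlemaddchow.IsShuffle₂ s t),
          MonoidAlgebra.single (τ * W4c2movlemaddchow.extLeft r s t σ)
            (((Equiv.Perm.sign τ : ℤˣ) : ℤ) * ((Equiv.Perm.sign σ : ℤˣ) : ℤ))) := by
  classical
  constructor
  · rw [← Finset.sum_product']
    symm
    refine Finset.sum_nbij (fun p => p.1 * W4c2movlemaddchow.extRight (r + s) t p.2) ?_ ?_ ?_ ?_
    · intro p hp
      have := (Groth.Agent.L14.Shuffle.bijOn_right r s t).mapsTo (x := p) (by simpa using hp)
      simpa using this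
    · intro p hp q hq h
      exact (Groth.Agent.L14.Shuffle.bijOn_right r s t).injOn (by simpa using hp) (by simpa using hq) h
    · intro ν hν
      obtain ⟨p, hp, rfl⟩ := (Groth.Agent.L14.Shuffle.bijOn_right r s t).surjOn (a := ν) (by simpa using hν)
      exact ⟨p, by simpa using hp, rfl⟩
    · intro p _
      simp [Groth.Agent.L14.Shuffle.sign_extRight]
  · rw [← Finset.sum_product']
    symm
    refine Finset.sum_nbij (fun p => p.1 * W4c2movlemaddchow.extLeft r s t p.2) ?_ ?_ ?_ ?_
    · intro p hp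
      have := (Groth.Agent.L14.Shuffle.bijOn_left r s t).mapsTo (x := p) (by simpa using hp)
      simpa using this
    · intro p hp q hq h
      exact (Groth.Agent.L14.Shuffle.bijOn_left r s t).injOn (by simpa using hp) (by simpa using hq) h
    · intro ν hν
      obtain ⟨p, hp, rfl⟩ := (Groth.Agent.L14.Shuffle.bijOn_left r s t).surjOn (a := ν) (by simpa using hν)
      exact ⟨p, by simpa using hp, rfl⟩
    · intro p _
      simp [Groth.Agent.L14.Shuffle.sign_extLeft]

end Groth.Agent.S15082
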