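import Groth.Statements.S15084
import Mathlib.RingTheory.Finiteness.Basic

set_option autoImplicit false
universe u
open MovLem

namespace Groth.Agent.S15084

/-- Let A be a Noetherian integrally closed domain with fraction field K, let B be a domain with
fraction field L, and let A → B be an injective ring homomorphism, with K → L the induced map of
fraction fields, such that Spec B → Spec A is surjective (every prime ideal of A is the contraction
of a prime ideal of B). If a ∈ K is such that its image in L lies in B, then a ∈ A. (The published
statement: for a surjective morphism f : Y → X of normal integral separated schemes of finite type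
over a perfect field and a Cartier divisor D on X, if f^*D is effective then D is effective; a
Cartier divisor is locally the divisor of a nonzero rational function a, effectivity of div(a) on a
normal scheme means that a is a regular function, and this row is that local statement, which is
what the published proof establishes.) -/
theorem result
    (A B K L : Type u) [CommRing A] [IsDomain A] [IsNoetherianRing A] [IsIntegrallyClosed A]
    [CommRing B] [IsDomain B] [Field K] [Field L]
    [Algebra A B] [Algebra A K] [IsFractionRing A K] [Algebra B L] [IsFractionRing B L]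
    [Algebra K L] [Algebra A L] [IsScalarTower A K L] [IsScalarTower A B L]
    (hinj : Function.Injective (algebraMap A B))
    (hsurj : ∀ p : Ideal A, p.IsPrime → ∃ q : Ideal B, q.IsPrime ∧ q.comap (algebraMap A B) = p)
    (a : K) (ha : algebraMap K L a ∈ (algebraMap B L).range) :
    a ∈ (algebraMap A K).range := by
  classical
  by_contra hna
  let col : K → Ideal A := fun x => ((1 : Submodule A K).comap (LinearMap.toSpanSingleton A K x))
  have mem_col : ∀ (x : K) (y : A), y ∈ col x ↔ ∃ z : A, algebraMap A K z = algebraMap A K y * x := by
    intro x y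
    simp [col, Submodule.mem_comap, Submodule.mem_one, Algebra.smul_def]
  let S := {I : Ideal A | ∃ c : A, algebraMap A K c * a ∉ (algebraMap A K).range ∧ I = col (algebraMap A K c * a)}
  have hS : S.Nonempty := ⟨_, 1, by simpa using hna, rfl⟩
  obtain ⟨P, ⟨c, hc, rfl⟩, hmax⟩ := set_has_maximal_iff_noetherian.2 ‹IsNoetherianRing A› S hS
  set x := algebraMap A K c * a with hx
  have hP : (col x).IsPrime := by
    refine ⟨?_, ?_⟩
    · intro h
      obtain ⟨z, hz⟩ := (mem_col x 1).1 ((Ideal.eq_top_iff_one _).1 h)
      exact hc ⟨z, by simpa using hz⟩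
    · intro u v huv
      by_contra h
      push Not at h
      have h1 : algebraMap A K (c * u) * a ∉ (algebraMap A K).range := fun ⟨z, hz⟩ => h.1 ((mem_col x u).2 ⟨z, by
        rw [hz, map_mul, hx]; ring⟩)
      refine hmax _ ⟨c * u, h1, rfl⟩ (lt_of_le_of_ne ?_ ?_)
      · intro y hy
        obtain ⟨z, hz⟩ := (mem_col x y).1 hy
        exact (mem_col _ y).2 ⟨u * z, by rw [map_mul, hz, map_mul, hx]; ring⟩
      · intro e
        apply h.2
        rw [e]
        obtain ⟨z, hz⟩ := (mem_col x (u * v)).1 huv
        exact (mem_col _ v).2 ⟨z, by rw [hz, map_mul, map_mul, hx]; ring⟩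
  obtain ⟨d, hd, hd0⟩ : ∃ d ∈ col x, d ≠ 0 := by
    obtain ⟨⟨n, d⟩, hnd⟩ := IsLocalization.surj (nonZeroDivisors A) x
    exact ⟨d, (mem_col x d).2 ⟨n, by rw [mul_comm]; exact hnd.symm⟩, nonZeroDivisors.coe_ne_zero d⟩
  obtain ⟨s, hs, t, ht, hst⟩ : ∃ s ∈ col x, ∃ t, t ∉ col x ∧ algebraMap A K t = algebraMap A K s * x := by
    by_contra h
    push Not at h
    apply hc
    refine IsIntegrallyClosed.isIntegral_iff.1 (?_ : IsIntegral A x)
    let N : Submodule A K := Submodule.map (Algebra.linearMap A K) (col x)
    refine isIntegral_of_smul_mem_submodule N ?_ ?_ x ?_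
    · intro hN
      have : algebraMap A K d ∈ N := ⟨d, hd, rfl⟩
      rw [hN, Submodule.mem_bot] at this
      exact hd0 (IsFractionRing.injective A K (by rw [this, map_zero]))
    · exact (IsNoetherian.noetherian (col x)).map _
    · rintro _ ⟨y, hy, rfl⟩
      obtain ⟨z, hz⟩ := (mem_col x y).1 hy
      refine ⟨z, by_contra fun hz' => h y hy z hz' hz, ?_⟩
      simp [hz, mul_comm]
  obtain ⟨Q, hQ, hQc⟩ := hsurj _ hP
  obtain ⟨b, hb⟩ := ha
  have e : algebraMap A B t = algebraMap A B s * (algebraMap A B c * b) := by
    apply IsFractionRing.injective B L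
    have e2 := congrArg (algebraMap K L) hst
    simp only [map_mul, hx, ← IsScalarTower.algebraMap_apply A K L] at e2
    simp only [map_mul, hb, ← IsScalarTower.algebraMap_apply A B L, e2]
  apply ht
  rw [← hQc, Ideal.mem_comap, e]
  exact Q.mul_mem_right _ (Ideal.mem_comap.1 (hQc.symm ▸ hs))

end Groth.Agent.S15084
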