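import Groth.Statements.S15085
import Groth.Agent.L00.DimClosedSurj
import Groth.Agent.L03.Euler.Dim
import Groth.Agent.L19.IntegralHom
import Groth.Agent.L08.Cube.SmoothStalk

set_option autoImplicit false
universe u
open CategoryTheory CategoryTheory.Limits AlgebraicGeometry
open MovLem

namespace Groth.Agent.S15085

/-- Let k be a field, X an affine scheme of finite type over k which is equidimensional (all irreducible
components have the same dimension), B̂ a proper smooth geometrically integral k-scheme and B ⊆ B̂ a
nonempty affine open subscheme. Let Z be an integral closed subscheme of X ×_k B of dimension dim X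
(that is, of codimension dim B, the product X ×_k B being equidimensional of dimension dim X + dim
B). Then the projection Z → X is finite and maps Z onto an irreducible component of X if and only if
Z is closed in X ×_k B̂. (The published statement allows X to be essentially of finite type, i.e.
also a localization of such a scheme at finitely many points, takes B̂ projective of positive
dimension, and phrases the dimension condition as codimension dim B; this row is the finite-type
case with properness in place of projectivity.) -/
theorem result
    {k : Type u} [Field k] {X Bhat Z : Scheme.{u}}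
    (sX : X ⟶ Spec (CommRingCat.of k)) (sB : Bhat ⟶ Spec (CommRingCat.of k))
    [IsAffine X] [LocallyOfFiniteType sX]
    (hXeq : ∀ T ∈ irreducibleComponents (X : Type u), topologicalKrullDim T = topologicalKrullDim X)
    [IsProper sB] [Smooth sB] [GeometricallyIntegral sB]
    (B : Bhat.Opens) (hB : IsAffineOpen B) (hBne : (B : Set Bhat).Nonempty)
    [IsIntegral Z] (ι : Z ⟶ ((pullback.snd sX sB) ⁻¹ᵁ B).toScheme) [IsClosedImmersion ι]
    (hZ : topologicalKrullDim Z = topologicalKrullDim X)
    (j : Z ⟶ pullback sX sB) (hj : j = ι ≫ ((pullback.snd sX sB) ⁻¹ᵁ B).ι) :
    (IsFinite (j ≫ pullback.fst sX sB) ∧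
        Set.range (j ≫ pullback.fst sX sB).base ∈ irreducibleComponents (X : Type u)) ↔
      IsClosed (Set.range j.base) := by
  let P := (pullback.snd sX sB) ⁻¹ᵁ B
  constructor
  · rintro ⟨hfin, -⟩
    haveI := hfin
    haveI : IsProper (j ≫ pullback.fst sX sB) := inferInstance
    haveI : IsProper j := IsProper.of_comp j (pullback.fst sX sB)
    exact j.isClosedMap.isClosed_range
  · intro hcl
    haveI : IsImmersion j := by rw [hj]; infer_instance
    haveI : IsClosedImmersion j := IsClosedImmersion.of_isPreimmersion j hcl
    haveI : IsAffineHom sX := inferInstance
    haveI : IsAffineHom (pullback.snd sX sB) :=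
      MorphismProperty.pullback_snd sX sB inferInstance
    haveI : IsAffine P.toScheme := (hB.preimage (pullback.snd sX sB) : IsAffineOpen P)
    haveI : IsAffine Z := isAffine_of_isAffineHom ι
    haveI hfin : IsFinite (j ≫ pullback.fst sX sB) :=
      IsFinite.iff_isProper_and_isAffineHom.2 ⟨inferInstance, inferInstance⟩
    refine ⟨hfin, ?_⟩
    let g := j ≫ pullback.fst sX sB
    let T : Set X := Set.range g.base
    have hT : IsClosed T := g.isClosedMap.isClosed_range
    have hTi : IsIrreducible T := by
      show IsIrreducible (Set.range g.base)
      rw [← Set.image_univ]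
      exact (IrreducibleSpace.isIrreducible_univ Z).image _ g.continuous.continuousOn
    haveI : QuasiSober T := (hT.isClosedEmbedding_subtypeVal).quasiSober
    let F : Z → T := Set.rangeFactorization g.base
    have hdim : topologicalKrullDim T = topologicalKrullDim X := by
      rw [← hZ]
      refine (Groth.L00.topologicalKrullDim_eq_of_isClosedMap (F := F) ?_ ?_ ?_ ?_).symm
      · exact g.continuous.subtype_mk _
      · intro C hC
        have : F '' C = Subtype.val ⁻¹' (g.base '' C) := by
          ext t
          constructor
          · rintro ⟨z, hz, rfl⟩
            exact ⟨z, hz, rfl⟩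
          · rintro ⟨z, hz, hzt⟩
            exact ⟨z, hz, Subtype.ext hzt⟩
        rw [this]
        exact (g.isClosedMap C hC).preimage continuous_subtype_val
      · exact Set.rangeFactorization_surjective
      · intro a b hab he
        exact Groth.L19.eq_of_specializes_of_isIntegralHom g hab (congrArg Subtype.val he)
    obtain ⟨C, hC, hTC⟩ := exists_mem_irreducibleComponents_subset_of_isIrreducible T hTi
    by_cases hne : T = C
    · exact (congrArg (· ∈ irreducibleComponents (X : Type u)) hne).mpr hC
    exfalso
    have h1 := Groth.L03.Euler.topologicalKrullDim_add_one_le hT hC.1 hTC hne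
    rw [hdim, hXeq C hC] at h1
    have hk : ringKrullDim k < ⊤ := by
      rw [ringKrullDim_eq_zero_of_field k]
      exact WithBot.coe_lt_coe.2 (WithTop.coe_lt_top 0)
    have hlt := Groth.L08.Cube.topologicalKrullDim_lt_top hk sX
    have hnb : topologicalKrullDim X ≠ ⊥ := by
      haveI : Nonempty X := ⟨g.base (Classical.arbitrary Z)⟩
      unfold topologicalKrullDim
      exact Order.krullDim_ne_bot_iff.2 ⟨⟨closure {Classical.arbitrary (X : Type u)},
        isIrreducible_singleton.closure, isClosed_closure⟩⟩
    revert h1 hlt hnb
    generalize topologicalKrullDim X = d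
    intro h1 hlt hnb
    match d with
    | ⊥ => exact hnb rfl
    | (⊤ : ℕ∞) => exact lt_irrefl _ hlt
    | ((n : ℕ) : ℕ∞) => norm_cast at h1; omega

end Groth.Agent.S15085
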