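import Groth.Statements.S15087
import Groth.Agent.L22.AffineDim
import Mathlib.RingTheory.Jacobson.Ring
import Mathlib.RingTheory.TensorProduct.Finite
import Mathlib.Tactic

set_option autoImplicit false
universe u v w
open MovLem

namespace Groth.Agent.S15087

open scoped TensorProduct
section
open scoped TensorProduct

private lemma s87_alg {k : Type u} [Field k] {C : Type u} [CommRing C] [Algebra k C] [Algebra.FiniteType k C]
    {r : ℕ} (hr : 1 ≤ r) (hC : ringKrullDim C ≤ ((r - 1 : ℕ) : WithBot ℕ∞)) (x : Fin r → C) :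
    ∃ p : MvPolynomial (Fin r) k, p ≠ 0 ∧ MvPolynomial.aeval x p = 0 := by
  by_contra hne
  push Not at hne
  let φ := (MvPolynomial.aeval (R := k) x)
  let S : Submonoid C := (nonZeroDivisors (MvPolynomial (Fin r) k)).map φ
  have hdisj : Disjoint ((⊥ : Ideal C) : Set C) S := by
    rw [Set.disjoint_left]
    rintro _ h0 ⟨p, hp, rfl⟩
    exact hne p (nonZeroDivisors.ne_zero hp) h0
  obtain ⟨q, hq, -, hqS⟩ := Ideal.exists_le_prime_disjoint ⊥ S hdisj
  obtain ⟨d, g, -, -, hd, htr⟩ := Groth.L22.AffineDim.exists_normalization k (C ⧸ q)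
  have hind : AlgebraicIndependent k (fun i => Ideal.Quotient.mkₐ k q (x i)) := by
    rw [algebraicIndependent_iff]
    intro p hp
    rw [← MvPolynomial.comp_aeval, AlgHom.comp_apply, Ideal.Quotient.mkₐ_eq_mk, Ideal.Quotient.eq_zero_iff_mem] at hp
    by_contra hp0
    exact Set.disjoint_left.mp hqS hp ⟨p, mem_nonZeroDivisors_of_ne_zero hp0, rfl⟩
  have h1 := hind.lift_cardinalMk_le_trdeg
  rw [htr] at h1
  have h1' : r ≤ d := by simpa using h1
  have h2 : ringKrullDim (C ⧸ q) ≤ ringKrullDim C := ringKrullDim_quotient_le q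
  rw [hd] at h2
  have h3 : d ≤ r - 1 := by exact_mod_cast h2.trans hC
  omega

end


/-- Let k be an infinite perfect field, r, m, s ≥ 1 and d ≥ 0, and put N = s(m+1). In affine space with
coordinates x_1, …, x_r, t, y_1, …, y_d (the cube of dimension d taken as affine d-space with faces
given by setting some coordinates equal to 0 or 1), let Z = V(I) be an integral closed subscheme of
dimension r which does not meet the hyperplane t = 0 and which meets every face {y_i = ε_i for i ∈
S} (S nonempty, ε_i ∈ {0, 1}) in dimension at most r − |S|. Let Σ be a finite set of closed points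
of affine r-space over k. Then there is a nonzero polynomial h in k[g_1, …, g_r] such that for every
field K over k and every g ∈ K^r with h(g) ≠ 0, the translate of Z_K by x ↦ x + t^N g meets no set
{x ∈ Σ} × A^1 × F with F a proper face: for every field L over K, every point ξ of affine r-space
over L lying on a point of Σ, every t ∈ L and every y ∈ L^d lying on a proper face, the point (ξ +
t^N g, t, y) is not a zero of I. (The published statement assumes that Z is an irreducible
admissible additive cycle meeting the faces through Σ properly; the two consequences of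
admissibility that its proof uses — Z misses t = 0, and Z meets all faces properly — are the
hypotheses here, and the dense open subset of affine r-space is given as the locus h ≠ 0.) -/
theorem result
    {k : Type u} [Field k] [Infinite k] [PerfectField k] (r m s d : ℕ) (hr : 1 ≤ r) (hm : 1 ≤ m) (hs : 1 ≤ s)
    (I : Ideal (MvPolynomial (Fin r ⊕ (Unit ⊕ Fin d)) k)) (hI : I.IsPrime)
    (hdim : ringKrullDim (MvPolynomial (Fin r ⊕ (Unit ⊕ Fin d)) k ⧸ I) = r)
    (ht0 : I ⊔ Ideal.span {MvPolynomial.X (Sum.inr (Sum.inl ()))} = ⊤)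
    (hface : ∀ (S : Finset (Fin d)), S.Nonempty → ∀ (ε : Fin d → k), (∀ i, ε i = 0 ∨ ε i = 1) →
      ringKrullDim (MvPolynomial (Fin r ⊕ (Unit ⊕ Fin d)) k ⧸
        (I ⊔ Ideal.span ((fun i => MvPolynomial.X (Sum.inr (Sum.inr i)) - MvPolynomial.C (ε i)) '' (S : Set (Fin d))))) ≤ (r - S.card : ℕ))
    (Sigma : Finset (Ideal (MvPolynomial (Fin r) k))) (hSigma : ∀ P ∈ Sigma, P.IsMaximal) :
    ∃ h : MvPolynomial (Fin r) k, h ≠ 0 ∧
      ∀ (K : Type v) [Field K] [Algebra k K] (g : Fin r → K), MvPolynomial.aeval g h ≠ 0 →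
        ∀ (L : Type w) [Field L] [Algebra k L] [Algebra K L] [IsScalarTower k K L]
          (ξ : Fin r → L) (t : L) (y : Fin d → L),
          ∀ P ∈ Sigma, (∀ p ∈ P, MvPolynomial.aeval ξ p = 0) →
            ∀ (S : Finset (Fin d)), S.Nonempty → ∀ (ε : Fin d → k), (∀ i, ε i = 0 ∨ ε i = 1) →
              (∀ i ∈ S, y i = algebraMap k L (ε i)) →
                ¬ (∀ q ∈ I, MvPolynomial.aeval
                    (Sum.elim (fun i => ξ i + t ^ (s * (m + 1)) * algebraMap K L (g i))
                      (Sum.elim (fun _ : Unit => t) y)) q = 0) := by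
  classical
  let R := MvPolynomial (Fin r ⊕ (Unit ⊕ Fin d)) k
  let eps : Finset (Fin d) → Fin d → k := fun T i => if i ∈ T then 1 else 0
  let IF : Finset (Fin d) × Finset (Fin d) → Ideal R := fun ST =>
    I ⊔ Ideal.span ((fun i => MvPolynomial.X (Sum.inr (Sum.inr i)) - MvPolynomial.C (eps ST.2 i)) '' (ST.1 : Set (Fin d)))
  obtain ⟨a, ha, b, hb, hab⟩ := Submodule.mem_sup.mp ((Ideal.eq_top_iff_one _).mp ht0)
  obtain ⟨u, rfl⟩ := Ideal.mem_span_singleton'.mp hb
  have hfin : ∀ P ∈ Sigma, Module.Finite k (MvPolynomial (Fin r) k ⧸ P) := fun P hP => by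
    haveI := hSigma P hP
    letI := Ideal.Quotient.field P
    exact finite_of_finite_type_of_isJacobsonRing k _
  let G : (P : Ideal (MvPolynomial (Fin r) k)) → (J : Ideal R) → Fin r → (R ⧸ J) ⊗[k] (MvPolynomial (Fin r) k ⧸ P) :=
    fun P J i => (Ideal.Quotient.mk J (MvPolynomial.X (Sum.inl i)) ⊗ₜ[k] 1 - 1 ⊗ₜ[k] Ideal.Quotient.mk P (MvPolynomial.X i)) *
      (Ideal.Quotient.mk J (u ^ (s * (m + 1))) ⊗ₜ[k] 1)
  have hp : ∀ P ∈ Sigma, ∀ ST : Finset (Fin d) × Finset (Fin d), ∃ p : MvPolynomial (Fin r) k, p ≠ 0 ∧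
      (ST.1.Nonempty → MvPolynomial.aeval (G P (IF ST)) p = 0) := by
    intro P hP ST
    by_cases hS : ST.1.Nonempty
    · haveI := hSigma P hP
      haveI := hfin P hP
      letI := Ideal.Quotient.field P
      have hdimB : ringKrullDim (R ⧸ IF ST) ≤ ((r - 1 : ℕ) : WithBot ℕ∞) := by
        refine (hface ST.1 hS (eps ST.2) fun i => ?_).trans ?_
        · simp only [eps]; split_ifs <;> simp
        · have := hS.card_pos
          exact_mod_cast (by omega : r - ST.1.card ≤ r - 1)
      haveI : Algebra.IsIntegral (R ⧸ IF ST) ((R ⧸ IF ST) ⊗[k] (MvPolynomial (Fin r) k ⧸ P)) :=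
        Algebra.IsIntegral.of_finite _ _
      haveI : Algebra.FiniteType k ((R ⧸ IF ST) ⊗[k] (MvPolynomial (Fin r) k ⧸ P)) :=
        (inferInstance : Algebra.FiniteType k (R ⧸ IF ST)).trans (inferInstance : Algebra.FiniteType (R ⧸ IF ST) ((R ⧸ IF ST) ⊗[k] (MvPolynomial (Fin r) k ⧸ P)))
      have hinj : Function.Injective (algebraMap (R ⧸ IF ST) ((R ⧸ IF ST) ⊗[k] (MvPolynomial (Fin r) k ⧸ P))) :=
        Algebra.TensorProduct.includeLeft_injective (S := k) (algebraMap k (MvPolynomial (Fin r) k ⧸ P)).injective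
      obtain ⟨p, hp0, hp⟩ := s87_alg (k := k) (C := (R ⧸ IF ST) ⊗[k] (MvPolynomial (Fin r) k ⧸ P)) hr
        (le_of_eq_of_le (Groth.L22.AffineDim.ringKrullDim_eq_of_isIntegral hinj) hdimB) (G P (IF ST))
      exact ⟨p, hp0, fun _ => hp⟩
    · exact ⟨1, one_ne_zero, fun h => absurd h hS⟩
  choose p hp0 hp using hp
  refine ⟨∏ P : Sigma, ∏ ST : Finset (Fin d) × Finset (Fin d), p P.1 P.2 ST,
    Finset.prod_ne_zero_iff.mpr fun P _ => Finset.prod_ne_zero_iff.mpr fun ST _ => hp0 _ _ _,
    fun K _ _ g hg L _ _ _ _ ξ t y P hP hξ S hS ε hε hy hI' => hg ?_⟩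
  let T : Finset (Fin d) := S.filter fun i => ε i = 1
  let z : Fin r ⊕ (Unit ⊕ Fin d) → L := Sum.elim (fun i => ξ i + t ^ (s * (m + 1)) * algebraMap K L (g i))
    (Sum.elim (fun _ : Unit => t) y)
  have hz : ∀ q ∈ IF (S, T), MvPolynomial.aeval (R := k) z q = 0 := by
    intro q hq
    have : IF (S, T) ≤ RingHom.ker (MvPolynomial.aeval (R := k) z).toRingHom := by
      refine sup_le (fun q hq => hI' q hq) (Ideal.span_le.mpr ?_)
      rintro _ ⟨i, hi, rfl⟩
      show MvPolynomial.aeval z _ = 0
      have hi' : i ∈ S := hi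
      simp only [map_sub, MvPolynomial.aeval_X, MvPolynomial.aeval_C, z, Sum.elim_inr, eps, hy i hi']
      rcases hε i with h | h <;> simp [T, hi', h]
    exact this hq
  let χ : (R ⧸ IF (S, T)) ⊗[k] (MvPolynomial (Fin r) k ⧸ P) →ₐ[k] L :=
    Algebra.TensorProduct.lift (Ideal.Quotient.liftₐ (IF (S, T)) (MvPolynomial.aeval z) hz)
      (Ideal.Quotient.liftₐ P (MvPolynomial.aeval ξ) hξ) fun _ _ => Commute.all _ _
  have hu : MvPolynomial.aeval (R := k) z u * t = 1 := by
    have := congrArg (MvPolynomial.aeval (R := k) z) hab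
    rw [map_add, hz a (Submodule.mem_sup_left ha), zero_add, map_mul, map_one, MvPolynomial.aeval_X] at this
    exact this
  have h0 := congrArg χ (hp P hP (S, T) hS)
  have key : ∀ q : MvPolynomial (Fin r) k, χ (MvPolynomial.aeval (G P (IF (S, T))) q) =
      MvPolynomial.aeval (fun i => χ (G P (IF (S, T)) i)) q := fun q => by
    induction q using MvPolynomial.induction_on with
    | C a => rw [MvPolynomial.aeval_C, MvPolynomial.aeval_C]; exact χ.commutes a
    | add q q' hq hq' => simp only [map_add, hq, hq']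
    | mul_X q i hq => simp only [map_mul, hq, MvPolynomial.aeval_X]
  rw [map_zero, key] at h0
  have hG : (fun i => χ (G P (IF (S, T)) i)) = fun i => algebraMap K L (g i) := by
    funext i
    simp only [χ, G, map_mul, map_sub, Algebra.TensorProduct.lift_tmul, map_one, one_mul, mul_one,
      Ideal.Quotient.liftₐ_apply, Ideal.Quotient.lift_mk]
    show ((MvPolynomial.aeval z) (MvPolynomial.X (Sum.inl i)) - MvPolynomial.aeval ξ (MvPolynomial.X i)) *
      (MvPolynomial.aeval z) (u ^ (s * (m + 1))) = _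
    rw [MvPolynomial.aeval_X, MvPolynomial.aeval_X, map_pow]
    simp only [z, Sum.elim_inl, add_sub_cancel_left]
    calc t ^ (s * (m + 1)) * algebraMap K L (g i) * MvPolynomial.aeval z u ^ (s * (m + 1))
        = algebraMap K L (g i) * (MvPolynomial.aeval z u * t) ^ (s * (m + 1)) := by ring
      _ = _ := by rw [hu, one_pow, mul_one]
  rw [hG] at h0
  have h1 : MvPolynomial.aeval g (p P hP (S, T)) = 0 := by
    apply (algebraMap K L).injective
    rw [map_zero, ← IsScalarTower.coe_toAlgHom' k K L, ← AlgHom.comp_apply, MvPolynomial.comp_aeval]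
    exact h0
  simp only [map_prod]
  exact Finset.prod_eq_zero (Finset.mem_univ (⟨P, hP⟩ : Sigma)) (Finset.prod_eq_zero (Finset.mem_univ (S, T)) h1)

end Groth.Agent.S15087
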