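import Groth.Statements.S15088
import Mathlib.RingTheory.AdjoinRoot
import Mathlib.RingTheory.Jacobson.Ring
import Mathlib.RingTheory.Algebraic.Integral
import Mathlib.FieldTheory.IsAlgClosed.AlgebraicClosure
import Mathlib.Algebra.MvPolynomial.Equiv
import Mathlib.Tactic

set_option autoImplicit false
universe u v
open MovLem

namespace Groth.Agent.S15088

section
open Polynomial
attribute [local instance] MvPolynomial.algebraMvPolynomial

variable {k : Type u} [Field k] {r : ℕ}

private lemma s88_range {L : Type v} [Field L] [Algebra k L]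
    (ι : AlgebraicClosure k →ₐ[k] L) (x : L) (hx : IsIntegral k x) : ∃ y, ι y = x := by
  classical
  have hne : minpoly k x ≠ 0 := minpoly.ne_zero hx
  have hm : x ∈ (minpoly k x).rootSet L := by
    rw [Polynomial.mem_rootSet_of_ne hne]; exact minpoly.aeval k x
  rw [← (IsAlgClosed.splits ((minpoly k x).map (algebraMap k (AlgebraicClosure k)))).image_rootSet ι] at hm
  obtain ⟨y, -, hy⟩ := hm
  exact ⟨y, hy⟩

private lemma s88_h (q : k[X]) (hq : q ≠ 0) (hq0 : q.coeff 0 ≠ 0) (P0 : MvPolynomial (Fin r) k) (hP0 : P0 ≠ 0)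
    (N : ℕ) (Sigma : Finset (Ideal (MvPolynomial (Fin r) k))) (hSigma : ∀ P ∈ Sigma, P.IsMaximal) :
    ∃ h : MvPolynomial (Fin r) k, h ≠ 0 ∧ ∀ (L : Type v) [Field L] [Algebra k L] [IsAlgClosed L]
      (ξ : Fin r → L) (τ : L) (g : Fin r → L), ∀ P ∈ Sigma, (∀ p ∈ P, MvPolynomial.aeval ξ p = 0) →
        Polynomial.aeval τ q = 0 → MvPolynomial.aeval (fun i => ξ i + τ ^ N * g i) P0 = 0 →
          MvPolynomial.aeval g h = 0 := by
  classical
  have hfin : ∀ P ∈ Sigma, Module.Finite k (MvPolynomial (Fin r) k ⧸ P) := fun P hP => by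
    haveI := hSigma P hP
    letI := Ideal.Quotient.field P
    exact finite_of_finite_type_of_isJacobsonRing k _
  let K0 := AlgebraicClosure k
  let sub : (Fin r → K0) → K0 → MvPolynomial (Fin r) K0 := fun ξ τ =>
    MvPolynomial.aeval (fun i => MvPolynomial.C (ξ i) + MvPolynomial.C (τ ^ N) * MvPolynomial.X i) P0
  have hsub : ∀ ξ τ, τ ≠ 0 → sub ξ τ ≠ 0 := by
    intro ξ τ hτ h
    have := congrArg (MvPolynomial.aeval (R := K0)
      (fun i => MvPolynomial.C ((τ ^ N)⁻¹) * ((MvPolynomial.X i : MvPolynomial (Fin r) K0) - MvPolynomial.C (ξ i)))) h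
    rw [map_zero, ← AlgHom.restrictScalars_apply k, ← AlgHom.comp_apply, MvPolynomial.comp_aeval] at this
    refine hP0 (MvPolynomial.map_injective (algebraMap k K0) (algebraMap k K0).injective ?_)
    rw [map_zero, ← this]
    conv_lhs => rw [← AlgHom.id_apply (R := K0) (MvPolynomial.map (algebraMap k K0) P0), ← MvPolynomial.aeval_X_left,
      MvPolynomial.aeval_map_algebraMap]
    congr 2
    funext i
    show MvPolynomial.X i = MvPolynomial.aeval _ (MvPolynomial.C (ξ i) + MvPolynomial.C (τ ^ N) * MvPolynomial.X i)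
    rw [map_add, map_mul, MvPolynomial.aeval_C, MvPolynomial.aeval_C, MvPolynomial.aeval_X, MvPolynomial.algebraMap_eq,
      ← mul_assoc, ← map_mul, mul_inv_cancel₀ (pow_ne_zero N hτ), map_one, one_mul, add_sub_cancel]
  -- the finite product
  haveI : ∀ P : Sigma, Finite ((MvPolynomial (Fin r) k ⧸ P.1) →ₐ[k] K0) := fun P => by
    haveI := hSigma P.1 P.2
    haveI := hfin P.1 P.2
    infer_instance
  haveI : ∀ P : Sigma, Fintype ((MvPolynomial (Fin r) k ⧸ P.1) →ₐ[k] K0) := fun P => Fintype.ofFinite _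
  let h' : MvPolynomial (Fin r) K0 := ∏ P : Sigma, ∏ φ : (MvPolynomial (Fin r) k ⧸ P.1) →ₐ[k] K0,
    ∏ τ ∈ (q.rootSet K0).toFinset, sub (fun i => φ (Ideal.Quotient.mk P.1 (MvPolynomial.X i))) τ
  have hh' : h' ≠ 0 := by
    refine Finset.prod_ne_zero_iff.mpr fun P _ => Finset.prod_ne_zero_iff.mpr fun φ _ =>
      Finset.prod_ne_zero_iff.mpr fun τ hτ => hsub _ _ fun e => hq0 ?_
    rw [Set.mem_toFinset, Polynomial.mem_rootSet_of_ne hq, e] at hτ
    rw [← Polynomial.coeff_zero_eq_aeval_zero', ← map_zero (algebraMap k K0)] at hτ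
    exact (algebraMap k K0).injective hτ
  obtain ⟨h, hne, hdvd⟩ := ((Algebra.IsAlgebraic.isAlgebraic (R := MvPolynomial (Fin r) k) h')).exists_nonzero_dvd
    (mem_nonZeroDivisors_of_ne_zero hh')
  refine ⟨h, hne, fun L _ _ _ ξ τ g P hP hξ hτ hz => ?_⟩
  haveI := hSigma P hP
  haveI := hfin P hP
  let ι : K0 →ₐ[k] L := IsAlgClosed.lift
  let φL : (MvPolynomial (Fin r) k ⧸ P) →ₐ[k] L := Ideal.Quotient.liftₐ P (MvPolynomial.aeval ξ) hξ
  have hξi : ∀ i, ∃ y, ι y = ξ i := fun i => s88_range ι _ (by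
    have := (Algebra.IsIntegral.isIntegral (R := k) (Ideal.Quotient.mk P (MvPolynomial.X i))).map φL
    simpa [φL] using this)
  choose ξ0 hξ0 using hξi
  have hι : ∀ p, ι (MvPolynomial.aeval ξ0 p) = MvPolynomial.aeval ξ p := fun p => by
    rw [← AlgHom.comp_apply, MvPolynomial.comp_aeval, show (fun i => ι (ξ0 i)) = ξ from funext hξ0]
  let φ0 : (MvPolynomial (Fin r) k ⧸ P) →ₐ[k] K0 := Ideal.Quotient.liftₐ P (MvPolynomial.aeval ξ0)
    fun p hp => ι.toRingHom.injective (by show ι _ = ι 0; rw [hι, map_zero, hξ p hp])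
  obtain ⟨τ0, hτ0⟩ := s88_range ι τ (IsAlgebraic.isIntegral ⟨q, hq, hτ⟩)
  have hτm : τ0 ∈ (q.rootSet K0).toFinset := by
    rw [Set.mem_toFinset, Polynomial.mem_rootSet_of_ne hq]
    apply ι.toRingHom.injective
    show ι _ = ι 0
    rw [← Polynomial.aeval_algHom_apply, hτ0, hτ, map_zero]
  have hd : sub (fun i => φ0 (Ideal.Quotient.mk P (MvPolynomial.X i))) τ0 ∣ h' := by
    refine dvd_trans ?_ (Finset.dvd_prod_of_mem _ (Finset.mem_univ (⟨P, hP⟩ : Sigma)))
    refine dvd_trans ?_ (Finset.dvd_prod_of_mem (a := φ0) _ (by exact @Finset.mem_univ _ (_) _))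
    exact Finset.dvd_prod_of_mem _ hτm
  obtain ⟨c, hc⟩ := hd.trans hdvd
  have h2 := congrArg (MvPolynomial.eval₂ ι.toRingHom g) hc
  rw [MvPolynomial.eval₂_mul, MvPolynomial.algebraMap_def, MvPolynomial.eval₂_map,
    show ι.toRingHom.comp (algebraMap k K0) = algebraMap k L from ι.comp_algebraMap] at h2
  rw [MvPolynomial.aeval_def, h2]
  have h3 : MvPolynomial.eval₂ ι.toRingHom g (sub (fun i => φ0 (Ideal.Quotient.mk P (MvPolynomial.X i))) τ0) = 0 := by
    rw [← hz]
    show ((MvPolynomial.eval₂Hom ι.toRingHom g).comp (MvPolynomial.aeval _).toRingHom) P0 =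
      (MvPolynomial.aeval (fun i => ξ i + τ ^ N * g i)).toRingHom P0
    congr 1
    refine MvPolynomial.ringHom_ext (fun a => ?_) fun i => ?_
    · simp [MvPolynomial.algebraMap_eq, IsScalarTower.algebraMap_apply k K0 (MvPolynomial (Fin r) K0)]
    · simp [φ0, hξ0, hτ0]
  rw [h3, zero_mul]

end


/-- Let k be an infinite perfect field, r, m, s ≥ 1 and d ≥ 0, and put N = s(m+1). In affine space with
coordinates x_1, …, x_r, t, y_1, …, y_d let Z = V(I) be an integral closed subscheme of dimension r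
which does not meet t = 0 and such that neither the projection of Z to the x-coordinates nor its
projection to the t-line is dominant (I contains a nonzero polynomial in the x's alone and a nonzero
polynomial in t alone). Let Σ be a finite set of closed points of affine r-space over k. Then there
is a nonzero polynomial h in k[g_1, …, g_r] such that for every field K over k and every g ∈ K^r
with h(g) ≠ 0 the translate Z_g = {(x, t, y) : (x + t^N g, t, y) ∈ Z_K} of Z_K is empty over an open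
neighbourhood of the points of affine r-space over K lying over Σ: the closure of the image of Z_g
in affine r-space over K (the zero set of the contraction to K[x_1, …, x_r] of the ideal of Z_g)
contains no point lying over a point of Σ. (The published statement assumes that Z is an irreducible
admissible additive cycle meeting the faces through Σ properly; of this its proof uses only that Z
misses t = 0, which is a hypothesis here, and the dense open subset of affine r-space is given as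
the locus h ≠ 0.) -/
theorem result
    {k : Type u} [Field k] [Infinite k] [PerfectField k] (r m s d : ℕ) (hr : 1 ≤ r) (hm : 1 ≤ m) (hs : 1 ≤ s)
    (I : Ideal (MvPolynomial (Fin r ⊕ (Unit ⊕ Fin d)) k)) (hI : I.IsPrime)
    (hdim : ringKrullDim (MvPolynomial (Fin r ⊕ (Unit ⊕ Fin d)) k ⧸ I) = r)
    (ht0 : I ⊔ Ideal.span {MvPolynomial.X (Sum.inr (Sum.inl ()))} = ⊤)
    (hx : Ideal.comap (MvPolynomial.rename (Sum.inl : Fin r → Fin r ⊕ (Unit ⊕ Fin d)) :
        MvPolynomial (Fin r) k →ₐ[k] MvPolynomial (Fin r ⊕ (Unit ⊕ Fin d)) k) I ≠ ⊥)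
    (ht : Ideal.comap (MvPolynomial.rename (fun _ : Unit => (Sum.inr (Sum.inl ()) : Fin r ⊕ (Unit ⊕ Fin d))) :
        MvPolynomial Unit k →ₐ[k] MvPolynomial (Fin r ⊕ (Unit ⊕ Fin d)) k) I ≠ ⊥)
    (Sigma : Finset (Ideal (MvPolynomial (Fin r) k))) (hSigma : ∀ P ∈ Sigma, P.IsMaximal) :
    ∃ h : MvPolynomial (Fin r) k, h ≠ 0 ∧
      ∀ (K : Type v) [Field K] [Algebra k K] (g : Fin r → K), MvPolynomial.aeval g h ≠ 0 →
        ∀ P ∈ Sigma,
          Ideal.comap (MvPolynomial.rename (Sum.inl : Fin r → Fin r ⊕ (Unit ⊕ Fin d)) :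
              MvPolynomial (Fin r) K →ₐ[K] MvPolynomial (Fin r ⊕ (Unit ⊕ Fin d)) K)
            (Ideal.map (MvPolynomial.aeval
                (Sum.elim (fun i : Fin r => MvPolynomial.X (Sum.inl i) +
                    MvPolynomial.X (Sum.inr (Sum.inl ())) ^ (s * (m + 1)) * MvPolynomial.C (g i))
                  (fun j : Unit ⊕ Fin d => MvPolynomial.X (Sum.inr j))) :
                MvPolynomial (Fin r ⊕ (Unit ⊕ Fin d)) k →ₐ[k] MvPolynomial (Fin r ⊕ (Unit ⊕ Fin d)) K) I) ⊔
            Ideal.map (MvPolynomial.map (algebraMap k K) : MvPolynomial (Fin r) k →+* MvPolynomial (Fin r) K) P = ⊤ := by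
  classical
  set N := s * (m + 1) with hN
  obtain ⟨P0, hP0m, hP0⟩ := (Submodule.ne_bot_iff _).mp hx
  obtain ⟨Q0, hQ0m, hQ0⟩ := (Submodule.ne_bot_iff _).mp ht
  obtain ⟨q, hqm, hq0, hmonic⟩ : ∃ q : Polynomial k,
      Polynomial.aeval (MvPolynomial.X (Sum.inr (Sum.inl ())) : (MvPolynomial (Fin r ⊕ (Unit ⊕ Fin d)) k)) q ∈ I ∧ q.coeff 0 ≠ 0 ∧ q.Monic := by
    set p := MvPolynomial.pUnitAlgEquiv k Q0 with hp
    have hpI : Polynomial.aeval (MvPolynomial.X (Sum.inr (Sum.inl ())) : (MvPolynomial (Fin r ⊕ (Unit ⊕ Fin d)) k)) p ∈ I := by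
      rw [hp]
      have : (Polynomial.aeval (MvPolynomial.X (Sum.inr (Sum.inl ())) : (MvPolynomial (Fin r ⊕ (Unit ⊕ Fin d)) k))).comp
          (MvPolynomial.pUnitAlgEquiv k).toAlgHom = MvPolynomial.rename (fun _ : Unit => Sum.inr (Sum.inl ())) :=
        MvPolynomial.algHom_ext fun i => by simp
      exact (AlgHom.congr_fun this Q0).symm ▸ hQ0m
    have hp0 : p ≠ 0 := fun hh => hQ0 ((MvPolynomial.pUnitAlgEquiv k).injective (hh.trans (map_zero _).symm))
    obtain ⟨p1, hp1, hndvd⟩ := Polynomial.exists_eq_pow_rootMultiplicity_mul_and_not_dvd p hp0 0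
    rw [map_zero, sub_zero] at hp1 hndvd
    have htI : (MvPolynomial.X (Sum.inr (Sum.inl ())) : (MvPolynomial (Fin r ⊕ (Unit ⊕ Fin d)) k)) ∉ I := fun hh => hI.ne_top (by
      rw [← ht0, sup_eq_left.mpr ((Ideal.span_singleton_le_iff_mem _).mpr hh)])
    rw [hp1, map_mul, map_pow, Polynomial.aeval_X] at hpI
    have h1 := (hI.mem_or_mem hpI).resolve_left fun hh => htI (hI.mem_of_pow_mem _ hh)
    have hp1c : p1.coeff 0 ≠ 0 := fun hh => hndvd (Polynomial.X_dvd_iff.mpr hh)
    have hp10 : p1 ≠ 0 := fun hh => hp1c (by simp [hh])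
    refine ⟨p1 * Polynomial.C p1.leadingCoeff⁻¹, by rw [map_mul]; exact I.mul_mem_right _ h1, ?_,
      Polynomial.monic_mul_leadingCoeff_inv hp10⟩
    rw [Polynomial.coeff_mul_C]
    exact mul_ne_zero hp1c (inv_ne_zero (Polynomial.leadingCoeff_ne_zero.mpr hp10))
  obtain ⟨h, hne, hh⟩ := s88_h.{u, v} q hmonic.ne_zero hq0 P0 hP0 N Sigma hSigma
  refine ⟨h, hne, fun K _ _ g hg P hP => ?_⟩
  by_contra htop
  obtain ⟨M, hM, hle⟩ := Ideal.exists_le_maximal _ htop
  let A := MvPolynomial (Fin r) K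
  let qA : Polynomial A := q.map (algebraMap k A)
  haveI : Module.Finite A (AdjoinRoot qA) := (hmonic.map _).finite_adjoinRoot
  let T : AdjoinRoot qA := AdjoinRoot.root qA
  let e : AdjoinRoot qA := MvPolynomial.eval₂ ((algebraMap A (AdjoinRoot qA)).comp (algebraMap k A))
    (fun i => algebraMap A (AdjoinRoot qA) (MvPolynomial.X i) + T ^ N * algebraMap A (AdjoinRoot qA) (MvPolynomial.C (g i))) P0
  let S := AdjoinRoot qA ⧸ Ideal.span {e}
  set σ : (MvPolynomial (Fin r ⊕ (Unit ⊕ Fin d)) k) →ₐ[k] MvPolynomial (Fin r ⊕ (Unit ⊕ Fin d)) K := MvPolynomial.aeval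
      (Sum.elim (fun i : Fin r => MvPolynomial.X (Sum.inl i) +
          MvPolynomial.X (Sum.inr (Sum.inl ())) ^ N * MvPolynomial.C (g i))
        (fun j : Unit ⊕ Fin d => MvPolynomial.X (Sum.inr j))) with hσ
  set J := Ideal.map σ I with hJ
  let ρ : A →ₐ[K] MvPolynomial (Fin r ⊕ (Unit ⊕ Fin d)) K := MvPolynomial.rename Sum.inl
  let mkJ := Ideal.Quotient.mk J
  have hρc : ∀ a : k, ρ (algebraMap k A a) = σ (algebraMap k (MvPolynomial (Fin r ⊕ (Unit ⊕ Fin d)) k) a) := fun a => by
    rw [AlgHom.commutes, IsScalarTower.algebraMap_apply k K A, AlgHom.commutes, ← IsScalarTower.algebraMap_apply]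
  let ψ0 : AdjoinRoot qA →+* MvPolynomial (Fin r ⊕ (Unit ⊕ Fin d)) K ⧸ J :=
    AdjoinRoot.lift (mkJ.comp ρ.toRingHom) (mkJ (MvPolynomial.X (Sum.inr (Sum.inl ())))) (by
      have hm := Ideal.mem_map_of_mem σ hqm
      rw [← Ideal.Quotient.eq_zero_iff_mem] at hm
      rw [← hm, Polynomial.eval₂_map]
      show _ = (mkJ.comp σ.toRingHom) (Polynomial.eval₂ (algebraMap k (MvPolynomial (Fin r ⊕ (Unit ⊕ Fin d)) k)) _ q)
      rw [Polynomial.hom_eval₂]
      congr 1
      · exact RingHom.ext fun a => congrArg mkJ (hρc a)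
      · simp [hσ])
  have hψe : ψ0 e = 0 := by
    have hm := Ideal.mem_map_of_mem σ (show MvPolynomial.rename Sum.inl P0 ∈ I from hP0m)
    rw [← Ideal.Quotient.eq_zero_iff_mem] at hm
    rw [← hm]
    show ((ψ0.comp (MvPolynomial.eval₂Hom _ _)) P0) =
      ((mkJ.comp σ.toRingHom).comp (MvPolynomial.rename Sum.inl).toRingHom) P0
    congr 1
    refine MvPolynomial.ringHom_ext (fun a => ?_) fun i => ?_
    · have := congrArg mkJ (hρc a)
      simpa [ψ0, AdjoinRoot.algebraMap_eq, MvPolynomial.algebraMap_eq] using this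
    · simp [ψ0, T, hσ, ρ, AdjoinRoot.algebraMap_eq, mkJ]
      erw [MvPolynomial.rename_X, MvPolynomial.rename_C]
  have hker : RingHom.ker (algebraMap A S) ≤ M := by
    intro a ha
    refine hle (Submodule.mem_sup_left ?_)
    rw [Ideal.mem_comap, ← Ideal.Quotient.eq_zero_iff_mem]
    have ha' : algebraMap A (AdjoinRoot qA) a ∈ Ideal.span {e} := Ideal.Quotient.eq_zero_iff_mem.mp ha
    obtain ⟨w, hw⟩ := Ideal.mem_span_singleton'.mp ha'
    have := congrArg ψ0 hw
    rw [map_mul, hψe, mul_zero, AdjoinRoot.algebraMap_eq] at this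
    simpa [ψ0, mkJ, ρ] using this.symm
  haveI : Algebra.IsIntegral A (AdjoinRoot qA) := Algebra.IsIntegral.of_finite _ _
  haveI : Algebra.IsIntegral A S := Algebra.IsIntegral.of_surjective (Ideal.Quotient.mkₐ A _) Ideal.Quotient.mk_surjective
  haveI := hM.isPrime
  obtain ⟨Q, -, hQ, hQM⟩ := Ideal.exists_ideal_over_prime_of_isIntegral (S := S) M ⊥ hker
  let L := AlgebraicClosure (FractionRing (S ⧸ Q))
  let χ : AdjoinRoot qA →+* L := (((algebraMap (FractionRing (S ⧸ Q)) L).comp (algebraMap (S ⧸ Q) (FractionRing (S ⧸ Q)))).comp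
    (Ideal.Quotient.mk Q)).comp (Ideal.Quotient.mk (Ideal.span {e}))
  let χA : A →+* L := χ.comp (algebraMap A (AdjoinRoot qA))
  letI : Algebra k L := (χA.comp (algebraMap k A)).toAlgebra
  have hkA : ∀ a, algebraMap k L a = χA (algebraMap k A a) := fun a => rfl
  have hχM : ∀ a ∈ M, χA a = 0 := fun a ha => by
    rw [← hQM] at ha
    have : Ideal.Quotient.mk Q (Ideal.Quotient.mk (Ideal.span {e}) (algebraMap A (AdjoinRoot qA) a)) = 0 :=
      Ideal.Quotient.eq_zero_iff_mem.mpr ha
    show χ (algebraMap A (AdjoinRoot qA) a) = 0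
    simp only [χ, RingHom.comp_apply]
    rw [this, map_zero, map_zero]
  have hξ : ∀ p ∈ P, MvPolynomial.aeval (fun i => χA (MvPolynomial.X i)) p = 0 := fun p hp => by
    rw [← hχM _ (hle (Submodule.mem_sup_right (Ideal.mem_map_of_mem _ hp)))]
    show (MvPolynomial.aeval _).toRingHom p = (χA.comp (MvPolynomial.map (algebraMap k K))) p
    congr 1
    refine MvPolynomial.ringHom_ext (fun a => ?_) fun i => ?_
    · simp [hkA, IsScalarTower.algebraMap_apply k K A]
      erw [MvPolynomial.map_C]; rfl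
    · simp
      erw [MvPolynomial.map_X]
  have hτ : Polynomial.aeval (χ T) q = 0 := by
    rw [Polynomial.aeval_def]
    have h0 : Polynomial.eval₂ ((χA.comp (algebraMap k A))) (χ T) q = χ (Polynomial.eval₂ (algebraMap A (AdjoinRoot qA)) T qA) := by
      rw [Polynomial.hom_eval₂, Polynomial.eval₂_map]
    refine h0.trans ?_
    rw [show Polynomial.eval₂ (algebraMap A (AdjoinRoot qA)) T qA = 0 from AdjoinRoot.eval₂_root qA, map_zero]
  have hz : MvPolynomial.aeval (fun i => χA (MvPolynomial.X i) + χ T ^ N * χA (MvPolynomial.C (g i))) P0 = 0 := by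
    have he : χ e = 0 := by
      simp only [χ, RingHom.comp_apply]
      rw [Ideal.Quotient.eq_zero_iff_mem.mpr (Ideal.mem_span_singleton_self e), map_zero, map_zero, map_zero]
    rw [← he]
    show (MvPolynomial.aeval _).toRingHom P0 = (χ.comp (MvPolynomial.eval₂Hom _ _)) P0
    congr 1
    refine MvPolynomial.ringHom_ext (fun a => ?_) fun i => ?_
    · simp [hkA, χA]
    · simp [χA]
  have := hh L (fun i => χA (MvPolynomial.X i)) (χ T) (fun i => χA (MvPolynomial.C (g i))) P hP hξ hτ hz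
  apply hg
  have hinj : Function.Injective (χA.comp MvPolynomial.C) := RingHom.injective _
  refine hinj ?_
  rw [map_zero, ← this]
  show ((χA.comp MvPolynomial.C).comp (MvPolynomial.aeval g).toRingHom) h = (MvPolynomial.aeval _).toRingHom h
  congr 1
  refine MvPolynomial.ringHom_ext (fun a => ?_) fun i => ?_
  · simp [hkA, IsScalarTower.algebraMap_apply k K A, MvPolynomial.algebraMap_eq]
    rfl
  · simp

end Groth.Agent.S15088
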