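import Groth.Statements.S15092
import Groth.Agent.L03.SurfAdj.Vertical
import Groth.Agent.L21.Duality.Main
-- import your own Groth.Agent.* helpers here

set_option autoImplicit false
universe u
open CategoryTheory CategoryTheory.Limits AlgebraicGeometry TopologicalSpace
open Surf

namespace Groth.Agent.S15092

open Groth.L22.Inter Groth.L22.Nef Groth.L22.Big Groth.L03.Euler Groth.L03.SurfNum Groth.L03.SurfAdj
open Groth.L00.Tensor (tensorIso tensorComm)

/-- Let k be an algebraically closed field, X a smooth projective surface over k (integral, proper and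
smooth, of dimension 2), C a smooth projective curve over k (integral, proper and smooth, of
dimension 1) and f : X → C a semi-stable fibration: a surjective k-morphism with O_C → f_*O_X an
isomorphism which is an at-worst-nodal family (flat, of finite presentation, all fibres
one-dimensional with at worst nodal singularities), whose fibre over some closed point q₀ is smooth
with χ(O) = 1 − g for some g ≥ 2 (computed on X through the direct image of the structure sheaf of
the fibre), and with no exceptional curve of the first kind in a fibre (no integral vertical curve E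
with χ(O_E) = 1 and E² = −1). Let ω_{X/C} = ω_X ⊗ (f^*Ω_{C/k})^{-1} be the relative dualizing
module, ω_X a second exterior power of Ω_{X/k} and (f^*Ω_{C/k})^{-1} a tensor inverse of f^*Ω_{C/k}.
Let D ⊆ X be an integral curve (integral closed subscheme of dimension 1) lying in a fibre of f, and
O_X(D) a tensor inverse of its ideal sheaf. Then (ω_{X/C}·O_X(D)) ≥ 0; and if (ω_{X/C}·O_X(D)) = 0
then χ(O_D) = 1 and (D·D) = −2, that is, D is a smooth rational curve of self-intersection −2. Here
(L·L') = χ(O_X) − χ(L) − χ(L') + χ(L ⊗ L') for invertible L, L'. -/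
theorem result (k : Type u) [Field k] [IsAlgClosed k]
    (X : Scheme.{u}) [X.Over (Spec (CommRingCat.of k))] [IsProper (X ↘ (Spec (CommRingCat.of k)))]
    [Smooth (X ↘ (Spec (CommRingCat.of k)))] [IsIntegral X] (hdim : topologicalKrullDim X = 2)
    (C : Scheme.{u}) [C.Over (Spec (CommRingCat.of k))] [IsProper (C ↘ (Spec (CommRingCat.of k)))]
    [Smooth (C ↘ (Spec (CommRingCat.of k)))] [IsIntegral C] (hdimC : topologicalKrullDim C = 1)
    (f : X ⟶ C) [f.IsOver (Spec (CommRingCat.of k))] [Surjective f] (hconn : IsIso (ClSub.unitToPush f))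
    (hss : Curv2.IsNodalFamily f)
    (q₀ : C) (hq₀ : IsClosed ({q₀} : Set C)) (hsm : Smooth (f.fiberToSpecResidueField q₀))
    (g : ℕ) (hg2 : 2 ≤ g) (hg : Curv2.euler k X (ClSub.quotMod (f.fiberι q₀).ker) = 1 - (g : ℤ))
    (hmin : ∀ E : X.IdealSheafData, IsIntegral E.subscheme → topologicalKrullDim (E.support : Set X) = 1 →
      (∃ c : C, ∀ x : X, x ∈ E.support → f.base x = c) → Curv2.euler k X (ClSub.quotMod E) = 1 →
      FGA.intNum k X 2 ![ClSub.idealMod E, ClSub.idealMod E] (Coh.structureModule X) ≠ -1)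
    (WX : X.Modules) (hWX : ExtPow.IsExtPow 2 (Omega.sheaf (X ↘ (Spec (CommRingCat.of k)))) WX)
    (M : X.Modules) (hM : ClSub.IsInverseOf M ((Scheme.Modules.pullback f).obj (Omega.sheaf (C ↘ (Spec (CommRingCat.of k))))))
    (D : X.IdealSheafData) (hD : IsIntegral D.subscheme) (hD1 : topologicalKrullDim (D.support : Set X) = 1)
    (hDv : ∃ c : C, ∀ x : X, x ∈ D.support → f.base x = c)
    (LD : X.Modules) (hLD : ClSub.IsInverseOf LD (ClSub.idealMod D)) :
    0 ≤ FGA.intNum k X 2 ![(CohB1.tensorMod WX M), LD] (Coh.structureModule X) ∧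
      (FGA.intNum k X 2 ![(CohB1.tensorMod WX M), LD] (Coh.structureModule X) = 0 →
        Curv2.euler k X (ClSub.quotMod D) = 1 ∧ FGA.intNum k X 2 ![LD, LD] (Coh.structureModule X) = -2) := by
  have hd2 : topologicalKrullDim X = (2 : ℕ) := hdim.trans Nat.cast_ofNat.symm
  have hd := hd2.le
  haveI := Groth.L21.RR.isNoetherian_of_proper (X := X) k
  haveI := Groth.L21.RR.isNoetherian_of_proper (X := C) k
  have hreg := reg_of_smooth k (X := X)
  haveI := hD
  obtain ⟨c, hc⟩ := hDv
  obtain ⟨hDi, hFF, hDD, hzero⟩ := vertical_facts k f hdim hdimC hq₀ D hD1 hc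
  obtain ⟨hIF, -, -, -⟩ := Groth.L03.SurfNum.fibre_ideal k hdimC f hq₀
  have hΩ := Groth.L21.Duality.isInvertible_omega (k := k) (X := C) hdimC
  have hfΩ := Groth.L18.Ample.isInvertible_pullback f hΩ
  obtain ⟨eM⟩ := hM
  have hMi : PicF.IsInvertible M := Groth.L22.EnrSev.isInvertible_of_inverse hfΩ (tensorComm _ _ ≪≫ eM)
  have hWi := (canonical k hdim hreg hWX).1
  obtain ⟨eL⟩ := hLD
  have hLDi : PicF.IsInvertible LD := Groth.L22.EnrSev.isInvertible_of_inverse hDi (tensorComm _ _ ≪≫ eL)
  have hLDinv : ∀ B : X.Modules, PicF.IsInvertible B → ii k LD B = - ii k (ClSub.idealMod D) B := fun B hB =>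
    Gram.ii_inverse k hd hDi hLDi hB (tensorComm _ _ ≪≫ eL)
  have hMD : ii k M (ClSub.idealMod D) = 0 := by
    rw [Gram.ii_inverse k hd hfΩ hMi hDi (tensorComm _ _ ≪≫ eM), ii_pullback_vertical k f hΩ D hD1 hDi hc, neg_zero]
  have hω : ii k (CohB1.tensorMod WX M) LD = - ii k (ClSub.idealMod D) WX := by
    rw [ii_comm, hLDinv _ (Groth.L18.GenLoc.isInvertible_tensor hWi hMi), ii_comm, ii_tensor k hd hWi hMi hDi, hMD,
      add_zero, ii_comm]
  have hLL : ii k LD LD = ii k (ClSub.idealMod D) (ClSub.idealMod D) := by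
    rw [hLDinv LD hLDi, ii_comm, hLDinv _ hDi, neg_neg]
  have hadj := adj_num k hdim hreg hWX D hDi
  have hχ := (curve_euler k D hD1).1
  have hFW : ii k (ClSub.idealMod (f.fiberι q₀).ker) WX < 0 := by
    have h := adj_num k hdim hreg hWX _ hIF
    rw [hFF, hg] at h
    push_cast at h
    have : (2 : ℚ) ≤ g := by exact_mod_cast hg2
    linarith
  have hne := hmin D hD hD1 ⟨c, hc⟩
  obtain ⟨d, hd'⟩ : ∃ d : ℤ, ii k (ClSub.idealMod D) (ClSub.idealMod D) = (d : ℚ) := ⟨_, (intNum_eq_ii k hd _ _).symm⟩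
  have h1 : FGA.intNum k X 2 ![ClSub.idealMod D, ClSub.idealMod D] (Coh.structureModule X) = d := by
    exact_mod_cast (intNum_eq_ii k hd (ClSub.idealMod D) (ClSub.idealMod D)).trans hd'
  have h2 : FGA.intNum k X 2 ![LD, LD] (Coh.structureModule X) = d := by
    exact_mod_cast ((intNum_eq_ii k hd LD LD).trans hLL).trans hd'
  obtain ⟨w, hw⟩ : ∃ w : ℤ, ii k (ClSub.idealMod D) WX = (w : ℚ) := ⟨_, (intNum_eq_ii k hd _ _).symm⟩
  have h3 : FGA.intNum k X 2 ![(CohB1.tensorMod WX M), LD] (Coh.structureModule X) = -w := by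
    exact_mod_cast (intNum_eq_ii k hd (CohB1.tensorMod WX M) LD).trans (hω.trans (congrArg Neg.neg hw))
  have hd0 : d ≤ 0 := by exact_mod_cast (hd' ▸ hDD : (d : ℚ) ≤ 0)
  have hdw : 2 * Curv2.euler k X (ClSub.quotMod D) = w - d := by
    rw [hw, hd'] at hadj
    exact_mod_cast hadj
  have hz : d = 0 → w < 0 := fun h => by
    have := hzero WX hWi (by rw [hd', h, Int.cast_zero]) hFW
    rw [hw] at this
    exact_mod_cast this
  rw [h1] at hne
  rw [h2, h3]
  by_cases hd00 : d = 0
  · have := hz hd00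
    exact ⟨by omega, fun h => by omega⟩
  · by_cases hχ1 : Curv2.euler k X (ClSub.quotMod D) = 1
    · have := hne hχ1
      exact ⟨by omega, fun h => ⟨hχ1, by omega⟩⟩
    · exact ⟨by omega, fun h => by omega⟩

end Groth.Agent.S15092
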