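import Groth.Statements.S15094
import Groth.Agent.L04.FrobH1.Apps
import Groth.Agent.L25.Extend.Codim

set_option autoImplicit false
universe u
open CategoryTheory CategoryTheory.Limits AlgebraicGeometry TopologicalSpace
open KodV

namespace Groth.Agent.S15094

/-- Let k be an algebraically closed field of characteristic p > 0, X a smooth proper integral scheme
over k, and L an invertible O_X-module with tensor inverse L⁻¹. If H⁰(X, (L⁻¹)^{⊗p^n} ⊗ Ω¹_{X/k}) =
0 for every n ≥ 1 and H¹(X, (L⁻¹)^{⊗p^{n₀}}) = 0 for some n₀, then H¹(X, L⁻¹) = 0. (The published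
statement says smooth projective variety over a field of characteristic p; smooth, proper and
integral over an algebraically closed field is assumed here, the setting of the proposition it is
deduced from.) -/
theorem result (k : Type u) [Field k] [IsAlgClosed k] (p : ℕ) [Fact p.Prime] [CharP k p]
    (X : Scheme.{u}) [X.Over (Spec (CommRingCat.of k))] [IsProper (X ↘ (Spec (CommRingCat.of k)))] [Smooth (X ↘ (Spec (CommRingCat.of k)))] [IsIntegral X]
    (L Linv : X.Modules) (hL : PicF.IsInvertible L) (hLinv : ClSub.IsInverseOf Linv L)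
    (h0 : ∀ n : ℕ, 1 ≤ n → Subsingleton (Coh.HH X (CohB1.tensorMod (CohB1.tensorPow Linv (p ^ n)) (Omega.sheaf (X ↘ (Spec (CommRingCat.of k))))) 0))
    (h1 : ∃ n₀ : ℕ, Subsingleton (Coh.HH X (CohB1.tensorPow Linv (p ^ n₀)) 1)) :
    Subsingleton (Coh.HH X Linv 1) := by
  have hfield : ∀ x : ↥(Spec (CommRingCat.of k)), IsDomain ((Spec (CommRingCat.of k)).presheaf.stalk x) ∧
      IsIntegrallyClosed ((Spec (CommRingCat.of k)).presheaf.stalk x) := fun x => by
    haveI : IsIntegral (Spec (CommRingCat.of k)) := inferInstance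
    have hf : IsField ((Spec (CommRingCat.of k)).presheaf.stalk x) := by
      haveI : Subsingleton (Spec (CommRingCat.of k)) := inferInstanceAs (Subsingleton (PrimeSpectrum k))
      rw [Subsingleton.elim x (genericPoint ↥(Spec (CommRingCat.of k)))]
      exact Field.toIsField (Spec (CommRingCat.of k)).functionField
    letI := hf.toField
    exact ⟨inferInstance, inferInstance⟩
  have hXn : Pi1.IsNormalScheme X :=
    Groth.L25.Extend.isNormalScheme_of_smooth (X ↘ Spec (CommRingCat.of k)) hfield
  have hinv : PicF.IsInvertible Linv :=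
    Groth.L16.NegPow.isInvertible_inverse hL (Groth.L00.Tensor.tensorComm L Linv ≪≫ hLinv.some)
  have iso : ∀ {M N : X.Modules} (e : M ≅ N) (i : ℕ),
      Subsingleton (Coh.HH X M i) → Subsingleton (Coh.HH X N i) := fun {M N} e i h =>
    Groth.L10.UnitsThick.subsingleton_H_of_iso ((SheafOfModules.toSheaf X.ringCatSheaf).mapIso e) i h
  obtain ⟨n₀, h1⟩ := h1
  suffices H : ∀ n, Subsingleton (Coh.HH X (CohB1.tensorPow Linv (p ^ n)) 1) →
      Subsingleton (Coh.HH X Linv 1) from H n₀ h1
  intro n
  induction n with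
  | zero =>
    intro h
    rw [pow_zero] at h
    exact iso (Groth.L00.Tensor.tensorUnitLeft Linv) 1 h
  | succ n ih =>
    intro h
    refine ih (Groth.L04.FrobH1.subsingleton_H1_of_pow (p := p) (X ↘ Spec (CommRingCat.of k)) hXn
      (Groth.L18.Ample.isInvertible_tensorPow hinv _) ?_ ?_)
    · refine iso (Groth.L00.Tensor.tensorIso (Groth.L00.Tensor.tensorPowMul Linv (p ^ n) p).symm
        (Iso.refl _)) 0 ?_
      rw [← pow_succ]
      exact h0 (n + 1) (by omega)
    · refine iso (Groth.L00.Tensor.tensorPowMul Linv (p ^ n) p).symm 1 ?_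
      rwa [← pow_succ]

end Groth.Agent.S15094
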