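import Groth.Statements.S15098
import Groth.Agent.L03.SurfAmple.Product
import Groth.Agent.L03.SurfAmple.Exists
import Groth.Agent.L03.SurfAmple.Hodge
-- import your own Groth.Agent.* helpers here

set_option autoImplicit false
universe u
open CategoryTheory CategoryTheory.Limits AlgebraicGeometry TopologicalSpace
open Surf

namespace Groth.Agent.S15098

open Groth.L22.Inter Groth.L22.Nef Groth.L22.Big Groth.L03.Euler Groth.L03.SurfNum
open Groth.L00.Tensor (tensorIso tensorAssoc tensorComm tensorUnitRight tensorUnitLeft)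

/-- Let k be an algebraically closed field, X a smooth projective surface over k (integral, proper and
smooth, of dimension 2) and D an effective Cartier divisor on X, given by its ideal sheaf I_D, which
is numerically positive: (D·D) > 0 and (D·Γ) ≥ 0 for every integral curve Γ ⊆ X, that is χ(O_Γ ⊗
I_D) − χ(O_Γ) ≤ 0. Then D is numerically connected: whenever D = D₁ + D₂ with D₁, D₂ non-zero
effective Cartier divisors (I_D = I_{D₁}·I_{D₂} with both ideal sheaves different from O_X), (D₁·D₂)
> 0. Intersection numbers of divisors are computed on their ideal sheaves: (D₁·D₂) = χ(O_X) −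
χ(I_{D₁}) − χ(I_{D₂}) + χ(I_{D₁} ⊗ I_{D₂}). (The published lemma sits in a positive-characteristic
setting; its argument does not use the characteristic, so none is assumed here.) -/
theorem result (k : Type u) [Field k] [IsAlgClosed k]
    (X : Scheme.{u}) [X.Over (Spec (CommRingCat.of k))] [IsProper (X ↘ (Spec (CommRingCat.of k)))]
    [Smooth (X ↘ (Spec (CommRingCat.of k)))] [IsIntegral X] (hdim : topologicalKrullDim X = 2)
    (D : X.IdealSheafData) (hD : FGA.IsEffCartier D)
    (hpos : 0 < FGA.intNum k X 2 ![(ClSub.idealMod D), (ClSub.idealMod D)] (Coh.structureModule X))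
    (hnef : ∀ Γ : X.IdealSheafData, IsIntegral Γ.subscheme → topologicalKrullDim (Γ.support : Set X) = 1 →
      Curv2.euler k X (CohB1.tensorMod (ClSub.quotMod Γ) (ClSub.idealMod D)) - Curv2.euler k X (ClSub.quotMod Γ) ≤ 0)
    (D₁ D₂ : X.IdealSheafData) (hD₁ : FGA.IsEffCartier D₁) (hD₂ : FGA.IsEffCartier D₂)
    (hne₁ : D₁ ≠ ⊤) (hne₂ : D₂ ≠ ⊤) (hsum : D = D₁ * D₂) :
    0 < FGA.intNum k X 2 ![(ClSub.idealMod D₁), (ClSub.idealMod D₂)] (Coh.structureModule X) := by
  have hd2 : topologicalKrullDim X = (2 : ℕ) := hdim.trans Nat.cast_ofNat.symm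
  have hd := hd2.le
  obtain ⟨H, hH⟩ := Groth.L03.SurfAmple.exists_ample_of_smooth k X hdim
  have hreg := fun z => Groth.L08.Cube.isRegularLocalRing_of_smooth (X ↘ Spec (CommRingCat.of k)) z
  have hinv : ∀ {I : X.IdealSheafData}, FGA.IsEffCartier I → PicF.IsInvertible (ClSub.idealMod I) :=
    fun h => (Groth.Agent.L19.IdealInvertible.isEffCartier_iff _).2 h
  have hadd := fun (A : X.Modules) (hA : PicF.IsInvertible A) =>
    Groth.L03.SurfAmple.ii_ideal_mul k hd (I := D₁) (J := D₂) hD₁ hD₂ hA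
  rw [← hsum] at hadd
  -- `D` is nef on its summands
  have hnef' : ∀ {E : X.IdealSheafData}, FGA.IsEffCartier E → 0 ≤ ii k (ClSub.idealMod D) (ClSub.idealMod E) := by
    intro E hE
    obtain ⟨N, σ, hN, hzero⟩ := Groth.L03.SurfAmple.exists_canonical_section E hE
    have hη : genericPoint X ∈ CohB1.genLocus N σ := by
      by_contra h
      exact Groth.L03.SurfAmple.genericPoint_mem_of_isEffCartier hE
        (hzero ▸ (Groth.L22.ZeroScheme.support_zeroScheme hN σ).ge h)
    haveI := Groth.L21.RR.isNoetherian_of_proper (X := X) k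
    haveI : Mono σ := Groth.L22.Nakai.mono_of_injective (Groth.L18.Ample.isInvertible_structureModule X) σ
      (bijective_stalk_section σ hη).1
    obtain ⟨hQ, hηQ⟩ := cokernel_facts k (Groth.L18.Ample.isInvertible_structureModule X) hN σ
    have hT := Groth.L16.CohSupport.isClosed_support (cokernel σ) hQ.2
    have hd1 : topologicalKrullDim (CohB1.support (cokernel σ)) ≤ (1 : ℕ) := dim_le_of_generic_notMem hT hηQ hd
    have hi := Gram.ii_inverse k hd (hinv hE) hN (hinv hD)
      (hzero ▸ Groth.L03.SurfAmple.nonempty_tensor_zeroScheme hN σ hη).some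
    rw [ii_eq_coker k hd hN (hinv hD) σ,
      altT_eq_sum k (fun _ => hinv hD) hT hd1 (finite_top hT hd1).toFinset (fun y => Set.Finite.mem_toFinset _)
        (fun y => ClSub.quotMod (pt y)) (fun y _ => pt_facts y) hQ subset_rfl] at hi
    rw [ii_comm]
    have hle : ∑ y ∈ (finite_top hT hd1).toFinset, ((Groth.L16.CohSupport.len y (cokernel σ)).toNat : ℚ) *
        altT k (fun _ : Fin 1 => ClSub.idealMod D) (ClSub.quotMod (pt y)) ≤ 0 :=
      Finset.sum_nonpos fun y hy => by
        haveI := isIntegral_pt y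
        have hs : topologicalKrullDim ((pt y).support : Set X) = 1 := by
          rw [Groth.L18.support_vanishingIdeal]
          exact ((Set.Finite.mem_toFinset _).1 hy).2.trans Nat.cast_one
        refine mul_nonpos_of_nonneg_of_nonpos (Nat.cast_nonneg _) ?_
        rw [← Gram.deg_euler]
        exact_mod_cast hnef (pt y) inferInstance hs
    linarith
  have ha := Groth.L03.SurfAmple.ii_ideal_ample_neg k hd2 hD₁ hne₁ hH
  have hb := Groth.L03.SurfAmple.ii_ideal_ample_neg k hd2 hD₂ hne₂ hH
  have hDD : 0 < ii k (ClSub.idealMod D) (ClSub.idealMod D) := by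
    rw [← intNum_eq_ii k hd]; exact_mod_cast hpos
  have hA := hnef' hD₁
  have hB := hnef' hD₂
  rw [hadd _ (hinv hD₁), ii_comm k (ClSub.idealMod D₂)] at hA
  rw [hadd _ (hinv hD₂)] at hB
  rw [hadd _ (hinv hD), ii_comm k (ClSub.idealMod D₁), ii_comm k (ClSub.idealMod D₂), hadd _ (hinv hD₁),
    hadd _ (hinv hD₂), ii_comm k (ClSub.idealMod D₂) (ClSub.idealMod D₁)] at hDD
  have hodge := fun (a b : ℤ) (h : (a : ℚ) * ii k (ClSub.idealMod D₁) H + b * ii k (ClSub.idealMod D₂) H = 0) => by
    exact Groth.L03.SurfAmple.hodge_comb k hd (hinv hD₁) (hinv hD₂) hH a b h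
  by_contra hle
  rw [not_lt] at hle
  have hle' : ii k (ClSub.idealMod D₁) (ClSub.idealMod D₂) ≤ 0 := by
    rw [← intNum_eq_ii k hd]; exact_mod_cast hle
  obtain ⟨a, hae⟩ : ∃ a : ℤ, ii k (ClSub.idealMod D₁) H = (a : ℚ) := ⟨_, (intNum_eq_ii k hd _ _).symm⟩
  obtain ⟨b, hbe⟩ : ∃ b : ℤ, ii k (ClSub.idealMod D₂) H = (b : ℚ) := ⟨_, (intNum_eq_ii k hd _ _).symm⟩
  rw [hae] at ha
  rw [hbe] at hb
  have h2 := hodge b (-a) (by rw [hae, hbe]; push_cast; ring)
  push_cast at h2
  generalize ii k (ClSub.idealMod D₁) (ClSub.idealMod D₂) = x at *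
  generalize ii k (ClSub.idealMod D₁) (ClSub.idealMod D₁) = p at *
  generalize ii k (ClSub.idealMod D₂) (ClSub.idealMod D₂) = q at *
  have hp : 0 ≤ p := by linarith
  have hq : 0 ≤ q := by linarith
  have hab : 0 < (a : ℚ) * b := mul_pos_of_neg_of_neg ha hb
  have h3 : 0 ≤ -((a : ℚ) * b) * x := mul_nonneg_of_nonpos_of_nonpos (by linarith) hle'
  have hb2 : 0 < (b : ℚ) ^ 2 := by nlinarith
  have ha2 : 0 < (a : ℚ) ^ 2 := by nlinarith
  have hp0 : p = 0 := by nlinarith [mul_nonneg hb2.le hp, mul_nonneg ha2.le hq]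
  have hq0 : q = 0 := by nlinarith [mul_nonneg hb2.le hp, mul_nonneg ha2.le hq]
  linarith

end Groth.Agent.S15098
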