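import Groth.Statements.S15099
import Groth.Agent.L03.BlowPt.Ramanujam
import Groth.Agent.L03.SurfAdj.Tools
-- import your own Groth.Agent.* helpers here

set_option autoImplicit false
universe u
open CategoryTheory CategoryTheory.Limits AlgebraicGeometry TopologicalSpace
open Surf

namespace Groth.Agent.S15099

open Groth.L22.Inter Groth.L22.Nef Groth.L22.Big Groth.L03.BlowPt Groth.L03.SurfAdj

/-- Let k be an algebraically closed field, X a smooth projective surface over k (integral, proper and
smooth, of dimension 2) and D a non-zero effective Cartier divisor on X (ideal sheaf I_D ≠ O_X)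
which is numerically connected: whenever D = D₁ + D₂ with D₁, D₂ non-zero effective Cartier divisors
(I_D = I_{D₁}·I_{D₂}, both different from O_X), (D₁·D₂) = χ(O_X) − χ(I_{D₁}) − χ(I_{D₂}) + χ(I_{D₁}
⊗ I_{D₂}) > 0. Then H⁰(D, O_D) = k, i.e. it is one-dimensional over k (computed on X through the
direct image of O_D). (The published lemma sits in a positive-characteristic setting; the printed
argument does not use the characteristic, so none is assumed here.) -/
theorem result (k : Type u) [Field k] [IsAlgClosed k]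
    (X : Scheme.{u}) [X.Over (Spec (CommRingCat.of k))] [IsProper (X ↘ (Spec (CommRingCat.of k)))]
    [Smooth (X ↘ (Spec (CommRingCat.of k)))] [IsIntegral X] (hdim : topologicalKrullDim X = 2)
    (D : X.IdealSheafData) (hD : FGA.IsEffCartier D) (hD0 : D ≠ ⊤)
    (hnc : ∀ D₁ D₂ : X.IdealSheafData, FGA.IsEffCartier D₁ → FGA.IsEffCartier D₂ → D₁ ≠ ⊤ → D₂ ≠ ⊤ →
      D = D₁ * D₂ → 0 < FGA.intNum k X 2 ![(ClSub.idealMod D₁), (ClSub.idealMod D₂)] (Coh.structureModule X)) :
    Module.finrank k (Coh.HH X (ClSub.quotMod D) 0) = 1 := by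
  have hd2 : topologicalKrullDim X = (2 : ℕ) := hdim.trans Nat.cast_ofNat.symm
  have hreg : ∀ x : X, IsRegularLocalRing (X.presheaf.stalk x) :=
    fun z => Groth.L08.Cube.isRegularLocalRing_of_smooth (X ↘ Spec (CommRingCat.of k)) z
  have hDe : BlowUp.IsEffCartierIdeal D := hD
  have hO := Groth.L18.Ample.isInvertible_structureModule X
  have h := Ramanujam.finrank_le_one k hd2 hreg D hDe
    (fun D₁ D₂ h₁ h₂ n₁ n₂ he => by
      rw [← intNum_eq_ii k hd2.le]
      exact_mod_cast hnc D₁ D₂ h₁ h₂ n₁ n₂ he)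
    (L := Coh.structureModule X) hO
    (fun y _ _ => by
      rw [degOn, Groth.L03.Euler.euler_iso (Groth.L00.Tensor.tensorUnitRight _), sub_self]) hD0
  have hle := (hhEquiv k (Groth.L00.Tensor.tensorUnitLeft (ClSub.quotMod D)) 0).finrank_eq.symm.trans_le h.1
  haveI := Groth.L21.RR.isNoetherian_of_proper (X := X) k
  haveI := Groth.L16.ProperFinite.finite_HH k (Groth.L21.RR.isCoh_quotMod D) 0
  refine le_antisymm hle (Module.finrank_pos_iff.2 ⟨⟨(Groth.L21.RR.e0 _).symm
    ((ClSub.toSubscheme D).app ⊤ (Groth.L21.RR.oneSec X)), 0, fun h0 => ?_⟩⟩)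
  obtain ⟨p, hp⟩ : (D.support : Set X).Nonempty := by
    by_contra hne
    refine hD0 ?_
    rw [← Scheme.IdealSheafData.support_eq_bot_iff]
    exact TopologicalSpace.Closeds.ext (Set.not_nonempty_iff_eq_empty.1 hne)
  refine Ramanujam.st_one_ne_zero_of_mem D hp ?_
  rw [AddEquiv.map_eq_zero_iff] at h0
  rw [Groth.L21.RR.st_one _ p (W := ⊤) trivial, h0]
  simp [Groth.L18.Frame.rs]
  exact map_zero _

end Groth.Agent.S15099
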