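import Groth.Statements.S15100
import Mathlib.RingTheory.Kaehler.Basic
import Mathlib.Algebra.Module.LocalizedModule.Exact
import Mathlib.RingTheory.Ideal.KrullsHeightTheorem
import Mathlib.RingTheory.LocalRing.Module
import Mathlib.LinearAlgebra.FreeModule.Finite.Basic
import Mathlib.RingTheory.Localization.AtPrime.Basic

set_option autoImplicit false
universe u
open TensorProduct
open CAlg

namespace Groth.Agent.S15100

/-- A vector spanning the kernel of a map onto a module free at `P` is unimodular at `P` unless it
vanishes. -/
private theorem exists_notMem {A : Type u} [CommRing A] [IsDomain A] {N M : Type u} [AddCommGroup N]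
    [Module A N] [AddCommGroup M] [Module A M] {ι : Type} [Fintype ι] (b : Module.Basis ι A N) (v : N)
    (hv : v ≠ 0) (q : N →ₗ[A] M) (hq : Function.Surjective q)
    (hex : Function.Exact (LinearMap.toSpanSingleton A N v) q) (P : Ideal A) [P.IsPrime]
    (hfree : Module.Free (Localization.AtPrime P) (LocalizedModule P.primeCompl M)) :
    ∃ i, b.repr v i ∉ P := by
  set Ap := Localization.AtPrime P
  set S := P.primeCompl
  set fN := LocalizedModule.mkLinearMap S N
  let f : N →ₗ[A] LocalizedModule S N := fN
  set qP : LocalizedModule S N →ₗ[Ap] LocalizedModule S M := LocalizedModule.map S q with hqP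
  have hqsurj : Function.Surjective qP := LocalizedModule.map_surjective S q hq
  obtain ⟨σ, hσ⟩ := Module.projective_lifting_property qP LinearMap.id hqsurj
  have hexP := LocalizedModule.map_exact S (LinearMap.toSpanSingleton A N v) q hex
  have hker : ∀ z, qP z = 0 → ∃ c : Ap, c • f v = z := by
    intro z hz
    obtain ⟨y, rfl⟩ := (hexP z).mp hz
    induction y using LocalizedModule.induction_on with
    | h a s =>
      refine ⟨Localization.mk a s, ?_⟩
      rw [IsLocalizedModule.map_LocalizedModules]
      show Localization.mk a s • LocalizedModule.mk v 1 = _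
      rw [LocalizedModule.mk_smul_mk, mul_one]
      rfl
  have hc : ∀ i, ∃ c : Ap, c • f v = f (b i) - σ (qP (f (b i))) := fun i =>
    hker _ (by rw [map_sub, ← LinearMap.comp_apply qP σ, hσ, LinearMap.id_apply, sub_self])
  choose c hc using hc
  have hv0 : qP (f v) = 0 := by
    have h0 : q v = 0 := (hex v).mpr ⟨1, one_smul A v⟩
    show LocalizedModule.map S q (LocalizedModule.mk v 1) = 0
    rw [LocalizedModule.map_mk, h0, LocalizedModule.zero_mk]
  have hsum : (∑ i, algebraMap A Ap (b.repr v i) * c i) • f v = f v := by
    rw [Finset.sum_smul]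
    simp only [mul_smul, hc, algebraMap_smul, smul_sub, Finset.sum_sub_distrib, ← map_smul]
    rw [← map_sum, b.sum_repr]
    rw [show ∑ x, σ (qP (f ((b.repr v) x • b x))) = 0 from by
      rw [← map_sum, ← map_sum, ← map_sum, b.sum_repr, hv0, map_zero], sub_zero]
  have htor : ∀ x : Ap, x • f v = 0 → x = 0 := by
    intro x
    induction x using Localization.induction_on with
    | H y =>
      obtain ⟨a, s⟩ := y
      intro h
      change Localization.mk a s • LocalizedModule.mk v 1 = 0 at h
      rw [LocalizedModule.mk_smul_mk, mul_one, ← LocalizedModule.zero_mk 1, LocalizedModule.mk_eq] at h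
      obtain ⟨t, ht⟩ := h
      rw [one_smul, smul_zero, smul_zero, Submonoid.smul_def, smul_smul] at ht
      haveI : Module.Free A N := Module.Free.of_basis b
      rcases smul_eq_zero.mp ht with h0 | h0
      · rcases mul_eq_zero.mp h0 with h0 | h0
        · exact absurd (h0 ▸ P.zero_mem) t.2
        · rw [h0, Localization.mk_zero]
      · exact absurd h0 hv
  by_contra hne
  push_neg at hne
  have h1 : (∑ i, algebraMap A Ap (b.repr v i) * c i) = 1 := sub_eq_zero.mp (htor _ (by
    rw [sub_smul, hsum, one_smul, sub_self]))
  apply (IsLocalRing.maximalIdeal.isMaximal Ap).ne_top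
  rw [Ideal.eq_top_iff_one, ← h1]
  exact Ideal.sum_mem _ fun i _ => Ideal.mul_mem_right _ _
    ((IsLocalization.AtPrime.to_map_mem_maximal_iff Ap P _).mpr (hne i))

/-- A vector with a unit coordinate spans a free direct summand. -/
private theorem free_of_isUnit {A : Type u} [CommRing A] [IsLocalRing A] {N M : Type u} [AddCommGroup N]
    [Module A N] [AddCommGroup M] [Module A M] {ι : Type} [Finite ι] (b : Module.Basis ι A N) (v : N)
    (q : N →ₗ[A] M) (hq : Function.Surjective q)
    (hex : Function.Exact (LinearMap.toSpanSingleton A N v) q) (i : ι) (hi : IsUnit (b.repr v i)) :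
    Module.Free A M := by
  haveI : Module.Finite A N := Module.Finite.of_basis b
  haveI : Module.Free A N := Module.Free.of_basis b
  obtain ⟨w, hw⟩ := hi.exists_left_inv
  set φ : N →ₗ[A] A := w • b.coord i
  have hφ : φ v = 1 := by simp [φ, hw]
  set π : N →ₗ[A] N := LinearMap.id - (LinearMap.toSpanSingleton A N v).comp φ
  have hle : LinearMap.ker q ≤ LinearMap.ker π := by
    intro z hz
    obtain ⟨a, rfl⟩ := (hex z).mp hz
    simp [π, hφ]
  let e := q.quotKerEquivOfSurjective hq
  let σ : M →ₗ[A] N := ((LinearMap.ker q).liftQ π hle).comp e.symm.toLinearMap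
  have hσ : q.comp σ = LinearMap.id := by
    refine LinearMap.ext fun m => ?_
    obtain ⟨z, rfl⟩ := hq m
    have : e.symm (q z) = Submodule.Quotient.mk z := by
      rw [LinearEquiv.symm_apply_eq]; rfl
    simp [σ, this, π, (hex v).mpr ⟨1, one_smul A v⟩]
  haveI : Module.Finite A M := Module.Finite.of_surjective q hq
  haveI : Module.Projective A M := Module.Projective.of_split σ q hσ
  exact Module.free_of_flat_of_isLocalRing

/-- Let V be a discrete valuation ring with uniformizer u and V → R → A commutative V-algebras with A an
R-algebra compatibly; assume A is a Noetherian local domain of Krull dimension 3 with u in its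
maximal ideal, that Ω_{A/V} is a free A-module of rank 2 and that A ⊗_R Ω_{R/V} is a free A-module
of rank 1. Suppose that on the special fibre Ω_{A/R} is locally free exactly away from the closed
point: for every prime P of A containing u other than the maximal ideal the localization (Ω_{A/R})_P
is free over A_P, while Ω_{A/R} is not free over A. Then Ω_{A/R} is not locally free on the generic
fibre: there is a prime Q of A not containing u with (Ω_{A/R})_Q not free over A_Q. (In the
published statement R is a regular local ring of dimension 2 and A a local ring of dimension 3, both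
smooth over V, which yields the two freeness hypotheses used here, and the hypothesis is phrased as
local freeness of Ω of the special fibre of A over that of R away from the closed point.) -/
theorem result
    (V R A : Type u) [CommRing V] [IsDomain V] [IsDiscreteValuationRing V] [CommRing R] [CommRing A]
    [IsDomain A] [IsNoetherianRing A] [IsLocalRing A]
    [Algebra V R] [Algebra V A] [Algebra R A] [IsScalarTower V R A]
    (u : V) (hu : Irreducible u) (huA : algebraMap V A u ∈ IsLocalRing.maximalIdeal A)
    (hdimA : ringKrullDim A = 3)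
    (hΩA : Module.Free A (Ω[A⁄V])) (hrkA : Module.finrank A (Ω[A⁄V]) = 2)
    (hΩR : Module.Free A (A ⊗[R] Ω[R⁄V])) (hrkR : Module.finrank A (A ⊗[R] Ω[R⁄V]) = 1)
    (h0 : ∀ P : PrimeSpectrum A, algebraMap V A u ∈ P.asIdeal → P.asIdeal ≠ IsLocalRing.maximalIdeal A →
      Module.Free (Localization.AtPrime P.asIdeal) (LocalizedModule P.asIdeal.primeCompl (Ω[A⁄R])))
    (hm : ¬ Module.Free A (Ω[A⁄R])) :
    ∃ Q : PrimeSpectrum A, algebraMap V A u ∉ Q.asIdeal ∧
      ¬ Module.Free (Localization.AtPrime Q.asIdeal) (LocalizedModule Q.asIdeal.primeCompl (Ω[A⁄R])) := by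
  by_contra hcon
  push_neg at hcon
  haveI := hΩA
  haveI := hΩR
  haveI : Module.Finite A Ω[A⁄V] := Module.finite_of_finrank_pos (by omega)
  haveI : Module.Finite A (A ⊗[R] Ω[R⁄V]) := Module.finite_of_finrank_pos (by omega)
  let b := Module.finBasisOfFinrankEq A Ω[A⁄V] hrkA
  let g := Module.finBasisOfFinrankEq A (A ⊗[R] Ω[R⁄V]) hrkR
  set q := KaehlerDifferential.map V R A A
  have hq : Function.Surjective q := KaehlerDifferential.map_surjective V R A
  set v := KaehlerDifferential.mapBaseChange V R A (g 0)
  have hex : Function.Exact (LinearMap.toSpanSingleton A Ω[A⁄V] v) q := by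
    intro z
    rw [KaehlerDifferential.exact_mapBaseChange_map V R A z]
    constructor
    · rintro ⟨t, rfl⟩
      exact ⟨g.repr t 0, by
        conv_rhs => rw [← g.sum_repr t]
        simp [v]⟩
    · rintro ⟨a, rfl⟩
      exact ⟨a • g 0, by simp [v]⟩
  have hv : v ≠ 0 := fun h => hm (Module.Free.of_equiv (LinearEquiv.ofBijective q
    ⟨(injective_iff_map_eq_zero q).mpr fun z hz => by
      obtain ⟨a, rfl⟩ := (hex z).mp hz
      simp [h], hq⟩))
  set I := Ideal.span (Set.range fun i => b.repr v i) with hI
  have hIm : I ≤ IsLocalRing.maximalIdeal A := by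
    rw [hI, Ideal.span_le]
    rintro _ ⟨i, rfl⟩
    exact fun hu => hm (free_of_isUnit b v q hq hex i hu)
  have hmin : IsLocalRing.maximalIdeal A ∈ I.minimalPrimes := by
    refine ⟨⟨inferInstance, hIm⟩, fun P hP hPm => ?_⟩
    obtain ⟨hP1, hP2⟩ := hP
    haveI := hP1
    by_contra hne
    have hfree : Module.Free (Localization.AtPrime P) (LocalizedModule P.primeCompl (Ω[A⁄R])) := by
      by_cases hu : algebraMap V A u ∈ P
      · exact h0 ⟨P, hP1⟩ hu (fun h => hne h.ge)
      · exact hcon ⟨P, hP1⟩ hu
    obtain ⟨i, hi⟩ := exists_notMem b v hv q hq hex P hfree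
    exact hi (hP2 (Ideal.subset_span ⟨i, rfl⟩))
  have hht := Ideal.height_le_card_of_mem_minimalPrimes_span (Set.finite_range _) hmin
  have hle : (Set.range fun i => b.repr v i).ncard ≤ 2 := by
    rw [← Set.image_univ]
    refine (Set.ncard_image_le (Set.finite_univ)).trans ?_
    simp
  rw [← IsLocalRing.maximalIdeal_height_eq_ringKrullDim] at hdimA
  have : (IsLocalRing.maximalIdeal A).height = 3 := WithBot.coe_inj.mp hdimA
  rw [this] at hht
  have h32 : (3 : ℕ) ≤ 2 := le_trans (by exact_mod_cast hht) hle
  omega

end Groth.Agent.S15100
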