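import Groth.Statements.S3345
import Groth.Agent.L05.RedFibre.Main
import Groth.Agent.L05.EulerDiv.Chain
import Groth.Agent.S3326
import Groth.Agent.S3324

set_option backward.isDefEq.respectTransparency false
set_option linter.style.haveILetI false

set_option autoImplicit false
universe u
open CategoryTheory CategoryTheory.Limits AlgebraicGeometry
open Models

namespace Groth.Agent.S3345

/-- In the following situation (R a discrete valuation ring with residue field k, C a smooth proper
curve over its fraction field K with H^0(C, O_C) = K, X a regular proper model, Γ_1, …, Γ_n the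
irreducible components of the closed fibre with multiplicities m_i) assume X is a minimal model,
gcd(m_1, …, m_n) = 1 and H^0((X_k)_red, O) = k. Then dim_k H^1((X_k)_red, O) ≤ dim_k H^1(X_k, O),
and the inequality is strict when X_k is not reduced (k-dimensions computed as R-lengths of the
cohomology on X of the structure sheaves of the two closed subschemes). The published statement is
the stronger one that H^1(X_k, O_{X_k}) → H^1((X_k)_red, O) is surjective, with non-zero kernel when
X_k is not reduced; this is its form in terms of dimensions. -/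
theorem result (R : Type u) [CommRing R] [IsDomain R] [IsDiscreteValuationRing R]
    (C X : Scheme.{u}) (f : C ⟶ Spec (CommRingCat.of (FractionRing R))) (p : X ⟶ Spec (CommRingCat.of R))
    (hC : Curve.IsSmoothProperCurve (FractionRing R) C f) (hH0 : IsIso f.appTop)
    (hX : Models.IsRegularProperModel R X p C f)
    {n : ℕ} (Γ : Fin n → ArSurf.VertComp R (Over.mk p)) (hΓ : Models.IsComponentList R (Over.mk p) Γ)
    (hmin : Models.IsMinimalModel R X p C f) (hgcd : Models.multGcd R (Over.mk p) Γ = 1)
    (hH0k : Models.lengthH R (Over.mk p) (ClSub.quotMod (Models.redFibreIdeal R (Over.mk p))) 0 = 1) :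
    Models.lengthH R (Over.mk p) (ClSub.quotMod (Models.redFibreIdeal R (Over.mk p))) 1 ≤
        Models.lengthH R (Over.mk p) (ClSub.quotMod (Models.specialFibreIdeal R (Over.mk p))) 1 ∧
      (Models.specialFibreIdeal R (Over.mk p) ≠ Models.redFibreIdeal R (Over.mk p) →
        Models.lengthH R (Over.mk p) (ClSub.quotMod (Models.redFibreIdeal R (Over.mk p))) 1 <
          Models.lengthH R (Over.mk p) (ClSub.quotMod (Models.specialFibreIdeal R (Over.mk p))) 1) := by
  classical
  have hX' := hX
  obtain ⟨⟨hflat, hft, -, g, hg⟩, hproper, hreg⟩ := hX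
  haveI : Flat (Over.mk p).hom := hflat
  haveI : IsProper (Over.mk p).hom := hproper
  haveI : IsLocallyNoetherian (Over.mk p).left := LocallyOfFiniteType.isLocallyNoetherian p
  haveI : IsIntegral C := hC.2.2.1
  haveI : IsIntegral (Over.mk p).left := Groth.L05.InterPair.isIntegral_of_model (X := Over.mk p) hreg hg
  have hreg' : Models.IsRegularScheme (Over.mk p).left := hreg
  choose L hLi hL using fun i => Groth.L08.Cube.exists_inverse
    ((Groth.Agent.L19.IdealInvertible.isEffCartier_iff _).2
      (Groth.L05.FibreDecomp.isEffCartier (X := Over.mk p) hreg' hΓ i))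
  have hL' : ∀ i, ClSub.IsInverseOf (L i) (ClSub.idealMod (Γ i).ι.ker) := fun i =>
    ⟨Groth.L00.Tensor.tensorComm _ _ ≪≫ (hL i).some⟩
  have hconn := Groth.L05.InterPair.isPreconnected_specialFibreSet R f p hC hH0 hX'
  letI : (Over.mk p).left.Over (Spec (CommRingCat.of R)) := ⟨(Over.mk p).hom⟩
  set m := fun i => Models.mult R (Over.mk p) (Γ i) with hm
  have hmpos : ∀ i, 0 < m i := fun i => Groth.L05.InterPair.mult_pos (X := Over.mk p) hreg' hΓ i
  have hg1 : Finset.univ.gcd m = 1 := hgcd
  have hMm : ∀ i, ∑ j, (m j : ℤ) * ArSurf.inter R (Over.mk p) (L j) (Γ i) = 0 := fun i =>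
    Groth.L05.InterPair.sum_mult_mul_inter (X := Over.mk p) hreg' hΓ hL' (Γ i)
  let χ : (Fin n → ℕ) → ℤ := fun a =>
    Groth.L05.EulerDiv.chi R (Z := (Over.mk p).left) (ClSub.quotMod (Groth.L05.InterPair.div Γ a))
  -- each step does not increase the Euler characteristic; the last one decreases it
  have hdown : ∀ (d : ℕ) (a : Fin n → ℕ), ∑ i, (m i - a i) = d → a ≠ 0 → a ≤ m →
      χ m ≤ χ a ∧ (a ≠ m → χ m < χ a) := by
    intro d
    induction d with
    | zero =>
      intro a hd _ ha
      have he : a = m := funext fun i =>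
        le_antisymm (ha i) (Nat.le_of_sub_eq_zero (Finset.sum_eq_zero_iff.1 hd i (Finset.mem_univ i)))
      subst he
      exact ⟨le_rfl, fun h => absurd rfl h⟩
    | succ d ih =>
      intro a hd ha0 ha
      have hne : a ≠ m := fun h => by rw [h] at hd; simp at hd
      obtain ⟨i, hi, hpos⟩ := Groth.L05.EulerDiv.next_primitive (X := Over.mk p) hreg' hΓ hL' hconn
        (m' := m) Nat.one_pos (fun j => (one_mul _).symm) hg1 ha0 ha hne
      let b : Fin n → ℕ := fun j => a j + if j = i then 1 else 0
      have hb : b ≤ m := fun j => by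
        rcases eq_or_ne j i with rfl | hj
        · simp [b]; omega
        · simpa [b, hj] using ha j
      have hb0 : b ≠ 0 := fun h => by have := congrFun h i; simp [b] at this
      have hbd : ∑ j, (m j - b j) = d := by
        have h1 := Finset.add_sum_erase Finset.univ (fun j => m j - b j) (Finset.mem_univ i)
        have h2 := Finset.add_sum_erase Finset.univ (fun j => m j - a j) (Finset.mem_univ i)
        have h3 : ∑ j ∈ Finset.univ.erase i, (m j - b j) = ∑ j ∈ Finset.univ.erase i, (m j - a j) :=
          Finset.sum_congr rfl fun j hj => by simp [b, Finset.ne_of_mem_erase hj]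
        simp [b] at h1 h2 ⊢
        simp [b] at h3
        omega
      obtain ⟨hle, hlt⟩ := ih b hbd hb0 hb
      have hstep := (Groth.L05.EulerDiv.step (X := Over.mk p) hreg' hΓ a i
        (Groth.L05.EulerDiv.hasLen_div (X := Over.mk p) hreg' hΓ a)).2
      rw [Groth.L05.EulerDiv.sum_negDeg_eq (X := Over.mk p) hreg' hΓ hL' a i] at hstep
      set w : ℤ := (Models.wdeg R (Over.mk p) (Γ i) : ℤ)
      set σ : ℤ := ∑ j, (a j : ℤ) * ArSurf.inter R (Over.mk p) (L j) (Γ i) with hσ
      have hw : w ≤ σ := Int.le_of_dvd hpos (Finset.dvd_sum fun j _ =>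
        Dvd.dvd.mul_left (Groth.L05.EulerDiv.wdeg_dvd_inter (Γ i) (L j)) _)
      have hbstep : χ b = χ a + (-σ + (w - (Models.h1 R (Over.mk p) (Γ i) : ℤ))) := hstep
      refine ⟨by omega, fun _ => ?_⟩
      by_cases hbm : b = m
      · -- the last step
        rw [← hbm]
        refine lt_of_le_of_ne (by omega) fun hcon => hmin.2 (Γ i)
          ((Groth.Agent.S3326.result R C X f p hC hH0 hX' Γ hΓ L hL' i).2 ⟨by omega, ?_⟩)
        have h := hMm i
        have hs : ∑ j, (b j : ℤ) * ArSurf.inter R (Over.mk p) (L j) (Γ i) =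
            σ + ArSurf.inter R (Over.mk p) (L i) (Γ i) := by
          simp [b, add_mul, Finset.sum_add_distrib, hσ]
        rw [← hbm, hs] at h
        omega
      · have := hlt hbm
        omega
  have hn : 0 < n := Nat.pos_of_ne_zero fun h => by
    subst h
    simp at hg1
  have h1ne : (fun _ => 1 : Fin n → ℕ) ≠ 0 := fun h => one_ne_zero (congrFun h ⟨0, hn⟩)
  obtain ⟨hle, hlt⟩ := hdown _ (fun _ => 1) rfl h1ne fun i => hmpos i
  have hred := Groth.L05.RedFibre.redFibreIdeal_eq (X := Over.mk p) hreg' hΓ
  have hfib : Models.specialFibreIdeal R (Over.mk p) = Groth.L05.InterPair.div Γ m :=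
    Groth.L05.FibreDecomp.specialFibreIdeal_eq_prod (X := Over.mk p) hreg' hΓ
  have h0 : 1 ≤ Models.lengthH R (Over.mk p) (ClSub.quotMod (Models.specialFibreIdeal R (Over.mk p))) 0 := by
    have hF := (Groth.Agent.S3324.result R C X f p hC hH0 hX' Γ hΓ).1
    have he : (∏ i, (Γ i).ι.ker ^ (Models.mult R (Over.mk p) (Γ i) / Models.multGcd R (Over.mk p) Γ)) =
        Models.specialFibreIdeal R (Over.mk p) := by
      rw [Groth.L05.FibreDecomp.specialFibreIdeal_eq_prod (X := Over.mk p) hreg' hΓ]
      exact Finset.prod_congr rfl fun j _ => by rw [hgcd, Nat.div_one]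
    rw [he] at hF
    let D := Models.specialFibreIdeal R (Over.mk p)
    letI : D.subscheme.Over (Spec (CommRingCat.of R)) := ⟨D.subschemeι ≫ p⟩
    haveI : IsLocallyNoetherian D.subscheme := LocallyOfFiniteType.isLocallyNoetherian D.subschemeι
    haveI : (Over.mk p).left.IsSeparated := ⟨by rw [← terminal.comp_from (Over.mk p).hom]; infer_instance⟩
    obtain ⟨φ⟩ := Groth.L05.InterPair.exists_HH_push (A := R) (W := (Over.mk p).left) D.subschemeι
      (Coh.structureModule D.subscheme) (Groth.L16.CohClosedPush.isCoh_structure (X := D.subscheme)).1 rfl 0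
    have hfin : Module.length R (Coh.HH (Over.mk p).left (ClSub.quotMod D) 0) ≠ ⊤ := by
      show Module.length R (Coh.HH (Over.mk p).left (ClSub.quotMod (Models.specialFibreIdeal R (Over.mk p))) 0) ≠ ⊤
      rw [hfib]
      exact Groth.L05.EulerDiv.hasLen_div (X := Over.mk p) hreg' hΓ m 0 zero_le_one
    refine Nat.one_le_iff_ne_zero.2 fun hz => ?_
    rcases ENat.toNat_eq_zero.1 hz with h | h
    · rw [Module.length_eq_zero_iff] at h
      haveI := h
      haveI : Subsingleton (Coh.HH D.subscheme (Coh.structureModule D.subscheme) 0) := φ.toEquiv.subsingleton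
      haveI : Subsingleton Γ(D.subscheme, ⊤) :=
        (Groth.L16.HomSh.h0Equiv (Coh.structureModule D.subscheme)).symm.injective.subsingleton
      letI := hF.toField
      exact zero_ne_one (α := Γ(D.subscheme, ⊤)) (Subsingleton.elim _ _)
    · exact hfin h
  have hcr : (Models.lengthH R (Over.mk p) (ClSub.quotMod (Models.redFibreIdeal R (Over.mk p))) 0 : ℤ) -
      (Models.lengthH R (Over.mk p) (ClSub.quotMod (Models.redFibreIdeal R (Over.mk p))) 1 : ℤ) =
        χ fun _ => 1 := by rw [hred]; rfl
  have hcf : (Models.lengthH R (Over.mk p) (ClSub.quotMod (Models.specialFibreIdeal R (Over.mk p))) 0 : ℤ) -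
      (Models.lengthH R (Over.mk p) (ClSub.quotMod (Models.specialFibreIdeal R (Over.mk p))) 1 : ℤ) =
        χ m := by rw [hfib]; rfl
  rw [hH0k] at hcr
  refine ⟨by omega, fun hne => ?_⟩
  have := hlt fun h => hne (by rw [hfib, hred, h])
  omega

end Groth.Agent.S3345
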