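import Groth.Statements.S15104
import Groth.Agent.S3345
import Groth.Agent.S4702
import Groth.Agent.L12.CurveFam.ConstFun
import Groth.Agent.L21.PlaneCurve.Plane
import Groth.Agent.L21.Curve.NormalConnected
import Groth.Agent.L05.InterPair.Vertical
import Groth.Agent.L08.Cube.SmoothStalk
import Groth.Agent.L05.SectionFibre.Constants

set_option backward.isDefEq.respectTransparency false
set_option linter.style.haveILetI false

set_option autoImplicit false
universe u
open CategoryTheory CategoryTheory.Limits AlgebraicGeometry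
open Models

namespace Groth.Agent.S15104

open Groth.L05.FibreDecomp

/-- Closed points of the closed fibre are rational over an algebraically closed residue field. -/
theorem surjective_residue_of_isAlgClosed {R : Type u} [CommRing R] [IsDomain R] [IsDiscreteValuationRing R]
    [IsAlgClosed (IsLocalRing.ResidueField R)] {X : Scheme.{u}} (p : X ⟶ Spec (CommRingCat.of R))
    [LocallyOfFiniteType p] {x : X} (hxT : x ∈ Models.specialFibreSet R (Over.mk p)) (hxc : IsClosed ({x} : Set X)) :
    Function.Surjective ((X.residue x).hom.comp (Models.stalkHom R (Over.mk p) x)) := by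
  obtain ⟨_, ⟨W, hW, rfl⟩, hxW, -⟩ := X.isBasis_affineOpens.exists_subset_of_mem_open (Set.mem_univ x) isOpen_univ
  let U : X.affineOpens := ⟨W, hW⟩
  let φ : R →+* Γ(X, U.1) := res (R := R) (X := Over.mk p) U
  have hφ : φ.FiniteType := by
    have h := p.finiteType_appLE (isAffineOpen_top _) U.2 (fun _ _ => trivial)
    have h2 := RingHom.FiniteType.comp h (RingHom.FiniteType.of_surjective _
      (Scheme.ΓSpecIso (CommRingCat.of R)).symm.commRingCatIsoToRingEquiv.surjective)
    rw [Scheme.Hom.appLE, CommRingCat.hom_comp, RingHom.comp_assoc] at h2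
    exact h2
  let P := U.2.primeIdealOf ⟨x, hxW⟩
  haveI hmax : P.asIdeal.IsMaximal := by
    rw [← PrimeSpectrum.isClosed_singleton_iff_isMaximal]
    have h := hxc.preimage U.2.fromSpec.continuous
    convert! h
    ext q
    refine ⟨fun hq => ?_, fun hq => ?_⟩
    · rw [Set.mem_singleton_iff.1 hq]
      exact U.2.fromSpec_primeIdealOf ⟨x, hxW⟩
    · exact U.2.fromSpec.isOpenEmbedding.injective (hq.trans (U.2.fromSpec_primeIdealOf ⟨x, hxW⟩).symm)
  let ψ : R →+* Γ(X, U.1) ⧸ P.asIdeal := (Ideal.Quotient.mk _).comp φ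
  letI : Algebra Γ(X, U.1) (X.presheaf.stalk x) := (X.presheaf.germ U.1 x hxW).hom.toAlgebra
  haveI : IsLocalization.AtPrime (X.presheaf.stalk x) P.asIdeal := U.2.isLocalization_stalk ⟨x, hxW⟩
  have hkill : ∀ r ∈ IsLocalRing.maximalIdeal R, ψ r = 0 := fun r hr => by
    refine Ideal.Quotient.eq_zero_iff_mem.2 ?_
    by_contra hn
    refine mem_specialFibreSet.1 hxT r hr ?_
    show IsUnit (Models.stalkHom R (Over.mk p) x r)
    rw [← germ_res (X := Over.mk p) U x hxW r]
    exact IsLocalization.map_units (X.presheaf.stalk x) (⟨φ r, hn⟩ : P.asIdeal.primeCompl)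
  letI : Algebra R (Γ(X, U.1) ⧸ P.asIdeal) := ψ.toAlgebra
  let ψk : IsLocalRing.ResidueField R →+* Γ(X, U.1) ⧸ P.asIdeal :=
    Ideal.Quotient.lift (IsLocalRing.maximalIdeal R) ψ hkill
  letI : Field (Γ(X, U.1) ⧸ P.asIdeal) := Ideal.Quotient.field P.asIdeal
  letI : Algebra (IsLocalRing.ResidueField R) (Γ(X, U.1) ⧸ P.asIdeal) := ψk.toAlgebra
  haveI : Algebra.FiniteType (IsLocalRing.ResidueField R) (Γ(X, U.1) ⧸ P.asIdeal) := by
    have h : ψ.FiniteType := RingHom.FiniteType.comp (RingHom.FiniteType.of_surjective _ Ideal.Quotient.mk_surjective) hφ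
    exact RingHom.FiniteType.of_comp_finiteType (f := IsLocalRing.residue R) (g := ψk)
      (by rw [show ψk.comp (IsLocalRing.residue R) = ψ from RingHom.ext fun r => rfl]; exact h)
  haveI := finite_of_finite_type_of_isJacobsonRing (IsLocalRing.ResidueField R) (Γ(X, U.1) ⧸ P.asIdeal)
  have hbij := IsAlgClosed.algebraMap_bijective_of_isIntegral (k := IsLocalRing.ResidueField R) (K := Γ(X, U.1) ⧸ P.asIdeal)
  intro z
  obtain ⟨w, rfl⟩ := IsLocalRing.residue_surjective (R := X.presheaf.stalk x) z
  obtain ⟨⟨b, t, ht⟩, hbt⟩ := IsLocalization.surj P.asIdeal.primeCompl w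
  obtain ⟨t', ht'⟩ := Ideal.IsMaximal.exists_inv hmax ht
  obtain ⟨q, hq⟩ := hbij.2 (Ideal.Quotient.mk _ (b * t'))
  obtain ⟨r, rfl⟩ := IsLocalRing.residue_surjective q
  refine ⟨r, ?_⟩
  show IsLocalRing.residue (X.presheaf.stalk x) (Models.stalkHom R (Over.mk p) x r) = IsLocalRing.residue _ w
  rw [← germ_res (X := Over.mk p) U x hxW r]
  have hm : ∀ a ∈ P.asIdeal, IsLocalRing.residue (X.presheaf.stalk x) (algebraMap Γ(X, U.1) _ a) = 0 := fun a ha => by
    rw [IsLocalRing.residue_eq_zero_iff, ← IsLocalization.AtPrime.map_eq_maximalIdeal P.asIdeal (X.presheaf.stalk x)]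
    exact Ideal.mem_map_of_mem _ ha
  have h1 : φ r - b * t' ∈ P.asIdeal := Ideal.Quotient.eq.1 hq
  obtain ⟨i, hi, hit⟩ := ht'
  have h2 := hm _ h1
  have h3 := hm _ hi
  let am := algebraMap Γ(X, U.1) (X.presheaf.stalk x)
  have h4 : IsLocalRing.residue _ (am t') * IsLocalRing.residue _ (am t) = 1 := by
    rw [← map_mul, ← map_mul]
    rw [show IsLocalRing.residue (X.presheaf.stalk x) (am (t' * t)) =
      IsLocalRing.residue _ (am (t' * t + i)) by rw [map_add, map_add, h3, add_zero], hit, map_one, map_one]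
  rw [map_sub, map_sub, sub_eq_zero, map_mul, map_mul] at h2
  refine h2.trans ?_
  rw [show am b = w * am t from hbt.symm, map_mul, mul_assoc, mul_comm (IsLocalRing.residue _ (am t)), h4, mul_one]

/-- The coefficients of a divisor on the closed fibre are determined by it. -/
theorem mult_unique {R : Type u} [CommRing R] [IsDomain R] [IsDiscreteValuationRing R]
    {X : Over (Spec (CommRingCat.of R))} [IsLocallyNoetherian X.left] [Flat X.hom]
    (hreg : Models.IsRegularScheme X.left) {n : ℕ} {Γ : Fin n → ArSurf.VertComp R X}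
    (hΓ : Models.IsComponentList R X Γ)
    (he : (∏ i, (Γ i).ι.ker ^ Models.mult R X (Γ i)) = Groth.L05.InterPair.div Γ fun _ => 1) (i : Fin n) :
    Models.mult R X (Γ i) = 1 := by
  classical
  let ξ := Models.genPtOf R X (Γ i)
  obtain ⟨_, ⟨W, hW, rfl⟩, hξW, -⟩ :=
    X.left.isBasis_affineOpens.exists_subset_of_mem_open (Set.mem_univ ξ) isOpen_univ
  let U : X.left.affineOpens := ⟨W, hW⟩
  haveI := fun j => isIntegral_subscheme_ker (Γ j)
  have key : ∀ a : Fin n → ℕ, Ideal.map (X.left.presheaf.germ U.1 ξ hξW).hom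
      ((∏ j, (Γ j).ι.ker ^ a j).ideal U) = IsLocalRing.maximalIdeal (X.left.presheaf.stalk ξ) ^ a i := fun a => by
    rw [ideal_prod]
    refine (map_prod (Ideal.mapHom _) _ _).trans ?_
    refine (Finset.prod_eq_single i (fun j _ hji => ?_) (fun h => absurd (Finset.mem_univ i) h)).trans ?_
    · show Ideal.map _ _ = _
      rw [Scheme.IdealSheafData.ideal_pow, Pi.pow_apply, Ideal.map_pow,
        show Ideal.map (X.left.presheaf.germ U.1 ξ hξW).hom ((Γ j).ι.ker.ideal U) = ⊤ from
          stalkIdeal_eq_top _ U ξ hξW fun h => hji (eq_of_genPtOf_mem hΓ h).symm, ← Ideal.one_eq_top, one_pow]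
    · show Ideal.map _ _ = _
      rw [Scheme.IdealSheafData.ideal_pow, Pi.pow_apply, Ideal.map_pow,
        show Ideal.map (X.left.presheaf.germ U.1 ξ hξW).hom ((Γ i).ι.ker.ideal U) =
          IsLocalRing.maximalIdeal (X.left.presheaf.stalk ξ) from
          stalkIdeal_generic _ U ξ hξW (isGenericPoint_genPtOf (Γ i))]
  have h := congrArg (fun D => Ideal.map (X.left.presheaf.germ U.1 ξ hξW).hom (D.ideal U)) he
  rw [Groth.L05.InterPair.div] at h
  rw [key, key] at h
  haveI := hreg ξ
  haveI := Groth.L01.isDomain_of_regular (X.left.presheaf.stalk ξ)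
  show (Module.length (X.left.presheaf.stalk ξ) (X.left.presheaf.stalk ξ ⧸
    Ideal.map (Models.stalkHom R X ξ) (IsLocalRing.maximalIdeal R))).toNat = 1
  have h2 : Ideal.map (Models.stalkHom R X ξ) (IsLocalRing.maximalIdeal R) =
      IsLocalRing.maximalIdeal (X.left.presheaf.stalk ξ) := by
    rw [← stalkIdeal_specialFibreIdeal (X := X) U ξ hξW, specialFibreIdeal_eq_prod hreg hΓ]
    show Ideal.map _ ((∏ j, (Γ j).ι.ker ^ Models.mult R X (Γ j)).ideal U) = _
    rw [key, h, pow_one]
  haveI : IsSimpleModule (X.left.presheaf.stalk ξ) (X.left.presheaf.stalk ξ ⧸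
      Ideal.map (Models.stalkHom R X ξ) (IsLocalRing.maximalIdeal R)) :=
    isSimpleModule_iff_isCoatom.2 (h2 ▸ Ideal.isMaximal_def.1 (IsLocalRing.maximalIdeal.isMaximal _))
  rw [Module.length_eq_one]
  rfl

/-- Let R be a discrete valuation ring with algebraically closed residue field k and fraction field K, C
a smooth proper curve over K with H⁰(C, O_C) = K and dim_K H¹(C, O_C) = g ≥ 2, and X → Spec R a
minimal regular model of C: a regular proper model none of whose vertical prime divisors is an
exceptional curve of the first kind. Let Γ₁, …, Γ_n enumerate the irreducible components of the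
closed fibre, with multiplicities r_i having gcd 1, and suppose the closed fibre is not reduced
(some r_i ≥ 2). Then dim_k H¹((X_k)_red, O) < g, the left side computed as the R-length of H¹(X, O_X
/ I) for I the ideal sheaf of the reduced closed fibre. (The published lemma states this for any
regular model with gcd(r_i) = 1; its proof uses, in the last step, that the component added last is
not an exceptional curve, the standing hypothesis of the result it serves, and the inequality fails
after blowing up a node of a reduced semi-stable fibre, so minimality is assumed here.) -/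
theorem result
    (R : Type u) [CommRing R] [IsDomain R] [IsDiscreteValuationRing R]
    (hk : IsAlgClosed (IsLocalRing.ResidueField R))
    (C : Scheme.{u}) (fC : C ⟶ (Spec (CommRingCat.of (FractionRing R)))) [IsProper fC] [Smooth fC]
    (hC0 : Models.hRank (FractionRing R) C fC (Coh.structureModule C) 0 = 1)
    (g : ℕ) (hg2 : 2 ≤ g) (hg : Models.curveGenus (FractionRing R) C fC = g)
    (X : Scheme.{u}) (p : X ⟶ (Spec (CommRingCat.of R))) (hX : Models.IsMinimalModel R X p C fC)
    {n : ℕ} (Γ : Fin n → ArSurf.VertComp R (Over.mk p)) (hΓ : Models.IsComponentList R (Over.mk p) Γ)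
    (hgcd : Models.multGcd R (Over.mk p) Γ = 1) (hnr : ∃ i, 2 ≤ Models.mult R (Over.mk p) (Γ i)) :
    Models.lengthH R (Over.mk p) (ClSub.quotMod (Models.redFibreIdeal R (Over.mk p))) 1 < g := by
  classical
  obtain ⟨hXr, hexc⟩ := hX
  have hXr' := hXr
  obtain ⟨⟨hflat, hft, -, j, hj⟩, hproper, hreg⟩ := hXr
  -- the generic fibre is a curve
  letI : C.Over (Spec (CommRingCat.of (FractionRing R))) := ⟨fC⟩
  haveI : IsProper (C ↘ Spec (CommRingCat.of (FractionRing R))) := ‹IsProper fC›
  haveI : ConnectedSpace C := Groth.L21.PlaneCurve.connectedSpace_of_h0_eq_one (k := FractionRing R) hC0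
  haveI := Groth.L21.RR.isNoetherian_of_proper (X := C) (FractionRing R)
  haveI hCint : IsIntegral C := Groth.L21.NormalTotal.isIntegral_of_connected fun c => by
    haveI := Groth.L08.Cube.isRegularLocalRing_of_smooth fC c
    exact Groth.L01.isDomain_of_regular _
  have hH0 : IsIso fC.appTop := by
    haveI : IsIso ((Scheme.ΓSpecIso (CommRingCat.of (FractionRing R))).inv ≫ fC.appTop) :=
      (ConcreteCategory.isIso_iff_bijective _).2 (Groth.L12.CurveFam.bijective_toGlobal_of_hRank fC hC0)
    exact IsIso.of_isIso_comp_left (Scheme.ΓSpecIso (CommRingCat.of (FractionRing R))).inv fC.appTop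
  haveI : Flat (Over.mk p).hom := hflat
  haveI : IsProper (Over.mk p).hom := hproper
  haveI : IsLocallyNoetherian (Over.mk p).left := LocallyOfFiniteType.isLocallyNoetherian p
  haveI : IsIntegral (Over.mk p).left := Groth.L05.InterPair.isIntegral_of_model (X := Over.mk p) hreg hj
  have hdimC : topologicalKrullDim C = 1 := by
    obtain ⟨i₀, -⟩ := hnr
    haveI : IsDomain (CommRingCat.of R) := inferInstanceAs (IsDomain R)
    haveI : IsNoetherianRing (CommRingCat.of R) := inferInstanceAs (IsNoetherianRing R)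
    haveI : IrreducibleSpace X := inferInstanceAs (IrreducibleSpace (Over.mk p).left)
    have hY : topologicalKrullDim (Spec (CommRingCat.of R)) = 1 :=
      (PrimeSpectrum.topologicalKrullDim_eq_ringKrullDim R).trans (IsDiscreteValuationRing.ringKrullDim_eq_one R)
    let jK : Spec (CommRingCat.of (FractionRing R)) ⟶ Spec (CommRingCat.of R) :=
      Spec.map (CommRingCat.ofHom (algebraMap R (FractionRing R)))
    let η : Spec (CommRingCat.of R) := genericPoint (Spec (CommRingCat.of R))
    haveI : Subsingleton (Spec (CommRingCat.of (FractionRing R))) :=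
      inferInstanceAs (Subsingleton (PrimeSpectrum (FractionRing R)))
    have hη : ∀ z : Spec (CommRingCat.of (FractionRing R)), jK z = η := fun z => by
      show jK z = genericPoint (Spec (CommRingCat.of R))
      rw [genericPoint_eq_bot_of_affine]
      refine PrimeSpectrum.ext ?_
      show Ideal.comap (algebraMap R (FractionRing R)) z.asIdeal = ⊥
      rw [(Ideal.eq_bot_or_top z.asIdeal).resolve_right z.2.ne_top, Ideal.comap_bot_of_injective]
      exact IsFractionRing.injective R (FractionRing R)
    have hp : DenseRange p.base := by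
      refine dense_iff_closure_eq.2 (Set.eq_univ_of_univ_subset ?_)
      rw [← (genericPoint_spec (Spec (CommRingCat.of R))).def]
      refine closure_mono (Set.singleton_subset_iff.2 ⟨j (genericPoint C), ?_⟩)
      rw [← Scheme.Hom.comp_apply, hj.w, Scheme.Hom.comp_apply]
      exact hη _
    have hrange : Set.range j = p ⁻¹' {η} := by
      have hr : Set.range jK = {η} := by
        ext z
        exact ⟨fun ⟨a, ha⟩ => ha ▸ hη a, fun hz => ⟨fC (genericPoint C), (hη _).trans hz.symm⟩⟩
      rw [← hr, ← Scheme.Pullback.range_fst, ← hj.isoPullback_hom_fst, Scheme.Hom.comp_base,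
        TopCat.coe_comp, Set.range_comp, Set.range_eq_univ.2 hj.isoPullback.hom.surjective, Set.image_univ]
    have hjemb : Topology.IsEmbedding j := by
      obtain ⟨ϖ, hϖ⟩ := IsDiscreteValuationRing.exists_irreducible R
      haveI := (Groth.L05.InterPair.isOpenImmersion_generic R hϖ).1
      haveI : IsOpenImmersion j := MorphismProperty.of_isPullback (P := @IsOpenImmersion) hj.flip inferInstance
      exact j.isOpenEmbedding.isEmbedding
    let y : Spec (CommRingCat.of R) := IsLocalRing.closedPoint R
    let T := Models.specialFibreSet R (Over.mk p)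
    let S : Set X := Set.range ((Γ i₀).ι.base : (Γ i₀).curve.left → X)
    have hS : S ∈ Models.fibreComponents R (Over.mk p) := hΓ.2 ▸ ⟨i₀, rfl⟩
    have hST : S ⊆ p ⁻¹' {y} := hS.1.2
    have he := (p.fiberι y).isEmbedding
    have her : Set.range (p.fiberι y) = p ⁻¹' {y} := p.range_fiberι y
    let Z : Set (p.fiber y) := (p.fiberι y) ⁻¹' S
    have himg : (p.fiberι y) '' Z = S :=
      Set.image_preimage_eq_of_subset (her ▸ hST)
    have hZ : Z ∈ irreducibleComponents (p.fiber y) := by
      refine ⟨⟨(hS.1.1.nonempty.preimage' (her ▸ hST)), ?_⟩, fun W hW hle => ?_⟩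
      · intro u v hu hv
        rintro ⟨a, haS, hau⟩ ⟨b, hbS, hbv⟩
        obtain ⟨u', hu', rfl⟩ := he.isInducing.isOpen_iff.1 hu
        obtain ⟨v', hv', rfl⟩ := he.isInducing.isOpen_iff.1 hv
        obtain ⟨c, hcS, hcu, hcv⟩ := hS.1.1.2 u' v' hu' hv' ⟨_, haS, hau⟩ ⟨_, hbS, hbv⟩
        obtain ⟨d, rfl⟩ := (her ▸ hST) hcS
        exact ⟨d, hcS, hcu, hcv⟩
      have h := hS.2 ⟨hW.image _ (p.fiberι y).continuous.continuousOn,
        (Set.image_subset_range _ _).trans her.le⟩ (himg ▸ Set.image_mono hle)
      exact fun w hw => h ⟨w, hw, rfl⟩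
    have hyr : y ∈ Set.range p.base := by
      obtain ⟨c, hc⟩ : S.Nonempty := hS.1.1.nonempty
      exact ⟨c, hST hc⟩
    have h := Groth.Agent.S4702.result p hY hp y hyr Z hZ
    have h1 : topologicalKrullDim Z = 1 := by
      let eZ : Z ≃ₜ S := (he.comp Topology.IsEmbedding.subtypeVal).toHomeomorph.trans
        (Homeomorph.setCongr (by rw [Set.range_comp, Subtype.range_coe]; exact himg))
      let eS : (Γ i₀).curve.left ≃ₜ S := (Γ i₀).ι.isClosedEmbedding.isEmbedding.toHomeomorph
      rw [IsHomeomorph.topologicalKrullDim_eq _ (eZ.trans eS.symm).isHomeomorph]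
      exact (Γ i₀).dim_eq
    rw [h1] at h
    let eC : C ≃ₜ p.fiber η := (hjemb.toHomeomorph.trans (Homeomorph.setCongr hrange)).trans (p.fiberHomeo η).symm
    rw [IsHomeomorph.topologicalKrullDim_eq _ eC.isHomeomorph]
    exact h.symm
  have hC : Curve.IsSmoothProperCurve (FractionRing R) C fC := ⟨inferInstance, inferInstance, hCint, hdimC⟩
  have hn : ∃ i : Fin n, True := ⟨hnr.choose, trivial⟩
  have hreg' : Models.IsRegularScheme (Over.mk p).left := hreg
  have hconn := Groth.L05.InterPair.isPreconnected_specialFibreSet R fC p hC hH0 hXr'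
  choose L hLi hL using fun i => Groth.L08.Cube.exists_inverse
    ((Groth.Agent.L19.IdealInvertible.isEffCartier_iff _).2
      (Groth.L05.FibreDecomp.isEffCartier (X := Over.mk p) hreg' hΓ i))
  have hL' : ∀ i, ClSub.IsInverseOf (L i) (ClSub.idealMod (Γ i).ι.ker) := fun i =>
    ⟨Groth.L00.Tensor.tensorComm _ _ ≪≫ (hL i).some⟩
  obtain ⟨s, c, hc0, hc1, -, hc3⟩ := Groth.L05.EulerDiv.exists_chain_primitive (X := Over.mk p) hreg' hΓ hL' hconn
    hnr.choose (m' := fun i => Models.mult R (Over.mk p) (Γ i)) Nat.one_pos (fun i => (one_mul _).symm) hgcd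
  have hred := Groth.L05.RedFibre.redFibreIdeal_eq (X := Over.mk p) hreg' hΓ
  have hfib := Groth.L05.FibreDecomp.specialFibreIdeal_eq_prod (X := Over.mk p) hreg' hΓ
  -- over an algebraically closed field the constants are scalars
  have hone : ∀ D : (Over.mk p).left.IdealSheafData, IsField Γ(D.subscheme, ⊤) →
      (D.support : Set (Over.mk p).left) = Models.specialFibreSet R (Over.mk p) →
      Models.lengthH R (Over.mk p) (ClSub.quotMod D) 0 = 1 := by
    intro D hF hsupp
    obtain ⟨x, hxT, hxc⟩ : ∃ x ∈ Models.specialFibreSet R (Over.mk p), IsClosed ({x} : Set (Over.mk p).left) := by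
      haveI : CompactSpace (Over.mk p).left := QuasiCompact.compactSpace_of_compactSpace (Over.mk p).hom
      have hne : (Models.specialFibreSet R (Over.mk p)).Nonempty := by
        have hi : Set.range ((Γ hnr.choose).ι.base : (Γ hnr.choose).curve.left → X) ∈
            Models.fibreComponents R (Over.mk p) := hΓ.2 ▸ ⟨hnr.choose, rfl⟩
        exact hi.1.1.nonempty.mono hi.1.2
      exact IsClosed.exists_closed_singleton (Models.isClosed_specialFibreSet R (Over.mk p)) hne
    have hmem : x ∈ (D.support : Set (Over.mk p).left) := hsupp ▸ hxT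
    rw [← D.range_subschemeι] at hmem
    obtain ⟨y, hy⟩ := hmem
    refine Groth.L05.SectionFibre.lengthH_quotMod_eq_one D y (hy ▸ ?_) hF
    exact surjective_residue_of_isAlgClosed p hxT hxc
  have hH0k : Models.lengthH R (Over.mk p) (ClSub.quotMod (Models.redFibreIdeal R (Over.mk p))) 0 = 1 := by
    rw [hred]
    refine hone _ (hc0 ▸ hc3 0) (Groth.L05.RedFibre.coe_support_div_one (X := Over.mk p) hreg' hΓ)
  have hF : IsField Γ((Models.specialFibreIdeal R (Over.mk p)).subscheme, ⊤) := by
    have h := hc3 (Fin.last s)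
    rw [hc1] at h
    rw [hfib]
    exact h
  have h0 := hone _ hF Groth.L05.FibreDecomp.support_specialFibreIdeal
  have hne : Models.specialFibreIdeal R (Over.mk p) ≠ Models.redFibreIdeal R (Over.mk p) := by
    obtain ⟨i, hi⟩ := hnr
    intro he
    rw [hfib, hred] at he
    have h := mult_unique (X := Over.mk p) hreg' hΓ he i
    omega
  have hlt := (Groth.Agent.S3345.result R C X fC p hC hH0 hXr' Γ hΓ ⟨hXr', hexc⟩ hgcd hH0k).2 hne
  -- the closed fibre has genus `g`
  letI : (Over.mk p).left.Over (Spec (CommRingCat.of R)) := ⟨(Over.mk p).hom⟩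
  have hchi := Groth.L05.EulerDiv.chi_specialFibre C X fC p hC hH0 hXr' fun k hk => by
    rw [hfib]
    exact Groth.L05.EulerDiv.subsingleton_div hreg' hΓ _ k hk
  have hchi' : (Models.lengthH R (Over.mk p) (ClSub.quotMod (Models.specialFibreIdeal R (Over.mk p))) 0 : ℤ) -
      (Models.lengthH R (Over.mk p) (ClSub.quotMod (Models.specialFibreIdeal R (Over.mk p))) 1 : ℤ) =
        1 - (g : ℤ) := by rw [← hg]; exact hchi
  rw [h0] at hchi'
  omega

end Groth.Agent.S15104
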