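import Groth.Statements.S15112
import Groth.Agent.L04.FrobH1.Apps

set_option autoImplicit false
universe u
open CategoryTheory CategoryTheory.Limits AlgebraicGeometry TopologicalSpace
open KodV

namespace Groth.Agent.S15112

/-- Let k be an algebraically closed field of characteristic p > 0, X a proper integral scheme over k
all of whose local rings are integrally closed domains (a normal variety), F : X → X its absolute
Frobenius endomorphism, and E a finite locally free O_X-module. If H⁰(X, F^*E ⊗ Ω¹_{X/k}) = 0, then
the homomorphism H¹(X, E) → H¹(X, F_*F^*E) induced on cohomology by the unit E → F_*F^*E of the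
adjunction between F^* and F_* is injective. (The published statement is for a normal projective
variety; properness is all that is assumed here, the argument being local and cohomological.) -/
theorem result (k : Type u) [Field k] [IsAlgClosed k] (p : ℕ) [Fact p.Prime] [CharP k p]
    (X : Scheme.{u}) [X.Over (Spec (CommRingCat.of k))] [IsProper (X ↘ (Spec (CommRingCat.of k)))] [IsIntegral X] (hXn : Pi1.IsNormalScheme X)
    [FrobSch.IsCharP X p]
    (E : X.Modules) (hE : FlatMod.IsFinLocFree E)
    (h0 : Subsingleton (Coh.HH X (CohB1.tensorMod ((Scheme.Modules.pullback (FrobSch.frob X p)).obj E) (Omega.sheaf (X ↘ (Spec (CommRingCat.of k))))) 0)) :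
    Function.Injective
      (Sheaf.H.map ((SheafOfModules.toSheaf X.ringCatSheaf).map
        ((Scheme.Modules.pullbackPushforwardAdjunction (FrobSch.frob X p)).unit.app E)) 1) := by
  haveI : QuasiSeparated (X ↘ Spec (CommRingCat.of k)) := inferInstance
  exact Groth.L04.FrobH1.injective_H1_unit (X ↘ Spec (CommRingCat.of k)) hXn E hE h0

end Groth.Agent.S15112
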