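import Groth.Statements.S15115
import Groth.Agent.L08.LinRed

set_option autoImplicit false
universe u
open HopfRep

namespace Groth.Agent.S15115
open TensorProduct

open TensorProduct in
/-- Let k be an algebraically closed field, H a finite-dimensional commutative Hopf algebra over k all
of whose finite-dimensional comodules are semisimple (a finite linearly reductive group scheme G
over k), A a commutative k-algebra, and M an A-module with an H-coaction that is A-linear (G acts on
M by A-module maps, A carrying the trivial action). Let A' be a commutative A-algebra and N = A' ⊗_A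
M its base change, exhibited by an A-linear map φ : M → N, with the induced coaction: A'-linear and
compatible with φ. Then invariants commute with this base change: writing M^G for the A-submodule of
coinvariant elements of M, the natural map A' ⊗_A M^G → N, a' ⊗ m ↦ a' φ(m), is injective and its
image is exactly the set of coinvariant elements of N. (The published statement is the isomorphism
ρ^* π_* F → π'_* σ^* F for a tame Deligne–Mumford stack with coarse moduli space π and any base
change ρ of the coarse space; this row is the statement about invariants to which its proof reduces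
it, for modules that need not be finitely generated.) -/
theorem result (k : Type u) [Field k] [IsAlgClosed k]
    (H : Type u) [CommRing H] [HopfAlgebra k H] [Module.Finite k H] (hred : HopfRep.IsLinearlyReductive k H)
    (A : Type u) [CommRing A] [Algebra k A]
    (M : Type u) [AddCommGroup M] [Module k M] [Module A M] [IsScalarTower k A M] [HopfRep.Comod k H M]
    (hlin : ∀ (a : A) (m : M), HopfRep.Comod.coact (k := k) (A := H) (a • m) = a • HopfRep.Comod.coact (k := k) (A := H) m)
    (A' : Type u) [CommRing A'] [Algebra k A'] [Algebra A A'] [IsScalarTower k A A']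
    (N : Type u) [AddCommGroup N] [Module k N] [Module A N] [Module A' N]
    [IsScalarTower k A N] [IsScalarTower A A' N] [IsScalarTower k A' N] [HopfRep.Comod k H N]
    (φ : M →ₗ[A] N) (hφ : IsBaseChange A' φ)
    (hcomp : ∀ m : M, HopfRep.Comod.coact (k := k) (A := H) (φ m) =
      LinearMap.rTensor H (φ.restrictScalars k) (HopfRep.Comod.coact (k := k) (A := H) m))
    (hlinN : ∀ (a' : A') (n : N), HopfRep.Comod.coact (k := k) (A := H) (a' • n) = a' • HopfRep.Comod.coact (k := k) (A := H) n)
    (P : Submodule A M) (hP : (P : Set M) = (HopfRep.fixedPts k H M : Set M)) :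
    Function.Injective (TensorProduct.lift (((Algebra.lsmul A A N : A' →ₐ[A] Module.End A N).toLinearMap).compl₂ (φ ∘ₗ P.subtype))) ∧
      Set.range (TensorProduct.lift (((Algebra.lsmul A A N : A' →ₐ[A] Module.End A N).toLinearMap).compl₂ (φ ∘ₗ P.subtype))) =
        (HopfRep.fixedPts k H N : Set N) := by
  obtain ⟨α, hα⟩ := L08.exists_isIntegral hred
  have hφc : Hoch.IsComodHom H (φ.restrictScalars k) := LinearMap.ext fun m => hcomp m
  have hsmulM : ∀ (a : A) (m : M), L08.rey M α (a • m) = a • L08.rey M α m := by
    intro a m
    rw [L08.rey_apply, L08.rey_apply, hlin]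
    induction HopfRep.Comod.coact (k := k) (A := H) m with
    | zero => simp
    | add x y hx hy => simp only [smul_add, map_add, hx, hy]
    | tmul x y => simp [TensorProduct.smul_tmul', smul_comm a]
  have hsmulN : ∀ (a : A') (n : N), L08.rey N α (a • n) = a • L08.rey N α n := by
    intro a n
    rw [L08.rey_apply, L08.rey_apply, hlinN]
    induction HopfRep.Comod.coact (k := k) (A := H) n with
    | zero => simp
    | add x y hx hy => simp only [smul_add, map_add, hx, hy]
    | tmul x y => simp [TensorProduct.smul_tmul', smul_comm a]
  have hmemP : ∀ m, m ∈ P ↔ m ∈ HopfRep.fixedPts k H M := fun m => Set.ext_iff.1 hP m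
  let r : M →ₗ[A] P :=
    { toFun := fun m => ⟨L08.rey M α m, (hmemP _).2 (hα.rey_mem m)⟩
      map_add' := fun x y => Subtype.ext (map_add (L08.rey M α) x y)
      map_smul' := fun a m => Subtype.ext (hsmulM a m) }
  have hr : r ∘ₗ P.subtype = LinearMap.id :=
    LinearMap.ext fun p => Subtype.ext (hα.rey_eq ((hmemP _).1 p.2))
  have hfix : ∀ p : P, φ (p : M) ∈ HopfRep.fixedPts k H N := fun p => by
    have hp : HopfRep.Comod.coact (k := k) (A := H) (p : M) = (p : M) ⊗ₜ[k] (1 : H) := (hmemP _).1 p.2
    change _ = _
    rw [hcomp, hp]
    rfl
  let Θ := TensorProduct.lift (((Algebra.lsmul A A N : A' →ₐ[A] Module.End A N).toLinearMap).compl₂ (φ ∘ₗ P.subtype))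
  change Function.Injective Θ ∧ Set.range Θ = _
  have hΘ : ∀ x, Θ x = hφ.equiv (P.subtype.lTensor A' x) := by
    intro x
    induction x with
    | zero => simp
    | add u v hu hv => simp only [map_add, hu, hv]
    | tmul a p => simp [Θ, IsBaseChange.equiv_tmul]
  refine ⟨fun x y h => ?_, Set.ext fun n => ⟨?_, fun hn => ?_⟩⟩
  · rw [hΘ, hΘ] at h
    have := congrArg (r.lTensor A') (hφ.equiv.injective h)
    rwa [← LinearMap.lTensor_comp_apply, ← LinearMap.lTensor_comp_apply, hr, LinearMap.lTensor_id] at this
  · rintro ⟨x, rfl⟩
    induction x with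
    | zero => simp
    | add u v hu hv => rw [map_add]; exact add_mem hu hv
    | tmul a p =>
      have hp := hfix p
      change HopfRep.Comod.coact (k := k) (A := H) (a • φ (p : M)) = (a • φ (p : M)) ⊗ₜ[k] (1 : H)
      rw [hlinN, hp, TensorProduct.smul_tmul']
  · obtain ⟨z, rfl⟩ := hφ.equiv.surjective n
    refine ⟨r.lTensor A' z, ?_⟩
    rw [← hα.rey_eq hn]
    clear hn
    induction z with
    | zero => simp
    | add u v hu hv => simp only [map_add, hu, hv]
    | tmul a m =>
      rw [IsBaseChange.equiv_tmul, hsmulN, LinearMap.lTensor_tmul,
        show L08.rey N α (φ m) = φ (L08.rey M α m) from (L08.rey_natural (f := φ.restrictScalars k) hφc α m).symm]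
      simp [Θ, r]

end Groth.Agent.S15115
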