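import Groth.Statements.S15116
import Groth.Agent.L28.GradedDer.Basic
-- import your own Groth.Agent.* helpers here

set_option autoImplicit false
universe u v
open NRGIT

namespace Groth.Agent.S15116

/-- Let k be a characteristic-zero field and A a commutative k-algebra, graded by the integers with all
pieces of positive degree zero, and D a k-derivation of A that raises degrees by a fixed positive
integer l. If no maximal ideal of A contains both every piece of negative degree and the image of D,
then there is f with D f = 1. (The published statement is for an affine variety with an action of
the semidirect product of the additive and multiplicative groups, the multiplicative group acting on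
the coordinate ring with non-positive weights and on the Lie algebra of the additive group with
positive weight: the derivation is a generator of that Lie algebra, the maximal ideals containing
the pieces of negative degree are the limit points under the multiplicative group, and a limit point
has trivial additive stabiliser exactly when the image of D is not contained in its ideal; this row
keeps only this algebraic content, for any such graded algebra. The first assertion of the published
lemma, that every point has a limit in the variety under the multiplicative group as t → 0, is not
part of this row.) -/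
theorem result (k : Type u) [Field k] [CharZero k]
    (A : Type v) [CommRing A] [Algebra k A] (𝒜 : ℤ → Submodule k A) [GradedAlgebra 𝒜]
    (hpos : ∀ i : ℤ, 0 < i → 𝒜 i = ⊥)
    (D : Derivation k A A) (l : ℤ) (hl : 0 < l)
    (hD : ∀ (i : ℤ) (a : A), a ∈ 𝒜 i → D a ∈ 𝒜 (i + l))
    (hfree : ∀ m : Ideal A, m.IsMaximal → (∀ i : ℤ, i < 0 → (𝒜 i : Set A) ⊆ m) → ∃ a : A, D a ∉ m) :
    ∃ f : A, D f = 1 := by
  have hpos' : ∀ w : ℤ, 𝒜 w ≠ ⊥ → 𝒜 (-w) ≠ ⊥ → w = 0 := fun w h1 h2 => by
    have a1 : ¬ 0 < w := fun h => h1 (hpos w h)
    have a2 : ¬ 0 < -w := fun h => h2 (hpos (-w) h)
    omega
  obtain ⟨s, -, hs⟩ := Groth.L28.GradedDer.exists_eq_one 𝒜 hpos' D l hD (hpos l hl) (fun m hm h hr => by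
    obtain ⟨a, ha⟩ := hfree m hm (fun i hi => h i hi.ne)
    exact ha (hr ⟨a, rfl⟩))
  exact ⟨s, hs⟩

end Groth.Agent.S15116
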