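import Groth.Statements.S15117
import Mathlib.RingTheory.Flat.Basic
import Mathlib.Algebra.Module.Projective
import Mathlib.LinearAlgebra.Basis.VectorSpace

set_option autoImplicit false
universe u v w
open TensorProduct
open NRGIT

namespace Groth.Agent.S15117

/-- Let k be a field, π : A → B a map of commutative bialgebras over k, W a right A-comodule and V ⊆ W a
subcomodule all of whose elements are coinvariant for the B-coaction induced through π. Then the
coaction of every v ∈ V lies in V ⊗ A' ⊆ W ⊗ A, where A' ⊆ A is the set of elements a with (π ⊗
id)(Δ a) = 1 ⊗ a, i.e. coinvariant for the coaction of B on A through π on the left factor; the row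
states membership in the span of the pure tensors w ⊗ a with w ∈ V and a ∈ A'. (The published
statement is for a linear algebraic group H over an algebraically closed field of characteristic
zero, a normal subgroup N and an H-stable space V of N-invariant sections of a linearised line
bundle, with the coaction landing in O(H)^N ⊗ V, where O(H)^N is the ring of functions on H
invariant under N acting by right multiplication; this row is the comodule form, for any bialgebra
map over a field, where normality of N is not needed.) -/
theorem result (k : Type u) [Field k]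
    (A B : Type v) [CommRing A] [CommRing B] [Bialgebra k A] [Bialgebra k B] (π : A →ₐc[k] B)
    (W : Type w) [AddCommGroup W] [Module k W] [HopfRep.Comod k A W]
    (V : Submodule k W) (hV : HopfRep.IsSubcomod (k := k) (A := A) V)
    (hfix : ∀ v ∈ V, (π.toLinearMap.lTensor W) (HopfRep.Comod.coact (k := k) (A := A) v) = v ⊗ₜ[k] (1 : B))
    (v : W) (hv : v ∈ V) :
    HopfRep.Comod.coact (k := k) (A := A) v ∈
      Submodule.span k {x : W ⊗[k] A | ∃ w ∈ V, ∃ a : A,
        (π.toLinearMap.rTensor A) (Coalgebra.comul (R := k) a) = (1 : B) ⊗ₜ[k] a ∧ x = w ⊗ₜ[k] a} := by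
  let φ : A →ₗ[k] B ⊗[k] A := (π.toLinearMap.rTensor A) ∘ₗ Coalgebra.comul - TensorProduct.mk k B A 1
  obtain ⟨z, hz⟩ := hV v hv
  have hcomul := LinearMap.congr_fun (HopfRep.Comod.coassoc (k := k) (A := A) (V := W)) v
  simp only [LinearMap.comp_apply, LinearEquiv.coe_coe] at hcomul
  have hφ : φ.lTensor W (HopfRep.Comod.coact (k := k) (A := A) v) = 0 := by
    have h1 := congrArg ((π.toLinearMap.rTensor A).lTensor W) hcomul
    rw [← LinearMap.comp_apply ((π.toLinearMap.rTensor A).lTensor W) (Coalgebra.comul.lTensor W),
      ← LinearMap.lTensor_comp] at h1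
    simp only [φ, LinearMap.lTensor_sub, LinearMap.sub_apply]
    rw [← h1, sub_eq_zero, ← hz]
    clear hz h1 hcomul
    induction z with
    | zero => simp
    | tmul w a =>
      simp only [LinearMap.rTensor_tmul, LinearMap.lTensor_tmul, Submodule.coe_subtype]
      have e : ∀ y : W ⊗[k] A, (π.toLinearMap.rTensor A).lTensor W
          (TensorProduct.assoc k W A A (y ⊗ₜ[k] a)) =
          TensorProduct.assoc k W B A ((π.toLinearMap.lTensor W y) ⊗ₜ[k] a) := by
        intro y
        induction y with
        | zero => simp
        | tmul x b => simp
        | add x y hx hy => simp only [TensorProduct.add_tmul, map_add, hx, hy]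
      rw [e, hfix w w.2]
      simp
    | add x y hx hy => simp only [map_add, hx, hy]
  rw [← hz] at hφ ⊢
  have hz0 : φ.lTensor V z = 0 := by
    refine Module.Flat.rTensor_preserves_injective_linearMap (M := B ⊗[k] A) V.subtype V.injective_subtype ?_
    rw [map_zero, ← LinearMap.comp_apply, LinearMap.rTensor_comp_lTensor, ← LinearMap.lTensor_comp_rTensor]
    exact hφ
  obtain ⟨y, rfl⟩ := (Module.Flat.lTensor_exact V (LinearMap.exact_subtype_ker_map φ) z).1 hz0
  clear hz hφ hz0
  induction y with
  | zero => simp
  | tmul w a =>
    refine Submodule.subset_span ⟨w, w.2, a, ?_, by simp⟩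
    have := a.2
    simp only [φ, LinearMap.mem_ker, LinearMap.sub_apply, sub_eq_zero] at this
    exact this
  | add x y hx hy => simp only [map_add]; exact add_mem hx hy


end Groth.Agent.S15117
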