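import Groth.Statements.S15118
import Groth.Agent.L14.NRQuot.Closed

set_option autoImplicit false
universe u
open CategoryTheory MonoidalCategory CartesianMonoidalCategory MonObj GrpObj AlgebraicGeometry Topology
open NRGIT

namespace Groth.Agent.S15118

/-- Over an algebraically closed field k of characteristic zero, let H be a linear algebraic group
(affine, reduced, of finite type) with a closed normal subgroup N and quotient q : H → Q (a
surjective homomorphism with kernel N), acting on a variety X (reduced, separated, of finite type);
let the restricted action of N have a geometric quotient π : X → Y with Y a variety, and let Q act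
on Y so that π is equivariant along q. Then every orbit of a geometric point of Y under Q is closed
exactly when every orbit of a geometric point of X under H is closed. (The published lemma assumes
in addition that the stabilisers of the N-action are finite, which this part does not use; it takes
geometric quotients in the sense of affine good quotients that are orbit spaces, while this row uses
a universally submersive geometric quotient that need not be affine; the induced action of Q on Y is
taken as a datum together with the equivariance of π.) -/
theorem result (k : Type u) [Field k] [IsAlgClosed k] [CharZero k]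
    (H N Q X Y : Over (Spec (CommRingCat.of k))) [GrpObj H] [GrpObj N] [GrpObj Q]
    [IsAffine H.left] [LocallyOfFiniteType H.hom] [IsReduced H.left]
    [IsAffine N.left] [LocallyOfFiniteType N.hom] [IsReduced N.left]
    [IsAffine Q.left] [LocallyOfFiniteType Q.hom] [IsReduced Q.left]
    [LocallyOfFiniteType X.hom] [QuasiCompact X.hom] [IsSeparated X.hom] [IsReduced X.left]
    [LocallyOfFiniteType Y.hom] [QuasiCompact Y.hom] [IsSeparated Y.hom] [IsReduced Y.left]
    (i : N ⟶ H) [IsMonHom i] [IsClosedImmersion i.left] (hnorm : AlgGrp.IsNormalHom i)
    (q : H ⟶ Q) [IsMonHom q] [Surjective q.left] (hker : AlgGrp.IsKernel i q)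
    (a : AlgGrp.Action H X) (aN : AlgGrp.Action N X) (haN : aN.act = (i ▷ X) ≫ a.act)
    (π : X ⟶ Y) (hπ : GIT.IsGeomQuot aN π)
    (aQ : AlgGrp.Action Q Y) (hequiv : (q ⊗ₘ π) ≫ aQ.act = a.act ≫ π) :
    GIT.IsClosedAction aQ ↔ GIT.IsClosedAction a := by
  exact Groth.L14.NRQuot.isClosedAction_iff i q a aN haN π hπ aQ hequiv

end Groth.Agent.S15118
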