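import Groth.Statements.S15119
import Groth.Agent.L14.NRQuot.Closed

set_option autoImplicit false
universe u
open CategoryTheory MonoidalCategory CartesianMonoidalCategory MonObj GrpObj AlgebraicGeometry Topology
open NRGIT

namespace Groth.Agent.S15119

/-- Over an algebraically closed field k of characteristic zero, let H be a linear algebraic group
(affine, reduced, of finite type) with a closed normal subgroup N and quotient q : H → Q (a
surjective homomorphism with kernel N), acting on a variety X (reduced, separated, of finite type);
let the restricted action of N have a geometric quotient π : X → Y with Y a variety, and let Q act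
on Y so that π is equivariant along q, and assume the stabilisers of the geometric points of X under
N are finite. Then for every geometric point x of X, the stabiliser of π(x) in Q is finite exactly
when the stabiliser of x in H is finite (stabilisers are group schemes over the field of definition
of the point, and finite replaces 'a finite group of points', the same for group schemes of finite
type over an algebraically closed field; the published lemma takes geometric quotients in the sense
of affine good quotients that are orbit spaces, while this row uses a universally submersive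
geometric quotient that need not be affine; the induced action of Q on Y is taken as a datum
together with the equivariance of π). -/
theorem result (k : Type u) [Field k] [IsAlgClosed k] [CharZero k]
    (H N Q X Y : Over (Spec (CommRingCat.of k))) [GrpObj H] [GrpObj N] [GrpObj Q]
    [IsAffine H.left] [LocallyOfFiniteType H.hom] [IsReduced H.left]
    [IsAffine N.left] [LocallyOfFiniteType N.hom] [IsReduced N.left]
    [IsAffine Q.left] [LocallyOfFiniteType Q.hom] [IsReduced Q.left]
    [LocallyOfFiniteType X.hom] [QuasiCompact X.hom] [IsSeparated X.hom] [IsReduced X.left]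
    [LocallyOfFiniteType Y.hom] [QuasiCompact Y.hom] [IsSeparated Y.hom] [IsReduced Y.left]
    (i : N ⟶ H) [IsMonHom i] [IsClosedImmersion i.left] (hnorm : AlgGrp.IsNormalHom i)
    (q : H ⟶ Q) [IsMonHom q] [Surjective q.left] (hker : AlgGrp.IsKernel i q)
    (a : AlgGrp.Action H X) (aN : AlgGrp.Action N X) (haN : aN.act = (i ▷ X) ≫ a.act)
    (hfin : ∀ (Ω : Type u) [Field Ω] [IsAlgClosed Ω] (T : Over (Spec (CommRingCat.of k)))
      (_ : T.left ≅ Spec (CommRingCat.of Ω)) (f : T ⟶ X), IsFinite (GLinSh.stabTo aN f))
    (π : X ⟶ Y) (hπ : GIT.IsGeomQuot aN π)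
    (aQ : AlgGrp.Action Q Y) (hequiv : (q ⊗ₘ π) ≫ aQ.act = a.act ≫ π)
    (Ω : Type u) [Field Ω] [IsAlgClosed Ω] (T : Over (Spec (CommRingCat.of k)))
    (e : T.left ≅ Spec (CommRingCat.of Ω)) (x : T ⟶ X) :
    IsFinite (GLinSh.stabTo aQ (x ≫ π)) ↔ IsFinite (GLinSh.stabTo a x) := by
  obtain ⟨hlftN, hN⟩ := Groth.L14.NRQuot.isFinite_stabTo_iff aN T e x
  obtain ⟨hlftQ, hQ⟩ := Groth.L14.NRQuot.isFinite_stabTo_iff aQ T e (x ≫ π)
  obtain ⟨-, hH⟩ := Groth.L14.NRQuot.isFinite_stabTo_iff a T e x
  rw [hQ, hH]
  exact Groth.L14.NRQuot.finite_stab_iff i q hker a aN haN π hπ.inv hπ.orbit aQ hequiv T e x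
    (hN.1 (hfin Ω T e x)) hlftQ

end Groth.Agent.S15119
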