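import Groth.Statements.S15122
import Mathlib.RingTheory.GradedAlgebra.Homogeneous.Maps
import Mathlib.RingTheory.Localization.Away.Basic
-- import your own Groth.Agent.* helpers here

set_option autoImplicit false
universe u v w
open GIT

namespace Groth.Agent.S15122

/-- Let R be a commutative ring, A a commutative R-algebra graded by the natural numbers, σ a
homogeneous element of degree zero, and B the localisation of A away from σ, equipped with a grading
by the natural numbers for which the localisation map ι : A → B is a graded ring homomorphism (such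
a grading is necessarily the one induced from A). Then the homogeneous ideal of B generated by the
image of the irrelevant ideal of A is the whole irrelevant ideal of B; in other words the induced
rational map from Proj B to Proj A is defined everywhere. (The published statement also assumes σ a
non-zero-divisor, which this step does not use, and goes on to conclude that Proj B → Proj A is an
open immersion onto the basic open set of σ.) -/
theorem result
    (R : Type u) (A : Type v) (B : Type w) [CommRing R] [CommRing A] [CommRing B] [Algebra R A] [Algebra R B]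
    [Algebra A B] [IsScalarTower R A B]
    (𝒜 : ℕ → Submodule R A) [GradedAlgebra 𝒜] (ℬ : ℕ → Submodule R B) [GradedAlgebra ℬ]
    (σ : A) (hσ0 : σ ∈ 𝒜 0) [IsLocalization.Away σ B]
    (ι : 𝒜 →+*ᵍ ℬ) (hι : ∀ a : A, ι a = algebraMap A B a) :
    (HomogeneousIdeal.irrelevant 𝒜).map ι = HomogeneousIdeal.irrelevant ℬ := by
  classical
  apply le_antisymm
  · rw [HomogeneousIdeal.map_le_iff_le_comap, HomogeneousIdeal.irrelevant_le]
    intro i hi a ha
    exact HomogeneousIdeal.mem_irrelevant_of_mem ℬ hi (ι.map_mem ha)
  · rw [HomogeneousIdeal.irrelevant_le]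
    intro m hm b hb
    obtain ⟨⟨a, s⟩, hs⟩ := IsLocalization.surj (Submonoid.powers σ) b
    obtain ⟨k, hk⟩ := s.2
    have h0 : ι (s : A) ∈ ℬ 0 := ι.map_mem (by rw [← hk]; simpa using SetLike.pow_mem_graded k hσ0)
    have e : ι a = b * ι (s : A) := by rw [hι, hι]; exact hs.symm
    have hm' : ι a ∈ ℬ m := e ▸ (add_zero m ▸ SetLike.mul_mem_graded hb h0)
    have : ι (DirectSum.decompose 𝒜 a m : A) = ι a := by
      rw [ι.map_directSumDecompose, DirectSum.decompose_of_mem_same _ hm']
    obtain ⟨u, hu⟩ := IsLocalization.map_units B s
    have hb' : b = ι (DirectSum.decompose 𝒜 a m : A) * ↑u⁻¹ := by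
      rw [this, e, hι, ← hu, mul_assoc, Units.mul_inv, mul_one]
    show b ∈ Ideal.map ι (HomogeneousIdeal.irrelevant 𝒜).toIdeal
    rw [hb']
    exact Ideal.mul_mem_right _ _ (Ideal.mem_map_of_mem _
      (HomogeneousIdeal.mem_irrelevant_of_mem 𝒜 hm (SetLike.coe_mem _)))

end Groth.Agent.S15122
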