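import Groth.Statements.S15123
import Groth.Agent.L08.Diag
import Mathlib.RingTheory.Bialgebra.MonoidAlgebra
import Mathlib.RingTheory.Spectrum.Prime.Topology

set_option autoImplicit false
universe u v w
open InvQ

namespace Groth.Agent.S15123

/-- Let k be an algebraically closed field of characteristic zero, Λ a finitely generated free abelian
group and k[Λ] its group algebra, the coordinate Hopf algebra of the torus with character group Λ.
Let R be a reduced finitely generated commutative k-algebra with a multiplicative coaction of k[Λ]
(an action of the torus on the affine variety Spec R), and suppose the grading monoid is positive: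
if R has a non-zero eigenvector of weight w and one of weight −w then w = 0. Then for every k-point
x of Spec R, the orbit of x is closed if and only if x is a fixed point. (The published statement
also asserts that the fixed-point subvariety is affine and is a good quotient for the action; only
the description of the closed orbits is stated here.) -/
theorem result
    (k : Type u) [Field k] [IsAlgClosed k] [CharZero k]
    (Λ : Type v) [AddCommGroup Λ] [Module.Free ℤ Λ] [Module.Finite ℤ Λ]
    (R : Type w) [CommRing R] [Algebra k R] [Algebra.FiniteType k R] [IsReduced R]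
    [HopfRep.Comod k (AddMonoidAlgebra k Λ) R] [GLin.IsCoactAlg k (AddMonoidAlgebra k Λ) R]
    (hpos : ∀ w : Λ, HopfRep.eigenspace k (AddMonoidAlgebra k Λ) R (AddMonoidAlgebra.single w 1) ≠ ⊥ →
      HopfRep.eigenspace k (AddMonoidAlgebra k Λ) R (AddMonoidAlgebra.single (-w) 1) ≠ ⊥ → w = 0)
    (x : R →ₐ[k] k) :
    GLin.IsClosedOrbit k (AddMonoidAlgebra k Λ) x ↔ GLin.IsFixedPt k (AddMonoidAlgebra k Λ) x := by
  classical
  let A := AddMonoidAlgebra k Λ
  have hA : HopfRep.IsDiagonalizable k A := AddMonoidAlgebra.span_isGroupLikeElem
  have hspan : ∀ r : R, r ∈ Submodule.span k {v : R | ∃ w : Λ, v ∈ HopfRep.eigenspace k A R (AddMonoidAlgebra.single w 1)} := by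
    intro r
    have h := Groth.L08.span_eigenvectors_eq_top (k := k) (A := A) (V := R) hA
    refine (Submodule.span_mono ?_) (h.ge (Submodule.mem_top (x := r)))
    rintro v ⟨a, ha, hv⟩
    obtain ⟨w, rfl⟩ := AddMonoidAlgebra.isGroupLikeElem_iff_mem_range_single_one.1 ha
    exact ⟨w, hv⟩
  let φ : R →ₐ[k] A := GLin.orbitHom k A x
  have hφ : ∀ (v : R) (w : Λ), v ∈ HopfRep.eigenspace k A R (AddMonoidAlgebra.single w 1) →
      φ v = x v • AddMonoidAlgebra.single w (1 : k) := by
    intro v w hv
    show (Algebra.TensorProduct.lid k A) ((Algebra.TensorProduct.map x (AlgHom.id k A)) (HopfRep.Comod.coact (k := k) (A := A) v)) = _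
    rw [show HopfRep.Comod.coact (k := k) (A := A) v = _ from hv, Algebra.TensorProduct.map_tmul, Algebra.TensorProduct.lid_tmul]
    rfl
  constructor
  · intro hcl
    have hzero : ∀ (v : R) (w : Λ), v ∈ HopfRep.eigenspace k A R (AddMonoidAlgebra.single w 1) → w ≠ 0 → x v = 0 := by
      intro v w hv hw
      by_contra hxv
      let y : R →ₗ[k] k :=
        { toFun := fun r => (φ r).coeff 0
          map_add' := fun a b => by rw [map_add]; rfl
          map_smul' := fun c a => by rw [map_smul]; rfl }
      have hyv : ∀ (u : R) (e : Λ), u ∈ HopfRep.eigenspace k A R (AddMonoidAlgebra.single e 1) → y u = if e = 0 then x u else 0 := by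
        intro u e hu
        show (φ u).coeff 0 = _
        rw [hφ u e hu]
        split_ifs with he
        · simp [he]
        · simp [he, eq_comm]
      have hy1 : y 1 = 1 := by
        show (φ 1).coeff 0 = 1
        rw [map_one, AddMonoidAlgebra.one_def]; simp
      have hymul : ∀ a b : R, y (a * b) = y a * y b := by
        intro a b
        induction hspan a using Submodule.span_induction with
        | zero => simp
        | add p q _ _ hp hq => rw [add_mul, map_add, hp, hq, map_add, add_mul]
        | smul c p _ hp => rw [smul_mul_assoc, map_smul, hp, map_smul, smul_mul_assoc]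
        | mem u hu =>
          obtain ⟨e, hu⟩ := hu
          induction hspan b using Submodule.span_induction with
          | zero => simp
          | add p q _ _ hp hq => rw [mul_add, map_add, hp, hq, map_add, mul_add]
          | smul c p _ hp => rw [mul_smul_comm, map_smul, hp, map_smul, mul_smul_comm]
          | mem z hz =>
            obtain ⟨e', hz⟩ := hz
            have huz : u * z ∈ HopfRep.eigenspace k A R (AddMonoidAlgebra.single (e + e') 1) := by
              show HopfRep.Comod.coact (k := k) (A := A) (u * z) = _
              rw [GLin.IsCoactAlg.coact_mul, show HopfRep.Comod.coact (k := k) (A := A) u = _ from hu,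
                show HopfRep.Comod.coact (k := k) (A := A) z = _ from hz, Algebra.TensorProduct.tmul_mul_tmul,
                AddMonoidAlgebra.single_mul_single, mul_one]
            rw [hyv _ _ huz, hyv _ _ hu, hyv _ _ hz, map_mul]
            by_cases he : e = 0
            · subst he; by_cases he' : e' = 0 <;> simp [he']
            · rw [if_neg he, zero_mul]
              split_ifs with hsum
              · by_contra hne
                refine he (hpos e (fun hbot => hne ?_) (fun hbot => hne ?_))
                · rw [hbot, Submodule.mem_bot] at hu; rw [hu, map_zero, zero_mul]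
                · rw [← eq_neg_of_add_eq_zero_right hsum] at hbot
                  rw [hbot, Submodule.mem_bot] at hz; rw [hz, map_zero, mul_zero]
              · rfl
      let Y : R →ₐ[k] k := AlgHom.ofLinearMap y hy1 hymul
      let Q : PrimeSpectrum R := ⟨RingHom.ker Y, RingHom.ker_isPrime Y⟩
      have hQ : Q ∈ closure (Set.range (PrimeSpectrum.comap φ.toRingHom)) := by
        rw [PrimeSpectrum.closure_range_comap, PrimeSpectrum.mem_zeroLocus]
        intro r hr
        show (φ r).coeff 0 = 0
        rw [show φ r = 0 from hr]; simp
      rw [IsClosed.closure_eq hcl] at hQ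
      obtain ⟨P, hP⟩ := hQ
      have hvQ : v ∈ Q.asIdeal := (hyv v w hv).trans (if_neg hw)
      rw [← hP] at hvQ
      have hu : IsUnit (φ v) := by
        rw [hφ v w hv]
        refine ⟨⟨x v • AddMonoidAlgebra.single w (1 : k), (x v)⁻¹ • AddMonoidAlgebra.single (-w) (1 : k), ?_, ?_⟩, rfl⟩ <;>
          rw [smul_mul_smul_comm, AddMonoidAlgebra.single_mul_single] <;> simp [hxv] <;> rfl
      exact P.isPrime.ne_top (Ideal.eq_top_of_isUnit_mem _ hvQ hu)
    refine AlgHom.ext fun r => ?_
    induction hspan r using Submodule.span_induction with
    | zero => simp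
    | add p q _ _ hp hq => rw [map_add, map_add, hp, hq]
    | smul c p _ hp => rw [map_smul, map_smul, hp]
    | mem u hu =>
      obtain ⟨e, hu⟩ := hu
      refine (hφ u e hu).trans ?_
      by_cases he : e = 0
      · subst he
        rw [← AddMonoidAlgebra.one_def, ← Algebra.algebraMap_eq_smul_one]
        rfl
      · rw [hzero u e hu he, zero_smul]
        show (0 : A) = algebraMap k A (x u)
        rw [hzero u e hu he, map_zero]
  · intro hfix
    have hrange : Set.range (PrimeSpectrum.comap (GLin.orbitHom k A x).toRingHom) = {⟨RingHom.ker x, RingHom.ker_isPrime x⟩} := by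
      have hc : ∀ P : PrimeSpectrum A, PrimeSpectrum.comap (GLin.orbitHom k A x).toRingHom P = ⟨RingHom.ker x, RingHom.ker_isPrime x⟩ := by
        intro P
        refine PrimeSpectrum.ext (Ideal.ext fun r => ?_)
        show GLin.orbitHom k A x r ∈ P.asIdeal ↔ x r = 0
        rw [show GLin.orbitHom k A x r = algebraMap k A (x r) from DFunLike.congr_fun hfix r]
        refine ⟨fun h => ?_, fun h => by rw [h, map_zero]; exact zero_mem _⟩
        by_contra hne
        exact P.isPrime.ne_top (Ideal.eq_top_of_isUnit_mem _ h ((isUnit_iff_ne_zero.2 hne).map _))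
      obtain ⟨P⟩ : Nonempty (PrimeSpectrum A) := inferInstance
      exact Set.Subset.antisymm (Set.range_subset_iff.2 fun P => hc P) (Set.singleton_subset_iff.2 ⟨P, hc P⟩)
    unfold GLin.IsClosedOrbit
    rw [hrange, PrimeSpectrum.isClosed_singleton_iff_isMaximal]
    exact RingHom.ker_isMaximal_of_surjective x (fun c => ⟨algebraMap k R c, x.commutes c⟩)

end Groth.Agent.S15123
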