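import Groth.Statements.S15124
import Groth.Agent.L08.Diag
import Mathlib.RingTheory.Bialgebra.MonoidAlgebra
-- import your own Groth.Agent.* helpers here

set_option autoImplicit false
set_option backward.isDefEq.respectTransparency.types false
set_option linter.style.haveILetI false
universe u v w
open InvQ

namespace Groth.Agent.S15124

/-- Let k be an algebraically closed field of characteristic zero, Λ a finitely generated free abelian
group with group algebra k[Λ] (the coordinate Hopf algebra of a torus T), and R a reduced finitely
generated commutative k-algebra with a multiplicative coaction of k[Λ] (an action of T on the affine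
variety X = Spec R) whose grading monoid is positive: if R has non-zero eigenvectors of weights w
and −w then w = 0. Let I be the ideal of R generated by all eigenvectors of non-zero weight (the
ideal of the fixed-point subscheme X^T). Then the composite of the inclusion of the ring of
invariants R^T into R with the projection R → R/I is bijective: the fixed-point subscheme maps
isomorphically onto the affine quotient Spec R^T. (The published statement phrases this as: X^T is
affine and X → X^T is a good quotient; the good-quotient property itself is not restated here.) -/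
theorem result
    (k : Type u) [Field k] [IsAlgClosed k] [CharZero k]
    (Λ : Type v) [AddCommGroup Λ] [Module.Free ℤ Λ] [Module.Finite ℤ Λ]
    (R : Type w) [CommRing R] [Algebra k R] [Algebra.FiniteType k R] [IsReduced R]
    [HopfRep.Comod k (AddMonoidAlgebra k Λ) R] [GLin.IsCoactAlg k (AddMonoidAlgebra k Λ) R]
    (hpos : ∀ w : Λ, HopfRep.eigenspace k (AddMonoidAlgebra k Λ) R (AddMonoidAlgebra.single w 1) ≠ ⊥ →
      HopfRep.eigenspace k (AddMonoidAlgebra k Λ) R (AddMonoidAlgebra.single (-w) 1) ≠ ⊥ → w = 0) :
    Function.Bijective
      ((Ideal.Quotient.mkₐ k (Ideal.span {f : R | ∃ w : Λ, w ≠ 0 ∧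
          f ∈ HopfRep.eigenspace k (AddMonoidAlgebra k Λ) R (AddMonoidAlgebra.single w 1)})).comp
        (GLin.invariants k (AddMonoidAlgebra k Λ) R).val) := by
  classical
  let A := AddMonoidAlgebra k Λ
  have hA : HopfRep.IsDiagonalizable k A := AddMonoidAlgebra.span_isGroupLikeElem
  let S := {f : R | ∃ w : Λ, w ≠ 0 ∧ f ∈ HopfRep.eigenspace k A R (AddMonoidAlgebra.single w 1)}
  have hspan : ∀ r : R, r ∈ Submodule.span k {v : R | ∃ w : Λ, v ∈ HopfRep.eigenspace k A R (AddMonoidAlgebra.single w 1)} := by
    intro r
    have h := Groth.L08.span_eigenvectors_eq_top (k := k) (A := A) (V := R) hA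
    refine (Submodule.span_mono ?_) (h.ge (Submodule.mem_top (x := r)))
    rintro v ⟨a, ha, hv⟩
    obtain ⟨w, rfl⟩ := AddMonoidAlgebra.isGroupLikeElem_iff_mem_range_single_one.1 ha
    exact ⟨w, hv⟩
  let g0 : GroupLike k A := ⟨AddMonoidAlgebra.single 0 1, AddMonoidAlgebra.isGroupLikeElem_single_one 0⟩
  let π : R →ₗ[k] R := Groth.L08.fAct R ((Groth.L08.glBasis hA).coord g0)
  have hπ : ∀ (v : R) (w : Λ), v ∈ HopfRep.eigenspace k A R (AddMonoidAlgebra.single w 1) →
      π v = if w = 0 then v else 0 := by
    intro v w hv
    let g : GroupLike k A := ⟨AddMonoidAlgebra.single w 1, AddMonoidAlgebra.isGroupLikeElem_single_one w⟩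
    show Groth.L08.fAct R _ v = _
    rw [Groth.L08.fAct_apply, show HopfRep.Comod.coact (k := k) (A := A) v = v ⊗ₜ[k] g.val from hv,
      LinearMap.lTensor_tmul, TensorProduct.rid_tmul, Groth.L08.coord_glBasis_val]
    by_cases hw : w = 0
    · subst hw
      rw [if_pos rfl, if_pos rfl, one_smul]
    · rw [if_neg hw, if_neg, zero_smul]
      intro hg
      exact hw (AddMonoidAlgebra.single_left_injective one_ne_zero (congrArg GroupLike.val hg))
  have hI : ∀ x ∈ Ideal.span S, ∀ r : R, π (r * x) = 0 := by
    intro x hx
    induction hx using Submodule.span_induction with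
    | zero => simp
    | add a b _ _ ha hb => intro r; rw [mul_add, map_add, ha, hb, add_zero]
    | smul c a _ ha => intro r; rw [smul_eq_mul, ← mul_assoc]; exact ha _
    | mem f hf =>
      obtain ⟨w, hw, hf⟩ := hf
      intro r
      induction hspan r using Submodule.span_induction with
      | zero => simp
      | add a b _ _ ha hb => rw [add_mul, map_add, ha, hb, add_zero]
      | smul c a _ ha => rw [smul_mul_assoc, map_smul, ha, smul_zero]
      | mem v hv =>
        obtain ⟨u, hu⟩ := hv
        have hvf : v * f ∈ HopfRep.eigenspace k A R (AddMonoidAlgebra.single (u + w) 1) := by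
          show HopfRep.Comod.coact (k := k) (A := A) (v * f) = _
          rw [GLin.IsCoactAlg.coact_mul, show HopfRep.Comod.coact (k := k) (A := A) v = _ from hu,
            show HopfRep.Comod.coact (k := k) (A := A) f = _ from hf, Algebra.TensorProduct.tmul_mul_tmul,
            AddMonoidAlgebra.single_mul_single, mul_one]
        rw [hπ _ _ hvf]
        split
        case isFalse => rfl
        case isTrue huw =>
          by_contra hne
          have hu' : u = -w := eq_neg_of_add_eq_zero_left huw
          refine hw (hpos w (fun hbot => hne ?_) (fun hbot => hne ?_))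
          · rw [hbot, Submodule.mem_bot] at hf
            rw [hf, mul_zero]
          · rw [← hu'] at hbot
            rw [hbot, Submodule.mem_bot] at hu
            rw [hu, zero_mul]
  refine ⟨?_, ?_⟩
  · rw [injective_iff_map_eq_zero]
    rintro ⟨x, hx⟩ h0
    have hx0 : x ∈ HopfRep.eigenspace k A R (AddMonoidAlgebra.single 0 1) := hx
    have h1 := hI x (Ideal.Quotient.eq_zero_iff_mem.1 h0) 1
    rw [one_mul, hπ x 0 hx0, if_pos rfl] at h1
    exact Subtype.ext h1
  · intro y
    obtain ⟨r, rfl⟩ := Ideal.Quotient.mkₐ_surjective k _ y
    induction hspan r using Submodule.span_induction with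
    | zero => exact ⟨0, by simp⟩
    | add a b _ _ ha hb =>
      obtain ⟨a', ha'⟩ := ha
      obtain ⟨b', hb'⟩ := hb
      exact ⟨a' + b', by rw [map_add, map_add, ha', hb']⟩
    | smul c a _ ha =>
      obtain ⟨a', ha'⟩ := ha
      exact ⟨c • a', by rw [map_smul, map_smul, ha']⟩
    | mem v hv =>
      obtain ⟨w, hv⟩ := hv
      by_cases hw : w = 0
      · subst hw
        exact ⟨⟨v, hv⟩, rfl⟩
      · refine ⟨0, ?_⟩
        rw [map_zero]
        exact (Ideal.Quotient.eq_zero_iff_mem.2 (Ideal.subset_span (show v ∈ S from ⟨w, hw, hv⟩))).symm

end Groth.Agent.S15124
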