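import Groth.Statements.S15125
import Groth.Agent.L11.KaehlerSep
import Mathlib.RingTheory.Filtration
import Mathlib.RingTheory.Unramified.Field
import Mathlib.RingTheory.EssentialFiniteness
import Mathlib.FieldTheory.IntermediateField.Adjoin.Algebra
import Mathlib.LinearAlgebra.TensorProduct.Basis
import Mathlib.LinearAlgebra.Basis.VectorSpace
import Mathlib.RingTheory.Noetherian.Basic

set_option autoImplicit false
universe u
open scoped TensorProduct
open Fields

namespace Groth.Agent.S15125

/-- Let L be a finitely generated field extension of K, and I ⊆ L ⊗_K L the kernel of multiplication L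
⊗_K L → L. An element x of L has the property that x ⊗ 1 and 1 ⊗ x have the same image in the I-adic
completion of L ⊗_K L if and only if x is separable algebraic over K. Equivalently, the equaliser of
the two natural maps from L to that completion is the separable algebraic closure of K in L. -/
theorem result
    (K L : Type u) [Field K] [Field L] [Algebra K L]
    (hfg : (⊤ : IntermediateField K L).FG) (x : L) :
    AdicCompletion.of (KaehlerDifferential.ideal K L) (L ⊗[K] L) (x ⊗ₜ[K] (1 : L)) =
        AdicCompletion.of (KaehlerDifferential.ideal K L) (L ⊗[K] L) ((1 : L) ⊗ₜ[K] x) ↔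
      x ∈ separableClosure K L := by
  classical
  haveI hEss : Algebra.EssFiniteType K L := (IntermediateField.fg_top_iff (F := K) (E := L)).1 hfg
  haveI : IsNoetherianRing (L ⊗[K] L) := Algebra.EssFiniteType.isNoetherianRing L (L ⊗[K] L)
  set I := KaehlerDifferential.ideal K L
  set δ : L ⊗[K] L := (1 : L) ⊗ₜ[K] x - x ⊗ₜ[K] (1 : L) with hδ
  have hδI : δ ∈ I := KaehlerDifferential.one_smul_sub_smul_one_mem_ideal K x
  have hkey : AdicCompletion.of I (L ⊗[K] L) (x ⊗ₜ[K] (1 : L)) =
      AdicCompletion.of I (L ⊗[K] L) ((1 : L) ⊗ₜ[K] x) ↔ ∃ r : I, (r : L ⊗[K] L) • δ = δ := by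
    rw [← Ideal.mem_iInf_smul_pow_eq_bot_iff I δ, Submodule.mem_iInf, eq_comm, ← sub_eq_zero,
      ← map_sub, ← hδ]
    constructor
    · intro h n
      have := congrArg (fun z : AdicCompletion I (L ⊗[K] L) ↦ z.1 n) h
      simpa [AdicCompletion.of_apply, Submodule.Quotient.mk_eq_zero, Ideal.Quotient.eq_zero_iff_mem] using this
    · intro h
      refine AdicCompletion.ext fun n ↦ ?_
      simpa [AdicCompletion.of_apply, Submodule.Quotient.mk_eq_zero, Ideal.Quotient.eq_zero_iff_mem] using h n
  rw [hkey]
  constructor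
  · rintro ⟨⟨r, hrI⟩, hr⟩
    set u : L ⊗[K] L := 1 - r with hu
    have hu0 : u * δ = 0 := by rw [hu, sub_mul, one_mul, sub_eq_zero]; exact hr.symm
    have hμu : Algebra.TensorProduct.lmul' K (S := L) u = 1 := by
      rw [hu, map_sub, map_one, (RingHom.mem_ker).1 hrI, sub_zero]
    let E : IntermediateField K L := IntermediateField.adjoin K {x}
    let xE : E := ⟨x, IntermediateField.mem_adjoin_simple_self K x⟩
    let π : L ⊗[K] L →ₗ[K] L ⊗[E] L := TensorProduct.lift
      (LinearMap.mk₂ K (fun a b ↦ a ⊗ₜ[E] b) (fun a a' b ↦ TensorProduct.add_tmul a a' b)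
        (fun c a b ↦ (TensorProduct.smul_tmul' c a b).symm) (fun a b b' ↦ TensorProduct.tmul_add a b b')
        (fun c a b ↦ TensorProduct.tmul_smul c a b))
    have hπ : π u ≠ 0 := fun h ↦ by
      have h1 : ∀ z, Algebra.TensorProduct.lmul' E (S := L) (π z) =
          Algebra.TensorProduct.lmul' K (S := L) z := fun z ↦ by
        induction z with
        | zero => simp
        | tmul a b => simp [π]
        | add a b ha hb => simp [map_add, ha, hb]
      have := h1 u
      rw [h, map_zero, hμu] at this
      exact zero_ne_one this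
    let bas := Module.Basis.ofVectorSpace E L
    obtain ⟨⟨i, j⟩, hij⟩ : ∃ p, (bas.tensorProduct bas).repr (π u) p ≠ 0 := by
      by_contra h
      push Not at h
      exact hπ ((bas.tensorProduct bas).repr.injective (by rw [map_zero]; exact Finsupp.ext fun p ↦ h p))
    let s : L →ₗ[E] E := bas.coord i
    let s' : L →ₗ[E] E := bas.coord j
    let Φ : L ⊗[K] L →ₗ[K] E ⊗[K] E :=
      TensorProduct.map (s.restrictScalars K) (s'.restrictScalars K)
    have hμ : ∀ z, Algebra.TensorProduct.lmul' K (S := E) (Φ z) =
        (bas.tensorProduct bas).repr (π z) (i, j) := fun z ↦ by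
      induction z with
      | zero => simp
      | tmul a b => simp [Φ, π, s, s', mul_comm]
      | add a b ha hb => simp [map_add, ha, hb]
    set δE : E ⊗[K] E := (1 : E) ⊗ₜ[K] xE - xE ⊗ₜ[K] (1 : E) with hδE
    have hΦ : ∀ z, Φ (z * δ) = Φ z * δE := fun z ↦ by
      induction z with
      | zero => simp
      | add a b ha hb => rw [add_mul, map_add, map_add, add_mul, ha, hb]
      | tmul a b =>
        have e1 : ∀ (f : L →ₗ[E] E) (y : L), f (y * x) = f y * xE := fun f y ↦ by
          rw [mul_comm y x, show x * y = xE • y from rfl, map_smul, smul_eq_mul, mul_comm]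
        simp [hδ, hδE, Φ, mul_sub, Algebra.TensorProduct.tmul_mul_tmul, e1]
    set w := Φ u with hw
    have hwδ : w * δE = 0 := by rw [hw, ← hΦ, hu0, map_zero]
    set c : E := Algebra.TensorProduct.lmul' K (S := E) w with hc
    have hc0 : c ≠ 0 := by rw [hc, hw, hμ]; exact hij
    have hdx : KaehlerDifferential.D K E xE = 0 :=
      Groth.L11.KaehlerSep.D_eq_zero xE w hwδ hc0
    haveI : Algebra.EssFiniteType K E := IntermediateField.essFiniteType_iff.2
      ⟨{x}, by simp [E]⟩
    haveI : Algebra.FormallyUnramified K E := by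
      refine ⟨subsingleton_of_forall_eq 0 fun ω ↦ ?_⟩
      have hD : ∀ e : E, KaehlerDifferential.D K E e = 0 := by
        rintro ⟨e, he⟩
        induction he using IntermediateField.adjoin_induction with
        | mem y hy =>
          rw [Set.mem_singleton_iff] at hy
          subst hy
          exact hdx
        | algebraMap a => exact (KaehlerDifferential.D K E).map_algebraMap a
        | add y z hy hz ihy ihz =>
          rw [show (⟨y + z, _⟩ : E) = ⟨y, hy⟩ + ⟨z, hz⟩ from rfl, map_add, ihy, ihz, add_zero]
        | inv y hy ihy =>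
          rw [show (⟨y⁻¹, _⟩ : E) = (⟨y, hy⟩ : E)⁻¹ from rfl, Derivation.leibniz_inv, ihy,
            smul_zero]
        | mul y z hy hz ihy ihz =>
          rw [show (⟨y * z, _⟩ : E) = ⟨y, hy⟩ * ⟨z, hz⟩ from rfl, Derivation.leibniz, ihy, ihz,
            smul_zero, smul_zero, add_zero]
      have hle : Submodule.span E (Set.range (KaehlerDifferential.D K E)) ≤ ⊥ :=
        Submodule.span_le.2 (by rintro _ ⟨e, rfl⟩; simp [hD e])
      rw [KaehlerDifferential.span_range_derivation] at hle
      simpa using hle (Submodule.mem_top (x := ω))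
    haveI := Algebra.FormallyUnramified.isSeparable K E
    have hsep : IsSeparable K xE := Algebra.IsSeparable.isSeparable K xE
    rw [mem_separableClosure_iff]
    rwa [IsSeparable, ← minpoly.algHom_eq E.val E.val.injective xE] at hsep
  · intro hx
    rw [mem_separableClosure_iff] at hx
    set f := (minpoly K x).map (algebraMap K (L ⊗[K] L))
    set a : L ⊗[K] L := x ⊗ₜ[K] (1 : L)
    set b : L ⊗[K] L := (1 : L) ⊗ₜ[K] x
    have ha : f.eval a = 0 := by
      rw [Polynomial.eval_map_algebraMap,
        show a = (Algebra.TensorProduct.includeLeft (R := K) (S := K) (A := L) (B := L)) x from rfl,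
        Polynomial.aeval_algHom_apply, minpoly.aeval, map_zero]
    have hb : f.eval b = 0 := by
      rw [Polynomial.eval_map_algebraMap,
        show b = (Algebra.TensorProduct.includeRight (R := K) (A := L) (B := L)) x from rfl,
        Polynomial.aeval_algHom_apply, minpoly.aeval, map_zero]
    obtain ⟨z, hz⟩ := Polynomial.binomExpansion f a δ
    rw [show a + δ = b by rw [hδ]; abel, ha, hb, zero_add] at hz
    set d : L := Polynomial.aeval x (minpoly K x).derivative
    have hd : d ≠ 0 := hx.aeval_derivative_ne_zero (minpoly.aeval K x)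
    have hder : f.derivative.eval a = d ⊗ₜ[K] (1 : L) := by
      rw [Polynomial.derivative_map, Polynomial.eval_map_algebraMap,
        show a = (Algebra.TensorProduct.includeLeft (R := K) (S := K) (A := L) (B := L)) x from rfl,
        Polynomial.aeval_algHom_apply]
      rfl
    rw [hder] at hz
    refine ⟨⟨-((d⁻¹ ⊗ₜ[K] (1 : L)) * z * δ), I.neg_mem (I.mul_mem_left _ hδI)⟩, ?_⟩
    rw [smul_eq_mul]
    have h1 : (d⁻¹ ⊗ₜ[K] (1 : L)) * (d ⊗ₜ[K] (1 : L)) = (1 : L ⊗[K] L) := by
      rw [Algebra.TensorProduct.tmul_mul_tmul, inv_mul_cancel₀ hd, mul_one,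
        ← Algebra.TensorProduct.one_def]
    linear_combination (d⁻¹ ⊗ₜ[K] (1 : L)) * hz + δ * h1

end Groth.Agent.S15125
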