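import Groth.Statements.S15126
import Mathlib.RingTheory.MvPowerSeries.Basic
import Mathlib.RingTheory.Ideal.Quotient.Operations
import Mathlib.Data.Set.Countable
import Mathlib.Data.Finsupp.Encodable
import Mathlib.Algebra.MvPolynomial.CommRing

set_option autoImplicit false
universe u
open Formal

namespace Groth.Agent.S15126

open MvPowerSeries in
theorem main (k : Type u) [Field k] (n : ℕ) (R : Type u) [CommRing R] [Algebra (MvPowerSeries (Fin n) k) R] :
    ∃ (P : Type u) (_ : CommRing P) (_ : Algebra k P)
      (u : R →ₐ[MvPowerSeries (Fin n) k] MvPowerSeries (Fin n) P),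
      (∀ (Q : Type u) [CommRing Q] [Algebra k Q]
          (f : R →ₐ[MvPowerSeries (Fin n) k] MvPowerSeries (Fin n) Q),
          ∃! g : P →ₐ[k] Q,
            (MvPowerSeries.map (σ := Fin n) (g : P →+* Q)).comp (u : R →+* MvPowerSeries (Fin n) P) =
              (f : R →+* MvPowerSeries (Fin n) Q)) ∧
      ((∃ s : Set R, s.Countable ∧ Algebra.adjoin (MvPowerSeries (Fin n) k) s = ⊤) →
        ∃ t : Set P, t.Countable ∧ Algebra.adjoin k t = ⊤) := by
  classical
  let S := MvPolynomial (R × (Fin n →₀ ℕ)) k
  let v : R → (Fin n →₀ ℕ) → S := fun r m => MvPolynomial.X (r, m)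
  let rels : Set S :=
    {z | ∃ a b m, z = v (a + b) m - (v a m + v b m)} ∪
    {z | ∃ a b m, z = v (a * b) m - ∑ q ∈ Finset.antidiagonal m, v a q.1 * v b q.2} ∪
    {z | ∃ (φ : MvPowerSeries (Fin n) k) (m : Fin n →₀ ℕ),
      z = v (algebraMap _ R φ) m - MvPolynomial.C (coeff m φ)}
  let J : Ideal S := Ideal.span rels
  let π : S →ₐ[k] S ⧸ J := Ideal.Quotient.mkₐ k J
  have hrel : ∀ {x y : S}, x - y ∈ rels → π x = π y := fun h =>
    Ideal.Quotient.eq.mpr (Ideal.subset_span h)
  let w : R → MvPowerSeries (Fin n) (S ⧸ J) := fun r m => π (v r m)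
  have hw : ∀ r m, coeff m (w r) = π (v r m) := fun r m => rfl
  have hadd : ∀ a b, w (a + b) = w a + w b := fun a b => MvPowerSeries.ext fun m => by
    rw [map_add, hw, hw, hw, ← map_add]
    exact hrel (Or.inl (Or.inl ⟨a, b, m, rfl⟩))
  have hmul : ∀ a b, w (a * b) = w a * w b := fun a b => MvPowerSeries.ext fun m => by
    rw [coeff_mul, hw]
    refine (hrel (Or.inl (Or.inr ⟨a, b, m, rfl⟩))).trans ?_
    rw [map_sum]
    exact Finset.sum_congr rfl fun q _ => by rw [map_mul, hw, hw]
  have halg : ∀ φ, w (algebraMap _ R φ) = algebraMap (MvPowerSeries (Fin n) k) _ φ := fun φ =>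
    MvPowerSeries.ext fun m => by
      rw [hw]
      refine (hrel (Or.inr ⟨φ, m, rfl⟩)).trans ?_
      show π (MvPolynomial.C (coeff m φ)) = coeff m (MvPowerSeries.map (algebraMap k (S ⧸ J)) φ)
      rw [coeff_map, ← MvPolynomial.algebraMap_eq, π.commutes]
  let u : R →ₐ[MvPowerSeries (Fin n) k] MvPowerSeries (Fin n) (S ⧸ J) :=
    { toFun := w
      map_one' := by rw [← map_one (algebraMap (MvPowerSeries (Fin n) k) R), halg, map_one]
      map_mul' := hmul
      map_zero' := by rw [← map_zero (algebraMap (MvPowerSeries (Fin n) k) R), halg, map_zero]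
      map_add' := hadd
      commutes' := halg }
  refine ⟨S ⧸ J, inferInstance, inferInstance, u, ?_, ?_⟩
  · intro Q _ _ f
    let ev : S →ₐ[k] Q := MvPolynomial.aeval fun q => coeff q.2 (f q.1)
    have hev : ∀ r m, ev (v r m) = coeff m (f r) := fun r m => MvPolynomial.aeval_X _ _
    have hJ : J ≤ RingHom.ker ev := by
      rw [Ideal.span_le]
      rintro z ((⟨a, b, m, rfl⟩ | ⟨a, b, m, rfl⟩) | ⟨φ, m, rfl⟩)
      · simp only [SetLike.mem_coe, RingHom.mem_ker, map_sub, map_add, hev, sub_self]
      · simp only [SetLike.mem_coe, RingHom.mem_ker, map_sub, map_sum, map_mul, hev, coeff_mul, sub_self]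
      · rw [SetLike.mem_coe, RingHom.mem_ker, map_sub, hev, AlgHom.commutes,
          show coeff m (algebraMap (MvPowerSeries (Fin n) k) (MvPowerSeries (Fin n) Q) φ) = algebraMap k Q (coeff m φ) from
            coeff_map _ _ _, ← MvPolynomial.algebraMap_eq, AlgHom.commutes, sub_self]
    refine ⟨Ideal.Quotient.liftₐ J ev hJ, ?_, ?_⟩
    · exact RingHom.ext fun r => MvPowerSeries.ext fun m => hev r m
    · intro g hg
      refine Ideal.Quotient.algHom_ext _ (MvPolynomial.algHom_ext fun q => ?_)
      have h := congrArg (fun z => coeff q.2 z) (RingHom.congr_fun hg q.1)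
      exact h.trans (hev q.1 q.2).symm
  · rintro ⟨s, hs, hgen⟩
    refine ⟨(fun q : R × (Fin n →₀ ℕ) => π (v q.1 q.2)) '' (s ×ˢ Set.univ), (hs.prod Set.countable_univ).image _, ?_⟩
    set T := Algebra.adjoin k ((fun q : R × (Fin n →₀ ℕ) => π (v q.1 q.2)) '' (s ×ˢ Set.univ))
    have hall : ∀ r m, π (v r m) ∈ T := by
      intro r
      have hr : r ∈ Algebra.adjoin (MvPowerSeries (Fin n) k) s := by rw [hgen]; trivial
      induction hr using Algebra.adjoin_induction with
      | mem x hx => intro m; exact Algebra.subset_adjoin ⟨(x, m), ⟨hx, trivial⟩, rfl⟩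
      | algebraMap φ =>
        intro m
        rw [← hw, halg, show coeff m (algebraMap (MvPowerSeries (Fin n) k) (MvPowerSeries (Fin n) (S ⧸ J)) φ) =
          algebraMap k (S ⧸ J) (coeff m φ) from coeff_map _ _ _]
        exact T.algebraMap_mem _
      | add x y _ _ hx hy =>
        intro m
        rw [← hw, hadd, map_add, hw, hw]
        exact add_mem (hx m) (hy m)
      | mul x y _ _ hx hy =>
        intro m
        rw [← hw, hmul, coeff_mul]
        exact sum_mem fun q _ => mul_mem (by rw [hw]; exact hx _) (by rw [hw]; exact hy _)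
    refine Algebra.eq_top_iff.mpr fun z => ?_
    obtain ⟨p, rfl⟩ := Ideal.Quotient.mk_surjective z
    induction p using MvPolynomial.induction_on with
    | C a => exact T.algebraMap_mem a
    | add p q hp hq => rw [map_add]; exact add_mem hp hq
    | mul_X p q hp => rw [map_mul]; exact mul_mem hp (hall q.1 q.2)

/-- Affine case. Let k be a field, n > 0, and R a commutative algebra over the power series ring
k[[z_1,…,z_n]]; for a commutative k-algebra Q regard Q[[z_1,…,z_n]] as a k[[z]]-algebra
coefficientwise. Then the functor Q ↦ Hom_{k[[z]]-alg}(R, Q[[z]]) on commutative k-algebras is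
corepresentable: there exist a commutative k-algebra P and a k[[z]]-algebra homomorphism u : R →
P[[z]] such that every k[[z]]-algebra homomorphism R → Q[[z]] arises from u by applying a unique
k-algebra homomorphism P → Q coefficientwise. If moreover R is countably generated as a
k[[z]]-algebra, P may be taken countably generated over k. (The published statement is for an adic
formal scheme Y over the formal disc Spf k[[z]], asserting that the sheaf of sections of Y over the
disc is a scheme, affine over the fibre of Y at the origin, and of pro-finite type when Y is; this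
row is the case Y = Spf R, to which the published argument reduces, stated for the underlying
algebra R; k is algebraically closed there, which is not used.) -/
theorem result
    (k : Type u) [Field k] (n : ℕ) (hn : 0 < n)
    (R : Type u) [CommRing R] [Algebra (MvPowerSeries (Fin n) k) R] :
    ∃ (P : Type u) (_ : CommRing P) (_ : Algebra k P)
      (u : R →ₐ[MvPowerSeries (Fin n) k] MvPowerSeries (Fin n) P),
      (∀ (Q : Type u) [CommRing Q] [Algebra k Q]
          (f : R →ₐ[MvPowerSeries (Fin n) k] MvPowerSeries (Fin n) Q),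
          ∃! g : P →ₐ[k] Q,
            (MvPowerSeries.map (σ := Fin n) (g : P →+* Q)).comp (u : R →+* MvPowerSeries (Fin n) P) =
              (f : R →+* MvPowerSeries (Fin n) Q)) ∧
      ((∃ s : Set R, s.Countable ∧ Algebra.adjoin (MvPowerSeries (Fin n) k) s = ⊤) →
        ∃ t : Set P, t.Countable ∧ Algebra.adjoin k t = ⊤) := by
  exact main k n R

end Groth.Agent.S15126
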