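import Groth.Statements.S15130
import Groth.Agent.L01.ArtinFlat

set_option autoImplicit false
universe u v
open CAlg

namespace Groth.Agent.S15130

/-- Let A be an Artinian local ring with residue field k and P → Q → R → M → 0 a complex of A-modules
with P, Q, R flat which is exact at R and at M. If the reduced complex k ⊗ P → k ⊗ Q → k ⊗ R is
exact (the rest of the reduced sequence is then automatically exact), then M is flat and the
original complex is exact at Q as well. (The published statement is for local Artinian algebras over
an algebraically closed field of characteristic zero having that field as residue field; this row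
allows any Artinian local ring.) -/
theorem result
    (A : Type u) [CommRing A] [IsLocalRing A] [IsArtinianRing A]
    (P Q R M : Type v) [AddCommGroup P] [Module A P] [AddCommGroup Q] [Module A Q]
    [AddCommGroup R] [Module A R] [AddCommGroup M] [Module A M]
    [Module.Flat A P] [Module.Flat A Q] [Module.Flat A R]
    (f : P →ₗ[A] Q) (g : Q →ₗ[A] R) (h : R →ₗ[A] M)
    (hfg : g ∘ₗ f = 0) (hgh : Function.Exact g h) (hh : Function.Surjective h)
    (hred : Function.Exact (f.lTensor (IsLocalRing.ResidueField A)) (g.lTensor (IsLocalRing.ResidueField A))) :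
    Module.Flat A M ∧ Function.Exact f g := by
  let g' : (Q ⧸ LinearMap.range f) →ₗ[A] R :=
    Submodule.liftQ _ g (by rintro _ ⟨x, rfl⟩; exact LinearMap.congr_fun hfg x)
  have hexf : Function.Exact f (LinearMap.range f).mkQ := LinearMap.exact_map_mkQ_range f
  have hcomp : g' ∘ₗ (LinearMap.range f).mkQ = g := Submodule.liftQ_mkQ _ _ _
  have hinj : Function.Injective (g'.lTensor (IsLocalRing.ResidueField A)) := by
    rw [injective_iff_map_eq_zero]
    intro z hz
    obtain ⟨y, rfl⟩ := (LinearMap.range f).mkQ.lTensor_surjective (IsLocalRing.ResidueField A) (Submodule.mkQ_surjective _) z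
    rw [← LinearMap.comp_apply, ← LinearMap.lTensor_comp, hcomp] at hz
    obtain ⟨x, rfl⟩ := (hred y).mp hz
    exact (lTensor_exact _ hexf (Submodule.mkQ_surjective _)).apply_apply_eq_zero x
  have hg' : Function.Injective g' := Groth.L01.ArtinFlat.injective_of_residue g' hinj
  refine ⟨Groth.L01.ArtinFlat.flat_cokernel g' h ?_ hh hinj, fun y => ⟨fun hy => ?_, ?_⟩⟩
  · intro r
    rw [hgh r, ← hcomp]
    simp only [Set.mem_range, LinearMap.comp_apply]
    exact ⟨fun ⟨y, hy⟩ => ⟨_, hy⟩, fun ⟨q, hq⟩ => by
      obtain ⟨y, rfl⟩ := Submodule.mkQ_surjective _ q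
      exact ⟨y, hq⟩⟩
  · have h0 : g' ((LinearMap.range f).mkQ y) = g' 0 := by rw [map_zero, ← LinearMap.comp_apply, hcomp, hy]
    have := hg' h0
    rw [Submodule.mkQ_apply, Submodule.Quotient.mk_eq_zero] at this
    exact this
  · rintro ⟨x, rfl⟩
    exact LinearMap.congr_fun hfg x

end Groth.Agent.S15130
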