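import Groth.Statements.S15131
import Groth.Agent.L12.Criteria


set_option autoImplicit false
universe u v
open CategoryTheory
open ArtFun

namespace Groth.Agent.S15131

/-- Let k be a field and F a functor on local Artinian k-algebras with residue field k with F(k) a
single point, satisfying (H1) (the comparison map of A₁ ×_A A₂ is surjective when A₂ → A is a small
extension) and (H2) (it is bijective when A = k and A₂ = k[ε]). If the tangent space F(k[ε]) is a
single point then F is the one-point functor: every F(A) has exactly one element. (The converse is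
clear.) -/
theorem result
    {k : Type u} [Field k] (F : ArtFun.Art k k ⥤ Type v)
    (h0 : ArtFun.H0 F) (h1 : ArtFun.Hbar F) (h2 : ArtFun.Heps F)
    (ht : Subsingleton (ArtFun.TangentSpace F)) (A : ArtFun.Art k k) :
    Nonempty (F.obj A) ∧ Subsingleton (F.obj A) := by
  have hb : ∀ ⦃C : ArtFun.Art k k⦄, Nonempty (F.obj C) := fun C => by
    obtain ⟨x⟩ := h0.1
    exact ⟨F.map (⟨Algebra.ofId k C, AlgHom.ext fun c => C.res.commutes c⟩ : ArtFun.Art.base k k ⟶ C) x⟩
  refine ⟨@hb A, ⟨?_⟩⟩
  suffices H : ∀ ⦃A B : ArtFun.Art k k⦄ (μ : B ⟶ A), Function.Surjective μ → ∀ y y' : F.obj B,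
      F.map μ y = F.map μ y' → y = y' from fun y y' =>
    H (ArtFun.Art.toBase A) (Groth.L12.toBase_surjective A) y y' (@Subsingleton.elim _ h0.2 _ _)
  intro A B μ hμ
  refine Groth.L12.surjective_induction (fun A B μ => ∀ y y' : F.obj B, F.map μ y = F.map μ y' → y = y')
    ?_ ?_ ?_ μ hμ
  · exact fun A B e he y y' h => (Groth.L12.map_bijective_of_isIso F e).1 h
  · intro A B μ hμ y y' h
    obtain ⟨S⟩ := Groth.L12.nonempty_smallSquare hμ
    obtain ⟨δ, hδ₁, hδ₂, -⟩ := S.exists_diag
    obtain ⟨z, hz₁, hz₂⟩ := S.exists_over h1 y y' h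
    have : z = F.map δ y := S.ext_act h2 (by rw [hz₁, Groth.L12.map_map, hδ₁, Groth.L12.map_id'])
      (@Subsingleton.elim _ ht _ _)
    rw [← hz₂, this, Groth.L12.map_map, hδ₂, Groth.L12.map_id']
  · intro A B C p q hp hq y y' h
    rw [← Groth.L12.map_map, ← Groth.L12.map_map] at h
    exact hp y y' (hq _ _ h)
end Groth.Agent.S15131
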