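import Groth.Statements.S15132
import Groth.Agent.L12.Torsor


set_option autoImplicit false
universe u v
open CategoryTheory
open ArtFun

namespace Groth.Agent.S15132

/-- Let k be a field and F a functor on local Artinian k-algebras with residue field k with F(k) a
single point. If F satisfies (H1), (H2) and (H4) — surjectivity of the comparison map F(A₁ ×_A A₂) →
F(A₁) ×_{F(A)} F(A₂) when A₂ → A is a small extension, bijectivity when A = k and A₂ = k[ε], and
bijectivity for A₂ ×_A A₂ with A₂ → A a small extension — then F is homogeneous: the comparison map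
is bijective for every fibre-product square in which A₂ → A is surjective. (The converse
implications are immediate.) -/
theorem result
    {k : Type u} [Field k] (F : ArtFun.Art k k ⥤ Type v)
    (h0 : ArtFun.H0 F) (h1 : ArtFun.Hbar F) (h2 : ArtFun.Heps F) (h4 : ArtFun.HSq F)
    ⦃B A A' A'' : ArtFun.Art k k⦄ (p' : B ⟶ A') (p'' : B ⟶ A'') (f' : A' ⟶ A) (f'' : A'' ⟶ A)
    (h : ArtFun.Art.IsFibreProd p' p'' f' f'') (hf : Function.Surjective f'') :
    Function.Bijective (ArtFun.cmp F h) := by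
  refine ⟨(Groth.L12.cmp_inj_iff F h).2 fun z₁ z₂ e₁ e₂ => ?_, (Groth.L12.s1_of_hbar h1) p' p'' f' f'' h hf⟩
  refine Groth.L12.square_induction F (fun B A A' A'' p' p'' f' f'' h => ∀ z₁ z₂ : F.obj B,
      F.map p' z₁ = F.map p' z₂ → F.map p'' z₁ = F.map p'' z₂ → z₁ = z₂) ?_ ?_ ?_ p' p'' f' f'' h hf z₁ z₂ e₁ e₂
  · exact fun B A A' A'' p' p'' f' f'' h hb => (Groth.L12.cmp_inj_iff F h).1 (Groth.L12.cmp_bijective_of_bijective F h hb).1
  · intro B A A' A'' p' p'' f' f'' h hs z₁ z₂ e₁ e₂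
    obtain ⟨T⟩ := Groth.L12.nonempty_smallSquare (Groth.L12.IsFP.isSmallExt_fst h hs)
    obtain ⟨S⟩ := Groth.L12.nonempty_smallSquare hs
    obtain ⟨w, hw₁, hw₂⟩ := Groth.L12.IsFP.exists_lift S.hP (T.p₁ ≫ p'') (T.p₂ ≫ p'') (by
      rw [Category.assoc, Category.assoc, ← h.w, ← Category.assoc, ← Category.assoc, T.hP.w])
    obtain ⟨δS, hδS₁, hδS₂, -⟩ := S.exists_diag
    obtain ⟨δT, hδT₁, hδT₂, -⟩ := T.exists_diag
    obtain ⟨z, hz₁, hz₂⟩ := T.exists_over h1 z₁ z₂ e₁
    have hwz : F.map w z = F.map δS (F.map p'' z₁) := S.ext_over h4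
      (by simp only [Groth.L12.map_map, Category.assoc, hδS₁, Category.comp_id, hw₁]; rw [← Groth.L12.map_map, hz₁])
      (by simp only [Groth.L12.map_map, Category.assoc, hδS₂, Category.comp_id, hw₂]; rw [← Groth.L12.map_map, hz₂, e₂])
    have ht : ∀ a : A'', S.p₁ (δS a) = a := fun a => congrArg (fun f : A'' ⟶ A'' => f a) hδS₁
    have hs' : S.t ≠ 0 := S.t_ne
    have hd : ∃ d : A'', p'' T.t = d * S.t := by
      have hk : f'' (p'' T.t) = 0 := by rw [← h.w_apply, T.t_ker, map_zero]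
      obtain ⟨z', hz', hz''⟩ := S.hP.surj 0 (p'' T.t) (by rw [map_zero, hk])
      exact ⟨_, by rw [← hz'', S.hg, hz', zero_add]⟩
    have hc : ∃ c : k, ∀ q, TrivSqZeroExt.snd (S.g (w q)) = c * TrivSqZeroExt.snd (T.g q) := by
      obtain ⟨d, hd⟩ := hd
      refine ⟨A''.res d, fun q => ?_⟩
      have e := S.hg (w q)
      rw [show S.p₂ (w q) = p'' (T.p₂ q) from congrArg (fun f : T.P ⟶ A'' => f q) hw₂,
        show S.p₁ (w q) = p'' (T.p₁ q) from congrArg (fun f : T.P ⟶ A'' => f q) hw₁, T.hg, map_add, map_mul, hd,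
        ← mul_assoc] at e
      have e'' := Groth.L12.coef_unique S.t_ne S.t_max (add_left_cancel e).symm
      rw [map_mul, Groth.L12.res_liftRes, ArtFun.Art.res_app, Groth.L12.res_liftRes] at e''
      rw [e'', mul_comm]
    obtain ⟨c, hc⟩ := hc
    have hc0 : c ≠ 0 := by
      intro hc0
      obtain ⟨q, hq₁, hq₂⟩ := T.hP.surj 0 T.t (by rw [map_zero, T.t_ker])
      have e := S.hg (w q)
      rw [show S.p₂ (w q) = p'' (T.p₂ q) from congrArg (fun f : T.P ⟶ A'' => f q) hw₂,
        show S.p₁ (w q) = p'' (T.p₁ q) from congrArg (fun f : T.P ⟶ A'' => f q) hw₁, hq₁, hq₂, map_zero, zero_add,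
        hc, hc0, zero_mul, Groth.L12.mul_eq_of_res_eq (b' := 0) (by rw [Groth.L12.res_liftRes, map_zero]) S.t_max,
        zero_mul] at e
      exact T.t_ne (h.inj _ _ (by rw [T.t_ker, map_zero]) (by rw [e, map_zero]))
    have hgw : w ≫ S.g = T.g ≫ ArtFun.Art.scale c := Groth.L12.dualHom_ext hc
    have hgd : w ≫ S.g ≫ ArtFun.Art.scale c⁻¹ = T.g := Groth.L12.dualHom_ext fun q => by
      change c⁻¹ * TrivSqZeroExt.snd (S.g (w q)) = _
      rw [hc, inv_mul_cancel_left₀ hc0]
    have hgz : F.map T.g z = F.map T.g (F.map δT z₁) := by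
      have e₁' : F.map (w ≫ S.g) z = F.map (w ≫ S.g) (F.map δT z₁) := by
        rw [← Groth.L12.map_map, hwz, ← Groth.L12.map_map]
        congr 1
        apply S.ext_over h4
        · simp only [Groth.L12.map_map, Category.assoc, hδS₁, Category.comp_id, hw₁]
          rw [← Category.assoc, hδT₁, Category.id_comp]
        · simp only [Groth.L12.map_map, Category.assoc, hδS₂, Category.comp_id, hw₂]
          rw [← Category.assoc, hδT₂, Category.id_comp]
      rw [← hgd, ← Category.assoc, ← Groth.L12.map_map, e₁', Groth.L12.map_map]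
    have : z = F.map δT z₁ := T.ext_act h2 (by rw [hz₁, Groth.L12.map_map, hδT₁, Groth.L12.map_id']) hgz
    rw [← hz₂, this, Groth.L12.map_map, hδT₂, Groth.L12.map_id']
  · intro B A A' E C D r₁ r₂ s₁ p'' f' q p h₁ h₂ h H₁ H₂ z₁ z₂ e₁ e₂
    rw [← Groth.L12.map_map, ← Groth.L12.map_map] at e₁
    refine H₂ _ _ (H₁ _ _ e₁ ?_) e₂
    rw [Groth.L12.map_map, Groth.L12.map_map, h₂.w, ← Groth.L12.map_map, ← Groth.L12.map_map, e₂]
end Groth.Agent.S15132
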