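import Groth.Statements.S15133
import Groth.Agent.L01.ArtinFlat
import Mathlib.Algebra.Homology.ShortComplex.HomologicalComplex
import Mathlib.Algebra.Homology.ShortComplex.ModuleCat
import Mathlib.Algebra.Category.ModuleCat.Monoidal.Basic

set_option autoImplicit false
universe u
open CategoryTheory
open CAlg

namespace Groth.Agent.S15133

/-- Let A be an Artinian local ring with residue field k, n ≥ 1, and 0 → I → P₀ → P₁ → ⋯ → Pₙ a complex
of A-modules with P₀, …, Pₙ flat whose reduction 0 → k ⊗ I → k ⊗ P₀ → ⋯ → k ⊗ Pₙ is exact. Then I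
and coker(Pₙ₋₁ → Pₙ) are flat. The complex is written as a cochain complex C indexed by ℕ with C⁰ =
I and Cⁱ⁺¹ = Pᵢ; its terms in degrees above n + 1 play no role. (The published statement adds that I
maps onto the kernel of k ⊗ P₀ → k ⊗ P₁, which is already part of the exactness hypothesis, and is
for local Artinian algebras over an algebraically closed field of characteristic zero having that
field as residue field; this row allows any Artinian local ring.) -/
theorem result
    (A : Type u) [CommRing A] [IsLocalRing A] [IsArtinianRing A] (n : ℕ) (hn : 0 < n)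
    (C : CochainComplex (ModuleCat.{u} A) ℕ)
    (hflat : ∀ i, i ≤ n → Module.Flat A (C.X (i + 1)))
    (hred : ∀ j, j ≤ n →
      (((MonoidalCategory.tensorLeft (ModuleCat.of A (IsLocalRing.ResidueField A))).mapHomologicalComplex
        (ComplexShape.up ℕ)).obj C).ExactAt j) :
    Module.Flat A (C.X 0) ∧ Module.Flat A (C.X (n + 1) ⧸ LinearMap.range (C.d n (n + 1)).hom) := by
  set D := (((MonoidalCategory.tensorLeft (ModuleCat.of A (IsLocalRing.ResidueField A))).mapHomologicalComplex
      (ComplexShape.up ℕ)).obj C) with hD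
  have hL : ∀ i j, (⇑(D.d i j).hom : TensorProduct A (IsLocalRing.ResidueField A) (C.X i) →
      TensorProduct A (IsLocalRing.ResidueField A) (C.X j)) = ⇑((C.d i j).hom.lTensor (IsLocalRing.ResidueField A)) :=
    fun i j => funext fun z => by
      induction z using TensorProduct.induction_on with
      | zero => exact (map_zero (D.d i j).hom).trans (map_zero _).symm
      | tmul a x => rfl
      | add a b ha hb => exact ((map_add (D.d i j).hom a b).trans (congrArg₂ (· + ·) ha hb)).trans (map_add _ a b).symm
  have hex : ∀ i, i + 1 ≤ n → Function.Exact ((C.d i (i + 1)).hom.lTensor (IsLocalRing.ResidueField A))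
      ((C.d (i + 1) (i + 2)).hom.lTensor (IsLocalRing.ResidueField A)) := by
    intro i hi
    have h := ((HomologicalComplex.exactAt_iff' D i (i + 1) (i + 2) (by simp) (by simp)).mp (hred (i + 1) hi))
    rw [ShortComplex.moduleCat_exact_iff_range_eq_ker] at h
    have h' := LinearMap.exact_iff.mpr h.symm
    rw [← hL, ← hL]
    exact h'
  have h0 : Function.Injective ((C.d 0 1).hom.lTensor (IsLocalRing.ResidueField A)) := by
    have h := ((HomologicalComplex.exactAt_iff' D 0 0 1 (by simp) (by simp)).mp (hred 0 (Nat.zero_le n)))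
    rw [ShortComplex.moduleCat_exact_iff] at h
    rw [injective_iff_map_eq_zero]
    intro z hz
    obtain ⟨x, hx⟩ := h z ((congrFun (hL 0 1) z).trans hz)
    rw [← hx]
    change (D.d 0 0).hom x = 0
    rw [HomologicalComplex.shape _ 0 0 (by simp)]
    rfl
  haveI hf1 : Module.Flat A (C.X (0 + 1)) := hflat 0 (Nat.zero_le n)
  constructor
  · have hinj : Function.Injective (C.d 0 1).hom := Groth.L01.ArtinFlat.injective_of_residue _ h0
    let g := (LinearMap.range (C.d 0 1).hom).mkQ
    have hexg : Function.Exact (C.d 0 1).hom g := LinearMap.exact_map_mkQ_range _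
    haveI := Groth.L01.ArtinFlat.flat_cokernel _ g hexg (Submodule.mkQ_surjective _) h0
    rw [Module.Flat.iff_rTensor_injective']
    intro I
    have h1 : Function.Injective ((C.d 0 1).hom.lTensor I) :=
      LinearMap.lTensor_injective_of_exact_of_flat g (Submodule.mkQ_surjective _) _ hinj hexg _
    have h2 := Module.Flat.rTensor_preserves_injective_linearMap (M := C.X (0 + 1)) I.subtype I.injective_subtype
    refine Function.Injective.of_comp (f := (C.d 0 1).hom.lTensor A) ?_
    intro a b hab
    apply h1
    apply h2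
    simp only [Function.comp_apply] at hab
    rwa [← LinearMap.comp_apply, ← LinearMap.comp_apply, LinearMap.lTensor_comp_rTensor,
      ← LinearMap.rTensor_comp_lTensor, LinearMap.comp_apply, LinearMap.comp_apply] at hab
  · obtain ⟨i, rfl⟩ : ∃ i, n = i + 1 := ⟨n - 1, by omega⟩
    haveI := hflat (i + 1) le_rfl
    let K := C.X (i + 1) ⧸ LinearMap.range (C.d i (i + 1)).hom
    let g' : K →ₗ[A] C.X (i + 1 + 1) := Submodule.liftQ _ (C.d (i + 1) (i + 2)).hom (by
      rintro _ ⟨x, rfl⟩
      exact LinearMap.congr_fun (congrArg ModuleCat.Hom.hom (C.d_comp_d i (i + 1) (i + 2))) x)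
    have hcomp : g' ∘ₗ (LinearMap.range (C.d i (i + 1)).hom).mkQ = (C.d (i + 1) (i + 2)).hom := Submodule.liftQ_mkQ _ _ _
    have hinj : Function.Injective (g'.lTensor (IsLocalRing.ResidueField A)) := by
      rw [injective_iff_map_eq_zero]
      intro z hz
      obtain ⟨y, rfl⟩ := (LinearMap.range (C.d i (i + 1)).hom).mkQ.lTensor_surjective (IsLocalRing.ResidueField A) (Submodule.mkQ_surjective _) z
      rw [← LinearMap.comp_apply, ← LinearMap.lTensor_comp, hcomp] at hz
      obtain ⟨x, rfl⟩ := (hex i le_rfl y).mp hz
      exact (lTensor_exact _ (LinearMap.exact_map_mkQ_range _) (Submodule.mkQ_surjective _)).apply_apply_eq_zero x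
    refine Groth.L01.ArtinFlat.flat_cokernel g' (LinearMap.range (C.d (i + 1) (i + 1 + 1)).hom).mkQ ?_ (Submodule.mkQ_surjective _) hinj
    rw [LinearMap.exact_iff, Submodule.ker_mkQ, ← hcomp, LinearMap.range_comp, Submodule.range_mkQ, Submodule.map_top]

end Groth.Agent.S15133
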