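import Groth.Statements.S15134
import Groth.Agent.L12.ArtPullback
import Groth.Agent.L12.FunBasic


set_option autoImplicit false
universe u v
open CategoryTheory
open ArtFun

namespace Groth.Agent.S15134

/-- Let k be a field and F a functor on local Artinian k-algebras with residue field k with F(k) a
point. If F satisfies (H2') — the comparison map F(A₁ ×_k A₂) → F(A₁) × F(A₂) is bijective for every
pair of objects — then F satisfies condition (L): for every small extension f : B → A with kernel J,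
writing P = B ×_k B, Q = A ×_k A, r : P → Q for the map induced by f, and C = P/K with K the ideal
of P consisting of the pairs (b, b) with b ∈ J, every element of F(Q) whose two images in F(A) agree
lifts along F(C) → F(Q). Here P and Q are pinned as fibre products over k, K is described through
the two projections, and the two inequalities on K (it lies in the maximal ideal of P and is killed
by r), which always hold, are taken as hypotheses so that the quotient object and the factored map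
can be named. -/
theorem result
    {k : Type u} [Field k] (F : ArtFun.Art k k ⥤ Type v) (h0 : ArtFun.H0 F)
    (h2' : ∀ ⦃P A' A'' : ArtFun.Art k k⦄ (p' : P ⟶ A') (p'' : P ⟶ A'')
      (h : ArtFun.Art.IsFibreProd p' p'' (ArtFun.Art.toBase A') (ArtFun.Art.toBase A'')),
      Function.Bijective (ArtFun.cmp F h))
    ⦃B A : ArtFun.Art k k⦄ (f : B ⟶ A) (hf : ArtFun.Art.IsSmallExt f)
    ⦃P : ArtFun.Art k k⦄ (p₁ p₂ : P ⟶ B)
    (hP : ArtFun.Art.IsFibreProd p₁ p₂ (ArtFun.Art.toBase B) (ArtFun.Art.toBase B))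
    ⦃Q : ArtFun.Art k k⦄ (q₁ q₂ : Q ⟶ A)
    (hQ : ArtFun.Art.IsFibreProd q₁ q₂ (ArtFun.Art.toBase A) (ArtFun.Art.toBase A))
    (r : P ⟶ Q) (hr₁ : r ≫ q₁ = p₁ ≫ f) (hr₂ : r ≫ q₂ = p₂ ≫ f)
    (hK : Ideal.span {z : P | p₁ z = p₂ z ∧ f (p₁ z) = 0} ≤ IsLocalRing.maximalIdeal P)
    (hKr : Ideal.span {z : P | p₁ z = p₂ z ∧ f (p₁ z) = 0} ≤ RingHom.ker r.toAlgHom)
    (y : F.obj Q) (hy : F.map q₁ y = F.map q₂ y) :
    ∃ z : F.obj (ArtFun.Art.quot P (Ideal.span {z : P | p₁ z = p₂ z ∧ f (p₁ z) = 0}) hK),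
      F.map (ArtFun.Art.quotFactor hK r hKr) z = y := by
  obtain ⟨δ, hδ₁, hδ₂⟩ := Groth.L12.IsFP.exists_lift hP (𝟙 B) (𝟙 B) rfl
  obtain ⟨Δ, hΔ₁, hΔ₂⟩ := Groth.L12.IsFP.exists_lift hQ (𝟙 A) (𝟙 A) rfl
  have hy' : y = F.map Δ (F.map q₁ y) := (Groth.L12.cmp_inj_iff F hQ).1 (h2' q₁ q₂ hQ).1 _ _
    (by rw [Groth.L12.map_map F Δ q₁, hΔ₁, Groth.L12.map_id'])
    (by rw [Groth.L12.map_map F Δ q₂, hΔ₂, Groth.L12.map_id', hy])
  obtain ⟨s, hs⟩ := Groth.L12.exists_desc f hf.1 (δ ≫ ArtFun.Art.quotMk P _ hK) fun b hb => by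
    refine Ideal.Quotient.eq_zero_iff_mem.2 (Ideal.subset_span ⟨?_, ?_⟩)
    · exact (congrArg (fun u : B ⟶ B => u b) hδ₁).trans (congrArg (fun u : B ⟶ B => u b) hδ₂).symm
    · exact (congrArg (fun u : B ⟶ B => f (u b)) hδ₁).trans hb
  have hs' : s ≫ ArtFun.Art.quotFactor hK r hKr = Δ := by
    refine Groth.L12.hom_ext fun a => ?_
    obtain ⟨b, rfl⟩ := hf.1 a
    have e : s (f b) = Ideal.Quotient.mk _ (δ b) := congrArg (fun u : B ⟶ ArtFun.Art.quot P _ hK => u b) hs
    change ArtFun.Art.quotFactor hK r hKr (s (f b)) = Δ (f b)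
    rw [e]
    refine hQ.inj _ _ ?_ ?_
    · exact (congrArg (fun u : P ⟶ A => u (δ b)) hr₁).trans
        ((congrArg (fun u : B ⟶ B => f (u b)) hδ₁).trans (congrArg (fun u : A ⟶ A => u (f b)) hΔ₁).symm)
    · exact (congrArg (fun u : P ⟶ A => u (δ b)) hr₂).trans
        ((congrArg (fun u : B ⟶ B => f (u b)) hδ₂).trans (congrArg (fun u : A ⟶ A => u (f b)) hΔ₂).symm)
  refine ⟨F.map s (F.map q₁ y), ?_⟩
  rw [Groth.L12.map_map F s, hs', ← hy']
end Groth.Agent.S15134
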