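import Groth.Statements.S15135


set_option autoImplicit false
universe u v
open Deform

namespace Groth.Agent.S15135

/-- For R-modules M ⊆ N, the first-order embedded deformations of M in N are in canonical bijection with
Hom_R(M, N/M). Writing N ⊗ k[ε] = N ⊕ εN as N × N (the pair (x, y) standing for x + εy), such a
deformation is an R-submodule L of N × N which is stable under multiplication by ε (if (x, y) ∈ L
then (0, x) ∈ L), reduces to M (x ∈ M exactly when (x, y) ∈ L for some y) and is flat over the dual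
numbers, flatness being stated elementwise as: (0, y) ∈ L only if y ∈ M (for a submodule reducing to
M this is the equality of the kernel and the image of ε on L, i.e. flatness over k[ε] when R is an
algebra over a field k). To φ : M → N/M corresponds the submodule of all (x, y) with x ∈ M and y ≡
φ(x) mod M. The first clause says this rule defines exactly one submodule for each φ; the second
says that a submodule has the three properties precisely when its membership is given by this rule
for some φ. (The published statement is a linear isomorphism t_G ≅ Hom_R(M, N/M) for the functor G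
of flat deformations of M inside N ⊗ A over local Artinian algebras A; this row states only the
underlying bijection, and the obstruction half is not stated here.) -/
theorem result
    (R : Type u) [CommRing R] (N : Type v) [AddCommGroup N] [Module R N] (M : Submodule R N) :
    (∀ φ : M →ₗ[R] (N ⧸ M), ∃! L : Submodule R (N × N),
        ∀ x y : N, (x, y) ∈ L ↔ ∃ h : x ∈ M, Submodule.Quotient.mk y = φ ⟨x, h⟩) ∧
    (∀ L : Submodule R (N × N),
      ((∀ x y : N, (x, y) ∈ L → ((0 : N), x) ∈ L) ∧
        (∀ x : N, x ∈ M ↔ ∃ y : N, (x, y) ∈ L) ∧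
        (∀ y : N, ((0 : N), y) ∈ L → y ∈ M)) ↔
      ∃ φ : M →ₗ[R] (N ⧸ M), ∀ x y : N, (x, y) ∈ L ↔ ∃ h : x ∈ M, Submodule.Quotient.mk y = φ ⟨x, h⟩) := by
  constructor
  · intro φ
    refine ⟨{ carrier := {z | ∃ h : z.1 ∈ M, Submodule.Quotient.mk z.2 = φ ⟨z.1, h⟩}
              add_mem' := ?_, zero_mem' := ⟨M.zero_mem, (map_zero φ).symm⟩, smul_mem' := ?_ },
      fun x y => Iff.rfl, fun L hL => ?_⟩
    · rintro a b ⟨ha, ea⟩ ⟨hb, eb⟩
      refine ⟨M.add_mem ha hb, ?_⟩
      exact (congrArg₂ (· + ·) ea eb).trans (map_add φ ⟨a.1, ha⟩ ⟨b.1, hb⟩).symm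
    · rintro c a ⟨ha, ea⟩
      refine ⟨M.smul_mem c ha, ?_⟩
      exact (congrArg (c • ·) ea).trans (map_smul φ c ⟨a.1, ha⟩).symm
    · ext ⟨x, y⟩
      exact hL x y
  · intro L
    constructor
    · rintro ⟨h1, h2, h3⟩
      choose f hf using fun x : M => (h2 x).1 x.2
      have huniq : ∀ (x : M) (y : N), ((x : N), y) ∈ L →
          (Submodule.Quotient.mk y : N ⧸ M) = Submodule.Quotient.mk (f x) := fun x y hy =>
        (Submodule.Quotient.eq M).2 (h3 _ (by simpa using L.sub_mem hy (hf x)))
      refine ⟨{ toFun := fun x => Submodule.Quotient.mk (f x)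
                map_add' := fun a b => (huniq (a + b) (f a + f b) (L.add_mem (hf a) (hf b))).symm.trans (Submodule.Quotient.mk_add M)
                map_smul' := fun c a => (huniq (c • a) (c • f a) (L.smul_mem c (hf a))).symm.trans (Submodule.Quotient.mk_smul M c _) },
        fun x y => ⟨fun h => ?_, ?_⟩⟩
      · have hx : x ∈ M := (h2 x).2 ⟨y, h⟩
        exact ⟨hx, huniq ⟨x, hx⟩ y h⟩
      · rintro ⟨hx, e⟩
        have hd : y - f ⟨x, hx⟩ ∈ M := (Submodule.Quotient.eq M).1 e
        obtain ⟨z, hz⟩ := (h2 _).1 hd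
        simpa using L.add_mem (hf ⟨x, hx⟩) (h1 _ _ hz)
    · rintro ⟨φ, hφ⟩
      refine ⟨fun x y h => ?_, fun x => ⟨fun hx => ?_, fun ⟨y, h⟩ => ((hφ x y).1 h).1⟩, fun y h => ?_⟩
      · exact (hφ 0 x).2 ⟨M.zero_mem, ((Submodule.Quotient.mk_eq_zero M).2 ((hφ x y).1 h).1).trans (map_zero φ).symm⟩
      · obtain ⟨y, hy⟩ := Submodule.Quotient.mk_surjective M (φ ⟨x, hx⟩)
        exact ⟨y, (hφ x y).2 ⟨hx, hy⟩⟩
      · obtain ⟨h0, e⟩ := (hφ 0 y).1 h
        exact (Submodule.Quotient.mk_eq_zero M).1 (e.trans (map_zero φ))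
end Groth.Agent.S15135
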