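import Groth.Statements.S15136
import Groth.Agent.L05.InterPair.Model
import Groth.Agent.L05.InterPair.Twist
import Groth.Agent.L05.EulerDiv.Length
import Groth.Agent.L14.Quot.Scalar

set_option backward.isDefEq.respectTransparency false
set_option linter.style.haveILetI false

set_option autoImplicit false
universe u
open CategoryTheory CategoryTheory.Limits AlgebraicGeometry Opposite
open Models

namespace Groth.Agent.S15136

open Groth.L05.FibreDecomp Groth.L05.InterPair Groth.L05.EulerDiv
open Groth.L16.CohLinear (hmap delta exact_hmap_hmap exact_hmap_delta exact_delta_hmap)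
open Groth.Agent.L19.IdealInvertible Groth.L21.Extend

/-- An endomorphism of the structure sheaf is multiplication by the image of one. -/
theorem eq_smulMod {Z : Scheme.{u}} (φ : Coh.structureModule Z ⟶ Coh.structureModule Z) :
    φ = Groth.L14.Quot.smulMod _ (show Γ(Z, ⊤) from φ.app ⊤ (1 : Γ(Z, ⊤))) := by
  ext U m
  have h1 : φ.app U (1 : Γ(Z, U)) =
      (Z.presheaf.map (homOfLE le_top : U ⟶ ⊤).op (show Γ(Z, ⊤) from φ.app ⊤ (1 : Γ(Z, ⊤)))) := by
    have h := ConcreteCategory.congr_hom (φ.mapPresheaf.naturality (homOfLE le_top : U ⟶ ⊤).op) (1 : Γ(Z, ⊤))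
    refine Eq.trans ?_ h
    exact congrArg (φ.app U) (map_one (Z.presheaf.map (homOfLE le_top : U ⟶ ⊤).op).hom).symm
  rw [Groth.L14.Quot.smulMod_app]
  refine Eq.trans (congrArg (φ.app U) (mul_one (show Γ(Z, U) from m)).symm) ?_
  refine (Scheme.Modules.Hom.app_smul φ (show Γ(Z, U) from m) (show Γ(Coh.structureModule Z, U) from (1 : Γ(Z, U)))).trans ?_
  rw [h1]
  exact mul_comm (show Γ(Z, U) from m) _

theorem hmap_smulMod {Z : Scheme.{u}} (M : Z.Modules) (r : Γ(Z, ⊤)) (n : ℕ) (x : Coh.HH Z M n) :
    hmap (Groth.L14.Quot.smulMod M r) n x = (show Coh.Γtop Z from r) • x := rfl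

/-- Let R be a discrete valuation ring with residue field k and let X be a scheme proper and flat over
Spec R, with closed fibre X_s = X ×_R Spec k, the closed subscheme cut out by the ideal sheaf 𝔪_R ·
O_X. Then X is cohomologically flat over R in dimension 0, in the sense that the restriction map
H^0(X, O_X) → H^0(X_s, O_{X_s}) is surjective (equivalently H^0(X, O_X) ⊗_R k ≅ H^0(X_s, O_{X_s})),
precisely when H^1(X, O_X) has no R-torsion. (The published statement is for a proper relative curve
over R, normal with smooth geometrically connected generic fibre and with the fraction field of R of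
characteristic zero, and phrases cohomological flatness as the formation of the direct image of O_X
commuting with every base change; the argument uses only properness and flatness, and for X proper
and flat over R that condition amounts to surjectivity onto the sections of the closed fibre, which
is the form taken here.) -/
theorem result (R : Type u) [CommRing R] [IsDomain R]
    [IsDiscreteValuationRing R] (X : Scheme.{u}) [X.Over (Spec (CommRingCat.of R))]
    [IsProper (X ↘ Spec (CommRingCat.of R))] [Flat (X ↘ Spec (CommRingCat.of R))] :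
    Function.Surjective (Sheaf.H.map ((SheafOfModules.toSheaf X.ringCatSheaf).map
      (ClSub.toSubscheme (Models.specialFibreIdeal R (Over.mk (X ↘ Spec (CommRingCat.of R)))))) 0) ↔
      NoZeroSMulDivisors R (Coh.HH X (Coh.structureModule X) 1) := by
  let Y := Over.mk (X ↘ Spec (CommRingCat.of R))
  haveI : Flat Y.hom := ‹Flat (X ↘ Spec (CommRingCat.of R))›
  let I : X.IdealSheafData := Models.specialFibreIdeal R Y
  obtain ⟨e⟩ := nonempty_iso_idealMod_fibre (R := R) (X := Y)
  let ι' : Coh.structureModule X ⟶ Coh.structureModule X := e.inv ≫ ClSub.idealModι I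
  let a : Γ(X, ⊤) := ι'.app ⊤ (1 : Γ(X, ⊤))
  have hι : ι' = Groth.L14.Quot.smulMod _ a := eq_smulMod ι'
  obtain ⟨ϖ, hϖ⟩ := IsDiscreteValuationRing.exists_irreducible R
  let b : Γ(X, ⊤) := Coh.toGlobal Y.hom ϖ
  let r : ∀ U : X.affineOpens, Γ(X, ⊤) →+* Γ(X, U.1) := fun U =>
    (X.presheaf.map (homOfLE (le_top : U.1 ≤ ⊤)).op).hom
  have hb : ∀ U : X.affineOpens, I.ideal U = Ideal.span {r U b} := fun U => by
    show (Models.specialFibreIdeal R Y).ideal U = _
    rw [ideal_specialFibreIdeal (X := Y) U, hϖ.maximalIdeal_eq, Ideal.map_span, Set.image_singleton]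
    rfl
  have ha : ∀ U : X.affineOpens, I.ideal U = Ideal.span {r U a} := fun U => by
    refine Ideal.ext fun z => ?_
    rw [Ideal.mem_span_singleton']
    refine (Groth.L18.IdealModule.mem_ideal_iff I U.2 z).trans ⟨?_, ?_⟩
    · rintro ⟨m, rfl⟩
      refine ⟨show Γ(X, U.1) from e.hom.app U.1 m, ?_⟩
      have h1 : ι'.app U.1 (e.hom.app U.1 m) = (ClSub.idealModι I).app U.1 m := by
        show ((e.hom ≫ ι').app U.1) m = _
        rw [Iso.hom_inv_id_assoc]
      refine (mul_comm _ _).trans (Eq.trans ?_ h1)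
      rw [hι, Groth.L14.Quot.smulMod_app]
      rfl
    · rintro ⟨c, rfl⟩
      refine ⟨e.inv.app U.1 (show Γ(Coh.structureModule X, U.1) from c), ?_⟩
      show ι'.app U.1 (show Γ(Coh.structureModule X, U.1) from c) = c * r U a
      rw [hι, Groth.L14.Quot.smulMod_app]
      exact mul_comm (r U a) c
  have hbnzd : ∀ U : X.affineOpens, r U b ∈ nonZeroDivisors Γ(X, U.1) := fun U => by
    have h := Y.hom.flat_appLE (isAffineOpen_top _) U.2 (fun _ _ => trivial)
    have h2 := RingHom.Flat.comp (RingHom.Flat.of_bijective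
      (f := (Scheme.ΓSpecIso (CommRingCat.of R)).inv.hom)
      (Scheme.ΓSpecIso (CommRingCat.of R)).symm.commRingCatIsoToRingEquiv.bijective) h
    rw [Scheme.Hom.appLE, CommRingCat.hom_comp, RingHom.comp_assoc] at h2
    letI : Algebra R Γ(X, U.1) := ((r U).comp (Coh.toGlobal Y.hom)).toAlgebra
    haveI : Module.Flat R Γ(X, U.1) := h2
    have hreg : IsSMulRegular Γ(X, U.1) ϖ :=
      Module.Flat.isSMulRegular_of_nonZeroDivisors (mem_nonZeroDivisors_of_ne_zero hϖ.ne_zero)
    refine mem_nonZeroDivisors_iff_right.mpr fun z hz => hreg ?_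
    show ϖ • z = ϖ • (0 : Γ(X, U.1))
    rw [smul_zero, Algebra.smul_def, mul_comm]
    exact hz
  have hloc : ∀ x : X, ∃ U : X.affineOpens, x ∈ U.1 := fun x => by
    obtain ⟨_, ⟨W, hW, rfl⟩, hxW, -⟩ :=
      X.isBasis_affineOpens.exists_subset_of_mem_open (Set.mem_univ x) isOpen_univ
    exact ⟨⟨W, hW⟩, hxW⟩
  -- the two generators are associated
  obtain ⟨c, hc, hcu⟩ : ∃ c : Γ(X, ⊤), b = c * a ∧ IsUnit c := by
    have hb0 : I.subschemeι.app ⊤ b = 0 := by
      choose U hU using hloc
      refine TopCat.Sheaf.eq_of_locally_eq' I.subscheme.sheaf (fun x : X => I.subschemeι ⁻¹ᵁ (U x).1) _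
        (fun x => homOfLE le_top) (fun y _ => TopologicalSpace.Opens.mem_iSup.2 ⟨I.subschemeι y, hU _⟩) _ _
        fun x => ?_
      rw [map_zero]
      refine (ConcreteCategory.congr_hom
        (I.subschemeι.naturality (homOfLE (le_top : (U x).1 ≤ ⊤)).op) b).symm.trans ?_
      show I.subschemeι.app (U x).1 (r (U x) b) = 0
      rw [← RingHom.mem_ker, I.ker_subschemeι_app, hb]
      exact Ideal.mem_span_singleton_self _
    obtain ⟨m, hm⟩ := ((Groth.L18.IdealModule.exact_sections I ⊤).2 b).1 hb0
    have hba0 : b = (show Γ(X, ⊤) from e.hom.app ⊤ m) * a := by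
      have h1 : ι'.app ⊤ (e.hom.app ⊤ m) = (ClSub.idealModι I).app ⊤ m := by
        show ((e.hom ≫ ι').app ⊤) m = _
        rw [Iso.hom_inv_id_assoc]
      rw [hι, Groth.L14.Quot.smulMod_app] at h1
      refine hm.symm.trans (h1.symm.trans ?_)
      refine Eq.trans ?_ (mul_comm a _)
      show (X.presheaf.map (homOfLE (le_top : (⊤ : X.Opens) ≤ ⊤)).op).hom a * _ = _
      simp
    refine ⟨show Γ(X, ⊤) from e.hom.app ⊤ m, hba0, ?_⟩
    · set c : Γ(X, ⊤) := show Γ(X, ⊤) from e.hom.app ⊤ m
      have hcb : ∀ U : X.affineOpens, IsUnit (r U c) := fun U => by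
        have hba : r U b = r U c * r U a := by rw [hba0, map_mul]
        obtain ⟨d, hd⟩ := Ideal.mem_span_singleton'.1 (hb U ▸ ha U ▸ Ideal.mem_span_singleton_self (r U a))
        refine IsUnit.of_mul_eq_one d ?_
        refine (mul_cancel_right_mem_nonZeroDivisors (hbnzd U)).1 ?_
        rw [one_mul, mul_assoc, hd]
        exact hba.symm
      refine RingedSpace.isUnit_of_isUnit_germ X.toRingedSpace ⊤ c fun x _ => ?_
      obtain ⟨U, hxU⟩ := hloc x
      have := (hcb U).map (X.presheaf.germ U.1 x hxU).hom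
      rwa [TopCat.Presheaf.germ_res_apply] at this
  -- the long exact sequence
  let S : ShortComplex X.Modules := ShortComplex.mk ι' (ClSub.toSubscheme I) (by
    show (e.inv ≫ kernel.ι _) ≫ _ = 0
    rw [Category.assoc, kernel.condition, comp_zero])
  let eS : Groth.L21.RR.idealSeq I ≅ S := ShortComplex.isoMk e (Iso.refl _) (Iso.refl _)
    (by show e.hom ≫ e.inv ≫ ClSub.idealModι I = ClSub.idealModι I ≫ 𝟙 _
        rw [Iso.hom_inv_id_assoc, Category.comp_id])
    (by show 𝟙 _ ≫ ClSub.toSubscheme I = ClSub.toSubscheme I ≫ 𝟙 _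
        rw [Category.comp_id, Category.id_comp])
  have hS : S.ShortExact := ShortComplex.shortExact_of_iso eS (Groth.L21.RR.shortExact_idealSeq I)
  have hf : ∀ x : Coh.HH X (Coh.structureModule X) 1, hmap S.f 1 x = (show Coh.Γtop X from a) • x := fun x => by
    show hmap ι' 1 x = _
    rw [hι]
    rfl
  have hsmul : ∀ x : Coh.HH X (Coh.structureModule X) 1,
      ϖ • x = (show Coh.Γtop X from c) • (show Coh.Γtop X from a) • x := fun x => by
    rw [smul_smul]
    exact congrArg (fun t : Coh.Γtop X => t • x) hc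
  have hkey : NoZeroSMulDivisors R (Coh.HH X (Coh.structureModule X) 1) ↔
      ∀ x : Coh.HH X (Coh.structureModule X) 1, hmap S.f 1 x = 0 → x = 0 := by
    constructor
    · intro h x hx
      rw [hf] at hx
      have : ϖ • x = 0 := by rw [hsmul, hx, smul_zero]
      exact (h.eq_zero_or_eq_zero_of_smul_eq_zero this).resolve_left hϖ.ne_zero
    · intro h
      have hinj : ∀ x : Coh.HH X (Coh.structureModule X) 1, ϖ • x = 0 → x = 0 := fun x hx => by
        refine h x ?_
        rw [hf]
        rw [hsmul] at hx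
        exact (IsUnit.smul_eq_zero (show IsUnit (show Coh.Γtop X from c) from hcu)).1 hx
      refine ⟨fun {q x} hqx => or_iff_not_imp_left.2 fun hq => ?_⟩
      obtain ⟨k, u, rfl⟩ := IsDiscreteValuationRing.eq_unit_mul_pow_irreducible hq hϖ
      rw [mul_smul, IsUnit.smul_eq_zero u.isUnit] at hqx
      clear hq
      induction k with
      | zero => simpa using hqx
      | succ k ih =>
        rw [pow_succ', mul_smul] at hqx
        exact ih (hinj _ hqx)
  rw [hkey]
  show Function.Surjective (hmap S.g 0) ↔ _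
  constructor
  · intro hs x hx
    obtain ⟨y, hy⟩ := (exact_delta_hmap hS 0 x).1 hx
    obtain ⟨z, hz⟩ := hs y
    rw [← hy, ← hz]
    exact (exact_hmap_delta hS 0 (hmap S.g 0 z)).2 ⟨z, rfl⟩
  · intro h y
    refine (exact_hmap_delta hS 0 y).1 (h _ ?_)
    exact (exact_delta_hmap hS 0 _).2 ⟨y, rfl⟩

end Groth.Agent.S15136
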