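import Groth.Statements.S15138
import Groth.Agent.L05.TraceSplit.Modif
import Groth.Agent.S2654
import Groth.Agent.L03.RegularNormal

set_option autoImplicit false
universe u
open CategoryTheory CategoryTheory.Limits AlgebraicGeometry
open Resolve

namespace Groth.Agent.S15138

set_option backward.isDefEq.respectTransparency false
set_option backward.isDefEq.respectTransparency.types false
set_option maxHeartbeats 1000000
set_option backward.isDefEq.respectTransparency false
set_option backward.isDefEq.respectTransparency.types false
set_option linter.style.haveILetI false

/-- Let A → B be a finite injective ring map between excellent Noetherian normal domains of Krull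
dimension two (the affine form of a finite surjective morphism of two-dimensional excellent normal
integral schemes), let K ⊆ L be the induced extension of fraction fields, and assume that the degree
[L : K] is a unit in A. If B has rational singularities, in the sense that its localization at every
maximal ideal of height two defines a rational singularity (every proper morphism onto the spectrum
from an integral normal scheme which is an isomorphism over a nonempty open has H^1 of the structure
sheaf zero), then A has rational singularities in the same sense. (The published statement is for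
schemes; the property is local on the target and a finite morphism is affine, so this row is its
affine form.) -/
theorem result (A B : Type u) [CommRing A] [CommRing B]
    [IsDomain A] [IsDomain B] [IsNoetherianRing A] [IsNoetherianRing B] [IsIntegrallyClosed A] [IsIntegrallyClosed B]
    (hAe : EGA4.IsExcellent A) (hBe : EGA4.IsExcellent B) (hA2 : ringKrullDim A = 2) (hB2 : ringKrullDim B = 2)
    [Algebra A B] [Module.Finite A B] (hinj : Function.Injective (algebraMap A B))
    (K L : Type u) [Field K] [Field L] [Algebra A K] [IsFractionRing A K] [Algebra B L] [IsFractionRing B L]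
    [Algebra K L] [Algebra A L] [IsScalarTower A K L] [IsScalarTower A B L]
    (hdeg : IsUnit ((Module.finrank K L : ℕ) : A))
    (hB : ∀ (n : Ideal B) [n.IsMaximal], ringKrullDim (Localization.AtPrime n) = 2 →
      Curv2.IsRationalSing (Localization.AtPrime n))
    (m : Ideal A) [m.IsMaximal] (hm : ringKrullDim (Localization.AtPrime m) = 2) :
    Curv2.IsRationalSing (Localization.AtPrime m) := by
  intro X f hp hi hn hb
  haveI := hp
  haveI := hi
  have hN : CAlg.IsNagata B := Groth.Agent.S2654.result B ⟨hBe.1, hBe.2.2⟩
  let M := Algebra.algebraMapSubmonoid B m.primeCompl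
  have hM : M ≤ nonZeroDivisors B := by
    rintro _ ⟨s, hs, rfl⟩
    exact mem_nonZeroDivisors_of_ne_zero fun h => hs ((hinj (h.trans (map_zero _).symm)) ▸ m.zero_mem)
  let A' := Localization.AtPrime m
  let B' := Localization M
  haveI : IsDomain A' := IsLocalization.isDomain_localization m.primeCompl_le_nonZeroDivisors
  haveI : IsDomain B' := IsLocalization.isDomain_localization hM
  haveI : IsNoetherianRing B' := IsLocalization.isNoetherianRing M B' inferInstance
  haveI : IsIntegrallyClosed B' := isIntegrallyClosed_of_isLocalization _ M hM
  letI : Algebra A' B' := (IsLocalization.map (S := A') B' (algebraMap A B)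
    (show m.primeCompl ≤ M.comap (algebraMap A B) from fun s hs => ⟨s, hs, rfl⟩)).toAlgebra
  haveI : IsScalarTower A A' B' := IsScalarTower.of_algebraMap_eq fun a =>
    (IsScalarTower.algebraMap_apply A B B' a).trans
      (IsLocalization.map_eq (show m.primeCompl ≤ M.comap (algebraMap A B) from fun s hs => ⟨s, hs, rfl⟩) a).symm
  haveI : Module.Finite A' B' := Module.Finite.of_isLocalization A B m.primeCompl
  have hinj' : Function.Injective (algebraMap A' B') :=
    IsLocalization.map_injective_of_injective' m.primeCompl B (Rₘ := A') B' (show m.primeCompl ≤ M.comap (algebraMap A B) from fun s hs => ⟨s, hs, rfl⟩) (fun h => zero_notMem_nonZeroDivisors (hM h)) hinj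
  letI : Algebra A' K := (IsLocalization.lift (M := m.primeCompl) (g := algebraMap A K)
    fun s => IsLocalization.map_units K (⟨s.1, m.primeCompl_le_nonZeroDivisors s.2⟩ : nonZeroDivisors A)).toAlgebra
  haveI : IsScalarTower A A' K := IsScalarTower.of_algebraMap_eq fun a => (IsLocalization.lift_eq _ a).symm
  haveI : IsFractionRing A' K := IsFractionRing.isFractionRing_of_isDomain_of_isLocalization m.primeCompl A' K
  letI : Algebra B' L := (IsLocalization.lift (M := M) (g := algebraMap B L)
    fun s => IsLocalization.map_units L (⟨s.1, hM s.2⟩ : nonZeroDivisors B)).toAlgebra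
  haveI : IsScalarTower B B' L := IsScalarTower.of_algebraMap_eq fun b => (IsLocalization.lift_eq _ b).symm
  haveI : IsFractionRing B' L := IsFractionRing.isFractionRing_of_isDomain_of_isLocalization M B' L
  letI : Algebra A' L := ((algebraMap K L).comp (algebraMap A' K)).toAlgebra
  haveI : IsScalarTower A' K L := IsScalarTower.of_algebraMap_eq fun _ => rfl
  haveI : IsScalarTower A' B' L := by
    refine IsScalarTower.of_algebraMap_eq' (IsLocalization.ringHom_ext m.primeCompl (RingHom.ext fun a => ?_))
    show algebraMap K L (algebraMap A' K (algebraMap A A' a)) = algebraMap B' L (algebraMap A' B' (algebraMap A A' a))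
    rw [← IsScalarTower.algebraMap_apply A A' K, ← IsScalarTower.algebraMap_apply A A' B',
      IsScalarTower.algebraMap_apply A B B', ← IsScalarTower.algebraMap_apply B B' L,
      ← IsScalarTower.algebraMap_apply A K L, ← IsScalarTower.algebraMap_apply A B L]
  have hB' : ∀ (n' : Ideal B') [n'.IsMaximal], Curv2.IsRationalSing (Localization.AtPrime n') := fun n' _ => by
    haveI : Algebra.IsIntegral A' B' := inferInstance
    let n := n'.comap (algebraMap B B')
    have hnA : n.comap (algebraMap A B) = m := by
      have h1 : (n'.comap (algebraMap A' B')).IsMaximal := Ideal.isMaximal_comap_of_isIntegral_of_isMaximal n'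
      have h2 : n'.comap (algebraMap A' B') = IsLocalRing.maximalIdeal A' := IsLocalRing.eq_maximalIdeal h1
      rw [Ideal.comap_comap, ← IsScalarTower.algebraMap_eq, IsScalarTower.algebraMap_eq A A' B', ← Ideal.comap_comap, h2]
      exact IsLocalization.AtPrime.comap_maximalIdeal A' m
    haveI : n.IsMaximal := Ideal.isMaximal_of_isIntegral_of_isMaximal_comap n (by rw [hnA]; infer_instance)
    have hrat : Curv2.IsRationalSing (Localization.AtPrime n) := by
      by_cases h2 : ringKrullDim (Localization.AtPrime n) = 2
      · exact hB n h2
      · haveI : IsDomain (Localization.AtPrime n) := IsLocalization.isDomain_localization n.primeCompl_le_nonZeroDivisors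
        haveI : IsIntegrallyClosed (Localization.AtPrime n) :=
          isIntegrallyClosed_of_isLocalization _ n.primeCompl n.primeCompl_le_nonZeroDivisors
        refine Groth.L05.RatSpread.isRationalSing_of_dim_le_one _ (Groth.L05.TraceSplit.le_one_of_le_two ?_ h2)
        rw [← hB2, IsLocalization.AtPrime.ringKrullDim_eq_height n]
        exact Ideal.height_le_ringKrullDim_of_ne_top (Ideal.IsMaximal.ne_top inferInstance)
    haveI : IsDomain (Localization.AtPrime n') := IsLocalization.isDomain_localization n'.primeCompl_le_nonZeroDivisors
    exact Groth.L05.RatSpread.isRationalSing_of_equiv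
      (IsLocalization.localizationLocalizationAtPrimeIsoLocalization M n').toRingEquiv hrat
  letI : X.Over (Spec (CommRingCat.of A')) := ⟨f⟩
  refine subsingleton_of_forall_eq 0 fun x => ?_
  have h := Groth.L05.TraceSplit.degree_nsmul_eq_zero (Groth.L01.NagataAdjoin.isNagata_localization hN M B') hinj' K L hB'
    f hn hb x
  rw [← Nat.cast_smul_eq_nsmul A'] at h
  have hu : IsUnit ((Module.finrank K L : ℕ) : A') := by
    have := hdeg.map (algebraMap A A')
    rwa [map_natCast] at this
  exact (IsUnit.smul_eq_zero hu).1 h

end Groth.Agent.S15138
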