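import Groth.Statements.S15139
import Groth.Agent.L05.Admissible.Modif

set_option autoImplicit false
universe u
open CategoryTheory CategoryTheory.Limits AlgebraicGeometry Opposite
open Models

namespace Groth.Agent.S15139
set_option backward.isDefEq.respectTransparency false
set_option backward.isDefEq.respectTransparency.types false
set_option backward.isDefEq.respectTransparency false
set_option backward.isDefEq.respectTransparency.types false
set_option linter.style.haveILetI false

/-- Let R be a discrete valuation ring whose fraction field K has characteristic zero, and let C be a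
proper K-curve, smooth of relative dimension 1 and geometrically connected over K. An admissible
model of C is a scheme X with a proper flat morphism p : X → Spec R (hence of finite type) and a
morphism g : C → X making C the generic fibre of p, such that X is normal, cohomologically flat over
R in dimension 0 (the restriction H^0(X, O_X) → H^0(X_s, O_{X_s}) to the closed fibre X_s, cut out
by 𝔪_R · O_X, is surjective), and has rational singularities (the local ring at every closed point
defines a rational singularity: every proper morphism onto its spectrum from an integral normal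
scheme which is an isomorphism over a nonempty open has H^1 of the structure sheaf zero). Then any
two admissible models (X₁, p₁, g₁) and (X₂, p₂, g₂) of C are dominated by a third: there are an
admissible model (X₃, p₃, g₃) of C and proper R-morphisms ρ₁ : X₃ → X₁ and ρ₂ : X₃ → X₂ with g₃ ≫ ρ₁
= g₁ and g₃ ≫ ρ₂ = g₂ (so ρ₁ and ρ₂ are proper and birational, inducing the given identifications on
generic fibres). -/
theorem result (R : Type u) [CommRing R] [IsDomain R]
    [IsDiscreteValuationRing R] [CharZero (FractionRing R)]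
    (C : Scheme.{u}) (f : C ⟶ Spec (CommRingCat.of (FractionRing R)))
    [SmoothOfRelativeDimension 1 f] [IsProper f] [GeometricallyConnected f]
    (X₁ X₂ : Scheme.{u}) (p₁ : X₁ ⟶ Spec (CommRingCat.of R)) (p₂ : X₂ ⟶ Spec (CommRingCat.of R))
    [IsProper p₁] [Flat p₁] [IsProper p₂] [Flat p₂]
    (g₁ : C ⟶ X₁) (g₂ : C ⟶ X₂)
    (hg₁ : IsPullback g₁ f p₁ (Spec.map (CommRingCat.ofHom (algebraMap R (FractionRing R)))))
    (hg₂ : IsPullback g₂ f p₂ (Spec.map (CommRingCat.ofHom (algebraMap R (FractionRing R)))))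
    (hn₁ : Pi1.IsNormalScheme X₁) (hn₂ : Pi1.IsNormalScheme X₂)
    (hcf₁ : Function.Surjective (Sheaf.H.map ((SheafOfModules.toSheaf X₁.ringCatSheaf).map
        (ClSub.toSubscheme (Models.specialFibreIdeal R (Over.mk p₁)))) 0))
    (hcf₂ : Function.Surjective (Sheaf.H.map ((SheafOfModules.toSheaf X₂.ringCatSheaf).map
        (ClSub.toSubscheme (Models.specialFibreIdeal R (Over.mk p₂)))) 0))
    (hrat₁ : ∀ x : X₁, IsClosed ({x} : Set X₁) → Curv2.IsRationalSing (X₁.presheaf.stalk x))
    (hrat₂ : ∀ x : X₂, IsClosed ({x} : Set X₂) → Curv2.IsRationalSing (X₂.presheaf.stalk x)) :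
    ∃ (X₃ : Scheme.{u}) (p₃ : X₃ ⟶ Spec (CommRingCat.of R)) (g₃ : C ⟶ X₃) (ρ₁ : X₃ ⟶ X₁) (ρ₂ : X₃ ⟶ X₂),
      IsProper p₃ ∧ Flat p₃ ∧
      IsPullback g₃ f p₃ (Spec.map (CommRingCat.ofHom (algebraMap R (FractionRing R)))) ∧
      Pi1.IsNormalScheme X₃ ∧
      Function.Surjective (Sheaf.H.map ((SheafOfModules.toSheaf X₃.ringCatSheaf).map
        (ClSub.toSubscheme (Models.specialFibreIdeal R (Over.mk p₃)))) 0) ∧
      (∀ x : X₃, IsClosed ({x} : Set X₃) → Curv2.IsRationalSing (X₃.presheaf.stalk x)) ∧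
      IsProper ρ₁ ∧ IsProper ρ₂ ∧ ρ₁ ≫ p₁ = p₃ ∧ ρ₂ ≫ p₂ = p₃ ∧ g₃ ≫ ρ₁ = g₁ ∧ g₃ ≫ ρ₂ = g₂ := by
  haveI : Smooth f := SmoothOfRelativeDimension.smooth 1 f
  haveI : IsIntegral C := Groth.L22.CurveQuot.isIntegral_of_smooth f
  haveI : Flat (Over.mk p₁).hom := ‹Flat p₁›
  haveI : IsIntegral X₁ :=
    Groth.L05.RatR1.isIntegral_of_normal_model (X := Over.mk p₁) hn₁ (f := f) (g := g₁) hg₁
  obtain ⟨X₃, p₃, g₃, ρ₁, ρ₂, hint, hp, hfl, hg₃, hn₃, hρ₁, hbir, hρ₂, e₁, e₂, e₃, e₄, -⟩ :=
    Groth.L05.Adm.exists_graph_model p₁ hn₁ g₁ hg₁ p₂ g₂ hg₂.w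
  haveI := hint; haveI := hp; haveI := hfl; haveI := hρ₁
  obtain ⟨h₁, h₂⟩ := Groth.L05.Adm.admissible_modif g₁ hg₁ hn₁ hcf₁ hrat₁ ρ₁ e₁ hbir hn₃
  exact ⟨X₃, p₃, g₃, ρ₁, ρ₂, hp, hfl, hg₃, hn₃, h₁, h₂, hρ₁, hρ₂, e₁, e₂, e₃, e₄⟩

end Groth.Agent.S15139
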