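import Groth.Statements.S1514
import Groth.Agent.L19.PerfectHomCases
import Groth.Agent.L29.RelPC.Hom2

set_option autoImplicit false
set_option backward.isDefEq.respectTransparency false
universe u
attribute [local instance] HasDerivedCategory.standard
open FlatMor

namespace Groth.Agent.S1514

open AlgebraicGeometry CategoryTheory Limits in
/-- A local complete intersection morphism (affine-locally: lci ring maps) is locally of finite
presentation, pseudo-coherent and perfect. -/
theorem result {X S : Scheme.{u}} (f : X ⟶ S)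
    (hf : (∀ (U : X.Opens) (V : S.Opens) (hU : IsAffineOpen U) (hV : IsAffineOpen V) (hUV : U ≤ f ⁻¹ᵁ V),
        letI := (f.appLE V U hUV).hom.toAlgebra
        LCI.IsLCI Γ(S, V) Γ(X, U))) :
    LocallyOfFinitePresentation f ∧ MoreMor.IsPseudoCoherentMor f ∧ MoreMor.IsPerfectMor f := by
  have hP : ∀ (U : X.Opens) (V : S.Opens) (hU : IsAffineOpen U) (hV : IsAffineOpen V) (hle : U ≤ f ⁻¹ᵁ V),
      (letI := (f.appLE V U hle).hom.toAlgebra; MoreMor.IsPerfectHom Γ(S, V) Γ(X, U)) := by
    intro U V hU hV hle
    letI := (f.appLE V U hle).hom.toAlgebra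
    exact Groth.L19.PerfectHom.isPerfectHom_of_isLCI (hf U V hU hV hle)
  exact ⟨⟨fun {V} hV {U} hU hle => @Groth.L29.RelPC.finitePresentation_of_hom Γ(S, V) Γ(X, U) _ _
      (f.appLE V U hle).hom.toAlgebra (hP U V hU hV hle).1⟩,
    fun U V hU hV hle => (hP U V hU hV hle).1, hP⟩

end Groth.Agent.S1514
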