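import Groth.Statements.S15141
import Groth.Agent.L05.Admissible.Modif
import Groth.Agent.L05.Admissible.Finite
import Groth.Agent.L01.Serre

set_option autoImplicit false
universe u
open CategoryTheory CategoryTheory.Limits AlgebraicGeometry Opposite
open Models

namespace Groth.Agent.S15141
set_option backward.isDefEq.respectTransparency false
set_option backward.isDefEq.respectTransparency.types false
set_option backward.isDefEq.respectTransparency false
set_option backward.isDefEq.respectTransparency.types false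
set_option linter.style.haveILetI false

/-- Let R be a discrete valuation ring whose fraction field K has characteristic zero, let C and D be
proper K-curves, smooth of relative dimension 1 and geometrically connected, and let f_K : C → D be
a finite K-morphism. An admissible model of C is a scheme X with a proper flat morphism p : X → Spec
R and a morphism g : C → X making C the generic fibre of p, with X normal, cohomologically flat over
R in dimension 0 (the restriction H^0(X, O_X) → H^0(X_s, O_{X_s}) to the closed fibre, cut out by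
𝔪_R · O_X, is surjective) and with rational singularities (the local ring at every closed point
defines a rational singularity: every proper morphism onto its spectrum from an integral normal
scheme which is an isomorphism over a nonempty open has H^1 of the structure sheaf zero); likewise
for D. Suppose (X, p, g) and (Y, q, h) are admissible models of C and D. Then there are admissible
models (X', p', g') of C and (Y', q', h') of D, proper R-morphisms ρ : X' → X and σ : Y' → Y with g'
≫ ρ = g and h' ≫ σ = h (so X' dominates X and Y' dominates Y), and a finite R-morphism f' : X' → Y'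
with g' ≫ f' = f_K ≫ h', i.e. f' restricts to f_K on generic fibres. -/
theorem result (R : Type u) [CommRing R]
    [IsDomain R] [IsDiscreteValuationRing R] [CharZero (FractionRing R)]
    (C D : Scheme.{u}) (fC : C ⟶ Spec (CommRingCat.of (FractionRing R))) (fD : D ⟶ Spec (CommRingCat.of (FractionRing R)))
    [SmoothOfRelativeDimension 1 fC] [IsProper fC] [GeometricallyConnected fC]
    [SmoothOfRelativeDimension 1 fD] [IsProper fD] [GeometricallyConnected fD]
    (fK : C ⟶ D) [IsFinite fK] (hfK : fK ≫ fD = fC)
    (X Y : Scheme.{u}) (p : X ⟶ Spec (CommRingCat.of R)) (q : Y ⟶ Spec (CommRingCat.of R)) [IsProper p] [Flat p] [IsProper q] [Flat q]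
    (g : C ⟶ X) (h : D ⟶ Y)
    (hg : IsPullback g fC p (Spec.map (CommRingCat.ofHom (algebraMap R (FractionRing R))))) (hh : IsPullback h fD q (Spec.map (CommRingCat.ofHom (algebraMap R (FractionRing R)))))
    (hnX : Pi1.IsNormalScheme X) (hnY : Pi1.IsNormalScheme Y)
    (hcfX : Function.Surjective (Sheaf.H.map ((SheafOfModules.toSheaf X.ringCatSheaf).map
        (ClSub.toSubscheme (Models.specialFibreIdeal R (Over.mk p)))) 0))
    (hcfY : Function.Surjective (Sheaf.H.map ((SheafOfModules.toSheaf Y.ringCatSheaf).map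
        (ClSub.toSubscheme (Models.specialFibreIdeal R (Over.mk q)))) 0))
    (hratX : ∀ x : X, IsClosed ({x} : Set X) → Curv2.IsRationalSing (X.presheaf.stalk x))
    (hratY : ∀ y : Y, IsClosed ({y} : Set Y) → Curv2.IsRationalSing (Y.presheaf.stalk y)) :
    ∃ (X' Y' : Scheme.{u}) (p' : X' ⟶ Spec (CommRingCat.of R)) (q' : Y' ⟶ Spec (CommRingCat.of R)) (g' : C ⟶ X') (h' : D ⟶ Y')
      (ρ : X' ⟶ X) (σ : Y' ⟶ Y) (f' : X' ⟶ Y'),
      (IsProper p' ∧ Flat p' ∧ IsPullback g' fC p' (Spec.map (CommRingCat.ofHom (algebraMap R (FractionRing R)))) ∧ Pi1.IsNormalScheme X' ∧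
        Function.Surjective (Sheaf.H.map ((SheafOfModules.toSheaf X'.ringCatSheaf).map
        (ClSub.toSubscheme (Models.specialFibreIdeal R (Over.mk p')))) 0) ∧
        (∀ x : X', IsClosed ({x} : Set X') → Curv2.IsRationalSing (X'.presheaf.stalk x))) ∧
      (IsProper q' ∧ Flat q' ∧ IsPullback h' fD q' (Spec.map (CommRingCat.ofHom (algebraMap R (FractionRing R)))) ∧ Pi1.IsNormalScheme Y' ∧
        Function.Surjective (Sheaf.H.map ((SheafOfModules.toSheaf Y'.ringCatSheaf).map
        (ClSub.toSubscheme (Models.specialFibreIdeal R (Over.mk q')))) 0) ∧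
        (∀ x : Y', IsClosed ({x} : Set Y') → Curv2.IsRationalSing (Y'.presheaf.stalk x))) ∧
      IsProper ρ ∧ IsProper σ ∧ ρ ≫ p = p' ∧ σ ≫ q = q' ∧ g' ≫ ρ = g ∧ h' ≫ σ = h ∧
      IsFinite f' ∧ f' ≫ q' = p' ∧ g' ≫ f' = fK ≫ h' := by
  haveI : Smooth fC := SmoothOfRelativeDimension.smooth 1 fC
  haveI : Smooth fD := SmoothOfRelativeDimension.smooth 1 fD
  haveI : IsIntegral C := Groth.L22.CurveQuot.isIntegral_of_smooth fC
  haveI : IsIntegral D := Groth.L22.CurveQuot.isIntegral_of_smooth fD
  have hC : topologicalKrullDim C = 1 := Groth.L03.SurfAdj.dim_of_relDim fC 1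
  have hD : topologicalKrullDim D = 1 := Groth.L03.SurfAdj.dim_of_relDim fD 1
  have hDn : Pi1.IsNormalScheme D := fun d => by
    haveI := Groth.L08.Cube.isRegularLocalRing_of_smooth fD d
    haveI := Groth.L01.isDomain_of_regular (D.presheaf.stalk d)
    obtain ⟨_, hv⟩ := Groth.L01.Serre.valuationRing_of_regular_dim_le_one (A := D.presheaf.stalk d)
      ((Groth.L15.CohFlat.ringKrullDim_stalk_le d).trans hD.le)
    exact ⟨inferInstance, inferInstance⟩
  haveI : Flat (Over.mk p).hom := ‹Flat p›
  haveI : Flat (Over.mk q).hom := ‹Flat q›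
  haveI : IsIntegral X :=
    Groth.L05.RatR1.isIntegral_of_normal_model (X := Over.mk p) hnX (f := fC) (g := g) hg
  haveI : IsIntegral Y :=
    Groth.L05.RatR1.isIntegral_of_normal_model (X := Over.mk q) hnY (f := fD) (g := h) hh
  obtain ⟨X', Y', p', q', g', h', ρ, σ, f', ⟨iX, pX, flX, pbX, nX, prρ, bρ⟩, ⟨iY, pY, flY, pbY, nY, prσ, bσ⟩,
    e₁, e₂, e₃, e₄, hf, e₅, e₆⟩ :=
    Groth.L05.Adm.exists_finite_models hC hD.le hDn fK hfK p q hnX hnY g h hg hh
  haveI := iX; haveI := pX; haveI := flX; haveI := prρ
  haveI := iY; haveI := pY; haveI := flY; haveI := prσ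
  obtain ⟨a₁, b₁⟩ := Groth.L05.Adm.admissible_modif g hg hnX hcfX hratX ρ e₁ bρ nX
  obtain ⟨a₂, b₂⟩ := Groth.L05.Adm.admissible_modif h hh hnY hcfY hratY σ e₂ bσ nY
  exact ⟨X', Y', p', q', g', h', ρ, σ, f', ⟨pX, flX, pbX, nX, a₁, b₁⟩, ⟨pY, flY, pbY, nY, a₂, b₂⟩,
    prρ, prσ, e₁, e₂, e₃, e₄, hf, e₅, e₆⟩

end Groth.Agent.S15141
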