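import Groth.Statements.S1648
import Groth.Agent.S7320
import Groth.Agent.L13.DescendBlowUp.Main
import Groth.Agent.L13.RatSing.Birat
import Groth.Agent.L13.RatSing.Seq
-- import your own Groth.Agent.* helpers here

set_option autoImplicit false
universe u
open CategoryTheory CategoryTheory.Limits AlgebraicGeometry
open Resolve

namespace Groth.Agent.S1648

/-- A Nagata regular local ring of dimension two defines a rational singularity: every normal
modification of its spectrum has vanishing H^1 of the structure sheaf. -/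
theorem result (A : Type u) [CommRing A] [IsRegularLocalRing A] (hN : CAlg.IsNagata A)
    (hdim : ringKrullDim A = 2) : Curv2.IsRationalSing A := by
  intro X f hp hint hnorm ⟨U, hUne, hUiso⟩
  haveI := hp; haveI := hint; haveI := hUiso
  haveI : IsDomain A := Groth.L01.isDomain_of_regular A
  let S := Spec (CommRingCat.of A)
  have hS : Pi1.IsNormalScheme S := Groth.L13.RatSing.isNormalScheme_Spec
  obtain ⟨hξ, hbir⟩ := Groth.L13.RatSing.birational_of_isIso_restrict f U hUne
  obtain ⟨V, hVi, -, hV⟩ := Groth.Agent.S11555.result f hS hξ hbir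
  haveI := hVi
  let T : Set S := {IsLocalRing.closedPoint A}
  have hTc : IsClosed T := (PrimeSpectrum.isClosed_singleton_iff_isMaximal _).2 (IsLocalRing.maximalIdeal.isMaximal A)
  let W : S.Opens := ⟨Tᶜ, hTc.isOpen_compl⟩
  have hWV : W ≤ V := fun p hp => by
    by_contra hpV
    exact hp (Groth.L13.RatSing.eq_closedPoint hdim p (hV p hpV))
  haveI hfW : IsIso (f ∣_ W) := Groth.L13.RatSing.isIso_restrict_le f hWV
  obtain ⟨hr, hd⟩ := Groth.L13.RatSing.stalk_closedPoint (A := A) hdim
  obtain ⟨X', g, hg, hgW, h, hhg⟩ := Groth.Agent.S7320.result S T (Set.finite_singleton _) hTc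
    (fun x hx => (Set.mem_singleton_iff.1 hx) ▸ ⟨hTc, hr, hd⟩) f hfW
  obtain ⟨hgp, hg1⟩ := Groth.L13.RatSing.isProper_and_subsingleton_H1 hg
  haveI := Groth.L13.RatSing.isIntegral_of_seq hg inferInstance
  haveI : IsProper (h ≫ f) := hhg ▸ hgp
  haveI : IsProper h := IsProper.of_comp h f
  haveI : IsIso ((h ≫ f) ∣_ W) := hhg ▸ hgW
  haveI := Groth.L13.DescendBlowUp.isIso_restrict_left h f W
  have hη : genericPoint S ≠ IsLocalRing.closedPoint A := fun he => by
    rw [← he, ringKrullDim_eq_zero_of_isField (Field.toIsField S.functionField)] at hd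
    exact absurd hd (by norm_num)
  have hne : ((f ⁻¹ᵁ W : X.Opens) : Set X).Nonempty := ⟨genericPoint X, by
    show f (genericPoint X) ∈ W
    rw [hξ]
    exact hη⟩
  obtain ⟨p⟩ := Groth.L13.RatSing.nonempty_push_structure h
    (Groth.L13.RatSing.isIso_app_of_isIso_restrict h hnorm _ hne)
  exact Groth.L14.LocHilbLift.subsingleton_HH_of_iso p 1
    (Groth.L13.RatSing.subsingleton_HH_push_one h _ (hg1 inferInstance))

end Groth.Agent.S1648
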