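import Groth.Statements.S15142
import Groth.Agent.S15138
import Groth.Agent.S1648
import Groth.Agent.S2654
import Groth.Agent.L03.RegularNormal
import Groth.Agent.L03.RegularFiniteExt
import Groth.Agent.L01.NagataAdjoin

set_option autoImplicit false
universe u
open CategoryTheory CategoryTheory.Limits AlgebraicGeometry
open Resolve

namespace Groth.Agent.S15142

set_option maxHeartbeats 1000000
set_option backward.isDefEq.respectTransparency false
set_option backward.isDefEq.respectTransparency.types false
set_option linter.style.haveILetI false

/-- Let R be a Noetherian domain, let A be an excellent Noetherian regular domain of Krull dimension two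
(all localizations at primes are regular local rings) which is essentially of finite type over R,
and suppose a finite group G acts on A through ring automorphisms that commute with the R-action. If
the order of G is a unit in A, then the ring of invariants A^G has rational singularities: its
localization at every maximal ideal of height two defines a rational singularity (every proper
morphism onto the spectrum from an integral normal scheme which is an isomorphism over a nonempty
open has H^1 of the structure sheaf zero). (The published statement does not assume the ring of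
invariants excellent; its argument passes through the finite extension A^G ⊆ A of two-dimensional
excellent normal domains of degree dividing the order of G, and this row carries the excellence of
A^G as a hypothesis.) -/
theorem result (R A : Type u) [CommRing R] [IsDomain R]
    [IsNoetherianRing R] [CommRing A] [IsDomain A] [IsNoetherianRing A] [Algebra R A] [Algebra.EssFiniteType R A]
    (hAe : EGA4.IsExcellent A) (hA2 : ringKrullDim A = 2)
    (hreg : ∀ (p : Ideal A) [p.IsPrime], IsRegularLocalRing (Localization.AtPrime p))
    (G : Type u) [Group G] [Finite G] [MulSemiringAction G A] [SMulCommClass G R A]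
    (hG : IsUnit ((Nat.card G : ℕ) : A))
    (hGe : EGA4.IsExcellent (FixedPoints.subring A G))
    (m : Ideal (FixedPoints.subring A G)) [m.IsMaximal] (hm : ringKrullDim (Localization.AtPrime m) = 2) :
    Curv2.IsRationalSing (Localization.AtPrime m) := by
  let S := FixedPoints.subring A G
  haveI : IsNoetherianRing S := hGe.1
  let σ := MulSemiringAction.toRingAut G A
  let H := σ.range
  haveI : Finite H := Finite.of_surjective _ σ.rangeRestrict_surjective
  haveI : FaithfulSMul H A := ⟨fun {a b} h => Subtype.ext (RingEquiv.ext h)⟩
  haveI : Algebra.IsInvariant S A H := ⟨fun x hx => ⟨⟨x, fun g => hx ⟨σ g, g, rfl⟩⟩, rfl⟩⟩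
  haveI : SMulCommClass H S A := ⟨fun h s a => by
    obtain ⟨g, hg⟩ := h.2
    have hs : g • (s : A) = s := s.2 g
    have e1 : ∀ x : A, h • x = g • x := fun x => congrArg (fun e : RingAut A => e x) hg.symm
    show h • ((s : A) * a) = (s : A) * h • a
    rw [e1, e1, smul_mul', hs]⟩
  haveI : IsGaloisGroup H S A := ⟨inferInstance, inferInstance, inferInstance⟩
  haveI : Algebra.IsIntegral S A := Algebra.IsInvariant.isIntegral S A H
  have hAi : IsIntegrallyClosed A := IsIntegrallyClosed.of_localization_maximal fun p _ hp => by
    haveI := hreg p
    exact Groth.L03.RegularNormal.isIntegrallyClosed _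
  haveI := hAi
  haveI : IsIntegrallyClosed S := by
    refine (isIntegrallyClosed_iff (FractionRing S)).2 fun {x} hx => ?_
    letI := FractionRing.liftAlgebra S (FractionRing A)
    obtain ⟨a, ha⟩ := IsIntegrallyClosed.isIntegral_iff.1
      ((hx.map (IsScalarTower.toAlgHom S (FractionRing S) (FractionRing A))).tower_top (A := A))
    obtain ⟨p, q, hq, rfl⟩ := IsFractionRing.div_surjective (A := S) x
    have hq0 : (q : A) ≠ 0 := fun h => nonZeroDivisors.ne_zero hq (Subtype.ext h)
    have hpq : a * (q : A) = (p : A) := by
      apply IsFractionRing.injective A (FractionRing A)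
      rw [map_mul, ha]
      show algebraMap (FractionRing S) (FractionRing A) _ * _ = _
      rw [map_div₀, ← IsScalarTower.algebraMap_apply, ← IsScalarTower.algebraMap_apply,
        IsScalarTower.algebraMap_apply S A (FractionRing A), IsScalarTower.algebraMap_apply S A (FractionRing A)]
      exact div_mul_cancel₀ _ fun h => hq0 (IsFractionRing.injective A (FractionRing A) (h.trans (map_zero _).symm))
    refine ⟨⟨a, fun g => mul_right_cancel₀ hq0 ?_⟩, ?_⟩
    · have h1 := congrArg (g • ·) hpq
      simp only [smul_mul'] at h1
      have hq1 : g • (q : A) = q := q.2 g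
      have hp1 : g • (p : A) = p := p.2 g
      rw [hq1, hp1] at h1
      exact h1.trans hpq.symm
    · rw [eq_div_iff (IsFractionRing.to_map_ne_zero_of_mem_nonZeroDivisors hq), ← map_mul]
      exact congrArg _ (Subtype.ext hpq)
  letI := FractionRing.liftAlgebra S (FractionRing A)
  letI := IsFractionRing.mulSemiringAction H A (FractionRing A)
  haveI : IsGaloisGroup H (FractionRing S) (FractionRing A) := IsGaloisGroup.toFractionRing H S A
  haveI : FiniteDimensional (FractionRing S) (FractionRing A) := IsGaloisGroup.finiteDimensional H _ _
  haveI : IsGalois (FractionRing S) (FractionRing A) := IsGaloisGroup.isGalois H _ _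
  haveI : IsIntegralClosure A S (FractionRing A) := IsIntegralClosure.of_isIntegrallyClosed _ _ _
  haveI : Module.Finite S A := IsIntegralClosure.finite S (FractionRing S) (FractionRing A) A
  have hinj : Function.Injective (algebraMap S A) := Subtype.val_injective
  have hS2 : ringKrullDim S = 2 := (Groth.L03.RegularFiniteExt.ringKrullDim_eq_of_integral hinj).trans hA2
  have hu : IsUnit ((Nat.card G : ℕ) : S) := by
    obtain ⟨v, hv⟩ := hG
    refine IsUnit.of_mul_eq_one (⟨(↑v⁻¹ : A), fun g => ?_⟩ : S) (Subtype.ext ?_)
    · refine v.isUnit.mul_left_cancel ?_
      have h1 : g • ((v : A) * ↑v⁻¹) = g • (1 : A) := by rw [Units.mul_inv]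
      rw [smul_mul', smul_one, hv] at h1
      have h2 : g • ((Nat.card G : ℕ) : A) = (Nat.card G : ℕ) := map_natCast (MulSemiringAction.toRingHom G A g) _
      rw [h2] at h1
      rw [Units.mul_inv, hv]
      exact h1
    · show ((Nat.card G : ℕ) : A) * ↑v⁻¹ = 1
      rw [← hv, Units.mul_inv]
  have hdeg : IsUnit ((Module.finrank (FractionRing S) (FractionRing A) : ℕ) : S) := by
    rw [← IsGaloisGroup.card_eq_finrank H]
    refine isUnit_of_dvd_unit ?_ hu
    exact Nat.cast_dvd_cast (Subgroup.card_range_dvd σ)
  refine Groth.Agent.S15138.result S A hGe hAe hS2 hA2 hinj (FractionRing S) (FractionRing A) hdeg (fun n _ h2 => ?_) m hm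
  haveI := hreg n
  exact Groth.Agent.S1648.result (Localization.AtPrime n)
    (Groth.L01.NagataAdjoin.isNagata_localization (Groth.Agent.S2654.result A ⟨hAe.1, hAe.2.2⟩) n.primeCompl _) h2

end Groth.Agent.S15142
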