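import Groth.Statements.S15144
import Groth.Agent.L26.AbSch.Differentials

set_option autoImplicit false
universe u
open CategoryTheory CategoryTheory.Limits MonoidalCategory CartesianMonoidalCategory MonObj GrpObj AlgebraicGeometry Opposite
open AbSch

namespace Groth.Agent.S15144

set_option backward.isDefEq.respectTransparency false
set_option backward.isDefEq.respectTransparency.types false

/-- Let S be a scheme and A an abelian scheme over S, an S-group scheme whose structure morphism is
proper, flat and locally of finite presentation with geometrically reduced and geometrically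
connected fibres, with unit section e : S → A. Then every global section of Ω_{A/S} is invariant;
equivalently, the canonical map Γ(A, Ω_{A/S}) → Γ(S, e^*Ω_{A/S}) to the sections of the sheaf of
invariant differentials ω_A = e^*Ω_{A/S}, namely the map on global sections of the unit Ω_{A/S} →
e_*e^*Ω_{A/S} of the adjunction between pullback and pushforward along e, is bijective. -/
theorem result {S : Scheme.{u}} (A : Over S) [GrpObj A]
    [IsProper A.hom] [Flat A.hom] [LocallyOfFinitePresentation A.hom]
    [GeometricallyReduced A.hom] [GeometricallyConnected A.hom] :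
    Function.Bijective
      (((Scheme.Modules.pullbackPushforwardAdjunction η[A].left).unit.app (Omega.sheaf A.hom)).val.app (op ⊤)).hom := by
  obtain ⟨C, -, ⟨ψ⟩, -, hu⟩ := Groth.Agent.AbSchDiff.exists_data A
  haveI := hu
  have hC := Groth.Agent.AbSchDiff.bijective_unit_section η[A].left A.hom (Over.w η[A]) C
  let adj := Scheme.Modules.pullbackPushforwardAdjunction η[A].left
  let G := Scheme.Modules.pullback η[A].left ⋙ Scheme.Modules.pushforward η[A].left
  have hnat : adj.unit.app (Omega.sheaf A.hom) = ψ.hom ≫ adj.unit.app _ ≫ G.map ψ.inv := by
    have h := adj.unit.naturality ψ.inv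
    simp only [Functor.id_map] at h
    rw [← h, Iso.hom_inv_id_assoc]
  show Function.Bijective ((adj.unit.app (Omega.sheaf A.hom)).app ⊤)
  rw [hnat, Scheme.Modules.Hom.comp_app, Scheme.Modules.Hom.comp_app]
  have h1 := (Scheme.Modules.Hom.isIso_iff_isIso_app (φ := ψ.hom)).1 inferInstance ⊤
  have h2 := (Scheme.Modules.Hom.isIso_iff_isIso_app (φ := G.map ψ.inv)).1 inferInstance ⊤
  exact ((ConcreteCategory.bijective_of_isIso ((G.map ψ.inv).app ⊤)).comp hC).comp
    (ConcreteCategory.bijective_of_isIso (ψ.hom.app ⊤))

end Groth.Agent.S15144
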