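import Groth.Statements.S15145
import Groth.Agent.L05.CohFlat.SlopeMain
import Groth.Agent.L05.Models.DualRank
import Groth.Agent.L08.Cube.FibreFun
import Groth.Agent.L26.AV.SmoothField
import Groth.Agent.L22.CurveQuot
import Groth.Agent.L05.RatPow.R1

set_option autoImplicit false
universe u
open CategoryTheory CategoryTheory.Limits AlgebraicGeometry Opposite
open Models

namespace Groth.Agent.S15145
set_option backward.isDefEq.respectTransparency false
set_option backward.isDefEq.respectTransparency.types false
set_option backward.isDefEq.respectTransparency false
set_option backward.isDefEq.respectTransparency.types false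
set_option linter.style.haveILetI false

/-- Let R be a discrete valuation ring whose fraction field K has characteristic zero, with residue
field k; let C be a proper K-curve, smooth of relative dimension 1 and geometrically connected, and
let X be a model of C over R (flat and of finite type with generic fibre C) which is proper over R
and normal, with rational singularities: the local ring at every closed point defines a rational
singularity (every proper morphism onto its spectrum from an integral normal scheme which is an
isomorphism over a nonempty open has H^1 of the structure sheaf zero). If k has characteristic zero,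
or if the structure morphism X → Spec R has a section, then X is cohomologically flat over R in
dimension 0: the restriction H^0(X, O_X) → H^0(X_s, O_{X_s}) to the closed fibre X_s, cut out by 𝔪_R
· O_X, is surjective; so X is admissible. (The published statement in residue characteristic p > 0
allows, instead of a section, an étale quasi-section, i.e. a section over a strict henselization of
R, or that the components of the closed fibre have geometric multiplicities whose greatest common
divisor is prime to p; this row keeps the case of a section over R and the
residue-characteristic-zero case.) -/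
theorem result (R : Type u) [CommRing R]
    [IsDomain R] [IsDiscreteValuationRing R] [CharZero (FractionRing R)]
    (X C : Scheme.{u}) [X.Over (Spec (CommRingCat.of R))]
    (f : C ⟶ Spec (CommRingCat.of (FractionRing R)))
    [SmoothOfRelativeDimension 1 f] [IsProper f] [GeometricallyConnected f]
    (hX : Models.IsModel R X (X ↘ Spec (CommRingCat.of R)) C f)
    [IsProper (X ↘ Spec (CommRingCat.of R))] (hn : Pi1.IsNormalScheme X)
    (hrat : ∀ x : X, IsClosed ({x} : Set X) → Curv2.IsRationalSing (X.presheaf.stalk x))
    (h : CharZero (IsLocalRing.ResidueField R) ∨
      ∃ σ : Spec (CommRingCat.of R) ⟶ X, σ ≫ (X ↘ Spec (CommRingCat.of R)) = 𝟙 (Spec (CommRingCat.of R))) :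
    Function.Surjective (Sheaf.H.map ((SheafOfModules.toSheaf X.ringCatSheaf).map
      (ClSub.toSubscheme (Models.specialFibreIdeal R (Over.mk (X ↘ Spec (CommRingCat.of R)))))) 0) := by
  haveI : Smooth f := SmoothOfRelativeDimension.smooth 1 f
  haveI : IsIntegral C := Groth.L22.CurveQuot.isIntegral_of_smooth f
  haveI : GeometricallyReduced f := Groth.Agent.AV.geometricallyReduced_of_smooth f
  obtain ⟨hflat, hlft, -, g, hg⟩ := hX
  haveI := hflat
  haveI := hlft
  haveI : Flat (Over.mk (X ↘ Spec (CommRingCat.of R))).hom := hflat
  haveI : IsProper (Over.mk (X ↘ Spec (CommRingCat.of R))).hom := ‹IsProper (X ↘ Spec (CommRingCat.of R))›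
  haveI : IsIntegral X := Groth.L05.RatR1.isIntegral_of_normal_model (X := Over.mk (X ↘ Spec (CommRingCat.of R))) hn hg
  haveI : IsIntegral (Over.mk (X ↘ Spec (CommRingCat.of R))).left := ‹IsIntegral X›
  haveI : IsLocallyNoetherian X := LocallyOfFiniteType.isLocallyNoetherian (X ↘ Spec (CommRingCat.of R))
  haveI : IsLocallyNoetherian (Over.mk (X ↘ Spec (CommRingCat.of R))).left := ‹IsLocallyNoetherian X›
  have hT := Groth.L05.Models.DualFree.surjective_toGlobal (R := R) (X := X) f g hg (Groth.L08.Cube.bijective_toGlobal_of_geometric f)
  obtain ⟨ϖ, hϖ⟩ := IsDiscreteValuationRing.exists_irreducible R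
  exact Groth.L05.Slope.surjective_restrict (X := Over.mk (X ↘ Spec (CommRingCat.of R))) hϖ hT hn h

end Groth.Agent.S15145
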