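import Groth.Statements.S15149
import Groth.Agent.L14.HilbZeta.Branch

set_option autoImplicit false
universe u
open HilbZeta

namespace Groth.Agent.S15149

/-- Let k be a field, s a natural number and R a k-subalgebra of the product of s copies of the power
series ring k[[x]], of finite codimension δ over k and local with residue field k (all components of
an element of R have the same constant term); write v_i for the x-adic order of the i-th component
of an s-tuple, and let c = (c_1, …, c_s) be the conductor exponents, so that an s-tuple f satisfies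
f·g ∈ R for every s-tuple g exactly when v_i(f) ≥ c_i for all i (over an algebraically closed field
such an R is precisely the completed local ring of a reduced curve singularity having s branches
sitting inside its normalisation, δ is its delta invariant and the conductor ideal is generated by
the x_i^{c_i}). Fix a branch j, a colength d and a branch-length vector a = (a_1, …, a_s) with a_j ≥
c_j, and let ξ be the s-tuple with x in the j-th place and 1 elsewhere. Call an ideal I of R of type
(d, a) when it has colength d and, for every i, the ideal of k[[x]] generated by the i-th components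
of its elements is (x^{a_i}). Then multiplication by ξ is a bijection from the ideals of type (d, a)
onto the ideals of type (d + 1, a + e_j), where a + e_j is a with its j-th entry raised by one: for
every ideal I of type (d, a) the set ξ·I is (the image of) an ideal of type (d + 1, a + e_j), and
every ideal of type (d + 1, a + e_j) is ξ·I for some ideal I of type (d, a). (The published
statement is the equality, in the Grothendieck ring of varieties, of the classes of the two
corresponding branch-length strata of the punctual Hilbert scheme; this row states the bijection on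
ideals underlying it, which is what the argument establishes; the published statement is over an
algebraically closed field, and this row allows any field.) -/
theorem result (k : Type u) [Field k] (s : ℕ)
    (R : Subalgebra k (Fin s → PowerSeries k))
    (hfin : Module.Finite k ((Fin s → PowerSeries k) ⧸ Subalgebra.toSubmodule R))
    (hloc : ∀ f ∈ R, ∀ i j : Fin s, PowerSeries.constantCoeff (f i) = PowerSeries.constantCoeff (f j))
    (c : Fin s → ℕ)
    (hc : ∀ f : Fin s → PowerSeries k,
      (∀ g : Fin s → PowerSeries k, g * f ∈ R) ↔ ∀ i, ((c i : ℕ) : ℕ∞) ≤ (f i).order)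
    (j : Fin s) (d : ℕ) (a : Fin s → ℕ) (hj : c j ≤ a j) :
    (∀ I ∈ {I : Ideal ↥R | Module.Finite k (↥R ⧸ I) ∧ Module.finrank k (↥R ⧸ I) = d ∧ (∀ i : Fin s, Ideal.map ((Pi.evalAlgHom k (fun _ : Fin s => PowerSeries k) i).comp R.val) I = Ideal.span {PowerSeries.X ^ (a i)})},
      ∃ J ∈ {I : Ideal ↥R | Module.Finite k (↥R ⧸ I) ∧ Module.finrank k (↥R ⧸ I) = d + 1 ∧ (∀ i : Fin s, Ideal.map ((Pi.evalAlgHom k (fun _ : Fin s => PowerSeries k) i).comp R.val) I = Ideal.span {PowerSeries.X ^ ((Function.update a j (a j + 1)) i)})},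
        (Subtype.val '' (J : Set ↥R)) = (fun f => Pi.mulSingle j PowerSeries.X * f) '' (Subtype.val '' (I : Set ↥R))) ∧
    (∀ J ∈ {I : Ideal ↥R | Module.Finite k (↥R ⧸ I) ∧ Module.finrank k (↥R ⧸ I) = d + 1 ∧ (∀ i : Fin s, Ideal.map ((Pi.evalAlgHom k (fun _ : Fin s => PowerSeries k) i).comp R.val) I = Ideal.span {PowerSeries.X ^ ((Function.update a j (a j + 1)) i)})},
      ∃ I ∈ {I : Ideal ↥R | Module.Finite k (↥R ⧸ I) ∧ Module.finrank k (↥R ⧸ I) = d ∧ (∀ i : Fin s, Ideal.map ((Pi.evalAlgHom k (fun _ : Fin s => PowerSeries k) i).comp R.val) I = Ideal.span {PowerSeries.X ^ (a i)})},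
        (Subtype.val '' (J : Set ↥R)) = (fun f => Pi.mulSingle j PowerSeries.X * f) '' (Subtype.val '' (I : Set ↥R))) := by
  haveI : Module.Finite k ((Fin s → PowerSeries k) ⧸ Subalgebra.toSubmodule R) := hfin
  refine ⟨?_, ?_⟩
  · rintro I ⟨hIf, hId, hIa⟩
    have hmem : ∀ f ∈ I, Groth.L14.HilbZeta.xi j * (f : Fin s → PowerSeries k) ∈ R := fun f hf =>
      (Groth.L14.HilbZeta.shift_mem_iff c hc j _
        ((pow_dvd_pow _ hj).trans (Groth.L14.HilbZeta.dvd_of_map j _ I (hIa j) f hf))).mpr f.2
    let J : Ideal ↥R :=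
      { carrier := {g : ↥R | ∃ f ∈ I, (g : Fin s → PowerSeries k) =
          Groth.L14.HilbZeta.xi j * (f : Fin s → PowerSeries k)}
        add_mem' := by
          rintro g g' ⟨f, hf, e⟩ ⟨f', hf', e'⟩
          exact ⟨f + f', I.add_mem hf hf', by simp [e, e', mul_add]⟩
        zero_mem' := ⟨0, I.zero_mem, by simp⟩
        smul_mem' := by
          rintro r g ⟨f, hf, e⟩
          exact ⟨r * f, I.mul_mem_left r hf, by simp [e, mul_left_comm]⟩ }
    have hIJ : (Subtype.val '' (J : Set ↥R)) =
        (fun f => Groth.L14.HilbZeta.xi j * f) '' (Subtype.val '' (I : Set ↥R)) := by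
      ext z
      constructor
      · rintro ⟨g, ⟨f, hf, e⟩, rfl⟩; exact ⟨_, ⟨f, hf, rfl⟩, e.symm⟩
      · rintro ⟨_, ⟨f, hf, rfl⟩, rfl⟩; exact ⟨⟨_, hmem f hf⟩, ⟨f, hf, rfl⟩, rfl⟩
    obtain ⟨hiff, hrk⟩ := Groth.L14.HilbZeta.colength_shift j I J hIJ
    refine ⟨J, ⟨hiff.mpr hIf, by rw [hrk hIf, hId], fun i => ?_⟩, hIJ⟩
    rw [Groth.L14.HilbZeta.map_eval_shift j i I J hIJ, hIa i, Groth.L14.HilbZeta.span_xi]
  · rintro J ⟨hJf, hJd, hJa⟩
    have hex : ∀ g ∈ J, ∃ f : ↥R, (g : Fin s → PowerSeries k) =
        Groth.L14.HilbZeta.xi j * (f : Fin s → PowerSeries k) := by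
      intro g hg
      have hd := Groth.L14.HilbZeta.dvd_of_map j _ J (hJa j) g hg
      rw [Function.update_self, pow_succ'] at hd
      obtain ⟨h, hh⟩ := hd
      let f : Fin s → PowerSeries k :=
        Function.update (g : Fin s → PowerSeries k) j (PowerSeries.X ^ a j * h)
      have he : Groth.L14.HilbZeta.xi j * f = (g : Fin s → PowerSeries k) := by
        funext i
        by_cases hi : i = j
        · subst hi; simp [f, Groth.L14.HilbZeta.xi_same, hh, mul_assoc]
        · simp [f, Groth.L14.HilbZeta.xi_ne hi, hi]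
      refine ⟨⟨f, (Groth.L14.HilbZeta.shift_mem_iff c hc j f ?_).mp (by rw [he]; exact g.2)⟩, he.symm⟩
      simpa [f] using (pow_dvd_pow _ hj).mul_right h
    let I : Ideal ↥R :=
      { carrier := {f : ↥R | ∃ g ∈ J, (g : Fin s → PowerSeries k) =
          Groth.L14.HilbZeta.xi j * (f : Fin s → PowerSeries k)}
        add_mem' := by
          rintro f f' ⟨g, hg, e⟩ ⟨g', hg', e'⟩
          exact ⟨g + g', J.add_mem hg hg', by simp [e, e', mul_add]⟩
        zero_mem' := ⟨0, J.zero_mem, by simp⟩
        smul_mem' := by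
          rintro r f ⟨g, hg, e⟩
          exact ⟨r * g, J.mul_mem_left r hg, by simp [e, mul_left_comm]⟩ }
    have hIJ : (Subtype.val '' (J : Set ↥R)) =
        (fun f => Groth.L14.HilbZeta.xi j * f) '' (Subtype.val '' (I : Set ↥R)) := by
      ext z
      constructor
      · rintro ⟨g, hg, rfl⟩
        obtain ⟨f, e⟩ := hex g hg
        exact ⟨_, ⟨f, ⟨g, hg, e⟩, rfl⟩, e.symm⟩
      · rintro ⟨_, ⟨f, ⟨g, hg, e⟩, rfl⟩, rfl⟩; exact ⟨g, hg, e⟩
    obtain ⟨hiff, hrk⟩ := Groth.L14.HilbZeta.colength_shift j I J hIJ
    have hIf := hiff.mp hJf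
    refine ⟨I, ⟨hIf, by have := hrk hIf; omega, fun i => ?_⟩, hIJ⟩
    have e := hJa i
    rw [Groth.L14.HilbZeta.map_eval_shift j i I J hIJ, ← Groth.L14.HilbZeta.span_xi] at e
    exact (Ideal.span_singleton_mul_right_inj (Groth.L14.HilbZeta.xi_ne_zero i j)).mp e

end Groth.Agent.S15149
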