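import Groth.Statements.S2206
import Groth.Agent.L07.DiagSmooth

set_option autoImplicit false
set_option linter.style.haveILetI false
set_option maxSynthPendingDepth 3
universe u
open TensorProduct
open LCI

namespace Groth.Agent.S2206

/-- Let A be a Noetherian ring and B a flat A-algebra of finite type, viewed as an algebra over B
tensor_A B through the multiplication map. If B, as a module over B tensor_A B, has finite
Tor-dimension (the diagonal is a perfect ring map), then B is smooth over A. -/
theorem result {A B : Type u} [CommRing A] [CommRing B]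
    [Algebra A B] [IsNoetherianRing A] [Algebra.FiniteType A B] [Module.Flat A B]
    [Algebra (B ⊗[A] B) B]
    (hmul : ∀ x y : B, algebraMap (B ⊗[A] B) B (x ⊗ₜ[A] y) = x * y)
    (h : DRing.HasFiniteTorDim (B ⊗[A] B) B) : Algebra.Smooth A B := by
  haveI : IsNoetherianRing B := Algebra.FiniteType.isNoetherianRing A B
  haveI : IsNoetherianRing (B ⊗[A] B) := Algebra.FiniteType.isNoetherianRing B _
  haveI : Module.Finite (B ⊗[A] B) B := Module.Finite.of_surjective (Algebra.linearMap (B ⊗[A] B) B)
    fun b => ⟨b ⊗ₜ 1, by rw [Algebra.linearMap_apply, hmul, mul_one]⟩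
  obtain ⟨n, hn⟩ := h
  have hn' := Groth.L07.DiagRes.hasTorDimLE_congr (TensorProduct.lid (B ⊗[A] B) B).symm hn
  haveI := Groth.L07.DiagRes.flat_of_hasTorDimLE (E := B ⊗[A] B) B (B ⊗[A] B) n hn'
  have hres := Groth.L07.DiagRes.res_of_projective (E := B ⊗[A] B) B (B ⊗[A] B) n
    (haveI := Module.finitePresentation_of_finite (B ⊗[A] B)
      ((B ⊗[A] B) ⊗[B ⊗[A] B] (Groth.L07.DiagRes.F (E := B ⊗[A] B) B n ⧸ Groth.L07.DiagRes.Z (E := B ⊗[A] B) B n))
    Module.Flat.projective_of_finitePresentation)
  exact Groth.L07.DiagSmooth.smooth_of_res_diag hmul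
    (Groth.L07.DiagRes.res_of_equiv (TensorProduct.lid (B ⊗[A] B) B) hres)

end Groth.Agent.S2206
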