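import Groth.Statements.S1515
import Groth.Agent.S1509
import Groth.Agent.S1676
import Groth.Agent.S2206
import Groth.Agent.L29.RelPC.PerfectMor
import Mathlib.AlgebraicGeometry.Morphisms.Smooth

set_option autoImplicit false
universe u
attribute [local instance] HasDerivedCategory.standard
open FlatMor

set_option backward.isDefEq.respectTransparency.types false
open CategoryTheory CategoryTheory.Limits AlgebraicGeometry
set_option linter.style.haveILetI false
open scoped TensorProduct

/-- A perfect map of affine schemes has finite tor dimension on rings. -/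
theorem Groth.Agent.S1515.finiteTorDim_of_specMap {T B : Type u} [CommRing T] [CommRing B] [Algebra T B]
    (h : MoreMor.IsPerfectMor (Spec.map (CommRingCat.ofHom (algebraMap T B)))) : DRing.HasFiniteTorDim T B := by
  let g := Spec.map (CommRingCat.ofHom (algebraMap T B))
  let A₀ := Γ(Spec (CommRingCat.of T), ⊤)
  let B₀ := Γ(Spec (CommRingCat.of B), ⊤)
  let a : A₀ ⟶ CommRingCat.of T := (Scheme.ΓSpecIso _).hom
  let b : B₀ ⟶ CommRingCat.of B := (Scheme.ΓSpecIso _).hom
  have e : (⊤ : (Spec (CommRingCat.of B)).Opens) ≤ g ⁻¹ᵁ ⊤ := le_top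
  have hw : g.appLE ⊤ ⊤ e ≫ b = a ≫ CommRingCat.ofHom (algebraMap T B) := by
    rw [show g.appLE ⊤ ⊤ e = g.appTop from (Scheme.Hom.app_eq_appLE _).symm]
    exact Scheme.ΓSpecIso_naturality (CommRingCat.ofHom (algebraMap T B))
  have hP : IsPushout a (g.appLE ⊤ ⊤ e) (CommRingCat.ofHom (algebraMap T B)) b :=
    IsPushout.of_horiz_isIso ⟨hw.symm⟩
  letI : Algebra A₀ B₀ := (g.appLE ⊤ ⊤ e).hom.toAlgebra
  letI : Algebra A₀ T := a.hom.toAlgebra
  letI : Algebra B₀ B := b.hom.toAlgebra
  letI : Algebra A₀ B := (a ≫ CommRingCat.ofHom (algebraMap T B)).hom.toAlgebra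
  haveI : IsScalarTower A₀ T B := IsScalarTower.of_algebraMap_eq fun _ => rfl
  haveI : IsScalarTower A₀ B₀ B := IsScalarTower.of_algebraMap_eq fun r => (ConcreteCategory.congr_hom hw r).symm
  haveI : Algebra.IsPushout A₀ T B₀ B := CommRingCat.isPushout_iff_isPushout.1 hP
  haveI : Module.Flat A₀ T := RingHom.flat_algebraMap_iff.1
    (RingHom.Flat.of_bijective (ConcreteCategory.bijective_of_isIso a))
  obtain ⟨d, hd⟩ := (h ⊤ ⊤ (isAffineOpen_top _) (isAffineOpen_top _) e).2
  exact ⟨d, Groth.L29.RelPC.torDim_baseChange (A := A₀) (B := B₀) hd⟩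

/-- A flat morphism with perfect diagonal is smooth. -/
theorem Groth.Agent.S1515.smooth_of_perfect {X Y : Scheme.{u}} (f : X ⟶ Y) [LocallyOfFiniteType f]
    [IsLocallyNoetherian Y] (hfl : Flat f) (hΔ : MoreMor.IsPerfectMor (pullback.diagonal f)) : Smooth f := by
  refine ⟨fun {V} hV {U} hU hUV => ?_⟩
  haveI : IsNoetherianRing Γ(Y, V) := IsLocallyNoetherian.component_noetherian ⟨V, hV⟩
  have hft := f.finiteType_appLE hV hU hUV
  have hflat := f.flat_appLE hV hU hUV
  letI : Algebra Γ(Y, V) Γ(X, U) := (f.appLE V U hUV).hom.toAlgebra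
  let A := Γ(Y, V)
  let B := Γ(X, U)
  haveI : Algebra.FiniteType A B := hft
  haveI : Module.Flat A B := hflat
  let T := CommRingCat.of (B ⊗[A] B)
  let i1 : B ⟶ T := CommRingCat.ofHom (Algebra.TensorProduct.includeLeftRingHom : B →+* B ⊗[A] B)
  let i2 : B ⟶ T := CommRingCat.ofHom
    (Algebra.TensorProduct.includeRight (R := A) (A := B) (B := B)).toRingHom
  let μ : T ⟶ B := CommRingCat.ofHom (Algebra.TensorProduct.lmul' A (S := B)).toRingHom
  have hsq : Spec.map (f.appLE V U hUV) ≫ hV.fromSpec = hU.fromSpec ≫ f :=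
    hV.SpecMap_appLE_fromSpec f hU hUV
  let m := pullback.map (Spec.map (CommRingCat.ofHom (algebraMap A B)))
    (Spec.map (CommRingCat.ofHom (algebraMap A B))) f f hU.fromSpec hU.fromSpec hV.fromSpec hsq hsq
  let j : Spec T ⟶ pullback f f := (pullbackSpecIso A B B).inv ≫ m
  have hj1 : j ≫ pullback.fst f f = Spec.map i1 ≫ hU.fromSpec := by
    simp only [j, m, Category.assoc, pullback.lift_fst, pullback.map]
    rw [pullbackSpecIso_inv_fst_assoc]
  have hj2 : j ≫ pullback.snd f f = Spec.map i2 ≫ hU.fromSpec := by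
    simp only [j, m, Category.assoc, pullback.lift_snd, pullback.map]
    rw [pullbackSpecIso_inv_snd_assoc]
    rfl
  haveI : IsOpenImmersion j := inferInstance
  have hi1μ : i1 ≫ μ = 𝟙 B := by
    ext b; exact (Algebra.TensorProduct.lmul'_apply_tmul (R := A) b 1).trans (mul_one b)
  have hi2μ : i2 ≫ μ = 𝟙 B := by
    ext b; exact (Algebra.TensorProduct.lmul'_apply_tmul (R := A) 1 b).trans (one_mul b)
  have hj : hU.fromSpec ≫ pullback.diagonal f = Spec.map μ ≫ j := by
    apply pullback.hom_ext
    · rw [Category.assoc, pullback.diagonal_fst, Category.assoc, hj1, ← Spec.map_comp_assoc, hi1μ,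
        Spec.map_id, Category.id_comp, Category.comp_id]
    · rw [Category.assoc, pullback.diagonal_snd, Category.assoc, hj2, ← Spec.map_comp_assoc, hi2μ,
        Spec.map_id, Category.id_comp, Category.comp_id]
  have hpre : pullback.diagonal f ⁻¹ᵁ j.opensRange = hU.fromSpec.opensRange := by
    refine le_antisymm ?_ ?_
    · rintro x ⟨w, hw⟩
      show x ∈ Set.range hU.fromSpec
      have e : x = (j ≫ pullback.fst f f) w := by
        rw [Scheme.Hom.comp_apply, hw, ← Scheme.Hom.comp_apply, pullback.diagonal_fst]; rfl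
      rw [e, hj1, Scheme.Hom.comp_apply]
      exact ⟨_, rfl⟩
    · rintro _ ⟨w, rfl⟩
      exact ⟨Spec.map μ w, by rw [← Scheme.Hom.comp_apply, ← hj]; rfl⟩
  have hc : IsPullback hU.fromSpec (Spec.map μ) (pullback.diagonal f) j :=
    (IsOpenImmersion.isPullback (Spec.map μ) hU.fromSpec j (pullback.diagonal f) hj hpre).flip
  have hp : MoreMor.IsPerfectMor (Spec.map μ) := Groth.L29.RelPC.perfect_baseChange hc hΔ
  letI : Algebra (B ⊗[A] B) B := μ.hom.toAlgebra
  exact Groth.Agent.S2206.result (A := A) (B := B)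
    (fun x y => Algebra.TensorProduct.lmul'_apply_tmul (R := A) x y)
    (Groth.Agent.S1515.finiteTorDim_of_specMap hp)

namespace Groth.Agent.S1515

open AlgebraicGeometry CategoryTheory Limits in
/-- (1) ⇔ (2) ⇔ (4): let f : X → Y be separated and of finite type between locally Noetherian schemes,
with diagonal Δ (a closed immersion). Then f is smooth iff f is flat and Δ is a regular closed
immersion, iff f is flat and Δ is a perfect morphism. -/
theorem result {X Y : Scheme.{u}} (f : X ⟶ Y) [IsSeparated f] [LocallyOfFiniteType f] [QuasiCompact f] [IsLocallyNoetherian X] [IsLocallyNoetherian Y] :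
    (Smooth f ↔ Flat f ∧ Mor2.IsRegularClosedImmersion (pullback.diagonal f)) ∧
    (Smooth f ↔ Flat f ∧ MoreMor.IsPerfectMor (pullback.diagonal f)) := by
  have h1 : Smooth f → Flat f ∧ Mor2.IsRegularClosedImmersion (pullback.diagonal f) := fun hs =>
    ⟨inferInstance, Groth.Agent.S1676.result (pullback.fst f f) (pullback.diagonal f) (pullback.diagonal_fst f)⟩
  have h2 : Mor2.IsRegularClosedImmersion (pullback.diagonal f) → MoreMor.IsPerfectMor (pullback.diagonal f) :=
    Groth.Agent.S1509.result _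
  have h3 : Flat f → MoreMor.IsPerfectMor (pullback.diagonal f) → Smooth f := Groth.Agent.S1515.smooth_of_perfect f
  exact ⟨⟨h1, fun h => h3 h.1 (h2 h.2)⟩, ⟨fun h => ⟨(h1 h).1, h2 (h1 h).2⟩, fun h => h3 h.1 h.2⟩⟩

end Groth.Agent.S1515
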