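import Mathlib.RingTheory.Spectrum.Prime.FreeLocus
import Mathlib.RingTheory.Ideal.Quotient.Operations
import Mathlib.RingTheory.Nilpotent.Defs
import Mathlib.Algebra.Module.Projective
import Mathlib.RingTheory.Finiteness.Defs
import Mathlib.RingTheory.Spectrum.Prime.FreeLocus
import Mathlib.RingTheory.Artinian.Ring
import Mathlib.LinearAlgebra.Dual.Lemmas
import Mathlib.RingTheory.TensorProduct.Finite

set_option autoImplicit false
set_option linter.style.haveILetI false
namespace HilbZeta
end HilbZeta
universe u
open HilbZeta

namespace Groth.Agent.S15150

/-- Let A be a reduced commutative ring, S an A-algebra together with an A-algebra homomorphism π : S →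
A (a section of Spec S → Spec A), with kernel m, and I an ideal of S such that S/I is a finite
projective A-module of constant rank d and m is contained in the radical of I (the finite flat
subscheme Spec S/I of degree d lies, as a set, on the section). Then m^d ⊆ I: the subscheme lies in
the (d−1)-st infinitesimal neighbourhood of the section. (The published statement is for a closed
subscheme, flat and proper of degree d over a Noetherian base, of a family of reduced curve
singularities with a section, with no reducedness assumption on the base; over the dual numbers k[ε]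
the ideal (x − ε) of k[ε][x] has quotient free of rank one and radical containing x but does not
contain x, so the base is taken reduced here, and the statement is given in its affine form, to
which the argument reduces at once; the curve hypotheses play no role and are dropped; the condition
that Spec S/I lies set-theoretically on the section, which the published argument deduces from
properness of Z inside the germ, is a hypothesis here.) -/
theorem result (A : Type u) [CommRing A] [IsReduced A]
    (S : Type u) [CommRing S] [Algebra A S] (π : S →ₐ[A] A) (I : Ideal S) (d : ℕ)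
    [Module.Finite A (S ⧸ I)] [Module.Projective A (S ⧸ I)]
    (hrank : ∀ p : PrimeSpectrum A, Module.rankAtStalk (R := A) (S ⧸ I) p = d)
    (hsupp : RingHom.ker π ≤ I.radical) :
    RingHom.ker π ^ d ≤ I := by
  classical
  let M := S ⧸ I
  let J : Ideal M := (RingHom.ker π).map (Ideal.Quotient.mk I)
  have hJ : ∀ z ∈ J, IsNilpotent z := by
    intro z hz
    obtain ⟨x, hx, rfl⟩ := (Ideal.mem_map_iff_of_surjective _ Ideal.Quotient.mk_surjective).1 hz
    obtain ⟨n, hn⟩ := hsupp hx
    exact ⟨n, by rw [← map_pow, Ideal.Quotient.eq_zero_iff_mem]; exact hn⟩
  suffices h : J ^ d = ⊥ by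
    rw [← Ideal.mk_ker (I := I)]
    intro x hx
    rw [RingHom.mem_ker]
    have := Ideal.mem_map_of_mem (Ideal.Quotient.mk I) hx
    rw [Ideal.map_pow] at this
    exact h.le this
  rw [eq_bot_iff]
  intro y hy
  rw [Ideal.mem_bot, ← Module.forall_dual_apply_eq_zero_iff (R := A)]
  intro φ
  refine (nilradical_eq_zero A).le ?_
  rw [nilradical_eq_sInf, Ideal.mem_sInf]
  intro p hp
  haveI : p.IsPrime := hp
  let K := p.ResidueField
  let B := TensorProduct A K M
  have hfr : Module.finrank K B = d := by
    have := hrank ⟨p, hp⟩
    rw [Module.rankAtStalk_eq] at this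
    exact this
  let ι : M →ₐ[A] B := Algebra.TensorProduct.includeRight
  let N : Ideal B := J.map ι.toRingHom
  haveI : IsArtinianRing B := IsArtinianRing.of_finite K B
  have hN : N ≤ nilradical B := Ideal.map_le_iff_le_comap.2 fun z hz => (hJ z hz).map ι.toRingHom
  obtain ⟨t, ht⟩ : ∃ t, N ^ t = ⊥ := by
    obtain ⟨t, ht⟩ := IsArtinianRing.isNilpotent_nilradical (R := B)
    exact ⟨t, eq_bot_iff.2 ((Ideal.pow_right_mono hN t).trans ht.le)⟩
  have key : ∀ i, N ^ i = ⊥ ∨ Module.finrank K ((N ^ i).restrictScalars K) + i ≤ d := by
    intro i
    induction i with
    | zero => exact Or.inr (by simpa [hfr] using ((N ^ 0).restrictScalars K).finrank_le)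
    | succ i ih =>
      rcases ih with h0 | h0
      · exact Or.inl ((pow_succ N i).trans (by rw [h0, Ideal.bot_mul]))
      by_cases hstop : N ^ (i + 1) = N ^ i
      · left
        have hst : ∀ m, N ^ (i + m) = N ^ i := fun m => by
          induction m with
          | zero => rfl
          | succ m ihm =>
            rw [← Nat.add_assoc]
            exact (pow_succ N (i + m)).trans ((congrArg (· * N) ihm).trans ((pow_succ N i).symm.trans hstop))
        exact hstop.trans ((hst t).symm.trans ((pow_add N i t).trans (by rw [ht, Ideal.mul_bot])))
      · right
        have hlt : ((N ^ (i + 1)).restrictScalars K) < (N ^ i).restrictScalars K := by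
          refine lt_of_le_of_ne (fun z hz => Ideal.pow_le_pow_right (Nat.le_succ i) hz) fun he => hstop ?_
          exact Submodule.restrictScalars_injective K B B he
        have := Submodule.finrank_lt_finrank_of_lt hlt
        omega
  have hNd : N ^ d = ⊥ := by
    rcases key d with h | h
    · exact h
    · have h0 : Module.finrank K ((N ^ d).restrictScalars K) = 0 := by omega
      exact (Submodule.restrictScalars_eq_bot_iff K B B).1 (Submodule.finrank_eq_zero.1 h0)
  have hy0 : (1 : K) ⊗ₜ[A] y = 0 := by
    have h1 : ι y ∈ N ^ d := by
      show ι.toRingHom y ∈ _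
      rw [← Ideal.map_pow]; exact Ideal.mem_map_of_mem _ hy
    rw [hNd] at h1
    exact h1
  have h2 := congrArg ((TensorProduct.rid A K).toLinearMap ∘ₗ φ.lTensor K) hy0
  have h3 : algebraMap A K (φ y) = 0 := by simpa [Algebra.smul_def, -Ideal.algebraMap_residueField_eq_zero] using h2
  exact Ideal.algebraMap_residueField_eq_zero.1 h3

end Groth.Agent.S15150
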