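import Mathlib.AlgebraicGeometry.Morphisms.Flat
import Mathlib.AlgebraicGeometry.Morphisms.QuasiCompact
import Mathlib.AlgebraicGeometry.IdealSheaf.Basic
import Mathlib.Algebra.Polynomial.Basic
import Mathlib.RingTheory.Flat.TorsionFree
import Mathlib.AlgebraicGeometry.IdealSheaf.Basic

set_option autoImplicit false
set_option linter.style.haveILetI false
namespace HilbZeta
end HilbZeta
universe u
open CategoryTheory AlgebraicGeometry
open HilbZeta

namespace Groth.Agent.S15151

/-- Let k be a field, and let f : X → Y and g : Y → Spec k[t] be morphisms of schemes with f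
quasi-compact and with zero kernel ideal sheaf (Y is the scheme-theoretic image of f), such that the
composite X → Spec k[t] is flat. Then g is flat; in particular a k[t]-subalgebra of a flat
k[t]-algebra is flat. (The published statement has no quasi-compactness hypothesis on f and is over
an algebraically closed field; this row assumes f quasi-compact and allows any field.) -/
theorem result (k : Type u) [Field k]
    (X Y : Scheme.{u}) (f : X ⟶ Y) (g : Y ⟶ Spec (CommRingCat.of (Polynomial k)))
    [QuasiCompact f] (hker : f.ker = ⊥) [Flat (f ≫ g)] : Flat g := by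
  refine (HasRingHomProperty.iff_of_iSup_eq_top (P := @Flat) _ (iSup_affineOpens_eq_top Y)).2 fun U => ?_
  let S := Spec (CommRingCat.of (Polynomial k))
  let φ : Γ(S, ⊤) ⟶ Γ(Y, (U : Y.Opens)) := g.appLE ⊤ U (by simp)
  let e := Scheme.ΓSpecIso (CommRingCat.of (Polynomial k))
  show φ.hom.Flat
  suffices h : (e.inv ≫ φ).hom.Flat by
    have hφ : φ = e.hom ≫ e.inv ≫ φ := by simp
    rw [hφ, CommRingCat.hom_comp]
    exact RingHom.Flat.comp (RingHom.Flat.of_bijective (ConcreteCategory.bijective_of_isIso e.hom)) h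
  letI : Algebra (Polynomial k) Γ(Y, (U : Y.Opens)) := (e.inv ≫ φ).hom.toAlgebra
  show Module.Flat (Polynomial k) Γ(Y, (U : Y.Opens))
  rw [IsDedekindDomain.flat_iff_torsion_eq_bot, eq_bot_iff]
  rintro a ⟨⟨p, hp⟩, hpa⟩
  have hpa' : (e.inv ≫ φ).hom p * a = 0 := hpa
  show a = 0
  suffices h : (f.app U).hom a = 0 by
    have h1 : a ∈ RingHom.ker (f.app U).hom := h
    rw [← Scheme.Hom.ker_apply, hker] at h1
    simpa using h1
  refine X.IsSheaf.section_ext fun x hx => ?_
  obtain ⟨W, hW, hxW, hWU⟩ := exists_isAffineOpen_mem_and_subset (x := x) (U := f ⁻¹ᵁ U) hx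
  refine ⟨W, hWU, hxW, ?_⟩
  rw [map_zero]
  let r : Γ(X, f ⁻¹ᵁ (U : Y.Opens)) ⟶ Γ(X, W) := X.presheaf.map (homOfLE hWU).op
  have key : φ ≫ f.app U ≫ r = (f ≫ g).appLE ⊤ W (by simp) := by
    simp only [φ, r]
    have h5 : f.app (U : Y.Opens) ≫ X.presheaf.map (homOfLE (show W ≤ f ⁻¹ᵁ (U : Y.Opens) from hWU)).op =
        f.appLE U W hWU := rfl
    exact (congrArg (fun z => g.appLE ⊤ (U : Y.Opens) (by simp) ≫ z) h5).trans (Scheme.Hom.appLE_comp_appLE f g _ _ _ _ _)
  let θ := e.inv ≫ φ ≫ f.app U ≫ r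
  have hθ : θ.hom.Flat := by
    show (e.inv ≫ φ ≫ f.app U ≫ r).hom.Flat
    rw [key, CommRingCat.hom_comp]
    exact RingHom.Flat.comp (RingHom.Flat.of_bijective (ConcreteCategory.bijective_of_isIso e.inv))
      (Flat.flat_appLE (f := f ≫ g) (isAffineOpen_top _) hW _)
  letI : Algebra (Polynomial k) Γ(X, W) := θ.hom.toAlgebra
  haveI : Module.Flat (Polynomial k) Γ(X, W) := hθ
  have h2 : θ.hom p * (X.presheaf.map (homOfLE hWU).op).hom ((f.app U).hom a) = 0 := by
    have := congrArg (fun z => (X.presheaf.map (homOfLE hWU).op).hom ((f.app U).hom z)) hpa'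
    rw [map_mul, map_mul, map_zero, map_zero] at this
    exact this
  refine Module.Flat.isSMulRegular_of_nonZeroDivisors hp (M := Γ(X, W)) ?_
  show θ.hom p * (X.presheaf.map (homOfLE hWU).op).hom ((f.app U).hom a) = θ.hom p * 0
  rw [mul_zero]
  exact h2

end Groth.Agent.S15151
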