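import Groth.Statements.S15152
import Mathlib.RingTheory.PowerSeries.Trunc
import Mathlib.RingTheory.FiniteType
import Mathlib.RingTheory.Finiteness.Basic
import Mathlib.RingTheory.Polynomial.Basic
import Mathlib.Tactic

set_option autoImplicit false
universe u
open HilbZeta

namespace Groth.Agent.S15152

/-- Let k be a field, s a natural number and R a k-subalgebra of the product of s copies of the power
series ring k[[x]], of finite codimension δ over k and local with residue field k (all components of
an element of R have the same constant term); write v_i for the x-adic order of the i-th component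
of an s-tuple, and let c = (c_1, …, c_s) be the conductor exponents, so that an s-tuple f satisfies
f·g ∈ R for every s-tuple g exactly when v_i(f) ≥ c_i for all i (over an algebraically closed field
such an R is precisely the completed local ring of a reduced curve singularity having s branches
sitting inside its normalisation, δ is its delta invariant and the conductor ideal is generated by
the x_i^{c_i}). Let A be the k-subalgebra of the product of s polynomial rings k[x] consisting of
the tuples whose image in the power series product lies in R, and m₀ its ideal of tuples with zero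
constant terms. Then: A is of finite type over k and has no idempotents besides 0 and 1; the product
of polynomial rings is a finite A-module, and for some N every product of N elements of m₀
multiplies all of it into A; every element of R is approximated to any x-adic order by elements of
A; and for every N there is an M such that every element of A whose components are all divisible by
x^M lies in m₀^N. In words: Y = Spec A is a connected affine curve whose normalisation is the
disjoint union of s affine lines and is an isomorphism away from the origin, and the completed local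
ring of Y at the origin is R, compatibly with the inclusion of the polynomial product in the power
series product. (The published statement asserts the existence of such a curve Y and is over an
algebraically closed field; this row names Y and allows any field.) -/
theorem result (k : Type u) [Field k] (s : ℕ)
    (R : Subalgebra k (Fin s → PowerSeries k))
    (hfin : Module.Finite k ((Fin s → PowerSeries k) ⧸ Subalgebra.toSubmodule R))
    (hloc : ∀ f ∈ R, ∀ i j : Fin s, PowerSeries.constantCoeff (f i) = PowerSeries.constantCoeff (f j))
    (c : Fin s → ℕ)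
    (hc : ∀ f : Fin s → PowerSeries k,
      (∀ g : Fin s → PowerSeries k, g * f ∈ R) ↔ ∀ i, ((c i : ℕ) : ℕ∞) ≤ (f i).order)
    (A : Subalgebra k (Fin s → Polynomial k))
    (hA : ∀ g : Fin s → Polynomial k, g ∈ A ↔ (fun i => ((g i : Polynomial k) : PowerSeries k)) ∈ R) :
    Algebra.FiniteType k ↥A ∧
    (∀ e ∈ A, e * e = e → e = 0 ∨ e = 1) ∧
    Module.Finite ↥A (Fin s → Polynomial k) ∧
    (∃ N : ℕ, ∀ g : Fin N → (Fin s → Polynomial k),
      (∀ n, g n ∈ A ∧ ∀ i, (g n i).coeff 0 = 0) → ∀ p : Fin s → Polynomial k, p * ∏ n, g n ∈ A) ∧
    (∀ f ∈ R, ∀ N : ℕ, ∃ g ∈ A, ∀ i : Fin s, (N : ℕ∞) ≤ (f i - ((g i : Polynomial k) : PowerSeries k)).order) ∧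
    (∀ N : ℕ, ∃ M : ℕ, ∀ g : ↥A, (∀ i : Fin s, Polynomial.X ^ M ∣ (g : Fin s → Polynomial k) i) →
      g ∈ (Ideal.span {h : ↥A | ∀ i : Fin s, ((h : Fin s → Polynomial k) i).coeff 0 = 0}) ^ N) := by
  classical
  set C : ℕ := Finset.univ.sup c + 1 with hC
  have hcC : ∀ i, c i ≤ C := fun i => (Finset.le_sup (Finset.mem_univ i)).trans (Nat.le_succ _)
  have memR : ∀ f : Fin s → PowerSeries k, (∀ i, ((c i : ℕ) : ℕ∞) ≤ (f i).order) → f ∈ R := fun f hf => by
    simpa using (hc f).mpr hf 1
  have memA : ∀ g : Fin s → Polynomial k, (∀ i, Polynomial.X ^ C ∣ g i) → g ∈ A := fun g hg => by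
    refine (hA g).mpr (memR _ fun i => PowerSeries.nat_le_order _ _ fun n hn => ?_)
    rw [Polynomial.coeff_coe]
    exact Polynomial.X_pow_dvd_iff.mp (hg i) n (lt_of_lt_of_le hn (hcC i))
  let z : (Fin s → Polynomial k) := fun _ => Polynomial.X ^ C
  have hz : z ∈ A := memA z fun i => dvd_rfl
  let φ : MvPolynomial Unit k →ₐ[k] (Fin s → Polynomial k) := MvPolynomial.aeval (fun _ => z)
  letI : Algebra (MvPolynomial Unit k) (Fin s → Polynomial k) := φ.toRingHom.toAlgebra
  letI : Algebra (MvPolynomial Unit k) A := (MvPolynomial.aeval (fun _ : Unit => (⟨z, hz⟩ : A))).toRingHom.toAlgebra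
  haveI : IsScalarTower k (MvPolynomial Unit k) A :=
    IsScalarTower.of_algebraMap_eq fun a => ((MvPolynomial.aeval (fun _ : Unit => (⟨z, hz⟩ : A))).commutes a).symm
  haveI : IsScalarTower k (MvPolynomial Unit k) (Fin s → Polynomial k) := IsScalarTower.of_algebraMap_eq fun a => (φ.commutes a).symm
  haveI : IsScalarTower (MvPolynomial Unit k) A (Fin s → Polynomial k) := IsScalarTower.of_algebraMap_eq fun p => by
    show MvPolynomial.aeval (fun _ => z) p = A.val (MvPolynomial.aeval (fun _ : Unit => (⟨z, hz⟩ : A)) p)
    rw [← AlgHom.comp_apply, MvPolynomial.comp_aeval]; rfl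
  haveI hB : Module.Finite (MvPolynomial Unit k) (Fin s → Polynomial k) := by
    refine ⟨⟨(Finset.univ ×ˢ Finset.range C).image fun p : Fin s × ℕ => (Pi.single p.1 (Polynomial.X ^ p.2) : (Fin s → Polynomial k)), ?_⟩⟩
    rw [eq_top_iff]
    intro g _
    set S := Submodule.span (MvPolynomial Unit k)
      (↑((Finset.univ ×ˢ Finset.range C).image fun p : Fin s × ℕ => (Pi.single p.1 (Polynomial.X ^ p.2) : (Fin s → Polynomial k))) : Set (Fin s → Polynomial k))
    have key : ∀ (j : ℕ) (i : Fin s), (Pi.single i (Polynomial.X ^ j) : (Fin s → Polynomial k)) ∈ S := by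
      intro j
      induction j using Nat.strong_induction_on with
      | _ j ih =>
        intro i
        rcases lt_or_ge j C with h | h
        · exact Submodule.subset_span (Finset.mem_coe.mpr (Finset.mem_image.mpr ⟨(i, j), by simp [h], rfl⟩))
        · have : (Pi.single i (Polynomial.X ^ j) : (Fin s → Polynomial k)) = (MvPolynomial.X () : MvPolynomial Unit k) • (Pi.single i (Polynomial.X ^ (j - C)) : (Fin s → Polynomial k)) := by
            show _ = φ (MvPolynomial.X ()) * _
            funext l
            rcases eq_or_ne l i with rfl | hl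
            · simp [φ, z, ← pow_add, Nat.add_sub_cancel' h]
            · simp [Pi.single_eq_of_ne hl]
          rw [this]
          exact S.smul_mem _ (ih _ (by omega) i)
    rw [← Finset.univ_sum_single g]
    refine S.sum_mem fun i _ => ?_
    generalize g i = q
    induction q using Polynomial.induction_on' with
    | add p q hp hq => rw [Pi.single_add]; exact S.add_mem hp hq
    | monomial j a =>
      have : (Pi.single i (Polynomial.monomial j a) : (Fin s → Polynomial k)) = (MvPolynomial.C a : MvPolynomial Unit k) • (Pi.single i (Polynomial.X ^ j) : (Fin s → Polynomial k)) := by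
        show _ = φ (MvPolynomial.C a) * _
        funext l
        rcases eq_or_ne l i with rfl | hl
        · simp [φ, Polynomial.C_mul_X_pow_eq_monomial]
        · simp [Pi.single_eq_of_ne hl]
      rw [this]
      exact S.smul_mem _ (key j i)
  haveI hfA : Module.Finite (MvPolynomial Unit k) A :=
    Module.Finite.of_injective ((IsScalarTower.toAlgHom (MvPolynomial Unit k) A (Fin s → Polynomial k)).toLinearMap) Subtype.val_injective
  haveI : Algebra.FiniteType (MvPolynomial Unit k) A := inferInstance
  refine ⟨(inferInstance : Algebra.FiniteType k (MvPolynomial Unit k)).trans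
      (inferInstance : Algebra.FiniteType (MvPolynomial Unit k) A), fun e he hee => ?_,
    Module.Finite.of_restrictScalars_finite (MvPolynomial Unit k) A (Fin s → Polynomial k), ⟨C, fun g hg p => memA _ fun i => ?_⟩,
    fun f hf N => ?_, fun N => ⟨C * N, fun g hg => ?_⟩⟩
  · have h01 : ∀ i, e i = 0 ∨ e i = 1 := fun i => IsIdempotentElem.iff_eq_zero_or_one.mp (congrFun hee i)
    by_cases h : ∀ i, e i = 0
    · exact Or.inl (funext h)
    push Not at h
    obtain ⟨i₀, hi₀⟩ := h
    refine Or.inr (funext fun i => (h01 i).resolve_left fun h0 => ?_)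
    have := hloc _ ((hA e).mp he) i i₀
    simp [h0, (h01 i₀).resolve_left hi₀] at this
  · rw [Pi.mul_apply, Finset.prod_apply]
    refine Dvd.dvd.mul_left ?_ _
    calc Polynomial.X ^ C = ∏ _n : Fin C, (Polynomial.X : Polynomial k) := by simp
      _ ∣ ∏ n : Fin C, g n i := Finset.prod_dvd_prod_of_dvd _ _ fun n _ => Polynomial.X_dvd_iff.mpr ((hg n).2 i)
  · let g : (Fin s → Polynomial k) := fun i => PowerSeries.trunc (max N C) (f i)
    have hord : ∀ i, ((max N C : ℕ) : ℕ∞) ≤ (f i - ((g i : Polynomial k) : PowerSeries k)).order := fun i =>
      PowerSeries.nat_le_order _ _ fun n hn => by simp [g, PowerSeries.coeff_trunc, hn]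
    refine ⟨g, (hA g).mpr ?_, fun i => le_trans (by exact_mod_cast le_max_left N C) (hord i)⟩
    have := R.sub_mem hf (memR _ fun i => le_trans (by exact_mod_cast (hcC i).trans (le_max_right N C)) (hord i))
    simpa [Pi.sub_def] using this
  · rcases N with - | N
    · simp
    have hgd : ∀ i, ∃ q, (g : (Fin s → Polynomial k)) i = Polynomial.X ^ (C * (N + 1)) * q := hg
    choose q hq using hgd
    let w : A := ⟨fun i => Polynomial.X ^ C * q i, memA _ fun i => dvd_mul_right _ _⟩
    have : g = (⟨z, hz⟩ : A) ^ N * w := Subtype.ext (funext fun i => by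
      simp [hq, w, z, ← pow_mul, ← mul_assoc, ← pow_add, mul_add])
    rw [this, pow_succ]
    refine Ideal.mul_mem_mul (Ideal.pow_mem_pow (Ideal.subset_span ?_) N) (Ideal.subset_span ?_) <;> intro i
    · simp [z, Polynomial.coeff_X_pow, hC]
    · simp [w, Polynomial.coeff_X_pow_mul', hC]

end Groth.Agent.S15152
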