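import Groth.Statements.S15153
import Groth.Agent.L14.Hilb.SpanRank

set_option autoImplicit false
universe u
open TensorProduct
open HilbZeta

namespace Groth.Agent.S15153

/-- Let A be a Noetherian commutative ring, S a commutative A-algebra and Q an S-module which is finite
and flat as an A-module. For a prime p of A with residue field κ(p), multiplication by an element of
S induces a κ(p)-linear endomorphism of the fibre κ(p) ⊗_A Q; let φ(p) be the κ(p)-dimension of the
span of these endomorphisms, which is the colength of the annihilator of the fibre module κ(p) ⊗_A Q
in the fibre algebra κ(p) ⊗_A S (the length of the smallest subscheme of the fibre carrying it).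
Then p ↦ φ(p) is a constructible function: for every n the primes with φ(p) = n form a constructible
subset of Spec A. (The published statement is for a coherent sheaf, flat and finite over a
Noetherian base, on a family of reduced curve singularities with a section, and its function of the
base point is this colength; the curve hypotheses play no role and the row is the affine form over
any Noetherian ring.) -/
theorem result (A : Type u) [CommRing A] [IsNoetherianRing A]
    (S : Type u) [CommRing S] [Algebra A S]
    (Q : Type u) [AddCommGroup Q] [Module A Q] [Module S Q] [IsScalarTower A S Q]
    [Module.Finite A Q] [Module.Flat A Q] (n : ℕ) :
    Topology.IsConstructible {p : PrimeSpectrum A |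
      Module.finrank p.asIdeal.ResidueField
        (Submodule.span p.asIdeal.ResidueField
          (Set.range fun s : S =>
            LinearMap.baseChange p.asIdeal.ResidueField (DistribSMul.toLinearMap A Q s))) = n} := by
  haveI : Module.Projective A Q := by
    haveI : Module.FinitePresentation A Q := Module.finitePresentation_of_finite A Q
    exact Module.Flat.projective_of_finitePresentation
  let act : S →ₗ[A] Q →ₗ[A] Q :=
    { toFun := fun s => DistribSMul.toLinearMap A Q s
      map_add' := fun a b => LinearMap.ext fun q => add_smul a b q
      map_smul' := fun a b => LinearMap.ext fun q => smul_assoc a b q }
  exact Groth.L14.Hilb.isConstructible_span_rank act n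

end Groth.Agent.S15153
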