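import Groth.Statements.S15155
import Mathlib.LinearAlgebra.Matrix.SchurComplement
import Mathlib.LinearAlgebra.Matrix.Charpoly.Basic
import Mathlib.LinearAlgebra.Matrix.MvPolynomial
import Mathlib.RingTheory.Localization.FractionRing
import Mathlib.RingTheory.Polynomial.UniqueFactorization
import Mathlib.RingTheory.IntegralClosure.IntegrallyClosed
import Mathlib.Analysis.Complex.Polynomial.Basic
import Mathlib.Algebra.Group.Even
import Mathlib.RingTheory.Polynomial.RationalRoot

set_option autoImplicit false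
open CAlg

namespace Groth.Agent.S15155

open MvPolynomial in
/-- The determinant of an alternating matrix of even size over a field is a square. -/
lemma isSquare_det (F : Type*) [Field F] : ∀ (d : ℕ) {ι : Type} [Fintype ι] [DecidableEq ι] (T : Matrix ι ι F),
    Fintype.card ι = 2 * d → (∀ a b, T b a = -T a b) → (∀ a, T a a = 0) → IsSquare T.det := by
  intro d
  induction d with
  | zero =>
    intro ι _ _ T hc _ _
    have := Fintype.card_eq_zero_iff.mp hc
    exact ⟨1, by simp⟩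
  | succ d ih =>
    intro ι _ _ T hc hs hd
    by_cases hT : T = 0
    · have : Nonempty ι := Fintype.card_pos_iff.mp (by omega)
      exact ⟨0, by rw [hT, Matrix.det_zero, mul_zero]⟩
    obtain ⟨a, b, hab⟩ : ∃ a b, T a b ≠ 0 := by
      by_contra! h; exact hT (Matrix.ext h)
    have hne : a ≠ b := fun h => hab (by rw [h]; exact hd b)
    set x := T a b with hx
    let e : Fin 2 ⊕ {i : ι // i ≠ a ∧ i ≠ b} ≃ ι :=
      Equiv.ofBijective (Sum.elim ![a, b] Subtype.val) ⟨by
        rintro (i | ⟨i, hi⟩) (j | ⟨j, hj⟩) h <;> simp at h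
        · fin_cases i <;> fin_cases j <;> simp at h <;> first | rfl | exact absurd h hne | exact absurd h hne.symm
        · fin_cases i <;> simp at h
          · exact absurd h.symm hj.1
          · exact absurd h.symm hj.2
        · fin_cases j <;> simp at h
          · exact absurd h hi.1
          · exact absurd h hi.2
        · simp [h],
      fun i => by
        by_cases h1 : i = a
        · exact ⟨Sum.inl 0, by simp [h1]⟩
        by_cases h2 : i = b
        · exact ⟨Sum.inl 1, by simp [h2]⟩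
        exact ⟨Sum.inr ⟨i, h1, h2⟩, rfl⟩⟩
    let A : Matrix (Fin 2) (Fin 2) F := !![0, x; -x, 0]
    let A' : Matrix (Fin 2) (Fin 2) F := !![0, -x⁻¹; x⁻¹, 0]
    let S : Matrix {i : ι // i ≠ a ∧ i ≠ b} {i : ι // i ≠ a ∧ i ≠ b} F :=
      Matrix.of fun i j => T i j - (-(T i a * T b j) + T i b * T a j) * x⁻¹
    let : Invertible A := ⟨A', by ext i j; fin_cases i <;> fin_cases j <;> simp [A, A', hab],
      by ext i j; fin_cases i <;> fin_cases j <;> simp [A, A', hab]⟩
    let B : Matrix (Fin 2) {i : ι // i ≠ a ∧ i ≠ b} F := Matrix.of fun k j => T (![a, b] k) j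
    let C : Matrix {i : ι // i ≠ a ∧ i ≠ b} (Fin 2) F := Matrix.of fun i k => T i (![a, b] k)
    let D : Matrix {i : ι // i ≠ a ∧ i ≠ b} {i : ι // i ≠ a ∧ i ≠ b} F := Matrix.of fun i j => T i j
    have hblock : T.submatrix e e = Matrix.fromBlocks A B C D := by
      ext (i | i) (j | j)
      · fin_cases i <;> fin_cases j
        · simpa [e, A] using hd a
        · simp [e, A]; rfl
        · simpa [e, A] using hs a b
        · simpa [e, A] using hd b
      all_goals simp [e, B, C, D]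
    have hS : D - C * ⅟A * B = S := by
      ext i j
      show T i j - (C * A' * B) i j = _
      simp [S, C, B, A', Matrix.mul_apply, Fin.sum_univ_two]
      ring
    rw [← Matrix.det_submatrix_equiv_self e T, hblock, Matrix.det_fromBlocks₁₁, hS]
    refine IsSquare.mul ⟨x, by simp [A, Matrix.det_fin_two]⟩ (ih S ?_ (fun i j => ?_) fun i => ?_)
    · have := Fintype.card_congr e
      rw [Fintype.card_sum, Fintype.card_fin, hc] at this
      omega
    · simp only [S, Matrix.of_apply]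
      rw [hs (i : ι) j, hs (a : ι) (i : ι), hs (b : ι) (i : ι), hs a (j : ι), hs b (j : ι)]
      ring
    · simp only [S, Matrix.of_apply]
      rw [hd (i : ι), hs (i : ι) b, hs (i : ι) a]
      ring

open MvPolynomial in
/-- A universal square root of the determinant of an alternating matrix. -/
lemma exists_universal (ι : Type) [Fintype ι] [DecidableEq ι] (h : Even (Fintype.card ι)) :
    ∃ Q : MvPolynomial (ι × ι) ℤ, ∀ (S : Type) [CommRing S] (U : ι → ι → S),
      (Matrix.of fun a b => U a b - U b a).det = (eval₂ (Int.castRingHom S) (fun ab => U ab.1 ab.2) Q) ^ 2 := by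
  obtain ⟨d, hd⟩ := h
  let R := MvPolynomial (ι × ι) ℤ
  let W : Matrix ι ι R := Matrix.of fun a b => X (a, b) - X (b, a)
  obtain ⟨g, hg⟩ := isSquare_det (FractionRing R) d ((algebraMap R (FractionRing R)).mapMatrix W) (by omega)
    (fun a b => by simp [W]) (fun a => by simp [W])
  rw [← RingHom.map_det] at hg
  obtain ⟨Q, hQ⟩ := (IsIntegrallyClosed.isIntegral_iff (x := g)).mp
    (IsIntegral.of_pow two_pos (show IsIntegral R (g ^ 2) by rw [sq, ← hg]; exact isIntegral_algebraMap))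
  rw [← hQ, ← map_mul] at hg
  refine ⟨Q, fun S _ U => ?_⟩
  have := congrArg (eval₂Hom (Int.castRingHom S) fun ab : ι × ι => U ab.1 ab.2) (IsFractionRing.injective R (FractionRing R) hg)
  rw [map_mul, ← sq, coe_eval₂Hom] at this
  rw [← this, ← coe_eval₂Hom, RingHom.map_det]
  congr 1
  ext a b
  simp [W, ← coe_eval₂Hom]


/-- Let J be the 2m × 2m block matrix with blocks 0, I_m in the first row and −I_m, 0 in the second,
over the complex numbers. On the set of complex 2m × 2m matrices A with ᵗA · J = J · A (equivalently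
ᵗA = J A J⁻¹, J being invertible), the characteristic polynomial is the square of a single
polynomial in the entries of A with coefficients in ℂ[X], and the determinant is the square of a
single polynomial in the entries of A. -/
theorem result (m : ℕ) :
    (∃ P : MvPolynomial ((Fin m ⊕ Fin m) × (Fin m ⊕ Fin m)) (Polynomial ℂ),
      ∀ A : Matrix (Fin m ⊕ Fin m) (Fin m ⊕ Fin m) ℂ,
        A.transpose * Matrix.fromBlocks 0 1 (-1) 0 = Matrix.fromBlocks 0 1 (-1) 0 * A →
        A.charpoly = (MvPolynomial.eval (fun ij => Polynomial.C (A ij.1 ij.2)) P) ^ 2) ∧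
    (∃ Q : MvPolynomial ((Fin m ⊕ Fin m) × (Fin m ⊕ Fin m)) ℂ,
      ∀ A : Matrix (Fin m ⊕ Fin m) (Fin m ⊕ Fin m) ℂ,
        A.transpose * Matrix.fromBlocks 0 1 (-1) 0 = Matrix.fromBlocks 0 1 (-1) 0 * A →
        A.det = (MvPolynomial.eval (fun ij => A ij.1 ij.2) Q) ^ 2) := by
  classical
  obtain ⟨Q₀, hQ₀⟩ := exists_universal (Fin m ⊕ Fin m) (by rw [Fintype.card_sum]; exact ⟨_, rfl⟩)
  set J : Matrix (Fin m ⊕ Fin m) (Fin m ⊕ Fin m) ℂ := Matrix.fromBlocks 0 1 (-1) 0 with hJ
  have hJJ : J * (-J) = 1 := by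
    rw [hJ, Matrix.fromBlocks_neg, Matrix.fromBlocks_multiply, ← Matrix.fromBlocks_one]; simp
  have hJt : J.transpose = -J := by
    rw [hJ, Matrix.fromBlocks_transpose, Matrix.fromBlocks_neg]; simp
  have hJd : J.det ≠ 0 := (Matrix.isUnit_det_of_right_inverse hJJ).ne_zero
  obtain ⟨c, hc⟩ := IsAlgClosed.exists_pow_nat_eq (J.det)⁻¹ (n := 2) two_pos
  have main : ∀ (S : Type) [CommRing S] [Algebra ℂ S] (B : Matrix (Fin m ⊕ Fin m) (Fin m ⊕ Fin m) S),
      B.transpose * J.map (algebraMap ℂ S) = J.map (algebraMap ℂ S) * B →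
      B.det = (algebraMap ℂ S c * MvPolynomial.eval₂ (Int.castRingHom _) (fun ab => algebraMap ℂ S (2 : ℂ)⁻¹ * (J.map (algebraMap ℂ S) * B) ab.1 ab.2) Q₀) ^ 2 := by
    intro S _ _ B hB
    set M := J.map (algebraMap ℂ S) * B with hM
    have hskew : ∀ a b, M b a = -M a b := fun a b => by
      have h1 : M.transpose = -M := by
        rw [hM, Matrix.transpose_mul, ← Matrix.transpose_map, hJt, Matrix.map_neg _ (map_neg _) J, Matrix.mul_neg, hB]
      exact congrFun (congrFun h1 a) b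
    have h2 : algebraMap ℂ S (2 : ℂ)⁻¹ * 2 = 1 := by
      rw [← map_ofNat (algebraMap ℂ S) 2, ← map_mul, inv_mul_cancel₀ two_ne_zero, map_one]
    have hMU : M = Matrix.of fun a b => algebraMap ℂ S (2 : ℂ)⁻¹ * M a b - algebraMap ℂ S (2 : ℂ)⁻¹ * M b a := by
      ext a b
      rw [Matrix.of_apply, hskew a b]
      linear_combination -(M a b) * h2
    have h3 := hQ₀ S fun a b => algebraMap ℂ S (2 : ℂ)⁻¹ * M a b
    rw [← hMU, hM, Matrix.det_mul, ← RingHom.mapMatrix_apply, ← RingHom.map_det] at h3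
    rw [mul_pow, ← map_pow, hc]
    simp only [hM, RingHom.mapMatrix_apply] at h3
    rw [← h3, ← mul_assoc, ← map_mul, inv_mul_cancel₀ hJd, map_one, one_mul]
  have hmapφ : ∀ {S T : Type} [CommRing S] [CommRing T] [Algebra ℂ S] [Algebra ℂ T] (φ : S →+* T),
      (∀ z, φ (algebraMap ℂ S z) = algebraMap ℂ T z) → ∀ (B : Matrix (Fin m ⊕ Fin m) (Fin m ⊕ Fin m) S),
      φ (algebraMap ℂ S c * MvPolynomial.eval₂ (Int.castRingHom _) (fun ab => algebraMap ℂ S (2 : ℂ)⁻¹ * (J.map (algebraMap ℂ S) * B) ab.1 ab.2) Q₀) =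
        algebraMap ℂ T c * MvPolynomial.eval₂ (Int.castRingHom _) (fun ab => algebraMap ℂ T (2 : ℂ)⁻¹ * (J.map (algebraMap ℂ T) * B.map φ) ab.1 ab.2) Q₀ := by
    intro S T _ _ _ _ φ hφ B
    rw [map_mul, hφ, MvPolynomial.eval₂_comp_left φ, RingHom.ext_int (φ.comp (Int.castRingHom S)) (Int.castRingHom T)]
    refine congrArg (fun g => algebraMap ℂ T c * MvPolynomial.eval₂ (Int.castRingHom T) g Q₀) (funext fun ab => ?_)
    simp only [Function.comp_apply, map_mul, hφ, Matrix.mul_apply, map_sum, Matrix.map_apply]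
  refine ⟨⟨algebraMap ℂ _ c * MvPolynomial.eval₂ (Int.castRingHom _) (fun ab : (Fin m ⊕ Fin m) × (Fin m ⊕ Fin m) => algebraMap ℂ _ (2 : ℂ)⁻¹ *
      (J.map (algebraMap ℂ (MvPolynomial ((Fin m ⊕ Fin m) × (Fin m ⊕ Fin m)) (Polynomial ℂ))) *
        (Matrix.scalar (Fin m ⊕ Fin m) (MvPolynomial.C Polynomial.X) - Matrix.mvPolynomialX (Fin m ⊕ Fin m) (Fin m ⊕ Fin m) (Polynomial ℂ)) : Matrix (Fin m ⊕ Fin m) (Fin m ⊕ Fin m) (MvPolynomial ((Fin m ⊕ Fin m) × (Fin m ⊕ Fin m)) (Polynomial ℂ))) ab.1 ab.2) Q₀, fun A hA => ?_⟩,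
    ⟨algebraMap ℂ _ c * MvPolynomial.eval₂ (Int.castRingHom _) (fun ab : (Fin m ⊕ Fin m) × (Fin m ⊕ Fin m) => algebraMap ℂ _ (2 : ℂ)⁻¹ *
      (J.map (algebraMap ℂ (MvPolynomial ((Fin m ⊕ Fin m) × (Fin m ⊕ Fin m)) ℂ)) * Matrix.mvPolynomialX (Fin m ⊕ Fin m) (Fin m ⊕ Fin m) ℂ : Matrix (Fin m ⊕ Fin m) (Fin m ⊕ Fin m) (MvPolynomial ((Fin m ⊕ Fin m) × (Fin m ⊕ Fin m)) ℂ)) ab.1 ab.2) Q₀, fun A hA => ?_⟩⟩
  · have hB : (Matrix.scalar (Fin m ⊕ Fin m) (MvPolynomial.C Polynomial.X) - Matrix.mvPolynomialX _ _ (Polynomial ℂ)).map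
        (MvPolynomial.eval fun ij : (Fin m ⊕ Fin m) × (Fin m ⊕ Fin m) => Polynomial.C (A ij.1 ij.2)) = A.charmatrix := by
      ext a b
      by_cases hab : a = b <;> simp [hab, Matrix.mvPolynomialX_apply, Matrix.charmatrix_apply]
    rw [hmapφ (MvPolynomial.eval fun ij : (Fin m ⊕ Fin m) × (Fin m ⊕ Fin m) => Polynomial.C (A ij.1 ij.2)) (fun z => by simp [MvPolynomial.algebraMap_eq, IsScalarTower.algebraMap_apply ℂ (Polynomial ℂ) (MvPolynomial _ (Polynomial ℂ))]), hB]
    refine main _ A.charmatrix ?_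
    have hA' := congrArg (fun N : Matrix (Fin m ⊕ Fin m) (Fin m ⊕ Fin m) ℂ => N.map (Polynomial.C : ℂ →+* Polynomial ℂ)) hA
    simp only [Matrix.map_mul] at hA'
    have ht : A.charmatrix.transpose = Matrix.scalar _ Polynomial.X - (A.transpose).map Polynomial.C := by
      rw [Matrix.charmatrix, Matrix.transpose_sub, Matrix.scalar_apply, Matrix.diagonal_transpose, RingHom.mapMatrix_apply, Matrix.transpose_map]
    rw [ht, Matrix.charmatrix, RingHom.mapMatrix_apply, Polynomial.algebraMap_eq, Matrix.sub_mul, Matrix.mul_sub, hA',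
      (Matrix.scalar_commute Polynomial.X (fun _ => Commute.all _ _) (J.map Polynomial.C)).eq]
  · rw [hmapφ (MvPolynomial.eval fun ij : (Fin m ⊕ Fin m) × (Fin m ⊕ Fin m) => A ij.1 ij.2) (fun z => by simp [MvPolynomial.algebraMap_eq])]
    have hX : (Matrix.mvPolynomialX (Fin m ⊕ Fin m) (Fin m ⊕ Fin m) ℂ).map
        (MvPolynomial.eval fun ij : (Fin m ⊕ Fin m) × (Fin m ⊕ Fin m) => A ij.1 ij.2) = A := by
      ext a b; simp [Matrix.mvPolynomialX_apply]
    rw [hX]
    exact main ℂ A (by simpa using hA)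

end Groth.Agent.S15155
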