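import Groth.Statements.S15156
import Groth.Agent.L21.InvBundle.Cover
import Mathlib.Analysis.Complex.Polynomial.Basic

set_option autoImplicit false
set_option backward.isDefEq.respectTransparency false
set_option linter.style.haveILetI false
open CategoryTheory CategoryTheory.Limits AlgebraicGeometry
open VBCurve

namespace Groth.Agent.S15156

/-- Let X be a smooth proper integral curve of genus at least 2 over the complex numbers with an
involution σ ≠ id over the complex numbers, and (E, φ) a σ-linearized finite locally free module of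
rank r ≥ 1: φ : σ^*E ≅ E with φ ∘ σ^*φ equal to the canonical identification σ^*σ^*E ≅ E. A
submodule F ⊂ E is σ-invariant when the composite σ^*F → σ^*E → E factors through F. Then (E, φ) is
semistable with respect to σ-invariant finite locally free submodules (deg F · r ≤ deg E · rk F for
each such F of positive rank) if and only if E is slope-semistable (the same inequality for every
finite locally free submodule of positive rank); degrees are χ − rank · χ(O). -/
theorem result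
    (X : Scheme.{0}) [X.Over (Spec (CommRingCat.of ℂ))] [IsIntegral X] [IsProper (X ↘ Spec (CommRingCat.of ℂ))] [Smooth (X ↘ Spec (CommRingCat.of ℂ))]
    (hdim : topologicalKrullDim X = 1) (hg : 2 ≤ Curv2.genus ℂ X)
    (σ : X ⟶ X) (hσS : σ ≫ (X ↘ Spec (CommRingCat.of ℂ)) = X ↘ Spec (CommRingCat.of ℂ)) (hσ : σ ≫ σ = 𝟙 X) (hσ1 : σ ≠ 𝟙 X)
    (r : ℕ) (hr : 0 < r) (E : X.Modules) (hE : FlatMod.IsFinLocFreeOfRank r E)
    (φ : (Scheme.Modules.pullback σ).obj E ≅ E)
    (hφ : (Scheme.Modules.pullback σ).map φ.hom ≫ φ.hom =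
      (Scheme.Modules.pullbackComp σ σ).hom.app E ≫ (Scheme.Modules.pullbackCongr hσ).hom.app E ≫
        (Scheme.Modules.pullbackId X).hom.app E) :
    (∀ (F : X.Modules) (r' : ℕ) (i : F ⟶ E), Mono i → 0 < r' → FlatMod.IsFinLocFreeOfRank r' F →
      (∃ j : (Scheme.Modules.pullback σ).obj F ⟶ F, j ≫ i = (Scheme.Modules.pullback σ).map i ≫ φ.hom) →
      Curv2.deg ℂ X F r' * (r : ℤ) ≤ Curv2.deg ℂ X E r * (r' : ℤ)) ↔
    (∀ (F : X.Modules) (r' : ℕ) (i : F ⟶ E), Mono i → 0 < r' → FlatMod.IsFinLocFreeOfRank r' F →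
      Curv2.deg ℂ X F r' * (r : ℤ) ≤ Curv2.deg ℂ X E r * (r' : ℤ)) := by
  refine ⟨fun h => ?_, fun h F r' i hi h0 hF _ => h F r' i hi h0 hF⟩
  haveI := Groth.L21.RR.isNoetherian_of_proper (X := X) ℂ
  haveI : IsIso σ := ⟨σ, hσ, hσ⟩
  have hreg := fun x : X => Groth.L21.Smooth.regular_stalk (X ↘ Spec (CommRingCat.of ℂ)) x
  have hcE := Groth.L21.Bundle.isCoh_of_rank hE
  obtain ⟨E₁, i₁, hi₁, hE₁, hpos, hb, hmax⟩ := Groth.L21.Bundle.exists_max_slope ℂ hreg hdim.le hr hE
  haveI := hi₁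
  have hl := Groth.L21.Bundle.locFree_of_mono hreg hdim.le i₁ hE₁ hE
  have hl' := Groth.L12.StabLimit.isFinLocFreeOfRank_pullback σ hl
  have hc' := Groth.L21.Bundle.isCoh_of_rank hl'
  haveI := Groth.L29.RelPC.preservesFiniteLimits_pullback (f := σ)
  let i' : (Scheme.Modules.pullback σ).obj E₁ ⟶ E := (Scheme.Modules.pullback σ).map i₁ ≫ φ.hom
  haveI : Mono i' := mono_comp _ _
  have hC := Groth.L21.Bundle.coh_cokernel hE₁ hcE i₁
  let f := i' ≫ cokernel.π i₁
  have hf : f = 0 := by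
    have hI := Groth.L21.Bundle.coh_image hc' hC f
    obtain ⟨P, iP, hiP, hP, e1, e2⟩ := Groth.L21.Bundle.exists_preimage ℂ hdim.le (cokernel.π i₁)
      (Abelian.image.ι f) hcE hC hI
    obtain ⟨a1, a2⟩ := Groth.L21.Bundle.add_cokernel ℂ hdim.le i₁ hE₁ hcE
    obtain ⟨b1, b2⟩ := Groth.L21.Bundle.add_image ℂ hdim.le f hc' hC
    have hK := hb (kernel f) (kernel.ι f ≫ i') (mono_comp _ _) (Groth.L21.Bundle.coh_kernel hc' hC f)
    rw [Groth.L21.Bundle.rk_eq hl'] at b1
    rw [Groth.L21.InvBundle.dg_pullback_auto ℂ hdim σ hσS hl] at b2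
    set e := Groth.L21.Bundle.rk E₁ with he
    set d := Groth.L21.Bundle.dg ℂ E₁ with hd
    set m := Groth.L21.Bundle.rk (Abelian.image f) with hm
    set t := Groth.L21.Bundle.dg ℂ (Abelian.image f) with ht
    have hP1 : Groth.L21.Bundle.rk P = e + m := by omega
    have hP2 : Groth.L21.Bundle.dg ℂ P = d + t := by omega
    have hb2 : (Groth.L21.Bundle.rk (kernel f) : ℤ) = e - m := by omega
    have hb3 : Groth.L21.Bundle.dg ℂ (kernel f) = d - t := by omega
    rw [hb2, hb3] at hK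
    have hP3 := hb P iP hiP hP
    rw [hP1, hP2] at hP3
    push_cast at hP3
    have heq : t * (e : ℤ) = d * (m : ℤ) := by linarith
    have hle := hmax P iP hiP hP (by omega) (by rw [hP1, hP2]; push_cast; linarith)
    rw [hP1] at hle
    have hm0 : m = 0 := by omega
    rw [hm0, Nat.cast_zero, mul_zero, mul_eq_zero] at heq
    have ht0 : t = 0 := heq.resolve_right (by exact_mod_cast hpos.ne')
    have hz := (Groth.L21.Bundle.dg_nonneg_of_rk_eq_zero hdim.le ℂ hI hm0).2 ht0
    rw [← Abelian.image.fac f, hz.eq_of_src (Abelian.image.ι f) 0, comp_zero]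
  intro F r' i hi h0 hF
  have hinv := h E₁ _ i₁ hi₁ hpos hl ⟨Abelian.monoLift i₁ i' hf, Abelian.monoLift_comp _ _ _⟩
  have h1 := Groth.L21.Bundle.of_bd ℂ hb i hi hF
  rw [Groth.L21.Bundle.dg_eq ℂ hl] at hinv
  have he0 : (0 : ℤ) < (Groth.L21.Bundle.rk E₁ : ℤ) := by exact_mod_cast hpos
  have hr0 : (0 : ℤ) < (r : ℤ) := by exact_mod_cast hr
  have hr0' : (0 : ℤ) ≤ (r' : ℤ) := Int.natCast_nonneg r'
  refine le_of_mul_le_mul_right ?_ he0
  nlinarith [mul_le_mul_of_nonneg_right h1 hr0.le, mul_le_mul_of_nonneg_right hinv hr0']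

end Groth.Agent.S15156
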