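import Groth.Statements.S15157
import Groth.Agent.L21.Disc.DoubleOmega
import Mathlib.Analysis.Complex.Polynomial.Basic

set_option autoImplicit false
set_option backward.isDefEq.respectTransparency false
set_option linter.style.haveILetI false
open CategoryTheory CategoryTheory.Limits AlgebraicGeometry
open Curves

namespace Groth.Agent.S15157

/-- Let X be a smooth proper integral curve of genus at least 2 over the complex numbers with an
involution σ ≠ id over the complex numbers, and π : X → Y its quotient double cover: Y a smooth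
proper integral curve and π a finite flat morphism of constant rank 2 over the complex numbers with
π ∘ σ = π. Then the sheaf of differentials of X over the complex numbers descends to Y: it is
isomorphic to π^*M for some invertible O_Y-module M (existence of M and of an isomorphism only). -/
theorem result
    (X Y : Scheme.{0}) [X.Over (Spec (CommRingCat.of ℂ))] [Y.Over (Spec (CommRingCat.of ℂ))]
    [IsIntegral X] [IsProper (X ↘ Spec (CommRingCat.of ℂ))] [Smooth (X ↘ Spec (CommRingCat.of ℂ))] (hdimX : topologicalKrullDim X = 1)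
    (hg : 2 ≤ Curv2.genus ℂ X)
    [IsIntegral Y] [IsProper (Y ↘ Spec (CommRingCat.of ℂ))] [Smooth (Y ↘ Spec (CommRingCat.of ℂ))] (hdimY : topologicalKrullDim Y = 1)
    (σ : X ⟶ X) (hσS : σ ≫ (X ↘ Spec (CommRingCat.of ℂ)) = X ↘ Spec (CommRingCat.of ℂ)) (hσ : σ ≫ σ = 𝟙 X) (hσ1 : σ ≠ 𝟙 X)
    (π : X ⟶ Y) [IsFinite π] [Flat π] (hπ : π ≫ (Y ↘ Spec (CommRingCat.of ℂ)) = X ↘ Spec (CommRingCat.of ℂ))
    (hrk : ∀ y : ↥Y, Scheme.Hom.finrank π y = 2) (hσπ : σ ≫ π = π) :
    ∃ M : Y.Modules, PicF.IsInvertible M ∧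
      Nonempty ((Scheme.Modules.pullback π).obj M ≅ Omega.sheaf (X ↘ Spec (CommRingCat.of ℂ))) := by
  obtain ⟨h, -, Δ, hΔ, -, hiso⟩ := Groth.L21.DoubleCover.exists_omega_descent hdimX hdimY hσS hσ1 π hπ hrk hσπ
  exact ⟨_, Groth.L18.GenLoc.isInvertible_tensor
    (Groth.L21.Duality.isInvertible_omega (k := ℂ) hdimY) hΔ, hiso⟩

end Groth.Agent.S15157
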