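import Groth.Statements.S15159
import Mathlib.Algebra.DirectSum.Decomposition
import Mathlib.Algebra.DirectSum.LinearMap
import Mathlib.LinearAlgebra.FiniteDimensional.Lemmas
import Mathlib.LinearAlgebra.Dimension.Constructions

set_option autoImplicit false
open CAlg

namespace Groth.Agent.S15159

/-- Let W be a finite-dimensional complex vector space with an involution s, H a finite-dimensional
complex vector space and q : H → H → W a nonzero bilinear map with q(x)(y) = s(q(y)(x)). Write V^⊥ =
{x | q(x)(y) = 0 for all y ∈ V} and call V totally isotropic when q vanishes on V × V. The pair (H,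
q) is semistable (dim V + dim V^⊥ ≤ dim H for every nonzero totally isotropic subspace V),
respectively stable (strict inequality), if and only if the line of q is semistable, respectively
stable, for the action of SL(H), the latter being expressed through one-parameter subgroups: for
every decomposition H = ⊕_i H_i into subspaces with integer weights m_i such that Σ_i m_i dim H_i =
0 and some nonzero H_i has nonzero weight, there are indices i, j with q(H_i, H_j) ≠ 0 and m_i + m_j
≤ 0, respectively m_i + m_j < 0. (The published statement speaks of semistability and stability of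
the point of the projective space of such forms under SL(H); this row states the numerical condition
on one-parameter subgroups to which that is equivalent and which the published argument verifies.) -/
theorem result
    (W : Type) [AddCommGroup W] [Module ℂ W] [FiniteDimensional ℂ W]
    (s : W →ₗ[ℂ] W) (hs : s ∘ₗ s = LinearMap.id)
    (H : Type) [AddCommGroup H] [Module ℂ H] [FiniteDimensional ℂ H]
    (q : H →ₗ[ℂ] H →ₗ[ℂ] W) (hq : ∀ x y : H, q x y = s (q y x)) (hq0 : q ≠ 0) :
    ((∀ V : Submodule ℂ H, V ≠ ⊥ → (∀ x ∈ V, ∀ y ∈ V, q x y = 0) →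
        Module.finrank ℂ V + Module.finrank ℂ ↥(⨅ (y : H) (_ : y ∈ V), LinearMap.ker (q.flip y) : Submodule ℂ H) ≤ Module.finrank ℂ H) ↔
      (∀ (ι : Type) [Fintype ι] [DecidableEq ι] (Hs : ι → Submodule ℂ H) (m : ι → ℤ),
        DirectSum.IsInternal Hs → (∑ i, m i * (Module.finrank ℂ (Hs i) : ℤ)) = 0 →
        (∃ i, m i ≠ 0 ∧ Hs i ≠ ⊥) →
        ∃ i j, (∃ x ∈ Hs i, ∃ y ∈ Hs j, q x y ≠ 0) ∧ m i + m j ≤ 0)) ∧
    ((∀ V : Submodule ℂ H, V ≠ ⊥ → (∀ x ∈ V, ∀ y ∈ V, q x y = 0) →
        Module.finrank ℂ V + Module.finrank ℂ ↥(⨅ (y : H) (_ : y ∈ V), LinearMap.ker (q.flip y) : Submodule ℂ H) < Module.finrank ℂ H) ↔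
      (∀ (ι : Type) [Fintype ι] [DecidableEq ι] (Hs : ι → Submodule ℂ H) (m : ι → ℤ),
        DirectSum.IsInternal Hs → (∑ i, m i * (Module.finrank ℂ (Hs i) : ℤ)) = 0 →
        (∃ i, m i ≠ 0 ∧ Hs i ≠ ⊥) →
        ∃ i j, (∃ x ∈ Hs i, ∃ y ∈ Hs j, q x y ≠ 0) ∧ m i + m j < 0)) := by
  classical
  let n := Module.finrank ℂ H
  let perp : Submodule ℂ H → Submodule ℂ H := fun V => ⨅ (y : H) (_ : y ∈ V), LinearMap.ker (q.flip y)
  have memperp : ∀ V x, x ∈ perp V ↔ ∀ y ∈ V, q x y = 0 := fun V x => by simp [perp]
  have qsymm : ∀ x y, q x y = 0 → q y x = 0 := fun x y h => by rw [hq, h, map_zero]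
  -- a destabilising one parameter subgroup from an isotropic subspace
  have build : ∀ V : Submodule ℂ H, V ≠ ⊥ → (∀ x ∈ V, ∀ y ∈ V, q x y = 0) →
      n ≤ Module.finrank ℂ V + Module.finrank ℂ (perp V) →
      ∃ (Hs : Fin 3 → Submodule ℂ H) (m : Fin 3 → ℤ), DirectSum.IsInternal Hs ∧
        (∑ i, m i * (Module.finrank ℂ (Hs i) : ℤ)) = 0 ∧ (∃ i, m i ≠ 0 ∧ Hs i ≠ ⊥) ∧
        ∀ i j, (∃ x ∈ Hs i, ∃ y ∈ Hs j, q x y ≠ 0) →
          2 * (((Module.finrank ℂ V + Module.finrank ℂ (perp V) : ℕ) : ℤ) - n) ≤ m i + m j := by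
    intro V hV hiso hn
    have hVK : V ≤ perp V := fun x hx => (memperp V x).mpr fun y hy => hiso x hx y hy
    obtain ⟨K', hK'⟩ := Submodule.exists_isCompl (V.comap (perp V).subtype)
    let K1 := K'.map (perp V).subtype
    obtain ⟨C, hC⟩ := Submodule.exists_isCompl (perp V)
    let Hs : Fin 3 → Submodule ℂ H := ![V, K1, C]
    have hK1 : V ⊔ K1 = perp V := by
      have h := congrArg (Submodule.map (perp V).subtype) hK'.sup_eq_top
      rw [Submodule.map_sup, Submodule.map_subtype_top, Submodule.map_comap_subtype, inf_eq_right.mpr hVK] at h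
      exact h
    have d1 : Module.finrank ℂ V + Module.finrank ℂ K1 = Module.finrank ℂ (perp V) := by
      have h := Submodule.finrank_add_eq_of_isCompl hK'
      rw [(Submodule.comapSubtypeEquivOfLe hVK).finrank_eq] at h
      rwa [(Submodule.equivMapOfInjective _ (perp V).subtype_injective K').finrank_eq.symm]
    have d2 : Module.finrank ℂ (perp V) + Module.finrank ℂ C = n := Submodule.finrank_add_eq_of_isCompl hC
    have hint : DirectSum.IsInternal Hs := by
      have hs : Function.Surjective (DirectSum.coeLinearMap Hs) := by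
        rw [← LinearMap.range_eq_top, DirectSum.range_coeLinearMap, eq_top_iff, ← hC.sup_eq_top, ← hK1]
        exact sup_le (sup_le (le_iSup Hs 0) (le_iSup Hs 1)) (le_iSup Hs 2)
      have hd : Module.finrank ℂ (DirectSum (Fin 3) fun i => Hs i) = n := by
        rw [Module.finrank_directSum, Fin.sum_univ_three]
        show Module.finrank ℂ V + Module.finrank ℂ K1 + Module.finrank ℂ C = n
        omega
      haveI : Module.Finite ℂ (DirectSum (Fin 3) fun i => Hs i) :=
        Module.Finite.equiv (DirectSum.linearEquivFunOnFintype ℂ (Fin 3) (fun i => Hs i)).symm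
      exact ⟨(LinearMap.injective_iff_surjective_of_finrank_eq_finrank hd).mpr hs, hs⟩
    have hVn : 2 * Module.finrank ℂ V ≤ Module.finrank ℂ V + Module.finrank ℂ (perp V) := by omega
    have hlt : Module.finrank ℂ V + Module.finrank ℂ (perp V) < n + n := by
      have h1 : Module.finrank ℂ V ≤ n := Submodule.finrank_le V
      have h2 : Module.finrank ℂ (perp V) ≤ n := Submodule.finrank_le (perp V)
      by_contra hcon
      have hVtop : V = ⊤ := Submodule.eq_top_of_finrank_eq (by omega)
      exact hq0 (LinearMap.ext fun x => LinearMap.ext fun y =>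
        hiso x (hVtop ▸ Submodule.mem_top) y (hVtop ▸ Submodule.mem_top))
    let δ : ℤ := ((Module.finrank ℂ V + Module.finrank ℂ (perp V) : ℕ) : ℤ) - n
    refine ⟨Hs, ![δ - n, δ, δ + n], hint, ?_, ⟨0, ?_, hV⟩, ?_⟩
    · rw [Fin.sum_univ_three]
      show (δ - n) * (Module.finrank ℂ V : ℤ) + δ * (Module.finrank ℂ K1 : ℤ) + (δ + n) * (Module.finrank ℂ C : ℤ) = 0
      have d1' : (Module.finrank ℂ V : ℤ) + Module.finrank ℂ K1 = Module.finrank ℂ (perp V) := by exact_mod_cast d1
      have d2' : (Module.finrank ℂ (perp V) : ℤ) + Module.finrank ℂ C = n := by exact_mod_cast d2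
      simp only [δ]; push_cast
      linear_combination (((Module.finrank ℂ V : ℤ) + Module.finrank ℂ (perp V)) - n) * d1' +
        (((Module.finrank ℂ V : ℤ) + Module.finrank ℂ (perp V))) * d2'
    · show δ - n ≠ 0
      simp only [δ]; omega
    · rintro i j ⟨x, hx, y, hy, hxy⟩
      have hK1le : K1 ≤ perp V := hK1 ▸ le_sup_right
      fin_cases i <;> fin_cases j
      · exact absurd (hiso x hx y hy) hxy
      · exact absurd (qsymm y x ((memperp V y).mp (hK1le hy) x hx)) hxy
      · show 2 * δ ≤ (δ - n) + (δ + n); omega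
      · exact absurd ((memperp V x).mp (hK1le hx) y hy) hxy
      · show 2 * δ ≤ δ + δ; omega
      · show 2 * δ ≤ δ + (δ + n); omega
      · show 2 * δ ≤ (δ + n) + (δ - n); omega
      · show 2 * δ ≤ (δ + n) + δ; omega
      · show 2 * δ ≤ (δ + n) + (δ + n); omega
  -- an isotropic subspace from a one parameter subgroup
  have conv : ∀ (ι : Type) [Fintype ι] [DecidableEq ι] (Hs : ι → Submodule ℂ H) (m : ι → ℤ),
      DirectSum.IsInternal Hs → (∑ i, m i * (Module.finrank ℂ (Hs i) : ℤ)) = 0 →
      (∃ i, m i ≠ 0 ∧ Hs i ≠ ⊥) → ∀ (e : ℕ), e ≤ 1 →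
      (∀ i j, (∃ x ∈ Hs i, ∃ y ∈ Hs j, q x y ≠ 0) → 1 - (e : ℤ) ≤ m i + m j) →
      ∃ V : Submodule ℂ H, V ≠ ⊥ ∧ (∀ x ∈ V, ∀ y ∈ V, q x y = 0) ∧
        n + 1 ≤ Module.finrank ℂ V + Module.finrank ℂ (perp V) + e := by
    intro ι _ _ Hs m hint hsum hnt e he1 hpos
    let d : ι → ℕ := fun i => Module.finrank ℂ (Hs i)
    let S : ℤ → Finset ι := fun t => Finset.univ.filter fun i => m i ≤ t
    let f : ℤ → ℕ := fun t => ∑ i ∈ S t, d i
    let F : ℤ → Submodule ℂ H := fun t => (S t).sup Hs
    have hF : ∀ T : Finset ι, Module.finrank ℂ ↥(T.sup Hs) = ∑ i ∈ T, d i := by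
      intro T
      induction T using Finset.induction with
      | empty => simp
      | insert a T ha ih =>
        have hdisj : Disjoint (Hs a) (T.sup Hs) := by
          refine (hint.submodule_iSupIndep a).mono_right (Finset.sup_le fun i hi => ?_)
          exact le_iSup₂ (f := fun i (_ : i ≠ a) => Hs i) i (fun h => ha (h ▸ hi))
        have h := Submodule.finrank_sup_add_finrank_inf_eq (Hs a) (T.sup Hs)
        rw [hdisj.eq_bot, finrank_bot, add_zero] at h
        rw [Finset.sup_insert, h, Finset.sum_insert ha, ih]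
    have horth : ∀ t u : ℤ, t + u ≤ -(e : ℤ) → ∀ x ∈ F t, ∀ y ∈ F u, q x y = 0 := by
      intro t u htu x hx y hy
      have hzero : ∀ i ∈ S t, ∀ j ∈ S u, ∀ a ∈ Hs i, ∀ b ∈ Hs j, q a b = 0 := fun i hi j hj a ha b hb => by
        by_contra h
        have := hpos i j ⟨a, ha, b, hb, h⟩
        simp only [S, Finset.mem_filter] at hi hj
        omega
      have h2 : ∀ i ∈ S t, ∀ a ∈ Hs i, q a y = 0 := fun i hi a ha => by
        have hle : (S u).sup Hs ≤ LinearMap.ker (q a) := Finset.sup_le fun j hj b hb => hzero i hi j hj a ha b hb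
        exact hle hy
      have hle : (S t).sup Hs ≤ LinearMap.ker (q.flip y) := Finset.sup_le fun i hi a ha => h2 i hi a ha
      exact hle hx
    by_contra hcon
    push Not at hcon
    have key : ∀ t u : ℤ, t + u = -(e : ℤ) → t ≤ u → 0 < f t → f t + f u + e ≤ n := by
      intro t u htu hle hft
      have hne : F t ≠ ⊥ := fun h => by
        have := hF (S t)
        rw [show (S t).sup Hs = F t from rfl, h, finrank_bot] at this
        exact hft.ne this
      have hlt := hcon (F t) hne (horth t t (by omega))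
      have hFu : F u ≤ perp (F t) := fun x hx => (memperp _ x).mpr fun y hy => horth u t (by omega) x hx y hy
      have := Submodule.finrank_mono hFu
      rw [show Module.finrank ℂ (F u) = f u from hF (S u)] at this
      rw [show Module.finrank ℂ (F t) = f t from hF (S t)] at hlt
      omega
    have htot : ∑ i, d i = n := by
      rw [← hF Finset.univ, Finset.sup_univ_eq_iSup, hint.submodule_iSup_eq_top, finrank_top]
    have hfn : ∀ t, f t ≤ n := fun t => htot ▸ Finset.sum_le_sum_of_subset (Finset.subset_univ _)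
    obtain ⟨B, hB⟩ : ∃ B : ℕ, ∀ i, (m i).natAbs < B :=
      ⟨Finset.univ.sup (fun i => (m i).natAbs) + 1, fun i => Nat.lt_succ_of_le (Finset.le_sup (f := fun i => (m i).natAbs) (Finset.mem_univ i))⟩
    have hf : ∀ t, (f t : ℤ) = ∑ i, (if m i ≤ t then (d i : ℤ) else 0) := fun t => by
      simp only [f, S]; push_cast; rw [Finset.sum_filter]
    have hid : ∑ s ∈ Finset.range B, ((n : ℤ) - f s - f (-(s + 1 : ℤ))) = 0 := by
      simp only [hf, ← htot, Nat.cast_sum, ← Finset.sum_sub_distrib]
      rw [Finset.sum_comm]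
      conv_rhs => rw [← hsum]
      refine Finset.sum_congr rfl fun i _ => ?_
      show _ = m i * (d i : ℤ)
      have cnt : ∀ (M : ℕ) (c : ℤ), ∑ s ∈ Finset.range M, (c - (if m i ≤ (s : ℤ) then c else 0) - (if m i ≤ -((s : ℤ) + 1) then c else 0)) =
          max (-(M : ℤ)) (min (M : ℤ) (m i)) * c := by
        intro M c
        induction M with
        | zero => simp
        | succ M ih =>
          rw [Finset.sum_range_succ, ih]
          have hcase : max (-((M : ℤ) + 1)) (min ((M : ℤ) + 1) (m i)) = max (-(M : ℤ)) (min (M : ℤ) (m i)) +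
              (1 - (if m i ≤ (M : ℤ) then 1 else 0) - (if m i ≤ -((M : ℤ) + 1) then 1 else 0)) := by
            split_ifs <;> omega
          push_cast
          rw [hcase, add_mul, sub_mul, sub_mul, one_mul, ite_mul, ite_mul, one_mul, zero_mul]
      rw [cnt B (d i)]
      have := hB i
      congr 1
      omega
    obtain ⟨i0, hi0, hi0'⟩ := hnt
    have hd0 : 0 < d i0 := Nat.pos_of_ne_zero fun h => hi0' (Submodule.finrank_eq_zero.mp h)
    have hn0 : 0 < n := lt_of_lt_of_le hd0 ((Finset.single_le_sum (fun i _ => Nat.zero_le (d i)) (Finset.mem_univ i0)).trans htot.le)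
    have hBpos : 0 < B := Nat.lt_of_le_of_lt (Nat.zero_le _) (hB i0)
    interval_cases e
    · -- semistable
      have hterm : ∀ s : ℕ, f (-((s : ℤ) + 1)) + f ((s : ℤ) + 1) ≤ n := fun s => by
        rcases Nat.eq_zero_or_pos (f (-((s : ℤ) + 1))) with h | h
        · rw [h, zero_add]; exact hfn _
        · simpa using key _ _ (by omega) (by omega) h
      have h0 : 2 * f 0 ≤ n := by
        rcases Nat.eq_zero_or_pos (f 0) with h | h
        · omega
        · have := key 0 0 (by omega) le_rfl h; omega
      have hshift : ∀ M : ℕ, ∑ s ∈ Finset.range M, ((n : ℤ) - f s - f (-(s + 1 : ℤ))) =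
          ∑ s ∈ Finset.range M, ((n : ℤ) - f ((s : ℤ) + 1) - f (-(s + 1 : ℤ))) + f (M : ℤ) - f 0 := by
        intro M
        induction M with
        | zero => simp
        | succ M ih => rw [Finset.sum_range_succ, Finset.sum_range_succ, ih]; push_cast; ring
      have hge : (0 : ℤ) ≤ ∑ s ∈ Finset.range B, ((n : ℤ) - f ((s : ℤ) + 1) - f (-(s + 1 : ℤ))) :=
        Finset.sum_nonneg fun s _ => by have := hterm s; omega
      have hfB : f (B : ℤ) = n := by
        rw [← htot]
        refine Finset.sum_congr (Finset.filter_true_of_mem fun i _ => ?_) fun _ _ => rfl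
        have := hB i; omega
      rw [hshift B, hfB] at hid
      omega
    · -- stable
      have hterm : ∀ s : ℕ, 0 ≤ (n : ℤ) - f s - f (-((s : ℤ) + 1)) ∧
          (f (-((s : ℤ) + 1)) ≠ 0 → 0 < (n : ℤ) - f s - f (-((s : ℤ) + 1))) := fun s => by
        rcases Nat.eq_zero_or_pos (f (-((s : ℤ) + 1))) with h | h
        · have := hfn s; exact ⟨by omega, fun h' => absurd h h'⟩
        · have := key (-((s : ℤ) + 1)) (s : ℤ) (by omega) (by omega) h
          exact ⟨by omega, fun _ => by omega⟩
      have hall := (Finset.sum_eq_zero_iff_of_nonneg fun s _ => (hterm s).1).mp hid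
      have h00 : (n : ℤ) - f 0 - f (-1) = 0 := by simpa using hall 0 (Finset.mem_range.mpr hBpos)
      have hf1 : f (-1) = 0 := by
        by_contra h
        have h2 := (hterm 0).2 (by simpa using h)
        simp at h2
        omega
      rcases lt_or_gt_of_ne hi0 with h | h
      · have : d i0 ≤ f (-1) := Finset.single_le_sum (fun i _ => Nat.zero_le (d i))
          (by simp only [S, Finset.mem_filter, Finset.mem_univ, true_and]; omega)
        omega
      · have hnot : i0 ∉ S 0 := by simp only [S, Finset.mem_filter, Finset.mem_univ, true_and]; omega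
        have : d i0 + f 0 ≤ n := by
          rw [← htot, ← Finset.sum_insert hnot]
          exact Finset.sum_le_sum_of_subset (Finset.subset_univ _)
        omega
  constructor <;> constructor
  · intro h ι _ _ Hs m hint hsum hnt
    by_contra hc
    push Not at hc
    obtain ⟨V, hV, hiso, hd⟩ := conv ι Hs m hint hsum hnt 0 zero_le_one fun i j hij => by
      obtain ⟨x, hx, y, hy, hxy⟩ := hij
      have := hc i j ⟨x, hx, y, hy, hxy⟩
      omega
    have := h V hV hiso
    simp only [perp, n] at hd
    omega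
  · intro h V hV hiso
    by_contra hc
    obtain ⟨Hs, m, hint, hsum, hnt, hpair⟩ := build V hV hiso (by simp only [perp, n]; omega)
    obtain ⟨i, j, hij, hle⟩ := h (Fin 3) Hs m hint hsum hnt
    have := hpair i j hij
    simp only [perp, n] at this
    omega
  · intro h ι _ _ Hs m hint hsum hnt
    by_contra hc
    push Not at hc
    obtain ⟨V, hV, hiso, hd⟩ := conv ι Hs m hint hsum hnt 1 le_rfl fun i j hij => by
      obtain ⟨x, hx, y, hy, hxy⟩ := hij
      have := hc i j ⟨x, hx, y, hy, hxy⟩
      omega
    have := h V hV hiso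
    simp only [perp, n] at hd
    omega
  · intro h V hV hiso
    by_contra hc
    obtain ⟨Hs, m, hint, hsum, hnt, hpair⟩ := build V hV hiso (by simp only [perp, n]; omega)
    obtain ⟨i, j, hij, hle⟩ := h (Fin 3) Hs m hint hsum hnt
    have := hpair i j hij
    simp only [perp, n] at this
    omega

end Groth.Agent.S15159
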