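import Groth.Statements.S1516
import Groth.Agent.L23.InfGlue
-- import your own Groth.Agent.* helpers here

set_option autoImplicit false
set_option backward.isDefEq.respectTransparency.types false
universe u
open FlatMor

namespace Groth.Agent.S1516

open AlgebraicGeometry CategoryTheory Limits in
/-- Let f : X → S be formally étale (unique infinitesimal lifting against first order thickenings of
affine schemes). Then for every first order thickening t : T → T' of schemes and every commutative
square with T → X on top and T' → S at the bottom there is exactly one lift T' → X. -/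
theorem result {X S : Scheme.{u}} (f : X ⟶ S) (hf : MoreMor.IsFormallyEtaleHom f)
    {T T' : Scheme.{u}} (t : T ⟶ T') (ht : MoreMor.IsFirstOrderThickening t) (a : T ⟶ X) (b : T' ⟶ S) (w : t ≫ b = a ≫ f) :
    ∃! l : T' ⟶ X, t ≫ l = a ∧ l ≫ f = b := by
  let U : Over S := Over.mk f
  let V : Over S := Over.mk (𝟙 S)
  let h : U ⟶ V := Over.homMk f (Category.comp_id f)
  let T₁ : Over S := Over.mk (t ≫ b)
  let T₂ : Over S := Over.mk b
  let j : T₁ ⟶ T₂ := Over.homMk t rfl
  let a' : T₁ ⟶ U := Over.homMk a w.symm
  let b' : T₂ ⟶ V := Over.homMk b (Category.comp_id b)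
  obtain ⟨l, ⟨h1, h2⟩, hu⟩ := Groth.L23.existsUnique_lift_of_chart (S := S) (X := (AlgSp.yon S).obj U)
    (Y := (AlgSp.yon S).obj V) (f := (AlgSp.yon S).map h) (a := (AlgSp.yon S).map (𝟙 U))
    (b := (AlgSp.yon S).map (𝟙 V)) (h := h)
    (Groth.L23.repWith_map (show Etale (𝟙 X) from inferInstance))
    (Groth.L23.repWith_map (show Surjective (𝟙 X) from inferInstance))
    (Groth.L23.repWith_map (show Etale (𝟙 S) from inferInstance))
    (by simp) hf j ht ((AlgSp.yon S).map a') ((AlgSp.yon S).map b')
    (by rw [← Functor.map_comp, ← Functor.map_comp]; exact congrArg _ (Over.OverMorphism.ext w.symm))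
  obtain ⟨l, rfl⟩ := (AlgSp.yon S).map_surjective l
  rw [← Functor.map_comp] at h1 h2
  refine ⟨l.left, ⟨congr($((AlgSp.yon S).map_injective h1).left), congr($((AlgSp.yon S).map_injective h2).left)⟩,
    fun m hm => ?_⟩
  let m' : T₂ ⟶ U := Over.homMk m hm.2
  have e := hu ((AlgSp.yon S).map m')
    ⟨(Functor.map_comp _ _ _).symm.trans (congrArg _ (Over.OverMorphism.ext hm.1)),
      (Functor.map_comp _ _ _).symm.trans (congrArg _ (Over.OverMorphism.ext hm.2))⟩
  exact congr($((AlgSp.yon S).map_injective e).left)

end Groth.Agent.S1516
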