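import Groth.Statements.S15160
import Groth.Agent.L21.InvBundle.Cover
import Mathlib.Analysis.Complex.Polynomial.Basic

set_option autoImplicit false
set_option backward.isDefEq.respectTransparency false
set_option linter.style.haveILetI false
open CategoryTheory CategoryTheory.Limits AlgebraicGeometry
open VBCurve

namespace Groth.Agent.S15160

/-- Let π : X → Y be a ramified double cover of smooth proper integral curves over the complex numbers
(π finite flat of constant rank 2 over the complex numbers and not étale) with covering involution σ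
(σ ∘ σ = id, σ ≠ id, π ∘ σ = π), E a finite locally free module of rank r ≥ 1 on Y and i : F → π^*E
a subbundle (a monomorphism whose cokernel is finite locally free). Then F descends to Y as a
subbundle of E — there are a monomorphism i' : F' → E and an isomorphism π^*F' ≅ F carrying π^*i' to
i — if and only if the canonical linearization σ^*π^*E ≅ π^*E, induced by π ∘ σ = π, restricts to a
morphism σ^*F → F. -/
theorem result
    (X Y : Scheme.{0}) [X.Over (Spec (CommRingCat.of ℂ))] [Y.Over (Spec (CommRingCat.of ℂ))]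
    [IsIntegral X] [IsProper (X ↘ Spec (CommRingCat.of ℂ))] [Smooth (X ↘ Spec (CommRingCat.of ℂ))] (hdimX : topologicalKrullDim X = 1)
    [IsIntegral Y] [IsProper (Y ↘ Spec (CommRingCat.of ℂ))] [Smooth (Y ↘ Spec (CommRingCat.of ℂ))] (hdimY : topologicalKrullDim Y = 1)
    (π : X ⟶ Y) [IsFinite π] [Flat π] (hπ : π ≫ (Y ↘ Spec (CommRingCat.of ℂ)) = X ↘ Spec (CommRingCat.of ℂ))
    (hrk : ∀ y : ↥Y, Scheme.Hom.finrank π y = 2) (hram : ¬ Etale π)
    (σ : X ⟶ X) (hσS : σ ≫ (X ↘ Spec (CommRingCat.of ℂ)) = X ↘ Spec (CommRingCat.of ℂ)) (hσ : σ ≫ σ = 𝟙 X) (hσ1 : σ ≠ 𝟙 X) (hσπ : σ ≫ π = π)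
    (r : ℕ) (hr : 0 < r) (E : Y.Modules) (hE : FlatMod.IsFinLocFreeOfRank r E)
    (F : X.Modules) (i : F ⟶ (Scheme.Modules.pullback π).obj E) [Mono i]
    (hsub : FlatMod.IsFinLocFree (cokernel i)) :
    (∃ (F' : Y.Modules) (i' : F' ⟶ E) (e : (Scheme.Modules.pullback π).obj F' ≅ F),
        Mono i' ∧ e.hom ≫ i = (Scheme.Modules.pullback π).map i') ↔
    ∃ j : (Scheme.Modules.pullback σ).obj F ⟶ F,
      j ≫ i = (Scheme.Modules.pullback σ).map i ≫ (Scheme.Modules.pullbackComp σ π).hom.app E ≫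
        (Scheme.Modules.pullbackCongr hσπ).hom.app E := by
  haveI := Groth.L21.RR.isNoetherian_of_proper (X := X) ℂ
  haveI := Groth.L21.RR.isNoetherian_of_proper (X := Y) ℂ
  haveI : X.IsSeparated := Groth.L21.CastSev.isSeparated_of_proper (k := ℂ) (Y := X)
  haveI : LocallyOfFinitePresentation π := inferInstance
  haveI : IsIso σ := ⟨σ, hσ, hσ⟩
  have h := Groth.L21.DoubleCover.invQuot_of_doubleCover hrk
    (Groth.L12.HypInvol.isUnit_two_sections (k := ℂ) (Y := Y) two_ne_zero) hσ1 hσπ
  constructor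
  · rintro ⟨F', i', e, -, he⟩
    refine ⟨(Scheme.Modules.pullback σ).map e.inv ≫ Groth.L21.InvBundle.lin hσπ F' ≫ e.hom, ?_⟩
    have hnat : (Scheme.Modules.pullback σ).map ((Scheme.Modules.pullback π).map i') ≫
        Groth.L21.InvBundle.lin hσπ E = Groth.L21.InvBundle.lin hσπ F' ≫ (Scheme.Modules.pullback π).map i' :=
      ((Scheme.Modules.pullbackComp σ π).hom ≫ (Scheme.Modules.pullbackCongr hσπ).hom).naturality i'
    have hi : (Scheme.Modules.pullback σ).map i = (Scheme.Modules.pullback σ).map e.inv ≫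
        (Scheme.Modules.pullback σ).map ((Scheme.Modules.pullback π).map i') := by
      rw [← Functor.map_comp, ← he, e.inv_hom_id_assoc]
    rw [Category.assoc, Category.assoc, he, ← hnat, ← Category.assoc, ← hi]
    rfl
  · rintro ⟨j, hj⟩
    obtain ⟨V, n, b, hV, hxV, -, hb⟩ := Groth.L19.ProjBdl.exists_basisOn
      (Groth.L22.CurveDeg.isFinLocFree_of_rank hE) (π (genericPoint X)) ⊤ trivial
    have hP := Groth.L21.Bundle.isCoh_of_rank (Groth.L12.StabLimit.isFinLocFreeOfRank_pullback π hE)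
    haveI : Coh.IsQCoh ((Scheme.Modules.pullback π).obj E) := hP.1
    have hQ : Coh.IsCoh (cokernel i) := Groth.L16.NegPow.isCoh_of_isFinLocFree hsub
    have hF : Coh.IsCoh F := Groth.L16.CohSupport.isCoh_of_iso
      ((Abelian.monoIsKernelOfCokernel _ (cokernelIsCokernel i)).conePointUniqueUpToIso (kernelIsKernel (cokernel.π i))).symm
      (Groth.L21.Bundle.coh_kernel hP hQ _)
    obtain ⟨r', F', i', hi', -, hmono, ⟨ψ, hψ⟩, -, hχ⟩ := Groth.L21.InvBundle.descend h
      (Groth.L21.InvBundle.map_generic (σ := σ)) hb hxV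
      (fun x => Groth.L21.Smooth.regular_stalk (X ↘ Spec (CommRingCat.of ℂ)) x) hdimX.le
      (fun y => Groth.L21.Smooth.regular_stalk (Y ↘ Spec (CommRingCat.of ℂ)) y) hdimY.le hσ1 hV hE hF i fun g => by
        obtain ⟨u, hu⟩ := Groth.L21.InvBundle.tw_mem_range_conj hσπ hb (genericPoint X)
          Groth.L21.InvBundle.map_generic hxV i g
        refine ⟨Groth.L21.RR.st j _ u, ?_⟩
        rw [← Groth.L21.RR.st_comp, hj]
        exact hu
    obtain ⟨χ, hχ'⟩ := hχ inferInstance hsub
    haveI := hmono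
    refine ⟨F', i', ⟨χ, ψ, ?_, ?_⟩, hi', hχ'⟩
    · rw [← cancel_mono ((Scheme.Modules.pullback π).map i'), Category.assoc, hψ, hχ', Category.id_comp]
    · rw [← cancel_mono i, Category.assoc, hχ', hψ, Category.id_comp]

end Groth.Agent.S15160
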