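import Groth.Statements.S15162
import Mathlib.LinearAlgebra.Matrix.NonsingularInverse
import Mathlib.LinearAlgebra.Matrix.ToLinearEquiv
import Mathlib.GroupTheory.OrderOfElement
import Mathlib.Tactic.FinCases
import Mathlib.Tactic.Ring
import Mathlib.Tactic.LinearCombination
import Mathlib.Tactic.FieldSimp
import Mathlib.Algebra.BigOperators.Ring.Finset

set_option autoImplicit false
open Matrix
open BddFin

namespace Groth.Agent.S15162

theorem eq_one_of_det_one (M : Matrix (Fin 2) (Fin 2) ℤ) (hd : M.det = 1) (m : ℕ) (hm : 0 < m)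
    (hp : M ^ m = 1) (v : Fin 2 → ℤ) (hv : v ≠ 0) (hfix : M *ᵥ v = v) : M = 1 := by
  have h0 : (M - 1).det = 0 :=
    Matrix.exists_mulVec_eq_zero_iff.1 ⟨v, hv, by rw [Matrix.sub_mulVec, hfix, Matrix.one_mulVec, sub_self]⟩
  simp [Matrix.det_fin_two] at h0
  rw [Matrix.det_fin_two] at hd
  have hN : (M - 1) * (M - 1) = 0 := by
    have ht : M 0 0 + M 1 1 = 2 := by linarith
    ext i j
    fin_cases i <;> fin_cases j <;> simp [Matrix.mul_apply, Fin.sum_univ_two] <;> grind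
  have hk : ∀ k : ℕ, M ^ k = 1 + (k : ℤ) • (M - 1) := by
    intro k
    induction k with
    | zero => simp
    | succ k ih =>
      rw [pow_succ, ih]
      have : (M - 1) * M = M - 1 := by
        calc (M - 1) * M = (M - 1) * ((M - 1) + 1) := by rw [sub_add_cancel]
          _ = M - 1 := by rw [mul_add, hN, zero_add, mul_one]
      rw [add_mul, one_mul, smul_mul_assoc, this]
      push_cast
      rw [add_smul, one_smul]
      abel
  have := (hk m).symm.trans hp
  rw [add_eq_left, smul_eq_zero] at this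
  rcases this with h | h
  · omega
  · exact sub_eq_zero.1 h

/-- Let Γ be a finite subgroup of GL_2(ℤ) acting on ℤ² by matrix multiplication. If every element of Γ
has a non-zero fixed vector in ℤ², then there is a non-zero vector of ℤ² fixed by all of Γ. -/
theorem result
    (Γ : Subgroup (Matrix.GeneralLinearGroup (Fin 2) ℤ)) [Finite Γ]
    (h : ∀ γ ∈ Γ, ∃ v : Fin 2 → ℤ, v ≠ 0 ∧ (γ : Matrix (Fin 2) (Fin 2) ℤ) *ᵥ v = v) :
    ∃ v : Fin 2 → ℤ, v ≠ 0 ∧ ∀ γ ∈ Γ, (γ : Matrix (Fin 2) (Fin 2) ℤ) *ᵥ v = v := by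
  classical
  by_cases hall : ∀ γ ∈ Γ, γ = 1
  · refine ⟨![1, 0], by intro h; simpa using congrFun h 0, fun γ hγ => ?_⟩
    rw [hall γ hγ]; simp
  push Not at hall
  obtain ⟨g, hg, hg1⟩ := hall
  obtain ⟨v, hv, hgv⟩ := h g hg
  have hdet : ∀ γ ∈ Γ, γ ≠ 1 → (γ : Matrix (Fin 2) (Fin 2) ℤ).det = -1 := by
    intro γ hγ hne
    have hu : IsUnit (γ : Matrix (Fin 2) (Fin 2) ℤ).det :=
      (Matrix.isUnit_iff_isUnit_det _).1 γ.isUnit
    rcases Int.isUnit_iff.1 hu with hd | hd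
    · exfalso
      obtain ⟨u, hu0, hu1⟩ := h γ hγ
      have hp : γ ^ Nat.card Γ = 1 := congrArg Subtype.val (pow_card_eq_one' (x := (⟨γ, hγ⟩ : Γ)))
      exact hne (Units.ext (eq_one_of_det_one _ hd _ Nat.card_pos
        (by rw [← Units.val_pow_eq_pow_val, hp]; rfl) u hu0 hu1))
    · exact hd
  refine ⟨v, hv, fun γ hγ => ?_⟩
  by_cases hγ1 : γ = 1
  · subst hγ1; simp
  suffices γ = g by rw [this, hgv]
  by_contra hne
  have hne' : γ * g⁻¹ ≠ 1 := fun h => hne (mul_inv_eq_one.1 h)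
  have h1 := hdet _ (Γ.mul_mem hγ (Γ.inv_mem hg)) hne'
  have hginv : g⁻¹ ≠ 1 := by simpa using hg1
  rw [Units.val_mul, Matrix.det_mul, hdet γ hγ hγ1, hdet _ (Γ.inv_mem hg) hginv] at h1
  norm_num at h1

end Groth.Agent.S15162
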