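import Groth.Statements.S15163
import Groth.Agent.S15162
import Mathlib.LinearAlgebra.Matrix.NonsingularInverse
import Mathlib.LinearAlgebra.Matrix.ToLinearEquiv
import Mathlib.Algebra.CharP.Basic
import Mathlib.GroupTheory.OrderOfElement
import Mathlib.Tactic.FinCases
import Mathlib.Tactic.Ring
import Mathlib.Tactic.LinearCombination
import Mathlib.Tactic.FieldSimp
import Mathlib.Algebra.BigOperators.Ring.Finset

set_option autoImplicit false
open Matrix
open BddFin

namespace Groth.Agent.S15163

theorem trace_bound (M : Matrix (Fin 2) (Fin 2) ℤ) (hd : M.det = 1) (m : ℕ) (hm : 0 < m)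
    (hp : M ^ m = 1) : |M.trace| ≤ 2 := by
  by_contra hlt
  push Not at hlt
  have hCH : M * M = M.trace • M - 1 := by
    rw [Matrix.det_fin_two] at hd
    ext i j
    simp only [Matrix.mul_apply, Fin.sum_univ_two, Matrix.trace_fin_two, Matrix.sub_apply,
      Matrix.smul_apply, smul_eq_mul, Matrix.one_apply]
    fin_cases i <;> fin_cases j <;> simp <;> linarith
  have hrec : ∀ k : ℕ, (M ^ (k + 2)).trace = M.trace * (M ^ (k + 1)).trace - (M ^ k).trace := by
    intro k
    rw [pow_add, pow_two, hCH, mul_sub, mul_one, Matrix.mul_smul, Matrix.trace_sub,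
      Matrix.trace_smul, ← pow_succ, smul_eq_mul]
  have hinc : ∀ k : ℕ, |(M ^ k).trace| < |(M ^ (k + 1)).trace| := by
    intro k
    induction k with
    | zero => simpa using hlt
    | succ k ih =>
      rw [show k + 1 + 1 = k + 2 from rfl, hrec]
      have h1 := abs_sub_abs_le_abs_sub (M.trace * (M ^ (k + 1)).trace) (M ^ k).trace
      rw [abs_mul] at h1
      have h2 : 0 ≤ |(M ^ (k + 1)).trace| := abs_nonneg _
      nlinarith
  have hle : StrictMono fun k => |(M ^ k).trace| := strictMono_nat_of_lt_succ hinc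
  have := hle hm
  simp [hp] at this

/-- Let Γ be a finite subgroup of GL_2(ℤ) and d > 6 an integer. Suppose some vector w of (ℤ/dℤ)², with
m·w ≠ 0 for all 0 < m < d, is fixed by the reduction modulo d of every element of Γ. Then some
non-zero vector of ℤ² is fixed by all of Γ. -/
theorem result
    (Γ : Subgroup (Matrix.GeneralLinearGroup (Fin 2) ℤ)) [Finite Γ] (d : ℕ) (hd : 6 < d)
    (w : Fin 2 → ZMod d) (hw : ∀ m : ℕ, 0 < m → m < d → m • w ≠ 0)
    (hfix : ∀ γ ∈ Γ, ((γ : Matrix (Fin 2) (Fin 2) ℤ).map (Int.castRingHom (ZMod d))) *ᵥ w = w) :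
    ∃ v : Fin 2 → ℤ, v ≠ 0 ∧ ∀ γ ∈ Γ, (γ : Matrix (Fin 2) (Fin 2) ℤ) *ᵥ v = v := by
  haveI : NeZero d := ⟨by omega⟩
  refine Groth.Agent.S15162.result Γ fun γ hγ => ?_
  set M := (γ : Matrix (Fin 2) (Fin 2) ℤ) with hM
  suffices (M - 1).det = 0 by
    obtain ⟨v, hv, hv0⟩ := Matrix.exists_mulVec_eq_zero_iff.2 this
    exact ⟨v, hv, by rwa [Matrix.sub_mulVec, Matrix.one_mulVec, sub_eq_zero] at hv0⟩
  have hp : M ^ Nat.card Γ = 1 := by
    have := congrArg Subtype.val (pow_card_eq_one' (x := (⟨γ, hγ⟩ : Γ)))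
    rw [hM, ← Units.val_pow_eq_pow_val]
    exact congrArg Units.val this
  have hdvd : (d : ℤ) ∣ (M - 1).det := by
    rw [← ZMod.intCast_zmod_eq_zero_iff_dvd]
    set φ := Int.castRingHom (ZMod d) with hφ
    set P := (M - 1).map φ with hP
    have h1 : P *ᵥ w = 0 := by
      have : P = M.map φ - 1 := by
        rw [hP]
        exact map_sub φ.mapMatrix M 1 |>.trans (by rw [map_one]; rfl)
      rw [this, Matrix.sub_mulVec, hfix γ hγ, Matrix.one_mulVec, sub_self]
    have h2 : P.det • w = 0 := by
      have := congrArg (fun u => P.adjugate *ᵥ u) h1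
      simpa [Matrix.mulVec_mulVec, Matrix.adjugate_mul, Matrix.smul_mulVec] using this
    have h3 : P.det.val • w = 0 := by
      funext i
      have := congrFun h2 i
      simpa [nsmul_eq_mul] using this
    have h4 : P.det = φ (M - 1).det := (RingHom.map_det φ (M - 1)).symm
    by_contra hne
    refine hw P.det.val (Nat.pos_of_ne_zero fun h => hne ?_) (ZMod.val_lt _) h3
    rw [ZMod.val_eq_zero, h4] at h
    simpa [hφ] using h
  have hu : IsUnit M.det := (Matrix.isUnit_iff_isUnit_det _).1 γ.isUnit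
  have key : |(M - 1).det| < d := by
    have hd' : (6 : ℤ) < d := by exact_mod_cast hd
    have he : (M - 1).det = 1 - M.trace + M.det := by
      simp [Matrix.det_fin_two, Matrix.trace_fin_two]; ring
    rcases Int.isUnit_iff.1 hu with h | h
    · have := abs_le.1 (trace_bound M h _ Nat.card_pos hp)
      rw [he, h, abs_lt]; omega
    · have h2 := trace_bound (M ^ 2) (by rw [Matrix.det_pow, h]; norm_num) _ Nat.card_pos
        (by rw [← pow_mul, mul_comm, pow_mul, hp, one_pow])
      have ht : (M ^ 2).trace = M.trace ^ 2 - 2 * M.det := by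
        simp [Matrix.trace_fin_two, Matrix.det_fin_two, pow_two, Matrix.mul_apply, Fin.sum_univ_two]; ring
      rw [ht, h] at h2
      have := abs_le.1 h2
      have ht0 : M.trace = 0 := by nlinarith [sq_nonneg M.trace]
      rw [he, h, ht0]; norm_num; omega
  exact Int.eq_zero_of_abs_lt_dvd hdvd key

end Groth.Agent.S15163
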