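import Groth.Statements.S15164
import Groth.Agent.L15.Aniso
import Mathlib.Algebra.CharP.Lemmas
import Mathlib.Tactic.Ring
import Mathlib.Tactic.LinearCombination
import Mathlib.Tactic.FieldSimp
import Mathlib.Algebra.BigOperators.Ring.Finset

set_option autoImplicit false
universe u v
open BddFin

namespace Groth.Agent.S15164

/-- Let K be a field of characteristic p > 2, V a finite-dimensional K-vector space and q a quadratic
form on V that does not represent zero (q x = 0 only for x = 0). Then the group of K-linear
automorphisms of V preserving q has no element of order p: if g preserves q and g ^ p = 1 then g =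
1. (Non-degeneracy of q, also assumed in the published statement, follows from anisotropy since 2 is
invertible, so it is not repeated here.) -/
theorem result
    (K : Type u) [Field K] (p : ℕ) [Fact p.Prime] [CharP K p] (hp : p ≠ 2)
    (V : Type v) [AddCommGroup V] [Module K V] [FiniteDimensional K V]
    (q : QuadraticForm K V) (hq : q.Anisotropic)
    (g : V ≃ₗ[K] V) (hg : ∀ x : V, q (g x) = q x) (hgp : g ^ p = 1) : g = 1 := by
  have hp0 : 0 < p := (Fact.out : p.Prime).pos
  have h2 : (2 : K) ≠ 0 := by
    have := (CharP.cast_eq_zero_iff K p 2).not.2 fun h =>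
      hp ((Nat.prime_dvd_prime_iff_eq Fact.out Nat.prime_two).1 h)
    simpa using this
  have hsp : (Polynomial.X ^ p - 1 : Polynomial K).Splits := by
    rw [show (Polynomial.X ^ p - 1 : Polynomial K) = (Polynomial.X - Polynomial.C 1) ^ p by
      rw [sub_pow_char, map_one, one_pow]]
    exact (Polynomial.Splits.X_sub_C (1 : K)).pow p
  have hfd : (g.toLinearMap : Module.End K V) ^ p = 1 := by
    ext x
    rw [Module.End.coe_pow]
    have := LinearEquiv.congr_fun hgp x
    simpa [LinearEquiv.coe_pow] using this
  have h := Groth.L15.sq_eq_one_of_pow_eq_one h2 q hq g.toLinearMap hg p hp0 hsp hfd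
  have hg2 : g ^ 2 = 1 := by
    apply LinearEquiv.ext
    intro x
    simpa [pow_two] using LinearMap.congr_fun h x
  obtain ⟨k, hk⟩ := (Fact.out : p.Prime).odd_of_ne_two hp
  rw [hk, pow_add, pow_mul, hg2, one_pow, one_mul, pow_one] at hgp
  exact hgp

end Groth.Agent.S15164
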