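import Groth.Statements.S15165
import Groth.Agent.L15.Aniso
import Mathlib.Tactic.Ring
import Mathlib.Tactic.LinearCombination
import Mathlib.Tactic.FieldSimp
import Mathlib.Algebra.BigOperators.Ring.Finset

set_option autoImplicit false
universe u v
open Polynomial
open BddFin

namespace Groth.Agent.S15165

/-- Let K be a field of characteristic different from 2 such that K contains all roots of unity (for
every n ≥ 1 the polynomial X^n − 1 splits into linear factors over K), V a finite-dimensional
K-vector space and q a quadratic form on V that does not represent zero. If a K-linear automorphism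
g of V preserves q and has finite order (g ^ d = 1 for some d ≥ 1), then g ^ 2 = 1. (The published
statement also covers perfect fields of characteristic 2; this row is the case of characteristic ≠
2.) -/
theorem result
    (K : Type u) [Field K] (hK : ∀ n : ℕ, 0 < n → (X ^ n - 1 : K[X]).Splits) (h2 : (2 : K) ≠ 0)
    (V : Type v) [AddCommGroup V] [Module K V] [FiniteDimensional K V]
    (q : QuadraticForm K V) (hq : q.Anisotropic)
    (g : V ≃ₗ[K] V) (hg : ∀ x : V, q (g x) = q x) (d : ℕ) (hd : 0 < d) (hgd : g ^ d = 1) :
    g ^ 2 = 1 := by
  have hfd : (g.toLinearMap : Module.End K V) ^ d = 1 := by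
    ext x
    rw [Module.End.coe_pow]
    have := LinearEquiv.congr_fun hgd x
    simpa [LinearEquiv.coe_pow] using this
  have h := Groth.L15.sq_eq_one_of_pow_eq_one h2 q hq g.toLinearMap hg d hd (hK d hd) hfd
  apply LinearEquiv.ext
  intro x
  simpa [pow_two] using LinearMap.congr_fun h x

end Groth.Agent.S15165
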