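import Groth.Statements.S15166
import Groth.Agent.L15.Aniso
import Mathlib.GroupTheory.OrderOfElement
import Mathlib.Tactic.Ring
import Mathlib.Tactic.LinearCombination
import Mathlib.Tactic.FieldSimp
import Mathlib.Algebra.BigOperators.Ring.Finset

set_option autoImplicit false
universe u v
open Polynomial
open BddFin

namespace Groth.Agent.S15166

/-- Let K be a field of characteristic different from 2 such that K contains all roots of unity (for
every n ≥ 1 the polynomial X^n − 1 splits into linear factors over K), V a finite-dimensional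
K-vector space and q a quadratic form on V that does not represent zero. Then every finite subgroup
of the group of K-linear automorphisms of V preserving q is abelian and has order at most 2 ^ (dim
V). (The published statement also covers perfect fields of characteristic 2; this row is the case of
characteristic ≠ 2.) -/
theorem result
    (K : Type u) [Field K] (hK : ∀ n : ℕ, 0 < n → (X ^ n - 1 : K[X]).Splits) (h2 : (2 : K) ≠ 0)
    (V : Type v) [AddCommGroup V] [Module K V] [FiniteDimensional K V]
    (q : QuadraticForm K V) (hq : q.Anisotropic)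
    (G : Subgroup (V ≃ₗ[K] V)) [Finite G] (hG : ∀ g ∈ G, ∀ x : V, q (g x) = q x) :
    (∀ g ∈ G, ∀ h ∈ G, g * h = h * g) ∧ Nat.card G ≤ 2 ^ Module.finrank K V := by
  classical
  have := Fintype.ofFinite G
  have hsq : ∀ g ∈ G, (g.toLinearMap : Module.End K V) * g.toLinearMap = 1 := by
    intro g hg
    have hd : 0 < Nat.card G := Nat.card_pos
    have hgd : g ^ Nat.card G = 1 := by
      exact congrArg Subtype.val (pow_card_eq_one' (x := (⟨g, hg⟩ : G)))
    refine Groth.L15.sq_eq_one_of_pow_eq_one h2 q hq g.toLinearMap (hG g hg) _ hd (hK _ hd) ?_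
    ext x
    rw [Module.End.coe_pow]
    have := LinearEquiv.congr_fun hgd x
    simpa [LinearEquiv.coe_pow] using this
  have hsq' : ∀ g ∈ G, g * g = 1 := fun g hg =>
    LinearEquiv.ext fun x => LinearMap.congr_fun (hsq g hg) x
  have hcomm : ∀ g ∈ G, ∀ h ∈ G, g * h = h * g := by
    intro g hg h hh
    have hi : ∀ a ∈ G, a⁻¹ = a := fun a ha => inv_eq_of_mul_eq_one_right (hsq' a ha)
    calc g * h = (g * h)⁻¹ := (hi _ (G.mul_mem hg hh)).symm
      _ = h * g := by rw [mul_inv_rev, hi g hg, hi h hh]
  refine ⟨hcomm, ?_⟩
  let φ : G → Module.End K V := fun g => g.1.toLinearMap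
  have hφ : Function.Injective φ := fun a b h => Subtype.ext (LinearEquiv.toLinearMap_injective h)
  have := Groth.L15.card_le_of_involutions h2 _ V rfl (Finset.univ.image φ)
    (by
      intro f hf
      obtain ⟨a, -, rfl⟩ := Finset.mem_image.1 hf
      exact hsq a.1 a.2)
    (by
      intro f hf f' hf'
      obtain ⟨a, -, rfl⟩ := Finset.mem_image.1 hf
      obtain ⟨b, -, rfl⟩ := Finset.mem_image.1 hf'
      ext x
      exact LinearEquiv.congr_fun (hcomm a.1 a.2 b.1 b.2) x)
  rw [Finset.card_image_of_injective _ hφ, Finset.card_univ] at this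
  rwa [Nat.card_eq_fintype_card]

end Groth.Agent.S15166
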