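import Groth.Statements.S15167
import Groth.Agent.L15.CSADim
import Mathlib.FieldTheory.IsAlgClosed.AlgebraicClosure
import Mathlib.RingTheory.Polynomial.UniqueFactorization
import Mathlib.FieldTheory.Minpoly.Field
import Mathlib.Algebra.Algebra.Bilinear
import Mathlib.Tactic.Ring
import Mathlib.Tactic.LinearCombination
import Mathlib.Tactic.FieldSimp
import Mathlib.Algebra.BigOperators.Ring.Finset

set_option autoImplicit false
universe u v
open Polynomial
open BddFin

namespace Groth.Agent.S15167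

theorem factors_form {K : Type u} [Field K] (hK : ∀ n : ℕ, 0 < n → (X ^ n - 1 : K[X]).Splits)
    (m : ℕ) (hm : 0 < m) (c : K) (hc : c ≠ 0) :
    ∃ r : ℕ, 0 < r ∧ ∀ g : K[X], g.Monic → Irreducible g → g ∣ X ^ m - C c →
      g.natDegree = r ∧ g = X ^ r - C (-g.coeff 0) := by
  classical
  let Ω := AlgebraicClosure K
  have hP0 : (X ^ m - C c : K[X]).degree ≠ 0 := by
    rw [degree_X_pow_sub_C hm]; exact_mod_cast hm.ne'
  obtain ⟨α, hα⟩ := IsAlgClosed.exists_aeval_eq_zero Ω (X ^ m - C c : K[X]) hP0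
  have hαm : α ^ m = algebraMap K Ω c := by simpa [sub_eq_zero] using hα
  have hα0 : α ≠ 0 := by
    intro h
    rw [h, zero_pow hm.ne'] at hαm
    exact hc ((map_eq_zero_iff _ (algebraMap K Ω).injective).1 hαm.symm)
  set rg := (algebraMap K Ω).fieldRange with hrg
  have hrel : ∀ β : Ω, β ^ m = algebraMap K Ω c → ∃ z ∈ rg, z ≠ 0 ∧ β = z * α := by
    intro β hβ
    have h1 : (β / α) ^ m = 1 := by
      rw [div_pow, hβ, hαm, div_self]
      exact (map_ne_zero_iff _ (algebraMap K Ω).injective).2 hc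
    obtain ⟨k, hk⟩ := (hK m hm).mem_range_of_isRoot
      (show (X ^ m - 1 : K[X]) ≠ 0 by simpa using X_pow_sub_C_ne_zero hm (1 : K))
      (i := algebraMap K Ω) (x := β / α) (by simp [h1])
    refine ⟨β / α, ⟨k, hk⟩, ?_, (div_mul_cancel₀ β hα0).symm⟩
    intro h
    rw [h, zero_pow hm.ne'] at h1
    exact zero_ne_one h1
  have hex : ∃ r, 0 < r ∧ α ^ r ∈ rg := ⟨m, hm, c, hαm.symm⟩
  set r := Nat.find hex with hr
  have hr1 : 0 < r ∧ α ^ r ∈ rg := Nat.find_spec hex
  refine ⟨r, hr1.1, fun g hgm hgi hgd => ?_⟩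
  obtain ⟨β, hβ⟩ := IsAlgClosed.exists_aeval_eq_zero Ω g (degree_pos_of_irreducible hgi).ne'
  have hroot : ∀ γ : Ω, aeval γ g = 0 → γ ^ m = algebraMap K Ω c := by
    intro γ hγ
    obtain ⟨q, hq⟩ := hgd
    have := congrArg (aeval γ) hq
    rw [map_mul, hγ, zero_mul] at this
    simpa [sub_eq_zero] using this
  obtain ⟨z, hz, hz0, rfl⟩ := hrel β (hroot β hβ)
  have hzr : (z * α) ^ r ∈ rg := by rw [mul_pow]; exact rg.mul_mem (pow_mem hz r) hr1.2
  obtain ⟨a, ha⟩ := hzr
  have hdvd : g ∣ X ^ r - C a := by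
    rw [minpoly.eq_of_irreducible_of_monic hgi hβ hgm]
    apply minpoly.dvd
    simp [ha]
  have hle : g.natDegree ≤ r := by
    have := natDegree_le_of_dvd hdvd (X_pow_sub_C_ne_zero hr1.1 a)
    rwa [natDegree_X_pow_sub_C] at this
  have hsp : (g.map (algebraMap K Ω)).Splits := IsAlgClosed.splits _
  have hgm' := hgm.map (algebraMap K Ω)
  have hmem : ∀ γ ∈ (g.map (algebraMap K Ω)).roots, ∃ w ∈ rg, w ≠ 0 ∧ γ = w * α := by
    intro γ hγ
    rw [mem_roots hgm'.ne_zero, IsRoot.def, eval_map, ← aeval_def] at hγ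
    exact hrel γ (hroot γ hγ)
  have hcard : (g.map (algebraMap K Ω)).roots.card = g.natDegree := by
    rw [← hsp.natDegree_eq_card_roots, natDegree_map]
  have hprod : ∀ s : Multiset Ω, (∀ γ ∈ s, ∃ w ∈ rg, w ≠ 0 ∧ γ = w * α) →
      ∃ w ∈ rg, w ≠ 0 ∧ s.prod = w * α ^ s.card := by
    intro s
    induction s using Multiset.induction with
    | empty => intro _; exact ⟨1, rg.one_mem, one_ne_zero, by simp⟩
    | cons γ s ih =>
      intro hs
      obtain ⟨w, hw, hw0, rfl⟩ := hs _ (Multiset.mem_cons_self _ _)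
      obtain ⟨w', hw', hw'0, hp⟩ := ih fun δ hδ => hs δ (Multiset.mem_cons_of_mem hδ)
      refine ⟨w * w', rg.mul_mem hw hw', mul_ne_zero hw0 hw'0, ?_⟩
      rw [Multiset.prod_cons, hp, Multiset.card_cons, pow_succ]
      ring
  obtain ⟨w, hw, hw0, hpw⟩ := hprod _ hmem
  rw [hcard] at hpw
  have hco := hsp.coeff_zero_eq_prod_roots_of_monic hgm'
  rw [coeff_map, natDegree_map, hpw] at hco
  have hαd : α ^ g.natDegree ∈ rg := by
    have e : α ^ g.natDegree = algebraMap K Ω (g.coeff 0) * (-1) ^ g.natDegree * w⁻¹ := by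
      rw [hco]
      have h1 : ((-1 : Ω) ^ g.natDegree) * (-1) ^ g.natDegree = 1 := by
        rw [← mul_pow, neg_mul_neg, one_mul, one_pow]
      have h2 : w * w⁻¹ = 1 := mul_inv_cancel₀ hw0
      linear_combination (-α ^ g.natDegree * w * w⁻¹) * h1 - α ^ g.natDegree * h2
    rw [e]
    exact rg.mul_mem (rg.mul_mem ⟨_, rfl⟩ (pow_mem (rg.neg_mem rg.one_mem) _)) (rg.inv_mem hw)
  have hge : r ≤ g.natDegree := Nat.find_min' hex ⟨hgi.natDegree_pos, hαd⟩
  have hdeg : g.natDegree = r := le_antisymm hle hge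
  have heq : X ^ r - C a = g :=
    eq_of_monic_of_dvd_of_natDegree_le hgm (monic_X_pow_sub_C a hr1.1.ne') hdvd
      (by rw [natDegree_X_pow_sub_C, hdeg])
  refine ⟨hdeg, ?_⟩
  conv_lhs => rw [← heq]
  rw [← heq]
  simp [coeff_X_pow, hr1.1.ne]

/-- Let K be a field such that K contains all roots of unity (for every n ≥ 1 the polynomial X^n − 1
splits into linear factors over K), A a central simple K-algebra of dimension n ^ 2, and x an
invertible element of A some power x ^ m (m ≥ 1) of which lies in K. Then there are a positive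
integer r dividing n and elements a_i of K such that the minimal polynomial of x over K is the
product of the polynomials X ^ r − a_i. -/
theorem result
    (K : Type u) [Field K] (hK : ∀ n : ℕ, 0 < n → (X ^ n - 1 : K[X]).Splits)
    (A : Type v) [Ring A] [Algebra K A] [Algebra.IsCentral K A] [IsSimpleRing A] [FiniteDimensional K A]
    (n : ℕ) (hn : Module.finrank K A = n ^ 2)
    (x : A) (hx : IsUnit x) (hxm : ∃ m : ℕ, 0 < m ∧ x ^ m ∈ (algebraMap K A).range) :
    ∃ r : ℕ, 0 < r ∧ r ∣ n ∧ ∃ s : Multiset K, minpoly K x = (s.map fun a : K => X ^ r - C a).prod := by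
  classical
  obtain ⟨m, hm, c, hc⟩ := hxm
  have hc0 : c ≠ 0 := by
    rintro rfl
    rw [map_zero] at hc
    have := hx.pow m
    rw [← hc] at this
    exact not_isUnit_zero this
  obtain ⟨r, hr, hform⟩ := factors_form hK m hm c hc0
  set μ := minpoly K x with hμ
  have hint : IsIntegral K x := IsIntegral.of_finite K x
  have hμm : μ.Monic := minpoly.monic hint
  have hμd : μ ∣ X ^ m - C c := minpoly.dvd K x (by simp [hc])
  set s := UniqueFactorizationMonoid.normalizedFactors μ with hs
  have hsp : s.prod = μ := by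
    rw [hs, UniqueFactorizationMonoid.prod_normalizedFactors_eq hμm.ne_zero, hμm.normalize_eq_self]
  have hsf : ∀ g ∈ s, g.natDegree = r ∧ g = X ^ r - C (-g.coeff 0) ∧ Irreducible g := by
    intro g hg
    have hgi := UniqueFactorizationMonoid.irreducible_of_normalized_factor g hg
    have hgn := UniqueFactorizationMonoid.normalize_normalized_factor g hg
    have hgm : g.Monic := by rw [← hgn]; exact monic_normalize hgi.ne_zero
    have hgd := (UniqueFactorizationMonoid.dvd_of_mem_normalizedFactors hg).trans hμd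
    obtain ⟨h1, h2⟩ := hform g hgm hgi hgd
    exact ⟨h1, h2, hgi⟩
  have hdvd := Groth.L15.mul_dvd_finrank_of_prod hn r s.toList
    (fun g hg => ⟨(hsf g (Multiset.mem_toList.1 hg)).2.2, (hsf g (Multiset.mem_toList.1 hg)).1⟩)
    (Algebra.lmul K A) (LinearMap.mulRight K x)
    (fun a => LinearMap.ext fun y => by simp [mul_assoc]) (by
      rw [Multiset.prod_toList, hsp]
      apply LinearMap.ext
      intro y
      have key : ∀ P : K[X], aeval (LinearMap.mulRight K x) P y = y * aeval x P := by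
        intro P
        induction P using Polynomial.induction_on' generalizing y with
        | add p q hp hq => simp [hp, hq, mul_add]
        | monomial i b =>
          simp [aeval_monomial, LinearMap.pow_mulRight, Algebra.smul_def]
          rw [← mul_assoc, Algebra.commutes, mul_assoc]
      rw [key, minpoly.aeval, mul_zero]
      rfl)
  have hn0 : 0 < n := by
    have := Module.finrank_pos (R := K) (M := A)
    rw [hn] at this
    exact Nat.pos_of_ne_zero (by rintro rfl; simp at this)
  rw [hn, sq] at hdvd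
  refine ⟨r, hr, Nat.dvd_of_mul_dvd_mul_right hn0 hdvd, s.map fun g => -g.coeff 0, ?_⟩
  rw [Multiset.map_map, ← hsp]
  conv_lhs => rw [← Multiset.map_id s]
  congr 1
  exact Multiset.map_congr rfl fun g hg => (hsf g hg).2.1

end Groth.Agent.S15167
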