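import Groth.Statements.S15168
import Groth.Agent.S15167
import Mathlib.RingTheory.Polynomial.UniqueFactorization
import Mathlib.Tactic.Ring
import Mathlib.Tactic.LinearCombination
import Mathlib.Tactic.FieldSimp
import Mathlib.Algebra.BigOperators.Ring.Finset

set_option autoImplicit false
universe u v
open Polynomial
open BddFin

namespace Groth.Agent.S15168

theorem pow_minpoly_mem {K : Type u} [Field K] (hK : ∀ n : ℕ, 0 < n → (X ^ n - 1 : K[X]).Splits)
    {A : Type v} [DivisionRing A] [Algebra K A] [Algebra.IsCentral K A] [FiniteDimensional K A]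
    {n : ℕ} (hn : Module.finrank K A = n ^ 2) {x : A} (hx : x ≠ 0)
    (hxm : ∃ m : ℕ, 0 < m ∧ x ^ m ∈ (algebraMap K A).range) :
    ∃ r : ℕ, 0 < r ∧ r ∣ n ∧ ∃ a : K, x ^ r = algebraMap K A a ∧ Irreducible (X ^ r - C a : K[X]) := by
  classical
  obtain ⟨r, hr, hrn, s, hs⟩ :=
    Groth.Agent.S15167.result K hK A n hn x (isUnit_iff_ne_zero.2 hx) hxm
  have hint : IsIntegral K x := IsIntegral.of_finite K x
  have hirr := minpoly.irreducible hint
  have hp : Prime (minpoly K x) := hirr.prime
  obtain ⟨g, hg, hdvd⟩ := hp.exists_mem_multiset_dvd (dvd_of_eq hs)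
  obtain ⟨a, ha, rfl⟩ := Multiset.mem_map.1 hg
  have hgd : X ^ r - C a ∣ minpoly K x := hs ▸ Multiset.dvd_prod hg
  have heq : X ^ r - C a = minpoly K x :=
    eq_of_monic_of_associated (monic_X_pow_sub_C a hr.ne') (minpoly.monic hint)
      (associated_of_dvd_dvd hgd hdvd)
  refine ⟨r, hr, hrn, a, ?_, heq ▸ hirr⟩
  have := minpoly.aeval K x
  rw [← heq] at this
  simpa [sub_eq_zero] using this

/-- Let K be a field such that K contains all roots of unity (for every n ≥ 1 the polynomial X^n − 1
splits into linear factors over K), A a central division algebra of dimension n ^ 2 over K, and x an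
element of A some power x ^ m (m ≥ 1) of which lies in K. Then x ^ n lies in K; that is, the order
of the class of x in the quotient of the unit group of A by that of K divides n. -/
theorem result
    (K : Type u) [Field K] (hK : ∀ n : ℕ, 0 < n → (X ^ n - 1 : K[X]).Splits)
    (A : Type v) [DivisionRing A] [Algebra K A] [Algebra.IsCentral K A] [FiniteDimensional K A]
    (n : ℕ) (hn : Module.finrank K A = n ^ 2)
    (x : A) (hxm : ∃ m : ℕ, 0 < m ∧ x ^ m ∈ (algebraMap K A).range) :
    x ^ n ∈ (algebraMap K A).range := by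
  rcases eq_or_ne x 0 with rfl | hx
  · have hn0 : 0 < n := Nat.pos_of_ne_zero (by
      rintro rfl
      simp [Module.finrank_pos.ne'] at hn)
    rw [zero_pow hn0.ne']
    exact zero_mem _
  obtain ⟨r, hr, ⟨k, rfl⟩, a, ha, -⟩ := pow_minpoly_mem hK hn hx hxm
  exact ⟨a ^ k, by rw [map_pow, ← ha, pow_mul]⟩

end Groth.Agent.S15168
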