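import Groth.Statements.S1517
import Mathlib.RingTheory.SimpleRing.Basic
import Mathlib.RingTheory.TwoSidedIdeal.Operations
import Mathlib.LinearAlgebra.Span.Basic

set_option autoImplicit false
universe u
open Brauer

namespace Groth.Agent.S1517

/-- Let A be a ring with no nontrivial two-sided ideals and M a nonzero right ideal, viewed as a right
A-module with endomorphism ring A'. Then every A'-linear endomorphism of M is right multiplication
by exactly one element of A; that is, the natural map from A to the bicommutant of M is a bijection. -/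
theorem result (A : Type u) [Ring A] [IsSimpleRing A]
    (M : Submodule Aᵐᵒᵖ A) (hM : M ≠ ⊥)
    (g : Module.End (Module.End Aᵐᵒᵖ M) M) :
    ∃! a : A, ∀ m : M, (g m : A) = (m : A) * a := by
  classical
  have hr : ∀ m : A, m ∈ M → ∀ r : A, m * r ∈ M := fun m hm r => by simpa using M.smul_mem (MulOpposite.op r) hm
  -- two-sided ideal spanned by `M`
  let S : AddSubgroup A := AddSubgroup.closure {y | ∃ x m, m ∈ M ∧ y = x * m}
  let J : TwoSidedIdeal A := TwoSidedIdeal.mk' (S : Set A) S.zero_mem (fun h h' => S.add_mem h h') (fun h => S.neg_mem h)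
    (fun {x y} hy => by
      induction hy using AddSubgroup.closure_induction with
      | mem z hz =>
        obtain ⟨a, m, hm, rfl⟩ := hz
        exact AddSubgroup.subset_closure ⟨x * a, m, hm, (mul_assoc _ _ _).symm⟩
      | zero => simp
      | add _ _ _ _ h1 h2 => rw [mul_add]; exact S.add_mem h1 h2
      | neg _ _ h1 => rw [mul_neg]; exact S.neg_mem h1)
    (fun {x y} hx => by
      induction hx using AddSubgroup.closure_induction with
      | mem z hz =>
        obtain ⟨a, m, hm, rfl⟩ := hz
        exact AddSubgroup.subset_closure ⟨a, m * y, hr m hm y, mul_assoc _ _ _⟩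
      | zero => simp
      | add _ _ _ _ h1 h2 => rw [add_mul]; exact S.add_mem h1 h2
      | neg _ _ h1 => rw [neg_mul]; exact S.neg_mem h1)
  obtain ⟨m₀, hm₀, hne⟩ := M.ne_bot_iff.1 hM
  have hmJ : m₀ ∈ J := by
    rw [TwoSidedIdeal.mem_mk']
    exact AddSubgroup.subset_closure ⟨1, m₀, hm₀, (one_mul _).symm⟩
  have hJ : J = ⊤ := (eq_bot_or_eq_top J).resolve_left fun h => hne (by rw [h] at hmJ; exact (TwoSidedIdeal.mem_bot A).1 hmJ)
  have h1 : (1 : A) ∈ S := by
    have : (1 : A) ∈ J := hJ ▸ trivial
    rwa [TwoSidedIdeal.mem_mk'] at this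
  -- left multiplication by `y * z`
  let lam : M → A → Module.End Aᵐᵒᵖ M := fun y z =>
    { toFun := fun x => ⟨(y : A) * (z * (x : A)), hr y y.2 _⟩
      map_add' := fun x x' => Subtype.ext (by simp [mul_add])
      map_smul' := fun r x => Subtype.ext (by simp [mul_assoc]) }
  have hg : ∀ (y : M) (z : A) (x : M), (g (lam y z x) : A) = (y : A) * (z * (g x : A)) := fun y z x => by
    have := congrArg Subtype.val (map_smul g (lam y z) x)
    exact this
  have key : ∀ y : A, y ∈ S → ∃ a : A, ∀ (m : M) (hmy : (m : A) * y ∈ M), (g ⟨(m : A) * y, hmy⟩ : A) = (m : A) * a := fun y hy => by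
    induction hy using AddSubgroup.closure_induction with
    | mem z hz =>
      obtain ⟨a, x, hx, rfl⟩ := hz
      refine ⟨a * g ⟨x, hx⟩, fun m _ => ?_⟩
      rw [← hg m a ⟨x, hx⟩]
      rfl
    | zero =>
      refine ⟨0, fun m _ => ?_⟩
      simp only [mul_zero]
      exact (congrArg Subtype.val (map_zero g)).trans rfl
    | add u v _ _ h1 h2 =>
      obtain ⟨a, ha⟩ := h1
      obtain ⟨b, hb⟩ := h2
      refine ⟨a + b, fun m _ => ?_⟩
      rw [mul_add (m : A) a b, ← ha m (hr m m.2 u), ← hb m (hr m m.2 v), ← Submodule.coe_add, ← map_add]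
      congr 2
      exact Subtype.ext (mul_add _ _ _)
    | neg u _ h1 =>
      obtain ⟨a, ha⟩ := h1
      refine ⟨-a, fun m _ => ?_⟩
      rw [mul_neg (m : A) a, ← ha m (hr m m.2 u), ← Submodule.coe_neg, ← map_neg]
      congr 2
      exact Subtype.ext (mul_neg _ _)
  obtain ⟨a, ha⟩ := key 1 h1
  have hga : ∀ m : M, (g m : A) = (m : A) * a := fun m => by
    rw [← ha m (hr m m.2 1)]
    congr 2
    exact Subtype.ext (mul_one _).symm
  refine ⟨a, hga, fun b hb => ?_⟩
  let K : TwoSidedIdeal A := TwoSidedIdeal.mk' {c | ∀ m : A, m ∈ M → m * c = 0}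
    (fun m _ => mul_zero m) (fun h h' m hm => by rw [mul_add, h m hm, h' m hm, add_zero])
    (fun h m hm => by rw [mul_neg, h m hm, neg_zero])
    (fun {x y} h m hm => by rw [← mul_assoc]; exact h _ (hr m hm x))
    (fun {x y} h m hm => by rw [← mul_assoc, h m hm, zero_mul])
  have hK : K = ⊥ := (eq_bot_or_eq_top K).resolve_right fun h => hne (by
    have : (1 : A) ∈ K := h ▸ trivial
    rw [TwoSidedIdeal.mem_mk'] at this
    simpa using this m₀ hm₀)
  have hba : b - a ∈ K := by
    rw [TwoSidedIdeal.mem_mk']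
    intro m hm
    rw [mul_sub, ← hb ⟨m, hm⟩, ← hga ⟨m, hm⟩, sub_self]
  rw [hK] at hba
  exact sub_eq_zero.1 ((TwoSidedIdeal.mem_bot A).1 hba)

end Groth.Agent.S1517
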