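import Groth.Statements.S15172
import Mathlib.Algebra.Polynomial.Roots
import Mathlib.Algebra.Polynomial.BigOperators
import Mathlib.Tactic.Ring
import Mathlib.Tactic.LinearCombination
import Mathlib.Tactic.FieldSimp
import Mathlib.Algebra.BigOperators.Ring.Finset

set_option autoImplicit false
universe u v
open Polynomial
open BddFin

namespace Groth.Agent.S15172

/-- Let L be a field of characteristic p > 0 and s a finite subset of L containing 0 and closed under
addition (a finite additive subgroup). Then the polynomial f = ∏_{a ∈ s} (X - a) is additive: f (x +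
y) = f x + f y for all x, y in any commutative L-algebra (equivalently, as an identity of
polynomials in two variables). -/
theorem result
    (L : Type u) [Field L] (p : ℕ) [Fact p.Prime] [CharP L p] (s : Finset L) (h0 : (0 : L) ∈ s)
    (hadd : ∀ a ∈ s, ∀ b ∈ s, a + b ∈ s) (R : Type v) [CommRing R] [Algebra L R] (x y : R) :
    aeval (x + y) (∏ a ∈ s, (X - C a)) = aeval x (∏ a ∈ s, (X - C a)) + aeval y (∏ a ∈ s, (X - C a)) := by
  classical
  set f : L[X] := ∏ a ∈ s, (X - C a) with hf
  have hfm : f.Monic := monic_prod_of_monic _ _ fun a _ => monic_X_sub_C a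
  have hfd : f.natDegree = s.card := by
    rw [hf, natDegree_prod_of_monic _ _ fun a _ => monic_X_sub_C a]
    simp
  have hspos : 0 < s.card := Finset.card_pos.2 ⟨0, h0⟩
  have hroot : ∀ b ∈ s, f.eval b = 0 := fun b hb => by
    rw [hf, eval_prod]
    exact Finset.prod_eq_zero hb (by simp)
  have htr : ∀ b ∈ s, f.comp (C b + X) = f := by
    intro b hb
    have himg : s.image (· + b) = s := by
      apply Finset.eq_of_subset_of_card_le
      · intro a ha
        obtain ⟨a', ha', rfl⟩ := Finset.mem_image.1 ha
        exact hadd a' ha' b hb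
      · rw [Finset.card_image_of_injective _ (add_left_injective b)]
    conv_lhs => rw [hf, ← himg, Finset.prod_image (add_left_injective b).injOn]
    rw [hf, prod_comp]
    refine Finset.prod_congr rfl fun a _ => ?_
    simp only [sub_comp, add_comp, X_comp, C_comp, C_add]
    ring
  set F : L[X][X] := f.map C with hF
  have hFm : F.Monic := hfm.map C
  have hFd : F.natDegree = s.card := by
    rw [hF, natDegree_map_eq_of_injective C_injective, hfd]
  set G : L[X][X] := F.comp (X + C X) with hG
  have hGm : G.Monic := hFm.comp_X_add_C _
  have hGd : G.natDegree = s.card := by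
    rw [hG, natDegree_comp, hFd, natDegree_X_add_C, mul_one]
  have key : G - F - C f = 0 := by
    apply eq_zero_of_natDegree_lt_card_of_eval_eq_zero' _ (s.map ⟨C, C_injective⟩)
    · intro i hi
      obtain ⟨b, hb, rfl⟩ := Finset.mem_map.1 hi
      simp only [Function.Embedding.coeFn_mk, eval_sub, hG, hF, eval_comp, eval_add, eval_X, eval_C]
      rw [eval_map, eval_map, eval₂_at_apply, hroot b hb, map_zero]
      show f.comp (C b + X) - 0 - f = 0
      rw [htr b hb]
      simp
    · rw [Finset.card_map]
      rw [natDegree_sub_C]
      rcases eq_or_ne (G - F) 0 with h | h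
      · rw [h]; simpa using hspos
      · have hlt : (G - F).degree < G.degree := by
          apply degree_sub_lt _ hGm.ne_zero (by rw [hGm.leadingCoeff, hFm.leadingCoeff])
          rw [degree_eq_natDegree hGm.ne_zero, degree_eq_natDegree hFm.ne_zero, hGd, hFd]
        rw [degree_eq_natDegree hGm.ne_zero, hGd] at hlt
        rw [natDegree_lt_iff_degree_lt h]
        exact hlt
  have hφ : ((aeval y : L[X] →ₐ[L] R).toRingHom).comp C = algebraMap L R := by
    ext a; simp
  have h := congrArg (eval₂ (aeval y : L[X] →ₐ[L] R).toRingHom x) key
  simp only [eval₂_sub, eval₂_zero, hG, eval₂_comp, eval₂_add, eval₂_X, eval₂_C, hF,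
    eval₂_map, hφ] at h
  rw [sub_sub, sub_eq_zero] at h
  simpa [aeval_def] using h

end Groth.Agent.S15172
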