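import Groth.Statements.S15173
import Mathlib.FieldTheory.Perfect
import Mathlib.Algebra.CharP.Algebra
import Mathlib.GroupTheory.FiniteAbelian.Basic
import Mathlib.GroupTheory.Index
import Mathlib.GroupTheory.Subgroup.Centralizer
import Mathlib.Tactic.Ring
import Mathlib.Tactic.LinearCombination
import Mathlib.Tactic.FieldSimp
import Mathlib.Algebra.BigOperators.Ring.Finset

set_option autoImplicit false
universe u v
open Polynomial
open BddFin

namespace Groth.Agent.S15173

/-- Let K be a field of characteristic p > 0 such that K contains all roots of unity (for every n ≥ 1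
the polynomial X^n − 1 splits into linear factors over K), and A a finite-dimensional central
division algebra over K. If A contains an element w not in K with w ^ p in K, then the quotient of
the unit group of A by that of K has unbounded finite subgroups: for every N there is a subgroup H
of the units of A containing the units of K as a subgroup of finite index greater than N. (The
published statement assumes only that some element of A is inseparable over K and passes at once to
a purely inseparable subfield of degree p; this row assumes an element generating such a subfield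
directly, which is what the rest of the printed argument uses.) -/
theorem result
    (K : Type u) [Field K] (p : ℕ) [Fact p.Prime] [CharP K p] (hK : ∀ n : ℕ, 0 < n → (X ^ n - 1 : K[X]).Splits)
    (A : Type v) [DivisionRing A] [Algebra K A] [Algebra.IsCentral K A] [FiniteDimensional K A]
    (w : A) (hw : w ^ p ∈ (algebraMap K A).range) (hwK : w ∉ (algebraMap K A).range) (N : ℕ) :
    ∃ H : Subgroup Aˣ, (Units.map (algebraMap K A : K →* A)).range ≤ H ∧
      N < ((Units.map (algebraMap K A : K →* A)).range).relIndex H := by
  classical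
  obtain ⟨a, ha⟩ := hw
  have hinj : Function.Injective (algebraMap K A) := (algebraMap K A).injective
  have hinf : Infinite K := by
    by_contra hfin
    rw [not_infinite_iff_finite] at hfin
    obtain ⟨b, hb⟩ := surjective_frobenius K p a
    simp only [frobenius_def] at hb
    refine hwK ⟨b, ?_⟩
    haveI : CharP A p := (RingHom.charP_iff (algebraMap K A) hinj p).1 inferInstance
    have h0 : (w - algebraMap K A b) ^ p = 0 := by
      rw [sub_pow_char_of_commute p ((Algebra.commutes b w).symm), ← map_pow, hb, ha, sub_self]
    exact (sub_eq_zero.1 (eq_zero_of_pow_eq_zero h0)).symm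
  obtain ⟨S, hS⟩ := hinf.exists_superset_card_eq (∅ : Finset K) (N + 1) (Nat.zero_le _)
  set Z : Subgroup Aˣ := (Units.map (algebraMap K A : K →* A)).range with hZ
  have hmemZ : ∀ x : Aˣ, (x : A) ∈ (algebraMap K A).range → x ∈ Z := by
    rintro x ⟨c, hc⟩
    have hc0 : c ≠ 0 := by rintro rfl; exact x.ne_zero (by rw [← hc, map_zero])
    exact ⟨Units.mk0 c hc0, Units.ext (by simpa using hc)⟩
  haveI : Z.Normal := ⟨fun x hx g => by
    obtain ⟨c, rfl⟩ := hx
    refine ⟨c, Units.ext ?_⟩
    simp only [Units.coe_map, MonoidHom.coe_coe, Units.val_mul]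
    rw [← Algebra.commutes, mul_assoc, Units.mul_inv, mul_one]⟩
  have hne : ∀ c : K, w + algebraMap K A c ≠ 0 := fun c h =>
    hwK ⟨-c, by rw [map_neg, neg_eq_iff_add_eq_zero, add_comm]; exact h⟩
  let y : K → Aˣ := fun c => Units.mk0 _ (hne c)
  let f := QuotientGroup.mk' Z
  have hcomm : ∀ c c', y c * y c' = y c' * y c := fun c c' => Units.ext (by
    simp only [y, Units.val_mul, Units.val_mk0]
    exact ((Commute.refl w).add_left (Algebra.commute_algebraMap_left _ _)).add_right
      (Algebra.commute_algebraMap_right _ _))
  set s : Set (Aˣ ⧸ Z) := ((S.image fun c => f (y c) : Finset (Aˣ ⧸ Z)) : Set (Aˣ ⧸ Z)) with hs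
  have hcs : ∀ x ∈ s, ∀ x' ∈ s, x * x' = x' * x := by
    intro x hx x' hx'
    simp only [hs, Finset.coe_image, Set.mem_image] at hx hx'
    obtain ⟨c, -, rfl⟩ := hx
    obtain ⟨c', -, rfl⟩ := hx'
    rw [← map_mul, hcomm, map_mul]
  set C := Subgroup.closure s with hC
  letI : CommGroup C := Subgroup.closureCommGroupOfComm hcs
  have htor : ∀ x ∈ s, IsOfFinOrder x := by
    intro x hx
    simp only [hs, Finset.coe_image, Set.mem_image] at hx
    obtain ⟨c, -, rfl⟩ := hx
    refine isOfFinOrder_iff_pow_eq_one.2 ⟨p, (Fact.out : p.Prime).pos, ?_⟩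
    rw [← map_pow]
    apply (QuotientGroup.eq_one_iff _).2
    apply hmemZ
    haveI : CharP A p := (RingHom.charP_iff (algebraMap K A) hinj p).1 inferInstance
    refine ⟨a + c ^ p, ?_⟩
    simp only [y, Units.val_pow_eq_pow_val, Units.val_mk0]
    rw [add_pow_char_of_commute p ((Algebra.commutes c w).symm), map_add, map_pow, ha]
  haveI : Group.FG C := (Group.fg_iff_subgroup_fg _).2 ⟨S.image fun c => f (y c), rfl⟩
  have hfinC : Finite C := by
    apply CommGroup.finite_of_fg_isMulTorsion
    intro x
    rw [← Submonoid.isOfFinOrder_coe]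
    show IsOfFinOrder (x : Aˣ ⧸ Z)
    obtain ⟨x, hx⟩ := x
    refine Subgroup.closure_induction (p := fun z _ => IsOfFinOrder z) (fun z hz => htor z hz)
      IsOfFinOrder.one (fun z z' hz hz' h h' => ?_) (fun z _ h => h.inv) hx
    have hc : Commute z z' :=
      congrArg Subtype.val (mul_comm (⟨z, hz⟩ : C) ⟨z', hz'⟩)
    exact hc.isOfFinOrder_mul h h'
  refine ⟨C.comap f, ?_, ?_⟩
  · intro x hx
    have : f x = 1 := (QuotientGroup.eq_one_iff _).2 hx
    rw [Subgroup.mem_comap, this]
    exact C.one_mem
  · have hker : Z = (⊥ : Subgroup (Aˣ ⧸ Z)).comap f := by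
      rw [MonoidHom.comap_bot, QuotientGroup.ker_mk']
    rw [show Z.relIndex (C.comap f) = ((⊥ : Subgroup (Aˣ ⧸ Z)).comap f).relIndex (C.comap f) by rw [← hker],
      Subgroup.relIndex_comap, Subgroup.map_comap_eq_self_of_surjective (QuotientGroup.mk'_surjective Z),
      Subgroup.relIndex_bot_left]
    let g : S → C := fun c => ⟨f (y c.1), Subgroup.subset_closure (by
      simp only [hs, Finset.coe_image, Set.mem_image]
      exact ⟨c.1, c.2, rfl⟩)⟩
    have hg : Function.Injective g := by
      intro c c' h
      have h1 : f (y c.1) = f (y c'.1) := congrArg Subtype.val h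
      obtain ⟨u, hu⟩ := (QuotientGroup.eq.1 h1)
      have h2 : (y c'.1 : A) = (y c.1 : A) * algebraMap K A (u : K) := by
        have : y c'.1 = y c.1 * ((y c.1)⁻¹ * y c'.1) := by rw [mul_inv_cancel_left]
        rw [← hu] at this
        simpa using congrArg Units.val this
      simp only [y, Units.val_mk0] at h2
      have h3 : algebraMap K A (1 - (u : K)) * w = algebraMap K A ((u : K) * c.1 - c'.1) := by
        rw [map_sub, map_sub, map_mul, map_one, sub_mul, one_mul]
        rw [add_mul, ← Algebra.commutes, ← Algebra.commutes (u : K) (algebraMap K A c.1)] at h2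
        linear_combination (norm := abel) h2
      by_cases hu1 : (u : K) = 1
      · rw [hu1, sub_self, map_zero, zero_mul, one_mul] at h3
        exact Subtype.ext (sub_eq_zero.1 (hinj (h3.symm.trans (map_zero _).symm)))
      · exfalso
        refine hwK ⟨(1 - (u : K))⁻¹ * ((u : K) * c.1 - c'.1), ?_⟩
        rw [map_mul, ← h3, ← mul_assoc, ← map_mul, inv_mul_cancel₀ (sub_ne_zero.2 (Ne.symm hu1)),
          map_one, one_mul]
    have := Nat.card_le_card_of_injective g hg
    rw [Nat.card_eq_finsetCard, hS.2] at this
    omega

end Groth.Agent.S15173
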