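import Groth.Statements.S15178
import Groth.Agent.L24.QuotGen.GeomRed
import Groth.Agent.L24.QuotGen.Trans
import Mathlib.AlgebraicGeometry.Morphisms.LocalFlatDescent

set_option autoImplicit false
set_option backward.isDefEq.respectTransparency.types false
set_option backward.isDefEq.respectTransparency false
universe u
open CategoryTheory MonoidalCategory CartesianMonoidalCategory MonObj GrpObj AlgebraicGeometry
open BddFin

namespace Groth.Agent.S15178

/-- Let K be a field, Γ a smooth algebraic group over K (a smooth K-group scheme of finite type), X an
integral separated K-scheme of finite type with an action of Γ, and π : X → Y a geometric quotient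
of X by Γ over K (π is Γ-invariant and surjective, Γ × X → X ×_Y X is surjective, π is universally
submersive, and the functions on Y are the invariant functions on X). Then π is generically smooth:
the fibre of π over the generic point η of Y is smooth over the residue field κ(η). (The quotient
notion used here asks for universal submersiveness, where the published definition asks only for
submersiveness; the row is the corresponding case.) -/
theorem result
    (K : Type u) [Field K]
    (Γ X Y : Over (Spec (CommRingCat.of K))) [GrpObj Γ]
    [Smooth Γ.hom] [LocallyOfFiniteType Γ.hom] [QuasiCompact Γ.hom]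
    [IsIntegral X.left] [LocallyOfFiniteType X.hom] [QuasiCompact X.hom] [IsSeparated X.hom]
    (a : AlgGrp.Action Γ X) (π : X ⟶ Y) (hπ : GIT.IsGeomQuot a π) [IrreducibleSpace Y.left] :
    Smooth (π.left.fiberToSpecResidueField (genericPoint Y.left)) := by
  haveI := Groth.L24.QuotGen.geometricallyReduced_genericFibre hπ
  let F : Type u := Y.left.residueField (genericPoint Y.left)
  let Ω : Type u := AlgebraicClosure F
  let g : Spec (CommRingCat.of Ω) ⟶ Spec (Y.left.residueField (genericPoint Y.left)) :=
    Spec.map (CommRingCat.ofHom (algebraMap F Ω))
  haveI : Surjective g := ⟨fun s => ⟨IsLocalRing.closedPoint Ω, Subsingleton.elim (α := PrimeSpectrum F) _ _⟩⟩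
  haveI : Flat g := inferInstance
  refine MorphismProperty.of_pullback_snd_of_descendsAlong (P := @Smooth)
    (Q := @Surjective ⊓ @Flat ⊓ @QuasiCompact) (g := g) ⟨⟨‹_›, ‹_›⟩, inferInstance⟩ ?_
  have sq := (IsPullback.of_hasPullback (π.left.fiberToSpecResidueField (genericPoint Y.left)) g).paste_horiz
    (IsPullback.of_hasPullback π.left (Y.left.fromSpecResidueField (genericPoint Y.left)))
  let e := sq.isoPullback
  haveI : IsReduced (Limits.pullback (π.left.fiberToSpecResidueField (genericPoint Y.left)) g) :=
    GeometricallyReduced.geometrically_isReduced _ _ _ (IsPullback.of_hasPullback _ _)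
  haveI : IsReduced (Limits.pullback π.left (g ≫ Y.left.fromSpecResidueField (genericPoint Y.left))) :=
    isReduced_of_isOpenImmersion e.inv
  haveI := Groth.L24.QuotGen.smooth_geometricFibre a π hπ.inv hπ.orbit
    (g ≫ Y.left.fromSpecResidueField (genericPoint Y.left))
  rw [← sq.isoPullback_hom_snd]
  infer_instance

end Groth.Agent.S15178
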