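import Groth.Statements.S15179
import Groth.Agent.L15.PuncP1.Model
import Mathlib.Tactic.Ring
import Mathlib.Tactic.LinearCombination
import Mathlib.Tactic.FieldSimp
import Mathlib.Algebra.BigOperators.Ring.Finset

set_option autoImplicit false
universe u
attribute [local instance] MvPolynomial.gradedAlgebra
open BddFin

namespace Groth.Agent.S15179

/-- Let K be a field such that K contains all roots of unity (for every n ≥ 1 the polynomial X^n − 1
splits into linear factors over K). Let q be an irreducible binary quadratic form over K with
non-zero discriminant, so that its zero locus in the projective line over K is a single closed point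
with separable quadratic residue field over K (a pair of distinct conjugate geometric points), and
let U be the complement of that point: the affine curve whose coordinate ring is the ring of
degree-0 fractions f / q ^ k (f a binary form of degree 2k). Then for every finite group G of
K-automorphisms of U (K-linear ring automorphisms of its coordinate ring), every g ∈ G satisfies g ^
2 = 1 and G has at most 4 elements. -/
theorem result
    (K : Type u) [Field K] (hK : ∀ n : ℕ, 0 < n → (Polynomial.X ^ n - 1 : Polynomial K).Splits)
    (q : MvPolynomial (Fin 2) K) (hq : q.IsHomogeneous 2) (hirr : Irreducible q)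
    (hdisc : (q.coeff (Finsupp.single 0 1 + Finsupp.single 1 1)) ^ 2 -
      4 * q.coeff (Finsupp.single 0 2) * q.coeff (Finsupp.single 1 2) ≠ 0)
    (G : Subgroup (HomogeneousLocalization.Away (MvPolynomial.homogeneousSubmodule (Fin 2) K) q ≃+* HomogeneousLocalization.Away (MvPolynomial.homogeneousSubmodule (Fin 2) K) q)) [Finite G]
    (hG : ∀ g ∈ G, ∀ (k : K) (z : HomogeneousLocalization.Away (MvPolynomial.homogeneousSubmodule (Fin 2) K) q), g (k • z) = k • g z) :
    (∀ g ∈ G, g ^ 2 = 1) ∧ Nat.card G ≤ 4 := by
  exact Groth.L15.PuncP1.main hK q hq hirr hdisc G hG

end Groth.Agent.S15179
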