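import Groth.Statements.S15183
import Mathlib.RingTheory.SimpleModule.WedderburnArtin
import Mathlib.RingTheory.RootsOfUnity.PrimitiveRoots
import Mathlib.FieldTheory.IsAlgClosed.AlgebraicClosure
import Mathlib.RingTheory.Artinian.Ring
import Mathlib.RingTheory.RootsOfUnity.AlgebraicallyClosed
import Mathlib.Tactic.Ring
import Mathlib.Tactic.LinearCombination
import Mathlib.Tactic.FieldSimp
import Mathlib.Algebra.BigOperators.Ring.Finset

set_option autoImplicit false
universe u v
open Polynomial
open BddFin

namespace Groth.Agent.S15183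

/-- Let K be a field such that K contains all roots of unity (for every n ≥ 1 the polynomial X^n − 1
splits into linear factors over K), and A a finite-dimensional central simple K-algebra which is not
a division algebra (some non-zero element is not a unit). Then the quotient of the unit group of A
by that of K has elements of every finite order invertible in K: for every d ≥ 1 with d ≠ 0 in K
there is a unit x of A with x ^ d in K and x ^ k not in K for 0 < k < d. (The published assertion is
phrased for the automorphism group of the Severi–Brauer variety of A, which is isomorphic to the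
units of A modulo those of K; this row is the algebra-side statement its proof establishes.) -/
theorem result
    (K : Type u) [Field K] (hK : ∀ n : ℕ, 0 < n → (X ^ n - 1 : K[X]).Splits)
    (A : Type v) [Ring A] [Algebra K A] [Algebra.IsCentral K A] [IsSimpleRing A] [FiniteDimensional K A]
    (hA : ∃ y : A, y ≠ 0 ∧ ¬ IsUnit y) (d : ℕ) (hd : 0 < d) (hdK : (d : K) ≠ 0) :
    ∃ x : A, IsUnit x ∧ x ^ d ∈ (algebraMap K A).range ∧
      ∀ k : ℕ, 0 < k → k < d → x ^ k ∉ (algebraMap K A).range := by
  classical
  haveI : IsArtinianRing A := IsArtinianRing.of_finite K A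
  obtain ⟨r, hr, D, _, _, ⟨e⟩⟩ := IsSimpleRing.exists_algEquiv_matrix_divisionRing K A
  obtain ⟨y, hy0, hyu⟩ := hA
  have hr2 : 2 ≤ r := by
    by_contra h
    have hr1 : r = 1 := by have := hr.pos; omega
    subst hr1
    set a := (e y) 0 0 with ha
    have ha0 : a ≠ 0 := by
      intro h0
      refine hy0 (e.injective ?_)
      rw [map_zero]
      ext i j
      rw [Subsingleton.elim i 0, Subsingleton.elim j 0, ← ha, h0]
      rfl
    refine hyu ((isUnit_map_iff e y).1 ⟨⟨e y, Matrix.of fun _ _ => a⁻¹, ?_, ?_⟩, rfl⟩) <;>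
      (ext i j; rw [Subsingleton.elim i 0, Subsingleton.elim j 0]; simp [Matrix.mul_apply, ← ha, ha0])
  obtain ⟨ζ, hζ⟩ : ∃ ζ : K, IsPrimitiveRoot ζ d := by
    let L := AlgebraicClosure K
    haveI : NeZero (d : L) := ⟨by
      rw [← map_natCast (algebraMap K L)]
      exact (map_ne_zero_iff _ (algebraMap K L).injective).2 hdK⟩
    obtain ⟨z, hz⟩ := HasEnoughRootsOfUnity.exists_primitiveRoot L d
    have hroot : ((X ^ d - 1 : K[X]).map (algebraMap K L)).IsRoot z := by simp [hz.pow_eq_one]
    obtain ⟨x, rfl⟩ := (hK d hd).mem_range_of_isRoot (by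
      simpa using X_pow_sub_C_ne_zero hd (1 : K)) hroot
    exact ⟨x, IsPrimitiveRoot.of_map_of_injective hz (algebraMap K L).injective⟩
  let i0 : Fin r := ⟨0, by omega⟩
  let i1 : Fin r := ⟨1, by omega⟩
  let v : K → Fin r → D := fun c i => if i = i0 then algebraMap K D c else 1
  have hv : ∀ (c : K) (k : ℕ), (Matrix.diagonal (v c)) ^ k = Matrix.diagonal (v (c ^ k)) := by
    intro c k
    rw [Matrix.diagonal_pow]
    congr 1
    funext i
    by_cases hi : i = i0 <;> simp [v, hi]
  let x := e.symm (Matrix.diagonal (v ζ))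
  have hpow : ∀ k : ℕ, e (x ^ k) = Matrix.diagonal (v (ζ ^ k)) := by
    intro k; simp [x, hv]
  have h1 : x ^ d = 1 := by
    apply e.injective
    rw [hpow, hζ.pow_eq_one, map_one]
    have : v 1 = fun _ => 1 := by funext i; by_cases hi : i = i0 <;> simp [v, hi]
    rw [this, Matrix.diagonal_one]
  refine ⟨x, IsUnit.of_pow_eq_one h1 hd.ne', ⟨1, by rw [map_one, h1]⟩, fun k hk hkd => ?_⟩
  rintro ⟨c, hc⟩
  have := congrArg e hc
  rw [hpow, AlgEquiv.commutes] at this
  have e0 := congrFun (congrFun this i0) i0
  have e1 := congrFun (congrFun this i1) i1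
  have hi : i1 ≠ i0 := by simp [i0, i1]
  simp [Matrix.algebraMap_matrix_apply, v, hi] at e0 e1
  have hDinj := (algebraMap K D).injective
  have hc1 : c = 1 := e1
  exact hζ.pow_ne_one_of_pos_of_lt hk.ne' hkd (hDinj (by rw [map_pow, ← e0, hc1]))

end Groth.Agent.S15183
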