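import Groth.Statements.S15185
import Groth.Agent.S15168
import Mathlib.LinearAlgebra.Matrix.Determinant.Basic
import Mathlib.LinearAlgebra.Dimension.Constructions
import Mathlib.Algebra.CharP.Lemmas
import Mathlib.Tactic.Ring
import Mathlib.Tactic.LinearCombination
import Mathlib.Tactic.FieldSimp
import Mathlib.Algebra.BigOperators.Ring.Finset

set_option autoImplicit false
universe u v
open Polynomial
open BddFin

namespace Groth.Agent.S15185

/-- Let K be a field of characteristic p > 0 such that K contains all roots of unity (for every n ≥ 1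
the polynomial X^n − 1 splits into linear factors over K), A a central division algebra of dimension
n ^ 2 over K, and write n = n' · p ^ m with n' prime to p; let N be the reduced norm of A. Consider
the kernel of the homomorphism from the units of A modulo those of K to Kˣ/(Kˣ)^(p^m) induced by N.
Every element of finite order of that kernel has order dividing n': if x ≠ 0 in A has x ^ r in K for
some r ≥ 1 and N x is a (p ^ m)-th power of a non-zero element of K, then x ^ n' lies in K. -/
theorem result
    (K : Type u) [Field K] (p : ℕ) [Fact p.Prime] [CharP K p] (hK : ∀ n : ℕ, 0 < n → (X ^ n - 1 : K[X]).Splits)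
    (A : Type v) [DivisionRing A] [Algebra K A] [Algebra.IsCentral K A] [FiniteDimensional K A]
    (n n' m : ℕ) (hA : Module.finrank K A = n ^ 2) (hn : n = n' * p ^ m) (hn' : ¬ p ∣ n')
    (N : A →* K) (hN : CSAGal.IsRedNorm K A N)
    (x : A) (hx : x ≠ 0) (hxr : ∃ r : ℕ, 0 < r ∧ x ^ r ∈ (algebraMap K A).range)
    (hNx : ∃ b : K, b ≠ 0 ∧ N x = b ^ (p ^ m)) :
    x ^ n' ∈ (algebraMap K A).range := by
  obtain ⟨r, hr, hrn, a, ha, hirr⟩ := Groth.Agent.S15168.pow_minpoly_mem hK hA hx hxr
  obtain ⟨b, hb0, hb⟩ := hNx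
  have ha0 : a ≠ 0 := by
    rintro rfl
    rw [map_zero] at ha
    exact pow_ne_zero r hx ha
  have hNa : N (algebraMap K A a) = a ^ n := by
    obtain ⟨L, _, _, _, k, φ, hφ⟩ := hN
    have hk : k = n := by
      have h := φ.toLinearEquiv.finrank_eq
      rw [Module.finrank_baseChange, hA, Module.finrank_matrix, Module.finrank_self,
        Fintype.card_fin, mul_one, ← sq] at h
      exact (Nat.pow_left_injective (by norm_num) h).symm
    apply (algebraMap K L).injective
    rw [hφ, map_pow]
    have : (1 : L) ⊗ₜ[K] algebraMap K A a = algebraMap L (TensorProduct K L A) (algebraMap K L a) := by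
      rw [Algebra.TensorProduct.algebraMap_apply, Algebra.algebraMap_eq_smul_one,
        TensorProduct.tmul_smul, TensorProduct.smul_tmul', ← Algebra.algebraMap_eq_smul_one]
      rfl
    rw [this, AlgEquiv.commutes, Matrix.algebraMap_eq_diagonal, Matrix.det_diagonal]
    simp [hk]
  have hp := (Fact.out : p.Prime)
  have key : b ^ r = a ^ n' := by
    apply iterateFrobenius_inj K p m
    rw [iterateFrobenius_def, iterateFrobenius_def, ← pow_mul, ← pow_mul, ← hn, ← hNa, ← ha,
      map_pow, hb, ← pow_mul, mul_comm r]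
  have hpr : ¬ p ∣ r := by
    rintro ⟨r1, rfl⟩
    have hcop : Nat.Coprime n' p := ((hp.coprime_iff_not_dvd).2 hn').symm
    obtain ⟨e, he⟩ : ∃ e, a = e ^ p := by
      rw [mul_comm, pow_mul] at key
      have hbez := Int.gcd_eq_gcd_ab (n' : ℤ) p
      rw [Int.gcd_natCast_natCast, hcop, Nat.cast_one] at hbez
      refine ⟨(b ^ r1) ^ Int.gcdA n' p * a ^ Int.gcdB n' p, ?_⟩
      rw [← zpow_natCast _ p, mul_zpow, ← zpow_mul, ← zpow_mul, mul_comm (Int.gcdA _ _),
        zpow_mul, zpow_natCast, key, ← zpow_natCast a n', ← zpow_mul, ← zpow_add₀ ha0,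
        mul_comm (Int.gcdB _ _), ← hbez, zpow_one]
    have hfac : (X ^ (p * r1) - C a : K[X]) = (X ^ r1 - C e) ^ p := by
      rw [sub_pow_char, ← pow_mul, mul_comm r1, ← C_pow, ← he]
    rw [hfac] at hirr
    have hu : ¬ IsUnit (X ^ r1 - C e : K[X]) := fun h => hirr.not_isUnit (h.pow p)
    exact not_irreducible_pow hp.ne_one hirr
  have hrn' : r ∣ n' := by
    rw [hn] at hrn
    exact (((hp.coprime_iff_not_dvd).2 hpr).symm.pow_right m).dvd_of_dvd_mul_right hrn
  obtain ⟨k, rfl⟩ := hrn'
  exact ⟨a ^ k, by rw [map_pow, ← ha, pow_mul]⟩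

end Groth.Agent.S15185
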