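import Groth.Statements.S15188
import Groth.Agent.L11.SBAut.Main
import Groth.Agent.S15168

set_option autoImplicit false
universe u
open CategoryTheory CategoryTheory.Limits AlgebraicGeometry Polynomial
open BddFin

namespace Groth.Agent.S15188

/-- Let k be a field such that k contains all roots of unity (for every m ≥ 1 the polynomial X^m − 1
splits into linear factors over k), A a central division algebra of dimension n² over k with the
characteristic of k not dividing n, and X → Spec k the Severi–Brauer variety of A (X represents the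
functor of left ideals of A with projective quotient of corank n² − n). Then every automorphism g of
X over k of finite order satisfies g ^ n = 1. -/
theorem result
    (k : Type u) [Field k] (hk : ∀ m : ℕ, 0 < m → (X ^ m - 1 : k[X]).Splits)
    (A : Type u) [DivisionRing A] [Algebra k A] [Algebra.IsCentral k A]
    (n : ℕ) (hn : 0 < n) (hnk : (n : k) ≠ 0) (hA : Module.finrank k A = n * n)
    {X : Scheme.{u}} (f : X ⟶ Spec (CommRingCat.of k)) (hX : BrSev.IsSBOf k A (n * n - n) f)
    (g : Aut (Over.mk f)) (hg : IsOfFinOrder g) : g ^ n = 1 := by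
  haveI : FiniteDimensional k A := Module.finite_of_finrank_pos (by rw [hA]; positivity)
  obtain ⟨S⟩ := hX
  obtain ⟨x, rfl⟩ := Groth.L11.SBAut.autHom_surjective S hn hA g
  obtain ⟨m, hm, hm1⟩ := isOfFinOrder_iff_pow_eq_one.1 hg
  rw [← map_pow, ← MonoidHom.mem_ker, Groth.L11.SBAut.autHom_ker S hn hA] at hm1 ⊢
  obtain ⟨c, hc⟩ := hm1
  obtain ⟨a, ha⟩ := Groth.Agent.S15168.result k hk A n (hA.trans (sq n).symm) (x : A)
    ⟨m, hm, (c : k), by simpa using congrArg Units.val hc⟩
  have ha0 : a ≠ 0 := fun h => pow_ne_zero n x.ne_zero (by rw [← ha, h, map_zero])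
  exact ⟨Units.mk0 a ha0, Units.ext (by simpa using ha)⟩

end Groth.Agent.S15188
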