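import Groth.Statements.S15189
import Groth.Agent.L11.SBAut.Main
import Groth.Agent.S15184
import Groth.Agent.L15.CSA
import Mathlib.FieldTheory.Separable
import Mathlib.GroupTheory.FiniteAbelian.Basic
import Mathlib.Algebra.CharP.Lemmas

set_option autoImplicit false
universe u
open CategoryTheory CategoryTheory.Limits AlgebraicGeometry
open BddFin
open scoped TensorProduct

namespace Groth.Agent.S15189

/-- An element `w ∉ k` with `w ^ p ∈ k` all but finitely many translates of which are units. -/
theorem exists_elt (k : Type u) [Field k] (p : ℕ) [Fact p.Prime] [CharP k p] (hp : p = 2 ∨ p = 3)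
    (A : Type u) [Ring A] [Algebra k A] [Algebra.IsCentral k A] [IsSimpleRing A] [FiniteDimensional k A]
    (hA : Module.finrank k A = p * p) :
    ∃ w : A, w ^ p ∈ (algebraMap k A).range ∧ w ∉ (algebraMap k A).range ∧
      {c : k | ¬ IsUnit (w + algebraMap k A c)}.Finite := by
  by_cases hdiv : ∀ a : A, IsUnit a ∨ a = 0
  · letI : DivisionRing A := DivisionRing.ofIsUnitOrEqZero hdiv
    obtain ⟨v, hv⟩ := Groth.Agent.S15184.result k p A (hA.trans (sq p).symm) hp
    have hint : IsIntegral k v := IsIntegral.of_finite k v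
    have hvk : v ∉ (algebraMap k A).range := by
      rintro ⟨c, rfl⟩
      apply hv
      rw [IsSeparable, minpoly.eq_X_sub_C]
      exact Polynomial.separable_X_sub_C
    have hd := Groth.L15.CSA.natDegree_minpoly (K := k) (hA.trans (sq p).symm) hvk
    have hirr := minpoly.irreducible hint
    rw [IsSeparable, Polynomial.separable_iff_derivative_ne_zero hirr, not_not] at hv
    set q := Polynomial.contract p (minpoly k v)
    have hq : Polynomial.expand k p q = minpoly k v :=
      Polynomial.expand_contract p hv (Fact.out : p.Prime).ne_zero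
    have hqd : q.natDegree = 1 := by
      have := congrArg Polynomial.natDegree hq
      rw [Polynomial.natDegree_expand, hd] at this
      exact (Nat.mul_eq_right (Fact.out : p.Prime).ne_zero).1 this
    have hv0 : Polynomial.aeval (v ^ p) q = 0 := by
      rw [← Polynomial.expand_aeval, hq, minpoly.aeval]
    rw [Polynomial.eq_X_add_C_of_natDegree_le_one hqd.le] at hv0
    simp only [map_add, map_mul, Polynomial.aeval_C, Polynomial.aeval_X] at hv0
    have hc : q.coeff 1 ≠ 0 := by
      rw [← hqd]
      exact Polynomial.leadingCoeff_ne_zero.2 fun h => by simp [h] at hqd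
    refine ⟨v, ⟨-(q.coeff 1)⁻¹ * q.coeff 0, ?_⟩, hvk, ?_⟩
    · rw [map_mul, map_neg, neg_mul, neg_eq_iff_add_eq_zero]
      have := congrArg (algebraMap k A (q.coeff 1)⁻¹ * ·) hv0
      simp only [mul_add, mul_zero, ← mul_assoc, ← map_mul, inv_mul_cancel₀ hc, map_one, one_mul] at this
      rw [← map_mul, add_comm]
      exact this
    · convert Set.finite_empty
      ext c
      simp only [Set.mem_ofPred_eq, Set.mem_empty_iff_false, iff_false, not_not]
      refine (hdiv _).resolve_right fun h => hvk ⟨-c, ?_⟩
      rw [map_neg]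
      exact (eq_neg_of_add_eq_zero_left h).symm
  · push Not at hdiv
    obtain ⟨y, hy, hy0⟩ := hdiv
    obtain ⟨t, ht0, hty⟩ : ∃ t : A, t ≠ 0 ∧ t * y = 0 := by
      by_contra hall
      push Not at hall
      have hinj : Function.Injective (LinearMap.mulRight k y) := (injective_iff_map_eq_zero _).2
        fun t ht => by_contra fun h0 => hall t h0 ht
      obtain ⟨z, hz⟩ := LinearMap.injective_iff_surjective.1 hinj 1
      have hz' : z * y = 1 := hz
      exact hy ⟨⟨y, z, sub_eq_zero.1 (by_contra fun h0 => hall _ h0 (by rw [sub_mul, one_mul, mul_assoc, hz', mul_one, sub_self])), hz'⟩, rfl⟩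
    obtain ⟨a, ha⟩ : ∃ a : A, y * a * t ≠ 0 := by
      by_contra hall
      push Not at hall
      have h0 : AlgHom.mulLeftRight k A (y ⊗ₜ[k] MulOpposite.op t) = 0 :=
        LinearMap.ext fun a => by simpa using hall a
      have h1 := (Groth.L11.CSA.mulLeftRight_bijective k A).1 (h0.trans (map_zero _).symm)
      obtain ⟨φ, hφ⟩ := Module.Projective.exists_dual_ne_zero k hy0
      have h2 := congrArg ((TensorProduct.lid k Aᵐᵒᵖ).toLinearMap ∘ₗ φ.rTensor Aᵐᵒᵖ) h1
      simp [hφ, ht0] at h2
    have hsq : (y * a * t) * (y * a * t) = 0 := by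
      rw [show y * a * t * (y * a * t) = y * a * ((t * y) * a * t) by noncomm_ring, hty]
      simp
    have hp2 : 2 ≤ p := (Fact.out : p.Prime).two_le
    have hpw : (y * a * t) ^ p = 0 := by
      rw [← Nat.add_sub_cancel' hp2, pow_add, sq, hsq, zero_mul]
    refine ⟨y * a * t, ⟨0, by rw [hpw, map_zero]⟩, ?_, (Set.finite_singleton (0 : k)).subset ?_⟩
    · rintro ⟨c, hc⟩
      apply ha
      have := congrArg (fun x => x * x) hc
      simp only [hsq, ← map_mul] at this
      rw [← hc, mul_self_eq_zero.1 ((algebraMap k A).injective (this.trans (map_zero _).symm)), map_zero]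
    · intro c hc
      by_contra hc0
      exact hc ((IsNilpotent.isUnit_add_right_of_commute ⟨p, hpw⟩
        ((isUnit_iff_ne_zero.2 hc0).map (algebraMap k A)) (Algebra.commute_algebraMap_right _ _)))



/-- Let p be 2 or 3, k an infinite field of characteristic p, A a central simple k-algebra of dimension
p², and X → Spec k the Severi–Brauer variety of A (X represents the functor of left ideals of A with
projective quotient of corank p² − p; X has dimension p − 1). Then the group of automorphisms of X
over k has unbounded finite subgroups: for every N it has a finite subgroup of order greater than N. -/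
theorem result
    (k : Type u) [Field k] [Infinite k] (p : ℕ) [Fact p.Prime] [CharP k p] (hp : p = 2 ∨ p = 3)
    (A : Type u) [Ring A] [Algebra k A] [Algebra.IsCentral k A] [IsSimpleRing A]
    (hA : Module.finrank k A = p * p)
    {X : Scheme.{u}} (f : X ⟶ Spec (CommRingCat.of k)) (hX : BrSev.IsSBOf k A (p * p - p) f) (N : ℕ) :
    ∃ G : Subgroup (Aut (Over.mk f)), Finite G ∧ N < Nat.card G := by
  haveI : FiniteDimensional k A := Module.finite_of_finrank_pos (by
    rw [hA]; exact Nat.mul_pos (Fact.out : p.Prime).pos (Fact.out : p.Prime).pos)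
  obtain ⟨S⟩ := hX
  obtain ⟨w, ⟨a, ha⟩, hwk, hw⟩ := exists_elt k p hp A hA
  let ξ := Groth.L11.SBAut.autHom S
  have hker : ξ.ker = (Units.map (algebraMap k A : k →* A)).range :=
    Groth.L11.SBAut.autHom_ker S (Fact.out : p.Prime).pos hA
  have hinj : Function.Injective (algebraMap k A) := (algebraMap k A).injective
  haveI : CharP A p := (RingHom.charP_iff (algebraMap k A) hinj p).1 inferInstance
  obtain ⟨T, hT⟩ := (Set.Finite.infinite_compl hw).exists_subset_card_eq (N + 1)
  obtain ⟨hTs, hTc⟩ := hT
  have hu : ∀ c : T, IsUnit (w + algebraMap k A (c : k)) := fun c => not_not.1 (hTs c.2)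
  let y : T → Aˣ := fun c => (hu c).unit
  have hy : ∀ c : T, (y c : A) = w + algebraMap k A (c : k) := fun c => rfl
  have hcomm : ∀ c c', y c * y c' = y c' * y c := fun c c' => Units.ext (by
    simp only [Units.val_mul, hy]
    exact ((Commute.refl w).add_left (Algebra.commute_algebraMap_left _ _)).add_right
      (Algebra.commute_algebraMap_right _ _))
  have hpow : ∀ c, ξ (y c) ^ p = 1 := fun c => by
    rw [← map_pow, ← MonoidHom.mem_ker, hker]
    have h0 : ((y c ^ p : Aˣ) : A) = algebraMap k A (a + (c : k) ^ p) := by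
      rw [Units.val_pow_eq_pow_val, hy, add_pow_char_of_commute p ((Algebra.commutes (c : k) w).symm),
        map_add, map_pow, ha]
    have hne : a + (c : k) ^ p ≠ 0 := fun h => (y c ^ p).ne_zero (by rw [h0, h, map_zero])
    exact ⟨Units.mk0 _ hne, Units.ext (by simpa using h0.symm)⟩
  set s : Set (Aut (Over.mk f)) := Set.range fun c => ξ (y c) with hs
  have hcs : ∀ g ∈ s, ∀ g' ∈ s, g * g' = g' * g := by
    rintro _ ⟨c, rfl⟩ _ ⟨c', rfl⟩
    simp only [← map_mul, hcomm]
  refine ⟨Subgroup.closure s, ?_, ?_⟩
  · letI : CommGroup (Subgroup.closure s) := Subgroup.closureCommGroupOfComm hcs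
    haveI : Group.FG (Subgroup.closure s) := (Group.fg_iff_subgroup_fg _).2
      ((Subgroup.fg_iff _).2 ⟨s, rfl, Set.finite_range _⟩)
    apply CommGroup.finite_of_fg_isMulTorsion
    intro z
    rw [← Submonoid.isOfFinOrder_coe]
    show IsOfFinOrder (z : Aut (Over.mk f))
    obtain ⟨z, hz⟩ := z
    refine Subgroup.closure_induction (p := fun z _ => IsOfFinOrder z) ?_
      IsOfFinOrder.one (fun z z' hz hz' h h' => ?_) (fun z _ h => h.inv) hz
    · rintro _ ⟨c, rfl⟩
      exact isOfFinOrder_iff_pow_eq_one.2 ⟨p, (Fact.out : p.Prime).pos, hpow c⟩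
    · exact (show Commute z z' from congrArg Subtype.val
        (mul_comm (⟨z, hz⟩ : Subgroup.closure s) ⟨z', hz'⟩)).isOfFinOrder_mul h h'
  · have hfin : Finite (Subgroup.closure s) := by
      letI : CommGroup (Subgroup.closure s) := Subgroup.closureCommGroupOfComm hcs
      haveI : Group.FG (Subgroup.closure s) := (Group.fg_iff_subgroup_fg _).2
        ((Subgroup.fg_iff _).2 ⟨s, rfl, Set.finite_range _⟩)
      apply CommGroup.finite_of_fg_isMulTorsion
      intro z
      rw [← Submonoid.isOfFinOrder_coe]
      show IsOfFinOrder (z : Aut (Over.mk f))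
      obtain ⟨z, hz⟩ := z
      refine Subgroup.closure_induction (p := fun z _ => IsOfFinOrder z) ?_
        IsOfFinOrder.one (fun z z' hz hz' h h' => ?_) (fun z _ h => h.inv) hz
      · rintro _ ⟨c, rfl⟩
        exact isOfFinOrder_iff_pow_eq_one.2 ⟨p, (Fact.out : p.Prime).pos, hpow c⟩
      · exact (show Commute z z' from congrArg Subtype.val
          (mul_comm (⟨z, hz⟩ : Subgroup.closure s) ⟨z', hz'⟩)).isOfFinOrder_mul h h'
    let g : T → Subgroup.closure s := fun c => ⟨ξ (y c), Subgroup.subset_closure ⟨c, rfl⟩⟩
    have hg : Function.Injective g := fun c c' h => by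
      have h1 : ξ (y c) = ξ (y c') := congrArg Subtype.val h
      have h2 : (y c)⁻¹ * y c' ∈ ξ.ker := by rw [MonoidHom.mem_ker, map_mul, map_inv, h1, inv_mul_cancel]
      rw [hker] at h2
      obtain ⟨u, hu'⟩ := h2
      have h4 : (y c' : A) = (y c : A) * algebraMap k A (u : k) := by
        have : y c' = y c * ((y c)⁻¹ * y c') := by rw [mul_inv_cancel_left]
        rw [← hu'] at this
        simpa using congrArg Units.val this
      simp only [hy] at h4
      have h3 : algebraMap k A (1 - (u : k)) * w = algebraMap k A ((u : k) * (c : k) - (c' : k)) := by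
        rw [map_sub, map_sub, map_mul, map_one, sub_mul, one_mul]
        rw [add_mul, ← Algebra.commutes, ← Algebra.commutes (u : k) (algebraMap k A (c : k))] at h4
        linear_combination (norm := abel) h4
      by_cases hu1 : (u : k) = 1
      · rw [hu1, sub_self, map_zero, zero_mul, one_mul] at h3
        exact Subtype.ext (sub_eq_zero.1 (hinj (h3.symm.trans (map_zero _).symm)))
      · exfalso
        refine hwk ⟨(1 - (u : k))⁻¹ * ((u : k) * (c : k) - (c' : k)), ?_⟩
        rw [map_mul, ← h3, ← mul_assoc, ← map_mul, inv_mul_cancel₀ (sub_ne_zero.2 (Ne.symm hu1)),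
          map_one, one_mul]
    have := Nat.card_le_card_of_injective g hg
    rw [Nat.card_eq_finsetCard, hTc] at this
    omega

end Groth.Agent.S15189
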