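import Groth.Statements.S15190
import Groth.Agent.L11.SBAut.Main
import Groth.Agent.L11.CSA.RedNorm
import Groth.Agent.S15185
import Mathlib.GroupTheory.SchurZassenhaus
import Mathlib.GroupTheory.PGroup
import Mathlib.GroupTheory.QuotientGroup.Basic

set_option autoImplicit false
universe u
open CategoryTheory CategoryTheory.Limits AlgebraicGeometry Polynomial
open BddFin

namespace Groth.Agent.S15190

/-- The reduced norm of a scalar. -/
theorem nrd_algebraMap (k : Type u) [Field k] (A : Type u) [Ring A] [Algebra k A] [Algebra.IsCentral k A]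
    [IsSimpleRing A] [FiniteDimensional k A] (n : ℕ) (hA : Module.finrank k A = n * n) (c : k) :
    Groth.L11.RN.nrd k A (algebraMap k A c) = c ^ n := by
  obtain ⟨K, _, _, _, _, m, hm, ⟨φ⟩⟩ := Groth.L21.CSA.exists_galois_splitting k A
  obtain rfl : n = m := by
    have h := φ.toLinearEquiv.finrank_eq
    rw [Module.finrank_baseChange, hA, Module.finrank_matrix, Module.finrank_self, Fintype.card_fin,
      mul_one] at h
    exact Nat.mul_self_inj.1 h
  refine (algebraMap k K).injective ?_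
  rw [Groth.L11.RN.nrd_spec φ]
  have : Groth.L11.CSA.repr φ (algebraMap k A c) = algebraMap k K c • (1 : Matrix (Fin n) (Fin n) K) := by
    rw [AlgHom.commutes, ← Algebra.algebraMap_eq_smul_one]
    rfl
  rw [this, Matrix.det_smul, Matrix.det_one, mul_one, Fintype.card_fin, map_pow]



/-- Splitting a finite subgroup along a map to an abelian group of `p`-power exponent. -/
theorem exists_split {Γ Q : Type*} [Group Γ] [Group Q] (hQ : ∀ a b : Q, a * b = b * a) (μ : Γ →* Q) (G : Subgroup Γ) [Finite G]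
    (p n' m : ℕ) (hp : p.Prime) (hn' : ¬ p ∣ n')
    (hord : ∀ g : G, g ∈ (μ.comp G.subtype).ker → g ^ n' = 1) (hexp : ∀ q : Q, q ^ (p ^ m) = 1) :
    ∃ H S : Subgroup Γ, H ≤ G ∧ S ≤ G ∧
      (∀ g ∈ G, ∀ h ∈ H, g * h * g⁻¹ ∈ H) ∧ H ⊓ S = ⊥ ∧ H ⊔ S = G ∧
      (∀ h ∈ H, ¬ p ∣ orderOf h) ∧
      (∀ s ∈ S, ∀ t ∈ S, s * t = t * s) ∧ (∀ s ∈ S, s ^ (p ^ m) = 1) := by
  let μG : G →* Q := μ.comp G.subtype
  haveI := Fact.mk hp
  have hn'p : Nat.Coprime n' (p ^ m) :=
    (((Fact.out : p.Prime).coprime_iff_not_dvd.2 hn').symm).pow_right m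
  have hcard : Nat.Coprime (Nat.card μG.ker) μG.ker.index := by
    rw [Subgroup.index_ker]
    refine Nat.Coprime.symm (Nat.coprime_of_dvd fun q hq h1 h2 => ?_)
    haveI := Fact.mk hq
    haveI : Finite μG.range := (Set.finite_range μG).to_subtype
    obtain ⟨z, hz⟩ := exists_prime_orderOf_dvd_card' q h1
    obtain ⟨z', hz'⟩ := exists_prime_orderOf_dvd_card' q h2
    have e1 : q ∣ p ^ m := hz ▸ orderOf_dvd_of_pow_eq_one (Subtype.ext (hexp _))
    have e2 : q ∣ n' := hz' ▸ orderOf_dvd_of_pow_eq_one (Subtype.ext (hord _ z'.2))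
    exact hq.not_dvd_one (hn'p ▸ Nat.dvd_gcd e2 e1)
  obtain ⟨K, hK⟩ := Subgroup.exists_right_complement'_of_coprime hcard
  have hKinj : ∀ z ∈ K, μG z = 1 → z = 1 := fun z hz h =>
    Subgroup.disjoint_def.1 hK.disjoint h hz
  refine ⟨μG.ker.map G.subtype, K.map G.subtype, Subgroup.map_subtype_le _, Subgroup.map_subtype_le _,
    ?_, ?_, ?_, ?_, ?_, ?_⟩
  · rintro g hg _ ⟨h, hh, rfl⟩
    exact ⟨⟨g, hg⟩ * h * ⟨g, hg⟩⁻¹, μG.normal_ker.conj_mem h hh _, rfl⟩
  · rw [← Subgroup.map_inf _ _ _ G.subtype_injective, hK.disjoint.eq_bot, Subgroup.map_bot]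
  · rw [← Subgroup.map_sup, hK.sup_eq_top, ← MonoidHom.range_eq_map, Subgroup.range_subtype]
  · rintro _ ⟨h, hh, rfl⟩
    rw [Subgroup.subtype_apply, Subgroup.orderOf_coe]
    exact fun hp' => hn' (hp'.trans (orderOf_dvd_of_pow_eq_one (hord h hh)))
  · rintro _ ⟨s, hs, rfl⟩ _ ⟨t, ht, rfl⟩
    have h1 := hKinj (s * t * (t * s)⁻¹) (K.mul_mem (K.mul_mem hs ht) (K.inv_mem (K.mul_mem ht hs)))
      (by rw [map_mul, map_inv, map_mul, map_mul, hQ (μG t), mul_inv_cancel])
    rw [← map_mul, ← map_mul, mul_inv_eq_one.1 h1]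
  · rintro _ ⟨s, hs, rfl⟩
    rw [← map_pow, hKinj _ (K.pow_mem hs _) (by rw [map_pow]; exact hexp _), map_one]

/-- The group-theoretic form of the statement. -/
theorem exists_split_units
    (k : Type u) [Field k] (p : ℕ) [Fact p.Prime] [CharP k p]
    (hk : ∀ r : ℕ, 0 < r → (X ^ r - 1 : k[X]).Splits)
    (A : Type u) [DivisionRing A] [Algebra k A] [Algebra.IsCentral k A]
    (n n' m : ℕ) (hn0 : 0 < n) (hA : Module.finrank k A = n * n) (hn : n = n' * p ^ m) (hn' : ¬ p ∣ n')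
    {Γ : Type*} [Group Γ] (ξ : Aˣ →* Γ) (hsurj : Function.Surjective ξ)
    (hker : ξ.ker = (Units.map (algebraMap k A : k →* A)).range) (G : Subgroup Γ) [Finite G] :
    ∃ H S : Subgroup Γ, H ≤ G ∧ S ≤ G ∧
      (∀ g ∈ G, ∀ h ∈ H, g * h * g⁻¹ ∈ H) ∧ H ⊓ S = ⊥ ∧ H ⊔ S = G ∧
      (∀ h ∈ H, ((orderOf h : ℕ) : k) ≠ 0) ∧
      (∀ s ∈ S, ∀ t ∈ S, s * t = t * s) ∧ (∀ s ∈ S, s ^ (p ^ m) = 1) := by
  classical
  haveI : FiniteDimensional k A := Module.finite_of_finrank_pos (by rw [hA]; positivity)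
  let N := Groth.L11.RN.nrd k A
  let P : Subgroup kˣ := (powMonoidHom (p ^ m) : kˣ →* kˣ).range
  let ν : Aˣ →* kˣ ⧸ P := (QuotientGroup.mk' P).comp (Units.map N)
  have hνker : ξ.ker ≤ ν.ker := by
    rw [hker]
    rintro _ ⟨c, rfl⟩
    rw [MonoidHom.mem_ker]
    refine (QuotientGroup.eq_one_iff _).2 ⟨c ^ n', Units.ext ?_⟩
    simp only [powMonoidHom_apply, Units.val_pow_eq_pow_val, Units.coe_map, MonoidHom.coe_coe]
    rw [← pow_mul, ← hn]
    exact (nrd_algebraMap k A n hA (c : k)).symm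
  let sec : Function.RightInverse (Function.surjInv hsurj) ξ := Function.surjInv_eq hsurj
  let μ : Γ →* kˣ ⧸ P := ξ.liftOfRightInverse _ sec ⟨ν, hνker⟩
  let μG : G →* kˣ ⧸ P := μ.comp G.subtype
  have hord : ∀ g : G, g ∈ μG.ker → g ^ n' = 1 := fun g hg => by
    obtain ⟨x, hx⟩ := hsurj (g : Γ)
    have h1 : ν x = 1 := by
      have : μ (g : Γ) = 1 := hg
      rwa [← hx, MonoidHom.liftOfRightInverse_comp_apply] at this
    obtain ⟨b, hb⟩ := (QuotientGroup.eq_one_iff _).1 h1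
    obtain ⟨r, hr, hr1⟩ := isOfFinOrder_iff_pow_eq_one.1 (isOfFinOrder_of_finite g)
    have hr2 : ξ (x ^ r) = 1 := by
      rw [map_pow, hx, ← SubmonoidClass.coe_pow, hr1]
      rfl
    rw [← MonoidHom.mem_ker, hker] at hr2
    obtain ⟨c, hc⟩ := hr2
    obtain ⟨a, ha⟩ := Groth.Agent.S15185.result k p hk A n n' m (hA.trans (sq n).symm) hn hn' N
      Groth.L11.RN.isRedNorm_nrd (x : A) x.ne_zero
      ⟨r, hr, (c : k), by simpa using congrArg Units.val hc⟩
      ⟨(b : k), b.ne_zero, by simpa using (congrArg Units.val hb).symm⟩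
    have ha0 : a ≠ 0 := fun h => pow_ne_zero n' x.ne_zero (by rw [← ha, h, map_zero])
    refine Subtype.ext ?_
    rw [SubmonoidClass.coe_pow, ← hx, ← map_pow]
    show ξ (x ^ n') = 1
    rw [← MonoidHom.mem_ker, hker]
    exact ⟨Units.mk0 a ha0, Units.ext (by simpa using ha)⟩
  have hexp : ∀ q : kˣ ⧸ P, q ^ (p ^ m) = 1 := fun q => by
    obtain ⟨c, rfl⟩ := QuotientGroup.mk'_surjective P q
    rw [← map_pow]
    exact (QuotientGroup.eq_one_iff _).2 ⟨c, rfl⟩
  obtain ⟨H, T, h1, h2, h3, h4, h5, h6, h7, h8⟩ := exists_split (fun a b => mul_comm a b) μ G p n' m (Fact.out : p.Prime) hn' hord hexp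
  exact ⟨H, T, h1, h2, h3, h4, h5, fun h hh => by rw [Ne, CharP.cast_eq_zero_iff k p]; exact h6 h hh, h7, h8⟩


/-- Let k be a field of characteristic p > 0 such that k contains all roots of unity (for every r ≥ 1
the polynomial X^r − 1 splits into linear factors over k), A a central division algebra of dimension
n² over k with n = n' · p ^ m and n' prime to p, and X → Spec k the Severi–Brauer variety of A (X
represents the functor of left ideals of A with projective quotient of corank n² − n). Then every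
finite subgroup G of the group of automorphisms of X over k is a semidirect product: there are
subgroups H and S of G with H normal in G, H ∩ S trivial and H S = G, such that every element of H
has order prime to p and S is abelian with s ^ (p ^ m) = 1 for all s in S. (The published statement
also bounds the order of H; that bound is not part of this row.) -/
theorem result
    (k : Type u) [Field k] (p : ℕ) [Fact p.Prime] [CharP k p]
    (hk : ∀ r : ℕ, 0 < r → (X ^ r - 1 : k[X]).Splits)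
    (A : Type u) [DivisionRing A] [Algebra k A] [Algebra.IsCentral k A]
    (n n' m : ℕ) (hn0 : 0 < n) (hA : Module.finrank k A = n * n) (hn : n = n' * p ^ m) (hn' : ¬ p ∣ n')
    {X : Scheme.{u}} (f : X ⟶ Spec (CommRingCat.of k)) (hX : BrSev.IsSBOf k A (n * n - n) f)
    (G : Subgroup (Aut (Over.mk f))) [Finite G] :
    ∃ H S : Subgroup (Aut (Over.mk f)), H ≤ G ∧ S ≤ G ∧
      (∀ g ∈ G, ∀ h ∈ H, g * h * g⁻¹ ∈ H) ∧ H ⊓ S = ⊥ ∧ H ⊔ S = G ∧
      (∀ h ∈ H, ((orderOf h : ℕ) : k) ≠ 0) ∧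
      (∀ s ∈ S, ∀ t ∈ S, s * t = t * s) ∧ (∀ s ∈ S, s ^ (p ^ m) = 1) := by
  obtain ⟨S⟩ := hX
  exact exists_split_units k p hk A n n' m hn0 hA hn hn' (Groth.L11.SBAut.autHom S)
    (haveI : FiniteDimensional k A := Module.finite_of_finrank_pos (by rw [hA]; positivity)
     Groth.L11.SBAut.autHom_surjective S hn0 hA)
    (haveI : FiniteDimensional k A := Module.finite_of_finrank_pos (by rw [hA]; positivity)
     Groth.L11.SBAut.autHom_ker S hn0 hA) G

end Groth.Agent.S15190
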