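import Groth.Statements.S15217
import Groth.Agent.L03.ShStab.Trunc

set_option autoImplicit false
open CategoryTheory CategoryTheory.Limits AlgebraicGeometry Polynomial
universe u
open ShStab

namespace Groth.Agent.S15217

/-- Let X be a scheme proper over a field k with an ample invertible sheaf L, all Hilbert polynomials
being taken with respect to L, and let d ≥ 1. For an O_X-module E the following are equivalent: (i)
E is semistable of dimension d in the sense of Gieseker, i.e. coherent, nonzero, pure of dimension
d, with reduced Hilbert polynomial p(F) ≤ p(E) for every nonzero proper coherent submodule F; (ii) E
is ℓ-semistable of dimension d for ℓ = d, i.e. coherent, nonzero, pure of dimension d, and for every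
coherent submodule F whose multiplicity satisfies 0 < α_d(F) < α_d(E) the reduced d-truncated
Hilbert polynomials (all coefficients α_{d-1}/α_d, …, α_0/α_d, compared lexicographically) satisfy
p_d(F) ≤ p_d(E). (The published remark is made for coherent sheaves on a connected smooth projective
variety with a very ample polarisation and records no argument; this row states the equivalence for
X proper over any field with L ample.) -/
theorem result (k : Type u) [Field k] (X : Scheme.{u})
    [X.Over (Spec (CommRingCat.of k))] [IsProper (X ↘ Spec (CommRingCat.of k))]
    (L : X.Modules) (hL : CohB1.IsAmple L) (d : ℕ) (hd : 1 ≤ d) (E : X.Modules) :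
    ShStab.IsSemistable k X L E d ↔ ShStab.IsEllSemistable k X L E d d := by
  exact ⟨Groth.L03.ShStab.Trunc.isEllSemistable_of_isSemistable hL d,
    Groth.L03.ShStab.Trunc.isSemistable_of_isEllSemistable_self hL⟩

end Groth.Agent.S15217
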