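import Groth.Statements.S1522
import Groth.Agent.L22.CurveDeg.NonSpecial
-- import your own Groth.Agent.* helpers here

set_option autoImplicit false
universe u
open CategoryTheory CategoryTheory.Limits AlgebraicGeometry
open Variety

namespace Groth.Agent.S1522

/-- On a proper curve over an algebraically closed field with g the dimension of H^1 of the structure
sheaf, every invertible module of degree at least 2g - 1 has H^1 equal to zero. -/
theorem result (k : Type u) [Field k] [IsAlgClosed k] (X : Scheme.{u}) [X.Over (Spec (CommRingCat.of k))]
    [IsIntegral X] [IsProper (X ↘ (Spec (CommRingCat.of k)))] (hdim : topologicalKrullDim X = 1)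
    (L : X.Modules) (hL : PicF.IsInvertible L)
    (hdeg : 2 * (Curv2.genus k X : ℤ) - 1 ≤ Curv2.deg k X L 1) :
    Subsingleton (Coh.HH X L 1) := by
  refine Groth.L21.RR.subsingleton_h1_of_deg_gt k hdim.le
    (Groth.L22.CurveDeg.h0_structure_eq_one (X := X) k) hL ?_
  change 2 * (Curv2.genus k X : ℤ) - 2 < Curv2.deg k X L 1
  omega

end Groth.Agent.S1522
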