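import Groth.Prelude.Def_ShStab
import Groth.Prelude.Def_CohB1
import Groth.Prelude.Def_Coh
import Groth.Prelude.Def_FlatMod2
import Groth.Prelude.Def_ega3
import Groth.Prelude.Def_LCI2
import Mathlib.AlgebraicGeometry.Morphisms.Proper
import Mathlib.AlgebraicGeometry.Morphisms.Smooth
import Mathlib.AlgebraicGeometry.Morphisms.FiniteType
import Mathlib.AlgebraicGeometry.Fiber
import Mathlib.Topology.KrullDimension
import Mathlib.Topology.Sober
import Groth.Agent.L11.EllSimple.Main
-- import your own Groth.Agent.* helpers here

set_option autoImplicit false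
set_option backward.isDefEq.respectTransparency false
set_option backward.isDefEq.respectTransparency.types false
open CategoryTheory CategoryTheory.Limits AlgebraicGeometry
universe u
open Coherent

namespace Groth.Agent.S15223

/-- Let k be a field, S an integral k-scheme of finite type with generic point ξ, f : Y → S a smooth
proper morphism which is projective (some invertible sheaf on Y is the restriction of O(1) along an
S-immersion into a projective space over S), and 1 ≤ ℓ ≤ d. Let E be a coherent sheaf on Y, flat
over S, whose fibre E_s on Y_s (over the residue field κ(s)) is nonzero and pure of dimension d for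
every point s of S. Call E_s ℓ-simple when, for every open U ⊆ Y_s such that every point z of
Supp(E_s) outside U has codimension at least ℓ + 1 in Supp(E_s) (the generizations of z inside
Supp(E_s) form a space of Krull dimension ≥ ℓ + 1), the restriction E_s|_U is nonzero and each of
its endomorphisms is multiplication by a scalar from κ(s) (on sections over every open V ⊆ U). If
E_s is ℓ-simple for every closed point s of S, then the generic fibre E_ξ is ℓ-simple over κ(ξ).
(The published statement speaks of a flat family of pure sheaves with ℓ-simple closed fibres; this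
row asks the fibre at every point of S to be nonzero and pure of the fixed dimension d ≥ ℓ.) -/
theorem result (k : Type u) [Field k]
    (S : Scheme.{u}) (q : S ⟶ Spec (CommRingCat.of k)) [IsIntegral S] [LocallyOfFiniteType q] [CompactSpace S]
    (Y : Scheme.{u}) (f : Y ⟶ S) [Smooth f] [IsProper f] (L : Y.Modules) (hL : RelAmple.IsRelVeryAmplePn f L)
    (d ℓ : ℕ) (hℓ : 1 ≤ ℓ) (hℓd : ℓ ≤ d)
    (E : Y.Modules) (hE : Coh.IsCoh E) (hfl : FlatMod.IsFlatOver f E)
    (hfib : ∀ s : S, ¬ IsZero (CohIII.fiberMod f E s) ∧ ShStab.IsPure (Over.mk (f.fiberToSpecResidueField s)).left (CohIII.fiberMod f E s) d)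
    (hsimple : ∀ s : S, IsClosed ({s} : Set S) →
      (∀ U : (f.fiber s).Opens,
        (∀ z : ↥(f.fiber s), z ∉ U → z ∈ CohB1.support (CohIII.fiberMod f E s) →
          ((ℓ : WithBot ℕ∞) + 1 ≤ topologicalKrullDim {t : ↥(f.fiber s) // t ∈ CohB1.support (CohIII.fiberMod f E s) ∧ t ⤳ z})) →
        ¬ IsZero ((Scheme.Modules.restrictFunctor U.ι).obj (CohIII.fiberMod f E s)) ∧
        ∀ φ : (Scheme.Modules.restrictFunctor U.ι).obj (CohIII.fiberMod f E s) ⟶ (Scheme.Modules.restrictFunctor U.ι).obj (CohIII.fiberMod f E s),
          ∃ c : ↥(S.residueField s), ∀ (V : (U : Scheme.{u}).Opens) (x : (CohIII.fiberMod f E s).val.obj (Opposite.op (U.ι ''ᵁ V))),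
            (φ.app V) ((Scheme.Modules.restrictAppIso U.ι (CohIII.fiberMod f E s) V).inv x) =
              (Scheme.Modules.restrictAppIso U.ι (CohIII.fiberMod f E s) V).inv
                (((f.fiber s).ringCatSheaf.obj.map (homOfLE (le_top : U.ι ''ᵁ V ≤ ⊤)).op
                  (Coh.toGlobal (f.fiberToSpecResidueField s) c)) • x))) :
    (∀ U : (f.fiber (genericPoint S)).Opens,
        (∀ z : ↥(f.fiber (genericPoint S)), z ∉ U → z ∈ CohB1.support (CohIII.fiberMod f E (genericPoint S)) →
          ((ℓ : WithBot ℕ∞) + 1 ≤ topologicalKrullDim {t : ↥(f.fiber (genericPoint S)) // t ∈ CohB1.support (CohIII.fiberMod f E (genericPoint S)) ∧ t ⤳ z})) →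
        ¬ IsZero ((Scheme.Modules.restrictFunctor U.ι).obj (CohIII.fiberMod f E (genericPoint S))) ∧
        ∀ φ : (Scheme.Modules.restrictFunctor U.ι).obj (CohIII.fiberMod f E (genericPoint S)) ⟶ (Scheme.Modules.restrictFunctor U.ι).obj (CohIII.fiberMod f E (genericPoint S)),
          ∃ c : ↥(S.residueField (genericPoint S)), ∀ (V : (U : Scheme.{u}).Opens) (x : (CohIII.fiberMod f E (genericPoint S)).val.obj (Opposite.op (U.ι ''ᵁ V))),
            (φ.app V) ((Scheme.Modules.restrictAppIso U.ι (CohIII.fiberMod f E (genericPoint S)) V).inv x) =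
              (Scheme.Modules.restrictAppIso U.ι (CohIII.fiberMod f E (genericPoint S)) V).inv
                (((f.fiber (genericPoint S)).ringCatSheaf.obj.map (homOfLE (le_top : U.ι ''ᵁ V ≤ ⊤)).op
                  (Coh.toGlobal (f.fiberToSpecResidueField (genericPoint S)) c)) • x)) := by
  exact fun U hU => Groth.L11.EllSimple.main f k q d ℓ E hE hfib hsimple U hU
end Groth.Agent.S15223
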