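import Groth.Statements.S15224
import Mathlib.Tactic.Ring
import Mathlib.Tactic.FieldSimp
import Mathlib.Tactic.LinearCombination
import Mathlib.Data.Nat.Choose.Cast
import Mathlib.Data.Nat.Choose.Sum
import Mathlib.Algebra.BigOperators.Intervals

set_option autoImplicit false
open Finset
open W4c2rk2extmaps

namespace Groth.Agent.S15224

/-- The alternating sum of the products of the divided powers. -/
theorem alt_sum {R : Type*} [CommRing R] [Algebra ℚ R] (y : R) (c : ℕ → R)
    (hc : ∀ k : ℕ, c k = ((Nat.factorial k : ℚ)⁻¹) • y ^ k) (k : ℕ) (hk : 1 ≤ k) :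
    (∑ i ∈ Finset.Ico 1 (k + 1), (-1 : R) ^ (i - 1) * (c i * c (k - i))) = c k := by
  have hmul : ∀ i ∈ Finset.range (k + 1), c i * c (k - i) = (k.choose i : R) * c k := by
    intro i hi
    have hik : i ≤ k := Nat.lt_succ_iff.mp (Finset.mem_range.mp hi)
    rw [hc, hc, hc, smul_mul_smul_comm, ← pow_add, Nat.add_sub_cancel' hik, mul_smul_comm,
      ← map_natCast (algebraMap ℚ R), ← Algebra.smul_def, smul_smul]
    congr 1
    rw [Nat.cast_choose ℚ hik]
    field_simp
  have h0 : (∑ i ∈ Finset.range (k + 1), (-1 : R) ^ i * (k.choose i : R)) = 0 := by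
    have h := congr_arg (fun z : ℤ => (z : R)) (Int.alternating_sum_range_choose (n := k))
    simpa [show k ≠ 0 by omega] using h
  have h1 : (∑ i ∈ Finset.range (k + 1), (-1 : R) ^ i * (c i * c (k - i))) = 0 := by
    rw [Finset.sum_congr rfl fun i hi => by rw [hmul i hi, ← mul_assoc], ← Finset.sum_mul, h0,
      zero_mul]
  rw [Finset.range_eq_Ico, Finset.sum_eq_sum_Ico_succ_bot (by omega), pow_zero, one_mul,
    show c 0 * c (k - 0) = c k by rw [hc 0]; simp] at h1
  rw [Finset.sum_congr rfl (g := fun i => -((-1 : R) ^ i * (c i * c (k - i)))) fun i hi => by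
    obtain ⟨i, rfl⟩ : ∃ j, i = j + 1 := ⟨i - 1, by have := (Finset.mem_Ico.mp hi).1; omega⟩
    simp [pow_succ]]
  rw [Finset.sum_neg_distrib]
  linear_combination -h1


/-- In a commutative ℚ-algebra R let y be an element and put c_k = y^k / k! for every k. Then for k ≥ 2,
Σ_{i=1}^{k-1} (-1)^(i-1) c_i c_(k-i) + (-1)^(k-1) c_k = c_k. (The published statement concerns the
Chern classes of a specific vector bundle on a Jacobian, which are of the form c_k = (4θ)^k / k!;
the printed argument establishes the identity for every sequence of this form in a commutative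
ℚ-algebra, which is the form stated here.) -/
theorem result (R : Type*) [CommRing R] [Algebra ℚ R] (y : R)
    (c : ℕ → R) (hc : ∀ k : ℕ, c k = ((Nat.factorial k : ℚ)⁻¹) • y ^ k)
    (k : ℕ) (hk : 2 ≤ k) :
    (∑ i ∈ Finset.Ico 1 k, (-1 : R) ^ (i - 1) * c i * c (k - i)) + (-1 : R) ^ (k - 1) * c k = c k := by
  have h := alt_sum y c hc k (by omega)
  rw [Finset.sum_Ico_succ_top (by omega)] at h
  rw [Nat.sub_self, show c 0 = 1 by rw [hc 0]; simp, mul_one] at h
  simpa [mul_assoc] using h

end Groth.Agent.S15224
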