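import Groth.Statements.S15226
import Groth.Agent.L21.Bundle.RankTwoExt
import Groth.Agent.L21.Duality.Main
import Groth.Agent.L21.Weil.EssFin
import Groth.Agent.L21.Bundle.Twist

set_option autoImplicit false
set_option backward.isDefEq.respectTransparency false
open CategoryTheory CategoryTheory.Limits AlgebraicGeometry MonoidalCategory
open VBCurve

namespace Groth.Agent.S15226

/-- Let X be a smooth proper integral curve over ℂ of genus at least 2 which is non-hyperelliptic, K a
module isomorphic to its sheaf of differentials, and E a slope-stable finite locally free module of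
rank 2 and degree 0 or 1 which is very stable: every O_X-linear α : E → E ⊗ K with α ∘ α = 0 (as a
map E → (E ⊗ K) ⊗ K) vanishes. Let L be an invertible module occurring as a line subbundle of E of
maximal degree (a monomorphism L → E with invertible quotient exists, and every invertible module
mapping monomorphically into E has degree at most deg L). Then for every non-zero s : L → E and
every non-zero t : E → L ⊗ K the composite L → E → L ⊗ K is non-zero; in other words the pairing
Hom(L, E) × Hom(E, L ⊗ K) → Hom(L, L ⊗ K) ≅ H^0(K) vanishes on no pair of non-zero elements. -/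
theorem result
    (X : Scheme.{0}) [X.Over (Spec (CommRingCat.of ℂ))] [IsIntegral X]
    [IsProper (X ↘ Spec (CommRingCat.of ℂ))] [Smooth (X ↘ Spec (CommRingCat.of ℂ))]
    (hdim : topologicalKrullDim X = 1) (hg : 2 ≤ Curv2.genus ℂ X)
    (hnh : ∀ M : X.Modules, PicF.IsInvertible M → Curv2.deg ℂ X M 1 = 2 →
      Module.finrank ℂ (Coh.HH X M 0) ≤ 1)
    (K : X.Modules) (eK : K ≅ Omega.sheaf (X ↘ Spec (CommRingCat.of ℂ)))
    (E : X.Modules) (hE : FlatMod.IsFinLocFreeOfRank 2 E)
    (hdegE : Curv2.deg ℂ X E 2 = 0 ∨ Curv2.deg ℂ X E 2 = 1)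
    (hst : ModFun.IsSlopeStable ℂ X E 2)
    (hvs : ∀ α : E ⟶ CohB1.tensorMod E K,
        α ≫ (CohB1.sheafifyMod X).map
          (MonoidalCategoryStruct.whiskerRight (C := CohB1.PMod X) α.val (CohB1.toPMod K)) = 0 → α = 0)
    (L : X.Modules) (hL : PicF.IsInvertible L)
    (hmax : ∃ j : L ⟶ E, Mono j ∧ PicF.IsInvertible (cokernel j) ∧
      ∀ (M : X.Modules) (i : M ⟶ E), PicF.IsInvertible M → Mono i → Curv2.deg ℂ X M 1 ≤ Curv2.deg ℂ X L 1)
    (s : L ⟶ E) (hs : s ≠ 0) (t : E ⟶ CohB1.tensorMod L K) (ht : t ≠ 0) :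
    s ≫ t ≠ 0 := by
  intro hst0
  haveI := Groth.L21.RR.isNoetherian_of_proper (X := X) ℂ
  have hs1 := Groth.L21.Bundle.locFree_one hL
  haveI : Mono s := Groth.L21.Bundle.mono_of_line ℂ hdim hs1 hE s hs
  have hKi : PicF.IsInvertible K := Groth.L18.Ample.isInvertible_of_iso eK.symm (Groth.L21.Duality.isInvertible_omega (k := ℂ) hdim)
  haveI : Mono ((Groth.L00.Tensor.tensorRightF K).map s) := Groth.L21.Bundle.mono_twist hKi s
  refine ht ?_
  have hα := hvs (t ≫ (Groth.L00.Tensor.tensorRightF K).map s) ?_
  · rwa [← cancel_mono ((Groth.L00.Tensor.tensorRightF K).map s), zero_comp]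
  · suffices h : (t ≫ (Groth.L00.Tensor.tensorRightF K).map s) ≫
        (Groth.L00.Tensor.tensorRightF K).map (t ≫ (Groth.L00.Tensor.tensorRightF K).map s) = 0 by
      refine Eq.trans ?_ h
      congr 1
    rw [Category.assoc, ← Functor.map_comp, ← Category.assoc s, hst0, zero_comp]
    rw [show (Groth.L00.Tensor.tensorRightF K).map (0 : L ⟶ _) = 0 from ?_, comp_zero]
    haveI := (Groth.L21.Weil.additive_tensor K).2
    exact (Groth.L00.Tensor.tensorRightF K).map_zero _ _

end Groth.Agent.S15226
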