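import Groth.Statements.S15228
import Groth.Agent.L21.Duality.Secant
import Groth.Agent.L21.Duality.CliffordEquality
import Mathlib.Analysis.Complex.Polynomial.Basic

set_option autoImplicit false
set_option backward.isDefEq.respectTransparency false
open CategoryTheory CategoryTheory.Limits AlgebraicGeometry MonoidalCategory
open VBCurve

namespace Groth.Agent.S15228

/-- Let X be a smooth proper integral curve over ℂ of genus g ≥ 3 which is non-hyperelliptic, K a module
isomorphic to its sheaf of differentials, and N an invertible module of degree g with h^0(N) ≤ 1, so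
that the complete linear system of K ⊗ N maps X to a projective space of dimension 2g − 2 as a curve
of degree 3g − 2. An effective divisor D of degree d, recorded through its invertible ideal sheaf I
⊂ O_X (of degree −d), is a d-secant when its linear span has dimension d − 2, i.e. h^0(I ⊗ K ⊗ N) =
h^0(K ⊗ N) − d + 1. Then X has exactly one g-secant: some invertible ideal I ⊂ O_X of degree −g
satisfies h^0(I ⊗ K ⊗ N) + (g − 1) = h^0(K ⊗ N), and any two such ideals are equal as subobjects of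
O_X (an isomorphism between them commutes with the inclusions). -/
theorem result
    (X : Scheme.{0}) [X.Over (Spec (CommRingCat.of ℂ))] [IsIntegral X]
    [IsProper (X ↘ Spec (CommRingCat.of ℂ))] [Smooth (X ↘ Spec (CommRingCat.of ℂ))]
    (hdim : topologicalKrullDim X = 1) (hg : 2 ≤ Curv2.genus ℂ X)
    (hnh : ∀ M : X.Modules, PicF.IsInvertible M → Curv2.deg ℂ X M 1 = 2 →
      Module.finrank ℂ (Coh.HH X M 0) ≤ 1)
    (K : X.Modules) (eK : K ≅ Omega.sheaf (X ↘ Spec (CommRingCat.of ℂ)))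
    (g : ℕ) (hg3 : 3 ≤ g) (hgen : Curv2.genus ℂ X = g)
    (N : X.Modules) (hN : PicF.IsInvertible N) (hdN : Curv2.deg ℂ X N 1 = (g : ℤ))
    (h0 : Module.finrank ℂ (Coh.HH X N 0) ≤ 1) :
    (∃ (I : X.Modules) (ι : I ⟶ Coh.structureModule X),
        PicF.IsInvertible I ∧ Mono ι ∧ Curv2.deg ℂ X I 1 = -((g : ℤ)) ∧
        Module.finrank ℂ (Coh.HH X (CohB1.tensorMod I (CohB1.tensorMod K N)) 0) + (g - 1) =
          Module.finrank ℂ (Coh.HH X (CohB1.tensorMod K N) 0)) ∧
      ∀ (I I' : X.Modules) (ι : I ⟶ Coh.structureModule X) (ι' : I' ⟶ Coh.structureModule X),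
        (PicF.IsInvertible I ∧ Mono ι ∧ Curv2.deg ℂ X I 1 = -((g : ℤ)) ∧
        Module.finrank ℂ (Coh.HH X (CohB1.tensorMod I (CohB1.tensorMod K N)) 0) + (g - 1) =
          Module.finrank ℂ (Coh.HH X (CohB1.tensorMod K N) 0)) →
        (PicF.IsInvertible I' ∧ Mono ι' ∧ Curv2.deg ℂ X I' 1 = -((g : ℤ)) ∧
        Module.finrank ℂ (Coh.HH X (CohB1.tensorMod I' (CohB1.tensorMod K N)) 0) + (g - 1) =
          Module.finrank ℂ (Coh.HH X (CohB1.tensorMod K N) 0)) →
        ∃ φ : I' ≅ I, φ.hom ≫ ι = ι' := by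
  haveI := Groth.L21.RR.isNoetherian_of_proper (X := X) ℂ
  have hO := Groth.L21.RR.h0_eq_one_of_isAlgClosed (X := X) ℂ
  let Ω := Omega.sheaf (X ↘ Spec (CommRingCat.of ℂ))
  let a := Groth.L00.Tensor.tensorIso eK (Iso.refl N)
  have hKN := Groth.L21.Duality.h0_omega_tensor (k := ℂ) hdim hN (by omega)
  refine ⟨?_, ?_⟩
  · have hr := Groth.L21.Duality.rr_deg (k := ℂ) hdim.le hO N
    rw [hdN, hgen] at hr
    haveI := Groth.L21.Duality.nontrivial_of_h0_pos (k := ℂ) (L := N) (by omega)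
    obtain ⟨s, hs⟩ := Groth.L21.RR.exists_hom_ne_zero (L := N)
    haveI := Groth.L21.RR.mono_of_ne_zero hN hs
    obtain ⟨I, hI, ⟨c⟩⟩ := Groth.L08.Cube.exists_inverse hN
    haveI : Mono (((DCoh.tensorBi (X := X)).obj I).map s) :=
      (Groth.L16.FrameIso.shortExact_tensor_left (Groth.L21.RR.isFlat_of_isInvertible hI)
        (ShortComplex.mk s (cokernel.π s) (cokernel.condition s))
        { exact := ShortComplex.exact_cokernel s }).mono_f
    let c' : CohB1.tensorMod I N ≅ Coh.structureModule X := Groth.L00.Tensor.tensorComm I N ≪≫ c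
    refine ⟨I, (Groth.L00.Tensor.tensorUnitRight I).inv ≫ ((DCoh.tensorBi (X := X)).obj I).map s ≫ c'.hom,
      hI, inferInstance, ?_, ?_⟩
    · have h1 := Groth.L21.Duality.deg_tensor (k := ℂ) hdim hN hI
      rw [Groth.L21.Duality.deg_congr (k := ℂ) c, Groth.L21.Duality.deg_structureModule, hdN] at h1
      omega
    · show Groth.L21.RR.h ℂ 0 _ + _ = Groth.L21.RR.h ℂ 0 _
      let b : CohB1.tensorMod I (CohB1.tensorMod Ω N) ≅ Ω :=
        Groth.L00.Tensor.tensorComm I _ ≪≫ Groth.L00.Tensor.tensorAssoc Ω N I ≪≫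
          Groth.L00.Tensor.tensorIso (Iso.refl Ω) c ≪≫ Groth.L00.Tensor.tensorUnitRight Ω
      rw [Groth.L21.RR.h_congr ℂ a 0, Groth.L21.RR.h_congr ℂ (Groth.L00.Tensor.tensorIso (Iso.refl I) a) 0,
        Groth.L21.RR.h_congr ℂ b 0, (Groth.L21.Duality.omega_invariants (k := ℂ) (X := X) hdim).1]
      change Curv2.genus ℂ X + _ = _
      omega
  · rintro I I' ι ι' ⟨hI, hmono, hdI, heq⟩ ⟨hI', hmono', hdI', heq'⟩
    haveI := hmono
    haveI := hmono'
    change Groth.L21.RR.h ℂ 0 _ + _ = Groth.L21.RR.h ℂ 0 _ at heq heq'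
    rw [Groth.L21.RR.h_congr ℂ a 0, Groth.L21.RR.h_congr ℂ (Groth.L00.Tensor.tensorIso (Iso.refl I) a) 0] at heq
    rw [Groth.L21.RR.h_congr ℂ a 0, Groth.L21.RR.h_congr ℂ (Groth.L00.Tensor.tensorIso (Iso.refl I') a) 0] at heq'
    obtain ⟨j⟩ := Groth.L21.Duality.secant_iso (k := ℂ) hdim hI hN (n := g) hdI hdN (by omega)
    obtain ⟨j'⟩ := Groth.L21.Duality.secant_iso (k := ℂ) hdim hI' hN (n := g) hdI' hdN (by omega)
    obtain ⟨u, hu⟩ := Groth.L21.Duality.exists_fac_of_h0_le_one (k := ℂ) hN h0 ι ι' j j'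
    obtain ⟨w, hw⟩ := Groth.L21.Duality.exists_fac_of_h0_le_one (k := ℂ) hN h0 ι' ι j' j
    exact ⟨⟨u, w, (cancel_mono ι').1 (by rw [Category.assoc, hw, hu, Category.id_comp]),
      (cancel_mono ι).1 (by rw [Category.assoc, hu, hw, Category.id_comp])⟩, hu⟩

end Groth.Agent.S15228
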