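import Groth.Statements.S15229
import Mathlib.Tactic.Ring
import Mathlib.Tactic.FieldSimp
import Mathlib.Tactic.LinearCombination
import Mathlib.Data.Nat.Choose.Cast
import Mathlib.Data.Nat.Choose.Sum
import Mathlib.Algebra.BigOperators.Intervals

set_option autoImplicit false
open Finset
open W4c2rk2extmaps

namespace Groth.Agent.S15229

/-- The alternating sum of the products of the divided powers. -/
theorem alt_sum {R : Type*} [CommRing R] [Algebra ℚ R] (y : R) (c : ℕ → R)
    (hc : ∀ k : ℕ, c k = ((Nat.factorial k : ℚ)⁻¹) • y ^ k) (k : ℕ) (hk : 1 ≤ k) :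
    (∑ i ∈ Finset.Ico 1 (k + 1), (-1 : R) ^ (i - 1) * (c i * c (k - i))) = c k := by
  have hmul : ∀ i ∈ Finset.range (k + 1), c i * c (k - i) = (k.choose i : R) * c k := by
    intro i hi
    have hik : i ≤ k := Nat.lt_succ_iff.mp (Finset.mem_range.mp hi)
    rw [hc, hc, hc, smul_mul_smul_comm, ← pow_add, Nat.add_sub_cancel' hik, mul_smul_comm,
      ← map_natCast (algebraMap ℚ R), ← Algebra.smul_def, smul_smul]
    congr 1
    rw [Nat.cast_choose ℚ hik]
    field_simp
  have h0 : (∑ i ∈ Finset.range (k + 1), (-1 : R) ^ i * (k.choose i : R)) = 0 := by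
    have h := congr_arg (fun z : ℤ => (z : R)) (Int.alternating_sum_range_choose (n := k))
    simpa [show k ≠ 0 by omega] using h
  have h1 : (∑ i ∈ Finset.range (k + 1), (-1 : R) ^ i * (c i * c (k - i))) = 0 := by
    rw [Finset.sum_congr rfl fun i hi => by rw [hmul i hi, ← mul_assoc], ← Finset.sum_mul, h0,
      zero_mul]
  rw [Finset.range_eq_Ico, Finset.sum_eq_sum_Ico_succ_bot (by omega), pow_zero, one_mul,
    show c 0 * c (k - 0) = c k by rw [hc 0]; simp] at h1
  rw [Finset.sum_congr rfl (g := fun i => -((-1 : R) ^ i * (c i * c (k - i)))) fun i hi => by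
    obtain ⟨i, rfl⟩ : ∃ j, i = j + 1 := ⟨i - 1, by have := (Finset.mem_Ico.mp hi).1; omega⟩
    simp [pow_succ]]
  rw [Finset.sum_neg_distrib]
  linear_combination -h1


/-- In a commutative ℚ-algebra R let θ, η be elements and g a natural number, and put c_k = (4θ)^k / k!.
Suppose θ^(g+1) = 0 and that η satisfies the relation η^(g+1) = Σ_{i=1}^{g+1} (-1)^(i-1) c_i
η^(g+1-i). Then η^(g+k) θ^(g-k) = c_k η^g θ^(g-k) for every 1 ≤ k ≤ g. (The published statement
concerns the first Chern class η of the tautological line bundle on a projective bundle P(U) over a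
g-dimensional Jacobian, with c_k the Chern classes of U, which are (4θ)^k / k!; there θ^(g+1)
vanishes for dimension reasons and the displayed relation is the projective-bundle relation, and the
printed argument derives the identity from exactly these three inputs, which is the form stated
here.) -/
theorem result (R : Type*) [CommRing R] [Algebra ℚ R]
    (θ η : R) (g : ℕ) (c : ℕ → R) (hc : ∀ k : ℕ, c k = ((Nat.factorial k : ℚ)⁻¹) • ((4 : R) * θ) ^ k)
    (hθ : θ ^ (g + 1) = 0)
    (hrel : η ^ (g + 1) = ∑ i ∈ Finset.Ico 1 (g + 2), (-1 : R) ^ (i - 1) * c i * η ^ (g + 1 - i))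
    (k : ℕ) (hk1 : 1 ≤ k) (hkg : k ≤ g) :
    η ^ (g + k) * θ ^ (g - k) = c k * η ^ g * θ ^ (g - k) := by
  have hpow : ∀ i, ∃ q : R, c i = q * θ ^ i := fun i =>
    ⟨((Nat.factorial i : ℚ)⁻¹) • (4 : R) ^ i, by rw [hc, mul_pow, smul_mul_assoc]⟩
  have hc0 : c 0 = 1 := by rw [hc 0]; simp
  have key : ∀ k, k ≤ g → η ^ (g + k) * θ ^ (g - k) = c k * η ^ g * θ ^ (g - k) := by
    intro k
    induction k using Nat.strong_induction_on with
    | _ k ih =>
      intro hkg
      rcases Nat.eq_zero_or_pos k with rfl | hk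
      · simp [hc0]
      have hterm : ∀ i ∈ Finset.Ico 1 (g + 2),
          (-1 : R) ^ (i - 1) * c i * η ^ (g + 1 - i) * (η ^ (k - 1) * θ ^ (g - k)) =
            if i ≤ k then (-1 : R) ^ (i - 1) * (c i * c (k - i)) * (η ^ g * θ ^ (g - k)) else 0 := by
        intro i hi
        obtain ⟨hi1, hi2⟩ := Finset.mem_Ico.mp hi
        obtain ⟨q, hq⟩ := hpow i
        split_ifs with hik
        · have e1 : η ^ (g + 1 - i) * η ^ (k - 1) = η ^ (g + (k - i)) := by
            rw [← pow_add]; congr 1; omega
          have e2 : θ ^ i * θ ^ (g - k) = θ ^ (g - (k - i)) := by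
            rw [← pow_add]; congr 1; omega
          have h' := ih (k - i) (by omega) (by omega)
          calc _ = (-1 : R) ^ (i - 1) * q * ((η ^ (g + 1 - i) * η ^ (k - 1)) * (θ ^ i * θ ^ (g - k))) := by
                rw [hq]; ring
            _ = (-1 : R) ^ (i - 1) * q * (c (k - i) * η ^ g * (θ ^ i * θ ^ (g - k))) := by
                rw [e1, e2, h', ← e2]
            _ = _ := by rw [hq]; ring
        · have e2 : θ ^ i * θ ^ (g - k) = 0 := by
            rw [← pow_add, show i + (g - k) = (g + 1) + (i + (g - k) - (g + 1)) by omega, pow_add, hθ,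
              zero_mul]
          calc _ = (-1 : R) ^ (i - 1) * q * (η ^ (g + 1 - i) * η ^ (k - 1)) * (θ ^ i * θ ^ (g - k)) := by
                rw [hq]; ring
            _ = 0 := by rw [e2, mul_zero]
      have e : η ^ (g + k) = η ^ (g + 1) * η ^ (k - 1) := by rw [← pow_add]; congr 1; omega
      rw [e, hrel, mul_assoc, Finset.sum_mul, Finset.sum_congr rfl hterm, Finset.sum_ite,
        Finset.sum_const_zero, add_zero,
        show (Finset.Ico 1 (g + 2)).filter (fun i => i ≤ k) = Finset.Ico 1 (k + 1) by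
          ext i; simp only [Finset.mem_filter, Finset.mem_Ico]; omega,
        ← Finset.sum_mul, alt_sum ((4 : R) * θ) c hc k hk]
      ring
  exact key k hkg

end Groth.Agent.S15229
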