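import Groth.Statements.S1523
import Groth.Agent.L22.CurveDeg.NonSpecial
-- import your own Groth.Agent.* helpers here

set_option autoImplicit false
universe u
open CategoryTheory CategoryTheory.Limits AlgebraicGeometry
open Variety

namespace Groth.Agent.S1523

/-- On a proper curve over an algebraically closed field there is an invertible module whose H^0 is
one-dimensional and whose H^1 vanishes, and an invertible module whose H^0 and H^1 both vanish. -/
theorem result (k : Type u) [Field k] [IsAlgClosed k] (X : Scheme.{u}) [X.Over (Spec (CommRingCat.of k))]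
    [IsIntegral X] [IsProper (X ↘ (Spec (CommRingCat.of k)))] (hdim : topologicalKrullDim X = 1) :
    (∃ L : X.Modules, PicF.IsInvertible L ∧ Module.finrank k (Coh.HH X L 0) = 1 ∧ Subsingleton (Coh.HH X L 1)) ∧
    (∃ N : X.Modules, PicF.IsInvertible N ∧ Subsingleton (Coh.HH X N 0) ∧ Subsingleton (Coh.HH X N 1)) := by
  obtain ⟨L, hL, hL0, hL1⟩ := Groth.L22.CurveDeg.exists_nonspecial (k := k) hdim 1
  obtain ⟨N, hN, hN0, hN1⟩ := Groth.L22.CurveDeg.exists_nonspecial (k := k) hdim 0
  haveI := Groth.L21.RR.isNoetherian_of_proper (X := X) k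
  haveI := Groth.L21.RR.finite_HH' k (Groth.L16.ProperFinite.isCoh_of_isInvertible hN) 0
  exact ⟨⟨L, hL, hL0, hL1⟩, ⟨N, hN, Module.finrank_zero_iff.1 hN0, hN1⟩⟩

end Groth.Agent.S1523
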