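import Groth.Statements.S15231
import Groth.Agent.L10.DRing.LTensorKFlat

set_option autoImplicit false
set_option backward.defeqAttrib.useBackward true
set_option backward.isDefEq.respectTransparency false
universe u
open CategoryTheory CategoryTheory.Limits
attribute [local instance] HasDerivedCategory.standard
open DRing

namespace Groth.Agent.S15231

/-- Let R be a Noetherian local commutative ring with residue field κ, let P be any object of D(R) and
a, b integers. Suppose that H^i(P ⊗^L_R κ) = 0 for every i outside [a, b] (over the field κ this
says exactly that P ⊗^L_R κ has tor amplitude in [a, b] as an object of D(κ)). Then for every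
R-module N of finite length, H^i(P ⊗^L_R N) = 0 for every i outside [a, b]. The derived base change
to κ and the derived tensor products with R-modules are the total left derived functors on D(R),
assumed to exist for every R-module (as they do). -/
theorem result (R : Type u) [CommRing R] [IsNoetherianRing R]
    [IsLocalRing R] [DRing.HasLBaseChange (IsLocalRing.residue R)] [∀ M : ModuleCat.{u} R, DRing.HasLTensor R M]
    (P : Dual.D R) (a b : ℤ)
    (h : ∀ i : ℤ, (i < a ∨ b < i) →
      Subsingleton (Dual.HD (IsLocalRing.ResidueField R) ((DRing.LBaseChange (IsLocalRing.residue R)).obj P) i))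
    (N : Type u) [AddCommGroup N] [Module R N] (hN : IsFiniteLength R N) (i : ℤ) (hi : i < a ∨ b < i) :
    Subsingleton (Dual.HD R ((DRing.LTensor R (ModuleCat.of R N)).obj P) i) := by
  obtain ⟨Kf, hKf, hflat, ⟨eK⟩⟩ := Groth.L10.KFlatLBC.exists_rep_flat P
  haveI := h i hi
  have hk : IsZero (((_root_.DTen.extCx (IsLocalRing.residue R)).obj Kf).homology i) :=
    (Groth.L10.DR.HH_iso_zero ((Groth.L10.KFlatLBC.lbcKF (IsLocalRing.residue R) Kf hKf).symm ≪≫
      (DRing.LBaseChange (IsLocalRing.residue R)).mapIso eK) i).1 (ModuleCat.isZero_of_subsingleton _)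
  have hz := Groth.L10.LTensorKFlat.isZero_finiteLength hflat i
    (Groth.L10.LTensorKFlat.isZero_quotient_maximal Kf i hk) hN
  exact ModuleCat.subsingleton_of_isZero ((Groth.L10.DR.HH_iso_zero
    ((Groth.L10.LTensorKFlat.compute (ModuleCat.of R N) Kf hKf).symm ≪≫
      (DRing.LTensor R (ModuleCat.of R N)).mapIso eK) i).2 hz)

end Groth.Agent.S15231
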