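import Groth.Statements.S15233
import Mathlib.Algebra.Category.Grp.Zero
import Mathlib.CategoryTheory.Sites.LocallyBijective
import Mathlib.Algebra.Category.Grp.FilteredColimits

set_option autoImplicit false
universe u
open CategoryTheory CategoryTheory.Limits Opposite
open CohSite

namespace Groth.Agent.S15233

/-- Let C be a small category with a Grothendieck topology J, and let B be a class of objects forming a
prebasis: for every object V and every covering sieve S of V, the arrows of S whose domain lies in B
generate a covering sieve of V. If F is a presheaf of abelian groups on C such that F(U) = 0 for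
every object U in B, then the sheafification of F is zero. -/
theorem result {C : Type u} [SmallCategory C] (J : GrothendieckTopology C)
    (B : ObjectProperty C)
    (hB : ∀ (V : C) (S : Sieve V), S ∈ J V →
      Sieve.generate (fun (U : C) => {g : U ⟶ V | S.arrows g ∧ B U}) ∈ J V)
    (F : Cᵒᵖ ⥤ AddCommGrpCat.{u}) (hF : ∀ U : C, B U → IsZero (F.obj (op U))) :
    IsZero ((presheafToSheaf J AddCommGrpCat.{u}).obj F) := by
  have hsh : Presheaf.IsSheaf J (sheafify J F) := ((presheafToSheaf J AddCommGrpCat.{u}).obj F).property
  have hsep := ((isSheaf_iff_isSheaf_of_type J _).1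
    ((Presheaf.isSheaf_iff_isSheaf_forget J _ (forget AddCommGrpCat.{u})).1 hsh)).isSeparated
  have hz : toSheafify J F = 0 := by
    ext V x
    obtain ⟨V⟩ := V
    refine (hsep _ (hB V ⊤ (J.top_mem V))).ext ?_
    rintro W g ⟨U, h, k, ⟨-, hk⟩, rfl⟩
    have h0 : F.map k.op x = 0 := @Subsingleton.elim _ (AddCommGrpCat.isZero_iff_subsingleton.1 (hF U hk)) _ _
    change (sheafify J F).map (h ≫ k).op ((toSheafify J F).app (op V) x) = (sheafify J F).map (h ≫ k).op 0
    rw [map_zero, ← NatTrans.naturality_apply, op_comp, Functor.map_comp, ConcreteCategory.comp_apply, h0, map_zero, map_zero]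
  have hid : 𝟙 (sheafify J F) = 0 := sheafify_hom_ext J _ _ hsh (by simp [hz])
  rw [IsZero.iff_id_eq_zero]
  exact Sheaf.hom_ext hid

end Groth.Agent.S15233
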