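import Groth.Statements.S15235
import Groth.Agent.L04.MLSys
import Mathlib.Tactic.Abel

set_option autoImplicit false
universe u
open CategoryTheory Opposite
open HomAlg3

namespace Groth.Agent.S15235

open Groth.L04.MLSys CategoryTheory CategoryTheory.Limits Opposite

/-- Let (G_j) be an inverse system of abelian groups indexed by the natural numbers, with transition
maps G_{j+1} → G_j, and let j₀ be a natural number such that the transition map G_{j+1} → G_j is
surjective for every j ≥ j₀. Then: (a) the system satisfies the Mittag-Leffler condition; (b) the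
evaluation map from the inverse limit (realised as the set of compatible families) to G_{j₀} is
surjective; (c) if in addition the transition maps G_{j+1} → G_j are injective for every j ≥ j₀,
that evaluation map is bijective. (The published statement indexes the system by the negative
integers and assumes j₀ ≥ 1; this row indexes it by the natural numbers and allows j₀ = 0, which
changes nothing.) -/
theorem result (G : ℕᵒᵖ ⥤ AddCommGrpCat.{u})
    (j₀ : ℕ) (hs : ∀ j : ℕ, j₀ ≤ j → Function.Surjective (G.map (homOfLE (Nat.le_succ j)).op).hom) :
    (G ⋙ forget AddCommGrpCat.{u}).IsMittagLeffler ∧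
      Function.Surjective (fun s : (G ⋙ forget AddCommGrpCat.{u}).sections => s.1 (op j₀)) ∧
      ((∀ j : ℕ, j₀ ≤ j → Function.Injective (G.map (homOfLE (Nat.le_succ j)).op).hom) →
        Function.Bijective (fun s : (G ⋙ forget AddCommGrpCat.{u}).sections => s.1 (op j₀))) := by
  have hsur : ∀ i j (h : i ≤ j), j₀ ≤ i → Function.Surjective (res G h) := by
    intro i j h h0
    induction j, h using Nat.le_induction with
    | base => exact fun x => ⟨x, res_refl G x⟩
    | succ j h ih =>
      intro x
      obtain ⟨y, rfl⟩ := ih x
      obtain ⟨z, rfl⟩ := hs j (h0.trans h) y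
      exact ⟨z, (res_res G h (Nat.le_succ j) z).symm⟩
  refine ⟨(isML_iff G).mpr fun i => ⟨max i j₀, le_max_left _ _, fun m hm x => ?_⟩, ?_, ?_⟩
  · obtain ⟨y, hy⟩ := hsur _ (max m (max i j₀)) (le_max_right _ _) (le_max_right _ _) x
    refine ⟨res G (le_max_left _ _) y, ?_⟩
    rw [res_res, ← res_res G (le_max_left i j₀) (le_max_right m _), hy]
  · intro x
    obtain ⟨b, hb0, -, hb⟩ := exists_seq (E := fun n => (G.obj (op (j₀ + n)) : Type u)) (fun _ _ => True)
      (fun n => res G (Nat.le_succ (j₀ + n))) (fun n y _ => by
        obtain ⟨z, hz⟩ := hs (j₀ + n) (Nat.le_add_right _ _) y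
        exact ⟨z, trivial, hz⟩) x trivial
    have hchain : ∀ n m (h : n ≤ m), res G (Nat.add_le_add_left h j₀) (b m) = b n := by
      intro n m h
      induction m, h using Nat.le_induction with
      | base => exact res_refl G _
      | succ m h ih => rw [← ih, ← hb m, res_res]
    refine ⟨⟨fun i => res G (Nat.le_add_left i.unop j₀) (b i.unop), fun {i j} f => ?_⟩, ?_⟩
    · show res G (leOfHom f.unop) (res G _ (b i.unop)) = res G _ (b j.unop)
      rw [res_res, ← hchain j.unop i.unop (leOfHom f.unop), res_res]
    · show res G _ (b j₀) = x
      rw [← hb0, ← hchain 0 j₀ (Nat.zero_le _)]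
  · intro hi
    have hinj : ∀ j (h : j₀ ≤ j), Function.Injective (res G h) := by
      intro j h
      induction j, h using Nat.le_induction with
      | base => exact fun x y hxy => by simpa [res_refl] using hxy
      | succ j h ih =>
        intro x y hxy
        rw [← res_res G h (Nat.le_succ j), ← res_res G h (Nat.le_succ j)] at hxy
        exact hi j h (ih hxy)
    refine ⟨fun s t hst => Subtype.ext (funext fun i => ?_), ?_⟩
    · have key : ∀ s : (G ⋙ forget AddCommGrpCat.{u}).sections, ∀ a b (h : a ≤ b), res G h (s.1 (op b)) = s.1 (op a) :=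
        fun s a b h => s.2 (homOfLE h).op
      obtain ⟨i⟩ := i
      rw [← key s i (max i j₀) (le_max_left _ _), ← key t i (max i j₀) (le_max_left _ _)]
      congr 1
      exact hinj _ (le_max_right i j₀) (by rw [key, key]; exact hst)
    · intro x
      obtain ⟨b, hb0, -, hb⟩ := exists_seq (E := fun n => (G.obj (op (j₀ + n)) : Type u)) (fun _ _ => True)
        (fun n => res G (Nat.le_succ (j₀ + n))) (fun n y _ => by
          obtain ⟨z, hz⟩ := hs (j₀ + n) (Nat.le_add_right _ _) y
          exact ⟨z, trivial, hz⟩) x trivial
      have hchain : ∀ n m (h : n ≤ m), res G (Nat.add_le_add_left h j₀) (b m) = b n := by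
        intro n m h
        induction m, h using Nat.le_induction with
        | base => exact res_refl G _
        | succ m h ih => rw [← ih, ← hb m, res_res]
      refine ⟨⟨fun i => res G (Nat.le_add_left i.unop j₀) (b i.unop), fun {i j} f => ?_⟩, ?_⟩
      · show res G (leOfHom f.unop) (res G _ (b i.unop)) = res G _ (b j.unop)
        rw [res_res, ← hchain j.unop i.unop (leOfHom f.unop), res_res]
      · show res G _ (b j₀) = x
        rw [← hb0, ← hchain 0 j₀ (Nat.zero_le _)]

end Groth.Agent.S15235
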