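import Groth.Statements.S15236
import Groth.Agent.L02.ConsP.Models
import Mathlib.AlgebraicGeometry.AlgClosed.Basic
import Mathlib.FieldTheory.IsAlgClosed.Classification

set_option autoImplicit false
set_option linter.style.haveILetI false
open CategoryTheory CategoryTheory.Limits AlgebraicGeometry
universe u
open Variety

namespace Groth.Agent.S15236

open Cardinal CategoryTheory CategoryTheory.Limits AlgebraicGeometry

/-- Two embeddings of a countable domain into algebraically closed uncountable fields of the same cardinality. -/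
theorem exists_ringEquiv {R K L : Type u} [CommRing R] [Field K] [Field L] [IsAlgClosed K] [IsAlgClosed L]
    (hR : #R ≤ ℵ₀) (a : R →+* K) (b : R →+* L) (ha : Function.Injective a) (hb : Function.Injective b)
    (hK : ℵ₀ < #K) (hKL : #K = #L) : ∃ σ : K ≃+* L, σ.toRingHom.comp a = b := by
  algebraize [a]
  letI : Algebra R L := b.toAlgebra
  haveI : IsDomain R := ha.isDomain a
  haveI : FaithfulSMul R K := (faithfulSMul_iff_algebraMap_injective R K).mpr ha
  haveI : FaithfulSMul R L := (faithfulSMul_iff_algebraMap_injective R L).mpr hb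
  obtain ⟨s, hs⟩ := exists_isTranscendenceBasis R K
  obtain ⟨t, ht⟩ := exists_isTranscendenceBasis R L
  have hst : #s = #t := by
    rw [← IsAlgClosed.cardinal_eq_cardinal_transcendence_basis_of_aleph0_lt' _ hs hR hK,
      ← IsAlgClosed.cardinal_eq_cardinal_transcendence_basis_of_aleph0_lt' _ ht hR (hKL ▸ hK), hKL]
  obtain ⟨e₀⟩ := Cardinal.eq.1 hst
  letI := IsAlgClosed.isAlgClosure_of_transcendence_basis _ hs
  letI := IsAlgClosed.isAlgClosure_of_transcendence_basis _ ht
  let e : Algebra.adjoin R (Set.range ((↑) : s → K)) ≃ₐ[R] Algebra.adjoin R (Set.range ((↑) : t → L)) :=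
    hs.1.aevalEquiv.symm.trans ((MvPolynomial.renameEquiv R e₀).trans ht.1.aevalEquiv)
  refine ⟨IsAlgClosure.equivOfEquiv K L e.toRingEquiv, ?_⟩
  ext r
  exact (IsAlgClosure.equivOfEquiv_algebraMap K L e.toRingEquiv (algebraMap R _ r)).trans
    (congrArg _ (e.commutes r))

variable {T : Scheme.{u}} {V : T.Opens} (hV : IsAffineOpen V)

theorem exists_ringHom {K : Type u} [Field K] (q : Spec (CommRingCat.of K) ⟶ T) (x : T)
    (hq : ∀ p, q p = x) (hx : x ∈ V) :
    ∃ φ : Γ(T, V) →+* K, Spec.map (CommRingCat.ofHom φ) ≫ hV.fromSpec = q ∧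
      ∀ a, x ∈ T.basicOpen a → φ a ≠ 0 := by
  obtain ⟨φ, hφ⟩ := Spec.map_surjective
    (IsOpenImmersion.lift hV.fromSpec q (by rw [hV.range_fromSpec]; rintro _ ⟨p, rfl⟩; rw [hq]; exact hx))
  have hq' : Spec.map φ ≫ hV.fromSpec = q := by rw [hφ, IsOpenImmersion.lift_fac]
  refine ⟨φ.hom, hq', fun a ha h0 => ?_⟩
  let p : Spec (CommRingCat.of K) := ⟨⊥, Ideal.isPrime_bot⟩
  have : (Spec.map φ) p ∈ hV.fromSpec ⁻¹ᵁ T.basicOpen a := by
    show hV.fromSpec ((Spec.map φ) p) ∈ T.basicOpen a
    rwa [← Scheme.Hom.comp_apply, hq', hq]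
  rw [hV.fromSpec_preimage_basicOpen] at this
  exact this (show φ.hom a ∈ (⊥ : Ideal K) from (Submodule.mem_bot K).2 h0)

/-- The cardinality of residue fields on an affine open of finite type over a field. -/
theorem mk_residueField {k : Type u} [Field k] [Uncountable k] (sT : T ⟶ Spec (CommRingCat.of k))
    [LocallyOfFiniteType sT] (hV : IsAffineOpen V) (x : T) (hx : x ∈ V) : #(T.residueField x) = #k := by
  have hk : ℵ₀ ≤ #k := aleph0_lt_mk.le
  let α : k →+* Γ(T, V) := (sT.appLE ⊤ V le_top).hom.comp (Scheme.ΓSpecIso (CommRingCat.of k)).inv.hom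
  have hα : α.FiniteType := (LocallyOfFiniteType.finiteType_appLE sT (isAffineOpen_top _) hV le_top).comp
    (RingHom.FiniteType.of_surjective _ (ConcreteCategory.bijective_of_isIso (Scheme.ΓSpecIso (CommRingCat.of k)).inv).2)
  algebraize [α]
  obtain ⟨n, f, hf⟩ := Algebra.FiniteType.iff_quotient_mvPolynomial''.1 (inferInstance : Algebra.FiniteType k Γ(T, V))
  have hA : #Γ(T, V) ≤ #k := (mk_le_of_surjective hf).trans <| MvPolynomial.cardinalMk_le_max_lift.trans
    (max_le (max_le (by simp) ((lt_aleph0_of_finite _).le.trans (by simp))) (by simp))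
  letI := TopCat.Presheaf.algebra_section_stalk T.presheaf ⟨x, hx⟩
  haveI := hV.isLocalization_stalk ⟨x, hx⟩
  have hst : #(T.presheaf.stalk x) ≤ #k := by
    refine (mk_le_of_surjective (f := fun p : Γ(T, V) × (hV.primeIdealOf ⟨x, hx⟩).asIdeal.primeCompl =>
      IsLocalization.mk' (T.presheaf.stalk x) p.1 p.2) (IsLocalization.mk'_surjective _)).trans ?_
    simp only [mk_prod, lift_id]
    exact (mul_le_mul' hA ((mk_le_of_injective Subtype.val_injective).trans hA)).trans (mul_eq_self hk).le
  refine le_antisymm ((mk_le_of_surjective (Scheme.residue_surjective T x)).trans hst) ?_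
  exact mk_le_of_injective ((Spec.preimage (T.fromSpecResidueField x ≫ sT)).hom).injective

end Groth.Agent.S15236

namespace Groth.Agent.S15236
open Cardinal CategoryTheory CategoryTheory.Limits AlgebraicGeometry

/-- Let k be an uncountable algebraically closed field of characteristic zero, T an integral k-scheme of
finite type and f : X → T a flat morphism of finite type. Then there are countably many closed
subsets Z₀, Z₁, … of T, none of them equal to T, such that for every closed point t of T lying in no
Zₙ the fibre X_t = X ×_T Spec κ(t) is isomorphic, as a scheme, to the geometric generic fibre X ×_T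
Spec L, where L is an algebraic closure of the residue field of T at its generic point (existence of
an isomorphism of schemes only; that such an isomorphism preserves rational equivalence of algebraic
cycles, as the published statement adds, is automatic and is not restated). (The published statement
fixes the countable family of closed subsets before the family X → T and allows any flat T-scheme X
over any integral k-scheme T. Both fail: for T the affine line and X the spectrum of its function
field every closed fibre is empty while the geometric generic fibre is a point, and for any fixed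
countable family of proper closed subsets of the affine line, X the complement of a closed point
outside all of them has an empty fibre there. This row takes T and f of finite type and lets the
closed subsets depend on f.) -/
theorem result (k : Type u) [Field k] [IsAlgClosed k]
    [CharZero k] [Uncountable k] (T X : Scheme.{u}) (sT : T ⟶ Spec (CommRingCat.of k)) [IsIntegral T]
    [LocallyOfFiniteType sT] [QuasiCompact sT] (f : X ⟶ T) [Flat f] [LocallyOfFiniteType f]
    [QuasiCompact f] :
    ∃ Z : ℕ → TopologicalSpace.Closeds T, (∀ n, (Z n : Set T) ≠ Set.univ) ∧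
      ∀ t : T, IsClosed ({t} : Set T) → (∀ n, t ∉ Z n) →
        Nonempty (f.fiber t ≅ pullback f (Spec.map (CommRingCat.ofHom (algebraMap
          (T.residueField (genericPoint T)) (AlgebraicClosure (T.residueField (genericPoint T))))) ≫
            T.fromSpecResidueField (genericPoint T))) := by
  haveI : IsLocallyNoetherian T := LocallyOfFiniteType.isLocallyNoetherian sT
  haveI : IsLocallyNoetherian X := LocallyOfFiniteType.isLocallyNoetherian f
  haveI : Nonempty T := inferInstance
  obtain ⟨_, ⟨V, hV, rfl⟩, hηV, -⟩ :=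
    T.isBasis_affineOpens.exists_subset_of_mem_open (Set.mem_univ (genericPoint T)) isOpen_univ
  haveI : IsNoetherianRing Γ(T, V) := IsLocallyNoetherian.component_noetherian ⟨V, hV⟩
  let fV : pullback f hV.fromSpec ⟶ Spec Γ(T, V) := pullback.snd f hV.fromSpec
  haveI : LocallyOfFiniteType fV := inferInstanceAs (LocallyOfFiniteType (pullback.snd f hV.fromSpec))
  haveI : QuasiCompact fV := inferInstanceAs (QuasiCompact (pullback.snd f hV.fromSpec))
  haveI : IsLocallyNoetherian (pullback f hV.fromSpec) := LocallyOfFiniteType.isLocallyNoetherian fV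
  haveI : QuasiSeparated fV := inferInstance
  haveI : LocallyOfFinitePresentation fV := inferInstance
  obtain ⟨A₀, hA₀, X₀, f₀, g, -, -, -, sq⟩ := L02.ConsP.exists_model fV
  haveI : Countable A₀ := by
    haveI : Algebra.FiniteType ℤ A₀ := A₀.fg_iff_finiteType.mp hA₀
    obtain ⟨n, φ, hφ⟩ := Algebra.FiniteType.iff_quotient_mvPolynomial''.1 (inferInstance : Algebra.FiniteType ℤ A₀)
    haveI : Countable (MvPolynomial (Fin n) ℤ) :=
      mk_le_aleph0_iff.1 (MvPolynomial.cardinalMk_le_max_lift.trans (by simp))
    exact hφ.countable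
  haveI : Nonempty V := ⟨⟨_, hηV⟩⟩
  haveI : Nonempty {a : A₀ // (a : Γ(T, V)) ≠ 0} := ⟨⟨1, by simp⟩⟩
  obtain ⟨enum, henum⟩ := exists_surjective_nat {a : A₀ // (a : Γ(T, V)) ≠ 0}
  have hη : ∀ a : Γ(T, V), a ≠ 0 → genericPoint T ∈ T.basicOpen a := by
    intro a ha
    refine (genericPoint_spec T).mem_open_set_iff (T.basicOpen a).2 |>.2 ?_
    rw [Set.univ_inter]
    exact Set.nonempty_iff_ne_empty.2 fun h => ha (basicOpen_eq_bot_iff a |>.1 (TopologicalSpace.Opens.ext h))
  refine ⟨fun n => (T.basicOpen ((enum n).1 : Γ(T, V))).compl, fun n h => ?_, fun t ht htZ => ?_⟩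
  · exact ((TopologicalSpace.Closeds.mem_mk.1 (h ▸ Set.mem_univ (genericPoint T) :
      genericPoint T ∈ ((T.basicOpen ((enum n).1 : Γ(T, V))).compl : Set T)))) (hη _ (enum n).2)
  have htb : ∀ a : A₀, (a : Γ(T, V)) ≠ 0 → t ∈ T.basicOpen (a : Γ(T, V)) := by
    intro a ha
    obtain ⟨n, hn⟩ := henum ⟨a, ha⟩
    have := htZ n
    simp only at this
    rw [hn] at this
    exact not_not.1 this
  have htV : t ∈ V := T.basicOpen_le _ (htb 1 (by simp))
  let L := AlgebraicClosure (T.residueField (genericPoint T))
  obtain ⟨φ, hφ, hφ0⟩ := exists_ringHom hV (K := T.residueField t) (T.fromSpecResidueField t) t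
    (fun p => Scheme.fromSpecResidueField_apply t p) htV
  obtain ⟨ψ, hψ, hψ0⟩ := exists_ringHom hV (K := L) (Spec.map (CommRingCat.ofHom (algebraMap
      (T.residueField (genericPoint T)) L)) ≫ T.fromSpecResidueField (genericPoint T)) (genericPoint T)
    (fun p => by rw [Scheme.Hom.comp_apply]; exact Scheme.fromSpecResidueField_apply _ _) hηV
  haveI : IsAlgClosed (T.residueField t) :=
    IsAlgClosed.of_ringEquiv k _ (residueFieldIsoBase sT t ht).commRingCatIsoToRingEquiv.symm
  have hcard : ℵ₀ < #(T.residueField t) := by rw [mk_residueField sT hV t htV]; exact aleph0_lt_mk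
  haveI : Infinite (T.residueField (genericPoint T)) := by
    rw [infinite_iff, mk_residueField sT hV _ hηV]; exact aleph0_lt_mk.le
  have hL : #(T.residueField t) = #L := by
    refine (mk_residueField sT hV t htV).trans ((mk_residueField sT hV _ hηV).symm.trans ?_)
    exact le_antisymm (mk_le_of_injective (algebraMap (T.residueField (genericPoint T)) L).injective)
      ((Algebra.IsAlgebraic.cardinalMk_le_max _ L).trans (max_le le_rfl (infinite_iff.1 inferInstance)))
  let ι : A₀ →+* Γ(T, V) := algebraMap A₀ Γ(T, V)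
  have hinj : ∀ {K : Type u} [Field K] (χ : Γ(T, V) →+* K) (x : T) (_ : ∀ a, x ∈ T.basicOpen a → χ a ≠ 0),
      (∀ a : A₀, (a : Γ(T, V)) ≠ 0 → x ∈ T.basicOpen (a : Γ(T, V))) → Function.Injective (χ.comp ι) := by
    intro K _ χ x h1 h2
    refine (injective_iff_map_eq_zero _).2 fun a ha => Subtype.ext ?_
    by_contra h
    exact h1 _ (h2 a h) ha
  obtain ⟨σ, hσ⟩ := exists_ringEquiv (mk_le_aleph0) (φ.comp ι) (ψ.comp ι) (hinj φ t hφ0 htb)
    (hinj ψ _ hψ0 fun a ha => hη _ ha) hcard hL
  have hfib : ∀ {K : Type u} [Field K] (χ : Γ(T, V) →+* K) (q : Spec (CommRingCat.of K) ⟶ T),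
      Spec.map (CommRingCat.ofHom χ) ≫ hV.fromSpec = q →
      Nonempty (pullback f q ≅ pullback f₀ (Spec.map (CommRingCat.ofHom (χ.comp ι)))) := by
    intro K _ χ q hq
    have h1 : IsPullback (pullback.fst fV (Spec.map (CommRingCat.ofHom χ)) ≫ g)
        (pullback.snd fV (Spec.map (CommRingCat.ofHom χ))) f₀ (Spec.map (CommRingCat.ofHom (χ.comp ι))) := by
      rw [CommRingCat.ofHom_comp, Spec.map_comp]
      exact (IsPullback.of_hasPullback _ _).paste_horiz sq
    have h2 : IsPullback (pullback.fst fV (Spec.map (CommRingCat.ofHom χ)) ≫ pullback.fst f hV.fromSpec)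
        (pullback.snd fV (Spec.map (CommRingCat.ofHom χ))) f q := by
      rw [← hq]
      exact (IsPullback.of_hasPullback _ _).paste_horiz (IsPullback.of_hasPullback f hV.fromSpec)
    exact ⟨h2.isoPullback.symm ≪≫ h1.isoPullback⟩
  obtain ⟨e₁⟩ := hfib φ _ hφ
  obtain ⟨e₂⟩ := hfib ψ _ hψ
  haveI : IsIso (CommRingCat.ofHom σ.toRingHom) := σ.toCommRingCatIso.isIso_hom
  have e₃ : IsPullback (pullback.fst f₀ (Spec.map (CommRingCat.ofHom (ψ.comp ι))))
      (pullback.snd f₀ (Spec.map (CommRingCat.ofHom (ψ.comp ι))) ≫ Spec.map (CommRingCat.ofHom σ.toRingHom)) f₀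
      (Spec.map (CommRingCat.ofHom (φ.comp ι))) := by
    refine IsPullback.of_iso (IsPullback.of_hasPullback f₀ (Spec.map (CommRingCat.ofHom (ψ.comp ι)))) (Iso.refl _)
      (Iso.refl _) (asIso (Spec.map (CommRingCat.ofHom σ.toRingHom))) (Iso.refl _) ?_ ?_ ?_ ?_
    · simp
    · simp
    · simp
    · simp only [Iso.refl_hom, Category.comp_id, asIso_hom, ← Spec.map_comp, ← CommRingCat.ofHom_comp, hσ]
  exact ⟨e₁ ≪≫ e₃.isoPullback.symm ≪≫ e₂.symm⟩

end Groth.Agent.S15236
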