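import Groth.Statements.S15237
import Groth.Agent.L22.VeryGeneral
-- import your own Groth.Agent.* helpers here

set_option autoImplicit false
open CategoryTheory AlgebraicGeometry
universe u
open Variety

namespace Groth.Agent.S15237

/-- Let k be an uncountable field and X an irreducible k-scheme of finite type. Then the closed points
of X are not covered by countably many closed subsets of X different from X: for every sequence Z₀,
Z₁, … of closed subsets of X with Zₙ ≠ X for all n there is a closed point of X lying in no Zₙ. (The
published statement is for an irreducible quasi-projective variety and says that the variety is not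
a countable union of closed subsets different from it, a variety being read through its closed
points; with the generic point of the scheme that assertion would be immediate, so this row asks for
a closed point, and it assumes only finite type over k.) -/
theorem result (k : Type u) [Field k] [Uncountable k]
    (X : Scheme.{u}) (sX : X ⟶ Spec (CommRingCat.of k)) [IrreducibleSpace X]
    [LocallyOfFiniteType sX] [QuasiCompact sX]
    (Z : ℕ → TopologicalSpace.Closeds X) (hZ : ∀ n, (Z n : Set X) ≠ Set.univ) :
    ∃ x : X, IsClosed ({x} : Set X) ∧ ∀ n, x ∉ Z n := by
  obtain ⟨η, hη⟩ := QuasiSober.sober (IrreducibleSpace.isIrreducible_univ X) isClosed_univ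
  obtain ⟨x, hx, -, -, hxZ⟩ := Groth.L22.VeryGeneral.exists_closedPoint sX η ⊤ trivial Z fun n h => hZ n
    (Set.eq_univ_of_forall fun y => (hη.specializes (Set.mem_univ y)).mem_closed (Z n).isClosed h)
  exact ⟨x, hx, hxZ⟩

end Groth.Agent.S15237
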