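import Groth.Statements.S15239
import Groth.Agent.L22.Translate.Action
import Groth.Agent.S16121
-- import your own Groth.Agent.* helpers here

set_option autoImplicit false
universe u
open CategoryTheory CategoryTheory.Limits MonoidalCategory CartesianMonoidalCategory MonObj GrpObj AlgebraicGeometry
open Cyc

namespace Groth.Agent.S15239

/-- Let k be an algebraically closed field and G a connected affine algebraic group over k (an affine,
smooth, connected k-group scheme) acting on a variety X over k (integral, separated, of finite
type). Let δ be the dimension function on X induced from the base (δ(x) = dimension of the closure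
of x). For every k-point g of G, with translation t_g : X → X, x ↦ g · x, and every point ξ of X
(the generic point of a closed subvariety Y, of dimension δ(ξ)), the cycle [gY] — coefficient 1 at
t_g(ξ) — is rationally equivalent to [Y] — coefficient 1 at ξ — as δ(ξ)-cycles on X. (The published
argument is stated for X smooth; it does not use smoothness and this row does not assume it.) -/
theorem result (k : Type u) [Field k] [IsAlgClosed k]
    (G X : Over (Spec (CommRingCat.of k))) [GrpObj G] [IsAffine G.left] [Smooth G.hom] [ConnectedSpace ↥G.left]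
    [IsIntegral X.left] [IsSeparated X.hom] [LocallyOfFiniteType X.hom] [QuasiCompact X.hom]
    (a : AlgGrp.Action G X) (g : 𝟙_ (Over (Spec (CommRingCat.of k))) ⟶ G)
    (δ : ↥X.left → ℤ) (hX : Cyc.IsSetup X.left δ) (hδ : Cyc.DeltaCompat X.hom δ (fun _ => 0))
    (ξ : ↥X.left) (α β : AlgebraicCycle X.left ℤ)
    (hα : α ξ = 1 ∧ ∀ x : ↥X.left, x ≠ ξ → α x = 0)
    (hβ : β ((CartesianMonoidalCategory.lift (CartesianMonoidalCategory.toUnit X ≫ g) (𝟙 X) ≫ a.act).left.base ξ) = 1 ∧
      ∀ x : ↥X.left, x ≠ (CartesianMonoidalCategory.lift (CartesianMonoidalCategory.toUnit X ≫ g) (𝟙 X) ≫ a.act).left.base ξ →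
        β x = 0) :
    Cyc.RatEquiv δ (δ ξ) α β := by
  classical
  obtain ⟨O, n, V, e, hO, he⟩ := Groth.Agent.S16121.result k G
  have ee : ∀ (z : ↥X.left) (c : AlgebraicCycle X.left ℤ), (c z = 1 ∧ ∀ x, x ≠ z → c x = 0) →
      c = Function.locallyFinsuppWithin.single z (1 : ℤ) := fun z c hc =>
    Function.locallyFinsuppWithin.ext fun w => by
      rw [Function.locallyFinsuppWithin.single_apply]
      split_ifs with h
      · rw [h, hc.1]
      · exact hc.2 w h
  rw [ee _ α hα, ee _ β hβ]
  exact Groth.L22.Translate.ratEquiv_tr a O hO V e he hδ ξ g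

end Groth.Agent.S15239
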