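import Groth.Statements.S15240
import Groth.Agent.L19.AlgGrpBasic.OrbitClosure
import Groth.Agent.L25.Component
import Groth.Agent.L19.AlgGrpBasic.ActKernel
import Groth.Agent.L25.Actions
import Mathlib.AlgebraicGeometry.Morphisms.Smooth

set_option autoImplicit false
universe u
open CategoryTheory CategoryTheory.Limits MonoidalCategory CartesianMonoidalCategory MonObj GrpObj AlgebraicGeometry
open AGF

namespace Groth.Agent.S15240

/-- Let k be an algebraically closed field, B a connected solvable affine algebraic group over k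
(affine, smooth, connected, solvable k-group scheme) acting on a complete k-scheme X (separated, of
finite type and proper over k) with finitely many orbits (finitely many subsets of X arise as images
of orbit maps of k-points), and Y a separated k-scheme of finite type on which B acts trivially.
Then every closed irreducible subset Z of X ×_k Y which is stable under the translations by all
k-points of B (acting on the first factor) is of the form V × W: there are a B-stable closed
irreducible subset V of X and a closed irreducible subset W of Y with Z equal to the set of points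
whose two projections lie in V and in W. -/
theorem result (k : Type u) [Field k] [IsAlgClosed k]
    (B X Y : Over (Spec (CommRingCat.of k))) [GrpObj B] [IsAffine B.left] [Smooth B.hom] [ConnectedSpace ↥B.left]
    (hsolv : Red.IsSolvableGrp B)
    [IsProper X.hom]
    [IsSeparated Y.hom] [LocallyOfFiniteType Y.hom] [QuasiCompact Y.hom]
    (a : AlgGrp.Action B X)
    (hfin : Set.Finite {S : Set ↥X.left | ∃ x : 𝟙_ (Over (Spec (CommRingCat.of k))) ⟶ X, S = Set.range ⇑(a.orbitMap x).left.base})
    (Z : Set ↥(X ⊗ Y).left) (hZc : IsClosed Z) (hZi : IsIrreducible Z)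
    (hZs : ∀ b : 𝟙_ (Over (Spec (CommRingCat.of k))) ⟶ B,
      ⇑(CartesianMonoidalCategory.lift (CartesianMonoidalCategory.toUnit (X ⊗ Y) ≫ b) (𝟙 (X ⊗ Y)) ≫
          (α_ B X Y).inv ≫ (a.act ▷ Y)).left.base '' Z ⊆ Z) :
    ∃ (V : Set ↥X.left) (W : Set ↥Y.left), IsClosed V ∧ IsIrreducible V ∧ IsClosed W ∧ IsIrreducible W ∧
      (∀ b : 𝟙_ (Over (Spec (CommRingCat.of k))) ⟶ B,
        ⇑(CartesianMonoidalCategory.lift (CartesianMonoidalCategory.toUnit X ≫ b) (𝟙 X) ≫ a.act).left.base '' V ⊆ V) ∧
      Z = ⇑(CartesianMonoidalCategory.fst X Y).left.base ⁻¹' V ∩ ⇑(CartesianMonoidalCategory.snd X Y).left.base ⁻¹' W := by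
  classical
  haveI hX : LocallyOfFiniteType X.hom := inferInstance
  haveI hB : LocallyOfFiniteType B.hom := inferInstance
  haveI : LocallyOfFiniteType (X ⊗ Y).hom :=
    inferInstanceAs (LocallyOfFiniteType (pullback.fst X.hom Y.hom ≫ X.hom))
  haveI : JacobsonSpace B.left := LocallyOfFiniteType.jacobsonSpace B.hom
  haveI : JacobsonSpace X.left := LocallyOfFiniteType.jacobsonSpace X.hom
  haveI : JacobsonSpace (X ⊗ Y).left := LocallyOfFiniteType.jacobsonSpace (X ⊗ Y).hom
  haveI : IsLocallyNoetherian B.left := LocallyOfFiniteType.isLocallyNoetherian B.hom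
  haveI : IrreducibleSpace B.left := Groth.L25.Component.irreducibleSpace B
  let one' := 𝟙_ (Over (Spec (CommRingCat.of k)))
  let P : ∀ {T : Over (Spec (CommRingCat.of k))}, (one' ⟶ T) → T.left := fun s => s.left (IsLocalRing.closedPoint k)
  have hclosed : ∀ {T : Over (Spec (CommRingCat.of k))} [LocallyOfFiniteType T.hom] (s : one' ⟶ T),
      IsClosed ({P s} : Set T.left) := fun {T} _ s => (pointEquivClosedPoint T.hom ⟨s.left, Over.w s⟩).2
  have hinj : ∀ {T : Over (Spec (CommRingCat.of k))} [LocallyOfFiniteType T.hom] (s t : one' ⟶ T),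
      P s = P t → s = t := fun {T} _ s t h => Over.OverMorphism.ext (congrArg Subtype.val
        ((pointEquivClosedPoint T.hom).injective (a₁ := ⟨s.left, Over.w s⟩) (a₂ := ⟨t.left, Over.w t⟩) (Subtype.ext h)))
  let o := fun x : one' ⟶ X => a.orbitMap x
  let orb := fun x : one' ⟶ X => Set.range (o x).left.base
  -- moving a pair of points by a point of the group
  have hmove : ∀ (b : one' ⟶ B) (x : one' ⟶ X) (y : one' ⟶ Y),
      P (lift x y) ∈ Z → P (lift (b ≫ o x) y) ∈ Z := by
    intro b x y h
    have e : lift (b ≫ o x) y = lift x y ≫ (lift (toUnit (X ⊗ Y) ≫ b) (𝟙 (X ⊗ Y)) ≫ (α_ B X Y).inv ≫ (a.act ▷ Y)) := by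
      rw [show b ≫ o x = _ from Groth.L19.AlgGrpBasic.orbitMap_apply a x b]
      apply CartesianMonoidalCategory.hom_ext
      · simp only [lift_fst, Category.assoc, whiskerRight_fst, comp_lift_assoc, Category.comp_id]
        rw [← Category.assoc (lift x y) (toUnit (X ⊗ Y)) b, toUnit_unique (lift x y ≫ toUnit (X ⊗ Y)) (toUnit _)]
        rw [← Category.assoc _ (α_ B X Y).inv, ← Category.assoc _ (fst (B ⊗ X) Y) a.act]
        refine congrArg (fun u => u ≫ a.act) ?_
        apply CartesianMonoidalCategory.hom_ext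
        · simp only [lift_fst, lift_snd, Category.assoc, comp_lift_assoc, Category.comp_id, associator_inv_fst_fst, associator_inv_fst_snd, lift_snd_assoc]
          simp [one', toUnit_unique (toUnit (𝟙_ (Over (Spec (CommRingCat.of k))))) (𝟙 _)]
        · simp [one', toUnit_unique (toUnit (𝟙_ (Over (Spec (CommRingCat.of k))))) (𝟙 _)]
      · simp
    rw [e]
    exact hZs b ⟨_, h, rfl⟩
  have hpt : ∀ x : one' ⟶ X, ∀ q ∈ orb x, IsClosed ({q} : Set X.left) → ∃ b : one' ⟶ B, P (b ≫ o x) = q := by
    intro x q hq hqc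
    obtain ⟨γ, hγ⟩ := hq
    obtain ⟨c, hc, hcc⟩ := nonempty_inter_closedPoints (Z := (o x).left ⁻¹' {q}) ⟨γ, hγ⟩
      (hqc.preimage (o x).left.continuous).isLocallyClosed
    obtain ⟨b, hb⟩ := Groth.L19.AlgGrpBasic.exists_point_of_closed hcc
    exact ⟨b, (congrArg (o x).left hb).trans hc⟩
  have hself : ∀ x : one' ⟶ X, P x ∈ orb x := fun x => by
    refine ⟨P η[B], ?_⟩
    show P (η[B] ≫ o x) = P x
    rw [show η[B] ≫ o x = x by
      rw [show η[B] ≫ o x = _ from Groth.L19.AlgGrpBasic.orbitMap_apply a x _]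
      have h1 := Groth.L25.Actions.one_act a x
      rw [Hom.one_def] at h1
      simpa [one', toUnit_unique (toUnit (𝟙_ (Over (Spec (CommRingCat.of k))))) (𝟙 _)] using h1]
  choose rep hrep using fun O : hfin.toFinset => (hfin.mem_toFinset.1 O.2)
  let f : hfin.toFinset → Set (X ⊗ Y).left := fun O =>
    (fst X Y).left.base ⁻¹' closure (orb (rep O)) ∩
      (snd X Y).left.base ⁻¹' ((lift (toUnit Y ≫ rep O) (𝟙 Y)).left.base ⁻¹' Z)
  have hfc : ∀ O, IsClosed (f O) := fun O =>
    (isClosed_closure.preimage (fst X Y).left.continuous).inter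
      ((hZc.preimage (lift (toUnit Y ≫ rep O) (𝟙 Y)).left.continuous).preimage (snd X Y).left.continuous)
  have hi : ∀ (x : one' ⟶ X) (y : one' ⟶ Y), (lift (toUnit Y ≫ x) (𝟙 Y)).left.base (P y) = P (lift x y) := by
    intro x y
    show P (y ≫ lift (toUnit Y ≫ x) (𝟙 Y)) = _
    rw [comp_lift, Category.comp_id, ← Category.assoc, toUnit_unique (y ≫ toUnit Y) (𝟙 _), Category.id_comp]
  have hsub : Z ⊆ ⋃ O, f O := by
    rw [← closure_inter_closedPoints hZc]
    refine closure_minimal ?_ (isClosed_iUnion_of_finite hfc)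
    rintro z ⟨hz, hzc⟩
    obtain ⟨s, rfl⟩ := Groth.L19.AlgGrpBasic.exists_point_of_closed hzc
    let x := s ≫ fst X Y
    let y := s ≫ snd X Y
    have hs : lift x y = s := by simp [x, y]
    let O : hfin.toFinset := ⟨orb x, hfin.mem_toFinset.2 ⟨x, rfl⟩⟩
    have hO : orb x = orb (rep O) := hrep O
    refine Set.mem_iUnion.2 ⟨O, subset_closure (hO ▸ hself x : P x ∈ orb (rep O)), ?_⟩
    show (lift (toUnit Y ≫ rep O) (𝟙 Y)).left.base (P y) ∈ Z
    obtain ⟨b, hb⟩ := hpt x _ (hO ▸ hself (rep O)) (hclosed (rep O))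
    rw [hi, ← hinj _ _ hb]
    exact hmove b x y (by rw [hs]; exact hz)
  have hsup : ∀ O, f O ⊆ Z := by
    intro O
    rw [← closure_inter_closedPoints (hfc O)]
    refine closure_minimal ?_ hZc
    rintro z ⟨⟨hzV, hzW⟩, hzc⟩
    obtain ⟨s, rfl⟩ := Groth.L19.AlgGrpBasic.exists_point_of_closed hzc
    let y := s ≫ snd X Y
    have h0 : P (lift (rep O) y) ∈ Z := by rw [← hi]; exact hzW
    let j := lift (𝟙 X) (toUnit X ≫ y)
    have hj : ∀ x : one' ⟶ X, j.left.base (P x) = P (lift x y) := fun x => by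
      show P (x ≫ j) = _
      rw [comp_lift, Category.comp_id, ← Category.assoc, toUnit_unique (x ≫ toUnit X) (𝟙 _), Category.id_comp]
    have hrange : orb (rep O) ⊆ j.left.base ⁻¹' Z := by
      rintro _ ⟨γ, rfl⟩
      have hcl : IsClosed ((o (rep O)).left.base ⁻¹' (j.left.base ⁻¹' Z)) :=
        (hZc.preimage j.left.continuous).preimage (o (rep O)).left.continuous
      have huniv : γ ∈ closure (closedPoints B.left) := by rw [closure_closedPoints]; trivial
      refine (closure_minimal ?_ hcl) huniv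
      intro c hc
      obtain ⟨b, rfl⟩ := Groth.L19.AlgGrpBasic.exists_point_of_closed hc
      show j.left.base (P (b ≫ o (rep O))) ∈ Z
      rw [hj]
      exact hmove b _ y h0
    have h1 : j.left.base (P (s ≫ fst X Y)) ∈ Z :=
      closure_minimal hrange (hZc.preimage j.left.continuous) hzV
    rw [hj, show lift (s ≫ fst X Y) y = s by simp [y]] at h1
    exact h1
  obtain ⟨O, hO⟩ : ∃ O, Z ⊆ f O := by
    obtain ⟨_, hz, hle⟩ := (isIrreducible_iff_sUnion_isClosed.1 hZi) (Finset.univ.image f)
      (fun t ht => by obtain ⟨O, -, rfl⟩ := Finset.mem_image.1 ht; exact hfc O)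
      (fun z hz => by
        obtain ⟨O, hO⟩ := Set.mem_iUnion.1 (hsub hz)
        exact Set.mem_sUnion.2 ⟨f O, Finset.mem_coe.2 (Finset.mem_image_of_mem _ (Finset.mem_univ _)), hO⟩)
    obtain ⟨O, -, rfl⟩ := Finset.mem_image.1 hz
    exact ⟨O, hle⟩
  refine ⟨closure (orb (rep O)), closure ((snd X Y).left.base '' Z), isClosed_closure, ?_, isClosed_closure,
    (hZi.image _ (snd X Y).left.continuous.continuousOn).closure, fun b => ?_, ?_⟩
  · refine IsIrreducible.closure ?_
    show IsIrreducible (Set.range (o (rep O)).left.base)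
    rw [← Set.image_univ]
    exact (IrreducibleSpace.isIrreducible_univ _).image _ (o (rep O)).left.continuous.continuousOn
  · refine (image_closure_subset_closure_image (lift (toUnit X ≫ b) (𝟙 X) ≫ a.act).left.continuous).trans (closure_mono ?_)
    rintro _ ⟨_, ⟨g, rfl⟩, rfl⟩
    exact ⟨(Groth.L08.ProfiniteImage.lt b).left g,
      congr(($(Groth.L08.Homog.orbit_lt a (rep O) b)).left g)⟩
  · refine Set.Subset.antisymm (fun z hz => ⟨(hO hz).1, subset_closure ⟨z, hz, rfl⟩⟩) ?_
    rintro z ⟨hzV, hzW⟩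
    refine hsup O ⟨hzV, ?_⟩
    exact closure_minimal (Set.image_subset_iff.2 fun w hw => (hO hw).2)
      (hZc.preimage (lift (toUnit Y ≫ rep O) (𝟙 Y)).left.continuous) hzW
end Groth.Agent.S15240
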