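import Groth.Statements.S15241
import Groth.Agent.L24.Kleiman.Translate

set_option autoImplicit false
set_option backward.isDefEq.respectTransparency.types false
universe u
open CategoryTheory CategoryTheory.Limits MonoidalCategory CartesianMonoidalCategory MonObj GrpObj AlgebraicGeometry
open AGF

namespace Groth.Agent.S15241

/-- Let k be an algebraically closed field of characteristic zero, G a group variety over k (an
integral, separated k-group scheme of finite type) acting on a variety X over k (integral,
separated, of finite type) of dimension n such that G(k) acts transitively on X(k), and let Y₁, Y₂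
be closed irreducible subsets of X of dimensions r and s. Then for g in a nonempty open subset of G
the translate g · Y₁ meets Y₂ properly: there is a nonempty open V ⊆ G such that for every k-point g
of G lying in V, the intersection of Y₂ with the image of Y₁ under x ↦ g · x is either empty or has
every irreducible component of dimension exactly r + s − n (and then n ≤ r + s). (The published
statement also asserts multiplicity one along each component, which is not stated here. The
published setting is over the complex numbers with G affine; this row assumes an algebraically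
closed field of characteristic zero and any group variety, which is all the printed argument uses.) -/
theorem result (k : Type u) [Field k] [IsAlgClosed k] [CharZero k]
    (G X : Over (Spec (CommRingCat.of k))) [GrpObj G] (a : AlgGrp.Action G X)
    [IsIntegral G.left] [IsSeparated G.hom] [LocallyOfFiniteType G.hom] [QuasiCompact G.hom]
    [IsIntegral X.left] [IsSeparated X.hom] [LocallyOfFiniteType X.hom] [QuasiCompact X.hom]
    (htrans : ∀ x x' : 𝟙_ (Over (Spec (CommRingCat.of k))) ⟶ X,
      ∃ σ : 𝟙_ (Over (Spec (CommRingCat.of k))) ⟶ G, CartesianMonoidalCategory.lift σ x ≫ a.act = x')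
    (Y₁ Y₂ : Set ↥X.left) (h₁c : IsClosed Y₁) (h₁i : IsIrreducible Y₁) (h₂c : IsClosed Y₂) (h₂i : IsIrreducible Y₂)
    (n r s : ℕ) (hn : topologicalKrullDim ↥X.left = n) (hr : topologicalKrullDim ↥Y₁ = r)
    (hs : topologicalKrullDim ↥Y₂ = s) :
    ∃ V : G.left.Opens, (V : Set ↥G.left).Nonempty ∧
      ∀ σ : 𝟙_ (Over (Spec (CommRingCat.of k))) ⟶ G, Set.range ⇑σ.left.base ⊆ (V : Set ↥G.left) →
        ⇑(CartesianMonoidalCategory.lift (CartesianMonoidalCategory.toUnit X ≫ σ) (𝟙 X) ≫ a.act).left.base '' Y₁ ∩ Y₂ = ∅ ∨
        (n ≤ r + s ∧ ∀ C ∈ irreducibleComponents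
            ↥(⇑(CartesianMonoidalCategory.lift (CartesianMonoidalCategory.toUnit X ≫ σ) (𝟙 X) ≫ a.act).left.base '' Y₁ ∩ Y₂),
          topologicalKrullDim ↥C = ((r + s - n : ℕ) : WithBot ℕ∞)) := by
  exact Groth.L24.Kleiman.exists_open_proper_inter a htrans Y₁ Y₂ h₁c h₁i h₂c h₂i n r s hn hr hs

end Groth.Agent.S15241
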