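import Groth.Statements.S1525
import Groth.Agent.L16.LerayEuler.Main

set_option autoImplicit false
universe u
open CategoryTheory CategoryTheory.Limits AlgebraicGeometry
open Variety

namespace Groth.Agent.S1525

/-- For a morphism f : Y → X of proper schemes over a field and a coherent module G on Y, χ(Y, G) equals
the alternating sum over i of χ(X, R^i f_* G) (a finite sum, written here as a finitary sum). -/
theorem result (k : Type u) [Field k] (X Y : Scheme.{u})
    [X.Over (Spec (CommRingCat.of k))] [Y.Over (Spec (CommRingCat.of k))] [IsProper (X ↘ (Spec (CommRingCat.of k)))] [IsProper (Y ↘ (Spec (CommRingCat.of k)))]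
    (f : Y ⟶ X) (hf : f ≫ (X ↘ (Spec (CommRingCat.of k))) = Y ↘ (Spec (CommRingCat.of k))) [HasInjectiveResolutions Y.Modules]
    (G : Y.Modules) (hG : Coh.IsCoh G) :
    Curv2.euler k Y G = ∑ᶠ i : ℕ, (-1 : ℤ) ^ i * Curv2.euler k X ((Coh.Rpush f i).obj G) := by
  exact Groth.L16.LerayEuler.euler_eq_finsum k f hf G hG
end Groth.Agent.S1525
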