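import Groth.Statements.S15251
import Groth.Agent.L24.St.Bootstrap3
import Groth.Agent.L24.St.FpAlg

set_option autoImplicit false
set_option backward.isDefEq.respectTransparency.types false
open CategoryTheory AlgebraicGeometry
universe u
open AlgSt

namespace Groth.Agent.S15251

/-- Let S be a scheme and f : 𝒳 → 𝒴 a 1-morphism of stacks in groupoids over the category of schemes
over S. If 𝒴 is a Deligne–Mumford stack and for every scheme U over S and every 1-morphism g : U → 𝒴
the 2-fibre product U ×_𝒴 𝒳 is a Deligne–Mumford stack, then 𝒳 is a Deligne–Mumford stack. All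
stacks here are for the étale topology on schemes over S; an algebraic stack is a stack in groupoids
whose diagonal is representable by algebraic spaces and which has a smooth surjective atlas from a
scheme, and a Deligne–Mumford stack is an algebraic stack with an étale surjective atlas from a
scheme. (The published statement asks the fibre-product condition only for affine schemes U and uses
Deligne–Mumford stacks whose diagonal is moreover separated and quasi-compact; this row asks the
condition for every scheme U over S and uses Deligne–Mumford stacks with no condition on the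
diagonal beyond representability by algebraic spaces.) -/
theorem result {S : Scheme.{u}} {𝒳 𝒴 : AlgSt.Cat S}
    (h𝒳 : Stk.IsStack (QuotSh.J Scheme.etalePrecoverage S) 𝒳)
    (h𝒴 : AlgSt.IsDM Scheme.etalePrecoverage 𝒴) (f : 𝒳 ⥤ᵇ 𝒴)
    (hf : ∀ (U : Over S) (g : FibCat.overCat U ⥤ᵇ 𝒴),
      AlgSt.IsDM Scheme.etalePrecoverage (FibCat.fp g f)) :
    AlgSt.IsDM Scheme.etalePrecoverage 𝒳 := by
  obtain ⟨U, u, hu, hus⟩ := h𝒴.2
  obtain ⟨V, v, hv, hvs⟩ := (hf U u).2
  have hX : FibCat.IsFibGrpd 𝒳.p := h𝒳.1
  have hY : FibCat.IsFibGrpd 𝒴.p := h𝒴.1.isStack.1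
  have hP : FibCat.IsFibGrpd (FibCat.fp u f).p := (hf U u).1.isStack.1
  have h1 : AlgSt.RepByAlgSpWith (AlgSp.LocP @Etale) (BasedFunctor.comp v (FibCat.fpSnd u f)) :=
    Groth.L24.St.repWith_comp Groth.L24.St.hasAtlasCovers_atlasCov
      (Groth.L24.St.pBase_locP Groth.L23.etLocal_etale) (Groth.L24.St.pComp_locP Groth.L23.etLocal_etale)
      (Groth.L24.St.isLocalOnBase_locP Groth.L23.etLocal_etale) (Groth.L24.St.overCat_isFibGrpd V) hP
      (Groth.L24.St.isEtaleMor_repWith_iff.1 hv)
      (Groth.L24.St.repWith_fpSnd f (Groth.L24.St.isEtaleMor_repWith_iff.1 hu))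
  have h2 : AlgSt.RepByAlgSpWith AlgSp.IsSurjectiveMor (BasedFunctor.comp v (FibCat.fpSnd u f)) := by
    refine Groth.L24.St.repWith_surjective_of_isSurjective (Groth.L24.St.overCat_isFibGrpd V) hX
      (Groth.L24.St.repWith_rep1 h1) (Groth.L24.St.isSurjective_comp
        (Groth.L24.St.isSurjective_of_repWith (Groth.L24.St.overCat_isFibGrpd V) hP hvs) fun p => ?_)
    obtain ⟨w, hw⟩ := Groth.L24.St.isSurjective_of_repWith (Groth.L24.St.overCat_isFibGrpd U) hY hus
      (AlgSt.Points.map f p)
    obtain ⟨q, -, hq⟩ := Groth.L24.St.exists_points_fp hX hY (Groth.L24.St.overCat_isFibGrpd U) f u w p hw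
    exact ⟨q, hq⟩
  refine ⟨Groth.L24.St.isAlgStack_etale_of_atlas h𝒳 ⟨V, _, Groth.L24.St.repWith_mono (fun _ _ _ _ h =>
    Groth.L23.locP_mono (fun φ (hφ : Etale φ) => have := hφ; (inferInstance : Smooth φ)) h) h1, h2⟩,
    Groth.L24.St.hasAtlas_etale_iff.2 ⟨V, _, h1, h2⟩⟩

end Groth.Agent.S15251
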