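import Groth.Statements.S15252
import Groth.Agent.L14.HM.Smooth
import Mathlib.RingTheory.MvPolynomial.EulerIdentity
import Mathlib.Analysis.Complex.Polynomial.Basic
import Mathlib.Algebra.MvPolynomial.Funext
import Mathlib.Tactic

set_option autoImplicit false
open Fano

namespace Groth.Agent.S15252

section
open MvPolynomial

/-- a cubic form on the plane containing four lines is zero -/
private lemma s52_four (G : MvPolynomial (Fin 3) ℂ) (hG : G.totalDegree ≤ 3) (s t s' t' : ℂ) (hne : s ≠ s' ∨ t ≠ t')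
    (hx : ∀ y z : ℂ, eval ![0, y, z] G = 0) (hy : ∀ x z : ℂ, eval ![x, 0, z] G = 0)
    (h3 : ∀ x y : ℂ, eval ![x, y, s * x + t * y] G = 0)
    (h4 : ∀ x y : ℂ, eval ![x, y, s' * x + t' * y] G = 0) : G = 0 := by
  classical
  obtain ⟨ν, hν⟩ := Finset.exists_notMem ({s + t, s' + t'} : Finset ℂ)
  simp only [Finset.mem_insert, Finset.mem_singleton, not_or] at hν
  have e3 : s + t - ν ≠ 0 := sub_ne_zero.mpr (Ne.symm hν.1)
  have e4 : s' + t' - ν ≠ 0 := sub_ne_zero.mpr (Ne.symm hν.2)
  let A3 : MvPolynomial (Fin 3) ℂ := X 2 - C s * X 0 - C t * X 1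
  let A4 : MvPolynomial (Fin 3) ℂ := X 2 - C s' * X 0 - C t' * X 1
  let D : MvPolynomial (Fin 3) ℂ := (X 1 - X 0) *
    ((A3 + X 0 * C (s + t - ν)) * ((A4 + X 0 * C (s' + t' - ν)) *
      ((A3 + X 1 * C (s + t - ν)) * ((A4 + X 1 * C (s' + t' - ν)) *
        (A3 * C (s' + t' - ν) - A4 * C (s + t - ν))))))
  have hD : D ≠ 0 := by
    have nz : ∀ (P : MvPolynomial (Fin 3) ℂ) (v : Fin 3 → ℂ), eval v P ≠ 0 → P ≠ 0 := fun P v h e => h (by simp [e])
    refine mul_ne_zero (nz _ ![0, 1, 0] (by simp)) (mul_ne_zero (nz _ ![0, 0, 1] (by simp [A3])) (mul_ne_zero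
      (nz _ ![0, 0, 1] (by simp [A4])) (mul_ne_zero (nz _ ![0, 0, 1] (by simp [A3])) (mul_ne_zero
      (nz _ ![0, 0, 1] (by simp [A4])) fun e => ?_))))
    have c2 := congrArg (eval ![0, 0, (1 : ℂ)]) e
    have c0 := congrArg (eval ![1, 0, (0 : ℂ)]) e
    have c1 := congrArg (eval ![0, 1, (0 : ℂ)]) e
    simp [A3, A4] at c2 c0 c1
    rcases hne with h | h
    · exact h (mul_left_cancel₀ e4 (by linear_combination (-1 : ℂ) * c0 - s' * c2))
    · exact h (mul_left_cancel₀ e4 (by linear_combination (-1 : ℂ) * c1 - t' * c2))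
  refine (mul_eq_zero.mp (MvPolynomial.funext fun v => ?_ : G * D = 0)).resolve_right hD
  rw [map_mul, map_zero]
  by_contra hne'
  obtain ⟨hGv, hDv⟩ := mul_ne_zero_iff.mp hne'
  simp only [D, A3, A4, map_mul, map_sub, map_add, eval_X, eval_C, mul_ne_zero_iff] at hDv
  obtain ⟨d12, d13, d14, d23, d24, d34⟩ := hDv
  let p : Polynomial ℂ := aeval (fun i => Polynomial.C (v i) + Polynomial.C (![(1 : ℂ), 1, ν] i) * Polynomial.X) G
  have hp : ∀ r : ℂ, p.eval r = eval ![v 0 + r, v 1 + r, v 2 + ν * r] G := fun r => by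
    rw [← Polynomial.coe_aeval_eq_eval]
    show ((Polynomial.aeval r).comp (aeval _)) G = _
    rw [MvPolynomial.comp_aeval, aeval_eq_eval]
    congr 2
    funext i
    fin_cases i <;> simp
  let r3 := (v 2 - s * v 0 - t * v 1) / (s + t - ν)
  let r4 := (v 2 - s' * v 0 - t' * v 1) / (s' + t' - ν)
  have z1 : p.eval (-v 0) = 0 := by rw [hp, add_neg_cancel]; exact hx _ _
  have z2 : p.eval (-v 1) = 0 := by rw [hp, add_neg_cancel]; exact hy _ _
  have z3 : p.eval r3 = 0 := by
    rw [hp, show v 2 + ν * r3 = s * (v 0 + r3) + t * (v 1 + r3) by simp only [r3]; field_simp; ring]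
    exact h3 _ _
  have z4 : p.eval r4 = 0 := by
    rw [hp, show v 2 + ν * r4 = s' * (v 0 + r4) + t' * (v 1 + r4) by simp only [r4]; field_simp; ring]
    exact h4 _ _
  have n12 : -v 0 ≠ -v 1 := fun e => d12 (by linear_combination e)
  have n13 : -v 0 ≠ r3 := fun e => d13 (by simp only [r3] at e; field_simp at e; linear_combination -e)
  have n14 : -v 0 ≠ r4 := fun e => d14 (by simp only [r4] at e; field_simp at e; linear_combination -e)
  have n23 : -v 1 ≠ r3 := fun e => d23 (by simp only [r3] at e; field_simp at e; linear_combination -e)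
  have n24 : -v 1 ≠ r4 := fun e => d24 (by simp only [r4] at e; field_simp at e; linear_combination -e)
  have n34 : r3 ≠ r4 := fun e => d34 (by simp only [r3, r4] at e; field_simp at e; linear_combination e)
  have hdeg : p.natDegree ≤ 3 := by
    have := aeval_natDegree_le (n := 1) G hG (fun i => Polynomial.C (v i) + Polynomial.C (![(1 : ℂ), 1, ν] i) * Polynomial.X)
      (fun i => by compute_degree)
    simpa using this
  have hp0 : p = 0 := by
    refine Polynomial.eq_zero_of_natDegree_lt_card_of_eval_eq_zero' p ({-v 0, -v 1, r3, r4} : Finset ℂ) ?_ ?_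
    · intro r hr
      simp only [Finset.mem_insert, Finset.mem_singleton] at hr
      rcases hr with rfl | rfl | rfl | rfl <;> assumption
    · have : ({-v 0, -v 1, r3, r4} : Finset ℂ).card = 4 := by simp [n12, n13, n14, n23, n24, n34]
      omega
  refine hGv ?_
  have := hp 0
  rw [hp0, Polynomial.eval_zero] at this
  rw [this]
  congr 2
  funext i
  fin_cases i <;> simp

end
open MvPolynomial


/-- Let X be a smooth cubic hypersurface in projective 4-space over ℂ and let L₁, L₂ be two distinct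
lines on X which meet. Then there is a finite set G of points of L₁ such that every line on X
meeting both L₁ and L₂ passes through a point of G. Here X is given by a cubic form f in five
variables satisfying the Jacobian smoothness condition at every nonzero zero, a line on X is a
2-dimensional subspace of ℂ^5 on which f vanishes, two lines meet when the subspaces intersect
non-trivially, and a point of L₁ is a 1-dimensional subspace of it. (The published statement also
covers two disjoint lines; this row assumes that L₁ and L₂ meet.) -/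
theorem result
    (f : MvPolynomial (Fin 5) ℂ) (hf : f.IsHomogeneous 3)
    (hsm : ∀ u : Fin 5 → ℂ, u ≠ 0 → MvPolynomial.eval u f = 0 →
      ∃ i : Fin 5, MvPolynomial.eval u (MvPolynomial.pderiv i f) ≠ 0)
    (L₁ L₂ : Submodule ℂ (Fin 5 → ℂ)) (h₁ : Module.finrank ℂ ↥L₁ = 2) (h₂ : Module.finrank ℂ ↥L₂ = 2)
    (hf₁ : ∀ u ∈ L₁, MvPolynomial.eval u f = 0) (hf₂ : ∀ u ∈ L₂, MvPolynomial.eval u f = 0)
    (hne : L₁ ≠ L₂) (hmeet : L₁ ⊓ L₂ ≠ ⊥) :
    ∃ G : Set (Submodule ℂ (Fin 5 → ℂ)), G.Finite ∧ (∀ g ∈ G, Module.finrank ℂ ↥g = 1 ∧ g ≤ L₁) ∧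
      ∀ L : Submodule ℂ (Fin 5 → ℂ), Module.finrank ℂ ↥L = 2 → (∀ u ∈ L, MvPolynomial.eval u f = 0) →
        L ⊓ L₁ ≠ ⊥ → L ⊓ L₂ ≠ ⊥ → ∃ g ∈ G, g ≤ L := by
  classical
  obtain ⟨P0, hP0m, hP00⟩ := (Submodule.ne_bot_iff _).mp hmeet
  have h12 : ¬ L₁ ≤ L₂ := fun h => hne (Submodule.eq_of_le_of_finrank_eq h (h₁.trans h₂.symm))
  have h21 : ¬ L₂ ≤ L₁ := fun h => hne (Submodule.eq_of_le_of_finrank_eq h (h₂.trans h₁.symm)).symm
  obtain ⟨a, ha, ha2⟩ := SetLike.not_le_iff_exists.mp h12
  obtain ⟨b, hb, hb1⟩ := SetLike.not_le_iff_exists.mp h21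
  obtain ⟨hP1, hP2⟩ := Submodule.mem_inf.mp hP0m
  -- bases of the two lines
  have span2 : ∀ (L : Submodule ℂ (Fin 5 → ℂ)) (x : Fin 5 → ℂ), Module.finrank ℂ L = 2 → x ∈ L → P0 ∈ L →
      (∀ c : ℂ, c • P0 ≠ x) → ∀ p ∈ L, ∃ α β : ℂ, p = α • P0 + β • x := by
    intro L x hL hx hP hind p hp
    have hli : LinearIndependent ℂ ![P0, x] := (LinearIndependent.pair_iff' hP00).mpr hind
    have hspan : Submodule.span ℂ (Set.range ![P0, x]) = L := by
      refine Submodule.eq_of_le_of_finrank_eq (Submodule.span_le.mpr ?_) ?_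
      · rintro _ ⟨i, rfl⟩
        fin_cases i <;> assumption
      · rw [finrank_span_eq_card hli, hL]; simp
    rw [← hspan, Submodule.mem_span_range_iff_exists_fun] at hp
    obtain ⟨c, hc⟩ := hp
    exact ⟨c 0, c 1, by rw [← hc]; simp [Fin.sum_univ_two]⟩
  have in1 := span2 L₁ a h₁ ha hP1 fun c e => ha2 (e ▸ L₂.smul_mem c hP2)
  have in2 := span2 L₂ b h₂ hb hP2 fun c e => hb1 (e ▸ L₁.smul_mem c hP1)
  -- the plane
  let col : Fin 3 → (Fin 5 → ℂ) := ![a, b, P0]
  let φ : (Fin 3 → ℂ) → (Fin 5 → ℂ) := fun v => v 0 • a + v 1 • b + v 2 • P0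
  have hφ0 : ∀ v, φ v = 0 → v = 0 := by
    intro v hv
    have h1 : v 1 = 0 := by
      by_contra h1
      refine hb1 ?_
      have : b = (v 1)⁻¹ • (-(v 0 • a + v 2 • P0)) := by
        rw [eq_inv_smul_iff₀ h1, eq_neg_iff_add_eq_zero, ← hv]
        simp only [φ]; abel
      rw [this]
      exact L₁.smul_mem _ (L₁.neg_mem (L₁.add_mem (L₁.smul_mem _ ha) (L₁.smul_mem _ hP1)))
    have h0 : v 0 = 0 := by
      by_contra h0
      refine ha2 ?_
      have : a = (v 0)⁻¹ • (-(v 2 • P0)) := by
        rw [eq_inv_smul_iff₀ h0, eq_neg_iff_add_eq_zero, ← hv]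
        simp [φ, h1]
      rw [this]
      exact L₂.smul_mem _ (L₂.neg_mem (L₂.smul_mem _ hP2))
    have h2' : v 2 = 0 := by
      have : v 2 • P0 = 0 := by simpa [φ, h0, h1] using hv
      exact (smul_eq_zero.mp this).resolve_right hP00
    funext i; fin_cases i <;> assumption
  let lin : Fin 5 → MvPolynomial (Fin 3) ℂ := fun i => C (a i) * X 0 + C (b i) * X 1 + C (P0 i) * X 2
  have hres : ∀ (P : MvPolynomial (Fin 5) ℂ) v, eval v (aeval lin P) = eval (φ v) P := fun P v => by
    induction P using MvPolynomial.induction_on with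
    | C c => simp
    | add p q hp hq => simp only [map_add, hp, hq]
    | mul_X p i hp =>
      rw [map_mul, map_mul, map_mul, hp, aeval_X, eval_X]
      congr 1
      simp [lin, φ]
      ring
  have hlin : ∀ i, (lin i).IsHomogeneous 1 := fun i =>
    ((isHomogeneous_C_mul_X _ _).add (isHomogeneous_C_mul_X _ _)).add (isHomogeneous_C_mul_X _ _)
  let G := aeval lin f
  have hG0 : G ≠ 0 := by
    intro hG
    let W := Submodule.span ℂ (Set.range col)
    obtain ⟨W', hW'⟩ := Submodule.exists_isCompl W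
    have hWr : Module.finrank ℂ W = 3 := by
      rw [finrank_span_eq_card]; · simp
      rw [Fintype.linearIndependent_iff]
      intro g hg
      simp [col, Fin.sum_univ_three] at hg
      exact congrFun (hφ0 g hg)
    have hW'r : Module.finrank ℂ W' = 2 := by
      have := Submodule.finrank_add_eq_of_isCompl hW'
      rw [hWr] at this; simp at this; omega
    let w := fun i => ((Module.finBasisOfFinrankEq ℂ W' hW'r i : W') : Fin 5 → ℂ)
    let q : Fin 2 → MvPolynomial (Fin 3) ℂ := fun j => aeval lin (∑ i, C (w j i) * pderiv i f)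
    obtain ⟨v, hv0, hv⟩ := Groth.L14.HM.exists_common_zero ({q 0, q 1} : Finset (MvPolynomial (Fin 3) ℂ))
      (lt_of_le_of_lt Finset.card_le_two (by norm_num)) (fun p hp => by
        have h2 : ∀ i, eval (0 : Fin 5 → ℂ) (pderiv i f) = 0 := fun i => by
          rw [eval_zero]
          exact (hf.pderiv (i := i)).coeff_eq_zero (by simp)
        simp only [Finset.mem_insert, Finset.mem_singleton] at hp
        rcases hp with rfl | rfl <;>
          (show eval 0 (aeval lin _) = 0; rw [hres, show φ 0 = 0 by simp [φ], map_sum]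
           exact Finset.sum_eq_zero fun l _ => by rw [map_mul, h2, mul_zero]))
    have hu : φ v ≠ 0 := fun e => hv0 (hφ0 v e)
    have hfu : eval (φ v) f = 0 := by rw [← hres]; show eval v G = 0; rw [hG, map_zero]
    obtain ⟨i0, hi0⟩ := hsm _ hu hfu
    let grad : (Fin 5 → ℂ) →ₗ[ℂ] ℂ :=
      { toFun := fun x => ∑ i, x i * eval (φ v) (pderiv i f)
        map_add' := fun x y => by simp [add_mul, Finset.sum_add_distrib]
        map_smul' := fun r x => by simp [Finset.mul_sum, mul_assoc] }
    have hdir : ∀ j, grad (col j) = 0 := by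
      intro j
      have hchain : ∀ P, pderiv j (aeval lin P) = aeval lin (∑ i, C (col j i) * pderiv i P) := fun P => by
        induction P using MvPolynomial.induction_on with
        | C c => simp
        | add p q hp hq => simp only [map_add, hp, hq, mul_add, Finset.sum_add_distrib]
        | mul_X p i hp =>
          have hX : pderiv j (lin i) = C (col j i) := by
            fin_cases j <;> simp [lin, col, Pi.single_apply]
          rw [map_mul, aeval_X, pderiv_mul, hp, hX]
          simp only [pderiv_mul, pderiv_X, mul_add, Finset.sum_add_distrib, map_add, map_sum, map_mul,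
            aeval_C, aeval_X, algebraMap_eq, Finset.sum_mul]
          congr 1
          · exact Finset.sum_congr rfl fun l _ => by ring
          · rw [Finset.sum_eq_single i (fun l _ hl => by simp [Pi.single_eq_of_ne' hl]) (by simp)]
            simp [mul_comm]
      have := congrArg (eval v) (hchain f)
      rw [show aeval lin f = 0 from hG, map_zero, map_zero, hres] at this
      simpa [grad] using this.symm
    have htop : W ⊔ W' ≤ LinearMap.ker grad := by
      refine sup_le (Submodule.span_le.mpr ?_) fun x hx => ?_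
      · rintro _ ⟨j, rfl⟩; exact hdir j
      · have hwj : ∀ j, grad (w j) = 0 := fun j => by
          have := hv (q j) (by fin_cases j <;> simp)
          rw [show q j = aeval lin (∑ i, C (w j i) * pderiv i f) from rfl, hres] at this
          simpa [grad] using this
        have e := congrArg (fun z : W' => grad (z : Fin 5 → ℂ))
          ((Module.finBasisOfFinrankEq ℂ W' hW'r).sum_repr ⟨x, hx⟩)
        simp only [Submodule.coe_sum, map_sum, Submodule.coe_smul, map_smul] at e
        show grad x = 0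
        rw [← e]
        exact Finset.sum_eq_zero fun j _ => by rw [show grad _ = 0 from hwj j, smul_zero]
    rw [hW'.sup_eq_top] at htop
    have := htop (Submodule.mem_top (x := Pi.single i0 (1 : ℂ)))
    simp [grad, Pi.single_apply] at this
    exact hi0 this
  let S : Set (ℂ × ℂ) := {st | ∀ x y : ℂ, eval (x • (a + st.1 • P0) + y • (b + st.2 • P0)) f = 0}
  have hS : S.Subsingleton := by
    rintro ⟨s, t⟩ hst ⟨s', t'⟩ hst'
    by_contra hne'
    refine hG0 (s52_four G ?_ s t s' t' ?_ (fun y z => ?_) (fun x z => ?_) (fun x y => ?_) fun x y => ?_)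
    · have h3 := hf.aeval lin hlin
      rw [one_mul] at h3
      exact h3.totalDegree_le
    · by_contra h; push Not at h; exact hne' (Prod.ext h.1 h.2)
    · rw [hres]; refine hf₂ _ ?_
      simpa [φ] using L₂.add_mem (L₂.smul_mem y hb) (L₂.smul_mem z hP2)
    · rw [hres]; refine hf₁ _ ?_
      simpa [φ] using L₁.add_mem (L₁.smul_mem x ha) (L₁.smul_mem z hP1)
    · rw [hres]; convert hst x y using 2
      congr 1
      simp [φ]; module
    · rw [hres]; convert hst' x y using 2
      congr 1
      simp [φ]; module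
  refine ⟨insert (Submodule.span ℂ {P0}) ((fun st : ℂ × ℂ => Submodule.span ℂ {a + st.1 • P0}) '' S),
    (hS.finite.image _).insert _, ?_, fun L hL hfL hL1 hL2 => ?_⟩
  · rintro g (rfl | ⟨⟨s, t⟩, -, rfl⟩)
    · exact ⟨finrank_span_singleton hP00, (Submodule.span_singleton_le_iff_mem _ _).mpr hP1⟩
    · refine ⟨finrank_span_singleton fun e => ha2 ?_,
        (Submodule.span_singleton_le_iff_mem _ _).mpr (L₁.add_mem ha (L₁.smul_mem _ hP1))⟩
      rw [eq_neg_of_add_eq_zero_left e]
      exact L₂.neg_mem (L₂.smul_mem _ hP2)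
  · by_cases hP : P0 ∈ L
    · exact ⟨_, Set.mem_insert _ _, (Submodule.span_singleton_le_iff_mem _ _).mpr hP⟩
    have key : ∀ (L' : Submodule ℂ (Fin 5 → ℂ)) (x : Fin 5 → ℂ),
        (∀ p ∈ L', ∃ α β : ℂ, p = α • P0 + β • x) → L ⊓ L' ≠ ⊥ → ∃ s : ℂ, x + s • P0 ∈ L := by
      intro L' x hin hmeet'
      obtain ⟨p, hp, hp0⟩ := (Submodule.ne_bot_iff _).mp hmeet'
      obtain ⟨α, β, rfl⟩ := hin p (Submodule.mem_inf.mp hp).2
      have hpL := (Submodule.mem_inf.mp hp).1
      have hβ : β ≠ 0 := fun e => by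
        subst e
        simp only [zero_smul, add_zero] at hpL hp0
        exact hP (by simpa [(smul_ne_zero_iff.mp hp0).1] using L.smul_mem α⁻¹ hpL)
      refine ⟨α / β, ?_⟩
      convert L.smul_mem β⁻¹ hpL using 1
      rw [smul_add, smul_smul, smul_smul, inv_mul_cancel₀ hβ, one_smul, ← div_eq_inv_mul, add_comm]
    obtain ⟨s, hs⟩ := key L₁ a in1 hL1
    obtain ⟨t, ht⟩ := key L₂ b in2 hL2
    exact ⟨_, Set.mem_insert_of_mem _ ⟨(s, t), fun x y => hfL _ (L.add_mem (L.smul_mem x hs) (L.smul_mem y ht)), rfl⟩,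
      (Submodule.span_singleton_le_iff_mem _ _).mpr hs⟩

end Groth.Agent.S15252
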