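import Groth.Statements.S15255
import Groth.Agent.L04.Seshadri.PointSeq

set_option autoImplicit false
universe u
open CategoryTheory CategoryTheory.Limits AlgebraicGeometry TopologicalSpace
open W4c2seshadripos

namespace Groth.Agent.S15255

/-- Let X be an integral scheme proper over a field k (the published statement: a projective variety), x
a closed point of X with ideal sheaf m_x, L an invertible O_X-module and a, m > 0 integers. If
H^1(X, m_x^a ⊗ L^{⊗m}) is nonzero then so is H^1(X, m_x^(a+1) ⊗ L^{⊗m}) (the ideal sheaves m_x^a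
being taken as O_X-modules, so that m_x^a ⊗ L^{⊗m} = m_x^a · L^{⊗m}). -/
theorem result (k : Type u) [Field k]
    (X : Scheme.{u}) [X.Over (Spec (CommRingCat.of k))] [IsProper (X ↘ (Spec (CommRingCat.of k)))]
    [IsIntegral X] (x : X) (hx : IsClosed ({x} : Set X)) (L : X.Modules) (hL : PicF.IsInvertible L)
    (a m : ℕ) (ha : 0 < a) (hm : 0 < m)
    (h : Nontrivial (Coh.HH X (CohB1.tensorMod (ClSub.idealMod ((W4c2seshadripos.pointIdeal x hx) ^ a))
      (CohB1.tensorPow L m)) 1)) :
    Nontrivial (Coh.HH X (CohB1.tensorMod (ClSub.idealMod ((W4c2seshadripos.pointIdeal x hx) ^ (a + 1)))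
      (CohB1.tensorPow L m)) 1) := by
  exact Groth.L04.Seshadri.nontrivial_succ k hx (Groth.L18.Ample.isInvertible_tensorPow hL m) a h

end Groth.Agent.S15255
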