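import Groth.Statements.S15259
import Groth.Agent.L00.LocEssFT
-- import your own Groth.Agent.* helpers here

set_option autoImplicit false
universe u
open CategoryTheory CategoryTheory.Limits AlgebraicGeometry TopologicalSpace
open W4c2seshadripos

namespace Groth.Agent.S15259

/-- Call f : X → Y locally essentially of finite type when Y has a cover by affine opens U = Spec A such
that each f⁻¹(U) has a cover by affine opens Spec B with A → B essentially of finite type (a
localization of a finite-type A-algebra; Mathlib's RingHom.EssFiniteType), and essentially of finite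
type when moreover f is quasi-compact. Then f is essentially of finite type exactly when every
affine open U = Spec A of Y has f⁻¹(U) covered by finitely many affine opens V = Spec B of X with A
→ B essentially of finite type. -/
theorem result {X Y : Scheme.{u}} (f : X ⟶ Y) :
    ((∃ S : Set Y.affineOpens, (⋃ U ∈ S, ((U : Y.Opens) : Set ↥Y)) = Set.univ ∧
      ∀ U ∈ S, ∃ T : Set X.affineOpens, (⋃ V ∈ T, ((V : X.Opens) : Set ↥X)) = ((f ⁻¹ᵁ (U : Y.Opens)) : Set ↥X) ∧
        ∀ V ∈ T, ∃ e : (V : X.Opens) ≤ f ⁻¹ᵁ (U : Y.Opens), (f.appLE (U : Y.Opens) (V : X.Opens) e).hom.EssFiniteType) ∧ QuasiCompact f) ↔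
    ∀ U : Y.affineOpens, ∃ T : Set X.affineOpens, T.Finite ∧ (⋃ V ∈ T, ((V : X.Opens) : Set ↥X)) = ((f ⁻¹ᵁ (U : Y.Opens)) : Set ↥X) ∧
        ∀ V ∈ T, ∃ e : (V : X.Opens) ≤ f ⁻¹ᵁ (U : Y.Opens), (f.appLE (U : Y.Opens) (V : X.Opens) e).hom.EssFiniteType := by
  classical
  constructor
  · rintro ⟨h, hqc⟩ U
    obtain ⟨T, hT, hV⟩ := (Groth.L00.LocEssFT.all_iff f).2 (Groth.L00.LocEssFT.loc_of_cover f h) U
    have hc : IsCompact ((f ⁻¹ᵁ (U : Y.Opens) : X.Opens) : Set ↥X) :=
      hqc.isCompact_preimage (U : Y.Opens) (U : Y.Opens).2 U.2.isCompact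
    obtain ⟨T', hT'T, hfin, hcov⟩ := hc.elim_finite_subcover_image (b := T) (c := fun V : X.affineOpens => ((V : X.Opens) : Set ↥X))
      (fun V _ => (V : X.Opens).2) hT.ge
    refine ⟨T', hfin, Set.Subset.antisymm ?_ hcov, fun V hV' => hV V (hT'T hV')⟩
    exact (Set.biUnion_subset_biUnion_left hT'T).trans hT.le
  · intro h
    refine ⟨Groth.L00.LocEssFT.cover_of_all f (fun U => let ⟨T, _, h1, h2⟩ := h U; ⟨T, h1, h2⟩), ?_⟩
    rw [quasiCompact_iff_forall_isAffineOpen]
    intro U hU
    obtain ⟨T, hfin, h1, -⟩ := h ⟨U, hU⟩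
    rw [← h1]
    exact hfin.isCompact_biUnion fun V _ => V.2.isCompact

end Groth.Agent.S15259
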