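import Groth.Statements.S1526
import Groth.Agent.L21.RR.Coh

set_option autoImplicit false
universe u
open CategoryTheory CategoryTheory.Limits AlgebraicGeometry
open Variety

namespace Groth.Agent.S1526

/-- On a proper scheme over a field, a coherent module whose support has dimension at most zero has
vanishing cohomology in all positive degrees. -/
theorem result (k : Type u) [Field k] (X : Scheme.{u}) [X.Over (Spec (CommRingCat.of k))] [IsProper (X ↘ (Spec (CommRingCat.of k)))]
    (F : X.Modules) (hF : Coh.IsCoh F) (hsupp : topologicalKrullDim (CohB1.support F) ≤ 0)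
    (i : ℕ) (hi : 1 ≤ i) : Subsingleton (Coh.HH X F i) := by
  haveI := Groth.L21.RR.isNoetherian_of_proper (X := X) k
  obtain ⟨n, rfl⟩ := Nat.exists_eq_add_of_le hi
  rw [add_comm 1 n]
  refine Groth.L21.RR.subsingleton_HH_of_suppClosed (fun x hx => ?_) n
  by_contra hxS
  have hxS' : x ∈ CohB1.support F := hxS
  obtain ⟨z, hz, hne⟩ : ∃ z, x ⤳ z ∧ x ≠ z := by
    by_contra hh
    push Not at hh
    exact hx (isClosed_of_closure_subset fun z hz => (hh z (specializes_iff_mem_closure.2 hz)).symm)
  have hzS : z ∈ CohB1.support F :=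
    hz.mem_closed (Groth.L16.CohSupport.isClosed_support F hF.2) hxS'
  let c : ↥(CohB1.support F) → TopologicalSpace.IrreducibleCloseds ↥(CohB1.support F) :=
    fun (a : ↥(CohB1.support F)) =>
      ⟨closure ({a} : Set ↥(CohB1.support F)), isIrreducible_singleton.closure, isClosed_closure⟩
  have hlt : c ⟨z, hzS⟩ < c ⟨x, hxS'⟩ := by
    have hs : (⟨x, hxS'⟩ : ↥(CohB1.support F)) ⤳ ⟨z, hzS⟩ := (subtype_specializes_iff _ _).2 hz
    refine lt_of_le_of_ne
      (specializes_iff_closure_subset.1 hs : closure {(⟨z, hzS⟩ : ↥(CohB1.support F))} ⊆ _) fun e => ?_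
    have hs' : (⟨z, hzS⟩ : ↥(CohB1.support F)) ⤳ ⟨x, hxS'⟩ := by
      refine specializes_iff_mem_closure.2 ?_
      rw [show closure ({(⟨z, hzS⟩ : ↥(CohB1.support F))} : Set _) = closure {⟨x, hxS'⟩} from
        congrArg TopologicalSpace.IrreducibleCloseds.carrier e]
      exact subset_closure rfl
    exact hne (congrArg Subtype.val (hs'.antisymm hs).eq).symm
  have h1 := (Order.LTSeries.length_le_krullDim
    ((RelSeries.singleton _ (c ⟨z, hzS⟩)).snoc (c ⟨x, hxS'⟩) hlt)).trans hsupp
  simp only [RelSeries.snoc_length, RelSeries.singleton_length] at h1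
  norm_cast at h1

end Groth.Agent.S1526
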