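import Groth.Prelude.Def_ShStab
import Groth.Prelude.Def_StabCat
import Groth.Prelude.Def_Pic13
import Groth.Prelude.Def_Coh
import Groth.Prelude.Def_CohB1
import Mathlib.Data.Complex.Basic
import Mathlib.AlgebraicGeometry.Morphisms.Proper
import Mathlib.Algebra.Polynomial.Eval.Defs
import Groth.Prelude.Def_LCI2
import Groth.Agent.L11.GM.Simpson
-- import your own Groth.Agent.* helpers here

set_option autoImplicit false
set_option backward.isDefEq.respectTransparency false
set_option backward.isDefEq.respectTransparency.types false
open CategoryTheory CategoryTheory.Limits AlgebraicGeometry
open Coherent

namespace Groth.Agent.S15263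

/-- Over the complex numbers, let X be a proper scheme with an invertible sheaf L which is ample and
very ample (isomorphic to the pull-back of the twisting sheaf O(1) along an immersion of X into a
projective space over the complex numbers). Fix a polynomial P with rational coefficients, a natural
number d with d at least 1, and a rational number b. Then the family of coherent sheaves E on X
which have Hilbert polynomial P with respect to L (the Euler characteristic of E ⊗ L^m is P(m) for
every natural number m), are nonzero and pure of dimension d (every nonzero coherent subsheaf has
support of dimension d), and all of whose nonzero coherent subsheaves G have slope at most b, is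
bounded: all of them occur, up to isomorphism, among the fibres at complex points of a single
coherent sheaf on X × T for some scheme T of finite type. The slope of G is ((d-1)! times the
coefficient of degree d-1) divided by (d! times the coefficient of degree d) of a Hilbert polynomial
of G with respect to L, and the bound is imposed for every polynomial so related to G. (The
published statement takes d to be the degree of P; for d different from the dimension of the support
the family is empty, so d is a free parameter here, taken at least 1 so that slopes are meaningful.) -/
theorem result
    (X : Scheme.{0}) [X.Over (Spec (CommRingCat.of ℂ))] [IsProper (X ↘ Spec (CommRingCat.of ℂ))]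
    (L : X.Modules) (hL : CohB1.IsAmple L) (hva : RelAmple.IsRelVeryAmplePn (X ↘ Spec (CommRingCat.of ℂ)) L)
    (P : Polynomial ℚ) (d : ℕ) (hd : 1 ≤ d) (b : ℚ) :
    Pic13.IsBounded ℂ X (fun E =>
      Coh.IsCoh E ∧ ¬ IsZero E ∧ ShStab.IsPure X E d ∧ ShStab.IsHilbPoly ℂ X L E P ∧
        ∀ (G : X.Modules) (ι : G ⟶ E), Mono ι → Coh.IsCoh G → ¬ IsZero G →
          ∀ pG : Polynomial ℚ, ShStab.IsHilbPoly ℂ X L G pG → StabCat.hatSlope d pG ≤ b) := by
  exact Groth.L11.GM.isBounded_slope_le hL hva P d hd b
end Groth.Agent.S15263
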