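import Groth.Prelude.Def_ShStab
import Groth.Prelude.Def_StabCat
import Groth.Prelude.Def_Pic13
import Groth.Prelude.Def_Coh
import Groth.Prelude.Def_CohB1
import Mathlib.Data.Complex.Basic
import Mathlib.AlgebraicGeometry.Morphisms.Proper
import Mathlib.Algebra.Polynomial.Eval.Defs
import Groth.Prelude.Def_LCI2
import Mathlib.LinearAlgebra.Dimension.Finrank
import Groth.Agent.L11.GM.LePotierRat
-- import your own Groth.Agent.* helpers here

set_option autoImplicit false
set_option backward.isDefEq.respectTransparency false
set_option backward.isDefEq.respectTransparency.types false
open CategoryTheory CategoryTheory.Limits AlgebraicGeometry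
open Coherent

namespace Groth.Agent.S15265

/-- Over the complex numbers, let X be a proper scheme with an invertible sheaf L which is ample and
very ample (isomorphic to the pull-back of the twisting sheaf O(1) along an immersion of X into a
projective space over the complex numbers), and fix a polynomial P with rational coefficients; let d
be its degree and write r(ψ) for d! times the degree-d coefficient of a polynomial ψ. There is a
natural number N₀ such that for every natural number N ≥ N₀ the following holds. Let E be a coherent
sheaf on X which is semistable of dimension d with respect to L (nonzero, pure of dimension d, and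
for every nonzero proper coherent subsheaf the reduced Hilbert polynomial is at most that of E for
large arguments) and has Hilbert polynomial P (the Euler characteristic of E ⊗ L^m is P(m) for every
natural number m). Then for every nonzero coherent subsheaf F of E and every Hilbert polynomial ψ of
F with respect to L, the dimension of the space of global sections of F ⊗ L^N divided by r(ψ) is at
most P(N)/r(P), and if equality holds then r(P)·ψ = r(ψ)·P. (The published statement is for the
fibres of a projective morphism over a base of finite type, with N₀ uniform over the fibres; this
row is the case of a single complex fibre.) -/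
theorem result
    (X : Scheme.{0}) [X.Over (Spec (CommRingCat.of ℂ))] [IsProper (X ↘ Spec (CommRingCat.of ℂ))]
    (L : X.Modules) (hL : CohB1.IsAmple L) (hva : RelAmple.IsRelVeryAmplePn (X ↘ Spec (CommRingCat.of ℂ)) L)
    (P : Polynomial ℚ) :
    ∃ N₀ : ℕ, ∀ N : ℕ, N₀ ≤ N → ∀ (E : X.Modules), ShStab.IsSemistable ℂ X L E P.natDegree → ShStab.IsHilbPoly ℂ X L E P →
      ∀ (F : X.Modules) (ι : F ⟶ E), Mono ι → Coh.IsCoh F → ¬ IsZero F →
        ∀ ψ : Polynomial ℚ, ShStab.IsHilbPoly ℂ X L F ψ →
          (Module.finrank ℂ (Coh.HH X (ShStab.twist X L F N) 0) : ℚ) / StabCat.alpha P.natDegree ψ ≤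
              P.eval (N : ℚ) / StabCat.alpha P.natDegree P ∧
          ((Module.finrank ℂ (Coh.HH X (ShStab.twist X L F N) 0) : ℚ) / StabCat.alpha P.natDegree ψ =
              P.eval (N : ℚ) / StabCat.alpha P.natDegree P →
            StabCat.RedEq P.natDegree ψ P) := by
  obtain ⟨n, i, hi', hi, hLi⟩ := Groth.L12.GenusZero.exists_closedImmersion_projSpace hva
  haveI := hi'
  exact Groth.L11.GM.exists_lps_closed i hi hL hLi P.natDegree P
end Groth.Agent.S15265
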