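import Groth.Statements.S15268
import Groth.Agent.L17.Simpson.FamilyZero
import Groth.Agent.L11.Lemma179.Uniform
import Groth.Agent.L16.ProjSpace.Basic
import Groth.Agent.L23.SchemeFacts

set_option autoImplicit false
set_option linter.style.haveILetI false
open CategoryTheory CategoryTheory.Limits AlgebraicGeometry
open Coherent

namespace Groth.Agent.S15268

/-- Over the complex numbers, let S be a separated scheme of finite type, X a closed subscheme of
projective n-space over S which is flat over S and whose fibre X_t over every complex point t of S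
is irreducible of dimension d, and ξ a section of X over S. Let E and F be coherent sheaves on X,
flat over S, such that for every complex point t of S, on the fibre X_t polarised by the pull-back
of O(1): the restrictions E_t and F_t are semistable of dimension d (nonzero, pure of dimension d,
reduced Hilbert polynomials of nonzero proper coherent subsheaves at most that of the sheaf for
large arguments) with the same reduced Hilbert polynomial (r(F_t)·p_{E_t} = r(E_t)·p_{F_t}, r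
denoting d! times the degree-d coefficient), and each of E_t, F_t has a filtration by coherent
subsheaves with stable d-dimensional successive quotients of that reduced Hilbert polynomial whose
associated graded sheaf is finite locally free on an open neighbourhood of the point ξ(t). Then
every morphism φ from E to F whose pull-back along ξ is the zero map is zero. (The published
statement is for modules over a sheaf of rings of differential operators and imposes the fibre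
conditions at the closed points of the base; this row is the case of the structure sheaf, with the
conditions at complex points, which are the closed points here.) -/
theorem result
    (S : Scheme.{0}) (sS : S ⟶ Spec (CommRingCat.of ℂ)) [LocallyOfFiniteType sS] [QuasiCompact sS] [IsSeparated sS]
    (n : ℕ) (X : Scheme.{0}) (i : X ⟶ CohB1.ProjSpaceOver n S) [IsClosedImmersion i] [Flat (i ≫ (CohB1.ProjSpaceOver n S ↘ S))] (d : ℕ)
    (ξ : S ⟶ X) (hξ : ξ ≫ (i ≫ (CohB1.ProjSpaceOver n S ↘ S)) = 𝟙 S)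
    (hfib : ∀ (t : Spec (CommRingCat.of ℂ) ⟶ S), t ≫ sS = 𝟙 (Spec (CommRingCat.of ℂ)) →
      IrreducibleSpace (PicF.XT (i ≫ (CohB1.ProjSpaceOver n S ↘ S)) (Over.mk t)) ∧ topologicalKrullDim (PicF.XT (i ≫ (CohB1.ProjSpaceOver n S ↘ S)) (Over.mk t)) = (d : WithBot ℕ∞))
    (E F : X.Modules) (hE : Coh.IsCoh E) (hF : Coh.IsCoh F)
    (hEfl : FlatMod.IsFlatOver (i ≫ (CohB1.ProjSpaceOver n S ↘ S)) E) (hFfl : FlatMod.IsFlatOver (i ≫ (CohB1.ProjSpaceOver n S ↘ S)) F)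
    (hss : ∀ (t : Spec (CommRingCat.of ℂ) ⟶ S), t ≫ sS = 𝟙 (Spec (CommRingCat.of ℂ)) →
      @ShStab.IsSemistable ℂ _ (PicF.XT (i ≫ (CohB1.ProjSpaceOver n S ↘ S)) (Over.mk t)) ⟨PicF.XTproj (i ≫ (CohB1.ProjSpaceOver n S ↘ S)) (Over.mk t)⟩ ((Scheme.Modules.pullback (pullback.fst (i ≫ (CohB1.ProjSpaceOver n S ↘ S)) (Over.mk t).hom ≫ i)).obj (Twist.twistOver n S 1)) ((Scheme.Modules.pullback (pullback.fst (i ≫ (CohB1.ProjSpaceOver n S ↘ S)) (Over.mk t).hom)).obj E) d ∧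
      @ShStab.IsSemistable ℂ _ (PicF.XT (i ≫ (CohB1.ProjSpaceOver n S ↘ S)) (Over.mk t)) ⟨PicF.XTproj (i ≫ (CohB1.ProjSpaceOver n S ↘ S)) (Over.mk t)⟩ ((Scheme.Modules.pullback (pullback.fst (i ≫ (CohB1.ProjSpaceOver n S ↘ S)) (Over.mk t).hom ≫ i)).obj (Twist.twistOver n S 1)) ((Scheme.Modules.pullback (pullback.fst (i ≫ (CohB1.ProjSpaceOver n S ↘ S)) (Over.mk t).hom)).obj F) d ∧
      ∀ pE pF : Polynomial ℚ, @ShStab.IsHilbPoly ℂ _ (PicF.XT (i ≫ (CohB1.ProjSpaceOver n S ↘ S)) (Over.mk t)) ⟨PicF.XTproj (i ≫ (CohB1.ProjSpaceOver n S ↘ S)) (Over.mk t)⟩ ((Scheme.Modules.pullback (pullback.fst (i ≫ (CohB1.ProjSpaceOver n S ↘ S)) (Over.mk t).hom ≫ i)).obj (Twist.twistOver n S 1)) ((Scheme.Modules.pullback (pullback.fst (i ≫ (CohB1.ProjSpaceOver n S ↘ S)) (Over.mk t).hom)).obj E) pE →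
        @ShStab.IsHilbPoly ℂ _ (PicF.XT (i ≫ (CohB1.ProjSpaceOver n S ↘ S)) (Over.mk t)) ⟨PicF.XTproj (i ≫ (CohB1.ProjSpaceOver n S ↘ S)) (Over.mk t)⟩ ((Scheme.Modules.pullback (pullback.fst (i ≫ (CohB1.ProjSpaceOver n S ↘ S)) (Over.mk t).hom ≫ i)).obj (Twist.twistOver n S 1)) ((Scheme.Modules.pullback (pullback.fst (i ≫ (CohB1.ProjSpaceOver n S ↘ S)) (Over.mk t).hom)).obj F) pF → StabCat.RedEq d pE pF)
    (hLF : ∀ (t : Spec (CommRingCat.of ℂ) ⟶ S), t ≫ sS = 𝟙 (Spec (CommRingCat.of ℂ)) →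
      (∃ sE : LTSeries (Subobject ((Scheme.Modules.pullback (pullback.fst (i ≫ (CohB1.ProjSpaceOver n S ↘ S)) (Over.mk t).hom)).obj E)), @ShStab.IsJHFiltration ℂ _ (PicF.XT (i ≫ (CohB1.ProjSpaceOver n S ↘ S)) (Over.mk t)) ⟨PicF.XTproj (i ≫ (CohB1.ProjSpaceOver n S ↘ S)) (Over.mk t)⟩ ((Scheme.Modules.pullback (pullback.fst (i ≫ (CohB1.ProjSpaceOver n S ↘ S)) (Over.mk t).hom ≫ i)).obj (Twist.twistOver n S 1)) ((Scheme.Modules.pullback (pullback.fst (i ≫ (CohB1.ProjSpaceOver n S ↘ S)) (Over.mk t).hom)).obj E) d sE ∧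
          ∀ x ∈ Set.range (PicF.secT (i ≫ (CohB1.ProjSpaceOver n S ↘ S)) ξ hξ (Over.mk t)).base, ∃ U : (PicF.XT (i ≫ (CohB1.ProjSpaceOver n S ↘ S)) (Over.mk t)).Opens, x ∈ U ∧ FlatMod.IsFinLocFree ((StabCat.grObj sE).restrict U.ι)) ∧
      (∃ sF : LTSeries (Subobject ((Scheme.Modules.pullback (pullback.fst (i ≫ (CohB1.ProjSpaceOver n S ↘ S)) (Over.mk t).hom)).obj F)), @ShStab.IsJHFiltration ℂ _ (PicF.XT (i ≫ (CohB1.ProjSpaceOver n S ↘ S)) (Over.mk t)) ⟨PicF.XTproj (i ≫ (CohB1.ProjSpaceOver n S ↘ S)) (Over.mk t)⟩ ((Scheme.Modules.pullback (pullback.fst (i ≫ (CohB1.ProjSpaceOver n S ↘ S)) (Over.mk t).hom ≫ i)).obj (Twist.twistOver n S 1)) ((Scheme.Modules.pullback (pullback.fst (i ≫ (CohB1.ProjSpaceOver n S ↘ S)) (Over.mk t).hom)).obj F) d sF ∧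
          ∀ x ∈ Set.range (PicF.secT (i ≫ (CohB1.ProjSpaceOver n S ↘ S)) ξ hξ (Over.mk t)).base, ∃ U : (PicF.XT (i ≫ (CohB1.ProjSpaceOver n S ↘ S)) (Over.mk t)).Opens, x ∈ U ∧ FlatMod.IsFinLocFree ((StabCat.grObj sF).restrict U.ι)))
    (φ : E ⟶ F) (hφ : (Scheme.Modules.pullback ξ).map φ = 0) : φ = 0 := by
  haveI : IsLocallyNoetherian S := LocallyOfFiniteType.isLocallyNoetherian sS
  haveI : IsProper (CohB1.ProjSpaceOver n S ↘ S) :=
    inferInstanceAs (IsProper (CohB1.ProjSpaceOver.toBase n S))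
  haveI : IsLocallyNoetherian X :=
    LocallyOfFiniteType.isLocallyNoetherian (i ≫ (CohB1.ProjSpaceOver n S ↘ S))
  haveI : LocallyOfFinitePresentation (i ≫ (CohB1.ProjSpaceOver n S ↘ S)) :=
    Groth.L23.lfp_of_lft_locallyNoetherian _
  refine Groth.L17.Simpson.family_hom_eq_zero sS (i ≫ (CohB1.ProjSpaceOver n S ↘ S)) ξ hξ hE hF hFfl φ hφ ?_ ?_
  · intro t ht p
    obtain ⟨-, sF, hsF, hgr⟩ := hLF t ht
    letI : (PicF.XT (i ≫ (CohB1.ProjSpaceOver n S ↘ S)) (Over.mk t)).Over (Spec (CommRingCat.of ℂ)) :=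
      ⟨PicF.XTproj (i ≫ (CohB1.ProjSpaceOver n S ↘ S)) (Over.mk t)⟩
    haveI : IsProper ((PicF.XT (i ≫ (CohB1.ProjSpaceOver n S ↘ S)) (Over.mk t)) ↘ Spec (CommRingCat.of ℂ)) :=
      inferInstanceAs (IsProper (pullback.snd (i ≫ (CohB1.ProjSpaceOver n S ↘ S)) (Over.mk t).hom))
    haveI := Groth.L03.ShStab.Basic.locallyNoetherian (k := ℂ) (X := PicF.XT (i ≫ (CohB1.ProjSpaceOver n S ↘ S)) (Over.mk t))
    let y := PicF.secT (i ≫ (CohB1.ProjSpaceOver n S ↘ S)) ξ hξ (Over.mk t) p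
    have hflat := Groth.L17.Simpson.fl_of_series sF hsF.1 hsF.2.1
      fun j => Groth.L17.Simpson.fl_factor_of_gr sF _ hgr j y ⟨p, rfl⟩
    have h := Groth.L17.Simpson.fl_of_pullback (i ≫ (CohB1.ProjSpaceOver n S ↘ S)) F hF hFfl (Over.mk t).hom _ _
      (IsPullback.of_hasPullback _ _) y (hss t ht).2.1.1 hflat
    rw [Groth.L17.Simpson.secT_fst] at h
    exact h
  · intro t ht p ψ hψ
    obtain ⟨-, sF, hsF, hgr⟩ := hLF t ht
    obtain ⟨hE', hF', hred⟩ := hss t ht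
    obtain ⟨hirr, hdim⟩ := hfib t ht
    letI : (PicF.XT (i ≫ (CohB1.ProjSpaceOver n S ↘ S)) (Over.mk t)).Over (Spec (CommRingCat.of ℂ)) :=
      ⟨PicF.XTproj (i ≫ (CohB1.ProjSpaceOver n S ↘ S)) (Over.mk t)⟩
    haveI : IsProper ((PicF.XT (i ≫ (CohB1.ProjSpaceOver n S ↘ S)) (Over.mk t)) ↘ Spec (CommRingCat.of ℂ)) :=
      inferInstanceAs (IsProper (pullback.snd (i ≫ (CohB1.ProjSpaceOver n S ↘ S)) (Over.mk t).hom))
    haveI := hirr
    have hL : CohB1.IsAmple ((Scheme.Modules.pullback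
        (pullback.fst (i ≫ (CohB1.ProjSpaceOver n S ↘ S)) (Over.mk t).hom ≫ i)).obj (Twist.twistOver n S 1)) :=
      Groth.L18.Ample.isAmple_of_iso ((Scheme.Modules.pullbackComp _ i).app _)
        (Groth.L11.Lemma179.isAmple_fibre (K := ℂ) (t := t) i (IsPullback.of_hasPullback (i ≫ (CohB1.ProjSpaceOver n S ↘ S)) t))
    obtain ⟨pE, hpE⟩ := Groth.L03.ShStab.Basic.exists_hilb (k := ℂ) hL.1 hE'.1
      (Groth.L03.ShStab.Basic.dim_le_of_isPure hE'.1 hE'.2.2.1)
    obtain ⟨pF, hpF⟩ := Groth.L03.ShStab.Basic.exists_hilb (k := ℂ) hL.1 hF'.1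
      (Groth.L03.ShStab.Basic.dim_le_of_isPure hF'.1 hF'.2.2.1)
    exact Groth.L17.Simpson.hom_eq_zero_at hdim hL hE' hF' hpE hpF (hred pE pF hpE hpF) _ sF hsF
      (fun j => Groth.L17.Simpson.fl_factor_of_gr sF _ hgr j _ ⟨p, rfl⟩) ψ hψ

end Groth.Agent.S15268
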