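import Groth.Statements.S15272
import Groth.Agent.L17.Stable.SSAbelian

set_option autoImplicit false
open CategoryTheory CategoryTheory.Limits AlgebraicGeometry
open Coherent

namespace Groth.Agent.S15272

/-- Over the complex numbers, let X be a proper scheme with an ample invertible sheaf L, and let E and F
be coherent sheaves on X which are semistable of dimension d with respect to L (nonzero, pure of
dimension d, and the reduced Hilbert polynomial of every nonzero proper coherent subsheaf is at most
that of the sheaf for large arguments), with the same reduced Hilbert polynomial (r(F)·p_E =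
r(E)·p_F for Hilbert polynomials p_E of E and p_F of F with respect to L, r denoting d! times the
degree-d coefficient). Then for every morphism f from E to F: the kernel of f is either zero or
semistable of dimension d with every Hilbert polynomial p_K of it satisfying r(E)·p_K = r(K)·p_E;
and the cokernel of f is either zero or semistable of dimension d with every Hilbert polynomial p_Q
of it satisfying r(E)·p_Q = r(Q)·p_E. In other words the semistable sheaves of dimension d with a
fixed reduced Hilbert polynomial form an abelian subcategory. (The published statement is for
modules over a sheaf of rings of differential operators; this row is the case of the structure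
sheaf.) -/
theorem result
    (X : Scheme.{0}) [X.Over (Spec (CommRingCat.of ℂ))] [IsProper (X ↘ Spec (CommRingCat.of ℂ))]
    (L : X.Modules) (hL : CohB1.IsAmple L) (d : ℕ)
    (E F : X.Modules) (hE : ShStab.IsSemistable ℂ X L E d) (hF : ShStab.IsSemistable ℂ X L F d)
    (pE pF : Polynomial ℚ) (hpE : ShStab.IsHilbPoly ℂ X L E pE) (hpF : ShStab.IsHilbPoly ℂ X L F pF)
    (hred : StabCat.RedEq d pE pF) (f : E ⟶ F) :
    (IsZero (kernel f) ∨ (ShStab.IsSemistable ℂ X L (kernel f) d ∧
        ∀ pK : Polynomial ℚ, ShStab.IsHilbPoly ℂ X L (kernel f) pK → StabCat.RedEq d pK pE)) ∧
    (IsZero (cokernel f) ∨ (ShStab.IsSemistable ℂ X L (cokernel f) d ∧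
        ∀ pQ : Polynomial ℚ, ShStab.IsHilbPoly ℂ X L (cokernel f) pQ → StabCat.RedEq d pQ pE)) := by
  exact Groth.L17.Stable.kernel_cokernel hL hE hF hpE hpF hred f

end Groth.Agent.S15272
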