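import Groth.Statements.S15284
import Groth.Agent.L01.ValCompletionExt

set_option autoImplicit false
universe u
open CAlg

namespace Groth.Agent.S15284

/-- Let L/K be a finite extension of valued fields of height one — rank-one valuations v_K and v_L, v_L
extending v_K up to equivalence, each field with its valuation topology and K → L continuous — with
valuation rings K° ⊆ L°; let K̂, L̂ be the completions with the extended valuations and K̂°, L̂°
their valuation rings. Then K° → L° is étale if and only if L/K is separable and the homomorphism K̂
→ L̂ induced on completions restricts to an étale homomorphism K̂° → L̂°. (For finite extensions of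
valued fields of finite height, 'unramified' is the same as the map of valuation rings being étale;
the published statement says 'unramified' on both sides.) -/
theorem result
    {K L Γ₀ Γ₁ : Type u} [Field K] [Field L] [Algebra K L] [FiniteDimensional K L]
    [LinearOrderedCommGroupWithZero Γ₀] [LinearOrderedCommGroupWithZero Γ₁]
    [hK : Valued K Γ₀] [hL : Valued L Γ₁] [hK.v.RankOne] [hL.v.RankOne] [hK.v.HasExtension hL.v]
    (hc : Continuous (algebraMap K L)) :
    Algebra.Etale hK.v.valuationSubring hL.v.valuationSubring ↔
      (Algebra.IsSeparable K L ∧
        ∃ ψ : (Valued.v : Valuation (UniformSpace.Completion K) Γ₀).valuationSubring →+*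
            (Valued.v : Valuation (UniformSpace.Completion L) Γ₁).valuationSubring,
          (∀ x, (ψ x : UniformSpace.Completion L) =
              UniformSpace.Completion.mapRingHom (algebraMap K L) hc (x : UniformSpace.Completion K)) ∧
          ψ.Etale) := by
  rw [L01.ValCompletionExt.main hc]
  refine and_congr_right fun _ => ⟨fun h => ⟨L01.ValCompletionExt.ψ hc, fun x => rfl, h⟩, fun ⟨ψ, hψ, h⟩ => ?_⟩
  rwa [show L01.ValCompletionExt.ψ hc = ψ from RingHom.ext fun x => Subtype.ext (hψ x).symm]


end Groth.Agent.S15284
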