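import Mathlib.CategoryTheory.Monoidal.Functor
import Mathlib.CategoryTheory.Groupoid
import Mathlib.CategoryTheory.Equivalence
import Mathlib.CategoryTheory.Monoidal.Functor

set_option autoImplicit false
namespace PicCat
end PicCat
universe v v' u u'
open PicCat

namespace Groth.Agent.S15285

open CategoryTheory MonoidalCategory in
/-- Let C and D be Picard categories (monoidal groupoids in which tensoring on either side with any
object is an equivalence of categories) and F : C ⥤ D a lax monoidal functor. If F induces a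
bijection on isomorphism classes of objects (it is essentially surjective, and F X ≅ F Y only when X
≅ Y) and a bijection on endomorphisms of the unit object, then F is an equivalence of categories. -/
theorem result
    {C : Type u} [Category.{v} C] [MonoidalCategory C] [IsGroupoid C]
    {D : Type u'} [Category.{v'} D] [MonoidalCategory D] [IsGroupoid D]
    (hC : ∀ X : C, (tensorLeft X).IsEquivalence ∧ (tensorRight X).IsEquivalence)
    (hD : ∀ X : D, (tensorLeft X).IsEquivalence ∧ (tensorRight X).IsEquivalence)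
    (F : C ⥤ D) [F.LaxMonoidal] [F.EssSurj]
    (h0 : ∀ X Y : C, Nonempty (F.obj X ≅ F.obj Y) → Nonempty (X ≅ Y))
    (h1 : Function.Bijective (fun φ : 𝟙_ C ⟶ 𝟙_ C => F.map φ)) :
    F.IsEquivalence := by
  have hend : ∀ X : C, Function.Bijective (fun e : X ⟶ X => F.map e) := by
    intro X
    haveI := (hC X).2
    haveI := (hD (F.obj X)).2
    have hu : ∀ φ : 𝟙_ C ⟶ 𝟙_ C, F.map (φ ▷ X) =
        inv (Functor.LaxMonoidal.μ F (𝟙_ C) X) ≫ ((F.map φ) ▷ F.obj X) ≫ Functor.LaxMonoidal.μ F (𝟙_ C) X := fun φ => by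
      rw [Functor.LaxMonoidal.μ_natural_left, IsIso.inv_hom_id_assoc]
    constructor
    · intro e e' he
      obtain ⟨φ, hφ⟩ := (tensorRight X).map_surjective ((λ_ X).hom ≫ e ≫ (λ_ X).inv)
      obtain ⟨φ', hφ'⟩ := (tensorRight X).map_surjective ((λ_ X).hom ≫ e' ≫ (λ_ X).inv)
      change φ ▷ X = _ at hφ
      change φ' ▷ X = _ at hφ'
      have h := congrArg (fun t => F.map (λ_ X).hom ≫ t ≫ F.map (λ_ X).inv) he
      simp only [← F.map_comp, ← hφ, ← hφ', hu, cancel_epi, cancel_mono] at h
      have h2 : φ = φ' := h1.1 ((tensorRight (F.obj X)).map_injective h)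
      subst h2
      simpa [cancel_epi, cancel_mono] using hφ.symm.trans hφ'
    · intro t
      obtain ⟨ψ, hψ⟩ := (tensorRight (F.obj X)).map_surjective
        (Functor.LaxMonoidal.μ F (𝟙_ C) X ≫ F.map (λ_ X).hom ≫ t ≫ F.map (λ_ X).inv ≫ inv (Functor.LaxMonoidal.μ F (𝟙_ C) X))
      obtain ⟨φ, hφ⟩ := h1.2 (inv (F.map (𝟙 (𝟙_ C))) ≫ ψ)
      change ψ ▷ F.obj X = _ at hψ
      have hφψ : F.map φ = ψ := by simpa using hφ
      refine ⟨(λ_ X).inv ≫ φ ▷ X ≫ (λ_ X).hom, ?_⟩
      show F.map _ = t
      rw [F.map_comp, F.map_comp, hu, hφψ, hψ]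
      simp [← Functor.map_comp_assoc, ← Functor.map_comp]
  haveI : F.Faithful := ⟨fun {X Y f g} h => by
    have h2 := (hend X).1 (show F.map (f ≫ inv g) = F.map (𝟙 X) by simp [Functor.map_inv, h])
    exact (IsIso.comp_inv_eq g).1 h2 |>.trans (Category.id_comp g)⟩
  haveI : F.Full := ⟨fun {X Y} t => by
    obtain ⟨i⟩ := h0 X Y ⟨asIso t⟩
    obtain ⟨e, he⟩ := (hend X).2 (t ≫ inv (F.map i.hom))
    change F.map e = _ at he
    exact ⟨e ≫ i.hom, by rw [F.map_comp, he, Category.assoc, IsIso.inv_hom_id, Category.comp_id]⟩⟩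
  exact {}

end Groth.Agent.S15285
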