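import Groth.Statements.S15286
import Mathlib.CategoryTheory.Monoidal.Skeleton
import Mathlib.CategoryTheory.Monoidal.NaturalTransformation
import Mathlib.Tactic.CategoryTheory.Monoidal.Basic
import Mathlib.CategoryTheory.HomCongr

set_option autoImplicit false
universe v v' u u'
open PicCat

namespace Groth.Agent.S15286

open CategoryTheory MonoidalCategory in
example : True := trivial

section Helpers
open CategoryTheory MonoidalCategory
variable {D : Type u'} [Category.{v'} D] [MonoidalCategory D]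

/-- The action of an endomorphism of the unit. -/
def act (φ : 𝟙_ D ⟶ 𝟙_ D) (Z : D) : Z ⟶ Z := (λ_ Z).inv ≫ φ ▷ Z ≫ (λ_ Z).hom

theorem act_nat (φ : 𝟙_ D ⟶ 𝟙_ D) {Z W : D} (f : Z ⟶ W) : f ≫ act φ W = act φ Z ≫ f := by
  simp only [act, Category.assoc]
  rw [leftUnitor_inv_naturality_assoc, whisker_exchange_assoc, leftUnitor_naturality]

theorem act_comp (φ ψ : 𝟙_ D ⟶ 𝟙_ D) (Z : D) : act φ Z ≫ act ψ Z = act (φ ≫ ψ) Z := by
  simp [act]

theorem act_id (Z : D) : act (𝟙 (𝟙_ D)) Z = 𝟙 Z := by simp [act]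

theorem act_whiskerRight (φ : 𝟙_ D ⟶ 𝟙_ D) (Z W : D) : act φ Z ▷ W = act φ (Z ⊗ W) := by
  simp only [act]
  monoidal

theorem act_whiskerLeft [BraidedCategory D] (φ : 𝟙_ D ⟶ 𝟙_ D) (Z W : D) :
    Z ◁ act φ W = act φ (Z ⊗ W) := by
  rw [← cancel_mono (β_ Z W).hom, BraidedCategory.braiding_naturality_right, act_whiskerRight,
    act_nat]

theorem act_unit (φ : 𝟙_ D ⟶ 𝟙_ D) : act φ (𝟙_ D) = φ := by
  simp only [act]
  rw [show (λ_ (𝟙_ D)).inv = (ρ_ (𝟙_ D)).inv by monoidal, show (λ_ (𝟙_ D)).hom = (ρ_ (𝟙_ D)).hom by monoidal,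
    rightUnitor_naturality, Iso.inv_hom_id_assoc]

theorem act_bijective (Z : D) (hZ : (tensorRight Z).IsEquivalence) :
    Function.Bijective (fun φ : 𝟙_ D ⟶ 𝟙_ D => act φ Z) := by
  have h1 : Function.Bijective (fun φ : 𝟙_ D ⟶ 𝟙_ D => φ ▷ Z) :=
    ⟨fun a b h => (tensorRight Z).map_injective h, fun f => (tensorRight Z).map_surjective f⟩
  have h2 : Function.Bijective (fun f : 𝟙_ D ⊗ Z ⟶ 𝟙_ D ⊗ Z => (λ_ Z).inv ≫ f ≫ (λ_ Z).hom) :=
    (Iso.homCongr (λ_ Z) (λ_ Z)).bijective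
  exact h2.comp h1

theorem act_tensor [BraidedCategory D] (φ ψ : 𝟙_ D ⟶ 𝟙_ D) (Z W : D) :
    act φ Z ⊗ₘ act ψ W = act (φ ≫ ψ) (Z ⊗ W) := by
  rw [tensorHom_def, act_whiskerRight, act_whiskerLeft, act_comp]

end Helpers

open CategoryTheory MonoidalCategory in

/-- Let C be a Picard category, D a commutative (braided) Picard category, F, G : C ⥤ D lax monoidal
functors and θ₀ : F ⟶ G a monoidal natural transformation. Identify an endomorphism φ of the unit of
D with the automorphism λ⁻¹ ≫ (φ ▷ Z) ≫ λ of any object Z. Then the monoidal natural transformations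
F ⟶ G form a torsor under the monoid homomorphisms χ from the monoid of isomorphism classes of C to
End(𝟙_D): every monoidal θ : F ⟶ G is X ↦ θ₀_X ≫ (action of χ[X] on G X) for a unique such χ, and
for every χ this formula defines a monoidal natural transformation. (The published statement allows
D non-commutative; for a non-braided monoidal groupoid the classes so obtained are crossed rather
than plain homomorphisms, so D is taken braided here.) -/
theorem result
    {C : Type u} [Category.{v} C] [MonoidalCategory C] [IsGroupoid C]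
    {D : Type u'} [Category.{v'} D] [MonoidalCategory D] [BraidedCategory D] [IsGroupoid D]
    (hC : ∀ X : C, (tensorLeft X).IsEquivalence ∧ (tensorRight X).IsEquivalence)
    (hD : ∀ X : D, (tensorLeft X).IsEquivalence ∧ (tensorRight X).IsEquivalence)
    (F G : C ⥤ D) [F.LaxMonoidal] [G.LaxMonoidal] (θ₀ : F ⟶ G) [NatTrans.IsMonoidal θ₀] :
    (∀ θ : F ⟶ G, NatTrans.IsMonoidal θ →
      ∃! χ : Skeleton C →* End (𝟙_ D), ∀ X : C,
        θ.app X = θ₀.app X ≫ (λ_ (G.obj X)).inv ≫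
          ((χ (toSkeleton X) : 𝟙_ D ⟶ 𝟙_ D) ▷ G.obj X) ≫ (λ_ (G.obj X)).hom) ∧
    (∀ χ : Skeleton C →* End (𝟙_ D), ∃ θ : F ⟶ G, NatTrans.IsMonoidal θ ∧ ∀ X : C,
        θ.app X = θ₀.app X ≫ (λ_ (G.obj X)).inv ≫
          ((χ (toSkeleton X) : 𝟙_ D ⟶ 𝟙_ D) ▷ G.obj X) ≫ (λ_ (G.obj X)).hom) := by
  open CategoryTheory.Functor.LaxMonoidal in
  refine ⟨fun θ hθ => ?_, fun χ => ?_⟩
  · haveI := hθ
    have hex : ∀ X : C, ∃ φ : 𝟙_ D ⟶ 𝟙_ D, θ.app X = θ₀.app X ≫ act φ (G.obj X) := fun X => by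
      obtain ⟨φ, hφ⟩ := (act_bijective (G.obj X) (hD _).2).2 (inv (θ₀.app X) ≫ θ.app X)
      refine ⟨φ, ?_⟩
      dsimp only at hφ
      rw [hφ, IsIso.hom_inv_id_assoc]
    choose φ hφ using hex
    have huniq : ∀ (X : C) (a b : 𝟙_ D ⟶ 𝟙_ D), θ₀.app X ≫ act a (G.obj X) = θ₀.app X ≫ act b (G.obj X) →
        a = b := fun X a b h => (act_bijective (G.obj X) (hD _).2).1 ((cancel_epi _).1 h)
    have hiso : ∀ {X Y : C} (f : X ⟶ Y), φ X = φ Y := fun {X Y} f => by
      have h := θ.naturality f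
      rw [hφ, hφ, ← Category.assoc, θ₀.naturality, Category.assoc, Category.assoc, act_nat,
        cancel_epi, cancel_mono] at h
      exact ((act_bijective (G.obj X) (hD _).2).1 h).symm
    have hone : φ (𝟙_ C) = 𝟙 _ := by
      apply huniq (𝟙_ C)
      rw [act_id, Category.comp_id, ← hφ, ← cancel_epi (ε F), NatTrans.IsMonoidal.unit,
        NatTrans.IsMonoidal.unit]
    have hmul : ∀ X Y : C, φ (X ⊗ Y) = φ X ≫ φ Y := fun X Y => by
      apply huniq
      rw [← hφ, ← cancel_epi (μ F X Y), NatTrans.IsMonoidal.tensor (τ := θ),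
        NatTrans.IsMonoidal.tensor_assoc (τ := θ₀), hφ, hφ, ← tensorHom_comp_tensorHom, act_tensor,
        Category.assoc, act_nat]
    have hcomm : ∀ a b : 𝟙_ D ⟶ 𝟙_ D, a ≫ b = b ≫ a := fun a b => by
      simpa only [act_unit] using (act_nat b (a : 𝟙_ D ⟶ 𝟙_ D))
    refine ⟨{ toFun := fun s => φ s.out, map_one' := ?_, map_mul' := fun s t => ?_ }, fun X => ?_,
      fun χ hχ => MonoidHom.ext fun s => ?_⟩
    · exact (hiso (Skeleton.isoOfEq (Y := 𝟙_ C) (Quotient.out_eq _)).hom).trans hone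
    · show φ (s * t).out = φ t.out ≫ φ s.out
      rw [hcomm, ← hmul]
      exact hiso (Skeleton.isoOfEq (Y := s.out ⊗ t.out) (Quotient.out_eq _)).hom
    · show _ = θ₀.app X ≫ act (φ (toSkeleton X).out) (G.obj X)
      rw [hiso (Skeleton.isoOfEq (Y := X) (Quotient.out_eq (toSkeleton X))).hom]
      exact hφ X
    · refine huniq s.out _ _ ?_
      show θ₀.app s.out ≫ act (χ s) _ = θ₀.app s.out ≫ act (φ s.out) _
      rw [← hφ, show χ s = χ (toSkeleton s.out) from congrArg χ (Quotient.out_eq s).symm]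
      exact (hχ s.out).symm
  · refine ⟨{ app := fun X => θ₀.app X ≫ act (χ (toSkeleton X)) (G.obj X), naturality := fun X Y f => ?_ },
      { unit := ?_, tensor := fun X Y => ?_ }, fun X => rfl⟩
    · rw [← congr_toSkeleton_of_iso (asIso f), Category.assoc, ← act_nat, θ₀.naturality_assoc]
    · show ε F ≫ θ₀.app _ ≫ act (χ (toSkeleton (𝟙_ C))) _ = ε G
      rw [show toSkeleton (𝟙_ C) = 1 from rfl, map_one, End.one_def, act_id, Category.comp_id]
      exact NatTrans.IsMonoidal.unit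
    · show μ F X Y ≫ θ₀.app _ ≫ act (χ (toSkeleton (X ⊗ Y))) _ =
        ((θ₀.app X ≫ act (χ (toSkeleton X)) _) ⊗ₘ (θ₀.app Y ≫ act (χ (toSkeleton Y)) _)) ≫ μ G X Y
      have hcomm : ∀ a b : 𝟙_ D ⟶ 𝟙_ D, a ≫ b = b ≫ a := fun a b => by
        simpa only [act_unit] using (act_nat b (a : 𝟙_ D ⟶ 𝟙_ D))
      rw [Skeleton.toSkeleton_tensorObj, map_mul, End.mul_def, hcomm,
        NatTrans.IsMonoidal.tensor_assoc (τ := θ₀), ← tensorHom_comp_tensorHom, act_tensor,
        Category.assoc, act_nat]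

end Groth.Agent.S15286
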