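import Groth.Statements.S15287
import Groth.Agent.L18.AmpleComp
import Groth.Agent.L18.AmpleAvoid

set_option autoImplicit false
universe u
open CategoryTheory AlgebraicGeometry
open PicF

namespace Groth.Agent.S15287

open Groth.L18.Ample Groth.L18.GenLoc

/-- Let Y be a scheme proper over a field k carrying an ample invertible O_Y-module A, let L be an
invertible O_Y-module and y_1, …, y_m finitely many points of Y. Then there is N₀ such that for
every N ≥ N₀ the module L ⊗ A^{⊗ N} has a global section generating it at every y_i (each y_i lies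
in the largest open over which the section is a basis). (The published statement takes Y projective
over k and A very ample; this row takes Y proper over k and A ample.) -/
theorem result
    (k : Type u) [Field k] (Y : Scheme.{u}) (f : Y ⟶ Spec (CommRingCat.of k)) [IsProper f]
    (A : Y.Modules) (hA : CohB1.IsAmple A) (L : Y.Modules) (hL : PicF.IsInvertible L)
    (ι : Type) [Finite ι] (y : ι → ↥Y) :
    ∃ N₀ : ℕ, ∀ N : ℕ, N₀ ≤ N →
      ∃ s : Coh.structureModule Y ⟶ CohB1.tensorMod L (CohB1.tensorPow A N),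
        ∀ i : ι, y i ∈ CohB1.genLocus (CohB1.tensorMod L (CohB1.tensorPow A N)) s := by
  haveI : CompactSpace Y := hA.2.1
  haveI : QuasiSeparatedSpace Y := by
    haveI := isSeparated_of_isAmple hA
    infer_instance
  obtain ⟨n, s, hE, -, ha⟩ := exists_pow_genLocus_of_isAmple hA (Set.range y) (Set.finite_range y) ⊤
    (fun _ _ => trivial)
  generalize hG : CohB1.genLocus _ s = G at hE ha
  haveI : IsAffine (G : Scheme.{u}) := ha
  have hNi : ∀ r, PicF.IsInvertible (CohB1.tensorMod L (CohB1.tensorPow A r)) := fun r =>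
    isInvertible_tensor hL (isInvertible_tensorPow hA.1 r)
  have hk : ∀ r : Fin (n + 1), ∃ k : ℕ, ∀ j : ℕ, k < j → ∃ s' : Coh.structureModule Y ⟶
      CohB1.tensorMod (CohB1.tensorMod L (CohB1.tensorPow A r)) (CohB1.tensorPow (CohB1.tensorPow A (n + 1)) j),
      ∀ i, y i ∈ CohB1.genLocus _ s' := fun r => by
    obtain ⟨s₁, -, h₁, -⟩ := exists_genLocus_of_isQuasiAffine (isInvertible_restrict (hNi r) G)
      (G.ι ⁻¹' Set.range y) ((Set.finite_range y).preimage G.ι.isOpenEmbedding.injective.injOn) ⊤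
      (fun _ _ => trivial)
    obtain ⟨k, hk⟩ := exists_genLocus_eq_of_restrict_gen (hNi r) (isInvertible_tensorPow hA.1 (n + 1)) s hG s₁
    refine ⟨k, fun j hj => ?_⟩
    obtain ⟨s', hs'⟩ := hk j hj
    refine ⟨s', fun i => ?_⟩
    rw [hs']
    exact ⟨⟨y i, hE ⟨i, rfl⟩⟩, h₁ ⟨i, rfl⟩, rfl⟩
  choose k hk using hk
  refine ⟨(n + 1) * (Finset.univ.sup k + 2), fun N hN => ?_⟩
  let r : Fin (n + 1) := ⟨N % (n + 1), Nat.mod_lt _ (Nat.succ_pos n)⟩
  have hj : k r < N / (n + 1) := by
    have h1 : k r ≤ Finset.univ.sup k := Finset.le_sup (Finset.mem_univ r)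
    have h2 : Finset.univ.sup k + 2 ≤ N / (n + 1) := (Nat.le_div_iff_mul_le (Nat.succ_pos n)).2 (by rw [Nat.mul_comm]; exact hN)
    omega
  obtain ⟨s', hs'⟩ := hk r _ hj
  let e := Groth.L00.Tensor.tensorAssoc L (CohB1.tensorPow A r) (CohB1.tensorPow (CohB1.tensorPow A (n + 1)) (N / (n + 1))) ≪≫
    Groth.L00.Tensor.tensorIso (Iso.refl L)
      (Groth.L00.Tensor.tensorIso (Iso.refl _) (Groth.L00.Tensor.tensorPowMul A (n + 1) (N / (n + 1))) ≪≫
        Groth.L00.Tensor.tensorPowAdd A r ((n + 1) * (N / (n + 1))) ≪≫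
          eqToIso (congrArg (CohB1.tensorPow A) (Nat.mod_add_div N (n + 1))))
  exact ⟨s' ≫ e.hom, fun i => by rw [Groth.L16.genLocus_comp_iso]; exact hs' i⟩

end Groth.Agent.S15287
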