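import Groth.Statements.S15288
import Groth.Agent.L29.DCoh.RpushTorFibre
import Groth.Agent.L02.Canon.Basic
-- import your own Groth.Agent.* helpers here

set_option autoImplicit false
set_option backward.isDefEq.respectTransparency false
universe u
open CategoryTheory CategoryTheory.Limits AlgebraicGeometry
attribute [local instance] HasDerivedCategory.standard
open Perf

namespace Groth.Agent.S15288

/-- Let f : X ⟶ Y be locally projective (locally on Y, X is a closed subscheme of some projective space
ℙ^N_Y), flat, surjective and locally of finite presentation, with every fibre of local dimension n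
at each of its points, and assume the derived direct image Rf_* exists on D(O_X). If E ∈ D(O_X) is
perfect and is represented by a complex of flat O_X-modules concentrated in degrees [a, b], then
Rf_*E has tor amplitude in [a, b + n]: for every O_Y-module F the cohomology sheaves of Rf_*E ⊗^L F
vanish outside [a, b + n]. (Rf_*E is moreover perfect; that part is the flat proper finitely
presented case stated separately.) -/
theorem result
    {X Y : Scheme.{u}} (f : X ⟶ Y) (n : ℕ)
    (hproj : RedSub.IsLocallyProjective (Over.mk f))
    [Flat f] [Surjective f] [LocallyOfFinitePresentation f]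
    (hdim : ∀ x : ↥X, FlatMor.fibreDimAt f x = n)
    [DCoh.HasRpush f] (E : DCoh.D X) (hE : DCoh.IsPerfect E) (a b : ℤ)
    (hab : DCoh.HasFlatAmplitudeIn a b E) :
    DCoh.HasTorAmplitudeIn a (b + n) ((DCoh.Rpush f).obj E) := by
  haveI : IsProper f := Groth.L02.Canon.isProper_of_isLocallyProjective hproj
  exact Groth.L29.DC.RpushTorFibre.torAmp f n
    (fun y => (Groth.L07.FibreDim.fiber_dim_le_iff f y n).2 fun x _ => (hdim x).le) E hE a b hab

end Groth.Agent.S15288
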