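
import Groth.Statements.S1529
import Groth.Agent.L22.DimZero

set_option autoImplicit false
universe u
open CategoryTheory CategoryTheory.Limits AlgebraicGeometry
open Variety

namespace Groth.Agent.S1529

/-- A scheme of finite type over a field whose underlying topological space has Krull dimension at most
zero is affine, and its structure morphism is finite. -/
theorem result (k : Type u) [Field k] (X : Scheme.{u}) [X.Over (Spec (CommRingCat.of k))]
    [LocallyOfFiniteType (X ↘ (Spec (CommRingCat.of k)))] [QuasiCompact (X ↘ (Spec (CommRingCat.of k)))]
    (hdim : topologicalKrullDim X ≤ 0) :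
    IsAffine X ∧ IsFinite (X ↘ (Spec (CommRingCat.of k))) := by
  haveI := Groth.L22.DimZero.isArtinianScheme_of_dim_le_zero k (X ↘ (Spec (CommRingCat.of k))) hdim
  exact Groth.L22.DimZero.isFinite_of_isArtinian k (X ↘ (Spec (CommRingCat.of k)))

end Groth.Agent.S1529
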