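import Groth.Statements.S15295
import Groth.Agent.L14.DeRham.ExtBaseChange
import Groth.Agent.L14.DeRham.Map
import Mathlib.RingTheory.Kaehler.TensorProduct

set_option autoImplicit false
universe u
open DeRham

namespace Groth.Agent.S15295

open exteriorPower TensorProduct in
/-- The de Rham complex commutes with base change. Let R → A and R → S be ring maps and B = S ⊗_R A (an
R-algebra over A and S with the pushout property), and let ψ be the induced map of de Rham complexes
from the p-forms of A over R to the p-forms of B over S (additive maps sending b₀ db₁ ∧ … ∧ db_p to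
g(b₀) d(g b₁) ∧ … ∧ d(g b_p), g : A → B the structure map). Then in each degree p the S-linear
extension S ⊗_R ⋀^p Ω_{A/R} → ⋀^p Ω_{B/S}, s ⊗ x ↦ s · ψ_p(x), is bijective. (This row states the
degreewise bijectivity, with the base change written S ⊗_R − rather than − ⊗_R S; the compatibility
of ψ with the differentials, which makes this an isomorphism of complexes, holds for any square of
ring maps.) -/
theorem result (R S A B : Type u) [CommRing R] [CommRing S] [CommRing A] [CommRing B]
    [Algebra R S] [Algebra R A] [Algebra R B] [Algebra A B] [Algebra S B]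
    [IsScalarTower R A B] [IsScalarTower R S B] [Algebra.IsPushout R S A B]
    (ψ : ∀ p : ℕ, ↥(⋀[A]^p (Ω[A⁄R])) →+ ↥(⋀[B]^p (Ω[B⁄S])))
    (hψ : DeRham.IsCxMap (KaehlerDifferential.D R A) (KaehlerDifferential.D S B) (algebraMap A B) ψ)
    (p : ℕ) (Φ : S ⊗[R] ↥(⋀[A]^p (Ω[A⁄R])) →+ ↥(⋀[B]^p (Ω[B⁄S])))
    (hΦ : ∀ (s : S) (x : ↥(⋀[A]^p (Ω[A⁄R]))), Φ (s ⊗ₜ[R] x) = s • ψ p x) :
    Function.Bijective Φ := by
  have hδ := KaehlerDifferential.span_range_derivation R A
  let ψA : ↥(⋀[A]^p (Ω[A⁄R])) →ₗ[A] ↥(⋀[B]^p (Ω[B⁄S])) :=
    { toFun := ψ p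
      map_add' := map_add _
      map_smul' := fun a x => by
        rw [Groth.L14.DeRham.cxMap_smul hδ hψ, RingHom.id_apply, algebraMap_smul] }
  have hinner : Function.Bijective ((KaehlerDifferential.map R S A B).liftBaseChange B) := by
    have : (KaehlerDifferential.map R S A B).liftBaseChange B =
        (KaehlerDifferential.tensorKaehlerEquiv R S A B).toLinearMap := by
      refine TensorProduct.AlgebraTensorModule.curry_injective (LinearMap.ext fun b => ?_)
      refine Derivation.liftKaehlerDifferential_unique _ _ (Derivation.ext fun a => ?_)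
      simp
    rw [this]
    exact (KaehlerDifferential.tensorKaehlerEquiv R S A B).bijective
  let φ : Ω[A⁄R] →ₛₗ[algebraMap A B] Ω[B⁄S] :=
    { toFun := KaehlerDifferential.map R S A B
      map_add' := map_add _
      map_smul' := fun a x => by rw [map_smul, algebraMap_smul] }
  obtain ⟨H, hH⟩ := Groth.L14.DeRham.exists_extMap φ p
  have heq : ψ p = H.toAddMonoidHom := Groth.L14.DeRham.addHom_ext hδ fun b₀ b => by
    rw [hψ]
    show _ = H (b₀ • ιMulti A p fun i => KaehlerDifferential.D R A (b i))
    rw [LinearMap.map_smulₛₗ, hH]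
    simp [DeRham.gen, φ]
  have hgen : ∀ v : Fin p → Ω[A⁄R], ψA (ιMulti A p v) =
      ιMulti B p fun i => KaehlerDifferential.map R S A B (v i) := fun v =>
    (congrArg (fun f : _ →+ _ => f (ιMulti A p v)) heq).trans (hH v)
  have hbij := Groth.L14.DeRham.bijective_ext_baseChange (KaehlerDifferential.map R S A B) hinner p
    (ψA.liftBaseChange B) fun v => by rw [LinearMap.liftBaseChange_tmul, one_smul, hgen]
  have hΦ' : ⇑Φ = ⇑(ψA.liftBaseChange B) ∘
      ⇑(Algebra.IsPushout.cancelBaseChange R S A B ↥(⋀[A]^p (Ω[A⁄R]))).symm := by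
    funext z
    induction z using TensorProduct.induction_on with
    | zero => simp
    | add x y hx hy => simp only [Function.comp_apply, map_add] at hx hy ⊢; rw [hx, hy]
    | tmul s x =>
      rw [Function.comp_apply, Algebra.IsPushout.cancelBaseChange_symm_tmul, LinearMap.liftBaseChange_tmul,
        algebraMap_smul, hΦ]
      rfl
  rw [hΦ']
  exact hbij.comp (LinearEquiv.bijective _)

end Groth.Agent.S15295
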