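import Groth.Statements.S15298
import Mathlib.RingTheory.Smooth.AdicCompletion
import Mathlib.RingTheory.AdicCompletion.RingHom
import Mathlib.RingTheory.PowerSeries.Trunc
import Mathlib.Tactic.LinearCombination

set_option autoImplicit false
universe u
open CAlg

namespace Groth.Agent.S15298

section
open Polynomial
variable {k A B : Type*} [CommRing k] [CommRing A] [Algebra k A] [CommRing B] [Algebra k B]
  (s : B →ₐ[k] A) (x : A)

/-- Evaluation of the truncation of a power series modulo a power of `x`. -/
noncomputable def ev (n : ℕ) : PowerSeries B →ₐ[k] A ⧸ (Ideal.span {x} : Ideal A) ^ n where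
  toFun f := Ideal.Quotient.mk _ ((PowerSeries.trunc n f).eval₂ s.toRingHom x)
  map_one' := by
    cases n with
    | zero =>
      haveI : Subsingleton (A ⧸ (Ideal.span {x} : Ideal A) ^ 0) := Ideal.Quotient.subsingleton_iff.mpr (by simp)
      exact Subsingleton.elim _ _
    | succ n => simp [PowerSeries.trunc_one]
  map_zero' := by simp
  map_add' f g := by simp
  map_mul' f g := by
    rw [← map_mul, ← eval₂_mul, Ideal.Quotient.eq, ← eval₂_sub, Ideal.span_singleton_pow,
      Ideal.mem_span_singleton]
    have : (X : B[X]) ^ n ∣ PowerSeries.trunc n (f * g) - PowerSeries.trunc n f * PowerSeries.trunc n g := by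
      rw [Polynomial.X_pow_dvd_iff]
      intro i hi
      rw [coeff_sub, ← PowerSeries.trunc_trunc_mul_trunc, PowerSeries.coeff_trunc, if_pos hi,
        ← coe_mul, Polynomial.coeff_coe, sub_self]
    obtain ⟨c, hc⟩ := this
    exact ⟨c.eval₂ s.toRingHom x, by rw [hc, eval₂_mul, eval₂_X_pow]⟩
  commutes' r := by
    cases n with
    | zero =>
      haveI : Subsingleton (A ⧸ (Ideal.span {x} : Ideal A) ^ 0) := Ideal.Quotient.subsingleton_iff.mpr (by simp)
      exact Subsingleton.elim _ _
    | succ n =>
      rw [PowerSeries.algebraMap_apply, PowerSeries.trunc_C, eval₂_C, ← Ideal.Quotient.mk_algebraMap]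
      exact congrArg _ (s.commutes r)

theorem ev_compat {m n : ℕ} (h : m ≤ n) :
    (Ideal.Quotient.factorₐ k (Ideal.pow_le_pow_right h)).comp (ev s x n) = ev s x m := by
  refine AlgHom.ext fun f => ?_
  show Ideal.Quotient.factor (Ideal.pow_le_pow_right h) (Ideal.Quotient.mk _ _) = Ideal.Quotient.mk _ _
  rw [Ideal.Quotient.factor_mk, Ideal.Quotient.eq, ← eval₂_sub, Ideal.span_singleton_pow,
    Ideal.mem_span_singleton]
  have : (X : B[X]) ^ m ∣ PowerSeries.trunc n f - PowerSeries.trunc m f := by
    rw [Polynomial.X_pow_dvd_iff]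
    intro i hi
    rw [coeff_sub, PowerSeries.coeff_trunc, PowerSeries.coeff_trunc, if_pos hi,
      if_pos (hi.trans_le h), sub_self]
  obtain ⟨c, hc⟩ := this
  exact ⟨c.eval₂ s.toRingHom x, by rw [hc, eval₂_mul, eval₂_X_pow]⟩

end

/-- Let k be a field, A a Noetherian k-algebra and x a non-zero-divisor of A such that A is separated
and complete for the (x)-adic topology, and assume that B = A/xA is formally smooth over k. Then A
is a power series ring over B in the variable x: there is a k-algebra isomorphism e : B[[T]] ≅ A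
with e(T) = x whose reduction modulo x is the constant-coefficient map, i.e. e(f) ≡ f(0) mod x for
every power series f. -/
theorem result (k A : Type u) [Field k]
    [CommRing A] [Algebra k A] [IsNoetherianRing A] (x : A) (hx : x ∈ nonZeroDivisors A)
    [IsAdicComplete (Ideal.span {x}) A] [Algebra.FormallySmooth k (A ⧸ Ideal.span {x})] :
    ∃ e : PowerSeries (A ⧸ Ideal.span {x}) ≃ₐ[k] A,
      e PowerSeries.X = x ∧
      ∀ f : PowerSeries (A ⧸ Ideal.span {x}),
        Ideal.Quotient.mk (Ideal.span {x}) (e f) = PowerSeries.constantCoeff f := by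
  set I : Ideal A := Ideal.span {x} with hI
  obtain ⟨s, hs⟩ := Algebra.FormallySmooth.exists_mkₐ_comp_eq_of_isAdicComplete (AlgHom.id k (A ⧸ I))
  have hs' : ∀ b, Ideal.Quotient.mk I (s b) = b := fun b => DFunLike.congr_fun hs b
  let φ := IsAdicComplete.liftAlgHom I (ev s x) (ev_compat s x)
  have hφ : ∀ n f, Ideal.Quotient.mk (I ^ n) (φ f) =
      Ideal.Quotient.mk (I ^ n) ((PowerSeries.trunc n f).eval₂ s.toRingHom x) :=
    fun n f => IsAdicComplete.mk_liftAlgHom I (ev s x) (ev_compat s x) n f
  have hsucc : ∀ n (f : PowerSeries (A ⧸ I)), (PowerSeries.trunc (n + 1) f).eval₂ s.toRingHom x =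
      (PowerSeries.trunc n f).eval₂ s.toRingHom x + s (PowerSeries.coeff n f) * x ^ n := by
    intro n f
    rw [PowerSeries.trunc_succ, Polynomial.eval₂_add, Polynomial.eval₂_monomial]
    rfl
  have hI' : ∀ n, I ^ n = Ideal.span {x ^ n} := Ideal.span_singleton_pow x
  have hmem : ∀ a, a ∈ I ↔ x ∣ a := fun a => Ideal.mem_span_singleton
  have hext : ∀ a b : A, (∀ n, Ideal.Quotient.mk (I ^ n) a = Ideal.Quotient.mk (I ^ n) b) → a = b := by
    intro a b h
    refine IsHausdorff.eq_iff_smodEq (I := I) |>.mpr fun n => ?_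
    rw [smul_eq_mul, Ideal.mul_top]
    exact SModEq.sub_mem.mpr (Ideal.Quotient.eq.mp (h n))
  have hinj : Function.Injective φ := by
    rw [injective_iff_map_eq_zero]
    intro f hf
    ext n
    rw [map_zero]
    induction n using Nat.strong_induction_on with
    | _ n ih =>
      have h := hφ (n + 1) f
      have h0 : PowerSeries.trunc n f = 0 := by
        ext i
        rw [PowerSeries.coeff_trunc, Polynomial.coeff_zero]
        split_ifs with hi
        · exact ih i hi
        · rfl
      rw [hf, map_zero, hsucc, h0, Polynomial.eval₂_zero, zero_add, eq_comm,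
        Ideal.Quotient.eq_zero_iff_mem, hI', Ideal.mem_span_singleton,
        pow_succ, mul_comm (s _), dvd_cancel_left_mem_nonZeroDivisors (pow_mem hx n)] at h
      rw [← hs' (PowerSeries.coeff n f), Ideal.Quotient.eq_zero_iff_mem, hmem]
      exact h
  have hsurj : Function.Surjective φ := by
    intro a
    choose t ht using fun a : A => Ideal.mem_span_singleton'.mp
      (Ideal.Quotient.eq.mp (hs' (Ideal.Quotient.mk I a)).symm)
    let b : PowerSeries (A ⧸ I) := PowerSeries.mk fun n => Ideal.Quotient.mk I (t^[n] a)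
    refine ⟨b, hext _ _ fun n => ?_⟩
    rw [hφ]
    have : ∀ n, a = (PowerSeries.trunc n b).eval₂ s.toRingHom x + t^[n] a * x ^ n := by
      intro n
      induction n with
      | zero => simp
      | succ n ih =>
        rw [hsucc, PowerSeries.coeff_mk, Function.iterate_succ_apply', add_assoc, pow_succ]
        conv_lhs => rw [ih]
        congr 1
        linear_combination (-(x ^ n)) * ht (t^[n] a)
    rw [Ideal.Quotient.eq, ← neg_mem_iff, neg_sub]
    conv => arg 2; arg 1; rw [this n]
    rw [add_sub_cancel_left, hI']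
    exact Ideal.mem_span_singleton'.mpr ⟨_, rfl⟩
  refine ⟨AlgEquiv.ofBijective φ ⟨hinj, hsurj⟩, ?_, fun f => ?_⟩
  · refine hext _ _ fun n => ?_
    show Ideal.Quotient.mk _ (φ _) = _
    rw [hφ, Ideal.Quotient.eq]
    rcases n with _ | _ | n
    · simp
    · rw [hsucc, pow_one, PowerSeries.coeff_zero_X]
      simp [hI, Ideal.mem_span_singleton_self]
    · rw [PowerSeries.trunc_X]
      simp
  · show Ideal.Quotient.mk I (φ f) = _
    have h := Ideal.Quotient.eq.mp (hφ 1 f)
    rw [pow_one, hsucc, PowerSeries.trunc_zero', Polynomial.eval₂_zero, zero_add, pow_zero, mul_one] at h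
    rw [Ideal.Quotient.eq.mpr h, hs', PowerSeries.coeff_zero_eq_constantCoeff_apply]

end Groth.Agent.S15298
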