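import Groth.Statements.S15299
import Groth.Agent.L14.DeRham.Homotopy
import Mathlib.RingTheory.Kaehler.Polynomial
import Mathlib.LinearAlgebra.ExteriorPower.Basis
import Mathlib.RingTheory.MvPolynomial.Basic
import Mathlib.RingTheory.AlgebraTower
import Mathlib.Algebra.MvPolynomial.PDeriv

set_option autoImplicit false
universe u
open Omega

namespace Groth.Agent.S15299

/-- Let k be a field of characteristic zero, A = k[x_1, …, x_n] and Ω = Ω_{A/k}. Let d be a k-linear
endomorphism of the exterior algebra ⋀_A Ω which agrees with the universal derivation on A, sends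
⋀^p Ω into ⋀^(p+1) Ω, is a graded derivation and satisfies d ∘ d = 0 (these properties characterise
the de Rham differential). Then the de Rham complex 0 → k → A → Ω → ⋀^2 Ω → ⋯ → ⋀^n Ω → 0 is exact:
an element of A with d a = 0 is a constant, and every d-closed element of ⋀^(p+1) Ω is d of some
element of ⋀^p Ω. -/
theorem result (k : Type u) [Field k] [CharZero k] (n : ℕ)
    (d : ExteriorAlgebra (MvPolynomial (Fin n) k) (KaehlerDifferential k (MvPolynomial (Fin n) k)) →ₗ[k]
      ExteriorAlgebra (MvPolynomial (Fin n) k) (KaehlerDifferential k (MvPolynomial (Fin n) k)))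
    (h0 : ∀ a : MvPolynomial (Fin n) k,
      d (algebraMap (MvPolynomial (Fin n) k) _ a) =
        ExteriorAlgebra.ι (MvPolynomial (Fin n) k) (KaehlerDifferential.D k (MvPolynomial (Fin n) k) a))
    (hdeg : ∀ (p : ℕ) (ω : ExteriorAlgebra (MvPolynomial (Fin n) k) (KaehlerDifferential k (MvPolynomial (Fin n) k))),
      ω ∈ ExteriorAlgebra.exteriorPower (MvPolynomial (Fin n) k) p (KaehlerDifferential k (MvPolynomial (Fin n) k)) →
        d ω ∈ ExteriorAlgebra.exteriorPower (MvPolynomial (Fin n) k) (p + 1) (KaehlerDifferential k (MvPolynomial (Fin n) k)))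
    (hder : ∀ (p : ℕ) (ω η : ExteriorAlgebra (MvPolynomial (Fin n) k) (KaehlerDifferential k (MvPolynomial (Fin n) k))),
      ω ∈ ExteriorAlgebra.exteriorPower (MvPolynomial (Fin n) k) p (KaehlerDifferential k (MvPolynomial (Fin n) k)) →
        d (ω * η) = d ω * η + (-1) ^ p * ω * d η)
    (hdd : ∀ ω, d (d ω) = 0) :
    (∀ a : MvPolynomial (Fin n) k, d (algebraMap (MvPolynomial (Fin n) k) _ a) = 0 →
        ∃ c : k, a = MvPolynomial.C c) ∧
    ∀ (p : ℕ) (ω : ExteriorAlgebra (MvPolynomial (Fin n) k) (KaehlerDifferential k (MvPolynomial (Fin n) k))),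
      ω ∈ ExteriorAlgebra.exteriorPower (MvPolynomial (Fin n) k) (p + 1) (KaehlerDifferential k (MvPolynomial (Fin n) k)) →
        d ω = 0 →
          ∃ θ ∈ ExteriorAlgebra.exteriorPower (MvPolynomial (Fin n) k) p (KaehlerDifferential k (MvPolynomial (Fin n) k)),
            d θ = ω := by
  classical
  let δ : Derivation k (MvPolynomial (Fin n) k) (KaehlerDifferential k (MvPolynomial (Fin n) k)) := KaehlerDifferential.D k (MvPolynomial (Fin n) k)
  let e := KaehlerDifferential.mvPolynomialBasis k (Fin n)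
  let φ : KaehlerDifferential k (MvPolynomial (Fin n) k) →ₗ[MvPolynomial (Fin n) k] MvPolynomial (Fin n) k :=
    e.constr (MvPolynomial (Fin n) k) (fun i => MvPolynomial.X i)
  have hφ : ∀ (m : Fin n →₀ ℕ) (c : k), φ (δ (MvPolynomial.monomial m c)) = ((∑ i, m i : ℕ) : MvPolynomial (Fin n) k) * MvPolynomial.monomial m c := by
    intro m c
    simp only [φ, Module.Basis.constr_apply_fintype, Module.Basis.equivFun_apply, e, δ,
      KaehlerDifferential.mvPolynomialBasis_repr_apply, smul_eq_mul]
    rw [Nat.cast_sum, Finset.sum_mul]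
    refine Finset.sum_congr rfl fun i _ => ?_
    rw [mul_comm, MvPolynomial.X_mul_pderiv_monomial, nsmul_eq_mul]
  have hcoef : ∀ (m : Fin n →₀ ℕ) (a : MvPolynomial (Fin n) k), MvPolynomial.coeff m (φ (δ a)) = ((∑ i, m i : ℕ) : k) * MvPolynomial.coeff m a := by
    intro m a
    induction a using MvPolynomial.induction_on' with
    | monomial m' c =>
      rw [hφ, ← map_natCast MvPolynomial.C, MvPolynomial.coeff_C_mul, MvPolynomial.coeff_monomial]
      split_ifs with h
      · rw [h]
      · rw [mul_zero, mul_zero]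
    | add p q hp hq => rw [map_add, map_add, MvPolynomial.coeff_add, hp, hq, MvPolynomial.coeff_add, mul_add]
  have hspan : Submodule.span (MvPolynomial (Fin n) k) (Set.range δ) = ⊤ :=
    KaehlerDifferential.span_range_derivation k (MvPolynomial (Fin n) k)
  refine ⟨fun a ha => ?_, ?_⟩
  · rw [h0] at ha
    have hD : δ a = 0 := (ExteriorAlgebra.ι_eq_zero_iff (R := MvPolynomial (Fin n) k) _).1 ha
    refine ⟨MvPolynomial.coeff 0 a, MvPolynomial.ext _ _ fun m => ?_⟩
    rw [MvPolynomial.coeff_C]
    split_ifs with h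
    · rw [← h]
    · have h' := hcoef m a
      rw [hD, map_zero, MvPolynomial.coeff_zero] at h'
      refine (mul_eq_zero.1 h'.symm).resolve_left ?_
      intro hs'
      have hs := Nat.cast_eq_zero.1 hs'
      exact h (Finsupp.ext fun i => ((Finset.sum_eq_zero_iff.1 hs) i (Finset.mem_univ i)).symm)
  let dd : ∀ p : ℕ, ↥(⋀[MvPolynomial (Fin n) k]^p (KaehlerDifferential k (MvPolynomial (Fin n) k))) →ₗ[k]
      ↥(⋀[MvPolynomial (Fin n) k]^(p + 1) (KaehlerDifferential k (MvPolynomial (Fin n) k))) := fun p =>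
    { toFun := fun x => ⟨d x, hdeg p x x.2⟩
      map_add' := fun x y => Subtype.ext (map_add d (x : ExteriorAlgebra _ _) (y : ExteriorAlgebra _ _))
      map_smul' := fun c x => Subtype.ext (map_smul d c (x : ExteriorAlgebra _ _)) }
  have hcl : ∀ (p : ℕ) (b : Fin p → MvPolynomial (Fin n) k),
      d ((exteriorPower.ιMulti (MvPolynomial (Fin n) k) p (fun i => δ (b i)) : ↥(⋀[MvPolynomial (Fin n) k]^p (KaehlerDifferential k (MvPolynomial (Fin n) k)))) : ExteriorAlgebra _ _) = 0 := by
    intro p
    induction p with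
    | zero =>
      intro b
      rw [exteriorPower.ιMulti_apply_coe, ExteriorAlgebra.ιMulti_zero_apply, ← map_one (algebraMap (MvPolynomial (Fin n) k) _), h0,
        Derivation.map_one_eq_zero, map_zero]
    | succ p ih =>
      intro b
      have hb : (fun i => δ (b i)) = Fin.cons (δ (b 0)) (fun i => δ (b i.succ)) := by
        funext i; induction i using Fin.cases <;> simp
      rw [hb, Groth.L14.DeRham.coe_cons, hder 1 _ _ ?_, ih, mul_zero, add_zero]
      · rw [← h0, hdd, zero_mul]
      · have h1 := (exteriorPower.ιMulti (MvPolynomial (Fin n) k) 1 (fun _ => δ (b 0))).2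
        rwa [exteriorPower.ιMulti_apply_coe, ExteriorAlgebra.ιMulti_succ_apply, ExteriorAlgebra.ιMulti_zero_apply, mul_one] at h1
  have hrule : _root_.DeRham.IsRule δ dd := by
    intro p b₀ b
    refine Subtype.ext ?_
    show d ((_root_.DeRham.gen δ p b₀ b : ↥(⋀[MvPolynomial (Fin n) k]^p (KaehlerDifferential k (MvPolynomial (Fin n) k)))) : ExteriorAlgebra _ _) = _
    rw [_root_.DeRham.gen, Submodule.coe_smul, Algebra.smul_def, hder 0 _ _ ?_, h0, hcl, mul_zero, add_zero]
    · rw [Groth.L14.DeRham.coe_cons]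
    · rw [ExteriorAlgebra.exteriorPower, pow_zero]
      exact Submodule.algebraMap_mem _
  intro p ω hω hdω
  let L : ↥(⋀[MvPolynomial (Fin n) k]^(p + 1) (KaehlerDifferential k (MvPolynomial (Fin n) k))) →ₗ[k]
      ↥(⋀[MvPolynomial (Fin n) k]^(p + 1) (KaehlerDifferential k (MvPolynomial (Fin n) k))) :=
    (dd p).comp ((Groth.L14.DeRham.contr φ p).restrictScalars k) + ((Groth.L14.DeRham.contr φ (p + 1)).restrictScalars k).comp (dd (p + 1))
  let L2 : ↥(⋀[MvPolynomial (Fin n) k]^(p + 1 + 1) (KaehlerDifferential k (MvPolynomial (Fin n) k))) →ₗ[k]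
      ↥(⋀[MvPolynomial (Fin n) k]^(p + 1 + 1) (KaehlerDifferential k (MvPolynomial (Fin n) k))) :=
    (dd (p + 1)).comp ((Groth.L14.DeRham.contr φ (p + 1)).restrictScalars k) + ((Groth.L14.DeRham.contr φ (p + 1 + 1)).restrictScalars k).comp (dd (p + 1 + 1))
  -- the operators are diagonal with positive eigenvalues
  have hbij : ∀ (q : ℕ) (T : ↥(⋀[MvPolynomial (Fin n) k]^(q + 1) (KaehlerDifferential k (MvPolynomial (Fin n) k))) →ₗ[k]
      ↥(⋀[MvPolynomial (Fin n) k]^(q + 1) (KaehlerDifferential k (MvPolynomial (Fin n) k)))),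
      (∀ x, T x = dd q (Groth.L14.DeRham.contr φ q x) + Groth.L14.DeRham.contr φ (q + 1) (dd (q + 1) x)) → Function.Bijective T := by
    intro q T hT
    let B := (MvPolynomial.basisMonomials (Fin n) k).smulTower (e.exteriorPower (q + 1))
    let w : (Fin n →₀ ℕ) × Set.powersetCard (Fin n) (q + 1) → k := fun z => ((∑ i, z.1 i + (q + 1) : ℕ) : k)
    have hw : ∀ z, w z ≠ 0 := fun z => Nat.cast_ne_zero.2 (by omega)
    have hB : ∀ z, T (B z) = w z • B z := by
      rintro ⟨m, s⟩
      have hBz : B (m, s) = _root_.DeRham.gen δ (q + 1) (MvPolynomial.monomial m 1)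
          (fun i => MvPolynomial.X (Set.powersetCard.ofFinEmbEquiv.symm s i)) := by
        rw [Module.Basis.smulTower_apply, MvPolynomial.coe_basisMonomials, exteriorPower.basis_apply, _root_.DeRham.gen]
        congr 1
        refine Subtype.ext ?_
        simp only [exteriorPower.ιMulti_family_apply_coe, exteriorPower.ιMulti_apply_coe, ExteriorAlgebra.ιMulti_family, e, δ,
          KaehlerDifferential.mvPolynomialBasis_apply]
        congr 1
        funext i
        exact KaehlerDifferential.mvPolynomialBasis_apply ..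
      rw [hBz, hT, Groth.L14.DeRham.lie_gen hspan hrule φ q _ _ (fun _ => 1) (fun i => by
        rw [one_smul]; simp only [φ, δ, ← KaehlerDifferential.mvPolynomialBasis_apply, Module.Basis.constr_basis, e]), hφ,
        _root_.DeRham.gen, _root_.DeRham.gen, ← smul_assoc (w (m, s))]
      congr 1
      simp only [w, Finset.sum_const, Finset.card_univ, Fintype.card_fin, nsmul_eq_mul, mul_one, Nat.cast_smul_eq_nsmul]
      push_cast
      ring
    let T' := B.constr k fun z => (w z)⁻¹ • B z
    refine Function.bijective_iff_has_inverse.2 ⟨T', LinearMap.congr_fun (show T'.comp T = LinearMap.id from B.ext fun z => ?_),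
      LinearMap.congr_fun (show T.comp T' = LinearMap.id from B.ext fun z => ?_)⟩
    · simp [T', hB, hw z]
    · simp [T', hB, hw z]
  obtain ⟨y, hy⟩ := (hbij p L fun x => rfl).2 ⟨ω, hω⟩
  have hdd' : ∀ (q : ℕ) (z : ↥(⋀[MvPolynomial (Fin n) k]^q (KaehlerDifferential k (MvPolynomial (Fin n) k)))), dd (q + 1) (dd q z) = 0 :=
    fun q z => Subtype.ext (hdd (z : ExteriorAlgebra _ _))
  have hdy : dd (p + 1) y = 0 := by
    refine (hbij (p + 1) L2 fun x => rfl).1 ?_
    rw [map_zero]
    have h1 : dd (p + 1) (L y) = 0 := by rw [hy]; exact Subtype.ext hdω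
    simp only [L, LinearMap.add_apply, LinearMap.comp_apply, LinearMap.restrictScalars_apply, map_add, hdd', zero_add] at h1
    show dd (p + 1) (Groth.L14.DeRham.contr φ (p + 1) (dd (p + 1) y)) + Groth.L14.DeRham.contr φ (p + 1 + 1) (dd (p + 1 + 1) (dd (p + 1) y)) = 0
    rw [hdd', map_zero, add_zero, h1]
  refine ⟨_, (Groth.L14.DeRham.contr φ p y).2, ?_⟩
  have h2 := congrArg Subtype.val hy
  simp only [L, LinearMap.add_apply, LinearMap.comp_apply, LinearMap.restrictScalars_apply, hdy, map_zero, add_zero] at h2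
  exact h2

end Groth.Agent.S15299
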