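import Groth.Statements.S15301
import Groth.Agent.L17.TowerCoh

set_option autoImplicit false
universe u
open HomAlg3

namespace Groth.Agent.S15301

open CategoryTheory CategoryTheory.Limits TopologicalSpace Opposite in
/-- For the functor of sections over an open U, let (F_n)_n be a tower of sheaves of abelian groups on a
topological space X, indexed by the natural numbers, with limit sheaf lim F_n, and let B be a basis
of opens of X such that for every V in B (a) every transition map F_{n+1}(V) → F_n(V) is surjective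
and (b) every H^i(V, F_n) with i > 0 vanishes. Then for every open U and every i = j + 1 ≥ 1 there
is a short exact sequence 0 → lim¹_n H^j(U, F_n) → H^i(U, lim F_n) → lim_n H^i(U, F_n) → 0: every
family of classes in the H^i(U, F_n) compatible under the transition maps comes from a class on lim
F_n, and the kernel of H^i(U, lim F_n) → ∏_n H^i(U, F_n) is isomorphic to lim¹ of the tower (H^j(U,
F_n))_n (existence of an isomorphism only). In particular the comparison map is injective as soon as
that lim¹ vanishes. (The published statement is for any functor T on abelian sheaves commuting with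
products, such as Γ, Γ_Y, f_*; this row is the case T = Γ(U, −).) -/
theorem result {X : TopCat.{u}} (F : ℕᵒᵖ ⥤ CohTop.Ab X)
    (B : Set (Opens X)) (hB : Opens.IsBasis B)
    (hsurj : ∀ V ∈ B, ∀ n : ℕ,
      Function.Surjective ((F.map (homOfLE (Nat.le_succ n)).op).hom.app (op V)).hom)
    (hvan : ∀ V ∈ B, ∀ (n i : ℕ), 0 < i → Subsingleton (CohTop.HU (F.obj (op n)) i V))
    (U : Opens X) (i j : ℕ) (hij : j + 1 = i) :
    (∀ ξ : ∀ n : ℕ, CohTop.HU (F.obj (op n)) i U,
      (∀ n, CohTop.HUmap (F.map (homOfLE (Nat.le_succ n)).op) i U (ξ (n + 1)) = ξ n) →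
        ∃ η : CohTop.HU (limit F) i U, ∀ n, CohTop.HUmap (limit.π F (op n)) i U η = ξ n) ∧
    Nonempty ((AddMonoidHom.pi fun n : ℕ => CohTop.HUmap (limit.π F (op n)) i U).ker ≃+
      Formal2.limOne (fun n : ℕ => CohTop.HU (F.obj (op n)) j U)
        (fun n : ℕ => CohTop.HUmap (F.map (homOfLE (Nat.le_succ n)).op) j U)) := by
  have hs : ∀ V ∈ B, ∀ (n : ℕ) (a : Groth.L17.zFree V ⟶ Groth.L17.TowerCoh.mem F n),
      ∃ b : Groth.L17.zFree V ⟶ Groth.L17.TowerCoh.mem F (n + 1), b ≫ Groth.L17.TowerCoh.tr F n = a := by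
    intro V hV n a
    obtain ⟨s, hs⟩ := hsurj V hV n (Groth.L17.zEquiv V _ a)
    refine ⟨(Groth.L17.zEquiv V _).symm s, (Groth.L17.zEquiv V _).injective ?_⟩
    rw [Groth.L17.zEquiv_comp, Equiv.apply_symm_apply]
    exact hs
  have ha : ∀ n, Groth.L17.TowerCoh.Acc B (Groth.L17.TowerCoh.mem F n) := fun n V hV k x =>
    @Subsingleton.elim _ (hvan V hV n (k + 1) k.succ_pos) x 0
  refine ⟨fun ξ hξ => ?_, ?_⟩
  · exact Groth.L17.TowerCoh.exists_lift hB F hs ha (Groth.L17.zFree U) i ξ hξ
  · exact Groth.L17.TowerCoh.nonempty_ker_equiv hB F hs ha (Groth.L17.zFree U) i j hij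

end Groth.Agent.S15301
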