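import Groth.Statements.S15302
import Mathlib.CategoryTheory.Abelian.Injective.Resolution
import Mathlib.Algebra.Homology.HomologicalComplexBiprod
import Mathlib.Algebra.Homology.Homotopy
import Mathlib.Algebra.Homology.QuasiIso

set_option autoImplicit false
universe v u
open HomAlg3

namespace Groth.Agent.S15302

section
open CategoryTheory CategoryTheory.Limits
open scoped ZeroObject

variable {C : Type u} [Category.{v} C] [Abelian C] (K : CochainComplex C ℕ)

/-- The previous term. -/
noncomputable abbrev P : ℕ → C
  | 0 => 0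
  | p + 1 => K.X p

/-- The differential into the term. -/
noncomputable def t : ∀ p : ℕ, P K p ⟶ K.X p
  | 0 => 0
  | p + 1 => K.d p (p + 1)

@[simp] theorem t_zero : t K 0 = 0 := rfl

@[simp] theorem t_succ (p : ℕ) : t K (p + 1) = K.d p (p + 1) := rfl

theorem t_d : ∀ p, t K p ≫ K.d p (p + 1) = 0
  | 0 => zero_comp
  | p + 1 => K.d_comp_d _ _ _

/-- Terms of the contractible complex over `K`. -/
noncomputable abbrev DX (p : ℕ) : C := K.X p ⊞ P K p

/-- Its differential. -/
noncomputable def dd (p : ℕ) : DX K p ⟶ DX K (p + 1) :=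
  biprod.lift (biprod.fst ≫ K.d p (p + 1)) (biprod.fst - biprod.snd ≫ t K p)

@[simp] theorem dd_fst (p : ℕ) : dd K p ≫ biprod.fst = biprod.fst ≫ K.d p (p + 1) := biprod.lift_fst _ _

@[simp] theorem dd_snd (p : ℕ) : dd K p ≫ (biprod.snd : DX K (p + 1) ⟶ K.X p) = biprod.fst - biprod.snd ≫ t K p :=
  biprod.lift_snd _ _

theorem dd_dd (p : ℕ) : dd K p ≫ dd K (p + 1) = 0 := by
  apply biprod.hom_ext
  · rw [Category.assoc, dd_fst, ← Category.assoc, dd_fst]
    simp
  · rw [Category.assoc, dd_snd, Preadditive.comp_sub, dd_fst, ← Category.assoc, dd_snd, t_succ, Preadditive.sub_comp,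
      Category.assoc, t_d, comp_zero, sub_zero, sub_self, zero_comp]

/-- The homotopy. -/
noncomputable def hh (p : ℕ) : DX K (p + 1) ⟶ DX K p := biprod.lift biprod.snd 0

@[simp] theorem hh_fst (p : ℕ) : hh K p ≫ biprod.fst = biprod.snd := biprod.lift_fst _ _

@[simp] theorem hh_snd (p : ℕ) : hh K p ≫ biprod.snd = 0 := biprod.lift_snd _ _

theorem id_zero : 𝟙 (DX K 0) = dd K 0 ≫ hh K 0 := by
  apply biprod.hom_ext
  · rw [Category.id_comp, Category.assoc, hh_fst, dd_snd, t_zero, comp_zero, sub_zero]
  · exact (isZero_zero C).eq_of_tgt _ _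

theorem id_succ (i : ℕ) : 𝟙 (DX K (i + 1)) = dd K (i + 1) ≫ hh K (i + 1) + hh K i ≫ dd K i := by
  apply biprod.hom_ext
  · rw [Category.id_comp, Preadditive.add_comp, Category.assoc, hh_fst, dd_snd, Category.assoc, dd_fst,
      ← Category.assoc, hh_fst, t_succ, sub_add_cancel]
  · rw [Category.id_comp, Preadditive.add_comp, Category.assoc, hh_snd, comp_zero, zero_add, Category.assoc, dd_snd,
      Preadditive.comp_sub, hh_fst, ← Category.assoc, hh_snd, zero_comp, sub_zero]

/-- The contractible complex over `K`. -/
noncomputable def D : CochainComplex C ℕ := CochainComplex.of (DX K) (dd K) (dd_dd K)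

theorem D_d (p : ℕ) : (D K).d p (p + 1) = dd K p := (CochainComplex.of_d (DX K) (dd K) p :)

/-- The projection onto `K`. -/
noncomputable def pr : D K ⟶ K where
  f p := (biprod.fst : DX K p ⟶ K.X p)
  comm' := by
    rintro i j (rfl : i + 1 = j)
    rw [D_d]
    exact (dd_fst K i).symm

/-- `D` is contractible. -/
noncomputable def contract : Homotopy (𝟙 (D K)) 0 where
  hom i j := if h : j + 1 = i then eqToHom (congrArg (D K).X h.symm) ≫ hh K j else 0
  zero i j h := dif_neg h
  comm i := by
    rcases i with _ | i
    · rw [dNext_eq _ (show (ComplexShape.up ℕ).Rel 0 1 from rfl), prevD_eq_zero _ _ (by simp)]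
      simp only [HomologicalComplex.id_f, HomologicalComplex.zero_f, add_zero, dif_pos, eqToHom_refl, Category.id_comp]
      try erw [Category.id_comp]
      rw [D_d]
      exact id_zero K
    · rw [dNext_eq _ (show (ComplexShape.up ℕ).Rel (i + 1) (i + 1 + 1) from rfl),
        prevD_eq _ (show (ComplexShape.up ℕ).Rel i (i + 1) from rfl)]
      simp only [HomologicalComplex.id_f, HomologicalComplex.zero_f, add_zero, dif_pos, eqToHom_refl, Category.id_comp]
      try erw [Category.id_comp, Category.id_comp]
      rw [D_d, D_d]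
      exact id_succ K i

theorem exists_resolution_over [EnoughInjectives C] {G F : C} (α : G ⟶ F) (I : InjectiveResolution F) :
    ∃ (J : InjectiveResolution G) (β : J.cocomplex ⟶ I.cocomplex),
      J.ι ≫ β = (CochainComplex.single₀ C).map α ≫ I.ι ∧
      ∀ p : ℕ, ∃ (K : C) (e : J.cocomplex.X p ≅ I.cocomplex.X p ⊞ K), β.f p = e.hom ≫ biprod.fst := by
  obtain ⟨J₀⟩ : Nonempty (InjectiveResolution G) := HasInjectiveResolution.out
  let f₀ := InjectiveResolution.desc α I J₀
  have hf₀ : J₀.ι ≫ f₀ = (CochainComplex.single₀ C).map α ≫ I.ι := InjectiveResolution.desc_commutes α I J₀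
  let e : HomotopyEquiv J₀.cocomplex (J₀.cocomplex ⊞ D I.cocomplex) :=
    { hom := biprod.inl
      inv := biprod.fst
      homotopyHomInvId := Homotopy.ofEq biprod.inl_fst
      homotopyInvHomId := by
        have h1 : Homotopy (biprod.snd ≫ 𝟙 (D I.cocomplex) ≫ biprod.inr) (biprod.snd ≫ (0 : D I.cocomplex ⟶ D I.cocomplex) ≫ biprod.inr :
          J₀.cocomplex ⊞ D I.cocomplex ⟶ J₀.cocomplex ⊞ D I.cocomplex) := ((contract I.cocomplex).compRight biprod.inr).compLeft biprod.snd
        refine (Homotopy.ofEq ?_).trans (((Homotopy.refl (biprod.fst ≫ biprod.inl)).add h1.symm).trans (Homotopy.ofEq ?_))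
        · simp
        · simp }
  let J : InjectiveResolution G :=
    { cocomplex := J₀.cocomplex ⊞ D I.cocomplex
      injective := fun n => by
        haveI : Injective (P I.cocomplex n) := match n with
          | 0 => (isZero_zero C).injective
          | m + 1 => I.injective m
        haveI : Injective ((D I.cocomplex).X n) := (inferInstance : Injective (DX I.cocomplex n))
        exact Injective.of_iso (HomologicalComplex.biprodXIso J₀.cocomplex (D I.cocomplex) n).symm inferInstance
      ι := J₀.ι ≫ e.hom
      quasiIso := by haveI := e.quasiIso_hom; infer_instance }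
  refine ⟨J, biprod.desc f₀ (pr I.cocomplex), ?_, fun p => ?_⟩
  · show (J₀.ι ≫ biprod.inl) ≫ _ = _
    rw [Category.assoc, biprod.inl_desc, hf₀]
  · let e' : J₀.cocomplex.X p ⊞ DX I.cocomplex p ≅ I.cocomplex.X p ⊞ (J₀.cocomplex.X p ⊞ P I.cocomplex p) :=
      { hom := biprod.lift (biprod.fst ≫ f₀.f p + biprod.snd ≫ biprod.fst) (biprod.lift biprod.fst (biprod.snd ≫ biprod.snd))
        inv := biprod.lift (biprod.snd ≫ biprod.fst)
            (biprod.lift (biprod.fst - biprod.snd ≫ biprod.fst ≫ f₀.f p) (biprod.snd ≫ biprod.snd))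
        hom_inv_id := by ext <;> simp
        inv_hom_id := by ext <;> simp }
    refine ⟨J₀.cocomplex.X p ⊞ P I.cocomplex p, HomologicalComplex.biprodXIso J₀.cocomplex (D I.cocomplex) p ≪≫ e', ?_⟩
    rw [← cancel_epi (HomologicalComplex.biprodXIso J₀.cocomplex (D I.cocomplex) p).inv]
    erw [Iso.trans_hom, Category.assoc, Iso.inv_hom_id_assoc]
    apply biprod.hom_ext'
    · rw [HomologicalComplex.inl_biprodXIso_inv_assoc, HomologicalComplex.biprod_inl_desc_f]
      exact (show f₀.f p = (biprod.inl : _ ⟶ J₀.cocomplex.X p ⊞ DX I.cocomplex p) ≫ e'.hom ≫ biprod.fst by simp [e'])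
    · rw [HomologicalComplex.inr_biprodXIso_inv_assoc, HomologicalComplex.biprod_inr_desc_f]
      exact (show (biprod.fst : DX I.cocomplex p ⟶ I.cocomplex.X p) = (biprod.inr : _ ⟶ J₀.cocomplex.X p ⊞ DX I.cocomplex p) ≫ e'.hom ≫ biprod.fst by simp [e'])

end

open CategoryTheory CategoryTheory.Limits in
/-- In an abelian category with enough injectives, let α : G ⟶ F be a morphism and I an injective
resolution of F. Then G has an injective resolution J together with a morphism of cochain complexes
β : J ⟶ I lying over α (the augmentations commute with α and β) such that for every p there are an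
object K^p and an isomorphism J^p ≅ I^p ⊕ K^p identifying β^p with the projection onto the first
factor (so K^p is injective as well). (The published statement is for abelian sheaves on a
topological space; its proof uses only an embedding of G into an injective object and cokernels, so
the row is stated in any abelian category with enough injectives.) -/
theorem result {C : Type u} [Category.{v} C] [Abelian C]
    [EnoughInjectives C] {G F : C} (α : G ⟶ F) (I : InjectiveResolution F) :
    ∃ (J : InjectiveResolution G) (β : J.cocomplex ⟶ I.cocomplex),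
      J.ι ≫ β = (CochainComplex.single₀ C).map α ≫ I.ι ∧
      ∀ p : ℕ, ∃ (K : C) (e : J.cocomplex.X p ≅ I.cocomplex.X p ⊞ K), β.f p = e.hom ≫ biprod.fst := by

    exact exists_resolution_over α I

end Groth.Agent.S15302
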