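import Groth.Statements.S15303
import Groth.Agent.Lead.EtaleThrough
-- import your own Groth.Agent.* helpers here

set_option autoImplicit false
universe u
open EtBase

namespace Groth.Agent.S15303

open CategoryTheory AlgebraicGeometry in
/-- Let k be a field of characteristic zero, X and Y smooth k-schemes, f : X ⟶ Y a smooth k-morphism and
i : Z ⟶ X a closed immersion such that the composite Z ⟶ Y is again a closed immersion. Then for
every point z of Z there are an open neighbourhood U of i(z) in X and a closed subscheme j : W ⟶ U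
of U which is étale over Y (through U ⊆ X ⟶ Y) and contains Z ∩ U, i.e. the restriction of i over U
factors through j. -/
theorem result (k : Type u) [Field k] [CharZero k]
    {X Y Z : Scheme.{u}} [X.Over (Spec (CommRingCat.of k))] [Y.Over (Spec (CommRingCat.of k))]
    [Smooth (X ↘ Spec (CommRingCat.of k))] [Smooth (Y ↘ Spec (CommRingCat.of k))]
    (f : X ⟶ Y) [f.IsOver (Spec (CommRingCat.of k))] [Smooth f]
    (i : Z ⟶ X) [IsClosedImmersion i] [IsClosedImmersion (i ≫ f)] (z : Z) :
    ∃ (U : X.Opens) (_ : i.base z ∈ U) (W : Scheme.{u}) (j : W ⟶ (U : Scheme.{u})) (_ : IsClosedImmersion j)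
      (_ : Etale (j ≫ U.ι ≫ f)) (g : ((i ⁻¹ᵁ U : Z.Opens) : Scheme.{u}) ⟶ W), g ≫ j = i ∣_ U := by
  exact Groth.Lead.EtaleThrough.exists_through f i z

end Groth.Agent.S15303
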