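import Groth.Statements.S1531
import Groth.Agent.L21.RR.Twist

set_option autoImplicit false
universe u
open CategoryTheory CategoryTheory.Limits AlgebraicGeometry
open Curves

namespace Groth.Agent.S1531

/-- Let X be a proper integral one-dimensional scheme over a field k with H⁰(X, O_X) = k, of genus g, L
an invertible O_X-module and Z a closed subscheme of dimension ≤ 0 with ideal sheaf I (as an
O_X-module). If H¹(X, I ⊗ L) ≠ 0 then deg L ≤ 2g − 2 + deg Z, where deg Z = dim_k H⁰(X, O_Z). (The
published statement also asserts that the inequality is strict unless I ⊗ L is the dualizing module;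
that clause is not stated.) -/
theorem result (k : Type u) [Field k] (X : Scheme.{u}) [X.Over (Spec (CommRingCat.of k))]
    [IsProper (X ↘ (Spec (CommRingCat.of k)))] [IsIntegral X] (hdim : topologicalKrullDim X = 1)
    (h0 : Module.finrank k (Coh.HH X (Coh.structureModule X) 0) = 1)
    (L : X.Modules) (hL : PicF.IsInvertible L) (Z : X.IdealSheafData) (hZ : topologicalKrullDim (Z.support : Set X) ≤ 0)
    (h1 : Nontrivial (Coh.HH X (CohB1.tensorMod (ClSub.idealMod Z) L) 1)) :
    Curv2.deg k X L 1 ≤ 2 * (Curv2.genus k X : ℤ) - 2 + Module.finrank k (Coh.HH X (ClSub.quotMod Z) 0) := by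
  haveI := h1
  let e := Groth.L00.Tensor.tensorComm (ClSub.idealMod Z) L
  have h1' : Nontrivial (Coh.HH X (CohB1.tensorMod L (ClSub.idealMod Z)) 1) :=
    Function.Injective.nontrivial (f := Groth.L16.CohLinear.hmap e.hom 1) fun a b hab => by
      have h2 := congrArg (Groth.L16.CohLinear.hmap e.inv 1) hab
      rwa [← Groth.L16.CohLinear.hmap_comp, ← Groth.L16.CohLinear.hmap_comp, e.hom_inv_id,
        Groth.L16.CohLinear.hmap_id, Groth.L16.CohLinear.hmap_id] at h2
  exact Groth.L21.RR.deg_le_of_h1_ne_zero Z k hdim.le h0 hL hZ h1'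

end Groth.Agent.S1531
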