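import Groth.Statements.S15311
import Groth.Agent.L15.Hyper.Affine
import Groth.Agent.S7778
import Groth.Agent.S15299
-- import your own Groth.Agent.* helpers here

set_option autoImplicit false
universe u
open DeRhamSh

namespace Groth.Agent.S15311

open CategoryTheory AlgebraicGeometry TopologicalSpace in
/-- Let k be a field of characteristic zero and n ≥ 0. Then the algebraic de Rham cohomology of affine
n-space Spec k[x_1, …, x_n] over k, the hypercohomology of its de Rham complex, vanishes in every
degree i ≠ 0, and in degree 0 it is additively isomorphic to k (existence of an additive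
isomorphism; the identification of H^0 with the constants is canonical). (The published computation
also gives the de Rham homology of affine space; this row is the cohomology statement, for any de
Rham complex of affine n-space over k.) -/
theorem result (k : Type u) [Field k] [CharZero k] (n : ℕ)
    [QuasiSeparated (Spec.map (CommRingCat.ofHom (algebraMap k (MvPolynomial (Fin n) k))))]
    (D : DeRhamSh.OmegaCx (Spec.map (CommRingCat.ofHom (algebraMap k (MvPolynomial (Fin n) k)))))
    [HasDerivedCategory.{u} (Sheaf (Opens.grothendieckTopology ↥(Spec (CommRingCat.of (MvPolynomial (Fin n) k)))) AddCommGrpCat.{u})] :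
    (∀ i : ℤ, i ≠ 0 → Subsingleton (DeRhamSh.HdR D i)) ∧ Nonempty (DeRhamSh.HdR D 0 ≃+ k) := by
  classical
  let A := MvPolynomial (Fin n) k
  let δ : Derivation k A (KaehlerDifferential k A) := KaehlerDifferential.D k A
  obtain ⟨d, ⟨h0, hdeg, hder, hdd⟩, -⟩ := Groth.Agent.S7778.result k A
  obtain ⟨hconst, hexact⟩ := Groth.Agent.S15299.result k n d h0 hdeg hder hdd
  let dd : ∀ p : ℕ, ↥(⋀[A]^p (KaehlerDifferential k A)) →ₗ[k] ↥(⋀[A]^(p + 1) (KaehlerDifferential k A)) := fun p =>
    { toFun := fun x => ⟨d x, hdeg p x x.2⟩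
      map_add' := fun x y => Subtype.ext (map_add d (x : ExteriorAlgebra _ _) (y : ExteriorAlgebra _ _))
      map_smul' := fun c x => Subtype.ext (map_smul d c (x : ExteriorAlgebra _ _)) }
  have hcl : ∀ (p : ℕ) (b : Fin p → A),
      d ((exteriorPower.ιMulti A p (fun i => δ (b i)) : ↥(⋀[A]^p (KaehlerDifferential k A))) : ExteriorAlgebra _ _) = 0 := by
    intro p
    induction p with
    | zero =>
      intro b
      rw [exteriorPower.ιMulti_apply_coe, ExteriorAlgebra.ιMulti_zero_apply, ← map_one (algebraMap A _), h0,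
        Derivation.map_one_eq_zero, map_zero]
    | succ p ih =>
      intro b
      have hb : (fun i => δ (b i)) = Fin.cons (δ (b 0)) (fun i => δ (b i.succ)) := by
        funext i; induction i using Fin.cases <;> simp
      rw [hb, Groth.L14.DeRham.coe_cons, hder 1 _ _ ?_, ih, mul_zero, add_zero]
      · rw [← h0, hdd, zero_mul]
      · have h1 := (exteriorPower.ιMulti A 1 (fun _ => δ (b 0))).2
        rwa [exteriorPower.ιMulti_apply_coe, ExteriorAlgebra.ιMulti_succ_apply, ExteriorAlgebra.ιMulti_zero_apply, mul_one] at h1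
  have hd : _root_.DeRham.IsDiff δ dd := by
    refine ⟨fun p b₀ b => Subtype.ext ?_, fun p => LinearMap.ext fun z => Subtype.ext (hdd (z : ExteriorAlgebra _ _))⟩
    show d ((_root_.DeRham.gen δ p b₀ b : ↥(⋀[A]^p (KaehlerDifferential k A))) : ExteriorAlgebra _ _) = _
    rw [_root_.DeRham.gen, Submodule.coe_smul, Algebra.smul_def, hder 0 _ _ ?_, h0, hcl, mul_zero, add_zero]
    · rw [Groth.L14.DeRham.coe_cons]
    · rw [ExteriorAlgebra.exteriorPower, pow_zero]
      exact Submodule.algebraMap_mem _
  have hCd : ∀ j : ℕ, (_root_.DeRham.cx hd).d j (j + 1) = ModuleCat.ofHom (dd j) := fun j =>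
    by
      show CochainComplex.of.d (fun p => ModuleCat.of k ↥(⋀[A]^p (KaehlerDifferential k A)))
        (fun p => ModuleCat.ofHom (dd p)) j (j + 1) = _
      exact CochainComplex.of_d _ _ j
  refine ⟨fun i hi => ?_, ?_⟩
  · rcases lt_or_ge i 0 with hneg | hpos
    · exact Groth.L15.Hyper.subsingleton_hdR_neg k A D i hneg
    obtain ⟨m, rfl⟩ := Int.eq_ofNat_of_zero_le hpos
    obtain ⟨p, rfl⟩ : ∃ p, m = p + 1 := ⟨m - 1, by omega⟩
    obtain ⟨E⟩ := Groth.L15.Hyper.nonempty_hdR_equiv k A D dd hd (p + 1)
    have hz : Limits.IsZero (_root_.DeRham.H hd (p + 1)) := by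
      refine (HomologicalComplex.exactAt_iff_isZero_homology _ _).1 ?_
      rw [HomologicalComplex.exactAt_iff' _ p (p + 1) (p + 1 + 1) (by simp) (by simp),
        ShortComplex.moduleCat_exact_iff]
      intro x hx
      have hx' : dd (p + 1) x = 0 := by
        have h := hx
        simp only [HomologicalComplex.shortComplexFunctor'_obj_g] at h
        rw [hCd] at h
        exact h
      obtain ⟨θ, hθ, hdθ⟩ := hexact p _ x.2 (congrArg Subtype.val hx')
      refine ⟨⟨θ, hθ⟩, ?_⟩
      simp only [HomologicalComplex.shortComplexFunctor'_obj_f]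
      rw [hCd]
      exact Subtype.ext hdθ
    haveI := ModuleCat.subsingleton_of_isZero hz
    exact E.toEquiv.subsingleton
  · obtain ⟨E⟩ := Groth.L15.Hyper.nonempty_hdR_equiv k A D dd hd 0
    let z : A ≃ₗ[A] ↥(⋀[A]^0 (KaehlerDifferential k A)) := (exteriorPower.zeroEquiv A (KaehlerDifferential k A)).symm
    have hz : ∀ a : A, ((z a : ↥(⋀[A]^0 (KaehlerDifferential k A))) : ExteriorAlgebra A (KaehlerDifferential k A)) =
        algebraMap A _ a := fun a => by
      have e : z a = a • z 1 := by rw [← map_smul, smul_eq_mul, mul_one]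
      rw [e, Submodule.coe_smul, Algebra.smul_def]
      rw [show z 1 = exteriorPower.ιMulti A 0 (fun i => i.elim0) from
        (exteriorPower.zeroEquiv A (KaehlerDifferential k A)).symm_apply_eq.2
          (exteriorPower.zeroEquiv_ιMulti _).symm]
      simp [ExteriorAlgebra.ιMulti_zero_apply]
    let g : k →+ LinearMap.ker (dd 0) :=
      AddMonoidHom.mk' (fun c => ⟨z (MvPolynomial.C c), LinearMap.mem_ker.2 (Subtype.ext (by
        show d _ = 0
        rw [hz, h0]
        exact (congrArg (ExteriorAlgebra.ι A) ((KaehlerDifferential.D k A).map_algebraMap c)).trans (map_zero _)))⟩) fun a b => Subtype.ext (by simp)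
    have hg : Function.Bijective g := by
      refine ⟨fun a b h => MvPolynomial.C_injective (Fin n) k (z.injective (congrArg Subtype.val h)), fun x => ?_⟩
      obtain ⟨a, ha⟩ := z.surjective x.1
      have hxa : d (algebraMap A _ a) = 0 := by
        rw [← hz, ha]
        exact congrArg Subtype.val (LinearMap.mem_ker.1 x.2)
      obtain ⟨c, rfl⟩ := hconst a hxa
      exact ⟨c, Subtype.ext ha⟩
    let C := _root_.DeRham.cx hd
    have hC : C.d 0 1 = ModuleCat.ofHom (dd 0) := hCd 0
    let eC : C.homology 0 ≅ ModuleCat.of k (LinearMap.ker (dd 0)) :=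
      (CochainComplex.isoHomologyπ₀ C).symm ≪≫
        (Limits.IsLimit.conePointUniqueUpToIso (C.cyclesIsKernel 0 1 (by simp))
          (ModuleCat.kernelIsLimit (C.d 0 1))) ≪≫
        (LinearEquiv.ofEq _ _ (by rw [hC]; rfl) : LinearMap.ker (C.d 0 1).hom ≃ₗ[k] LinearMap.ker (dd 0)).toModuleIso
    exact ⟨(E.trans eC.toLinearEquiv.toAddEquiv).trans (AddEquiv.ofBijective g hg).symm⟩

end Groth.Agent.S15311
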