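import Groth.Statements.S15315
import Mathlib.RingTheory.Length
import Mathlib.RingTheory.Ideal.Quotient.Operations

set_option autoImplicit false
universe u
open ArLef

namespace Groth.Agent.S15315

/-- For a Noetherian commutative ring A, elements a, b with a a non-zero-divisor on A/(b), and an ideal
I, one has length(A/(aI + bA)) = length(A/(a, b)) + length(A/(I + bA)) as extended natural numbers;
in particular when two of the three quotients have finite length so does the third. -/
theorem result (A : Type u) [CommRing A] [IsNoetherianRing A] (a b : A) (I : Ideal A)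
    (ha : IsSMulRegular (A ⧸ Ideal.span ({b} : Set A)) a) :
    Module.length A (A ⧸ (Ideal.span {a} * I ⊔ Ideal.span {b})) =
      Module.length A (A ⧸ Ideal.span ({a, b} : Set A)) + Module.length A (A ⧸ (I ⊔ Ideal.span {b})) := by
  set K : Ideal A := I ⊔ Ideal.span {b} with hK
  set L : Ideal A := Ideal.span {a} * I ⊔ Ideal.span {b} with hL
  set M : Ideal A := Ideal.span ({a, b} : Set A) with hM
  have hKL : K ≤ Submodule.comap (LinearMap.mulLeft A a) L := by
    intro x hx
    obtain ⟨i, hi, y, hy, rfl⟩ := Submodule.mem_sup.mp hx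
    show a * (i + y) ∈ L
    rw [mul_add]
    exact Submodule.add_mem_sup (Ideal.mul_mem_mul (Ideal.mem_span_singleton_self a) hi)
      (Ideal.mul_mem_left _ a hy)
  have hLM : L ≤ M := by
    refine sup_le (Ideal.mul_le.mpr fun r hr s _ => Ideal.mul_mem_right _ _ ?_) ?_
    · exact Ideal.span_mono (by simp) hr
    · exact Ideal.span_mono (by simp)
  let f : (A ⧸ K) →ₗ[A] (A ⧸ L) := Submodule.mapQ K L (LinearMap.mulLeft A a) hKL
  let g : (A ⧸ L) →ₗ[A] (A ⧸ M) := Submodule.factor hLM
  have hf : Function.Injective f := by
    rw [← LinearMap.ker_eq_bot, Submodule.eq_bot_iff]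
    intro x hx
    obtain ⟨x, rfl⟩ := Submodule.mkQ_surjective _ x
    simp only [Submodule.mkQ_apply, LinearMap.mem_ker, f, Submodule.mapQ_apply, LinearMap.mulLeft_apply,
      Submodule.Quotient.mk_eq_zero] at hx ⊢
    obtain ⟨u, hu, y, hy, huy⟩ := Submodule.mem_sup.mp hx
    obtain ⟨i, hi, rfl⟩ := Ideal.mem_span_singleton_mul.mp hu
    have : a * (x - i) ∈ Ideal.span ({b} : Set A) := by
      have : a * (x - i) = y := by rw [mul_sub, ← huy]; ring
      rw [this]; exact hy
    have h0 : (Submodule.Quotient.mk (x - i) : A ⧸ Ideal.span ({b} : Set A)) = 0 := by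
      apply ha
      show a • (Submodule.Quotient.mk (x - i) : A ⧸ Ideal.span ({b} : Set A)) = a • 0
      rw [smul_zero, ← Submodule.Quotient.mk_smul, smul_eq_mul, Submodule.Quotient.mk_eq_zero]
      exact this
    rw [Submodule.Quotient.mk_eq_zero] at h0
    have : x = i + (x - i) := by ring
    rw [this]
    exact Submodule.add_mem_sup hi h0
  have hfg : Function.Exact f g := by
    intro z
    obtain ⟨z, rfl⟩ := Submodule.mkQ_surjective _ z
    constructor
    · intro hz
      change (Submodule.Quotient.mk z : A ⧸ M) = 0 at hz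
      rw [Submodule.Quotient.mk_eq_zero, hM, Ideal.mem_span_pair] at hz
      obtain ⟨c, e, hce⟩ := hz
      refine ⟨Submodule.Quotient.mk c, ?_⟩
      simp only [f, Submodule.mkQ_apply, Submodule.mapQ_apply, LinearMap.mulLeft_apply, Submodule.Quotient.eq, ← hce]
      rw [show a * c - (c * a + e * b) = -(e * b) by ring]
      exact L.neg_mem (Submodule.mem_sup_right (Ideal.mul_mem_left _ e (Ideal.mem_span_singleton_self b)))
    · rintro ⟨w, hw⟩
      obtain ⟨w, rfl⟩ := Submodule.mkQ_surjective _ w
      rw [← hw]
      change (Submodule.Quotient.mk (a * w) : A ⧸ M) = 0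
      rw [Submodule.Quotient.mk_eq_zero, hM]
      exact Ideal.mul_mem_right _ _ (Ideal.subset_span (by simp))
  have h := Module.length_eq_add_of_exact f g hf (Submodule.factor_surjective hLM) hfg
  rw [h, add_comm]

end Groth.Agent.S15315
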