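import Groth.Statements.S15317
import Groth.Agent.L14.NodeFix

set_option autoImplicit false
universe u
open ArLef ArLef.NodeAlg

namespace Groth.Agent.S15317

/-- Let B be a discrete valuation ring with uniformizer π, N = B[[t, e]]/(te - π), and σ a non-trivial
B-algebra automorphism of N stabilizing both branches of the closed fibre (σ(t) associated to t,
σ(e) associated to e). Then the fixed-point ideal of σ, generated by all σ(r) - r, is g·(t, e) for a
non-zero g: the divisorial part of the fixed locus is cut out by g and its residual part is the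
reduced closed point, of multiplicity one. (Stated in the complete local ring, where the published
argument takes place; the published setting has B complete with algebraically closed residue field.) -/
theorem result (B : Type u) [CommRing B] [IsDomain B] [IsDiscreteValuationRing B] (π : B) (hπ : Irreducible π)
    (σ : ArLef.NodeAlg B π ≃ₐ[B] ArLef.NodeAlg B π) (hσ : σ ≠ AlgEquiv.refl)
    (ht : Associated (σ (ArLef.NodeAlg.t π)) (ArLef.NodeAlg.t π))
    (he : Associated (σ (ArLef.NodeAlg.e π)) (ArLef.NodeAlg.e π)) :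
    ∃ g : ArLef.NodeAlg B π, g ≠ 0 ∧
      ArLef.fixIdeal σ = Ideal.span {g} * Ideal.span ({ArLef.NodeAlg.t π, ArLef.NodeAlg.e π} : Set (ArLef.NodeAlg B π)) := by
  obtain ⟨hdom, pt, pe, hte, het, hmul, hmax, -⟩ := Groth.L14.Node.pack hπ
  haveI := hdom
  set t := ArLef.NodeAlg.t π
  set e := ArLef.NodeAlg.e π
  obtain ⟨u, hu⟩ := ht.symm
  obtain ⟨v, hv⟩ := he.symm
  have huv : (u : ArLef.NodeAlg B π) * v = 1 := by
    apply mul_right_cancel₀ (mul_ne_zero pt.1 pe.1)
    have h : σ (t * e) = t * e := by rw [hmul, σ.commutes]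
    rw [map_mul, ← hu, ← hv] at h
    linear_combination h
  have hI : ArLef.fixIdeal σ = Ideal.span {σ t - t, σ e - e} := by
    refine Groth.L14.Node.fix_eq hπ σ.toRingEquiv _ (fun b => ?_) (Ideal.subset_span (Set.mem_insert _ _))
      (Ideal.subset_span (Set.mem_insert_of_mem _ rfl)) ?_
    · simp
    · rw [Ideal.span_le]; rintro z (rfl | rfl) <;> exact Ideal.subset_span ⟨_, rfl⟩
  have ha : σ t - t = ((u : ArLef.NodeAlg B π) - 1) * t := by rw [← hu]; ring
  have hb : σ e - e = -(v : ArLef.NodeAlg B π) * (((u : ArLef.NodeAlg B π) - 1) * e) := by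
    rw [← hv]; linear_combination e * huv
  have hI2 : ArLef.fixIdeal σ = Ideal.span {(u : ArLef.NodeAlg B π) - 1} * Ideal.span {t, e} := by
    rw [hI, Ideal.span_mul_span', Set.singleton_mul, Set.image_pair, ha, hb]
    apply le_antisymm <;> rw [Ideal.span_le] <;> rintro z (rfl | rfl)
    · exact Ideal.subset_span (by simp)
    · exact Ideal.mul_mem_left _ _ (Ideal.subset_span (by simp))
    · exact Ideal.subset_span (by simp)
    · rw [SetLike.mem_coe, ← Ideal.unit_mul_mem_iff_mem _ v.isUnit.neg]
      exact Ideal.subset_span (Set.mem_insert_of_mem _ rfl)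
  refine ⟨_, fun h0 => hσ ?_, hI2⟩
  rw [h0, Ideal.span_singleton_eq_bot.mpr rfl] at hI2
  ext r
  have hr : σ r - r ∈ ArLef.fixIdeal σ := Ideal.subset_span ⟨r, rfl⟩
  rw [hI2, Ideal.bot_mul, Ideal.mem_bot, sub_eq_zero] at hr
  simpa using hr

end Groth.Agent.S15317
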