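import Groth.Statements.S15318
import Groth.Agent.L14.NodeFix

set_option autoImplicit false
universe u
open ArLef ArLef.NodeAlg

namespace Groth.Agent.S15318

/-- Let B be a discrete valuation ring with uniformizer π, N = B[[t, e]]/(te - π), and σ a B-algebra
automorphism of N switching the two branches of the closed fibre (σ(t) associated to e, σ(e)
associated to t). Then the fixed-point ideal of σ is principal, generated by an element h of order
one (h is not in (t, e)²), and π is a non-zero-divisor modulo h: the fixed locus is a horizontal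
regular divisor through the point with empty residual part. (Stated in the complete local ring,
where the published argument takes place; the published setting has B complete with algebraically
closed residue field.) -/
theorem result (B : Type u) [CommRing B] [IsDomain B] [IsDiscreteValuationRing B] (π : B) (hπ : Irreducible π)
    (σ : ArLef.NodeAlg B π ≃ₐ[B] ArLef.NodeAlg B π)
    (ht : Associated (σ (ArLef.NodeAlg.t π)) (ArLef.NodeAlg.e π))
    (he : Associated (σ (ArLef.NodeAlg.e π)) (ArLef.NodeAlg.t π)) :
    ∃ h : ArLef.NodeAlg B π, ArLef.fixIdeal σ = Ideal.span {h} ∧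
      h ∉ (Ideal.span ({ArLef.NodeAlg.t π, ArLef.NodeAlg.e π} : Set (ArLef.NodeAlg B π))) ^ 2 ∧
      IsSMulRegular (ArLef.NodeAlg B π ⧸ Ideal.span ({h} : Set (ArLef.NodeAlg B π))) π := by
  obtain ⟨hdom, pt, pe, hte, het, hmul, hmax, -⟩ := Groth.L14.Node.pack hπ
  haveI := hdom
  set t := ArLef.NodeAlg.t π
  set e := ArLef.NodeAlg.e π
  obtain ⟨u, hu⟩ := ht.symm
  obtain ⟨v, hv⟩ := he.symm
  have huv : (u : ArLef.NodeAlg B π) * v = 1 := by
    apply mul_right_cancel₀ (mul_ne_zero pt.1 pe.1)
    have h : σ (t * e) = t * e := by rw [hmul, σ.commutes]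
    rw [map_mul, ← hu, ← hv] at h
    linear_combination h
  set h : ArLef.NodeAlg B π := t - (u : ArLef.NodeAlg B π) * e with hh
  have ha : σ t - t = -h := by rw [← hu, hh]; ring
  have hb : σ e - e = (v : ArLef.NodeAlg B π) * h := by rw [← hv, hh]; linear_combination e * huv
  refine ⟨h, ?_, ?_, ?_⟩
  · have hI : ArLef.fixIdeal σ = Ideal.span {σ t - t, σ e - e} := by
      refine Groth.L14.Node.fix_eq hπ σ.toRingEquiv _ (fun b => ?_) (Ideal.subset_span (Set.mem_insert _ _))
        (Ideal.subset_span (Set.mem_insert_of_mem _ rfl)) ?_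
      · simp
      · rw [Ideal.span_le]; rintro z (rfl | rfl) <;> exact Ideal.subset_span ⟨_, rfl⟩
    rw [hI, ha, hb]
    apply le_antisymm <;> rw [Ideal.span_le]
    · rintro z (rfl | rfl)
      · exact Submodule.neg_mem _ (Ideal.mem_span_singleton_self h)
      · exact Ideal.mul_mem_left _ _ (Ideal.mem_span_singleton_self h)
    · rintro z rfl
      rw [← neg_neg h]
      exact Submodule.neg_mem _ (Ideal.subset_span (by simp))
  · intro hm
    have hle : Ideal.map (Groth.L14.Node.br π 0) (Ideal.span {t, e}) ≤ Ideal.span {PowerSeries.X} := by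
      rw [Ideal.map_span, Ideal.span_le, Set.image_pair]
      rintro z (rfl | rfl)
      · rw [SetLike.mem_coe, show Groth.L14.Node.br π 0 t = 0 from Groth.L14.Node.br_x_self π 0]
        exact Ideal.zero_mem _
      · have := Groth.L14.Node.br_x_other π 0
        rw [sub_zero] at this
        rw [SetLike.mem_coe, this]
        exact Ideal.mem_span_singleton_self _
    have hm2 := Ideal.mem_map_of_mem (Groth.L14.Node.br π 0) hm
    rw [Ideal.map_pow] at hm2
    have hm3 := Ideal.pow_right_mono hle 2 hm2
    rw [Ideal.span_singleton_pow, Ideal.mem_span_singleton, PowerSeries.X_pow_dvd_iff] at hm3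
    have h1 := hm3 1 (by norm_num)
    have := Groth.L14.Node.br_x_other π 0
    rw [sub_zero] at this
    rw [hh, map_sub, show Groth.L14.Node.br π 0 t = 0 from Groth.L14.Node.br_x_self π 0, map_mul, this,
      zero_sub, map_neg, neg_eq_zero, PowerSeries.coeff_succ_mul_X] at h1
    have hu0 : IsUnit (Groth.L14.Node.br π 0 (u : ArLef.NodeAlg B π)) := u.isUnit.map _
    rw [PowerSeries.isUnit_iff_constantCoeff, ← PowerSeries.coeff_zero_eq_constantCoeff_apply, h1] at hu0
    obtain ⟨hd, -⟩ := Groth.L14.Node.hyps hπ
    haveI := hd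
    exact not_isUnit_zero hu0
  · intro x y hxy
    obtain ⟨x, rfl⟩ := Ideal.Quotient.mk_surjective x
    obtain ⟨y, rfl⟩ := Ideal.Quotient.mk_surjective y
    change Ideal.Quotient.mk _ (π • x) = Ideal.Quotient.mk _ (π • y) at hxy
    rw [Ideal.Quotient.eq, Ideal.mem_span_singleton] at hxy
    replace hxy : h ∣ (t * e) * (x - y) := by
      rw [hmul]
      convert hxy using 1
      rw [← smul_sub]; exact (Algebra.smul_def _ _).symm
    rw [Ideal.Quotient.eq, Ideal.mem_span_singleton]
    obtain ⟨c, hc⟩ := hxy
    obtain ⟨c', rfl⟩ := (pt.2.2 h c ⟨e * (x - y), by linear_combination -hc⟩).resolve_left (fun hd => hte (by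
      have : t ∣ (u : ArLef.NodeAlg B π) * e := by
        have := dvd_sub (dvd_refl t) hd; rwa [hh, sub_sub_cancel] at this
      exact (pt.2.2 _ _ this).resolve_left (fun h2 => pt.2.1 (isUnit_of_dvd_unit h2 u.isUnit))))
    have hc2 : e * (x - y) = h * c' := mul_left_cancel₀ pt.1 (by linear_combination hc)
    obtain ⟨c'', rfl⟩ := (pe.2.2 h c' ⟨x - y, hc2.symm⟩).resolve_left (fun hd => het (by
      have := dvd_add hd (dvd_mul_left e (u : ArLef.NodeAlg B π)); rwa [hh, sub_add_cancel] at this))
    exact ⟨c'', mul_left_cancel₀ pe.1 (by linear_combination hc2)⟩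

end Groth.Agent.S15318
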