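import Groth.Statements.S15319
import Groth.Agent.L14.NodeFix

set_option autoImplicit false
universe u
open ArLef ArLef.NodeAlg

namespace Groth.Agent.S15319

/-- Let B be a discrete valuation ring with uniformizer π, N = B[[t, e]]/(te - π) the complete local
ring of a semi-stable arithmetic surface over B at a singular point of the closed fibre, and σ a
ring automorphism of N sending π to π + γ π^j with γ a unit of B and j ≥ 1 (σ lies over an
automorphism τ of B with v(τ(π) - π) = j). Then the fixed-point ideal of σ is not contained in (π^j)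
= (t^j e^j): the two branches through the point cannot both occur with multiplicity j in the
divisorial part of the fixed locus. (The published setting has B complete with algebraically closed
residue field.) -/
theorem result (B : Type u) [CommRing B] [IsDomain B] [IsDiscreteValuationRing B] (π : B) (hπ : Irreducible π)
    (j : ℕ) (hj : 1 ≤ j) (γ : B) (hγ : IsUnit γ)
    (σ : ArLef.NodeAlg B π ≃+* ArLef.NodeAlg B π)
    (hσ : σ (algebraMap B (ArLef.NodeAlg B π) π) = algebraMap B (ArLef.NodeAlg B π) (π + γ * π ^ j)) :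
    ¬ ArLef.fixIdeal σ ≤ Ideal.span ({algebraMap B (ArLef.NodeAlg B π) (π ^ j)} : Set (ArLef.NodeAlg B π)) := by
  obtain ⟨hdom, pt, pe, hte, het, hmul, hmax, -⟩ := Groth.L14.Node.pack hπ
  haveI := hdom
  set t := ArLef.NodeAlg.t π
  set e := ArLef.NodeAlg.e π
  intro hle
  have hp : algebraMap B (ArLef.NodeAlg B π) (π ^ j) = t ^ j * e ^ j := by rw [map_pow, ← hmul, mul_pow]
  have hassoc : Associated (σ (algebraMap B (ArLef.NodeAlg B π) π)) (algebraMap B (ArLef.NodeAlg B π) π) := by
    have hpi : Associated (π + γ * π ^ j) π := by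
      have : σ (algebraMap B (ArLef.NodeAlg B π) π) ≠ 0 := by
        rw [← hmul, map_mul]
        exact mul_ne_zero (fun h => pt.1 (σ.injective (by rw [h, map_zero]))) (fun h => pe.1 (σ.injective (by rw [h, map_zero])))
      have hne : π + γ * π ^ j ≠ 0 := fun h0 => this (by rw [hσ, h0, map_zero])
      have hd : π ∣ π + γ * π ^ j := dvd_add dvd_rfl (Dvd.dvd.mul_left (dvd_pow_self π (by omega)) γ)
      obtain ⟨w, hw⟩ := hd
      by_cases hwu : IsUnit w
      · exact ⟨hwu.unit⁻¹, by rw [hw, mul_assoc, hwu.mul_val_inv, mul_one]⟩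
      · exfalso
        have hw2 : π ∣ w := by
          rw [← Ideal.mem_span_singleton, ← hπ.maximalIdeal_eq]
          exact hwu
        have h1 : π ^ 2 ∣ π + γ * π ^ j := by rw [hw, sq]; exact mul_dvd_mul_left π hw2
        have h2 : (t * e) ^ 2 ∣ σ t * σ e := by
          rw [show σ t * σ e = σ (t * e) from (map_mul σ t e).symm, hmul, hσ, ← map_pow]
          exact map_dvd (algebraMap B (ArLef.NodeAlg B π)) h1
        have hσt : Prime (σ t) := (MulEquiv.prime_iff σ.toMulEquiv).mpr pt
        have hσe : Prime (σ e) := (MulEquiv.prime_iff σ.toMulEquiv).mpr pe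
        rcases pt.2.2 _ _ ((dvd_pow (dvd_mul_right t e) two_ne_zero).trans h2) with h | h
        · obtain ⟨c, hc⟩ := pt.associated_of_dvd hσt h
          rw [← hc] at h2
          have h4 : t * e ^ 2 ∣ (c : ArLef.NodeAlg B π) * σ e := by
            rw [← mul_dvd_mul_iff_left pt.1]
            calc t * (t * e ^ 2) = (t * e) ^ 2 := by ring
              _ ∣ t * c * σ e := h2
              _ = t * (c * σ e) := by ring
          have ht2 : t ∣ σ e := (pt.2.2 _ _ ((dvd_mul_right _ _).trans h4)).resolve_left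
            (fun h5 => pt.2.1 (isUnit_of_dvd_unit h5 c.isUnit))
          have he2 : e ∣ σ e := (pe.2.2 _ _ ((Dvd.dvd.mul_left (dvd_pow_self e two_ne_zero) t).trans h4)).resolve_left
            (fun h5 => pe.2.1 (isUnit_of_dvd_unit h5 c.isUnit))
          exact hte (((pt.associated_of_dvd hσe ht2).dvd).trans ((pe.associated_of_dvd hσe he2).symm.dvd))
        · obtain ⟨c, hc⟩ := pt.associated_of_dvd hσe h
          rw [← hc] at h2
          have h4 : t * e ^ 2 ∣ σ t * (c : ArLef.NodeAlg B π) := by
            rw [← mul_dvd_mul_iff_left pt.1]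
            calc t * (t * e ^ 2) = (t * e) ^ 2 := by ring
              _ ∣ σ t * (t * c) := h2
              _ = t * (σ t * c) := by ring
          have ht2 : t ∣ σ t := (pt.2.2 _ _ ((dvd_mul_right _ _).trans h4)).resolve_right
            (fun h5 => pt.2.1 (isUnit_of_dvd_unit h5 c.isUnit))
          have he2 : e ∣ σ t := (pe.2.2 _ _ ((Dvd.dvd.mul_left (dvd_pow_self e two_ne_zero) t).trans h4)).resolve_right
            (fun h5 => pe.2.1 (isUnit_of_dvd_unit h5 c.isUnit))
          exact hte (((pt.associated_of_dvd hσt ht2).dvd).trans ((pe.associated_of_dvd hσt he2).symm.dvd))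
    rw [hσ]
    exact hpi.map (algebraMap B (ArLef.NodeAlg B π))
  have hmem : ∀ r, t ^ j * e ^ j ∣ σ r - r := by
    intro r
    rw [← hp, ← Ideal.mem_span_singleton]
    exact hle (Ideal.subset_span ⟨r, rfl⟩)
  obtain ⟨j', rfl⟩ : ∃ j', j = j' + 1 := ⟨j - 1, by omega⟩
  rcases Groth.L14.Node.dichotomy hπ σ hassoc with ⟨α, β, h1, h2⟩ | ⟨α, β, h1, h2⟩
  · have hrel := Groth.L14.Node.unit_rel hπ (j' + 1) hj γ σ hσ (α : ArLef.NodeAlg B π) β (by rw [h1, h2]; ring)
    rw [Nat.add_sub_cancel] at hrel
    obtain ⟨u, hu⟩ := hmem t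
    obtain ⟨v, hv⟩ := hmem e
    rw [h1] at hu; rw [h2] at hv
    have ha : (α : ArLef.NodeAlg B π) - 1 = t ^ j' * e ^ j' * (e * u) :=
      mul_right_cancel₀ pt.1 (by linear_combination hu)
    have hb : (β : ArLef.NodeAlg B π) - 1 = t ^ j' * e ^ j' * (t * v) :=
      mul_right_cancel₀ pe.1 (by linear_combination hv)
    have hg : algebraMap B (ArLef.NodeAlg B π) γ = e * u + t * v + t ^ j' * e ^ j' * (e * u * (t * v)) := by
      apply mul_left_cancel₀ (mul_ne_zero (pow_ne_zero j' pt.1) (pow_ne_zero j' pe.1))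
      linear_combination -hrel + (β : ArLef.NodeAlg B π) * ha + (1 + t ^ j' * e ^ j' * (e * u)) * hb
    refine hmax.ne_top (Ideal.eq_top_of_isUnit_mem _ (x := algebraMap B (ArLef.NodeAlg B π) γ) ?_ (hγ.map _))
    rw [hg]
    exact Ideal.add_mem _ (Ideal.add_mem _ (Ideal.mul_mem_right _ _ (Ideal.subset_span (by simp)))
      (Ideal.mul_mem_right _ _ (Ideal.subset_span (by simp))))
      (Ideal.mul_mem_left _ _ (Ideal.mul_mem_right _ _ (Ideal.mul_mem_right _ _ (Ideal.subset_span (by simp)))))
  · apply hte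
    have h3 : t ∣ (α : ArLef.NodeAlg B π) * e - t :=
      h1 ▸ (Dvd.dvd.mul_right (dvd_pow_self t (Nat.succ_ne_zero j')) _).trans (hmem t)
    have h4 : t ∣ (α : ArLef.NodeAlg B π) * e := by simpa using dvd_add h3 (dvd_refl t)
    exact (pt.2.2 _ _ h4).resolve_left (fun h5 => pt.2.1 (isUnit_of_dvd_unit h5 α.isUnit))

end Groth.Agent.S15319
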