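import Groth.Statements.S1532
import Groth.Agent.L21.RR.Twist

set_option autoImplicit false
universe u
open CategoryTheory CategoryTheory.Limits AlgebraicGeometry
open Curves

namespace Groth.Agent.S1532

/-- Let X be a proper integral one-dimensional scheme over k whose global functions are k, of genus g, L
an invertible module and Z a closed subscheme of dimension zero with ideal sheaf I, with deg L > 2g
- 2 + deg Z. Then H^1(X, I ⊗ L) = 0, and if moreover H^0(X, I ⊗ L) = 0 then g = 0 and deg L = deg Z
- 1. -/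
theorem result (k : Type u) [Field k] (X : Scheme.{u}) [X.Over (Spec (CommRingCat.of k))]
    [IsProper (X ↘ (Spec (CommRingCat.of k)))] [IsIntegral X] (hdim : topologicalKrullDim X = 1)
    (h0 : Module.finrank k (Coh.HH X (Coh.structureModule X) 0) = 1)
    (L : X.Modules) (hL : PicF.IsInvertible L) (Z : X.IdealSheafData) (hZ : topologicalKrullDim (Z.support : Set X) ≤ 0)
    (hdeg : 2 * (Curv2.genus k X : ℤ) - 2 + Module.finrank k (Coh.HH X (ClSub.quotMod Z) 0) < Curv2.deg k X L 1) :
    Subsingleton (Coh.HH X (CohB1.tensorMod (ClSub.idealMod Z) L) 1) ∧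
      (Subsingleton (Coh.HH X (CohB1.tensorMod (ClSub.idealMod Z) L) 0) →
        Curv2.genus k X = 0 ∧ Curv2.deg k X L 1 = Module.finrank k (Coh.HH X (ClSub.quotMod Z) 0) - 1) := by
  haveI := Groth.L21.RR.isNoetherian_of_proper (X := X) k
  let e := Groth.L00.Tensor.tensorComm (ClSub.idealMod Z) L
  have hs : Subsingleton (Coh.HH X (CohB1.tensorMod (ClSub.idealMod Z) L) 1) := by
    rcases subsingleton_or_nontrivial (Coh.HH X (CohB1.tensorMod (ClSub.idealMod Z) L) 1) with h | h
    · exact h
    · exfalso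
      have h1' : Nontrivial (Coh.HH X (CohB1.tensorMod L (ClSub.idealMod Z)) 1) :=
        Function.Injective.nontrivial (f := Groth.L16.CohLinear.hmap e.hom 1) fun a b hab => by
          have h2 := congrArg (Groth.L16.CohLinear.hmap e.inv 1) hab
          rwa [← Groth.L16.CohLinear.hmap_comp, ← Groth.L16.CohLinear.hmap_comp, e.hom_inv_id,
            Groth.L16.CohLinear.hmap_id, Groth.L16.CohLinear.hmap_id] at h2
      have h3 := Groth.L21.RR.deg_le_of_h1_ne_zero Z k hdim.le h0 hL hZ h1'
      simp only [Groth.L21.RR.h] at h3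
      change Curv2.deg k X L 1 ≤ 2 * (Curv2.genus k X : ℤ) - 2 + _ at h3
      omega
  refine ⟨hs, fun hs0 => ?_⟩
  have he := Groth.L21.RR.euler_twist Z k hdim.le hL hZ
  rw [← Groth.L21.RR.euler_congr k e, Groth.L21.RR.euler_eq k hdim.le,
    Groth.L21.RR.h_eq_zero_of_subsingleton k hs0, Groth.L21.RR.h_eq_zero_of_subsingleton k hs] at he
  have hd' : Curv2.deg k X L 1 = Curv2.euler k X L - (1 : ℕ) * Curv2.euler k X (Coh.structureModule X) := rfl
  rw [Groth.L21.RR.euler_eq k hdim.le (Coh.structureModule X)] at hd'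
  simp only [Groth.L21.RR.h] at he hd'
  change Curv2.deg k X L 1 = _ at hd'
  rw [h0] at hd'
  change Curv2.deg k X L 1 = Curv2.euler k X L - (1 : ℕ) * ((1 : ℕ) - (Curv2.genus k X : ℤ)) at hd'
  push_cast at he hd'
  constructor <;> omega

end Groth.Agent.S1532
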