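import Groth.Statements.S15320
import Groth.Agent.L14.NodeFix

set_option autoImplicit false
universe u
open ArLef ArLef.NodeAlg

namespace Groth.Agent.S15320

/-- Let B be a discrete valuation ring with uniformizer π, N = B[[t, e]]/(te - π) the complete local
ring of a semi-stable arithmetic surface over B at a singular point x of the closed fibre, and σ a
ring automorphism of N over an automorphism τ of B with v(τ(π) - π) = j ≥ 1, that is σ(π) = π + γ
π^j with γ a unit of B, and with σ(b) - b ∈ π^j N for every b ∈ B (automatic when B is totally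
ramified over the fixed ring of τ, as in the published setting, where the residue field is
algebraically closed). If σ switches the two branches through x (σ(t) associated to e and σ(e) to
t), then the fixed-point ideal I of σ is contained in no proper principal ideal (x is not on the
divisorial part of the fixed locus) and N/I has length 2j - 1 (the multiplicity of x in the residual
fixed-point scheme). -/
theorem result (B : Type u) [CommRing B] [IsDomain B] [IsDiscreteValuationRing B] (π : B) (hπ : Irreducible π)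
    (j : ℕ) (hj : 1 ≤ j) (γ : B) (hγ : IsUnit γ)
    (σ : ArLef.NodeAlg B π ≃+* ArLef.NodeAlg B π)
    (hσB : ∀ b : B, σ (algebraMap B (ArLef.NodeAlg B π) b) - algebraMap B (ArLef.NodeAlg B π) b ∈
      Ideal.span ({algebraMap B (ArLef.NodeAlg B π) (π ^ j)} : Set (ArLef.NodeAlg B π)))
    (hσπ : σ (algebraMap B (ArLef.NodeAlg B π) π) = algebraMap B (ArLef.NodeAlg B π) (π + γ * π ^ j))
    (ht : Associated (σ (ArLef.NodeAlg.t π)) (ArLef.NodeAlg.e π)) (he : Associated (σ (ArLef.NodeAlg.e π)) (ArLef.NodeAlg.t π)) :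
    (∀ g : ArLef.NodeAlg B π, ArLef.fixIdeal σ ≤ Ideal.span ({g} : Set (ArLef.NodeAlg B π)) → IsUnit g) ∧
      Module.length (ArLef.NodeAlg B π) (ArLef.NodeAlg B π ⧸ ArLef.fixIdeal σ) = ((2 * j - 1 : ℕ) : ℕ∞) := by
  obtain ⟨hdom, pt, pe, hte, het, hmul, hmax, -⟩ := Groth.L14.Node.pack hπ
  haveI := hdom
  set t := ArLef.NodeAlg.t π
  set e := ArLef.NodeAlg.e π
  obtain ⟨α, hα⟩ := ht.symm
  obtain ⟨β, hβ⟩ := he.symm
  have hrel := Groth.L14.Node.unit_rel hπ j hj γ σ hσπ (α : ArLef.NodeAlg B π) β (by rw [← hα, ← hβ]; ring)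
  obtain ⟨j', rfl⟩ : ∃ j', j = j' + 1 := ⟨j - 1, by omega⟩
  rw [Nat.add_sub_cancel] at hrel
  set h : ArLef.NodeAlg B π := t - (α : ArLef.NodeAlg B π) * e with hh
  have hth : ¬ t ∣ h := by
    intro hd
    apply hte
    have h4 : t ∣ (α : ArLef.NodeAlg B π) * e := by
      have := dvd_sub (dvd_refl t) hd; rwa [hh, sub_sub_cancel] at this
    exact (pt.2.2 _ _ h4).resolve_left (fun h5 => pt.2.1 (isUnit_of_dvd_unit h5 α.isUnit))
  have heh : ¬ e ∣ h := by
    intro hd
    apply het
    have := dvd_add hd (dvd_mul_left e (α : ArLef.NodeAlg B π)); rwa [hh, sub_add_cancel] at this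
  have hpow : t ^ j' * e ^ j' * e - (α : ArLef.NodeAlg B π) ^ j' * e ^ (2 * (j' + 1) - 1) ∈ Ideal.span {h} := by
    obtain ⟨c, hc⟩ := sub_dvd_pow_sub_pow t ((α : ArLef.NodeAlg B π) * e) j'
    rw [Ideal.mem_span_singleton]
    refine ⟨c * e ^ j' * e, ?_⟩
    rw [← hh, mul_pow] at hc
    rw [show 2 * (j' + 1) - 1 = j' + j' + 1 by omega, pow_succ, pow_add]
    linear_combination (e ^ j' * e) * hc
  have hI : ArLef.fixIdeal σ = Ideal.span {h, e ^ (2 * (j' + 1) - 1)} := by
    rw [Groth.L14.Node.fix_three hπ _ γ hγ σ hσB hσπ]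
    have ha : σ t - t = -h := by rw [← hα, hh]; ring
    have hb : σ e - e = (β : ArLef.NodeAlg B π) * h + algebraMap B _ γ * (t ^ j' * e ^ j' * e) := by
      rw [← hβ, hh]; linear_combination e * hrel
    apply le_antisymm <;> rw [Ideal.span_le]
    · have hmem : t ^ j' * e ^ j' * e ∈ Ideal.span {h, e ^ (2 * (j' + 1) - 1)} := by
        obtain ⟨c, hc⟩ := Ideal.mem_span_singleton.mp hpow
        exact Ideal.mem_span_pair.mpr ⟨c, (α : ArLef.NodeAlg B π) ^ j', by linear_combination -hc⟩
      rintro z (rfl | rfl | rfl)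
      · rw [SetLike.mem_coe, show t ^ (j' + 1) * e ^ (j' + 1) = t * (t ^ j' * e ^ j' * e) by ring]
        exact Ideal.mul_mem_left _ _ hmem
      · rw [SetLike.mem_coe, ha]; exact Submodule.neg_mem _ (Ideal.subset_span (by simp))
      · rw [SetLike.mem_coe, hb]
        exact Ideal.add_mem _ (Ideal.mul_mem_left _ _ (Ideal.subset_span (by simp))) (Ideal.mul_mem_left _ _ hmem)
    · set J := Ideal.span ({t ^ (j' + 1) * e ^ (j' + 1), σ t - t, σ e - e} : Set (ArLef.NodeAlg B π))
      have hhJ : h ∈ J := by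
        rw [← neg_neg h, ← ha]; exact J.neg_mem (Ideal.subset_span (by simp))
      have hpJ : t ^ j' * e ^ j' * e ∈ J := by
        rw [← Ideal.unit_mul_mem_iff_mem _ (hγ.map (algebraMap B (ArLef.NodeAlg B π))),
          show algebraMap B _ γ * (t ^ j' * e ^ j' * e) = (σ e - e) - (β : ArLef.NodeAlg B π) * h by rw [hb]; ring]
        exact J.sub_mem (Ideal.subset_span (by simp)) (J.mul_mem_left _ hhJ)
      rintro z (rfl | rfl)
      · exact hhJ
      · rw [SetLike.mem_coe, ← Ideal.unit_mul_mem_iff_mem _ (α.isUnit.pow j'),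
          show (α : ArLef.NodeAlg B π) ^ j' * e ^ (2 * (j' + 1) - 1) = t ^ j' * e ^ j' * e -
            (t ^ j' * e ^ j' * e - (α : ArLef.NodeAlg B π) ^ j' * e ^ (2 * (j' + 1) - 1)) by ring]
        exact J.sub_mem hpJ ((Ideal.span_le.mpr (by simpa using hhJ)) hpow)
  have hreg : ∀ z, h ∣ e * z → h ∣ z := by
    rintro z ⟨y, hy⟩
    obtain ⟨y', rfl⟩ := (pe.2.2 h y ⟨z, hy.symm⟩).resolve_left heh
    exact ⟨y', mul_left_cancel₀ pe.1 (by linear_combination hy)⟩
  constructor
  · intro g hg
    rw [hI, Ideal.span_le, Set.pair_subset_iff] at hg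
    simp only [SetLike.mem_coe, Ideal.mem_span_singleton] at hg
    obtain ⟨i, -, hgi⟩ := (dvd_prime_pow pe _).mp hg.2
    rcases i with _ | i
    · exact associated_one_iff_isUnit.mp (by simpa using hgi)
    · exact absurd (((dvd_pow_self e i.succ_ne_zero).trans hgi.symm.dvd).trans hg.1) heh
  · rw [hI, Groth.L14.Len.pair_pow h e hreg,
      Groth.L14.Len.congr (show Ideal.span {h, e} = Ideal.span {t, e} by exact le_antisymm (Ideal.span_le.mpr (by rintro z (rfl | rfl) <;> [skip; exact Ideal.subset_span (by simp)]; rw [SetLike.mem_coe, hh]; exact Ideal.sub_mem _ (Ideal.subset_span (by simp)) (Ideal.mul_mem_left _ _ (Ideal.subset_span (by simp))))) (Ideal.span_le.mpr (by rintro z (rfl | rfl) <;> [skip; exact Ideal.subset_span (by simp)]; exact Ideal.mem_span_pair.mpr ⟨1, (α : ArLef.NodeAlg B π), by rw [hh]; ring⟩))),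
      Groth.L14.Len.maximal, mul_one]

end Groth.Agent.S15320
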