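import Mathlib.AlgebraicGeometry.Morphisms.FormallyUnramified
import Mathlib.AlgebraicGeometry.Morphisms.Etale
import Mathlib.AlgebraicGeometry.ResidueField
import Groth.Statements.S15322
-- import your own Groth.Agent.* helpers here

set_option autoImplicit false
universe u
open CategoryTheory AlgebraicGeometry
open ArLef

namespace Groth.Agent.S15322

/-- Let f : D → C be a morphism, τ an automorphism of C and σ an automorphism of D with σ f = f τ; call
σ a good lifting of τ when the fixed-point scheme of σ is the full preimage of that of τ, i.e. every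
morphism z : Z → D with z f τ = z f has z σ = z. If f is etale, separated and surjective with D
connected and the fixed-point scheme of τ is non-empty (some point of C, with its residue field, is
fixed by τ), then τ has at most one good lifting. (The published statement is for a finite etale
cover of smooth projective irreducible curves over a field and a non-trivial τ; the argument uses
only the hypotheses stated here.) -/
theorem result {C D : Scheme.{u}} (f : D ⟶ C) [Etale f] [IsSeparated f] [Surjective f]
    [ConnectedSpace D] (τ : C ≅ C) (σ σ' : D ≅ D)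
    (hσ : σ.hom ≫ f = f ≫ τ.hom) (hσ' : σ'.hom ≫ f = f ≫ τ.hom)
    (good : ∀ (Z : Scheme.{u}) (z : Z ⟶ D), z ≫ f ≫ τ.hom = z ≫ f → z ≫ σ.hom = z)
    (good' : ∀ (Z : Scheme.{u}) (z : Z ⟶ D), z ≫ f ≫ τ.hom = z ≫ f → z ≫ σ'.hom = z)
    (x : C) (hx : C.fromSpecResidueField x ≫ τ.hom = C.fromSpecResidueField x) :
    σ = σ' := by
  have h : σ.hom ≫ f = σ'.hom ≫ f := hσ.trans hσ'.symm
  let g : D ⟶ Limits.pullback f f := Limits.pullback.lift σ.hom σ'.hom h
  haveI : IsOpenImmersion (Limits.pullback.diagonal f) := inferInstance
  let E : Set D := g ⁻¹' Set.range (Limits.pullback.diagonal f)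
  have hE : IsClopen E :=
    ⟨(Limits.pullback.diagonal f).isClosedEmbedding.isClosed_range.preimage g.continuous,
      (Limits.pullback.diagonal f).isOpenEmbedding.isOpen_range.preimage g.continuous⟩
  have hne : E.Nonempty := by
    obtain ⟨d, rfl⟩ := f.surjective x
    let z := D.fromSpecResidueField d
    have hz : z ≫ f ≫ τ.hom = z ≫ f := by
      rw [← Scheme.Hom.SpecMap_residueFieldMap_fromSpecResidueField_assoc, hx,
        ← Scheme.Hom.SpecMap_residueFieldMap_fromSpecResidueField]
    have hzg : z ≫ g = z ≫ Limits.pullback.diagonal f := by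
      apply Limits.pullback.hom_ext
      · rw [Category.assoc, Category.assoc, Limits.pullback.lift_fst, Limits.pullback.diagonal_fst,
          good _ z hz, Category.comp_id]
      · rw [Category.assoc, Category.assoc, Limits.pullback.lift_snd, Limits.pullback.diagonal_snd,
          good' _ z hz, Category.comp_id]
    refine ⟨z (IsLocalRing.closedPoint _), ⟨z (IsLocalRing.closedPoint _), ?_⟩⟩
    rw [← Scheme.Hom.comp_apply, ← Scheme.Hom.comp_apply, hzg]
  have huniv : E = Set.univ := hE.eq_univ hne
  have hr : Set.range g ⊆ Set.range (Limits.pullback.diagonal f) := by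
    rintro _ ⟨d, rfl⟩
    exact (huniv.ge (Set.mem_univ d) : d ∈ E)
  have hl := IsOpenImmersion.lift_fac (Limits.pullback.diagonal f) g hr
  have h1 := congrArg (· ≫ Limits.pullback.fst f f) hl
  have h2 := congrArg (· ≫ Limits.pullback.snd f f) hl
  simp only [g, Category.assoc, Limits.pullback.lift_fst, Limits.pullback.lift_snd, Limits.pullback.diagonal_fst,
    Limits.pullback.diagonal_snd, Category.comp_id] at h1 h2
  exact Iso.ext (h1.symm.trans h2)

end Groth.Agent.S15322
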