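import Groth.Statements.S15325
import Groth.Agent.L14.NodeFix

set_option autoImplicit false
universe u
open ArLef ArLef.NodeAlg

namespace Groth.Agent.S15325

/-- Let k be a field, A = k[[t, e]]/(te) the complete local ring of a nodal curve at a node x, and σ a
k-algebra automorphism of A fixing the two branches, σ(t) = α t and σ(e) = β e with units α, β.
Writing I for the fixed-point ideal of σ (generated by all σ(r) - r), the fixed-point multiplicity
length(A/I) of σ at x and the fixed-point multiplicities length(A/(I + (t))), length(A/(I + (e))) of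
the automorphisms induced on the two branches satisfy length(A/I) + 1 = length(A/(I + (t))) +
length(A/(I + (e))), as extended natural numbers (both sides are infinite when σ fixes a branch
pointwise). (The published setting has k algebraically closed.) -/
theorem result (k : Type u) [Field k]
    (σ : ArLef.NodeAlg k 0 ≃ₐ[k] ArLef.NodeAlg k 0) (α β : (ArLef.NodeAlg k 0)ˣ)
    (ht : σ (ArLef.NodeAlg.t (0 : k)) = (α : ArLef.NodeAlg k 0) * ArLef.NodeAlg.t (0 : k)) (he : σ (ArLef.NodeAlg.e (0 : k)) = (β : ArLef.NodeAlg k 0) * ArLef.NodeAlg.e (0 : k)) :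
    Module.length (ArLef.NodeAlg k 0) (ArLef.NodeAlg k 0 ⧸ ArLef.fixIdeal σ) + 1 =
      Module.length (ArLef.NodeAlg k 0) (ArLef.NodeAlg k 0 ⧸ (ArLef.fixIdeal σ ⊔ Ideal.span ({ArLef.NodeAlg.t (0 : k)} : Set (ArLef.NodeAlg k 0)))) +
        Module.length (ArLef.NodeAlg k 0) (ArLef.NodeAlg k 0 ⧸ (ArLef.fixIdeal σ ⊔ Ideal.span ({ArLef.NodeAlg.e (0 : k)} : Set (ArLef.NodeAlg k 0)))) := by
  have hd : IsDomain (k ⧸ Ideal.span ({0} : Set k)) := by
    rw [Ideal.Quotient.isDomain_iff_prime, Ideal.span_singleton_eq_bot.mpr rfl]; exact Ideal.isPrime_bot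
  haveI := hd
  have hm : IsLocalRing.maximalIdeal k = Ideal.span {(0:k)} := by
    rw [Ideal.span_singleton_eq_bot.mpr rfl, IsLocalRing.maximalIdeal_eq_bot]
  set t := ArLef.NodeAlg.t (0 : k)
  set e := ArLef.NodeAlg.e (0 : k)
  have hte0 : t * e = 0 := by
    have := Groth.L14.Node.x_mul_x (0:k) 0
    exact this.trans (map_zero (algebraMap k (ArLef.NodeAlg k 0)))
  have pt : Prime t := Groth.L14.Node.x_prime (0:k) 0 (Groth.L14.Node.x_ne_zero (0:k) 0)
  have pe : Prime e := Groth.L14.Node.x_prime (0:k) 1 (Groth.L14.Node.x_ne_zero (0:k) 1)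
  have het : ¬ e ∣ t := by have := Groth.L14.Node.x_other_not_dvd (0:k) 1; rwa [sub_self] at this
  set a : ArLef.NodeAlg k 0 := (α : ArLef.NodeAlg k 0) - 1
  set b : ArLef.NodeAlg k 0 := (β : ArLef.NodeAlg k 0) - 1
  have hI : ArLef.fixIdeal σ = Ideal.span {a * t, b * e} := by
    have h1 : σ t - t = a * t := by rw [ht]; ring
    have h2 : σ e - e = b * e := by rw [he]; ring
    refine le_antisymm (Groth.L14.Node.fixIdeal_le σ.toRingEquiv _ (fun c => ?_) (fun i => ?_)) ?_
    · simp
    · fin_cases i
      · show σ t - t ∈ _; rw [h1]; exact Ideal.subset_span (by simp)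
      · show σ e - e ∈ _; rw [h2]; exact Ideal.subset_span (by simp)
    · rw [Ideal.span_le]
      rintro z (rfl | rfl)
      · exact Ideal.subset_span ⟨t, h1⟩
      · exact Ideal.subset_span ⟨e, h2⟩
  have hreg : ∀ z, e ∣ t * z → e ∣ z := fun z hz => (pe.2.2 _ _ hz).resolve_left het
  have hmax : (Ideal.span {e, t} : Ideal (ArLef.NodeAlg k 0)).IsMaximal := by
    rw [Set.pair_comm]
    show (Ideal.span {Groth.L14.Node.x (0:k) 0, Groth.L14.Node.x (0:k) 1}).IsMaximal
    rw [← Groth.L14.Node.maximalIdeal_eq (0:k) hm]; infer_instance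
  haveI := hmax
  rw [hI, Groth.L14.Len.split (Ideal.span {a * t, b * e}) t (Ideal.span {e, a}) ?_]
  · have h3 : Ideal.span {a * t, b * e} ⊔ Ideal.span {e} = Ideal.span {e, t * a} := by
      apply le_antisymm
      · refine sup_le (Ideal.span_le.mpr ?_) (Ideal.span_mono (by simp))
        rintro z (rfl | rfl)
        · rw [SetLike.mem_coe, mul_comm a t]; exact Ideal.subset_span (by simp)
        · exact Ideal.mul_mem_left _ _ (Ideal.subset_span (by simp))
      · rw [Ideal.span_le]
        rintro z (rfl | rfl)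
        · exact Submodule.mem_sup_right (Ideal.mem_span_singleton_self _)
        · rw [SetLike.mem_coe, mul_comm t a]; exact Submodule.mem_sup_left (Ideal.subset_span (by simp))
    rw [Groth.L14.Len.congr h3, Groth.L14.Len.pair_mul e t a hreg, Groth.L14.Len.maximal (Ideal.span {e, t}), add_assoc,
      add_comm _ (1 : ℕ∞)]
  · intro z
    constructor
    · intro hz
      obtain ⟨u, w, huw⟩ := Ideal.mem_span_pair.mp hz
      obtain ⟨c, hc⟩ := hreg (z - u * a) ⟨w * b, by linear_combination -huw⟩
      exact Ideal.mem_span_pair.mpr ⟨c, u, by linear_combination -hc⟩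
    · intro hz
      obtain ⟨c, u, rfl⟩ := Ideal.mem_span_pair.mp hz
      rw [show t * (c * e + u * a) = u * (a * t) by linear_combination c * hte0]
      exact Ideal.mul_mem_left _ _ (Ideal.subset_span (by simp))

end Groth.Agent.S15325
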