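import Groth.Statements.S15326
import Mathlib.RingTheory.Localization.AtPrime.Basic
import Mathlib.Tactic

set_option autoImplicit false
universe u
open ArLef

namespace Groth.Agent.S15326

/-- Let A be a commutative ring, t an element generating a prime ideal (a local equation of an
irreducible component C of the closed fibre), v an element outside (t) with π = vt the uniformizer,
and σ a ring automorphism of A with σ(vt) = vt whose fixed-point ideal is contained in (t^i) for
some i ≥ 1 (C has multiplicity at least i in the fixed locus). Then σ(t) - t lies in t^(i+1) A_(t),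
the localization at the prime (t): σ - 1 vanishes on (t)/(t^(i+1)) at the generic point of C. -/
theorem result (A : Type u) [CommRing A] (t v : A)
    [ht : (Ideal.span ({t} : Set A)).IsPrime] (hv : v ∉ Ideal.span ({t} : Set A))
    (σ : A ≃+* A) (hσ : σ (v * t) = v * t) (i : ℕ) (hi : 1 ≤ i)
    (hI : ArLef.fixIdeal σ ≤ Ideal.span ({t ^ i} : Set A)) :
    algebraMap A (Localization.AtPrime (Ideal.span ({t} : Set A))) (σ t - t) ∈
      Ideal.span ({algebraMap A (Localization.AtPrime (Ideal.span ({t} : Set A))) (t ^ (i + 1))} :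
        Set (Localization.AtPrime (Ideal.span ({t} : Set A)))) := by
  obtain ⟨i', rfl⟩ : ∃ i', i = i' + 1 := ⟨i - 1, by omega⟩
  have hmem : ∀ r, t ^ (i' + 1) ∣ σ r - r := fun r =>
    Ideal.mem_span_singleton.mp (hI (Ideal.subset_span ⟨r, rfl⟩))
  obtain ⟨w, hw⟩ := hmem t
  obtain ⟨c, hc⟩ := hmem v
  rw [map_mul] at hσ
  have hst : σ t = t * (1 + t ^ i' * w) := by linear_combination hw
  have hkey : v * (σ t - t) = t ^ (i' + 1 + 1) * (-c * (1 + t ^ i' * w)) := by
    calc v * (σ t - t) = (σ v * σ t - v * t) - (σ v - v) * σ t := by ring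
      _ = _ := by rw [hσ, hc, hst]; ring
  have hu : IsUnit (algebraMap A (Localization.AtPrime (Ideal.span ({t} : Set A))) v) :=
    IsLocalization.map_units _ (⟨v, hv⟩ : (Ideal.span ({t} : Set A)).primeCompl)
  rw [← Ideal.unit_mul_mem_iff_mem _ hu, ← map_mul, hkey, map_mul]
  exact Ideal.mul_mem_right _ _ (Ideal.mem_span_singleton_self _)

end Groth.Agent.S15326
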