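import Groth.Statements.S15327
import Groth.Agent.L14.BlowGraph

set_option autoImplicit false
open ArLef ArLef.BlowupGraph

namespace Groth.Agent.S15327

/-- Let Φ be the labelled dual graph of the exceptional curves of n successive blow-ups of closed points
starting from a regular surface with algebraically closed residue fields (vertices = exceptional
curves in order of creation, labels = intersection numbers), I any set of vertices (the curves
contracted to a normal surface) and σ a permutation of the vertices preserving all intersection
numbers and the set I. Let e_{ij} be the multiplicity of E_i × E_j in the fibre square of the
composite blow-down (the sum over k of c^k_i c^k_j, c^k the total transform of the k-th exceptional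
curve) and (E_i · E_j)_I Mumford's rational intersection number of the images after contracting I.
Then the sum over i, j outside I of e_{ij} (σ E_i · E_j)_I equals minus the number of σ-fixed
vertices outside I. (Stated for the dual graphs realized with all residue fields equal to the base
field, which is the case the published argument realizes geometrically.) -/
theorem result (n : ℕ) (G : ArLef.BlowupGraph n) (I : Finset (Fin n))
    (σ : Equiv.Perm (Fin n)) (hσ : ∀ i j : Fin n, G.mat (σ i) (σ j) = G.mat i j)
    (hσI : ∀ i : Fin n, σ i ∈ I ↔ i ∈ I) :
    G.lNum I σ = ArLef.BlowupGraph.rNum I σ := by
  exact Groth.L14.BlowGraph.lNum_eq G I σ

end Groth.Agent.S15327
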