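import Groth.Statements.S15328
import Groth.Agent.L21.Bundle.HiggsPair

set_option autoImplicit false
set_option backward.isDefEq.respectTransparency false
open CategoryTheory AlgebraicGeometry CategoryTheory.Limits
open VBCurve

namespace Groth.Agent.S15328

/-- Let X be a smooth proper integral curve over the complex numbers, L an invertible module on X and
(E, φ) an L-valued Higgs bundle on X: E finite locally free of rank r ≥ 1 and φ : E → E ⊗ L. A
submodule j : G → E (a monomorphism) is a Higgs submodule when φ restricts to it, that is, some ψ :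
G → G ⊗ L followed by j ⊗ L equals j followed by φ; (E, φ) is semistable when deg G · r ≤ deg E · r'
for every finite locally free Higgs submodule G of rank r' ≥ 1, degrees being χ − rank · χ(O).
Suppose (E, φ) is semistable and F is a finite locally free Higgs submodule of rank r' ≥ 1 with the
same slope, deg F · r = deg E · r'. Then the quotient E/F is finite locally free of rank r − r' and
is semistable of the same slope for its induced Higgs field: for every φ' : E/F → (E/F) ⊗ L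
compatible with φ along the projection and every finite locally free submodule G of E/F of rank s ≥
1 to which φ' restricts, deg G · (r − r') ≤ deg(E/F) · s. (The published statement also assumes F
semistable, which the published argument does not use; this row omits it.) -/
theorem result
    (X : Scheme.{0}) [X.Over (Spec (CommRingCat.of ℂ))] [IsIntegral X]
    [IsProper (X ↘ Spec (CommRingCat.of ℂ))] [Smooth (X ↘ Spec (CommRingCat.of ℂ))]
    (hdim : topologicalKrullDim X = 1)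
    (L : X.Modules) (hL : PicF.IsInvertible L)
    (r : ℕ) (hr : 0 < r) (E : X.Modules) (hE : FlatMod.IsFinLocFreeOfRank r E)
    (φ : E ⟶ CohB1.tensorMod E L)
    (hss : ∀ (G : X.Modules) (s : ℕ) (j : G ⟶ E) (ψ : G ⟶ CohB1.tensorMod G L), Mono j → 0 < s →
      FlatMod.IsFinLocFreeOfRank s G →
      ψ ≫ (CohB1.sheafifyMod X).map (MonoidalCategoryStruct.whiskerRight (C := CohB1.PMod X) j.val (CohB1.toPMod L)) = j ≫ φ →
      Curv2.deg ℂ X G s * (r : ℤ) ≤ Curv2.deg ℂ X E r * (s : ℤ))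
    (F : X.Modules) (r' : ℕ) (hr' : 0 < r') (hF : FlatMod.IsFinLocFreeOfRank r' F)
    (i : F ⟶ E) [Mono i] (ψF : F ⟶ CohB1.tensorMod F L)
    (hψF : ψF ≫ (CohB1.sheafifyMod X).map (MonoidalCategoryStruct.whiskerRight (C := CohB1.PMod X) i.val (CohB1.toPMod L)) = i ≫ φ)
    (hslope : Curv2.deg ℂ X F r' * (r : ℤ) = Curv2.deg ℂ X E r * (r' : ℤ)) :
    FlatMod.IsFinLocFreeOfRank (r - r') (cokernel i) ∧
    ∀ (φ' : cokernel i ⟶ CohB1.tensorMod (cokernel i) L),
      cokernel.π i ≫ φ' = φ ≫ (CohB1.sheafifyMod X).map (MonoidalCategoryStruct.whiskerRight (C := CohB1.PMod X) (cokernel.π i).val (CohB1.toPMod L)) →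
      ∀ (G : X.Modules) (s : ℕ) (j : G ⟶ cokernel i) (ψ : G ⟶ CohB1.tensorMod G L), Mono j → 0 < s →
        FlatMod.IsFinLocFreeOfRank s G →
        ψ ≫ (CohB1.sheafifyMod X).map (MonoidalCategoryStruct.whiskerRight (C := CohB1.PMod X) j.val (CohB1.toPMod L)) = j ≫ φ' →
        Curv2.deg ℂ X G s * ((r - r' : ℕ) : ℤ) ≤ Curv2.deg ℂ X (cokernel i) (r - r') * (s : ℤ) := by
  haveI := Groth.L21.RR.isNoetherian_of_proper (X := X) ℂ
  have hreg := Groth.L21.Smooth.regular_stalk (k := ℂ) (X ↘ Spec (CommRingCat.of ℂ))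
  simp only [Groth.L21.Bundle.Higgs.map_eq] at hss hψF ⊢
  have hb : Groth.L21.Bundle.Higgs.PBd ℂ (fun _ : PUnit => φ) (Curv2.deg ℂ X E r) r :=
    Groth.L21.Bundle.Higgs.pbd_of ℂ hreg hdim.le hE _ fun G n i hi hn hG hinv => by
      obtain ⟨χ, hχ⟩ := hinv PUnit.unit
      exact hss G n i χ hi hn hG hχ
  have hrF := Groth.L21.Bundle.rk_eq hF
  obtain ⟨hQ, hrk, hdg, hq⟩ := Groth.L21.Bundle.Higgs.quotient_of_slope_eq ℂ hreg hdim.le (fun _ : PUnit => hL) hdim hr hE hb
    (Groth.L21.Bundle.dg_eq ℂ hE).symm i (Groth.L21.Bundle.isCoh_of_rank hF) (fun _ => ⟨ψF, hψF⟩)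
    (by rw [hrF, ← Groth.L21.Bundle.dg_eq ℂ hF]; exact hslope)
  have hC : Groth.L21.Bundle.rk (cokernel i) = r - r' := by omega
  rw [hC] at hQ
  refine ⟨hQ, fun φ' hφ' G s j ψ hj hs hG hψ => ?_⟩
  have h1 := Groth.L21.Bundle.Higgs.of_pbd ℂ (hq (fun _ => φ') (fun _ => hφ')) j hj hG (fun _ => ⟨ψ, hψ⟩)
  rw [← Groth.L21.Bundle.dg_eq ℂ hF, ← Groth.L21.Bundle.dg_eq ℂ hQ] at hdg
  have hr2 : ((r - r' : ℕ) : ℤ) + (r' : ℤ) = r := by exact_mod_cast (show r - r' + r' = r by omega)
  have hr0 : (0 : ℤ) < r := by exact_mod_cast hr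
  refine le_of_mul_le_mul_right ?_ hr0
  have e : Curv2.deg ℂ X (cokernel i) (r - r') * (r : ℤ) = Curv2.deg ℂ X E r * ((r - r' : ℕ) : ℤ) := by
    have e1 : Curv2.deg ℂ X E r * (r : ℤ) = Curv2.deg ℂ X E r * ((r - r' : ℕ) : ℤ) + Curv2.deg ℂ X E r * (r' : ℤ) := by
      rw [← mul_add, hr2]
    have e2 : Curv2.deg ℂ X E r * (r : ℤ) = Curv2.deg ℂ X F r' * (r : ℤ) + Curv2.deg ℂ X (cokernel i) (r - r') * (r : ℤ) := by
      rw [← add_mul, hdg]
    linarith
  calc Curv2.deg ℂ X G s * ((r - r' : ℕ) : ℤ) * (r : ℤ)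
      = Curv2.deg ℂ X G s * (r : ℤ) * ((r - r' : ℕ) : ℤ) := by ring
    _ ≤ Curv2.deg ℂ X E r * (s : ℤ) * ((r - r' : ℕ) : ℤ) := mul_le_mul_of_nonneg_right h1 (Int.natCast_nonneg _)
    _ = Curv2.deg ℂ X (cokernel i) (r - r') * (s : ℤ) * (r : ℤ) := by rw [mul_right_comm, ← e]; ring

end Groth.Agent.S15328
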