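import Groth.Statements.S15329
import Mathlib.Algebra.Polynomial.Laurent
import Mathlib.LinearAlgebra.TensorProduct.Tower
import Mathlib.RingTheory.TensorProduct.Basic
import Mathlib.LinearAlgebra.Dual.Defs

set_option autoImplicit false
open TensorProduct LaurentPolynomial
universe u v
open CAlg

namespace Groth.Agent.S15329

/-- Let k be a field, E a k-vector space and F an increasing ℤ-indexed filtration of E by subspaces. In
E[T, T⁻¹] = k[T, T⁻¹] ⊗ E the Rees module of (E, F) is the k-span of the elements T^n ⊗ v with v ∈ F
n; it is the module of global sections of the equivariant bundle on the affine line attached to (E,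
F), and E[T, T⁻¹] that of its sections away from the origin. For a linear form α on E and an integer
p, the k[T, T⁻¹]-linear form m ↦ T^p · (id ⊗ α)(m) is the invariant section α of the dual bundle
away from the origin multiplied by T^p, and it extends over the origin exactly when it maps the Rees
module into the polynomial subring k[T]. This happens if and only if α vanishes on F(−p − 1); so the
dual equivariant bundle corresponds to the dual space filtered by the annihilators of the F(−p − 1).
(The published statement has the annihilator of F(−p + 1), over the complex numbers; for E = k with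
F n = 0 for n < 0 and F n = E for n ≥ 0 the form with p = 0 and α ≠ 0 maps the Rees module into k[T]
although α does not vanish on F(1) = E, and the published argument gives the index −p − 1, which
this row states, over any field.) -/
theorem result
    (k : Type u) [Field k] (E : Type v) [AddCommGroup E] [Module k E]
    (F : ℤ → Submodule k E) (hF : Monotone F)
    (α : Module.Dual k E) (p : ℤ) :
    (∀ m ∈ Submodule.span k {x : k[T;T⁻¹] ⊗[k] E | ∃ (n : ℤ) (v : E), v ∈ F n ∧ x = T n ⊗ₜ[k] v},
      T p * (TensorProduct.AlgebraTensorModule.rid k k[T;T⁻¹] k[T;T⁻¹]) (LinearMap.baseChange k[T;T⁻¹] α m)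
        ∈ (Polynomial.toLaurent : Polynomial k →+* k[T;T⁻¹]).range) ↔
    ∀ v ∈ F (-p - 1), α v = 0 := by
  have hval : ∀ (n : ℤ) (v : E), T p * (TensorProduct.AlgebraTensorModule.rid k k[T;T⁻¹] k[T;T⁻¹])
      (LinearMap.baseChange k[T;T⁻¹] α (T n ⊗ₜ[k] v)) = C (α v) * T (p + n) := by
    intro n v
    rw [LinearMap.baseChange_tmul, TensorProduct.AlgebraTensorModule.rid_tmul,
      LaurentPolynomial.smul_eq_C_mul, T_add]
    ring
  constructor
  · intro h v hv
    have h1 := h (T (-p - 1) ⊗ₜ[k] v) (Submodule.subset_span ⟨-p - 1, v, hv, rfl⟩)
    rw [hval, show p + (-p - 1) = (-1 : ℤ) by ring] at h1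
    obtain ⟨f, hf⟩ := h1
    have h2 := congrArg LaurentPolynomial.trunc hf
    rw [Polynomial.trunc_toLaurent, LaurentPolynomial.trunc_C_mul_T, if_neg (by omega)] at h2
    rw [h2, map_zero] at hf
    have h3 := congrArg (fun x : k[T;T⁻¹] => (x * T 1)) hf
    simp only [zero_mul, mul_assoc, ← T_add] at h3
    rw [show (-1 : ℤ) + 1 = 0 by ring, T_zero, mul_one] at h3
    have h4 := congrArg LaurentPolynomial.trunc h3
    rw [map_zero, ← Polynomial.toLaurent_C, Polynomial.trunc_toLaurent] at h4
    exact Polynomial.C_eq_zero.mp h4.symm
  · intro h m hm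
    induction hm using Submodule.span_induction with
    | mem x hx =>
      obtain ⟨n, v, hv, rfl⟩ := hx
      rw [hval]
      by_cases hn : 0 ≤ p + n
      · obtain ⟨j, hj⟩ := Int.eq_ofNat_of_zero_le hn
        exact ⟨Polynomial.monomial j (α v), by rw [Polynomial.toLaurent_C_mul_T, hj]⟩
      · have h0 : α v = 0 := h v (hF (by omega) hv)
        rw [h0, map_zero, zero_mul]
        exact zero_mem _
    | zero => simp only [map_zero, mul_zero]; exact zero_mem _
    | add x y _ _ hx hy => simp only [map_add, mul_add]; exact add_mem hx hy
    | smul c x _ hx =>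
      rw [LinearMap.map_smul_of_tower, ← LinearEquiv.coe_coe, LinearMap.map_smul_of_tower, LinearEquiv.coe_coe, LaurentPolynomial.smul_eq_C_mul,
        mul_left_comm, ← Polynomial.toLaurent_C]
      exact Subring.mul_mem _ ⟨_, rfl⟩ hx


end Groth.Agent.S15329
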