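import Groth.Statements.S15330
import Groth.Agent.L21.Bundle.HiggsPair

set_option autoImplicit false
set_option backward.isDefEq.respectTransparency false
open CategoryTheory AlgebraicGeometry CategoryTheory.Limits
open VBCurve

namespace Groth.Agent.S15330

/-- Let X be a smooth proper integral curve over the complex numbers, L an invertible module on X, and
(E, φ_E), (F, φ_F) two L-valued Higgs bundles on X of the same rank r ≥ 1 and the same degree d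
(degree = χ − rank · χ(O)), each semistable: deg G · r ≤ d · s for every finite locally free
submodule G of rank s ≥ 1 to which the Higgs field restricts. Let E_0 ⊂ E_1 ⊂ … ⊂ E_n = E with E_0 =
0 and F = F_0 ⊃ F_1 ⊃ … ⊃ F_n = 0 be chains of finite locally free submodules to which the Higgs
fields restrict, of ranks with rk E_i + rk F_i = r, which are opposite: E_{i+1}/E_i ≅ F_i/F_{i+1} as
O-modules for i < n. Then every E_i of positive rank and every F_i of positive rank has slope d/r,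
that is deg · r = d · rank, and is semistable for its restricted Higgs field; and each graded piece
E_{i+1}/E_i of positive rank is finite locally free of rank rk E_{i+1} − rk E_i, of slope d/r, and
semistable for every Higgs field on it compatible with that of E_{i+1} along the projection. (The
published statement indexes the second chain so that F_i/F_{i+1} matches E_i/E_{i−1} and takes the
isomorphisms of graded pieces as Higgs bundles; here they are assumed as O-modules only, together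
with the rank bookkeeping rk E_i + rk F_i = r that they imply.) -/
theorem result
    (X : Scheme.{0}) [X.Over (Spec (CommRingCat.of ℂ))] [IsIntegral X]
    [IsProper (X ↘ Spec (CommRingCat.of ℂ))] [Smooth (X ↘ Spec (CommRingCat.of ℂ))]
    (hdim : topologicalKrullDim X = 1)
    (L : X.Modules) (hL : PicF.IsInvertible L) (r : ℕ) (hr : 0 < r) (d : ℤ)
    (E : X.Modules) (hE : FlatMod.IsFinLocFreeOfRank r E) (φE : E ⟶ CohB1.tensorMod E L)
    (hEd : Curv2.deg ℂ X E r = d)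
    (hEss : (∀ (G : X.Modules) (s : ℕ) (j : G ⟶ E) (χ : G ⟶ CohB1.tensorMod G L), Mono j → 0 < s →
        FlatMod.IsFinLocFreeOfRank s G →
        χ ≫ (CohB1.sheafifyMod X).map (MonoidalCategoryStruct.whiskerRight (C := CohB1.PMod X) j.val (CohB1.toPMod L)) = j ≫ φE →
        Curv2.deg ℂ X G s * (r : ℤ) ≤ Curv2.deg ℂ X E r * (s : ℤ)))
    (F : X.Modules) (hF : FlatMod.IsFinLocFreeOfRank r F) (φF : F ⟶ CohB1.tensorMod F L)
    (hFd : Curv2.deg ℂ X F r = d)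
    (hFss : (∀ (G : X.Modules) (s : ℕ) (j : G ⟶ F) (χ : G ⟶ CohB1.tensorMod G L), Mono j → 0 < s →
        FlatMod.IsFinLocFreeOfRank s G →
        χ ≫ (CohB1.sheafifyMod X).map (MonoidalCategoryStruct.whiskerRight (C := CohB1.PMod X) j.val (CohB1.toPMod L)) = j ≫ φF →
        Curv2.deg ℂ X G s * (r : ℤ) ≤ Curv2.deg ℂ X F r * (s : ℤ)))
    (n : ℕ)
    (Es : ℕ → X.Modules) (rE : ℕ → ℕ) (hEs : ∀ i, FlatMod.IsFinLocFreeOfRank (rE i) (Es i))
    (ιE : ∀ i, Es i ⟶ E) (hιE : ∀ i, Mono (ιE i))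
    (ψE : ∀ i, Es i ⟶ CohB1.tensorMod (Es i) L)
    (hψE : ∀ i, ψE i ≫ (CohB1.sheafifyMod X).map (MonoidalCategoryStruct.whiskerRight (C := CohB1.PMod X) (ιE i).val (CohB1.toPMod L)) = ιE i ≫ φE)
    (a : ∀ i, Es i ⟶ Es (i + 1)) (ha : ∀ i, a i ≫ ιE (i + 1) = ιE i)
    (hE0 : IsZero (Es 0)) (hEn : IsIso (ιE n))
    (Fs : ℕ → X.Modules) (rF : ℕ → ℕ) (hFs : ∀ i, FlatMod.IsFinLocFreeOfRank (rF i) (Fs i))
    (ιF : ∀ i, Fs i ⟶ F) (hιF : ∀ i, Mono (ιF i))
    (ψF : ∀ i, Fs i ⟶ CohB1.tensorMod (Fs i) L)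
    (hψF : ∀ i, ψF i ≫ (CohB1.sheafifyMod X).map (MonoidalCategoryStruct.whiskerRight (C := CohB1.PMod X) (ιF i).val (CohB1.toPMod L)) = ιF i ≫ φF)
    (b : ∀ i, Fs (i + 1) ⟶ Fs i) (hb : ∀ i, b i ≫ ιF i = ιF (i + 1))
    (hF0 : IsIso (ιF 0)) (hFn : IsZero (Fs n))
    (hrk : ∀ i, i ≤ n → rE i + rF i = r)
    (hopp : ∀ i, i < n → Nonempty (cokernel (a i) ≅ cokernel (b i))) :
    (∀ i, i ≤ n → 0 < rE i →
      Curv2.deg ℂ X (Es i) (rE i) * (r : ℤ) = d * (rE i : ℤ) ∧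
      (∀ (G : X.Modules) (s : ℕ) (j : G ⟶ (Es i)) (χ : G ⟶ CohB1.tensorMod G L), Mono j → 0 < s →
        FlatMod.IsFinLocFreeOfRank s G →
        χ ≫ (CohB1.sheafifyMod X).map (MonoidalCategoryStruct.whiskerRight (C := CohB1.PMod X) j.val (CohB1.toPMod L)) = j ≫ ψE i →
        Curv2.deg ℂ X G s * (rE i : ℤ) ≤ Curv2.deg ℂ X (Es i) (rE i) * (s : ℤ))) ∧
    (∀ i, i ≤ n → 0 < rF i →
      Curv2.deg ℂ X (Fs i) (rF i) * (r : ℤ) = d * (rF i : ℤ) ∧
      (∀ (G : X.Modules) (s : ℕ) (j : G ⟶ (Fs i)) (χ : G ⟶ CohB1.tensorMod G L), Mono j → 0 < s →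
        FlatMod.IsFinLocFreeOfRank s G →
        χ ≫ (CohB1.sheafifyMod X).map (MonoidalCategoryStruct.whiskerRight (C := CohB1.PMod X) j.val (CohB1.toPMod L)) = j ≫ ψF i →
        Curv2.deg ℂ X G s * (rF i : ℤ) ≤ Curv2.deg ℂ X (Fs i) (rF i) * (s : ℤ))) ∧
    (∀ i, i < n → rE i < rE (i + 1) →
      FlatMod.IsFinLocFreeOfRank (rE (i + 1) - rE i) (cokernel (a i)) ∧
      Curv2.deg ℂ X (cokernel (a i)) (rE (i + 1) - rE i) * (r : ℤ) = d * ((rE (i + 1) - rE i : ℕ) : ℤ) ∧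
      ∀ (φ' : cokernel (a i) ⟶ CohB1.tensorMod (cokernel (a i)) L),
        cokernel.π (a i) ≫ φ' = ψE (i + 1) ≫ (CohB1.sheafifyMod X).map (MonoidalCategoryStruct.whiskerRight (C := CohB1.PMod X) (cokernel.π (a i)).val (CohB1.toPMod L)) →
        (∀ (G : X.Modules) (s : ℕ) (j : G ⟶ cokernel (a i)) (χ : G ⟶ CohB1.tensorMod G L), Mono j → 0 < s →
        FlatMod.IsFinLocFreeOfRank s G →
        χ ≫ (CohB1.sheafifyMod X).map (MonoidalCategoryStruct.whiskerRight (C := CohB1.PMod X) j.val (CohB1.toPMod L)) = j ≫ φ' →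
        Curv2.deg ℂ X G s * ((rE (i + 1) - rE i : ℕ) : ℤ) ≤ Curv2.deg ℂ X (cokernel (a i)) (rE (i + 1) - rE i) * (s : ℤ))) := by
  haveI := Groth.L21.RR.isNoetherian_of_proper (X := X) ℂ
  have hreg := Groth.L21.Smooth.regular_stalk (k := ℂ) (X ↘ Spec (CommRingCat.of ℂ))
  simp only [Groth.L21.Bundle.Higgs.map_eq] at hEss hFss hψE hψF ⊢
  rw [hEd] at hEss
  rw [hFd] at hFss
  have hr0 : (0 : ℤ) < r := by exact_mod_cast hr
  have hbE : Groth.L21.Bundle.Higgs.PBd ℂ (fun _ : PUnit => φE) d r :=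
    Groth.L21.Bundle.Higgs.pbd_of ℂ hreg hdim.le hE _ fun G s j hj hs hG hinv => by
      obtain ⟨χ, hχ⟩ := hinv PUnit.unit
      exact hEss G s j χ hj hs hG hχ
  have hbF : Groth.L21.Bundle.Higgs.PBd ℂ (fun _ : PUnit => φF) d r :=
    Groth.L21.Bundle.Higgs.pbd_of ℂ hreg hdim.le hF _ fun G s j hj hs hG hinv => by
      obtain ⟨χ, hχ⟩ := hinv PUnit.unit
      exact hFss G s j χ hj hs hG hχ
  let D : ℕ → ℤ := fun i => Groth.L21.Bundle.dg ℂ (Es i) + Groth.L21.Bundle.dg ℂ (Fs i)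
  have hcE : ∀ i, Coh.IsCoh (Es i) := fun i => Groth.L21.Bundle.isCoh_of_rank (hEs i)
  have hcF : ∀ i, Coh.IsCoh (Fs i) := fun i => Groth.L21.Bundle.isCoh_of_rank (hFs i)
  have hma : ∀ i, Mono (a i) := fun i => haveI := hιE i; mono_of_mono_fac (ha i)
  have hmb : ∀ i, Mono (b i) := fun i => haveI := hιF (i + 1); mono_of_mono_fac (hb i)
  have hDd : ∀ i, i ≤ n → D i = d := by
    intro i hi
    induction i with
    | zero =>
      have h1 := (Groth.L21.Bundle.zero_facts ℂ hdim.le hE0).2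
      haveI := hF0
      have h2 := Groth.L21.Bundle.dg_iso ℂ (asIso (ιF 0))
      simp only [D, h1, h2, zero_add, ← Groth.L21.Bundle.dg_eq ℂ hF, hFd]
    | succ i ih =>
      haveI := hma i
      haveI := hmb i
      obtain ⟨e⟩ := hopp i (by omega)
      have h1 := (Groth.L21.Bundle.add_cokernel ℂ hdim.le (a i) (hcE i) (hcE (i + 1))).2
      have h2 := (Groth.L21.Bundle.add_cokernel ℂ hdim.le (b i) (hcF (i + 1)) (hcF i)).2
      have h3 := Groth.L21.Bundle.dg_iso ℂ e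
      have h4 := ih (by omega)
      simp only [D] at h4 ⊢
      omega
  have hslope : ∀ i, i ≤ n → Groth.L21.Bundle.dg ℂ (Es i) * (r : ℤ) = d * (rE i : ℤ) ∧
      Groth.L21.Bundle.dg ℂ (Fs i) * (r : ℤ) = d * (rF i : ℤ) := by
    intro i hi
    have h1 := hbE (Es i) (ιE i) (hιE i) (hcE i) (fun _ => ⟨ψE i, hψE i⟩)
    have h2 := hbF (Fs i) (ιF i) (hιF i) (hcF i) (fun _ => ⟨ψF i, hψF i⟩)
    rw [Groth.L21.Bundle.rk_eq (hEs i)] at h1
    rw [Groth.L21.Bundle.rk_eq (hFs i)] at h2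
    have h3 : Groth.L21.Bundle.dg ℂ (Es i) * (r : ℤ) + Groth.L21.Bundle.dg ℂ (Fs i) * (r : ℤ) = d * (r : ℤ) := by
      rw [← add_mul]; exact congrArg (· * (r : ℤ)) (hDd i hi)
    have h4 : d * (r : ℤ) = d * (rE i : ℤ) + d * (rF i : ℤ) := by
      rw [← mul_add]; congr 1; exact_mod_cast (hrk i hi).symm
    exact ⟨by linarith, by linarith⟩
  have hEi : ∀ i, i ≤ n → 0 < rE i → Groth.L21.Bundle.Higgs.PBd ℂ (fun _ : PUnit => ψE i)
      (Groth.L21.Bundle.dg ℂ (Es i)) (rE i) := by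
    intro i hi hpos G j hj hG hinv
    haveI := hj
    haveI := hιE i
    have h1 := hbE G (j ≫ ιE i) (mono_comp _ _) hG (fun t => Groth.L21.Bundle.Higgs.inv_comp (hψE i) (hinv t))
    refine le_of_mul_le_mul_right ?_ hr0
    calc Groth.L21.Bundle.dg ℂ G * (rE i : ℤ) * (r : ℤ) = Groth.L21.Bundle.dg ℂ G * (r : ℤ) * (rE i : ℤ) := by ring
      _ ≤ d * (Groth.L21.Bundle.rk G : ℤ) * (rE i : ℤ) := mul_le_mul_of_nonneg_right h1 (Int.natCast_nonneg _)
      _ = Groth.L21.Bundle.dg ℂ (Es i) * (Groth.L21.Bundle.rk G : ℤ) * (r : ℤ) := by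
        rw [mul_right_comm, ← (hslope i hi).1]; ring
  refine ⟨fun i hi hpos => ⟨?_, fun G s j χ hj hs hG hχ => ?_⟩, fun i hi hpos => ⟨?_, fun G s j χ hj hs hG hχ => ?_⟩,
    fun i hi hlt => ?_⟩
  · rw [Groth.L21.Bundle.dg_eq ℂ (hEs i)]; exact (hslope i hi).1
  · rw [Groth.L21.Bundle.dg_eq ℂ (hEs i)]
    exact Groth.L21.Bundle.Higgs.of_pbd ℂ (hEi i hi hpos) j hj hG (fun _ => ⟨χ, hχ⟩)
  · rw [Groth.L21.Bundle.dg_eq ℂ (hFs i)]; exact (hslope i hi).2
  · haveI := hj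
    haveI := hιF i
    have h1 := Groth.L21.Bundle.Higgs.of_pbd ℂ hbF (j ≫ ιF i) (mono_comp _ _) hG
      (fun _ => Groth.L21.Bundle.Higgs.inv_comp (hψF i) ⟨χ, hχ⟩)
    rw [Groth.L21.Bundle.dg_eq ℂ (hFs i)]
    refine le_of_mul_le_mul_right ?_ hr0
    calc Curv2.deg ℂ X G s * (rF i : ℤ) * (r : ℤ) = Curv2.deg ℂ X G s * (r : ℤ) * (rF i : ℤ) := by ring
      _ ≤ d * (s : ℤ) * (rF i : ℤ) := mul_le_mul_of_nonneg_right h1 (Int.natCast_nonneg _)
      _ = Groth.L21.Bundle.dg ℂ (Fs i) * (s : ℤ) * (r : ℤ) := by rw [mul_right_comm, ← (hslope i hi).2]; ring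
  · haveI := hma i
    haveI := hιE (i + 1)
    haveI := Groth.L21.Bundle.mono_twist hL (ιE (i + 1))
    have hai : ψE i ≫ (Groth.L00.Tensor.tensorRightF L).map (a i) = a i ≫ ψE (i + 1) := by
      rw [← cancel_mono ((Groth.L00.Tensor.tensorRightF L).map (ιE (i + 1))), Category.assoc, Category.assoc,
        ← Functor.map_comp, ha i, hψE i, hψE (i + 1), ← Category.assoc, ha i]
    have hs1 := (hslope i hi.le).1
    have hs2 := (hslope (i + 1) hi).1
    have hb1 : Groth.L21.Bundle.Higgs.PBd ℂ (fun _ : PUnit => ψE (i + 1))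
        (Groth.L21.Bundle.dg ℂ (Es (i + 1))) (rE (i + 1)) := hEi (i + 1) hi (by omega)
    have hrE := Groth.L21.Bundle.rk_eq (hEs i)
    obtain ⟨hQ, hrk', hdg, hq⟩ := Groth.L21.Bundle.Higgs.quotient_of_slope_eq ℂ hreg hdim.le (fun _ : PUnit => hL)
      hdim (show 0 < rE (i + 1) by omega) (hEs (i + 1)) hb1 rfl (a i) (hcE i) (fun _ => ⟨ψE i, hai⟩) (by
        rw [hrE]
        refine mul_right_cancel₀ hr0.ne' ?_
        rw [mul_right_comm _ _ (r : ℤ), hs1, mul_right_comm _ _ (r : ℤ), hs2]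
        ring)
    have hC : Groth.L21.Bundle.rk (cokernel (a i)) = rE (i + 1) - rE i := by omega
    rw [hC] at hQ
    have hdC : Curv2.deg ℂ X (cokernel (a i)) (rE (i + 1) - rE i) * (r : ℤ) = d * ((rE (i + 1) - rE i : ℕ) : ℤ) := by
      rw [Groth.L21.Bundle.dg_eq ℂ hQ, show Groth.L21.Bundle.dg ℂ (cokernel (a i)) =
        Groth.L21.Bundle.dg ℂ (Es (i + 1)) - Groth.L21.Bundle.dg ℂ (Es i) by omega, sub_mul, hs1, hs2,
        Nat.cast_sub hlt.le, mul_sub]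
    refine ⟨hQ, hdC, fun φ' hφ' G s j χ hj hs hG hχ => ?_⟩
    have h1 := Groth.L21.Bundle.Higgs.of_pbd ℂ (hq (fun _ => φ') (fun _ => hφ')) j hj hG (fun _ => ⟨χ, hχ⟩)
    have hR : (0 : ℤ) < (rE (i + 1) : ℤ) := by omega
    refine le_of_mul_le_mul_right ?_ (mul_pos hR hr0)
    calc Curv2.deg ℂ X G s * ((rE (i + 1) - rE i : ℕ) : ℤ) * ((rE (i + 1) : ℤ) * r)
        = Curv2.deg ℂ X G s * (rE (i + 1) : ℤ) * (((rE (i + 1) - rE i : ℕ) : ℤ) * r) := by ring
      _ ≤ Groth.L21.Bundle.dg ℂ (Es (i + 1)) * (s : ℤ) * (((rE (i + 1) - rE i : ℕ) : ℤ) * r) :=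
        mul_le_mul_of_nonneg_right h1 (mul_nonneg (Int.natCast_nonneg _) hr0.le)
      _ = Groth.L21.Bundle.dg ℂ (Es (i + 1)) * r * ((s : ℤ) * ((rE (i + 1) - rE i : ℕ) : ℤ)) := by ring
      _ = Curv2.deg ℂ X (cokernel (a i)) (rE (i + 1) - rE i) * r * ((s : ℤ) * rE (i + 1)) := by rw [hs2, hdC]; ring
      _ = _ := by ring

end Groth.Agent.S15330
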