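import Groth.Statements.S15333
import Groth.Agent.L21.Bundle.Stable

set_option autoImplicit false
set_option backward.isDefEq.respectTransparency false
universe u
open CategoryTheory CategoryTheory.Limits AlgebraicGeometry
open VBCurve

namespace Groth.Agent.S15333

/-- Let X be a smooth proper integral curve (integral, smooth and proper of dimension one) over an
algebraically closed field k. Let E and F be finite locally free O_X-modules of ranks r ≥ 1 and s ≥
1 which are slope-semistable and slope-stable (deg G · r ≤ deg E · r' for every finite locally free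
submodule G ⊂ E of rank r' ≥ 1, with strict inequality when r' < r, and likewise for F; degree = χ −
rank·χ(O_X)) and which have the same slope, deg E · s = deg F · r. Then either there is no nonzero
homomorphism E → F or E ≅ F; precisely, every nonzero homomorphism E → F is an isomorphism. -/
theorem result (k : Type u) [Field k] [IsAlgClosed k] (X : Scheme.{u}) [X.Over (Spec (CommRingCat.of k))]
    [IsIntegral X] [IsProper (X ↘ Spec (CommRingCat.of k))] [Smooth (X ↘ Spec (CommRingCat.of k))]
    (hdim : topologicalKrullDim X = 1)
    (r s : ℕ) (hr : 0 < r) (hs : 0 < s) (E F : X.Modules)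
    (hE : FlatMod.IsFinLocFreeOfRank r E) (hF : FlatMod.IsFinLocFreeOfRank s F)
    (hEss : ModFun.IsSlopeSemistable k X E r) (hEst : ModFun.IsSlopeStable k X E r)
    (hFss : ModFun.IsSlopeSemistable k X F s) (hFst : ModFun.IsSlopeStable k X F s)
    (hμ : Curv2.deg k X E r * (s : ℤ) = Curv2.deg k X F s * (r : ℤ))
    (f : E ⟶ F) (hf : f ≠ 0) : IsIso f := by
  haveI : IsLocallyNoetherian X := LocallyOfFiniteType.isLocallyNoetherian (X ↘ Spec (CommRingCat.of k))
  exact Groth.L21.Bundle.isIso_of_eq_slope k (fun x => Groth.L21.Smooth.regular_stalk (X ↘ Spec (CommRingCat.of k)) x) hdim.le hE hF hEss hFss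
    hμ (Or.inr ⟨hEst, hFst⟩) f hf

end Groth.Agent.S15333
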