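import Groth.Statements.S15335
import Groth.Agent.L21.Bundle.Results

set_option autoImplicit false
set_option backward.isDefEq.respectTransparency false
universe u
open CategoryTheory CategoryTheory.Limits AlgebraicGeometry
open VBCurve

namespace Groth.Agent.S15335

/-- Let X be a smooth proper integral curve (integral, smooth and proper of dimension one) over an
algebraically closed field k, and E₁, E₂ finite locally free O_X-modules of ranks r₁ ≥ 1, r₂ ≥ 1.
The maximal slope of E₁ ⊕ E₂ is at most the larger of the maximal slopes of E₁ and E₂: if m₁, m₂ are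
rational numbers such that every finite locally free submodule of positive rank of E₁ (resp. E₂) has
slope deg/rank ≤ m₁ (resp. ≤ m₂), degree meaning χ − rank·χ(O_X), then every finite locally free
submodule F of the biproduct E₁ ⊞ E₂ of rank r' ≥ 1 has slope deg F / r' ≤ max(m₁, m₂). -/
theorem result (k : Type u) [Field k] [IsAlgClosed k] (X : Scheme.{u}) [X.Over (Spec (CommRingCat.of k))]
    [IsIntegral X] [IsProper (X ↘ Spec (CommRingCat.of k))] [Smooth (X ↘ Spec (CommRingCat.of k))]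
    (hdim : topologicalKrullDim X = 1)
    (r₁ r₂ : ℕ) (hr₁ : 0 < r₁) (hr₂ : 0 < r₂) (E₁ E₂ : X.Modules)
    (hE₁ : FlatMod.IsFinLocFreeOfRank r₁ E₁) (hE₂ : FlatMod.IsFinLocFreeOfRank r₂ E₂) (m₁ m₂ : ℚ)
    (h₁ : ∀ (G : X.Modules) (r' : ℕ) (i : G ⟶ E₁), Mono i → 0 < r' → FlatMod.IsFinLocFreeOfRank r' G →
      (Curv2.deg k X G r' : ℚ) / r' ≤ m₁)
    (h₂ : ∀ (G : X.Modules) (r' : ℕ) (i : G ⟶ E₂), Mono i → 0 < r' → FlatMod.IsFinLocFreeOfRank r' G →
      (Curv2.deg k X G r' : ℚ) / r' ≤ m₂)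
    (F : X.Modules) (r' : ℕ) (i : F ⟶ E₁ ⊞ E₂) (hi : Mono i) (hr' : 0 < r')
    (hF : FlatMod.IsFinLocFreeOfRank r' F) :
    (Curv2.deg k X F r' : ℚ) / r' ≤ max m₁ m₂ := by
  haveI : IsLocallyNoetherian X := LocallyOfFiniteType.isLocallyNoetherian (X ↘ Spec (CommRingCat.of k))
  have hreg : ∀ x : X, IsRegularLocalRing (X.presheaf.stalk x) := (fun x => Groth.L21.Smooth.regular_stalk (X ↘ Spec (CommRingCat.of k)) x)
  exact Groth.L21.Bundle.slope_biprod_le k hreg hdim.le hE₁ hE₂ m₁ m₂ h₁ h₂ i hi hr' hF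

end Groth.Agent.S15335
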