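import Groth.Statements.S15336
import Groth.Agent.S18860
import Groth.Agent.L19.Nori.Basic
import Groth.Agent.L26.Pic0.EulerPull
import Groth.Agent.L26.Mumford.Hodge
import Groth.Agent.L21.NormRed.H0Conn
import Groth.Agent.L21.RR.BirationalGenus
import Groth.Agent.L20.ResDescent
import Groth.Agent.L17.ProjFormula
import Groth.Agent.L16.CohClosedPush

set_option autoImplicit false
set_option backward.isDefEq.respectTransparency false
set_option linter.style.haveILetI false
universe u
open CategoryTheory CategoryTheory.Limits AlgebraicGeometry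
open VBCurve

namespace Groth.Agent.S15336

open Groth.L00.Tensor (tensorComm tensorUnitRight tensorIso)

variable {k : Type u} [Field k]

/-- Functions on a finite scheme over an algebraically closed field form a free module. -/
theorem push_free [IsAlgClosed k] (G : Scheme.{u}) [G.Over (Spec (CommRingCat.of k))]
    [IsFinite (G ↘ Spec (CommRingCat.of k))] (n : ℕ)
    (hn : Module.finrank k (Coh.HH G (Coh.structureModule G) 0) = n) :
    Nonempty ((Coh.push (G ↘ Spec (CommRingCat.of k))).obj (Coh.structureModule G) ≅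
      FlatMod.freeMod (Spec (CommRingCat.of k)) n) := by
  set q := G ↘ Spec (CommRingCat.of k)
  letI : (Spec (CommRingCat.of k)).Over (Spec (CommRingCat.of k)) := ⟨𝟙 _⟩
  haveI : IsProper ((Spec (CommRingCat.of k)) ↘ Spec (CommRingCat.of k)) :=
    inferInstanceAs (IsProper (𝟙 (Spec (CommRingCat.of k))))
  haveI : IsLocallyNoetherian (Spec (CommRingCat.of k)) := inferInstance
  have hF := Groth.L20.ResDescent.isFinLocFree_push q ⟨inferInstance, inferInstance, inferInstance⟩
    (Coh.structureModule G) (Groth.L20.ResDescent.isFinLocFree_of_isInvertible (Groth.L18.Ample.isInvertible_structureModule G))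
  obtain ⟨U, d, hU, hUd⟩ := hF (IsLocalRing.closedPoint k)
  obtain ⟨e⟩ := Groth.Agent.L26.Mumford.nonempty_free_of_rank (n := d)
    (M := (Coh.push q).obj (Coh.structureModule G)) fun x => ⟨U, by
      haveI : Subsingleton ↥(Spec (CommRingCat.of k)) := inferInstanceAs (Subsingleton (PrimeSpectrum k))
      rwa [Subsingleton.elim x (IsLocalRing.closedPoint k)], hUd⟩
  haveI : IsReduced (Spec (CommRingCat.of k)) := inferInstance
  have h1 : Groth.L21.RR.h k 0 (Coh.structureModule (Spec (CommRingCat.of k))) = 1 := by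
    rw [Groth.L21.NormRed.h0_structure_eq_card_connectedComponents]
    haveI : ConnectedSpace ↥(Spec (CommRingCat.of k)) := inferInstance
    exact Nat.card_unique
  have h2 := Groth.L21.RR.h_push_structure q k (Category.comp_id _) 0
  have h3 : Module.finrank k (Coh.HH (Spec (CommRingCat.of k)) ((Coh.push q).obj (Coh.structureModule G)) 0) =
      Module.finrank k (Coh.HH (Spec (CommRingCat.of k)) (FlatMod.freeMod (Spec (CommRingCat.of k)) d) 0) :=
    Groth.L03.Euler.finrank_HH_of_iso (k := k) e 0
  rw [Groth.Agent.L26.Mumford.finrank_HH_free] at h3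
  change Groth.L21.RR.h k 0 ((Coh.push q).obj (Coh.structureModule G)) =
    d * Groth.L21.RR.h k 0 (Coh.structureModule (Spec (CommRingCat.of k))) at h3
  rw [h1, mul_one, h2] at h3
  obtain rfl : d = n := h3.symm.trans hn
  exact ⟨e⟩



/-- Let X be a smooth proper integral curve (integral, smooth and proper of dimension one) over an
algebraically closed field k, G a finite group scheme over k of order n, meaning dim_k H^0(G, O_G) =
n, and j : P → X a torsor (fppf-locally trivial) under the X-group scheme G ×_k X. Put E = j_*O_P.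
Then there is an isomorphism of O_X-modules E ⊗ E ≅ E ⊕ ⋯ ⊕ E (n copies); in particular E is a
finite vector bundle in the sense of Weil (two distinct polynomials in E agree). Existence of an
isomorphism only. (The published statement asserts only that E is finite in this sense; this row
states the isomorphism its argument gives, with n = dim_k H^0(G, O_G).) -/
theorem result (k : Type u) [Field k] [IsAlgClosed k] (X : Scheme.{u}) [X.Over (Spec (CommRingCat.of k))]
    [IsIntegral X] [IsProper (X ↘ Spec (CommRingCat.of k))] [Smooth (X ↘ Spec (CommRingCat.of k))]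
    (hdim : topologicalKrullDim X = 1)
    (G : Scheme.{u}) [G.Over (Spec (CommRingCat.of k))] [GrpObj (G.asOver (Spec (CommRingCat.of k)))]
    [IsFinite (G ↘ Spec (CommRingCat.of k))] (n : ℕ)
    (hn : Module.finrank k (Coh.HH G (Coh.structureModule G) 0) = n)
    (P : Over X) (a : AlgGrp.Action (Red.bc (X ↘ Spec (CommRingCat.of k)) (G.asOver (Spec (CommRingCat.of k)))) P)
    (hP : NonAbH1.IsTorsorFor Scheme.fppfPrecoverage a) :
    Nonempty (CohB1.tensorMod ((Coh.push P.hom).obj (Coh.structureModule P.left))
        ((Coh.push P.hom).obj (Coh.structureModule P.left)) ≅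
      ∐ fun _ : Fin n => (Coh.push P.hom).obj (Coh.structureModule P.left)) := by
  haveI := Groth.L21.RR.isNoetherian_of_proper (X := X) k
  have hPq : NonAbH1.IsTorsorFor Scheme.fpqcPrecoverage a :=
    ⟨hP.1, hP.2.imp fun R hR => ⟨Scheme.fppfPrecoverage_le_fpqcPrecoverage _ hR.1, hR.2⟩⟩
  haveI : IsFinite (G.asOver (Spec (CommRingCat.of k))).hom := ‹IsFinite (G ↘ Spec (CommRingCat.of k))›
  haveI : IsFinite (Red.bc (X ↘ Spec (CommRingCat.of k)) (G.asOver (Spec (CommRingCat.of k)))).hom := MorphismProperty.pullback_snd (P := @IsFinite) _ _ inferInstance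
  haveI : IsFinite P.hom := (Groth.Agent.S18860.result a hPq).2.2.1 inferInstance
  obtain ⟨-, hflat, -, -⟩ := Groth.L19.Nori.torsor_props (k := k) hPq
  haveI := hflat
  haveI : LocallyOfFinitePresentation P.hom := inferInstance
  haveI : IsLocallyNoetherian P.left := LocallyOfFiniteType.isLocallyNoetherian P.hom
  haveI : IsLocallyNoetherian G := LocallyOfFiniteType.isLocallyNoetherian (G ↘ Spec (CommRingCat.of k))
  haveI : Coh.IsQCoh (Coh.structureModule P.left) := Groth.L15.Ref.isQCoh_structureModule
  haveI : Coh.IsQCoh (Coh.structureModule G) := Groth.L15.Ref.isQCoh_structureModule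
  set O := Coh.structureModule P.left
  set EE := (Coh.push P.hom).obj O
  have hE : FlatMod.IsFinLocFree EE := Groth.L20.ResDescent.isFinLocFree_push P.hom
    ⟨inferInstance, inferInstance, inferInstance⟩ O
    (Groth.L20.ResDescent.isFinLocFree_of_isInvertible (Groth.L18.Ample.isInvertible_structureModule P.left))
  let T : Over X := MonoidalCategoryStruct.tensorObj (Red.bc (X ↘ Spec (CommRingCat.of k)) (G.asOver (Spec (CommRingCat.of k)))) P
  let f' : T.left ⟶ P.left := (CartesianMonoidalCategory.snd (Red.bc (X ↘ Spec (CommRingCat.of k)) (G.asOver (Spec (CommRingCat.of k)))) P).left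
  let g' : T.left ⟶ P.left := a.act.left
  have sq₀ : IsPullback (pullback.fst P.hom P.hom) (pullback.snd P.hom P.hom) P.hom P.hom :=
    IsPullback.of_hasPullback _ _
  haveI : IsIso (CartesianMonoidalCategory.lift a.act (CartesianMonoidalCategory.snd (Red.bc (X ↘ Spec (CommRingCat.of k)) (G.asOver (Spec (CommRingCat.of k)))) P)) := hPq.1
  let θ := (Over.forget X).mapIso
    (asIso (CartesianMonoidalCategory.lift a.act (CartesianMonoidalCategory.snd (Red.bc (X ↘ Spec (CommRingCat.of k)) (G.asOver (Spec (CommRingCat.of k)))) P)))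
  have sq₁ : IsPullback g' f' P.hom P.hom := IsPullback.of_iso sq₀ θ.symm (Iso.refl _) (Iso.refl _) (Iso.refl _)
    (by
      rw [← Iso.inv_comp_eq]
      simp [θ, g'])
    (by
      rw [← Iso.inv_comp_eq]
      simp [θ, f']) (by simp) (by simp)
  have sq₂ : IsPullback ((CartesianMonoidalCategory.fst (Red.bc (X ↘ Spec (CommRingCat.of k)) (G.asOver (Spec (CommRingCat.of k)))) P).left ≫ pullback.fst (G.asOver (Spec (CommRingCat.of k))).hom (X ↘ Spec (CommRingCat.of k))) f'
      (G.asOver (Spec (CommRingCat.of k))).hom (P.hom ≫ (X ↘ Spec (CommRingCat.of k))) :=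
    IsPullback.paste_horiz (IsPullback.of_hasPullback (Red.bc (X ↘ Spec (CommRingCat.of k)) (G.asOver (Spec (CommRingCat.of k)))).hom P.hom)
      (IsPullback.of_hasPullback (G.asOver (Spec (CommRingCat.of k))).hom (X ↘ Spec (CommRingCat.of k)))
  let ei : ∀ {Y Z : Scheme.{u}} (g : Y ⟶ Z),
      (Scheme.Modules.pullback g).obj (Coh.structureModule Z) ≅ Coh.structureModule Y :=
    fun g => Groth.L29.LocFree.pullbackUnitIso g
  obtain ⟨e₁⟩ := Groth.Agent.Pic0.EulerPull.nonempty_bc P.hom P.hom g' f' sq₁ O
  obtain ⟨e₂⟩ := Groth.Agent.Pic0.EulerPull.nonempty_bc (G.asOver (Spec (CommRingCat.of k))).hom (P.hom ≫ (X ↘ Spec (CommRingCat.of k))) _ f' sq₂ (Coh.structureModule G)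
  obtain ⟨e₀⟩ := push_free G n hn
  let eE : (Scheme.Modules.pullback P.hom).obj EE ≅ FlatMod.freeMod P.left n :=
    e₁ ≪≫ (Coh.push f').mapIso (ei g' ≪≫ (ei _).symm) ≪≫ e₂.symm ≪≫
      (Scheme.Modules.pullback (P.hom ≫ (X ↘ Spec (CommRingCat.of k)))).mapIso e₀ ≪≫ Groth.L29.LocFree.pullbackFreeIso _ n
  exact ⟨(Groth.L17.ProjFormula.projIso P.hom EE hE).app O ≪≫
    (Coh.push P.hom).mapIso (tensorUnitRight _ ≪≫ eE) ≪≫
    PreservesCoproduct.iso (Coh.push P.hom) fun _ : Fin n => O⟩

end Groth.Agent.S15336
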