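import Groth.Statements.S15339
import Groth.Agent.L21.Weil.Line
import Groth.Agent.L21.Weil.Slope
import Groth.Agent.L21.Bundle.Stable
import Groth.Agent.L21.Smooth.Scheme
import Groth.Agent.L21.RR.Coh

set_option autoImplicit false
set_option backward.isDefEq.respectTransparency false
universe u
open CategoryTheory CategoryTheory.Limits AlgebraicGeometry
open VBCurve

namespace Groth.Agent.S15339

/-- Let X be a smooth proper integral curve (integral, smooth and proper of dimension one) over an
algebraically closed field k and L an invertible O_X-module. Then L is finite in the sense of Weil: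
there are two distinct polynomials P ≠ Q with natural-number coefficients such that P(L) ≅ Q(L),
where P(L) denotes the direct sum over i of P_i copies of the i-th tensor power L^{⊗ i} (L^{⊗ 0} =
O_X) if and only if L^{⊗ m} ≅ O_X for some m > 0. -/
theorem result (k : Type u) [Field k] [IsAlgClosed k] (X : Scheme.{u}) [X.Over (Spec (CommRingCat.of k))]
    [IsIntegral X] [IsProper (X ↘ Spec (CommRingCat.of k))] [Smooth (X ↘ Spec (CommRingCat.of k))]
    (hdim : topologicalKrullDim X = 1)
    (L : X.Modules) (hL : PicF.IsInvertible L) :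
    (∃ P Q : Polynomial ℕ, P ≠ Q ∧ Nonempty ((∐ fun i : Fin (P.natDegree + 1) => ∐ fun _ : Fin (P.coeff ↑i) => CohB1.tensorPow L ↑i) ≅
      (∐ fun i : Fin (Q.natDegree + 1) => ∐ fun _ : Fin (Q.coeff ↑i) => CohB1.tensorPow L ↑i))) ↔
    ∃ m : ℕ, 0 < m ∧ Nonempty (CohB1.tensorPow L m ≅ Coh.structureModule X) := by
  haveI := Groth.L21.RR.isNoetherian_of_proper (X := X) k
  have hreg := Groth.L21.Smooth.regular_stalk (k := k) (X ↘ Spec (CommRingCat.of k))
  constructor
  · rintro ⟨P, Q, hPQ, hiso⟩
    exact Groth.L21.Weil.torsion_of_allPow k hreg hdim.le hL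
      (Groth.L21.Weil.closed_of_relation k hreg hdim.le ⟨1, Groth.L21.Bundle.locFree_one hL⟩ hPQ hiso).allPow
  · rintro ⟨m, hm, ⟨e⟩⟩
    exact Groth.L21.Weil.relation_of_allPow k hreg hdim.le ⟨1, Groth.L21.Bundle.locFree_one hL⟩
      (Groth.L21.Weil.closed_of_torsion hL hm e).allPow

end Groth.Agent.S15339
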