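import Groth.Statements.S1534
import Groth.Agent.L07.PicDimOne
import Groth.Agent.L04.CMBasic
import Groth.Agent.L01.DepthBasic
import Groth.Agent.L21.PlaneCurve.Plane

set_option autoImplicit false
set_option linter.style.haveILetI false
set_option backward.isDefEq.respectTransparency.types false
universe u
open CategoryTheory CategoryTheory.Limits AlgebraicGeometry
open Curves

namespace Groth.Agent.S1534

/-- A proper scheme of dimension one over a field k whose global functions are k is connected, all of
its local rings are Cohen–Macaulay, and every irreducible component has dimension one. -/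
theorem result (k : Type u) [Field k] (X : Scheme.{u}) [X.Over (Spec (CommRingCat.of k))]
    [IsProper (X ↘ (Spec (CommRingCat.of k)))] (hdim : topologicalKrullDim X = 1) (h0 : Module.finrank k (Coh.HH X (Coh.structureModule X) 0) = 1) :
    ConnectedSpace X ∧ (∀ x : X, LocCoh.IsCohenMacaulayLocalRing (X.presheaf.stalk x)) ∧
      ∀ Z ∈ irreducibleComponents (X : Type u), topologicalKrullDim Z = 1 := by
  classical
  haveI := Groth.L21.RR.isNoetherian_of_proper (X := X) k
  haveI hconn : ConnectedSpace X := Groth.L21.PlaneCurve.connectedSpace_of_h0_eq_one h0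
  haveI hnt : Nontrivial X := by
    by_contra hs
    haveI := not_nontrivial_iff_subsingleton.1 hs
    have h1 : topologicalKrullDim X ≤ 0 := by
      haveI : Subsingleton (TopologicalSpace.IrreducibleCloseds (X : Type u)) := ⟨fun s t => by
        refine SetLike.ext' (Set.ext fun z => ?_)
        obtain ⟨a, ha⟩ := s.isIrreducible'.1
        obtain ⟨b, hb⟩ := t.isIrreducible'.1
        exact ⟨fun _ => Subsingleton.elim b z ▸ hb, fun _ => Subsingleton.elim a z ▸ ha⟩⟩
      exact Order.krullDim_nonpos_of_subsingleton
    rw [hdim] at h1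
    exact absurd h1 (by decide)
  refine ⟨hconn, fun x => ?_, fun Z hZ => ?_⟩
  · -- Cohen–Macaulay local rings
    set R := X.presheaf.stalk x with hR
    have hdimR : ringKrullDim R ≤ 1 := (Groth.L22.PicGlue.ringKrullDim_stalk_le x).trans hdim.le
    refine ⟨?_⟩
    refine le_antisymm ?_ Groth.L04.depth_le_supportDim
    rw [Module.supportDim_self_eq_ringKrullDim]
    by_cases hgen : Groth.L22.FinAff.IsGen x
    · have h0' : ringKrullDim R = 0 := by
        rw [AlgebraicGeometry.ringKrullDim_stalk_eq_coheight, Order.coheight_eq_zero.mpr fun z hz => ?_]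
        · rfl
        · exact le_of_eq (hgen z hz)
      rw [h0']
      exact WithBot.coe_le_coe.mpr bot_le
    · have hxc : IsClosed ({x} : Set X) := Groth.L07.PicDimOne.isClosed_singleton_of_not_isGen hdim.le hgen
      suffices hne : IsLocalRing.maximalIdeal R ∉ associatedPrimes R R by
        have h1 : (1 : ℕ∞) ≤ LocCoh.depth R R := by
          have hns : ¬ ((IsLocalRing.maximalIdeal R : Set R) ⊆ ⋃ p ∈ associatedPrimes R R, (p : Set R)) := by
            intro hsub
            obtain ⟨p, hp, hle⟩ := (Ideal.subset_union_prime_finite (associatedPrimes.finite R R) ⊥ ⊥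
              fun p hp _ _ => hp.isPrime).1 hsub
            exact hne ((IsLocalRing.maximalIdeal.isMaximal R).eq_of_le hp.isPrime.ne_top hle ▸ hp)
          obtain ⟨r, hr, hr'⟩ := Set.not_subset.1 hns
          refine Groth.L01.one_le_depth hr ?_
          rw [biUnion_associatedPrimes_eq_compl_regular] at hr'
          exact not_not.1 hr'
        exact hdimR.trans (WithBot.coe_le_coe.mpr h1)
      intro hass
      obtain ⟨-, a, ha⟩ := isAssociatedPrime_iff.1 hass
      have hkill : ∀ g ∈ IsLocalRing.maximalIdeal R, g * a = 0 := fun g hg => by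
        have h1 : g ∈ Submodule.colon (⊥ : Submodule R R) {a} := ha ▸ hg
        exact (Submodule.mem_bot R).1 (Submodule.mem_colon_singleton.1 h1)
      have ha0 : a ≠ 0 := fun h => (IsLocalRing.maximalIdeal.isMaximal R).ne_top ((Ideal.eq_top_iff_one _).2 (by
        rw [ha, Submodule.mem_colon_singleton, h, smul_zero]; exact zero_mem _))
      obtain ⟨W₀, hxW₀, s₀, hs₀⟩ := X.presheaf.exists_germ_eq a
      obtain ⟨_, ⟨W, hW, rfl⟩, hxW, hWW₀⟩ := X.isBasis_affineOpens.exists_subset_of_mem_open hxW₀ W₀.2
      replace hW : IsAffineOpen W := hW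
      set s := X.presheaf.map (homOfLE (show W ≤ W₀ from hWW₀)).op s₀ with hsdef
      have hsx : X.presheaf.germ W x hxW s = a := (X.presheaf.germ_res_apply _ x hxW s₀).trans hs₀
      haveI : IsNoetherianRing Γ(X, W) := IsLocallyNoetherian.component_noetherian ⟨W, hW⟩
      obtain ⟨S, hS⟩ := IsNoetherian.noetherian (hW.primeIdealOf ⟨x, hxW⟩).asIdeal
      have hmem : ∀ g : Γ(X, W), g ∈ (hW.primeIdealOf ⟨x, hxW⟩).asIdeal →
          X.presheaf.germ W x hxW g ∈ IsLocalRing.maximalIdeal R := fun g hg => by
        rw [IsLocalRing.mem_maximalIdeal]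
        intro hu
        exact (Groth.L22.PicGlue.primeIdealOf_eq_comap hW hxW g).1 hg ((Scheme.mem_basicOpen X g x hxW).2 hu)
      have hann : ∀ g : S, ∃ O : X.Opens, x ∈ O ∧ ∃ hO : O ≤ W, X.presheaf.map (homOfLE hO).op (g.1 * s) = 0 := by
        intro g
        have h1 : X.presheaf.germ W x hxW (g.1 * s) = X.presheaf.germ W x hxW 0 := by
          rw [map_mul, hsx, map_zero]
          exact hkill _ (hmem _ (hS ▸ Submodule.subset_span g.2))
        obtain ⟨O, hxO, i₁, i₂, he⟩ := X.presheaf.germ_eq x hxW hxW _ _ h1
        exact ⟨O, hxO, i₁.le, he.trans (map_zero _)⟩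
      choose O hxO hOW hOs using hann
      let N : X.Opens := W ⊓ ⟨⋂ g : S, (O g : Set X), isOpen_iInter_of_finite fun g => (O g).isOpen⟩
      have hxN : x ∈ N := ⟨hxW, Set.mem_iInter.2 hxO⟩
      let P : X.Opens := ⟨{x}ᶜ, hxc.isOpen_compl⟩
      have hzero : ∀ (y : X) (hyN : y ∈ N), y ≠ x → X.presheaf.germ W y hyN.1 s = 0 := by
        intro y hyN hyx
        have hg : ∃ g ∈ S, y ∈ X.basicOpen g := by
          by_contra hno
          push Not at hno
          have hle : (hW.primeIdealOf ⟨x, hxW⟩).asIdeal ≤ (hW.primeIdealOf ⟨y, hyN.1⟩).asIdeal := by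
            rw [← hS]
            exact Submodule.span_le.2 fun g hg => (Groth.L22.PicGlue.primeIdealOf_eq_comap hW hyN.1 g).2 (hno g hg)
          have h2 : x ⤳ y := by
            have h3 := (show hW.primeIdealOf ⟨x, hxW⟩ ⤳ hW.primeIdealOf ⟨y, hyN.1⟩ from
              (PrimeSpectrum.le_iff_specializes _ _).1 hle).map hW.fromSpec.continuous
            rwa [hW.fromSpec_primeIdealOf, hW.fromSpec_primeIdealOf] at h3
          exact hyx (Set.mem_singleton_iff.1 (h2.mem_closed hxc rfl))
        obtain ⟨g, hgS, hyg⟩ := hg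
        have hy : y ∈ O ⟨g, hgS⟩ := Set.mem_iInter.1 hyN.2 ⟨g, hgS⟩
        have h1 := congrArg (X.presheaf.germ (O ⟨g, hgS⟩) y hy) (hOs ⟨g, hgS⟩)
        rw [map_zero, X.presheaf.germ_res_apply, map_mul] at h1
        exact ((Scheme.mem_basicOpen X g y hyN.1).1 hyg).mul_right_eq_zero.1 h1
      obtain ⟨t, ht⟩ := Groth.L21.Extend.exists_glue (Coh.structureModule X)
        (fun o : Option PUnit.{u + 1} => o.elim N (fun _ => P)) ⊤ (fun _ => le_top)
        (fun y _ => by
          by_cases hy : y = x
          · exact ⟨none, hy ▸ hxN⟩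
          · exact ⟨some ⟨⟩, hy⟩)
        (fun o => match o with
          | none => Groth.L21.Extend.rO X (inf_le_left : N ≤ W) s
          | some _ => (0 : Γ(X, P)))
        (fun o o' => by
          have key : Groth.L21.Extend.rO X (inf_le_left : N ⊓ P ≤ N) (Groth.L21.Extend.rO X (inf_le_left : N ≤ W) s) = 0 := by
            refine TopCat.Presheaf.section_ext X.sheaf (N ⊓ P) _ _ fun y hy => ?_
            change X.presheaf.germ (N ⊓ P) y hy (X.presheaf.map _ (X.presheaf.map _ s)) = X.presheaf.germ (N ⊓ P) y hy 0
            rw [X.presheaf.germ_res_apply, X.presheaf.germ_res_apply, map_zero]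
            exact hzero y hy.1 (fun h => hy.2 h)
          match o, o' with
          | none, none => rfl
          | some _, some _ => rfl
          | none, some _ => exact key.trans (map_zero _).symm
          | some _, none =>
            refine (map_zero _).trans ?_
            refine TopCat.Presheaf.section_ext X.sheaf (P ⊓ N) _ _ fun y hy => ?_
            change X.presheaf.germ (P ⊓ N) y hy 0 = X.presheaf.germ (P ⊓ N) y hy (X.presheaf.map _ (X.presheaf.map _ s))
            erw [X.presheaf.germ_res_apply, X.presheaf.germ_res_apply, map_zero]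
            exact (hzero y hy.2 (fun h => hy.1 h)).symm)
      haveI : Nontrivial Γ(X, ⊤) := (X.presheaf.germ ⊤ x trivial).hom.domain_nontrivial
      obtain ⟨d, hd⟩ := Groth.L21.PlaneCurve.exists_const h0 (show Γ(X, ⊤) from t)
      have htx : X.presheaf.germ ⊤ x trivial t = a := by
        have h1 := congrArg (X.presheaf.germ N x hxN) (ht none)
        exact ((X.presheaf.germ_res_apply _ x hxN t).symm.trans h1).trans
          ((X.presheaf.germ_res_apply _ x hxN s).trans hsx)
      have hd0 : d ≠ 0 := fun h => ha0 (by rw [← htx, ← hd, h, map_zero]; exact map_zero _)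
      have htu : IsUnit (show Γ(X, ⊤) from t) := hd ▸ (Ne.isUnit hd0).map _
      obtain ⟨y, hy⟩ := exists_ne x
      have hty : X.presheaf.germ ⊤ y trivial t = 0 := by
        have h1 := congrArg (X.presheaf.germ P y hy) (ht (some ⟨⟩))
        exact ((X.presheaf.germ_res_apply _ y hy t).symm.trans h1).trans (map_zero _)
      exact (htu.map (X.presheaf.germ ⊤ y trivial).hom).ne_zero hty
  · -- components of dimension one
    have hirr : IsIrreducible Z := hZ.1
    have hcl : IsClosed Z := isClosed_of_mem_irreducibleComponents Z hZ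
    haveI : Nonempty Z := hirr.1.to_subtype
    refine le_antisymm ((Topology.IsInducing.subtypeVal.topologicalKrullDim_le).trans hdim.le) ?_
    obtain ⟨η, hη⟩ : ∃ η, IsGenericPoint η Z := QuasiSober.sober hirr hcl
    have hex : ∃ w ∈ Z, w ≠ η := by
      by_contra hcon
      push Not at hcon
      have hZeq : Z = {η} := Set.eq_singleton_iff_unique_mem.2 ⟨hη.mem, hcon⟩
      have hB : IsClosed (⋃ T ∈ irreducibleComponents (X : Type u) \ {Z}, T) :=
        ((TopologicalSpace.NoetherianSpace.finite_irreducibleComponents (α := X)).subset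
          Set.sdiff_subset).isClosed_biUnion fun T hT => isClosed_of_mem_irreducibleComponents T hT.1
      have heq : (⋃ T ∈ irreducibleComponents (X : Type u) \ {Z}, T) = Zᶜ := by
        ext y
        simp only [Set.mem_iUnion, Set.mem_compl_iff, exists_prop]
        constructor
        · rintro ⟨T, ⟨hT, hTZ⟩, hyT⟩ hyZ
          have hy : y = η := hcon y hyZ
          refine hTZ (subset_antisymm (hZ.2 hT.1 ?_) ?_)
          · rw [hZeq]; exact Set.singleton_subset_iff.2 (hy ▸ hyT)
          · rw [hZeq]; exact Set.singleton_subset_iff.2 (hy ▸ hyT)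
        · intro hy
          exact ⟨irreducibleComponent y, ⟨irreducibleComponent_mem_irreducibleComponents y,
            fun h => hy ((Set.mem_singleton_iff.1 h) ▸ mem_irreducibleComponent)⟩, mem_irreducibleComponent⟩
      have hop : IsClopen Z := ⟨hcl, isClosed_compl_iff.1 (heq ▸ hB)⟩
      have huniv := hop.eq_univ hirr.1
      obtain ⟨w, hw⟩ := exists_ne η
      exact hw (hcon w (huniv ▸ Set.mem_univ w))
    obtain ⟨w, hwZ, hwne⟩ := hex
    let cl : Z → TopologicalSpace.IrreducibleCloseds Z := fun v => ⟨closure {v}, isIrreducible_singleton.closure, isClosed_closure⟩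
    have hsp : (⟨η, hη.mem⟩ : Z) ⤳ ⟨w, hwZ⟩ := Topology.IsInducing.subtypeVal.specializes_iff.1 (hη.specializes hwZ)
    have hlt : cl ⟨w, hwZ⟩ < cl ⟨η, hη.mem⟩ := by
      refine lt_of_le_of_ne (fun v hv => specializes_iff_closure_subset.1 hsp hv) fun he => hwne ?_
      have he' : closure ({(⟨w, hwZ⟩ : Z)} : Set Z) = closure {(⟨η, hη.mem⟩ : Z)} :=
        congrArg (fun s : TopologicalSpace.IrreducibleCloseds Z => (s : Set Z)) he
      exact congrArg Subtype.val (inseparable_iff_closure_eq.2 he').eq
    have h := Order.LTSeries.length_le_krullDim (RelSeries.singleton _ (cl ⟨w, hwZ⟩) |>.snoc (cl ⟨η, hη.mem⟩) hlt)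
    simpa [topologicalKrullDim] using h

end Groth.Agent.S1534
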