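import Groth.Statements.S15341
import Groth.Agent.L21.Weil.Line
import Groth.Agent.L21.Weil.Slope
import Groth.Agent.L21.Bundle.Stable
import Groth.Agent.L21.Smooth.Scheme
import Groth.Agent.L21.RR.Coh

set_option autoImplicit false
set_option backward.isDefEq.respectTransparency false
universe u
open CategoryTheory CategoryTheory.Limits AlgebraicGeometry
open VBCurve

namespace Groth.Agent.S15341

/-- Let X be a smooth proper integral curve (integral, smooth and proper of dimension one) over an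
algebraically closed field k, and E₁, E₂ finite locally free O_X-modules of ranks r₁, r₂, each
finite in the sense of Weil: for E = E₁ and E = E₂ there are distinct polynomials P ≠ Q with
natural-number coefficients and P(E) ≅ Q(E), where P(E) is the direct sum over i of P_i copies of
E^{⊗ i} (E^{⊗ 0} = O_X). Then the direct sum E₁ ⊞ E₂ and the tensor product E₁ ⊗ E₂ are finite in
the same sense. -/
theorem result (k : Type u) [Field k] [IsAlgClosed k] (X : Scheme.{u}) [X.Over (Spec (CommRingCat.of k))]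
    [IsIntegral X] [IsProper (X ↘ Spec (CommRingCat.of k))] [Smooth (X ↘ Spec (CommRingCat.of k))]
    (hdim : topologicalKrullDim X = 1)
    (r₁ r₂ : ℕ) (E₁ E₂ : X.Modules) (hE₁ : FlatMod.IsFinLocFreeOfRank r₁ E₁) (hE₂ : FlatMod.IsFinLocFreeOfRank r₂ E₂)
    (h₁ : (∃ P₁ Q₁ : Polynomial ℕ, P₁ ≠ Q₁ ∧ Nonempty ((∐ fun i : Fin (P₁.natDegree + 1) => ∐ fun _ : Fin (P₁.coeff ↑i) => CohB1.tensorPow E₁ ↑i) ≅
      (∐ fun i : Fin (Q₁.natDegree + 1) => ∐ fun _ : Fin (Q₁.coeff ↑i) => CohB1.tensorPow E₁ ↑i))))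
    (h₂ : (∃ P₂ Q₂ : Polynomial ℕ, P₂ ≠ Q₂ ∧ Nonempty ((∐ fun i : Fin (P₂.natDegree + 1) => ∐ fun _ : Fin (P₂.coeff ↑i) => CohB1.tensorPow E₂ ↑i) ≅
      (∐ fun i : Fin (Q₂.natDegree + 1) => ∐ fun _ : Fin (Q₂.coeff ↑i) => CohB1.tensorPow E₂ ↑i)))) :
    (∃ P Q : Polynomial ℕ, P ≠ Q ∧ Nonempty ((∐ fun i : Fin (P.natDegree + 1) => ∐ fun _ : Fin (P.coeff ↑i) => CohB1.tensorPow (E₁ ⊞ E₂) ↑i) ≅
      (∐ fun i : Fin (Q.natDegree + 1) => ∐ fun _ : Fin (Q.coeff ↑i) => CohB1.tensorPow (E₁ ⊞ E₂) ↑i))) ∧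
    (∃ P' Q' : Polynomial ℕ, P' ≠ Q' ∧ Nonempty ((∐ fun i : Fin (P'.natDegree + 1) => ∐ fun _ : Fin (P'.coeff ↑i) => CohB1.tensorPow (CohB1.tensorMod E₁ E₂) ↑i) ≅
      (∐ fun i : Fin (Q'.natDegree + 1) => ∐ fun _ : Fin (Q'.coeff ↑i) => CohB1.tensorPow (CohB1.tensorMod E₁ E₂) ↑i))) := by
  haveI := Groth.L21.RR.isNoetherian_of_proper (X := X) k
  have hreg := Groth.L21.Smooth.regular_stalk (k := k) (X ↘ Spec (CommRingCat.of k))
  refine ⟨?_, ?_⟩
  · exact Groth.L21.Weil.relation_of_allPow k hreg hdim.le (Groth.L21.Weil.IsBundle.biprod hreg hdim.le ⟨r₁, hE₁⟩ ⟨r₂, hE₂⟩)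
      ((Groth.L21.Weil.closed_of_relation k hreg hdim.le ⟨r₁, hE₁⟩ h₁.choose_spec.choose_spec.1 h₁.choose_spec.choose_spec.2).biprod
        (Groth.L21.Weil.closed_of_relation k hreg hdim.le ⟨r₂, hE₂⟩ h₂.choose_spec.choose_spec.1 h₂.choose_spec.choose_spec.2)).allPow
  · exact Groth.L21.Weil.relation_of_allPow k hreg hdim.le (Groth.L21.Weil.IsBundle.tensor ⟨r₁, hE₁⟩ ⟨r₂, hE₂⟩)
      ((Groth.L21.Weil.closed_of_relation k hreg hdim.le ⟨r₁, hE₁⟩ h₁.choose_spec.choose_spec.1 h₁.choose_spec.choose_spec.2).tensor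
        (Groth.L21.Weil.closed_of_relation k hreg hdim.le ⟨r₂, hE₂⟩ h₂.choose_spec.choose_spec.1 h₂.choose_spec.choose_spec.2)).allPow

end Groth.Agent.S15341
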