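import Groth.Statements.S15342
import Groth.Agent.L21.Weil.Line
import Groth.Agent.L21.Weil.Slope
import Groth.Agent.L21.Bundle.Stable
import Groth.Agent.L21.Smooth.Scheme
import Groth.Agent.L21.RR.Coh

set_option autoImplicit false
set_option backward.isDefEq.respectTransparency false
universe u
open CategoryTheory CategoryTheory.Limits AlgebraicGeometry
open VBCurve

namespace Groth.Agent.S15342

/-- Let X be a smooth proper integral curve (integral, smooth and proper of dimension one) over an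
algebraically closed field k, and E₁, E₂ finite locally free O_X-modules of ranks r₁, r₂ whose
direct sum E₁ ⊞ E₂ is finite in the sense of Weil: P(E₁ ⊞ E₂) ≅ Q(E₁ ⊞ E₂) for two distinct
polynomials P ≠ Q with natural-number coefficients, P(E) being the direct sum over i of P_i copies
of E^{⊗ i} (E^{⊗ 0} = O_X). Then E₁ is finite in the same sense (and so is E₂, by symmetry). -/
theorem result (k : Type u) [Field k] [IsAlgClosed k] (X : Scheme.{u}) [X.Over (Spec (CommRingCat.of k))]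
    [IsIntegral X] [IsProper (X ↘ Spec (CommRingCat.of k))] [Smooth (X ↘ Spec (CommRingCat.of k))]
    (hdim : topologicalKrullDim X = 1)
    (r₁ r₂ : ℕ) (E₁ E₂ : X.Modules) (hE₁ : FlatMod.IsFinLocFreeOfRank r₁ E₁) (hE₂ : FlatMod.IsFinLocFreeOfRank r₂ E₂)
    (h : (∃ P Q : Polynomial ℕ, P ≠ Q ∧ Nonempty ((∐ fun i : Fin (P.natDegree + 1) => ∐ fun _ : Fin (P.coeff ↑i) => CohB1.tensorPow (E₁ ⊞ E₂) ↑i) ≅
      (∐ fun i : Fin (Q.natDegree + 1) => ∐ fun _ : Fin (Q.coeff ↑i) => CohB1.tensorPow (E₁ ⊞ E₂) ↑i)))) :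
    (∃ P₁ Q₁ : Polynomial ℕ, P₁ ≠ Q₁ ∧ Nonempty ((∐ fun i : Fin (P₁.natDegree + 1) => ∐ fun _ : Fin (P₁.coeff ↑i) => CohB1.tensorPow E₁ ↑i) ≅
      (∐ fun i : Fin (Q₁.natDegree + 1) => ∐ fun _ : Fin (Q₁.coeff ↑i) => CohB1.tensorPow E₁ ↑i))) := by
  haveI := Groth.L21.RR.isNoetherian_of_proper (X := X) k
  have hreg := Groth.L21.Smooth.regular_stalk (k := k) (X ↘ Spec (CommRingCat.of k))
  obtain ⟨P, Q, hPQ, hiso⟩ := h
  exact Groth.L21.Weil.relation_of_allPow k hreg hdim.le ⟨r₁, hE₁⟩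
    ((Groth.L21.Weil.closed_of_relation k hreg hdim.le (Groth.L21.Weil.IsBundle.biprod hreg hdim.le ⟨r₁, hE₁⟩ ⟨r₂, hE₂⟩) hPQ hiso).allPow.retract
      ⟨biprod.inl, biprod.fst, biprod.inl_fst⟩)

end Groth.Agent.S15342
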