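import Groth.Statements.S15343
import Groth.Agent.S15338
import Groth.Agent.S18860
import Groth.Agent.S0353
import Groth.Agent.L05.UnibranchEtale.Main

set_option autoImplicit false
set_option backward.isDefEq.respectTransparency false
set_option linter.style.haveILetI false
universe u
open CategoryTheory CategoryTheory.Limits AlgebraicGeometry
open VBCurve

namespace Groth.Agent.S15343

/-- Let X be a smooth proper integral curve (integral, smooth and proper of dimension one) over an
algebraically closed field k of characteristic zero, G a finite group scheme over k and j : P → X a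
torsor (fppf-locally trivial) under the X-group scheme G ×_k X. If E is a finite locally free
O_X-module of rank r with j^*E ≅ O_P^{⊕ r}, then E is finite in the sense of Weil: there are
distinct polynomials P' ≠ Q' with natural-number coefficients and P'(E) ≅ Q'(E), P'(E) being the
direct sum over i of P'_i copies of E^{⊗ i}. (The published statement says that in characteristic
zero an essentially finite bundle is finite; this row takes as hypothesis the characterisation of
essentially finite bundles as those trivialised by a torsor under a finite group scheme.) -/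
theorem result (k : Type u) [Field k] [IsAlgClosed k] (X : Scheme.{u}) [X.Over (Spec (CommRingCat.of k))]
    [IsIntegral X] [IsProper (X ↘ Spec (CommRingCat.of k))] [Smooth (X ↘ Spec (CommRingCat.of k))]
    (hdim : topologicalKrullDim X = 1) [CharZero k]
    (G : Scheme.{u}) [G.Over (Spec (CommRingCat.of k))] [GrpObj (G.asOver (Spec (CommRingCat.of k)))]
    [IsFinite (G ↘ Spec (CommRingCat.of k))]
    (P : Over X) (a : AlgGrp.Action (Red.bc (X ↘ Spec (CommRingCat.of k)) (G.asOver (Spec (CommRingCat.of k)))) P)
    (hP : NonAbH1.IsTorsorFor Scheme.fppfPrecoverage a)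
    (r : ℕ) (E : X.Modules) (hE : FlatMod.IsFinLocFreeOfRank r E)
    (htriv : Nonempty ((Scheme.Modules.pullback P.hom).obj E ≅ FlatMod.freeMod P.left r)) :
    ∃ P' Q' : Polynomial ℕ, P' ≠ Q' ∧ Nonempty ((∐ fun i : Fin (P'.natDegree + 1) => ∐ fun _ : Fin (P'.coeff ↑i) => CohB1.tensorPow E ↑i) ≅
      (∐ fun i : Fin (Q'.natDegree + 1) => ∐ fun _ : Fin (Q'.coeff ↑i) => CohB1.tensorPow E ↑i)) := by
  haveI : LocallyOfFiniteType (G.asOver (Spec (CommRingCat.of k))).hom :=
    inferInstanceAs (LocallyOfFiniteType (G ↘ Spec (CommRingCat.of k)))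
  haveI : Smooth (G ↘ Spec (CommRingCat.of k)) :=
    Groth.Agent.S0353.result k (G.asOver (Spec (CommRingCat.of k)))
  haveI : Etale (G ↘ Spec (CommRingCat.of k)) :=
    Groth.L05.UnibranchEtale.etale_of_smooth_of_locallyQuasiFinite _
  obtain ⟨hps, R, hR, hsec⟩ := hP
  have hG' : IsFinite (Red.bc (X ↘ Spec (CommRingCat.of k)) (G.asOver (Spec (CommRingCat.of k)))).hom ∧
      Etale (Red.bc (X ↘ Spec (CommRingCat.of k)) (G.asOver (Spec (CommRingCat.of k)))).hom :=
    ⟨inferInstanceAs (IsFinite (pullback.snd (G ↘ Spec (CommRingCat.of k)) (X ↘ Spec (CommRingCat.of k)))),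
      inferInstanceAs (Etale (pullback.snd (G ↘ Spec (CommRingCat.of k)) (X ↘ Spec (CommRingCat.of k))))⟩
  obtain ⟨-, -, hfin, -, het⟩ := Groth.Agent.S18860.result a
    ⟨hps, R, Scheme.fppfPrecoverage_le_fpqcPrecoverage X hR, hsec⟩
  haveI := hfin hG'.1
  haveI := het hG'.2
  haveI : Surjective P.hom := ⟨fun x => by
    obtain ⟨Y, f, hf, hx⟩ := hR.1 x
    obtain @⟨W, f', hf'⟩ := hf
    obtain ⟨s, hs⟩ := hsec f' hf'
    obtain ⟨y, rfl⟩ := hx
    exact ⟨s y, by rw [← hs]; rfl⟩⟩
  exact Groth.Agent.S15338.result k X hdim r E hE P.left P.hom htriv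

end Groth.Agent.S15343
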