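import Groth.Statements.S15347
import Groth.Agent.L19.ImmLift

set_option autoImplicit false
set_option backward.isDefEq.respectTransparency.types false
set_option backward.isDefEq.respectTransparency false
universe u
open CategoryTheory CategoryTheory.Limits AlgebraicGeometry
open Mor

namespace Groth.Agent.S15347

/-- Let f : Y ⟶ X be an immersion of schemes. Then: for every valuation ring A with fraction field K and
every commutative square Spec K ⟶ Y, Spec A ⟶ X over f such that some morphism from the spectrum of
the residue field of A to Y lies over Spec A ⟶ X, the square admits a lift; and for every integral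
domain A and every morphism s : Spec A ⟶ X such that the points of a dense subset of Spec A lift to
Y (the residue field of each such point maps to Y over s), there is a nonempty open subscheme U of
Spec A with a morphism U ⟶ Y over s. (The published statement is for a representable, locally
finitely presented morphism of algebraic stacks with locally Noetherian target and a quasi-compact
immersion, and also lists that f is a monomorphism; this row is the case of schemes, for any
immersion and any target.) -/
theorem result {X Y : Scheme.{u}} (f : Y ⟶ X) [IsImmersion f] :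
    (∀ S : ValuativeCommSq f,
        (∃ l₀ : Spec (CommRingCat.of (IsLocalRing.ResidueField S.R)) ⟶ Y,
            l₀ ≫ f = Spec.map (CommRingCat.ofHom (IsLocalRing.residue S.R)) ≫ S.i₂) →
          S.commSq.HasLift) ∧
      ∀ (A : Type u) [CommRing A] [IsDomain A] (s : Spec (CommRingCat.of A) ⟶ X) (D : Set ↥(Spec (CommRingCat.of A))),
        Dense D →
        (∀ p ∈ D, ∃ l : Spec ((Spec (CommRingCat.of A)).residueField p) ⟶ Y,
            l ≫ f = (Spec (CommRingCat.of A)).fromSpecResidueField p ≫ s) →
          ∃ U : (Spec (CommRingCat.of A)).Opens, (U : Set ↥(Spec (CommRingCat.of A))).Nonempty ∧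
            ∃ l : (U : Scheme.{u}) ⟶ Y, l ≫ f = U.ι ≫ s := by
  refine ⟨fun S ⟨l₀, hl₀⟩ => ?_, fun A _ _ s D hD hl => ?_⟩
  · have hW : S.i₂ (IsLocalRing.closedPoint S.R) ∈ Set.range f := by
      refine ⟨l₀ (IsLocalRing.closedPoint _), ?_⟩
      rw [← Scheme.Hom.comp_apply, hl₀, Scheme.Hom.comp_apply]
      exact congrArg _ (IsLocalRing.comap_closedPoint (IsLocalRing.residue S.R))
    set η : ↥(Spec (CommRingCat.of S.R)) :=
      Spec.map (CommRingCat.ofHom (algebraMap S.R S.K)) (IsLocalRing.closedPoint S.K) with hη
    have hηr : S.i₂ η ∈ Set.range f := by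
      refine ⟨S.i₁ (IsLocalRing.closedPoint S.K), ?_⟩
      rw [hη, ← Scheme.Hom.comp_apply, ← Scheme.Hom.comp_apply, S.commSq.w]
    have hηsp : ∀ p, η ⤳ p := fun p => by
      rw [← PrimeSpectrum.le_iff_specializes]
      intro a (ha : algebraMap S.R S.K a ∈ (IsLocalRing.closedPoint S.K).asIdeal)
      rw [show (IsLocalRing.closedPoint S.K).asIdeal = ⊥ from
        IsLocalRing.isField_iff_maximalIdeal_eq.mp (Field.toIsField _), Ideal.mem_bot,
        map_eq_zero_iff _ (IsFractionRing.injective S.R S.K)] at ha
      exact ha ▸ zero_mem _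
    have hr : Set.range S.i₂ ⊆ Set.range f := by
      rintro _ ⟨p, rfl⟩
      have h1 : S.i₂ p ∈ (f.coborderRange : Set X) :=
        ((IsLocalRing.specializes_closedPoint p).map S.i₂.continuous).mem_open f.coborderRange.2
          (subset_coborder hW)
      have h2 : S.i₂ p ∈ closure (Set.range f) :=
        ((hηsp p).map S.i₂.continuous).mem_closed isClosed_closure (subset_closure hηr)
      exact (closure_inter_coborder (s := Set.range f)).subset ⟨h2, h1⟩
    obtain ⟨l, hl⟩ := Groth.L19.exists_lift_of_isImmersion f S.i₂ hr
    refine ⟨⟨⟨l, ?_, hl⟩⟩⟩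
    rw [← cancel_mono f, Category.assoc, hl]
    exact S.commSq.w.symm
  · let U : (Spec (CommRingCat.of A)).Opens := s ⁻¹ᵁ f.coborderRange
    have hDr : ∀ p ∈ D, s p ∈ Set.range f := fun p hp => by
      obtain ⟨l, hl⟩ := hl p hp
      refine ⟨l (IsLocalRing.closedPoint _), ?_⟩
      rw [← Scheme.Hom.comp_apply, hl, Scheme.Hom.comp_apply, Scheme.fromSpecResidueField_apply]
    have hne : (U : Set ↥(Spec (CommRingCat.of A))).Nonempty := by
      obtain ⟨p, hp⟩ := hD.nonempty
      exact ⟨p, subset_coborder (hDr p hp)⟩
    have hr : Set.range (U.ι ≫ s) ⊆ Set.range f := by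
      rintro _ ⟨⟨p, hp⟩, rfl⟩
      refine (closure_inter_coborder (s := Set.range f)).subset ⟨?_, hp⟩
      exact closure_mono (show ⇑s '' D ⊆ Set.range f from Set.image_subset_iff.mpr hDr)
        (image_closure_subset_closure_image s.continuous ⟨p, hD p, rfl⟩)
    exact ⟨U, hne, Groth.L19.exists_lift_of_isImmersion f (U.ι ≫ s) hr⟩

end Groth.Agent.S15347
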