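import Groth.Statements.S15349
import Groth.Agent.L19.MonoImmersion

set_option autoImplicit false
set_option backward.isDefEq.respectTransparency.types false
set_option backward.isDefEq.respectTransparency false
set_option linter.style.haveILetI false
universe u
open CategoryTheory CategoryTheory.Limits AlgebraicGeometry
open Mor

namespace Groth.Agent.S15349

/-- Let X be a locally Noetherian scheme and f : Y ⟶ X a monomorphism locally of finite presentation
such that, for every integral domain A and every morphism s : Spec A ⟶ X for which the points of a
dense subset of Spec A lift to Y (the residue field of each such point maps to Y over s), some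
nonempty open subscheme of Spec A maps to Y over s. Then f is quasi-compact. (The published remark
is for a representable morphism of algebraic stacks; this row is the case of schemes.) -/
theorem result {X Y : Scheme.{u}} [IsLocallyNoetherian X]
    (f : Y ⟶ X) [LocallyOfFinitePresentation f] [Mono f]
    (hc : ∀ (A : Type u) [CommRing A] [IsDomain A] (s : Spec (CommRingCat.of A) ⟶ X) (D : Set ↥(Spec (CommRingCat.of A))),
        Dense D →
        (∀ p ∈ D, ∃ l : Spec ((Spec (CommRingCat.of A)).residueField p) ⟶ Y,
            l ≫ f = (Spec (CommRingCat.of A)).fromSpecResidueField p ≫ s) →
          ∃ U : (Spec (CommRingCat.of A)).Opens, (U : Set ↥(Spec (CommRingCat.of A))).Nonempty ∧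
            ∃ l : (U : Scheme.{u}) ⟶ Y, l ≫ f = U.ι ≫ s) :
    QuasiCompact f := Groth.L19.quasiCompact_of_denseLift f hc

end Groth.Agent.S15349
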