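import Groth.Statements.S15350
import Groth.Agent.L19.SectionComp

set_option autoImplicit false
set_option backward.isDefEq.respectTransparency.types false
set_option backward.isDefEq.respectTransparency false
set_option linter.style.haveILetI false
universe u
open CategoryTheory CategoryTheory.Limits AlgebraicGeometry
open MoreMor

namespace Groth.Agent.S15350

/-- Let f : X ⟶ S be smooth, quasi-compact and quasi-separated, let g : S' ⟶ S be universally open and
let e : S' ⟶ X satisfy e ≫ f = g. Then there is an open subset U of X (necessarily unique) such that
for every point s of S, U ∩ f⁻¹(s) is the union of those connected components of the fibre f⁻¹(s),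
with its subspace topology, which meet e(S'). -/
theorem result {S S' X : Scheme.{u}} (f : X ⟶ S)
    [Smooth f] [QuasiCompact f] [QuasiSeparated f] (g : S' ⟶ S) [UniversallyOpen g] (e : S' ⟶ X)
    (he : e ≫ f = g) :
    ∃ U : X.Opens, ∀ s : S, (U : Set ↥X) ∩ f.base ⁻¹' {s} =
      ⋃ x ∈ Set.range e.base ∩ f.base ⁻¹' {s}, connectedComponentIn (f.base ⁻¹' {s}) x := Groth.L19.SectionComp.exists_open f g e he

end Groth.Agent.S15350
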