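import Groth.Statements.S15352
import Groth.Agent.Lead.MaxSubgroup
import Groth.Agent.L13.IdComp
import Groth.Agent.L08.AbelianGrp
import Mathlib.AlgebraicGeometry.AlgClosed.Basic

set_option autoImplicit false
universe u
open CategoryTheory CategoryTheory.Limits MonoidalCategory CartesianMonoidalCategory MonObj GrpObj AlgebraicGeometry
open GrpSch

namespace Groth.Agent.S15352

/-- Let k be an algebraically closed field, G a group scheme locally of finite type over k, G⁰ ⊆ G the
connected component of the unit point, and U a nonempty open subscheme of G contained in G⁰. Then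
every point of G⁰ is in the image of the morphism U ×_k U ⟶ G, (g, h) ↦ g·h⁻¹. (The published
statement writes U as an open of G mapping to G⁰ × G⁰; this row makes the containment U ⊆ G⁰
explicit.) -/
theorem result (k : Type u) [Field k] [IsAlgClosed k]
    (G : Over (Spec (CommRingCat.of k))) [GrpObj G] [LocallyOfFiniteType G.hom] (U : G.left.Opens)
    (hne : (U : Set ↥G.left).Nonempty)
    (hU : (U : Set ↥G.left) ⊆ connectedComponent (η[G].left.base (IsLocalRing.closedPoint k))) :
    connectedComponent (η[G].left.base (IsLocalRing.closedPoint k)) ⊆ Set.range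
      ((((Over.homMk U.ι rfl : Over.mk (U.ι ≫ G.hom) ⟶ G) ⊗ₘ
          ((Over.homMk U.ι rfl : Over.mk (U.ι ≫ G.hom) ⟶ G) ≫ ι[G])) ≫ μ[G]).left.base) := by
  haveI : JacobsonSpace G.left := LocallyOfFiniteType.jacobsonSpace G.hom
  let C := connectedComponent (η[G].left (IsLocalRing.closedPoint k))
  have hC : IsIrreducible C := (Groth.Agent.L13.IdComp.connectedComponent_one G).1
  let Uo : Over (Spec (CommRingCat.of k)) := Over.mk (U.ι ≫ G.hom)
  let iU : Uo ⟶ G := Over.homMk U.ι rfl
  let m : Uo ⊗ Uo ⟶ G := (iU ⊗ₘ (iU ≫ ι[G])) ≫ μ[G]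
  haveI : UniversallyOpen G.hom := inferInstance
  -- `m` is open
  have hm : IsOpen (Set.range m.left) := by
    haveI hι : IsIso ι[G] := ⟨ι[G], by simp, by simp⟩
    haveI : IsIso ι[G].left := inferInstanceAs (IsIso ((Over.forget _).map ι[G]))
    haveI : UniversallyOpen (Groth.Lead.MaxSubgroup.act iU).left := by
      refine Groth.Lead.MaxSubgroup.act_prop @UniversallyOpen iU ?_
      exact (inferInstance : UniversallyOpen (U.ι ≫ G.hom))
    haveI : UniversallyOpen (Uo ◁ (iU ≫ ι[G])).left := by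
      refine MorphismProperty.of_isPullback (Groth.L25.Actions.isPullback_whiskerLeft_left Uo (iU ≫ ι[G])).flip ?_
      rw [Over.comp_left]
      exact (inferInstance : UniversallyOpen (U.ι ≫ ι[G].left))
    have e : m = (Uo ◁ (iU ≫ ι[G])) ≫ Groth.Lead.MaxSubgroup.act iU := by
      simp only [m]
      rw [MonObj.mul_eq_mul G]
      simp [MonObj.comp_mul]
    rw [e, Over.comp_left]
    exact Scheme.Hom.isOpenMap _ |>.isOpen_range
  show C ⊆ Set.range m.left
  -- rational points
  have hpt : ∀ x : G.left, IsClosed ({x} : Set G.left) →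
      ∃ a : 𝟙_ (Over (Spec (CommRingCat.of k))) ⟶ G, a.left (IsLocalRing.closedPoint k) = x := fun x hx =>
    ⟨Over.homMk (pointOfClosedPoint G.hom x hx) (pointOfClosedPoint_comp G.hom x hx),
      pointOfClosedPoint_apply G.hom x hx _⟩
  have hcl : ∀ x ∈ C, IsClosed ({x} : Set G.left) → x ∈ Set.range m.left := by
    intro x hxC hx
    obtain ⟨a, rfl⟩ := hpt x hx
    let L : G ⟶ G := (toUnit G ≫ a) * 𝟙 G
    have hL : ∀ b : 𝟙_ (Over (Spec (CommRingCat.of k))) ⟶ G, b ≫ L = a * b := fun b => by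
      rw [MonObj.comp_mul, ← Category.assoc, toUnit_unique (b ≫ toUnit G) (𝟙 _), Category.id_comp, Category.comp_id]
    let L' : G ⟶ G := (toUnit G ≫ a⁻¹) * 𝟙 G
    have hLL : L' ≫ L = 𝟙 G := by
      show L' ≫ ((toUnit G ≫ a) * 𝟙 G) = _
      rw [MonObj.comp_mul, ← Category.assoc, toUnit_unique (L' ≫ toUnit G) (toUnit G), Category.comp_id]
      show (toUnit G ≫ a) * ((toUnit G ≫ a⁻¹) * 𝟙 G) = _
      rw [GrpObj.comp_inv, mul_inv_cancel_left]
    obtain ⟨y, hy⟩ := hne
    have hy' : L.left (L'.left y) = y := by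
      rw [← Scheme.Hom.comp_apply, ← Over.comp_left, hLL]; rfl
    have hL'C : L'.left y ∈ C := by
      have h2 : L'.left '' C ⊆ C := by
        refine (isConnected_connectedComponent.image _ L'.left.continuous.continuousOn).subset_connectedComponent
          (x := η[G].left (IsLocalRing.closedPoint k)) ⟨a.left (IsLocalRing.closedPoint k), hxC, ?_⟩
        rw [← Scheme.Hom.comp_apply, ← Over.comp_left, show a ≫ L' = η[G] by
          rw [MonObj.comp_mul, ← Category.assoc, toUnit_unique (a ≫ toUnit G) (𝟙 _), Category.id_comp,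
            Category.comp_id, inv_mul_cancel, MonObj.one_eq_one]]
      exact h2 ⟨y, hU hy, rfl⟩
    obtain ⟨w, -, hwU, hwL⟩ := hC.2 (U : Set G.left) (L.left ⁻¹' U) U.2 (U.2.preimage L.left.continuous)
      ⟨y, hU hy, hy⟩ ⟨L'.left y, hL'C, show L.left _ ∈ U by rw [hy']; exact hy⟩
    obtain ⟨b₀, ⟨hbU, hbL⟩, hb₀⟩ := nonempty_inter_closedPoints (show (((U : Set G.left) ∩ L.left ⁻¹' U)).Nonempty from ⟨w, hwU, hwL⟩)
      (U.2.inter (U.2.preimage L.left.continuous)).isLocallyClosed
    obtain ⟨b, rfl⟩ := hpt b₀ hb₀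
    haveI : Subsingleton ↥(Spec (CommRingCat.of k)) := inferInstanceAs (Subsingleton (PrimeSpectrum k))
    have lift1 : ∀ c : 𝟙_ (Over (Spec (CommRingCat.of k))) ⟶ G, c.left (IsLocalRing.closedPoint k) ∈ U →
        ∃ d : 𝟙_ (Over (Spec (CommRingCat.of k))) ⟶ Uo, d ≫ iU = c := fun c hc => by
      have hr : Set.range c.left ⊆ Set.range U.ι := by
        rintro _ ⟨p, rfl⟩
        rw [Scheme.Opens.range_ι, Subsingleton.elim (α := ↥(Spec (CommRingCat.of k))) p (IsLocalRing.closedPoint k)]
        exact hc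
      refine ⟨Over.homMk (IsOpenImmersion.lift U.ι c.left hr) ?_, ?_⟩
      · show _ ≫ U.ι ≫ G.hom = _
        rw [IsOpenImmersion.lift_fac_assoc]; exact Over.w c
      · ext; exact IsOpenImmersion.lift_fac _ _ _
    obtain ⟨d₁, hd₁⟩ := lift1 (a * b) (by rw [← hL, Over.comp_left, Scheme.Hom.comp_apply]; exact hbL)
    obtain ⟨d₂, hd₂⟩ := lift1 b hbU
    refine ⟨(lift d₁ d₂).left (IsLocalRing.closedPoint k), ?_⟩
    rw [← Scheme.Hom.comp_apply, ← Over.comp_left]
    congr 2
    simp only [m]
    rw [MonObj.mul_eq_mul G, ← Category.assoc, MonObj.comp_mul, lift_map, lift_fst, lift_snd, ← Category.assoc, hd₁, hd₂]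
    rw [show b ≫ ι[G] = b⁻¹ from (Hom.inv_def b).symm, mul_inv_cancel_right]
  intro x hx
  by_contra hne'
  obtain ⟨z, ⟨hzC, hzR⟩, hz⟩ := nonempty_inter_closedPoints (show (C ∩ (Set.range m.left)ᶜ).Nonempty from ⟨x, hx, hne'⟩)
    (isClosed_connectedComponent.inter hm.isClosed_compl).isLocallyClosed
  exact hzR (hcl z hzC hz)

end Groth.Agent.S15352
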