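import Groth.Statements.S15353
import Groth.Agent.L01.PicNil

set_option autoImplicit false
universe u
open CAlg

namespace Groth.Agent.S15353

/-- Let f : A' → A be a surjective ring homomorphism whose kernel is a nilpotent ideal. Then the induced
homomorphism of Picard groups Pic(A') → Pic(A), base change of invertible modules along f, is
bijective. -/
theorem result {A' A : Type u} [CommRing A'] [CommRing A]
    (f : A' →+* A) (hf : Function.Surjective f) (hker : IsNilpotent (RingHom.ker f)) :
    Function.Bijective (CommRing.Pic.mapRingHom f) := Groth.L01.picMap_bijective f hf hker

end Groth.Agent.S15353
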