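import Groth.Statements.S15354

set_option autoImplicit false
universe u
open CategoryTheory CategoryTheory.Limits AlgebraicGeometry
open Mor

namespace Groth.Agent.S15354

/-- Let f : Y ⟶ X be a morphism of schemes, A a valuation ring with fraction field K and residue field
k, and ξ, η : Spec A ⟶ Y two A-points of Y over the same A-point of X. If ξ and η restrict to the
same K-point and to the same k-point of Y, then ξ = η. (The published statement is an equivalence,
for algebraic spaces locally of finite presentation over a Noetherian scheme, between local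
separatedness of f and conditions (a), (b); this row is the necessity of (a) in the case of schemes,
where no hypothesis on f is needed.) -/
theorem result {X Y : Scheme.{u}} (f : Y ⟶ X)
    (A : Type u) [CommRing A] [IsDomain A] [ValuationRing A] (K : Type u) [Field K] [Algebra A K]
    [IsFractionRing A K] (ξ η : Spec (CommRingCat.of A) ⟶ Y) (hf : ξ ≫ f = η ≫ f)
    (hK : Spec.map (CommRingCat.ofHom (algebraMap A K)) ≫ ξ = Spec.map (CommRingCat.ofHom (algebraMap A K)) ≫ η)
    (hk : Spec.map (CommRingCat.ofHom (IsLocalRing.residue A)) ≫ ξ =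
      Spec.map (CommRingCat.ofHom (IsLocalRing.residue A)) ≫ η) :
    ξ = η := by
  let x₀ : Spec (CommRingCat.of A) := IsLocalRing.closedPoint A
  have he : ξ x₀ = η x₀ := by
    let c : Spec (CommRingCat.of (IsLocalRing.ResidueField A)) := IsLocalRing.closedPoint (IsLocalRing.ResidueField A)
    have e : Spec.map (CommRingCat.ofHom (IsLocalRing.residue A)) c = x₀ :=
      IsLocalRing.comap_closedPoint (IsLocalRing.residue A)
    rw [← e, ← Scheme.Hom.comp_apply, ← Scheme.Hom.comp_apply, hk]
  obtain ⟨(V : Y.Opens), hV, hxV, -⟩ := TopologicalSpace.Opens.isBasis_iff_nbhd.mp Y.isBasis_affineOpens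
    (TopologicalSpace.Opens.mem_top (ξ x₀))
  have : IsAffine V := hV
  have hr : ∀ g : Spec (CommRingCat.of A) ⟶ Y, g x₀ ∈ V → Set.range g ⊆ Set.range V.ι := by
    rintro g hg _ ⟨w, rfl⟩
    rw [Scheme.Opens.range_ι]
    exact ((IsLocalRing.specializes_closedPoint w).map g.continuous).mem_open V.isOpen hg
  let ξ' := IsOpenImmersion.lift V.ι ξ (hr ξ hxV)
  let η' := IsOpenImmersion.lift V.ι η (hr η (he ▸ hxV))
  haveI : IsDominant (Spec.map (CommRingCat.ofHom (algebraMap A K))) := by
    refine ⟨?_⟩
    exact PrimeSpectrum.denseRange_comap_iff_ker_le_nilRadical _ |>.mpr (by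
      rw [show RingHom.ker (CommRingCat.ofHom (algebraMap A K)).hom = ⊥ from
        (RingHom.injective_iff_ker_eq_bot _).mp (IsFractionRing.injective A K)]
      exact bot_le)
  have : ξ' = η' := ext_of_isDominant (Spec.map (CommRingCat.ofHom (algebraMap A K))) (by
    rw [← cancel_mono V.ι]
    simpa [ξ', η'] using hK)
  calc ξ = ξ' ≫ V.ι := (IsOpenImmersion.lift_fac _ _ _).symm
    _ = η' ≫ V.ι := by rw [this]
    _ = η := IsOpenImmersion.lift_fac _ _ _

end Groth.Agent.S15354
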