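import Groth.Statements.S15355

set_option autoImplicit false
universe u
open CategoryTheory CategoryTheory.Limits AlgebraicGeometry
open Mor

namespace Groth.Agent.S15355

/-- Let f : Y ⟶ X be a morphism of schemes, A an integral domain and ξ, η : Spec A ⟶ Y two A-points of Y
over the same A-point of X. If ξ and η induce the same κ(p)-point of Y at every point p of some
dense subset of Spec A, then ξ and η agree on a nonempty open subscheme of Spec A. (The published
statement is an equivalence, for algebraic spaces locally of finite presentation over a Noetherian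
scheme, between local separatedness of f and conditions (a), (b); this row is the necessity of (b)
in the case of schemes, where no hypothesis on f is needed.) -/
theorem result {X Y : Scheme.{u}} (f : Y ⟶ X)
    (A : Type u) [CommRing A] [IsDomain A] (ξ η : Spec (CommRingCat.of A) ⟶ Y) (hf : ξ ≫ f = η ≫ f)
    (D : Set ↥(Spec (CommRingCat.of A))) (hD : Dense D)
    (hpt : ∀ p ∈ D, (Spec (CommRingCat.of A)).fromSpecResidueField p ≫ ξ =
      (Spec (CommRingCat.of A)).fromSpecResidueField p ≫ η) :
    ∃ U : (Spec (CommRingCat.of A)).Opens, (U : Set ↥(Spec (CommRingCat.of A))).Nonempty ∧ U.ι ≫ ξ = U.ι ≫ η := by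
  obtain ⟨p, hp⟩ := hD.nonempty
  have he : ξ p = η p := by
    let c : Spec ((Spec (CommRingCat.of A)).residueField p) := default
    rw [← Scheme.fromSpecResidueField_apply p c, ← Scheme.Hom.comp_apply, ← Scheme.Hom.comp_apply, hpt p hp]
  obtain ⟨(V : Y.Opens), hV, hxV, -⟩ := TopologicalSpace.Opens.isBasis_iff_nbhd.mp Y.isBasis_affineOpens
    (TopologicalSpace.Opens.mem_top (ξ p))
  have : IsAffine V := hV
  let W := ξ ⁻¹ᵁ V ⊓ η ⁻¹ᵁ V
  refine ⟨W, ⟨p, hxV, show η p ∈ V from he ▸ hxV⟩, ?_⟩
  have hr : ∀ g : Spec (CommRingCat.of A) ⟶ Y, W ≤ g ⁻¹ᵁ V → Set.range (W.ι ≫ g) ⊆ Set.range V.ι := by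
    rintro g hg _ ⟨w, rfl⟩
    rw [Scheme.Opens.range_ι]
    exact hg w.2
  let ξ' := IsOpenImmersion.lift V.ι (W.ι ≫ ξ) (hr ξ inf_le_left)
  let η' := IsOpenImmersion.lift V.ι (W.ι ≫ η) (hr η inf_le_right)
  have hW : Dense (W.ι ⁻¹' D) := hD.preimage W.ι.isOpenEmbedding.isOpenMap
  have : ξ' = η' := by
    refine ext_of_fromSpecResidueField_eq ξ' η' (terminal.from _) _ hW (fun w hw => ?_) (terminal.hom_ext _ _)
    rw [← cancel_mono V.ι]
    simp only [Category.assoc, ξ', η', IsOpenImmersion.lift_fac]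
    rw [← Scheme.Hom.SpecMap_residueFieldMap_fromSpecResidueField_assoc,
      ← Scheme.Hom.SpecMap_residueFieldMap_fromSpecResidueField_assoc]
    exact congrArg _ (hpt _ hw)
  calc W.ι ≫ ξ = ξ' ≫ V.ι := (IsOpenImmersion.lift_fac _ _ _).symm
    _ = η' ≫ V.ι := by rw [this]
    _ = W.ι ≫ η := IsOpenImmersion.lift_fac _ _ _

end Groth.Agent.S15355
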