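import Groth.Statements.S15356
import Groth.Agent.L24.St.MonoImm
-- import your own Groth.Agent.* helpers here

set_option autoImplicit false
universe u
open CategoryTheory AlgebraicGeometry
open AlgSt

namespace Groth.Agent.S15356

/-- Let S be a scheme, 𝒳 a locally Noetherian algebraic stack over S and f : 𝒴 ⟶ 𝒳 a morphism of
algebraic stacks over S which is representable by algebraic spaces and locally of finite
presentation. Assume: f is a monomorphism; for every discrete valuation ring A with fraction field K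
and residue field k and every morphism a : Spec A ⟶ 𝒳 whose restrictions to Spec K and to Spec k
both lift to 𝒴 up to 2-isomorphism, a lifts to 𝒴 up to 2-isomorphism; and for every integral domain
A and every a : Spec A ⟶ 𝒳 whose restrictions to the points of a dense subset of Spec A (through
their residue fields) lift to 𝒴, the restriction of a to some nonempty open subscheme of Spec A
lifts to 𝒴. Then f is a quasi-compact immersion: for every scheme U and every U-valued object of 𝒳
the 2-fibre product (Sch/U) ×_𝒳 𝒴 is an algebraic space whose morphism to U is representable by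
schemes and a quasi-compact immersion after every base change. (The published statement takes all
algebraic stacks and algebraic spaces quasi-separated; this row does not assume that.) -/
theorem result (S : Scheme.{u})
    (𝒳 𝒴 : AlgSt.Cat S) (h𝒳 : AlgSt.IsAlgStack Scheme.fppfPrecoverage 𝒳)
    (h𝒴 : AlgSt.IsAlgStack Scheme.fppfPrecoverage 𝒴)
    (hnoeth : AlgSt.SmoothLocally (fun X => IsLocallyNoetherian X) 𝒳) (f : 𝒴 ⥤ᵇ 𝒳)
    (hrep : AlgSt.RepByAlgSp1 f) (hlfp : AlgSt.RepByAlgSpWith (AlgSp.LocP @LocallyOfFinitePresentation) f)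
    (ha : AlgSt.IsMono f)
    (hb : ∀ (A : Type u) [CommRing A] [IsDomain A] [IsDiscreteValuationRing A] (K : Type u) [Field K] [Algebra A K]
      [IsFractionRing A K] (sA : Spec (CommRingCat.of A) ⟶ S) (a : FibCat.overCat (Over.mk sA) ⥤ᵇ 𝒳),
      (∃ yK : FibCat.overCat (Over.mk (Spec.map (CommRingCat.ofHom (algebraMap A K)) ≫ sA)) ⥤ᵇ 𝒴,
          Nonempty (BasedFunctor.comp yK f ≅ BasedFunctor.comp (AlgSt.overMap (Over.homMk (Spec.map (CommRingCat.ofHom (algebraMap A K))) rfl : Over.mk ((Spec.map (CommRingCat.ofHom (algebraMap A K))) ≫ sA) ⟶ Over.mk sA)) a)) →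
      (∃ yk : FibCat.overCat (Over.mk (Spec.map (CommRingCat.ofHom (IsLocalRing.residue A)) ≫ sA)) ⥤ᵇ 𝒴,
          Nonempty (BasedFunctor.comp yk f ≅ BasedFunctor.comp (AlgSt.overMap (Over.homMk (Spec.map (CommRingCat.ofHom (IsLocalRing.residue A))) rfl : Over.mk ((Spec.map (CommRingCat.ofHom (IsLocalRing.residue A))) ≫ sA) ⟶ Over.mk sA)) a)) →
      ∃ y : FibCat.overCat (Over.mk sA) ⥤ᵇ 𝒴, Nonempty (BasedFunctor.comp y f ≅ a))
    (hc : ∀ (A : Type u) [CommRing A] [IsDomain A] (sA : Spec (CommRingCat.of A) ⟶ S)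
      (a : FibCat.overCat (Over.mk sA) ⥤ᵇ 𝒳) (D : Set ↥(Spec (CommRingCat.of A))), Dense D →
      (∀ p ∈ D, ∃ yp : FibCat.overCat (Over.mk ((Spec (CommRingCat.of A)).fromSpecResidueField p ≫ sA)) ⥤ᵇ 𝒴,
          Nonempty (BasedFunctor.comp yp f ≅ BasedFunctor.comp (AlgSt.overMap (Over.homMk ((Spec (CommRingCat.of A)).fromSpecResidueField p) rfl : Over.mk (((Spec (CommRingCat.of A)).fromSpecResidueField p) ≫ sA) ⟶ Over.mk sA)) a)) →
      ∃ U : (Spec (CommRingCat.of A)).Opens, (U : Set ↥(Spec (CommRingCat.of A))).Nonempty ∧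
        ∃ yU : FibCat.overCat (Over.mk (U.ι ≫ sA)) ⥤ᵇ 𝒴,
          Nonempty (BasedFunctor.comp yU f ≅ BasedFunctor.comp (AlgSt.overMap (Over.homMk (U.ι) rfl : Over.mk ((U.ι) ≫ sA) ⟶ Over.mk sA)) a)) :
    AlgSt.RepByAlgSpWith (AlgSp.RepWith (@IsImmersion ⊓ @QuasiCompact)) f := by
  exact Groth.L24.St.repWith_qcImmersion_of_lifts h𝒳 h𝒴 hnoeth f hrep hlfp ha hb hc

end Groth.Agent.S15356
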