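
import Groth.Statements.S1536
import Groth.Agent.L03.GeomIrred
import Groth.Agent.L26.AV.Albanese
import Mathlib.AlgebraicGeometry.Geometrically.Reduced
import Mathlib.RingTheory.Artinian.Algebra

set_option autoImplicit false
universe u
open CategoryTheory CategoryTheory.Limits AlgebraicGeometry
open Variety
open scoped TensorProduct

namespace Groth.Agent.S1536

/-- A reduced algebra integral over a field without non-trivial idempotents is a field. -/
theorem isField_of_connected (k R : Type u) [Field k] [CommRing R] [Algebra k R] [Algebra.IsIntegral k R]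
    [_root_.IsReduced R] [Nontrivial R] (h : ∀ e : R, IsIdempotentElem e → e = 0 ∨ e = 1) : IsField R := by
  refine ⟨exists_pair_ne R, mul_comm, fun {x} hx => ?_⟩
  haveI : Module.Finite k (Algebra.adjoin k {x}) := Algebra.finite_adjoin_simple_of_isIntegral (Algebra.IsIntegral.isIntegral x)
  haveI : IsArtinianRing (Algebra.adjoin k ({x} : Set R)) := IsArtinianRing.of_finite k _
  obtain ⟨n, y, hy⟩ := IsArtinian.exists_pow_succ_smul_dvd (⟨x, Algebra.self_mem_adjoin_singleton k x⟩ : Algebra.adjoin k ({x} : Set R)) (1 : Algebra.adjoin k ({x} : Set R))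
  have hy' : x ^ n.succ * y.1 = x ^ n := by
    have := congrArg Subtype.val hy
    simpa using this
  have h0 : x * (1 - x * y.1) = 0 := by
    refine IsReduced.eq_zero _ ⟨n + 1, ?_⟩
    rw [mul_pow, pow_succ (1 - x * y.1)]
    calc x ^ (n + 1) * ((1 - x * y.1) ^ n * (1 - x * y.1))
        = (1 - x * y.1) ^ n * x * (x ^ n - x ^ n.succ * y.1) := by rw [Nat.succ_eq_add_one]; ring
      _ = 0 := by rw [hy', sub_self, mul_zero]
  rcases h (x * y.1) (by
    show x * y.1 * (x * y.1) = x * y.1
    linear_combination -y.1 * h0) with h1 | h1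
  · exact absurd (by linear_combination h0 + x * h1) hx
  · exact ⟨y.1, h1⟩

/-- A field extension with reduced connected square is trivial. -/
theorem bijective_algebraMap_of_square (k L : Type u) [Field k] [Field L] [Algebra k L] [Algebra.IsAlgebraic k L]
    [_root_.IsReduced (L ⊗[k] L)] [ConnectedSpace (PrimeSpectrum (L ⊗[k] L))] :
    Function.Bijective (algebraMap k L) := by
  refine ⟨(algebraMap k L).injective, fun α => ?_⟩
  by_contra hnot
  haveI : Algebra.IsIntegral k (L ⊗[k] L) := by
    haveI : Algebra.IsIntegral k L := Algebra.IsAlgebraic.isIntegral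
    haveI : Algebra.IsIntegral L (L ⊗[k] L) := Algebra.IsIntegral.tensorProduct k L L
    exact Algebra.IsIntegral.trans L
  obtain ⟨hne, hcl⟩ := (Groth.L03.GeomIrred.connectedSpace_iff_idem (A := L ⊗[k] L)).1 inferInstance
  have hfield : IsField (L ⊗[k] L) := isField_of_connected k (L ⊗[k] L) hcl
  have hinj : Function.Injective (Algebra.TensorProduct.lmul' k : L ⊗[k] L →ₐ[k] L) :=
    (injective_iff_map_eq_zero _).mpr fun x hx => by
      by_contra hx0
      obtain ⟨y, hy⟩ := hfield.mul_inv_cancel hx0
      simpa [hx] using congrArg (Algebra.TensorProduct.lmul' k : L ⊗[k] L →ₐ[k] L) hy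
  have he : (1 : L) ⊗ₜ[k] α = α ⊗ₜ[k] (1 : L) := hinj (by simp)
  obtain ⟨φ, hφ⟩ : ∃ φ : L →ₗ[k] k, φ 1 = 1 ∧ φ α = 0 := by
    have hli : LinearIndependent k ![(1 : L), α] := by
      rw [LinearIndependent.pair_iff]
      intro s t hst
      by_cases ht : t = 0
      · subst ht
        rw [zero_smul, add_zero, Algebra.smul_def, mul_one, map_eq_zero] at hst
        exact ⟨hst, rfl⟩
      · refine absurd ⟨-(t⁻¹ * s), ?_⟩ hnot
        rw [Algebra.smul_def, Algebra.smul_def, mul_one] at hst
        rw [map_neg, map_mul, map_inv₀, eq_comm, eq_neg_iff_add_eq_zero]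
        have ht' : algebraMap k L t ≠ 0 := by simpa using ht
        field_simp
        linear_combination hst
    obtain ⟨φ, hφ⟩ : ∃ φ : L →ₗ[k] k, ∀ i, φ (![(1 : L), α] i) = ![(1 : k), 0] i := by
      obtain ⟨φ, hφ⟩ := LinearMap.exists_extend ((Finsupp.linearCombination k ![(1 : k), 0]).comp hli.repr)
      refine ⟨φ, fun i => ?_⟩
      have := LinearMap.congr_fun hφ ⟨![(1 : L), α] i, Submodule.subset_span ⟨i, rfl⟩⟩
      simp only [LinearMap.comp_apply, Submodule.subtype_apply] at this
      rw [this, hli.repr_eq_single i _ rfl, Finsupp.linearCombination_single, one_smul]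
    exact ⟨φ, hφ 0, hφ 1⟩
  have h2 := congrArg ((TensorProduct.lid k L).toLinearMap ∘ₗ TensorProduct.map φ LinearMap.id) he
  simp [hφ.1, hφ.2] at h2
  exact hnot ⟨0, by rw [map_zero, h2]⟩

/-- For a proper scheme X over a field k which is geometrically reduced and geometrically connected,
H^0(X, O_X) is one-dimensional over k, i.e. the global functions are the constants. -/
theorem result (k : Type u) [Field k] (X : Scheme.{u}) [X.Over (Spec (CommRingCat.of k))] [IsProper (X ↘ (Spec (CommRingCat.of k)))]
    [GeometricallyReduced (X ↘ (Spec (CommRingCat.of k)))] [GeometricallyConnected (X ↘ (Spec (CommRingCat.of k)))] :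
    Module.finrank k (Coh.HH X (Coh.structureModule X) 0) = 1 := by
  classical
  let f := X ↘ Spec (CommRingCat.of k)
  haveI : ConnectedSpace X := GeometricallyConnected.connectedSpace_of_subsingleton (f := f)
  haveI : _root_.Nonempty X := inferInstance
  have hred : ∀ (K : Type u) [Field K] [Algebra k K], IsReduced (Limits.pullback f (Spec.map (CommRingCat.ofHom (algebraMap k K)))) :=
    fun K _ _ => geometrically_iff_of_isClosedUnderIsomorphisms.mp GeometricallyReduced.geometrically_isReduced K _
  haveI : IsReduced X := by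
    haveI := hred k
    haveI : IsIso (Spec.map (CommRingCat.ofHom (algebraMap k k))) := by
      have : IsIso (CommRingCat.ofHom (algebraMap k k)) := by
        show IsIso (𝟙 (CommRingCat.of k)); infer_instance
      infer_instance
    exact isReduced_of_isOpenImmersion (inv (Limits.pullback.fst f (Spec.map (CommRingCat.ofHom (algebraMap k k)))))
  haveI : CompactSpace X := (quasiCompact_iff_compactSpace f).mp inferInstance
  let R := Γ(X, ⊤)
  letI : Algebra k R := ((f.appTop).hom.comp (Scheme.ΓSpecIso (CommRingCat.of k)).inv.hom).toAlgebra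
  haveI : Algebra.IsIntegral k R := ⟨by
    exact (RingHom.IsIntegral.trans _ _ (RingHom.isIntegral_of_surjective _
      (Scheme.ΓSpecIso (CommRingCat.of k)).symm.commRingCatIsoToRingEquiv.surjective)
      (isIntegral_appTop_of_universallyClosed f))⟩
  have hfac : X.toSpecΓ ≫ Spec.map (CommRingCat.ofHom (algebraMap k R)) = f := by
    show X.toSpecΓ ≫ Spec.map ((Scheme.ΓSpecIso (CommRingCat.of k)).inv ≫ f.appTop) = f
    rw [Spec.map_comp, ← Scheme.toSpecΓ_naturality_assoc, ← SpecMap_ΓSpecIso_hom, ← Spec.map_comp]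
    simp
  haveI : Nontrivial R := by
    obtain ⟨x⟩ := ‹_root_.Nonempty X›
    exact PrimeSpectrum.nonempty_iff_nontrivial.1 ⟨X.toSpecΓ x⟩
  haveI : UniversallyClosed X.toSpecΓ := by
    haveI : UniversallyClosed (X.toSpecΓ ≫ Spec.map (CommRingCat.ofHom (algebraMap k R))) := hfac.symm ▸ inferInstance
    exact .of_comp_of_isSeparated _ (Spec.map (CommRingCat.ofHom (algebraMap k R)))
  haveI hsurj : Surjective X.toSpecΓ := ⟨by
    have h1 := X.toSpecΓ.denseRange
    intro z
    have h2 : IsClosed (Set.range X.toSpecΓ) := X.toSpecΓ.isClosedMap.isClosed_range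
    rw [denseRange_iff_closure_range, h2.closure_eq] at h1
    exact h1.symm.subset trivial⟩
  have hRc : ConnectedSpace (PrimeSpectrum R) := X.toSpecΓ.surjective.connectedSpace X.toSpecΓ.continuous
  haveI : _root_.IsReduced R := inferInstanceAs (_root_.IsReduced Γ(X, ⊤))
  letI : Field R := (isField_of_connected k R (Groth.L03.GeomIrred.connectedSpace_iff_idem.1 hRc).2).toField
  haveI : Algebra.IsAlgebraic k R := Algebra.IsIntegral.isAlgebraic
  let m := Limits.pullback.map f (Spec.map (CommRingCat.ofHom (algebraMap k R)))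
    (Spec.map (CommRingCat.ofHom (algebraMap k R))) (Spec.map (CommRingCat.ofHom (algebraMap k R)))
    X.toSpecΓ (𝟙 _) (𝟙 _) (by rw [Category.comp_id, hfac]) (by rw [Category.comp_id, Category.id_comp])
  have hms : Function.Surjective m := fun z =>
    (Scheme.Pullback.range_map _ _ _ _ _ _ _ _ _).symm.subset ⟨X.toSpecΓ.surjective _, ⟨(Limits.pullback.snd (Spec.map (CommRingCat.ofHom (algebraMap k R))) (Spec.map (CommRingCat.ofHom (algebraMap k R)))).base z, rfl⟩⟩
  haveI : ConnectedSpace ↥(Limits.pullback f (Spec.map (CommRingCat.ofHom (algebraMap k R)))) :=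
    geometrically_iff_of_isClosedUnderIsomorphisms.mp GeometricallyConnected.geometrically_connectedSpace R _
  haveI hsc : ConnectedSpace (PrimeSpectrum (R ⊗[k] R)) :=
    ((pullbackSpecIso k R R).hom.homeomorph.surjective.comp hms).connectedSpace
      ((pullbackSpecIso k R R).hom.continuous.comp m.continuous)
  haveI : _root_.IsReduced (R ⊗[k] R) := by
    obtain ⟨x⟩ := ‹_root_.Nonempty X›
    obtain ⟨_, ⟨U, hU, rfl⟩, hxU, -⟩ := X.isBasis_affineOpens.exists_subset_of_mem_open (Set.mem_univ x) isOpen_univ
    let A := Γ(X, U)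
    haveI : _root_.Nonempty U := ⟨⟨x, hxU⟩⟩
    letI : Algebra R A := (X.presheaf.map (homOfLE (le_top (a := U))).op).hom.toAlgebra
    letI : Algebra k A := ((algebraMap R A).comp (algebraMap k R)).toAlgebra
    haveI : IsScalarTower k R A := .of_algebraMap_eq fun _ => rfl
    let i : R →ₐ[k] A := IsScalarTower.toAlgHom k R A
    have hi : Function.Injective i := (algebraMap R A).injective
    have hfU : hU.fromSpec ≫ f = Spec.map (CommRingCat.ofHom (algebraMap k A)) := by
      show _ = Spec.map ((CommRingCat.ofHom (algebraMap k R)) ≫ X.presheaf.map (homOfLE (le_top (a := U))).op)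
      rw [Spec.map_comp, ← hfac, ← Category.assoc]
      congr 1
      exact hU.fromSpec_toSpecΓ
    let c : Limits.pullback (Spec.map (CommRingCat.ofHom (algebraMap k A))) (Spec.map (CommRingCat.ofHom (algebraMap k R))) ⟶
        Limits.pullback f (Spec.map (CommRingCat.ofHom (algebraMap k R))) :=
      Limits.pullback.map _ _ _ _ hU.fromSpec (𝟙 _) (𝟙 _) (by rw [Category.comp_id, hfU]) (by rw [Category.comp_id, Category.id_comp])
    haveI : IsOpenImmersion c := MorphismProperty.pullbackMap (P := @IsOpenImmersion) inferInstance inferInstance hfU.symm (Category.id_comp _).symm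
    haveI := hred R
    haveI : IsReduced (Limits.pullback (Spec.map (CommRingCat.ofHom (algebraMap k A))) (Spec.map (CommRingCat.ofHom (algebraMap k R)))) :=
      isReduced_of_isOpenImmersion c
    haveI : IsReduced (Spec (CommRingCat.of (A ⊗[k] R))) := isReduced_of_isOpenImmersion (pullbackSpecIso k A R).inv
    haveI : _root_.IsReduced (A ⊗[k] R) := affine_isReduced_iff (CommRingCat.of (A ⊗[k] R)) |>.mp inferInstance
    exact isReduced_of_injective (Algebra.TensorProduct.map i (AlgHom.id k R))
      (Module.Flat.rTensor_preserves_injective_linearMap (M := R) i.toLinearMap hi)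
  have hb := bijective_algebraMap_of_square k R
  let hT : IsTerminal (⊤ : TopologicalSpace.Opens X) := IsTerminal.ofUniqueHom (fun U => homOfLE le_top) (fun _ _ => rfl)
  let F := Coh.toAb (Coh.structureModule X)
  let e : Coh.HH X (Coh.structureModule X) 0 ≃+ Coh.Γtop X := Sheaf.H.equiv₀ F hT
  have he : ∀ (c : k) x, e (c • x) = Coh.toGlobal (X ↘ Spec (CommRingCat.of k)) c * e x := fun c x => by
    show Sheaf.H.equiv₀ F hT (Sheaf.H.map (Coh.smulAb (Coh.structureModule X) _) 0 x) = _
    rw [← Sheaf.H.equiv₀_naturality]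
    refine (Coh.smulAb_app (Coh.structureModule X) _ (Opposite.op ⊤) _).trans ?_
    show Coh.resTop X (Opposite.op ⊤) _ * _ = _
    congr 1
    simp [Coh.resTop]
  refine finrank_eq_one_iff'.2 ⟨e.symm 1, fun h0 => ?_, fun w => ?_⟩
  · have : (1 : R) = 0 := by
      have h1 := congrArg e h0
      rw [AddEquiv.apply_symm_apply, map_zero] at h1
      exact h1
    exact one_ne_zero this
  · obtain ⟨c, hc⟩ := hb.2 (e w)
    refine ⟨c, e.injective ?_⟩
    rw [he, AddEquiv.apply_symm_apply, mul_one]
    exact hc

end Groth.Agent.S1536
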