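import Groth.Statements.S15360
import Mathlib.NumberTheory.Padics.RingHoms
import Mathlib.LinearAlgebra.Matrix.GeneralLinearGroup.Defs
import Mathlib.LinearAlgebra.Matrix.NonsingularInverse
import Mathlib.Topology.Algebra.Group.Basic
import Mathlib.Topology.Instances.Matrix
import Mathlib.Analysis.SpecificLimits.Basic
import Mathlib.LinearAlgebra.Matrix.Notation

set_option autoImplicit false
universe u
open GalCoh

namespace Groth.Agent.S15360

/-- Let 𝔊 be a profinite group and ϕ : 𝔊 → GL₂(ℤ_p) a continuous homomorphism. Then ϕ is surjective if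
and only if (i) the composite of ϕ with reduction modulo p, 𝔊 → GL₂(𝔽_p), is surjective, and (ii)
for every integer n ≥ 1 there is g ∈ 𝔊 such that ϕ(g) has the form [[1 + pⁿa, pⁿ⁺¹b], [pⁿ⁺¹c, 1 +
pⁿ⁺¹d]] with a, b, c, d ∈ ℤ_p and a not divisible by p (equivalently: the image of ϕ⁻¹(1 +
pⁿM₂(ℤ_p)) in M₂(𝔽_p) under g ↦ (ϕ(g) − 1)/pⁿ contains a matrix [[x, 0], [0, 0]] with x ≠ 0).
Continuity of ϕ is expressed through its matrix entries. -/
theorem result (p : ℕ) [Fact p.Prime]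
    (𝔊 : Type u) [Group 𝔊] [TopologicalSpace 𝔊] [IsTopologicalGroup 𝔊] [CompactSpace 𝔊] [T2Space 𝔊]
    [TotallyDisconnectedSpace 𝔊]
    (ϕ : 𝔊 →* GL (Fin 2) ℤ_[p])
    (hϕ : Continuous fun g => ((ϕ g : GL (Fin 2) ℤ_[p]) : Matrix (Fin 2) (Fin 2) ℤ_[p])) :
    Function.Surjective ϕ ↔
      (Function.Surjective ((Matrix.GeneralLinearGroup.map (n := Fin 2) (PadicInt.toZMod (p := p))).comp ϕ) ∧
        ∀ n : ℕ, 1 ≤ n → ∃ (g : 𝔊) (a b c d : ℤ_[p]), ¬ ((p : ℤ_[p]) ∣ a) ∧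
          ((ϕ g : GL (Fin 2) ℤ_[p]) : Matrix (Fin 2) (Fin 2) ℤ_[p]) =
            !![1 + (p : ℤ_[p]) ^ n * a, (p : ℤ_[p]) ^ (n + 1) * b;
               (p : ℤ_[p]) ^ (n + 1) * c, 1 + (p : ℤ_[p]) ^ (n + 1) * d]) := by
  classical
  let ρ : 𝔊 → (Matrix (Fin 2) (Fin 2) ℤ_[p]) := fun g => ((ϕ g : GL (Fin 2) ℤ_[p]) : (Matrix (Fin 2) (Fin 2) ℤ_[p]))
  have hρmul : ∀ g h, ρ (g * h) = ρ g * ρ h := fun g h => by simp [ρ]
  have hρone : ρ 1 = 1 := by simp [ρ]
  let π : (Matrix (Fin 2) (Fin 2) ℤ_[p]) → Matrix (Fin 2) (Fin 2) (ZMod p) := fun A => A.map (PadicInt.toZMod (p := p))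
  have hker : ∀ a : ℤ_[p], PadicInt.toZMod a = 0 ↔ (p : ℤ_[p]) ∣ a := fun a => by
    rw [← RingHom.mem_ker, PadicInt.ker_toZMod, PadicInt.maximalIdeal_eq_span_p, Ideal.mem_span_singleton]
  have hkerM : ∀ A : (Matrix (Fin 2) (Fin 2) ℤ_[p]), π A = 0 → ∃ B : (Matrix (Fin 2) (Fin 2) ℤ_[p]), A = (p : ℤ_[p]) • B := fun A h => by
    have h' : ∀ i j, (p : ℤ_[p]) ∣ A i j := fun i j => (hker _).1 (congrFun (congrFun h i) j)
    choose B hB using h'
    exact ⟨Matrix.of B, by ext i j; simp [hB i j]⟩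
  have hsect : Function.Surjective (PadicInt.toZMod (p := p)) := fun z =>
    ⟨(z.val : ℤ_[p]), by rw [map_natCast, ZMod.natCast_zmod_val]⟩
  constructor
  · intro hs
    refine ⟨?_, fun n hn => ?_⟩
    · intro Z
      let Z₁ : (Matrix (Fin 2) (Fin 2) ℤ_[p]) := (Z : Matrix (Fin 2) (Fin 2) (ZMod p)).map (Function.surjInv hsect)
      have hZ₁ : π Z₁ = (Z : Matrix (Fin 2) (Fin 2) (ZMod p)) := by
        ext i j; simp [π, Z₁, Function.surjInv_eq hsect]
      have hdet : IsUnit Z₁.det := by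
        rw [← IsLocalRing.notMem_maximalIdeal, PadicInt.maximalIdeal_eq_span_p, Ideal.mem_span_singleton, ← hker,
          RingHom.map_det]
        change ¬ (π Z₁).det = 0
        rw [hZ₁]
        exact (Matrix.isUnit_iff_isUnit_det (Z : Matrix (Fin 2) (Fin 2) (ZMod p))).1 Z.isUnit |>.ne_zero
      obtain ⟨g, hg⟩ := hs (Matrix.GeneralLinearGroup.mk'' Z₁ hdet)
      refine ⟨g, Units.ext ?_⟩
      rw [MonoidHom.comp_apply, hg, ← hZ₁]
      rfl
    · let U : (Matrix (Fin 2) (Fin 2) ℤ_[p]) := !![1 + (p : ℤ_[p]) ^ n * 1, (p : ℤ_[p]) ^ (n + 1) * 0; (p : ℤ_[p]) ^ (n + 1) * 0, 1 + (p : ℤ_[p]) ^ (n + 1) * 0]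
      have hdet : IsUnit U.det := by
        rw [← IsLocalRing.notMem_maximalIdeal, PadicInt.maximalIdeal_eq_span_p, Ideal.mem_span_singleton, ← hker]
        simp [U, Matrix.det_fin_two, map_pow, hn, Nat.one_le_iff_ne_zero.1 hn]
      obtain ⟨g, hg⟩ := hs (Matrix.GeneralLinearGroup.mk'' U hdet)
      refine ⟨g, 1, 0, 0, 0, fun h => ?_, ?_⟩
      · exact (PadicInt.prime_p).not_unit (isUnit_of_dvd_one h)
      · rw [hg]; rfl
  rintro ⟨hmod, hcong⟩
  -- the leading terms of the image of the congruence subgroups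
  let L : ℕ → (Matrix (Fin 2) (Fin 2) ℤ_[p]) → Prop := fun n X => ∃ g Y, ρ g = 1 + (p : ℤ_[p]) ^ n • X + (p : ℤ_[p]) ^ (n + 1) • Y
  have Lcongr : ∀ n X X', π X = π X' → L n X → L n X' := by
    rintro n X X' h ⟨g, Y, hg⟩
    obtain ⟨B, hB⟩ := hkerM (X - X') (by ext i j; simpa [π, sub_eq_zero] using congrFun (congrFun h i) j)
    refine ⟨g, B + Y, ?_⟩
    rw [hg, show X = X' + (p : ℤ_[p]) • B by rw [← hB]; abel, smul_add, smul_add, smul_smul, ← pow_succ]
    abel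
  have Ladd : ∀ n, 1 ≤ n → ∀ X X', L n X → L n X' → L n (X + X') := by
    rintro n hn X X' ⟨g, Y, hg⟩ ⟨g', Y', hg'⟩
    obtain ⟨m, rfl⟩ : ∃ m, n = m + 1 := ⟨n - 1, by omega⟩
    set q := (p : ℤ_[p])
    refine ⟨g * g', Y + Y' + q ^ m • ((X + q • Y) * (X' + q • Y')), ?_⟩
    rw [hρmul, hg, hg']
    simp only [add_mul, mul_add, one_mul, mul_one, Matrix.smul_mul, Matrix.mul_smul, smul_add, smul_smul, ← pow_add, pow_succ]
    match_scalars <;> ring
  have Lzero : ∀ n, L n 0 := fun n => ⟨1, 0, by rw [hρone, smul_zero, smul_zero, add_zero, add_zero]⟩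
  have Lsmul : ∀ n, 1 ≤ n → ∀ (z : ℤ_[p]) X, L n X → L n (z • X) := by
    intro n hn z X hX
    have hnat : ∀ k : ℕ, L n ((k : ℤ_[p]) • X) := fun k => by
      induction k with
      | zero => simpa using Lzero n
      | succ k ih => rw [Nat.cast_succ, add_smul, one_smul]; exact Ladd n hn _ _ ih hX
    refine Lcongr n _ _ ?_ (hnat (PadicInt.toZMod z).val)
    ext i j
    simp only [π, Matrix.map_apply, Matrix.smul_apply, smul_eq_mul, map_mul, map_natCast, ZMod.natCast_zmod_val]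
  have Lconj : ∀ n X (A A' : (Matrix (Fin 2) (Fin 2) ℤ_[p])), π A * π A' = 1 → L n X → L n (A * X * A') := by
    rintro n X A A' hAA ⟨g, Y, hg⟩
    have hu : IsUnit (π A).det := by
      refine IsUnit.of_mul_eq_one (π A').det ?_
      rw [← Matrix.det_mul, hAA, Matrix.det_one]
    obtain ⟨a, ha⟩ := hmod (Matrix.GeneralLinearGroup.mk'' (π A) hu)
    have ha1 : π (ρ a) = π A := congrArg Units.val ha
    have hinv : ρ a * ρ a⁻¹ = 1 := by rw [← hρmul, mul_inv_cancel, hρone]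
    have hπmul : ∀ B C : (Matrix (Fin 2) (Fin 2) ℤ_[p]), π (B * C) = π B * π C := fun B C => Matrix.map_mul
    have ha2 : π (ρ a⁻¹) = π A' := by
      refine (Matrix.isUnit_iff_isUnit_det (π A)).2 hu |>.mul_left_cancel ?_
      rw [hAA, ← ha1, ← hπmul, hinv]
      ext i j; simp [π, Matrix.one_apply, apply_ite (PadicInt.toZMod (p := p))]
    refine Lcongr n (ρ a * X * ρ a⁻¹) _ (by rw [hπmul, hπmul, hπmul, hπmul, ha1, ha2]) ⟨a * g * a⁻¹, ρ a * Y * ρ a⁻¹, ?_⟩
    rw [hρmul, hρmul, hg]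
    simp only [mul_add, add_mul, mul_one, Matrix.mul_smul, Matrix.smul_mul, hinv]
  have Lall : ∀ n, 1 ≤ n → ∀ X, L n X := by
    intro n hn X
    obtain ⟨g, a, b, c, d, ha, hg⟩ := hcong n hn
    have h0 : L n !![a, 0; 0, 0] := ⟨g, !![0, b; c, d], by
      change ((ϕ g : GL (Fin 2) ℤ_[p]) : (Matrix (Fin 2) (Fin 2) ℤ_[p])) = _
      rw [hg]; ext i j; fin_cases i <;> fin_cases j <;> simp⟩
    have hau : IsUnit a := by
      rw [← IsLocalRing.notMem_maximalIdeal, PadicInt.maximalIdeal_eq_span_p, Ideal.mem_span_singleton]; exact ha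
    obtain ⟨a', ha'⟩ := hau.exists_left_inv
    have h11 : L n !![1, 0; 0, 0] := by
      have e : (!![1, 0; 0, 0] : (Matrix (Fin 2) (Fin 2) ℤ_[p])) = a' • !![a, 0; 0, 0] := by
        ext i j; fin_cases i <;> fin_cases j <;> simp [ha']
      rw [e]; exact Lsmul n hn a' _ h0
    have hconj : ∀ A A' : (Matrix (Fin 2) (Fin 2) ℤ_[p]), A * A' = 1 → ∀ Z, L n Z → L n (A * Z * A') := fun A A' h Z hZ => by
      refine Lconj n Z A A' ?_ hZ
      change A.map _ * A'.map _ = 1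
      rw [← Matrix.map_mul, h, Matrix.map_one _ (map_zero _) (map_one _)]
    have h22 : L n !![0, 0; 0, 1] := by
      have h := hconj !![0, 1; 1, 0] !![0, 1; 1, 0] (by ext i j; fin_cases i <;> fin_cases j <;> simp [Matrix.mul_apply]) _ h11
      convert h using 1
      ext i j; fin_cases i <;> fin_cases j <;> simp [Matrix.mul_apply]
    have h12 : L n !![0, 1; 0, 0] := by
      have h := hconj !![1, -1; 0, 1] !![1, 1; 0, 1] (by ext i j; fin_cases i <;> fin_cases j <;> simp [Matrix.mul_apply]) _ h11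
      have h' := Ladd n hn _ _ h (Lsmul n hn (-1) _ h11)
      convert h' using 1
      ext i j; fin_cases i <;> fin_cases j <;> simp [Matrix.mul_apply]
    have h21 : L n !![0, 0; 1, 0] := by
      have h := hconj !![0, 1; 1, 0] !![0, 1; 1, 0] (by ext i j; fin_cases i <;> fin_cases j <;> simp [Matrix.mul_apply]) _ h12
      convert h using 1
      ext i j; fin_cases i <;> fin_cases j <;> simp [Matrix.mul_apply]
    have e : X = X 0 0 • !![1, 0; 0, 0] + X 0 1 • !![0, 1; 0, 0] + X 1 0 • !![0, 0; 1, 0] + X 1 1 • !![0, 0; 0, 1] := by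
      ext i j; fin_cases i <;> fin_cases j <;> simp
    rw [e]
    exact Ladd n hn _ _ (Ladd n hn _ _ (Ladd n hn _ _ (Lsmul n hn _ _ h11) (Lsmul n hn _ _ h12)) (Lsmul n hn _ _ h21))
      (Lsmul n hn _ _ h22)
  intro T
  -- approximations
  have happ : ∀ n, ∃ g Z, (T : (Matrix (Fin 2) (Fin 2) ℤ_[p])) = ρ g + (p : ℤ_[p]) ^ (n + 1) • Z := by
    intro n
    induction n with
    | zero =>
      obtain ⟨g, hg⟩ := hmod (Matrix.GeneralLinearGroup.map (n := Fin 2) (PadicInt.toZMod (p := p)) T)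
      obtain ⟨B, hB⟩ := hkerM ((T : (Matrix (Fin 2) (Fin 2) ℤ_[p])) - ρ g) (by
        ext i j
        have := congrArg (fun u : GL (Fin 2) (ZMod p) => (u : Matrix (Fin 2) (Fin 2) (ZMod p)) i j) hg
        change PadicInt.toZMod (ρ g i j) = PadicInt.toZMod ((T : Matrix (Fin 2) (Fin 2) ℤ_[p]) i j) at this
        simp only [π, Matrix.map_apply, Matrix.sub_apply, map_sub, Matrix.zero_apply, this, sub_self])
      exact ⟨g, B, by rw [pow_one, ← hB]; abel⟩
    | succ n ih =>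
      obtain ⟨g, Z, hZ⟩ := ih
      obtain ⟨h, Y, hh⟩ := Lall (n + 1) (Nat.succ_pos n) (Z * ρ g⁻¹)
      refine ⟨h * g, -(Y * ρ g), ?_⟩
      have hinv : ρ g⁻¹ * ρ g = 1 := by rw [← hρmul, inv_mul_cancel, hρone]
      rw [hρmul, hh, hZ]
      simp only [add_mul, one_mul, Matrix.smul_mul, Matrix.mul_assoc, hinv, Matrix.mul_one, smul_neg]
      abel
  choose g Z hgZ using happ
  have hclosed : IsClosed (Set.range ρ) := (isCompact_range hϕ).isClosed
  have hlim : Filter.Tendsto (fun n => ρ (g n)) Filter.atTop (nhds (T : (Matrix (Fin 2) (Fin 2) ℤ_[p]))) := by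
    refine tendsto_pi_nhds.2 fun i => tendsto_pi_nhds.2 fun j => ?_
    rw [tendsto_iff_norm_sub_tendsto_zero]
    have hp1 : (1 : ℝ) < p := by exact_mod_cast (Fact.out : p.Prime).one_lt
    refine squeeze_zero (fun n => norm_nonneg _) (g := fun n => ((p : ℝ)⁻¹) ^ (n + 1)) (fun n => ?_) ?_
    · have e := congrFun (congrFun (hgZ n) i) j
      simp only [Matrix.add_apply, Matrix.smul_apply, smul_eq_mul] at e
      rw [show ρ (g n) i j - (T : (Matrix (Fin 2) (Fin 2) ℤ_[p])) i j = -((p : ℤ_[p]) ^ (n + 1) * Z n i j) by rw [e]; ring, norm_neg, norm_mul, norm_pow,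
        PadicInt.norm_p]
      exact mul_le_of_le_one_right (by positivity) (PadicInt.norm_le_one _)
    · exact (tendsto_pow_atTop_nhds_zero_of_lt_one (by positivity) (inv_lt_one_of_one_lt₀ hp1)).comp
        (Filter.tendsto_add_atTop_nat 1)
  obtain ⟨x, hx⟩ := hclosed.mem_of_tendsto hlim (Filter.Eventually.of_forall fun n => ⟨g n, rfl⟩)
  exact ⟨x, Units.ext hx⟩

end Groth.Agent.S15360
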