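import Groth.Statements.S15361
import Mathlib.LinearAlgebra.Matrix.GeneralLinearGroup.Defs
import Mathlib.LinearAlgebra.Matrix.ToLinearEquiv
import Mathlib.LinearAlgebra.Matrix.CharP
import Mathlib.FieldTheory.Finite.Basic
import Mathlib.GroupTheory.Perm.Cycle.Type
import Mathlib.LinearAlgebra.Matrix.Notation
import Mathlib.LinearAlgebra.Matrix.Determinant.Basic
import Mathlib.Tactic.LinearCombination
import Mathlib.Tactic.FieldSimp

set_option autoImplicit false
open GalCoh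

namespace Groth.Agent.S15361

open Matrix Polynomial

variable {p : ℕ} [Fact p.Prime]

/-- A conjugate of an element of order `p` fixing a basis vector gives all transvections fixing it. -/
theorem upper_mem {H : Subgroup (GL (Fin 2) (ZMod p))} (h : GL (Fin 2) (ZMod p)) (hh : h ∈ H) (hp : h ^ p = 1)
    (h1 : h ≠ 1) (hw : (h : Matrix (Fin 2) (Fin 2) (ZMod p)) *ᵥ ![1, 0] = ![1, 0]) (c : ZMod p)
    (g : GL (Fin 2) (ZMod p)) (hg : (g : Matrix (Fin 2) (Fin 2) (ZMod p)) = !![1, c; 0, 1]) : g ∈ H := by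
  set A : Matrix (Fin 2) (Fin 2) (ZMod p) := (h : Matrix (Fin 2) (Fin 2) (ZMod p)) with hA
  have e00 : A 0 0 = 1 := by simpa [Matrix.mulVec, dotProduct, Fin.sum_univ_two] using congrFun hw 0
  have e10 : A 1 0 = 0 := by simpa [Matrix.mulVec, dotProduct, Fin.sum_univ_two] using congrFun hw 1
  have e11 : A 1 1 = 1 := by
    have hdet : A.det ^ p = 1 := by
      rw [← Matrix.det_pow, hA, ← Units.val_pow_eq_pow_val, hp, Units.val_one, Matrix.det_one]
    rw [ZMod.pow_card, Matrix.det_fin_two, e00, e10] at hdet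
    simpa using hdet
  have hA' : A = !![1, A 0 1; 0, 1] := by
    conv_lhs => rw [Matrix.eta_fin_two A, e00, e10, e11]
  have hx : A 0 1 ≠ 0 := fun hx => h1 (Units.ext (by rw [← hA, hA', hx, Units.val_one, Matrix.one_fin_two]))
  have hpow : ∀ n : ℕ, A ^ n = !![1, n * A 0 1; 0, 1] := by
    intro n
    induction n with
    | zero => simp [Matrix.one_fin_two]
    | succ n ih =>
      rw [pow_succ, ih]
      nth_rw 2 [hA']
      simp [Matrix.mul_fin_two]
      ring
  have : g = h ^ (c / A 0 1).val := Units.ext (by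
    rw [hg, Units.val_pow_eq_pow_val, ← hA, hpow, ZMod.natCast_zmod_val, div_mul_cancel₀ _ hx])
  rw [this]
  exact H.pow_mem hh _

theorem lower_mem {H : Subgroup (GL (Fin 2) (ZMod p))} (h : GL (Fin 2) (ZMod p)) (hh : h ∈ H) (hp : h ^ p = 1)
    (h1 : h ≠ 1) (hw : (h : Matrix (Fin 2) (Fin 2) (ZMod p)) *ᵥ ![0, 1] = ![0, 1]) (c : ZMod p)
    (g : GL (Fin 2) (ZMod p)) (hg : (g : Matrix (Fin 2) (Fin 2) (ZMod p)) = !![1, 0; c, 1]) : g ∈ H := by
  set A : Matrix (Fin 2) (Fin 2) (ZMod p) := (h : Matrix (Fin 2) (Fin 2) (ZMod p)) with hA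
  have e01 : A 0 1 = 0 := by simpa [Matrix.mulVec, dotProduct, Fin.sum_univ_two] using congrFun hw 0
  have e11 : A 1 1 = 1 := by simpa [Matrix.mulVec, dotProduct, Fin.sum_univ_two] using congrFun hw 1
  have e00 : A 0 0 = 1 := by
    have hdet : A.det ^ p = 1 := by
      rw [← Matrix.det_pow, hA, ← Units.val_pow_eq_pow_val, hp, Units.val_one, Matrix.det_one]
    rw [ZMod.pow_card, Matrix.det_fin_two, e01, e11] at hdet
    simpa using hdet
  have hA' : A = !![1, 0; A 1 0, 1] := by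
    conv_lhs => rw [Matrix.eta_fin_two A, e00, e01, e11]
  have hx : A 1 0 ≠ 0 := fun hx => h1 (Units.ext (by rw [← hA, hA', hx, Units.val_one, Matrix.one_fin_two]))
  have hpow : ∀ n : ℕ, A ^ n = !![1, 0; n * A 1 0, 1] := by
    intro n
    induction n with
    | zero => simp [Matrix.one_fin_two]
    | succ n ih =>
      rw [pow_succ, ih]
      nth_rw 2 [hA']
      simp [Matrix.mul_fin_two]
      ring
  have : g = h ^ (c / A 1 0).val := Units.ext (by
    rw [hg, Units.val_pow_eq_pow_val, ← hA, hpow, ZMod.natCast_zmod_val, div_mul_cancel₀ _ hx])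
  rw [this]
  exact H.pow_mem hh _

theorem sl_mem {H : Subgroup (GL (Fin 2) (ZMod p))}
    (hU : ∀ (c : ZMod p) (g : GL (Fin 2) (ZMod p)), (g : Matrix (Fin 2) (Fin 2) (ZMod p)) = !![1, c; 0, 1] → g ∈ H)
    (hL : ∀ (c : ZMod p) (g : GL (Fin 2) (ZMod p)), (g : Matrix (Fin 2) (Fin 2) (ZMod p)) = !![1, 0; c, 1] → g ∈ H)
    (g : GL (Fin 2) (ZMod p)) (hg : (g : Matrix (Fin 2) (Fin 2) (ZMod p)).det = 1) : g ∈ H := by
  let U : ZMod p → GL (Fin 2) (ZMod p) := fun c => GeneralLinearGroup.mkOfDetNeZero !![1, c; 0, 1] (by simp)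
  let L : ZMod p → GL (Fin 2) (ZMod p) := fun c => GeneralLinearGroup.mkOfDetNeZero !![1, 0; c, 1] (by simp)
  suffices h : ∀ g : GL (Fin 2) (ZMod p), (g : Matrix (Fin 2) (Fin 2) (ZMod p)).det = 1 →
      (g : Matrix (Fin 2) (Fin 2) (ZMod p)) 1 0 ≠ 0 → g ∈ H by
    by_cases hc : (g : Matrix (Fin 2) (Fin 2) (ZMod p)) 1 0 = 0
    · have hL1 := hL 1 (L 1) rfl
      refine (H.mul_mem_cancel_left hL1).1 (h _ ?_ ?_)
      · rw [Units.val_mul, Matrix.det_mul, hg]
        simp [L]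
      · rw [Units.val_mul]
        simp [L, Matrix.mul_apply, Fin.sum_univ_two, hc]
        intro h0
        rw [Matrix.det_fin_two, hc, h0] at hg
        simp at hg
    · exact h g hg hc
  intro g hg hc
  set A : Matrix (Fin 2) (Fin 2) (ZMod p) := (g : Matrix (Fin 2) (Fin 2) (ZMod p)) with hA
  have : g = U ((A 0 0 - 1) / A 1 0) * L (A 1 0) * U ((A 1 1 - 1) / A 1 0) := by
    refine Units.ext ?_
    rw [Units.val_mul, Units.val_mul, ← hA]
    rw [Matrix.det_fin_two] at hg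
    conv_lhs => rw [Matrix.eta_fin_two A]
    simp only [U, L, GeneralLinearGroup.val_mkOfDetNeZero, Matrix.mul_fin_two]
    ext i j
    fin_cases i <;> fin_cases j <;> simp <;> field_simp
    · ring
    · linear_combination -hg
    · ring
  rw [this]
  exact H.mul_mem (H.mul_mem (hU _ _ rfl) (hL _ _ rfl)) (hU _ _ rfl)

theorem exists_irreducible_quadratic : ∃ n : ZMod p, ∀ x : ZMod p, x ^ 2 + x + n ≠ 0 := by
  by_contra h
  simp only [not_exists, not_forall, not_not] at h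
  have hs : Function.Surjective fun x : ZMod p => x ^ 2 + x := fun y => by
    obtain ⟨x, hx⟩ := h (-y)
    exact ⟨x, by linear_combination hx⟩
  have := (Finite.injective_iff_surjective.2 hs) (show (fun x : ZMod p => x ^ 2 + x) 0 = (fun x : ZMod p => x ^ 2 + x) (-1) by simp)
  simp at this

/-- The subalgebra generated by a root of `X² + X + n`. -/
def quadRing (n : ZMod p) : Subring (Matrix (Fin 2) (Fin 2) (ZMod p)) where
  carrier := Set.range fun ab : ZMod p × ZMod p => !![ab.1, -(n * ab.2); ab.2, ab.1 - ab.2]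
  mul_mem' := by
    rintro _ _ ⟨⟨a, b⟩, rfl⟩ ⟨⟨c, d⟩, rfl⟩
    exact ⟨(a * c - n * b * d, a * d + b * c - b * d), by
      simp only [Matrix.mul_fin_two]
      ext i j
      fin_cases i <;> fin_cases j <;> simp <;> ring⟩
  one_mem' := ⟨(1, 0), by simp [Matrix.one_fin_two]⟩
  add_mem' := by
    rintro _ _ ⟨⟨a, b⟩, rfl⟩ ⟨⟨c, d⟩, rfl⟩
    exact ⟨(a + c, b + d), by ext i j; fin_cases i <;> fin_cases j <;> simp <;> ring⟩
  zero_mem' := ⟨(0, 0), by ext i j; fin_cases i <;> fin_cases j <;> simp⟩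
  neg_mem' := by
    rintro _ ⟨⟨a, b⟩, rfl⟩
    exact ⟨(-a, -b), by ext i j; fin_cases i <;> fin_cases j <;> simp <;> ring⟩

theorem quadRing_inv {n : ZMod p} (hn : ∀ x : ZMod p, x ^ 2 + x + n ≠ 0) {A : Matrix (Fin 2) (Fin 2) (ZMod p)}
    (hA : A ∈ quadRing n) (h0 : A ≠ 0) : A.det ≠ 0 ∧ ∃ B ∈ quadRing n, A * B = 1 ∧ B * A = 1 := by
  obtain ⟨⟨a, b⟩, rfl⟩ := hA
  have hd : a ^ 2 - a * b + n * b ^ 2 ≠ 0 := by
    by_cases hb : b = 0
    · subst hb
      have : a ≠ 0 := fun h => h0 (by ext i j; fin_cases i <;> fin_cases j <;> simp [h])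
      simpa using this
    · intro h
      refine hn (-a / b) ?_
      field_simp
      linear_combination h
  obtain ⟨e, he⟩ : ∃ e : ZMod p, (a ^ 2 - a * b + n * b ^ 2) * e = 1 := ⟨_, mul_inv_cancel₀ hd⟩
  refine ⟨fun h => hd ?_, _, ⟨((a - b) * e, -b * e), rfl⟩, ?_, ?_⟩
  · rw [Matrix.det_fin_two] at h
    simp at h
    linear_combination h
  all_goals
    simp only [Matrix.mul_fin_two, Matrix.one_fin_two]
    ext i j
    fin_cases i <;> fin_cases j <;> simp <;> first | linear_combination he | ring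

theorem exists_cartan : ∃ (C : Subgroup (GL (Fin 2) (ZMod p))) (E : Subring (Matrix (Fin 2) (Fin 2) (ZMod p))),
    IsField E ∧ Nat.card E = p ^ 2 ∧
      (E : Set (Matrix (Fin 2) (Fin 2) (ZMod p))) =
        insert 0 ((fun g : GL (Fin 2) (ZMod p) => (g : Matrix (Fin 2) (Fin 2) (ZMod p))) ''
          (C : Set (GL (Fin 2) (ZMod p)))) := by
  obtain ⟨n, hn⟩ := exists_irreducible_quadratic (p := p)
  let C : Subgroup (GL (Fin 2) (ZMod p)) :=
    { carrier := {g | (g : Matrix (Fin 2) (Fin 2) (ZMod p)) ∈ quadRing n}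
      mul_mem' := fun h1 h2 => (quadRing n).mul_mem h1 h2
      one_mem' := (quadRing n).one_mem
      inv_mem' := fun {g} hg => by
        obtain ⟨-, B, hB, hAB, -⟩ := quadRing_inv hn hg g.ne_zero
        rwa [Set.mem_setOf_eq, Units.inv_eq_of_mul_eq_one_right hAB] }
  refine ⟨C, quadRing n, ⟨⟨0, 1, ?_⟩, ?_, ?_⟩, ?_, ?_⟩
  · exact fun h => zero_ne_one (congrArg Subtype.val h)
  · rintro ⟨_, ⟨a, b⟩, rfl⟩ ⟨_, ⟨c, d⟩, rfl⟩
    ext1
    simp only [MulMemClass.coe_mul, Matrix.mul_fin_two]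
    ext i j
    fin_cases i <;> fin_cases j <;> simp <;> ring
  · intro A hA
    obtain ⟨-, B, hB, hAB, -⟩ := quadRing_inv hn A.2 (fun h => hA (Subtype.ext h))
    exact ⟨⟨B, hB⟩, Subtype.ext hAB⟩
  · rw [show p ^ 2 = Nat.card (ZMod p × ZMod p) by rw [Nat.card_prod, Nat.card_zmod, sq]]
    refine Nat.card_range_of_injective fun x y h => ?_
    exact Prod.ext (by simpa using congrFun (congrFun h 0) 0) (by simpa using congrFun (congrFun h 1) 0)
  · ext A
    constructor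
    · intro hA
      by_cases h0 : A = 0
      · exact Set.mem_insert_iff.2 (Or.inl h0)
      · obtain ⟨-, B, hB, hAB, hBA⟩ := quadRing_inv hn hA h0
        exact Set.mem_insert_iff.2 (Or.inr ⟨⟨A, B, hAB, hBA⟩, hA, rfl⟩)
    · intro hA
      rcases Set.mem_insert_iff.1 hA with rfl | ⟨g, hg, rfl⟩
      · exact (quadRing n).zero_mem
      · exact hg

theorem exists_det_eq (E : Subring (Matrix (Fin 2) (Fin 2) (ZMod p)))
    (hdet : ∀ A ∈ E, A ≠ 0 → A.det ≠ 0)
    (hne : ∃ A ∈ E, ∀ a : ZMod p, A ≠ a • (1 : Matrix (Fin 2) (Fin 2) (ZMod p))) (d : ZMod p) (hd : d ≠ 0) :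
    ∃ A ∈ E, A.det = d := by
  rcases ne_or_eq p 2 with hp2 | rfl
  swap
  · refine ⟨1, E.one_mem, ?_⟩
    rw [Matrix.det_one]
    fin_cases d
    · exact absurd rfl hd
    · rfl
  have hsc : ∀ a : ZMod p, a • (1 : Matrix (Fin 2) (Fin 2) (ZMod p)) ∈ E := fun a => by
    rw [← ZMod.natCast_zmod_val a, Nat.cast_smul_eq_nsmul]
    exact nsmul_mem E.one_mem _
  have hsmul : ∀ (a : ZMod p), ∀ A ∈ E, a • A ∈ E := fun a A hA => by
    rw [← one_mul A, ← smul_mul_assoc]
    exact E.mul_mem (hsc a) hA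
  obtain ⟨A, hA, hA'⟩ := hne
  let t := A 0 0 + A 1 1
  let W := A - (t / 2) • (1 : Matrix (Fin 2) (Fin 2) (ZMod p))
  have hW : W ∈ E := E.sub_mem hA (hsc _)
  have h2 : (2 : ZMod p) ≠ 0 := fun h => hp2 ((Nat.prime_dvd_prime_iff_eq Fact.out Nat.prime_two).1
    ((CharP.cast_eq_zero_iff (ZMod p) p 2).1 (by exact_mod_cast h)))
  have htr : W 0 0 + W 1 1 = 0 := by
    simp [W, t]
    field_simp
    ring
  have hdetW : W.det ≠ 0 := hdet W hW fun h => hA' (t / 2) (sub_eq_zero.1 h)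
  obtain ⟨x, y, hxy⟩ := FiniteField.exists_root_sum_quadratic (f := X ^ 2 - C d) (g := C W.det * X ^ 2)
    (Polynomial.degree_X_pow_sub_C two_pos d) (by rw [Polynomial.degree_C_mul_X_pow 2 hdetW]; rfl)
    (by rw [ZMod.card]; exact Nat.odd_iff.1 ((Fact.out : p.Prime).odd_of_ne_two hp2))
  refine ⟨x • 1 + y • W, E.add_mem (hsc _) (hsmul _ _ hW), ?_⟩
  simp only [eval_sub, eval_pow, eval_X, eval_C, eval_mul, Matrix.det_fin_two] at hxy
  simp [Matrix.det_fin_two]
  linear_combination hxy + x * y * htr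

theorem backward {H C : Subgroup (GL (Fin 2) (ZMod p))} {E : Subring (Matrix (Fin 2) (Fin 2) (ZMod p))}
    (hCH : C ≤ H) (hE : IsField E) (hcard : Nat.card E = p ^ 2)
    (hEC : (E : Set (Matrix (Fin 2) (Fin 2) (ZMod p))) =
      insert 0 ((fun g : GL (Fin 2) (ZMod p) => (g : Matrix (Fin 2) (Fin 2) (ZMod p))) ''
        (C : Set (GL (Fin 2) (ZMod p))))) (hp : p ∣ Nat.card H) : H = ⊤ := by
  classical
  have hunit : ∀ A ∈ E, A ≠ 0 → ∃ g ∈ C, (g : Matrix (Fin 2) (Fin 2) (ZMod p)) = A := by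
    intro A hA h0
    rw [← SetLike.mem_coe, hEC, Set.mem_insert_iff] at hA
    exact hA.resolve_left h0
  have hdetE : ∀ A ∈ E, A ≠ 0 → A.det ≠ 0 := fun A hA h0 => by
    obtain ⟨g, -, rfl⟩ := hunit A hA h0
    exact ((Matrix.isUnit_iff_isUnit_det _).1 g.isUnit).ne_zero
  have hne : ∃ A ∈ E, ∀ a : ZMod p, A ≠ a • (1 : Matrix (Fin 2) (Fin 2) (ZMod p)) := by
    by_contra h
    simp only [not_exists, not_and, not_forall, not_not] at h
    choose a ha using fun A : E => h A.1 A.2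
    have hinj : Function.Injective a := fun A B hab => Subtype.ext ((ha A).trans (hab ▸ (ha B).symm))
    have hle := Nat.card_le_card_of_injective a hinj
    rw [hcard, Nat.card_zmod] at hle
    nlinarith [(Fact.out : p.Prime).two_le]
  obtain ⟨⟨g, hgH⟩, hg⟩ := exists_prime_orderOf_dvd_card' (G := H) p hp
  have hgp : g ^ p = 1 := congrArg Subtype.val ((orderOf_eq_iff (Fact.out : p.Prime).pos).1 hg).1
  have hg1 : g ≠ 1 := fun h => (Fact.out : p.Prime).ne_one (hg ▸ orderOf_eq_one_iff.2 (Subtype.ext h))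
  have hdet : ((g : Matrix (Fin 2) (Fin 2) (ZMod p)) - 1).det = 0 := by
    refine eq_zero_of_pow_eq_zero (n := p) ?_
    rw [← Matrix.det_pow, sub_pow_char_of_commute p (Commute.one_right _), one_pow, ← Units.val_pow_eq_pow_val, hgp,
      Units.val_one, sub_self, Matrix.det_zero]
  obtain ⟨v, hv0, hv⟩ := Matrix.exists_mulVec_eq_zero_iff.2 hdet
  rw [Matrix.sub_mulVec, Matrix.one_mulVec, sub_eq_zero] at hv
  have horbit : ∀ w : Fin 2 → ZMod p, ∃ A : E, (A : Matrix (Fin 2) (Fin 2) (ZMod p)) *ᵥ v = w := by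
    have hinj : Function.Injective fun A : E => (A : Matrix (Fin 2) (Fin 2) (ZMod p)) *ᵥ v := by
      intro A B hAB
      by_contra hne'
      have h0 : (A : Matrix (Fin 2) (Fin 2) (ZMod p)) - B ≠ 0 := fun h => hne' (Subtype.ext (sub_eq_zero.1 h))
      exact hdetE _ (E.sub_mem A.2 B.2) h0 (Matrix.exists_mulVec_eq_zero_iff.1
        ⟨v, hv0, by rw [Matrix.sub_mulVec]; exact sub_eq_zero.2 hAB⟩)
    exact (hinj.bijective_of_nat_card_le (by rw [hcard, Nat.card_fun, Nat.card_zmod, Nat.card_fin])).2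
  have hconj : ∀ w : Fin 2 → ZMod p, w ≠ 0 → ∃ h ∈ H, h ^ p = 1 ∧ h ≠ 1 ∧
      (h : Matrix (Fin 2) (Fin 2) (ZMod p)) *ᵥ w = w := by
    intro w hw
    obtain ⟨A, hA⟩ := horbit w
    obtain ⟨c, hc, hcA⟩ := hunit A A.2 fun h => hw (by rw [← hA, h, Matrix.zero_mulVec])
    refine ⟨c * g * c⁻¹, H.mul_mem (H.mul_mem (hCH hc) hgH) (H.inv_mem (hCH hc)), ?_, ?_, ?_⟩
    · rw [conj_pow, hgp, mul_one, mul_inv_cancel]
    · exact fun h => hg1 (conj_eq_one_iff.1 h)
    · rw [← hA, ← hcA, Units.val_mul, Units.val_mul, Matrix.mulVec_mulVec, mul_assoc, Units.inv_mul, mul_one,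
        ← Matrix.mulVec_mulVec, hv]
  obtain ⟨h₁, hh₁, hp₁, hn₁, hw₁⟩ := hconj ![1, 0] (by intro h; simpa using congrFun h 0)
  obtain ⟨h₂, hh₂, hp₂, hn₂, hw₂⟩ := hconj ![0, 1] (by intro h; simpa using congrFun h 1)
  refine eq_top_iff.2 fun x _ => ?_
  obtain ⟨A, hA, hAd⟩ := exists_det_eq E hdetE hne _ ((Matrix.isUnit_iff_isUnit_det _).1 x.isUnit).ne_zero
  obtain ⟨c, hc, rfl⟩ := hunit A hA fun h => by
    rw [h, Matrix.det_zero] at hAd
    exact ((Matrix.isUnit_iff_isUnit_det _).1 x.isUnit).ne_zero hAd.symm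
  refine (H.mul_mem_cancel_left (H.inv_mem (hCH hc))).1 ?_
  refine sl_mem (upper_mem h₁ hh₁ hp₁ hn₁ hw₁) (lower_mem h₂ hh₂ hp₂ hn₂ hw₂) _ ?_
  rw [Units.val_mul, Matrix.det_mul, ← hAd, ← Matrix.det_mul, Units.inv_mul, Matrix.det_one]


/-- Let p be a prime and H a subgroup of GL₂(𝔽_p). Then H = GL₂(𝔽_p) if and only if (i) some non-split
Cartan subgroup lies in H, i.e. some subgroup C ≤ H such that C ∪ {0} is a subfield of the matrix
algebra M₂(𝔽_p) with p² elements, and (ii) p divides the order of H. -/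
theorem result (p : ℕ) [Fact p.Prime]
    (H : Subgroup (GL (Fin 2) (ZMod p))) :
    H = ⊤ ↔
      (∃ (C : Subgroup (GL (Fin 2) (ZMod p))) (E : Subring (Matrix (Fin 2) (Fin 2) (ZMod p))),
          C ≤ H ∧ IsField E ∧ Nat.card E = p ^ 2 ∧
            (E : Set (Matrix (Fin 2) (Fin 2) (ZMod p))) =
              insert 0 ((fun g : GL (Fin 2) (ZMod p) => (g : Matrix (Fin 2) (Fin 2) (ZMod p))) ''
                (C : Set (GL (Fin 2) (ZMod p))))) ∧
        p ∣ Nat.card H := by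
  constructor
  · rintro rfl
    obtain ⟨C, E, h1, h2, h3⟩ := exists_cartan (p := p)
    refine ⟨⟨C, E, le_top, h1, h2, h3⟩, ?_⟩
    let g : GL (Fin 2) (ZMod p) := GeneralLinearGroup.mkOfDetNeZero !![1, 1; 0, 1] (by simp)
    have hpow : ∀ k : ℕ, (g : Matrix (Fin 2) (Fin 2) (ZMod p)) ^ k = !![1, (k : ZMod p); 0, 1] := by
      intro k
      induction k with
      | zero => simp [Matrix.one_fin_two]
      | succ k ih =>
        rw [pow_succ, ih]
        simp [g, Matrix.mul_fin_two, add_comm]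
    have hg : orderOf g = p := orderOf_eq_prime (Units.ext (by
      rw [Units.val_pow_eq_pow_val, hpow, ZMod.natCast_self, Units.val_one, Matrix.one_fin_two])) fun h => by
      simpa [g] using congrArg (fun x : GL (Fin 2) (ZMod p) => (x : Matrix (Fin 2) (Fin 2) (ZMod p)) 0 1) h
    have hd := orderOf_dvd_natCard (⟨g, trivial⟩ : (⊤ : Subgroup (GL (Fin 2) (ZMod p))))
    rw [← Subgroup.orderOf_coe, hg] at hd
    exact hd
  · rintro ⟨⟨C, E, hCH, hE, hcard, hEC⟩, hp⟩
    exact backward hCH hE hcard hEC hp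

end Groth.Agent.S15361
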