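import Groth.Statements.S15362
import Groth.Agent.L27.FrobeniusLinear
import Mathlib.LinearAlgebra.FreeModule.Finite.Basic
import Mathlib.RingTheory.IntegralClosure.IsIntegralClosure.Basic

set_option autoImplicit false
universe u v w
open CAlg

namespace Groth.Agent.S15362

/-- For an algebraically closed field L of characteristic p > 0, a commutative L-algebra R integral over
L, and a finitely presented R-module M carrying an additive endomorphism φ with φ(r·m) = r^p·φ(m)
for r ∈ R, m ∈ M, the map m ↦ φ(m) − m is onto. (R is taken of exponential characteristic p so that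
its Frobenius is a ring endomorphism; for a non-zero L-algebra this is automatic.) -/
theorem result (p : ℕ) [Fact p.Prime]
    (L : Type u) [Field L] [IsAlgClosed L] [CharP L p]
    (R : Type v) [CommRing R] [Algebra L R] [Algebra.IsIntegral L R] [ExpChar R p]
    (M : Type w) [AddCommGroup M] [Module R M] [Module.FinitePresentation R M]
    (φ : M →ₛₗ[frobenius R p] M) :
    Function.Surjective fun m : M => φ m - m := by
  classical
  intro w
  obtain ⟨n, g, hg⟩ := Module.Finite.exists_fin (R := R) (M := M)
  have hw : ∀ x : M, ∃ c : Fin n → R, ∑ i, c i • g i = x := fun x =>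
    (Submodule.mem_span_range_iff_exists_fun R).1 (hg ▸ Submodule.mem_top)
  choose c hc using hw
  let gens : Set R := (Set.range fun ij : Fin n × Fin n => c (φ (g ij.1)) ij.2) ∪ Set.range (c w)
  let R₀ : Subalgebra L R := Algebra.adjoin L gens
  have hfin : (Subalgebra.toSubmodule R₀).FG :=
    fg_adjoin_of_finite ((Set.finite_range _).union (Set.finite_range _))
      fun x _ => Algebra.IsIntegral.isIntegral x
  letI : Module L M := Module.compHom M (algebraMap L R)
  haveI : IsScalarTower L R M := IsScalarTower.of_algebraMap_smul fun _ _ => rfl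
  let Φ : (Fin n → Subalgebra.toSubmodule R₀) →ₗ[L] M :=
    ∑ i, ((LinearMap.toSpanSingleton R M (g i)).restrictScalars L) ∘ₗ
      (Subalgebra.toSubmodule R₀).subtype ∘ₗ LinearMap.proj i
  have hΦ : ∀ r, Φ r = ∑ i, (r i : R) • g i := fun r => by simp [Φ]
  haveI : Module.Finite L (Subalgebra.toSubmodule R₀) := Module.Finite.iff_fg.2 hfin
  let V : Submodule L M := LinearMap.range Φ
  haveI : Module.Finite L V := Module.Finite.range Φ
  have hmem : ∀ (r : Fin n → R), (∀ i, r i ∈ R₀) → ∑ i, r i • g i ∈ V :=
    fun r hr => ⟨fun i => ⟨r i, hr i⟩, hΦ _⟩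
  have hstab : ∀ v ∈ V, φ v ∈ V := by
    rintro _ ⟨r, rfl⟩
    rw [hΦ, map_sum]
    refine Submodule.sum_mem _ fun i _ => ?_
    rw [map_smulₛₗ, ← hc (φ (g i)), Finset.smul_sum]
    simp only [← mul_smul]
    exact hmem _ fun j => R₀.mul_mem (R₀.pow_mem (r i).2 _)
      (Algebra.subset_adjoin (Or.inl ⟨(i, j), rfl⟩))
  have hwV : w ∈ V := by
    rw [← hc w]
    exact hmem _ fun i => Algebra.subset_adjoin (Or.inr ⟨i, rfl⟩)
  let e := (Module.finBasis L V).equivFun
  let F : (Fin (Module.finrank L V) → L) →+ (Fin (Module.finrank L V) → L) :=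
    { toFun := fun x => e ⟨φ (e.symm x : M), hstab _ (e.symm x).2⟩
      map_zero' := by
        rw [show (⟨φ (e.symm 0 : M), hstab _ (e.symm 0).2⟩ : V) = 0 from Subtype.ext (by simp),
          map_zero]
      map_add' := fun x y => by
        rw [← map_add e]
        exact congrArg e (Subtype.ext (by simp [map_add])) }
  have hF : ∀ (a : L) x, F (a • x) = a ^ p • F x := fun a x => by
    change e _ = a ^ p • e _
    rw [← map_smul]
    refine congrArg e (Subtype.ext ?_)
    simp only [map_smul, SetLike.val_smul]
    rw [← algebraMap_smul R a (e.symm x : M), map_smulₛₗ, frobenius_def, ← map_pow, algebraMap_smul]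
  obtain ⟨x, hx⟩ := Groth.L27.Frobenius.surjective p F hF (e ⟨w, hwV⟩)
  refine ⟨(e.symm x : M), ?_⟩
  have h := congrArg (fun z => ((e.symm z : V) : M)) hx
  simpa [F] using h

end Groth.Agent.S15362
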