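import Groth.Statements.S15363
import Groth.Agent.L08.SekSuwa.GKFinite
import Mathlib.AlgebraicGeometry.Morphisms.Flat
import Mathlib.RingTheory.Flat.TorsionFree
-- import your own Groth.Agent.* helpers here

set_option autoImplicit false
set_option backward.isDefEq.respectTransparency.types false
set_option linter.style.haveILetI false
universe u
open CategoryTheory AlgebraicGeometry
open SekSuwa

namespace Groth.Agent.S15363

/-- functions pulled back along a composite with a morphism of spectra -/
theorem appTop_spec {X : Scheme.{u}} {B A : Type u} [CommRing B] [CommRing A] (f g : X ⟶ Spec (CommRingCat.of A))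
    (φ : B →+* A) (h : f ≫ Spec.map (CommRingCat.ofHom φ) = g ≫ Spec.map (CommRingCat.ofHom φ)) (b : B) :
    f.appTop.hom ((Scheme.ΓSpecIso (CommRingCat.of A)).inv.hom (φ b)) =
      g.appTop.hom ((Scheme.ΓSpecIso (CommRingCat.of A)).inv.hom (φ b)) := by
  have h2 := congrArg (fun w => (w.appTop).hom ((Scheme.ΓSpecIso (CommRingCat.of B)).inv b)) h
  simp only [Scheme.Hom.comp_appTop, CommRingCat.hom_comp, RingHom.comp_apply] at h2
  have h3 := congr(($(Scheme.ΓSpecIso_inv_naturality (CommRingCat.ofHom φ))).hom b)
  simp only [CommRingCat.hom_comp, RingHom.comp_apply] at h3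
  rw [← h3] at h2
  exact h2

/-- Let R be an integral domain, p a prime and λ ∈ R a non-zero element with λ^p dividing (1 + λX)^p −
1, so that the congruence group scheme G_λ = Spec R[T]/(P_λ(T)) of level λ and its homomorphism θ_λ
: G_λ → μ_p, X ↦ 1 + λT, are defined. For every scheme G flat over Spec R, composition with θ_λ is
injective on R-morphisms G → G_λ; in particular θ_λ induces an injective map from the homomorphisms
G → G_λ of a flat R-group scheme G to its homomorphisms G → μ_p. (The published statement is over
the ring of integers of an algebraic closure of a complete discretely valued field of mixed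
characteristic, for finite flat commutative group schemes killed by p; the published argument, that
θ_λ is an isomorphism on the generic fibre and G is flat, gives the form stated here.) -/
theorem result (R : Type u) [CommRing R] [IsDomain R]
    (p : ℕ) [Fact p.Prime] (lam : R) (h : SekSuwa.DivCond lam p)
    (G : Over (Spec (CommRingCat.of R))) [Flat G.hom]
    (f g : G ⟶ SekSuwa.GK R lam p h)
    (hfg : f ≫ SekSuwa.alphaN R lam p h = g ≫ SekSuwa.alphaN R lam p h) : f = g := by
  let S := Spec (CommRingCat.of R)
  let res : ∀ u : G ⟶ SekSuwa.GK R lam p h, SekSuwa.AK R lam p h →+* Γ(G.left, ⊤) := fun u =>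
    (Scheme.ΓSpecIso (CommRingCat.of (SekSuwa.AK R lam p h))).inv.hom |> (u.left.appTop.hom).comp
  have hR : ∀ (u : G ⟶ SekSuwa.GK R lam p h) (c : R), res u (algebraMap R _ c) =
      G.hom.appTop ((Scheme.ΓSpecIso (CommRingCat.of R)).inv c) := by
    intro u c
    have h1 : u.left ≫ Spec.map (CommRingCat.ofHom (algebraMap R (SekSuwa.AK R lam p h))) = G.hom := Over.w u
    have h2 := congrArg (fun w => (w.appTop).hom ((Scheme.ΓSpecIso (CommRingCat.of R)).inv c)) h1
    simp only [Scheme.Hom.comp_appTop, CommRingCat.hom_comp, RingHom.comp_apply] at h2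
    refine Eq.trans ?_ h2
    show u.left.appTop _ = _
    congr 1
    exact congr(($(Scheme.ΓSpecIso_inv_naturality (CommRingCat.ofHom (algebraMap R (SekSuwa.AK R lam p h))))).hom c)
  have hu : res f (1 + lam • SekSuwa.AK.t) = res g (1 + lam • SekSuwa.AK.t) := by
    have h1 : (f ≫ SekSuwa.alphaN R lam p h).left = (g ≫ SekSuwa.alphaN R lam p h).left := by rw [hfg]
    rw [Over.comp_left, Over.comp_left] at h1
    unfold SekSuwa.alphaN at h1
    rw [SekSuwa.specHom_left] at h1
    have h2 := appTop_spec f.left g.left _ h1
      (MonoidAlgebra.single (Multiplicative.ofAdd (1 : ZMod p)) (1 : R))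
    rw [← SekSuwa.alphaNHom_single_one]
    exact h2
  have ht : res f SekSuwa.AK.t = res g SekSuwa.AK.t := by
    rw [Algebra.smul_def, map_add, map_add, map_one, map_one, add_right_inj, map_mul, map_mul, hR, hR] at hu
    refine G.left.sheaf.eq_of_locally_eq' (fun U : G.left.affineOpens => U.1) ⊤ (fun U => homOfLE le_top)
      ?_ _ _ (fun U => ?_)
    · rw [iSup_affineOpens_eq_top]
    · obtain ⟨U, hU⟩ := U
      let φ : R →+* Γ(G.left, U) :=
        ((G.hom.appLE ⊤ U le_top).hom).comp (Scheme.ΓSpecIso (CommRingCat.of R)).inv.hom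
      have hφ : φ.Flat :=
        ((RingHom.Flat.of_bijective (ConcreteCategory.bijective_of_isIso
          (Scheme.ΓSpecIso (CommRingCat.of R)).inv)).comp
            (G.hom.flat_appLE (isAffineOpen_top _) hU le_top))
      letI : Algebra R Γ(G.left, U) := φ.toAlgebra
      haveI : Module.Flat R Γ(G.left, U) := hφ
      have hreg := Module.Flat.isSMulRegular_of_isRegular (M := Γ(G.left, U))
        (IsRegular.of_ne_zero (nonZeroDivisors.ne_zero h.1))
      apply hreg
      have h2 := congrArg (G.left.presheaf.map (homOfLE (le_top : U ≤ ⊤)).op) hu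
      rw [map_mul, map_mul] at h2
      show φ lam * _ = φ lam * _
      exact h2
  have hall : res f = res g := by
    refine RingHom.ext fun z => ?_
    let F : SekSuwa.AK R lam p h →+* Γ(G.left, ⊤) := res f
    letI : Algebra R Γ(G.left, ⊤) := ((res f).comp (algebraMap R _)).toAlgebra
    let F1 : SekSuwa.AK R lam p h →ₐ[R] Γ(G.left, ⊤) := { res f with commutes' := fun c => rfl }
    let G1 : SekSuwa.AK R lam p h →ₐ[R] Γ(G.left, ⊤) :=
      { res g with commutes' := fun c => (hR g c).trans (hR f c).symm }
    have : F1 = G1 := by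
      refine SekSuwa.AK.algHom_ext ht ?_
      rw [Groth.L08.SekSuwaGK.inv_eq h (Fact.out : p.Prime).pos, map_pow, map_pow, map_add, map_add, map_one,
        map_one, map_smul, map_smul, show F1 SekSuwa.AK.t = G1 SekSuwa.AK.t from ht]
    exact DFunLike.congr_fun this z
  refine Over.OverMorphism.ext ?_
  haveI : IsAffine (SekSuwa.GK R lam p h).left := inferInstanceAs (IsAffine (Spec (CommRingCat.of _)))
  refine ext_of_isAffine (ConcreteCategory.hom_ext _ _ fun x => ?_)
  obtain ⟨z, rfl⟩ := (ConcreteCategory.bijective_of_isIso (Scheme.ΓSpecIso (CommRingCat.of (SekSuwa.AK R lam p h))).inv).2 x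
  exact DFunLike.congr_fun hall z

end Groth.Agent.S15363
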