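import Groth.Statements.S15364
import Groth.Agent.L26.AV.RelMain
import Groth.Agent.L26.AV.SmoothField
import Mathlib.AlgebraicGeometry.Morphisms.QuasiFinite

set_option autoImplicit false
universe u
open CategoryTheory CategoryTheory.Limits MonoidalCategory CartesianMonoidalCategory AlgebraicGeometry
open AbSch

namespace Groth.Agent.S15364

/-- For an abelian scheme f : A → T (a commutative T-group scheme, proper and smooth over T with
geometrically connected fibres) and a commutative group scheme H finite and locally free over T, the
adjunction map H → f_* f^* H of fppf sheaves on T is an isomorphism, i.e. for every T-scheme U the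
map H(U) → H(A ×_T U), s ↦ s ∘ pr, is bijective. This row states the case U = T, to which the
general case reduces by base change: composition with the structure morphism A → T is a bijection
from the sections of H over T onto the T-morphisms A → H. The group structure of H plays no role and
is not assumed. (The published statement has an arbitrary base T; the published argument rests on
the rigidity lemma in its form for Noetherian schemes, so T is taken locally Noetherian here.) -/
theorem result {T : Scheme.{u}} [IsLocallyNoetherian T]
    (A : Over T) [GrpObj A] [IsCommMonObj A] [IsProper A.hom] [Smooth A.hom] [GeometricallyConnected A.hom]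
    (H : Over T) [IsFinite H.hom] [Flat H.hom] [LocallyOfFinitePresentation H.hom] :
    Function.Bijective fun s : (𝟙_ (Over T) ⟶ H) => toUnit A ≫ s := by
  have hred : GeometricallyReduced A.hom := ⟨geometrically_iff_of_isClosedUnderIsomorphisms.mpr
    fun K _ y => Groth.Agent.AV.isReduced_of_smooth_field (Limits.pullback.snd A.hom y)⟩
  have hsurj : Surjective A.hom := inferInstance
  refine ⟨fun s s' h => ?_, fun g => ?_⟩
  · have := congrArg (fun φ => MonObj.one (X := A) ≫ φ) h
    simp only [← Category.assoc] at this
    rwa [Subsingleton.elim (MonObj.one (X := A) ≫ toUnit A) (𝟙 _), Category.id_comp, Category.id_comp] at this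
  · have hd : Groth.Agent.AV.collapsed A.hom g.left = Set.univ := by
      refine Set.eq_univ_of_forall fun s x x' hx hx' => ?_
      have hpre : _root_.IsPreconnected (g.left '' (A.hom ⁻¹' {s})) :=
        (A.hom.isConnected_preimage_singleton s).isPreconnected.image _ g.left.continuous.continuousOn
      have hsub : g.left '' (A.hom ⁻¹' {s}) ⊆ H.hom ⁻¹' {s} := by
        rintro _ ⟨a, ha, rfl⟩
        show (g.left ≫ H.hom) a = s
        rw [Over.w g]
        exact ha
      have := (H.hom.isDiscrete_preimage_singleton s).mono hsub
      exact (hpre.isDiscrete_iff_subsingleton.1 this) ⟨x, hx, rfl⟩ ⟨x', hx', rfl⟩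
    obtain ⟨t, ht, hgt⟩ := Groth.Agent.AV.exists_section_of_collapsed_univ A.hom
      (fun s => Groth.Agent.AV.fibConst_of_geometrically A.hom s) H.hom g.left (Over.w g) hd
    refine ⟨Over.homMk t ht, ?_⟩
    ext1
    exact hgt.symm

end Groth.Agent.S15364
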