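import Groth.Statements.S15365
import Mathlib.RingTheory.Etale.Basic
import Mathlib.LinearAlgebra.Matrix.ToLinearEquiv
import Mathlib.Algebra.CharP.Lemmas
import Mathlib.Algebra.TrivSqZeroExt.Basic
import Mathlib.Algebra.MvPolynomial.CommRing

set_option autoImplicit false
universe u
open scoped BigOperators
open CAlg

namespace Groth.Agent.S15365


open MvPolynomial Matrix in
private lemma aux_add_pow {C : Type*} [CommRing C] (p : ℕ) [hp : Fact p.Prime] (hpC : (p : C) = 0)
    (y e : C) (he : e ^ 2 = 0) : (y + e) ^ p = y ^ p := by
  obtain ⟨r, hr⟩ := exists_add_pow_prime_eq hp.out y e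
  rw [hr, hpC, pow_eq_zero_of_le hp.out.two_le he]
  ring


/-- Let A be a commutative ring of characteristic p > 0 and (h_{ij})_{1 ≤ i,j ≤ n} a square matrix over
A, the matrix of a commutative p-Lie algebra (L, φ) with L free with basis e_1, …, e_n and φ(e_j) =
Σ_i h_{ij} e_i. The associated finite group scheme Spec A[X_1, …, X_n]/(X_j^p − Σ_i h_{ij} X_i)_{1 ≤
j ≤ n} is étale over A if and only if the matrix (h_{ij}) is invertible, i.e. its determinant is a
unit of A. Only the algebra structure enters this assertion. -/
theorem result (p : ℕ) [Fact p.Prime]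
    (A : Type u) [CommRing A] [CharP A p] (n : ℕ) (h : Matrix (Fin n) (Fin n) A) :
    Algebra.Etale A (MvPolynomial (Fin n) A ⧸ Ideal.span (Set.range fun j : Fin n =>
        (MvPolynomial.X j : MvPolynomial (Fin n) A) ^ p -
          ∑ i : Fin n, MvPolynomial.C (h i j) * MvPolynomial.X i)) ↔
      IsUnit h.det := by
  classical
  set rel : Fin n → MvPolynomial (Fin n) A := fun j =>
    (MvPolynomial.X j : MvPolynomial (Fin n) A) ^ p -
      ∑ i : Fin n, MvPolynomial.C (h i j) * MvPolynomial.X i with hrel
  have aeval_rel : ∀ (C : Type u) [CommRing C] [Algebra A C] (x : Fin n → C) (j : Fin n),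
      MvPolynomial.aeval x (rel j) = x j ^ p - ∑ i, algebraMap A C (h i j) * x i := by
    intro C _ _ x j
    simp [hrel]
  constructor
  · intro hB
    by_contra hdet
    obtain ⟨m, hm, hmem⟩ := exists_max_ideal_of_mem_nonunits (show h.det ∈ nonunits A from hdet)
    let K := A ⧸ m
    letI : Field K := Ideal.Quotient.field m
    have hd0 : (h.map (Ideal.Quotient.mk m)).det = 0 := by
      rw [show h.map (Ideal.Quotient.mk m) = (Ideal.Quotient.mk m).mapMatrix h from rfl,
        ← RingHom.map_det, Ideal.Quotient.eq_zero_iff_mem]
      exact hmem
    obtain ⟨v, hv0, hv⟩ := Matrix.exists_vecMul_eq_zero_iff.mpr hd0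
    let C := TrivSqZeroExt K K
    let x : Fin n → C := fun i => TrivSqZeroExt.inr (v i)
    have hsq : ∀ a b : K, (TrivSqZeroExt.inr a : C) * TrivSqZeroExt.inr b = 0 := fun a b =>
      TrivSqZeroExt.inr_mul_inr K a b
    have hx : ∀ a ∈ Ideal.span (Set.range rel), MvPolynomial.aeval x a = 0 := by
      intro a ha
      induction ha using Submodule.span_induction with
      | mem a ha =>
        obtain ⟨j, rfl⟩ := ha
        rw [aeval_rel]
        have h1 : x j ^ p = 0 := pow_eq_zero_of_le (Fact.out : p.Prime).two_le
          (by rw [pow_two]; exact hsq _ _)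
        rw [h1, zero_sub, neg_eq_zero]
        have h2 : ∀ i, algebraMap A C (h i j) * x i
            = TrivSqZeroExt.inr (v i * Ideal.Quotient.mk m (h i j)) := by
          intro i
          rw [TrivSqZeroExt.algebraMap_eq_inl']
          simp only [x]
          rw [TrivSqZeroExt.inl_mul_inr, smul_eq_mul, mul_comm]
          rfl
        simp only [h2]
        rw [← TrivSqZeroExt.inr_sum]
        have h3 := congrFun hv j
        simp only [Matrix.vecMul, dotProduct, Matrix.map_apply, Pi.zero_apply] at h3
        rw [h3, TrivSqZeroExt.inr_zero]
      | zero => simp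
      | add a b _ _ ha hb => simp [ha, hb]
      | smul c a _ ha => simp [ha]
    have h0 : ∀ a ∈ Ideal.span (Set.range rel), MvPolynomial.aeval (0 : Fin n → C) a = 0 := by
      intro a ha
      induction ha using Submodule.span_induction with
      | mem a ha =>
        obtain ⟨j, rfl⟩ := ha
        rw [aeval_rel]
        simp [zero_pow (Fact.out : p.Prime).ne_zero]
      | zero => exact map_zero _
      | add a b _ _ ha hb => rw [map_add, ha, hb, add_zero]
      | smul c a _ ha => rw [smul_eq_mul, map_mul, ha, mul_zero]
    let g1 := Ideal.Quotient.liftₐ (Ideal.span (Set.range rel)) (MvPolynomial.aeval x) hx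
    let g2 := Ideal.Quotient.liftₐ (Ideal.span (Set.range rel))
      (MvPolynomial.aeval (0 : Fin n → C)) h0
    have hker : IsNilpotent (RingHom.ker (TrivSqZeroExt.fstHom A K K : C →+* K)) := by
      refine ⟨2, ?_⟩
      rw [Ideal.zero_eq_bot, eq_bot_iff, Submodule.pow_succ, Submodule.pow_one, Ideal.mul_le]
      intro a ha b hb
      rw [RingHom.mem_ker] at ha hb
      rw [Ideal.mem_bot]
      change TrivSqZeroExt.fst a = 0 at ha
      change TrivSqZeroExt.fst b = 0 at hb
      rw [← TrivSqZeroExt.inl_fst_add_inr_snd_eq a, ← TrivSqZeroExt.inl_fst_add_inr_snd_eq b,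
        ha, hb, TrivSqZeroExt.inl_zero, zero_add, zero_add]
      exact hsq _ _
    haveI hF : Algebra.FormallyUnramified A
        (MvPolynomial (Fin n) A ⧸ Ideal.span (Set.range rel)) := by
      haveI := hB.formallyEtale
      infer_instance
    have hcomp : ((TrivSqZeroExt.fstHom A K K).comp g1) = (TrivSqZeroExt.fstHom A K K).comp g2 := by
      apply Ideal.Quotient.algHom_ext
      apply MvPolynomial.algHom_ext
      intro i
      change TrivSqZeroExt.fst (MvPolynomial.aeval x (MvPolynomial.X i)) =
        TrivSqZeroExt.fst (MvPolynomial.aeval (0 : Fin n → C) (MvPolynomial.X i))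
      simp [x]
    have := Algebra.FormallyUnramified.lift_unique' (TrivSqZeroExt.fstHom A K K) hker g1 g2 hcomp
    apply hv0
    funext i
    have h4 := AlgHom.congr_fun this (Ideal.Quotient.mk _ (MvPolynomial.X i))
    change MvPolynomial.aeval x (MvPolynomial.X i) =
      MvPolynomial.aeval (0 : Fin n → C) (MvPolynomial.X i) at h4
    simp [x] at h4
    simpa using congrArg TrivSqZeroExt.snd h4
  · intro hdet
    haveI : Algebra.FinitePresentation A
        (MvPolynomial (Fin n) A ⧸ Ideal.span (Set.range rel)) :=
      Algebra.FinitePresentation.quotient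
        (Submodule.fg_span (Set.finite_range rel))
    haveI : Algebra.FormallyEtale A (MvPolynomial (Fin n) A ⧸ Ideal.span (Set.range rel)) := by
      rw [Algebra.FormallyEtale.iff_comp_bijective]
      intro C _ _ I hI
      have hp0 : (p : C) = 0 := by
        rw [← map_natCast (algebraMap A C), CharP.cast_eq_zero, map_zero]
      have hsq : ∀ a ∈ I, a ^ 2 = 0 := by
        intro a ha
        have := Ideal.pow_mem_pow ha 2
        rwa [hI, Ideal.mem_bot] at this
      let M := h.map (algebraMap A C)
      have hM : IsUnit M.det := by
        rw [show M = (algebraMap A C).mapMatrix h from rfl, ← RingHom.map_det]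
        exact hdet.map _
      constructor
      · intro g1 g2 hg
        apply Ideal.Quotient.algHom_ext
        apply MvPolynomial.algHom_ext
        intro i₀
        set π := Ideal.Quotient.mkₐ A (Ideal.span (Set.range rel))
        let y : Fin n → C := fun i => g1 (π (MvPolynomial.X i))
        let z : Fin n → C := fun i => g2 (π (MvPolynomial.X i))
        have hrelg : ∀ (g : (MvPolynomial (Fin n) A ⧸ Ideal.span (Set.range rel)) →ₐ[A] C) j,
            g (π (MvPolynomial.X j)) ^ p
              = ∑ i, algebraMap A C (h i j) * g (π (MvPolynomial.X i)) := by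
          intro g j
          have h1 : (g.comp π) (rel j) = 0 := by
            have h2 : π (rel j) = 0 :=
              Ideal.Quotient.eq_zero_iff_mem.mpr (Ideal.subset_span ⟨j, rfl⟩)
            simp [h2]
          rw [MvPolynomial.aeval_unique (g.comp π), aeval_rel] at h1
          exact sub_eq_zero.mp h1
        have hmem : ∀ i, y i - z i ∈ I := fun i =>
          Ideal.Quotient.eq.mp (AlgHom.congr_fun hg (π (MvPolynomial.X i)))
        have h3 : Matrix.vecMul (y - z) M = 0 := by
          funext j
          have hy := hrelg g1 j
          have hz := hrelg g2 j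
          have hyz : y j ^ p = z j ^ p := by
            have := aux_add_pow p hp0 (z j) (y j - z j) (hsq _ (hmem j))
            rwa [add_sub_cancel] at this
          simp only [Matrix.vecMul, dotProduct, Pi.sub_apply, M, Matrix.map_apply, Pi.zero_apply,
            sub_mul, Finset.sum_sub_distrib]
          rw [sub_eq_zero]
          calc ∑ i, y i * algebraMap A C (h i j) = y j ^ p := by
                rw [hy]; exact Finset.sum_congr rfl fun i _ => mul_comm _ _
            _ = z j ^ p := hyz
            _ = ∑ i, z i * algebraMap A C (h i j) := by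
                rw [hz]; exact Finset.sum_congr rfl fun i _ => mul_comm _ _
        have h4 : y - z = 0 := by
          calc y - z = Matrix.vecMul (Matrix.vecMul (y - z) M) M⁻¹ := by
                rw [Matrix.vecMul_vecMul, Matrix.mul_nonsing_inv _ hM, Matrix.vecMul_one]
            _ = 0 := by rw [h3, Matrix.zero_vecMul]
        exact sub_eq_zero.mp (congrFun h4 i₀)
      · intro f
        set π := Ideal.Quotient.mkₐ A (Ideal.span (Set.range rel))
        choose y hy using fun i : Fin n =>
          Ideal.Quotient.mk_surjective (f (π (MvPolynomial.X i)))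
        let r : Fin n → C := fun j => y j ^ p - ∑ i, algebraMap A C (h i j) * y i
        have hr : ∀ j, r j ∈ I := by
          intro j
          rw [← Ideal.Quotient.eq_zero_iff_mem]
          have h1 : (f.comp π) (rel j) = 0 := by
            have h2 : π (rel j) = 0 :=
              Ideal.Quotient.eq_zero_iff_mem.mpr (Ideal.subset_span ⟨j, rfl⟩)
            simp [h2]
          rw [MvPolynomial.aeval_unique (f.comp π), aeval_rel] at h1
          simp only [r, map_sub, map_sum, map_mul, map_pow, hy]
          exact h1
        let e : Fin n → C := Matrix.vecMul r M⁻¹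
        have he : ∀ i, e i ∈ I := fun i => by
          simp only [e, Matrix.vecMul, dotProduct]
          exact Ideal.sum_mem _ fun j _ => I.mul_mem_right _ (hr j)
        have heM : Matrix.vecMul e M = r := by
          simp only [e]
          rw [Matrix.vecMul_vecMul, Matrix.nonsing_inv_mul _ hM, Matrix.vecMul_one]
        let w : Fin n → C := fun i => y i + e i
        have hw : ∀ a ∈ Ideal.span (Set.range rel), MvPolynomial.aeval w a = 0 := by
          intro a ha
          induction ha using Submodule.span_induction with
          | mem a ha =>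
            obtain ⟨j, rfl⟩ := ha
            rw [aeval_rel, sub_eq_zero]
            rw [show w j ^ p = y j ^ p from aux_add_pow p hp0 _ _ (hsq _ (he j))]
            simp only [w, mul_add, Finset.sum_add_distrib]
            have h5 := congrFun heM j
            simp only [Matrix.vecMul, dotProduct, M, Matrix.map_apply] at h5
            have h6 : ∑ i, algebraMap A C (h i j) * e i = r j := by
              rw [← h5]; exact Finset.sum_congr rfl fun i _ => mul_comm _ _
            rw [h6]
            simp only [r]
            ring
          | zero => simp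
          | add a b _ _ ha hb => simp [ha, hb]
          | smul c a _ ha => simp [ha]
        refine ⟨Ideal.Quotient.liftₐ (Ideal.span (Set.range rel)) (MvPolynomial.aeval w) hw, ?_⟩
        apply Ideal.Quotient.algHom_ext
        apply MvPolynomial.algHom_ext
        intro i
        change Ideal.Quotient.mk I (MvPolynomial.aeval w (MvPolynomial.X i)) = f (π (MvPolynomial.X i))
        rw [MvPolynomial.aeval_X, ← hy i]
        simp only [w, map_add, Ideal.Quotient.eq_zero_iff_mem.mpr (he i), add_zero]
    exact ⟨inferInstance, inferInstance⟩

end Groth.Agent.S15365
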