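import Groth.Statements.S15366
import Mathlib.RingTheory.MvPowerSeries.Equiv
import Mathlib.RingTheory.PowerSeries.Inverse
import Mathlib.RingTheory.AdicCompletion.Completeness
import Mathlib.FieldTheory.IsAlgClosed.AlgebraicClosure
import Mathlib.RingTheory.MvPowerSeries.NoZeroDivisors

set_option autoImplicit false
universe u
open CAlg

set_option backward.isDefEq.respectTransparency.types false
namespace Groth.Agent.S15366

/-- Let k be an algebraically closed field of characteristic p > 0, R = k[[t₁, t₂]], and O = R_{(t₁)}
the local ring of Spec R at the generic point x of the divisor t₁ = 0 (a discrete valuation ring,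
with uniformizer t₁ and residue field k((t₂))). Then O embeds, by an injective local k-algebra map
φ, into some complete discrete valuation ring A containing k whose residue field is algebraically
closed and in which φ(t₁) is still a uniformizer. The prime ideal (t₁) is passed as an ideal P equal
to it together with its primality. -/
theorem result
    (p : ℕ) [Fact p.Prime] (k : Type u) [Field k] [IsAlgClosed k] [CharP k p]
    (P : Ideal (MvPowerSeries (Fin 2) k))
    (hP : P = Ideal.span {(MvPowerSeries.X 0 : MvPowerSeries (Fin 2) k)}) [P.IsPrime] :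
    ∃ (A : Type u) (_ : CommRing A) (_ : IsDomain A) (_ : IsDiscreteValuationRing A) (_ : Algebra k A)
      (φ : Localization.AtPrime P →ₐ[k] A),
      IsAdicComplete (IsLocalRing.maximalIdeal A) A ∧ IsAlgClosed (IsLocalRing.ResidueField A) ∧
        Function.Injective φ ∧ IsLocalHom φ.toRingHom ∧
          Irreducible (φ (algebraMap (MvPowerSeries (Fin 2) k) (Localization.AtPrime P)
            (MvPowerSeries.X 0))) := by
  subst hP
  let D := MvPowerSeries (Fin 1) k
  haveI : IsDomain D := NoZeroDivisors.to_isDomain _
  let L := AlgebraicClosure (FractionRing D)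
  let A := PowerSeries L
  let ι : D →+* L := (algebraMap (FractionRing D) L).comp (algebraMap D (FractionRing D))
  have hι : Function.Injective ι :=
    (algebraMap (FractionRing D) L).injective.comp (IsFractionRing.injective D (FractionRing D))
  have hιk : ∀ a : k, ι (algebraMap k D a) = algebraMap k L a := fun a => by
    show algebraMap (FractionRing D) L (algebraMap D (FractionRing D) (algebraMap k D a)) = _
    rw [← IsScalarTower.algebraMap_apply k D (FractionRing D),
      ← IsScalarTower.algebraMap_apply k (FractionRing D) L]
  let e := MvPowerSeries.finSuccEquiv k 1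
  let ψ : MvPowerSeries (Fin 2) k →ₐ[k] A :=
    { (PowerSeries.map ι).comp e.toAlgHom.toRingHom with
      commutes' := fun a => by
        show PowerSeries.map ι (e (algebraMap k _ a)) = _
        rw [e.commutes, PowerSeries.algebraMap_apply, PowerSeries.map_C, hιk,
          PowerSeries.algebraMap_apply] }
  have hψ : Function.Injective ψ := by
    have h1 : Function.Injective (PowerSeries.map ι) := fun f g h =>
      PowerSeries.ext fun n => hι (by simpa using congrArg (PowerSeries.coeff n) h)
    exact h1.comp e.injective
  have hX : ψ (MvPowerSeries.X 0) = PowerSeries.X := by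
    show PowerSeries.map ι (e (MvPowerSeries.X 0)) = _
    rw [show e (MvPowerSeries.X 0) = PowerSeries.X by
      simp [e, MvPowerSeries.finSuccEquiv, MvPowerSeries.renameEquiv]]
    exact PowerSeries.map_X ι
  set P := Ideal.span {(MvPowerSeries.X 0 : MvPowerSeries (Fin 2) k)} with hP
  have hmem : ∀ f, f ∈ P ↔ PowerSeries.constantCoeff (ψ f) = 0 := by
    intro f
    have hXe : e (MvPowerSeries.X 0) = PowerSeries.X := by
      simp [e, MvPowerSeries.finSuccEquiv, MvPowerSeries.renameEquiv]
    rw [hP, Ideal.mem_span_singleton, ← map_dvd_iff e, hXe, PowerSeries.X_dvd_iff,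
      show PowerSeries.constantCoeff (ψ f) = ι (PowerSeries.constantCoeff (e f)) by
        show PowerSeries.constantCoeff (PowerSeries.map ι (e f)) = _
        rw [← PowerSeries.coeff_zero_eq_constantCoeff_apply, ← PowerSeries.coeff_zero_eq_constantCoeff_apply,
          PowerSeries.coeff_map], map_eq_zero_iff ι hι]
  have hu : ∀ y : P.primeCompl, IsUnit (ψ y) := fun y =>
    PowerSeries.isUnit_iff_constantCoeff.mpr (isUnit_iff_ne_zero.mpr fun h => y.2 ((hmem _).mpr h))
  let φ : Localization.AtPrime P →ₐ[k] A := IsLocalization.liftAlgHom (f := ψ) hu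
  have hφ : ∀ x, φ (algebraMap _ (Localization.AtPrime P) x) = ψ x := fun x =>
    IsLocalization.lift_eq hu x
  refine ⟨A, inferInstance, inferInstance, inferInstance, inferInstance, φ, ?_, ?_, ?_, ?_, ?_⟩
  · rw [PowerSeries.maximalIdeal_eq_span_X]
    infer_instance
  · have hker : RingHom.ker (PowerSeries.constantCoeff (R := L)) = IsLocalRing.maximalIdeal A := by
      ext f
      rw [PowerSeries.maximalIdeal_eq_span_X, RingHom.mem_ker, Ideal.mem_span_singleton, PowerSeries.X_dvd_iff]
    exact IsAlgClosed.of_ringEquiv L _
      ((RingHom.quotientKerEquivOfSurjective PowerSeries.constantCoeff_surj).symm.trans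
        (Ideal.quotEquivOfEq hker))
  · show Function.Injective (IsLocalization.lift (g := ψ.toRingHom) hu)
    refine (IsLocalization.lift_injective_iff _).mpr fun x y => ⟨fun h => ?_, fun h => ?_⟩
    · exact congrArg ψ (IsLocalization.injective (Localization.AtPrime P)
        (P.primeCompl_le_nonZeroDivisors) h)
    · exact congrArg _ (hψ h)
  · refine ⟨fun x hx => ?_⟩
    obtain ⟨f, s, rfl⟩ := IsLocalization.exists_mk'_eq P.primeCompl x
    rw [IsLocalization.AtPrime.isUnit_mk'_iff]
    intro hf
    have h1 := congrArg φ (IsLocalization.mk'_spec (Localization.AtPrime P) f s)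
    rw [map_mul, hφ, hφ] at h1
    have h2 : IsUnit (ψ f) := h1 ▸ (IsUnit.mul hx (hu s))
    exact (PowerSeries.isUnit_iff_constantCoeff.mp h2).ne_zero ((hmem f).mp hf)
  · rw [hφ, hX]
    exact PowerSeries.X_irreducible


end Groth.Agent.S15366
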