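import Groth.Statements.S15367
import Groth.Agent.L01.DvrLength
import Mathlib.LinearAlgebra.Dimension.Finite
import Mathlib.LinearAlgebra.Isomorphisms
import Mathlib.RingTheory.SimpleModule.Basic
import Mathlib.LinearAlgebra.Dimension.Free

set_option autoImplicit false
universe u v
open TensorProduct
open CAlg

namespace Groth.Agent.S15367

/-- Let R be a discrete valuation ring with uniformizer π and residue field k, n ≥ 0, and M₀ a finitely
generated module over R/πⁿR, viewed as an R-module killed by πⁿ; put M₀* = Hom_R(M₀, R/πⁿR). Then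
dim_k(M₀*/πM₀*) = dim_k(M₀/πM₀). The published lemma is stated for a finitely presented module over
the quotient of the ring of integers of an algebraic closure of K by the elements of valuation ≥ t,
with its dual into that quotient ring, and the published proof reduces it by descent to exactly this
statement over the valuation ring of a finite extension of K; the row states that step. -/
theorem result
    (R : Type u) [CommRing R] [IsDomain R] [IsDiscreteValuationRing R] (ϖ : R) (hϖ : Irreducible ϖ) (n : ℕ)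
    (M : Type v) [AddCommGroup M] [Module R M] [Module.Finite R M] (hM : ∀ m : M, ϖ ^ n • m = 0) :
    Module.finrank (IsLocalRing.ResidueField R)
        (IsLocalRing.ResidueField R ⊗[R] (M →ₗ[R] (R ⧸ Ideal.span {ϖ ^ n}))) =
      Module.finrank (IsLocalRing.ResidueField R) (IsLocalRing.ResidueField R ⊗[R] M) := by
  classical
  set Q := R ⧸ Ideal.span {ϖ ^ n} with hQ
  haveI : Module.Finite R (M →ₗ[R] Q) := by
    obtain ⟨r, f, hf⟩ := Module.Finite.exists_fin' R M
    exact Module.Finite.of_injective ((LinearMap.lcomp R Q f : (M →ₗ[R] Q) →ₗ[R] ((Fin r → R) →ₗ[R] Q)))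
      fun a b h => LinearMap.ext fun m => by
        obtain ⟨v, rfl⟩ := hf m
        exact LinearMap.congr_fun h v
  rcases Nat.eq_zero_or_pos n with hn | hn
  · subst hn
    have hm0 : ∀ m : M, m = 0 := fun m => by simpa using hM m
    haveI : Subsingleton M := subsingleton_of_forall_eq 0 hm0
    haveI : Subsingleton (M →ₗ[R] Q) := ⟨fun a b => LinearMap.ext fun m => by rw [hm0 m, map_zero, map_zero]⟩
    haveI : Subsingleton (IsLocalRing.ResidueField R ⊗[R] (M →ₗ[R] Q)) := inferInstance
    haveI : Subsingleton (IsLocalRing.ResidueField R ⊗[R] M) := inferInstance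
    rw [Module.finrank_zero_of_subsingleton, Module.finrank_zero_of_subsingleton]
  have hQpow : ∀ q : Q, ϖ ^ n • q = 0 := fun q => by
    obtain ⟨c, rfl⟩ := Ideal.Quotient.mk_surjective q
    rw [Algebra.smul_def, Ideal.Quotient.algebraMap_eq, ← map_mul, Ideal.Quotient.eq_zero_iff_mem]
    exact Ideal.mul_mem_right _ _ (Ideal.mem_span_singleton_self _)
  have hH := Groth.L01.DvrLength.length_ne_top_of_pow hϖ (n := n) (M →ₗ[R] Q)
    (fun φ => LinearMap.ext fun m => hQpow (φ m))
  apply Nat.cast_injective (R := ℕ∞)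
  rw [Groth.L01.DvrLength.coe_finrank_eq_length_ker hϖ _ hH]
  let k := IsLocalRing.ResidueField R
  let b := Module.finBasis k (k ⊗[R] M)
  let r := Module.finrank k (k ⊗[R] M)
  let π : M →ₗ[R] (Fin r → k) := (b.equivFun.restrictScalars R).toLinearMap ∘ₗ TensorProduct.mk R k M 1
  have hπ : Function.Surjective π := (b.equivFun.restrictScalars R).surjective.comp
    (TensorProduct.mk_surjective R M k IsLocalRing.residue_surjective)
  have hkerπ : ∀ m, π m = 0 → ∃ m', ϖ • m' = m := fun m hm => by
    have h1 : (TensorProduct.mk R k M 1) m = 0 := (b.equivFun.restrictScalars R).injective (hm.trans (map_zero _).symm)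
    have h2 := congrArg (TensorProduct.quotTensorEquivQuotSMul M (IsLocalRing.maximalIdeal R)) h1
    have h3 : (Submodule.Quotient.mk m : M ⧸ IsLocalRing.maximalIdeal R • (⊤ : Submodule R M)) = 0 :=
      (TensorProduct.quotTensorEquivQuotSMul_mk_one_tmul (IsLocalRing.maximalIdeal R) m).symm.trans
        (h2.trans (LinearEquiv.map_zero _))
    rw [Submodule.Quotient.mk_eq_zero, hϖ.maximalIdeal_eq, Submodule.ideal_span_singleton_smul,
      Submodule.mem_smul_pointwise_iff_exists] at h3
    obtain ⟨m', -, hm'⟩ := h3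
    exact ⟨m', hm'⟩
  have hkill : ∀ (v : Fin r → k), ϖ • v = 0 := fun v => by
    funext i
    show ϖ • v i = 0
    rw [Algebra.smul_def, IsLocalRing.ResidueField.algebraMap_eq,
      (IsLocalRing.residue_eq_zero_iff ϖ).2 (hϖ.maximalIdeal_eq ▸ Ideal.mem_span_singleton_self ϖ), zero_mul]
  let μ := LinearMap.lsmul R (M →ₗ[R] Q) ϖ
  let Ψ : ((Fin r → k) →ₗ[R] Q) →ₗ[R] LinearMap.ker μ :=
    (LinearMap.lcomp R Q π).codRestrict _ fun χ => LinearMap.mem_ker.2 (LinearMap.ext fun m => by
      show ϖ • χ (π m) = 0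
      rw [← map_smul, hkill, map_zero])
  have hΨ : Function.Bijective Ψ := by
    refine ⟨fun χ χ' h => LinearMap.ext fun v => ?_, fun ⟨φ, hφ⟩ => ?_⟩
    · obtain ⟨m, rfl⟩ := hπ v
      exact LinearMap.congr_fun (congrArg Subtype.val h) m
    · have hle : LinearMap.ker π ≤ LinearMap.ker φ := fun m hm => by
        obtain ⟨m', rfl⟩ := hkerπ m (LinearMap.mem_ker.1 hm)
        rw [LinearMap.mem_ker, map_smul]
        exact LinearMap.congr_fun (LinearMap.mem_ker.1 hφ) m'
      refine ⟨(LinearMap.ker π).liftQ φ hle ∘ₗ (π.quotKerEquivOfSurjective hπ).symm.toLinearMap, Subtype.ext (LinearMap.ext fun m => ?_)⟩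
      show (LinearMap.ker π).liftQ φ hle ((π.quotKerEquivOfSurjective hπ).symm (π m)) = φ m
      simp
  rw [← (LinearEquiv.ofBijective Ψ hΨ).length_eq, ← (LinearMap.lsum R (fun _ : Fin r => k) R).length_eq,
    Module.length_pi_of_fintype]
  have hk : Module.length R (k →ₗ[R] Q) = 1 := by
    let ν := LinearMap.lsmul R Q ϖ
    let e1 : k →ₗ[R] k := LinearMap.id
    let Φ : (k →ₗ[R] Q) →ₗ[R] LinearMap.ker ν :=
      (LinearMap.applyₗ (1 : k)).codRestrict _ fun χ => LinearMap.mem_ker.2 (by
        show ϖ • χ 1 = 0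
        rw [← map_smul, Algebra.smul_def, IsLocalRing.ResidueField.algebraMap_eq,
          (IsLocalRing.residue_eq_zero_iff ϖ).2 (hϖ.maximalIdeal_eq ▸ Ideal.mem_span_singleton_self ϖ), zero_mul, map_zero])
    have hΦ : Function.Bijective Φ := by
      refine ⟨fun χ χ' h => LinearMap.ext fun c => ?_, fun ⟨q, hq⟩ => ?_⟩
      · obtain ⟨a, rfl⟩ := IsLocalRing.residue_surjective c
        rw [show IsLocalRing.residue R a = a • (1 : k) by rw [Algebra.smul_def, mul_one]; rfl, map_smul, map_smul]
        exact congrArg (a • ·) (congrArg Subtype.val h)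
      · have hle : IsLocalRing.maximalIdeal R ≤ LinearMap.ker (LinearMap.toSpanSingleton R Q q) := fun a ha => by
          rw [hϖ.maximalIdeal_eq] at ha
          obtain ⟨c, rfl⟩ := Ideal.mem_span_singleton'.1 ha
          rw [LinearMap.mem_ker, LinearMap.toSpanSingleton_apply, mul_smul]
          have : ϖ • q = 0 := hq
          rw [this, smul_zero]
        refine ⟨Submodule.liftQ _ (LinearMap.toSpanSingleton R Q q) hle, Subtype.ext ?_⟩
        show (LinearMap.toSpanSingleton R Q q) 1 = q
        rw [LinearMap.toSpanSingleton_apply, one_smul]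
    rw [(LinearEquiv.ofBijective Φ hΦ).length_eq,
      ← Groth.L01.DvrLength.length_coker_eq_ker (Groth.L01.DvrLength.length_ne_top_of_pow hϖ Q hQpow) ν]
    have hr : LinearMap.range ν = Submodule.map (Submodule.mkQ (Ideal.span {ϖ ^ n})) (IsLocalRing.maximalIdeal R) := by
      ext q
      rw [LinearMap.mem_range, Submodule.mem_map, hϖ.maximalIdeal_eq]
      constructor
      · rintro ⟨z, rfl⟩
        obtain ⟨c, rfl⟩ := Submodule.mkQ_surjective _ z
        exact ⟨ϖ * c, Ideal.mul_mem_right _ _ (Ideal.mem_span_singleton_self ϖ), rfl⟩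
      · rintro ⟨a, ha, rfl⟩
        obtain ⟨c, rfl⟩ := Ideal.mem_span_singleton'.1 ha
        exact ⟨Submodule.mkQ _ c, by rw [mul_comm]; rfl⟩
    rw [((Submodule.quotEquivOfEq _ _ hr).trans (Submodule.quotientQuotientEquivQuotient _ (IsLocalRing.maximalIdeal R) (by
        rw [hϖ.maximalIdeal_eq, Ideal.span_singleton_le_iff_mem, Ideal.mem_span_singleton]
        exact dvd_pow_self ϖ hn.ne'))).length_eq]
    haveI : IsSimpleModule R (R ⧸ IsLocalRing.maximalIdeal R) :=
      isSimpleModule_iff_isCoatom.2 (IsLocalRing.maximalIdeal.isMaximal R).out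
    exact Module.length_eq_one _ _
  rw [Finset.sum_congr rfl fun i _ => hk]
  simp [r, k]


end Groth.Agent.S15367
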