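import Groth.Statements.S15368
import Groth.Agent.L01.DvrLength

set_option autoImplicit false
universe u v
open TensorProduct
open CAlg

namespace Groth.Agent.S15368

/-- Let R be a discrete valuation ring with uniformizer π and residue field k, n ≥ 0, M₀ a finitely
generated R-module killed by πⁿ and N₀ a submodule of M₀. Then dim_k(N₀/πN₀) ≤ dim_k(M₀/πM₀). The
published lemma is stated for a finitely presented submodule N of a finitely presented module M over
the quotient of the ring of integers of an algebraic closure of K by the elements of valuation ≥ t,
and the published proof reduces it by descent to exactly this statement over the valuation ring of a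
finite extension of K (comparing π-torsion with π-cotorsion by additivity of length); the row states
that step. -/
theorem result
    (R : Type u) [CommRing R] [IsDomain R] [IsDiscreteValuationRing R] (ϖ : R) (hϖ : Irreducible ϖ) (n : ℕ)
    (M : Type v) [AddCommGroup M] [Module R M] [Module.Finite R M] (hM : ∀ m : M, ϖ ^ n • m = 0)
    (N : Submodule R M) :
    Module.finrank (IsLocalRing.ResidueField R) (IsLocalRing.ResidueField R ⊗[R] N) ≤
      Module.finrank (IsLocalRing.ResidueField R) (IsLocalRing.ResidueField R ⊗[R] M) := by
  classical
  haveI : Module.Finite R N := Module.IsNoetherian.finite R N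
  have hlen := Groth.L01.DvrLength.length_ne_top_of_pow hϖ M hM
  have hlenN : Module.length R N ≠ ⊤ :=
    ne_top_of_le_ne_top hlen (Module.length_le_of_injective N.subtype N.injective_subtype)
  rw [← Nat.cast_le (α := ℕ∞), Groth.L01.DvrLength.coe_finrank_eq_length_ker hϖ N hlenN,
    Groth.L01.DvrLength.coe_finrank_eq_length_ker hϖ M hlen]
  refine Module.length_le_of_injective ((N.subtype ∘ₗ (LinearMap.ker (LinearMap.lsmul R N ϖ)).subtype).codRestrict
    (LinearMap.ker (LinearMap.lsmul R M ϖ)) fun z => LinearMap.mem_ker.2
      (congrArg N.subtype (LinearMap.mem_ker.1 z.2))) fun a b h => ?_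
  have h1 := congrArg Subtype.val h
  exact Subtype.ext (N.injective_subtype h1)


end Groth.Agent.S15368
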