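
import Groth.Statements.S1537
import Groth.Agent.L22.GeomConn.Irred
import Groth.Agent.L22.FibreDim

set_option autoImplicit false
universe u
open CategoryTheory CategoryTheory.Limits AlgebraicGeometry
open Variety

namespace Groth.Agent.S1537

/-- A connected k-scheme is geometrically connected as soon as it has a point whose residue field
contains no element integral over k other than the elements of k. -/
theorem result (k : Type u) [Field k] (X : Scheme.{u}) [X.Over (Spec (CommRingCat.of k))] [ConnectedSpace X]
    (x : X) (hx : ∀ a : X.residueField x, (Curv2.resMap k X x).IsIntegralElem a → a ∈ (Curv2.resMap k X x).range) :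
    GeometricallyConnected (X ↘ (Spec (CommRingCat.of k))) := by
  let f := X ↘ Spec (CommRingCat.of k)
  letI := Curv2.resAlgebra k X x
  have hψ : Spec.map (CommRingCat.ofHom (algebraMap k (X.residueField x))) = X.fromSpecResidueField x ≫ f :=
    Groth.L22.FibreDim.SpecMap_resMap k X x
  have hsep : ∀ a : X.residueField x, IsSeparable k a → a ∈ Set.range (algebraMap k (X.residueField x)) :=
    fun a ha => hx a ha.isIntegral
  haveI : ConnectedSpace ↥(FBase.bc f (AlgebraicClosure k)) := by
    have h := Groth.L22.GeomConn.isConnected_preimage_of_fibre f (AlgebraicClosure k) x _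
      (Groth.L22.GeomConn.isIrreducible_fibre f (AlgebraicClosure k) x hψ hsep).isPreirreducible.isPreconnected Set.Subset.rfl
    rw [PreconnectedSpace.connectedComponent_eq_univ, Set.preimage_univ] at h
    exact connectedSpace_iff_univ.2 h
  exact Groth.L22.GeomConn.geometricallyConnected_of_sepClosed f (AlgebraicClosure k)

end Groth.Agent.S1537
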