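import Groth.Statements.S15376
import Groth.Agent.L03.SurfAdj.Tools
-- import your own Groth.Agent.* helpers here

set_option autoImplicit false
universe u
open CategoryTheory CategoryTheory.Limits AlgebraicGeometry
open Biell

namespace Groth.Agent.S15376

open Groth.L22.Inter Groth.L22.Nef Groth.L22.Big Groth.L03.Euler Groth.L03.SurfNum Groth.L03.SurfAdj
open Groth.L00.Tensor (tensorIso tensorComm tensorUnitLeft tensorUnitRight tensorAssoc)


/-- Let k be an algebraically closed field and X a (quasi-)bielliptic surface over k, meaning here: X is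
an integral k-scheme, proper and smooth of relative dimension 2 over k and carrying an ample
invertible sheaf, whose canonical sheaf ω (a second exterior power of Ω_{X/k}) is numerically
trivial (degree 0 on every integral closed curve in X) and whose second ℓ-adic Betti number (the
rank of lim_ν H²(X_et, Z/ℓ^ν)) equals 2 for every prime ℓ invertible in k. Then the geometric genus
p_g(X) = dim_k H²(X, O_X) equals 1 if and only if ω ≅ O_X, i.e. ω has order 1 in Pic(X). (The
published statement is for bielliptic surfaces and has a third equivalent condition, non-reducedness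
of the identity component of the Picard scheme, which is not stated here; the equivalence of the two
conditions stated rests only on the numerical triviality of ω on an integral smooth projective
surface, so this row states it for quasi-bielliptic surfaces as well.) -/
theorem result (k : Type u) [Field k] [IsAlgClosed k] (X : Scheme.{u}) [X.Over (Spec (CommRingCat.of k))]
    [IsIntegral X] [IsProper (X ↘ Spec (CommRingCat.of k))] [SmoothOfRelativeDimension 2 (X ↘ Spec (CommRingCat.of k))]
    (hproj : ∃ H : X.Modules, CohB1.IsAmple H)
    (ω : X.Modules) (hω : Canon.IsTopDiff (X ↘ Spec (CommRingCat.of k)) 2 ω) (hnum : Pic13.IsNumEquivZero k X ω)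
    (hb2 : ∀ ℓ : ℕ, ℓ.Prime → (ℓ : k) ≠ 0 → EtAdic.betti X ℓ 2 = 2) :
    Module.finrank k (Coh.HH X (Coh.structureModule X) 2) = 1 ↔ Nonempty (ω ≅ Coh.structureModule X) := by
  have hdim : topologicalKrullDim X = 2 := (Groth.L03.SurfAdj.dim_of_relDim (X ↘ Spec (CommRingCat.of k)) 2).trans Nat.cast_ofNat
  have hd2 : topologicalKrullDim X = (2 : ℕ) := hdim.trans Nat.cast_ofNat.symm
  obtain ⟨H, hH⟩ := hproj
  haveI : Smooth (X ↘ Spec (CommRingCat.of k)) := SmoothOfRelativeDimension.smooth 2 _
  have hreg := reg_of_smooth k (X := X)
  obtain ⟨hWi, -, hflip0, -⟩ := canonical k hdim hreg hω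
  haveI := Groth.L21.RR.isNoetherian_of_proper (X := X) k
  have h20 : Module.finrank k (Coh.HH X (Coh.structureModule X) 2) = Module.finrank k (Coh.HH X ω 0) :=
    (hflip0 0 (Nat.zero_le 2)).symm
  rw [h20]
  constructor
  · intro h1
    obtain ⟨e⟩ := (section_facts k hd2 hWi hH (Module.nontrivial_of_finrank_pos (by rw [h1]; exact one_pos))).2
      (orth_of_isNumEquivZero k hd2 hreg hWi hnum hH)
    exact ⟨e.symm⟩
  · rintro ⟨e⟩
    rw [finrank_HH_of_iso e]
    exact Groth.L22.CurveDeg.h0_structure_eq_one k (X := X)

end Groth.Agent.S15376
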