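import Groth.Statements.S15383
import Groth.Prelude.Def_GmPts
import Mathlib.AlgebraicGeometry.Morphisms.FlatRank
import Mathlib.RingTheory.LocalRing.Module
import Mathlib.AlgebraicGeometry.Noetherian

set_option autoImplicit false
set_option linter.style.haveILetI false
universe u
open GmDual

namespace Groth.Agent.S15383

section

open TensorProduct

theorem exists_free_away (R S : Type u) [CommRing R] [AddCommGroup S] [Module R S]
    [Module.FinitePresentation R S] [Module.Flat R S] (p : Ideal R) [p.IsPrime] :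
    ∃ a ∉ p, Module.Free (Localization.Away a) (Localization.Away a ⊗[R] S) := by
  have : Module.Free (Localization.AtPrime p) (LocalizedModule p.primeCompl S) :=
    Module.free_of_flat_of_isLocalRing
  obtain ⟨r, hr, hr', _⟩ := Module.FinitePresentation.exists_free_localizedModule_powers
    p.primeCompl (LocalizedModule.mkLinearMap p.primeCompl S) (Localization.AtPrime p)
  exact ⟨r, hr, Module.Free.of_equiv (LocalizedModule.equivTensorProduct (.powers r) S)⟩

theorem free_of_baseChange (R A S Ra : Type u) [CommRing R] [CommRing A] [CommRing Ra]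
    [AddCommGroup S] [Module R S] [Algebra R A] [Algebra R Ra] [Algebra Ra A]
    [IsScalarTower R Ra A] [Module.Free Ra (Ra ⊗[R] S)] : Module.Free A (A ⊗[R] S) :=
  Module.Free.of_equiv (TensorProduct.AlgebraTensorModule.cancelBaseChange R Ra A A S)

end

section

open CategoryTheory CategoryTheory.Limits AlgebraicGeometry

theorem exists_nhd_free {P T : Scheme.{u}} (g : P ⟶ T) [IsFinite g] [Flat g]
    [LocallyOfFinitePresentation g] [IsAffine T] (t : T) :
    ∃ a : Γ(T, ⊤), t ∈ T.basicOpen a ∧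
      ∀ (T' P' : Scheme.{u}) [IsAffine T'] (ι : T' ⟶ T) (g' : P' ⟶ T') (pr : P' ⟶ P),
        IsPullback pr g' g ι → IsUnit (ι.appTop a) →
          (letI := g'.appTop.hom.toAlgebra; Module.Finite Γ(T', ⊤) Γ(P', ⊤)) ∧
          (letI := g'.appTop.hom.toAlgebra; Module.Free Γ(T', ⊤) Γ(P', ⊤)) := by
  have hP : IsAffine P := isAffine_of_isAffineHom g
  letI : Algebra Γ(T, ⊤) Γ(P, ⊤) := g.appTop.hom.toAlgebra
  have hfin : g.appTop.hom.Finite := g.finite_appTop
  have hflat : g.appTop.hom.Flat := g.flat_appTop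
  have hfp : g.appTop.hom.FinitePresentation := by
    have := g.finitePresentation_appLE (isAffineOpen_top T) (isAffineOpen_top P) le_rfl
    rw [Scheme.Hom.appTop, Scheme.Hom.app_eq_appLE]
    exact this
  have : Module.Finite Γ(T, ⊤) Γ(P, ⊤) := hfin
  have : Module.Flat Γ(T, ⊤) Γ(P, ⊤) := hflat
  have : Algebra.FinitePresentation Γ(T, ⊤) Γ(P, ⊤) := hfp
  have : Module.FinitePresentation Γ(T, ⊤) Γ(P, ⊤) :=
    Module.FinitePresentation.of_finite_of_finitePresentation _ _
  let p : PrimeSpectrum Γ(T, ⊤) := T.isoSpec.hom t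
  obtain ⟨a, ha, hfree⟩ := exists_free_away Γ(T, ⊤) Γ(P, ⊤) p.asIdeal
  refine ⟨a, ?_, ?_⟩
  · rw [← Scheme.toSpecΓ_preimage_basicOpen]
    exact ha
  intro T' P' _ ι g' pr hpb hu
  letI := g'.appTop.hom.toAlgebra
  letI : Algebra Γ(T, ⊤) Γ(T', ⊤) := ι.appTop.hom.toAlgebra
  letI : Algebra Γ(P, ⊤) Γ(P', ⊤) := pr.appTop.hom.toAlgebra
  letI : Algebra Γ(T, ⊤) Γ(P', ⊤) := (g'.appTop.hom.comp ι.appTop.hom).toAlgebra
  have sq : IsPushout ι.appTop g.appTop g'.appTop pr.appTop :=
    isPushout_appTop_of_isPullback hpb.flip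
  have : IsScalarTower Γ(T, ⊤) Γ(T', ⊤) Γ(P', ⊤) := .of_algebraMap_eq' rfl
  have : IsScalarTower Γ(T, ⊤) Γ(P, ⊤) Γ(P', ⊤) :=
    .of_algebraMap_eq' (congrArg CommRingCat.Hom.hom sq.w)
  have hpo : Algebra.IsPushout Γ(T, ⊤) Γ(T', ⊤) Γ(P, ⊤) Γ(P', ⊤) :=
    CommRingCat.isPushout_iff_isPushout.1 sq
  let e := (Algebra.IsPushout.equiv Γ(T, ⊤) Γ(T', ⊤) Γ(P, ⊤) Γ(P', ⊤)).toLinearEquiv
  letI : Algebra (Localization.Away a) Γ(T', ⊤) :=
    (IsLocalization.Away.lift a hu : Localization.Away a →+* Γ(T', ⊤)).toAlgebra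
  have : IsScalarTower Γ(T, ⊤) (Localization.Away a) Γ(T', ⊤) :=
    .of_algebraMap_eq' (IsLocalization.Away.lift_comp a hu).symm
  have := free_of_baseChange Γ(T, ⊤) Γ(T', ⊤) Γ(P, ⊤) (Localization.Away a)
  exact ⟨Module.Finite.equiv e, Module.Free.of_equiv e⟩

open Opposite in
theorem normPt_comp {X X' : Scheme.{u}} (f : X' ⟶ X)
    (N : CGrpSh3.pushGm Scheme.fppfPrecoverage f ⟶ CGrpSh2.Gm Scheme.fppfPrecoverage X)
    {T T' : Over X} (j : T' ⟶ T) (t' : (Over.pullback f).obj T ⟶ Red.Gm X') :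
    j ≫ CGrpSh3.normPt Scheme.fppfPrecoverage f N T t' =
      CGrpSh3.normPt Scheme.fppfPrecoverage f N T' ((Over.pullback f).map j ≫ t') := by
  have := ConcreteCategory.congr_hom (N.hom.naturality j.op) (ULift.up (Additive.ofMul t'))
  exact (congrArg (fun z => Additive.toMul (ULift.down z)) this).symm

end

open CategoryTheory AlgebraicGeometry in
/-- Let f : X' ⟶ X be a finite flat morphism of Noetherian schemes (so finite locally free). A morphism
of abelian sheaves N : f_* 𝔾_{m,X'} ⟶ 𝔾_{m,X} on the big fppf site of X is called a norm map of f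
when, on every affine test scheme T over X for which the functions of T ×_X X' form a finite free
algebra over those of T, it sends an invertible function on T ×_X X' to the determinant of
multiplication by it. Two norm maps of f are equal: a norm map is determined by its affine-local
description by determinants. -/
theorem result (X X' : Scheme.{u}) (f : X' ⟶ X) [IsFinite f] [Flat f]
    [AlgebraicGeometry.IsNoetherian X]
    (N N' : CGrpSh3.pushGm Scheme.fppfPrecoverage f ⟶ CGrpSh2.Gm Scheme.fppfPrecoverage X)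
    (hN : CGrpSh3.IsNormMap Scheme.fppfPrecoverage f N) (hN' : CGrpSh3.IsNormMap Scheme.fppfPrecoverage f N') :
    N = N' := by
  have : LocallyOfFinitePresentation f := inferInstance
  refine Sheaf.hom_ext (NatTrans.ext (funext fun T => ?_))
  obtain ⟨T⟩ := T
  refine AddCommGrpCat.ext fun s => ?_
  obtain ⟨s⟩ := s
  suffices ∀ t' : (Over.pullback f).obj T ⟶ Red.Gm X',
      CGrpSh3.normPt Scheme.fppfPrecoverage f N T t' =
        CGrpSh3.normPt Scheme.fppfPrecoverage f N' T t' by
    exact ULift.ext _ _ (Additive.toMul.injective (this (Additive.toMul s)))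
  intro t'
  -- affine neighbourhoods over which the inverse image has free functions
  have H : ∀ t : T.left, ∃ (T₁ : Scheme.{u}) (_ : IsAffine T₁) (ι : T₁ ⟶ T.left)
      (_ : IsOpenImmersion ι), t ∈ Set.range ι ∧
        (letI := (Limits.pullback.fst (ι ≫ T.hom) f).appTop.hom.toAlgebra
         Module.Finite Γ(T₁, ⊤) Γ(Limits.pullback (ι ≫ T.hom) f, ⊤)) ∧
        (letI := (Limits.pullback.fst (ι ≫ T.hom) f).appTop.hom.toAlgebra
         Module.Free Γ(T₁, ⊤) Γ(Limits.pullback (ι ≫ T.hom) f, ⊤)) := by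
    intro t
    obtain ⟨V, hV, htV, -⟩ := exists_isAffineOpen_mem_and_subset (U := (⊤ : T.left.Opens))
      (show t ∈ (⊤ : T.left.Opens) from trivial)
    have : IsAffine V.toScheme := hV
    obtain ⟨a, hta, ha⟩ := exists_nhd_free (Limits.pullback.fst (V.ι ≫ T.hom) f) ⟨t, htV⟩
    have : IsAffine (V.toScheme.basicOpen a).toScheme :=
      (isAffineOpen_top V.toScheme).basicOpen a
    refine ⟨(V.toScheme.basicOpen a).toScheme, this, (V.toScheme.basicOpen a).ι ≫ V.ι,
      inferInstance, ⟨⟨⟨t, htV⟩, hta⟩, rfl⟩, ?_⟩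
    refine ha _ _ (V.toScheme.basicOpen a).ι _ (Limits.pullback.lift
      (Limits.pullback.fst _ f ≫ (V.toScheme.basicOpen a).ι) (Limits.pullback.snd _ f)
      (by rw [Category.assoc, ← Limits.pullback.condition, Category.assoc])) ?_ ?_
    · refine IsPullback.of_right (h₁₂ := Limits.pullback.snd (V.ι ≫ T.hom) f) (v₁₃ := f) ?_
        (Limits.pullback.lift_fst _ _ _) (IsPullback.of_hasPullback _ f).flip
      rw [Limits.pullback.lift_snd]
      simpa using (IsPullback.of_hasPullback (((V.toScheme.basicOpen a).ι ≫ V.ι) ≫ T.hom) f).flip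
    · refine RingedSpace.isUnit_of_isUnit_germ _ _ _ fun x hx => ?_
      have hb : (V.toScheme.basicOpen a).toScheme.basicOpen ((V.toScheme.basicOpen a).ι.appTop a) = ⊤ :=
        (Scheme.preimage_basicOpen_top _ _).symm.trans (Scheme.Opens.ι_preimage_self _)
      exact (Scheme.mem_basicOpen _ _ x hx).1 (by rw [hb]; trivial)
  choose T₁ hT₁ ι hι hmem hfin hfree using H
  have loc : ∀ t : T.left, ι t ≫ (CGrpSh3.normPt Scheme.fppfPrecoverage f N T t').left =
      ι t ≫ (CGrpSh3.normPt Scheme.fppfPrecoverage f N' T t').left := by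
    intro t
    let Ti : Over X := Over.mk (ι t ≫ T.hom)
    let j : Ti ⟶ T := Over.homMk (ι t)
    suffices j ≫ CGrpSh3.normPt Scheme.fppfPrecoverage f N T t' =
        j ≫ CGrpSh3.normPt Scheme.fppfPrecoverage f N' T t' from congrArg CommaMorphism.left this
    rw [normPt_comp, normPt_comp]
    apply GmPts.gmFn_injective
    haveI : IsAffine Ti.left := hT₁ t
    letI : Algebra Γ(Ti.left, ⊤) Γ(((Over.pullback f).obj Ti).left, ⊤) :=
      (Limits.pullback.fst (ι t ≫ T.hom) f).appTop.hom.toAlgebra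
    haveI : Module.Finite Γ(Ti.left, ⊤) Γ(((Over.pullback f).obj Ti).left, ⊤) := hfin t
    haveI : Module.Free Γ(Ti.left, ⊤) Γ(((Over.pullback f).obj Ti).left, ⊤) := hfree t
    exact (hN Ti (fun _ => rfl) _).trans (hN' Ti (fun _ => rfl) _).symm
  apply Over.OverMorphism.ext
  refine (T.left.openCoverOfIsOpenCover (fun t => (ι t).opensRange)
    (TopologicalSpace.IsOpenCover.mk (eq_top_iff.2 fun x _ =>
      TopologicalSpace.Opens.mem_iSup.2 ⟨x, hmem x⟩))).hom_ext _ _ fun t => ?_
  show (ι t).opensRange.ι ≫ _ = (ι t).opensRange.ι ≫ _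
  rw [← cancel_epi (ι t).isoOpensRange.hom, ← Category.assoc, ← Category.assoc,
    Scheme.Hom.isoOpensRange_hom_ι]
  exact loc t

end Groth.Agent.S15383
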