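import Groth.Statements.S15385
import Groth.Agent.L24.Count.FieldPoint
import Groth.Agent.L24.Count.BGFinite

set_option autoImplicit false
set_option backward.isDefEq.respectTransparency.types false
universe u
open StackCount

namespace Groth.Agent.S15385

open CategoryTheory AlgebraicGeometry in
/-- Let k be a finite field and G a finite etale group scheme over k (in particular affine over k, so
that every G-torsor is a scheme). For every finite field extension k' of k, the point count of the
classifying stack B(G) over k' — the sum, over the isomorphism classes of the groupoid of
etale-locally trivial G-torsors over Spec k', of the inverse orders of their automorphism groups —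
equals 1. The finiteness of that groupoid (finitely many classes, finite automorphism groups) is
carried as a hypothesis. -/
theorem result (k : Type u) [Field k] [Finite k]
    (G : Over (Spec (CommRingCat.of k))) [GrpObj G] [IsFinite G.hom] [Etale G.hom]
    (k' : Type u) [Field k'] [Algebra k k'] [Module.Finite k k']
    (h : StkCnt.IsEssFinite (StkCnt.pts (AlgSt.BG Scheme.etalePrecoverage G) k')) :
    StkCnt.ptCount (AlgSt.BG Scheme.etalePrecoverage G) k' h = 1 := by
  classical
  haveI : Finite k' := Module.finite_of_finite k
  obtain ⟨h', e⟩ := Groth.L24.Count.ptCount_ext k' (AlgSt.trivAction G) h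
  refine e.symm.trans ?_
  haveI : IsFinite (Red.bc (Groth.L24.Count.extHom k k') G).hom :=
    MorphismProperty.pullback_snd (P := @IsFinite) G.hom (Groth.L24.Count.extHom k k') ‹IsFinite G.hom›
  haveI : IsIso (Red.bc (Groth.L24.Count.extHom k k') (MonoidalCategoryStruct.tensorUnit (Over (Spec (CommRingCat.of k))))).hom :=
    inferInstanceAs (IsIso (Limits.pullback.snd (𝟙 (Spec (CommRingCat.of k))) (Groth.L24.Count.extHom k k')))
  exact Groth.L24.Count.count_eq_one_of_finite _ h'

end Groth.Agent.S15385
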