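import Groth.Statements.S15391
import Mathlib.RingTheory.Ideal.MinimalPrime.Noetherian
import Mathlib.RingTheory.LocalRing.ResidueField.Ideal
import Mathlib.RingTheory.TensorProduct.IsBaseChangePi
import Mathlib.RingTheory.Localization.BaseChange
import Mathlib.RingTheory.KrullDimension.Zero
import Mathlib.RingTheory.LocalProperties.Reduced
import Mathlib.RingTheory.Jacobson.Ideal

set_option autoImplicit false
universe u
open TensorProduct
open TorFree

namespace Groth.Agent.S15391

/-- Let R be a reduced Noetherian commutative ring, M a finitely generated torsion-free R-module (no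
non-zero element of M is annihilated by a non-zero-divisor of R), and t an element of M whose image
1 ⊗ t in the fibre κ(p) ⊗_R M vanishes for every prime ideal p of R, κ(p) being the residue field at
p. Then t = 0. This is the affine form of the claim that a global section of a coherent torsion-free
module on a reduced Noetherian scheme which vanishes in every fibre is zero. -/
theorem result (R : Type u) [CommRing R] [IsReduced R] [IsNoetherianRing R]
    (M : Type u) [AddCommGroup M] [Module R M] [Module.Finite R M] [Module.IsTorsionFree R M]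
    (t : M) (ht : ∀ p : PrimeSpectrum R, (1 : p.asIdeal.ResidueField) ⊗ₜ[R] t = (0 : p.asIdeal.ResidueField ⊗[R] M)) :
    t = 0 := by
  classical
  have hfin := minimalPrimes.finite_of_isNoetherianRing R
  let I : Ideal R := (Submodule.span R {t}).annihilator
  have hI : ∀ p ∈ minimalPrimes R, ¬ I ≤ p := by
    intro p hp hle
    haveI := hp.1.1
    haveI : IsReduced (Localization.AtPrime p) := inferInstance
    have hfield : IsField (Localization.AtPrime p) := by
      haveI : Ring.KrullDimLE 0 (Localization.AtPrime p) := by
        refine Ring.KrullDimLE.mk₀ fun q hq => ?_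
        haveI := hq
        have hqp : q.comap (algebraMap R (Localization.AtPrime p)) ≤ p :=
          (Ideal.comap_mono (IsLocalRing.le_maximalIdeal hq.ne_top)).trans
            (IsLocalization.AtPrime.under_maximalIdeal (Localization.AtPrime p) p).le
        have hqe : q.comap (algebraMap R (Localization.AtPrime p)) = p :=
          le_antisymm hqp (hp.2 ⟨inferInstance, bot_le⟩ hqp)
        have h1 : Ideal.map (algebraMap R (Localization.AtPrime p)) (q.comap (algebraMap R (Localization.AtPrime p))) = q :=
          IsLocalization.map_under p.primeCompl _ q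
        rw [hqe, IsLocalization.AtPrime.map_eq_maximalIdeal] at h1
        exact h1 ▸ IsLocalRing.maximalIdeal.isMaximal _
      exact Ring.KrullDimLE.isField_of_isReduced
    have h0 : LocalizedModule.mkLinearMap p.primeCompl M t = 0 := by
      let κ := p.ResidueField
      have hmax : IsLocalRing.maximalIdeal (Localization.AtPrime p) = ⊥ :=
        IsLocalRing.isField_iff_maximalIdeal_eq.1 hfield
      have hinj : Function.Injective (algebraMap (Localization.AtPrime p) κ) :=
        (RingHom.injective_iff_ker_eq_bot _).2 (IsLocalRing.ker_residue.trans hmax)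
      have hsurj : Function.Surjective (algebraMap (Localization.AtPrime p) κ) := IsLocalRing.residue_surjective
      let e : Localization.AtPrime p ≃ₐ[R] κ :=
        AlgEquiv.ofBijective (IsScalarTower.toAlgHom R (Localization.AtPrime p) κ) ⟨hinj, hsurj⟩
      have h1 : ((1 : κ) ⊗ₜ[R] t : κ ⊗[R] M) = 0 := ht ⟨p, inferInstance⟩
      have h2 := congrArg (TensorProduct.congr e.toLinearEquiv (LinearEquiv.refl R M)).symm h1
      rw [map_zero, TensorProduct.congr_symm_tmul] at h2
      have h3 : ((1 : Localization.AtPrime p) ⊗ₜ[R] t : Localization.AtPrime p ⊗[R] M) = 0 := by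
        rw [← map_one e.symm]; exact h2
      have hb : IsBaseChange (Localization.AtPrime p) (LocalizedModule.mkLinearMap p.primeCompl M) :=
        (isLocalizedModule_iff_isBaseChange p.primeCompl _ _).1 inferInstance
      have h4 := congrArg hb.equiv h3
      rwa [IsBaseChange.equiv_tmul, one_smul, map_zero] at h4
    obtain ⟨⟨c, hc⟩, hct⟩ := (IsLocalizedModule.eq_zero_iff p.primeCompl _).1 h0
    exact hc (hle (Submodule.mem_annihilator_span_singleton _ _ |>.2 hct))
  have hU : ¬ ((I : Set R) ⊆ ⋃ p ∈ (hfin.toFinset : Set (Ideal R)), (p : Set R)) := by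
    rw [Ideal.subset_union_prime ⊤ ⊤ fun p hp _ _ => ((hfin.mem_toFinset).1 hp).1.1]
    rintro ⟨p, hp, hle⟩
    exact hI p (hfin.mem_toFinset.1 hp) hle
  obtain ⟨a, ha, hna⟩ := Set.not_subset.1 hU
  have hreg : IsRegular a := by
    refine isRegular_iff_mem_nonZeroDivisors.2 (mem_nonZeroDivisors_iff_right.2 fun x hx => ?_)
    refine IsNilpotent.eq_zero (mem_nilradical.1 ?_)
    rw [nilradical_eq_sInf, Submodule.mem_sInf]
    intro q hq
    haveI : Ideal.IsPrime q := hq
    obtain ⟨p, hp, hpq⟩ := Ideal.exists_minimalPrimes_le (I := (⊥ : Ideal R)) (J := q) bot_le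
    refine hpq ?_
    haveI := hp.1.1
    refine (Ideal.IsPrime.mem_or_mem ‹_› (show x * a ∈ p from hx ▸ p.zero_mem)).resolve_right fun hap => hna ?_
    exact Set.mem_biUnion (Finset.mem_coe.2 (hfin.mem_toFinset.2 hp)) hap
  exact hreg.smul_eq_zero_iff_right.1 ((Submodule.mem_annihilator_span_singleton _ _).1 ha)


end Groth.Agent.S15391
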