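import Groth.Statements.S15393
import Groth.Agent.L29.IdealDual.Main
-- import your own Groth.Agent.* helpers here

set_option autoImplicit false
set_option linter.style.haveILetI false
set_option backward.defeqAttrib.useBackward true
set_option backward.isDefEq.respectTransparency false
set_option backward.isDefEq.respectTransparency.types false
universe u
open CategoryTheory CategoryTheory.Limits MonoidalCategory CartesianMonoidalCategory MonObj GrpObj AlgebraicGeometry
attribute [local instance] HasDerivedCategory.standard
open AbVar

namespace Groth.Agent.S15393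

/-- Let k be an algebraically closed field of characteristic zero, A an abelian variety over k (a proper
smooth k-group scheme with geometrically connected fibres) of dimension g, (A^t, φ) a given dual
abelian variety of A for the fppf topology with A^t itself an abelian variety, and P an invertible
module on A ×_k A^t whose class is a Poincaré class. Let I_0 ⊆ O_A be the ideal sheaf of the unit
point of A (the kernel of O_A → e_*O_{Spec k} for the unit section e), I_0^∨ = RHom(I_0, O_A) its
derived dual in D(O_A), and similarly I_{0^t} ⊆ O_{A^t} the ideal sheaf of the unit point of A^t.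
Write Φ_P = Rpr_{2,*}(Lpr_1^*(−) ⊗^L P) : D(O_A) → D(O_{A^t}); the derived functors involved are
assumed to exist. Then Φ_P(I_0^∨) is isomorphic in D(O_{A^t}) to I_{0^t}[−(g − 1)], the ideal sheaf
of the unit point placed in degree g − 1 (existence of an isomorphism). -/
theorem result (k : Type u) [Field k] [IsAlgClosed k] [CharZero k]
    (A At : Over (Spec (CommRingCat.of k))) [GrpObj A] [IsProper A.hom] [Smooth A.hom] [GeometricallyConnected A.hom]
    [GrpObj At] [IsProper At.hom] [Smooth At.hom] [GeometricallyConnected At.hom]
    (φ : ∀ T : Over (Spec (CommRingCat.of k)), PicF.Cl (PicF.XT A.hom T) → (T ⟶ At))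
    (hφ : AbDual.IsDualAV Scheme.fppfPrecoverage A At φ)
    (P : (pullback A.hom At.hom).Modules) (hP : PicF.IsInvertible P)
    (hPξ : AbDual.IsPoincareCl A At φ (PicF.cl P))
    (g : ℕ) (hg : topologicalKrullDim ↥A.left = g)
    [DCoh.HasLpull (pullback.fst A.hom At.hom)] [DCoh.HasLTensorMod P] [DCoh.HasRpush (pullback.snd A.hom At.hom)]
    [DCoh.HasLTensorCx ((HomologicalComplex.single A.left.Modules (ComplexShape.up ℤ) 0).obj (kernel (ClSub.unitToPush η[A].left)))]
    [DCoh.HasRSheafHom ((HomologicalComplex.single A.left.Modules (ComplexShape.up ℤ) 0).obj (kernel (ClSub.unitToPush η[A].left)))] :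
    Nonempty ((DCoh.Lpull (pullback.fst A.hom At.hom) ⋙ DCoh.LTensorMod P ⋙ DCoh.Rpush (pullback.snd A.hom At.hom)).obj
        ((DCoh.RSheafHom ((HomologicalComplex.single A.left.Modules (ComplexShape.up ℤ) 0).obj
          (kernel (ClSub.unitToPush η[A].left)))).obj (DCoh.inD A.left (Coh.structureModule A.left))) ≅
      (shiftFunctor (DCoh.D At.left) (-((g : ℤ) - 1))).obj (DCoh.inD At.left (kernel (ClSub.unitToPush η[At].left)))) := by
  obtain ⟨r⟩ := Groth.L29.IdealDual.nonempty_RSheafHom_dual (kernel (ClSub.unitToPush η[A].left))
  obtain ⟨e⟩ := Groth.L29.IdealDual.nonempty_phi_idealDual k A At φ hφ P hP hPξ g hg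
  exact ⟨(DCoh.Lpull (pullback.fst A.hom At.hom) ⋙ DCoh.LTensorMod P ⋙
    DCoh.Rpush (pullback.snd A.hom At.hom)).mapIso r ≪≫ e⟩

end Groth.Agent.S15393
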