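import Groth.Statements.S15394
import Groth.Agent.L29.IdealGV.IdealTensor
import Groth.Agent.L29.IdealGV.HyperBound
import Groth.Agent.L29.K.CohSupp
import Groth.Agent.L07.BvdB.PointSelf
import Groth.Agent.L26.Pic0.TwistInv
import Groth.Agent.L10.FMBC.Equiv
import Groth.Agent.L10.FMK.GV
import Groth.Agent.L21.Smooth.Scheme
import Groth.Agent.L18.AmplePull
import Groth.Agent.L21.DefAmple.Basic
-- import your own Groth.Agent.* helpers here

set_option autoImplicit false
set_option linter.style.haveILetI false
set_option backward.defeqAttrib.useBackward true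
set_option backward.isDefEq.respectTransparency false
set_option backward.isDefEq.respectTransparency.types false
universe u
open CategoryTheory CategoryTheory.Limits MonoidalCategory CartesianMonoidalCategory MonObj GrpObj AlgebraicGeometry
attribute [local instance] HasDerivedCategory.standard
open AbVar

namespace Groth.Agent.S15394

/-- Let k be an algebraically closed field of characteristic zero, A an abelian variety over k (a proper
smooth k-group scheme with geometrically connected fibres), (A^t, φ) a given dual abelian variety of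
A for the fppf topology with A^t itself an abelian variety, and P an invertible module on A ×_k A^t
whose class is a Poincaré class; for a k-rational point α of A^t write P_α for the restriction of P
along A = A × {α} → A ×_k A^t. For an object K of D(O_A) and i ≥ 0 let V^i(K) ⊆ A^t be the set of
points underlying the k-rational points α with hypercohomology H^i(A, K ⊗^L P_α) ≠ 0, and call K a
GV object when for every i ≥ 0 the closure of V^i(K) has codimension at least i in A^t (its
dimension plus i is at most dim A^t); for an O_A-module the same words are used with sheaf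
cohomology H^i(A, F ⊗ P_α). Let I and J be quasi-coherent ideal sheaves of O_A whose closed
subschemes have dimension at most one, and M an invertible O_A-module. If the derived tensor product
I ⊗^L J ⊗ M is a GV object, then the ordinary tensor product I ⊗ J ⊗ M is a GV module and so is IJ ⊗
M, IJ being the product ideal sheaf. The derived functors involved are assumed to exist. -/
theorem result (k : Type u) [Field k] [IsAlgClosed k] [CharZero k]
    (A At : Over (Spec (CommRingCat.of k))) [GrpObj A] [IsProper A.hom] [Smooth A.hom] [GeometricallyConnected A.hom]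
    [GrpObj At] [IsProper At.hom] [Smooth At.hom] [GeometricallyConnected At.hom]
    (φ : ∀ T : Over (Spec (CommRingCat.of k)), PicF.Cl (PicF.XT A.hom T) → (T ⟶ At))
    (hφ : AbDual.IsDualAV Scheme.fppfPrecoverage A At φ)
    (P : (pullback A.hom At.hom).Modules) (hP : PicF.IsInvertible P)
    (hPξ : AbDual.IsPoincareCl A At φ (PicF.cl P))
    (I J : A.left.IdealSheafData) (hI : topologicalKrullDim ↥I.subscheme ≤ 1) (hJ : topologicalKrullDim ↥J.subscheme ≤ 1)
    (M : A.left.Modules) (hM : PicF.IsInvertible M)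
    [DCoh.HasLTensorMod (ClSub.idealMod J)] [DCoh.HasLTensorMod M]
    [∀ α : 𝟙_ (Over (Spec (CommRingCat.of k))) ⟶ At, DCoh.HasLTensorMod ((Scheme.Modules.pullback (CartesianMonoidalCategory.lift (𝟙 A) (toUnit A ≫ α)).left).obj P)]
    [DCoh.HasRΓ A.left]
    (hGV : ∀ i : ℕ, topologicalKrullDim ↥(closure {y : ↥At.left | ∃ α : 𝟙_ (Over (Spec (CommRingCat.of k))) ⟶ At, (∃ p : ↥(𝟙_ (Over (Spec (CommRingCat.of k)))).left, α.left p = y) ∧ ¬ IsZero ((DerivedCategory.homologyFunctor AddCommGrpCat.{u} (i : ℤ)).obj ((DCoh.RΓ A.left).obj ((DCoh.LTensorMod ((Scheme.Modules.pullback (CartesianMonoidalCategory.lift (𝟙 A) (toUnit A ≫ α)).left).obj P)).obj ((DCoh.LTensorMod M).obj ((DCoh.LTensorMod (ClSub.idealMod J)).obj (DCoh.inD A.left (ClSub.idealMod I)))))))}) + (i : WithBot ℕ∞) ≤ topologicalKrullDim ↥At.left) :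
    (∀ i : ℕ, topologicalKrullDim ↥(closure {y : ↥At.left | ∃ α : 𝟙_ (Over (Spec (CommRingCat.of k))) ⟶ At, (∃ p : ↥(𝟙_ (Over (Spec (CommRingCat.of k)))).left, α.left p = y) ∧ ¬ Subsingleton (Coh.HH A.left (CohB1.tensorMod (CohB1.tensorMod (CohB1.tensorMod (ClSub.idealMod I) (ClSub.idealMod J)) M) ((Scheme.Modules.pullback (CartesianMonoidalCategory.lift (𝟙 A) (toUnit A ≫ α)).left).obj P)) i)}) + (i : WithBot ℕ∞) ≤ topologicalKrullDim ↥At.left) ∧
    (∀ i : ℕ, topologicalKrullDim ↥(closure {y : ↥At.left | ∃ α : 𝟙_ (Over (Spec (CommRingCat.of k))) ⟶ At, (∃ p : ↥(𝟙_ (Over (Spec (CommRingCat.of k)))).left, α.left p = y) ∧ ¬ Subsingleton (Coh.HH A.left (CohB1.tensorMod (CohB1.tensorMod (ClSub.idealMod (I * J)) M) ((Scheme.Modules.pullback (CartesianMonoidalCategory.lift (𝟙 A) (toUnit A ≫ α)).left).obj P)) i)}) + (i : WithBot ℕ∞) ≤ topologicalKrullDim ↥At.left) := by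
  open Groth.L00 Groth.L29.DC Groth.L29.IdealGV Groth.Lead in
  haveI := fun {V : Scheme.{u}} (E : CochainComplex V.Modules ℤ) => KFlat.hasLTensorCx E
  haveI : IsLocallyNoetherian A.left := LocallyOfFiniteType.isLocallyNoetherian A.hom
  haveI : CompactSpace A.left := QuasiCompact.compactSpace_of_compactSpace A.hom
  haveI : IsNoetherian A.left := {}
  haveI : TopologicalSpace.NoetherianSpace ↥A.left := inferInstance
  have hreg : Models.IsRegularScheme A.left := fun x => Groth.L21.Smooth.regular_stalk A.hom x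
  have hdim : ∀ x : A.left, x ∈ J.support →
      Groth.L22.GV.cdim (X := A.left.toTopCat) x ≤ (1 : WithBot ℕ∞) := fun x hx => by
    refine le_trans (le_trans (Groth.L03.Euler.topologicalKrullDim_set_mono
      (T := Set.range J.subschemeι) ?_) ?_) hJ
    · rw [J.range_subschemeι]
      exact J.support.isClosed.closure_subset_iff.2 (Set.singleton_subset_iff.2 hx)
    · exact le_of_eq (IsHomeomorph.topologicalKrullDim_eq _
        J.subschemeι.isClosedEmbedding.isEmbedding.toHomeomorph.symm.isHomeomorph)
  let IM := ClSub.idealMod I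
  let JM := ClSub.idealMod J
  let K₀ := (DCoh.LTensorCx (LTMod.S0 JM)).obj (DCoh.inD A.left IM)
  obtain ⟨hK₀le, ⟨e₀⟩, hK₀supp⟩ := derived_tensor IM JM
  haveI : K₀.IsLE 0 := hK₀le
  have hK₀p : DCoh.IsPerfect K₀ := Groth.L10.FMBC.isPerfect_LT _
    (isPerfect_of_iso ((DerivedCategory.singleFunctorIsoCompQ A.left.Modules 0).app JM)
      (Groth.L07.BvdB.PointSelf.isPerfect_inD hreg (Groth.L21.RR.isCoh_idealMod J)))
    (Groth.L07.BvdB.PointSelf.isPerfect_inD hreg (Groth.L21.RR.isCoh_idealMod I))
  obtain ⟨a₀, b₀, hge, -⟩ := Groth.L29.CohSupp.exists_bounds_of_perfect hK₀p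
  haveI := hge
  obtain ⟨l, hl, hlinj⟩ := exists_mul_epi I J
  haveI := hl
  let Pt := fun α : 𝟙_ (Over (Spec (CommRingCat.of k))) ⟶ At =>
    (Scheme.Modules.pullback (CartesianMonoidalCategory.lift (𝟙 A) (toUnit A ≫ α)).left).obj P
  have hPt : ∀ α, PicF.IsInvertible (Pt α) := fun α => Groth.L18.Ample.isInvertible_pullback _ hP
  -- the module loci lie in the derived locus
  have key : ∀ (i : ℕ) (α : 𝟙_ (Over (Spec (CommRingCat.of k))) ⟶ At), 1 ≤ i →
      IsZero ((DerivedCategory.homologyFunctor AddCommGrpCat.{u} (i : ℤ)).obj ((DCoh.RΓ A.left).obj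
        ((DCoh.LTensorMod (Pt α)).obj ((DCoh.LTensorMod M).obj ((DCoh.LTensorMod JM).obj (DCoh.inD A.left IM)))))) →
      Subsingleton (Coh.HH A.left (CohB1.tensorMod (CohB1.tensorMod (CohB1.tensorMod IM JM) M) (Pt α)) i) ∧
      Subsingleton (Coh.HH A.left (CohB1.tensorMod (CohB1.tensorMod (ClSub.idealMod (I * J)) M) (Pt α)) i) := by
    intro i α hi hz
    let T := DCoh.tensorRightMod M ⋙ DCoh.tensorRightMod (Pt α)
    haveI := (Groth.L16.Rees.PushExact.exact_instances (Groth.L16.Existence.isFinLocFree_of_isInvertible hM)).1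
    haveI := (Groth.L16.Rees.PushExact.exact_instances (Groth.L16.Existence.isFinLocFree_of_isInvertible hM)).2
    haveI := (Groth.L16.Rees.PushExact.exact_instances (Groth.L16.Existence.isFinLocFree_of_isInvertible (hPt α))).1
    haveI := (Groth.L16.Rees.PushExact.exact_instances (Groth.L16.Existence.isFinLocFree_of_isInvertible (hPt α))).2
    haveI : PreservesFiniteLimits T := comp_preservesFiniteLimits _ _
    haveI : PreservesFiniteColimits T := comp_preservesFiniteColimits _ _
    let K := (DCoh.LTensorMod (Pt α)).obj ((DCoh.LTensorMod M).obj ((DCoh.LTensorMod JM).obj (DCoh.inD A.left IM)))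
    have hH : ∀ j : ℤ, Nonempty (DCoh.HD K j ≅ T.obj (DCoh.HD K₀ j)) := fun j => by
      obtain ⟨t₁⟩ := Groth.Agent.L26.TwistInv.nonempty_HD_twist (hPt α)
        ((DCoh.LTensorMod M).obj ((DCoh.LTensorMod JM).obj (DCoh.inD A.left IM))) j
      obtain ⟨t₂⟩ := Groth.Agent.L26.TwistInv.nonempty_HD_twist hM ((DCoh.LTensorMod JM).obj (DCoh.inD A.left IM)) j
      exact ⟨t₁ ≪≫ (DCoh.tensorRightMod (Pt α)).mapIso (t₂ ≪≫ (DCoh.tensorRightMod M).mapIso
        ((DerivedCategory.homologyFunctor _ j).mapIso ((LTMod.iso JM).app (DCoh.inD A.left IM))))⟩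
    have hzero : ∀ j : ℤ, IsZero (DCoh.HD K₀ j) → IsZero (DCoh.HD K j) := fun j hj =>
      (T.map_isZero hj).of_iso (hH j).some
    haveI : K.IsLE 0 := (DerivedCategory.isLE_iff _ _).2 fun j hj =>
      hzero j (DerivedCategory.isZero_of_isLE K₀ 0 j hj)
    haveI : K.IsGE a₀ := (DerivedCategory.isGE_iff _ _).2 fun j hj =>
      hzero j (DerivedCategory.isZero_of_isGE K₀ a₀ j hj)
    have hsupp : ∀ (N : A.left.Modules) (x : A.left), x ∈ CohB1.support (T.obj N) → x ∈ CohB1.support N :=
      fun N x hx => Groth.L10.FMK.support_tensor_subset N M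
        (Groth.L10.FMK.support_tensor_subset (CohB1.tensorMod N M) (Pt α) hx)
    have h1 : Subsingleton (Coh.HH A.left (DCoh.HD K 0) i) := by
      refine subsingleton_HH_of_hyper K a₀ (fun j hj x hx => hdim x ?_) i hi hz
      by_contra hxJ
      exact hK₀supp (ClSub.idealModι J) x (bijective_idealModι J hxJ) j hj.ne
        (hsupp _ x ((Groth.L21.Mod.support_congr (hH j).some).subset hx))
    have h2 : Subsingleton (Coh.HH A.left (T.obj (CohB1.tensorMod IM JM)) i) :=
      Groth.L21.DefAmple.subsingleton_HH_of_iso ((hH 0).some ≪≫ T.mapIso e₀) i h1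
    haveI : Epi (T.map l) := inferInstance
    refine ⟨h2, subsingleton_HH_of_epi (T.map l) (fun x hx => hdim x ?_) i hi h2⟩
    by_contra hxJ
    apply hsupp (kernel l) x ((Groth.L21.Mod.support_congr (PreservesKernel.iso T l)).symm.subset hx)
    have hmono := (ModuleCat.mono_iff_injective _).2 (hlinj x hxJ)
    refine ModuleCat.subsingleton_of_isZero ((isZero_kernel_of_mono _).of_iso
      (PreservesKernel.iso (Groth.L00.Stk.F A.left x) l))
  constructor <;> intro i <;> rcases Nat.eq_zero_or_pos i with rfl | hi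
  · simp only [Nat.cast_zero, CharP.cast_eq_zero, add_zero]
    exact topologicalKrullDim_subspace_le _ _
  · refine le_trans (add_le_add (Groth.L03.Euler.topologicalKrullDim_set_mono (closure_mono ?_)) le_rfl) (hGV i)
    rintro y ⟨α, hy, hne⟩
    exact ⟨α, hy, fun hz => hne (key i α hi hz).1⟩
  · simp only [Nat.cast_zero, CharP.cast_eq_zero, add_zero]
    exact topologicalKrullDim_subspace_le _ _
  · refine le_trans (add_le_add (Groth.L03.Euler.topologicalKrullDim_set_mono (closure_mono ?_)) le_rfl) (hGV i)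
    rintro y ⟨α, hy, hne⟩
    exact ⟨α, hy, fun hz => hne (key i α hi hz).2⟩

end Groth.Agent.S15394
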