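import Groth.Statements.S15395
import Groth.Agent.L29.GV.IT0Vanish
import Groth.Agent.L29.GV.DimStalk
-- import your own Groth.Agent.* helpers here

set_option autoImplicit false
set_option linter.style.haveILetI false
set_option backward.defeqAttrib.useBackward true
set_option backward.isDefEq.respectTransparency false
set_option backward.isDefEq.respectTransparency.types false
universe u
open CategoryTheory CategoryTheory.Limits MonoidalCategory CartesianMonoidalCategory MonObj GrpObj AlgebraicGeometry
attribute [local instance] HasDerivedCategory.standard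
open AbVar

namespace Groth.Agent.S15395

/-- Let k be an algebraically closed field of characteristic zero, A an abelian variety over k (a proper
smooth k-group scheme with geometrically connected fibres), (A^t, φ) a given dual abelian variety of
A for the fppf topology with A^t itself an abelian variety, and P an invertible module on A ×_k A^t
whose class is a Poincaré class; for a k-rational point α of A^t write P_α for the restriction of P
along A = A × {α} → A ×_k A^t. Let E be a coherent O_A-module satisfying IT(0): H^i(A, E ⊗ P_α) = 0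
for every i ≥ 1 and every α. Let F be an object of D(O_A), bounded with coherent cohomology sheaves,
which is a GV object: for every i ≥ 0 the closure in A^t of the set of points underlying the
k-rational points α with hypercohomology H^i(A, F ⊗^L P_α) ≠ 0 has codimension at least i (its
dimension plus i is at most dim A^t). Then the derived tensor product F ⊗^L E satisfies the IT(0)
vanishing: H^i(A, (F ⊗^L E) ⊗^L P_α) = 0 for every i ≥ 1 and every k-rational point α of A^t. The
derived functors involved are assumed to exist. (IT(0) is taken to mean vanishing of H^i for every i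
≥ 1 and every α; nothing is asserted about H^0 or about negative degrees, where F ⊗^L E may have
hypercohomology.) -/
theorem result (k : Type u) [Field k] [IsAlgClosed k] [CharZero k]
    (A At : Over (Spec (CommRingCat.of k))) [GrpObj A] [IsProper A.hom] [Smooth A.hom] [GeometricallyConnected A.hom]
    [GrpObj At] [IsProper At.hom] [Smooth At.hom] [GeometricallyConnected At.hom]
    (φ : ∀ T : Over (Spec (CommRingCat.of k)), PicF.Cl (PicF.XT A.hom T) → (T ⟶ At))
    (hφ : AbDual.IsDualAV Scheme.fppfPrecoverage A At φ)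
    (P : (pullback A.hom At.hom).Modules) (hP : PicF.IsInvertible P)
    (hPξ : AbDual.IsPoincareCl A At φ (PicF.cl P))
    (E : A.left.Modules) (hE : Coh.IsCoh E)
    (hE0 : ∀ (α : 𝟙_ (Over (Spec (CommRingCat.of k))) ⟶ At) (i : ℕ), 1 ≤ i → Subsingleton (Coh.HH A.left (CohB1.tensorMod E ((Scheme.Modules.pullback (CartesianMonoidalCategory.lift (𝟙 A) (toUnit A ≫ α)).left).obj P)) i))
    (F : DCoh.D A.left) (hF : DCoh.IsCohD F) (m n : ℤ) (hFm : DerivedCategory.IsGE F m) (hFn : DerivedCategory.IsLE F n)
    [DCoh.HasLTensorMod E] [∀ α : 𝟙_ (Over (Spec (CommRingCat.of k))) ⟶ At, DCoh.HasLTensorMod ((Scheme.Modules.pullback (CartesianMonoidalCategory.lift (𝟙 A) (toUnit A ≫ α)).left).obj P)] [DCoh.HasRΓ A.left]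
    (hGV : ∀ i : ℕ, topologicalKrullDim ↥(closure {y : ↥At.left | ∃ α : 𝟙_ (Over (Spec (CommRingCat.of k))) ⟶ At, (∃ p : ↥(𝟙_ (Over (Spec (CommRingCat.of k)))).left, α.left p = y) ∧ ¬ IsZero ((DerivedCategory.homologyFunctor AddCommGrpCat.{u} (i : ℤ)).obj ((DCoh.RΓ A.left).obj ((DCoh.LTensorMod ((Scheme.Modules.pullback (CartesianMonoidalCategory.lift (𝟙 A) (toUnit A ≫ α)).left).obj P)).obj F)))}) + (i : WithBot ℕ∞) ≤ topologicalKrullDim ↥At.left)
    (α : 𝟙_ (Over (Spec (CommRingCat.of k))) ⟶ At) (i : ℕ) (hi : 1 ≤ i) :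
    IsZero ((DerivedCategory.homologyFunctor AddCommGrpCat.{u} (i : ℤ)).obj ((DCoh.RΓ A.left).obj ((DCoh.LTensorMod ((Scheme.Modules.pullback (CartesianMonoidalCategory.lift (𝟙 A) (toUnit A ≫ α)).left).obj P)).obj ((DCoh.LTensorMod E).obj F)))) := by
  haveI := fun {A B : Scheme.{u}} (f : A ⟶ B) => Groth.L00.KFlat.hasLpull f
  haveI := fun {A B : Scheme.{u}} (f : A ⟶ B) => Groth.L29.DC.RpushQC.hasRpush f
  haveI := fun {V : Scheme.{u}} (M : V.Modules) => Groth.L00.DerivedApi.hasLTensorMod M
  haveI : F.IsGE m := hFm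
  haveI : F.IsLE n := hFn
  have hFp := Groth.L29.GV.isPerfect_of_smooth A.hom F m n hF
  refine Groth.L29.GV.isZero_hyper_tensor_it0 k A At φ hφ P hP hPξ E hE hE0 F hFp (fun j y hy => ?_) α (i : ℤ) (by omega)
  haveI : IsLocallyNoetherian At.left := LocallyOfFiniteType.isLocallyNoetherian At.hom
  haveI : JacobsonSpace At.left := LocallyOfFiniteType.jacobsonSpace At.hom
  let Φ := (DCoh.Lpull (pullback.fst A.hom At.hom) ⋙ DCoh.LTensorMod P ⋙
    DCoh.Rpush (pullback.snd A.hom At.hom)).obj F
  have hΦ : DCoh.IsPerfect Φ := Groth.L29.GV.isPerfect_phiMod k A At P hP F hFp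
  have hcl : IsClosed (CohB1.support (DCoh.HD Φ (j : ℤ))) :=
    Groth.L16.CohSupport.isClosed_support _ (Groth.L29.CohSupp.isCohD_of_perfect hΦ (j : ℤ)).2
  have hsub : closure ({y} : Set ↥At.left) ⊆ closure {y : ↥At.left | ∃ α : 𝟙_ (Over (Spec (CommRingCat.of k))) ⟶ At, (∃ p : ↥(𝟙_ (Over (Spec (CommRingCat.of k)))).left, α.left p = y) ∧ ¬ IsZero ((DerivedCategory.homologyFunctor AddCommGrpCat.{u} (j : ℤ)).obj ((DCoh.RΓ A.left).obj ((DCoh.LTensorMod ((Scheme.Modules.pullback (CartesianMonoidalCategory.lift (𝟙 A) (toUnit A ≫ α)).left).obj P)).obj F)))} := by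
    refine (hcl.closure_subset_iff.2 (Set.singleton_subset_iff.2 hy)).trans ?_
    rw [← closure_inter_closedPoints hcl]
    refine closure_mono fun z hz => ?_
    obtain ⟨hz, hzc⟩ := hz
    let β : 𝟙_ (Over (Spec (CommRingCat.of k))) ⟶ At :=
      Over.homMk (pointOfClosedPoint At.hom z hzc) (pointOfClosedPoint_comp At.hom z hzc)
    let p : ↥(𝟙_ (Over (Spec (CommRingCat.of k)))).left := IsLocalRing.closedPoint k
    have hβ : β.left p = z := pointOfClosedPoint_apply At.hom z hzc p
    refine ⟨β, ⟨p, hβ⟩, fun h => Groth.L10.FMK.notMem_of_isZero_fibre Φ hΦ z (j : ℤ) ?_ hz⟩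
    rw [Groth.L29.GV.isZero_fibre_iff_betti Φ hΦ z (j : ℤ), ← hβ]
    exact Groth.L29.GV.betti_eq_zero_of_hyper k A At φ hφ P hP hPξ F hFp β p (j : ℤ) h
  obtain ⟨a, b, ha, hb, hab⟩ := Groth.L29.GV.exists_dim_closure_add_stalk At y
  have h1 : ((a + j : ℕ) : WithBot ℕ∞) ≤ ((a + b : ℕ) : WithBot ℕ∞) := by
    rw [← hab, Nat.cast_add, ← ha]
    refine le_trans ?_ (hGV j)
    gcongr
    exact Groth.L22.SchemeDim.topologicalKrullDim_mono hsub
  rw [hb]
  exact_mod_cast (show j ≤ b by
    have : a + j ≤ a + b := by exact_mod_cast h1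
    omega)

end Groth.Agent.S15395
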