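import Groth.Prelude.Def_PicGrp
import Groth.Prelude.Def_ClSub2
import Groth.Prelude.Def_Coh
import Mathlib.AlgebraicGeometry.Morphisms.Separated
import Groth.Agent.L02.PicH1.Thick

set_option autoImplicit false
set_option linter.style.haveILetI false
namespace PicGrp
end PicGrp
universe u
open CategoryTheory CategoryTheory.Limits AlgebraicGeometry
open PicGrp

namespace Groth.Agent.S15399

/-- Let X be a quasi-compact separated scheme, J a quasi-coherent ideal of O_X with J² = 0 and X₀ the
closed subscheme it cuts out, with inclusion i, and assume that the restriction of global functions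
O_X(X) → O_{X₀}(X₀) is surjective. Assume the Picard group laws on X and X₀ and that pullback of
invertible classes along i is multiplicative. Then the kernel of the pullback homomorphism Pic(X) →
Pic(X₀) is isomorphic, as a group, to the additive group H¹(X, J) (J viewed as an O_X-module),
written multiplicatively. (Existence of a group isomorphism only; the compatibility of the
isomorphism with pullback along morphisms Y → X is not stated.) -/
theorem result (X : Scheme.{u}) [CompactSpace X] [X.IsSeparated]
    (J : X.IdealSheafData) (hJ : J * J = ⊥)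
    [PicGrp.Law X] [PicGrp.Law J.subscheme] (hi : PicGrp.PullMul J.subschemeι)
    (hsurj : Function.Surjective J.subschemeι.appTop.hom) :
    Nonempty ((PicGrp.pullHom J.subschemeι hi).ker ≃* Multiplicative (Coh.HH X (ClSub.idealMod J) 1)) := by
  obtain ⟨ε, δ₀, α, δ₁, -, -, hd, hα, hp, -⟩ := Groth.L02.PicH1.exists_units_sequence J hJ hi
  have hs : Function.Surjective (Units.map J.subschemeι.appTop.hom.toMonoidHom) := fun v => by
    obtain ⟨a, ha⟩ := hsurj v.val
    obtain ⟨b, hb⟩ := hsurj v⁻¹.val
    have h0 : J.subschemeι.app ⊤ (a * b - 1) = 0 := by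
      show J.subschemeι.appTop.hom (a * b - 1) = 0
      rw [map_sub, map_mul, ha, hb, map_one, Units.mul_inv, sub_self]
    have hn : IsNilpotent (a * b - 1) :=
      ⟨2, by rw [pow_two]; exact Groth.L10.UnitsThick.mul_eq_zero_of_app_eq_zero J hJ ⊤ _ _ h0 h0⟩
    have hu : IsUnit (a * b) := by simpa using hn.isUnit_one_add
    exact ⟨(isUnit_of_mul_isUnit_left hu).unit, Units.ext ha⟩
  have hr : δ₀.range = ⊥ := by
    rw [MonoidHom.range_eq_bot_iff, ← MonoidHom.ker_eq_top_iff, hd, MonoidHom.range_eq_top]
    exact hs
  have hinj : Function.Injective α := (MonoidHom.ker_eq_bot_iff α).1 (hα.trans hr)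
  exact ⟨((MonoidHom.ofInjective hinj).trans (MulEquiv.subgroupCongr hp.symm)).symm⟩

end Groth.Agent.S15399
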