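
import Groth.Statements.S1540
import Groth.Agent.L22.GeomConn.Crit
import Groth.Agent.L22.FibreDim

set_option autoImplicit false
universe u
open CategoryTheory CategoryTheory.Limits AlgebraicGeometry
attribute [local instance] Curv2.resAlgebra Curv2.stalkAlgebra
open Variety

namespace Groth.Agent.S1540

/-- An irreducible scheme X over k with generic point ξ is geometrically irreducible if and only if the
separable algebraic closure of k in the residue field of ξ is k itself. -/
theorem result (k : Type u) [Field k] (X : Scheme.{u}) [X.Over (Spec (CommRingCat.of k))] [IrreducibleSpace X] :
    GeometricallyIrreducible (X ↘ (Spec (CommRingCat.of k))) ↔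
      ∀ a : X.residueField (genericPoint X), IsSeparable k a → a ∈ Set.range (algebraMap k (X.residueField (genericPoint X))) := by
  let f := X ↘ Spec (CommRingCat.of k)
  have hψ : Spec.map (CommRingCat.ofHom (algebraMap k (X.residueField (genericPoint X)))) =
      X.fromSpecResidueField (genericPoint X) ≫ f := Groth.L22.FibreDim.SpecMap_resMap k X (genericPoint X)
  constructor
  · intro hg
    haveI : IrreducibleSpace ↥(Limits.pullback f f) := inferInstance
    exact fun a ha => Groth.L22.GeomConn.separable_elements_of_irreducible_prod f hψ a ha
  · exact fun h => Groth.L22.GeomConn.geometricallyIrreducible_of_separable_elements f hψ h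

end Groth.Agent.S1540
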