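import Groth.Prelude.Def_PicGrp
import Groth.Prelude.Def_ClSub2
import Groth.Prelude.Def_Coh
import Groth.Agent.L02.PicH1.Thick

set_option autoImplicit false
set_option linter.style.haveILetI false
namespace PicGrp
end PicGrp
universe u
open CategoryTheory CategoryTheory.Limits AlgebraicGeometry
open PicGrp

namespace Groth.Agent.S15400

/-- Let X' be a scheme and I a quasi-coherent ideal of O_{X'} with I² = 0, cutting out the closed
subscheme X with inclusion i (so X ⊆ X' is a first-order thickening). Assume the Picard group laws
on X' and X and that pullback of invertible classes along i is multiplicative. Then there exist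
group homomorphisms ε : H⁰(X', I) → Γ(X', O_{X'})ˣ, δ₀ : Γ(X, O_X)ˣ → H¹(X', I), α : H¹(X', I) →
Pic(X') and δ₁ : Pic(X) → H²(X', I) (the cohomology groups of the O_{X'}-module I, computed on X',
which has the same underlying space as X, and written multiplicatively) such that the sequence 0 →
H⁰(X', I) → Γ(X', O_{X'})ˣ → Γ(X, O_X)ˣ → H¹(X', I) → Pic(X') → Pic(X) → H²(X', I), whose second map
is restriction of units and whose fifth map is pullback along i, is exact. (Only the existence of
the four connecting homomorphisms is asserted; they are not identified with the maps f ↦ 1 + f and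
the boundary maps of the units sequence.) -/
theorem result (X' : Scheme.{u}) (I : X'.IdealSheafData) (hI : I * I = ⊥)
    [PicGrp.Law X'] [PicGrp.Law I.subscheme] (hi : PicGrp.PullMul I.subschemeι) :
    ∃ (ε : Multiplicative (Coh.HH X' (ClSub.idealMod I) 0) →* (Γ(X', ⊤))ˣ)
      (δ₀ : (Γ(I.subscheme, ⊤))ˣ →* Multiplicative (Coh.HH X' (ClSub.idealMod I) 1))
      (α : Multiplicative (Coh.HH X' (ClSub.idealMod I) 1) →* PicLoc.PicSet X')
      (δ₁ : PicLoc.PicSet I.subscheme →* Multiplicative (Coh.HH X' (ClSub.idealMod I) 2)),
      Function.Injective ε ∧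
      (Units.map I.subschemeι.appTop.hom.toMonoidHom).ker = ε.range ∧
      δ₀.ker = (Units.map I.subschemeι.appTop.hom.toMonoidHom).range ∧
      α.ker = δ₀.range ∧
      (PicGrp.pullHom I.subschemeι hi).ker = α.range ∧
      δ₁.ker = (PicGrp.pullHom I.subschemeι hi).range := by
  exact Groth.L02.PicH1.exists_units_sequence I hI hi

end Groth.Agent.S15400
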