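import Groth.Prelude.Def_PicGrp
import Mathlib.AlgebraicGeometry.Morphisms.Separated
import Mathlib.AlgebraicGeometry.Morphisms.Proper
import Mathlib.AlgebraicGeometry.Morphisms.Flat
import Mathlib.AlgebraicGeometry.IdealSheaf.Subscheme
import Mathlib.FieldTheory.IsAlgClosed.Basic
import Mathlib.AlgebraicGeometry.Morphisms.FinitePresentation
import Groth.Agent.L02.PicUnion.Glue
import Groth.Agent.L02.PicUnion.ConstFun
import Groth.Agent.L26.AV.InterPic

set_option autoImplicit false
set_option linter.style.haveILetI false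
namespace PicGrp
end PicGrp
universe u
open CategoryTheory CategoryTheory.Limits AlgebraicGeometry
open PicGrp

namespace Groth.Agent.S15404

/-- Let π : X ⟶ B be quasi-compact and separated and let X be the union of the closed subschemes Y =
V(I) and Z = V(J), I and J quasi-coherent ideals with I ∩ J = 0 (so that O_X → O_Y × O_Z is
injective with cokernel O_W, W = Y ∩ Z = V(I + J)); assume that W is flat, proper and of finite
presentation over B, that W → B has a section, and that the geometric fibres of W → B are reduced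
and connected. Assume the Picard group laws on B, X, Y, Z, W and that pullback of invertible classes
along π, along the inclusions of Y, Z in X and of W in Y, Z, and along the structure maps of Y, Z, W
is multiplicative. Then the square of groups formed by Pic(X)/π^*Pic(B), Pic(Y)/Pic(B),
Pic(Z)/Pic(B) and Pic(W)/Pic(B) under restriction is cartesian: (a) an invertible class on X whose
restrictions to Y and to Z are pulled back from B is itself pulled back from B; (b) for invertible
classes y on Y and z on Z whose restrictions to W agree up to a class pulled back from B, there is a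
class on X whose restrictions to Y and Z are y and z up to classes pulled back from B. (The
published statement asserts this for the functor T ↦ Pic(X ×_B T)/Pic(T) on all B-schemes T and
assumes only that π is quasi-compact and separated, W flat over B with a section and geometrically
reduced connected fibres; its proof uses that every global unit on W comes from B, through a lemma
on flat proper morphisms, and without properness the assertion fails — over a field, two affine
planes glued along the hyperbola ts = 1 have non-trivial Picard group — so W is taken proper and of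
finite presentation over B here (finite presentation being automatic over a locally Noetherian
base), and only the value at T = B is stated.) -/
theorem result {X B : Scheme.{u}} (π : X ⟶ B)
    [QuasiCompact π] [IsSeparated π] (I J : X.IdealSheafData) (hIJ : I ⊓ J = ⊥)
    [Flat ((I ⊔ J).subschemeι ≫ π)] [IsProper ((I ⊔ J).subschemeι ≫ π)]
    [LocallyOfFinitePresentation ((I ⊔ J).subschemeι ≫ π)]
    (s : B ⟶ (I ⊔ J).subscheme) (hs : s ≫ (I ⊔ J).subschemeι ≫ π = 𝟙 B)
    (hfib : ∀ (K : Type u) [Field K] [IsAlgClosed K] (g : Spec (CommRingCat.of K) ⟶ B),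
      IsReduced (pullback ((I ⊔ J).subschemeι ≫ π) g) ∧ ConnectedSpace ↥(pullback ((I ⊔ J).subschemeι ≫ π) g))
    [PicGrp.Law B] [PicGrp.Law X] [PicGrp.Law I.subscheme] [PicGrp.Law J.subscheme] [PicGrp.Law (I ⊔ J).subscheme]
    (hπ : PicGrp.PullMul π) (hY : PicGrp.PullMul I.subschemeι) (hZ : PicGrp.PullMul J.subschemeι)
    (hπY : PicGrp.PullMul (I.subschemeι ≫ π)) (hπZ : PicGrp.PullMul (J.subschemeι ≫ π))
    (hπW : PicGrp.PullMul ((I ⊔ J).subschemeι ≫ π))
    (hWY : PicGrp.PullMul (Scheme.IdealSheafData.inclusion (le_sup_left : I ≤ I ⊔ J)))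
    (hWZ : PicGrp.PullMul (Scheme.IdealSheafData.inclusion (le_sup_right : J ≤ I ⊔ J))) :
    (∀ c : PicLoc.PicSet X,
        (∃ b₁ : PicLoc.PicSet B, PicGrp.pullHom I.subschemeι hY c = PicGrp.pullHom (I.subschemeι ≫ π) hπY b₁) →
        (∃ b₂ : PicLoc.PicSet B, PicGrp.pullHom J.subschemeι hZ c = PicGrp.pullHom (J.subschemeι ≫ π) hπZ b₂) →
          ∃ b : PicLoc.PicSet B, c = PicGrp.pullHom π hπ b) ∧
      (∀ (y : PicLoc.PicSet I.subscheme) (z : PicLoc.PicSet J.subscheme),
        (∃ b : PicLoc.PicSet B,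
            PicGrp.pullHom (Scheme.IdealSheafData.inclusion (le_sup_left : I ≤ I ⊔ J)) hWY y =
              PicGrp.pullHom (Scheme.IdealSheafData.inclusion (le_sup_right : J ≤ I ⊔ J)) hWZ z *
                PicGrp.pullHom ((I ⊔ J).subschemeι ≫ π) hπW b) →
          ∃ (c : PicLoc.PicSet X) (b₁ b₂ : PicLoc.PicSet B),
            PicGrp.pullHom I.subschemeι hY c = y * PicGrp.pullHom (I.subschemeι ≫ π) hπY b₁ ∧
              PicGrp.pullHom J.subschemeι hZ c = z * PicGrp.pullHom (J.subschemeι ≫ π) hπZ b₂) := by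
  let i := I.subschemeι
  let j := J.subschemeι
  let k := (I ⊔ J).subschemeι
  let a := Scheme.IdealSheafData.inclusion (le_sup_left : I ≤ I ⊔ J)
  let b := Scheme.IdealSheafData.inclusion (le_sup_right : J ≤ I ⊔ J)
  have hU := Groth.L02.PicUnion.isUnion_subscheme I J hIJ
  have hsurjW : Function.Surjective (k ≫ π) := fun y => ⟨s y, by
    rw [← Scheme.Hom.comp_apply, hs]; rfl⟩
  obtain ⟨hgr, hgc⟩ := Groth.L02.PicUnion.geometrically_of_algClosed (k ≫ π) hfib
  have hbij := Groth.L02.PicUnion.bijective_appTop_of_geometric (k ≫ π) hsurjW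
  have hlift : ∀ w : Γ((I ⊔ J).subscheme, ⊤)ˣ, ∃ ω : Γ(X, ⊤)ˣ, k.app ⊤ (ω : Γ(X, ⊤)) = (w : Γ((I ⊔ J).subscheme, ⊤)) := by
    intro w
    let e : Γ(B, ⊤) ≃+* Γ((I ⊔ J).subscheme, ⊤) := RingEquiv.ofBijective (k ≫ π).appTop.hom hbij
    refine ⟨Units.map π.appTop.hom.toMonoidHom (Units.map e.symm.toMonoidHom w), ?_⟩
    show k.appTop (π.appTop (e.symm (w : Γ((I ⊔ J).subscheme, ⊤)))) = _
    rw [← CategoryTheory.ConcreteCategory.comp_apply, ← Scheme.Hom.comp_appTop]
    exact e.apply_symm_apply _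
  have comp : ∀ {P Q R : Scheme.{u}} [PicGrp.Law P] [PicGrp.Law Q] [PicGrp.Law R] (g : P ⟶ Q) (g' : Q ⟶ R)
      (h : P ⟶ R) (hg : PicGrp.PullMul g) (hg' : PicGrp.PullMul g') (hh : PicGrp.PullMul h) (e : g ≫ g' = h)
      (c : PicLoc.PicSet R), PicGrp.pullHom h hh c = PicGrp.pullHom g hg (PicGrp.pullHom g' hg' c) := by
    intro P Q R _ _ _ g g' h hg hg' hh e c
    subst e
    exact PicGrp.pullHom_comp_apply g g' hg hg' hh c
  have hs' : ∀ d : PicLoc.PicSet B, PicGrp.pullHom (k ≫ π) hπW d = 1 → d = 1 := fun d hd => by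
    rw [← PicGrp.pullHom_id_apply (PicGrp.pullMul_id B) d,
      comp s (k ≫ π) (𝟙 B) (Groth.Agent.AV.InterPic.pullMul s) hπW (PicGrp.pullMul_id B) hs d, hd, map_one]
  have hW : ∀ c : PicLoc.PicSet X, PicGrp.pullHom a hWY (PicGrp.pullHom i hY c) = PicGrp.pullHom b hWZ (PicGrp.pullHom j hZ c) :=
    fun c => by
      rw [← comp a i k hWY hY (Groth.Agent.AV.InterPic.pullMul k) hU.fac c,
        ← comp b j k hWZ hZ (Groth.Agent.AV.InterPic.pullMul k) hU.fac' c]
  have hYW : ∀ d : PicLoc.PicSet B, PicGrp.pullHom a hWY (PicGrp.pullHom (i ≫ π) hπY d) = PicGrp.pullHom (k ≫ π) hπW d :=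
    fun d => (comp a (i ≫ π) (k ≫ π) hWY hπY hπW (by rw [← Category.assoc, hU.fac]) d).symm
  have hZW : ∀ d : PicLoc.PicSet B, PicGrp.pullHom b hWZ (PicGrp.pullHom (j ≫ π) hπZ d) = PicGrp.pullHom (k ≫ π) hπW d :=
    fun d => (comp b (j ≫ π) (k ≫ π) hWZ hπZ hπW (by rw [← Category.assoc, hU.fac']) d).symm
  refine ⟨fun c => ?_, fun y z => ?_⟩
  · rintro ⟨b₁, h₁⟩ ⟨b₂, h₂⟩
    let c' : PicLoc.PicSet X := c * (PicGrp.pullHom π hπ b₁)⁻¹
    have hc'Y : PicGrp.pullHom i hY c' = 1 := by
      rw [map_mul, map_inv, ← comp i π (i ≫ π) hY hπ hπY rfl b₁]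
      exact mul_inv_eq_one.2 h₁
    have hc'Z : PicGrp.pullHom j hZ c' = PicGrp.pullHom (j ≫ π) hπZ (b₂ * b₁⁻¹) := by
      rw [map_mul, map_inv, ← comp j π (j ≫ π) hZ hπ hπZ rfl b₁, map_mul, map_inv]
      exact congrArg (· * _) h₂
    have hd : b₂ * b₁⁻¹ = 1 := hs' _ (by rw [← hZW, ← hc'Z, ← hW, hc'Y, map_one])
    rw [hd, map_one] at hc'Z
    obtain ⟨L, hL, hLc⟩ := PicGrp.exists_eq_cls c'
    rw [hLc] at hc'Y hc'Z
    obtain ⟨φY⟩ := (PicGrp.cls_eq_one_iff (PicLoc.isInvertible_pullback i hL)).1 hc'Y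
    obtain ⟨φZ⟩ := (PicGrp.cls_eq_one_iff (PicLoc.isInvertible_pullback j hL)).1 hc'Z
    have h1 := (PicGrp.cls_eq_one_iff hL).2
      (Groth.L02.PicUnion.nonempty_iso_structure_of_trivial hU L hL φY φZ hlift)
    exact ⟨b₁, mul_inv_eq_one.1 (hLc.trans h1)⟩
  · rintro ⟨d, hd⟩
    have hd' : PicGrp.pullHom a hWY (y * (PicGrp.pullHom (i ≫ π) hπY d)⁻¹) = PicGrp.pullHom b hWZ z := by
      rw [map_mul, map_inv, hYW]
      exact mul_inv_eq_iff_eq_mul.2 hd
    obtain ⟨L, hL, hLc⟩ := PicGrp.exists_eq_cls (y * (PicGrp.pullHom (i ≫ π) hπY d)⁻¹)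
    obtain ⟨M, hM, rfl⟩ := PicGrp.exists_eq_cls z
    rw [hLc] at hd'
    obtain ⟨φ⟩ := (PicGrp.cls_eq_cls_iff (PicLoc.isInvertible_pullback a hL) (PicLoc.isInvertible_pullback b hM)).1 hd'
    obtain ⟨N, hN, hNL, hNM⟩ := Groth.L02.PicUnion.exists_glued hU L M hL hM φ
    refine ⟨PicGrp.cls N hN, d⁻¹, 1, ?_, ?_⟩
    · rw [map_inv, hLc]
      exact (PicGrp.cls_eq_cls_iff (PicLoc.isInvertible_pullback i hN) hL).2 hNL
    · rw [map_one, mul_one]
      exact (PicGrp.cls_eq_cls_iff (PicLoc.isInvertible_pullback j hN) hM).2 hNM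

end Groth.Agent.S15404
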