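import Groth.Statements.S15405
import Groth.Agent.L24.KrullSchmidt.TensorTypes
import Groth.Agent.L08.Cube.Inverse
import Groth.Agent.L18.Ample

set_option autoImplicit false
set_option backward.isDefEq.respectTransparency.types false
universe u
open CategoryTheory CategoryTheory.Limits AlgebraicGeometry
open ASBun

namespace Groth.Agent.S15405

open W4c1astiltbs12 in
/-- Let X be proper over a field k, K an algebraic closure of k such that X_K is connected, and π : X_K
→ X the projection; assume the Picard group laws on X and on X_K and that pullback of invertible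
classes along π is multiplicative. Suppose that Pic(X_K) is infinite cyclic, generated by the class
of an invertible module L; that J is an invertible O_X-module with π^*J ≅ L^{⊗r} for some r ≥ 1; and
that there is an indecomposable finite locally free O_X-module (nonzero, and in any direct-sum
decomposition one summand is zero) whose pullback to X_K is isomorphic to L^{⊕d} for some d. Then:
(a) every indecomposable finite locally free O_X-module E whose pullback to X_K is a finite direct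
sum of invertible modules is isomorphic to M ⊗ J_a, where 0 ≤ j < r, M is an indecomposable finite
locally free O_X-module with π^*M ≅ (L^{⊗j})^{⊕d} for some d, a is an integer and J_a is an
invertible O_X-module whose class in Pic(X) is the a-th power of the class of J; (b) the integers a
and j in such an expression are determined by E. (The published statement takes r to be the least
such integer, the period, and leaves the connectedness of X_K implicit; the argument treats
invertible modules on X_K as indecomposable, whence that hypothesis, and does not use the minimality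
of r.) -/
theorem result (k : Type u) [Field k] {X : Scheme.{u}}
    (p : X ⟶ Spec (CommRingCat.of k)) [IsProper p] (K : Type u) [Field K] [Algebra k K] [IsAlgClosure k K]
    [ConnectedSpace ↥(W4bk4gw11416.baseChange p K)]
    [PicGrp.Law X] [PicGrp.Law (W4bk4gw11416.baseChange p K)] (hπ : PicGrp.PullMul (proj p K))
    (L : (W4bk4gw11416.baseChange p K).Modules) (hL : PicF.IsInvertible L)
    (e : PicLoc.PicSet (W4bk4gw11416.baseChange p K) ≃* Multiplicative ℤ)
    (he : e (PicGrp.cls L hL) = Multiplicative.ofAdd 1)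
    (r : ℕ) (hr : 1 ≤ r) (J : X.Modules) (hJ : PicF.IsInvertible J)
    (hJL : Nonempty (bcMod p K J ≅ CohB1.tensorPow L r))
    (hML : ∃ (M₁ : X.Modules) (d₁ : ℕ), FlatMod.IsFinLocFree M₁ ∧
      (¬ IsZero M₁ ∧ ∀ A B : X.Modules, Nonempty (M₁ ≅ A ⊞ B) → IsZero A ∨ IsZero B) ∧
      Nonempty (bcMod p K M₁ ≅ pow L d₁))
    (E : X.Modules) (hE : FlatMod.IsFinLocFree E)
    (hEi : (¬ IsZero E ∧ ∀ A B : X.Modules, Nonempty (E ≅ A ⊞ B) → IsZero A ∨ IsZero B))
    (n : ℕ) (Ls : Fin n → (W4bk4gw11416.baseChange p K).Modules) (hLs : ∀ i, PicF.IsInvertible (Ls i))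
    (hEs : Nonempty (bcMod p K E ≅ ∐ Ls)) :
    (∃ (a : ℤ) (j : ℕ), j < r ∧ ∃ (M : X.Modules) (d : ℕ) (Ja : X.Modules) (hJa : PicF.IsInvertible Ja),
      FlatMod.IsFinLocFree M ∧ (¬ IsZero M ∧ ∀ A B : X.Modules, Nonempty (M ≅ A ⊞ B) → IsZero A ∨ IsZero B) ∧
      Nonempty (bcMod p K M ≅ pow (CohB1.tensorPow L j) d) ∧
      PicGrp.cls Ja hJa = PicGrp.cls J hJ ^ a ∧ Nonempty (E ≅ CohB1.tensorMod M Ja)) ∧
    (∀ (a a' : ℤ) (j j' : ℕ) (M M' : X.Modules) (d d' : ℕ) (Ja Ja' : X.Modules)
      (hJa : PicF.IsInvertible Ja) (hJa' : PicF.IsInvertible Ja'),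
      j < r → j' < r →
      (¬ IsZero M ∧ ∀ A B : X.Modules, Nonempty (M ≅ A ⊞ B) → IsZero A ∨ IsZero B) → (¬ IsZero M' ∧ ∀ A B : X.Modules, Nonempty (M' ≅ A ⊞ B) → IsZero A ∨ IsZero B) →
      Nonempty (bcMod p K M ≅ pow (CohB1.tensorPow L j) d) → Nonempty (bcMod p K M' ≅ pow (CohB1.tensorPow L j') d') →
      PicGrp.cls Ja hJa = PicGrp.cls J hJ ^ a → PicGrp.cls Ja' hJa' = PicGrp.cls J hJ ^ a' →
      Nonempty (E ≅ CohB1.tensorMod M Ja) → Nonempty (E ≅ CohB1.tensorMod M' Ja') → a = a' ∧ j = j') := by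
  classical
  letI : X.Over (Spec (CommRingCat.of k)) := ⟨p⟩
  haveI : IsProper (X ↘ Spec (CommRingCat.of k)) := ‹IsProper p›
  letI : (W4bk4gw11416.baseChange p K).Over (Spec (CommRingCat.of K)) :=
    ⟨W4bk4gw11416.baseChangeTo p K⟩
  have sq : IsPullback (proj p K) (W4bk4gw11416.baseChange p K ↘ Spec (CommRingCat.of K))
      (X ↘ Spec (CommRingCat.of k)) (Spec.map (CommRingCat.ofHom (algebraMap k K))) :=
    IsPullback.of_hasPullback p (Spec.map (CommRingCat.ofHom (algebraMap k K)))
  haveI : IsProper (W4bk4gw11416.baseChange p K ↘ Spec (CommRingCat.of K)) :=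
    MorphismProperty.of_isPullback (P := @IsProper) sq inferInstance
  have hind : ∀ {N : (W4bk4gw11416.baseChange p K).Modules}, PicF.IsInvertible N → Groth.L24.KrullSchmidt.Indec N :=
    fun hN => by
      obtain ⟨N', -, ⟨t⟩⟩ := Groth.L08.Cube.exists_inverse hN
      exact Groth.L24.KrullSchmidt.indec_of_connected t
  have hlf : ∀ {N : (W4bk4gw11416.baseChange p K).Modules}, PicF.IsInvertible N → FlatMod.IsFinLocFree N :=
    fun hN => Groth.L16.Existence.isFinLocFree_of_isInvertible hN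
  have hindX : ∀ (M J : X.Modules), PicF.IsInvertible J → Groth.L24.KrullSchmidt.Indec M →
      Groth.L24.KrullSchmidt.Indec (CohB1.tensorMod M J) := fun M J hJ' hM => by
    obtain ⟨J', -, ⟨t⟩⟩ := Groth.L08.Cube.exists_inverse hJ'
    exact Groth.L24.KrullSchmidt.indec_tensor t hM
  have htp : ∀ j, PicF.IsInvertible (CohB1.tensorPow L j) := Groth.L18.Ample.isInvertible_tensorPow hL
  have hz0 : ∀ {M : X.Modules} {N : (W4bk4gw11416.baseChange p K).Modules} {d : ℕ}, ¬ IsZero M →
      Nonempty (bcMod p K M ≅ pow N d) → 0 < d := fun {M N d} hM ⟨b⟩ => Nat.pos_of_ne_zero fun h => hM (by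
    haveI : Flat (proj p K) := MorphismProperty.of_isPullback (P := @Flat) sq.flip (Groth.L03.ShStab.BC.flat_specMap K)
    haveI : Surjective (proj p K) :=
      MorphismProperty.of_isPullback (P := @Surjective) sq.flip (Groth.L03.ShStab.BC.surjective_specMap K)
    subst h
    exact Groth.L03.ShStab.BC.isZero_of_pullback (proj p K)
      (((IsZero.iff_id_eq_zero _).2 (Sigma.hom_ext _ _ fun i => i.elim0)).of_iso b))
  -- indecomposable bundles of every non-negative type
  obtain ⟨M₁, d₁, hM₁, hM₁i, ⟨b₁⟩⟩ := hML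
  have hd₁ := hz0 hM₁i.1 ⟨b₁⟩
  have htype : ∀ j : ℕ, ∃ (M : X.Modules) (d : ℕ), FlatMod.IsFinLocFree M ∧ Groth.L24.KrullSchmidt.Indec M ∧
      Nonempty (bcMod p K M ≅ pow (CohB1.tensorPow L j) d) := by
    intro j
    induction j with
    | zero =>
      refine Groth.L24.KrullSchmidt.exists_indec_type k K (proj p K) (hind (htp 0)) (hlf (htp 0))
        (Groth.L16.Existence.isFinLocFree_of_isInvertible (PicLoc.isInvertible_structureModule X)) ?_ (r := 1)
        (Groth.L29.LocFree.pullbackUnitIso (proj p K) ≪≫ (coproductUniqueIso fun _ : Fin 1 => _).symm)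
      intro h
      refine (hind (htp 0)).1 (((Scheme.Modules.pullback (proj p K)).map_isZero h).of_iso ?_)
      exact (Groth.L29.LocFree.pullbackUnitIso (proj p K)).symm
    | succ j ih =>
      obtain ⟨M, d, hM, hMi, ⟨b⟩⟩ := ih
      have hd := hz0 hMi.1 ⟨b⟩
      obtain ⟨c⟩ := Groth.L24.KrullSchmidt.exists_tensor_type_pow (proj p K) b b₁
        (Iso.refl (CohB1.tensorPow L (j + 1)))
      refine Groth.L24.KrullSchmidt.exists_indec_type k K (proj p K) (hind (htp (j + 1))) (hlf (htp (j + 1)))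
        (Groth.L29.DC.isFinLocFree_tensor hM hM₁) ?_ c
      intro h
      refine (hind (htp (j + 1))).1 ((IsZero.iff_id_eq_zero _).2 ?_)
      have h' := (IsZero.iff_id_eq_zero _).1 (((Scheme.Modules.pullback (proj p K)).map_isZero h).of_iso c.symm)
      obtain ⟨s, q, hsq⟩ := Groth.L24.KrullSchmidt.isRetract_member
        (fun _ : Fin (d * d₁) => CohB1.tensorPow L (j + 1)) ⟨0, Nat.mul_pos hd hd₁⟩
      rw [← hsq, ← Category.comp_id s, h', Limits.comp_zero, Limits.zero_comp]
  -- classes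
  let c := PicGrp.cls L hL
  have hec : ∀ z : ℤ, Multiplicative.toAdd (e (c ^ z)) = z := fun z => by
    rw [map_zpow, he, toAdd_zpow, toAdd_ofAdd, smul_eq_mul, mul_one]
  have hcls : ∀ (j : ℕ), PicGrp.cls (CohB1.tensorPow L j) (htp j) = c ^ (j : ℤ) := fun j => by
    rw [zpow_natCast]; exact Subtype.ext (PicGrp.cls_pow_val hL j).symm
  have hJc : PicGrp.pullHom (proj p K) hπ (PicGrp.cls J hJ) = c ^ (r : ℤ) := by
    rw [PicGrp.pullHom_cls, ← hcls r, PicGrp.cls_eq_cls_iff]; exact hJL
  -- the type of a twisted bundle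
  have htw : ∀ (a : ℤ) (j : ℕ) (M Ja : X.Modules) (hJa : PicF.IsInvertible Ja) (d : ℕ),
      PicGrp.cls Ja hJa = PicGrp.cls J hJ ^ a → Nonempty (bcMod p K M ≅ pow (CohB1.tensorPow L j) d) →
      ∃ (N : (W4bk4gw11416.baseChange p K).Modules) (hN : PicF.IsInvertible N),
        PicGrp.cls N hN = c ^ (a * r + j) ∧
        Nonempty (bcMod p K (CohB1.tensorMod M Ja) ≅ pow N d) := by
    rintro a j M Ja hJa d h ⟨b⟩
    obtain ⟨N, hN, hN'⟩ := PicGrp.exists_eq_cls (c ^ (a * r + j))
    have hJa' : PicGrp.cls _ (PicLoc.isInvertible_pullback (proj p K) hJa) = c ^ (a * r) := by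
      rw [← PicGrp.pullHom_cls (proj p K) hπ Ja hJa, h, map_zpow, hJc, ← zpow_mul, mul_comm]
    have h2 : Nonempty (CohB1.tensorMod (CohB1.tensorPow L j) ((Scheme.Modules.pullback (proj p K)).obj Ja) ≅ N) := by
      rw [← PicGrp.cl_eq_cl_iff, ← PicGrp.cls_mul_cls_val (htp j) (PicLoc.isInvertible_pullback (proj p K) hJa),
        hcls, hJa', ← zpow_add, add_comm, hN', PicGrp.cls_val]
    obtain ⟨t⟩ := h2
    obtain ⟨b'⟩ := Groth.L24.KrullSchmidt.exists_tensor_type_pow (proj p K) b
      (coproductUniqueIso fun _ : Fin 1 => (Scheme.Modules.pullback (proj p K)).obj Ja).symm t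
    rw [mul_one] at b'
    exact ⟨N, hN, hN'.symm, ⟨b'⟩⟩
  obtain ⟨aE⟩ := hEs
  refine ⟨?_, ?_⟩
  · have hn : 0 < n := Nat.pos_of_ne_zero fun h => hEi.1 (by
      haveI : Flat (proj p K) := MorphismProperty.of_isPullback (P := @Flat) sq.flip (Groth.L03.ShStab.BC.flat_specMap K)
      haveI : Surjective (proj p K) :=
        MorphismProperty.of_isPullback (P := @Surjective) sq.flip (Groth.L03.ShStab.BC.surjective_specMap K)
      subst h
      exact Groth.L03.ShStab.BC.isZero_of_pullback (proj p K)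
        (((IsZero.iff_id_eq_zero _).2 (Sigma.hom_ext _ _ fun i => i.elim0)).of_iso aE))
    let i₀ : Fin n := ⟨0, hn⟩
    let m : ℤ := Multiplicative.toAdd (e (PicGrp.cls (Ls i₀) (hLs i₀)))
    have hm : PicGrp.cls (Ls i₀) (hLs i₀) = c ^ m := e.injective (by
      apply Multiplicative.toAdd.injective
      rw [hec])
    have hr0 : (r : ℤ) ≠ 0 := by omega
    obtain ⟨j, hj⟩ := Int.eq_ofNat_of_zero_le (Int.emod_nonneg m hr0)
    have hjr : j < r := by
      have := Int.emod_lt_of_pos m (by omega : (0 : ℤ) < r)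
      omega
    have hm' : m / (r : ℤ) * r + j = m := by rw [← hj]; exact Int.ediv_mul_add_emod m r
    obtain ⟨M, d, hM, hMi, hb⟩ := htype j
    obtain ⟨Ja, hJa, hJa'⟩ := PicGrp.exists_eq_cls (PicGrp.cls J hJ ^ (m / (r : ℤ)))
    obtain ⟨N, hN, hNc, ⟨b⟩⟩ := htw (m / (r : ℤ)) j M Ja hJa d hJa'.symm hb
    obtain ⟨t⟩ := (PicGrp.cls_eq_cls_iff hN (hLs i₀)).1 (by rw [hNc, hm, hm'])
    refine ⟨m / (r : ℤ), j, hjr, M, d, Ja, hJa, hM, hMi, hb, hJa'.symm, ?_⟩
    exact Groth.L24.KrullSchmidt.nonempty_iso_of_split (proj p K) sq hE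
      (Groth.L29.DC.isFinLocFree_tensor hM (Groth.L16.Existence.isFinLocFree_of_isInvertible hJa))
      hEi (hindX M Ja hJa hMi) i₀ aE (b ≪≫ Limits.Sigma.mapIso fun _ => t)
  · rintro a a' j j' M M' d d' Ja Ja' hJa hJa' hj hj' hMi hMi' hb hb' hJac hJac' ⟨u₁⟩ ⟨u₂⟩
    obtain ⟨N, hN, hNc, ⟨b⟩⟩ := htw a j M Ja hJa d hJac hb
    obtain ⟨N', hN', hNc', ⟨b'⟩⟩ := htw a' j' M' Ja' hJa' d' hJac' hb'
    obtain ⟨t⟩ := Groth.L24.KrullSchmidt.nonempty_iso_type (K := K) (hind hN) (hind hN') (hlf hN) (hlf hN') (hz0 hMi.1 hb)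
      (b.symm ≪≫ (Scheme.Modules.pullback (proj p K)).mapIso (u₁.symm ≪≫ u₂) ≪≫ b')
    have h := congrArg (fun z => Multiplicative.toAdd (e z)) ((PicGrp.cls_eq_cls_iff hN hN').2 ⟨t⟩)
    simp only [hNc, hNc', hec] at h
    have ha : a = a' := by
      by_contra hne
      rcases lt_or_gt_of_ne hne with hlt | hlt
      · have := mul_le_mul_of_nonneg_right (Int.add_one_le_of_lt hlt) (Int.natCast_nonneg r)
        rw [add_mul, one_mul] at this
        omega
      · have := mul_le_mul_of_nonneg_right (Int.add_one_le_of_lt hlt) (Int.natCast_nonneg r)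
        rw [add_mul, one_mul] at this
        omega
    exact ⟨ha, by subst ha; omega⟩

end Groth.Agent.S15405
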