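import Groth.Statements.S15406
import Groth.Agent.L05.InterPair.ClassApps
import Groth.Agent.L05.InterPair.Global
import Groth.Agent.L05.Models.UnitDivisor
import Groth.Agent.L05.Models.CurveFacts
import Groth.Agent.L05.MinModel.Basic
import Groth.Agent.L21.Extend.Split
-- import your own Groth.Agent.* helpers here

set_option autoImplicit false
universe u
open CategoryTheory CategoryTheory.Limits AlgebraicGeometry
open Models

namespace Groth.Agent.S15406
set_option backward.isDefEq.respectTransparency false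
set_option linter.style.haveILetI false

attribute [local instance] Groth.L08.Cube.clMonoid

open Groth.L05.InterPair in
/-- The map on classes to the component group. -/
theorem exists_componentMap {R : Type u} [CommRing R] [IsDomain R] [IsDiscreteValuationRing R]
    {X : Over (Spec (CommRingCat.of R))} [IsLocallyNoetherian X.left] [Flat X.hom] [IsProper X.hom]
    [IsIntegral X.left] {n : ℕ} {Γ : Fin n → ArSurf.VertComp R X} {LD : Fin n → X.left.Modules}
    (S : Setup Γ LD) (hn : 0 < n) {C : Scheme.{u}} [IsIntegral C]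
    {f : C ⟶ Spec (CommRingCat.of (FractionRing R))} {g : C ⟶ X.left}
    (hg : IsPullback g f X.hom (Spec.map (CommRingCat.ofHom (algebraMap R (FractionRing R)))))
    [PicGrp.Law X.left] [PicGrp.Law C] (hgm : PicGrp.PullMul g)
    (hlift : ∀ c : PicLoc.PicSet C, ∃ c' : PicLoc.PicSet X.left, PicGrp.pullHom g hgm c' = c)
    (hunit : ∀ i : Fin n, ∃ M : X.left.Modules, PicF.IsInvertible M ∧
      ∀ j : Fin n, ArSurf.inter R X M (Γ j) = if j = i then 1 else 0) :
    ∃ ψ : Additive (PicLoc.PicSet C) →+
          ((Fin n → ℤ) ⧸ LinearMap.range (Matrix.mulVecLin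
            (Matrix.of fun j i => ArSurf.inter R X (LD i) (Γ j)))),
        (∀ (L : X.left.Modules) (hL : PicF.IsInvertible L),
            ψ (Additive.ofMul (PicGrp.pullHom g hgm (PicGrp.cls L hL))) =
              Submodule.Quotient.mk (fun j => ArSurf.inter R X L (Γ j))) ∧
          Function.Surjective ψ ∧
          (∀ c : PicLoc.PicSet C, ψ (Additive.ofMul c) = 0 →
            ∃ (L : X.left.Modules) (hL : PicF.IsInvertible L),
              (∀ j, ArSurf.inter R X L (Γ j) = 0) ∧ PicGrp.pullHom g hgm (PicGrp.cls L hL) = c) := by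
  classical
  set P := LinearMap.range (Matrix.mulVecLin (Matrix.of fun j i => ArSurf.inter R X (LD i) (Γ j)))
  let rep : PicLoc.PicSet X.left → X.left.Modules := fun c => (PicGrp.exists_eq_cls c).choose
  have hrep : ∀ c, ∃ h : PicF.IsInvertible (rep c), c = PicGrp.cls (rep c) h :=
    fun c => (PicGrp.exists_eq_cls c).choose_spec
  let deg : PicLoc.PicSet X.left → (Fin n → ℤ) := fun c j => ArSurf.inter R X (rep c) (Γ j)
  have hdegcls : ∀ (L : X.left.Modules) (hL : PicF.IsInvertible L),
      deg (PicGrp.cls L hL) = fun j => ArSurf.inter R X L (Γ j) := fun L hL => funext fun j => by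
    obtain ⟨h, he⟩ := hrep (PicGrp.cls L hL)
    obtain ⟨e⟩ := (PicGrp.cls_eq_cls_iff hL h).1 he
    exact inter_congr _ e.symm
  have hmul : ∀ a b, deg (a * b) = deg a + deg b := fun a b => funext fun j => by
    obtain ⟨ha, hae⟩ := hrep a
    obtain ⟨hb, hbe⟩ := hrep b
    have hab : a * b = PicGrp.cls (CohB1.tensorMod (rep a) (rep b)) (Groth.L18.GenLoc.isInvertible_tensor ha hb) :=
      Subtype.ext (by conv_lhs => rw [hae, hbe, PicGrp.cls_mul_cls_val]
                      rfl)
    rw [hab, hdegcls]
    exact inter_tensor _ ha hb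
  have hker : ∀ a b, PicGrp.pullHom g hgm a = PicGrp.pullHom g hgm b → deg b - deg a ∈ P := fun a b hab => by
    obtain ⟨ha, hae⟩ := hrep a
    obtain ⟨hb, hbe⟩ := hrep b
    have hval : PicF.pullCl g (PicF.cl (rep b)) = PicF.pullCl g (PicF.cl (rep a)) := by
      have h := congrArg Subtype.val hab
      rw [hae, hbe, PicGrp.pullHom_apply_val, PicGrp.pullHom_apply_val] at h
      exact h.symm
    obtain ⟨z, hz⟩ := S.exists_eq_mul_Φ hg ha hb hval
    obtain ⟨Q, hQ, hQc⟩ := S.exists_rep z
    obtain ⟨e⟩ := cl_eq_iff.1 (show PicF.cl (rep b) = PicF.cl (CohB1.tensorMod (rep a) Q) by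
      rw [cl_tensor', hQc, hz])
    refine ⟨z, funext fun j => ?_⟩
    rw [Pi.sub_apply, Matrix.mulVecLin_apply]
    show ∑ i, ArSurf.inter R X (LD i) (Γ j) * z i = _
    show _ = ArSurf.inter R X (rep b) (Γ j) - ArSurf.inter R X (rep a) (Γ j)
    rw [inter_congr _ e, inter_tensor _ ha hQ, S.inter_of_cl hQ hQc, add_sub_cancel_left]
    exact Finset.sum_congr rfl fun i _ => mul_comm _ _
  choose lift hlift using hlift
  have hkey : ∀ a, Submodule.Quotient.mk (p := P) (deg (lift (PicGrp.pullHom g hgm a))) =
      Submodule.Quotient.mk (deg a) := fun a =>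
    ((Submodule.Quotient.eq P).2 (hker _ _ (hlift (PicGrp.pullHom g hgm a)).symm))
  let ψ : Additive (PicLoc.PicSet C) →+ (Fin n → ℤ) ⧸ P :=
    AddMonoidHom.mk' (fun c => Submodule.Quotient.mk (deg (lift c.toMul))) fun c d => by
      rw [← Submodule.Quotient.mk_add, ← hmul]
      refine ((congrArg (fun t => Submodule.Quotient.mk (deg (lift t))) ?_).trans (hkey (lift c.toMul * lift d.toMul)))
      rw [map_mul, hlift, hlift]
      rfl
  refine ⟨ψ, fun L hL => (hkey _).trans (congrArg _ (hdegcls L hL)), fun γ => ?_, fun c hc => ?_⟩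
  · obtain ⟨v, rfl⟩ := Submodule.Quotient.mk_surjective P γ
    choose M hM hMd using hunit
    let D : Additive (PicLoc.PicSet X.left) →+ (Fin n → ℤ) := AddMonoidHom.mk' (fun a => deg a.toMul) fun a b => hmul _ _
    refine ⟨Additive.ofMul (PicGrp.pullHom g hgm (∑ i, v i • Additive.ofMul (PicGrp.cls (M i) (hM i))).toMul), ?_⟩
    refine (hkey _).trans (congrArg _ ?_)
    show D (∑ i, v i • Additive.ofMul (PicGrp.cls (M i) (hM i))) = v
    rw [map_sum]
    funext j
    simp only [map_zsmul, Finset.sum_apply, Pi.smul_apply, smul_eq_mul]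
    have h1 : ∀ i, D (Additive.ofMul (PicGrp.cls (M i) (hM i))) j = if j = i then 1 else 0 :=
      fun i => (congrFun (hdegcls _ (hM i)) j).trans (hMd i j)
    simp [h1]
  · obtain ⟨hL, he⟩ := hrep (lift c)
    obtain ⟨z, hz⟩ := (Submodule.Quotient.mk_eq_zero P).1 hc
    obtain ⟨N, hN, hNc⟩ := PicGrp.exists_eq_cls c
    have hpull : PicGrp.pullHom g hgm (PicGrp.cls (rep (lift c)) hL) = PicGrp.cls N hN := by
      rw [← he, hlift, hNc]
    rw [PicGrp.pullHom_cls, PicGrp.cls_eq_cls_iff] at hpull
    obtain ⟨M', hM', hM'N, h0⟩ := (exists_degree_zero_lift_iff S hn hg hL hpull).1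
      ⟨z, fun i => (congrFun hz i).symm⟩
    refine ⟨M', hM', h0, ?_⟩
    rw [PicGrp.pullHom_cls, hNc, PicGrp.cls_eq_cls_iff]
    exact hM'N


/-- Let R be a complete discrete valuation ring with algebraically closed residue field k and fraction
field K, C a smooth proper curve over K with H⁰(C, O_C) = K and dim_K H¹(C, O_C) ≥ 2, and X → Spec R
a regular proper model of C, with g : C → X exhibiting C as the generic fibre. Let Γ₁, …, Γ_n
enumerate the irreducible components of the closed fibre, with multiplicities of greatest common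
divisor 1, and for each i let L_i be an invertible O_X-module inverse to the ideal sheaf of Γ_i (so
that (L_i · Γ_j) is the intersection number Γ_i · Γ_j). Assume the Picard group laws on X and on C
and that pullback of invertible classes along g is multiplicative. Let G be the quotient of ℤⁿ by
the subgroup spanned by the vectors ((L_i · Γ_j))_j, i = 1, …, n. Then: (a) an invertible O_X-module
of degree 0 on every Γ_j whose pullback to C is trivial is itself trivial; (b) there is a surjective
homomorphism ψ from Pic(C) (written additively) onto G which sends the class of g^*L, for every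
invertible O_X-module L, to the class of the vector ((L · Γ_j))_j, and whose kernel consists exactly
of the classes g^*L with L invertible on X of degree 0 on every Γ_j. In other words 0 → Pic⁰(X) →
Pic(C) → G → 0 is exact, Pic⁰(X) denoting the classes of degree 0 on all components of the closed
fibre. -/
theorem result
    (R : Type u) [CommRing R] [IsDomain R] [IsDiscreteValuationRing R]
    [IsAdicComplete (IsLocalRing.maximalIdeal R) R] (hk : IsAlgClosed (IsLocalRing.ResidueField R))
    (C : Scheme.{u}) (fC : C ⟶ Spec (CommRingCat.of (FractionRing R))) [IsProper fC] [Smooth fC]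
    (hC0 : Models.hRank (FractionRing R) C fC (Coh.structureModule C) 0 = 1)
    (hg2 : 2 ≤ Models.curveGenus (FractionRing R) C fC)
    (X : Scheme.{u}) (p : X ⟶ Spec (CommRingCat.of R)) (hX : Models.IsRegularProperModel R X p C fC)
    (g : C ⟶ X) (hg : IsPullback g fC p (Spec.map (CommRingCat.ofHom (algebraMap R (FractionRing R)))))
    {n : ℕ} (Γ : Fin n → ArSurf.VertComp R (Over.mk p)) (hΓ : Models.IsComponentList R (Over.mk p) Γ)
    (hgcd : Models.multGcd R (Over.mk p) Γ = 1)
    (LD : Fin n → X.Modules) (hLD : ∀ i, ClSub.IsInverseOf (LD i) (ClSub.idealMod (Γ i).ι.ker))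
    [PicGrp.Law X] [PicGrp.Law C] (hgm : PicGrp.PullMul g) :
    (∀ (L : X.Modules) (hL : PicF.IsInvertible L), (∀ j, ArSurf.inter R (Over.mk p) L (Γ j) = 0) →
        PicGrp.pullHom g hgm (PicGrp.cls L hL) = 1 → PicGrp.cls L hL = 1) ∧
      ∃ ψ : Additive (PicLoc.PicSet C) →+
          ((Fin n → ℤ) ⧸ LinearMap.range (Matrix.mulVecLin
            (Matrix.of fun j i => ArSurf.inter R (Over.mk p) (LD i) (Γ j)))),
        (∀ (L : X.Modules) (hL : PicF.IsInvertible L),
            ψ (Additive.ofMul (PicGrp.pullHom g hgm (PicGrp.cls L hL))) =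
              Submodule.Quotient.mk (fun j => ArSurf.inter R (Over.mk p) L (Γ j))) ∧
          Function.Surjective ψ ∧
          (∀ c : PicLoc.PicSet C, ψ (Additive.ofMul c) = 0 →
            ∃ (L : X.Modules) (hL : PicF.IsInvertible L),
              (∀ j, ArSurf.inter R (Over.mk p) L (Γ j) = 0) ∧ PicGrp.pullHom g hgm (PicGrp.cls L hL) = c) := by
  haveI := hk
  letI : C.Over (Spec (CommRingCat.of (FractionRing R))) := ⟨fC⟩
  haveI : IsProper (C ↘ Spec (CommRingCat.of (FractionRing R))) := ‹IsProper fC›
  haveI : ConnectedSpace C := Groth.L21.PlaneCurve.connectedSpace_of_h0_eq_one (k := FractionRing R) hC0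
  haveI : IsProper p := hX.2.1
  haveI : IsProper (Over.mk p).hom := hX.2.1
  haveI : IsLocallyNoetherian X := LocallyOfFiniteType.isLocallyNoetherian p
  haveI : Flat (Over.mk p).hom := hX.1.1
  haveI : IsLocallyNoetherian (Over.mk p).left := LocallyOfFiniteType.isLocallyNoetherian p
  obtain ⟨c₀⟩ := (inferInstance : Nonempty C)
  obtain ⟨x, -, hx⟩ : ∃ x, g c₀ ⤳ x ∧ p x = IsLocalRing.closedPoint R := by
    have h1 : IsLocalRing.closedPoint R ∈ p '' closure {g c₀} :=
      (IsLocalRing.specializes_closedPoint (p (g c₀))).mem_closed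
        (p.isClosedMap _ isClosed_closure) ⟨g c₀, subset_closure rfl, rfl⟩
    obtain ⟨x, hx, hpx⟩ := h1
    exact ⟨x, specializes_iff_mem_closure.2 hx, hpx⟩
  obtain ⟨i₀, -⟩ := Groth.L05.FibreDecomp.exists_component hΓ (x := x) hx
  obtain ⟨hC, hH0⟩ := Groth.L05.Models.CurveFacts.isCurve R C fC hC0 X p hX Γ hΓ i₀
  obtain ⟨hint, -, hdim, -⟩ := Groth.L05.MinModel.surface hC hX
  haveI : IsIntegral (Over.mk p).left := hint
  haveI : IsIntegral C := hC.2.2.1
  have hreg : Models.IsRegularScheme (Over.mk p).left := hX.2.2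
  have S : Groth.L05.InterPair.Setup Γ LD :=
    ⟨hreg, hΓ, hLD, Groth.L05.InterPair.isPreconnected_specialFibreSet R fC p hC hH0 hX,
      Groth.L05.InterPair.surjective_toGlobal R C X fC p hH0 hX⟩
  haveI : HenselianLocalRing R :=
    { is_henselian := fun f hf a₀ h₁ h₂ =>
        HenselianRing.is_henselian (I := IsLocalRing.maximalIdeal R) f hf a₀ h₁
          (h₂.map (Ideal.Quotient.mk (IsLocalRing.maximalIdeal R))) }
  letI : PicGrp.Law (Over.mk p).left := ‹PicGrp.Law X›
  refine ⟨fun L hL h0 h1 => ?_, exists_componentMap S i₀.pos hg hgm (fun c => ?_)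
    (Groth.L05.Models.UnitDivisor.exists_inter_eq_ite (Over.mk p) hdim Γ hΓ)⟩
  · rw [PicGrp.pullHom_cls, PicGrp.cls_eq_one_iff] at h1
    rw [PicGrp.cls_eq_one_iff]
    have h2 := Groth.L05.InterPair.cl_eq_one_iff.2
      (Groth.L05.InterPair.tensorPow_gcd_trivial S i₀.pos hg hL h1 h0)
    rw [hgcd, Groth.L08.Cube.cl_tensorPow] at h2
    exact Groth.L05.InterPair.cl_eq_one_iff.1 ((pow_one _).symm.trans h2)
  · obtain ⟨N, hN, rfl⟩ := PicGrp.exists_eq_cls c
    haveI : IsOpenImmersion g := Groth.L05.MinModel.isOpenImmersion_model hg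
    obtain ⟨L', hL', ⟨e⟩⟩ := Groth.L21.Extend.exists_invertible_extension g.opensRange
      ((Scheme.Modules.pullback g.isoOpensRange.inv).obj N) (PicLoc.isInvertible_pullback _ hN) fun x _ => by
        haveI := hX.2.2 x
        exact Groth.L10.RegUFD.isUFD (X.presheaf.stalk x)
    refine ⟨PicGrp.cls L' hL', ?_⟩
    rw [PicGrp.pullHom_cls, PicGrp.cls_eq_cls_iff]
    exact ⟨(Scheme.Modules.pullbackCongr g.isoOpensRange_hom_ι.symm).app L' ≪≫
      ((Scheme.Modules.pullbackComp g.isoOpensRange.hom g.opensRange.ι).app L').symm ≪≫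
      (Scheme.Modules.pullback g.isoOpensRange.hom).mapIso
        (((Scheme.Modules.restrictFunctorIsoPullback g.opensRange.ι).app L').symm ≪≫ e) ≪≫
      (Scheme.Modules.pullbackComp g.isoOpensRange.hom g.isoOpensRange.inv).app N ≪≫
      (Scheme.Modules.pullbackCongr g.isoOpensRange.hom_inv_id).app N ≪≫
      (Scheme.Modules.pullbackId C).app N⟩

end Groth.Agent.S15406
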