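import Groth.Statements.S15407
import Groth.Agent.L05.Models.PicFibre
-- import your own Groth.Agent.* helpers here

set_option autoImplicit false
universe u
open CategoryTheory CategoryTheory.Limits AlgebraicGeometry
open Models

namespace Groth.Agent.S15407
set_option backward.isDefEq.respectTransparency false
set_option linter.style.haveILetI false

/-- Let R be a complete discrete valuation ring with algebraically closed residue field k and fraction
field K, C a smooth proper K-scheme of Krull dimension one (a curve) with H⁰(C, O_C) = K and dim_K
H¹(C, O_C) ≥ 2, X → Spec R a regular proper model of C, X_k = X ×_R Spec k its closed fibre with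
inclusion i : X_k → X, and q ≥ 1 an integer which is nonzero in k. Assume the Picard group laws on X
and X_k and that pullback of invertible classes along i is multiplicative. Then (a) the restriction
Pic(X) → Pic(X_k) is surjective, and (b) its kernel N is uniquely q-divisible: for every c in N
there is exactly one d in N with d^q = c. (The published statement introduces N as the kernel of
Pic⁰(X) → Pic⁰(X_k), Pic⁰ denoting the classes of degree 0 on every component of the closed fibre,
and asserts that this map is surjective; a class trivial on X_k has degree 0 on every component, so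
N is the kernel in (b), and (a) is the equivalent surjectivity of the unrestricted map.) -/
theorem result
    (R : Type u) [CommRing R] [IsDomain R] [IsDiscreteValuationRing R]
    [IsAdicComplete (IsLocalRing.maximalIdeal R) R] (hk : IsAlgClosed (IsLocalRing.ResidueField R))
    (C : Scheme.{u}) (fC : C ⟶ Spec (CommRingCat.of (FractionRing R))) [IsProper fC] [Smooth fC]
    (hC0 : Models.hRank (FractionRing R) C fC (Coh.structureModule C) 0 = 1)
    (hg2 : 2 ≤ Models.curveGenus (FractionRing R) C fC) (hC1 : topologicalKrullDim C = 1)
    (X : Scheme.{u}) (p : X ⟶ Spec (CommRingCat.of R)) (hX : Models.IsRegularProperModel R X p C fC)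
    (q : ℕ) (hq : 1 ≤ q) (hqk : (q : IsLocalRing.ResidueField R) ≠ 0)
    [PicGrp.Law X]
    [PicGrp.Law (pullback p (Spec.map (CommRingCat.ofHom (algebraMap R (IsLocalRing.ResidueField R)))))]
    (hi : PicGrp.PullMul (pullback.fst p (Spec.map (CommRingCat.ofHom (algebraMap R (IsLocalRing.ResidueField R)))))) :
    Function.Surjective (PicGrp.pullHom
        (pullback.fst p (Spec.map (CommRingCat.ofHom (algebraMap R (IsLocalRing.ResidueField R))))) hi) ∧
      ∀ c ∈ (PicGrp.pullHom
          (pullback.fst p (Spec.map (CommRingCat.ofHom (algebraMap R (IsLocalRing.ResidueField R))))) hi).ker,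
        ∃! d : PicLoc.PicSet X,
          d ∈ (PicGrp.pullHom
            (pullback.fst p (Spec.map (CommRingCat.ofHom (algebraMap R (IsLocalRing.ResidueField R))))) hi).ker ∧
          d ^ q = c := by
  obtain rfl : ‹PicGrp.Law X› = Groth.Agent.AV.InterPic.picLaw X := Subsingleton.elim _ _
  obtain rfl : ‹PicGrp.Law (pullback p (Spec.map (CommRingCat.ofHom (algebraMap R (IsLocalRing.ResidueField R)))))› =
      Groth.Agent.AV.InterPic.picLaw _ := Subsingleton.elim _ _
  obtain ⟨h1, h2⟩ := Groth.L05.Models.PicFibre.restriction R hk C X fC p
    (Groth.L05.Models.PicFibre.isCurve_of_dim C fC hC0 hC1) hX q hq hqk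
  exact ⟨h1, fun c hc => h2 c hc⟩

end Groth.Agent.S15407
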