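import Groth.Statements.S15409
import Groth.Agent.L24.KrullSchmidt.Types
import Groth.Agent.L08.Cube.SeesawH0
import Groth.Agent.L29.DCoh.TensorPerfect

set_option autoImplicit false
set_option backward.isDefEq.respectTransparency.types false
universe u
open CategoryTheory CategoryTheory.Limits AlgebraicGeometry
open ASBun

namespace Groth.Agent.S15409

open W4c1astiltbs12 in
/-- Let X be proper over a field k with k ≅ H⁰(X, O_X), K an algebraic closure of k with X_K connected
and projection π : X_K → X; assume the Picard group laws on X and X_K with pullback along π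
multiplicative, that Pic(X_K) is infinite cyclic generated by the class of an invertible module L,
and that J is an invertible O_X-module whose pullback to X_K has class the r-th power of the class
of L, r ≥ 1. Let j and a be integers and N, N' invertible O_{X_K}-modules with classes (cls L)^j and
(cls L)^{j'} where either j' = −j or j' = j + a·r. If W, W' are indecomposable finite locally free
O_X-modules (nonzero, and in any direct-sum decomposition one summand is zero) with π^*W ≅ N^{⊕d}
and π^*W' ≅ N'^{⊕d'}, then d = d': the rank of the indecomposable absolutely isotypical sheaf of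
type L^{⊗j} depends only on ±j modulo r. (The published statement phrases this for the sheaves
W_{L^{⊗j}}, whose existence for every j it assumes through an indecomposable absolutely isotypical
sheaf of type L; here the two sheaves are given, and r need not be minimal.) -/
theorem result (k : Type u) [Field k] {X : Scheme.{u}}
    (p : X ⟶ Spec (CommRingCat.of k)) [IsProper p] (hO : IsIso p.appTop) (K : Type u) [Field K] [Algebra k K] [IsAlgClosure k K]
    [ConnectedSpace ↥(W4bk4gw11416.baseChange p K)]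
    [PicGrp.Law X] [PicGrp.Law (W4bk4gw11416.baseChange p K)] (hπ : PicGrp.PullMul (proj p K))
    (L : (W4bk4gw11416.baseChange p K).Modules) (hL : PicF.IsInvertible L)
    (e : PicLoc.PicSet (W4bk4gw11416.baseChange p K) ≃* Multiplicative ℤ)
    (he : e (PicGrp.cls L hL) = Multiplicative.ofAdd 1)
    (r : ℕ) (hr : 1 ≤ r) (J : X.Modules) (hJ : PicF.IsInvertible J)
    (hJL : PicGrp.cls (bcMod p K J) (PicLoc.isInvertible_pullback (proj p K) hJ) = PicGrp.cls L hL ^ r)
    (j a j' : ℤ) (hj' : j' = -j ∨ j' = j + a * r)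
    (N N' : (W4bk4gw11416.baseChange p K).Modules) (hN : PicF.IsInvertible N) (hN' : PicF.IsInvertible N')
    (hNj : PicGrp.cls N hN = PicGrp.cls L hL ^ j) (hN'j : PicGrp.cls N' hN' = PicGrp.cls L hL ^ j')
    (W W' : X.Modules) (hW : FlatMod.IsFinLocFree W) (hW' : FlatMod.IsFinLocFree W')
    (hWi : (¬ IsZero W ∧ ∀ A B : X.Modules, Nonempty (W ≅ A ⊞ B) → IsZero A ∨ IsZero B)) (hW'i : (¬ IsZero W' ∧ ∀ A B : X.Modules, Nonempty (W' ≅ A ⊞ B) → IsZero A ∨ IsZero B))
    (d d' : ℕ) (eW : Nonempty (bcMod p K W ≅ pow N d)) (eW' : Nonempty (bcMod p K W' ≅ pow N' d')) :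
    d = d' := by
  letI : X.Over (Spec (CommRingCat.of k)) := ⟨p⟩
  haveI : IsProper (X ↘ Spec (CommRingCat.of k)) := ‹IsProper p›
  letI : (W4bk4gw11416.baseChange p K).Over (Spec (CommRingCat.of K)) :=
    ⟨W4bk4gw11416.baseChangeTo p K⟩
  have sq : IsPullback (proj p K) (W4bk4gw11416.baseChange p K ↘ Spec (CommRingCat.of K))
      (X ↘ Spec (CommRingCat.of k)) (Spec.map (CommRingCat.ofHom (algebraMap k K))) :=
    IsPullback.of_hasPullback p (Spec.map (CommRingCat.ofHom (algebraMap k K)))
  have hp : Function.Bijective (Coh.toGlobal p) :=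
    ((ConcreteCategory.isIso_iff_bijective p.appTop).1 hO).comp
      ((ConcreteCategory.isIso_iff_bijective (Scheme.ΓSpecIso (CommRingCat.of k)).inv).1 inferInstance)
  haveI : Flat p := by
    haveI : Subsingleton ↥(Spec (CommRingCat.of k)) := inferInstanceAs (Subsingleton (PrimeSpectrum k))
    infer_instance
  haveI : Nonempty X := by
    obtain ⟨y⟩ := (inferInstance : Nonempty (W4bk4gw11416.baseChange p K))
    exact ⟨proj p K y⟩
  have hk : Function.Bijective (Coh.toGlobal (W4bk4gw11416.baseChange p K ↘ Spec (CommRingCat.of K))) :=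
    (Groth.L08.Cube.bijective_toGlobal_baseChange p hp (proj p K) _ sq).2
  let φ := PicGrp.pullHom (proj p K) hπ
  have hφJ : φ (PicGrp.cls J hJ) = PicGrp.cls L hL ^ r := (PicGrp.pullHom_cls _ _ J hJ).trans hJL
  have hinv : ∀ (A : (W4bk4gw11416.baseChange p K).Modules) (hA : PicF.IsInvertible A),
      ∃ (A' : (W4bk4gw11416.baseChange p K).Modules),
        Nonempty (CohB1.tensorMod A A' ≅ Coh.structureModule _) := fun A hA => by
    obtain ⟨A', hA', h⟩ := PicGrp.exists_eq_cls (PicGrp.cls A hA)⁻¹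
    exact ⟨A', (PicGrp.cls_mul_cls_eq_one_iff hA hA').1 (by rw [← h, mul_inv_cancel])⟩
  obtain ⟨Ni, ⟨tN⟩⟩ := hinv N hN
  obtain ⟨Ni', ⟨tN'⟩⟩ := hinv N' hN'
  obtain ⟨a₁⟩ := eW
  obtain ⟨a₂⟩ := eW'
  have step : ∀ (A B : (W4bk4gw11416.baseChange p K).Modules) (hA : PicF.IsInvertible A) (hB : PicF.IsInvertible B)
      (i i' : ℤ), PicGrp.cls A hA = PicGrp.cls L hL ^ i → PicGrp.cls B hB = PicGrp.cls L hL ^ i' →
      (i' = -i ∨ ∃ b : ℤ, i' = i + b * r) → ∀ (V : X.Modules), FlatMod.IsFinLocFree V → ∀ c : ℕ,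
      ((Scheme.Modules.pullback (proj p K)).obj V ≅ ∐ fun _ : Fin c => A) →
      ∃ D : X.Modules, FlatMod.IsFinLocFree D ∧
        Nonempty ((Scheme.Modules.pullback (proj p K)).obj D ≅ ∐ fun _ : Fin c => B) := by
    intro A B hA hB i i' hAi hBi hi V hV c aV
    rcases hi with rfl | ⟨b, rfl⟩
    · obtain ⟨t⟩ := (PicGrp.cls_mul_cls_eq_one_iff hA hB).1 (by rw [hAi, hBi, ← zpow_add, add_neg_cancel, zpow_zero])
      exact Groth.L24.KrullSchmidt.exists_dual_type (proj p K) hV t aV
    · obtain ⟨P, hP, h⟩ := PicGrp.exists_eq_cls (PicGrp.cls J hJ ^ b)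
      have h1 : PicGrp.cls ((Scheme.Modules.pullback (proj p K)).obj P)
          (PicLoc.isInvertible_pullback (proj p K) hP) * PicGrp.cls A hA = PicGrp.cls B hB := by
        have hb : φ (PicGrp.cls P hP) = PicGrp.cls L hL ^ (b * r : ℤ) := by
          rw [← h, map_zpow, hφJ, ← zpow_natCast, ← zpow_mul, mul_comm]
        rw [← PicGrp.pullHom_cls _ hπ P hP, hb, hAi, hBi, ← zpow_add, add_comm]
      obtain ⟨t⟩ := (PicGrp.cl_eq_cl_iff _ _).1 ((PicGrp.cls_mul_cls_val _ hA).symm.trans (congrArg Subtype.val h1))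
      obtain ⟨o⟩ := Groth.L24.KrullSchmidt.nonempty_tensor_type (proj p K) V P aV t
      exact ⟨_, Groth.L29.DC.isFinLocFree_tensor (Groth.L16.Existence.isFinLocFree_of_isInvertible hP) hV, ⟨o⟩⟩
  refine Nat.dvd_antisymm ?_ ?_
  · obtain ⟨D, hD, ⟨b⟩⟩ := step N' N hN' hN j' j hN'j hNj
      (hj'.imp (fun h => by omega) fun h => ⟨-a, by linarith⟩) W' hW' d' a₂
    exact Groth.L24.KrullSchmidt.dvd_of_type (proj p K) sq hk tN hN hW hWi hD a₁ b
  · obtain ⟨D, hD, ⟨b⟩⟩ := step N N' hN hN' j j' hNj hN'j (hj'.imp id fun h => ⟨a, h⟩) W hW d a₁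
    exact Groth.L24.KrullSchmidt.dvd_of_type (proj p K) sq hk tN' hN' hW' hW'i hD a₂ b

end Groth.Agent.S15409
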