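import Groth.Statements.S15410
import Groth.Agent.L12.PicModQ.Main
import Groth.Agent.S15406
import Groth.Agent.S15407
import Groth.Agent.L05.GeomMult.Basic
import Groth.Agent.L05.GeomMult.Components
-- import your own Groth.Agent.* helpers here

set_option autoImplicit false
universe u
open CategoryTheory CategoryTheory.Limits AlgebraicGeometry
open Models

namespace Groth.Agent.S15410

set_option backward.isDefEq.respectTransparency false
set_option linter.style.haveILetI false
set_option maxHeartbeats 800000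

/-- If `n` elements generate modulo `q`, a map onto `ℤⁿ` has kernel in the multiples of `q`. -/
theorem divisible_of_generators {A : Type*} [AddCommGroup A] {n q : ℕ} [NeZero q]
    (D : A →+ (Fin n → ℤ)) (hD : Function.Surjective D) (P : Fin n → A)
    (hP : ∀ c, ∃ (a : Fin n → ℤ) (d : A), c = ∑ i, a i • P i + q • d) {c : A} (hc : D c = 0) :
    ∃ d, q • d = c ∧ D d = 0 := by
  let f : (Fin n → ZMod q) → (Fin n → ZMod q) := fun x j => ∑ i, x i * ((D (P i) j : ℤ) : ZMod q)
  have key : ∀ (a : Fin n → ℤ) (d : A),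
      (fun j => ((D (∑ i, a i • P i + q • d) j : ℤ) : ZMod q)) = f fun i => (a i : ZMod q) := fun a d => by
    funext j
    simp [f, map_sum, Finset.sum_apply]
  have hsurj : Function.Surjective f := fun y => by
    obtain ⟨c', hc'⟩ := hD fun j => ((y j).val : ℤ)
    obtain ⟨a, d, rfl⟩ := hP c'
    refine ⟨fun i => (a i : ZMod q), ?_⟩
    rw [← key a d, hc']
    funext j
    simp
  have hinj : Function.Injective f := Finite.injective_iff_surjective.2 hsurj
  obtain ⟨a, d, rfl⟩ := hP c
  have h0 : (fun i => (a i : ZMod q)) = 0 := hinj (by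
    rw [← key a d, hc]
    funext j
    simp [f])
  choose b hb using fun i => (ZMod.intCast_zmod_eq_zero_iff_dvd (a i) q).1 (congrFun h0 i)
  refine ⟨∑ i, b i • P i + d, ?_, ?_⟩
  · rw [smul_add, Finset.smul_sum]
    congr 1
    exact Finset.sum_congr rfl fun i _ => by rw [hb i, mul_smul, natCast_zsmul]
  · have h1 : q • D (∑ i, b i • P i + d) = 0 := by
      rw [← map_nsmul, ← hc]
      congr 1
      rw [smul_add, Finset.smul_sum]
      congr 1
      exact Finset.sum_congr rfl fun i _ => by rw [hb i, mul_smul, natCast_zsmul]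
    exact (smul_eq_zero.1 h1).resolve_left (NeZero.ne q)

open Groth.L05.InterPair in
/-- The degrees on the components, on classes. -/
theorem exists_degHom {R : Type u} [CommRing R] [IsDomain R] [IsDiscreteValuationRing R]
    {X : Over (Spec (CommRingCat.of R))} [IsLocallyNoetherian X.left] [IsProper X.hom]
    [PicGrp.Law X.left] {n : ℕ} (Γ : Fin n → ArSurf.VertComp R X) :
    ∃ D : Additive (PicLoc.PicSet X.left) →+ (Fin n → ℤ), ∀ (L : X.left.Modules) (hL : PicF.IsInvertible L),
      D (Additive.ofMul (PicGrp.cls L hL)) = fun j => ArSurf.inter R X L (Γ j) := by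
  choose rep hrep hrepe using fun c : PicLoc.PicSet X.left => PicGrp.exists_eq_cls c
  let deg : PicLoc.PicSet X.left → (Fin n → ℤ) := fun c j => ArSurf.inter R X (rep c) (Γ j)
  have hdeg : ∀ (L : X.left.Modules) (hL : PicF.IsInvertible L),
      deg (PicGrp.cls L hL) = fun j => ArSurf.inter R X L (Γ j) := fun L hL => funext fun j => by
    obtain ⟨e⟩ := (PicGrp.cls_eq_cls_iff hL (hrep _)).1 (hrepe (PicGrp.cls L hL))
    exact inter_congr _ e.symm
  refine ⟨AddMonoidHom.mk' (fun c => deg c.toMul) fun a b => ?_, hdeg⟩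
  show deg (a.toMul * b.toMul) = _
  have hab : a.toMul * b.toMul = PicGrp.cls (CohB1.tensorMod (rep a.toMul) (rep b.toMul))
      (Groth.L18.GenLoc.isInvertible_tensor (hrep _) (hrep _)) :=
    Subtype.ext (by conv_lhs => rw [hrepe a.toMul, hrepe b.toMul, PicGrp.cls_mul_cls_val]
                    rfl)
  rw [hab, hdeg]
  funext j
  exact inter_tensor _ (hrep _) (hrep _)

/-- Let R be a complete discrete valuation ring with algebraically closed residue field k and fraction
field K, C a smooth proper curve over K with H⁰(C, O_C) = K and dim_K H¹(C, O_C) ≥ 2, X → Spec R a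
regular proper model of C with generic fibre g : C → X and closed fibre i : X_k = X ×_R Spec k → X,
Γ₁, …, Γ_n the irreducible components of the closed fibre with multiplicities of greatest common
divisor 1, L_i an invertible O_X-module inverse to the ideal sheaf of Γ_i, and q ≥ 1 an integer
which is nonzero in k. Assume the Picard group laws on X, C and X_k with pullback along g and along
i multiplicative, and let G be ℤⁿ modulo the subgroup spanned by the vectors ((L_i · Γ_j))_j. Then:
(a) every homomorphism ψ from Pic(C) (written additively) to G with ψ(g^*L) equal to the class of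
((L · Γ_j))_j for all invertible L on X maps the classes c with c^q = 1 onto the elements γ of G
with qγ = 0, and a class c with c^q = 1 and ψ(c) = 0 is g^*c' for some class c' on X with c'^q = 1;
(b) restriction along i is a bijection from the classes c' on X with c'^q = 1 onto the classes d on
X_k with d^q = 1. That is, 0 → Pic⁰(X_k)[q] → Pic(C)[q] → G[q] → 0 is exact, the q-torsion of Pic(X)
being identified with that of Pic⁰(X_k) by (b) and with that of Pic⁰(X) (q-torsion classes have
degree 0 on every component). -/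
theorem result
    (R : Type u) [CommRing R] [IsDomain R] [IsDiscreteValuationRing R]
    [IsAdicComplete (IsLocalRing.maximalIdeal R) R] (hk : IsAlgClosed (IsLocalRing.ResidueField R))
    (C : Scheme.{u}) (fC : C ⟶ Spec (CommRingCat.of (FractionRing R))) [IsProper fC] [Smooth fC]
    (hC0 : Models.hRank (FractionRing R) C fC (Coh.structureModule C) 0 = 1)
    (hg2 : 2 ≤ Models.curveGenus (FractionRing R) C fC)
    (X : Scheme.{u}) (p : X ⟶ Spec (CommRingCat.of R)) (hX : Models.IsRegularProperModel R X p C fC)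
    (g : C ⟶ X) (hg : IsPullback g fC p (Spec.map (CommRingCat.ofHom (algebraMap R (FractionRing R)))))
    {n : ℕ} (Γ : Fin n → ArSurf.VertComp R (Over.mk p)) (hΓ : Models.IsComponentList R (Over.mk p) Γ)
    (hgcd : Models.multGcd R (Over.mk p) Γ = 1)
    (LD : Fin n → X.Modules) (hLD : ∀ i, ClSub.IsInverseOf (LD i) (ClSub.idealMod (Γ i).ι.ker))
    (q : ℕ) (hq : 1 ≤ q) (hqk : (q : IsLocalRing.ResidueField R) ≠ 0)
    [PicGrp.Law X] [PicGrp.Law C]
    [PicGrp.Law (pullback p (Spec.map (CommRingCat.ofHom (algebraMap R (IsLocalRing.ResidueField R)))))]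
    (hgm : PicGrp.PullMul g)
    (hi : PicGrp.PullMul (pullback.fst p (Spec.map (CommRingCat.ofHom (algebraMap R (IsLocalRing.ResidueField R)))))) :
    (∀ ψ : Additive (PicLoc.PicSet C) →+
          ((Fin n → ℤ) ⧸ LinearMap.range (Matrix.mulVecLin
            (Matrix.of fun j i => ArSurf.inter R (Over.mk p) (LD i) (Γ j)))),
        (∀ (L : X.Modules) (hL : PicF.IsInvertible L),
            ψ (Additive.ofMul (PicGrp.pullHom g hgm (PicGrp.cls L hL))) =
              Submodule.Quotient.mk (fun j => ArSurf.inter R (Over.mk p) L (Γ j))) →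
          (∀ γ : (Fin n → ℤ) ⧸ LinearMap.range (Matrix.mulVecLin
              (Matrix.of fun j i => ArSurf.inter R (Over.mk p) (LD i) (Γ j))),
            q • γ = 0 → ∃ c : PicLoc.PicSet C, c ^ q = 1 ∧ ψ (Additive.ofMul c) = γ) ∧
          (∀ c : PicLoc.PicSet C, c ^ q = 1 → ψ (Additive.ofMul c) = 0 →
            ∃ c' : PicLoc.PicSet X, c' ^ q = 1 ∧ PicGrp.pullHom g hgm c' = c)) ∧
      (∀ d : PicLoc.PicSet (pullback p (Spec.map (CommRingCat.ofHom (algebraMap R (IsLocalRing.ResidueField R))))),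
        d ^ q = 1 → ∃! c' : PicLoc.PicSet X, c' ^ q = 1 ∧
          PicGrp.pullHom (pullback.fst p (Spec.map (CommRingCat.ofHom (algebraMap R (IsLocalRing.ResidueField R))))) hi c' = d) := by
  haveI := hk
  letI : C.Over (Spec (CommRingCat.of (FractionRing R))) := ⟨fC⟩
  haveI : IsProper (C ↘ Spec (CommRingCat.of (FractionRing R))) := ‹IsProper fC›
  haveI : ConnectedSpace C := Groth.L21.PlaneCurve.connectedSpace_of_h0_eq_one (k := FractionRing R) hC0
  haveI : IsProper p := hX.2.1
  haveI : IsProper (Over.mk p).hom := hX.2.1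
  haveI : IsLocallyNoetherian X := LocallyOfFiniteType.isLocallyNoetherian p
  haveI : IsLocallyNoetherian (Over.mk p).left := LocallyOfFiniteType.isLocallyNoetherian p
  haveI : Flat (Over.mk p).hom := hX.1.1
  obtain ⟨c₀⟩ := (inferInstance : Nonempty C)
  obtain ⟨x₀, -, hx₀⟩ : ∃ x, g c₀ ⤳ x ∧ p x = IsLocalRing.closedPoint R := by
    have h1 : IsLocalRing.closedPoint R ∈ p '' closure {g c₀} :=
      (IsLocalRing.specializes_closedPoint (p (g c₀))).mem_closed
        (p.isClosedMap _ isClosed_closure) ⟨g c₀, subset_closure rfl, rfl⟩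
    obtain ⟨x, hx, hpx⟩ := h1
    exact ⟨x, specializes_iff_mem_closure.2 hx, hpx⟩
  obtain ⟨i₀, -⟩ := Groth.L05.FibreDecomp.exists_component hΓ (x := x₀) hx₀
  obtain ⟨hC, -⟩ := Groth.L05.Models.CurveFacts.isCurve R C fC hC0 X p hX Γ hΓ i₀
  obtain ⟨hint, -, hdim, -⟩ := Groth.L05.MinModel.surface hC hX
  haveI : IsIntegral X := hint
  haveI : IsIntegral (Over.mk p).left := hint
  haveI : IsIntegral C := hC.2.2.1
  haveI : HenselianLocalRing R :=
    { is_henselian := fun f hf a₀ h₁ h₂ =>
        HenselianRing.is_henselian (I := IsLocalRing.maximalIdeal R) f hf a₀ h₁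
          (h₂.map (Ideal.Quotient.mk (IsLocalRing.maximalIdeal R))) }
  letI : PicGrp.Law (Over.mk p).left := ‹PicGrp.Law X›
  obtain ⟨hsurj, hdiv⟩ := Groth.Agent.S15407.result R hk C fC hC0 hg2 hC.2.2.2 X p hX q hq hqk hi
  obtain ⟨hinj, ψ₀, hψ₀, hψ₀s, hψ₀k⟩ :=
    Groth.Agent.S15406.result R hk C fC hC0 hg2 X p hX g hg Γ hΓ hgcd LD hLD hgm
  haveI : NeZero q := ⟨by omega⟩
  -- the closed fibre
  let ι₀ := Spec.map (CommRingCat.ofHom (algebraMap R (IsLocalRing.ResidueField R)))
  haveI : IsClosedImmersion ι₀ := IsClosedImmersion.spec_of_surjective _ IsLocalRing.residue_surjective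
  letI : (pullback p ι₀).Over (Spec (CommRingCat.of (IsLocalRing.ResidueField R))) := ⟨pullback.snd p ι₀⟩
  haveI : IsProper (pullback p ι₀ ↘ Spec (CommRingCat.of (IsLocalRing.ResidueField R))) :=
    inferInstanceAs (IsProper (pullback.snd p ι₀))
  have hrange : Set.range (pullback.fst p ι₀) = Models.specialFibreSet R (Over.mk p) :=
    Groth.L05.GeomMult.range_fst_eq (X := Over.mk p)
  have hdk : topologicalKrullDim ↥(pullback p ι₀) ≤ 1 := by
    rw [IsHomeomorph.topologicalKrullDim_eq _
      (pullback.fst p ι₀).isClosedEmbedding.isEmbedding.toHomeomorph.isHomeomorph]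
    refine Groth.L05.GeomMult.dim_le_one_of_proper_closed hdim
      (pullback.fst p ι₀).isClosedEmbedding.isClosed_range fun h => ?_
    have h1 : g (genericPoint C) ∈ Set.range (pullback.fst p ι₀) := h ▸ Set.mem_univ _
    rw [hrange] at h1
    have h2 : p (g (genericPoint C)) = IsLocalRing.closedPoint R := h1
    rw [← Scheme.Hom.comp_apply, hg.w, Scheme.Hom.comp_apply] at h2
    obtain ⟨ϖ, hϖ⟩ := IsDiscreteValuationRing.exists_irreducible R
    have h3 : ϖ ∈ (IsLocalRing.closedPoint R).asIdeal := (IsLocalRing.mem_maximalIdeal _).2 hϖ.not_isUnit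
    rw [← h2] at h3
    change algebraMap R (FractionRing R) ϖ ∈ (fC (genericPoint C)).asIdeal at h3
    exact (fC (genericPoint C)).2.ne_top (Ideal.eq_top_of_isUnit_mem _ h3
      (IsUnit.mk0 _ fun h0 => hϖ.ne_zero ((IsFractionRing.to_map_eq_zero_iff).1 h0)))
  let jj : ∀ i, (Γ i).curve.left ⟶ pullback p ι₀ := fun i => pullback.lift (Γ i).ι (Γ i).curve.hom (Γ i).w
  have hjf : ∀ i, jj i ≫ pullback.fst p ι₀ = (Γ i).ι := fun i => pullback.lift_fst _ _ _
  have hjc : ∀ i w, pullback.fst p ι₀ (jj i w) = (Γ i).ι w := fun i w => by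
    exact (Scheme.Hom.comp_apply _ _ _).symm.trans (congrArg (fun φ : (Γ i).curve.left ⟶ X => φ w) (hjf i))
  haveI : ∀ i, IsClosedImmersion (jj i) := fun i => by
    haveI : IsClosedImmersion (jj i ≫ pullback.fst p ι₀) := (hjf i).symm ▸ (Γ i).isClosedImmersion
    exact IsClosedImmersion.of_comp (jj i) (pullback.fst p ι₀)
  have hcov : ∀ z : ↥(pullback p ι₀), ∃ i, z ∈ Set.range (jj i) := fun z => by
    obtain ⟨i, w, hw⟩ := Groth.L05.FibreDecomp.exists_component hΓ (x := pullback.fst p ι₀ z)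
      (hrange.le ⟨z, rfl⟩)
    exact ⟨i, w, (pullback.fst p ι₀).isClosedEmbedding.injective ((hjc i w).trans hw)⟩
  have hne : ∀ i l, i ≠ l → jj i (genericPoint (Γ i).curve.left) ∉ Set.range (jj l) := fun i l hil ⟨w, hw⟩ => by
    refine hil (Groth.L05.FibreDecomp.eq_of_genPtOf_mem hΓ ?_)
    rw [Groth.L05.FibreDecomp.support_ker]
    exact ⟨w, ((hjc l w).symm.trans (congrArg (pullback.fst p ι₀) hw)).trans (hjc i _)⟩
  obtain ⟨P, hP⟩ := Groth.L12.PicModQ.exists_generators (IsLocalRing.ResidueField R) hdk jj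
    (fun i => (Γ i).dim_eq) hcov hne hqk
  set ρ := PicGrp.pullHom (pullback.fst p ι₀) hi with hρ
  choose Pt hPt using fun i => hsurj (P i)
  -- generators of `Pic X` modulo `q`
  have hgen : ∀ c : Additive (PicLoc.PicSet X), ∃ (a : Fin n → ℤ) (d : Additive (PicLoc.PicSet X)),
      c = ∑ i, a i • Additive.ofMul (Pt i) + q • d := fun c => by
    obtain ⟨a, d₀, hd₀⟩ := hP (ρ c.toMul)
    obtain ⟨d₁, hd₁⟩ := hsurj d₀
    have hker : c.toMul / ((∏ i, Pt i ^ a i) * d₁ ^ q) ∈ ρ.ker := by
      rw [MonoidHom.mem_ker, map_div, map_mul, map_pow, map_prod]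
      simp only [map_zpow]
      rw [show ρ d₁ = d₀ from hd₁, Finset.prod_congr rfl fun i _ => by rw [show ρ (Pt i) = P i from hPt i],
        ← hd₀, div_self']
    obtain ⟨e, ⟨-, he⟩, -⟩ := hdiv _ hker
    refine ⟨a, Additive.ofMul (d₁ * e), ?_⟩
    have h1 : c.toMul = (∏ i, Pt i ^ a i) * (d₁ * e) ^ q := by
      rw [mul_pow, he, ← mul_assoc, mul_div_cancel]
    exact (congrArg Additive.ofMul h1).trans (by simp [ofMul_prod])
  obtain ⟨D, hD⟩ := exists_degHom (X := Over.mk p) Γ
  have hDs : Function.Surjective D := fun v => by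
    choose M hM hMd using Groth.L05.Models.UnitDivisor.exists_inter_eq_ite (Over.mk p) hdim Γ hΓ
    refine ⟨∑ i, v i • Additive.ofMul (PicGrp.cls (M i) (hM i)), ?_⟩
    rw [map_sum]
    funext j
    have h1 : ∀ i, D (Additive.ofMul (PicGrp.cls (M i) (hM i))) j = if j = i then 1 else 0 :=
      fun i => (congrFun (hD _ (hM i)) j).trans (hMd i j)
    simp only [map_zsmul, Finset.sum_apply, Pi.smul_apply, smul_eq_mul]
    rw [Finset.sum_congr rfl fun i _ => congrArg (v i * ·) (h1 i)]
    simp
  have hdeg0 : ∀ c, D c = 0 → ∃ d, q • d = c ∧ D d = 0 := fun c hc => divisible_of_generators D hDs _ hgen hc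
  have hinj' : ∀ c : PicLoc.PicSet X, D (Additive.ofMul c) = 0 → PicGrp.pullHom g hgm c = 1 → c = 1 :=
    fun c h0 h1 => by
      obtain ⟨L, hL, rfl⟩ := PicGrp.exists_eq_cls c
      exact hinj L hL (fun j => (congrFun (hD L hL) j).symm.trans (congrFun h0 j)) h1
  refine ⟨fun ψ hψ => ?_, fun d hd => ?_⟩
  · have hψD : ∀ c : PicLoc.PicSet X, ψ (Additive.ofMul (PicGrp.pullHom g hgm c)) =
        Submodule.Quotient.mk (D (Additive.ofMul c)) := fun c => by
      obtain ⟨L, hL, rfl⟩ := PicGrp.exists_eq_cls c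
      exact (hψ L hL).trans (congrArg _ (hD L hL).symm)
    have hlift : ∀ c : PicLoc.PicSet C, ∃ c' : PicLoc.PicSet X, PicGrp.pullHom g hgm c' = c := fun c => by
      obtain ⟨N, hN, rfl⟩ := PicGrp.exists_eq_cls c
      haveI : IsOpenImmersion g := Groth.L05.MinModel.isOpenImmersion_model hg
      obtain ⟨L', hL', ⟨e⟩⟩ := Groth.L21.Extend.exists_invertible_extension g.opensRange
        ((Scheme.Modules.pullback g.isoOpensRange.inv).obj N) (PicLoc.isInvertible_pullback _ hN) fun x _ => by
          haveI := hX.2.2 x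
          exact Groth.L10.RegUFD.isUFD (X.presheaf.stalk x)
      refine ⟨PicGrp.cls L' hL', ?_⟩
      rw [PicGrp.pullHom_cls, PicGrp.cls_eq_cls_iff]
      exact ⟨(Scheme.Modules.pullbackCongr g.isoOpensRange_hom_ι.symm).app L' ≪≫
        ((Scheme.Modules.pullbackComp g.isoOpensRange.hom g.opensRange.ι).app L').symm ≪≫
        (Scheme.Modules.pullback g.isoOpensRange.hom).mapIso
          (((Scheme.Modules.restrictFunctorIsoPullback g.opensRange.ι).app L').symm ≪≫ e) ≪≫
        (Scheme.Modules.pullbackComp g.isoOpensRange.hom g.isoOpensRange.inv).app N ≪≫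
        (Scheme.Modules.pullbackCongr g.isoOpensRange.hom_inv_id).app N ≪≫
        (Scheme.Modules.pullbackId C).app N⟩
    have hψψ₀ : ∀ c, ψ c = ψ₀ c := fun c => by
      obtain ⟨c', hc'⟩ := hlift c.toMul
      obtain ⟨L, hL, rfl⟩ := PicGrp.exists_eq_cls c'
      rw [show c = Additive.ofMul (PicGrp.pullHom g hgm (PicGrp.cls L hL)) from congrArg Additive.ofMul hc'.symm]
      exact (hψ L hL).trans (hψ₀ L hL).symm
    refine ⟨fun γ hγ => ?_, fun c hc h0 => ?_⟩
    · obtain ⟨c₁, hc₁⟩ := hψ₀s γ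
      obtain ⟨L, hL, hL0, hLc⟩ := hψ₀k (c₁.toMul ^ q) (by rw [ofMul_pow, ofMul_toMul, map_nsmul, hc₁, hγ])
      obtain ⟨m, hm, hm0⟩ := hdeg0 (Additive.ofMul (PicGrp.cls L hL)) ((hD L hL).trans (funext hL0))
      refine ⟨c₁.toMul / PicGrp.pullHom g hgm m.toMul, ?_, ?_⟩
      · rw [div_pow, ← hLc, ← map_pow, show m.toMul ^ q = PicGrp.cls L hL from congrArg Additive.toMul hm,
          div_self']
      · rw [ofMul_div, map_sub, ofMul_toMul, hψψ₀, hc₁, hψD, ofMul_toMul, hm0, Submodule.Quotient.mk_zero,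
          sub_zero]
    · obtain ⟨L, hL, hL0, hLc⟩ := hψ₀k c (by rw [← hψψ₀]; exact h0)
      refine ⟨PicGrp.cls L hL, hinj' _ ?_ ?_, hLc⟩
      · rw [ofMul_pow, map_nsmul, (hD L hL).trans (funext hL0)]
        exact smul_zero q
      · rw [map_pow, hLc, hc]
  · obtain ⟨e, he⟩ := hsurj d
    obtain ⟨f, ⟨hf, hfq⟩, -⟩ := hdiv (e ^ q) (by rw [MonoidHom.mem_ker, map_pow, he]; exact hd)
    rw [MonoidHom.mem_ker] at hf
    refine ⟨e / f, ⟨by rw [div_pow, hfq, div_self'], by rw [map_div, he, hf, div_one]⟩, ?_⟩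
    rintro c' ⟨hc'q, hc'd⟩
    obtain ⟨r, -, hr⟩ := hdiv 1 (one_mem _)
    have h1 : c' / (e / f) = r := hr _ ⟨by
      rw [MonoidHom.mem_ker, map_div, map_div, he, hf, div_one, hc'd, div_self'],
      by rw [div_pow, hc'q, div_pow, hfq, div_self', div_one]⟩
    exact div_eq_one.1 (h1.trans (hr 1 ⟨one_mem _, one_pow _⟩).symm)

end Groth.Agent.S15410
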