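import Groth.Statements.S15411
import Mathlib.RingTheory.Flat.FaithfullyFlat.Basic
import Mathlib.RingTheory.Bialgebra.TensorProduct
import Mathlib.RingTheory.Bialgebra.Equiv
import Mathlib.RingTheory.TensorProduct.Free
import Mathlib.LinearAlgebra.Basis.VectorSpace
import Mathlib.RingTheory.Flat.Basic
-- import your own Groth.Agent.* helpers here

set_option autoImplicit false
set_option backward.isDefEq.respectTransparency.types false
set_option linter.style.haveILetI false
universe u
open scoped TensorProduct
open Hopf

namespace Groth.Agent.S15411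

/-- Let K be a field and let finitely many commutative K-algebras be given in two layers, K_i for each
vertex i and K_k for each edge k, with K-algebra maps from K_{l k} and from K_{r k} into K_k for
every edge k, such that K is the equalizer of the system: every family (x_i) whose two images in K_k
agree for every k comes from exactly one element of K. Let A and B be commutative K-bialgebras
(coordinate rings of affine group or monoid schemes over K) and let u_i : K_i ⊗ B ≅ K_i ⊗ A be
isomorphisms of K_i-bialgebras such that, for every edge k, the base changes of u_{l k} and u_{r k}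
to K_k agree. Then there is exactly one isomorphism of K-bialgebras v : B ≅ A inducing every u_i,
that is with u_i (1 ⊗ b) = 1 ⊗ v b. (The published statement is for the system obtained from a
finite inverse factorization system of fields by base change to a finite separable extension K, and
for linear algebraic groups; this row keeps from that setting only what the argument uses: K is a
field and is the equalizer of the finite system, and the group schemes are affine.) -/
theorem result
    (K : Type u) [Field K] (ιv ιe : Type u) [Finite ιv] [Finite ιe]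
    (Kv : ιv → Type u) [∀ i, CommRing (Kv i)] [∀ i, Algebra K (Kv i)]
    (Ke : ιe → Type u) [∀ k, CommRing (Ke k)] [∀ k, Algebra K (Ke k)]
    (l r : ιe → ιv) (ρl : ∀ k, Kv (l k) →ₐ[K] Ke k) (ρr : ∀ k, Kv (r k) →ₐ[K] Ke k)
    (hlim : ∀ x : (∀ i, Kv i), (∀ k, ρl k (x (l k)) = ρr k (x (r k))) →
      ∃! a : K, ∀ i, algebraMap K (Kv i) a = x i)
    (A B : Type u) [CommRing A] [CommRing B] [Bialgebra K A] [Bialgebra K B]
    (u : ∀ i, (Kv i ⊗[K] B) ≃ₐc[Kv i] (Kv i ⊗[K] A))
    (hu : ∀ (k : ιe) (b : B),
      Algebra.TensorProduct.map (ρl k) (AlgHom.id K A) (u (l k) (1 ⊗ₜ[K] b)) =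
        Algebra.TensorProduct.map (ρr k) (AlgHom.id K A) (u (r k) (1 ⊗ₜ[K] b))) :
    ∃! v : B ≃ₐc[K] A, ∀ (i : ιv) (b : B), u i (1 ⊗ₜ[K] b) = 1 ⊗ₜ[K] v b := by
  classical
  -- every family descends
  have hdesc : ∀ b : B, ∃ a : A, ∀ i, u i (1 ⊗ₜ[K] b) = 1 ⊗ₜ[K] a := by
    intro b
    let bA := Module.Free.chooseBasis K A
    let bv := fun i => Algebra.TensorProduct.basis (Kv i) bA
    have hco : ∀ j, ∃! a : K, ∀ i, algebraMap K (Kv i) a = (bv i).repr (u i (1 ⊗ₜ[K] b)) j := by
      intro j
      refine hlim _ fun e => ?_
      have hnat : ∀ (i : ιv) (ρ : Kv i →ₐ[K] Ke e) (z : Kv i ⊗[K] A),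
          (Algebra.TensorProduct.basis (Ke e) bA).repr (Algebra.TensorProduct.map ρ (AlgHom.id K A) z) j =
            ρ ((bv i).repr z j) := by
        intro i ρ z
        induction z with
        | zero => simp
        | add x y hx hy => simp only [map_add, Finsupp.add_apply, hx, hy]
        | tmul c a => simp [bv, Algebra.smul_def, map_mul]
      rw [← hnat, ← hnat, hu]
    choose co hco' using fun j => (hco j).exists
    haveI : Fintype ιv := Fintype.ofFinite ιv
    let s := Finset.univ.biUnion fun i => ((bv i).repr (u i (1 ⊗ₜ[K] b))).support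
    refine ⟨∑ j ∈ s, co j • bA j, fun i => (bv i).repr.injective (Finsupp.ext fun j => ?_)⟩
    rw [TensorProduct.tmul_sum, map_sum, Finsupp.finset_sum_apply]
    simp only [bv, Algebra.TensorProduct.basis_repr_tmul, map_smul, Finsupp.smul_apply, one_mul,
      Module.Basis.repr_self, Finsupp.single_apply, one_smul, Finsupp.mapRange_apply]
    simp only [apply_ite, smul_eq_mul, mul_one, mul_zero, map_zero, Finset.sum_ite_eq']
    split_ifs with hj
    · exact (hco' j i).symm
    · by_contra hne
      exact hj (Finset.mem_biUnion.2 ⟨i, Finset.mem_univ i, Finsupp.mem_support_iff.2 hne⟩)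
  obtain ⟨i0, hi0⟩ : ∃ i, Nontrivial (Kv i) := by
    by_contra hne
    push Not at hne
    haveI : ∀ i, Subsingleton (Kv i) := hne
    obtain ⟨a, -, ha⟩ := hlim (fun i => 0) (fun e => by rw [map_zero, map_zero])
    exact zero_ne_one ((ha 0 fun i => Subsingleton.elim _ _).trans (ha 1 fun i => Subsingleton.elim _ _).symm)
  let K0 := Kv i0
  have hinj : ∀ {M : Type u} [AddCommGroup M] [Module K M], Function.Injective fun m : M => (1 : K0) ⊗ₜ[K] m := by
    intro M _ _ x y hxy
    have h : Function.Injective ((TensorProduct.mk K K0 M) 1) := by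
      have hs := (Algebra.linearMap K K0).rTensor M
      have h1 : Function.Injective ((Algebra.linearMap K K0).rTensor M) :=
        Module.Flat.rTensor_preserves_injective_linearMap _ (algebraMap K K0).injective
      intro a b hab
      have : (Algebra.linearMap K K0).rTensor M ((TensorProduct.lid K M).symm a) =
          (Algebra.linearMap K K0).rTensor M ((TensorProduct.lid K M).symm b) := by
        simpa using hab
      exact (TensorProduct.lid K M).symm.injective (h1 this)
    exact h hxy
  choose f hf using hdesc
  let v0 : B →ₗ[K] A :=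
    { toFun := f
      map_add' := fun x y => hinj (by
        show (1 : K0) ⊗ₜ[K] f (x + y) = (1 : K0) ⊗ₜ[K] (f x + f y)
        rw [← hf, TensorProduct.tmul_add, TensorProduct.tmul_add, map_add, hf, hf])
      map_smul' := fun c x => hinj (by
        show (1 : K0) ⊗ₜ[K] f (c • x) = (1 : K0) ⊗ₜ[K] (c • f x)
        rw [← hf, TensorProduct.tmul_smul, TensorProduct.tmul_smul, ← hf,
          ← IsScalarTower.algebraMap_smul K0 c ((1 : K0) ⊗ₜ[K] x), map_smul, IsScalarTower.algebraMap_smul]) }
  have hv0 : ∀ z : K0 ⊗[K] B, v0.lTensor K0 z = u i0 z := by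
    intro z
    induction z with
    | zero => simp
    | add x y hx hy => simp only [map_add, hx, hy]
    | tmul c x =>
      show c ⊗ₜ[K] f x = _
      calc c ⊗ₜ[K] f x = c • ((1 : K0) ⊗ₜ[K] f x) := by rw [TensorProduct.smul_tmul', smul_eq_mul, mul_one]
        _ = c • u i0 (1 ⊗ₜ[K] x) := by rw [hf]
        _ = u i0 (c • (1 ⊗ₜ[K] x)) := (map_smul _ _ _).symm
        _ = u i0 (c ⊗ₜ[K] x) := by rw [TensorProduct.smul_tmul', smul_eq_mul, mul_one]
  have hbij : Function.Bijective v0 := by
    refine (Module.FaithfullyFlat.lTensor_bijective_iff_bijective K K0 v0).1 ?_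
    rw [show ⇑(v0.lTensor K0) = ⇑(u i0) from funext hv0]
    exact (u i0).bijective
  let v1 : B →ₐ[K] A := AlgHom.ofLinearMap v0
    (hinj (by show (1 : K0) ⊗ₜ[K] f 1 = (1 : K0) ⊗ₜ[K] (1 : A); rw [← hf]; exact map_one (u i0)))
    (fun x y => hinj (by
      show (1 : K0) ⊗ₜ[K] f (x * y) = (1 : K0) ⊗ₜ[K] (f x * f y)
      conv_rhs => rw [← _root_.mul_one (1 : K0), ← Algebra.TensorProduct.tmul_mul_tmul, ← hf, ← hf, ← map_mul,
        Algebra.TensorProduct.tmul_mul_tmul, _root_.mul_one]
      rw [hf]))
  let v : B →ₐc[K] A := BialgHom.ofAlgHom v1 (AlgHom.ext fun x => by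
      refine (algebraMap K K0).injective ?_
      show algebraMap K K0 (Coalgebra.counit (f x)) = algebraMap K K0 (Coalgebra.counit x)
      have h := CoalgHomClass.counit_comp_apply (u i0) ((1 : K0) ⊗ₜ[K] x)
      rw [hf, TensorProduct.counit_tmul, TensorProduct.counit_tmul, Bialgebra.counit_one] at h
      simpa [Algebra.smul_def] using h)
    (AlgHom.ext fun x => by
      let J : ∀ (M : Type u) [AddCommGroup M] [Module K M], M ⊗[K] M → (K0 ⊗[K] M) ⊗[K0] (K0 ⊗[K] M) :=
        fun M _ _ w => TensorProduct.AlgebraTensorModule.tensorTensorTensorComm K K0 K K0 K0 K0 M M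
          (((1 : K0) ⊗ₜ[K0] (1 : K0)) ⊗ₜ[K] w)
      have hJ : Function.Injective (J A) := by
        intro a b hab
        have h1 := (TensorProduct.AlgebraTensorModule.tensorTensorTensorComm K K0 K K0 K0 K0 A A).injective hab
        have h2 := congrArg ((TensorProduct.lid K0 K0).toLinearMap.restrictScalars K |>.rTensor (A ⊗[K] A)) h1
        simp only [LinearMap.rTensor_tmul, LinearMap.coe_restrictScalars, LinearEquiv.coe_coe,
          TensorProduct.lid_tmul, one_smul] at h2
        exact hinj h2
      refine hJ ?_
      show J A (TensorProduct.map v0 v0 (Coalgebra.comul x)) = J A (Coalgebra.comul (f x))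
      have h1 : Coalgebra.comul (R := K0) ((1 : K0) ⊗ₜ[K] f x) = J A (Coalgebra.comul (f x)) := by
        rw [TensorProduct.comul_tmul, Bialgebra.comul_one]
        rfl
      have h2 : Coalgebra.comul (R := K0) ((1 : K0) ⊗ₜ[K] x) = J B (Coalgebra.comul x) := by
        rw [TensorProduct.comul_tmul, Bialgebra.comul_one]
        rfl
      rw [← h1, ← hf, ← CoalgHomClass.map_comp_comul_apply, h2]
      induction Coalgebra.comul (R := K) x with
      | zero => simp [J]
      | add p q hp hq => simp only [J, TensorProduct.tmul_add, map_add] at hp hq ⊢; rw [hp, hq]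
      | tmul p q =>
        simp only [J, TensorProduct.map_tmul, TensorProduct.AlgebraTensorModule.tensorTensorTensorComm_tmul]
        exact congrArg₂ (· ⊗ₜ[K0] ·) (hf p i0).symm (hf q i0).symm)
  refine ⟨BialgEquiv.ofBijective v hbij, fun i b => hf b i, fun w hw => ?_⟩
  exact BialgEquiv.ext fun x => hinj ((hw i0 x).symm.trans (hf x i0))

end Groth.Agent.S15411
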