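import Groth.Statements.S15412
import Groth.Prelude.Def_W4c2gerbepatchBitors
import Groth.Prelude.Def_W4c6defoisocp1TwistExt
import Mathlib.CategoryTheory.Monoidal.Rigid.Basic
import Mathlib.CategoryTheory.Monoidal.Preadditive
import Mathlib.CategoryTheory.Idempotents.Basic
import Mathlib.CategoryTheory.Preadditive.Biproducts
import Mathlib.CategoryTheory.Sites.CoversTop.Basic
import Mathlib.LinearAlgebra.FiniteDimensional.Lemmas
import Mathlib.GroupTheory.Index
import Mathlib.RingTheory.Nilpotent.Exp
import Mathlib.RingTheory.Nilpotent.Lemmas
import Mathlib.Algebra.Algebra.Bilinear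
import Mathlib.Algebra.Ring.GeomSum
import Mathlib.RingTheory.Polynomial.Cyclotomic.Eval
import Mathlib.RingTheory.RootsOfUnity.CyclotomicUnits

set_option autoImplicit false
universe w v u
open CategoryTheory Opposite
open Bitors

namespace Groth.Agent.S15412
open CategoryTheory CategoryTheory.Limits MonoidalCategory Opposite

/-- On a site, let G and H be sheaves of groups and P a sheaf of sets with a left G-action which is
simply transitive on every set of sections P(U). The right H-actions on P that are compatible with
restriction, commute with the G-action and are simply transitive on every P(U) (for P a G-torsor: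
the structures of (G, H)-bitorsor on P) correspond exactly to the families of group isomorphisms φ_p
: H(U) ≃ G(U), one for each section p of P over each U, compatible with restriction and with φ_{g·p}
= g φ_p g⁻¹ (the equivariant maps from P to the sheaf of isomorphisms from H to G); the
correspondence is the rule p · h = φ_p(h) · p, and the statement is that every right structure
arises by this rule from exactly one family and every family from exactly one right structure. (The
published statement takes P a left G-torsor; only the simple transitivity of the G-action on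
sections enters, so local existence of sections is not assumed.) -/
theorem result
    {C : Type u} [Category.{v} C] {J : GrothendieckTopology C}
    (G H : Sheaf J GrpCat.{w}) (P : NonAbH1.GSheaf G) (hP : P.IsPseudoTorsor) :
    (∀ ρ : Bitors.RightStr P H, ∃! φ : Bitors.IsomFamily P H,
        ∀ (U : Cᵒᵖ) (p : P.P.obj.obj U) (h : H.obj.obj U), ρ.rsmul p h = P.smul (φ.φ p h) p) ∧
    (∀ φ : Bitors.IsomFamily P H, ∃! ρ : Bitors.RightStr P H,
        ∀ (U : Cᵒᵖ) (p : P.P.obj.obj U) (h : H.obj.obj U), ρ.rsmul p h = P.smul (φ.φ p h) p) := by
  have free : ∀ {U : Cᵒᵖ} (p : P.P.obj.obj U) (g g' : G.obj.obj U), P.smul g p = P.smul g' p → g = g' :=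
    fun p g g' e => (hP _ p (P.smul g' p)).unique e rfl
  constructor
  · intro ρ
    choose f hf using fun (U : Cᵒᵖ) (p : P.P.obj.obj U) (h : H.obj.obj U) => (hP U p (ρ.rsmul p h)).exists
    have bij : ∀ (U : Cᵒᵖ) (p : P.P.obj.obj U), Function.Bijective (f U p) := fun U p =>
      ⟨fun h h' e => (ρ.existsUnique_rsmul p (ρ.rsmul p h')).unique (by rw [← hf U p h, e, hf U p h']) rfl,
       fun g => by
        obtain ⟨h, hh, -⟩ := ρ.existsUnique_rsmul p (P.smul g p)
        exact ⟨h, free p _ _ ((hf U p h).trans hh)⟩⟩
    have hmul : ∀ (U : Cᵒᵖ) (p : P.P.obj.obj U) (a b : H.obj.obj U), f U p (a * b) = f U p a * f U p b :=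
      fun U p a b => free p _ _ (by rw [hf, ρ.rsmul_mul, P.mul_smul, hf, ← ρ.smul_rsmul, hf])
    refine ⟨{ φ := fun {U} p => MulEquiv.mk (Equiv.ofBijective _ (bij U p)) (hmul U p)
              map_φ := fun {U V} a p h => free (P.P.obj.map a p) _ _ ?_
              φ_smul := fun {U} g p h => free (P.smul g p) _ _ ?_ }, fun U p h => (hf U p h).symm, ?_⟩
    · show P.smul (G.obj.map a (f U p h)) _ = P.smul (f V _ _) _
      rw [hf, ← P.map_smul, hf, ρ.map_rsmul]
    · show P.smul (f U _ h) _ = P.smul (g * f U p h * g⁻¹) _
      rw [hf, ← P.mul_smul, inv_mul_cancel_right, P.mul_smul, hf, ρ.smul_rsmul]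
    · intro φ' hφ'
      cases φ' with
      | mk φ _ _ =>
        congr 1
        funext U p
        ext h
        exact free p _ _ ((hφ' U p h).symm.trans (hf U p h).symm)
  · intro φ
    refine ⟨{ rsmul := fun {U} p h => P.smul (φ.φ p h) p
              rsmul_one := fun p => by rw [map_one, P.one_smul]
              rsmul_mul := fun p h h' => by rw [← P.mul_smul, φ.φ_smul, inv_mul_cancel_right, map_mul]
              map_rsmul := fun a p h => by rw [P.map_smul, φ.map_φ]
              smul_rsmul := fun g p h => by rw [φ.φ_smul, ← P.mul_smul, ← P.mul_smul, inv_mul_cancel_right]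
              existsUnique_rsmul := fun {U} p q => ?_ }, fun U p h => rfl, ?_⟩
    · obtain ⟨g, hg, hu⟩ := hP U p q
      exact ⟨(φ.φ p).symm g, by simp [hg], fun h hh => by rw [← hu _ hh, MulEquiv.symm_apply_apply]⟩
    · intro ρ' hρ'
      cases ρ' with
      | mk r _ _ _ _ _ =>
        congr 1
        funext U p h
        exact hρ' U p h

end Groth.Agent.S15412
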