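import Groth.Statements.S15413
import Groth.Prelude.Def_W4c2gerbepatchBitors
import Groth.Prelude.Def_W4c6defoisocp1TwistExt
import Mathlib.CategoryTheory.Monoidal.Rigid.Basic
import Mathlib.CategoryTheory.Monoidal.Preadditive
import Mathlib.CategoryTheory.Idempotents.Basic
import Mathlib.CategoryTheory.Preadditive.Biproducts
import Mathlib.CategoryTheory.Sites.CoversTop.Basic
import Mathlib.LinearAlgebra.FiniteDimensional.Lemmas
import Mathlib.GroupTheory.Index
import Mathlib.RingTheory.Nilpotent.Exp
import Mathlib.RingTheory.Nilpotent.Lemmas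
import Mathlib.Algebra.Algebra.Bilinear
import Mathlib.Algebra.Ring.GeomSum
import Mathlib.RingTheory.Polynomial.Cyclotomic.Eval
import Mathlib.RingTheory.RootsOfUnity.CyclotomicUnits

set_option autoImplicit false
universe w v u
open CategoryTheory Opposite
open Bitors

namespace Groth.Agent.S15413
open CategoryTheory CategoryTheory.Limits MonoidalCategory Opposite

/-- On a site, let G and H be sheaves of groups and P, P' sheaves of sets with left G-actions, the
action on P' being simply transitive on every set of sections; let P and P' carry right H-actions ρ,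
ρ' (compatible with restriction, commuting with G, simply transitive section-wise) that are given by
families of group isomorphisms φ, φ' through p · h = φ_p(h) · p and p' · h = φ'_{p'}(h) · p'. Then a
G-equivariant morphism of sheaves f : P → P' commutes with the right H-actions (is a morphism of
bitorsors) if and only if φ_p = φ'_{f(p)} for every section p of P. (The published statement takes P
and P' to be (G, H)-bitorsors; only the simple transitivity of the G-action on the sections of P'
enters.) -/
theorem result
    {C : Type u} [Category.{v} C] {J : GrothendieckTopology C}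
    (G H : Sheaf J GrpCat.{w}) (P P' : NonAbH1.GSheaf G) (hP' : P'.IsPseudoTorsor)
    (ρ : Bitors.RightStr P H) (ρ' : Bitors.RightStr P' H)
    (φ : Bitors.IsomFamily P H) (φ' : Bitors.IsomFamily P' H)
    (hρ : ∀ (U : Cᵒᵖ) (p : P.P.obj.obj U) (h : H.obj.obj U), ρ.rsmul p h = P.smul (φ.φ p h) p)
    (hρ' : ∀ (U : Cᵒᵖ) (p : P'.P.obj.obj U) (h : H.obj.obj U), ρ'.rsmul p h = P'.smul (φ'.φ p h) p)
    (f : P ⟶ P') :
    (∀ (U : Cᵒᵖ) (p : P.P.obj.obj U) (h : H.obj.obj U),
        f.hom.hom.app U (ρ.rsmul p h) = ρ'.rsmul (f.hom.hom.app U p) h) ↔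
      ∀ (U : Cᵒᵖ) (p : P.P.obj.obj U) (h : H.obj.obj U),
        φ.φ p h = φ'.φ (f.hom.hom.app U p) h := by
  simp only [hρ, hρ', f.map_smul]
  exact ⟨fun e U p h => (hP' U _ _).unique (e U p h) rfl, fun e U p h => by rw [e]⟩

end Groth.Agent.S15413
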