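import Groth.Statements.S15414
import Groth.Prelude.Def_W4c2gerbepatchBitors
import Groth.Prelude.Def_W4c6defoisocp1TwistExt
import Mathlib.CategoryTheory.Monoidal.Rigid.Basic
import Mathlib.CategoryTheory.Monoidal.Preadditive
import Mathlib.CategoryTheory.Idempotents.Basic
import Mathlib.CategoryTheory.Preadditive.Biproducts
import Mathlib.CategoryTheory.Sites.CoversTop.Basic
import Mathlib.LinearAlgebra.FiniteDimensional.Lemmas
import Mathlib.GroupTheory.Index
import Mathlib.RingTheory.Nilpotent.Exp
import Mathlib.RingTheory.Nilpotent.Lemmas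
import Mathlib.Algebra.Algebra.Bilinear
import Mathlib.Algebra.Ring.GeomSum
import Mathlib.RingTheory.Polynomial.Cyclotomic.Eval
import Mathlib.RingTheory.RootsOfUnity.CyclotomicUnits
import Groth.Agent.S15413

set_option autoImplicit false
universe w v u
open CategoryTheory Opposite
open Bitors

namespace Groth.Agent.S15414
open CategoryTheory CategoryTheory.Limits MonoidalCategory Opposite

/-- On a site, let G and H be sheaves of groups and P, P' sheaves of sets with left G-actions, simply
transitive on every set of sections, carrying right H-actions ρ, ρ' (compatible with restriction,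
commuting with G, simply transitive section-wise) given by families of group isomorphisms φ, φ'
through p · h = φ_p(h) · p and p' · h = φ'_{p'}(h) · p'. Let Y be an object that covers the site
(for every object U the arrows V → U whose source admits a morphism to Y form a covering sieve), let
p and p' be sections of P and P' over Y, let f : P → P' be a G-equivariant morphism of sheaves and g
a section of G over Y with f(p) = g · p'. Then f commutes with the right H-actions if and only if
φ_{p|V}(h) = g|_V φ'_{p'|V}(h) (g|_V)⁻¹ for every object V with a morphism to Y, along which p, p'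
and g are restricted, and every section h of H over V; that is, the isomorphism family of p equals
the conjugate by g of the isomorphism family of p', as isomorphisms between the sheaves H and G
restricted over Y. (The published statement takes P and P' to be (G, H)-bitorsors trivialised by a
section over a cover Y → S; only the simple transitivity of the G-actions on sections and the
covering property of Y enter.) -/
theorem result
    {C : Type u} [Category.{v} C] {J : GrothendieckTopology C}
    (G H : Sheaf J GrpCat.{w}) (P P' : NonAbH1.GSheaf G)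
    (hP : P.IsPseudoTorsor) (hP' : P'.IsPseudoTorsor)
    (ρ : Bitors.RightStr P H) (ρ' : Bitors.RightStr P' H)
    (φ : Bitors.IsomFamily P H) (φ' : Bitors.IsomFamily P' H)
    (hρ : ∀ (U : Cᵒᵖ) (q : P.P.obj.obj U) (h : H.obj.obj U), ρ.rsmul q h = P.smul (φ.φ q h) q)
    (hρ' : ∀ (U : Cᵒᵖ) (q : P'.P.obj.obj U) (h : H.obj.obj U), ρ'.rsmul q h = P'.smul (φ'.φ q h) q)
    (Y : C) (hY : J.CoversTop (fun _ : PUnit.{w + 1} => Y))
    (p : P.P.obj.obj (op Y)) (p' : P'.P.obj.obj (op Y)) (f : P ⟶ P') (g : G.obj.obj (op Y))
    (hg : f.hom.hom.app (op Y) p = P'.smul g p') :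
    (∀ (U : Cᵒᵖ) (q : P.P.obj.obj U) (h : H.obj.obj U),
        f.hom.hom.app U (ρ.rsmul q h) = ρ'.rsmul (f.hom.hom.app U q) h) ↔
      ∀ (V : C) (t : V ⟶ Y) (h : H.obj.obj (op V)),
        φ.φ (P.P.obj.map t.op p) h =
          G.obj.map t.op g * φ'.φ (P'.P.obj.map t.op p') h * (G.obj.map t.op g)⁻¹ := by
  rw [Groth.Agent.S15413.result G H P P' hP' ρ ρ' φ φ' hρ hρ' f]
  have hpt : ∀ (V : C) (t : V ⟶ Y),
      f.hom.hom.app (op V) (P.P.obj.map t.op p) = P'.smul (G.obj.map t.op g) (P'.P.obj.map t.op p') := fun V t => by
    rw [NatTrans.naturality_apply, hg, P'.map_smul]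
  refine ⟨fun e V t h => by rw [e, hpt, φ'.φ_smul], fun e U q h => ?_⟩
  obtain ⟨U⟩ := U
  let k : ∀ {W : C}, G.obj.obj (op W) → (GrpCat.of (ULift.{w} (Multiplicative ℤ)) ⟶ G.obj.obj (op W)) := fun x =>
    GrpCat.ofHom ((zpowersHom _ x).comp MulEquiv.ulift.toMonoidHom)
  have hk : ∀ {W : C} (x : G.obj.obj (op W)), k x (ULift.up (Multiplicative.ofAdd 1)) = x := fun x => zpow_one x
  have hsep : k (φ.φ q h) = k (φ'.φ (f.hom.hom.app (op U) q) h) := by
    refine ((G.property (GrpCat.of (ULift.{w} (Multiplicative ℤ)))) _ (hY U)).isSeparatedFor.ext fun V i hi => ?_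
    obtain ⟨_, ⟨t₀⟩⟩ := hi
    let t : V ⟶ Y := t₀
    have : G.obj.map i.op (φ.φ q h) = G.obj.map i.op (φ'.φ (f.hom.hom.app (op U) q) h) := by
      rw [φ.map_φ, φ'.map_φ, ← NatTrans.naturality_apply]
      obtain ⟨a, ha, -⟩ := hP (op V) (P.P.obj.map t.op p) (P.P.obj.map i.op q)
      rw [← ha, f.map_smul, φ.φ_smul, φ'.φ_smul, e, hpt, φ'.φ_smul]
    refine ConcreteCategory.hom_ext _ _ fun z => ?_
    show G.obj.map i.op ((zpowersHom _ (φ.φ q h)) z.down) = G.obj.map i.op ((zpowersHom _ (φ'.φ _ h)) z.down)
    simp only [zpowersHom_apply, map_zpow, this]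
  rw [← hk (φ.φ q h), hsep, hk]

end Groth.Agent.S15414
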