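import Groth.Statements.S15415
import Groth.Agent.S13692
import Groth.Agent.L11.CSA.RedNorm

set_option autoImplicit false
universe u v w
open scoped TensorProduct
attribute [local instance] CSAGal.tensorAction GpH1.unitsAction
open GalCoh

set_option backward.isDefEq.respectTransparency.types false
section Aux

variable {k : Type u} [Field k] {K : Type v} [Field K] [Algebra k K]
  {A : Type w} [Ring A] [Algebra k A]

theorem repr_smul {ι : Type*} (b : Module.Basis ι k A) (σ : K ≃ₐ[k] K) (t : K ⊗[k] A) (i : ι) :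
    (Algebra.TensorProduct.basis K b).repr (σ • t) i = σ ((Algebra.TensorProduct.basis K b).repr t i) := by
  induction t using TensorProduct.induction_on with
  | zero => simp
  | tmul x a =>
    rw [TensorProduct.smul_tmul', Algebra.TensorProduct.basis_repr_tmul, Algebra.TensorProduct.basis_repr_tmul]
    simp [AlgEquiv.smul_def]
  | add x y hx hy => simp [hx, hy]

theorem smul_one_tmul (σ : K ≃ₐ[k] K) (a : A) : σ • ((1 : K) ⊗ₜ[k] a) = (1 : K) ⊗ₜ a := by
  rw [TensorProduct.smul_tmul', smul_one]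

/-- Galois descent for elements. -/
theorem exists_eq_one_tmul [FiniteDimensional k K] [IsGalois k K] [FiniteDimensional k A] (t : K ⊗[k] A)
    (ht : ∀ σ : K ≃ₐ[k] K, σ • t = t) : ∃ a : A, t = (1 : K) ⊗ₜ a := by
  classical
  let b := Module.finBasis k A
  let B := Algebra.TensorProduct.basis K b
  have h : ∀ i, ∃ c : k, algebraMap k K c = B.repr t i := fun i =>
    IntermediateField.mem_bot.mp ((IsGalois.mem_bot_iff_fixed (F := k) (B.repr t i)).mpr fun σ => by
      rw [← repr_smul b σ t i, ht])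
  choose c hc using h
  refine ⟨∑ i, c i • b i, B.ext_elem fun i => ?_⟩
  rw [← hc, Algebra.TensorProduct.basis_repr_tmul, one_smul, Finsupp.mapRange_apply, Module.Basis.repr_sum_self]

variable [FiniteDimensional k K] [FiniteDimensional k A]
  [Algebra.IsCentral K (K ⊗[k] A)] [IsSimpleRing (K ⊗[k] A)]

open Groth.L11.RN in
theorem rcp_smul (σ : K ≃ₐ[k] K) (t : K ⊗[k] A) :
    rcp K (σ • t) = (rcp K t).map (σ : K →+* K) := by
  classical
  refine eq_of_monic_pow (rcp_monic _) ((rcp_monic _).map _) (deg_ne_zero (k := K) (A := K ⊗[k] A)) ?_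
  rw [← Polynomial.map_pow, ← charpoly_mulLeft, ← charpoly_mulLeft]
  let b := Module.finBasis k A
  let B := Algebra.TensorProduct.basis K b
  rw [← LinearMap.charpoly_toMatrix (LinearMap.mulLeft K (σ • t)) B, ← LinearMap.charpoly_toMatrix (LinearMap.mulLeft K t) B,
    ← Matrix.charpoly_map]
  congr 1
  ext i j
  rw [Matrix.map_apply, LinearMap.toMatrix_apply, LinearMap.toMatrix_apply, LinearMap.mulLeft_apply,
    LinearMap.mulLeft_apply]
  show B.repr (σ • t * B j) i = σ (B.repr (t * B j) i)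
  have hj : σ • B j = B j := by
    rw [show B j = (1 : K) ⊗ₜ b j from Algebra.TensorProduct.basis_apply b j, smul_one_tmul]
  rw [← repr_smul b σ _ i, smul_mul', hj]

open Groth.L11.RN in
theorem nrd_smul (σ : K ≃ₐ[k] K) (t : K ⊗[k] A) : nrd K (K ⊗[k] A) (σ • t) = σ (nrd K (K ⊗[k] A) t) := by
  show (-1) ^ deg K (K ⊗[k] A) * (rcp K (σ • t)).coeff 0 = σ ((-1) ^ deg K (K ⊗[k] A) * (rcp K t).coeff 0)
  rw [rcp_smul, Polynomial.coeff_map, map_mul, map_pow, map_neg, map_one]
  rfl

end Aux

namespace Groth.Agent.S15415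

/-- For a central simple algebra over a field, the first Galois cohomology set of its norm-one group is
identified with the nonzero scalars modulo the reduced norms of units, by the boundary map of the
sequence norm-one units → units → nonzero scalars. Finite-level form: let k be a field, K a finite
Galois extension of k whose Galois group acts on K ⊗_k A through the first factor, A a
finite-dimensional central simple k-algebra split by K, N the reduced norm of A over k and N_K the
reduced norm of K ⊗_k A over K. Then (i) every 1-cocycle a with values in the units of K ⊗_k A of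
reduced norm one is of the form a σ = b⁻¹ · σ(b) for a unit b whose reduced norm is an element c of
kˣ; and (ii) for units b, b' of K ⊗_k A with reduced norms c, c' in kˣ, the cocycles σ ↦ b⁻¹σ(b) and
σ ↦ b'⁻¹σ(b') are cohomologous through a unit of reduced norm one if and only if c' = N(x) · c for
some unit x of A. (Since K splits A the reduced norm N_K takes every value in kˣ, so (i) and (ii)
say that c ↦ class of b⁻¹σ(b), N_K b = c, is a well-defined bijection from kˣ/N(Aˣ) onto the
cohomology set of the norm-one units. The published statement is for the absolute Galois group of a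
field of characteristic different from 2, an assumption playing no role here; this row is the
finite-level form over a splitting field.) -/
theorem result
    (k : Type u) [Field k] (K : Type v) [Field K] [Algebra k K] [FiniteDimensional k K] [IsGalois k K]
    (A : Type w) [Ring A] [Algebra k A] [Algebra.IsCentral k A] [IsSimpleRing A] [FiniteDimensional k A]
    (hA : Curves.Splits k A K)
    (N : A →* k) (hN : CSAGal.IsRedNorm k A N)
    (NK : (K ⊗[k] A) →* K) (hNK : CSAGal.IsRedNorm K (K ⊗[k] A) NK) :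
    (∀ a : GpH1.OneCocycle (K ≃ₐ[k] K) (K ⊗[k] A)ˣ, (∀ σ, NK (a σ : K ⊗[k] A) = 1) →
        ∃ (c : kˣ) (b : (K ⊗[k] A)ˣ), NK (b : K ⊗[k] A) = algebraMap k K (c : k) ∧
          ∀ σ : K ≃ₐ[k] K, a σ = b⁻¹ * σ • b) ∧
    (∀ (c c' : kˣ) (b b' : (K ⊗[k] A)ˣ),
        NK (b : K ⊗[k] A) = algebraMap k K (c : k) → NK (b' : K ⊗[k] A) = algebraMap k K (c' : k) →
        ((∃ s : (K ⊗[k] A)ˣ, NK (s : K ⊗[k] A) = 1 ∧
            ∀ σ : K ≃ₐ[k] K, b'⁻¹ * σ • b' = s⁻¹ * (b⁻¹ * σ • b) * σ • s) ↔
          ∃ x : Aˣ, (c' : k) = N (x : A) * (c : k))) := by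
  classical
  obtain ⟨n, hn, ⟨φ⟩⟩ := hA
  haveI : NeZero n := ⟨hn⟩
  haveI : Nonempty (Fin n) := ⟨⟨0, Nat.pos_of_ne_zero hn⟩⟩
  haveI : Algebra.IsCentral K (K ⊗[k] A) := Groth.L11.CSA.isCentral_baseChange k A K
  haveI : IsSimpleRing (K ⊗[k] A) := Groth.L11.CSA.isSimpleRing_baseChange k A K
  have hNKeq := Groth.L11.RN.isRedNorm_eq hNK
  have hσ : ∀ (σ : K ≃ₐ[k] K) (t : K ⊗[k] A), NK (σ • t) = σ (NK t) := fun σ t => by rw [hNKeq]; exact nrd_smul σ t
  have hbase : ∀ a : A, NK ((1 : K) ⊗ₜ a) = algebraMap k K (N a) := by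
    intro a
    rw [Groth.L11.RN.isRedNorm_eq hN, Groth.L11.RN.nrd_spec φ a]
    let ψ : K ⊗[K] (K ⊗[k] A) ≃ₐ[K] Matrix (Fin n) (Fin n) K := (Algebra.TensorProduct.lid K _).trans φ
    have h := Groth.L11.RN.nrd_spec ψ ((1 : K) ⊗ₜ[k] a)
    rw [Algebra.algebraMap_self, RingHom.id_apply, ← hNKeq] at h
    rw [h]
    congr 1
    rw [Groth.L11.CSA.repr_apply, Groth.L11.CSA.repr_apply]
    simp [ψ]
  constructor
  · intro a ha
    have h := Groth.Agent.S13692.result k K A a.cl
    rw [GpH1.H1.pt, GpH1.OneCocycle.cl_eq_cl_iff] at h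
    obtain ⟨b, hb⟩ := h
    have hb' : ∀ σ : K ≃ₐ[k] K, a σ = b⁻¹ * σ • b := fun σ => by
      rw [hb σ, show (GpH1.OneCocycle.trivial : GpH1.OneCocycle (K ≃ₐ[k] K) (K ⊗[k] A)ˣ) σ = 1 from rfl, mul_one]
    obtain ⟨c, hc⟩ := IntermediateField.mem_bot.mp ((IsGalois.mem_bot_iff_fixed (F := k) (NK (b : K ⊗[k] A))).mpr fun σ => by
      have h1 : (b : K ⊗[k] A) * (a σ : K ⊗[k] A) = σ • (b : K ⊗[k] A) := by
        have := congrArg Units.val (show b * a σ = σ • b by rw [hb', mul_inv_cancel_left])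
        exact this
      rw [← hσ, ← h1, map_mul, ha σ, mul_one])
    have hc0 : c ≠ 0 := fun h0 => (b.isUnit.map NK).ne_zero (by rw [← hc, h0, map_zero])
    exact ⟨Units.mk0 c hc0, b, hc.symm, hb'⟩
  · intro c c' b b' hb hb'
    constructor
    · rintro ⟨s, hs, heq⟩
      let y : (K ⊗[k] A)ˣ := b * s * b'⁻¹
      have hy : ∀ σ : K ≃ₐ[k] K, σ • y = y := fun σ => by
        have hinv : σ • b'⁻¹ = (σ • b')⁻¹ := smul_inv' σ b'
        have h2 : σ • b' = b' * (s⁻¹ * (b⁻¹ * σ • b) * σ • s) := by rw [← heq, mul_inv_cancel_left]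
        simp only [y, smul_mul', hinv, h2, mul_inv_rev, inv_inv, mul_assoc, mul_inv_cancel_left]
      obtain ⟨a, ha⟩ := exists_eq_one_tmul (y : K ⊗[k] A) fun σ => congrArg Units.val (hy σ)
      obtain ⟨a', ha'⟩ := exists_eq_one_tmul ((y⁻¹ : (K ⊗[k] A)ˣ) : K ⊗[k] A) fun σ =>
        congrArg Units.val (show σ • y⁻¹ = y⁻¹ by rw [smul_inv', hy])
      have hinj : Function.Injective fun x : A => (1 : K) ⊗ₜ[k] x :=
        Algebra.TensorProduct.includeRight_injective (algebraMap k K).injective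
      have h1 : a * a' = 1 := hinj (by
        show (1 : K) ⊗ₜ[k] (a * a') = (1 : K) ⊗ₜ[k] (1 : A)
        rw [← mul_one (1 : K), ← Algebra.TensorProduct.tmul_mul_tmul, ← ha, ← ha', Units.mul_inv, mul_one,
          Algebra.TensorProduct.one_def])
      have h2 : a' * a = 1 := hinj (by
        show (1 : K) ⊗ₜ[k] (a' * a) = (1 : K) ⊗ₜ[k] (1 : A)
        rw [← mul_one (1 : K), ← Algebra.TensorProduct.tmul_mul_tmul, ← ha, ← ha', Units.inv_mul, mul_one,
          Algebra.TensorProduct.one_def])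
      refine ⟨⟨a', a, h2, h1⟩, (algebraMap k K).injective ?_⟩
      rw [map_mul, ← hbase, ← ha', ← hb, ← hb', ← map_mul]
      have : (b' : (K ⊗[k] A)ˣ) * s⁻¹ = y⁻¹ * b := by simp [y, mul_assoc]
      have h3 := congrArg (fun u : (K ⊗[k] A)ˣ => NK (u : K ⊗[k] A)) this
      have hs' : NK ((s⁻¹ : (K ⊗[k] A)ˣ) : K ⊗[k] A) = 1 := by
        have := congrArg NK s.inv_mul
        rwa [map_mul, hs, mul_one, map_one] at this
      simpa [map_mul, hs'] using h3
    · rintro ⟨x, hx⟩
      let y : (K ⊗[k] A)ˣ := Units.map (Algebra.TensorProduct.includeRight : A →ₐ[k] K ⊗[k] A).toMonoidHom x⁻¹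
      have hy : ∀ σ : K ≃ₐ[k] K, σ • y = y := fun σ => Units.ext (smul_one_tmul σ _)
      refine ⟨b⁻¹ * y * b', ?_, fun σ => ?_⟩
      · have h1 : algebraMap k K (c : k) * NK ((b⁻¹ * y * b' : (K ⊗[k] A)ˣ) : K ⊗[k] A) =
            algebraMap k K (c : k) * 1 := by
          have hy' : NK (y : K ⊗[k] A) = algebraMap k K (N ((x⁻¹ : Aˣ) : A)) := hbase _
          rw [← hb, ← map_mul, ← Units.val_mul, mul_assoc b⁻¹, mul_inv_cancel_left, Units.val_mul, map_mul, hy', hb',
            mul_one, hb, ← map_mul, hx, ← mul_assoc, ← map_mul, Units.inv_mul, map_one, one_mul]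
        exact mul_left_cancel₀ (by simp) h1
      · simp only [smul_mul', smul_inv', hy σ, mul_inv_rev, inv_inv, mul_assoc, mul_inv_cancel_left, inv_mul_cancel_left]


end Groth.Agent.S15415
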