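import Groth.Statements.S15417
import Groth.Agent.L12.GrLCReg

set_option autoImplicit false
universe u
open GrSyz

namespace Groth.Agent.S15417

open Groth.L12.GrLCLib Groth.L12.GrSyzLib

/-- Let k be a field, S = k[x_0, …, x_r] graded by degree, 𝔪 = (x_0, …, x_r), M a finitely generated
ℤ-graded S-module, F a graded free resolution of M by finite-rank free modules with homogeneous
bases which is minimal (all matrix entries in 𝔪), and d an integer. Then every term F_i is generated
in degrees at most d + i (d is at least the regularity computed from F) if and only if, for every i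
≥ 0, the graded local cohomology module H^i_𝔪(M), computed from any *injective resolution of M in
the graded category, has all its nonzero pieces in degrees at most d − i. (The published statement
is about the regularity read off from the minimal resolution; it is stated here for an arbitrary
minimal resolution, which is what the printed argument handles.) -/
theorem result (k : Type u) [Field k] (r : ℕ)
    (M : Type u) [AddCommGroup M] [Module k M] [Module (MvPolynomial (Fin (r + 1)) k) M]
    [IsScalarTower k (MvPolynomial (Fin (r + 1)) k) M] [Module.Finite (MvPolynomial (Fin (r + 1)) k) M]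
    (ℳ : ℤ → Submodule k M) [DirectSum.Decomposition ℳ] [SetLike.GradedSMul (GrSyz.stdGr k (Fin (r + 1))) ℳ]
    (F : GrSyz.FreeRes (GrSyz.stdGr k (Fin (r + 1))) ℳ) (hF : F.IsMinimal (GrSyz.irrel (GrSyz.stdGr k (Fin (r + 1)))).toIdeal)
    (E : GrLC.StarInjRes (GrSyz.stdGr k (Fin (r + 1))) ℳ) (d : ℤ) :
    F.IsGenLE d ↔ ∀ i : ℕ, GrLC.endDeg (E.Hgr (GrSyz.irrel (GrSyz.stdGr k (Fin (r + 1)))) i) + (((i : ℤ) : WithTop ℤ) : WithBot (WithTop ℤ)) ≤ ((d : WithTop ℤ) : WithBot (WithTop ℤ)) := by
  rw [show F.IsGenLE d ↔ GrSyz.IsRegLE (GrSyz.stdGr k (Fin (r + 1))) ℳ (mm k (Fin (r + 1))) d from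
    ⟨fun h => ⟨F, hF, h⟩, isGenLE_of_isRegLE F hF⟩, isRegLE_iff_van]
  exact forall_congr' fun i => (endDeg_add_le_iff_van E i d).symm

end Groth.Agent.S15417
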