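import Groth.Statements.S15418
import Groth.Agent.L12.GrLCReg

set_option autoImplicit false
universe u
open GrSyz

namespace Groth.Agent.S15418

open Groth.L12.GrLCLib Groth.L12.GrSyzLib

/-- Let k be a field, S = k[x_0, …, x_r] graded by degree, 𝔪 = (x_0, …, x_r), M a finitely generated
ℤ-graded S-module, F a minimal graded free resolution of M by finite-rank free modules with
homogeneous bases (all matrix entries in 𝔪), and d an integer; graded local cohomology is computed
from any *injective resolution of M in the graded category. Then every term F_i is generated in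
degrees at most d + i if and only if M is d-regular: H^0_𝔪(M) has no nonzero piece in degrees above
d and H^i_𝔪(M) vanishes in degree d − i + 1 for every i > 0. (Stated for an arbitrary minimal
resolution in place of the regularity of M.) -/
theorem result (k : Type u) [Field k] (r : ℕ)
    (M : Type u) [AddCommGroup M] [Module k M] [Module (MvPolynomial (Fin (r + 1)) k) M]
    [IsScalarTower k (MvPolynomial (Fin (r + 1)) k) M] [Module.Finite (MvPolynomial (Fin (r + 1)) k) M]
    (ℳ : ℤ → Submodule k M) [DirectSum.Decomposition ℳ] [SetLike.GradedSMul (GrSyz.stdGr k (Fin (r + 1))) ℳ]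
    (F : GrSyz.FreeRes (GrSyz.stdGr k (Fin (r + 1))) ℳ) (hF : F.IsMinimal (GrSyz.irrel (GrSyz.stdGr k (Fin (r + 1)))).toIdeal)
    (E : GrLC.StarInjRes (GrSyz.stdGr k (Fin (r + 1))) ℳ) (d : ℤ) :
    F.IsGenLE d ↔ (GrLC.endDeg (E.Hgr (GrSyz.irrel (GrSyz.stdGr k (Fin (r + 1)))) 0) ≤ ((d : WithTop ℤ) : WithBot (WithTop ℤ)) ∧
      ∀ i : ℕ, 0 < i → E.Hcomp (GrSyz.irrel (GrSyz.stdGr k (Fin (r + 1)))) i (d - (i : ℤ) + 1) = ⊥) := by
  rw [show F.IsGenLE d ↔ GrSyz.IsRegLE (GrSyz.stdGr k (Fin (r + 1))) ℳ (mm k (Fin (r + 1))) d from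
    ⟨fun h => ⟨F, hF, h⟩, isGenLE_of_isRegLE F hF⟩, isRegLE_iff_van, van_range_iff, endDeg_le_iff_van]
  exact and_congr_right fun _ => forall₂_congr fun i _ => (hcomp_eq_bot_iff_van E i _).symm

end Groth.Agent.S15418
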