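import Groth.Statements.S15419
import Groth.Agent.L12.GrLCReg

set_option autoImplicit false
universe u
open GrLC

namespace Groth.Agent.S15419

open Groth.L12.GrLCLib Groth.L12.GrSyzLib

/-- Let k be a field, S = k[x_0, …, x_r] graded by degree, 𝔪 = (x_0, …, x_r), M a finitely generated
ℤ-graded S-module and x a linear form (x ∈ S_1) that is quasi-regular on M: the submodule of
elements of M killed by x has finite length. Let N = M/xM, given as a graded module with a
surjective degree-preserving S-linear map π : M → N whose kernel is xM; graded local cohomology of M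
and of N is computed from *injective resolutions in the graded category. If M is weakly d-regular,
that is H^i_𝔪(M) vanishes in degree d − i + 1 for every i > 0, then N is weakly d-regular. -/
theorem result (k : Type u) [Field k] (r : ℕ)
    (M : Type u) [AddCommGroup M] [Module k M] [Module (MvPolynomial (Fin (r + 1)) k) M]
    [IsScalarTower k (MvPolynomial (Fin (r + 1)) k) M] [Module.Finite (MvPolynomial (Fin (r + 1)) k) M]
    (ℳ : ℤ → Submodule k M) [DirectSum.Decomposition ℳ] [SetLike.GradedSMul (GrSyz.stdGr k (Fin (r + 1))) ℳ]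
    (x : MvPolynomial (Fin (r + 1)) k) (hx : x ∈ GrSyz.stdGr k (Fin (r + 1)) 1)
    (hq : IsFiniteLength (MvPolynomial (Fin (r + 1)) k) ↥(Submodule.torsionBy (MvPolynomial (Fin (r + 1)) k) M x))
    (N : Type u) [AddCommGroup N] [Module k N] [Module (MvPolynomial (Fin (r + 1)) k) N]
    [IsScalarTower k (MvPolynomial (Fin (r + 1)) k) N] [Module.Finite (MvPolynomial (Fin (r + 1)) k) N]
    (𝒩 : ℤ → Submodule k N) [DirectSum.Decomposition 𝒩] [SetLike.GradedSMul (GrSyz.stdGr k (Fin (r + 1))) 𝒩]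
    (π : M →ₗ[MvPolynomial (Fin (r + 1)) k] N) (hπ : Function.Surjective π) (hπg : GrLC.IsGrHom ℳ 𝒩 π)
    (hker : LinearMap.ker π = LinearMap.range (x • (LinearMap.id : M →ₗ[MvPolynomial (Fin (r + 1)) k] M)))
    (E : GrLC.StarInjRes (GrSyz.stdGr k (Fin (r + 1))) ℳ) (E' : GrLC.StarInjRes (GrSyz.stdGr k (Fin (r + 1))) 𝒩) (d : ℤ)
    (hM : ∀ i : ℕ, 0 < i → E.Hcomp (GrSyz.irrel (GrSyz.stdGr k (Fin (r + 1)))) i (d - (i : ℤ) + 1) = ⊥) (i : ℕ) (hi : 0 < i) :
    E'.Hcomp (GrSyz.irrel (GrSyz.stdGr k (Fin (r + 1)))) i (d - (i : ℤ) + 1) = ⊥ := by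
  rw [hcomp_eq_bot_iff_van]
  set a := GrSyz.irrel (GrSyz.stdGr k (Fin (r + 1))) with ha
  let f : M →ₗ[MvPolynomial (Fin (r + 1)) k] M := x • LinearMap.id
  let X := shG (GrSyz.stdGr k (Fin (r + 1))) ℳ (-1)
  let f' : X.carrier →ₗ[MvPolynomial (Fin (r + 1)) k] M := f
  have hf : GrLC.IsGrHom X.gr ℳ f' := fun g y hy => by
    change x • (y : M) ∈ ℳ g
    have h := Groth.L12.GrLCLib.smul_mem' (GrSyz.stdGr k (Fin (r + 1))) ℳ hx (show (y : M) ∈ ℳ (g + -1) from hy)
    rwa [show (1 : ℤ) + (g + -1) = g from by ring] at h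
  let I := subG (GrSyz.stdGr k (Fin (r + 1))) ℳ (LinearMap.range f') (range_isHomogeneous X.gr ℳ hf)
  let K := subG (GrSyz.stdGr k (Fin (r + 1))) X.gr (LinearMap.ker f') (ker_isHomogeneous X.gr ℳ hf)
  let inc : I.carrier →ₗ[MvPolynomial (Fin (r + 1)) k] M := (LinearMap.range f').subtype
  let kin : K.carrier →ₗ[MvPolynomial (Fin (r + 1)) k] X.carrier := (LinearMap.ker f').subtype
  let res : X.carrier →ₗ[MvPolynomial (Fin (r + 1)) k] I.carrier := f'.rangeRestrict
  have htor : GrLC.gam a.toIdeal K.carrier = ⊤ := eq_top_iff.2 fun z _ => by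
    have hz : (z.1 : M) ∈ GrLC.gam (mm k (Fin (r + 1))) M :=
      Groth.L12.GrSyzLib.le_gam_of_isFiniteLength ℳ _ (fun d y hy => by
        rw [Submodule.mem_torsionBy_iff] at hy ⊢
        rw [← prj_smul ℳ (GrSyz.stdGr k (Fin (r + 1))) hx, hy, map_zero]) hq
        ((Submodule.mem_torsionBy_iff _ _).2 (LinearMap.mem_ker.1 z.2))
    obtain ⟨n, hn⟩ := hz
    exact ⟨n, fun c hc => Subtype.ext (hn c hc)⟩
  refine van_right (ℳ₁ := I.gr) (ℳ₂ := ℳ) (ℳ₃ := 𝒩) a (f := inc) (g := π) (LinearMap.range f').injective_subtype hπ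
    ((Submodule.range_subtype _).trans hker.symm) (fun g y hy => hy) hπg ((hcomp_eq_bot_iff_van E i _).1 (hM i hi)) ?_
  refine van_right (ℳ₁ := K.gr) (ℳ₂ := X.gr) (ℳ₃ := I.gr) a (f := kin) (g := res) (LinearMap.ker f').injective_subtype
    f'.surjective_rangeRestrict ((Submodule.range_subtype _).trans (LinearMap.ker_rangeRestrict _).symm)
    (fun g y hy => hy) (fun g y hy => hf g y hy) ?_ (van_of_torsion a htor (by omega) _)
  refine (van_shift a (-1)).2 ?_
  have := (hcomp_eq_bot_iff_van E (i + 1) _).1 (hM (i + 1) (by omega))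
  convert this using 1
  push_cast
  ring

end Groth.Agent.S15419
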