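import Groth.Statements.S15420
import Groth.Agent.L12.GrLCReg

set_option autoImplicit false
universe u
open GrLC

namespace Groth.Agent.S15420

open Groth.L12.GrLCLib Groth.L12.GrSyzLib

/-- Let k be a field, S = k[x_0, …, x_r] graded by degree, 𝔪 = (x_0, …, x_r), M a finitely generated
ℤ-graded S-module, x ∈ S_1 a linear form quasi-regular on M (the elements of M killed by x form a
submodule of finite length), and N = M/xM, given as a graded module with a surjective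
degree-preserving S-linear map π : M → N with kernel xM; graded local cohomology is computed from
*injective resolutions in the graded category. Call a module d-regular when H^0_𝔪 of it has no
nonzero piece in degrees above d and H^i_𝔪 of it vanishes in degree d − i + 1 for every i > 0. Then
M is d-regular if and only if N is d-regular and H^0_𝔪(M) has no nonzero piece in degrees above d. -/
theorem result (k : Type u) [Field k] (r : ℕ)
    (M : Type u) [AddCommGroup M] [Module k M] [Module (MvPolynomial (Fin (r + 1)) k) M]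
    [IsScalarTower k (MvPolynomial (Fin (r + 1)) k) M] [Module.Finite (MvPolynomial (Fin (r + 1)) k) M]
    (ℳ : ℤ → Submodule k M) [DirectSum.Decomposition ℳ] [SetLike.GradedSMul (GrSyz.stdGr k (Fin (r + 1))) ℳ]
    (x : MvPolynomial (Fin (r + 1)) k) (hx : x ∈ GrSyz.stdGr k (Fin (r + 1)) 1)
    (hq : IsFiniteLength (MvPolynomial (Fin (r + 1)) k) ↥(Submodule.torsionBy (MvPolynomial (Fin (r + 1)) k) M x))
    (N : Type u) [AddCommGroup N] [Module k N] [Module (MvPolynomial (Fin (r + 1)) k) N]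
    [IsScalarTower k (MvPolynomial (Fin (r + 1)) k) N] [Module.Finite (MvPolynomial (Fin (r + 1)) k) N]
    (𝒩 : ℤ → Submodule k N) [DirectSum.Decomposition 𝒩] [SetLike.GradedSMul (GrSyz.stdGr k (Fin (r + 1))) 𝒩]
    (π : M →ₗ[MvPolynomial (Fin (r + 1)) k] N) (hπ : Function.Surjective π) (hπg : GrLC.IsGrHom ℳ 𝒩 π)
    (hker : LinearMap.ker π = LinearMap.range (x • (LinearMap.id : M →ₗ[MvPolynomial (Fin (r + 1)) k] M)))
    (E : GrLC.StarInjRes (GrSyz.stdGr k (Fin (r + 1))) ℳ) (E' : GrLC.StarInjRes (GrSyz.stdGr k (Fin (r + 1))) 𝒩) (d : ℤ) :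
    (GrLC.endDeg (E.Hgr (GrSyz.irrel (GrSyz.stdGr k (Fin (r + 1)))) 0) ≤ ((d : WithTop ℤ) : WithBot (WithTop ℤ)) ∧ ∀ i : ℕ, 0 < i → E.Hcomp (GrSyz.irrel (GrSyz.stdGr k (Fin (r + 1)))) i (d - (i : ℤ) + 1) = ⊥) ↔
      ((GrLC.endDeg (E'.Hgr (GrSyz.irrel (GrSyz.stdGr k (Fin (r + 1)))) 0) ≤ ((d : WithTop ℤ) : WithBot (WithTop ℤ)) ∧ ∀ i : ℕ, 0 < i → E'.Hcomp (GrSyz.irrel (GrSyz.stdGr k (Fin (r + 1)))) i (d - (i : ℤ) + 1) = ⊥) ∧
        GrLC.endDeg (E.Hgr (GrSyz.irrel (GrSyz.stdGr k (Fin (r + 1)))) 0) ≤ ((d : WithTop ℤ) : WithBot (WithTop ℤ))) := by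
  have key : ∀ (A : Type u) [AddCommGroup A] [Module k A] [Module (MvPolynomial (Fin (r + 1)) k) A]
      [IsScalarTower k (MvPolynomial (Fin (r + 1)) k) A] [Module.Finite (MvPolynomial (Fin (r + 1)) k) A]
      (𝒜 : ℤ → Submodule k A) [DirectSum.Decomposition 𝒜] [SetLike.GradedSMul (GrSyz.stdGr k (Fin (r + 1))) 𝒜]
      (EA : GrLC.StarInjRes (GrSyz.stdGr k (Fin (r + 1))) 𝒜),
      ((GrLC.endDeg (EA.Hgr (GrSyz.irrel (GrSyz.stdGr k (Fin (r + 1)))) 0) ≤ ((d : WithTop ℤ) : WithBot (WithTop ℤ)) ∧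
        ∀ i : ℕ, 0 < i → EA.Hcomp (GrSyz.irrel (GrSyz.stdGr k (Fin (r + 1)))) i (d - (i : ℤ) + 1) = ⊥) ↔
        GrSyz.IsRegLE (GrSyz.stdGr k (Fin (r + 1))) 𝒜 (mm k (Fin (r + 1))) d) := by
    intro A _ _ _ _ _ 𝒜 _ _ EA
    rw [isRegLE_iff_van, van_range_iff, endDeg_le_iff_van]
    exact and_congr_right fun _ => forall₂_congr fun i _ => hcomp_eq_bot_iff_van EA i _
  rw [key M ℳ E, key N 𝒩 E', endDeg_H0_le_iff ℳ E d, isRegLE_iff_of_quasiRegular ℳ x hx hq 𝒩 π hπ hπg hker d]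
  exact and_comm

end Groth.Agent.S15420
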