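import Groth.Statements.S15421
import Groth.Agent.L12.GrTors

set_option autoImplicit false
universe u
open GrSyz

namespace Groth.Agent.S15421

/-- Let k be a field, S = k[x_0, …, x_r] graded by degree, 𝔪 = (x_0, …, x_r), M a finitely generated
ℤ-graded S-module, x ∈ S_1 a linear form quasi-regular on M (the elements of M killed by x form a
submodule of finite length) and N = M/xM, given as a graded module with a surjective
degree-preserving S-linear map π : M → N with kernel xM. Then reg M = max(end H^0_𝔪(M), reg N),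
where reg is the Castelnuovo–Mumford regularity in the sense of minimal graded free resolutions (as
an extended integer, −∞ for the zero module) and end H^0_𝔪(M) is the largest degree of a nonzero
piece of the graded local cohomology H^0_𝔪(M), computed from any *injective resolution of M in the
graded category. (The published statement takes x quasi-regular without repeating that it is a
linear form; a linear form is meant, as in the proposition it rests on.) -/
theorem result (k : Type u) [Field k] (r : ℕ)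
    (M : Type u) [AddCommGroup M] [Module k M] [Module (MvPolynomial (Fin (r + 1)) k) M]
    [IsScalarTower k (MvPolynomial (Fin (r + 1)) k) M] [Module.Finite (MvPolynomial (Fin (r + 1)) k) M]
    (ℳ : ℤ → Submodule k M) [DirectSum.Decomposition ℳ] [SetLike.GradedSMul (GrSyz.stdGr k (Fin (r + 1))) ℳ]
    (x : MvPolynomial (Fin (r + 1)) k) (hx : x ∈ GrSyz.stdGr k (Fin (r + 1)) 1)
    (hq : IsFiniteLength (MvPolynomial (Fin (r + 1)) k) ↥(Submodule.torsionBy (MvPolynomial (Fin (r + 1)) k) M x))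
    (N : Type u) [AddCommGroup N] [Module k N] [Module (MvPolynomial (Fin (r + 1)) k) N]
    [IsScalarTower k (MvPolynomial (Fin (r + 1)) k) N] [Module.Finite (MvPolynomial (Fin (r + 1)) k) N]
    (𝒩 : ℤ → Submodule k N) [DirectSum.Decomposition 𝒩] [SetLike.GradedSMul (GrSyz.stdGr k (Fin (r + 1))) 𝒩]
    (π : M →ₗ[MvPolynomial (Fin (r + 1)) k] N) (hπ : Function.Surjective π) (hπg : GrLC.IsGrHom ℳ 𝒩 π)
    (hker : LinearMap.ker π = LinearMap.range (x • (LinearMap.id : M →ₗ[MvPolynomial (Fin (r + 1)) k] M)))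
    (E : GrLC.StarInjRes (GrSyz.stdGr k (Fin (r + 1))) ℳ) :
    GrSyz.reg (GrSyz.stdGr k (Fin (r + 1))) ℳ (GrSyz.irrel (GrSyz.stdGr k (Fin (r + 1)))).toIdeal =
      GrLC.endDeg (E.Hgr (GrSyz.irrel (GrSyz.stdGr k (Fin (r + 1)))) 0) ⊔ GrSyz.reg (GrSyz.stdGr k (Fin (r + 1))) 𝒩 (GrSyz.irrel (GrSyz.stdGr k (Fin (r + 1)))).toIdeal := by
  open Groth.L12.GrSyzLib in
  have key := fun e => isRegLE_iff_of_quasiRegular ℳ x hx hq 𝒩 π hπ hπg hker e
  have hge : ∀ e, GrSyz.IsRegLE (GrSyz.stdGr k (Fin (r + 1))) ℳ (GrSyz.irrel (GrSyz.stdGr k (Fin (r + 1)))).toIdeal e →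
      GrLC.endDeg (E.Hgr (GrSyz.irrel (GrSyz.stdGr k (Fin (r + 1)))) 0) ⊔
        GrSyz.reg (GrSyz.stdGr k (Fin (r + 1))) 𝒩 (GrSyz.irrel (GrSyz.stdGr k (Fin (r + 1)))).toIdeal ≤
          ((e : WithTop ℤ) : WithBot (WithTop ℤ)) := fun e he =>
    sup_le ((endDeg_H0_le_iff ℳ E e).2 ((key e).1 he).1) (iInf₂_le e ((key e).1 he).2)
  refine le_antisymm ?_ (le_iInf₂ hge)
  generalize hT : GrLC.endDeg (E.Hgr (GrSyz.irrel (GrSyz.stdGr k (Fin (r + 1)))) 0) ⊔
    GrSyz.reg (GrSyz.stdGr k (Fin (r + 1))) 𝒩 (GrSyz.irrel (GrSyz.stdGr k (Fin (r + 1)))).toIdeal = T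
  have hle : ∀ e : ℤ, T ≤ ((e : WithTop ℤ) : WithBot (WithTop ℤ)) →
      GrSyz.reg (GrSyz.stdGr k (Fin (r + 1))) ℳ (GrSyz.irrel (GrSyz.stdGr k (Fin (r + 1)))).toIdeal ≤
        ((e : WithTop ℤ) : WithBot (WithTop ℤ)) := fun e he => by
    rw [← hT, sup_le_iff] at he
    exact iInf₂_le e ((key e).2 ⟨(endDeg_H0_le_iff ℳ E e).1 he.1, isRegLE_of_reg_le 𝒩 he.2⟩)
  revert hle
  generalize GrSyz.reg (GrSyz.stdGr k (Fin (r + 1))) ℳ (GrSyz.irrel (GrSyz.stdGr k (Fin (r + 1)))).toIdeal = R
  intro hle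
  cases T with
  | bot =>
    cases R with
    | bot => exact le_rfl
    | coe y =>
      exfalso
      cases y with
      | top =>
        have := hle 0 bot_le
        rw [WithBot.coe_le_coe, top_le_iff] at this
        exact WithTop.coe_ne_top this
      | coe z =>
        have := hle (z - 1) bot_le
        rw [WithBot.coe_le_coe, WithTop.coe_le_coe] at this
        omega
  | coe y =>
    cases y with
    | top => exact le_top
    | coe z => exact hle z le_rfl

end Groth.Agent.S15421
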