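import Mathlib.Tactic
import Mathlib.LinearAlgebra.Matrix.ToLin
import Groth.Statements.S15427


set_option autoImplicit false
universe u
open GrSyz

namespace Groth.Agent.S15427

/-- Let k be a field, S = k[x_0, …, x_r] graded by degree, 𝔪 = (x_0, …, x_r), M a finitely generated
ℤ-graded S-module and F a graded free resolution of M by free modules of finite rank with chosen
homogeneous bases, written as matrices d_i : F_{i+1} → F_i together with the images aug b ∈ M of the
basis of F_0. Then F is a minimal complex (every matrix entry lies in 𝔪) if and only if every map of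
the resolution carries its basis to an irredundant (minimal) family of generators of its image: for
each b, aug b is not in the S-span of the remaining aug b', and for each i and each column of d_i,
that column is not in the S-span of the remaining columns. -/
theorem result (k : Type u) [Field k] (r : ℕ)
    (M : Type u) [AddCommGroup M] [Module k M] [Module (MvPolynomial (Fin (r + 1)) k) M]
    [IsScalarTower k (MvPolynomial (Fin (r + 1)) k) M] [Module.Finite (MvPolynomial (Fin (r + 1)) k) M]
    (ℳ : ℤ → Submodule k M) [DirectSum.Decomposition ℳ] [SetLike.GradedSMul (GrSyz.stdGr k (Fin (r + 1))) ℳ]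
    (F : GrSyz.FreeRes (GrSyz.stdGr k (Fin (r + 1))) ℳ) :
    F.IsMinimal (GrSyz.irrel (GrSyz.stdGr k (Fin (r + 1)))).toIdeal ↔
      ((∀ b : Fin (F.rk 0), F.aug b ∉ Submodule.span (MvPolynomial (Fin (r + 1)) k) (F.aug '' {b' | b' ≠ b})) ∧
        ∀ (i : ℕ) (b : Fin (F.rk (i + 1))),
          (fun a => F.d i a b) ∉ Submodule.span (MvPolynomial (Fin (r + 1)) k) ((fun b' a => F.d i a b') '' {b' | b' ≠ b})) := by
  classical
  set m := (GrSyz.irrel (GrSyz.stdGr k (Fin (r + 1)))).toIdeal with hm
  have hcc : ∀ z ∈ m, MvPolynomial.constantCoeff z = 0 := by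
    intro z hz
    refine Submodule.span_induction ?_ (map_zero _) (fun x y _ _ hx hy => by rw [map_add, hx, hy, add_zero])
      (fun a x _ hx => by rw [smul_eq_mul, map_mul, hx, mul_zero]) hz
    rintro w ⟨n, hn, hw⟩
    by_contra h
    have h' : MvPolynomial.coeff 0 w ≠ 0 := by simpa [MvPolynomial.constantCoeff_eq] using h
    have := hw h'
    simp [Finsupp.weight] at this
    omega
  have h1m : (1 : MvPolynomial (Fin (r + 1)) k) ∉ m := fun h => one_ne_zero ((map_one _).symm.trans (hcc 1 h))
  have hunit : ∀ (j : ℤ) (x : MvPolynomial (Fin (r + 1)) k), x ∈ GrSyz.stdGr k (Fin (r + 1)) j → x ∉ m → IsUnit x := by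
    intro j x hx hxm
    have hx0 : x ≠ 0 := fun h => hxm (h ▸ zero_mem m)
    have hw : ∀ e : Fin (r + 1) →₀ ℕ, MvPolynomial.coeff e x ≠ 0 → (e.sum fun _ n => (n : ℤ)) = j := fun e he => by
      have := hx he
      simpa [Finsupp.weight, Finsupp.linearCombination_apply] using this
    rcases lt_trichotomy j 0 with hj | hj | hj
    · refine absurd (MvPolynomial.ext _ _ fun e => ?_) hx0
      rw [MvPolynomial.coeff_zero]
      by_contra he
      have := hw e he
      have h0 : (0 : ℤ) ≤ e.sum fun _ n => (n : ℤ) := Finset.sum_nonneg fun _ _ => Int.natCast_nonneg _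
      omega
    · have hC : x = MvPolynomial.C (MvPolynomial.coeff 0 x) := MvPolynomial.ext _ _ fun e => by
        rw [MvPolynomial.coeff_C]
        split_ifs with h
        · rw [h]
        · by_contra he
          refine h (Finsupp.ext fun i => ?_)
          have h2 := hw e he
          rw [hj] at h2
          by_contra hi
          have hmem : i ∈ e.support := Finsupp.mem_support_iff.2 (Ne.symm (by simpa using hi))
          have h3 : (e i : ℤ) ≤ e.sum fun _ n => (n : ℤ) :=
            Finset.single_le_sum (f := fun a => (e a : ℤ)) (fun _ _ => Int.natCast_nonneg _) hmem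
          simp at hi
          omega
      have hc : MvPolynomial.coeff 0 x ≠ 0 := fun h0 => hx0 (by rw [hC, h0, map_zero])
      rw [hC]
      exact (isUnit_iff_ne_zero.2 hc).map MvPolynomial.C
    · refine absurd ?_ hxm
      exact Ideal.subset_span (show x ∈ {q : MvPolynomial (Fin (r + 1)) k | ∃ n : ℤ, 0 < n ∧ q ∈ GrSyz.stdGr k (Fin (r + 1)) n} from ⟨j, hj, hx⟩)
  constructor
  · intro hmin
    constructor
    · intro b hb
      obtain ⟨l, hl, hle⟩ := (Finsupp.mem_span_image_iff_linearCombination _).1 hb
      let v : Fin (F.rk 0) → MvPolynomial (Fin (r + 1)) k := fun a => (if a = b then 1 else 0) - l a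
      have hv : v ∈ LinearMap.ker (Fintype.linearCombination (MvPolynomial (Fin (r + 1)) k) F.aug) := by
        rw [LinearMap.mem_ker, Fintype.linearCombination_apply]
        simp only [v, sub_smul, ite_smul, one_smul, zero_smul, Finset.sum_sub_distrib, Finset.sum_ite_eq',
          Finset.mem_univ, if_true]
        rw [← hle, Finsupp.linearCombination_apply,
          Finsupp.sum_fintype l (fun a c => c • F.aug a) (fun a => zero_smul _ _), sub_self]
      rw [F.exact_zero] at hv
      obtain ⟨w, hw⟩ := hv
      refine h1m ?_
      have hlb : l b = 0 := by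
        by_contra h
        exact ((Finsupp.mem_supported _ l).1 hl (Finsupp.mem_support_iff.2 h)) rfl
      have h2 : v b ∈ m := by
        rw [← hw, Matrix.mulVecLin_apply]
        simp only [Matrix.mulVec, dotProduct]
        exact Ideal.sum_mem _ fun c _ => Ideal.mul_mem_right _ _ (hmin 0 b c)
      simpa [v, hlb] using h2
    · intro i b hb
      obtain ⟨l, hl, hle⟩ := (Finsupp.mem_span_image_iff_linearCombination _).1 hb
      let v : Fin (F.rk (i + 1)) → MvPolynomial (Fin (r + 1)) k := fun a => (if a = b then 1 else 0) - l a
      have hv : v ∈ LinearMap.ker (Matrix.mulVecLin (F.d i)) := by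
        rw [LinearMap.mem_ker, Matrix.mulVecLin_apply]
        funext a
        have h1 := congrFun hle a
        rw [Finsupp.linearCombination_apply,
          Finsupp.sum_fintype l (fun b' c => c • fun a => F.d i a b') (fun b' => zero_smul _ _)] at h1
        simp only [Finset.sum_apply, Pi.smul_apply, smul_eq_mul] at h1
        simp only [v, Matrix.mulVec, dotProduct, mul_sub, mul_ite, mul_one, mul_zero, Finset.sum_sub_distrib,
          Finset.sum_ite_eq', Finset.mem_univ, if_true, Pi.zero_apply]
        rw [sub_eq_zero, ← h1]
        exact Finset.sum_congr rfl fun x _ => mul_comm _ _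
      rw [F.exact_succ] at hv
      obtain ⟨w, hw⟩ := hv
      refine h1m ?_
      have hlb : l b = 0 := by
        by_contra h
        exact ((Finsupp.mem_supported _ l).1 hl (Finsupp.mem_support_iff.2 h)) rfl
      have h2 : v b ∈ m := by
        rw [← hw, Matrix.mulVecLin_apply]
        simp only [Matrix.mulVec, dotProduct]
        exact Ideal.sum_mem _ fun c _ => Ideal.mul_mem_right _ _ (hmin (i + 1) b c)
      simpa [v, hlb] using h2
  · rintro ⟨h0, hsucc⟩ i a b
    by_contra hab
    obtain ⟨u, hu⟩ := hunit _ _ (F.d_mem i a b) hab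
    have hker : ∀ i : ℕ, ∀ b, (fun a => F.d i a b) ∈ LinearMap.range (Matrix.mulVecLin (F.d i)) := fun i b =>
      ⟨Pi.single b 1, by
        rw [Matrix.mulVecLin_apply, Matrix.mulVec_single_one]
        rfl⟩
    have key : ∀ {X : Type u} [AddCommGroup X] [Module (MvPolynomial (Fin (r + 1)) k) X]
        (g : Fin (F.rk i) → X), ∑ a', F.d i a' b • g a' = 0 →
        g a ∈ Submodule.span (MvPolynomial (Fin (r + 1)) k) (g '' {b' | b' ≠ a}) := by
      intro X _ _ g hg
      rw [← Finset.add_sum_erase _ _ (Finset.mem_univ a)] at hg
      have h1 : g a = -((↑u⁻¹ : MvPolynomial (Fin (r + 1)) k) • ∑ a' ∈ Finset.univ.erase a, F.d i a' b • g a') := by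
        rw [← smul_neg, ← eq_neg_of_add_eq_zero_left hg, smul_smul, ← hu, Units.inv_mul, one_smul]
      rw [h1]
      exact Submodule.neg_mem _ (Submodule.smul_mem _ _ (Submodule.sum_mem _ fun a' ha' =>
        Submodule.smul_mem _ _ (Submodule.subset_span ⟨a', Finset.ne_of_mem_erase ha', rfl⟩)))
    cases i with
    | zero =>
      refine h0 a (key F.aug ?_)
      have h1 := hker 0 b
      rw [← F.exact_zero, LinearMap.mem_ker, Fintype.linearCombination_apply] at h1
      exact h1
    | succ i =>
      refine hsucc i a (key (fun a' => fun c => F.d i c a') ?_)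
      have h1 := hker (i + 1) b
      rw [← F.exact_succ, LinearMap.mem_ker, Matrix.mulVecLin_apply] at h1
      funext c
      have h2 := congrFun h1 c
      simp only [Matrix.mulVec, dotProduct, Pi.zero_apply] at h2
      simp only [Finset.sum_apply, Pi.smul_apply, smul_eq_mul, Pi.zero_apply]
      rw [← h2]
      exact Finset.sum_congr rfl fun x _ => mul_comm _ _
end Groth.Agent.S15427
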