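import Mathlib.Tactic
import Groth.Agent.S15427
import Groth.Statements.S15431


set_option autoImplicit false
universe u
open GrSyz

namespace Groth.Agent.S15431

/-- Let k be a field, S = k[x_0, …, x_r] graded by degree, 𝔪 = (x_0, …, x_r), M a finitely generated
ℤ-graded S-module and F a minimal graded free resolution of M by free modules of finite rank with
homogeneous bases (all matrix entries in 𝔪), so that its basis degrees give the graded Betti
numbers. If for some i the graded Betti numbers β_{i,j} vanish for all j < d, that is every basis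
vector of F_i has degree at least d, then β_{i+1,j+1} = 0 for all j < d: every basis vector of
F_{i+1} has degree at least d + 1. -/
theorem result (k : Type u) [Field k] (r : ℕ)
    (M : Type u) [AddCommGroup M] [Module k M] [Module (MvPolynomial (Fin (r + 1)) k) M]
    [IsScalarTower k (MvPolynomial (Fin (r + 1)) k) M] [Module.Finite (MvPolynomial (Fin (r + 1)) k) M]
    (ℳ : ℤ → Submodule k M) [DirectSum.Decomposition ℳ] [SetLike.GradedSMul (GrSyz.stdGr k (Fin (r + 1))) ℳ]
    (F : GrSyz.FreeRes (GrSyz.stdGr k (Fin (r + 1))) ℳ) (hF : F.IsMinimal (GrSyz.irrel (GrSyz.stdGr k (Fin (r + 1)))).toIdeal) (i : ℕ) (d : ℤ)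
    (h : ∀ a : Fin (F.rk i), d ≤ F.deg i a) (b : Fin (F.rk (i + 1))) :
    d + 1 ≤ F.deg (i + 1) b := by
  classical
  by_contra hlt
  push Not at hlt
  refine ((Groth.Agent.S15427.result k r M ℳ F).1 hF).2 i b ?_
  have hz : (fun a => F.d i a b) = 0 := by
    funext a
    refine MvPolynomial.ext _ _ fun e => ?_
    rw [Pi.zero_apply, MvPolynomial.coeff_zero]
    by_contra he
    have h1 : (e.sum fun _ n => (n : ℤ)) = F.deg (i + 1) b - F.deg i a := by
      have := F.d_mem i a b he
      simpa [Finsupp.weight, Finsupp.linearCombination_apply] using this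
    have h0 : (0 : ℤ) ≤ e.sum fun _ n => (n : ℤ) := Finset.sum_nonneg fun _ _ => Int.natCast_nonneg _
    have ha := h a
    have he0 : e = 0 := by
      refine Finsupp.ext fun j => ?_
      by_contra hj
      have hj' : e j ≠ 0 := by simpa using hj
      have h3 : (e j : ℤ) ≤ e.sum fun _ n => (n : ℤ) :=
        Finset.single_le_sum (f := fun a => (e a : ℤ)) (fun _ _ => Int.natCast_nonneg _) (Finsupp.mem_support_iff.2 hj')
      omega
    subst he0
    refine he ?_
    have hm := hF i a b
    have hcc : MvPolynomial.constantCoeff (F.d i a b) = 0 := by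
      refine Submodule.span_induction ?_ (map_zero _) (fun x y _ _ hx hy => by rw [map_add, hx, hy, add_zero])
        (fun c x _ hx => by rw [smul_eq_mul, map_mul, hx, mul_zero]) hm
      rintro w ⟨n, hn, hw⟩
      by_contra hne
      have h' : MvPolynomial.coeff 0 w ≠ 0 := by simpa [MvPolynomial.constantCoeff_eq] using hne
      have := hw h'
      simp [Finsupp.weight] at this
      omega
    simpa [MvPolynomial.constantCoeff_eq] using hcc
  rw [hz]
  exact zero_mem _
end Groth.Agent.S15431
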