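import Groth.Statements.S15432
import Groth.Agent.L12.GrHB

set_option autoImplicit false
universe u
open GrSyz

namespace Groth.Agent.S15432

/-- Let k be a field, Z a nonempty finite set of nonzero vectors of k^3, regarded as points of the
projective plane, I ⊆ S = k[x_0, x_1, x_2] the homogeneous vanishing ideal of Z (a polynomial lies
in I exactly when each of its homogeneous components vanishes at every vector of Z), M = S/I given
as a ℤ-graded S-module with a surjective degree-preserving S-linear map π : S → M with kernel I, and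
F a minimal graded free resolution of M of length at most 2 whose terms F_1 and F_2 have ranks t + 1
and t, with basis degrees a_1 ≥ … ≥ a_{t+1} for F_1 and b_1 ≥ … ≥ b_t for F_2 (non-increasing along
the chosen bases), so that the (i, j) entry of the matrix F_2 → F_1 has degree b_j − a_i. Put e_i =
b_i − a_i and f_i = b_i − a_{i+1}. Then e_i ≥ 1 and f_i ≥ 1 for every i, and Σ_i a_i = Σ_j b_j
(equivalently a_i = Σ_{j < i} e_j + Σ_{j ≥ i} f_j for every i). (The ordering of both bases is the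
standing assumption under which the published statement is made; this row carries it as the
hypotheses on the basis degrees. The further inequalities f_i ≥ e_i and f_i ≥ e_{i+1} follow at once
from the ordering and are not restated.) -/
theorem result (k : Type u) [Field k]
    (Z : Finset (Fin 3 → k)) (hZ : ∀ p ∈ Z, p ≠ 0) (hZne : Z.Nonempty) (I : Ideal (MvPolynomial (Fin 3) k))
    (hI : ∀ f : MvPolynomial (Fin 3) k, f ∈ I ↔
      ∀ p ∈ Z, ∀ j : ℕ, MvPolynomial.eval p (MvPolynomial.homogeneousComponent j f) = 0)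
    (M : Type u) [AddCommGroup M] [Module k M] [Module (MvPolynomial (Fin 3) k) M] [IsScalarTower k (MvPolynomial (Fin 3) k) M]
    (ℳ : ℤ → Submodule k M) [DirectSum.Decomposition ℳ] [SetLike.GradedSMul (GrSyz.stdGr k (Fin 3)) ℳ]
    (π : MvPolynomial (Fin 3) k →ₗ[MvPolynomial (Fin 3) k] M) (hπ : Function.Surjective π)
    (hπg : GrLC.IsGrHom (GrSyz.stdGr k (Fin 3)) ℳ π) (hker : LinearMap.ker π = I)
    (F : GrSyz.FreeRes (GrSyz.stdGr k (Fin 3)) ℳ) (hF : F.IsMinimal (GrSyz.irrel (GrSyz.stdGr k (Fin 3))).toIdeal) (hlen : F.HasLengthLE 2)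
    (t : ℕ) (h1 : F.rk 1 = t + 1) (h2 : F.rk 2 = t)
    (ha : ∀ i j : Fin (t + 1), i ≤ j → F.deg 1 (Fin.cast h1.symm j) ≤ F.deg 1 (Fin.cast h1.symm i))
    (hb : ∀ i j : Fin t, i ≤ j → F.deg 2 (Fin.cast h2.symm j) ≤ F.deg 2 (Fin.cast h2.symm i)) :
    (∀ i : Fin t, 1 ≤ F.deg 2 (Fin.cast h2.symm i) - F.deg 1 (Fin.cast h1.symm i.castSucc) ∧
        1 ≤ F.deg 2 (Fin.cast h2.symm i) - F.deg 1 (Fin.cast h1.symm i.succ)) ∧
      ∑ i : Fin (t + 1), F.deg 1 (Fin.cast h1.symm i) = ∑ j : Fin t, F.deg 2 (Fin.cast h2.symm j) := by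
  open Groth.L12.GrSyzLib in
  classical
  have hkill : ∀ f ∈ I, ∀ m : M, f • m = 0 := fun f hf m => by
    obtain ⟨q, rfl⟩ := hπ m
    have h : f * q ∈ LinearMap.ker π := by rw [hker]; exact Ideal.mul_mem_right q I hf
    rw [← map_smul, smul_eq_mul]
    exact LinearMap.mem_ker.1 h
  have hblock : ∀ (i : ℕ) (hi : i < t), (∀ (a : Fin (F.rk 1)) (b : Fin (F.rk 2)), a.1 ≤ i → i ≤ b.1 →
      F.deg 2 b ≤ F.deg 1 a) → False := fun i hi hz =>
    zero_block_false F hlen hF Z hZ I hI hkill t h1 h2 i hi fun a b ha hb' =>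
      eq_zero_of_deg_le (deg := F.deg 1) (deg' := F.deg 2) (F.d_mem 1 a b) (hF 1 a b) (hz a b ha hb')
  have hA : ∀ (a : Fin (F.rk 1)) (c : Fin (t + 1)), a.1 ≤ c.1 → F.deg 1 (Fin.cast h1.symm c) ≤ F.deg 1 a :=
    fun a c h => by simpa using ha (Fin.cast h1 a) c h
  have hB : ∀ (b : Fin (F.rk 2)) (c : Fin t), c.1 ≤ b.1 → F.deg 2 b ≤ F.deg 2 (Fin.cast h2.symm c) :=
    fun b c h => by simpa using hb c (Fin.cast h2 b) h
  refine ⟨fun i => ⟨?_, ?_⟩, ?_⟩
  · by_contra hlt
    exact hblock i.1 i.2 fun a b ha' hb' => by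
      have h3 := hA a i.castSucc ha'
      have h4 := hB b i hb'
      omega
  · by_contra hlt
    exact hblock i.1 i.2 fun a b ha' hb' => by
      have h3 := hA a i.succ (by simp only [Fin.val_succ]; omega)
      have h4 := hB b i hb'
      omega
  have hpiece : ∀ d, ∀ x ∈ ℳ d, ∃ q ∈ GrSyz.stdGr k (Fin 3) d, π q = x := fun d x hx => by
    obtain ⟨q, rfl⟩ := hπ x
    exact ⟨prj (GrSyz.stdGr k (Fin 3)) d q, prj_mem _ d q,
      (prj_map (GrSyz.stdGr k (Fin 3)) ℳ π.toAddMonoidHom hπg d q).symm.trans (prj_same ℳ hx)⟩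
  have hN : ∀ d, 0 ≤ d → Module.finrank k ↥(ℳ d) ≤ Z.card := by
    intro d hd
    obtain ⟨n, rfl⟩ := Int.eq_ofNat_of_zero_le hd
    let ev : ↥(GrSyz.stdGr k (Fin 3) (n : ℤ)) →ₗ[k] (Z → k) :=
      LinearMap.pi fun z => (MvPolynomial.aeval z.1).toLinearMap ∘ₗ (GrSyz.stdGr k (Fin 3) (n : ℤ)).subtype
    let p : ↥(GrSyz.stdGr k (Fin 3) (n : ℤ)) →ₗ[k] ↥(ℳ (n : ℤ)) := LinearMap.codRestrict _
      (π.restrictScalars k ∘ₗ (GrSyz.stdGr k (Fin 3) (n : ℤ)).subtype) fun x => hπg _ _ x.2
    have hk : LinearMap.ker ev ≤ LinearMap.ker p := by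
      intro x hx
      refine LinearMap.mem_ker.2 (Subtype.ext ?_)
      have hxI : x.1 ∈ I := (hI _).2 fun z hz j => by
        rw [MvPolynomial.homogeneousComponent_of_mem
          ((MvPolynomial.mem_homogeneousSubmodule _ _).2 (isHomogeneous_of_mem_stdGr x.2))]
        split_ifs
        · have := congrFun hx ⟨z, hz⟩
          simpa [ev, MvPolynomial.aeval_eq_eval] using this
        · rw [map_zero]
      rw [← hker] at hxI
      exact hxI
    have hp : LinearMap.range p = ⊤ := LinearMap.range_eq_top.2 fun x => by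
      obtain ⟨q, hq, hqx⟩ := hpiece _ x.1 x.2
      exact ⟨⟨q, hq⟩, Subtype.ext hqx⟩
    have e1 := LinearMap.finrank_range_add_finrank_ker p
    have e2 := LinearMap.finrank_range_add_finrank_ker ev
    rw [hp, finrank_top] at e1
    have e3 := Submodule.finrank_mono hk
    have e4 := Submodule.finrank_le (LinearMap.range ev)
    rw [Module.finrank_fintype_fun_eq_card, Fintype.card_coe] at e4
    omega
  obtain ⟨hA0, hS⟩ := num_bounded F hlen Z.card hN
  have hr0 : F.rk 0 = 1 := by omega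
  have hone : π 1 ≠ 0 := fun h => by
    obtain ⟨z, hz⟩ := hZne
    have h1' : (1 : MvPolynomial (Fin 3) k) ∈ I := hker ▸ LinearMap.mem_ker.2 h
    have := (hI 1).1 h1' z hz 0
    rw [MvPolynomial.homogeneousComponent_of_mem ((MvPolynomial.mem_homogeneousSubmodule _ _).2
      (MvPolynomial.isHomogeneous_one (Fin 3) k)), if_pos rfl, map_one] at this
    exact one_ne_zero this
  have hdeg0 : ∀ b : Fin (F.rk 0), F.deg 0 b = 0 := fun b => by
    haveI : Subsingleton (Fin (F.rk 0)) := by rw [hr0]; infer_instance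
    rcases lt_trichotomy (F.deg 0 b) 0 with hl | hl | hl
    · exfalso
      have haug : F.aug b = 0 := by
        obtain ⟨q, hq, hqb⟩ := hpiece _ _ (F.aug_mem b)
        rw [stdGr_neg hl, Submodule.mem_bot] at hq
        rw [← hqb, hq, map_zero]
      obtain ⟨v, hv⟩ := F.aug_surjective (π 1)
      refine hone (hv.symm.trans ?_)
      rw [Fintype.linearCombination_apply]
      exact Finset.sum_eq_zero fun c _ => by rw [Subsingleton.elim c b, haug, smul_zero]
    · exact hl
    · exfalso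
      obtain ⟨v, hv, hv'⟩ := exists_preimage_mem ℳ (deg := F.deg 0) F.aug_mem
        (hπg 0 1 (MvPolynomial.isWeightedHomogeneous_one k _)) (F.aug_surjective _)
      refine hone (hv'.symm.trans ?_)
      have hv0 : v = 0 := funext fun c => by
        have := mem_fr.1 hv c
        rw [Subsingleton.elim c b, zero_sub, stdGr_neg (by omega), Submodule.mem_bot] at this
        rw [Subsingleton.elim c b, this, Pi.zero_apply]
      rw [hv0, map_zero]
  rw [Finset.sum_eq_zero (fun b _ => hdeg0 b), zero_sub] at hS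
  have e1 : ∑ i : Fin (t + 1), F.deg 1 (Fin.cast h1.symm i) = ∑ b, F.deg 1 b := (finCongr h1.symm).sum_comp (F.deg 1)
  have e2 : ∑ j : Fin t, F.deg 2 (Fin.cast h2.symm j) = ∑ b, F.deg 2 b := (finCongr h2.symm).sum_comp (F.deg 2)
  omega

end Groth.Agent.S15432
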