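import Groth.Statements.S15433
import Groth.Agent.L12.GrLenBound

set_option autoImplicit false
universe u
open GrSyz

namespace Groth.Agent.S15433

/-- Let k be a field, S = k[x_0, …, x_r] graded by degree, 𝔪 = (x_0, …, x_r), and M = S/I a graded
quotient of S, given with a surjective degree-preserving S-linear map π : S → M whose kernel I
contains no nonzero linear form. Let y_0, …, y_t be linear forms forming a weakly regular sequence
on M (each a non-zerodivisor modulo the previous ones) and N = M/(y_0, …, y_t)M, given as a graded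
module with a surjective degree-preserving S-linear map σ : M → N with kernel (y_0, …, y_t)M, and
suppose N has finite length ℓ. Then reg M + (r − t) ≤ ℓ, reg being the Castelnuovo–Mumford
regularity of M in the sense of minimal graded free resolutions. (The published statement is reg S_X
≤ deg X − codim X for an arithmetically Cohen–Macaulay subvariety X of P^r not contained in a
hyperplane; this row is the algebraic statement its proof establishes, with S_X any graded quotient
of S by an ideal without linear forms, the maximal regular sequence of linear forms given, deg X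
replaced by the length of S_X/(y_0, …, y_t)S_X and codim X by r − t, which agree with the degree and
the codimension in that situation.) -/
theorem result (k : Type u) [Field k] (r : ℕ)
    (M : Type u) [AddCommGroup M] [Module k M] [Module (MvPolynomial (Fin (r + 1)) k) M]
    [IsScalarTower k (MvPolynomial (Fin (r + 1)) k) M] [Module.Finite (MvPolynomial (Fin (r + 1)) k) M]
    (ℳ : ℤ → Submodule k M) [DirectSum.Decomposition ℳ] [SetLike.GradedSMul (GrSyz.stdGr k (Fin (r + 1))) ℳ]
    (π : MvPolynomial (Fin (r + 1)) k →ₗ[MvPolynomial (Fin (r + 1)) k] M) (hπ : Function.Surjective π)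
    (hπg : GrLC.IsGrHom (GrSyz.stdGr k (Fin (r + 1))) ℳ π)
    (hlin : ∀ x : MvPolynomial (Fin (r + 1)) k, x ∈ GrSyz.stdGr k (Fin (r + 1)) 1 → π x = 0 → x = 0)
    (ys : List (MvPolynomial (Fin (r + 1)) k)) (hys : ∀ y ∈ ys, y ∈ GrSyz.stdGr k (Fin (r + 1)) 1)
    (hreg : RingTheory.Sequence.IsWeaklyRegular M ys)
    (N : Type u) [AddCommGroup N] [Module k N] [Module (MvPolynomial (Fin (r + 1)) k) N]
    [IsScalarTower k (MvPolynomial (Fin (r + 1)) k) N]
    (𝒩 : ℤ → Submodule k N) [DirectSum.Decomposition 𝒩] [SetLike.GradedSMul (GrSyz.stdGr k (Fin (r + 1))) 𝒩]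
    (σ : M →ₗ[MvPolynomial (Fin (r + 1)) k] N) (hσ : Function.Surjective σ) (hσg : GrLC.IsGrHom ℳ 𝒩 σ)
    (hker : LinearMap.ker σ = Ideal.ofList ys • (⊤ : Submodule (MvPolynomial (Fin (r + 1)) k) M))
    (ℓ : ℕ) (hℓ : Module.length (MvPolynomial (Fin (r + 1)) k) N = (ℓ : ℕ∞)) :
    GrSyz.reg (GrSyz.stdGr k (Fin (r + 1))) ℳ (GrSyz.irrel (GrSyz.stdGr k (Fin (r + 1)))).toIdeal + ((((r : ℤ) + 1 - (ys.length : ℤ) : ℤ) : WithTop ℤ) : WithBot (WithTop ℤ)) ≤
      (((ℓ : ℤ) : WithTop ℤ) : WithBot (WithTop ℤ)) := by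
  open Groth.L12.GrSyzLib in
  classical
  haveI : Module.Finite (MvPolynomial (Fin (r + 1)) k) N := Module.Finite.of_surjective σ hσ
  have hfl : IsFiniteLength (MvPolynomial (Fin (r + 1)) k) N :=
    Module.length_ne_top_iff.1 (by rw [hℓ]; exact ENat.coe_ne_top _)
  haveI : IsArtinian (MvPolynomial (Fin (r + 1)) k) N := (isFiniteLength_iff_isNoetherian_isArtinian.1 hfl).2
  have hiff := isRegLE_quot_iff ys M ℳ hys hreg N 𝒩 σ hσ hσg hker
  have hregeq : GrSyz.reg (GrSyz.stdGr k (Fin (r + 1))) ℳ (GrSyz.irrel (GrSyz.stdGr k (Fin (r + 1)))).toIdeal =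
      GrLC.endDeg (fun n => (𝒩 n).toAddSubgroup) := by
    rw [← reg_eq_endDeg 𝒩 hfl]
    exact le_antisymm (le_iInf₂ fun e he => iInf₂_le e ((hiff e).2 he)) (le_iInf₂ fun e he => iInf₂_le e ((hiff e).1 he))
  obtain ⟨b0, hb0⟩ := bddAbove_of_isArtinian (σ := Fin (r + 1)) 𝒩
  let p : MvPolynomial (Fin (r + 1)) k →ₗ[MvPolynomial (Fin (r + 1)) k] N := σ.comp π
  have hp : Function.Surjective p := hσ.comp hπ
  have hpgr : ∀ d, ∀ x ∈ GrSyz.stdGr k (Fin (r + 1)) d, p x ∈ 𝒩 d := fun d x hx => hσg d _ (hπg d x hx)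
  have hpiece : ∀ d, ∀ x ∈ 𝒩 d, ∃ q ∈ GrSyz.stdGr k (Fin (r + 1)) d, p q = x := fun d x hx => by
    obtain ⟨q, rfl⟩ := hp x
    refine ⟨prj (GrSyz.stdGr k (Fin (r + 1))) d q, prj_mem _ d q, ?_⟩
    exact (prj_map (GrSyz.stdGr k (Fin (r + 1))) 𝒩 p.toAddMonoidHom hpgr d q).symm.trans (prj_same 𝒩 hx)
  have hfin : ∀ d, Module.Finite k ↥(𝒩 d) := fun d =>
    Module.Finite.of_surjective (LinearMap.codRestrict (𝒩 d)
      (p.restrictScalars k ∘ₗ (GrSyz.stdGr k (Fin (r + 1)) d).subtype) fun x => hpgr d _ x.2)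
      fun x => by obtain ⟨q, hq, hqx⟩ := hpiece d x.1 x.2; exact ⟨⟨q, hq⟩, Subtype.ext hqx⟩
  have hnext : ∀ d, 0 ≤ d → 𝒩 d = ⊥ → 𝒩 (d + 1) = ⊥ := fun d hd h0 => by
    refine eq_bot_iff.2 fun x hx => ?_
    obtain ⟨q, hq, rfl⟩ := hpiece _ x hx
    rw [Submodule.mem_bot]
    rw [MvPolynomial.as_sum q, map_sum]
    refine Finset.sum_eq_zero fun m hm => ?_
    have hmd := hq (MvPolynomial.mem_support_iff.1 hm)
    rw [weight_one] at hmd
    obtain ⟨i, hi⟩ : ∃ i, m i ≠ 0 := by
      by_contra h
      push Not at h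
      rw [show m = 0 from Finsupp.ext h, map_zero] at hmd
      omega
    obtain ⟨m', rfl⟩ : ∃ m', m = Finsupp.single i 1 + m' :=
      ⟨m - Finsupp.single i 1, (add_tsub_cancel_of_le (Finsupp.single_le_iff.2 (Nat.one_le_iff_ne_zero.2 hi))).symm⟩
    rw [MvPolynomial.monomial_single_add, ← smul_eq_mul, map_smul]
    have h1 : p (MvPolynomial.monomial m' (MvPolynomial.coeff (Finsupp.single i 1 + m') q)) ∈ 𝒩 d := by
      refine hpgr d _ (MvPolynomial.isWeightedHomogeneous_monomial _ _ _ ?_)
      rw [weight_one]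
      rw [map_add, Finsupp.degree_single] at hmd
      push_cast at hmd
      omega
    rw [h0, Submodule.mem_bot] at h1
    rw [h1, smul_zero]
  have hneg : ∀ d, d < 0 → 𝒩 d = ⊥ := fun d hd => eq_bot_iff.2 fun x hx => by
    obtain ⟨q, hq, rfl⟩ := hpiece _ x hx
    rw [stdGr_neg hd, Submodule.mem_bot] at hq
    rw [Submodule.mem_bot, hq, map_zero]
  have h1dim : r + 1 ≤ ys.length + Module.finrank k ↥(𝒩 1) := by
    haveI := hfin 1
    let t : ↥(GrSyz.stdGr k (Fin (r + 1)) 1) →ₗ[k] ↥(𝒩 1) := LinearMap.codRestrict (𝒩 1)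
      (p.restrictScalars k ∘ₗ (GrSyz.stdGr k (Fin (r + 1)) 1).subtype) fun x => hpgr 1 _ x.2
    have hY : ∀ q ∈ Ideal.ofList ys, prj (GrSyz.stdGr k (Fin (r + 1))) 1 q ∈ Submodule.span k {y | y ∈ ys} := by
      intro q hq
      induction hq using Submodule.span_induction with
      | mem y hy => rw [prj_same _ (hys y hy)]; exact Submodule.subset_span hy
      | zero => rw [map_zero]; exact zero_mem _
      | add a b _ _ ha hb => rw [map_add]; exact add_mem ha hb
      | smul c y hy' hy =>
        obtain ⟨T, hT⟩ := exists_sum_prj (GrSyz.stdGr k (Fin (r + 1))) c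
        rw [← hT, Finset.sum_smul, map_sum]
        refine Submodule.sum_mem _ fun n _ => ?_
        rw [prj_smul' (GrSyz.stdGr k (Fin (r + 1))) (GrSyz.stdGr k (Fin (r + 1))) (prj_mem _ n c)]
        rcases lt_trichotomy n 0 with hn | hn | hn
        · have h := prj_mem (GrSyz.stdGr k (Fin (r + 1))) n c
          rw [stdGr_neg hn, Submodule.mem_bot] at h
          rw [h, zero_smul]; exact zero_mem _
        · subst hn
          rw [sub_zero, eq_C_of_mem_zero (prj_mem (GrSyz.stdGr k (Fin (r + 1))) 0 c), ← MvPolynomial.algebraMap_eq,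
            algebraMap_smul]
          exact Submodule.smul_mem _ _ hy
        · have h0 : prj (GrSyz.stdGr k (Fin (r + 1))) (1 - n) y = 0 := by
            have h := prj_mem (GrSyz.stdGr k (Fin (r + 1))) (1 - n) y
            rcases eq_or_ne n 1 with rfl | hn1
            · have hy0 : MvPolynomial.constantCoeff y = 0 := mem_mm_iff.1
                ((Ideal.span_le (I := mm k (Fin (r + 1)))).2 (fun z hz => mem_mm_iff.2 (constantCoeff_of_mem one_ne_zero (hys z hz))) hy')
              rw [sub_self] at h ⊢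
              rw [eq_C_of_mem_zero h]
              obtain ⟨U, hU⟩ := exists_sum_prj (GrSyz.stdGr k (Fin (r + 1))) y
              have h2 := congrArg MvPolynomial.constantCoeff hU
              rw [map_sum, hy0, Finset.sum_eq_single 0 (fun b _ hb => constantCoeff_of_mem hb (prj_mem _ b y))
                (fun hnm => ?_)] at h2
              · rw [h2, map_zero]
              · have h3 : prj (GrSyz.stdGr k (Fin (r + 1))) 0 y = 0 := by
                  rw [← hU, map_sum]
                  exact Finset.sum_eq_zero fun b hb => prj_ne _ (prj_mem _ b y) fun h => hnm (h ▸ hb)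
                rw [h3, map_zero]
            · rw [stdGr_neg (by omega), Submodule.mem_bot] at h
              exact h
          rw [h0, smul_zero]; exact zero_mem _
    have hker' : Module.finrank k ↥(LinearMap.ker t) ≤ ys.length := by
      have hsub : ∀ x : ↥(LinearMap.ker t), (x.1.1 : MvPolynomial (Fin (r + 1)) k) ∈ Submodule.span k {y | y ∈ ys} := by
        rintro ⟨⟨q, hq⟩, hqt⟩
        have h0 : σ (π q) = 0 := congrArg Subtype.val hqt
        have h1 : π q ∈ Submodule.map π (Ideal.ofList ys • (⊤ : Submodule (MvPolynomial (Fin (r + 1)) k) (MvPolynomial (Fin (r + 1)) k))) := by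
          rw [Submodule.map_smul'', Submodule.map_top, LinearMap.range_eq_top.2 hπ, ← hker]
          exact h0
        obtain ⟨w, hw, hwq⟩ := h1
        rw [smul_eq_mul, Ideal.mul_top] at hw
        have h2 : prj (GrSyz.stdGr k (Fin (r + 1))) 1 (q - w) = 0 :=
          hlin _ (prj_mem _ 1 _) ((prj_map (GrSyz.stdGr k (Fin (r + 1))) ℳ π.toAddMonoidHom hπg 1 (q - w)).symm.trans
            (by simp [hwq]))
        rw [map_sub, prj_same _ hq, sub_eq_zero] at h2
        have h3 := hY w hw
        rw [← h2] at h3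
        exact h3
      have hS : {y | y ∈ ys} = ↑ys.toFinset := by ext; simp
      rw [hS] at hsub
      refine le_trans (LinearMap.finrank_le_finrank_of_injective
        (f := LinearMap.codRestrict (Submodule.span k (ys.toFinset : Set (MvPolynomial (Fin (r + 1)) k)))
          ((GrSyz.stdGr k (Fin (r + 1)) 1).subtype ∘ₗ (LinearMap.ker t).subtype) hsub)
        fun x y h => Subtype.ext (Subtype.ext (by have h' := congrArg (fun z => (z.1 : MvPolynomial (Fin (r + 1)) k)) h; exact h')))
        (le_trans (finrank_span_finset_le_card _) (List.toFinset_card_le ys))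
    have h := LinearMap.finrank_range_add_finrank_ker t
    rw [finrank_stdGr] at h
    have hr : Module.finrank k ↥(LinearMap.range t) ≤ Module.finrank k ↥(𝒩 1) := Submodule.finrank_le _
    have hc : cnt r 1 = r + 1 := by simp [cnt]
    omega
  rw [hregeq]
  have hAdd : ∀ e : ℤ, 𝒩 e ≠ ⊥ → e + ((r : ℤ) + 1 - (ys.length : ℤ)) ≤ (ℓ : ℤ) := fun e he => by
    have he0 : 0 ≤ e := not_lt.1 fun h => he (hneg e h)
    have hall : ∀ n : ℕ, (n : ℤ) ≤ e → 1 ≤ Module.finrank k ↥(𝒩 n) := fun n hn => by
      haveI := hfin (n : ℤ)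
      rw [Submodule.one_le_finrank_iff]
      intro h
      refine he ?_
      have : ∀ j : ℕ, 𝒩 ((n : ℤ) + j) = ⊥ := fun j => by
        induction j with
        | zero => simpa using h
        | succ j ih => rw [Nat.cast_succ, ← add_assoc]; exact hnext _ (by omega) ih
      obtain ⟨j, hj⟩ := Int.eq_ofNat_of_zero_le (show 0 ≤ e - n by omega)
      rw [show e = (n : ℤ) + j by omega]
      exact this j
    obtain ⟨n, rfl⟩ := Int.eq_ofNat_of_zero_le he0
    have hsum := sum_finrank_le_length ℓ N 𝒩 hℓ hfin ((Finset.range (n + 2)).image fun j : ℕ => (j : ℤ))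
    rw [Finset.sum_image (fun a _ b _ h => by exact_mod_cast h)] at hsum
    have hlow : n + Module.finrank k ↥(𝒩 1) ≤ ∑ j ∈ Finset.range (n + 2), Module.finrank k ↥(𝒩 (j : ℤ)) := by
      rw [← Finset.add_sum_erase _ _ (Finset.mem_range.2 (by omega : 1 < n + 2))]
      have h2 : n ≤ ∑ j ∈ (Finset.range (n + 2)).erase 1, Module.finrank k ↥(𝒩 (j : ℤ)) := by
        refine le_trans ?_ (Finset.sum_le_sum_of_subset (f := fun j : ℕ => Module.finrank k ↥(𝒩 (j : ℤ)))
          (show (Finset.range (n + 1)).erase 1 ⊆ (Finset.range (n + 2)).erase 1 from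
            Finset.erase_subset_erase _ (Finset.range_mono (by omega))))
        refine le_trans ?_ (Finset.card_nsmul_le_sum _ _ 1 fun j hj => hall j (by
          have := Finset.mem_range.1 (Finset.mem_of_mem_erase hj); omega))
        rw [Finset.card_erase_eq_ite, Finset.card_range]
        split_ifs <;> simp
      rw [Nat.cast_one]
      omega
    omega
  revert hAdd
  generalize hE : GrLC.endDeg (fun n => (𝒩 n).toAddSubgroup) = E
  intro hAdd
  by_cases hex : ∃ d, 𝒩 d ≠ ⊥
  · obtain ⟨e, he, hmax⟩ := Int.exists_greatest_of_bdd (P := fun d => 𝒩 d ≠ ⊥)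
      ⟨b0, fun z hz => not_lt.1 fun h => hz (hb0 z h)⟩ hex
    have hle : E ≤ ((e : WithTop ℤ) : WithBot (WithTop ℤ)) := hE ▸ iSup₂_le fun d hd => by
      rw [WithBot.coe_le_coe, WithTop.coe_le_coe]
      exact hmax d fun h => hd (by change (𝒩 d).toAddSubgroup = ⊥; rw [h]; rfl)
    refine (add_le_add hle le_rfl).trans ?_
    rw [← WithBot.coe_add, ← WithTop.coe_add, WithBot.coe_le_coe, WithTop.coe_le_coe]
    exact hAdd e he
  · push Not at hex
    have hle : E ≤ ⊥ := hE ▸ iSup₂_le fun d hd => absurd (by change (𝒩 d).toAddSubgroup = ⊥; rw [hex d]; rfl) hd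
    rw [le_bot_iff.1 hle, WithBot.bot_add]
    exact bot_le

end Groth.Agent.S15433
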