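import Groth.Statements.S15435
import Groth.Agent.L13.GrSheaf.Main
-- import your own Groth.Agent.* helpers here

set_option autoImplicit false
universe u
open GrSyz

namespace Groth.Agent.S15435

/-- Let k be a field, S = k[x_0, …, x_r] graded by degree, 𝔪 = (x_0, …, x_r), and M a finitely generated
ℤ-graded S-module; M̃ and the M(d)~ denote the O-modules on P^r_k associated with the pieces M_n, n
≥ 0 (they depend only on the pieces of large degree), with the canonical maps M_d → H^0(P^r_k,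
M(d)~); graded local cohomology is computed from any *injective resolution in the graded category;
let d ≥ 0. Then M is d-regular, that is H^0_𝔪(M) has no nonzero piece above degree d and H^i_𝔪(M)
vanishes in degree d − i + 1 for every i > 0, if and only if: (1) the sheaf M̃ is d-regular,
H^i(P^r_k, M̃(d − i)) = 0 for 1 ≤ i ≤ r; (2) H^0_𝔪(M) vanishes in every degree e > d; and (3) the
canonical map from M_d to the global sections of M(d)~ is surjective. (The published statement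
allows any integer d; it is stated here for d ≥ 0.) -/
theorem result (k : Type u) [Field k] (r : ℕ)
    (M : Type u) [AddCommGroup M] [Module k M] [Module (MvPolynomial (Fin (r + 1)) k) M]
    [IsScalarTower k (MvPolynomial (Fin (r + 1)) k) M] [Module.Finite (MvPolynomial (Fin (r + 1)) k) M]
    (ℳ : ℤ → Submodule k M) [DirectSum.Decomposition ℳ] [SetLike.GradedSMul (GrSyz.stdGr k (Fin (r + 1))) ℳ]
    [SetLike.GradedSMul (CohB1.polyGrading r k) (fun n : ℕ => ℳ (n : ℤ))]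
    (E : GrLC.StarInjRes (GrSyz.stdGr k (Fin (r + 1))) ℳ) (d : ℕ) :
    (GrLC.endDeg (E.Hgr (GrSyz.irrel (GrSyz.stdGr k (Fin (r + 1)))) 0) ≤ (((d : ℤ) : WithTop ℤ) : WithBot (WithTop ℤ)) ∧
        ∀ i : ℕ, 0 < i → E.Hcomp (GrSyz.irrel (GrSyz.stdGr k (Fin (r + 1)))) i ((d : ℤ) - (i : ℤ) + 1) = ⊥) ↔
      (Curv2.IsMRegular k r (GrTilde.tilde (CohB1.polyGrading r k) (fun n : ℕ => ℳ (n : ℤ)) 0) (d : ℤ) ∧
        (∀ e : ℤ, (d : ℤ) < e → E.Hcomp (GrSyz.irrel (GrSyz.stdGr k (Fin (r + 1)))) 0 e = ⊥) ∧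
        Function.Surjective (fun m : ↥(ℳ ((d : ℕ) : ℤ)) => GrTilde.globalOf (CohB1.polyGrading r k) (fun n : ℕ => ℳ (n : ℤ)) m)) := by
  classical
  have hH0 := fun b : ℤ => Groth.L12.GrLCLib.endDeg_le_iff_van E 0 b
  constructor
  · rintro ⟨h0, hi⟩
    have hvan := (Groth.L12.GrLCLib.van_range_iff (ℳ := ℳ) (d : ℤ)).2
      ⟨(hH0 d).1 h0, fun i hi' => (Groth.L12.GrLCLib.hcomp_eq_bot_iff_van E i _).1 (hi i hi')⟩
    obtain ⟨F, -, hF⟩ := (Groth.L12.GrLCLib.isRegLE_iff_van ℳ (d : ℤ)).2 hvan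
    exact ⟨fun i hi' _ => Groth.L22.SyzTilde.regular_tilde F hF i hi',
      fun e he => (Groth.L12.GrLCLib.hcomp_eq_bot_iff_van E 0 _).2 ((hH0 d).1 h0 e he),
      Groth.L13.GrSheaf.surjective_globalOf F hF⟩
  · rintro ⟨hreg, h0, hsurj⟩
    obtain ⟨F, -⟩ := Groth.L12.GrSyzLib.exists_minimal_res (k := k) (σ := Fin (r + 1)) ℳ
    have hv0 := fun (e : ℤ) (he : (d : ℤ) < e) => (Groth.L12.GrLCLib.hcomp_eq_bot_iff_van E 0 e).1 (h0 e he)
    refine ⟨(hH0 d).2 hv0, fun i hi => (Groth.L12.GrLCLib.hcomp_eq_bot_iff_van E i _).2 ?_⟩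
    have c := Groth.L13.GrSheaf.clsTilde (d := d) F
      (@Groth.L22.Reg.regular_of_le_n _ _ _ _
        (Groth.L13.GrSheaf.isCoh_tilde (r := r) F).1 _ fun q hq hqn => hreg q hq hqn)
      (fun e he => (Groth.L12.GrLCLib.van_zero_iff _).1 (hv0 e he)) hsurj
    exact Groth.L13.GrSheaf.Cls.van (r + 2) ℳ d c i (by omega) hi _ (by omega)

end Groth.Agent.S15435
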