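import Groth.Statements.S15436
import Groth.Agent.L12.GrTor

set_option autoImplicit false
universe u
open GrSyz

namespace Groth.Agent.S15436

/-- Let k be a field, S = k[x_0, …, x_r] graded by degree, 𝔪 = (x_0, …, x_r), M a finitely generated
ℤ-graded S-module and F a minimal graded free resolution of M by free modules of finite rank with
homogeneous bases (all matrix entries in 𝔪). Then for every i the rank of F_i (the number of
elements of a minimal generating set of the i-th syzygy module) equals the length, i.e. the
dimension over k = S/𝔪, of Tor_i^S(S/𝔪, M), where Tor_i is the i-th left derived functor of S/𝔪 ⊗_S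
− on S-modules. (The published statement is the degree-by-degree refinement: F_i has exactly dim_k
Tor_i^S(k, M)_j basis vectors of degree j; the grading on Tor is not available here, so the counts
are summed over j.) -/
theorem result (k : Type u) [Field k] (r : ℕ)
    (M : Type u) [AddCommGroup M] [Module k M] [Module (MvPolynomial (Fin (r + 1)) k) M]
    [IsScalarTower k (MvPolynomial (Fin (r + 1)) k) M] [Module.Finite (MvPolynomial (Fin (r + 1)) k) M]
    (ℳ : ℤ → Submodule k M) [DirectSum.Decomposition ℳ] [SetLike.GradedSMul (GrSyz.stdGr k (Fin (r + 1))) ℳ]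
    (F : GrSyz.FreeRes (GrSyz.stdGr k (Fin (r + 1))) ℳ) (hF : F.IsMinimal (GrSyz.irrel (GrSyz.stdGr k (Fin (r + 1)))).toIdeal) (i : ℕ) :
    Module.length (MvPolynomial (Fin (r + 1)) k)
        (((CategoryTheory.Tor (ModuleCat.{u} (MvPolynomial (Fin (r + 1)) k)) i).obj
            (ModuleCat.of (MvPolynomial (Fin (r + 1)) k) ((MvPolynomial (Fin (r + 1)) k) ⧸ (GrSyz.irrel (GrSyz.stdGr k (Fin (r + 1)))).toIdeal))).obj
          (ModuleCat.of (MvPolynomial (Fin (r + 1)) k) M)) = (F.rk i : ℕ∞) := by
  exact Groth.L12.GrSyzLib.length_tor F hF i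

end Groth.Agent.S15436
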