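import Groth.Statements.S15437
import Groth.Agent.L12.GrHilb

set_option autoImplicit false
universe u
open GrSyz

namespace Groth.Agent.S15437

/-- Let k be a field, S = k[x_0, …, x_r] graded by degree and M a ℤ-graded S-module with a finite graded
free resolution F of length at most m by free modules of finite rank with homogeneous bases; write
β_{i,j} for the number of basis vectors of F_i of degree j (the graded Betti numbers when F is
minimal) and B_j = Σ_{i ≤ m} (−1)^i β_{i,j}. Then for every integer d, dim_k M_d = Σ_j B_j C(r + d −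
j, r), where a binomial with d < j counts as zero and only finitely many j contribute; and the B_j
are recovered from the Hilbert function by B_j = dim_k M_j − Σ_{n < j} B_n C(r + j − n, r). (Stated
for any finite graded free resolution; the published statement takes the minimal one.) -/
theorem result (k : Type u) [Field k] (r : ℕ)
    (M : Type u) [AddCommGroup M] [Module k M] [Module (MvPolynomial (Fin (r + 1)) k) M]
    [IsScalarTower k (MvPolynomial (Fin (r + 1)) k) M] [Module.Finite (MvPolynomial (Fin (r + 1)) k) M]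
    (ℳ : ℤ → Submodule k M) [DirectSum.Decomposition ℳ] [SetLike.GradedSMul (GrSyz.stdGr k (Fin (r + 1))) ℳ]
    (F : GrSyz.FreeRes (GrSyz.stdGr k (Fin (r + 1))) ℳ) (m : ℕ) (hF : F.HasLengthLE m) :
    (∀ d : ℤ, (Module.finrank k ↥(ℳ d) : ℤ) =
        ∑ᶠ j : ℤ, (∑ i ∈ Finset.range (m + 1), (-1 : ℤ) ^ i * (F.betti i j : ℤ)) *
          (if j ≤ d then ((Nat.choose (r + (d - j).toNat) r : ℕ) : ℤ) else 0)) ∧
      ∀ j : ℤ, (∑ i ∈ Finset.range (m + 1), (-1 : ℤ) ^ i * (F.betti i j : ℤ)) =
        (Module.finrank k ↥(ℳ j) : ℤ) -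
          ∑ᶠ n : ℤ, (if n < j then (∑ i ∈ Finset.range (m + 1), (-1 : ℤ) ^ i * (F.betti i n : ℤ)) * ((Nat.choose (r + (j - n).toNat) r : ℕ) : ℤ) else 0) := by
  classical
  set B : ℤ → ℤ := fun j => ∑ i ∈ Finset.range (m + 1), (-1 : ℤ) ^ i * (F.betti i j : ℤ) with hB
  let T : Finset ℤ := (Finset.range (m + 1)).biUnion fun i => Finset.univ.image (F.deg i)
  have hT : ∀ j, j ∉ T → B j = 0 := fun j hj => by
    refine Finset.sum_eq_zero fun i hi => ?_
    rw [GrSyz.FreeRes.betti, Finset.card_eq_zero.2, Nat.cast_zero, mul_zero]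
    exact Finset.filter_eq_empty_iff.2 fun b _ hb =>
      hj (Finset.mem_biUnion.2 ⟨i, hi, Finset.mem_image.2 ⟨b, Finset.mem_univ _, hb⟩⟩)
  have hsum : ∀ d : ℤ, (Module.finrank k ↥(ℳ d) : ℤ) =
      ∑ j ∈ T, B j * (Groth.L12.GrSyzLib.cnt r (d - j) : ℤ) := fun d => by
    rw [Groth.L12.GrSyzLib.finrank_eq_sum F d m hF]
    simp only [hB, Finset.sum_mul]
    rw [Finset.sum_comm]
    refine Finset.sum_congr rfl fun i hi => ?_
    simp only [mul_assoc, ← Finset.mul_sum]
    congr 1
    rw [Groth.L12.GrSyzLib.fsum, ← Finset.sum_fiberwise_of_maps_to (g := F.deg i) (t := T) (fun b _ =>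
      Finset.mem_biUnion.2 ⟨i, hi, Finset.mem_image.2 ⟨b, Finset.mem_univ _, rfl⟩⟩)]
    refine Finset.sum_congr rfl fun j _ => ?_
    rw [Finset.sum_congr rfl (fun b hb => by rw [(Finset.mem_filter.1 hb).2]), Finset.sum_const, nsmul_eq_mul]
    rfl
  have hfin : ∀ (d : ℤ) (c : ℤ → ℤ), ∑ᶠ j, B j * c j = ∑ j ∈ T, B j * c j := fun d c =>
    finsum_eq_sum_of_support_subset _ fun j hj => by
      simp only [Function.mem_support] at hj
      by_contra h
      exact hj (by rw [hT j h, zero_mul])
  refine ⟨fun d => ?_, fun j => ?_⟩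
  · rw [hsum d, hfin d]
    exact Finset.sum_congr rfl fun j _ => by rw [Groth.L12.GrSyzLib.cnt_eq_ite]
  · have h1 : ∀ n : ℤ, (if n < j then B n * ((Nat.choose (r + (j - n).toNat) r : ℕ) : ℤ) else 0) =
        B n * (if n < j then ((Nat.choose (r + (j - n).toNat) r : ℕ) : ℤ) else 0) := fun n => by
      split_ifs <;> simp
    change B j = _
    rw [show (fun n : ℤ => (if n < j then B n * ((Nat.choose (r + (j - n).toNat) r : ℕ) : ℤ) else 0)) = _ from funext h1,
      hfin j, hsum j, eq_sub_iff_add_eq]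
    by_cases hj : j ∈ T
    · rw [← Finset.add_sum_erase _ _ hj, ← Finset.add_sum_erase _ _ hj]
      simp only [lt_irrefl, if_false, mul_zero, zero_add]
      congr 1
      · simp [Groth.L12.GrSyzLib.cnt]
      · refine Finset.sum_congr rfl fun n hn => ?_
        rw [Groth.L12.GrSyzLib.cnt_eq_ite]
        have := (Finset.mem_erase.1 hn).1
        congr 1
        split_ifs <;> first | rfl | omega
    · rw [hT j hj, zero_add]
      refine Finset.sum_congr rfl fun n hn => ?_
      rw [Groth.L12.GrSyzLib.cnt_eq_ite]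
      have : n ≠ j := fun h => hj (h ▸ hn)
      congr 1
      split_ifs <;> first | rfl | omega

end Groth.Agent.S15437
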