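import Groth.Statements.S15438
import Groth.Agent.L06.FlatModuleLift
import Groth.Agent.L16.ProjSpace.Basic
import Mathlib.AlgebraicGeometry.ProjectiveSpectrum.Proper
import Mathlib.AlgebraicGeometry.FunctionField

set_option autoImplicit false
universe u
open AlgEqCyc

namespace Groth.Agent.S15438

open AlgebraicGeometry CategoryTheory CategoryTheory.Limits in
example : True := trivial

section diagFamily
open AlgebraicGeometry CategoryTheory CategoryTheory.Limits

theorem fibreMult_section {C P : Scheme.{u}} [IsIntegral C] (d : C ⟶ P) [IsClosedImmersion d]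
    (g : P ⟶ C) (hdg : d ≫ g = 𝟙 C) (c : C) (h : d (genericPoint C) ⤳ d c) :
    AlgEqCyc.fibreMult g (d c) (d (genericPoint C)) h = 1 := by
  have hη : genericPoint C ⤳ c := genericPoint_specializes c
  have hinj : Function.Injective (Cyc.specMap c (genericPoint C) hη) := by
    have h1 : Function.Injective (C.presheaf.stalkSpecializes hη).hom :=
      IsFractionRing.injective (C.presheaf.stalk c) C.functionField
    have h2 : Function.Injective (C.residue (genericPoint C)).hom := by
      letI : Field (C.presheaf.stalk (genericPoint C)) := inferInstanceAs (Field C.functionField)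
      exact (C.residue (genericPoint C)).hom.injective
    exact h2.comp h1
  have hker : ∀ a, a ∈ RingHom.ker (Cyc.specMap (d c) (d (genericPoint C)) h) ↔ d.stalkMap c a = 0 := by
    intro a
    rw [RingHom.mem_ker, ← map_eq_zero_iff _ (d.residueFieldMap (genericPoint C)).hom.injective]
    have := Groth.L06.FlatModuleLift.specMap_stalkMap d hη a
    rw [← this, map_eq_zero_iff _ hinj]
  have hbij : Function.Bijective (fun b => d.stalkMap c (g.stalkMap (d c) b)) := by
    haveI : IsIso (g.stalkMap (d c) ≫ d.stalkMap c) := by
      rw [← Scheme.Hom.stalkMap_comp, Scheme.Hom.stalkMap_congr_hom _ _ hdg, Scheme.Hom.stalkMap_id]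
      exact @IsIso.comp_isIso _ _ _ _ _ _ _ inferInstance (IsIso.id _)
    exact ConcreteCategory.bijective_of_isIso (g.stalkMap (d c) ≫ d.stalkMap c)
  set R := P.presheaf.stalk (d c)
  set mk := Ideal.Quotient.mk (RingHom.ker (Cyc.specMap (d c) (d (genericPoint C)) h))
  let J := (IsLocalRing.maximalIdeal (C.presheaf.stalk (g (d c)))).map (mk.comp (g.stalkMap (d c)).hom)
  let φ : R →ₗ[R] Cyc.LocQuot (d c) (d (genericPoint C)) h ⧸ J :=
    (IsScalarTower.toAlgHom R R (Cyc.LocQuot (d c) (d (genericPoint C)) h ⧸ J)).toLinearMap
  have hsurj : Function.Surjective φ := fun z => by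
    obtain ⟨y, rfl⟩ := Ideal.Quotient.mk_surjective z
    obtain ⟨a, rfl⟩ := Ideal.Quotient.mk_surjective y
    exact ⟨a, rfl⟩
  have hkφ : LinearMap.ker φ = IsLocalRing.maximalIdeal R := by
    ext a
    rw [LinearMap.mem_ker]
    change Ideal.Quotient.mk J (mk a) = 0 ↔ _
    rw [Ideal.Quotient.eq_zero_iff_mem]
    constructor
    · intro hmem
      have : J ≤ (IsLocalRing.maximalIdeal R).map mk := by
        simp only [J]
        rw [← Ideal.map_map]
        refine Ideal.map_mono (Ideal.map_le_iff_le_comap.2 fun b hb => ?_)
        exact (map_mem_nonunits_iff (g.stalkMap (d c)).hom b).2 hb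
      have h2 := (Ideal.mem_map_iff_of_surjective mk Ideal.Quotient.mk_surjective).1 (this hmem)
      obtain ⟨a', ha', he⟩ := h2
      have hle : RingHom.ker (Cyc.specMap (d c) (d (genericPoint C)) h) ≤ IsLocalRing.maximalIdeal R :=
        IsLocalRing.le_maximalIdeal (RingHom.ker_ne_top _)
      have := hle (Ideal.Quotient.eq.1 he)
      have h3 := sub_mem ha' this
      rwa [sub_sub_cancel] at h3
    · intro ha
      obtain ⟨b, hb⟩ := hbij.2 (d.stalkMap c a)
      have hb' : b ∈ IsLocalRing.maximalIdeal (C.presheaf.stalk (g (d c))) := by
        have h1 : d.stalkMap c a ∈ IsLocalRing.maximalIdeal _ :=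
          (map_mem_nonunits_iff (d.stalkMap c).hom a).2 ha
        have h2 := (map_mem_nonunits_iff (d.stalkMap c).hom _).1 (hb ▸ h1)
        exact (map_mem_nonunits_iff (g.stalkMap (d c)).hom b).1 h2
      have : mk a = mk ((g.stalkMap (d c)).hom b) := by
        rw [Ideal.Quotient.eq, hker, map_sub, sub_eq_zero]
        exact hb.symm
      rw [this]
      exact Ideal.mem_map_of_mem (mk.comp (g.stalkMap (d c)).hom) hb'
  have hlen : Module.length R (Cyc.LocQuot (d c) (d (genericPoint C)) h ⧸ J) = 1 := by
    rw [← (φ.quotKerEquivOfSurjective hsurj).length_eq, Module.length_eq_one_iff,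
      isSimpleModule_iff_isCoatom, hkφ]
    exact (IsLocalRing.maximalIdeal.isMaximal R).out
  unfold AlgEqCyc.fibreMult
  show (Module.length R (Cyc.LocQuot (d c) (d (genericPoint C)) h ⧸ J)).toNat = 1
  rw [hlen]
  rfl

theorem isElemAlgTriv_points {k : Type u} [Field k]
    (C : Scheme.{u}) [DecidableEq ↥C] (q : C ⟶ Spec (CommRingCat.of k)) (hs : Smooth q)
    (hp : Neron.IsProjectiveOver k (Over.mk q)) (hi : IsIntegral C) (hd : topologicalKrullDim ↥C = 1)
    (P₁ P₂ : Spec (CommRingCat.of k) ⟶ C) (h₁ : P₁ ≫ q = 𝟙 _) (h₂ : P₂ ≫ q = 𝟙 _) :
    AlgEqCyc.IsElemAlgTriv q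
      (Function.locallyFinsuppWithin.single (P₁ (IsLocalRing.closedPoint k)) (1 : ℤ) -
        Function.locallyFinsuppWithin.single (P₂ (IsLocalRing.closedPoint k)) (1 : ℤ)) := by
  haveI := hi
  haveI : IsSeparated q := by
    obtain ⟨n, i, hcl, hiq⟩ := hp
    haveI := hcl
    haveI := Groth.L16.ProjSpace.isProper_toBase n (Spec (CommRingCat.of k))
    exact (show i ≫ CohB1.ProjSpaceOver.toBase n (Spec (CommRingCat.of k)) = q from hiq) ▸ inferInstance
  let d : C ⟶ pullback q q := pullback.diagonal q
  have hd1 : d ≫ pullback.fst q q = 𝟙 C := pullback.diagonal_fst q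
  have hd2 : d ≫ pullback.snd q q = 𝟙 C := pullback.diagonal_snd q
  have hd1' : ∀ c, pullback.fst q q (d c) = c := fun c => by
    rw [← Scheme.Hom.comp_apply, hd1]; rfl
  have hd2' : ∀ c, pullback.snd q q (d c) = c := fun c => by
    rw [← Scheme.Hom.comp_apply, hd2]; rfl
  classical
  let W : AlgebraicCycle (pullback q q) ℤ := Function.locallyFinsuppWithin.single (d (genericPoint C)) 1
  have hW : ∀ w, W w = if w = d (genericPoint C) then 1 else 0 := fun w =>
    Function.locallyFinsuppWithin.single_apply
  refine ⟨C, q, hs, hp, hi, hd, W, ?_, P₁, P₂, h₁, h₂, ?_⟩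
  · intro w hw
    rw [hW] at hw
    split_ifs at hw with he
    · rw [he, hd2']; exact genericPoint_spec C
    · exact absurd rfl hw
  · have key : ∀ (t : Spec (CommRingCat.of k) ⟶ C) (ht : t ≫ q = 𝟙 _) (x : C),
        AlgEqCyc.fibreFun q q W t ht x = if x = t (IsLocalRing.closedPoint k) then 1 else 0 := by
      intro t ht x
      have hiff : d (genericPoint C) ⤳ AlgEqCyc.slice q q t ht x ↔ x = t (IsLocalRing.closedPoint k) := by
        constructor
        · intro h
          haveI : IsClosedImmersion d := inferInstanceAs (IsClosedImmersion (pullback.diagonal q))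
          obtain ⟨c, hc⟩ := h.mem_closed d.isClosedEmbedding.isClosed_range ⟨_, rfl⟩
          have e1 : pullback.fst q q (AlgEqCyc.slice q q t ht x) = x := by
            rw [← Scheme.Hom.comp_apply, AlgEqCyc.slice, pullback.lift_fst]; rfl
          have e2 : pullback.snd q q (AlgEqCyc.slice q q t ht x) = t (IsLocalRing.closedPoint k) := by
            rw [← Scheme.Hom.comp_apply, AlgEqCyc.slice, pullback.lift_snd, Scheme.Hom.comp_apply]
            congr 1
            exact Subsingleton.elim (α := PrimeSpectrum k) _ _
          rw [← hc, hd1'] at e1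
          rw [← hc, hd2'] at e2
          exact e1.symm.trans e2
        · rintro rfl
          have e : t ≫ AlgEqCyc.slice q q t ht = t ≫ d := by
            apply pullback.hom_ext
            · simp only [AlgEqCyc.slice, Category.assoc, pullback.lift_fst, hd1]
            · simp only [AlgEqCyc.slice, Category.assoc, pullback.lift_snd, hd2]
              rw [reassoc_of% ht, Category.comp_id]
          have := congr($e (IsLocalRing.closedPoint k))
          simp only [Scheme.Hom.comp_apply] at this
          rw [this]
          exact (genericPoint_specializes _).map d.continuous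
      unfold AlgEqCyc.fibreFun
      split_ifs with hx
      · haveI : Unique {w : ↥(pullback q q) // W w ≠ 0 ∧ w ⤳ AlgEqCyc.slice q q t ht x} :=
          { default := ⟨d (genericPoint C), by rw [hW, if_pos rfl]; exact one_ne_zero, hiff.2 hx⟩
            uniq := fun w => Subtype.ext (by
              have := w.2.1
              rw [hW] at this
              split_ifs at this with he
              · exact he
              · exact absurd rfl this) }
        rw [finsum_unique]
        rw [hW, if_pos (Classical.not_not.1 fun hh => by
          have := (default : {w : ↥(pullback q q) // W w ≠ 0 ∧ w ⤳ AlgEqCyc.slice q q t ht x}).2.1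
          rw [hW, if_neg hh] at this
          exact this rfl), one_mul]
        haveI : IsClosedImmersion d := inferInstanceAs (IsClosedImmersion (pullback.diagonal q))
        have hv : AlgEqCyc.slice q q t ht x = d x := by
          obtain ⟨c, hc⟩ := (hiff.2 hx).mem_closed d.isClosedEmbedding.isClosed_range ⟨_, rfl⟩
          have e1 : pullback.fst q q (AlgEqCyc.slice q q t ht x) = x := by
            rw [← Scheme.Hom.comp_apply, AlgEqCyc.slice, pullback.lift_fst]; rfl
          rw [← hc, hd1'] at e1
          rw [← hc, e1]
        have gen : ∀ (v w : ↥(pullback q q)) (_ : v = d x) (_ : w = d (genericPoint C)) (h : w ⤳ v),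
            (AlgEqCyc.fibreMult (pullback.snd q q) v w h : ℤ) = 1 := by
          rintro v w rfl rfl h
          rw [fibreMult_section d (pullback.snd q q) hd2 x h, Nat.cast_one]
        exact gen _ _ hv (Classical.not_not.1 fun hh => by
          have := (default : {w : ↥(pullback q q) // W w ≠ 0 ∧ w ⤳ AlgEqCyc.slice q q t ht x}).2.1
          rw [hW, if_neg hh] at this
          exact this rfl) _
      · haveI : IsEmpty {w : ↥(pullback q q) // W w ≠ 0 ∧ w ⤳ AlgEqCyc.slice q q t ht x} :=
          ⟨fun ⟨w, hw, hs⟩ => hx (hiff.1 (by
            rw [hW] at hw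
            split_ifs at hw with he
            · rwa [← he]
            · exact absurd rfl hw))⟩
        exact finsum_of_isEmpty _
    intro x
    rw [key, key]
    rw [Function.locallyFinsuppWithin.coe_sub, Pi.sub_apply, Function.locallyFinsuppWithin.single_apply,
      Function.locallyFinsuppWithin.single_apply]

end diagFamily

open AlgebraicGeometry CategoryTheory CategoryTheory.Limits


/-- Let C be a scheme over a field k that is smooth over k, projective over k, integral and of dimension
one, and let P₁, P₂ be two k-rational points of C. Then the zero-cycle [P₁] − [P₂] on C is an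
elementary algebraically trivial cycle: it is the difference of the members, at two k-rational
points, of a single family of cycles on C parametrised by a smooth projective integral curve over k,
every component of the family dominating the parameter curve. In particular [P₁] and [P₂] are
algebraically equivalent on C. (The published statement is over an algebraically closed field of
characteristic zero, where the points are closed points and algebraic equivalence is considered on
smooth projective schemes; this row allows any field, asks the two points to be k-rational and asks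
C to be projective over k.) -/
theorem result (k : Type u) [Field k]
    (C : Scheme.{u}) [DecidableEq ↥C] (q : C ⟶ Spec (CommRingCat.of k)) (hs : Smooth q)
    (hp : Neron.IsProjectiveOver k (Over.mk q)) (hi : IsIntegral C) (hd : topologicalKrullDim ↥C = 1)
    (P₁ P₂ : Spec (CommRingCat.of k) ⟶ C) (h₁ : P₁ ≫ q = 𝟙 _) (h₂ : P₂ ≫ q = 𝟙 _) :
    AlgEqCyc.IsElemAlgTriv q
      (Function.locallyFinsuppWithin.single (P₁ (IsLocalRing.closedPoint k)) (1 : ℤ) -
        Function.locallyFinsuppWithin.single (P₂ (IsLocalRing.closedPoint k)) (1 : ℤ)) := by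
  exact isElemAlgTriv_points C q hs hp hi hd P₁ P₂ h₁ h₂


end Groth.Agent.S15438
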