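import Groth.Statements.S15439
import Groth.Agent.L16.AlgEqC.Basic

set_option autoImplicit false
universe u
open AlgEqCyc

namespace Groth.Agent.S15439

open AlgebraicGeometry CategoryTheory CategoryTheory.Limits in
/-- Let k be an algebraically closed field, X a scheme over k and C₁, …, Cₙ finitely many closed
subschemes of X, given as closed immersions ιᵢ : Cᵢ → X over k, such that each Cᵢ is smooth over k,
projective over k, integral and of dimension one and such that the union of the ιᵢ(Cᵢ) is a
connected subset of X. Then for any two k-rational points P and Q of X lying on this union, the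
zero-cycles [P] and [Q] on X are algebraically equivalent: [P] − [Q] lies in the subgroup of cycles
on X generated by the elementary algebraically trivial ones. (The published statement speaks of a
connected curve whose irreducible components are smooth and integral and of two of its points,
inside an ambient smooth projective scheme over an algebraically closed field of characteristic
zero; this row takes any finite family of such curves with connected union in any k-scheme X, k
algebraically closed, and k-rational points.) -/
theorem result (k : Type u) [Field k]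
    [IsAlgClosed k] (X : Scheme.{u}) [DecidableEq ↥X] (p : X ⟶ Spec (CommRingCat.of k)) (n : ℕ)
    (C : Fin n → Scheme.{u}) (q : (i : Fin n) → (C i ⟶ Spec (CommRingCat.of k)))
    (ι : (i : Fin n) → (C i ⟶ X)) (hι : ∀ i, IsClosedImmersion (ι i)) (hq : ∀ i, ι i ≫ p = q i)
    (hs : ∀ i, Smooth (q i)) (hpr : ∀ i, Neron.IsProjectiveOver k (Over.mk (q i)))
    (hint : ∀ i, IsIntegral (C i)) (hd : ∀ i, topologicalKrullDim ↥(C i) = 1)
    (hconn : _root_.IsConnected (⋃ i, Set.range ⇑(ι i)))
    (P Q : Spec (CommRingCat.of k) ⟶ X) (hP : P ≫ p = 𝟙 _) (hQ : Q ≫ p = 𝟙 _)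
    (hPC : P (IsLocalRing.closedPoint k) ∈ ⋃ i, Set.range ⇑(ι i))
    (hQC : Q (IsLocalRing.closedPoint k) ∈ ⋃ i, Set.range ⇑(ι i)) :
    AlgEqCyc.IsAlgEquiv p (Function.locallyFinsuppWithin.single (P (IsLocalRing.closedPoint k)) (1 : ℤ))
      (Function.locallyFinsuppWithin.single (Q (IsLocalRing.closedPoint k)) (1 : ℤ)) := by
  exact Groth.L16.AlgEqC.isAlgEquiv_of_connected k X p n C q ι hι hq hs hpr hint hd hconn P Q hP hQ hPC hQC


end Groth.Agent.S15439
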