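import Groth.Statements.S1544
import Groth.Agent.Lead.GeomRedVariety
-- import your own Groth.Agent.* helpers here

set_option autoImplicit false
set_option backward.isDefEq.respectTransparency.types false
universe u
open CategoryTheory CategoryTheory.Limits AlgebraicGeometry
attribute [local instance] Curv2.resAlgebra Curv2.stalkAlgebra
open Variety

namespace Groth.Agent.S1544

/-- For an integral scheme over k, geometric reducedness of the scheme is equivalent to geometric
reducedness over k of the function field (the local ring at the generic point), i.e. a separable
extension of k in the sense of commutative algebra. The source states this for varieties;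
integrality is what the proof uses. -/
theorem result (k : Type u) [Field k] (X : Scheme.{u}) [X.Over (Spec (CommRingCat.of k))] [IsIntegral X] :
    GeometricallyReduced (X ↘ (Spec (CommRingCat.of k))) ↔ Algebra.IsGeometricallyReduced k X.functionField := by
  rw [← Groth.Lead.GeomRedVariety.isGeomReducedAt_iff_stalk (k := k) (genericPoint X)]
  refine ⟨fun _ => Groth.Lead.GeomRedVariety.forall_of_geometricallyReduced (X ↘ Spec (CommRingCat.of k)) _, fun h => ?_⟩
  refine Groth.Lead.GeomRedVariety.geometricallyReduced_of_generic _ fun η hη => ?_
  have := hη _ (genericPoint_specializes η)
  exact this ▸ h

end Groth.Agent.S1544
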