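import Groth.Statements.S15444
import Groth.Agent.L11.Weil.Geom

set_option autoImplicit false
universe u v
open CategoryTheory AlgebraicGeometry
open WeilCoh

namespace Groth.Agent.S15444

/-- For a Weil cohomology theory H^* (coefficients in K of characteristic zero, on nonsingular connected
projective varieties over an algebraically closed field k), such a variety X and a closed point x ∈
X, one has Tr_X(cl(x)) = 1. -/
theorem result (k : Type u) [Field k] [IsAlgClosed k] (K : Type v) [Field K] [CharZero K]
    (T : WeilCoh.Theory k K) (X : WeilCoh.Var k) (x : ↥X.obj.left)
    (hx : IsClosed ({x} : Set ↥X.obj.left)) : T.tr X (T.cl X x) = 1 := by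
  exact Groth.L11.Weil.tr_cl_closedPoint T X hx

end Groth.Agent.S15444
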