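import Groth.Statements.S15448
import Groth.Agent.L11.Weil.Geom

set_option autoImplicit false
universe u v
open CategoryTheory AlgebraicGeometry
open WeilCoh

namespace Groth.Agent.S15448

/-- For a Weil cohomology theory H^* (coefficients in K of characteristic zero, on nonsingular connected
projective varieties over an algebraically closed field k), a morphism f : X → Y of such varieties
and an irreducible closed subvariety Z ⊆ X, f_*(cl(Z)) = deg(Z/f(Z)) · cl(f(Z)). Here Z is given by
its generic point ξ, f(Z) is the closed irreducible subset with generic point f(ξ), and deg(Z/f(Z))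
is the degree of κ(ξ) over κ(f(ξ)), equal to 0 when this extension is infinite, i.e. when dim f(Z) <
dim Z; both sides are read in the total cohomology ring of Y. -/
theorem result (k : Type u) [Field k] [IsAlgClosed k] (K : Type v) [Field K] [CharZero K]
    (T : WeilCoh.Theory k K) (X Y : WeilCoh.Var k) (f : X ⟶ Y)
    (ξ : ↥X.obj.left) :
    (T.push f (2 * (WeilCoh.codim X.obj.left ξ : ℤ)) ⟨T.cl X ξ, T.cl_mem X ξ⟩ : T.H Y) =
      ((WeilCoh.sm f).residueDegree ξ : K) • T.cl Y (WeilCoh.sm f ξ) := by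
  have hX := Groth.L11.Weil.codim_add_pdim X ξ
  have hY := Groth.L11.Weil.codim_add_pdim Y (WeilCoh.sm f ξ)
  have hpush : ∀ b ∈ T.gr Y (2 * (WeilCoh.pdim X.obj.left ξ : ℤ)),
      T.tr Y ((T.push f (2 * (WeilCoh.codim X.obj.left ξ : ℤ)) ⟨T.cl X ξ, T.cl_mem X ξ⟩ : T.H Y) * b) =
        ((WeilCoh.sm f).residueDegree ξ : K) * T.tr Y (T.cl Y (WeilCoh.sm f ξ) * b) := fun b hb => by
    rw [Groth.L11.Weil.tr_push T f _ _ b (Groth.L11.Weil.mem_congr T (by simp only [Groth.L11.Weil.top]; omega) hb)]
    exact T.cl_push f ξ b hb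
  by_cases h0 : (WeilCoh.sm f).residueDegree ξ = 0
  · rw [h0, Nat.cast_zero, zero_smul]
    refine Groth.L11.Weil.eq_zero_of_tr T (m' := 2 * (WeilCoh.pdim X.obj.left ξ : ℤ))
      (by simp only [Groth.L11.Weil.top]; omega) (Subtype.coe_prop _) fun b hb => ?_
    rw [hpush b hb, h0, Nat.cast_zero, zero_mul]
  · have hp := Groth.L11.Weil.pdim_eq_of_residueDegree f ξ h0
    refine Groth.L11.Weil.eq_of_tr T (m' := 2 * (WeilCoh.pdim X.obj.left ξ : ℤ))
      (by simp only [Groth.L11.Weil.top]; omega) (Subtype.coe_prop _)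
      ((T.gr Y _).smul_mem _ (Groth.L11.Weil.mem_congr T (by omega) (T.cl_mem Y _))) fun b hb => ?_
    rw [hpush b hb, smul_mul_assoc, map_smul, smul_eq_mul]

end Groth.Agent.S15448
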