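import Groth.Statements.S15449
import Groth.Agent.L11.Weil.Basic

set_option autoImplicit false
universe u v
open CategoryTheory AlgebraicGeometry
open WeilCoh

namespace Groth.Agent.S15449

/-- For a Weil cohomology theory H^* (coefficients in K of characteristic zero, on nonsingular connected
projective varieties over an algebraically closed field k), such varieties X and Y with product X ×
Y and projections p, q, and α ∈ H^i(Y): p_*(q^*(α)) = Tr_Y(α) (as a multiple of 1 ∈ H^0(X)) if i = 2
dim Y, and p_*(q^*(α)) = 0 otherwise. The product is any object Q with morphisms p : Q → X, q : Q →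
Y forming a cartesian square over Spec k; both sides are read in the total cohomology ring of X. -/
theorem result (k : Type u) [Field k] [IsAlgClosed k] (K : Type v) [Field K] [CharZero K]
    (T : WeilCoh.Theory k K) (X Y Q : WeilCoh.Var k) (p : Q ⟶ X) (q : Q ⟶ Y)
    (hQ : WeilCoh.IsProd p q) (i : ℤ) (a : ↥(T.gr Y i)) :
    (i = 2 * (WeilCoh.dim Y.obj.left : ℤ) →
      (T.push p i ⟨T.pull q a, T.pull_mem q i a a.2⟩ : T.H X) = algebraMap K (T.H X) (T.tr Y a)) ∧
    (i ≠ 2 * (WeilCoh.dim Y.obj.left : ℤ) →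
      (T.push p i ⟨T.pull q a, T.pull_mem q i a a.2⟩ : T.H X) = 0) := by
  have htop := Groth.L11.Weil.top_prod T hQ
  simp only [Groth.L11.Weil.top] at htop
  set x : ↥(T.gr Q i) := ⟨T.pull q a, T.pull_mem q i a a.2⟩ with hxdef
  have key : ∀ b ∈ T.gr X (Groth.L11.Weil.top Q - i),
      T.tr X ((T.push p i x : T.H X) * b) = T.tr Q (T.pull q (a : T.H Y) * T.pull p b) :=
    fun b hb => Groth.L11.Weil.tr_push T p i x b hb
  refine ⟨fun hi => ?_, fun hi => ?_⟩
  · refine Groth.L11.Weil.eq_of_tr T (m' := Groth.L11.Weil.top Q - i) (by simp only [Groth.L11.Weil.top]; omega)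
      (Subtype.coe_prop _) (Groth.L11.Weil.mem_congr T (i := 0) (by omega) ?_) fun b hb => ?_
    · rw [Algebra.algebraMap_eq_smul_one]
      exact (T.gr X 0).smul_mem _ (SetLike.one_mem_graded (T.gr X))
    have hb' : b ∈ T.gr X (2 * (WeilCoh.dim X.obj.left : ℤ)) :=
      Groth.L11.Weil.mem_congr T (by simp only [Groth.L11.Weil.top]; omega) hb
    rw [key b hb, Groth.L11.Weil.comm_of_even T (T.pull_mem q i a a.2) (T.pull_mem p _ b hb) (hi ▸ even_two_mul _),
      T.tr_prod p q hQ b a hb' (hi ▸ a.2), Algebra.algebraMap_eq_smul_one, smul_mul_assoc, one_mul, map_smul,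
      smul_eq_mul, mul_comm]
  · refine Groth.L11.Weil.eq_zero_of_tr T (m' := Groth.L11.Weil.top Q - i) (by simp only [Groth.L11.Weil.top]; omega)
      (Subtype.coe_prop _) fun b hb => ?_
    rw [key b hb]
    rcases lt_or_gt_of_ne hi with hlt | hgt
    · rw [Groth.L11.Weil.eq_zero_of_vanish T (Or.inr (by simp only [Groth.L11.Weil.top]; omega)) hb, map_zero, mul_zero, map_zero]
    · rw [Groth.L11.Weil.eq_zero_of_vanish T (Or.inr hgt) a.2, map_zero, zero_mul, map_zero]

end Groth.Agent.S15449
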