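import Groth.Statements.S1545
import Groth.Agent.Lead.GeomRedVariety
-- import your own Groth.Agent.* helpers here

set_option autoImplicit false
set_option backward.isDefEq.respectTransparency.types false
universe u
open CategoryTheory CategoryTheory.Limits AlgebraicGeometry
open Variety

namespace Groth.Agent.S1545

/-- For a field extension k' of k, a point x of X and a point x' of X_{k'} over x, X is geometrically
reduced at x if and only if X_{k'} is geometrically reduced at x' (over k'). -/
theorem result (k : Type u) [Field k] (X : Scheme.{u}) [X.Over (Spec (CommRingCat.of k))] (k' : Type u) [Field k'] [Algebra k k']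
    (x : X) (x' : Curv2.bc k X k') (hx : Curv2.bcFst k X k' x' = x) :
    Curv2.IsGeomReducedAt k X x ↔
      @Curv2.IsGeomReducedAt k' _ (Curv2.bc k X k') ⟨Curv2.bcSnd k X k'⟩ x' := by
  letI : (Curv2.bc k X k').Over (Spec (CommRingCat.of k')) := ⟨Curv2.bcSnd k X k'⟩
  subst hx
  refine ⟨fun h => ?_, fun h => ?_⟩
  · exact Groth.Lead.GeomRedVariety.geomRed_ascend (X ↘ Spec (CommRingCat.of k)) (Curv2.bcSnd k X k')
      (Curv2.bcFst k X k') (IsPullback.of_hasPullback _ _) x' h
  · exact Groth.L07.SectionComp.geomRed_descend (X ↘ Spec (CommRingCat.of k)) (Curv2.bcSnd k X k')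
      (Curv2.bcFst k X k') (IsPullback.of_hasPullback _ _) x' h

end Groth.Agent.S1545
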