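import Groth.Statements.S15450
import Groth.Agent.L11.Weil.Trace

set_option autoImplicit false
universe u v
open CategoryTheory AlgebraicGeometry
open WeilCoh

namespace Groth.Agent.S15450

/-- Let H^* be a Weil cohomology theory (coefficients in K of characteristic zero, on nonsingular
connected projective varieties over an algebraically closed field k), φ an endomorphism of such a
variety X, and Γ_φ, Δ ⊂ X × X the graph of φ and the diagonal. Then (Γ_φ · Δ) = Σ_{i=0}^{2 dim X}
(−1)^i trace(φ^* | H^i(X)). The intersection number is written in the form Tr_{X×X}(cl(Γ_φ) ∪ cl(Δ))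
that the argument establishes (it equals the Chow-ring intersection number once the cycle class map
is known to be a ring homomorphism compatible with degrees); X × X is any object P with a cartesian
square p, q : P → X over Spec k, Γ_φ and Δ are the closures of the images of the generic point of X
under the sections j = (id, φ) and d = (id, id) of p. -/
theorem result (k : Type u) [Field k] [IsAlgClosed k] (K : Type v) [Field K] [CharZero K]
    (T : WeilCoh.Theory k K)
    (X P : WeilCoh.Var k) [IrreducibleSpace ↥X.obj.left] (φ : X ⟶ X)
    (p q : P ⟶ X) (hP : WeilCoh.IsProd p q) (j d : X ⟶ P)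
    (hjp : j ≫ p = 𝟙 X) (hjq : j ≫ q = φ) (hdp : d ≫ p = 𝟙 X) (hdq : d ≫ q = 𝟙 X) :
    T.tr P (T.cl P (WeilCoh.sm j (genericPoint ↥X.obj.left)) * T.cl P (WeilCoh.sm d (genericPoint ↥X.obj.left))) =
      ∑ i ∈ Finset.range (2 * WeilCoh.dim X.obj.left + 1),
        (-1 : K) ^ i * LinearMap.trace K ↥(T.gr X (i : ℤ)) (T.pullDeg φ (i : ℤ)) := by
  exact Groth.L11.Weil.lefschetz T φ hP j hjp hjq d hdp hdq

end Groth.Agent.S15450
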