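import Groth.Statements.S15453
import Groth.Agent.L11.Weil.ZetaFun

set_option autoImplicit false
universe u v
open CategoryTheory AlgebraicGeometry
open WeilCoh

namespace Groth.Agent.S15453

/-- Let k₀ be a finite field with q elements, k an algebraically closed field containing k₀, H^* a Weil
cohomology theory, with coefficient field K of characteristic zero, on nonsingular connected
projective varieties over k, X a scheme of finite type over k₀ whose base change X̄ = X ×_{k₀} k is
such a variety (as it is when X is nonsingular, projective and geometrically connected), and F =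
Frob_{X,q} × id the k-endomorphism of X̄ induced by the q-Frobenius of X. Then Z(X, t) ∈ ℚ(t): there
are polynomials P, Q ∈ ℚ[t], Q ≠ 0, with Z(X, t) · Q(t) = P(t) in ℚ⟦t⟧. (The existence of the Weil
cohomology theory is the hypothesis; F and the product square enter only to fix the setting of the
cohomological proof.) The q-Frobenius of X is pinned as the endomorphism that is the identity on
points and the q-th power on sections, X̄ as a cartesian square over Spec k → Spec k₀, and F by its
compatibility with the projection to X; the product X̄ ×_k X̄, on which the proof applies the trace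
formula, is given as any object of the category with a cartesian square p, q to X̄ over Spec k. (The
published statement takes k to be an algebraic closure of the prime field; this row allows any
algebraically closed field containing k₀.) -/
theorem result (k₀ : Type u) [Field k₀] [Finite k₀] (k : Type u) [Field k] [IsAlgClosed k] [Algebra k₀ k]
    (K : Type v) [Field K] [CharZero K] (T : WeilCoh.Theory k K)
    {X : Scheme.{u}} (f : X ⟶ Spec (CommRingCat.of k₀)) [LocallyOfFiniteType f] [QuasiCompact f]
    (FX : X ⟶ X) (hFb : FX.base = 𝟙 _) (hle : ∀ U : X.Opens, U ≤ FX ⁻¹ᵁ U)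
    (hFapp : ∀ (U : X.Opens) (s : Γ(X, U)), (FX.appLE U U (hle U)).hom s = s ^ Nat.card k₀)
    (Xb : WeilCoh.Var k) (π : Xb.obj.left ⟶ X)
    (hπ : IsPullback π Xb.obj.hom f (Spec.map (CommRingCat.ofHom (algebraMap k₀ k))))
    (F : Xb ⟶ Xb) (hF : WeilCoh.sm F ≫ π = π ≫ FX)
    (Pb : WeilCoh.Var k) (p q : Pb ⟶ Xb) (hP : WeilCoh.IsProd p q) :
    ∃ P Q : Polynomial ℚ, Q ≠ 0 ∧ Zeta.zetaFun f * (Q : PowerSeries ℚ) = (P : PowerSeries ℚ) := by
  have h := Groth.L11.Weil.zetaFun_eq f T F fun m hm =>
    Groth.L11.Weil.nPts_eq_trace f T FX hFb hle hFapp Xb π hπ F hF Pb p q hP hm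
  simp only [← Polynomial.coeToPowerSeries.ringHom_apply, ← map_prod] at h
  simp only [Polynomial.coeToPowerSeries.ringHom_apply] at h
  refine Groth.L11.Weil.rational_of_map _ _ _ (Finset.prod_ne_zero_iff.mpr fun i _ => ?_) h
  rw [Ne, Polynomial.reverse_eq_zero]
  exact (LinearMap.charpoly_monic _).ne_zero

end Groth.Agent.S15453
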