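import Groth.Statements.S15458
import Groth.Agent.L11.Weil.Cycles

set_option autoImplicit false
universe u v
open CategoryTheory AlgebraicGeometry
open WeilCoh

namespace Groth.Agent.S15458

/-- The cycle class map is compatible with push-forward: for a Weil cohomology theory H^* (coefficients
in K of characteristic zero, on nonsingular connected projective varieties over an algebraically
closed field k), a morphism f : X → Y of such varieties and a cycle α on X, f_*(cl(α)) = cl(f_*(α)).
Stated through the identity characterising the cohomological push-forward: Tr_Y(cl(f_* α) ∪ β) =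
Tr_X(cl(α) ∪ f^*(β)) for every β ∈ H^*(Y), where f_* α is the proper push-forward of cycles (the
coefficient of [V] goes to deg(V/f(V)) [f(V)], and to 0 when f(V) has smaller dimension) for the
dimension functions δ_X, δ_Y induced from weight 0 on Spec k. -/
theorem result (k : Type u) [Field k] [IsAlgClosed k] (K : Type v) [Field K] [CharZero K]
    (T : WeilCoh.Theory k K) (X Y : WeilCoh.Var k) (f : X ⟶ Y)
    [QuasiCompact (WeilCoh.sm f)]
    (δX : ↥X.obj.left → ℤ) (hδX : Cyc.DeltaCompat X.obj.hom δX (fun _ => 0))
    (δY : ↥Y.obj.left → ℤ) (hδY : Cyc.DeltaCompat Y.obj.hom δY (fun _ => 0))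
    (α : AlgebraicCycle X.obj.left ℤ) (b : T.H Y) :
    T.tr Y (T.clCyc Y (AlgebraicCycle.map (WeilCoh.sm f) δX δY α) * b) =
      T.tr X (T.clCyc X α * T.pull f b) := by
  exact Groth.L11.Weil.tr_clCyc_map T f (Groth.L11.Weil.delta_eq_pdim hδX) (Groth.L11.Weil.delta_eq_pdim hδY) α b

end Groth.Agent.S15458
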