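
import Groth.Statements.S1546
import Groth.Agent.L22.GeomConn.Irred

set_option autoImplicit false
universe u
open CategoryTheory CategoryTheory.Limits AlgebraicGeometry
open Variety

namespace Groth.Agent.S1546

/-- For a field extension K of k and a scheme X over k, the image in X of an irreducible component of
X_K is an irreducible component of X, and every irreducible component of X is such an image. -/
theorem result (k : Type u) [Field k] (X : Scheme.{u}) [X.Over (Spec (CommRingCat.of k))] (K : Type u) [Field K] [Algebra k K] :
    (∀ T ∈ irreducibleComponents (Curv2.bc k X K : Type u), (Curv2.bcFst k X K).base '' T ∈ irreducibleComponents (X : Type u)) ∧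
    (∀ Z ∈ irreducibleComponents (X : Type u), ∃ T ∈ irreducibleComponents (Curv2.bc k X K : Type u), (Curv2.bcFst k X K).base '' T = Z) := by
  refine ⟨fun T hT => Groth.L22.GeomConn.image_irreducibleComponent (X ↘ Spec (CommRingCat.of k)) K hT, fun Z hZ => ?_⟩
  obtain ⟨w, hw⟩ := (FBase.bcπ (X ↘ Spec (CommRingCat.of k)) K).surjective hZ.1.genericPoint
  obtain ⟨T, hT, -, hTZ⟩ := Groth.L22.GeomConn.exists_component_over (X ↘ Spec (CommRingCat.of k)) K hZ w
    (hw ▸ (hZ.1.isGenericPoint_genericPoint (isClosed_of_mem_irreducibleComponents _ hZ)).mem)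
  exact ⟨T, hT, hTZ⟩

end Groth.Agent.S1546
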