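import Groth.Statements.S15464
import Groth.Agent.L11.Weil.Trace

set_option autoImplicit false
universe u v
open CategoryTheory AlgebraicGeometry
open WeilCoh

namespace Groth.Agent.S15464

/-- Let H be a Weil cohomology theory with coefficients in a field K of characteristic zero on
nonsingular connected projective varieties over an algebraically closed field k, f : X → Y a
morphism of such varieties, P = X × Y with its projections p to X and q to Y, and j : X → P the
graph of f (the section of p with q ∘ j = f). Then for every cohomology class β on Y, homogeneous of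
degree i, one has f^*(β) = p_*(cl(Γ_f) · q^*(β)) in H(X), where cl(Γ_f) is the class of the graph,
the closed irreducible subset of P with generic point j(η_X), and p_* is the push-forward (Gysin
map) along p. Push-forward is taken degree by degree, on the homogeneous component of degree 2
codim_P(Γ_f) + i containing cl(Γ_f) · q^*(β); the identity is stated in the total cohomology ring of
X, and the case of an inhomogeneous β follows by additivity. -/
theorem result (k : Type u) [Field k] [IsAlgClosed k]
    (K : Type v) [Field K] [CharZero K] (T : WeilCoh.Theory k K) (X Y P : WeilCoh.Var k)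
    [IrreducibleSpace ↥X.obj.left] (f : X ⟶ Y) (p : P ⟶ X) (q : P ⟶ Y)
    (hP : WeilCoh.IsProd p q) (j : X ⟶ P) (hjp : j ≫ p = 𝟙 X) (hjq : j ≫ q = f)
    (i : ℤ) (β : ↥(T.gr Y i)) :
    (T.push p (2 * (WeilCoh.codim P.obj.left (WeilCoh.sm j (genericPoint ↥X.obj.left)) : ℤ) + i)
        ⟨T.cl P (WeilCoh.sm j (genericPoint ↥X.obj.left)) * T.pull q (β : T.H Y),
          SetLike.mul_mem_graded (T.cl_mem P (WeilCoh.sm j (genericPoint ↥X.obj.left)))
            (T.pull_mem q i β β.2)⟩ : T.H X) = T.pull f (β : T.H Y) := by
  have hg := Groth.L11.Weil.codim_add_pdim P (WeilCoh.sm j (genericPoint ↥X.obj.left))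
  rw [Groth.L11.Weil.pdim_section j p hjp, Groth.L11.Weil.pdim_genericPoint] at hg
  have ht := Groth.L11.Weil.top_prod T hP
  simp only [Groth.L11.Weil.top] at ht
  refine Groth.L11.Weil.eq_of_tr T (m' := Groth.L11.Weil.top X - i) (by simp only [Groth.L11.Weil.top]; omega)
    (Subtype.coe_prop _) (Groth.L11.Weil.mem_congr T (by omega) (T.pull_mem f i _ β.2)) fun b hb => ?_
  rw [Groth.L11.Weil.tr_push T p _ _ b (Groth.L11.Weil.mem_congr T (by simp only [Groth.L11.Weil.top]; omega) hb),
    mul_assoc]
  have h := T.cl_push j (genericPoint ↥X.obj.left) (T.pull q (β : T.H Y) * T.pull p b)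
    (by
      rw [Groth.L11.Weil.pdim_genericPoint]
      exact Groth.L11.Weil.mem_congr T (by simp only [Groth.L11.Weil.top]; omega)
        (Groth.L11.Weil.mul_mem T (T.pull_mem q _ _ β.2) (T.pull_mem p _ b hb)))
  rw [Groth.L11.Weil.cl_genericPoint, one_mul, Groth.L11.Weil.residueDegree_section j p hjp, Nat.cast_one, one_mul,
    map_mul, ← AlgHom.comp_apply, ← AlgHom.comp_apply (T.pull j), ← T.pull_comp, ← T.pull_comp, hjp, hjq, T.pull_id] at h
  exact h.symm

end Groth.Agent.S15464
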