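import Groth.Statements.S15465
import Mathlib.CategoryTheory.Abelian.Refinements

set_option autoImplicit false
universe v u
open HomAlg

namespace Groth.Agent.S15465

open CategoryTheory CategoryTheory.Limits in
/-- In an abelian category let 0 → A₂ → B₂ → C₂ → 0 (maps i₂, π₂), 0 → A₁ → A₂ → A₃ → 0 (maps i₁, p₁)
and 0 → C₁ → C₂ → C₃ → 0 (maps j, q) be short exact sequences, let α = i₁ ≫ i₂ : A₁ → B₂ and β = π₂
≫ q : B₂ → C₃, and let K = ker β / im α be the homology object of the complex A₁ → B₂ → C₃. Let f :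
A₃ → K be the map induced by i₂ (the unique map whose composite with p₁ is the homology class of the
cycle i₂) and g : K → C₁ the map induced by π₂ (the unique map whose composite with j is the map K →
C₂ induced by π₂). Then 0 → A₃ → K → C₁ → 0, with maps f and g, is a short exact sequence. (The
hypotheses w, h₂, h₃ are consequences of i₂ ≫ π₂ = 0, carried so that the maps can be named; the
published statement assumes in addition that the category has enough injective objects, which plays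
no role in this assertion.) -/
theorem result
    {C : Type u} [Category.{v} C] [Abelian C] {A₁ A₂ A₃ B₂ C₁ C₂ C₃ : C}
    (i₁ : A₁ ⟶ A₂) (p₁ : A₂ ⟶ A₃) (wA : i₁ ≫ p₁ = 0) (hA : (ShortComplex.mk i₁ p₁ wA).ShortExact)
    (i₂ : A₂ ⟶ B₂) (π₂ : B₂ ⟶ C₂) (wB : i₂ ≫ π₂ = 0) (hB : (ShortComplex.mk i₂ π₂ wB).ShortExact)
    (j : C₁ ⟶ C₂) (q : C₂ ⟶ C₃) (wC : j ≫ q = 0) (hC : (ShortComplex.mk j q wC).ShortExact)
    (w : (i₁ ≫ i₂) ≫ (π₂ ≫ q) = 0) (h₂ : i₂ ≫ (π₂ ≫ q) = 0) (h₃ : (i₁ ≫ i₂) ≫ π₂ = 0)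
    (f : A₃ ⟶ (CategoryTheory.ShortComplex.mk (i₁ ≫ i₂) (π₂ ≫ q) w).homology)
    (g : (CategoryTheory.ShortComplex.mk (i₁ ≫ i₂) (π₂ ≫ q) w).homology ⟶ C₁)
    (hf : p₁ ≫ f = (CategoryTheory.ShortComplex.mk (i₁ ≫ i₂) (π₂ ≫ q) w).liftCycles i₂ h₂ ≫ (CategoryTheory.ShortComplex.mk (i₁ ≫ i₂) (π₂ ≫ q) w).homologyπ)
    (hg : g ≫ j = (CategoryTheory.ShortComplex.mk (i₁ ≫ i₂) (π₂ ≫ q) w).homologyι ≫ (CategoryTheory.ShortComplex.mk (i₁ ≫ i₂) (π₂ ≫ q) w).descOpcycles π₂ h₃) :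
    ∃ wfg : f ≫ g = 0, (ShortComplex.mk f g wfg).ShortExact := by
  open CategoryTheory CategoryTheory.Limits in
  haveI := hA.mono_f
  haveI := hA.epi_g
  haveI := hB.mono_f
  haveI := hB.epi_g
  haveI := hC.mono_f
  have hlg : ∀ {T : C} (z : T ⟶ B₂) (hz : z ≫ π₂ ≫ q = 0),
      (ShortComplex.mk (i₁ ≫ i₂) (π₂ ≫ q) w).liftCycles z hz ≫ (ShortComplex.mk (i₁ ≫ i₂) (π₂ ≫ q) w).homologyπ ≫ g ≫ j = z ≫ π₂ := by
    intro T z hz
    rw [hg, ShortComplex.homology_π_ι_assoc, ShortComplex.liftCycles_i_assoc, ShortComplex.p_descOpcycles]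
  have wfg : f ≫ g = 0 := by
    rw [← cancel_mono j, ← cancel_epi p₁, Category.assoc, reassoc_of% hf, hlg i₂ h₂, wB]
    simp
  haveI : Mono f := by
    refine Preadditive.mono_of_cancel_zero _ fun {T} x hx => ?_
    obtain ⟨T1, p, hp, x1, hx1⟩ := surjective_up_to_refinements_of_epi p₁ x
    have h0 : x1 ≫ (ShortComplex.mk (i₁ ≫ i₂) (π₂ ≫ q) w).liftCycles i₂ h₂ ≫ (ShortComplex.mk (i₁ ≫ i₂) (π₂ ≫ q) w).homologyπ = 0 := by
      rw [← hf, ← reassoc_of% hx1, hx, comp_zero]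
    rw [ShortComplex.comp_liftCycles_assoc, ShortComplex.liftCycles_comp_homologyπ_eq_zero_iff_up_to_refinements] at h0
    obtain ⟨T2, r, hr, y, hy⟩ := h0
    have hy' : r ≫ x1 = y ≫ i₁ := by
      rw [← cancel_mono i₂]
      simpa using hy
    have : (r ≫ p) ≫ x = 0 := by
      rw [Category.assoc, hx1, reassoc_of% hy', wA, comp_zero]
    exact (cancel_epi (r ≫ p)).1 (this.trans comp_zero.symm)
  haveI : Epi g := by
    rw [epi_iff_surjective_up_to_refinements]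
    intro T x
    obtain ⟨T1, p, hp, z, hz⟩ := surjective_up_to_refinements_of_epi π₂ (x ≫ j)
    have hzc : z ≫ π₂ ≫ q = 0 := by
      rw [← reassoc_of% hz, wC, comp_zero, comp_zero]
    refine ⟨T1, p, hp, (ShortComplex.mk (i₁ ≫ i₂) (π₂ ≫ q) w).liftCycles z hzc ≫ (ShortComplex.mk (i₁ ≫ i₂) (π₂ ≫ q) w).homologyπ, ?_⟩
    rw [← cancel_mono j, Category.assoc, Category.assoc, Category.assoc, hlg z hzc, ← hz]
  refine ⟨wfg, { exact := ?_ }⟩
  rw [ShortComplex.exact_iff_exact_up_to_refinements]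
  intro T x hx
  obtain ⟨T1, p, hp, z, hzc, hz⟩ := (ShortComplex.mk (i₁ ≫ i₂) (π₂ ≫ q) w).eq_liftCycles_homologyπ_up_to_refinements x
  have h0 : z ≫ π₂ = 0 := by
    have h := hlg z hzc
    rw [← reassoc_of% hz] at h
    simp only at hx
    rw [reassoc_of% hx, zero_comp, comp_zero] at h
    exact h.symm
  obtain ⟨T2, r, hr, y, hy⟩ := hB.exact.exact_up_to_refinements z h0
  simp only at hy
  refine ⟨T2, r ≫ p, inferInstance, y ≫ p₁, ?_⟩
  rw [Category.assoc, Category.assoc, hz, hf, ShortComplex.comp_liftCycles_assoc, ShortComplex.comp_liftCycles_assoc]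
  congr 1
  simp [← cancel_mono (ShortComplex.mk (i₁ ≫ i₂) (π₂ ≫ q) w).iCycles, hy]

end Groth.Agent.S15465
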