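import Groth.Statements.S15466
import Mathlib.CategoryTheory.Abelian.Refinements
import Mathlib.CategoryTheory.Subobject.Limits

set_option autoImplicit false
universe v u
open HomAlg

namespace Groth.Agent.S15466

open CategoryTheory CategoryTheory.Limits in
theorem subobject_of_section {C : Type u} [Category.{v} C] [Abelian C] {Z K Y B : C}
    (π : Z ⟶ K) (i : Z ⟶ B) [Mono i] (s : Y ⟶ K) [Mono s] :
    (Subobject.map i).obj ((Subobject.pullback π).obj (imageSubobject s)) =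
      Subobject.mk (pullback.fst π s ≫ i) := by
  rw [imageSubobject_mono, Subobject.pullback_obj_mk (IsPullback.of_hasPullback π s).flip,
    Subobject.map_mk]

open CategoryTheory CategoryTheory.Limits in
/-- In an abelian category let 0 → A₂ → B₂ → C₂ → 0 (maps i₂, π₂), 0 → A₁ → A₂ → A₃ → 0 (maps i₁, p₁)
and 0 → C₁ → C₂ → C₃ → 0 (maps j, q) be short exact sequences, α = i₁ ≫ i₂, β = π₂ ≫ q, K = ker β /
im α, and let f : A₃ → K and g : K → C₁ be the maps induced by i₂ and π₂ (pinned by their defining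
squares), so that 0 → A₃ → K → C₁ → 0 is short exact. Sending a section s of g to the subobject B₁
of B₂ obtained by pulling the image of s back along ker β → K and then including ker β into B₂ is a
bijection from the sections of g (equivalently, the splittings of that sequence) onto the subobjects
B₁ of B₂ that complete the data to a 3 × 3 diagram with exact rows and columns: there are maps A₁ →
B₁ → C₁ over i₁ ≫ i₂ and under π₂ forming a short exact sequence, and maps A₃ → B₂/B₁ → C₃ under i₂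
and over π₂ ≫ q forming a short exact sequence. (The hypotheses w, h₂, h₃ are consequences of i₂ ≫
π₂ = 0, carried so that the maps can be named; the published statement assumes in addition that the
category has enough injective objects, which plays no role here.) -/
theorem result
    {C : Type u} [Category.{v} C] [Abelian C] {A₁ A₂ A₃ B₂ C₁ C₂ C₃ : C}
    (i₁ : A₁ ⟶ A₂) (p₁ : A₂ ⟶ A₃) (wA : i₁ ≫ p₁ = 0) (hA : (ShortComplex.mk i₁ p₁ wA).ShortExact)
    (i₂ : A₂ ⟶ B₂) (π₂ : B₂ ⟶ C₂) (wB : i₂ ≫ π₂ = 0) (hB : (ShortComplex.mk i₂ π₂ wB).ShortExact)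
    (j : C₁ ⟶ C₂) (q : C₂ ⟶ C₃) (wC : j ≫ q = 0) (hC : (ShortComplex.mk j q wC).ShortExact)
    (w : (i₁ ≫ i₂) ≫ (π₂ ≫ q) = 0) (h₂ : i₂ ≫ (π₂ ≫ q) = 0) (h₃ : (i₁ ≫ i₂) ≫ π₂ = 0)
    (f : A₃ ⟶ (CategoryTheory.ShortComplex.mk (i₁ ≫ i₂) (π₂ ≫ q) w).homology)
    (g : (CategoryTheory.ShortComplex.mk (i₁ ≫ i₂) (π₂ ≫ q) w).homology ⟶ C₁)
    (hf : p₁ ≫ f = (CategoryTheory.ShortComplex.mk (i₁ ≫ i₂) (π₂ ≫ q) w).liftCycles i₂ h₂ ≫ (CategoryTheory.ShortComplex.mk (i₁ ≫ i₂) (π₂ ≫ q) w).homologyπ)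
    (hg : g ≫ j = (CategoryTheory.ShortComplex.mk (i₁ ≫ i₂) (π₂ ≫ q) w).homologyι ≫ (CategoryTheory.ShortComplex.mk (i₁ ≫ i₂) (π₂ ≫ q) w).descOpcycles π₂ h₃) :
    (∀ B₁ : Subobject B₂,
      (∃ (a : A₁ ⟶ (B₁ : C)) (c : (B₁ : C) ⟶ C₁) (wac : a ≫ c = 0)
         (a' : A₃ ⟶ cokernel B₁.arrow) (c' : cokernel B₁.arrow ⟶ C₃) (wac' : a' ≫ c' = 0),
         a ≫ B₁.arrow = i₁ ≫ i₂ ∧ c ≫ j = B₁.arrow ≫ π₂ ∧ (ShortComplex.mk a c wac).ShortExact ∧
         p₁ ≫ a' = i₂ ≫ cokernel.π B₁.arrow ∧ cokernel.π B₁.arrow ≫ c' = π₂ ≫ q ∧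
         (ShortComplex.mk a' c' wac').ShortExact) ↔
      ∃ s : C₁ ⟶ (CategoryTheory.ShortComplex.mk (i₁ ≫ i₂) (π₂ ≫ q) w).homology, s ≫ g = 𝟙 C₁ ∧
        (Subobject.map (CategoryTheory.ShortComplex.mk (i₁ ≫ i₂) (π₂ ≫ q) w).iCycles).obj ((Subobject.pullback (CategoryTheory.ShortComplex.mk (i₁ ≫ i₂) (π₂ ≫ q) w).homologyπ).obj (imageSubobject s)) = B₁) ∧
    (∀ s s' : C₁ ⟶ (CategoryTheory.ShortComplex.mk (i₁ ≫ i₂) (π₂ ≫ q) w).homology, s ≫ g = 𝟙 C₁ → s' ≫ g = 𝟙 C₁ →
      (Subobject.map (CategoryTheory.ShortComplex.mk (i₁ ≫ i₂) (π₂ ≫ q) w).iCycles).obj ((Subobject.pullback (CategoryTheory.ShortComplex.mk (i₁ ≫ i₂) (π₂ ≫ q) w).homologyπ).obj (imageSubobject s)) = (Subobject.map (CategoryTheory.ShortComplex.mk (i₁ ≫ i₂) (π₂ ≫ q) w).iCycles).obj ((Subobject.pullback (CategoryTheory.ShortComplex.mk (i₁ ≫ i₂) (π₂ ≫ q) w).homologyπ).obj (imageSubobject s')) → s = s') := by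
  let S := ShortComplex.mk (i₁ ≫ i₂) (π₂ ≫ q) w
  have : Mono i₁ := hA.mono_f
  have : Epi p₁ := hA.epi_g
  have : Mono i₂ := hB.mono_f
  have : Epi π₂ := hB.epi_g
  have : Mono j := hC.mono_f
  have : Epi q := hC.epi_g
  have hπg : S.homologyπ ≫ g ≫ j = S.iCycles ≫ π₂ := by
    rw [hg, S.homology_π_ι_assoc, S.p_descOpcycles]
  have htc : S.toCycles ≫ S.homologyπ = 0 := S.toCycles_comp_homologyπ
  refine ⟨fun B₁ => ⟨?_, ?_⟩, ?_⟩
  · rintro ⟨a, c, wac, a', c', wac', ha, hc, hac, ha', hc', hac'⟩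
    have : Epi c := hac.epi_g
    have hb : B₁.arrow ≫ π₂ ≫ q = 0 := by rw [← Category.assoc, ← hc, Category.assoc, wC, comp_zero]
    let bz : (B₁ : C) ⟶ S.cycles := S.liftCycles B₁.arrow hb
    have hbz : bz ≫ S.iCycles = B₁.arrow := S.liftCycles_i _ _
    have hab : a ≫ bz = S.toCycles := by
      rw [← cancel_mono S.iCycles, Category.assoc, hbz, S.toCycles_i, ha]
    have ha0 : a ≫ bz ≫ S.homologyπ = 0 := by rw [← Category.assoc, hab, htc]
    let s : C₁ ⟶ S.homology := hac.exact.desc (bz ≫ S.homologyπ) ha0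
    have hs : c ≫ s = bz ≫ S.homologyπ := hac.exact.g_desc _ _
    have hsg : s ≫ g = 𝟙 C₁ := by
      rw [← cancel_epi c, ← cancel_mono j, Category.comp_id, ← Category.assoc, hs, Category.assoc,
        Category.assoc, hπg, ← Category.assoc, hbz, hc]
    have : IsSplitMono s := ⟨⟨⟨g, hsg⟩⟩⟩
    refine ⟨s, hsg, ?_⟩
    rw [subobject_of_section S.homologyπ S.iCycles s]
    refine le_antisymm ?_ (Subobject.le_mk_of_comm (pullback.lift bz c hs.symm)
      (by rw [pullback.lift_fst_assoc]; exact hbz))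
    have : Mono bz := mono_of_mono_fac hbz
    obtain ⟨l, hl⟩ : ∃ l, l ≫ bz = pullback.fst S.homologyπ s := by
      refine ⟨Abelian.monoLift bz _ ?_, Abelian.monoLift_comp _ _ _⟩
      obtain ⟨T₁, e₁, _, x, hx⟩ := surjective_up_to_refinements_of_epi c (pullback.snd S.homologyπ s)
      have h0 : (e₁ ≫ pullback.fst S.homologyπ s - x ≫ bz) ≫ S.homologyπ = 0 := by
        rw [Preadditive.sub_comp, Category.assoc, Category.assoc, pullback.condition, ← hs,
          reassoc_of% hx, sub_self]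
      obtain ⟨T₂, e₂, _, y, hy⟩ := (S.comp_homologyπ_eq_zero_iff_up_to_refinements _).1 h0
      have e : e₂ ≫ e₁ ≫ pullback.fst S.homologyπ s = (y ≫ a + e₂ ≫ x) ≫ bz := by
        rw [Preadditive.add_comp, Category.assoc, hab, ← hy, Category.assoc, Preadditive.comp_sub,
          sub_add_cancel]
      rw [← cancel_epi e₁, ← cancel_epi e₂, reassoc_of% e, cokernel.condition]
      simp
    exact Subobject.mk_le_of_comm l (by rw [← hbz, reassoc_of% hl])
  · rintro ⟨s, hsg, rfl⟩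
    have : IsSplitMono s := ⟨⟨⟨g, hsg⟩⟩⟩
    have hP : pullback.snd S.homologyπ s ≫ j = pullback.fst S.homologyπ s ≫ S.iCycles ≫ π₂ := by
      rw [← hπg, pullback.condition_assoc, reassoc_of% hsg]
    rw [subobject_of_section S.homologyπ S.iCycles s]
    let D := Subobject.mk (pullback.fst S.homologyπ s ≫ S.iCycles)
    let e : (D : C) ≅ pullback S.homologyπ s := Subobject.underlyingIso _
    have he : D.arrow = e.hom ≫ pullback.fst S.homologyπ s ≫ S.iCycles :=
      (Subobject.underlyingIso_hom_comp_eq_mk _).symm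
    let a : A₁ ⟶ (D : C) := pullback.lift S.toCycles 0 (by rw [htc, zero_comp]) ≫ e.inv
    let c : (D : C) ⟶ C₁ := e.hom ≫ pullback.snd S.homologyπ s
    have ha : a ≫ D.arrow = i₁ ≫ i₂ := by
      simp only [a, he, Category.assoc, Iso.inv_hom_id_assoc, pullback.lift_fst_assoc]
      exact S.toCycles_i
    have hc : c ≫ j = D.arrow ≫ π₂ := by
      simp only [c, he, Category.assoc, hP]
    have wac : a ≫ c = 0 := by
      simp only [a, c, Category.assoc, Iso.inv_hom_id_assoc]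
      exact pullback.lift_snd _ _ _
    have hma : Mono a := mono_of_mono_fac ha
    have hec : Epi c := epi_comp _ _
    have hexac : (ShortComplex.mk a c wac).Exact := by
      rw [ShortComplex.exact_iff_exact_up_to_refinements]
      intro T (x : T ⟶ (D : C)) (hx : x ≫ c = 0)
      have hx' : (x ≫ e.hom) ≫ pullback.snd S.homologyπ s = 0 := by rw [Category.assoc]; exact hx
      have h0 : (x ≫ e.hom ≫ pullback.fst S.homologyπ s) ≫ S.homologyπ = 0 := by
        rw [Category.assoc, Category.assoc, pullback.condition, ← Category.assoc x e.hom,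
          ← Category.assoc (x ≫ e.hom), hx', zero_comp]
      obtain ⟨T', p, hp, y, hy⟩ := (S.comp_homologyπ_eq_zero_iff_up_to_refinements _).1 h0
      refine ⟨T', p, hp, y, show p ≫ x = y ≫ a from ?_⟩
      rw [← cancel_mono D.arrow, Category.assoc, Category.assoc, ha, he, reassoc_of% hy,
        S.toCycles_i]
    have hb : D.arrow ≫ π₂ ≫ q = 0 := by rw [← Category.assoc, ← hc, Category.assoc, wC, comp_zero]
    have h1 : i₁ ≫ i₂ ≫ cokernel.π D.arrow = 0 := by
      rw [← Category.assoc, ← ha, Category.assoc, cokernel.condition, comp_zero]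
    let a' : A₃ ⟶ cokernel D.arrow := hA.exact.desc (i₂ ≫ cokernel.π D.arrow) h1
    have ha' : p₁ ≫ a' = i₂ ≫ cokernel.π D.arrow := hA.exact.g_desc _ _
    let c' : cokernel D.arrow ⟶ C₃ := cokernel.desc _ (π₂ ≫ q) hb
    have hc' : cokernel.π D.arrow ≫ c' = π₂ ≫ q := cokernel.π_desc _ _ _
    have wac' : a' ≫ c' = 0 := by rw [← cancel_epi p₁, reassoc_of% ha', hc', comp_zero, h₂]
    have hec' : Epi c' := epi_of_epi_fac hc'
    have hma' : Mono a' := by
      refine Preadditive.mono_of_cancel_zero _ fun {T} y hy => ?_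
      obtain ⟨T₁, e₁, _, x, hx⟩ := surjective_up_to_refinements_of_epi p₁ y
      have h0 : (x ≫ i₂) ≫ cokernel.π D.arrow = 0 := by
        rw [Category.assoc, ← ha', ← Category.assoc, ← hx, Category.assoc, hy, comp_zero]
      obtain ⟨T₂, e₂, _, z, hz⟩ := (CokernelCofork.IsColimit.comp_π_eq_zero_iff_up_to_refinements
        (cokernelIsCokernel D.arrow) (x ≫ i₂)).1 h0
      have hzc : z ≫ c = 0 := by
        rw [← cancel_mono j, Category.assoc, hc, ← Category.assoc, ← hz, Category.assoc, Category.assoc, wB]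
        simp
      obtain ⟨T₃, e₃, _, r, hr⟩ := hexac.exact_up_to_refinements z hzc
      have hxr : e₃ ≫ e₂ ≫ x = r ≫ i₁ := by
        rw [← cancel_mono i₂, Category.assoc, Category.assoc, Category.assoc, hz, reassoc_of% hr, ha]
      rw [← cancel_epi e₁, ← cancel_epi e₂, ← cancel_epi e₃, hx, reassoc_of% hxr, wA]
      simp
    have hexac' : (ShortComplex.mk a' c' wac').Exact := by
      rw [ShortComplex.exact_iff_exact_up_to_refinements]
      intro T (y : T ⟶ cokernel D.arrow) (hy : y ≫ c' = 0)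
      obtain ⟨T₁, e₁, _, x, hx⟩ := surjective_up_to_refinements_of_epi (cokernel.π D.arrow) y
      have h0 : (x ≫ π₂) ≫ q = 0 := by
        rw [Category.assoc, ← hc', ← Category.assoc, ← hx, Category.assoc, hy, comp_zero]
      obtain ⟨T₂, e₂, _, t, ht⟩ := hC.exact.exact_up_to_refinements (x ≫ π₂) h0
      obtain ⟨T₃, e₃, _, z, hz⟩ := surjective_up_to_refinements_of_epi c t
      have h3 : (e₃ ≫ e₂ ≫ x - z ≫ D.arrow) ≫ π₂ = 0 := by
        rw [Preadditive.sub_comp, Category.assoc, Category.assoc, Category.assoc, ht, ← hc, reassoc_of% hz,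
          sub_self]
      obtain ⟨T₄, e₄, _, r, hr⟩ := hB.exact.exact_up_to_refinements _ h3
      refine ⟨T₄, e₄ ≫ e₃ ≫ e₂ ≫ e₁, inferInstance, r ≫ p₁, show _ = (r ≫ p₁) ≫ a' from ?_⟩
      rw [Category.assoc r, ha', ← reassoc_of% hr, Preadditive.sub_comp]
      simp [hx]
    exact ⟨a, c, wac, a', c', wac', ha, hc, ⟨hexac⟩, ha', hc', ⟨hexac'⟩⟩
  · intro s s' hs hs' he
    have : IsSplitMono s := ⟨⟨⟨g, hs⟩⟩⟩
    have : IsSplitMono s' := ⟨⟨⟨g, hs'⟩⟩⟩
    rw [subobject_of_section S.homologyπ S.iCycles s, subobject_of_section S.homologyπ S.iCycles s'] at he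
    let e := Subobject.isoOfMkEqMk _ _ he
    have h1 : e.hom ≫ pullback.fst S.homologyπ s' = pullback.fst S.homologyπ s := by
      rw [← cancel_mono S.iCycles, Category.assoc]
      exact Subobject.ofMkLEMk_comp _
    have h2 : pullback.snd S.homologyπ s ≫ s = e.hom ≫ pullback.snd S.homologyπ s' ≫ s' := by
      rw [← pullback.condition, ← pullback.condition, reassoc_of% h1]
    have h3 : pullback.snd S.homologyπ s = e.hom ≫ pullback.snd S.homologyπ s' := by
      have h4 : (pullback.snd S.homologyπ s ≫ s) ≫ g = (e.hom ≫ pullback.snd S.homologyπ s' ≫ s') ≫ g := by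
        rw [h2]
      simpa [hs, hs'] using h4
    rw [← cancel_epi (pullback.snd S.homologyπ s), h2, h3, Category.assoc]

end Groth.Agent.S15466
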