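import Groth.Statements.S15467
import Groth.Agent.L21.FibSec.Chain
import Groth.Agent.L16.ProjSpace.AmpleIff
import Groth.Agent.L18.AmplePull
import Groth.Agent.L18.GlobGen
import Groth.Agent.L18.PBundle.VeryAmplePair
import Groth.Agent.L29.DCoh.PullTensor
import Groth.Agent.L22.CurveDeg.NonSpecial
import Groth.Agent.L08.Cube.Inverse

set_option autoImplicit false
set_option backward.isDefEq.respectTransparency false
set_option linter.style.haveILetI false
universe u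
open VBCurve

namespace Groth.Agent.S15467

open CategoryTheory CategoryTheory.Limits AlgebraicGeometry TopologicalSpace
open Groth.L00.Tensor (tensorRightF tensorAssoc tensorIso tensorUnitRight)
open Groth.L21.FibSec

theorem isAmple_twist_any (n : ℕ) (R : Type u) [CommRing R] [Nontrivial R] :
    CohB1.IsAmple (Twist.twistProjSpace n R ((1 : ℕ) : ℤ)) := by
  refine Groth.L16.ProjTwist.isAmple_twist (CohB1.polyGrading n R) one_pos
    (fun i => ⟨MvPolynomial.X i ^ 1, by simpa using Groth.L16.ProjSpace.X_mem n R i⟩) ?_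
  refine top_le_iff.1 fun x _ => TopologicalSpace.Opens.mem_iSup.2 ?_
  obtain ⟨i, hi⟩ := Groth.L16.ProjSpace.exists_mem_basicOpen_X n R x
  exact ⟨i, (Proj.mem_basicOpen _ _ _).2 (Groth.L16.ProjTwist.notMem_pow _ ((Proj.mem_basicOpen _ _ _).1 hi) 1)⟩

/-- Over an affine open of the base the family carries an ample invertible module. -/
theorem exists_ample {X Y : Scheme.{u}} (f : X ⟶ Y) (n : ℕ) (ι : X ⟶ CohB1.ProjSpaceOver n Y) [IsClosedImmersion ι]
    (hι : ι ≫ CohB1.ProjSpaceOver.toBase n Y = f) {U₀ : Y.Opens} (hU₀ : IsAffineOpen U₀) :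
    ∃ L : (f ⁻¹ᵁ U₀).toScheme.Modules, CohB1.IsAmple L := by
  let q : CohB1.ProjSpaceOver n Y ⟶ CohB1.ProjSpace n (ULift.{u} ℤ) := pullback.fst _ _
  let a : (f ⁻¹ᵁ U₀).toScheme ⟶ CohB1.ProjSpace n (ULift.{u} ℤ) := (f ⁻¹ᵁ U₀).ι ≫ ι ≫ q
  haveI : IsAffineHom a := ⟨fun W hW => by
    have h1 := Groth.L18.PBundle.isAffineOpen_pullback_inf
      (CohB1.ProjSpace.toSpec n (ULift.{u} ℤ)) (specULiftZIsTerminal.from Y) hW hU₀
    have h2 := h1.preimage ι
    have hle : ι ⁻¹ᵁ (q ⁻¹ᵁ W ⊓ CohB1.ProjSpaceOver.toBase n Y ⁻¹ᵁ U₀) ≤ f ⁻¹ᵁ U₀ := fun x hx => by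
      show f x ∈ U₀
      rw [← hι, Scheme.Hom.comp_apply]
      exact hx.2
    have h3 := h2.preimage_of_isOpenImmersion (f ⁻¹ᵁ U₀).ι (by rwa [Scheme.Opens.opensRange_ι])
    convert h3 using 1
    refine TopologicalSpace.Opens.ext (Set.ext fun z => ?_)
    show (a z ∈ W) ↔ (q (ι ((f ⁻¹ᵁ U₀).ι z)) ∈ W ∧ CohB1.ProjSpaceOver.toBase n Y (ι ((f ⁻¹ᵁ U₀).ι z)) ∈ U₀)
    have hz : f ((f ⁻¹ᵁ U₀).ι z) ∈ U₀ := z.2
    have hzf : ∀ x : X, f x = CohB1.ProjSpaceOver.toBase n Y (ι x) := fun x => by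
      rw [← Scheme.Hom.comp_apply, hι]
    rw [hzf] at hz
    simp only [a, Scheme.Hom.comp_apply]
    exact ⟨fun h => ⟨h, hz⟩, fun h => h.1⟩⟩
  exact ⟨_, Groth.L18.Ample.isAmple_pullback_of_isAffineHom (isAmple_twist_any n (ULift.{u} ℤ)) (u := a)⟩

theorem exists_chain {X U : Scheme.{u}} [IsAffine U] (f : X ⟶ U) [IsProper f] [SmoothOfRelativeDimension 1 f]
    {k : Type u} [Field k] [Infinite k] (ψ : k →+* Γ(U, ⊤)) {L : X.Modules} (hL : CohB1.IsAmple L)
    {E : X.Modules} {m : ℕ} (hE : FlatMod.IsFinLocFreeOfRank (m + 1) E) (u : U) :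
    ∃ a : Γ(U, ⊤), u ∈ U.basicOpen a ∧ Chain (E.restrict (f ⁻¹ᵁ U.basicOpen a).ι) (m + 1) := by
  obtain ⟨n₀, hn₀⟩ := Groth.L18.Ample.exists_forall_isGloballyGenerated hL E
    (Groth.L16.NegPow.isCoh_of_isFinLocFree fun x => by obtain ⟨V, hx, hV⟩ := hE x; exact ⟨V, m + 1, hx, hV⟩)
  have hLn := Groth.L18.Ample.isInvertible_tensorPow hL.1 n₀
  obtain ⟨N', hN', ⟨e⟩⟩ := Groth.L08.Cube.exists_inverse hLn
  let T := CohB1.tensorMod E (CohB1.tensorPow L n₀)
  have hT : FlatMod.IsFinLocFreeOfRank (m + 1) T := by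
    simpa using rank_tensor hE (Groth.L22.CurveDeg.Det.isFinLocFreeOfRank_one_of_isInvertible hLn)
  obtain ⟨N, σ, hσ⟩ := exists_finite_span hT (hn₀ n₀ le_rfl)
    (K := f ⁻¹' {u}) (f.range_fiberι u ▸ isCompact_range (f.fiberι u).continuous)
  obtain ⟨τ, hτ⟩ := exists_part f ψ u (fibre_dim_le_one f u) hT (σ := σ) (fun x hx => hσ x hx) m (by omega)
  obtain ⟨a, hua, ha⟩ := exists_nhd f u (isOpen_part τ) hτ
  refine ⟨a, hua, ?_⟩
  let W : X.Opens := f ⁻¹ᵁ U.basicOpen a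
  have hc : Chain (T.restrict W.ι) (m + 1) :=
    chain_of_adapted (rank_restrict W.ι hT) (adapted_restrict W fun x hx => ha x hx)
  let M := (Scheme.Modules.pullback W.ι).obj N'
  obtain ⟨M', hM', ⟨e'⟩⟩ := Groth.L08.Cube.exists_inverse (Groth.L18.Ample.isInvertible_pullback W.ι hN')
  refine ((hc.iso ((Scheme.Modules.restrictFunctorIsoPullback W.ι).app T)).twist
    (Groth.L22.CurveDeg.Det.isFinLocFreeOfRank_one_of_isInvertible (Groth.L18.Ample.isInvertible_pullback W.ι hN'))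
    (Groth.L22.PDual.isEquivalence_tensorRightF e')).iso ?_
  exact Groth.L29.DC.PullTensor.pullTensor W.ι T N' ≪≫ (Scheme.Modules.pullback W.ι).mapIso
    (tensorAssoc E (CohB1.tensorPow L n₀) N' ≪≫ tensorIso (Iso.refl E) e ≪≫ tensorUnitRight E) ≪≫
    ((Scheme.Modules.restrictFunctorIsoPullback W.ι).app E).symm


open CategoryTheory CategoryTheory.Limits AlgebraicGeometry in
/-- Let k be an algebraically closed field of characteristic zero, Y an irreducible scheme locally of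
finite type over k, f : X → Y a smooth morphism of relative dimension 1 that factors through a
closed immersion into some projective space P^n_Y over Y (a family of smooth projective curves), and
E an O_X-module that is locally free of rank r ≥ 1. Then there is a non-empty open U ⊆ Y over which
E is filtered by line bundles: the restriction of E to f⁻¹(U) has a chain of subobjects 0 = E_0 ≤
E_1 ≤ ⋯ ≤ E_r = E with E_i locally free of rank i and each E_{i+1}/E_i locally free of rank 1. (The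
published statement works with schemes of finite type over k and does not say that the open set is
non-empty; this row takes Y only locally of finite type over k and asks for a non-empty U, which the
printed proof provides, since the open set it constructs contains the generic point of Y.) -/
theorem result
    (k : Type u) [Field k] [IsAlgClosed k] [CharZero k] {X Y : Scheme.{u}}
    (pY : Y ⟶ Spec (CommRingCat.of k)) [LocallyOfFiniteType pY] [IrreducibleSpace Y]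
    (f : X ⟶ Y) [SmoothOfRelativeDimension 1 f]
    (n : ℕ) (ι : X ⟶ CohB1.ProjSpaceOver n Y) [IsClosedImmersion ι]
    (hι : ι ≫ CohB1.ProjSpaceOver.toBase n Y = f)
    (E : X.Modules) (r : ℕ) (hr : 1 ≤ r) (hE : FlatMod.IsFinLocFreeOfRank r E) :
    ∃ U : Y.Opens, (U : Set Y).Nonempty ∧
      ∃ F : Fin (r + 1) → Subobject (E.restrict (f ⁻¹ᵁ U).ι),
        Monotone F ∧ F 0 = ⊥ ∧ F (Fin.last r) = ⊤ ∧
        (∀ i : Fin (r + 1), FlatMod.IsFinLocFreeOfRank (i : ℕ) (Subobject.underlying.obj (F i))) ∧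
        (∀ i : Fin r, ∃ h : F i.castSucc ≤ F i.succ,
          FlatMod.IsFinLocFreeOfRank 1 (cokernel ((F i.castSucc).ofLE (F i.succ) h))) := by
  haveI : IsProper f := by
    rw [← hι]
    haveI : IsProper (CohB1.ProjSpaceOver.toBase n Y) :=
      MorphismProperty.pullback_snd _ _ (inferInstance : IsProper (CohB1.ProjSpace.toSpec n (ULift.{u} ℤ)))
    infer_instance
  obtain ⟨m, rfl⟩ : ∃ m, r = m + 1 := ⟨r - 1, by omega⟩
  obtain ⟨y⟩ := (inferInstance : Nonempty Y)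
  obtain ⟨U₀, hU₀, hy, -⟩ := exists_isAffineOpen_mem_and_subset (X := Y) (x := y) (U := ⊤) trivial
  haveI : IsAffine U₀.toScheme := hU₀
  haveI : IsProper (f ∣_ U₀) := IsZariskiLocalAtTarget.restrict ‹_› U₀
  haveI : SmoothOfRelativeDimension 1 (f ∣_ U₀) := IsZariskiLocalAtTarget.restrict ‹_› U₀
  obtain ⟨L, hL⟩ := exists_ample f n ι hι hU₀
  let ψ : k →+* Γ(U₀.toScheme, ⊤) := ((U₀.ι ≫ pY).appTop).hom.comp (Scheme.ΓSpecIso (CommRingCat.of k)).inv.hom
  obtain ⟨a, hya, hc⟩ := exists_chain (f ∣_ U₀) ψ hL (rank_restrict (f ⁻¹ᵁ U₀).ι hE) ⟨y, hy⟩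
  let U : Y.Opens := U₀.ι ''ᵁ U₀.toScheme.basicOpen a
  let W : (f ⁻¹ᵁ U₀).toScheme.Opens := (f ∣_ U₀) ⁻¹ᵁ U₀.toScheme.basicOpen a
  have hUU₀ : U ≤ U₀ := (Scheme.Hom.image_le_opensRange _ _).trans_eq U₀.opensRange_ι
  have hrange : Set.range (f ⁻¹ᵁ U).ι ⊆ Set.range (W.ι ≫ (f ⁻¹ᵁ U₀).ι) := by
    rintro _ ⟨z, rfl⟩
    have hz : f ((f ⁻¹ᵁ U).ι z) ∈ U := z.2
    obtain ⟨w, hw, hwe⟩ := hz
    let x : (f ⁻¹ᵁ U₀).toScheme := ⟨(f ⁻¹ᵁ U).ι z, hUU₀ z.2⟩
    have hxW : x ∈ W := by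
      show (f ∣_ U₀) x ∈ U₀.toScheme.basicOpen a
      have : (f ∣_ U₀) x = w := by
        refine U₀.ι.isOpenEmbedding.injective ?_
        rw [← Scheme.Hom.comp_apply, morphismRestrict_ι, Scheme.Hom.comp_apply]
        exact hwe.symm
      rw [this]
      exact hw
    exact ⟨⟨x, hxW⟩, rfl⟩
  let e := IsOpenImmersion.lift (W.ι ≫ (f ⁻¹ᵁ U₀).ι) (f ⁻¹ᵁ U).ι hrange
  have he : e ≫ W.ι ≫ (f ⁻¹ᵁ U₀).ι = (f ⁻¹ᵁ U).ι := IsOpenImmersion.lift_fac _ _ _
  haveI : IsOpenImmersion e := by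
    haveI : IsOpenImmersion (e ≫ W.ι ≫ (f ⁻¹ᵁ U₀).ι) := he ▸ inferInstance
    exact IsOpenImmersion.of_comp e (W.ι ≫ (f ⁻¹ᵁ U₀).ι)
  obtain ⟨F, hF⟩ := ((hc.restrict e).iso
    ((Scheme.Modules.restrictFunctor e).mapIso ((Scheme.Modules.restrictFunctorComp W.ι (f ⁻¹ᵁ U₀).ι).app E).symm ≪≫
      ((Scheme.Modules.restrictFunctorComp e (W.ι ≫ (f ⁻¹ᵁ U₀).ι)).app E).symm ≪≫
      (Scheme.Modules.restrictFunctorCongr he).app E)).subobjects
  exact ⟨U, ⟨_, ⟨⟨y, hy⟩, hya, rfl⟩⟩, F, hF⟩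

end Groth.Agent.S15467
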