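import Groth.Statements.S15468
import Groth.Agent.L11.IsoNat.Clean
import Groth.Agent.L24.St.Bootstrap

set_option autoImplicit false
universe u
open CategoryTheory AlgebraicGeometry
open IsoNat

namespace Groth.Agent.S15468

/-- Being an algebraic space is detected by the presheaf of isomorphism classes. If 𝒳 and 𝒴 are
algebraic stacks over a quasi-separated scheme S whose presheaves of isomorphism classes are
isomorphic, and 𝒳 is (equivalent to) an algebraic space, then so is 𝒴. Here an algebraic stack over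
a quasi-separated scheme S means a stack in groupoids for the fppf topology with a smooth surjective
atlas from a scheme, whose diagonal is representable by separated quasi-compact morphisms of
algebraic spaces and whose inertia is locally of finite presentation over it. (The published
statement compares within the wider class of quasi-algebraic stacks, which need not have an atlas;
this row compares algebraic stacks only.) -/
theorem result
    (S : Scheme.{u}) [QuasiSeparatedSpace S]
    (𝒳 𝒴 : AlgSt.Cat S)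
    (h𝒳 : AlgSt.IsAlgStack Scheme.fppfPrecoverage 𝒳)
    (h𝒳d : AlgSt.RepByAlgSpWith (AlgSp.IsSeparatedMor ⊓ AlgSp.IsQuasiCompactMor)
      (FibCat.diag (FibCat.toSelf 𝒳)))
    (h𝒳i : AlgSt.RepByAlgSpWith (AlgSp.LocP @LocallyOfFinitePresentation)
      (FibCat.inertiaToBase (FibCat.toSelf 𝒳)))
    (h𝒴 : AlgSt.IsAlgStack Scheme.fppfPrecoverage 𝒴)
    (h𝒴d : AlgSt.RepByAlgSpWith (AlgSp.IsSeparatedMor ⊓ AlgSp.IsQuasiCompactMor)
      (FibCat.diag (FibCat.toSelf 𝒴)))
    (h𝒴i : AlgSt.RepByAlgSpWith (AlgSp.LocP @LocallyOfFinitePresentation)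
      (FibCat.inertiaToBase (FibCat.toSelf 𝒴)))
    (φ : IsoNat.FIso 𝒳 𝒴)
    (hsp : AlgSt.RepByAlgSp 𝒳) :
    AlgSt.RepByAlgSp 𝒴 := by
  open Groth.L11.IsoNat in
  have hc : ∀ η : 𝒳.obj, IsoNat.IsClean η :=
    isClean_of_setoid (Groth.L24.St.isFibSetoid_of_repByAlgSp hsp)
  exact Groth.L24.St.repByAlgSp_of_isFibSetoid h𝒴 (isFibSetoid_of_isClean h𝒴.isStack.1
    (isClean_of_clsSep ⟨h𝒴.isStack, h𝒴d⟩
      (clsSep_of_fIso φ h𝒳.isStack.1 h𝒴.isStack.1 (clsSep_of_isClean h𝒳.isStack hc))))

end Groth.Agent.S15468
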