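import Groth.Statements.S15478
import Groth.Agent.L11.IsoNat.Transfer

set_option autoImplicit false
universe u
open CategoryTheory AlgebraicGeometry
open IsoNat

namespace Groth.Agent.S15478

/-- Whether the automorphism sheaf of an object is abelian is detected by the presheaf of isomorphism
classes. Let 𝒳 and 𝒴 be algebraic stacks over a quasi-separated scheme S with an isomorphism of
their presheaves of isomorphism classes, T a scheme over S, η an object of 𝒳 over T and η' an object
of 𝒴 over T whose isomorphism classes correspond. Then every object of 𝒳 with a morphism to η has a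
commutative group of automorphisms over the identity of its base if and only if the same holds for
η'. Here an algebraic stack over a quasi-separated scheme S means a stack in groupoids for the fppf
topology with a smooth surjective atlas from a scheme, whose diagonal is representable by separated
quasi-compact morphisms of algebraic spaces and whose inertia is locally of finite presentation over
it. (The published statement compares within the wider class of quasi-algebraic stacks, which need
not have an atlas; this row compares algebraic stacks only.) -/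
theorem result
    (S : Scheme.{u}) [QuasiSeparatedSpace S]
    (𝒳 𝒴 : AlgSt.Cat S)
    (h𝒳 : AlgSt.IsAlgStack Scheme.fppfPrecoverage 𝒳)
    (h𝒳d : AlgSt.RepByAlgSpWith (AlgSp.IsSeparatedMor ⊓ AlgSp.IsQuasiCompactMor)
      (FibCat.diag (FibCat.toSelf 𝒳)))
    (h𝒳i : AlgSt.RepByAlgSpWith (AlgSp.LocP @LocallyOfFinitePresentation)
      (FibCat.inertiaToBase (FibCat.toSelf 𝒳)))
    (h𝒴 : AlgSt.IsAlgStack Scheme.fppfPrecoverage 𝒴)
    (h𝒴d : AlgSt.RepByAlgSpWith (AlgSp.IsSeparatedMor ⊓ AlgSp.IsQuasiCompactMor)
      (FibCat.diag (FibCat.toSelf 𝒴)))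
    (h𝒴i : AlgSt.RepByAlgSpWith (AlgSp.LocP @LocallyOfFinitePresentation)
      (FibCat.inertiaToBase (FibCat.toSelf 𝒴)))
    (φ : IsoNat.FIso 𝒳 𝒴)
    (T : Over S) (η : 𝒳.p.Fiber T) (η' : 𝒴.p.Fiber T)
    (hη : φ.toEquiv T (IsoNat.cls η) = IsoNat.cls η') :
    IsoNat.IsAutAbelian η ↔ IsoNat.IsAutAbelian η' := by
  open Groth.L11.IsoNat in
  exact ⟨isAutAbelian_transfer φ ⟨h𝒳.isStack, h𝒳d⟩ ⟨h𝒴.isStack, h𝒴d⟩ hη,
    isAutAbelian_transfer (fIsoSymm φ h𝒳.isStack.1 h𝒴.isStack.1) ⟨h𝒴.isStack, h𝒴d⟩ ⟨h𝒳.isStack, h𝒳d⟩
      ((fIsoSymm_toEquiv φ h𝒳.isStack.1 h𝒴.isStack.1 T).symm ▸ (Equiv.symm_apply_eq _).2 hη.symm)⟩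

end Groth.Agent.S15478
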