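import Groth.Statements.S1548
import Groth.Agent.Lead.GeomRedVariety
import Mathlib.FieldTheory.PurelyInseparable.PerfectClosure
-- import your own Groth.Agent.* helpers here

set_option autoImplicit false
set_option maxSynthPendingDepth 3
set_option backward.isDefEq.respectTransparency.types false
set_option backward.isDefEq.respectTransparency false
universe u
open CategoryTheory CategoryTheory.Limits AlgebraicGeometry
open Variety

namespace Groth.Agent.S1548

open scoped TensorProduct

/-- An element of a tensor product with an algebraic extension comes from a finite subextension. -/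
theorem exists_finite_subfield {k C Ω : Type u} [Field k] [CommRing C] [Algebra k C] [Field Ω] [Algebra k Ω]
    [Algebra.IsAlgebraic k Ω] (z : C ⊗[k] Ω) :
    ∃ E : IntermediateField k Ω, FiniteDimensional k E ∧
      z ∈ (Algebra.TensorProduct.map (AlgHom.id k C) E.val).range := by
  induction z using TensorProduct.induction_on with
  | zero => exact ⟨⊥, inferInstance, zero_mem _⟩
  | tmul c v =>
    refine ⟨IntermediateField.adjoin k {v}, IntermediateField.adjoin.finiteDimensional (Algebra.IsIntegral.isIntegral v),
      c ⊗ₜ[k] ⟨v, IntermediateField.mem_adjoin_simple_self k v⟩, ?_⟩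
    simp
  | add a b ha hb =>
    obtain ⟨E, hE, a', rfl⟩ := ha
    obtain ⟨F, hF, b', rfl⟩ := hb
    haveI := hE; haveI := hF
    refine ⟨E ⊔ F, IntermediateField.finiteDimensional_sup E F,
      Algebra.TensorProduct.map (AlgHom.id k C) (IntermediateField.inclusion le_sup_left) a' +
        Algebra.TensorProduct.map (AlgHom.id k C) (IntermediateField.inclusion le_sup_right) b', ?_⟩
    have h : ∀ (E' : IntermediateField k Ω) (hle : E' ≤ E ⊔ F) (w : C ⊗[k] E'),
        Algebra.TensorProduct.map (AlgHom.id k C) (E ⊔ F).val
          (Algebra.TensorProduct.map (AlgHom.id k C) (IntermediateField.inclusion hle) w) =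
        Algebra.TensorProduct.map (AlgHom.id k C) E'.val w := fun E' hle w => by
      induction w using TensorProduct.induction_on with
      | zero => simp
      | tmul c v => rfl
      | add a b ha hb => simp only [map_add, ha, hb]
    rw [AlgHom.toRingHom_eq_coe, RingHom.coe_coe, map_add, h E le_sup_left, h F le_sup_right]
    rfl

/-- Let k be a field of characteristic p > 0. If the base change X_{k'} is reduced whenever k' is a
finite purely inseparable extension of k, then X is geometrically reduced over k. -/
theorem result (k : Type u) [Field k] (p : ℕ) [Fact p.Prime] [CharP k p]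
    (X : Scheme.{u}) [X.Over (Spec (CommRingCat.of k))]
    (h : ∀ (k' : Type u) [Field k'] [Algebra k k'] [FiniteDimensional k k'] [IsPurelyInseparable k k'], IsReduced (Curv2.bc k X k')) :
    GeometricallyReduced (X ↘ (Spec (CommRingCat.of k))) := by
  let f := X ↘ Spec (CommRingCat.of k)
  refine Groth.Lead.GeomRedVariety.geometricallyReduced_of_forall f fun x => ?_
  obtain ⟨V, hV, hxV, -⟩ := exists_isAffineOpen_mem_and_subset (X := X) (x := x) (U := ⊤) trivial
  obtain ⟨hA, hφV⟩ := Groth.L07.GeomRedField.exists_field_algebra f hV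
  letI := hA
  let Ω := perfectClosure k (AlgebraicClosure k)
  haveI : _root_.IsReduced (Γ(X, V) ⊗[k] Ω) := by
    refine ⟨fun z hz => ?_⟩
    obtain ⟨E, hE, w, rfl⟩ := exists_finite_subfield z
    haveI := hE
    haveI : IsPurelyInseparable k E := IsPurelyInseparable.tower_bot k E Ω
    haveI : AlgebraicGeometry.IsReduced (FBase.bc f E) := h E
    obtain ⟨c, hc, -, -⟩ := Groth.L07.GeomRedField.exists_bc_chart f hV hφV E
    haveI := hc
    haveI : AlgebraicGeometry.IsReduced (Spec (CommRingCat.of (Γ(X, V) ⊗[k] E))) := isReduced_of_isOpenImmersion c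
    haveI : _root_.IsReduced (Γ(X, V) ⊗[k] E) := by
      exact (affine_isReduced_iff (CommRingCat.of (Γ(X, V) ⊗[k] E))).mp inferInstance
    have hinj : Function.Injective (Algebra.TensorProduct.map (AlgHom.id k Γ(X, V)) E.val) :=
      Module.Flat.lTensor_preserves_injective_linearMap E.val.toLinearMap Subtype.val_injective
    rw [AlgHom.toRingHom_eq_coe, RingHom.coe_coe] at hz ⊢
    rw [((IsNilpotent.map_iff hinj).mp hz).eq_zero, map_zero]
  let K := AlgebraicClosure k
  haveI : Algebra.IsGeometricallyReduced k Γ(X, V) := by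
    rw [Algebra.isGeometricallyReduced_field_iff]
    let e : K ⊗[k] Γ(X, V) ≃ₐ[Ω] K ⊗[Ω] (Ω ⊗[k] Γ(X, V)) :=
      (Algebra.TensorProduct.cancelBaseChange k Ω Ω K Γ(X, V)).symm
    haveI : _root_.IsReduced (Ω ⊗[k] Γ(X, V)) := isReduced_of_injective
      (Algebra.TensorProduct.comm k Ω Γ(X, V)).toAlgHom (Algebra.TensorProduct.comm k Ω Γ(X, V)).injective
    haveI : Algebra.IsAlgebraic Ω K := Algebra.IsAlgebraic.tower_top (K := k) Ω
    haveI : _root_.IsReduced ((Ω ⊗[k] Γ(X, V)) ⊗[Ω] K) := Groth.L25.GrpDeriv.isReduced_tensorProduct_of_perfectField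
    haveI : _root_.IsReduced (K ⊗[Ω] (Ω ⊗[k] Γ(X, V))) := isReduced_of_injective
      (Algebra.TensorProduct.comm Ω K (Ω ⊗[k] Γ(X, V))).toAlgHom (Algebra.TensorProduct.comm Ω _ _).injective
    exact isReduced_of_injective e.toAlgHom e.injective
  rw [Groth.L07.GeomRedField.isGeomReducedAt_iff f hV hφV x hxV]
  intro L _ _ _ Q _ _
  haveI : _root_.IsReduced (L ⊗[k] Γ(X, V)) := Groth.L03.GeomReduced2.isReduced_of_isGeometricallyReduced L
  haveI : _root_.IsReduced (Γ(X, V) ⊗[k] L) := isReduced_of_injective
    (Algebra.TensorProduct.comm k Γ(X, V) L).toAlgHom (Algebra.TensorProduct.comm k _ _).injective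
  infer_instance

end Groth.Agent.S1548
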