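import Groth.Statements.S15488
import Mathlib.GroupTheory.OrderOfElement
import Mathlib.GroupTheory.Coset.Card
import Mathlib.GroupTheory.Index
import Mathlib.LinearAlgebra.Dimension.Constructions
import Mathlib.LinearAlgebra.Projection
import Mathlib.LinearAlgebra.Pi
import Mathlib.LinearAlgebra.InvariantBasisNumber
import Mathlib.LinearAlgebra.Charpoly.Basic

set_option autoImplicit false
universe u
open IsoNat

namespace Groth.Agent.S15488

/-- Let A be a nontrivial commutative ring, G a finite group, g an element of G of order ν and l an
element of A with l ^ ν = 1. In the free A-module of functions G → A (the regular representation, g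
acting by translation v ↦ v(g·)), the submodule of v with v(g h) = l v(h) for all h is a direct
summand, free of rank |G| / ν (stated as: free, rank · ν = |G|, and a complementary submodule
exists). (The published statement is over an arbitrary ring and also covers Hom(A^N, −) of the
regular representation, which follows; nontriviality of A is needed for the rank to be meaningful.) -/
theorem result
    (A : Type u) [CommRing A] [Nontrivial A] (G : Type u) [Group G] [Finite G]
    (g : G) (l : A) (hl : l ^ orderOf g = 1) :
    Module.Free A (LinearMap.ker (LinearMap.funLeft A A (fun h : G => g * h) - l • LinearMap.id)) ∧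
      Module.finrank A (LinearMap.ker (LinearMap.funLeft A A (fun h : G => g * h) - l • LinearMap.id)) * orderOf g = Nat.card G ∧
      ∃ E' : Submodule A (G → A), IsCompl (LinearMap.ker (LinearMap.funLeft A A (fun h : G => g * h) - l • LinearMap.id)) E' := by
  classical
  let H := Subgroup.zpowers g
  let Q := Quotient (QuotientGroup.rightRel H)
  haveI : Fintype Q := Fintype.ofFinite Q
  set E := LinearMap.ker (LinearMap.funLeft A A (fun h : G => g * h) - l • LinearMap.id) with hE
  have hmem : ∀ v : G → A, v ∈ E ↔ ∀ h : G, v (g * h) = l * v h := fun v => by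
    simp only [hE, LinearMap.mem_ker, LinearMap.sub_apply, LinearMap.smul_apply, LinearMap.id_apply, sub_eq_zero,
      funext_iff, LinearMap.funLeft_apply, Pi.smul_apply, smul_eq_mul]
  have hlpow : ∀ i j : ℕ, g ^ i = g ^ j → l ^ i = l ^ j := fun i j hij => by
    rw [← Nat.mod_add_div i (orderOf g), ← Nat.mod_add_div j (orderOf g), pow_eq_pow_iff_modEq.mp hij]
    simp [pow_add, pow_mul, hl]
  have hidx : ∀ h : G, ∃ i : ℕ, h = g ^ i * (Quotient.mk (QuotientGroup.rightRel H) h).out := fun h => by
    have h1 := Quotient.mk_out (s := QuotientGroup.rightRel H) h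
    rw [QuotientGroup.rightRel_apply] at h1
    obtain ⟨i, hi⟩ := mem_powers_iff_mem_zpowers.mpr h1
    exact ⟨i, by rw [show g ^ i = _ from hi, inv_mul_cancel_right]⟩
  choose idx hidx using hidx
  let ext : (Q → A) →ₗ[A] (G → A) :=
    { toFun := fun w h => l ^ idx h * w (Quotient.mk _ h)
      map_add' := fun w w' => by funext h; simp [mul_add]
      map_smul' := fun a w => by funext h; simp; ring }
  have hclass : ∀ h : G, (Quotient.mk (QuotientGroup.rightRel H) (g * h) : Q) = Quotient.mk _ h := fun h =>
    Quotient.sound (by
      change QuotientGroup.rightRel H (g * h) h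
      rw [QuotientGroup.rightRel_apply, mul_inv_rev, mul_inv_cancel_left]
      exact inv_mem (Subgroup.mem_zpowers g))
  have hext : ∀ w, ext w ∈ E := fun w => (hmem _).2 fun h => by
    change l ^ idx (g * h) * w _ = l * (l ^ idx h * w _)
    rw [hclass h, hlpow (idx (g * h)) (idx h + 1) (mul_right_cancel (b := (Quotient.mk (QuotientGroup.rightRel H) h).out) (by
      rw [pow_succ', mul_assoc, ← hidx h]
      have := hidx (g * h)
      rw [hclass h] at this
      exact this.symm)), pow_succ', mul_assoc]
  let res : (G → A) →ₗ[A] (Q → A) := LinearMap.funLeft A A (fun q : Q => q.out)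
  have hres : ∀ w, res (ext w) = w := fun w => funext fun q => by
    change l ^ idx q.out * w (Quotient.mk _ q.out) = w q
    have hq : (Quotient.mk (QuotientGroup.rightRel H) q.out : Q) = q := Quotient.out_eq q
    have h1 := hidx q.out
    rw [hq] at h1
    rw [hlpow (idx q.out) 0 (by rw [pow_zero]; exact mul_eq_right.mp h1.symm), pow_zero, one_mul, hq]
  have hext' : ∀ v ∈ E, ext (res v) = v := fun v hv => funext fun h => by
    have hstep : ∀ (i : ℕ) (x : G), v (g ^ i * x) = l ^ i * v x := fun i x => by
      induction i with
      | zero => simp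
      | succ i ih => rw [pow_succ', mul_assoc, (hmem v).1 hv, ih, pow_succ', mul_assoc]
    change l ^ idx h * v (Quotient.mk (QuotientGroup.rightRel H) h).out = v h
    rw [← hstep, ← hidx]
  let e : E ≃ₗ[A] (Q → A) :=
    LinearEquiv.ofLinearMap (res.comp E.subtype) (ext.codRestrict E hext)
      (LinearMap.ext fun w => hres w) (LinearMap.ext fun v => Subtype.ext (hext' v v.2))
  refine ⟨Module.Free.of_equiv e.symm, ?_, LinearMap.ker res, ?_⟩
  · rw [e.finrank_eq, Module.finrank_pi, ← Nat.card_eq_fintype_card,
      Nat.card_congr (QuotientGroup.quotientRightRelEquivQuotientLeftRel H), ← Nat.card_zpowers g]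
    exact (Subgroup.card_eq_card_quotient_mul_card_subgroup H).symm
  · refine IsCompl.of_eq (eq_bot_iff.2 fun v ⟨hv, hv'⟩ => ?_) (eq_top_iff.2 fun v _ => ?_)
    · rw [Submodule.mem_bot, ← hext' v hv, LinearMap.mem_ker.1 hv', map_zero]
    · rw [show v = ext (res v) + (v - ext (res v)) by abel]
      exact Submodule.add_mem_sup (hext _) (by rw [LinearMap.mem_ker, map_sub, hres, sub_self])

end Groth.Agent.S15488
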