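import Groth.Statements.S15491
import Mathlib.CategoryTheory.Limits.Shapes.Pullback.Categorical.Basic

set_option autoImplicit false
universe v u
open CategoryTheory CategoryTheory.Functor
open IsoNat

namespace Groth.Agent.S15491

open CategoryTheory.Limits

variable {B A' B' A'' B'' : Type u} [Category.{v} B] [Category.{v} A'] [Category.{v} B']
  [Category.{v} A''] [Category.{v} B''] (r : B ⥤ B') (t' : A' ⥤ B') (l' : A' ⥤ A'') (r' : B' ⥤ B'')
  (t'' : A'' ⥤ B'') (e₂ : t' ⋙ r' ≅ l' ⋙ t'')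

/-- The functor between the two fibre products induced by the lower square. -/
def paste : CategoricalPullback r t' ⥤ CategoricalPullback (r ⋙ r') t'' where
  obj x := ⟨x.fst, l'.obj x.snd, r'.mapIso x.iso ≪≫ e₂.app x.snd⟩
  map {x y} f :=
    { fst := f.fst
      snd := l'.map f.snd
      w := by
        have h := e₂.hom.naturality f.snd
        dsimp at h ⊢
        rw [Category.assoc, ← h, ← Category.assoc, ← r'.map_comp, f.w, r'.map_comp, Category.assoc] }

theorem aux_full {a₁ a₂ : A'} {b₁ b₂ : B} (φ : r.obj b₁ ≅ t'.obj a₁) (ψ : r.obj b₂ ⟶ t'.obj a₂) (p : b₁ ⟶ b₂)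
    (q : l'.obj a₁ ⟶ l'.obj a₂)
    (h : r'.map (r.map p) ≫ r'.map ψ ≫ e₂.hom.app a₂ = (r'.map φ.hom ≫ e₂.hom.app a₁) ≫ t''.map q) :
    r'.map (φ.inv ≫ r.map p ≫ ψ) ≫ e₂.hom.app a₂ = e₂.hom.app a₁ ≫ t''.map q := by
  rw [r'.map_comp, r'.map_comp, Category.assoc, Category.assoc, h, Category.assoc, ← Functor.map_comp_assoc,
    Iso.inv_hom_id, CategoryTheory.Functor.map_id, Category.id_comp]

theorem aux_ess {a : A'} {b : B} {c : A''} (ζ : r'.obj (r.obj b) ⟶ t''.obj c) (p : t'.obj a ⟶ r.obj b)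
    (q : r.obj b ⟶ t'.obj a) (u : l'.obj a ⟶ c) (h : r'.map p ≫ ζ = e₂.hom.app a ≫ t''.map u)
    (h0 : q ≫ p = 𝟙 _) :
    r'.map (r.map (𝟙 b)) ≫ ζ = (r'.map q ≫ e₂.hom.app a) ≫ t''.map u := by
  rw [Category.assoc, ← h, ← Functor.map_comp_assoc, h0]
  simp

theorem isEquivalence_paste (h₂ : FibCat.IsTwoCart t' l' r' t'' e₂) : (paste r t' l' r' t'' e₂).IsEquivalence := by
  let Φ := (CategoricalPullback.CatCommSqOver.toFunctorToCategoricalPullback r' t'' A').obj ⟨t', l', e₂⟩
  haveI : Φ.IsEquivalence := h₂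
  refine
    { faithful := ⟨fun {x y} f g h => ?_⟩
      full := ⟨fun {x y} f => ?_⟩
      essSurj := ⟨fun z => ?_⟩ }
  · have hfst : f.fst = g.fst := congrArg (fun t => t.fst) h
    have hsnd : l'.map f.snd = l'.map g.snd := congrArg (fun t => t.snd) h
    refine CategoricalPullback.hom_ext hfst (Φ.map_injective (CategoricalPullback.hom_ext ?_ hsnd))
    show t'.map f.snd = t'.map g.snd
    rw [← cancel_epi x.iso.hom, ← f.w, ← g.w, hfst]
  · let γ : Φ.obj x.snd ⟶ Φ.obj y.snd :=
      { fst := x.iso.inv ≫ r.map f.fst ≫ y.iso.hom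
        snd := f.snd
        w := by
          exact aux_full r t' l' r' t'' e₂ (a₁ := x.snd) (a₂ := y.snd) x.iso y.iso.hom f.fst f.snd f.w }
    obtain ⟨β, hβ⟩ := Φ.map_surjective γ
    have h1 : t'.map β = x.iso.inv ≫ r.map f.fst ≫ y.iso.hom := congrArg (fun t => t.fst) hβ
    have h2 : l'.map β = f.snd := congrArg (fun t => t.snd) hβ
    exact ⟨⟨f.fst, β, by rw [h1, Iso.hom_inv_id_assoc]; rfl⟩, CategoricalPullback.hom_ext rfl h2⟩
  · let w : CategoricalPullback r' t'' := ⟨r.obj z.fst, z.snd, z.iso⟩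
    let i := Φ.objObjPreimageIso w
    let a := Φ.objPreimage w
    let ib : t'.obj a ≅ r.obj z.fst := (CategoricalPullback.π₁ r' t'').mapIso i
    let ia : l'.obj a ≅ z.snd := (CategoricalPullback.π₂ r' t'').mapIso i
    refine ⟨⟨z.fst, a, ib.symm⟩, ⟨CategoricalPullback.mkIso (Iso.refl _) ia ?_⟩⟩
    exact aux_ess r t' l' r' t'' e₂ z.iso.hom i.hom.fst i.inv.fst i.hom.snd i.hom.w
      (congrArg (fun t => t.fst) i.inv_hom_id)

end Groth.Agent.S15491

namespace Groth.Agent.S15491

/-- Pasting of 2-cartesian squares, stated in the 2-category of categories. Consider functors t : A → B,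
t' : A' → B', t'' : A'' → B'' and l : A → A', r : B → B', l' : A' → A'', r' : B' → B'' with natural
isomorphisms e₁ : t ⋙ r ≅ l ⋙ t' and e₂ : t' ⋙ r' ≅ l' ⋙ t''. If the lower square (t', l', r', t'',
e₂) is 2-cartesian (its comparison functor to the 2-fibre product is an equivalence), then the upper
square (t, l, r, t', e₁) is 2-cartesian if and only if the outer rectangle (t, l ⋙ l', r ⋙ r', t'')
with the pasted isomorphism is. (The published statement is for an arbitrary 2-category whose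
2-morphisms are invertible; this row is the case of categories, functors and natural isomorphisms.) -/
theorem result
    {A B A' B' A'' B'' : Type u} [Category.{v} A] [Category.{v} B] [Category.{v} A'] [Category.{v} B']
    [Category.{v} A''] [Category.{v} B'']
    (t : A ⥤ B) (l : A ⥤ A') (r : B ⥤ B') (t' : A' ⥤ B') (l' : A' ⥤ A'') (r' : B' ⥤ B'') (t'' : A'' ⥤ B'')
    (e₁ : t ⋙ r ≅ l ⋙ t') (e₂ : t' ⋙ r' ≅ l' ⋙ t'')
    (h₂ : FibCat.IsTwoCart t' l' r' t'' e₂) :
    FibCat.IsTwoCart t l r t' e₁ ↔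
      FibCat.IsTwoCart t (l ⋙ l') (r ⋙ r') t''
        ((Functor.associator t r r').symm ≪≫ isoWhiskerRight e₁ r' ≪≫ Functor.associator l t' r' ≪≫
          isoWhiskerLeft l e₂ ≪≫ (Functor.associator l l' t'').symm) := by
  let Φ₁ := (CategoryTheory.Limits.CategoricalPullback.CatCommSqOver.toFunctorToCategoricalPullback r t' A).obj ⟨t, l, e₁⟩
  let e := (Functor.associator t r r').symm ≪≫ isoWhiskerRight e₁ r' ≪≫ Functor.associator l t' r' ≪≫
          isoWhiskerLeft l e₂ ≪≫ (Functor.associator l l' t'').symm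
  let Φ₁₂ := (CategoryTheory.Limits.CategoricalPullback.CatCommSqOver.toFunctorToCategoricalPullback (r ⋙ r') t'' A).obj ⟨t, l ⋙ l', e⟩
  haveI := isEquivalence_paste r t' l' r' t'' e₂ h₂
  let α : Φ₁ ⋙ paste r t' l' r' t'' e₂ ≅ Φ₁₂ := NatIso.ofComponents
    (fun a => CategoryTheory.Limits.CategoricalPullback.mkIso (Iso.refl _) (Iso.refl _) (by
      show r'.map (r.map (𝟙 (t.obj a))) ≫ e.hom.app a = (r'.map (e₁.hom.app a) ≫ e₂.hom.app (l.obj a)) ≫ t''.map (𝟙 (l'.obj (l.obj a)))
      simp [e]))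
    (fun {a b} g => CategoryTheory.Limits.CategoricalPullback.hom_ext
      ((Category.comp_id (t.map g)).trans (Category.id_comp (t.map g)).symm)
      ((Category.comp_id (l'.map (l.map g))).trans (Category.id_comp (l'.map (l.map g))).symm))
  show Φ₁.IsEquivalence ↔ Φ₁₂.IsEquivalence
  constructor
  · intro h
    haveI := h
    exact Functor.isEquivalence_of_iso α
  · intro h
    haveI := h
    haveI : (Φ₁ ⋙ paste r t' l' r' t'' e₂).IsEquivalence := Functor.isEquivalence_of_iso α.symm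
    exact Functor.isEquivalence_of_comp_right Φ₁ (paste r t' l' r' t'' e₂)

end Groth.Agent.S15491
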