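import Groth.Statements.S15493
import Groth.Agent.L11.IsoNat.Basic
import Groth.Agent.L24.St.Fibrewise
import Groth.Agent.L23.OpenSub

set_option autoImplicit false
universe u
open CategoryTheory AlgebraicGeometry
open IsoNat

namespace Groth.Agent.S15493

/-- The presheaf of isomorphism classes commutes with fibre products along an open immersion. Let f : 𝒳
→ 𝒴 be a morphism of algebraic stacks over a quasi-separated scheme S and i : 𝒴' → 𝒴 an open
immersion of algebraic stacks (representable by open immersions of algebraic spaces). If two objects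
of the 2-fibre product 𝒳 ×_𝒴 𝒴' over a scheme T have isomorphic images in 𝒳 over T and isomorphic
images in 𝒴' over T, then they are isomorphic over T. (Together with the evident surjectivity this
says that the natural map from the presheaf of isomorphism classes of 𝒳 ×_𝒴 𝒴' to the fibre product
of the presheaves of 𝒳 and 𝒴' over that of 𝒴 is an isomorphism; the published statement is for
arbitrary stacks, this row takes them algebraic.) -/
theorem result
    (S : Scheme.{u}) [QuasiSeparatedSpace S]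
    (𝒳 𝒴 𝒴' : AlgSt.Cat S)
    (h𝒳 : AlgSt.IsAlgStack Scheme.fppfPrecoverage 𝒳) (h𝒴 : AlgSt.IsAlgStack Scheme.fppfPrecoverage 𝒴)
    (h𝒴' : AlgSt.IsAlgStack Scheme.fppfPrecoverage 𝒴')
    (f : 𝒳 ⥤ᵇ 𝒴) (i : 𝒴' ⥤ᵇ 𝒴) (hi : AlgSt.IsOpenImm i)
    (T : Over S) (z₁ z₂ : (FibCat.fp f i).p.Fiber T)
    (h₁ : IsoNat.mapCls (FibCat.fpFst f i) T (IsoNat.cls z₁) = IsoNat.mapCls (FibCat.fpFst f i) T (IsoNat.cls z₂))
    (h₂ : IsoNat.mapCls (FibCat.fpSnd f i) T (IsoNat.cls z₁) = IsoNat.mapCls (FibCat.fpSnd f i) T (IsoNat.cls z₂)) :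
    IsoNat.cls z₁ = IsoNat.cls z₂ := by
  have hm : AlgSt.IsMono i := fun U y => by
    obtain ⟨F, e, he, h⟩ := hi U y
    exact ⟨F, e, he, Groth.L23.mono_of_repWith_openImmersion h⟩
  have := Groth.L24.St.full_of_isMono h𝒴'.isStack.1 h𝒴.isStack.1 i hm
  obtain ⟨a⟩ := Groth.L11.IsoNat.cls_eq_iff.1 h₁
  let a' : z₁.1.obj.fst ⟶ z₂.1.obj.fst := a.hom.1
  let f' : i.obj z₁.1.obj.snd ⟶ i.obj z₂.1.obj.snd := z₁.1.obj.iso.inv ≫ f.map a' ≫ z₂.1.obj.iso.hom
  obtain ⟨c, hc⟩ := i.toFunctor.map_surjective f'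
  let m : z₁.1 ⟶ z₂.1 := Groth.L24.St.fpHom a' c (by rw [hc]; simp [f'])
  have hm : (FibCat.fp f i).p.IsHomLift (𝟙 T) m := by
    have ha : 𝒳.p.IsHomLift (𝟙 T) a' := a.hom.2
    exact IsHomLift.of_fac' _ _ _ z₁.2 z₂.2 (IsHomLift.fac' 𝒳.p (𝟙 T) a')
  exact Groth.L11.IsoNat.cls_eq_iff.2
    ⟨Groth.L11.IsoNat.fiberIso (Groth.L09.Fib.fp_isFibGrpd h𝒳.isStack.1 h𝒴'.isStack.1 h𝒴.isStack.1) ⟨m, hm⟩⟩

end Groth.Agent.S15493
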