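import Groth.Statements.S15494
import Mathlib.Algebra.BigOperators.Intervals
import Mathlib.Tactic.Ring
import Mathlib.Algebra.Module.BigOperators

set_option autoImplicit false
universe u v
open Dieud

namespace Groth.Agent.S15494

/-- Let W be a commutative ring with a ring endomorphism σ, p a natural number, M a W-module and F an
additive self-map of M with F (w • m) = σ w • F m. Let d ≥ 1, c ≥ 1, h = d + c, and let e_1, …, e_h,
… be vectors of M on which F acts through a display matrix in normal form: F e_i = e_{i+1} for 1 ≤ i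
< d; F e_d = Σ_{i=1}^{d} a_{i,d} e_i + e_{d+1}; F e_j = Σ_{i=1}^{d} p a_{i,j} e_i + p e_{j+1} for d
< j < h; F e_h = Σ_{i=1}^{d} p a_{i,h} e_i. Then F^h e_1 = Σ_{i=1}^{d} Σ_{j=d}^{h} p^{j-d}
σ^{h-j}(a_{i,j}) F^{h+i-j-1} e_1. (The published statement is for the Dieudonné module of a
p-divisible group of dimension d and height h over the Witt ring of a field of characteristic p,
with σ the Frobenius and e_1, …, e_h a basis; this row keeps only the relations which the printed
computation uses, so W, σ, p and the vectors are arbitrary.) -/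
theorem result
    (W : Type u) [CommRing W] (σ : W →+* W) (p : ℕ)
    (M : Type v) [AddCommGroup M] [Module W M]
    (F : M →+ M) (hF : ∀ (w : W) (m : M), F (w • m) = σ w • F m)
    (d c : ℕ) (hd : 0 < d) (hc : 0 < c)
    (a : ℕ → ℕ → W) (e : ℕ → M)
    (h1 : ∀ i : ℕ, 1 ≤ i → i < d → F (e i) = e (i + 1))
    (h2 : F (e d) = (∑ i ∈ Finset.Icc 1 d, a i d • e i) + e (d + 1))
    (h3 : ∀ j : ℕ, d < j → j < d + c →
      F (e j) = (∑ i ∈ Finset.Icc 1 d, ((p : W) * a i j) • e i) + (p : W) • e (j + 1))
    (h4 : F (e (d + c)) = ∑ i ∈ Finset.Icc 1 d, ((p : W) * a i (d + c)) • e i) :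
    (⇑F)^[d + c] (e 1) = ∑ i ∈ Finset.Icc 1 d, ∑ j ∈ Finset.Icc d (d + c),
      ((p : W) ^ (j - d) * (⇑σ)^[d + c - j] (a i j)) • (⇑F)^[d + c + i - j - 1] (e 1) := by
  have he : ∀ i, 1 ≤ i → i ≤ d → (⇑F)^[i - 1] (e 1) = e i := by
    intro i hi1 hid
    induction i, hi1 using Nat.le_induction with
    | base => simp
    | succ i hi ih =>
      rw [← h1 i hi (by omega), ← ih (by omega)]
      rw [← Function.iterate_succ_apply' (⇑F)]
      congr 2; omega
  set B : ℕ → M := fun k => ∑ i ∈ Finset.Icc 1 d, ∑ j ∈ Finset.Icc d (d + k),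
    ((p : W) ^ (j - d) * (⇑σ)^[d + k - j] (a i j)) • (⇑F)^[d + k + i - j - 1] (e 1) with hB
  have step : ∀ k, F (B k) + ((p : W) ^ k) • (∑ i ∈ Finset.Icc 1 d, ((p : W) * a i (d + k + 1)) • e i) = B (k + 1) := by
    intro k
    rw [hB]
    simp only [map_sum, hF, Finset.smul_sum, smul_smul, ← Finset.sum_add_distrib]
    refine Finset.sum_congr rfl fun i hi => ?_
    rw [Finset.mem_Icc] at hi
    rw [show d + (k + 1) = d + k + 1 from rfl, Finset.sum_Icc_succ_top (by omega : d ≤ d + k + 1)]
    congr 1
    · refine Finset.sum_congr rfl fun j hj => ?_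
      rw [Finset.mem_Icc] at hj
      rw [map_mul, map_pow, map_natCast, ← Function.iterate_succ_apply' (⇑σ),
        ← Function.iterate_succ_apply' (⇑F), show Nat.succ (d + k - j) = d + k + 1 - j by omega,
        show Nat.succ (d + k + i - j - 1) = d + k + 1 + i - j - 1 by omega]
    · rw [show d + k + 1 - d = k + 1 by omega, show d + k + 1 - (d + k + 1) = 0 by omega,
        show d + k + 1 + i - (d + k + 1) - 1 = i - 1 by omega, he i hi.1 hi.2,
        Function.iterate_zero_apply]
      congr 1; ring
  have key : ∀ k, k < c → (⇑F)^[d + k] (e 1) = B k + ((p : W) ^ k) • e (d + k + 1) := by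
    intro k hk
    induction k with
    | zero =>
      rw [add_zero, show d = d - 1 + 1 by omega, Function.iterate_succ_apply', he d hd le_rfl,
        show d - 1 + 1 = d by omega, h2, hB]
      congr 1
      · refine Finset.sum_congr rfl fun i hi => ?_
        rw [Finset.mem_Icc] at hi
        rw [add_zero, Finset.Icc_self, Finset.sum_singleton, Nat.sub_self, pow_zero, one_mul,
          Function.iterate_zero_apply, show d + i - d - 1 = i - 1 by omega, he i hi.1 hi.2]
      · simp
    | succ k ih =>
      rw [show d + (k + 1) = d + k + 1 from rfl, Function.iterate_succ_apply', ih (by omega)]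
      rw [map_add, hF, map_pow, map_natCast, h3 (d + k + 1) (by omega) (by omega), smul_add,
        smul_smul, ← pow_succ, ← add_assoc, step]
  obtain ⟨k, rfl⟩ : ∃ k, c = k + 1 := ⟨c - 1, by omega⟩
  show (⇑F)^[d + k + 1] (e 1) = B (k + 1)
  rw [Function.iterate_succ_apply', key k (by omega)]
  rw [map_add, hF, map_pow, map_natCast, show d + k + 1 = d + (k + 1) from rfl, h4]
  exact step k

end Groth.Agent.S15494
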