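import Groth.Statements.S15495
import Mathlib.RingTheory.Artinian.Ring
import Mathlib.Algebra.CharP.Lemmas
import Mathlib.RingTheory.LocalRing.Basic

set_option autoImplicit false
universe u
open CAlg

namespace Groth.Agent.S15495

/-- In an Artinian local ring R whose maximal ideal m contains the prime number p, the multiplicative
group 1 + m is annihilated under some power of p: there is n with (1 + x)^(p^n) = 1 for every x in
m. (The published text makes this assertion inside a proof, for Artinian local algebras over the
Witt ring of a perfect field of characteristic p; only p ∈ m and the nilpotence of m are used.) -/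
theorem result
    (R : Type u) [CommRing R] [IsLocalRing R] [IsArtinianRing R]
    (p : ℕ) (hp : p.Prime) (hpm : (p : R) ∈ IsLocalRing.maximalIdeal R) :
    ∃ n : ℕ, ∀ x ∈ IsLocalRing.maximalIdeal R, (1 + x) ^ (p ^ n) = 1 := by
  obtain ⟨N, hN⟩ := IsArtinianRing.isNilpotent_jacobson_bot (R := R)
  rw [IsLocalRing.jacobson_eq_maximalIdeal ⊥ bot_ne_top] at hN
  refine ⟨N, fun x hx => ?_⟩
  have key : ∀ k, (1 + x) ^ (p ^ k) - 1 ∈ IsLocalRing.maximalIdeal R ^ (k + 1) := by
    intro k
    induction k with
    | zero => simpa using hx
    | succ k ih =>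
      set y := (1 + x) ^ (p ^ k) - 1 with hy
      have h1 : (1 + x) ^ (p ^ k) = y + 1 := by rw [hy, sub_add_cancel]
      obtain ⟨r, hr⟩ := Commute.exists_add_pow_prime_eq hp (Commute.all y 1)
      rw [pow_succ p, pow_mul, h1, hr, one_pow, mul_one]
      rw [show y ^ p + 1 + (p : R) * y * r - 1 = y ^ p + (p : R) * y * r by ring]
      refine add_mem ?_ (Ideal.mul_mem_right _ _ ?_)
      · have := Ideal.pow_mem_pow ih p
        rw [← pow_mul] at this
        refine Ideal.pow_le_pow_right ?_ this
        nlinarith [hp.two_le]
      · rw [pow_succ']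
        exact Ideal.mul_mem_mul hpm ih
  have := key N
  rw [pow_succ, hN, Ideal.zero_eq_bot, Ideal.bot_mul, Submodule.mem_bot, sub_eq_zero] at this
  exact this

end Groth.Agent.S15495
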