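import Groth.Statements.S15496
import Mathlib.Algebra.CharP.Lemmas
import Mathlib.RingTheory.LocalRing.ResidueField.Basic
import Mathlib.Algebra.CharP.Reduced

set_option autoImplicit false
universe u
open CAlg

namespace Groth.Agent.S15496

/-- Let R be a local ring with maximal ideal m, p a prime number lying in m, and suppose the residue
field of R is perfect, i.e. every element is a p-th power; let n ≥ 0. Then every unit of R is the
product of a p^n-th power of a unit and an element of 1 + m, and an element of 1 + m which is a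
p^n-th power of a unit is a p^n-th power of an element of 1 + m; so the inclusion of 1 + m in the
unit group induces a bijection between (1 + m)/(1 + m)^(p^n) and Rˣ/(Rˣ)^(p^n). (The published text
derives this equality of quotients, inside a proof, from perfectness of the base field K for all
Artinian local algebras over its Witt ring, whose residue fields need not be perfect; this row
assumes the residue field of R perfect of characteristic p, which the equality needs, and does not
assume R Artinian.) -/
theorem result
    (R : Type u) [CommRing R] [IsLocalRing R] (p : ℕ) (hp : p.Prime)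
    (hpm : (p : R) ∈ IsLocalRing.maximalIdeal R)
    (hperf : ∀ a : IsLocalRing.ResidueField R, ∃ b : IsLocalRing.ResidueField R, b ^ p = a)
    (n : ℕ) :
    (∀ u : Rˣ, ∃ v : Rˣ, ∃ x ∈ IsLocalRing.maximalIdeal R, (u : R) = (v : R) ^ (p ^ n) * (1 + x)) ∧
    (∀ x ∈ IsLocalRing.maximalIdeal R, (∃ v : Rˣ, (v : R) ^ (p ^ n) = 1 + x) →
      ∃ y ∈ IsLocalRing.maximalIdeal R, (1 + y) ^ (p ^ n) = 1 + x) := by
  have : CharP (IsLocalRing.ResidueField R) p := by
    have := Fact.mk hp
    refine (CharP.charP_iff_prime_eq_zero hp).mpr ?_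
    rw [← map_natCast (IsLocalRing.residue R)]
    exact (IsLocalRing.residue_eq_zero_iff _).mpr hpm
  have hk : ∀ (m : ℕ) (b : IsLocalRing.ResidueField R), ∃ c, c ^ (p ^ m) = b := by
    intro m
    induction m with
    | zero => exact fun b => ⟨b, by simp⟩
    | succ m ih =>
      intro b
      obtain ⟨c, hc⟩ := hperf b
      obtain ⟨d, hd⟩ := ih c
      exact ⟨d, by rw [pow_succ, pow_mul, hd, hc]⟩
  refine ⟨fun u => ?_, fun x hx ⟨v, hv⟩ => ?_⟩
  · obtain ⟨c, hc⟩ := hk n (IsLocalRing.residue R u)
    obtain ⟨w, rfl⟩ := IsLocalRing.residue_surjective c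
    have hw : IsUnit w := by
      refine IsLocalRing.notMem_maximalIdeal.mp fun hwm => ?_
      rw [(IsLocalRing.residue_eq_zero_iff _).mpr hwm, zero_pow (pow_ne_zero _ hp.ne_zero)] at hc
      exact (u.isUnit.map (IsLocalRing.residue R)).ne_zero hc.symm
    refine ⟨hw.unit, (↑(hw.unit ^ (p ^ n))⁻¹ : R) * u - 1, ?_, ?_⟩
    · rw [← IsLocalRing.residue_eq_zero_iff, map_sub, map_one, map_mul, sub_eq_zero, ← hc, ← map_pow,
        ← map_mul]
      rw [show w ^ p ^ n = ((hw.unit ^ (p ^ n) : Rˣ) : R) by simp, Units.inv_mul, map_one]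
    · rw [add_sub_cancel, ← mul_assoc, ← Units.val_pow_eq_pow_val, Units.mul_inv, one_mul]
  · refine ⟨(v : R) - 1, ?_, by simpa using hv⟩
    have h1 : IsLocalRing.residue R (v : R) ^ (p ^ n) = 1 := by
      rw [← map_pow, hv, map_add, map_one, (IsLocalRing.residue_eq_zero_iff _).mpr hx, add_zero]
    rw [← IsLocalRing.residue_eq_zero_iff, map_sub, map_one, sub_eq_zero]
    have := Fact.mk hp
    exact (haveI : ExpChar (IsLocalRing.ResidueField R) p := ExpChar.prime hp; (ExpChar.pow_prime_pow_mul_eq_one_iff p n 1 _).mp (by rw [mul_one]; exact h1)) |> fun h => by simpa using h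

end Groth.Agent.S15496
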