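import Groth.Statements.S15498
import Mathlib.Algebra.BigOperators.Intervals
import Mathlib.Algebra.BigOperators.Ring.Finset
import Mathlib.Order.Interval.Finset.Nat
import Mathlib.Tactic.Ring

set_option autoImplicit false
open NewtonPoly

namespace Groth.Agent.S15498

/-- Twice the sum of `⌊j n / m⌋` for `j < m`. -/
theorem two_mul_sum_div {m n : ℕ} (hm : 0 < m) (hmn : Nat.Coprime m n) :
    2 * ∑ j ∈ Finset.range m, j * n / m = (m - 1) * (n - 1) := by
  have hflip : ∀ j ∈ Finset.Ico 1 m, j * n / m + (m - j) * n / m = n - 1 := by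
    intro j hj
    obtain ⟨hj1, hjm⟩ := Finset.mem_Ico.mp hj
    have hsum : j * n + (m - j) * n = m * n := by rw [← Nat.add_mul, Nat.add_sub_cancel' hjm.le]
    have hne : j * n % m ≠ 0 := fun h => by
      have hd : m ∣ j := hmn.dvd_of_dvd_mul_right (Nat.dvd_of_mod_eq_zero h)
      exact absurd (Nat.le_of_dvd hj1 hd) (by omega)
    have e1 := Nat.div_add_mod (j * n) m
    have e2 := Nat.div_add_mod ((m - j) * n) m
    have l1 := Nat.mod_lt (j * n) hm
    have l2 := Nat.mod_lt ((m - j) * n) hm
    set a := j * n / m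
    set b := (m - j) * n / m
    set r := j * n % m
    set r' := (m - j) * n % m
    have h : m * (a + b) + (r + r') = m * n := by rw [Nat.mul_add]; omega
    have hlt : a + b < n := by
      by_contra hc
      have : m * n ≤ m * (a + b) := Nat.mul_le_mul_left m (by omega)
      omega
    have hgt : n < a + b + 2 := by
      by_contra hc
      have : m * (a + b + 2) ≤ m * n := Nat.mul_le_mul_left m (by omega)
      rw [Nat.mul_add] at this
      omega
    clear_value a b r r'
    omega
  have h0 : ∑ j ∈ Finset.range m, j * n / m = ∑ j ∈ Finset.Ico 1 m, j * n / m := by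
    rw [Finset.range_eq_Ico, Finset.sum_eq_sum_Ico_succ_bot hm]; simp
  have hrefl : ∑ j ∈ Finset.Ico 1 m, (m - j) * n / m = ∑ j ∈ Finset.Ico 1 m, j * n / m :=
    Finset.sum_nbij' (fun j => m - j) (fun j => m - j)
      (fun j hj => by simp only [Finset.mem_Ico, Finset.mem_coe] at hj ⊢; omega)
      (fun j hj => by simp only [Finset.mem_Ico, Finset.mem_coe] at hj ⊢; omega)
      (fun j hj => by simp only [Finset.mem_Ico, Finset.mem_coe] at hj; omega)
      (fun j hj => by simp only [Finset.mem_Ico, Finset.mem_coe] at hj; omega)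
      (fun j _ => rfl)
  rw [h0, two_mul]
  conv_lhs => arg 2; rw [← hrefl]
  rw [← Finset.sum_add_distrib, Finset.sum_const_nat hflip, Nat.card_Ico]


/-- Let m, n ≥ 1 be coprime, h = m + n, δ the segment from (0,0) to (h,m) (the isoclinic Newton polygon
of slope m/h) and ρ the ordinary polygon with n slopes 0 followed with m slopes 1, so ρ(i) = max(0,
i − n). The integer points (i,j), 0 ≤ i ≤ h, on or above ρ and strictly below δ — that is max(0, i −
n) ≤ j and j·h < i·m — are (m−1)(n−1)/2 + (m+n−1) in number (which equals mn − r for r =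
(m−1)(n−1)/2). (The published text works under m ≥ n > 0 coprime; the inequality m ≥ n is not used
and not assumed.) -/
theorem result
    (m n : ℕ) (hm : 0 < m) (hn : 0 < n) (hmn : Nat.Coprime m n) :
    ((Finset.range (m + n + 1) ×ˢ Finset.range (m + 1)).filter
      (fun ij : ℕ × ℕ => ij.1 ≤ ij.2 + n ∧ ij.2 * (m + n) < ij.1 * m)).card
      = (m - 1) * (n - 1) / 2 + (m + n - 1) := by
  have hcard : ((Finset.range (m + n + 1) ×ˢ Finset.range (m + 1)).filter
      (fun ij : ℕ × ℕ => ij.1 ≤ ij.2 + n ∧ ij.2 * (m + n) < ij.1 * m)).card =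
      ∑ j ∈ Finset.range (m + 1), (n - j * n / m) := by
    rw [Finset.card_filter, Finset.sum_product_right]
    refine Finset.sum_congr rfl fun j hj => ?_
    have hjm : j ≤ m := Nat.lt_succ_iff.mp (Finset.mem_range.mp hj)
    rw [← Finset.card_filter]
    have hb : j * (m + n) / m = j + j * n / m := by
      rw [Nat.mul_add, Nat.add_comm (j * m), Nat.add_mul_div_right _ _ hm, Nat.add_comm]
    have : (Finset.range (m + n + 1)).filter (fun i => i ≤ j + n ∧ j * (m + n) < i * m) =
        Finset.Ioc (j * (m + n) / m) (j + n) := by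
      ext i
      simp only [Finset.mem_filter, Finset.mem_range, Finset.mem_Ioc, Nat.div_lt_iff_lt_mul hm]
      constructor
      · exact fun h => ⟨h.2.2, h.2.1⟩
      · exact fun h => ⟨by omega, h.2, h.1⟩
    rw [this, Nat.card_Ioc, hb]
    omega
  have hle : ∀ j ∈ Finset.range (m + 1), j * n / m ≤ n := fun j hj => by
    refine Nat.div_le_of_le_mul ?_
    exact Nat.mul_le_mul_right n (Nat.lt_succ_iff.mp (Finset.mem_range.mp hj))
  have htot : ∑ j ∈ Finset.range (m + 1), (n - j * n / m) + ∑ j ∈ Finset.range (m + 1), j * n / m =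
      (m + 1) * n := by
    rw [← Finset.sum_add_distrib, Finset.sum_congr rfl fun j hj => Nat.sub_add_cancel (hle j hj)]
    simp
  rw [Finset.sum_range_succ (fun j => j * n / m), Nat.mul_div_cancel_left _ hm] at htot
  have h2 := two_mul_sum_div hm hmn
  rw [hcard, ← h2, Nat.mul_div_cancel_left _ two_pos]
  obtain ⟨m', rfl⟩ : ∃ k, m = k + 1 := ⟨m - 1, by omega⟩
  obtain ⟨n', rfl⟩ : ∃ k, n = k + 1 := ⟨n - 1, by omega⟩
  simp only [Nat.add_sub_cancel] at h2
  have hx : (m' + 1 + 1) * (n' + 1) = m' * n' + m' + 2 * n' + 2 := by ring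
  omega

end Groth.Agent.S15498
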