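import Groth.Statements.S15499
import Groth.Agent.L02.CAlg.Horrocks.Global
import Mathlib.RingTheory.Spectrum.Prime.FreeLocus
import Mathlib.RingTheory.Localization.BaseChange

set_option autoImplicit false
open Polynomial LaurentPolynomial
open scoped TensorProduct
universe u
open CAlg

namespace Groth.Agent.S15499

theorem exists_cover {R : Type u} [CommRing R] (Q : Type u) [AddCommGroup Q] [Module R Q] [Module.Finite R Q]
    [Module.Projective R Q] :
    ∃ (n : ℕ) (g : Fin n → R), Ideal.span (Set.range g) = ⊤ ∧
      ∀ i, Module.Free (Localization.Away (g i)) (Localization.Away (g i) ⊗[R] Q) := by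
  classical
  haveI : Module.FinitePresentation R Q := Module.finitePresentation_of_projective R Q
  let S : Set R := {g | Module.Free (Localization.Away g) (Localization.Away g ⊗[R] Q)}
  have hS : Ideal.span S = ⊤ := by
    by_contra hne
    obtain ⟨m, hm, hle⟩ := Ideal.exists_le_maximal _ hne
    let x : PrimeSpectrum R := ⟨m, hm.isPrime⟩
    have hx : x ∈ Module.freeLocus R Q := Module.freeLocus_eq_univ (R := R) (M := Q) ▸ Set.mem_univ x
    haveI : Module.Free _ _ := hx
    obtain ⟨r, hr, hfree, -⟩ := Module.FinitePresentation.exists_free_localizedModule_powers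
      x.asIdeal.primeCompl (LocalizedModule.mkLinearMap x.asIdeal.primeCompl Q) (Localization.AtPrime x.asIdeal)
    exact hr (hle (Ideal.subset_span (Module.Free.of_equiv
      (IsLocalizedModule.isBaseChange (Submonoid.powers r) (Localization.Away r)
        (LocalizedModule.mkLinearMap (Submonoid.powers r) Q)).equiv.symm)))
  obtain ⟨t, ht, hspan⟩ := Submodule.mem_span_finite_of_mem_span (hS ▸ Submodule.mem_top : (1 : R) ∈ Ideal.span S)
  refine ⟨t.card, fun i => (t.equivFin.symm i : R), ?_, fun i => ht (t.equivFin.symm i).2⟩
  rw [Ideal.eq_top_iff_one]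
  have : Set.range (fun i => (t.equivFin.symm i : R)) = (t : Set R) := by
    ext y
    exact ⟨fun ⟨i, hi⟩ => hi ▸ (t.equivFin.symm i).2, fun hy => ⟨t.equivFin ⟨y, hy⟩, by simp⟩⟩
  rw [this]
  exact hspan

/-- Let S = Spec R be a smooth connected affine complex variety, so that R is a finitely generated
smooth ℂ-algebra and an integral domain, and let F be a locally free sheaf of finite rank on the
projective line over S, presented by its two standard charts: a finitely generated projective
R[X]-module P on the affine line over S, a finitely generated projective R[X]-module P' on the chart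
at infinity, and an identification of their base changes to R[X, X⁻¹] that is additive, bijective
and semilinear over the R-algebra involution X ↦ X⁻¹. Then S is covered by basic open sets D(g_1),
…, D(g_n) such that F restricted to the affine line over each D(g_i) is free: the localisation of P
at g_i is a free module over the localisation of R[X] at g_i. -/
theorem result
    (R : Type u) [CommRing R] [IsDomain R] [Algebra ℂ R] [Algebra.FiniteType ℂ R]
    [Algebra.Smooth ℂ R]
    (P : Type u) [AddCommGroup P] [Module R[X] P] [Module.Finite R[X] P]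
    [Module.Projective R[X] P]
    (P' : Type u) [AddCommGroup P'] [Module R[X] P'] [Module.Finite R[X] P']
    [Module.Projective R[X] P']
    (e : R[T;T⁻¹] ⊗[R[X]] P ≃+ R[T;T⁻¹] ⊗[R[X]] P')
    (he : ∀ (a : R[T;T⁻¹]) (m : R[T;T⁻¹] ⊗[R[X]] P),
      e (a • m) = LaurentPolynomial.invert a • e m) :
    ∃ (n : ℕ) (g : Fin n → R), Ideal.span (Set.range g) = ⊤ ∧
      ∀ i, Module.Free (Localization.Away (Polynomial.C (g i) : R[X]))
        (LocalizedModule (Submonoid.powers (Polynomial.C (g i) : R[X])) P) := by
  classical
  let e' : (R[T;T⁻¹] ⊗[R[X]] P) →ₛₗ[(LaurentPolynomial.invert (R := R)).toRingEquiv.toRingHom]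
      (R[T;T⁻¹] ⊗[R[X]] P') := { toFun := e, map_add' := e.map_add, map_smul' := he }
  obtain ⟨Q, _, _, ⟨l⟩⟩ := L02.CAlg.Horrocks.exists_extended R P P' e' e.bijective
  -- the extended module is the restriction to the zero section
  letI : Algebra R[X] R := (Polynomial.evalRingHom (0 : R)).toAlgebra
  haveI : IsScalarTower R R[X] R := IsScalarTower.of_algebraMap_eq fun a => by
    show a = Polynomial.evalRingHom 0 (Polynomial.C a)
    simp
  let w : R ⊗[R[X]] P ≃ₗ[R] Q :=
    ((LinearEquiv.baseChange R[X] R P (R[X] ⊗[R] Q) l).trans
      (TensorProduct.AlgebraTensorModule.cancelBaseChange R R[X] R R Q)).trans (TensorProduct.lid R Q)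
  haveI : Module.Finite R Q := Module.Finite.equiv w
  haveI : Module.Projective R Q := Module.Projective.of_equiv w
  obtain ⟨n, g, hspan, hfree⟩ := exists_cover (R := R) Q
  refine ⟨n, g, hspan, fun i => ?_⟩
  let L := Localization.Away (Polynomial.C (g i) : R[X])
  let Rg := Localization.Away (g i)
  letI : Algebra Rg L := (IsLocalization.Away.lift (g i) (g := algebraMap R L) (by
    rw [IsScalarTower.algebraMap_apply R R[X] L]
    exact IsLocalization.Away.algebraMap_isUnit (Polynomial.C (g i)))).toAlgebra
  haveI : IsScalarTower R Rg L := IsScalarTower.of_algebraMap_eq fun a =>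
    (IsLocalization.Away.lift_eq (g i) _ a).symm
  haveI := hfree i
  haveI : Module.Free L (L ⊗[Rg] (Rg ⊗[R] Q)) := inferInstance
  exact Module.Free.of_equiv ((((TensorProduct.AlgebraTensorModule.cancelBaseChange R Rg L L Q).trans
    (TensorProduct.AlgebraTensorModule.cancelBaseChange R R[X] L L Q).symm).trans
    (LinearEquiv.baseChange R[X] L P (R[X] ⊗[R] Q) l).symm).trans
    (IsLocalizedModule.isBaseChange (Submonoid.powers (Polynomial.C (g i) : R[X])) L
      (LocalizedModule.mkLinearMap _ P)).equiv)

end Groth.Agent.S15499
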