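import Groth.Statements.S15504
import Mathlib.RingTheory.WittVector.DiscreteValuationRing
import Mathlib.RingTheory.Artinian.Module
import Mathlib.RingTheory.HopkinsLevitzki
import Mathlib.LinearAlgebra.Isomorphisms
import Mathlib.RingTheory.Ideal.KrullsHeightTheorem

set_option autoImplicit false
universe u v
open FrobAlg

namespace Groth.Agent.S15504

/-- Let k be an algebraically closed field of characteristic p, W = W(k) the ring of p-typical Witt
vectors, M a finitely generated torsion W-module and φ a p⁻¹-linear endomorphism of M (additive,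
with φ(a·m) = σ⁻¹(a)·φ(m) for the Frobenius automorphism σ of W). Then M = M_s ⊕ M_n for two
φ-stable submodules, with φ bijective on M_s and nilpotent on M_n (one iterate of φ kills M_n). -/
theorem result (p : ℕ) [Fact p.Prime]
    (k : Type u) [Field k] [CharP k p] [IsAlgClosed k]
    (M : Type v) [AddCommGroup M] [Module (WittVector p k) M] [Module.Finite (WittVector p k) M]
    (hM : Module.IsTorsion (WittVector p k) M)
    (φ : M →ₛₗ[((WittVector.frobeniusEquiv p k).symm : WittVector p k →+* WittVector p k)] M) :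
    ∃ Ms Mn : Submodule (WittVector p k) M, IsCompl Ms Mn ∧
      Set.MapsTo φ Ms Ms ∧ Set.MapsTo φ Mn Mn ∧ Set.BijOn φ Ms Ms ∧
      ∃ r : ℕ, ∀ x ∈ Mn, (⇑φ)^[r] x = 0 := by
  classical
  let W := WittVector p k
  haveI : RingHomSurjective ((WittVector.frobeniusEquiv p k).symm : W →+* W) :=
    ⟨(WittVector.frobeniusEquiv p k).symm.surjective⟩
  haveI hart : IsArtinian W M := by
    obtain ⟨S, hS⟩ := (Module.Finite.fg_top : (⊤ : Submodule W M).FG)
    choose a ha using fun x : M => @hM x
    let d : W := ∏ x ∈ S, (a x : W)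
    have hd0 : d ≠ 0 := Finset.prod_ne_zero_iff.2 fun x _ => nonZeroDivisors.ne_zero (a x).2
    have hkill : ∀ m : M, d • m = 0 := by
      intro m
      have hm : m ∈ Submodule.span W (S : Set M) := hS ▸ trivial
      induction hm using Submodule.span_induction with
      | mem x hx =>
        obtain ⟨c, hc⟩ := Finset.dvd_prod_of_mem (fun x => (a x : W)) hx
        rw [show d = (a x : W) * c from hc, mul_comm, mul_smul]
        exact (congrArg (c • ·) (show (a x : W) • x = 0 from ha x)).trans (smul_zero c)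
      | zero => exact smul_zero _
      | add x y _ _ hx hy => rw [smul_add, hx, hy, add_zero]
      | smul r x _ hx => rw [smul_comm, hx, smul_zero]
    let π := (p : W)
    obtain ⟨n, u, hu⟩ := IsDiscreteValuationRing.eq_unit_mul_pow_irreducible hd0
      (WittVector.irreducible p (k := k))
    let I : Ideal W := IsLocalRing.maximalIdeal W ^ (n + 1)
    have hIkill : Module.IsTorsionBySet W M (I : Set W) := by
      rintro m ⟨x, hx⟩
      have hx' : x ∈ Ideal.span {(p : W) ^ n} := by
        rw [← Ideal.span_singleton_pow, ← (WittVector.irreducible p (k := k)).maximalIdeal_eq]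
        exact Ideal.pow_le_pow_right (Nat.le_succ n) hx
      obtain ⟨c, rfl⟩ := Ideal.mem_span_singleton.1 hx'
      show ((p : W) ^ n * c) • m = 0
      have h1 : (p : W) ^ n * c = ((↑u⁻¹ : W) * c) * d := by
        rw [hu, mul_mul_mul_comm, Units.inv_mul, one_mul, mul_comm]
      rw [h1, mul_smul, hkill, smul_zero]
    have hartQ : IsArtinianRing (W ⧸ I) :=
      IsLocalRing.quotient_artinian_of_mem_minimalPrimes_of_isLocalRing I
        ⟨⟨inferInstance, Ideal.pow_le_self n.succ_ne_zero⟩, fun q hq _ => hq.1.le_of_pow_le hq.2⟩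
    letI := hIkill.module
    haveI : IsScalarTower W (W ⧸ I) M := hIkill.isScalarTower
    haveI : Module.Finite (W ⧸ I) M := Module.Finite.of_restrictScalars_finite W (W ⧸ I) M
    exact isArtinian_of_surjective_algebraMap (R := W ⧸ I) Ideal.Quotient.mk_surjective
  haveI : IsNoetherian W M := inferInstance
  let Rg : ℕ → Submodule W M := fun n => Nat.rec ⊤ (fun _ S => S.map φ) n
  let Kr : ℕ → Submodule W M := fun n => Nat.rec ⊥ (fun _ S => S.comap φ) n
  have hR : ∀ n x, x ∈ Rg n ↔ ∃ y, (⇑φ)^[n] y = x := by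
    intro n
    induction n with
    | zero => exact fun x => ⟨fun _ => ⟨x, rfl⟩, fun _ => trivial⟩
    | succ n ih =>
      intro x
      show x ∈ (Rg n).map φ ↔ _
      constructor
      · rintro ⟨z, hz, rfl⟩
        obtain ⟨y, rfl⟩ := (ih z).1 hz
        exact ⟨y, Function.iterate_succ_apply' _ _ _⟩
      · rintro ⟨y, rfl⟩
        exact ⟨_, (ih _).2 ⟨y, rfl⟩, (Function.iterate_succ_apply' _ _ _).symm⟩
  have hK : ∀ n x, x ∈ Kr n ↔ (⇑φ)^[n] x = 0 := by
    intro n
    induction n with
    | zero => exact fun x => Submodule.mem_bot W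
    | succ n ih =>
      intro x
      show φ x ∈ Kr n ↔ _
      rw [ih, Function.iterate_succ_apply]
  have hit0 : ∀ n, (⇑φ)^[n] 0 = 0 := fun n => Function.iterate_fixed (map_zero φ) n
  have hitsub : ∀ n x y, (⇑φ)^[n] (x - y) = (⇑φ)^[n] x - (⇑φ)^[n] y := by
    intro n
    induction n with
    | zero => exact fun x y => rfl
    | succ n ih => intro x y; simp only [Function.iterate_succ_apply, map_sub, ih]
  have hRle : ∀ n, Rg (n + 1) ≤ Rg n := fun n x hx => by
    obtain ⟨y, rfl⟩ := (hR (n + 1) x).1 hx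
    exact (hR n _).2 ⟨φ y, (Function.iterate_succ_apply _ _ _).symm⟩
  have hKle : ∀ n, Kr n ≤ Kr (n + 1) := fun n x hx => (hK (n + 1) x).2 (by
    rw [Function.iterate_succ_apply', (hK n x).1 hx, map_zero])
  obtain ⟨N₁, hN₁⟩ := IsArtinian.monotone_stabilizes
    (⟨fun n => OrderDual.toDual (Rg n), monotone_nat_of_le_succ hRle⟩ : ℕ →o (Submodule W M)ᵒᵈ)
  obtain ⟨N₂, hN₂⟩ := monotone_stabilizes_iff_noetherian.2 (inferInstance : IsNoetherian W M)
    (⟨Kr, monotone_nat_of_le_succ hKle⟩ : ℕ →o Submodule W M)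
  let N := max N₁ N₂
  have hRN : ∀ m, N ≤ m → Rg m = Rg N := fun m hm =>
    ((hN₁ m ((le_max_left _ _).trans hm)).symm.trans (hN₁ N (le_max_left _ _)) :)
  have hKN : ∀ m, N ≤ m → Kr m = Kr N := fun m hm =>
    ((hN₂ m ((le_max_right _ _).trans hm)).symm.trans (hN₂ N (le_max_right _ _)) :)
  have hdis : ∀ x ∈ Rg N, x ∈ Kr N → x = 0 := by
    intro x hx hx'
    obtain ⟨y, rfl⟩ := (hR _ _).1 hx
    have hy : y ∈ Kr (N + N) := (hK _ _).2 (by rw [Function.iterate_add_apply]; exact (hK _ _).1 hx')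
    rw [hKN _ (Nat.le_add_left N N)] at hy
    exact (hK _ _).1 hy
  refine ⟨Rg N, Kr N, ⟨?_, ?_⟩, ?_, ?_, ⟨?_, ?_, ?_⟩, N, fun x hx => (hK _ _).1 hx⟩
  · exact Submodule.disjoint_def.2 hdis
  · rw [codisjoint_iff, eq_top_iff]
    intro x _
    have h1 : (⇑φ)^[N] x ∈ Rg (N + N) := by
      rw [hRN _ (Nat.le_add_left N N)]
      exact (hR _ _).2 ⟨x, rfl⟩
    obtain ⟨y, hy⟩ := (hR _ _).1 h1
    rw [← sub_add_cancel x ((⇑φ)^[N] y), add_comm]
    refine Submodule.add_mem_sup ((hR _ _).2 ⟨y, rfl⟩) ((hK _ _).2 ?_)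
    rw [hitsub, ← Function.iterate_add_apply, hy, sub_self]
  · intro x hx
    rw [SetLike.mem_coe, ← hRN (N + 1) (Nat.le_succ N)]
    exact ⟨x, hx, rfl⟩
  · intro x hx
    have h1 : x ∈ Kr (N + 1) := hKle N hx
    exact h1
  · intro x hx
    rw [SetLike.mem_coe, ← hRN (N + 1) (Nat.le_succ N)]
    exact ⟨x, hx, rfl⟩
  · intro x hx y hy hxy
    refine sub_eq_zero.1 (hdis _ (sub_mem hx hy) ?_)
    rw [← hKN (N + 1) (Nat.le_succ N)]
    exact (hK (N + 1) _).2 (by rw [Function.iterate_succ_apply, map_sub, hxy, sub_self, hit0])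
  · intro x hx
    rw [SetLike.mem_coe, ← hRN (N + 1) (Nat.le_succ N)] at hx
    obtain ⟨z, hz, rfl⟩ := hx
    exact ⟨z, hz, rfl⟩


end Groth.Agent.S15504
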