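import Groth.Statements.S15505
import Mathlib.FieldTheory.Finite.Basic
import Mathlib.LinearAlgebra.Basis.Basic

set_option autoImplicit false
universe u v w
open FrobAlg

namespace Groth.Agent.S15505

/-- Let k be an algebraically closed field of characteristic p, V a k-vector space, φ a p⁻¹-linear
endomorphism of V (additive, φ(a·v) = a^{1/p}·φ(v)) and b a finite basis of V consisting of vectors
fixed by φ. Then the vectors fixed by φ are exactly the combinations of the b_i with coefficients in
the prime field: v is fixed if and only if v = Σ c_i·b_i with all c_i in the image of ℤ/p. -/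
theorem result (p : ℕ) [Fact p.Prime]
    (k : Type u) [Field k] [CharP k p] [IsAlgClosed k]
    (V : Type v) [AddCommGroup V] [Module k V]
    (φ : V →ₛₗ[((frobeniusEquiv k p).symm : k →+* k)] V)
    {ι : Type w} [Fintype ι] (b : Module.Basis ι k V) (hb : ∀ i, φ (b i) = b i) (v : V) :
    φ v = v ↔ ∃ c : ι → ZMod p, v = ∑ i, (ZMod.castHom (dvd_refl p) k (c i)) • b i := by
  classical
  have hp := (Fact.out : p.Prime)
  let f := ZMod.castHom (dvd_refl p) k
  have hfix : ∀ x : k, ((frobeniusEquiv k p).symm : k →+* k) x = x ↔ ∃ a : ZMod p, x = f a := by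
    intro x
    constructor
    · intro h
      have hx : x ^ p = x := by
        conv_lhs => rw [← h]
        exact frobeniusEquiv_symm_pow_p k p x
      let P : Polynomial k := Polynomial.X ^ p - Polynomial.X
      have hP : P ≠ 0 := FiniteField.X_pow_card_sub_X_ne_zero k hp.one_lt
      have hsub : (Finset.univ : Finset (ZMod p)).image f ⊆ P.roots.toFinset := by
        intro y hy
        obtain ⟨a, -, rfl⟩ := Finset.mem_image.1 hy
        rw [Multiset.mem_toFinset, Polynomial.mem_roots hP]
        simp [P, ← map_pow, ZMod.pow_card]
      have hcard : P.roots.toFinset.card ≤ ((Finset.univ : Finset (ZMod p)).image f).card := by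
        rw [Finset.card_image_of_injective _ f.injective, Finset.card_univ, ZMod.card]
        refine (Multiset.toFinset_card_le _).trans ((Polynomial.card_roots' P).trans ?_)
        rw [FiniteField.X_pow_card_sub_X_natDegree_eq k hp.one_lt]
      have : x ∈ (Finset.univ : Finset (ZMod p)).image f := by
        rw [Finset.eq_of_subset_of_card_le hsub hcard, Multiset.mem_toFinset, Polynomial.mem_roots hP]
        simp [P, hx]
      obtain ⟨a, -, ha⟩ := Finset.mem_image.1 this
      exact ⟨a, ha.symm⟩
    · rintro ⟨a, rfl⟩
      refine (frobeniusEquiv k p).injective ?_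
      rw [RingHom.coe_coe, RingEquiv.apply_symm_apply]
      simp [frobenius_def, ← map_pow, ZMod.pow_card]
  constructor
  · intro h
    have hc : ∀ i, ((frobeniusEquiv k p).symm : k →+* k) (b.repr v i) = b.repr v i := by
      intro i
      have h1 : φ v = ∑ j, ((frobeniusEquiv k p).symm : k →+* k) (b.repr v j) • b j := by
        conv_lhs => rw [← b.sum_repr v]
        simp only [map_sum, LinearMap.map_smulₛₗ, hb]
      rw [h] at h1
      have h2 := congrArg (fun w => b.repr w i) h1
      simp only [b.repr_sum_self] at h2
      exact h2.symm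
    choose c hc' using fun i => (hfix _).1 (hc i)
    exact ⟨c, by conv_lhs => rw [← b.sum_repr v]; simp only [hc', f]⟩
  · rintro ⟨c, rfl⟩
    simp only [map_sum, LinearMap.map_smulₛₗ, hb]
    refine Finset.sum_congr rfl fun i _ => ?_
    rw [(hfix _).2 ⟨c i, rfl⟩]

end Groth.Agent.S15505
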