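import Groth.Statements.S15506
import Groth.Agent.L28.Spz.Points
import Mathlib.FieldTheory.IsAlgClosed.AlgebraicClosure

set_option autoImplicit false
set_option backward.isDefEq.respectTransparency.types false
set_option linter.style.haveILetI false
universe u
open CategoryTheory AlgebraicGeometry
open EtBase

namespace Groth.Agent.S15506

/-- Let k be a field, K an algebraic closure of k (an algebraically closed field algebraic over k), Ω a
field containing K, and Z a scheme étale over Spec k. Composition with Spec Ω → Spec K is a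
bijection from the k-morphisms Spec K → Z onto the k-morphisms Spec Ω → Z: two k-morphisms Spec K →
Z that agree on Spec Ω are equal, and every k-morphism Spec Ω → Z factors through Spec K. (The
published statement is the case where k has characteristic zero with a chosen embedding of its
algebraic closure into the complex numbers, Ω = ℂ, and Z is the scheme of isomorphisms between two
K3 surfaces over k, known there to be étale over k; this row states the fact about an arbitrary
étale k-scheme that the argument establishes.) -/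
theorem result
    (k K Ω : Type u) [Field k] [Field K] [Field Ω] [Algebra k K] [IsAlgClosed K] [Algebra.IsAlgebraic k K]
    [Algebra K Ω] [Algebra k Ω] [IsScalarTower k K Ω]
    (Z : Scheme.{u}) (f : Z ⟶ Spec (CommRingCat.of k)) [AlgebraicGeometry.Etale f] :
    (∀ g₁ g₂ : Spec (CommRingCat.of K) ⟶ Z,
        g₁ ≫ f = Spec.map (CommRingCat.ofHom (algebraMap k K)) →
        g₂ ≫ f = Spec.map (CommRingCat.ofHom (algebraMap k K)) →
        Spec.map (CommRingCat.ofHom (algebraMap K Ω)) ≫ g₁ = Spec.map (CommRingCat.ofHom (algebraMap K Ω)) ≫ g₂ →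
        g₁ = g₂) ∧
    (∀ h : Spec (CommRingCat.of Ω) ⟶ Z, h ≫ f = Spec.map (CommRingCat.ofHom (algebraMap k Ω)) →
        ∃ g : Spec (CommRingCat.of K) ⟶ Z, g ≫ f = Spec.map (CommRingCat.ofHom (algebraMap k K)) ∧
          Spec.map (CommRingCat.ofHom (algebraMap K Ω)) ≫ g = h) := by
  let Ω' := AlgebraicClosure Ω
  haveI : IsSepClosed K := inferInstance
  haveI : IsSepClosed Ω' := inferInstance
  let c : Spec (CommRingCat.of Ω') ⟶ Spec (CommRingCat.of Ω) := Spec.map (CommRingCat.ofHom (algebraMap Ω Ω'))
  let d : Spec (CommRingCat.of Ω) ⟶ Spec (CommRingCat.of K) := Spec.map (CommRingCat.ofHom (algebraMap K Ω))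
  let ξ : Spec (CommRingCat.of K) ⟶ Spec (CommRingCat.of k) := Spec.map (CommRingCat.ofHom (algebraMap k K))
  let W : (Spec (CommRingCat.of k)).Etale := Scheme.Etale.mk f
  have hb := Groth.L28.Spz.bijective_extHom (c ≫ d) ξ W
  refine ⟨fun g₁ g₂ h₁ h₂ e => ?_, fun h hh => ?_⟩
  · exact congrArg (fun r => r.left) (hb.1 (a₁ := Over.homMk g₁ h₁) (a₂ := Over.homMk g₂ h₂)
      (Over.OverMorphism.ext (show (c ≫ d) ≫ g₁ = (c ≫ d) ≫ g₂ by rw [Category.assoc, Category.assoc, e])))
  · have hd : d ≫ ξ = Spec.map (CommRingCat.ofHom (algebraMap k Ω)) := by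
      rw [← Spec.map_comp, ← CommRingCat.ofHom_comp, ← IsScalarTower.algebraMap_eq]
    obtain ⟨g, hg⟩ := hb.2 (Over.homMk (c ≫ h) (show (c ≫ h) ≫ f = (c ≫ d) ≫ ξ by
      rw [Category.assoc, Category.assoc, hh, hd]))
    obtain ⟨g₀, hw, e⟩ : ∃ g₀ : Spec (CommRingCat.of K) ⟶ Z, g₀ ≫ f = ξ ∧ (c ≫ d) ≫ g₀ = c ≫ h :=
      ⟨g.left, Over.w g, congrArg (fun r => r.left) hg⟩
    rw [Category.assoc] at e
    refine ⟨g₀, hw, ?_⟩
    have hp : (d ≫ g₀) default = h default := by
      have h1 := (Scheme.Hom.comp_apply c (d ≫ g₀) default).symm.trans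
        ((congrArg (fun m : Spec (CommRingCat.of Ω') ⟶ Z => m default) e).trans (Scheme.Hom.comp_apply c h default))
      rwa [Subsingleton.elim (α := Spec (CommRingCat.of Ω)) (c default) default] at h1
    obtain ⟨_, ⟨(O : Z.Opens), hO, rfl⟩, hz, -⟩ :=
      Z.isBasis_affineOpens.exists_subset_of_mem_open (Set.mem_univ (h default)) isOpen_univ
    have hr : ∀ m : Spec (CommRingCat.of Ω) ⟶ Z, m default = h default → Set.range m ⊆ Set.range hO.fromSpec := by
      rintro m hm _ ⟨a, rfl⟩
      rw [hO.range_fromSpec, Subsingleton.elim (α := Spec (CommRingCat.of Ω)) a default, hm]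
      exact hz
    obtain ⟨a, ha⟩ := Spec.map_surjective (IsOpenImmersion.lift hO.fromSpec (d ≫ g₀) (hr _ hp))
    obtain ⟨b, hb'⟩ := Spec.map_surjective (IsOpenImmersion.lift hO.fromSpec h (hr _ rfl))
    have e' : a ≫ CommRingCat.ofHom (algebraMap Ω Ω') = b ≫ CommRingCat.ofHom (algebraMap Ω Ω') := by
      refine Spec.map_injective ((cancel_mono hO.fromSpec).1 ?_)
      rw [Spec.map_comp, Spec.map_comp, ha, hb', Category.assoc, Category.assoc, IsOpenImmersion.lift_fac,
        IsOpenImmersion.lift_fac]
      exact e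
    have hab : a = b := CommRingCat.hom_ext (RingHom.ext fun x =>
      (algebraMap Ω Ω').injective (ConcreteCategory.congr_hom e' x))
    show d ≫ g₀ = h
    rw [← IsOpenImmersion.lift_fac hO.fromSpec (d ≫ g₀) (hr _ hp), ← ha, hab, hb', IsOpenImmersion.lift_fac]

end Groth.Agent.S15506
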