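import Groth.Statements.S15508
import Groth.Agent.L07.GmFppf.MuP

set_option autoImplicit false
universe u
open CategoryTheory CategoryTheory.Limits AlgebraicGeometry
open EtCoh

namespace Groth.Agent.S15508

/-- Let p be a prime and X a reduced scheme of characteristic p (p = 0 in Γ(X, O_X)). For every i ≥ 1
the flat cohomology group H^i_fl(X, μ_p), with μ_p the kernel of the p-th power map on G_m over the
big fppf site of X, is isomorphic to the étale cohomology group H^{i-1}_ét(X, G_m/G_m^p), with
G_m/G_m^p the cokernel of the p-th power map on G_m over the small étale site of X (existence of an
isomorphism of abelian groups only; the comparison functor from the small étale site to the big fppf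
site is assumed continuous, a binder of the prelude). (The published statement is for a smooth
projective threefold in characteristic p over a perfect base field, and for every i; the argument
uses only that X has characteristic p and that p-th roots of unity are trivial on every scheme étale
over X, i.e. X reduced — the generality stated here — and for i = 0 it reads H⁰_fl(X, μ_p) = 0,
omitted.) -/
theorem result
    (p : ℕ) [Fact p.Prime] (X : Scheme.{u}) [FrobSch.IsCharP X p] [IsReduced X] [EtFppf.ACont X]
    (i : ℕ) (hi : 1 ≤ i) :
    Nonempty (EtFppf.HF X (kernel (p • 𝟙 (EtDl.GmF X))) i ≃+ EtCoh.H X (cokernel (EtCoh.powMap X p)) (i - 1)) := by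
  obtain ⟨m, rfl⟩ : ∃ m, i = m + 1 := ⟨i - 1, by omega⟩
  exact Groth.L07.GmFppf.nonempty_HF_mu_equiv X p m

end Groth.Agent.S15508
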