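import Groth.Statements.S15509
import Groth.Agent.L26.Neron.Torsion
import Groth.Agent.L03.RegularNormal
import Mathlib.AlgebraicGeometry.ZariskisMainTheorem
import Mathlib.RingTheory.Filtration
import Groth.Agent.L23.LocalDimEtale

set_option autoImplicit false
universe u
open CategoryTheory CategoryTheory.Limits MonoidalCategory CartesianMonoidalCategory MonObj AlgebraicGeometry
open AbSch

namespace Groth.Agent.S15509

open CategoryTheory CategoryTheory.Limits MonoidalCategory CartesianMonoidalCategory MonObj

/-- Algebra homomorphisms from a finite algebra into a domain form a finite set. -/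
theorem finite_algHom (R B L : Type u) [CommRing R] [CommRing B] [Algebra R B] [Module.Finite R B]
    [CommRing L] [IsDomain L] [Algebra R L] : Finite (B →ₐ[R] L) := by
  obtain ⟨s, hs⟩ := Module.Finite.fg_top (R := R) (M := B)
  have hroots : ∀ b : B, {x : L | ∃ φ : B →ₐ[R] L, φ b = x}.Finite := by
    intro b
    classical
    obtain ⟨p, hp, hp0⟩ := Algebra.IsIntegral.isIntegral (R := R) b
    refine Set.Finite.subset ((p.map (algebraMap R L)).roots.toFinset.finite_toSet) ?_
    rintro x ⟨φ, rfl⟩
    rw [Finset.mem_coe, Multiset.mem_toFinset, Polynomial.mem_roots (hp.map _).ne_zero,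
      Polynomial.IsRoot.def, Polynomial.eval_map, ← φ.comp_algebraMap]
    exact (Polynomial.hom_eval₂ p (algebraMap R B) φ.toRingHom b).symm.trans (by rw [hp0, map_zero])
  haveI : ∀ b : (s : Set B), Finite {x : L | ∃ φ : B →ₐ[R] L, φ b.1 = x} := fun b => (hroots b.1).to_subtype
  refine Finite.of_injective
    (fun φ (b : (s : Set B)) => (⟨φ b.1, φ, rfl⟩ : {x : L | ∃ ψ : B →ₐ[R] L, ψ b.1 = x})) ?_
  intro φ ψ h
  have e : φ.toLinearMap = ψ.toLinearMap :=
    LinearMap.ext_on hs fun b hb => congrArg Subtype.val (congrFun h ⟨b, hb⟩)
  exact AlgHom.ext fun b => LinearMap.congr_fun e b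

set_option backward.isDefEq.respectTransparency.types false in
/-- Torsion points as algebra homomorphisms, for a finite kernel. -/
theorem exists_equiv {R : Type u} [CommRing R] (A : Over (Spec (CommRingCat.of R))) [GrpObj A]
    [IsCommMonObj A] [IsProper A.hom] (m : ℕ) [Etale (𝟙 A ^ m).left] :
    ∃ (B : Type u) (_ : CommRing B) (_ : Algebra R B) (_ : Module.Finite R B) (_ : Algebra.FormallyUnramified R B),
      ∀ (L : Type u) [CommRing L] [Algebra R L], Nonempty
        (AbDual.torsPts A m (Over.mk (Spec.map (CommRingCat.ofHom (algebraMap R L)))) ≃ (B →ₐ[R] L)) := by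
  let g : pullback (𝟙 A ^ m).left η[A].left ⟶ Spec (CommRingCat.of R) :=
    pullback.snd (𝟙 A ^ m).left η[A].left
  haveI : Etale g := inferInstanceAs (Etale (pullback.snd (𝟙 A ^ m).left η[A].left))
  haveI : IsProper (𝟙 A ^ m).left := by
    haveI : IsProper ((𝟙 A ^ m).left ≫ A.hom) := by rw [Over.w]; infer_instance
    exact IsProper.of_comp _ A.hom
  haveI : IsProper g := inferInstanceAs (IsProper (pullback.snd (𝟙 A ^ m).left η[A].left))
  haveI : LocallyQuasiFinite g := Groth.L23.lqf_of_etale g
  haveI : IsFinite g := IsFinite.of_isProper_of_locallyQuasiFinite g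
  haveI : IsAffine (pullback (𝟙 A ^ m).left η[A].left) := isAffine_of_isAffineHom g
  let P := pullback (𝟙 A ^ m).left η[A].left
  obtain ⟨φ, hφ⟩ := Spec.map_surjective (P.isoSpec.inv ≫ g)
  have hfin : φ.hom.Finite := by
    rw [← IsFinite.SpecMap_iff, hφ]; infer_instance
  have hunr : φ.hom.FormallyUnramified := by
    rw [← HasRingHomProperty.Spec_iff (P := @FormallyUnramified), hφ]; infer_instance
  letI := φ.hom.toAlgebra
  refine ⟨Γ(P, ⊤), inferInstance, inferInstance, hfin, hunr, fun L _ _ => ?_⟩
  let T : Over (Spec (CommRingCat.of R)) := Over.mk (Spec.map (CommRingCat.ofHom (algebraMap R L)))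
  have hc : ∀ a : AbDual.torsPts A m T, a.1.left ≫ (𝟙 A ^ m).left =
      Spec.map (CommRingCat.ofHom (algebraMap R L)) ≫ η[A].left := by
    intro a
    have h : a.1 ≫ (𝟙 A ^ m) = toUnit T ≫ η[A] := by
      rw [MonObj.comp_pow, Category.comp_id, ← Hom.one_def]; exact a.2
    exact (congrArg CommaMorphism.left h).trans rfl
  have e1 : AbDual.torsPts A m T ≃
      {b : Spec (CommRingCat.of L) ⟶ P // b ≫ g = Spec.map (CommRingCat.ofHom (algebraMap R L))} :=
    { toFun := fun a => ⟨pullback.lift a.1.left _ (hc a), pullback.lift_snd _ _ _⟩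
      invFun := fun b => ⟨Over.homMk (b.1 ≫ pullback.fst (𝟙 A ^ m).left η[A].left) (by
          have h0 : pullback.fst (𝟙 A ^ m).left η[A].left ≫ A.hom = g := by
            have h1 : pullback.fst (𝟙 A ^ m).left η[A].left ≫ (𝟙 A ^ m).left ≫ A.hom =
                g ≫ η[A].left ≫ A.hom := by rw [pullback.condition_assoc]
            rw [Over.w, Over.w] at h1
            exact h1.trans (Category.comp_id g)
          rw [Category.assoc, h0, b.2]
          rfl), by
        rw [AbDual.mem_torsPts, Hom.one_def]
        refine Eq.trans (by rw [MonObj.comp_pow, Category.comp_id] : _ = _ ≫ (𝟙 A ^ m)) ?_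
        ext1
        show (b.1 ≫ pullback.fst _ _) ≫ (𝟙 A ^ m).left = Spec.map _ ≫ η[A].left
        rw [Category.assoc, pullback.condition, ← Category.assoc]
        exact congrArg (· ≫ η[A].left) b.2⟩
      left_inv := fun a => Subtype.ext (Over.OverMorphism.ext (pullback.lift_fst _ _ _))
      right_inv := fun b => Subtype.ext (pullback.hom_ext (pullback.lift_fst _ _ _)
        ((pullback.lift_snd _ _ _).trans b.2.symm)) }
  have e2 : {b : Spec (CommRingCat.of L) ⟶ P // b ≫ g = Spec.map (CommRingCat.ofHom (algebraMap R L))} ≃
      (Γ(P, ⊤) →ₐ[R] L) :=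
    { toFun := fun b => ⟨(Spec.preimage (b.1 ≫ P.isoSpec.hom)).hom, fun r => by
        have : φ ≫ Spec.preimage (b.1 ≫ P.isoSpec.hom) = CommRingCat.ofHom (algebraMap R L) :=
          Spec.map_injective (by
            rw [Spec.map_comp, Spec.map_preimage, hφ, Category.assoc, Iso.hom_inv_id_assoc, b.2])
        exact congr($this r)⟩
      invFun := fun f => ⟨Spec.map (CommRingCat.ofHom f.toRingHom) ≫ P.isoSpec.inv, by
        rw [Category.assoc, ← hφ, ← Spec.map_comp]
        exact congrArg Spec.map (CommRingCat.hom_ext f.comp_algebraMap)⟩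
      left_inv := fun b => Subtype.ext (by
        show Spec.map (Spec.preimage (b.1 ≫ P.isoSpec.hom)) ≫ P.isoSpec.inv = b.1
        rw [Spec.map_preimage, Category.assoc, Iso.hom_inv_id, Category.comp_id])
      right_inv := fun f => AlgHom.ext fun x => by
        show (Spec.preimage ((Spec.map (CommRingCat.ofHom f.toRingHom) ≫ P.isoSpec.inv) ≫ P.isoSpec.hom)).hom x = f x
        rw [Category.assoc, Iso.inv_hom_id, Category.comp_id, Spec.preimage_map]
        rfl }
  exact ⟨e1.trans e2⟩

/-- Let R be a regular local ring which is a domain and contains the rational numbers, with fraction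
field K and residue field k, and let A be an abelian scheme over Spec R of relative dimension g (a
commutative group scheme which is smooth and proper with geometrically connected fibres of dimension
g). Then for every integer m ≥ 1 the number of K-valued points of A over Spec R killed by m is at
most the number of k-valued points of A over Spec R killed by m: the m-torsion of the rational
points of the generic fibre is no larger than the m-torsion of the rational points of the closed
fibre. (The published statement is for an arbitrary Noetherian regular local ring R inside a paper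
whose standing setting is schemes over the complex numbers; this row keeps from that setting only
that R contains the rationals, which is what the printed argument uses to make the m-torsion
subgroup scheme étale over the base.) -/
theorem result
    (R : Type u) [CommRing R] [IsDomain R] [IsRegularLocalRing R] [Algebra ℚ R]
    (A : Over (Spec (CommRingCat.of R))) [GrpObj A] [IsCommMonObj A] (g : ℕ) (hA : AgPol.IsAbSch A g)
    (m : ℕ) (hm : 1 ≤ m) :
    Nat.card (AbDual.torsPts A m (Over.mk (Spec.map (CommRingCat.ofHom (algebraMap R (FractionRing R)))))) ≤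
      Nat.card (AbDual.torsPts A m (Over.mk (Spec.map (CommRingCat.ofHom (IsLocalRing.residue R))))) := by
  haveI := hA.proper
  haveI := hA.smooth
  have hm' : ∀ s : ↥(Spec (CommRingCat.of R)), (m : (Spec (CommRingCat.of R)).residueField s) ≠ 0 := by
    intro s
    have hu : IsUnit (m : R) := by
      have h := (isUnit_iff_ne_zero.2 (Nat.cast_ne_zero.2 (Nat.one_le_iff_ne_zero.1 hm) : (m : ℚ) ≠ 0)).map
        (algebraMap ℚ R)
      rwa [map_natCast] at h
    have h := hu.map ((Scheme.ΓSpecIso (CommRingCat.of R)).inv ≫
      (Spec (CommRingCat.of R)).evaluation ⊤ s trivial).hom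
    rw [map_natCast] at h
    exact h.ne_zero
  haveI := Groth.Agent.Neron.Torsion.etale_npow A m hm'
  obtain ⟨B, _, _, _, _, hB⟩ := exists_equiv A m
  obtain ⟨eK⟩ := hB (FractionRing R)
  obtain ⟨ek⟩ := hB (IsLocalRing.ResidueField R)
  rw [Nat.card_congr eK]
  refine le_trans ?_ (Nat.card_congr ek).ge
  haveI := finite_algHom R B (IsLocalRing.ResidueField R)
  haveI : IsIntegrallyClosed R := Groth.L03.RegularNormal.isIntegrallyClosed R
  have hint : ∀ (f : B →ₐ[R] FractionRing R) (b : B), ∃ r : R, algebraMap R (FractionRing R) r = f b :=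
    fun f b => IsIntegrallyClosed.isIntegral_iff.1 ((Algebra.IsIntegral.isIntegral b).map f)
  choose lift hlift using hint
  let L : (B →ₐ[R] FractionRing R) → (B →ₐ[R] R) := fun f =>
    AlgHom.ofLinearMap
      { toFun := lift f
        map_add' := fun x y => IsFractionRing.injective R (FractionRing R) (by
          simp [map_add, hlift])
        map_smul' := fun r x => IsFractionRing.injective R (FractionRing R) (by
          simp [map_mul, hlift, Algebra.smul_def]) }
      (IsFractionRing.injective R (FractionRing R) (by simp [hlift]))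
      (fun x y => IsFractionRing.injective R (FractionRing R) (by simp [hlift]))
  refine Nat.card_le_card_of_injective (fun f => (IsScalarTower.toAlgHom R R _).comp (L f)) fun f f' h => ?_
  have hL : L f = L f' := by
    refine Algebra.FormallyUnramified.ext_of_iInf (IsLocalRing.maximalIdeal R)
      (Ideal.iInf_pow_eq_bot_of_isLocalRing (IsLocalRing.maximalIdeal R)
        (IsLocalRing.maximalIdeal.isMaximal R).ne_top) fun x => ?_
    exact DFunLike.congr_fun h x
  refine AlgHom.ext fun b => ?_
  rw [← hlift f b, ← hlift f' b]
  exact congrArg _ (DFunLike.congr_fun hL b)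

end Groth.Agent.S15509
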