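import Groth.Statements.S15510
import Groth.Agent.L26.Weil.AffineConst
import Mathlib.AlgebraicGeometry.SpreadingOut
import Mathlib.AlgebraicGeometry.FunctionField

set_option autoImplicit false
universe u
open CategoryTheory CategoryTheory.Limits MonoidalCategory CartesianMonoidalCategory MonObj AlgebraicGeometry
open AbVar

namespace Groth.Agent.S15510

/-- A point with values in a rational function field of a proper group is constant. -/
theorem exists_point {F : Type u} [Field F] (A : Over (Spec (CommRingCat.of F))) [GrpObj A] [IsProper A.hom]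
    (n : ℕ) (y : Spec (CommRingCat.of (FractionRing (MvPolynomial (Fin n) F))) ⟶ A.left)
    (hy : y ≫ A.hom = Spec.map (CommRingCat.ofHom (algebraMap F (FractionRing (MvPolynomial (Fin n) F))))) :
    ∃ a : 𝟙_ (Over (Spec (CommRingCat.of F))) ⟶ A,
      y = Spec.map (CommRingCat.ofHom (algebraMap F (FractionRing (MvPolynomial (Fin n) F)))) ≫ a.left := by
  let R : CommRingCat.{u} := CommRingCat.of (MvPolynomial (Fin n) F)
  haveI : IsDomain R := inferInstanceAs (IsDomain (MvPolynomial (Fin n) F))
  haveI : IsIntegral (Spec R) := inferInstance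
  letI : Algebra (R : Type u) (Spec R).functionField := StructureSheaf.stalkAlgebra _ _
  haveI : IsFractionRing (R : Type u) (Spec R).functionField := functionField_isFractionRing_of_affine R
  let e : FractionRing (MvPolynomial (Fin n) F) ≃ₐ[(R : Type u)] (Spec R).functionField :=
    IsLocalization.algEquiv (nonZeroDivisors R) (FractionRing (MvPolynomial (Fin n) F)) (Spec R).functionField
  let ec : CommRingCat.of (FractionRing (MvPolynomial (Fin n) F)) ≅ (Spec R).functionField :=
    e.toRingEquiv.toCommRingCatIso
  let pP : (Spec R) ⟶ Spec (CommRingCat.of F) := Spec.map (CommRingCat.ofHom MvPolynomial.C)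
  have hC : CommRingCat.ofHom (algebraMap F (FractionRing (MvPolynomial (Fin n) F))) =
      CommRingCat.ofHom (MvPolynomial.C : F →+* MvPolynomial (Fin n) F) ≫
        CommRingCat.ofHom (algebraMap (MvPolynomial (Fin n) F) (FractionRing (MvPolynomial (Fin n) F))) :=
    CommRingCat.hom_ext (IsScalarTower.algebraMap_eq F (MvPolynomial (Fin n) F) _)
  have hst : (Spec R).fromSpecStalk (genericPoint (Spec R)) =
      Spec.map (CommRingCat.ofHom (algebraMap R (Spec R).functionField)) := by
    rw [Spec.fromSpecStalk_eq]
    rfl
  have hfac : Spec.map ec.hom ≫ Spec.map (CommRingCat.ofHom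
      (algebraMap (MvPolynomial (Fin n) F) (FractionRing (MvPolynomial (Fin n) F)))) =
        (Spec R).fromSpecStalk (genericPoint (Spec R)) := by
    rw [hst, ← Spec.map_comp]
    congr 1
    exact CommRingCat.hom_ext (RingHom.ext fun r => e.commutes r)
  haveI : LocallyOfFiniteType A.hom := inferInstance
  obtain ⟨U, hU, f, hf, hfS⟩ := spread_out_of_isGermInjective' pP A.hom (Spec.map ec.hom ≫ y) (by
    rw [Category.assoc, hy, hC, Spec.map_comp, ← Category.assoc, hfac])
  let m : Type u := ULift.{u} (Fin n)
  let ren : MvPolynomial m F ≃ₐ[F] MvPolynomial (Fin n) F := MvPolynomial.renameEquiv F Equiv.ulift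
  let i₀ : CommRingCat.of (MvPolynomial m F) ≅ R := ren.toRingEquiv.toCommRingCatIso
  let E : 𝔸(m; Spec (CommRingCat.of F)) ≅ (Spec R) :=
    AffineSpace.SpecIso m (CommRingCat.of F) ≪≫ Scheme.Spec.mapIso i₀.op.symm
  have hE : E.inv ≫ (𝔸(m; Spec (CommRingCat.of F)) ↘ Spec (CommRingCat.of F)) = pP := by
    simp only [E, Iso.trans_inv, Category.assoc, AffineSpace.SpecIso_inv_over]
    show Spec.map i₀.hom ≫ Spec.map (CommRingCat.ofHom MvPolynomial.C) = pP
    rw [← Spec.map_comp]
    congr 1
    exact CommRingCat.hom_ext (RingHom.ext fun c => ren.commutes c)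
  let U' : (𝔸(m; Spec (CommRingCat.of F))).Opens := E.hom ⁻¹ᵁ U
  obtain ⟨a, ha⟩ := Groth.L26.Weil.open_affineSpace_const (A := A) U'
    ⟨E.inv (genericPoint (Spec R)), show E.hom (E.inv (genericPoint (Spec R))) ∈ U by
      rw [← Scheme.Hom.comp_apply, E.inv_hom_id]; exact hU⟩ (E.hom ∣_ U ≫ f) (by
    rw [Category.assoc, hfS, morphismRestrict_ι_assoc, ← hE, E.hom_inv_id_assoc])
  refine ⟨a, ?_⟩
  have hf' : f = (U.ι ≫ pP) ≫ a.left := by
    rw [← cancel_epi (E.hom ∣_ U), ha, ← hE]
    simp [U', morphismRestrict_ι_assoc]
  rw [← cancel_epi (Spec.map ec.hom), hf, hf', hC, Spec.map_comp]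
  simp only [Category.assoc]
  rw [reassoc_of% hfac, Scheme.Opens.fromSpecStalkOfMem_ι_assoc]

/-- Let F be a field and A a principally polarized abelian variety over F: a commutative group scheme
over Spec F, smooth and proper with geometrically connected fibres of dimension g, given together
with a commutative group scheme At, data φ presenting At as the dual of A for the fppf topology, and
a polarization lam : A ⟶ At which is an isomorphism. Let Q = F(t_1, …, t_n) be the field of rational
functions in n variables over F. Then base change from F to Q is a bijection from the F-rational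
points of A onto the Q-valued points of A over Spec F: every Q-point of A comes from exactly one
F-point. -/
theorem result
    (F : Type u) [Field F]
    (A At : Over (Spec (CommRingCat.of F))) [GrpObj A] [IsCommMonObj A] [GrpObj At] [IsCommMonObj At]
    (g : ℕ) (hA : AgPol.IsAbSch A g)
    (φ : AgPol.DualMap A At) (hdual : AbDual.IsDualAV Scheme.fppfPrecoverage A At φ)
    (lam : A ⟶ At) (hpol : AgPol.IsPolarization A At φ lam) (hiso : IsIso lam) (n : ℕ) :
    Function.Bijective (fun x : (Over.mk (𝟙 (Spec (CommRingCat.of F))) ⟶ A) =>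
      (Over.homMk (Spec.map (CommRingCat.ofHom (algebraMap F (FractionRing (MvPolynomial (Fin n) F)))))
          (Category.comp_id _) :
        Over.mk (Spec.map (CommRingCat.ofHom (algebraMap F (FractionRing (MvPolynomial (Fin n) F))))) ⟶
          Over.mk (𝟙 (Spec (CommRingCat.of F)))) ≫ x) := by
  haveI := hA.proper
  haveI : Epi (Spec.map (CommRingCat.ofHom (algebraMap F (FractionRing (MvPolynomial (Fin n) F))))) := by
    haveI : Flat (Spec.map (CommRingCat.ofHom (algebraMap F (FractionRing (MvPolynomial (Fin n) F))))) := by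
      rw [HasRingHomProperty.Spec_iff (P := @Flat), CommRingCat.hom_ofHom]
      exact RingHom.flat_algebraMap_iff.mpr inferInstance
    haveI : Surjective (Spec.map (CommRingCat.ofHom (algebraMap F (FractionRing (MvPolynomial (Fin n) F))))) :=
      ⟨fun t => ⟨(⟨⊥, Ideal.isPrime_bot⟩ : PrimeSpectrum (FractionRing (MvPolynomial (Fin n) F))),
        @Subsingleton.elim _ (inferInstanceAs (Subsingleton (PrimeSpectrum F))) _ _⟩⟩
    infer_instance
  refine ⟨fun x x' h => Over.OverMorphism.ext ?_, fun y => ?_⟩
  · exact (cancel_epi (Spec.map (CommRingCat.ofHom (algebraMap F (FractionRing (MvPolynomial (Fin n) F)))))).mp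
      (congrArg (fun φ => φ.left) h :)
  · obtain ⟨a, ha⟩ := exists_point A n y.left (Over.w y)
    exact ⟨a, Over.OverMorphism.ext ha.symm⟩

end Groth.Agent.S15510
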