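import Groth.Statements.S15512
import Groth.Agent.L01.AusBuch
import Groth.Agent.S0564
import Mathlib.RingTheory.Localization.LocalizationLocalization

set_option autoImplicit false
universe u
open CategoryTheory
open CAlg

namespace Groth.Agent.S15512

/-- Let A be a Noetherian ring which is regular (its localization at every maximal ideal is a regular
local ring) and of finite Krull dimension, M a finitely generated A-module and d a natural number.
If Ext^i_A(M, A) vanishes for every i > d, then the projective dimension of M is at most d. -/
theorem result (A : Type u) [CommRing A]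
    [IsNoetherianRing A] (hreg : ∀ m : MaximalSpectrum A, IsRegularLocalRing (Localization.AtPrime m.asIdeal))
    (hdim : ringKrullDim A < ⊤) (M : Type u) [AddCommGroup M] [Module A M] [Module.Finite A M] (d : ℕ)
    (h : ∀ i : ℕ, d < i → Subsingleton (Abelian.Ext (ModuleCat.of A M) (ModuleCat.of A A) i)) :
    HasProjectiveDimensionLT (ModuleCat.of A M) (d + 1) := by
  haveI : IsRegularRing A := isRegularRing_iff.2 fun p _ => by
    obtain ⟨m, hm, hpm⟩ := Ideal.exists_le_maximal p Ideal.IsPrime.ne_top'
    haveI := hm
    haveI := hreg ⟨m, hm⟩
    haveI : IsLocalization.AtPrime (Localization.AtPrime m) m := inferInstance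
    have hdisj : Disjoint (m.primeCompl : Set A) (p : Set A) :=
      Set.disjoint_left.2 fun a ha hap => ha (hpm hap)
    have hP : (p.map (algebraMap A (Localization.AtPrime m))).IsPrime :=
      IsLocalization.isPrime_of_isPrime_disjoint m.primeCompl _ p inferInstance hdisj
    haveI := hP
    have hcomap : (p.map (algebraMap A (Localization.AtPrime m))).comap (algebraMap A (Localization.AtPrime m)) = p :=
      IsLocalization.under_map_of_isPrime_disjoint m.primeCompl _ inferInstance hdisj
    haveI := Groth.Agent.S0564.result (Localization.AtPrime m) (p.map (algebraMap A (Localization.AtPrime m)))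
    have e := (IsLocalization.localizationLocalizationAtPrimeIsoLocalization m.primeCompl
      (p.map (algebraMap A (Localization.AtPrime m)))).toRingEquiv
    have hr := IsRegularLocalRing.of_ringEquiv e.symm
    have key : ∀ (q : Ideal A) (hq : q.IsPrime), q = p →
        @IsRegularLocalRing (@Localization.AtPrime A _ q hq) _ → IsRegularLocalRing (Localization.AtPrime p) := by
      rintro q hq rfl h; exact h
    exact key _ _ hcomap hr
  obtain ⟨T, hT⟩ := Groth.L04.exists_hasProjectiveDimensionLE_of_isRegularRing (R := A) M
  haveI := hT
  exact Groth.L01.AusBuch.hasProjectiveDimensionLT_of_ext_vanish (M := ModuleCat.of A M) T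
    (hasProjectiveDimensionLT_of_ge _ (T + 1) _ (by omega)) fun i hi => h i hi

end Groth.Agent.S15512
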