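import Groth.Statements.S15514
import Groth.Agent.L16.HomCorep.Main
import Groth.Agent.L16.RelExt.LocFree
import Groth.Agent.L27.Hom.ExtAdj
import Groth.Agent.L27.Punctual.Small

set_option autoImplicit false
universe u
open CategoryTheory CategoryTheory.Limits AlgebraicGeometry
open Coherent

namespace Groth.Agent.S15514

/-- Let X be a scheme, E a finite locally free O_X-module with dual E^∨ = Hom_{O_X}(E, O_X), and F, G
arbitrary O_X-modules. Then for every i the group Ext^i_{O_X}(F ⊗ E, G), computed in the category of
all O_X-modules, is isomorphic to Ext^i_{O_X}(F, G ⊗ E^∨). (Existence of an additive isomorphism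
only; the published identification is the natural one, and the published statement is for an
arbitrary ringed space. The published statement says only that E is locally free; finite rank, which
its proof uses, is assumed here. The internal Hom functor of E and the Ext groups of O_X-modules are
the stated instance hypotheses, both true.) -/
theorem result (X : Scheme.{u}) (E : X.Modules)
    (hE : FlatMod.IsFinLocFree E) (F G : X.Modules) [ModSite.HasSheafHom (O := X.sheaf) E]
    [HasExt.{u} X.Modules] (i : ℕ) :
    Nonempty (Abelian.Ext (CohB1.tensorMod F E) G i ≃+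
      Abelian.Ext F (CohB1.tensorMod G ((ModSite.sheafHom (O := X.sheaf) E).obj (Coh.structureModule X))) i) := by
  have hD := Groth.L20.ResDescent.isFinLocFree_dual E hE
  obtain ⟨hl, hr⟩ := Groth.L16.RelExt.preservesFinite_tensorRight E hE
  obtain ⟨hl', hr'⟩ := Groth.L16.RelExt.preservesFinite_tensorRight _ hD
  haveI : (Groth.L00.Tensor.tensorRightF E).Additive := Functor.additive_of_preserves_binary_products _
  haveI : (Groth.L00.Tensor.tensorRightF (Groth.L17.Duality.dual E)).Additive :=
    Functor.additive_of_preserves_binary_products _
  let adj := Groth.L16.HomCorep.adjE E hE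
  let φ : Abelian.Ext F ((Groth.L00.Tensor.tensorRightF (Groth.L17.Duality.dual E)).obj G) i →+
      Abelian.Ext ((Groth.L00.Tensor.tensorRightF E).obj F) G i :=
    AddMonoidHom.mk' (Groth.L27.ExtAdj.phi adj F G i) (fun a b => by
      show (((a + b).mapExactFunctor _).comp _ _) = _
      rw [Abelian.Ext.mapExactFunctor_add, Abelian.Ext.add_comp]
      rfl)
  exact ⟨(AddEquiv.ofBijective φ (Groth.L27.ExtAdj.bijective_phi adj (A := F) i G
    (fun q hq => Groth.L27.Punctual.isZero_rightDerived_of_exact _ G q hq))).symm⟩
end Groth.Agent.S15514
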