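import Groth.Statements.S15515
import Groth.Agent.L22.ExtSh.TwistDual
-- import your own Groth.Agent.* helpers here

set_option autoImplicit false
universe u
open CategoryTheory AlgebraicGeometry
open ProjDual

namespace Groth.Agent.S15515

/-- (iii) ⇒ (i): let k be a field and X a k-scheme of dimension n with a closed immersion ι into P^N_k
over k. Let (ω, t) be a dualizing sheaf for X: ω is a coherent O_X-module and t : H^n(X, ω) → k a
k-linear map such that for every coherent F and every k-linear form ψ on H^n(X, F) there is exactly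
one φ : F → ω with ψ = t ∘ H^n(φ). Suppose that for every coherent O_X-module F and every i ≤ n, the
group Ext^i(F, ω) in the category of all O_X-modules (the Ext instance is the stated hypothesis; it
holds) vanishes if and only if H^(n-i)(X, F) vanishes. Then the local ring of X at every closed
point is Cohen–Macaulay of Krull dimension n. (The published statement assumes X connected and that
the duality maps Ext^i(F, ω) → H^(n-i)(X, F)' are bijective for all i and F, and concludes that X is
Cohen–Macaulay; the weaker vanishing hypothesis used here suffices for the published proof, which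
also yields the dimension of the local rings at closed points.) -/
theorem result
    (k : Type u) [Field k] (N n : ℕ) (X : Scheme.{u}) [X.Over (Spec (CommRingCat.of k))]
    (ι : X ⟶ CohB1.ProjSpace N k) [IsClosedImmersion ι]
    (hι : ι ≫ CohB1.ProjSpace.toSpec N k = X ↘ Spec (CommRingCat.of k))
    (hn : topologicalKrullDim ↥X = n) [HasExt.{u} X.Modules]
    (ω : X.Modules) (hω : Coh.IsCoh ω) (t : Coh.HH X ω n →ₗ[k] k)
    (hdual : ∀ F : X.Modules, Coh.IsCoh F → ∀ ψ : Coh.HH X F n →ₗ[k] k,
        ∃! φ : F ⟶ ω, ∀ x : Coh.HH X F n,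
          ψ x = t (Sheaf.H.map ((SheafOfModules.toSheaf X.ringCatSheaf).map φ) n x))
    (h : ∀ F : X.Modules, Coh.IsCoh F → ∀ i : ℕ, i ≤ n →
        (Subsingleton (Abelian.Ext F ω i) ↔ Subsingleton (Coh.HH X F (n - i)))) :
    ∀ x : X, IsClosed ({x} : Set ↥X) →
      LocCoh.IsCohenMacaulayLocalRing (X.presheaf.stalk x) ∧ ringKrullDim (X.presheaf.stalk x) = n := by
  haveI := Groth.L22.PDual.proper N k
  haveI := Groth.L21.RR.isNoetherian_of_proper (X := CohB1.ProjSpace N k) k
  haveI : IsLocallyNoetherian X := LocallyOfFiniteType.isLocallyNoetherian ι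
  refine (Groth.L22.PDual.cm_iff_vanish ι n hn).2 fun F hF => ?_
  have hstep : ∀ j : Fin n, ∃ m₀ : ℤ, ∀ m : ℤ, m₀ ≤ m → Subsingleton (Coh.HH X (CohB1.tensorMod F
      ((Scheme.Modules.pullback ι).obj (Twist.twistProjSpace N k (-m)))) j) := fun j => by
    obtain ⟨m₀, hm₀⟩ := Groth.L22.ExtSh.exists_ext_bundle_twist_vanish ι hF hω
      (i := n - (j : ℕ)) (by omega)
    refine ⟨m₀, fun m hm => ?_⟩
    have hc : Coh.IsCoh (CohB1.tensorMod F ((Scheme.Modules.pullback ι).obj (Twist.twistProjSpace N k (-m)))) :=
      Groth.L16.NegPow.isCoh_of_isFinLocFree (Groth.L29.DC.isFinLocFree_tensor hF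
        (Groth.L29.LocFree.pullback ι (Groth.L20.ResDescent.isFinLocFree_of_isInvertible
          (Groth.L16.ProjTwist.isInvertible_twistProjSpace N k _))))
    have h' := (h _ hc (n - (j : ℕ)) (by omega)).1 (hm₀ m hm)
    rwa [show n - (n - (j : ℕ)) = j by omega] at h'
  choose m₀ hm₀ using hstep
  refine ⟨Finset.univ.sup fun j => (m₀ j).toNat, fun q hq j hj => hm₀ ⟨j, hj⟩ q ?_⟩
  have hle : (m₀ ⟨j, hj⟩).toNat ≤ Finset.univ.sup fun j => (m₀ j).toNat :=
    Finset.le_sup (f := fun j => (m₀ j).toNat) (Finset.mem_univ (⟨j, hj⟩ : Fin n))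
  omega

end Groth.Agent.S15515
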