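import Groth.Statements.S1552
import Groth.Agent.L22.PicGlue.Curve

set_option autoImplicit false
set_option linter.style.haveILetI false
set_option backward.isDefEq.respectTransparency.types false
universe u
open CategoryTheory CategoryTheory.Limits AlgebraicGeometry
open Variety

namespace Groth.Agent.S1552

/-- Let f : X → Y be finite, and V ⊆ Y an open over which f is an isomorphism, with Y minus V a discrete
space. Then every invertible O_X-module is isomorphic to the pullback of an invertible O_Y-module. -/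
theorem result {X Y : Scheme.{u}} (f : X ⟶ Y) [IsFinite f]
    (V : Y.Opens) (hV : IsIso (f ∣_ V)) (hdisc : DiscreteTopology ((V : Set Y)ᶜ : Set Y))
    (L : X.Modules) (hL : PicF.IsInvertible L) :
    ∃ N : Y.Modules, PicF.IsInvertible N ∧ Nonempty ((Scheme.Modules.pullback f).obj N ≅ L) := by
  classical
  -- `f.app` is bijective below `V`
  have happ : ∀ O : Y.Opens, O ≤ V → Function.Bijective (f.app O) := by
    intro O hO
    haveI := hV
    have h1 : IsIso ((f ∣_ V).app (V.ι ⁻¹ᵁ O)) := inferInstance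
    rw [morphismRestrict_app] at h1
    have h2 : V.ι ''ᵁ (V.ι ⁻¹ᵁ O) = O := by
      rw [Scheme.Hom.image_preimage_eq_opensRange_inf, Scheme.Opens.opensRange_ι, inf_eq_right]
      exact hO
    have h4 : IsIso (f.app (V.ι ''ᵁ (V.ι ⁻¹ᵁ O))) := by
      have h6 := @IsIso.comp_isIso _ _ _ _ _ _ (inv (X.presheaf.map
        (eqToHom (image_morphismRestrict_preimage f V (V.ι ⁻¹ᵁ O))).op)) h1 inferInstance
      erw [Category.assoc, IsIso.hom_inv_id, Category.comp_id] at h6
      exact h6
    haveI h3 := h4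
    rw [h2] at h3
    exact ConcreteCategory.bijective_of_isIso _
  -- a trivialised neighbourhood of each point
  have hdata : ∀ y : Y, ∃ (W : Y.Opens) (e : Γ(L, f ⁻¹ᵁ W)), y ∈ W ∧ (y ∈ V → W ≤ V) ∧
      (∀ z ∈ W, z ∉ V → z = y) ∧ Groth.L21.Extend.IsGen L (f ⁻¹ᵁ W) e := by
    intro y
    obtain ⟨W, hyW, ⟨φ⟩⟩ := Groth.L21.Extend.exists_trivial_preimage f L hL y
    obtain ⟨e, he⟩ := Groth.L21.Extend.exists_gen_of_iso L φ
    by_cases hy : y ∈ V
    · exact ⟨W ⊓ V, _, ⟨hyW, hy⟩, fun _ => inf_le_right, fun z hz hzV => (hzV hz.2).elim,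
        he.restrict L (f.preimage_mono inf_le_left)⟩
    · obtain ⟨O, hO, hOe⟩ := isOpen_induced_iff.mp
        (isOpen_discrete ({⟨y, hy⟩} : Set ((V : Set Y)ᶜ : Set Y)))
      have hyO : y ∈ O := by
        have : (⟨y, hy⟩ : ((V : Set Y)ᶜ : Set Y)) ∈ Subtype.val ⁻¹' O := hOe ▸ rfl
        exact this
      refine ⟨W ⊓ ⟨O, hO⟩, _, ⟨hyW, hyO⟩, fun h => (hy h).elim, fun z hz hzV => ?_,
        he.restrict L (f.preimage_mono inf_le_left)⟩
      have : (⟨z, hzV⟩ : ((V : Set Y)ᶜ : Set Y)) ∈ Subtype.val ⁻¹' O := hz.2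
      rw [hOe] at this
      exact congrArg Subtype.val this
  choose W e hyW hWV hW he using hdata
  have hinter : ∀ i j : Y, i ≠ j → W i ⊓ W j ≤ V := by
    intro i j hij z hz
    by_contra h
    exact hij ((hW i z hz.1 h).symm.trans (hW j z hz.2 h))
  -- coefficients
  have hc : ∀ i j : Y, ∃ c : Γ(X, f ⁻¹ᵁ (W i ⊓ W j)),
      c • Groth.L21.Extend.rs L (f.preimage_mono inf_le_left) (e i) =
        Groth.L21.Extend.rs L (f.preimage_mono inf_le_right) (e j) :=
    fun i j => (he i _ (f.preimage_mono inf_le_left)).2 _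
  choose c hc using hc
  have hg : ∀ i j : Y, ∃ g : Γ(Y, W i ⊓ W j), f.app (W i ⊓ W j) g = c i j ∧ (i = j → g = 1) := by
    intro i j
    by_cases hij : i = j
    · subst hij
      refine ⟨1, (map_one _).trans ?_, fun _ => rfl⟩
      refine (he i _ (f.preimage_mono inf_le_left)).1 ?_
      show (1 : Γ(X, f ⁻¹ᵁ (W i ⊓ W i))) • _ = c i i • _
      rw [one_smul, hc]
    · obtain ⟨g, hg⟩ := (happ _ (hinter i j hij)).2 (c i j)
      exact ⟨g, hg, fun h => (hij h).elim⟩
  choose g hgc hg1 using hg
  let C : Groth.L22.PicGlue.Cocycle Y :=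
    { ι := Y
      N := W
      g := g
      one := fun i => hg1 i i rfl
      comp := fun i j k => by
        by_cases hij : i = j
        · subst hij
          rw [hg1 i i rfl, Groth.L22.PicGlue.rO_one, one_mul]
        by_cases hjk : j = k
        · subst hjk
          rw [hg1 j j rfl, Groth.L22.PicGlue.rO_one, mul_one]
        have hle : W i ⊓ W j ⊓ W k ≤ V := inf_le_left.trans (hinter i j hij)
        refine (happ _ hle).1 ?_
        have key : ∀ {p q : Y} (h : W i ⊓ W j ⊓ W k ≤ W p ⊓ W q),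
            f.app (W i ⊓ W j ⊓ W k) (Groth.L21.Extend.rO Y h (g p q)) =
              Groth.L21.Extend.rO X (f.preimage_mono h) (c p q) := fun h =>
          (congr($(f.naturality (homOfLE h).op) _)).trans (congrArg _ (hgc _ _))
        rw [map_mul, key, key, key]
        refine (he i _ (f.preimage_mono (inf_le_left.trans inf_le_left))).1 ?_
        have hrel : ∀ {p q : Y} (h : W i ⊓ W j ⊓ W k ≤ W p ⊓ W q),
            Groth.L21.Extend.rO X (f.preimage_mono h) (c p q) •
              Groth.L21.Extend.rs L (f.preimage_mono (h.trans inf_le_left)) (e p) =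
            Groth.L21.Extend.rs L (f.preimage_mono (h.trans inf_le_right)) (e q) := by
          intro p q h
          have := congrArg (Groth.L21.Extend.rs L (f.preimage_mono h)) (hc p q)
          simp only [Groth.L21.Extend.rs_smul, Groth.L21.Extend.rs_rs] at this
          exact this
        dsimp only
        rw [mul_comm, mul_smul, hrel (le_inf (inf_le_left.trans inf_le_left) (inf_le_left.trans inf_le_right)),
          hrel (le_inf (inf_le_left.trans inf_le_right) inf_le_right),
          hrel (le_inf (inf_le_left.trans inf_le_left) inf_le_right)] }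
  refine ⟨Groth.L22.PicGlue.glueMod C, Groth.L22.PicGlue.isInvertible_glueMod C fun y => ⟨y, hyW y⟩, ?_⟩
  refine Groth.L22.PicGlue.nonempty_iso_of_gens (fun i : Y => f ⁻¹ᵁ W i)
    (e := fun i => Groth.L18.Frame.pull f _ (W i) (Groth.L22.PicGlue.gen C i)) (e' := e)
    (fun i => Groth.L18.Frame.IsFrame.pullback f _ (Groth.L22.PicGlue.isGen_gen C i)) he
    (fun x => ⟨f x, hyW _⟩) ?_
  intro i j O hi hj a ha
  have hO : O ≤ f ⁻¹ᵁ (W i ⊓ W j) := fun z hz => ⟨hi hz, hj hz⟩
  -- the relation upstairs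
  have h1 : c i j • Groth.L21.Extend.rs ((Scheme.Modules.pullback f).obj (Groth.L22.PicGlue.glueMod C))
        (f.preimage_mono inf_le_left) (Groth.L18.Frame.pull f _ (W i) (Groth.L22.PicGlue.gen C i)) =
      Groth.L21.Extend.rs ((Scheme.Modules.pullback f).obj (Groth.L22.PicGlue.glueMod C))
        (f.preimage_mono inf_le_right) (Groth.L18.Frame.pull f _ (W j) (Groth.L22.PicGlue.gen C j)) := by
    refine Eq.trans ?_ (Groth.L18.Frame.pull_rs f _ (inf_le_right : W i ⊓ W j ≤ W j) _).symm
    refine Eq.trans ?_ (congrArg (Groth.L18.Frame.pull f _ (W i ⊓ W j)) (Groth.L22.PicGlue.gen_trans C i j)).symm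
    refine Eq.trans ?_ (Groth.L18.Frame.pull_smul f _ _ _).symm
    rw [← hgc i j]
    exact congrArg (_ • ·) (Groth.L18.Frame.pull_rs f _ (inf_le_left : W i ⊓ W j ≤ W i) _)
  have h2 := congrArg (Groth.L21.Extend.rs _ hO) h1
  simp only [Groth.L21.Extend.rs_smul, Groth.L21.Extend.rs_rs] at h2
  have hac : a = Groth.L21.Extend.rO X hO (c i j) :=
    ((Groth.L18.Frame.IsFrame.pullback f _ (Groth.L22.PicGlue.isGen_gen C i)) O hi).1 (ha.trans h2.symm)
  have h3 := congrArg (Groth.L21.Extend.rs L hO) (hc i j)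
  simp only [Groth.L21.Extend.rs_smul, Groth.L21.Extend.rs_rs] at h3
  rw [hac]
  exact h3

end Groth.Agent.S1552
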