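import Groth.Statements.S15521
import Groth.Agent.L17.DetTensor

set_option autoImplicit false
universe u
open CategoryTheory CategoryTheory.Limits AlgebraicGeometry
open ExtPow

namespace Groth.Agent.S15521

/-- Let X be a scheme and E, F finite locally free O_X-modules of constant ranks e and f, with
determinants det E = Λ^e E, det F = Λ^f F and det(E ⊗ F) = Λ^(e f)(E ⊗ F) (given as O_X-modules DE,
DF, D satisfying the exterior-power predicate). Then det(E ⊗ F) is isomorphic to (det E)^{⊗ f} ⊗
(det F)^{⊗ e}. (Existence of an isomorphism of O_X-modules only; the published statement is for a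
ringed space.) -/
theorem result (X : Scheme.{u}) (E F : X.Modules) (e f : ℕ)
    (hE : FlatMod.IsFinLocFreeOfRank e E) (hF : FlatMod.IsFinLocFreeOfRank f F)
    (DE DF D : X.Modules) (hDE : ExtPow.IsExtPow e E DE) (hDF : ExtPow.IsExtPow f F DF)
    (hD : ExtPow.IsExtPow (e * f) (CohB1.tensorMod E F) D) :
    Nonempty (D ≅ CohB1.tensorMod (CohB1.tensorPow DE f) (CohB1.tensorPow DF e)) := by
  exact Groth.L17.DetTensor.nonempty_det_tensor_iso hE hF hDE hDF hD

end Groth.Agent.S15521
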