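import Groth.Statements.S15522
import Groth.Agent.L17.BC.Exchange
import Groth.Agent.L01.FlatCx.Rank

set_option autoImplicit false
universe u
attribute [local instance] HasDerivedCategory.standard
open Coherent

namespace Groth.Agent.S15522

open AlgebraicGeometry CategoryTheory in
/-- Let A be a reduced Noetherian ring, X a proper scheme over Spec A with structure morphism f, F a
coherent O_X-module flat over Spec A, and p a natural number such that the function y ↦ dim_{κ(y)}
H^p(X_y, F_y) is locally constant on Spec A. For each q write T^q for the functor M ↦ H^q(X, f^*(M~)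
⊗ F) from A-modules to abelian groups. Then T^p takes surjections to surjections, and so does
T^(p-1) when p ≥ 1; equivalently, every base-change map H^q(X, F) ⊗_A M → H^q(X, F ⊗_A M) is
bijective for q = p and q = p - 1. (The published statement also asserts that R^p f_*F is locally
free of finite rank; this row states the two exchange properties only, over an affine base.) -/
theorem result (A : Type u) [CommRing A]
    [IsNoetherianRing A] [IsReduced A] (X : Scheme.{u}) [X.Over (Spec (CommRingCat.of A))]
    [IsProper (X ↘ Spec (CommRingCat.of A))] (F : X.Modules) (hF : Coh.IsCoh F)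
    (hfl : FlatMod.IsFlatOver (X ↘ Spec (CommRingCat.of A)) F) (p : ℕ)
    (hconst : IsLocallyConstant (CohIII.fiberRank (X ↘ Spec (CommRingCat.of A)) F p)) :
    (CohIII.tensorAFunctor A F ⋙ CohIII.HAb X p).PreservesEpimorphisms ∧
      ∀ q : ℕ, q + 1 = p → (CohIII.tensorAFunctor A F ⋙ CohIII.HAb X q).PreservesEpimorphisms := by
  obtain ⟨m, hm⟩ := Groth.L17.BC.TensorA.exists_complex F hF hfl
  obtain ⟨e⟩ := hm p
  haveI : Coh.IsQCoh F := hF.1
  haveI := fun i => (m.finiteFree i).1
  haveI := fun i => (m.finiteFree i).2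
  haveI : ∀ i, Module.FinitePresentation A (m.L.X i) := fun i => Module.finitePresentation_of_finite A _
  have hd : IsLocallyConstant (CohIII.dRank m.L (p : ℤ)) := by
    have e : CohIII.dRank m.L (p : ℤ) = CohIII.fiberRank (X ↘ Spec (CommRingCat.of A)) F p :=
      funext fun y => (Groth.L17.BC.Exchange.fiberRank_eq_dRank m y p).symm
    rw [e]
    exact hconst
  have hi : (ComplexShape.up ℤ).prev (p : ℤ) = (p : ℤ) - 1 := CochainComplex.prev ℤ _
  have hl : (ComplexShape.up ℤ).next ((p : ℤ) - 1) = (p : ℤ) :=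
    (ComplexShape.up ℤ).next_eq' (by simp)
  have key := fun x => Groth.L01.FlatCx.dRank_add_mu m.L hi (Groth.L17.BC.Exchange.next_eq (p : ℤ)) x
  have hr : IsLocallyConstant (Groth.L01.FlatCx.mu (A := A) (m.L.X ((p : ℤ) + 1))) :=
    Groth.L01.FlatCx.isLocallyConstant_mu _
  rw [IsLocallyConstant.iff_eventually_eq] at hd hr
  have h : ∀ z, (∀ᶠ x in nhds z, Groth.L01.FlatCx.mu (A := A) (Groth.L01.FlatCx.Coker m.L ((p : ℤ) - 1) p) x =
        Groth.L01.FlatCx.mu (A := A) (Groth.L01.FlatCx.Coker m.L ((p : ℤ) - 1) p) z) ∧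
      ∀ᶠ x in nhds z, Groth.L01.FlatCx.mu (A := A) (Groth.L01.FlatCx.Coker m.L (p : ℤ) (p + 1)) x =
        Groth.L01.FlatCx.mu (A := A) (Groth.L01.FlatCx.Coker m.L (p : ℤ) (p + 1)) z := fun z => by
    refine Groth.L01.FlatCx.eventually_eq_of_add (Groth.L01.FlatCx.mu_eventually_le _ z)
      (Groth.L01.FlatCx.mu_eventually_le _ z) ?_
    filter_upwards [hd z, hr z] with x e1 e2
    have := key x; have := key z
    omega
  refine ⟨?_, fun q hq => ?_⟩
  · rw [Groth.L17.BC.Exchange.preservesEpi_iff e, Groth.L01.FlatCx.preservesEpi_iff m.L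
      (Groth.L17.BC.Exchange.next_eq _) (Groth.L17.BC.Exchange.prev_eq _) m.flat_X]
    exact Groth.L01.FlatCx.flat_of_isLocallyConstant _
      ((IsLocallyConstant.iff_eventually_eq _).2 fun z => (h z).2)
  · obtain ⟨e'⟩ := hm q
    have hq' : (q : ℤ) = (p : ℤ) - 1 := by omega
    rw [Groth.L17.BC.Exchange.preservesEpi_iff e', hq', Groth.L01.FlatCx.preservesEpi_iff m.L hl hi m.flat_X]
    exact Groth.L01.FlatCx.flat_of_isLocallyConstant _
      ((IsLocallyConstant.iff_eventually_eq _).2 fun z => (h z).1)

end Groth.Agent.S15522
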