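import Groth.Statements.S15525
import Mathlib.LinearAlgebra.Matrix.Charpoly.Eigs
import Mathlib.LinearAlgebra.Matrix.Charpoly.Coeff
import Mathlib.Analysis.Complex.Polynomial.Basic
import Mathlib.Tactic

set_option autoImplicit false
universe u
open Zeta

namespace Groth.Agent.S15525

/-- Let L be a field with a ring embedding ι into ℂ and M an r × r matrix over L all of whose
eigenvalues, the complex roots of its characteristic polynomial mapped along ι, have absolute value
1. Then every coefficient of the characteristic polynomial of the block-diagonal matrix with blocks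
M and the inverse transpose of M is mapped by ι into ℝ. This is the pointwise content of the
assertion that for a lisse sheaf F pure of weight 0 the sum of F and its dual is real, the Frobenius
of the dual acting by the inverse transpose. -/
theorem result (L : Type u) [Field L] (ι : L →+* ℂ)
    {r : ℕ} (M : Matrix (Fin r) (Fin r) L)
    (hM : ∀ z ∈ ((Matrix.charpoly M).map ι).roots, ‖z‖ = 1) (n : ℕ) :
    (ι ((Matrix.fromBlocks M 0 0 (M⁻¹).transpose).charpoly.coeff n)).im = 0 := by
  classical
  set A : Matrix (Fin r) (Fin r) ℂ := M.map ι with hA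
  have hAc : A.charpoly = M.charpoly.map ι := Matrix.charpoly_map M ι
  have hsplit : A.charpoly = (A.charpoly.roots.map fun z => Polynomial.X - Polynomial.C z).prod :=
    (Polynomial.Splits.eq_prod_roots_of_monic (IsAlgClosed.splits _) (Matrix.charpoly_monic A))
  have hroots : ∀ z ∈ A.charpoly.roots, ‖z‖ = 1 := by rw [hAc]; exact hM
  have hcard : A.charpoly.roots.card = r := by
    rw [Polynomial.splits_iff_card_roots.mp (IsAlgClosed.splits _), Matrix.charpoly_natDegree_eq_dim, Fintype.card_fin]
  have hdet : A.det = A.charpoly.roots.prod := Matrix.det_eq_prod_roots_charpoly A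
  have hdetA : IsUnit A := (Matrix.isUnit_iff_isUnit_det A).mpr (isUnit_iff_ne_zero.mpr (by
    rw [hdet]
    refine Multiset.prod_ne_zero fun h0 => ?_
    simpa using hroots 0 h0))
  have hdetM : IsUnit M.det := isUnit_iff_ne_zero.mpr fun h => by
    have := (Matrix.isUnit_iff_isUnit_det A).mp hdetA
    rw [hA, show (M.map ι).det = ι M.det from (RingHom.map_det ι M).symm, h, map_zero] at this
    exact not_isUnit_zero this
  have hinv : (M⁻¹).map ι = A⁻¹ := (Matrix.inv_eq_left_inv (by
    rw [hA, ← Matrix.map_mul, Matrix.nonsing_inv_mul M hdetM, Matrix.map_one _ (map_zero ι) (map_one ι)])).symm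
  have hconj : A⁻¹.charpoly = A.charpoly.map (starRingEnd ℂ) := by
    rw [Matrix.charpoly_inv A hdetA, ← Matrix.reverse_charpoly, hdet, Fintype.card_fin]
    conv_rhs => rw [hsplit]
    conv_lhs => arg 2; rw [hsplit]
    rw [Polynomial.map_multiset_prod, Multiset.map_map, Ring.inverse_eq_inv']
    conv_lhs => arg 1; arg 1; arg 2; rw [← hcard]
    clear hsplit hcard hdet
    revert hroots
    generalize A.charpoly.roots = s
    intro hroots
    induction s using Multiset.induction_on with
    | empty => simp [Polynomial.reverse, Polynomial.reflect_C]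
    | cons z s ih =>
      rw [Multiset.map_cons, Multiset.map_cons, Multiset.prod_cons, Multiset.prod_cons, Multiset.prod_cons,
        ← ih (fun w hw => hroots w (Multiset.mem_cons_of_mem hw)), Polynomial.reverse_mul_of_domain,
        Multiset.card_cons, pow_succ, mul_inv, map_mul]
      have hz : ‖z‖ = 1 := hroots z (Multiset.mem_cons_self z s)
      have hz' : z⁻¹ = (starRingEnd ℂ) z := Complex.inv_eq_conj hz
      have hz0 : z ≠ 0 := fun h => by simp [h] at hz
      have hrev : (Polynomial.X - Polynomial.C z).reverse = 1 - Polynomial.C z * Polynomial.X := by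
        rw [sub_eq_add_neg, ← Polynomial.C_neg, add_comm, Polynomial.reverse, Polynomial.natDegree_C_add,
          Polynomial.natDegree_X, Polynomial.reflect_add, Polynomial.reflect_C,
          show Polynomial.reflect 1 (Polynomial.X : Polynomial ℂ) = 1 by
            simpa [Polynomial.revAt] using (Polynomial.reflect_monomial 1 1 : Polynomial.reflect 1 ((Polynomial.X : Polynomial ℂ) ^ 1) = _)]
        simp [sub_eq_neg_add]
      have hlin : (-1 : Polynomial ℂ) * Polynomial.C z⁻¹ * (Polynomial.X - Polynomial.C z).reverse =
          (Polynomial.X - Polynomial.C z).map (starRingEnd ℂ) := by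
        rw [hrev]
        simp only [Polynomial.map_sub, Polynomial.map_X, Polynomial.map_C, ← hz', mul_sub, mul_one, ← mul_assoc]
        rw [mul_assoc (-1 : Polynomial ℂ), ← Polynomial.C_mul, inv_mul_cancel₀ hz0]
        simp only [map_one, mul_one]
        ring
      simp only [Function.comp_apply]
      rw [← hlin]
      ring
  have hreal : (Matrix.fromBlocks M 0 0 (M⁻¹).transpose).charpoly.map ι =
      A.charpoly * A.charpoly.map (starRingEnd ℂ) := by
    rw [Matrix.charpoly_fromBlocks_zero₁₂, Matrix.charpoly_transpose, Polynomial.map_mul, ← hAc,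
      ← Matrix.charpoly_map, hinv, hconj]
  rw [← Polynomial.coeff_map, hreal, ← Complex.conj_eq_iff_im]
  have : (A.charpoly * A.charpoly.map (starRingEnd ℂ)).map (starRingEnd ℂ) =
      A.charpoly * A.charpoly.map (starRingEnd ℂ) := by
    rw [Polynomial.map_mul, Polynomial.map_map, show (starRingEnd ℂ).comp (starRingEnd ℂ) = RingHom.id ℂ from
      RingHom.ext Complex.conj_conj, Polynomial.map_id, mul_comm]
  conv_rhs => rw [← this]
  rw [Polynomial.coeff_map]

end Groth.Agent.S15525
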