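import Groth.Statements.S15526
import Mathlib.RingTheory.Ideal.Quotient.Operations
import Mathlib.Algebra.MvPolynomial.Basic
import Mathlib.Algebra.Polynomial.AlgebraMap

set_option autoImplicit false
universe u
open MvPolynomial
open CAlg

namespace Groth.Agent.S15526

/-- Let R be a commutative ring, P ∈ R[x] a monic polynomial of degree 2g + 1, and A = R[x, y, z]/(y^2 −
P(x), yz − 1). Then every element of A is a finite sum Σ_n Q_n(x) y^n over integers n, negative
powers of y meaning powers of z, with each Q_n ∈ R[x] of degree at most 2g: the R-submodule of A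
spanned by the classes of x^i y^n and x^i z^n with i ≤ 2g and n ≥ 0 is all of A. (The published
statement takes for R the ring of Witt vectors of a finite field and for P a lift of a separable
polynomial; the argument uses only that P is monic of degree 2g + 1.) -/
theorem result (R : Type u) [CommRing R] (g : ℕ)
    (P : Polynomial R) (hP : P.Monic) (hdeg : P.natDegree = 2 * g + 1) :
    Submodule.span R {a : MvPolynomial (Fin 3) R ⧸
        Ideal.span ({X 1 ^ 2 - Polynomial.aeval (X 0 : MvPolynomial (Fin 3) R) P, X 1 * X 2 - 1} :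
          Set (MvPolynomial (Fin 3) R)) |
        ∃ i n : ℕ, i ≤ 2 * g ∧
          (a = Ideal.Quotient.mk _ (X 0 ^ i * X 1 ^ n) ∨ a = Ideal.Quotient.mk _ (X 0 ^ i * X 2 ^ n))} =
      ⊤ := by
  classical
  let I := Ideal.span ({X 1 ^ 2 - Polynomial.aeval (X 0 : MvPolynomial (Fin 3) R) P, X 1 * X 2 - 1} :
    Set (MvPolynomial (Fin 3) R))
  let q : MvPolynomial (Fin 3) R →ₐ[R] (MvPolynomial (Fin 3) R ⧸ I) := Ideal.Quotient.mkₐ R I
  set S := {a : MvPolynomial (Fin 3) R ⧸ I |
        ∃ i n : ℕ, i ≤ 2 * g ∧ (a = q (X 0 ^ i * X 1 ^ n) ∨ a = q (X 0 ^ i * X 2 ^ n))} with hS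
  change Submodule.span R S = ⊤
  set N := Submodule.span R S
  have hyz : q (X 1) * q (X 2) = 1 := by
    rw [← map_mul, ← map_one q, ← sub_eq_zero, ← map_sub]
    exact Ideal.Quotient.eq_zero_iff_mem.mpr (Ideal.subset_span (Or.inr rfl))
  have hx : q (X 1) ^ 2 = Polynomial.aeval (q (X 0)) P := by
    rw [Polynomial.aeval_algHom_apply q (X 0) P, ← map_pow, ← sub_eq_zero, ← map_sub]
    exact Ideal.Quotient.eq_zero_iff_mem.mpr (Ideal.subset_span (Or.inl rfl))
  have hmul : ∀ c, (∀ a ∈ S, c * a ∈ N) → ∀ a ∈ N, c * a ∈ N := fun c h a ha =>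
    (Submodule.span_le.mpr h : N ≤ N.comap (LinearMap.mulLeft R c)) ha
  have gy : ∀ i n, i ≤ 2 * g → q (X 0) ^ i * q (X 1) ^ n ∈ N := fun i n h =>
    Submodule.subset_span ⟨i, n, h, Or.inl (by simp)⟩
  have gz : ∀ i n, i ≤ 2 * g → q (X 0) ^ i * q (X 2) ^ n ∈ N := fun i n h =>
    Submodule.subset_span ⟨i, n, h, Or.inr (by simp)⟩
  have hY : ∀ a ∈ N, q (X 1) * a ∈ N := hmul _ fun a ⟨i, n, hi, ha⟩ => by
    rcases ha with rfl | rfl
    · rw [map_mul, map_pow, map_pow, mul_left_comm, ← pow_succ']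
      exact gy i _ hi
    · rcases n with _ | n
      · have h := gy i 1 hi
        rw [pow_one] at h
        rw [map_mul, map_pow, map_pow, pow_zero, mul_one, mul_comm]
        exact h
      · rw [map_mul, map_pow, map_pow, mul_left_comm, pow_succ', ← mul_assoc (q (X 1)), hyz, one_mul]
        exact gz i n hi
  have hZ : ∀ a ∈ N, q (X 2) * a ∈ N := hmul _ fun a ⟨i, n, hi, ha⟩ => by
    rcases ha with rfl | rfl
    · rcases n with _ | n
      · have h := gz i 1 hi
        rw [pow_one] at h
        rw [map_mul, map_pow, map_pow, pow_zero, mul_one, mul_comm]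
        exact h
      · rw [map_mul, map_pow, map_pow, mul_left_comm, pow_succ', ← mul_assoc (q (X 2)), mul_comm (q (X 2)), hyz, one_mul]
        exact gy i n hi
    · rw [map_mul, map_pow, map_pow, mul_left_comm, ← pow_succ']
      exact gz i _ hi
  have htop : ∀ w ∈ N, (∀ j, j ≤ 2 * g → q (X 0) ^ j * w ∈ N) → q (X 0) ^ (2 * g + 1) * w ∈ N := by
    intro w hw hj
    have hP' : q (X 0) ^ (2 * g + 1) = q (X 1) ^ 2 -
        ∑ j ∈ Finset.range (2 * g + 1), P.coeff j • q (X 0) ^ j := by
      rw [hx, Polynomial.aeval_eq_sum_range, hdeg, Finset.sum_range_succ _ (2 * g + 1), ← hdeg, hP.coeff_natDegree,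
        one_smul, hdeg, add_sub_cancel_left]
    rw [hP', sub_mul, Finset.sum_mul]
    refine sub_mem (by rw [pow_two, mul_assoc]; exact hY _ (hY _ hw)) (Submodule.sum_mem _ fun j hj' => ?_)
    rw [smul_mul_assoc]
    exact N.smul_mem _ (hj j (by rw [Finset.mem_range] at hj'; omega))
  have hX : ∀ a ∈ N, q (X 0) * a ∈ N := hmul _ fun a ⟨i, n, hi, ha⟩ => by
    rcases ha with rfl | rfl <;> rw [map_mul, map_pow, map_pow, ← mul_assoc, ← pow_succ'] <;>
      rcases hi.eq_or_lt with rfl | hlt
    · exact htop _ (by simpa using gy 0 n (Nat.zero_le _)) fun j hj => gy j n hj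
    · exact gy _ n hlt
    · exact htop _ (by simpa using gz 0 n (Nat.zero_le _)) fun j hj => gz j n hj
    · exact gz _ n hlt
  rw [eq_top_iff]
  intro a hmem
  clear hmem
  obtain ⟨p, rfl⟩ := Ideal.Quotient.mk_surjective a
  change q p ∈ N
  induction p using MvPolynomial.induction_on with
  | C c =>
    have h1 : q 1 ∈ N := by simpa using gy 0 0 (Nat.zero_le _)
    rw [show (MvPolynomial.C c : MvPolynomial (Fin 3) R) = c • 1 by simp [MvPolynomial.smul_eq_C_mul], map_smul]
    exact N.smul_mem c h1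
  | add a b ha hb => rw [map_add]; exact add_mem ha hb
  | mul_X a j ha =>
    rw [map_mul, mul_comm]
    fin_cases j
    exacts [hX _ ha, hY _ ha, hZ _ ha]

end Groth.Agent.S15526
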