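import Groth.Statements.S15529
import Groth.Agent.L15.Hyper.Pn
-- import your own Groth.Agent.* helpers here

set_option autoImplicit false
universe u
open DeRhamSh

namespace Groth.Agent.S15529

open CategoryTheory AlgebraicGeometry in
/-- For a ring A, n ≥ 1 and a de Rham complex D of the sheaf of differentials of projective n-space
P^n_A over A, the de Rham cohomology group H^m_dR(P^n_A/A) = H^m(P^n_A, D) vanishes for every
integer m which is not of the form 2i with 0 ≤ i ≤ n. -/
theorem result (A : Type u) [CommRing A] (n : ℕ) (hn : 1 ≤ n)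
    [QuasiSeparated (CohB1.ProjSpace.toSpec n A)] (D : DeRhamSh.OmegaCx (CohB1.ProjSpace.toSpec n A))
    [HasDerivedCategory.{u} (Sheaf (Opens.grothendieckTopology ↥(CohB1.ProjSpace n A)) AddCommGrpCat.{u})]
    (m : ℤ) (hm : ∀ i : ℕ, i ≤ n → m ≠ 2 * (i : ℤ)) :
    Subsingleton (DeRhamSh.HdR D m) := by
  exact Groth.L15.PnDR.subsingleton_hdR n A D hn m hm

end Groth.Agent.S15529
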