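import Groth.Statements.S15533
import Groth.Agent.L19.SmoothDiffZero
import Groth.Prelude.Def_OmAff
import Mathlib.AlgebraicGeometry.Morphisms.Proper

set_option autoImplicit false
set_option backward.isDefEq.respectTransparency.types false
set_option backward.isDefEq.respectTransparency false
set_option linter.style.haveILetI false
universe u
open OmegaSh

namespace Groth.Agent.S15533

open CategoryTheory AlgebraicGeometry in
/-- For a field k and a smooth proper k-scheme X with structure morphism f, the derivation d : O_X →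
Ω_{X/k} of f vanishes on global functions: d(s) = 0 in Γ(X, Ω_{X/k}) for every s ∈ Γ(X, O_X). -/
theorem result (k : Type u) [Field k] (X : Scheme.{u})
    (f : X ⟶ Spec (CommRingCat.of k)) [IsProper f] [Smooth f] (s : Γ(X, ⊤)) :
    (OmegaSh.dOmega f).app ⊤ s = 0 := by
  have hint := isIntegral_appTop_of_universallyClosed f
  let V : (Spec (CommRingCat.of k)).affineOpens := ⟨⊤, isAffineOpen_top _⟩
  have hF : IsField Γ(Spec (CommRingCat.of k), ⊤) :=
    MulEquiv.isField (Field.toIsField k)
      (Scheme.ΓSpecIso (CommRingCat.of k)).commRingCatIsoToRingEquiv.toMulEquiv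
  have key : ∀ U : X.affineOpens,
      (Omega.sheaf f).presheaf.map (homOfLE (le_top : U.1 ≤ ⊤)).op ((OmegaSh.dOmega f).app ⊤ s) = 0 := by
    intro U
    refine ((OmegaSh.dSect_map f (le_top : U.1 ≤ ⊤) s).symm).trans ?_
    letI := hF.toField
    letI : Algebra Γ(Spec (CommRingCat.of k), ⊤) Γ(X, U.1) := (f.appLE ⊤ U.1 le_top).hom.toAlgebra
    haveI : Algebra.Smooth Γ(Spec (CommRingCat.of k), ⊤) Γ(X, U.1) :=
      f.smooth_appLE V.2 U.2 le_top
    have hs : IsIntegral Γ(Spec (CommRingCat.of k), ⊤) (X.presheaf.map (homOfLE (le_top : U.1 ≤ ⊤)).op s) := by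
      obtain ⟨P, hP, hP'⟩ := hint s
      refine ⟨P, hP, ?_⟩
      have := congrArg (X.presheaf.map (homOfLE (le_top : U.1 ≤ ⊤)).op).hom hP'
      rw [map_zero, Polynomial.hom_eval₂] at this
      exact this
    have hD := Groth.L19.SmoothDiffZero.D_eq_zero hs
    refine ((OmAff.toSect_d f ⊤ U.1 le_top _).symm).trans ?_
    exact (congrArg (OmAff.toSect f ⊤ U.1 le_top).hom hD).trans (map_zero _)
  have hcov : (⊤ : X.Opens) ≤ ⨆ U : X.affineOpens, U.1 := by
    intro x _
    obtain ⟨_, ⟨U, hU, rfl⟩, hxU, -⟩ :=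
      X.isBasis_affineOpens.exists_subset_of_mem_open (Set.mem_univ x) isOpen_univ
    exact TopologicalSpace.Opens.mem_iSup.2 ⟨⟨U, hU⟩, hxU⟩
  exact TopCat.Sheaf.eq_of_locally_eq'
    (⟨(Omega.sheaf f).presheaf, (Omega.sheaf f).isSheaf⟩ : TopCat.Sheaf Ab X.toTopCat)
    (fun U : X.affineOpens => U.1) ⊤ (fun U => homOfLE le_top) hcov _ _
    (fun U => (key U).trans (map_zero _).symm)

end Groth.Agent.S15533
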