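import Groth.Statements.S15535
import Groth.Agent.S3701
import Groth.Agent.L16.EtaleFibre.Stein
import Groth.Agent.L26.AV.SmoothField
import Groth.Prelude.Def_OmAff

set_option autoImplicit false
universe u
open OmegaSh

namespace Groth.Agent.S15535

open CategoryTheory CategoryTheory.Limits AlgebraicGeometry TopologicalSpace


/-- Differentials vanish on elements coming from a formally unramified algebra. -/
theorem D_eq_zero {A C B : Type u} [CommRing A] [CommRing C] [CommRing B] [Algebra A C] [Algebra A B]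
    [Algebra.FormallyUnramified A C] (φ : C →ₐ[A] B) (c : C) : KaehlerDifferential.D A B (φ c) = 0 := by
  letI := φ.toRingHom.toAlgebra
  haveI : IsScalarTower A C B := IsScalarTower.of_algebraMap_eq fun a => (φ.commutes a).symm
  have h := KaehlerDifferential.map_D A A C B c
  rw [Subsingleton.elim (KaehlerDifferential.D A C c) 0, map_zero] at h
  exact h.symm

theorem dSect_eq_zero {S X : Scheme.{u}} (f : X ⟶ S) [IsProper f] [Smooth f] {W : S.Opens} (hW : IsAffineOpen W)
    (U : X.Opens) (hUW : U ≤ f ⁻¹ᵁ W) (s : Γ(X, f ⁻¹ᵁ W)) :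
    OmegaSh.dSect f U (X.presheaf.map (homOfLE hUW).op s) = 0 := by
  have hst : IsFinite f.fromNormalization ∧ Etale f.fromNormalization :=
    Groth.Agent.S3701.result f fun Ω _ _ σ => Groth.Agent.AV.isReduced_of_smooth_field (pullback.snd f σ)
  haveI := hst.1
  haveI := hst.2
  let Z := f.fromNormalization ⁻¹ᵁ W
  have hle : f ⁻¹ᵁ W ≤ f.toNormalization ⁻¹ᵁ Z := Groth.L16.EtaleFibre.le_toNormalization W
  haveI := Groth.L16.EtaleFibre.isIso_appLE_toNormalization (f := f) W hle
  obtain ⟨c, rfl⟩ := ((ConcreteCategory.isIso_iff_bijective (f.toNormalization.appLE Z (f ⁻¹ᵁ W) hle)).1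
    inferInstance).2 s
  letI : Algebra Γ(S, W) Γ(X, U) := (f.appLE W U hUW).hom.toAlgebra
  letI : Algebra Γ(S, W) Γ(f.normalization, Z) := (f.fromNormalization.appLE W Z le_rfl).hom.toAlgebra
  haveI : Algebra.FormallyUnramified Γ(S, W) Γ(f.normalization, Z) :=
    (f.fromNormalization.etale_appLE hW (hW.preimage f.fromNormalization) le_rfl).formallyUnramified
  let φ : Γ(f.normalization, Z) →ₐ[Γ(S, W)] Γ(X, U) :=
    { (f.toNormalization.appLE Z (f ⁻¹ᵁ W) hle ≫ X.presheaf.map (homOfLE hUW).op).hom with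
      commutes' := fun a => by
        show (f.fromNormalization.appLE W Z le_rfl ≫
          f.toNormalization.appLE Z (f ⁻¹ᵁ W) hle ≫ X.presheaf.map (homOfLE hUW).op).hom a = (f.appLE W U hUW).hom a
        rw [Scheme.Hom.appLE_map, Scheme.Hom.appLE_comp_appLE]
        exact congrArg (fun ψ : Γ(S, W) ⟶ Γ(X, U) => ψ.hom a) (by congr 1; exact f.toNormalization_fromNormalization) }
  have hD : KaehlerDifferential.D Γ(S, W) Γ(X, U) (φ c) = 0 := D_eq_zero φ c
  refine ((OmAff.toSect_d f W U hUW _).symm).trans ?_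
  exact (congrArg (OmAff.toSect f W U hUW).hom hD).trans (map_zero _)


open CategoryTheory AlgebraicGeometry in
/-- For a quasi-compact quasi-separated scheme S and a proper morphism f : X → S which is smooth of
relative dimension n with all fibres nonempty (f surjective), the map d : f_*O_X → f_*Ω_{X/S}
induced by the derivation of f is zero: d(s) = 0 for every section s of O_X over an open of the form
f⁻¹(V), V open in S. (The published lemma also asserts that f_*O_X is a finite étale O_S-algebra and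
that Rf_*O_X splits off f_*O_X locally on S with perfect complement of tor amplitude in [1, ∞);
those parts are not stated here.) -/
theorem result (S X : Scheme.{u}) (f : X ⟶ S)
    [CompactSpace ↥S] [QuasiSeparatedSpace ↥S] [IsProper f] (n : ℕ) [SmoothOfRelativeDimension n f]
    [Surjective f] (V : S.Opens) (s : Γ(X, f ⁻¹ᵁ V)) :
    (OmegaSh.dOmega f).app (f ⁻¹ᵁ V) s = 0 := by
  haveI : Smooth f := SmoothOfRelativeDimension.smooth n f
  let κ := {p : S.affineOpens × X.affineOpens // p.1.1 ≤ V ∧ p.2.1 ≤ f ⁻¹ᵁ p.1.1}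
  have hcov : f ⁻¹ᵁ V ≤ ⨆ p : κ, p.1.2.1 := by
    intro x hx
    obtain ⟨_, ⟨W, hW, rfl⟩, hxW, hWV⟩ := S.isBasis_affineOpens.exists_subset_of_mem_open hx V.2
    obtain ⟨_, ⟨U, hU, rfl⟩, hxU, hUW⟩ :=
      X.isBasis_affineOpens.exists_subset_of_mem_open (a := x) (show x ∈ f ⁻¹ᵁ W from hxW) (f ⁻¹ᵁ W).2
    exact Opens.mem_iSup.2 ⟨⟨(⟨W, hW⟩, ⟨U, hU⟩), hWV, hUW⟩, hxU⟩
  refine TopCat.Sheaf.eq_of_locally_eq'
    (⟨(Omega.sheaf f).presheaf, (Omega.sheaf f).isSheaf⟩ : TopCat.Sheaf Ab X.toTopCat)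
    (fun p : κ => p.1.2.1) (f ⁻¹ᵁ V) (fun p => homOfLE (p.2.2.trans (f.preimage_mono p.2.1))) hcov _ _
    (fun p => (?_ : _ = (0 : Γ(Omega.sheaf f, p.1.2.1))).trans (map_zero _).symm)
  refine ((OmegaSh.dSect_map f (p.2.2.trans (f.preimage_mono p.2.1)) s).symm).trans ?_
  have e : X.presheaf.map (homOfLE (p.2.2.trans (f.preimage_mono p.2.1))).op s =
      X.presheaf.map (homOfLE p.2.2).op (X.presheaf.map (homOfLE (f.preimage_mono p.2.1)).op s) := by
    rw [← CommRingCat.comp_apply, ← Functor.map_comp]; rfl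
  rw [e]
  exact dSect_eq_zero f p.1.1.2 p.1.2.1 p.2.2 _

end Groth.Agent.S15535
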