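import Groth.Statements.S15536
import Groth.Agent.L14.DeRham.PolyHomotopy

set_option autoImplicit false
universe u
open DeRham

namespace Groth.Agent.S15536

open exteriorPower Polynomial in
/-- For a commutative ℚ-algebra R, an R-algebra A, de Rham differentials d on ⋀^• Ω_{A/R} and d' on ⋀^•
Ω_{A[t]/R}, and the map of de Rham complexes ψ induced by the inclusion A → A[t] (pinned by its
values on the elements b₀ db₁ ∧ … ∧ db_p and commuting with d, d'), the map ψ is a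
quasi-isomorphism: in every degree i, each d'-closed form on A[t] is the sum of ψ_i of a d-closed
form on A and a d'-exact form, and a d-closed form on A whose image under ψ_i is d'-exact is d-exact
(in degree 0, exact means zero). -/
theorem result (R A : Type u) [CommRing R]
    [CommRing A] [Algebra R A] [Algebra ℚ R]
    (d : ∀ p : ℕ, ↥(⋀[A]^p (Ω[A⁄R])) →ₗ[R] ↥(⋀[A]^(p + 1) (Ω[A⁄R])))
    (hd : DeRham.IsDiff (KaehlerDifferential.D R A) d)
    (d' : ∀ p : ℕ, ↥(⋀[A[X]]^p (Ω[A[X]⁄R])) →ₗ[R] ↥(⋀[A[X]]^(p + 1) (Ω[A[X]⁄R])))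
    (hd' : DeRham.IsDiff (KaehlerDifferential.D R A[X]) d')
    (ψ : ∀ p : ℕ, ↥(⋀[A]^p (Ω[A⁄R])) →+ ↥(⋀[A[X]]^p (Ω[A[X]⁄R])))
    (hψ : DeRham.IsCxMap (KaehlerDifferential.D R A) (KaehlerDifferential.D R A[X]) (algebraMap A A[X]) ψ)
    (hcomm : ∀ (p : ℕ) (x : ↥(⋀[A]^p (Ω[A⁄R]))), ψ (p + 1) (d p x) = d' p (ψ p x)) (i : ℕ) :
    (∀ y ∈ DeRham.cocycles d' i, ∃ x ∈ DeRham.cocycles d i, y - ψ i x ∈ DeRham.coboundaries d' i) ∧
      (∀ x ∈ DeRham.cocycles d i, ψ i x ∈ DeRham.coboundaries d' i → x ∈ DeRham.coboundaries d i) := by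
  exact Groth.L14.DeRham.homotopy_invariance hd hd' hψ hcomm i

end Groth.Agent.S15536
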