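import Groth.Statements.S15538
import Groth.Agent.L29.DCoh.ExtRegImm

set_option autoImplicit false
universe u
open RegImm

namespace Groth.Agent.S15538

open CategoryTheory CategoryTheory.Limits AlgebraicGeometry in
/-- For a closed immersion i : Z → X which is a regular immersion of codimension c, a finite locally
free O_X-module E and any O_Z-module F, the groups Ext^q(i_*F, E), computed in the category of all
O_X-modules (the Ext instance is the stated hypothesis; it holds), vanish for q < c. (The published
statement allows any locally free E, possibly of infinite rank; E is taken finite locally free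
here.) -/
theorem result (X Z : Scheme.{u}) [HasExt.{u} X.Modules]
    (i : Z ⟶ X) [IsClosedImmersion i] (c : ℕ)
    (hi : RegImm.IsRegularImmersionOfCodim RegImm.Kind.regular c i) (E : X.Modules)
    (hE : FlatMod.IsFinLocFree E) (F : Z.Modules) (q : ℕ) (hq : q < c) :
    Subsingleton (Abelian.Ext ((Scheme.Modules.pushforward i).obj F) E q) := by
  haveI := Groth.L17.Duality.hasSheafHom ((Scheme.Modules.pushforward i).obj F)
  haveI : HasInjectiveResolutions X.Modules := Groth.L17.PushQCoh.hasInjectiveResolutions X
  haveI : HasInjectiveResolutions (ModSite.Mod X.sheaf) := ‹HasInjectiveResolutions X.Modules›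
  obtain ⟨E', a, hfin, -, hpage⟩ := Groth.Agent.S11919.result X ((Scheme.Modules.pushforward i).obj F) E
  have h := Groth.L29.DC.RegExt.isZero_abutment a (q : ℤ) (hfin q) fun p j hpj => by
    obtain ⟨e⟩ := hpage p j
    refine IsZero.of_iso ?_ e
    by_cases hc : 0 ≤ p ∧ 0 ≤ j
    · rw [if_pos hc]
      obtain ⟨e'⟩ := Groth.L22.ExtSh.nonempty_extSh_iso ((Scheme.Modules.pushforward i).obj F) E j.toNat
      haveI := Groth.L03.Euler.subsingleton_HH_of_isZero
        (IsZero.of_iso (Groth.L29.DC.ExtRegImm.isZero_extSh_push i c hi E hE F j.toNat (by omega)) e') p.toNat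
      exact AddCommGrpCat.isZero_of_subsingleton _
    · rw [if_neg hc]
      exact isZero_zero _
  rw [if_pos (by simp), Int.toNat_natCast] at h
  exact AddCommGrpCat.subsingleton_of_isZero h

end Groth.Agent.S15538
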