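import Groth.Statements.S15541
import Groth.Agent.L15.Frob.SyntSch
-- import your own Groth.Agent.* helpers here

set_option autoImplicit false
universe u
open FrobSch

namespace Groth.Agent.S15541

open CategoryTheory AlgebraicGeometry in
/-- For a prime p, a scheme S of characteristic p and a morphism f : X → S which is smooth of relative
dimension d, the relative Frobenius F_{X/S} : X → X^{(p)} is syntomic (the published assertion is
'finite syntomic'; finiteness of the relative Frobenius of a morphism locally of finite type is a
separate known result and is not restated; the assertion about the trace maps Θ on de Rham complexes
is not stated here). -/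
theorem result (p : ℕ) [Fact p.Prime] (S X : Scheme.{u})
    [FrobSch.IsCharP S p] (f : X ⟶ S) (d : ℕ) [SmoothOfRelativeDimension d f] :
    Synt.IsSyntomicMor (FrobSch.relFrob f p) := by
  exact fun x => Groth.L15.Frob.isSyntomicAt_relFrob p f d x

end Groth.Agent.S15541
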