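import Groth.Statements.S15545
import Groth.Agent.L06.ProCons
import Mathlib.AlgebraicGeometry.Morphisms.UniversallyOpen

set_option autoImplicit false
set_option backward.isDefEq.respectTransparency.types false
set_option backward.isDefEq.respectTransparency false
set_option linter.style.haveILetI false
open CategoryTheory AlgebraicGeometry
universe u
open FDesc

namespace Groth.Agent.S15545

/-- Let f : X' ⟶ X be flat, quasi-compact and surjective, and Z a pro-constructible subset of X (locally
on X an intersection of locally constructible subsets) which is dense in X. Then the preimage of Z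
under f is dense in X'. -/
theorem result {X' X : Scheme.{u}} (f : X' ⟶ X)
    [Flat f] [QuasiCompact f] [Surjective f] (Z : Set X) (hZ : ProCons.IsProConstructible Z)
    (hd : Dense Z) : Dense (f.base ⁻¹' Z) := by
  rw [dense_iff_inter_open]
  rintro W hW ⟨x, hx⟩
  obtain ⟨η, hη⟩ : ∃ η : X', IsGenericPoint η (irreducibleComponent x) :=
    QuasiSober.sober isIrreducible_irreducibleComponent isClosed_irreducibleComponent
  have hηW : η ∈ W := (hη.specializes mem_irreducibleComponent).mem_open hW hx
  refine ⟨η, hηW, ?_⟩
  have hmax : ∀ y : X', y ⤳ η → y = η := fun y hy => by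
    have h1 : irreducibleComponent x ⊆ closure {y} := by
      rw [← hη.def]
      exact closure_minimal (Set.singleton_subset_iff.mpr hy.mem_closure) isClosed_closure
    have h2 : closure {y} = irreducibleComponent x :=
      ((irreducibleComponent_mem_irreducibleComponents x).eq_of_ge
        (isIrreducible_singleton.closure) h1)
    exact (show IsGenericPoint y (irreducibleComponent x) from h2).eq hη
  obtain ⟨_, ⟨(V : X.Opens), hV, rfl⟩, hηV, -⟩ := X.isBasis_affineOpens.exists_subset_of_mem_open
    (Set.mem_univ (f η)) isOpen_univ
  replace hV : IsAffineOpen V := hV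
  haveI := Groth.L19.Limit.spectralSpace_opens hV
  have hcl := Groth.L06.ProCons.isProConstructible_iff_cc.mp hZ V hV
  have hmem : (⟨f η, hηV⟩ : (V : Scheme.{u})) ∈ closure (V.ι ⁻¹' Z) := by
    rw [← V.ι.isOpenEmbedding.isOpenMap.preimage_closure_eq_closure_preimage V.ι.continuous]
    exact hd _
  obtain ⟨e, heZ, he⟩ := Groth.L06.Spectral.exists_specializes_of_mem_closure hcl hmem
  obtain ⟨y, hy, hfy⟩ := Flat.generalizingMap f (he.map V.ι.continuous : V.ι e ⤳ f η)
  show f η ∈ Z
  rw [← hmax y hy, hfy]
  exact heZ

end Groth.Agent.S15545
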