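import Groth.Statements.S15546
import Mathlib.FieldTheory.Separable
import Mathlib.RingTheory.Flat.Basic
import Mathlib.RingTheory.TensorProduct.Basic
import Mathlib.FieldTheory.IsAlgClosed.Basic

set_option autoImplicit false
open scoped TensorProduct
universe u
open Unram

namespace Groth.Agent.S15546

/-- Let E be a finite extension of a field k which is not separable over k, and K an algebraic closure
of k. Then E ⊗_k K has a nonzero nilpotent element. -/
theorem result (k E K : Type u) [Field k] [Field E]
    [Algebra k E] [FiniteDimensional k E] [Field K] [Algebra k K] [IsAlgClosure k K]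
    (h : ¬ Algebra.IsSeparable k E) : ∃ x : E ⊗[k] K, x ≠ 0 ∧ IsNilpotent x := by
  classical
  obtain ⟨x, hx⟩ : ∃ x : E, ¬ IsSeparable k x := by
    by_contra h'
    push Not at h'
    exact h ⟨h'⟩
  haveI : IsAlgClosed K := IsAlgClosure.isAlgClosed k
  let p := minpoly k x
  have hint : IsIntegral k x := IsIntegral.of_finite k x
  have hp : p ≠ 0 := minpoly.ne_zero hint
  let P := p.map (algebraMap k K)
  have hP0 : P ≠ 0 := Polynomial.map_ne_zero hp
  have hnd : ¬ P.roots.Nodup := fun hn =>
    hx ((Polynomial.nodup_aroots_iff_of_splits hp (IsAlgClosed.splits P)).mp hn)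
  obtain ⟨r, hr⟩ : ∃ r, 1 < P.roots.count r := by
    by_contra h'
    push Not at h'
    exact hnd (Multiset.nodup_iff_count_le_one.mpr h')
  rw [Polynomial.count_roots] at hr
  obtain ⟨q, hq⟩ : (Polynomial.X - Polynomial.C r) ^ 2 ∣ P :=
    dvd_trans (pow_dvd_pow _ hr) (Polynomial.pow_rootMultiplicity_dvd P r)
  let g := (Polynomial.X - Polynomial.C r) * q
  let y : K ⊗[k] E := (1 : K) ⊗ₜ[k] x
  have hy : Polynomial.aeval y P = 0 := by
    rw [Polynomial.aeval_map_algebraMap, show y = Algebra.TensorProduct.includeRight x from rfl,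
      Polynomial.aeval_algHom_apply, minpoly.aeval, map_zero]
  have hg0 : g ≠ 0 := fun h0 => hP0 (by rw [hq, sq, mul_assoc, show (Polynomial.X - Polynomial.C r) * q = 0 from h0, mul_zero])
  have hgd : g.natDegree < p.natDegree := by
    have : P.natDegree = 1 + g.natDegree := by
      rw [show P = (Polynomial.X - Polynomial.C r) * g by rw [hq, sq, mul_assoc], Polynomial.natDegree_mul
        (Polynomial.X_sub_C_ne_zero r) hg0, Polynomial.natDegree_X_sub_C]
    rw [Polynomial.natDegree_map] at this
    omega
  have hli : LinearIndependent K fun i : Fin p.natDegree => (1 : K) ⊗ₜ[k] (x ^ (i : ℕ)) :=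
    Module.Flat.linearIndependent_one_tmul (linearIndependent_pow x)
  have hw : Polynomial.aeval y g ≠ 0 := by
    intro h0
    refine hg0 (Polynomial.ext fun i => ?_)
    rw [Polynomial.coeff_zero]
    by_cases hi : i < p.natDegree
    · rw [Polynomial.aeval_eq_sum_range' hgd] at h0
      exact Fintype.linearIndependent_iff.mp hli (fun j => g.coeff j) (by
        rw [← h0, Finset.sum_range fun j => g.coeff j • y ^ j]
        exact Finset.sum_congr rfl fun j _ => by simp [y, Algebra.TensorProduct.tmul_pow]) ⟨i, hi⟩
    · exact Polynomial.coeff_eq_zero_of_natDegree_lt (by omega)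
  refine ⟨Algebra.TensorProduct.comm k K E (Polynomial.aeval y g), ?_, 2, ?_⟩
  · rwa [ne_eq, EmbeddingLike.map_eq_zero_iff]
  · rw [← map_pow, ← map_pow]
    have : g ^ 2 = P * q := by rw [hq]; ring
    rw [this, map_mul, hy, zero_mul, map_zero]

end Groth.Agent.S15546
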