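import Groth.Statements.S15548
import Groth.Agent.L01.TorLES
import Groth.Agent.L28.HomElt
import Groth.Agent.L28.Balance
import Mathlib.RingTheory.Filtration
import Mathlib.LinearAlgebra.TensorProduct.Quotient

set_option autoImplicit false
universe u
open CategoryTheory
open scoped TensorProduct
open CAlg

namespace Groth.Agent.S15548

open scoped TensorProduct in
theorem tmul_eq_zero_iff_mem {R : Type u} [CommRing R] (J : Ideal R) {P : Type u} [AddCommGroup P] [Module R P] (y : P) :
    (Submodule.Quotient.mk (1 : R) : R ⧸ J) ⊗ₜ[R] y = 0 ↔ y ∈ J • (⊤ : Submodule R P) := by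
  rw [← (TensorProduct.quotTensorEquivQuotSMul P J).map_eq_zero_iff]
  erw [TensorProduct.quotTensorEquivQuotSMul_mk_tmul]
  rw [one_smul, Submodule.Quotient.mk_eq_zero]

open scoped TensorProduct in
theorem exists_eq_one_tmul {R : Type u} [CommRing R] (J : Ideal R) {P : Type u} [AddCommGroup P] [Module R P]
    (z : (R ⧸ J) ⊗[R] P) : ∃ y : P, z = (Submodule.Quotient.mk (1 : R) : R ⧸ J) ⊗ₜ[R] y := by
  induction z with
  | zero => exact ⟨0, by rw [TensorProduct.tmul_zero]⟩
  | tmul a y =>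
    obtain ⟨r, rfl⟩ := Submodule.Quotient.mk_surjective J a
    refine ⟨r • y, ?_⟩
    rw [← TensorProduct.smul_tmul, ← Submodule.Quotient.mk_smul, smul_eq_mul, mul_one]
  | add a b ha hb =>
    obtain ⟨a, rfl⟩ := ha
    obtain ⟨b, rfl⟩ := hb
    exact ⟨a + b, (TensorProduct.tmul_add _ _ _).symm⟩
theorem apply_mem_smul {R : Type u} [CommRing R] {X Y : Type u} [AddCommGroup X] [Module R X]
    [AddCommGroup Y] [Module R Y] (f : X →ₗ[R] Y) (J : Ideal R) {N : Submodule R X} {N' : Submodule R Y}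
    (h : N.map f ≤ N') {x : X} (hx : x ∈ J • N) : f x ∈ J • N' := by
  have := Submodule.mem_map_of_mem (f := f) hx
  rw [Submodule.map_smul''] at this
  exact Submodule.smul_mono le_rfl h this


/-- Let R be a Noetherian commutative ring, I an ideal of R and M a finitely generated R-module. Then
for every natural number n there is m ≥ n such that the map Tor_1^R(M, R/I^m) → Tor_1^R(M, R/I^n)
induced by the projection R/I^m → R/I^n is the zero map. Here Tor_1^R(M, -) is the first left
derived functor of M ⊗_R - (derived in the second variable). -/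
theorem result (R : Type u) [CommRing R] [IsNoetherianRing R] (I : Ideal R)
    (M : Type u) [AddCommGroup M] [Module R M] [Module.Finite R M] (n : ℕ) :
    ∃ m : ℕ, n ≤ m ∧ ∀ h : I ^ m ≤ I ^ n,
      ((CategoryTheory.Tor (ModuleCat.{u} R) 1).obj (ModuleCat.of R M)).map
        (ModuleCat.ofHom (Submodule.factor h)) = 0 := by
  let Q := projectiveResolution (ModuleCat.of R M)
  have hQ := Groth.L28.Balance.isRes_projectiveResolution Q
  obtain ⟨l, q, hq⟩ := Module.Finite.exists_fin' R M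
  let ε : Q.complex.X 0 →ₗ[R] M := (Q.π.f 0).hom
  haveI hP0 : Module.Projective R (Q.complex.X 0) := (IsProjective.iff_projective _).mpr (Q.projective 0)
  obtain ⟨α, hα⟩ := Module.projective_lifting_property q ε hq
  obtain ⟨β, hβ⟩ := Module.projective_lifting_property ε q hQ.surj
  obtain ⟨k, hk⟩ := Ideal.exists_pow_inf_eq_pow_smul I (LinearMap.ker q)
  -- Artin-Rees in the projective module
  have hAR : ∀ z, ε z = 0 → z ∈ I ^ (n + k) • (⊤ : Submodule R (Q.complex.X 0)) →
      z ∈ I ^ n • LinearMap.ker ε := by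
    intro z hz hzm
    have h1 : α z ∈ I ^ (n + k) • (⊤ : Submodule R (Fin l → R)) ⊓ LinearMap.ker q := by
      refine ⟨?_, ?_⟩
      · exact apply_mem_smul α _ le_top hzm
      · exact (LinearMap.congr_fun hα z).trans hz
    rw [hk (n + k) (Nat.le_add_left k n), Nat.add_sub_cancel] at h1
    have h2 : β (α z) ∈ I ^ n • LinearMap.ker ε := by
      refine apply_mem_smul β _ ?_ h1
      rintro _ ⟨w, hw, rfl⟩
      exact (LinearMap.congr_fun hβ w).trans hw.2
    have h3 : z - β (α z) ∈ I ^ (n + k) • LinearMap.ker ε := by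
      refine apply_mem_smul (LinearMap.id - β ∘ₗ α) _ ?_ hzm
      rintro _ ⟨w, -, rfl⟩
      rw [LinearMap.mem_ker, LinearMap.sub_apply, LinearMap.id_apply, map_sub, LinearMap.comp_apply,
        show ε (β (α w)) = q (α w) from LinearMap.congr_fun hβ (α w),
        show q (α w) = ε w from LinearMap.congr_fun hα w, sub_self]
    have h4 : z - β (α z) ∈ I ^ n • LinearMap.ker ε :=
      Submodule.smul_mono (Ideal.pow_le_pow_right (Nat.le_add_right n k)) le_rfl h3
    rw [show z = (z - β (α z)) + β (α z) by abel]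
    exact add_mem h4 h2
  refine ⟨n + k, Nat.le_add_right n k, fun h => ?_⟩
  obtain ⟨e⟩ := Groth.L01.TorLES.nonempty_tor_iso Q 1
  set g : ModuleCat.of R (R ⧸ I ^ (n + k)) ⟶ ModuleCat.of R (R ⧸ I ^ n) :=
    ModuleCat.ofHom (Submodule.factor h)
  suffices hz : HomologicalComplex.homologyMap ((Groth.L01.TorLES.cx Q.complex).map g) 1 = 0 by
    rw [← cancel_mono (e.hom.app (ModuleCat.of R (R ⧸ I ^ n))), e.hom.naturality g]
    exact (congrArg _ hz).trans (Limits.comp_zero.trans Limits.zero_comp.symm)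
  refine ModuleCat.hom_ext (LinearMap.ext fun a => ?_)
  obtain ⟨c, rfl⟩ := Groth.L28.HomElt.homologyπ_surjective _ 1 a
  refine (Groth.L28.HomElt.homologyMap_π _ 1 c).trans ?_
  rw [ModuleCat.hom_zero, LinearMap.zero_apply,
    Groth.L28.HomElt.π_eq_zero_iff (i := 2) ((ComplexShape.down ℕ).prev_eq' rfl)]
  have hd := Groth.L28.HomElt.d_iCycles 1 0 c
  rw [Groth.L28.HomElt.iCycles_cyclesMap]
  generalize ((Groth.L01.TorLES.cx Q.complex).obj (ModuleCat.of R (R ⧸ I ^ (n + k)))).iCycles 1 c = z at hd ⊢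
  obtain ⟨y, rfl⟩ := exists_eq_one_tmul (I ^ (n + k)) (P := Q.complex.X 1) z
  have hdy : Q.complex.d 1 0 y ∈ I ^ (n + k) • (⊤ : Submodule R (Q.complex.X 0)) :=
    (tmul_eq_zero_iff_mem _ _).1 hd
  have hker : LinearMap.ker ε = LinearMap.range (Q.complex.d 1 0).hom := hQ.exact₀.linearMap_ker_eq
  have h5 := hAR _ (hQ.exact₀.apply_apply_eq_zero y) hdy
  rw [hker, LinearMap.range_eq_map, ← Submodule.map_smul''] at h5
  obtain ⟨y', hy', hyy⟩ := h5
  obtain ⟨u, hu⟩ := (hQ.exact 0 (y - y')).1 (by rw [map_sub, sub_eq_zero]; exact hyy.symm)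
  refine ⟨(Submodule.Quotient.mk (1 : R) : R ⧸ I ^ n) ⊗ₜ[R] u, ?_⟩
  change (Submodule.Quotient.mk (1 : R) : R ⧸ I ^ n) ⊗ₜ[R] (Q.complex.d 2 1 u) =
    (Submodule.Quotient.mk (1 : R) : R ⧸ I ^ n) ⊗ₜ[R] y
  rw [← sub_eq_zero, ← TensorProduct.tmul_sub, tmul_eq_zero_iff_mem]
  erw [hu]
  rw [sub_sub_cancel_left]
  exact neg_mem hy'

end Groth.Agent.S15548
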