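import Groth.Statements.S15549
import Mathlib.RingTheory.GradedAlgebra.Radical
import Mathlib.RingTheory.Ideal.Operations
import Mathlib.RingTheory.Noetherian.Basic

set_option autoImplicit false
universe u
open CategoryTheory AlgebraicGeometry
open LocCoh

namespace Groth.Agent.S15549

/-- Let R be a Noetherian commutative ring, positively graded by additive subgroups R_d, with irrelevant
ideal R_+ and X = Proj R, and let M be a graded R-module which is the direct sum of its pieces M_i,
i ≥ 0 (non-negatively graded here). For every i and every m ∈ M_i, the global section of M(i)~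
defined by m (the value m/1 at every point) is zero if and only if some power of R_+ annihilates m.
Equivalently, degree by degree, the kernel of the canonical map from M to the direct sum over all n
of Γ(X, M(n)~) is the R_+-power-torsion submodule H^0_{R_+}(M). -/
theorem result {R σ : Type u} [CommRing R] [IsNoetherianRing R] [SetLike σ R] [AddSubgroupClass σ R]
    (𝒜 : ℕ → σ) [GradedRing 𝒜] {M τ : Type u} [AddCommGroup M] [Module R M] [SetLike τ M] [AddSubgroupClass τ M]
    (ℳ : ℕ → τ) [SetLike.GradedSMul 𝒜 ℳ] [DirectSum.Decomposition ℳ]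
    (i : ℕ) (m : ℳ i) :
    GrMod.alpha 𝒜 ℳ i m = 0 ↔
      ∃ k : ℕ, ∀ r : R, r ∈ (HomogeneousIdeal.irrelevant 𝒜).toIdeal ^ k → r • (m : M) = 0 := by

    classical
    let Ann : Ideal R := LinearMap.ker (LinearMap.toSpanSingleton R M (m : M))
    have hAnn : ∀ r, r ∈ Ann ↔ r • (m : M) = 0 := fun r => LinearMap.mem_ker
    have hhom : Ann.IsHomogeneous 𝒜 := by
      intro j r hr
      rw [hAnn] at hr ⊢
      have key : ∀ k, ((DirectSum.decompose ℳ (((DirectSum.decompose 𝒜 r k : 𝒜 k) : R) • (m : M)) (j + i) : ℳ (j + i)) : M) =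
          if k = j then ((DirectSum.decompose 𝒜 r j : 𝒜 j) : R) • (m : M) else 0 := by
        intro k
        have hk : ((DirectSum.decompose 𝒜 r k : 𝒜 k) : R) • (m : M) ∈ ℳ (k + i) :=
          SetLike.GradedSMul.smul_mem (DirectSum.decompose 𝒜 r k).2 m.2
        by_cases h : k = j
        · subst h
          rw [if_pos rfl, DirectSum.decompose_of_mem_same ℳ hk]
        · rw [if_neg h, DirectSum.decompose_of_mem_ne ℳ hk (fun hh => h (Nat.add_right_cancel hh))]
      have h0 := congrArg (fun z => ((DirectSum.decompose ℳ z (j + i) : ℳ (j + i)) : M)) hr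
      simp only [DirectSum.decompose_zero, DirectSum.zero_apply, ZeroMemClass.coe_zero] at h0
      rw [← DirectSum.sum_support_decompose 𝒜 r, Finset.sum_smul, DirectSum.decompose_sum, DFinsupp.finsetSum_apply,
        AddSubmonoidClass.coe_finsetSum, Finset.sum_congr rfl (fun k _ => key k), Finset.sum_ite_eq'] at h0
      by_cases hj : j ∈ (DirectSum.decompose 𝒜 r).support
      · rwa [if_pos hj] at h0
      · rw [DFinsupp.notMem_support_iff.1 hj, ZeroMemClass.coe_zero, zero_smul]
    constructor
    · intro h
      have hle : (HomogeneousIdeal.irrelevant 𝒜).toIdeal ≤ Ann.radical := by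
        rw [hhom.radical_eq]
        refine le_sInf ?_
        rintro P ⟨hP, hAP, hPp⟩
        by_contra hirr
        let x : ProjectiveSpectrum 𝒜 := ⟨⟨P, hP⟩, hPp, hirr⟩
        have h1 : LocalizedModule.mk (m : M) (1 : x.asHomogeneousIdeal.toIdeal.primeCompl) = 0 := by
          have := congrArg (fun t => GrMod.val t (⟨x, trivial⟩ : (⊤ : (Proj 𝒜).Opens))) h
          exact this
        rw [← LocalizedModule.zero_mk (S := x.asHomogeneousIdeal.toIdeal.primeCompl) 1, LocalizedModule.mk_eq] at h1
        obtain ⟨⟨s, hs⟩, h1⟩ := h1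
        simp only [Submonoid.mk_smul, one_smul, smul_zero] at h1
        exact hs (hAP ((hAnn s).2 h1))
      obtain ⟨k, hk⟩ := Ideal.exists_pow_le_of_le_radical_of_fg hle (IsNoetherian.noetherian _)
      exact ⟨k, fun r hr => (hAnn r).1 (hk hr)⟩
    · rintro ⟨k, hk⟩
      refine Subtype.ext (funext fun x => Subtype.ext ?_)
      change LocalizedModule.mk (m : M) 1 = (0 : GrMod.LocMod 𝒜 (M := M) x.1)
      haveI := x.1.isPrime
      obtain ⟨s, hs, hsx⟩ := Set.not_subset.1 x.1.not_irrelevant_le
      rw [← LocalizedModule.zero_mk (S := x.1.asHomogeneousIdeal.toIdeal.primeCompl) 1, LocalizedModule.mk_eq]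
      refine ⟨⟨s ^ k, fun hh => hsx (x.1.isPrime.mem_of_pow_mem k hh)⟩, ?_⟩
      simp only [Submonoid.mk_smul, one_smul, smul_zero]
      exact hk _ (Ideal.pow_mem_pow hs k)

end Groth.Agent.S15549
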