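import Groth.Statements.S15553
import Groth.Agent.L09.SectionExt

set_option autoImplicit false
universe v₁ v₂ v₃ u₁ u₂ u₃
open CategoryTheory
open FibCat

namespace Groth.Agent.S15553

/-- Let f : C ⥤ D be a fibred category such that every fibre of f is non-empty and has trivial
fundamental groupoid in the sense that for every groupoid G the constant-functor functor G ⥤ (f⁻¹(Y)
⥤ G) is an equivalence; let p : F ⥤ D be a category fibred in groupoids over D. Then restriction
along f, from sections of F over D (functors D ⥤ F over D, with natural transformations over
identities) to sections of F over the diagram f (functors C ⥤ F over D), is an equivalence of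
categories. (The published statement allows any fibred category F with its cartesian sections; this
row takes F fibred in groupoids, where every arrow is cartesian and every section is a cartesian
section. The test groupoids G are taken with objects and morphisms in a universe level containing
all the categories involved.) -/
theorem result
    {C : Type u₁} [Category.{v₁} C] {D : Type u₂} [Category.{v₂} D] {F : Type u₃} [Category.{v₃} F]
    (f : C ⥤ D) [f.IsFibered] (p : F ⥤ D) [FibCat.IsFibGrpd p]
    (hf : ∀ Y : D, W4c2modmodulilect.HasContractibleNerve.{max u₁ u₂ u₃ v₁ v₂ v₃, max u₁ u₂ u₃ v₁ v₂ v₃} (f.Fiber Y)) :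
    (Stk.restr (FibCat.toSelf (BasedCategory.ofFunctor f)) (BasedCategory.ofFunctor p)).IsEquivalence := by
  have hp : FibCat.IsFibGrpd p := inferInstance
  have key : ∀ Y Z : D, Nonempty (StructuredArrow Y f) ∧
      Groth.L09.SectionExt.Trivial (StructuredArrow Y f) (p.Fiber Z) := fun Y Z => by
    have := Groth.L09.Fib.isGroupoid_fiber_of_isFibGrpd p hp Z
    exact Groth.L09.SectionExt.trivial_structuredArrow (hf Y).1
      (Groth.L09.SectionExt.trivial_of_hasContractibleNerve.{max u₁ u₂ u₃ v₁ v₂ v₃} (hf Y))
  exact Groth.L09.SectionExt.restr_isEquivalence hp (fun Y => (key Y Y).1) (fun Y Z => (key Y Z).2)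

end Groth.Agent.S15553
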