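import Groth.Statements.S15554
import Groth.Agent.L26.BertiniGen.Hyp
import Mathlib.FieldTheory.IsAlgClosed.AlgebraicClosure
import Mathlib.AlgebraicGeometry.Morphisms.UnderlyingMap

set_option autoImplicit false
universe u
open CategoryTheory CategoryTheory.Limits AlgebraicGeometry
open SmVar

namespace Groth.Agent.S15554

set_option backward.isDefEq.respectTransparency false
set_option backward.isDefEq.respectTransparency.types false
open Groth.Agent.BertiniGen

/-- Let k be an infinite field and X ⊆ P^n_k a smooth projective variety, given as an integral scheme X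
with a closed immersion ι into projective n-space over k through which X is smooth over k. Then X
has a smooth hyperplane section defined over k: there is a global section s of the twisting sheaf
O(1) on P^n_k whose zero scheme H, a hyperplane defined over k, does not contain X and for which the
scheme-theoretic intersection X ∩ H = X ×_{P^n_k} H is smooth over k. (The published statement also
records that X ∩ H has dimension dim X − 1; that is automatic once X is integral and not contained
in H, so this row states smoothness together with X ⊄ H.) -/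
theorem result (k : Type u) [Field k] [Infinite k] (n : ℕ)
    (X : Scheme.{u}) [IsIntegral X] (ι : X ⟶ CohB1.ProjSpace n k) [IsClosedImmersion ι]
    [Smooth (ι ≫ CohB1.ProjSpace.toSpec n k)] :
    ∃ s : Coh.structureModule (CohB1.ProjSpace n k) ⟶ Twist.twistProjSpace n k 1,
      (∃ x : ↥X, ι.base x ∉ (PicF2.zeroScheme (Twist.twistProjSpace n k 1) s).support) ∧
      Smooth (pullback.fst ι (PicF2.zeroScheme (Twist.twistProjSpace n k 1) s).subschemeι ≫ ι ≫
        CohB1.ProjSpace.toSpec n k) := by
  letI : X.Over (Spec (CommRingCat.of k)) := ⟨ι ≫ CohB1.ProjSpace.toSpec n k⟩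
  haveI : Smooth (X ↘ Spec (CommRingCat.of k)) := ‹_›
  haveI : QuasiCompact (X ↘ Spec (CommRingCat.of k)) := by
    haveI : QuasiCompact (CohB1.ProjSpace.toSpec n k) := inferInstance
    exact inferInstanceAs (QuasiCompact (ι ≫ CohB1.ProjSpace.toSpec n k))
  let K := AlgebraicClosure k
  let g := Spec.map (CommRingCat.ofHom (algebraMap k K))
  let Y := pullback (X ↘ Spec (CommRingCat.of k)) g
  letI : Y.Over (Spec (CommRingCat.of K)) := ⟨pullback.snd _ _⟩
  have sq : IsPullback (pullback.fst _ _) (Y ↘ Spec (CommRingCat.of K)) (X ↘ Spec (CommRingCat.of k)) g :=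
    IsPullback.of_hasPullback _ _
  haveI : Surjective g := ⟨fun x => ⟨(⊥ : PrimeSpectrum K), Subsingleton.elim (α := PrimeSpectrum k) _ _⟩⟩
  haveI : Nonempty Y := by
    obtain ⟨x⟩ := (inferInstance : Nonempty X)
    exact ⟨(Surjective.surj (f := pullback.fst (X ↘ Spec (CommRingCat.of k)) g) x).choose⟩
  obtain ⟨c, hc, j, hj⟩ := (hyperplanes ι rfl).exists_member sq
  refine ⟨linSection c, ?_, ?_⟩
  · have hj' : (hyperplanes ι rfl).eqn c j ≠ 0 := fun h => hj (by
      rw [← (hyperplanes ι rfl).eqn_baseChange sq, h, map_zero])
    obtain ⟨x, hx⟩ := (hyperplanes ι rfl).exists_notMem_support hj'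
    refine ⟨x, fun h => hx ?_⟩
    rw [← comap_linSection ι rfl c, Scheme.IdealSheafData.support_comap]
    exact h
  · rw [← comap_linSection ι rfl c] at hc
    rw [← Scheme.IdealSheafData.comapIso_inv_subschemeι, Category.assoc]
    exact (MorphismProperty.cancel_left_of_respectsIso @Smooth _ _).2 hc

end Groth.Agent.S15554
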