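import Groth.Statements.S15555
import Mathlib.AlgebraicGeometry.Morphisms.Smooth
import Mathlib.FieldTheory.Finite.Basic
import Mathlib.RingTheory.Smooth.Basic

set_option autoImplicit false
universe u
open CategoryTheory AlgebraicGeometry
open Zeta

namespace Groth.Agent.S15555

open Polynomial

/-- Form evaluated in an algebra. -/
def formVal {T : Type u} [CommRing T] (q : ℕ) {n : ℕ} (g : Fin (n + 1) ⊕ Fin (n + 1) → T) : T :=
  ∑ i, (g (.inl i) * g (.inr i) ^ q - g (.inr i) * g (.inl i) ^ q)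

theorem exists_pair (k : Type u) [Field k] (n : ℕ) (hn : 1 ≤ n) (c : Fin (n + 1) ⊕ Fin (n + 1) → k) :
    ∃ a b : Fin (n + 1) ⊕ Fin (n + 1) → k, (∑ v, c v * a v = 0) ∧ (∑ v, c v * b v = 0) ∧
      ∑ i, (a (.inl i) * b (.inr i) - a (.inr i) * b (.inl i)) ≠ 0 := by
  classical
  haveI : Nontrivial (Fin (n + 1)) := Fin.nontrivial_iff_two_le.mpr (by omega)
  by_cases h : ∃ j, c (.inl j) = 0 ∧ c (.inr j) = 0
  · obtain ⟨j, h1, h2⟩ := h
    refine ⟨Pi.single (.inl j) 1, Pi.single (.inr j) 1, ?_, ?_, ?_⟩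
    · simp [Pi.single_apply, h1]
    · simp [Pi.single_apply, h2]
    · simp [Pi.single_apply]
  push Not at h
  obtain ⟨i, j, hij⟩ := exists_pair_ne (Fin (n + 1))
  obtain ⟨v₀, hv₀, hv₀i⟩ : ∃ v₀, c v₀ ≠ 0 ∧ (v₀ = .inl i ∨ v₀ = .inr i) := by
    by_cases h0 : c (.inl i) = 0
    · exact ⟨_, h i h0, .inr rfl⟩
    · exact ⟨_, h0, .inl rfl⟩
  let a : Fin (n + 1) ⊕ Fin (n + 1) → k := Pi.single (.inl j) (c (.inr j)) + Pi.single (.inr j) (-c (.inl j))
  let om : (Fin (n + 1) ⊕ Fin (n + 1) → k) → k := fun b =>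
    ∑ l, (a (.inl l) * b (.inr l) - a (.inr l) * b (.inl l))
  have hom : ∀ b, om b = c (.inr j) * b (.inr j) + c (.inl j) * b (.inl j) := by
    intro b
    show ∑ l, _ = _
    rw [Finset.sum_eq_single j]
    · simp [a, Pi.single_apply]
    · intro l _ hl; simp [a, Pi.single_apply, hl]
    · simp
  obtain ⟨w, hw⟩ : ∃ w : Fin (n + 1) ⊕ Fin (n + 1) → k, om w ≠ 0 := by
    by_cases h0 : c (.inl j) = 0
    · exact ⟨Pi.single (.inr j) 1, by simp [hom, Pi.single_apply, h j h0]⟩
    · exact ⟨Pi.single (.inl j) 1, by simp [hom, Pi.single_apply, h0]⟩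
  refine ⟨a, w + Pi.single v₀ (-(∑ v, c v * w v) / c v₀), ?_, ?_, ?_⟩
  · simp [a, Pi.single_apply, mul_add, Finset.sum_add_distrib, mul_comm]
  · simp [Pi.single_apply, mul_add, Finset.sum_add_distrib, mul_div_cancel₀ _ hv₀]
  · show om _ ≠ 0
    rw [hom]
    rw [hom] at hw
    rcases hv₀i with rfl | rfl <;> simpa [Pi.single_apply, hij.symm] using hw

theorem obstruction (k : Type u) [Field k] [Fintype k] (n : ℕ) (hn : 1 ≤ n)
    (c : Fin (n + 1) ⊕ Fin (n + 1) → k) :
    ∃ (T₁ : Type u) (_ : CommRing T₁) (_ : Algebra k T₁) (J : Ideal T₁) (g : Fin (n + 1) ⊕ Fin (n + 1) → T₁),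
      IsNilpotent J ∧ formVal (Fintype.card k) g ∈ J ∧ ∑ v, algebraMap k T₁ (c v) * g v ∈ J ∧
      (∀ v, ∃ N : ℕ, (g v - algebraMap k T₁ (Sum.elim (fun i => -c (.inr i)) (fun i => c (.inl i)) v)) ^ N = 0) ∧
      ∀ g', (∀ v, g' v - g v ∈ J) → formVal (Fintype.card k) g' = 0 →
        ∑ v, algebraMap k T₁ (c v) * g' v = 0 → False := by
  classical
  obtain ⟨a, b, hca, hcb, hab⟩ := exists_pair k n hn c
  let q := Fintype.card k
  let P : Fin (n + 1) ⊕ Fin (n + 1) → k := Sum.elim (fun i => -c (.inr i)) (fun i => c (.inl i))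
  have hq : 2 ≤ q := Fintype.one_lt_card
  let I : Ideal (Polynomial (Polynomial k)) := Ideal.span {(X : Polynomial (Polynomial k)) ^ (q + 2)}
  let T₁ : Type u := Polynomial (Polynomial k) ⧸ I
  letI : CommRing T₁ := Ideal.Quotient.commRing I
  letI : Algebra k T₁ := Ideal.Quotient.algebra k
  let π : Polynomial (Polynomial k) →+* T₁ := Ideal.Quotient.mk I
  let t : T₁ := π X
  let ι : Polynomial k →+* T₁ := π.comp C
  let v : Fin (n + 1) ⊕ Fin (n + 1) → k[X] := fun x => C (a x) + X * C (b x)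
  let g : Fin (n + 1) ⊕ Fin (n + 1) → T₁ := fun x => algebraMap k T₁ (P x) + t * ι (v x)
  have ht : t ^ (q + 2) = 0 := by
    rw [← map_pow]
    exact Ideal.Quotient.eq_zero_iff_mem.mpr (Ideal.mem_span_singleton_self _)
  haveI : Nontrivial T₁ := Ideal.Quotient.nontrivial_iff.mpr (by
    rw [Ne, Ideal.span_singleton_eq_top]
    intro h
    have := natDegree_eq_zero_of_isUnit h
    simp at this)
  obtain ⟨ch, hch⟩ := ExpChar.exists k
  haveI := hch
  haveI : ExpChar T₁ ch := expChar_of_injective_algebraMap (algebraMap k T₁).injective ch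
  obtain ⟨m, hm⟩ : ∃ m : ℕ, q = ch ^ m := by
    obtain ⟨p, hp⟩ := CharP.exists k
    haveI := hp
    haveI := Fact.mk (CharP.char_is_prime k p)
    obtain ⟨e, -, he⟩ := FiniteField.card k p
    rw [ExpChar.eq hch (ExpChar.prime (CharP.char_is_prime k p))]
    exact ⟨e, he⟩
  have hfr : ∀ x y : T₁, (x + y) ^ q = x ^ q + y ^ q := fun x y => by rw [hm, add_pow_expChar_pow]
  have hk : ∀ x : k, algebraMap k T₁ x ^ q = algebraMap k T₁ x := fun x => by
    rw [← map_pow, FiniteField.pow_card]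
  let Lin : (Fin (n + 1) ⊕ Fin (n + 1) → T₁) → T₁ := fun r => ∑ x, algebraMap k T₁ (c x) * r x
  have hLv : Lin (fun x => ι (v x)) = 0 := by
    have : Lin (fun x => ι (v x)) = ι (C (∑ x, c x * a x) + X * C (∑ x, c x * b x)) := by
      simp only [Lin, v, map_sum, map_add, map_mul, Finset.mul_sum, ← Finset.sum_add_distrib]
      refine Finset.sum_congr rfl fun x _ => ?_
      rw [show algebraMap k T₁ (c x) = ι (C (c x)) from rfl]
      ring
    rw [this, hca, hcb]; simp
  have hLP : Lin (fun x => algebraMap k T₁ (P x)) = 0 := by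
    simp only [Lin, P, Fintype.sum_sum_type, Sum.elim_inl, Sum.elim_inr, ← map_mul, ← map_sum, ← map_add]
    rw [← Finset.sum_add_distrib, Finset.sum_eq_zero fun i _ => by ring, map_zero]
  have hFP : ∀ i, algebraMap k T₁ (P (.inl i)) * algebraMap k T₁ (P (.inr i)) ^ q -
      algebraMap k T₁ (P (.inr i)) * algebraMap k T₁ (P (.inl i)) ^ q = 0 := fun i => by
    rw [hk, hk]; ring
  have hkey : ∀ r : Fin (n + 1) ⊕ Fin (n + 1) → T₁,
      formVal q (fun x => g x + t ^ (q + 1) * r x) =
        t ^ (q + 1) * (formVal q (fun x => ι (v x))) + t ^ (q + 1) * Lin r := by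
    intro r
    have hLq : ∑ i, (algebraMap k T₁ (P (.inl i)) * ι (v (.inr i)) ^ q -
        algebraMap k T₁ (P (.inr i)) * ι (v (.inl i)) ^ q) = -(Lin (fun x => ι (v x))) ^ q := by
      have e : ∀ (s : Finset (Fin (n + 1) ⊕ Fin (n + 1))) (f : Fin (n + 1) ⊕ Fin (n + 1) → T₁),
          (∑ x ∈ s, f x) ^ q = ∑ x ∈ s, f x ^ q := fun s f => by rw [hm, sum_pow_char_pow]
      rw [show Lin (fun x => ι (v x)) = ∑ x, algebraMap k T₁ (c x) * ι (v x) from rfl, e Finset.univ,
        ← Finset.sum_neg_distrib, Fintype.sum_sum_type, ← Finset.sum_add_distrib]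
      refine Finset.sum_congr rfl fun i _ => ?_
      simp only [P, Sum.elim_inl, Sum.elim_inr, map_neg, mul_pow, hk]
      ring
    rw [hLv, zero_pow (by omega)] at hLq
    have hLv' : Lin r = ∑ i, (algebraMap k T₁ (c (.inl i)) * r (.inl i) + algebraMap k T₁ (c (.inr i)) * r (.inr i)) := by
      simp only [Lin, Fintype.sum_sum_type, Finset.sum_add_distrib]
    have hLv0 : ∑ i, (algebraMap k T₁ (c (.inl i)) * ι (v (.inl i)) + algebraMap k T₁ (c (.inr i)) * ι (v (.inr i))) = 0 := by
      rw [← hLv]; simp only [Lin, Fintype.sum_sum_type, Finset.sum_add_distrib]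
    have hqq : (t ^ (q + 1)) ^ q = 0 := by
      rw [← pow_mul]; exact pow_eq_zero_of_le (by nlinarith) ht
    have hstep : ∀ i, (g (.inl i) + t ^ (q + 1) * r (.inl i)) * (g (.inr i) + t ^ (q + 1) * r (.inr i)) ^ q -
        (g (.inr i) + t ^ (q + 1) * r (.inr i)) * (g (.inl i) + t ^ (q + 1) * r (.inl i)) ^ q =
        t ^ (q + 1) * (ι (v (.inl i)) * ι (v (.inr i)) ^ q - ι (v (.inr i)) * ι (v (.inl i)) ^ q) +
        t ^ (q + 1) * (algebraMap k T₁ (c (.inl i)) * r (.inl i) + algebraMap k T₁ (c (.inr i)) * r (.inr i)) +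
        t ^ q * (algebraMap k T₁ (P (.inl i)) * ι (v (.inr i)) ^ q - algebraMap k T₁ (P (.inr i)) * ι (v (.inl i)) ^ q) +
        t * (algebraMap k T₁ (c (.inl i)) * ι (v (.inl i)) + algebraMap k T₁ (c (.inr i)) * ι (v (.inr i))) := by
      intro i
      have e0 : t ^ (q + 1) * t ^ q = 0 := by
        rw [← pow_add]; exact pow_eq_zero_of_le (by omega) ht
      simp only [g, hfr, mul_pow, hqq, zero_mul, add_zero, hk]
      simp only [P, Sum.elim_inl, Sum.elim_inr, map_neg]
      linear_combination (r (.inl i) * ι (v (.inr i)) ^ q - r (.inr i) * ι (v (.inl i)) ^ q) * e0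
    rw [formVal, Finset.sum_congr rfl (fun i _ => hstep i)]
    simp only [Finset.sum_add_distrib, ← Finset.mul_sum]
    rw [hLq, ← Finset.sum_add_distrib, ← Finset.sum_add_distrib, hLv0]
    simp only [formVal, hLv', Finset.sum_add_distrib, neg_zero, mul_zero, add_zero]
  have hLg : Lin g = 0 := by
    have : Lin g = Lin (fun x => algebraMap k T₁ (P x)) + t * Lin (fun x => ι (v x)) := by
      simp only [Lin, g, Finset.mul_sum, ← Finset.sum_add_distrib]
      exact Finset.sum_congr rfl fun x _ => by ring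
    rw [this, hLP, hLv]; simp
  refine ⟨T₁, inferInstance, inferInstance, Ideal.span {t ^ (q + 1)}, g, ⟨q + 2, ?_⟩, ?_, ?_, fun x => ⟨q + 2, ?_⟩, ?_⟩
  · rw [Ideal.span_singleton_pow, ← pow_mul, pow_eq_zero_of_le (by nlinarith) ht, Ideal.zero_eq_bot,
      Ideal.span_singleton_eq_bot]
  · have := hkey 0
    simp only [Pi.zero_apply, mul_zero, add_zero] at this
    rw [this, Ideal.mem_span_singleton]
    exact dvd_add (dvd_mul_right _ _) (dvd_mul_right _ _)
  · show Lin g ∈ _
    rw [hLg]; exact zero_mem _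
  · show (g x - algebraMap k T₁ (P x)) ^ _ = 0
    simp only [g, add_sub_cancel_left, mul_pow, ht, zero_mul]
  · intro g' hg' hF' hL'
    choose r hr using fun x => Ideal.mem_span_singleton'.mp (hg' x)
    have e : g' = fun x => g x + t ^ (q + 1) * r x := funext fun x => by
      rw [mul_comm (t ^ (q + 1)), hr x]; ring
    have hLr : t ^ (q + 1) * Lin r = 0 := by
      rw [← hL', e]
      calc t ^ (q + 1) * Lin r = Lin g + t ^ (q + 1) * Lin r := by rw [hLg, zero_add]
        _ = _ := by
          simp only [Lin, Finset.mul_sum, ← Finset.sum_add_distrib]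
          exact Finset.sum_congr rfl fun x _ => by ring
    rw [e, hkey r, hLr, add_zero] at hF'
    have hv : formVal q (fun x => ι (v x)) =
        ι (C (∑ i, (a (.inl i) * b (.inr i) - a (.inr i) * b (.inl i))) * (X ^ q - X)) := by
      simp only [formVal, v, map_sum, Finset.sum_mul]
      refine Finset.sum_congr rfl fun i _ => ?_
      have hfr2 : ∀ x y : k, ι (C x + X * C y) ^ q = ι (C x + X ^ q * C y) := fun x y => by
        rw [map_add, map_mul, hfr, mul_pow, map_add, map_mul, map_pow, ← map_pow ι (C x), ← map_pow ι (C y),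
          ← map_pow C, ← map_pow C, FiniteField.pow_card, FiniteField.pow_card]
      rw [hfr2, hfr2, ← map_mul, ← map_mul, ← map_sub]
      congr 1
      simp only [map_sub, map_mul]
      ring
    rw [hv, show t ^ (q + 1) * ι (C (∑ i, (a (.inl i) * b (.inr i) - a (.inr i) * b (.inl i))) * (X ^ q - X)) =
      π (X ^ (q + 1) * C (C (∑ i, (a (.inl i) * b (.inr i) - a (.inr i) * b (.inl i))) * (X ^ q - X))) by
        rw [map_mul π, map_pow π]; rfl, Ideal.Quotient.eq_zero_iff_mem, Ideal.mem_span_singleton,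
      X_pow_dvd_iff] at hF'
    have h0 := hF' (q + 1) (by omega)
    rw [coeff_X_pow_mul', if_pos le_rfl, Nat.sub_self, coeff_C_zero] at h0
    rcases mul_eq_zero.mp h0 with h | h
    · exact hab (C_eq_zero.mp h)
    · exact FiniteField.X_pow_card_sub_X_ne_zero k hq h


/-- Let k be a finite field with q elements and n ≥ 1 a natural number; in the 2n + 2 variables X_0, …,
X_n, Y_0, …, Y_n (indexed by Fin (n+1) ⊕ Fin (n+1), the left summand carrying the X_i) let F = Σ_i
(X_i Y_i^q − Y_i X_i^q), a form of degree q + 1 defining the hypersurface Hyp ⊂ P^{2n+1}_k. Then no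
hyperplane of P^{2n+1}_k defined over k meets Hyp transversally: for every linear form L = Σ_v c_v
x_v with a nonzero coefficient vector c over k, the scheme-theoretic intersection Hyp ∩ (L = 0) ⊂
P^{2n+1}_k is not smooth over k. The intersection is presented through the standard open pieces of
its affine cone: with R = k[X, Y]/(F, L), the piece x_w ≠ 0 of the cone Spec R is (Hyp ∩ (L = 0) ∩
D₊(x_w)) × 𝔾_m, so Hyp ∩ (L = 0) is smooth over k exactly when every localisation R[1/x_w] is a
smooth k-algebra, and the row states that not all of them are. (The published example is stated for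
every n ≥ 0; for n = 0 the hypersurface is the set of the q + 1 rational points of P^1_k, it
contains every rational point H, and Hyp ∩ H = H is a reduced point, smooth over k; so this row
takes n ≥ 1, where no rational hyperplane is contained in Hyp and each one is tangent to Hyp at a
rational point, at which the intersection is singular.) -/
theorem result (k : Type u) [Field k] [Fintype k] (n : ℕ) (hn : 1 ≤ n)
    (F L : MvPolynomial (Fin (n + 1) ⊕ Fin (n + 1)) k)
    (hF : F = ∑ i : Fin (n + 1), (MvPolynomial.X (Sum.inl i) * MvPolynomial.X (Sum.inr i) ^ Fintype.card k -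
      MvPolynomial.X (Sum.inr i) * MvPolynomial.X (Sum.inl i) ^ Fintype.card k))
    (c : Fin (n + 1) ⊕ Fin (n + 1) → k) (hc : c ≠ 0)
    (hL : L = ∑ v, MvPolynomial.C (c v) * MvPolynomial.X v) :
    ¬ ∀ w : Fin (n + 1) ⊕ Fin (n + 1),
      Smooth (Spec.map (CommRingCat.ofHom (algebraMap k
        (Localization.Away (Ideal.Quotient.mk (Ideal.span {F, L}) (MvPolynomial.X w)))))) := by
  intro hall
  obtain ⟨T, _, _, J, g, hJ, hFJ, hLJ, hunit, hobs⟩ := obstruction k n hn c
  let P : Fin (n + 1) ⊕ Fin (n + 1) → k := Sum.elim (fun i => -c (.inr i)) (fun i => c (.inl i))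
  obtain ⟨w, hw⟩ : ∃ w, P w ≠ 0 := by
    by_contra h
    push Not at h
    refine hc (funext fun v => ?_)
    rcases v with i | i
    · exact h (.inr i)
    · exact neg_eq_zero.mp (h (.inl i))
  let MvR := MvPolynomial (Fin (n + 1) ⊕ Fin (n + 1)) k
  let R := MvR ⧸ Ideal.span {F, L}
  let Rw := Localization.Away (Ideal.Quotient.mk (Ideal.span {F, L}) (MvPolynomial.X w))
  haveI hsm : Algebra.Smooth k Rw := by
    have h := (HasRingHomProperty.Spec_iff (P := @Smooth)).mp (hall w)
    exact RingHom.smooth_algebraMap.mp h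
  let φ₀ : MvR →ₐ[k] T ⧸ J := MvPolynomial.aeval fun v => Ideal.Quotient.mk J (g v)
  have hevF : ∀ {U : Type u} [CommRing U] [Algebra k U] (y : Fin (n + 1) ⊕ Fin (n + 1) → U),
      MvPolynomial.aeval y F = formVal (Fintype.card k) y ∧
        MvPolynomial.aeval y L = ∑ v, algebraMap k U (c v) * y v := by
    intro U _ _ y
    rw [hF, hL]
    simp [formVal, map_sum, map_sub, map_mul, map_pow]
  have hker : ∀ x ∈ Ideal.span {F, L}, φ₀ x = 0 := by
    intro x hx
    induction hx using Submodule.span_induction with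
    | mem y hy =>
      rcases hy with rfl | rfl
      · rw [(hevF _).1, ← Ideal.Quotient.eq_zero_iff_mem.mpr hFJ]
        simp [formVal, map_sum]
      · rw [(hevF _).2, ← Ideal.Quotient.eq_zero_iff_mem.mpr hLJ, map_sum]
        exact Finset.sum_congr rfl fun v _ => by rw [map_mul]; rfl
    | zero => exact map_zero _
    | add a b _ _ ha hb => rw [map_add, ha, hb, add_zero]
    | smul a b _ hb => rw [smul_eq_mul, map_mul, hb, mul_zero]
  let φ₁ : R →ₐ[k] T ⧸ J := Ideal.Quotient.liftₐ _ φ₀ hker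
  have hu : IsUnit (φ₁ (Ideal.Quotient.mk (Ideal.span {F, L}) (MvPolynomial.X w))) := by
    show IsUnit (φ₀ (MvPolynomial.X w))
    rw [MvPolynomial.aeval_X]
    refine IsUnit.map (Ideal.Quotient.mk J) ?_
    obtain ⟨N, hN⟩ := hunit w
    have h1 : IsNilpotent (g w - algebraMap k T (P w)) := ⟨N, hN⟩
    have := h1.isUnit_add_left_of_commute ((isUnit_iff_ne_zero.mpr hw).map (algebraMap k T)) (Commute.all _ _)
    simpa using this
  let φ₂ : Rw →+* T ⧸ J := IsLocalization.Away.lift (Ideal.Quotient.mk (Ideal.span {F, L}) (MvPolynomial.X w)) (g := φ₁.toRingHom) hu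
  let φ : Rw →ₐ[k] T ⧸ J := { φ₂ with
    commutes' := fun x => by
      show φ₂ (algebraMap k Rw x) = _
      rw [IsScalarTower.algebraMap_apply k R Rw, IsLocalization.Away.lift_eq]
      exact φ₁.commutes x }
  let ψ : Rw →ₐ[k] T := Algebra.FormallySmooth.lift J hJ φ
  have hψ : ∀ x, Ideal.Quotient.mk J (ψ x) = φ x := fun x => Algebra.FormallySmooth.mk_lift J hJ φ x
  let χ : MvR →ₐ[k] T := (ψ.comp (IsScalarTower.toAlgHom k R Rw)).comp (Ideal.Quotient.mkₐ k _)
  have hχ0 : ∀ x ∈ Ideal.span {F, L}, χ x = 0 := fun x hx => by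
    show ψ (algebraMap R Rw (Ideal.Quotient.mk _ x)) = 0
    rw [Ideal.Quotient.eq_zero_iff_mem.mpr hx, map_zero, map_zero]
  have hχ : χ = MvPolynomial.aeval (fun v => χ (MvPolynomial.X v)) := MvPolynomial.aeval_unique χ
  refine hobs (fun v => χ (MvPolynomial.X v)) (fun v => ?_) ?_ ?_
  · rw [← Ideal.Quotient.eq]
    show Ideal.Quotient.mk J (ψ (algebraMap R Rw _)) = _
    rw [hψ]
    show φ₂ (algebraMap R Rw _) = _
    rw [IsLocalization.Away.lift_eq]
    exact MvPolynomial.aeval_X _ v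
  · rw [← (hevF _).1, ← hχ]
    exact hχ0 _ (Ideal.subset_span (Set.mem_insert _ _))
  · rw [← (hevF _).2, ← hχ]
    exact hχ0 _ (Ideal.subset_span (Set.mem_insert_of_mem _ rfl))

end Groth.Agent.S15555
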