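import Groth.Statements.S15556
import Groth.Agent.L22.Chern.Classes
import Groth.Agent.L22.Cyc.FiniteDeg
import Groth.Agent.L22.Cyc.PushPull
import Groth.Agent.L05.CurveNorm.Scheme
import Groth.Agent.L07.SyntOverField
-- import your own Groth.Agent.* helpers here

set_option autoImplicit false
universe u
open CategoryTheory AlgebraicGeometry
open CategoryTheory.Limits
open Cyc

namespace Groth.Agent.S15556

/-- Let k be a field of characteristic p > 0, E a finite purely inseparable field extension of k, X a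
separated scheme of finite type over k, X' = X ×_k E with projection f : X' → X (any pullback
square), δ a dimension function on X making (X, δ) a cycle setup (X locally Noetherian with
universally catenary local rings) and δ' the induced dimension function on X' (so (X', δ') is a
cycle setup and δ' is compatible with δ along f, which has relative dimension 0). Then flat pullback
of cycles along f induces a bijection of Chow groups of i-cycles after inverting p, in the following
two-sided sense: for every i-cycle β on X' there are an i-cycle α on X, an i-cycle α' on X' with the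
flat-pullback coefficients of α, and an exponent s with [α'] = p^s · [β] in CH_i(X'); and for every
i-cycle α on X and every i-cycle α' on X' with the flat-pullback coefficients of α, if [α'] = 0 in
CH_i(X') then p^s · [α] = 0 in CH_i(X) for some s. (The published statement allows an arbitrary
purely inseparable extension E of k; this row takes E finite over k, the case the printed argument
carries out.) -/
theorem result (k E : Type u) [Field k] [Field E] [Algebra k E] (p : ℕ) [Fact p.Prime] [CharP k p] [Module.Finite k E] [IsPurelyInseparable k E] (X X' : Scheme.{u}) (g : X ⟶ Spec (CommRingCat.of k)) [IsSeparated g] [LocallyOfFiniteType g] [QuasiCompact g] (f : X' ⟶ X) (g' : X' ⟶ Spec (CommRingCat.of E)) (hsq : IsPullback f g' g (Spec.map (CommRingCat.ofHom (algebraMap k E)))) (δ : X → ℤ) (δ' : X' → ℤ) (hX : Cyc.IsSetup X δ) (hX' : Cyc.IsSetup X' δ') (hδ : Cyc.DeltaCompat f δ' δ) (i : ℤ) : (∀ (β : AlgebraicCycle X' ℤ) (hβ : β ∈ Cyc.Zk X' δ' i), ∃ (α : AlgebraicCycle X ℤ) (hα : α ∈ Cyc.Zk X δ i)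 (α' : AlgebraicCycle X' ℤ) (hα' : α' ∈ Cyc.Zk X' δ' i) (s : ℕ), ⇑α' = Cyc.pullFun f δ' δ 0 ⇑α ∧ ChowOps.cl α' hα' = p ^ s • ChowOps.cl β hβ) ∧ (∀ (α : AlgebraicCycle X ℤ) (hα : α ∈ Cyc.Zk X δ i) (α' : AlgebraicCycle X' ℤ) (hα' : α' ∈ Cyc.Zk X' δ' i), ⇑α' = Cyc.pullFun f δ' δ 0 ⇑α → ChowOps.cl α' hα' = 0 → ∃ s : ℕ, p ^ s • ChowOps.cl α hα = 0) := by
  classical
  haveI := hX.1
  haveI := hX'.1
  let e := Groth.L05.CurveNorm.ext k E
  have hsq' : IsPullback g' f e g := hsq.flip
  haveI : IsFinite e := Groth.L05.CurveNorm.isFinite_ext k E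
  haveI : UniversallyInjective e := Groth.L05.CurveNorm.universallyInjective_ext k E
  haveI : Flat e := Groth.L07.SyntOverField.flat_over_field e
  haveI : IsFinite f := MorphismProperty.of_isPullback hsq' ‹IsFinite e›
  haveI : Flat f := MorphismProperty.of_isPullback hsq' ‹Flat e›
  haveI : UniversallyInjective f := MorphismProperty.of_isPullback hsq' ‹UniversallyInjective e›
  haveI : ExpChar k p := ExpChar.prime Fact.out
  obtain ⟨s, hs⟩ := IsPurelyInseparable.finrank_eq_pow (F := k) E p
  have hq : p ^ s ≠ 0 := pow_ne_zero _ (Fact.out : p.Prime).ne_zero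
  have hdeg : ∀ y, f.finrank y = p ^ s := fun y => by
    rw [Scheme.Hom.finrank_of_isPullback g' f e g hsq' y, ← hs]
    exact (Scheme.Hom.finrank_SpecMap_algebraMap k E (g y)).trans (congrFun (Module.rankAtStalk_eq_finrank_of_free (R := k) (M := E)) _)
  have hinj : Function.Injective f := f.injective
  have hsurj : ∀ y, ∃ x, f x = y := fun y => by
    by_contra hne
    push Not at hne
    have h := Groth.L22.Cyc.finrank_eq_sum f y
    rw [hdeg y, show f ⁻¹' {y} = ∅ from Set.eq_empty_iff_forall_notMem.2 hne, finsum_mem_empty] at h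
    exact hq h
  have hfib : ∀ x, f.residueDegree x * (Groth.L22.Cyc.mult f x).toNat = p ^ s := fun x => by
    rw [← hdeg (f x), Groth.L22.Cyc.finrank_eq_sum f (f x),
      show f ⁻¹' {f x} = {x} from Set.ext fun z => ⟨fun h => hinj h, fun h => by rw [Set.mem_singleton_iff.1 h]; rfl⟩,
      finsum_mem_singleton]
  have hcoef : ∀ x, AlgebraicCycle.mapCoeff f δ' δ x = f.residueDegree x := Groth.L22.Cyc.mapCoeff_eq f hδ
  have hsh : Groth.L22.Chern.Shift f δ' δ 0 := fun x _ => by
    rw [add_zero]
    exact Groth.L22.Cyc.deltaCompat_shift_of_residueDegree f hδ (left_ne_zero_of_mul ((hfib x).symm ▸ hq))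
  have hpush : ∀ (A : AlgebraicCycle X' ℤ) (x : X'),
      Groth.L22.Chern.pushC f δ' δ A (f x) = A x * (f.residueDegree x : ℤ) := fun A x => by
    show (∑ᶠ z ∈ f ⁻¹' {f x}, A z * ((AlgebraicCycle.mapCoeff f δ' δ z : ℕ) : ℤ)) = _
    rw [show f ⁻¹' {f x} = {x} from Set.ext fun z => ⟨fun h => hinj h, fun h => by rw [Set.mem_singleton_iff.1 h]; rfl⟩,
      finsum_mem_singleton, hcoef]
  have hcast : ∀ x, (f.residueDegree x : ℤ) * ((Groth.L22.Cyc.mult f x).toNat : ℤ) = ((p ^ s : ℕ) : ℤ) := fun x => by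
    rw [← Nat.cast_mul, hfib]
  refine ⟨fun β hβ => ?_, fun α hα α' hα' he h0 => ⟨s, ?_⟩⟩
  · let α := Groth.L22.Chern.pushC f δ' δ β
    have hval : ⇑((p ^ s) • β) = Cyc.pullFun f δ' δ 0 ⇑α := by
      rw [← Groth.L22.Chern.pullC_coe f hsh]
      funext x
      rw [Groth.L22.Chern.pullC_apply, hpush, mul_assoc, hcast]
      simp [mul_comm]
    refine ⟨α, Groth.L22.Chern.pushC_mem f hβ, (p ^ s) • β, (ChowOps.zk X' δ' i).nsmul_mem hβ _, s, hval, ?_⟩
    exact map_nsmul (ChowOps.clHom X' δ' i) (p ^ s) ⟨β, hβ⟩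
  · have e1 : α' = Groth.L22.Chern.pullC f hsh α :=
      DFunLike.coe_injective (he.trans (Groth.L22.Chern.pullC_coe f hsh α).symm)
    have e2 : Groth.L22.Chern.pushC f δ' δ α' = (p ^ s) • α := by
      ext y
      obtain ⟨x, rfl⟩ := hsurj y
      rw [hpush, e1, Groth.L22.Chern.pullC_apply, mul_assoc, mul_comm ((Groth.L22.Cyc.mult f x).toNat : ℤ), hcast]
      simp [mul_comm]
    have h1 := (Groth.L22.Chern.cl_eq_iff hX'.2.2 hα' (ChowOps.zk X' δ' i).zero_mem).1
      (h0.trans (map_zero (ChowOps.clHom X' δ' i)).symm)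
    rw [sub_zero] at h1
    have h2 := Groth.L22.Chern.pushC_rat f hX'.2.2 hX.2.2 hδ h1
    rw [e2] at h2
    refine ((map_nsmul (ChowOps.clHom X δ i) (p ^ s) ⟨α, hα⟩).symm.trans ?_).trans (map_zero (ChowOps.clHom X δ i))
    exact (Groth.L22.Chern.cl_eq_iff hX.2.2 ((ChowOps.zk X δ i).nsmul_mem hα _) (ChowOps.zk X δ i).zero_mem).2
      (by rw [sub_zero]; exact h2)


end Groth.Agent.S15556
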