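import Groth.Statements.S15558
import Groth.Agent.L24.CofinCover.Basic

set_option autoImplicit false
universe u v
open CategoryTheory AlgebraicGeometry
open Lim

namespace Groth.Agent.S15558

/-- Let Λ be a cofinite partially ordered set (every element has finitely many elements below it; Λ need
not be directed) and X : Λᵒᵖ ⥤ Scheme an inverse system of quasi-compact quasi-separated schemes.
Then there exist an inverse system Y : Λᵒᵖ ⥤ Scheme of affine schemes and a morphism of inverse
systems π : Y ⟶ X such that each π_λ : Y_λ → X_λ is a Zariski covering: it is surjective and Y_λ is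
covered by pairwise disjoint open subschemes each of which maps to X_λ by an open immersion. (The
published statement is for schemes over a fixed perfect field; the base field plays no role, and the
version for schemes over a base follows by composing with the structure morphisms.) -/
theorem result {Λ : Type v} [PartialOrder Λ]
    (hΛ : ∀ l : Λ, (Set.Iic l).Finite) (X : Λᵒᵖ ⥤ Scheme.{u})
    (hqc : ∀ l : Λ, CompactSpace ↥(X.obj (Opposite.op l)))
    (hqs : ∀ l : Λ, QuasiSeparatedSpace ↥(X.obj (Opposite.op l))) :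
    ∃ (Y : Λᵒᵖ ⥤ Scheme.{u}) (π : Y ⟶ X), ∀ l : Λ,
      IsAffine (Y.obj (Opposite.op l)) ∧ Surjective (π.app (Opposite.op l)) ∧
        ∃ (ι : Type u) (U : ι → (Y.obj (Opposite.op l)).Opens),
          Pairwise (fun i j => Disjoint (U i) (U j)) ∧ iSup U = ⊤ ∧
            ∀ i, IsOpenImmersion ((U i).ι ≫ π.app (Opposite.op l)) := by
  open CategoryTheory.Limits in
  classical
  refine ⟨Groth.Agent.L24.CofinCover.Y hΛ X, Groth.Agent.L24.CofinCover.π hΛ X, fun l => ?_⟩
  let P : Groth.Agent.L24.CofinCover.J hΛ X l → Scheme.{u} :=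
    fun i => (Groth.Agent.L24.CofinCover.piece hΛ X l i : Scheme.{u})
  haveI : ∀ i, IsAffine (P i) := fun i => Groth.Agent.L24.CofinCover.B_affine hΛ X _ _
  refine ⟨inferInstanceAs (IsAffine (∐ P)), ⟨fun x => ?_⟩, ?_⟩
  · obtain ⟨σ, hσ⟩ := Groth.Agent.L24.CofinCover.exists_mem hΛ X hqc hqs l x
    let i := (Groth.Agent.L24.CofinCover.e hΛ X l).symm ⟨σ, x, hσ⟩
    have hi : x ∈ Groth.Agent.L24.CofinCover.piece hΛ X l i := by
      simpa [Groth.Agent.L24.CofinCover.piece, i] using hσ
    refine ⟨Sigma.ι P i ⟨x, hi⟩, ?_⟩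
    show (Sigma.ι P i ≫ Sigma.desc fun j => (Groth.Agent.L24.CofinCover.piece hΛ X l j).ι) ⟨x, hi⟩ = x
    rw [Sigma.ι_desc]
    rfl
  · refine ⟨_, fun i => (Sigma.ι P i).opensRange, fun i j h => disjoint_opensRange_sigmaι P i j h,
      eq_top_iff.mpr fun x _ => ?_, fun i => ?_⟩
    · obtain ⟨i, y, rfl⟩ := (sigmaOpenCover P).exists_eq x
      exact TopologicalSpace.Opens.mem_iSup.2 ⟨i, y, rfl⟩
    · have key : IsOpenImmersion ((Sigma.ι P i).opensRange.ι ≫
          Sigma.desc fun j => (Groth.Agent.L24.CofinCover.piece hΛ X l j).ι) := by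
        rw [← Scheme.Hom.isoOpensRange_inv_comp, Category.assoc, Sigma.ι_desc]
        infer_instance
      exact key

end Groth.Agent.S15558
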