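import Groth.Statements.S15559
import Groth.Agent.L24.PerfModel.Comp

set_option autoImplicit false
set_option backward.isDefEq.respectTransparency.types false
universe u
open CategoryTheory AlgebraicGeometry
open FrobSch

namespace Groth.Agent.S15559

/-- Call a morphism V → U of quasi-compact quasi-separated perfect schemes of characteristic p flat of
finite presentation in the perfect sense when it factors as V → V₀ → U with V → V₀ a perfection map
(V perfect and universal for morphisms from perfect schemes of characteristic p into V₀) and V₀ → U
flat, locally of finite presentation, quasi-compact and quasi-separated; faithfully flat of finite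
presentation when moreover V₀ → U is surjective. If Z → Y and Y → X are flat of finite presentation
in the perfect sense, so is the composite Z → X, and it is faithfully flat of finite presentation
when both are. Here the data are given as Y₀ → X with perfection map Y → Y₀ and Z₀ → Y with
perfection map Z → Z₀, and the conclusion produces W₀ → X with a perfection map Z → W₀ over X. (The
published proposition is stated for pro-objects of perfections of schemes of finite type over a
perfect field and also for morphisms flat of profinite presentation; this row is its case of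
schemes, which its proof treats first, with the base field replaced by characteristic p.) -/
theorem result (p : ℕ) [Fact p.Prime]
    {X Y Z Y₀ Z₀ : Scheme.{u}} [FrobSch.IsCharP X p] [FrobSch.IsCharP Y p] [FrobSch.IsCharP Z p]
    [FrobSch.IsCharP Y₀ p] [FrobSch.IsCharP Z₀ p]
    [CompactSpace ↥X] [QuasiSeparatedSpace ↥X] [CompactSpace ↥Y] [QuasiSeparatedSpace ↥Y]
    [CompactSpace ↥Z] [QuasiSeparatedSpace ↥Z] (hX : FrobSch.IsPerfect X p)
    (g₀ : Y₀ ⟶ X) [Flat g₀] [LocallyOfFinitePresentation g₀] [QuasiCompact g₀] [QuasiSeparated g₀]
    (πY : Y ⟶ Y₀) (hY : FrobSch.IsPerfection πY p)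
    (f₀ : Z₀ ⟶ Y) [Flat f₀] [LocallyOfFinitePresentation f₀] [QuasiCompact f₀] [QuasiSeparated f₀]
    (πZ : Z ⟶ Z₀) (hZ : FrobSch.IsPerfection πZ p) :
    ∃ (W₀ : Scheme.{u}) (h₀ : W₀ ⟶ X) (ϖ : Z ⟶ W₀),
      Flat h₀ ∧ LocallyOfFinitePresentation h₀ ∧ QuasiCompact h₀ ∧ QuasiSeparated h₀ ∧
        FrobSch.IsPerfection ϖ p ∧ ϖ ≫ h₀ = πZ ≫ f₀ ≫ πY ≫ g₀ ∧
          (Surjective g₀ → Surjective f₀ → Surjective h₀) := by
  exact Groth.L24.PerfModel.exists_factor_comp p hX g₀ πY hY f₀ πZ hZ

end Groth.Agent.S15559
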