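import Groth.Statements.S1556
import Groth.Agent.L21.Nodal.ClosedSub
import Groth.Agent.L13.ModFibre
import Mathlib.RingTheory.DiscreteValuationRing.TFAE


set_option autoImplicit false
universe u
open CategoryTheory CategoryTheory.Limits AlgebraicGeometry
attribute [local instance] Curv2.resAlgebra
open Variety

namespace Groth.Agent.S1556

/-- Let X be a curve over k (integral, separated, of finite type, of dimension one) and x a closed point
whose residue field is separable over k. Then the local ring at x is a discrete valuation ring if
and only if x lies in the smooth locus of X → Spec k. -/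
theorem result (k : Type u) [Field k] (X : Scheme.{u}) [X.Over (Spec (CommRingCat.of k))] [IsIntegral X]
    [IsSeparated (X ↘ (Spec (CommRingCat.of k)))] [LocallyOfFinitePresentation (X ↘ (Spec (CommRingCat.of k)))] [QuasiCompact (X ↘ (Spec (CommRingCat.of k)))]
    (hdim : topologicalKrullDim X = 1) (x : X) (hx : IsClosed ({x} : Set X))
    [Algebra.IsSeparable k (X.residueField x)] :
    IsDiscreteValuationRing (X.presheaf.stalk x) ↔ x ∈ (X ↘ (Spec (CommRingCat.of k))).smoothLocus := by
  set f := X ↘ (Spec (CommRingCat.of k))
  constructor
  · intro h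
    haveI : IsRegularLocalRing (X.presheaf.stalk x) := inferInstance
    exact Groth.L21.Nodal.mem_smoothLocus_of_regular x hx inferInstance
  · intro h
    haveI : Smooth (f.smoothLocus.ι ≫ f) := by
      rw [← Scheme.Hom.smoothLocus_eq_top_iff, ← Scheme.Hom.preimage_smoothLocus_eq]
      exact top_le_iff.1 fun w _ => w.2
    haveI := Groth.L21.Nodal.regular_of_mem_smoothLocus (k := k) x h
    haveI : IsPrincipalIdealRing (X.presheaf.stalk x) := by
      refine ((tfae_of_isNoetherianRing_of_isLocalRing_of_isDomain (X.presheaf.stalk x)).out 5 0).1 ?_
      have h1 : (Module.finrank (IsLocalRing.ResidueField (X.presheaf.stalk x))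
          (IsLocalRing.CotangentSpace (X.presheaf.stalk x)) : WithBot ℕ∞) ≤ 1 := by
        rw [(IsRegularLocalRing.iff_finrank_cotangentSpace _).1 inferInstance]
        exact (Groth.L13.ModFibre.ringKrullDim_stalk_le_topologicalKrullDim x).trans hdim.le
      exact_mod_cast h1
    refine { not_a_field' := fun hbot => ?_ }
    have hfld : IsField (X.presheaf.stalk x) := IsLocalRing.isField_iff_maximalIdeal_eq.2 hbot
    letI := hfld.toField
    obtain ⟨c, hc⟩ : genericPoint X ∈ Set.range (X.fromSpecStalk x) := by
      rw [Scheme.range_fromSpecStalk]; exact genericPoint_specializes x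
    have hgx : genericPoint X = x := by
      rw [← hc, show c = IsLocalRing.closedPoint _ from Subsingleton.elim (α := PrimeSpectrum (X.presheaf.stalk x)) _ _]
      exact Scheme.fromSpecStalk_closedPoint
    have huniv : ({x} : Set X) = Set.univ := by
      rw [← hx.closure_eq, ← hgx]; exact genericPoint_closure X
    haveI : Subsingleton X := ⟨fun a b => by
      have ha : a ∈ ({x} : Set X) := huniv.ge (Set.mem_univ a)
      have hb : b ∈ ({x} : Set X) := huniv.ge (Set.mem_univ b)
      exact ha.trans hb.symm⟩
    have h0 : topologicalKrullDim X ≤ 0 := topologicalKrullDim_zero_of_discreteTopology _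
    rw [hdim] at h0
    exact absurd h0 (by decide)

end Groth.Agent.S1556
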