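import Groth.Statements.S15568
import Mathlib.Analysis.Convex.Basic
import Mathlib.Analysis.Convex.Topology
import Mathlib.Topology.Order.IntermediateValue
import Mathlib.Data.Sign.Basic
-- import your own Groth.Agent.* helpers here

set_option autoImplicit false
universe u
open QuiverStab

namespace Groth.Agent.S15568

/-- Walls and chambers for stability weights of a quiver. Let I be the finite vertex set, d ∈ ℕ^I a
dimension vector, and call two weights θ₁, θ₂ ∈ ℝ^I orthogonal to d numerically equivalent when, for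
every d′ ≤ d in ℕ^I, the numbers θ₁·d′ and θ₂·d′ are both positive, both negative or both zero. The
walls are the hyperplanes W(d′) = {θ ⊥ d : θ·d′ = 0} of d^⊥ for d′ ≤ d such that d is not a multiple
of d′. Then θ₁ and θ₂ are numerically equivalent if and only if there is a set J₁ of such d′ for
which θ₁ and θ₂ lie in the same connected component of the locally closed subset of d^⊥ consisting
of the weights lying on W(d₁) for every d₁ ∈ J₁ and off W(d₂) for every other wall W(d₂). (Only the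
quiver's vertex set enters; multiples are taken with natural-number factors.) -/
theorem result
    (I : Type u) [Fintype I] (d : I → ℕ) (θ₁ θ₂ : I → ℝ)
    (h₁ : ∑ i, θ₁ i * (d i : ℝ) = 0) (h₂ : ∑ i, θ₂ i * (d i : ℝ) = 0) :
    (∀ d' : I → ℕ, d' ≤ d →
        SignType.sign (∑ i, θ₁ i * (d' i : ℝ)) = SignType.sign (∑ i, θ₂ i * (d' i : ℝ))) ↔
    ∃ J₁ : Set (I → ℕ), J₁ ⊆ {d' | d' ≤ d ∧ ¬ ∃ m : ℕ, d = m • d'} ∧
      θ₂ ∈ connectedComponentIn
        {θ : I → ℝ | ∑ i, θ i * (d i : ℝ) = 0 ∧ (∀ d₁ ∈ J₁, ∑ i, θ i * (d₁ i : ℝ) = 0) ∧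
          ∀ d₂ : I → ℕ, d₂ ≤ d → (¬ ∃ m : ℕ, d = m • d₂) → d₂ ∉ J₁ →
            ∑ i, θ i * (d₂ i : ℝ) ≠ 0} θ₁ := by
  classical
  let L : (I → ℕ) → (I → ℝ) → ℝ := fun d' θ => ∑ i, θ i * (d' i : ℝ)
  have hLc : ∀ d', Continuous (L d') := fun d' =>
    continuous_finsetSum _ fun i _ => (continuous_apply i).mul continuous_const
  have hmul : ∀ d' : I → ℕ, d' ≤ d → (∃ m : ℕ, d = m • d') → ∀ θ, L d θ = 0 → L d' θ = 0 := by
    rintro d' hle ⟨m, hm⟩ θ hθ
    rcases Nat.eq_zero_or_pos m with rfl | hpos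
    · have hz : ∀ i, d' i = 0 := fun i => by
        have h1 : d' i ≤ d i := hle i
        have h2 : d i = 0 := by simpa using congrFun hm i
        omega
      simp [L, hz]
    · have : L d θ = (m : ℝ) * L d' θ := by
        simp only [L, Finset.mul_sum, hm, Pi.smul_apply, smul_eq_mul, Nat.cast_mul]
        exact Finset.sum_congr rfl fun i _ => by ring
      rw [this] at hθ
      exact (mul_eq_zero.1 hθ).resolve_left (by exact_mod_cast hpos.ne')
  constructor
  · intro hs
    let J : Set (I → ℕ) := {d' | (d' ≤ d ∧ ¬ ∃ m : ℕ, d = m • d') ∧ L d' θ₁ = 0}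
    refine ⟨J, fun d' hd' => hd'.1, ?_⟩
    refine (convex_segment (𝕜 := ℝ) θ₁ θ₂).isPreconnected.subset_connectedComponentIn (left_mem_segment ℝ θ₁ θ₂) ?_
      (right_mem_segment ℝ θ₁ θ₂)
    rintro θ ⟨a, b, ha, hb, hab, rfl⟩
    have hlin : ∀ d', L d' (a • θ₁ + b • θ₂) = a * L d' θ₁ + b * L d' θ₂ := fun d' => by
      simp only [L, Finset.mul_sum, ← Finset.sum_add_distrib, Pi.add_apply, Pi.smul_apply, smul_eq_mul]
      exact Finset.sum_congr rfl fun i _ => by ring
    refine ⟨?_, fun d' hd' => ?_, fun d' hle hnm hnJ => ?_⟩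
    · show L d _ = 0
      rw [hlin, show L d θ₁ = 0 from h₁, show L d θ₂ = 0 from h₂]; ring
    · have := hs d' hd'.1.1
      change SignType.sign (L d' θ₁) = SignType.sign (L d' θ₂) at this
      rw [hd'.2, sign_zero, eq_comm, sign_eq_zero_iff] at this
      show L d' _ = 0
      rw [hlin, hd'.2, this]; ring
    · have hne : L d' θ₁ ≠ 0 := fun h => hnJ ⟨⟨hle, hnm⟩, h⟩
      have := hs d' hle
      change SignType.sign (L d' θ₁) = SignType.sign (L d' θ₂) at this
      show L d' _ ≠ 0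
      rw [hlin]
      rcases lt_or_gt_of_ne hne with h | h
      · rw [sign_neg h, eq_comm, sign_eq_neg_one_iff] at this
        rcases eq_or_lt_of_le ha with rfl | hapos
        · rw [zero_add] at hab; subst hab; simp [this.ne]
        · exact (add_neg_of_neg_of_nonpos (mul_neg_of_pos_of_neg hapos h) (mul_nonpos_of_nonneg_of_nonpos hb this.le)).ne
      · rw [sign_pos h, eq_comm, sign_eq_one_iff] at this
        rcases eq_or_lt_of_le ha with rfl | hapos
        · rw [zero_add] at hab; subst hab; simp [this.ne']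
        · exact (add_pos_of_pos_of_nonneg (mul_pos hapos h) (mul_nonneg hb this.le)).ne'
  · rintro ⟨J, hJ, hmem⟩ d' hle
    let S : Set (I → ℝ) := {θ : I → ℝ | L d θ = 0 ∧ (∀ d₁ ∈ J, L d₁ θ = 0) ∧
      ∀ d₂ : I → ℕ, d₂ ≤ d → (¬ ∃ m : ℕ, d = m • d₂) → d₂ ∉ J → L d₂ θ ≠ 0}
    change θ₂ ∈ connectedComponentIn S θ₁ at hmem
    have hθ₁ : θ₁ ∈ S := by
      by_contra h
      rw [connectedComponentIn_eq_empty h] at hmem
      exact hmem
    have hC := connectedComponentIn_subset S θ₁
    have hθ₂ : θ₂ ∈ S := hC hmem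
    show SignType.sign (L d' θ₁) = SignType.sign (L d' θ₂)
    by_cases hzero : (∃ m : ℕ, d = m • d') ∨ d' ∈ J
    · have hz : ∀ θ ∈ S, L d' θ = 0 := fun θ hθ => by
        rcases hzero with h | h
        · exact hmul d' hle h θ hθ.1
        · exact hθ.2.1 d' h
      rw [hz θ₁ hθ₁, hz θ₂ hθ₂]
    · push Not at hzero
      have hne : ∀ θ ∈ connectedComponentIn S θ₁, L d' θ ≠ 0 := fun θ hθ =>
        (hC hθ).2.2 d' hle (fun ⟨m, hm⟩ => hzero.1 m hm) hzero.2
      have himg := (isPreconnected_connectedComponentIn (F := S) (x := θ₁)).image (L d') (hLc d').continuousOn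
      have hm1 : L d' θ₁ ∈ L d' '' connectedComponentIn S θ₁ := ⟨θ₁, mem_connectedComponentIn hθ₁, rfl⟩
      have hm2 : L d' θ₂ ∈ L d' '' connectedComponentIn S θ₁ := ⟨θ₂, hmem, rfl⟩
      have h0 : (0 : ℝ) ∉ L d' '' connectedComponentIn S θ₁ := fun ⟨θ, hθ, h⟩ => hne θ hθ h
      rcases lt_or_gt_of_ne (hne θ₁ (mem_connectedComponentIn hθ₁)) with h | h <;>
        rcases lt_or_gt_of_ne (hne θ₂ hmem) with h' | h'
      · rw [sign_neg h, sign_neg h']
      · exact absurd (himg.ordConnected.out hm1 hm2 ⟨h.le, h'.le⟩) h0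
      · exact absurd (himg.ordConnected.out hm2 hm1 ⟨h'.le, h.le⟩) h0
      · rw [sign_pos h, sign_pos h']

end Groth.Agent.S15568
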