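import Groth.Statements.S15570
import Groth.Agent.L03.Kron2
-- import your own Groth.Agent.* helpers here

set_option autoImplicit false
universe u v w
open KronMod

namespace Groth.Agent.S15570

/-- Let f be a Kronecker module with n arrows over a field K, from V of dimension n·d₀ to W of dimension
d₀ > 0. Then f is stable if and only if f is semistable and d₀ = 1: for d₀ = 1 every semistable
module is stable (the stable locus of K(n; n, 1) is the one point), while for d₀ > 1 no module is
stable. This is the case dual to dimension vector (d₋₁, n·d₋₁). (The published statement assumes K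
algebraically closed of characteristic zero and n ≥ 2; this row allows any field K and any number n
of arrows.) -/
theorem result (K : Type u) [Field K] (V : Type v) (W : Type w)
    [AddCommGroup V] [Module K V] [FiniteDimensional K V]
    [AddCommGroup W] [Module K W] [FiniteDimensional K W]
    (n : ℕ) (f : Fin n → (V →ₗ[K] W))
    (hW : 0 < Module.finrank K W) (hV : Module.finrank K V = n * Module.finrank K W) :
    KronMod.IsStable f ↔ (KronMod.IsSemistable f ∧ Module.finrank K W = 1) := by
  classical
  constructor
  · intro hf
    refine ⟨⟨hf.1, fun a b c d e => (hf.2 a b c d e).le⟩, ?_⟩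
    by_contra hd
    haveI : Nontrivial W := Module.nontrivial_of_finrank_pos hW
    obtain ⟨w, hw⟩ := exists_ne (0 : W)
    obtain ⟨W', hWc⟩ := Submodule.exists_isCompl (K ∙ w)
    have hdim := Submodule.finrank_add_eq_of_isCompl hWc
    rw [finrank_span_singleton hw] at hdim
    let φ : V →ₗ[K] (Fin n → W ⧸ W') := LinearMap.pi fun j => W'.mkQ ∘ₗ f j
    have hs : KronMod.IsSubrep f (LinearMap.ker φ) W' := fun j => Submodule.map_le_iff_le_comap.2 fun x hx => by
      have := congrFun (LinearMap.mem_ker.1 hx) j
      exact (Submodule.Quotient.mk_eq_zero W').1 this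
    have h := hf.2 (LinearMap.ker φ) W' hs (fun h => by
        rw [h.2, finrank_bot] at hdim
        omega)
      (fun h => by
        rw [h.2, finrank_top] at hdim
        omega)
    have h1 := φ.finrank_range_add_finrank_ker
    have h2 : Module.finrank K (LinearMap.range φ) ≤ n * 1 := by
      refine (Submodule.finrank_le _).trans ?_
      rw [Module.finrank_pi_fintype]
      have : Module.finrank K (W ⧸ W') = 1 := by
        have := W'.finrank_quotient_add_finrank
        omega
      simp [this]
    rw [hV] at h h1
    nlinarith
  · rintro ⟨hf, h1⟩
    refine ⟨hf.1, fun V' W' hs hb ht => ?_⟩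
    refine lt_of_le_of_ne (hf.2 V' W' hs hb ht) fun he => ?_
    have hW' := Submodule.finrank_le W'
    have hVn : Module.finrank K V = n := by rw [hV, h1, mul_one]
    rw [h1] at hW'
    rw [h1, hVn, one_mul] at he
    rcases Nat.le_one_iff_eq_zero_or_eq_one.1 hW' with h | h
    · rw [h, mul_zero] at he
      exact hb ⟨Submodule.finrank_eq_zero.1 he, Submodule.finrank_eq_zero.1 h⟩
    · rw [h, mul_one] at he
      exact ht ⟨Submodule.eq_top_of_finrank_eq (he.trans hVn.symm), Submodule.eq_top_of_finrank_eq (h.trans h1.symm)⟩

end Groth.Agent.S15570
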