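import Groth.Statements.S15574
import Groth.Agent.L09.RInvEtale

set_option autoImplicit false
universe u v
open RInv

namespace Groth.Agent.S15574

/-- Let `R` be a commutative ring with an involution `lam` whose fixed ring `S` is local, and suppose
`R` is a quadratic etale `S`-algebra. Then some `r` in `R` has `r - lam r` invertible. -/
theorem result (S : Type u) (R : Type v) [CommRing S] [CommRing R]
    [Algebra S R] (lam : R ≃+* R) (hlam : Function.Involutive lam) (hS : RInv.IsFixedRing S R lam)
    [IsLocalRing S] (hq : RInv.IsQuadEtale S R) : ∃ r : R, IsUnit (r - lam r) := by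
  exact Groth.L09.RInvEtale.exists_isUnit_sub_of_isQuadEtale hlam hS hq

end Groth.Agent.S15574
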