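import Groth.Statements.S15575
import Groth.Agent.L09.RInvBranch

set_option autoImplicit false
universe u v
open scoped TensorProduct
open RInv

namespace Groth.Agent.S15575

/-- Let `R` be a commutative ring with an involution `lam` and fixed ring `S` (no finiteness assumed).
If the localisation of `R` at a prime `p` of `S` is quadratic etale over `S_p`, then there is `s ∉
p` with `R[1/s]` quadratic etale over `S[1/s]`; in particular the set of such primes is open in
`Spec S`. Localisations of `R` are written as base changes `S_p ⊗ R` and `S_s ⊗ R`. -/
theorem result (S : Type u) (R : Type v) [CommRing S] [CommRing R]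
    [Algebra S R] (lam : R ≃+* R) (hlam : Function.Involutive lam) (hS : RInv.IsFixedRing S R lam)
    (p : PrimeSpectrum S)
    (hp : RInv.IsQuadEtale (Localization.AtPrime p.asIdeal) (Localization.AtPrime p.asIdeal ⊗[S] R)) :
    ∃ s : S, s ∉ p.asIdeal ∧
      RInv.IsQuadEtale (Localization.Away s) (Localization.Away s ⊗[S] R) := by
  exact Groth.L09.RInvBranch.exists_away hlam hS p hp

end Groth.Agent.S15575
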