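import Groth.Statements.S15578
import Groth.Agent.L09.RInvEtale
import Groth.Agent.L05.Hensel.IntegralDomain

set_option autoImplicit false
universe u v
open RInv

namespace Groth.Agent.S15578

open IsLocalRing in
lemma henselian_integral {A : Type u} [CommRing A] [HenselianLocalRing A] (S : Type v) [CommRing S]
    [IsLocalRing S] [Algebra A S] [Algebra.IsIntegral A S] : HenselianLocalRing S := by
  have := Groth.L05.henselianRing_map_of_isIntegral (maximalIdeal A) S
  have := Groth.L05.henselianRing_radical ((maximalIdeal A).map (algebraMap A S))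
  have hle : maximalIdeal S ≤ ((maximalIdeal A).map (algebraMap A S)).radical := by
    rw [Ideal.radical_eq_sInf, le_sInf_iff]
    rintro P ⟨hP, hPp⟩
    have hPmax : P.IsMaximal := by
      refine Ideal.isMaximal_of_isIntegral_of_isMaximal_comap (R := A) P ?_
      have := (maximalIdeal.isMaximal A).eq_of_le (Ideal.comap_ne_top _ hPp.ne_top)
        (Ideal.map_le_iff_le_comap.mp hP)
      exact this ▸ maximalIdeal.isMaximal A
    exact (eq_maximalIdeal hPmax).ge
  have := Groth.L05.henselianRing_mono hle
  exact Groth.L05.henselianLocalRing_of_henselianRing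

lemma sepClosed_algebraic (k : Type u) (E : Type v) [Field k] [Field E] [Algebra k E]
    [IsSepClosed k] [Algebra.IsAlgebraic k E] : IsSepClosed E := by
  refine IsSepClosed.of_exists_root E fun p hpm hirr hsep => ?_
  haveI : Fact (Irreducible p) := ⟨hirr⟩
  haveI : Algebra.IsAlgebraic E (AdjoinRoot p) := by
    haveI := hpm.finite_adjoinRoot
    infer_instance
  haveI : Algebra.IsAlgebraic k (AdjoinRoot p) := Algebra.IsAlgebraic.trans k E (AdjoinRoot p)
  haveI : IsPurelyInseparable k (AdjoinRoot p) := separableClosure.eq_bot_iff.mp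
    (IntermediateField.eq_bot_of_isSepClosed_of_isSeparable (separableClosure k (AdjoinRoot p)))
  haveI : IsPurelyInseparable E (AdjoinRoot p) := IsPurelyInseparable.tower_top k E (AdjoinRoot p)
  obtain ⟨y, hy⟩ := IsPurelyInseparable.inseparable E (AdjoinRoot.root p) (by
    refine Polynomial.Separable.of_dvd hsep (minpoly.dvd E _ ?_)
    rw [AdjoinRoot.aeval_eq, AdjoinRoot.mk_self])
  refine ⟨y, (AdjoinRoot.of p).injective ?_⟩
  rw [map_zero, ← Polynomial.eval₂_at_apply, show (AdjoinRoot.of p) y = AdjoinRoot.root p from hy]
  exact AdjoinRoot.eval₂_root p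

lemma strict_of_integral {A : Type u} [CommRing A] [HenselianLocalRing A]
    [IsSepClosed (IsLocalRing.ResidueField A)] (T : Type v) [CommRing T] [IsLocalRing T] [Algebra A T]
    [Algebra.IsIntegral A T] :
    ∃ h : HenselianLocalRing T, IsSepClosed (IsLocalRing.ResidueField T) := by
  refine ⟨henselian_integral (A := A) T, ?_⟩
  haveI : IsLocalHom (algebraMap A T) := by
    refine ((IsLocalRing.local_hom_TFAE _).out 0 4).2 ?_
    exact IsLocalRing.eq_maximalIdeal (Ideal.isMaximal_comap_of_isIntegral_of_isMaximal (R := A) (IsLocalRing.maximalIdeal T))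
  haveI : Algebra.IsIntegral A (IsLocalRing.ResidueField T) :=
    ⟨fun x => by
      obtain ⟨y, rfl⟩ := IsLocalRing.residue_surjective x
      exact (Algebra.IsIntegral.isIntegral (R := A) y).map (IsScalarTower.toAlgHom A T (IsLocalRing.ResidueField T))⟩
  haveI : Algebra.IsIntegral (IsLocalRing.ResidueField A) (IsLocalRing.ResidueField T) :=
    Algebra.IsIntegral.tower_top (R := A)
  exact sepClosed_algebraic (IsLocalRing.ResidueField A) (IsLocalRing.ResidueField T)


/-- Let `R` be a commutative ring with an involution `lam` whose fixed ring `S` is strictly henselian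
(henselian local with separably closed residue field). Then `R` is isomorphic to a product of
finitely many strictly henselian local rings (existence of a ring isomorphism with such a product). -/
theorem result (S : Type u) (R : Type v) [CommRing S] [CommRing R]
    [Algebra S R] (lam : R ≃+* R) (hlam : Function.Involutive lam) (hS : RInv.IsFixedRing S R lam)
    [HenselianLocalRing S] [IsSepClosed (IsLocalRing.ResidueField S)] :
    ∃ (ι : Type) (_ : Fintype ι) (T : ι → Type v) (_ : ∀ i, CommRing (T i))
      (_ : ∀ i, HenselianLocalRing (T i)),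
      (∀ i, IsSepClosed (IsLocalRing.ResidueField (T i))) ∧ Nonempty (R ≃+* (∀ i, T i)) := by
  haveI := Groth.L09.RInvBasic.isIntegral hlam hS
  haveI : Nontrivial R := ⟨⟨algebraMap S R 0, algebraMap S R 1, fun h => zero_ne_one (hS.1 h)⟩⟩
  by_cases hid : ∀ r : R, lam r - r ∈ Ring.jacobson R
  · haveI := Groth.L09.RInvEtale.isLocalRing_of_id hlam hS hid
    obtain ⟨h1, h2⟩ := strict_of_integral (A := S) R
    exact ⟨Fin 1, inferInstance, fun _ => R, fun _ => inferInstance, fun _ => h1, fun _ => h2,
      ⟨(RingEquiv.piUnique fun _ : Fin 1 => R).symm⟩⟩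
  · push Not at hid
    obtain ⟨r, hr⟩ := Groth.L09.RInvEtale.exists_isUnit_sub hlam hS hid
    haveI := (Groth.L09.RInvEtale.isQuadEtale_of_isUnit hlam hS hr).1
    obtain ⟨ι, hι, T, hT, hloc, ⟨Φ⟩⟩ := Groth.L05.exists_ringEquiv_pi_of_finite (A := S) R
    let e := (Fintype.equivFin ι).symm
    have key : ∀ i : Fin (Fintype.card ι), ∃ h : HenselianLocalRing (T (e i)),
        IsSepClosed (IsLocalRing.ResidueField (T (e i))) := fun i => by
      let p : R →+* T (e i) := (Pi.evalRingHom T (e i)).comp Φ.toRingHom
      letI : Algebra R (T (e i)) := p.toAlgebra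
      letI : Algebra S (T (e i)) := (p.comp (algebraMap S R)).toAlgebra
      haveI : IsScalarTower S R (T (e i)) := IsScalarTower.of_algebraMap_eq (fun x => rfl)
      haveI := hloc (e i)
      haveI : Algebra.IsIntegral S (T (e i)) := ⟨fun x => by
        classical
        obtain ⟨y, hy⟩ := Φ.surjective (Pi.single (e i) x)
        have := (Algebra.IsIntegral.isIntegral (R := S) y).map (IsScalarTower.toAlgHom S R (T (e i)))
        rwa [show IsScalarTower.toAlgHom S R (T (e i)) y = x from (congrFun hy (e i)).trans (Pi.single_eq_same _ _)] at this⟩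
      exact strict_of_integral (A := S) (T (e i))
    exact ⟨Fin (Fintype.card ι), inferInstance, fun i => T (e i), fun i => hT (e i), fun i => (key i).1,
      fun i => (key i).2, ⟨Φ.trans (RingEquiv.piCongrLeft T e).symm⟩⟩

end Groth.Agent.S15578
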