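import Groth.Statements.S15582
import Groth.Agent.L04.SupportSh.FiniteClosedPush
-- import your own Groth.Agent.* helpers here

set_option autoImplicit false
universe u
open CategoryTheory TopologicalSpace
open CohTop

namespace Groth.Agent.S15582

/-- Let `π : X → Y` be a continuous map such that every open set containing a fibre `π⁻¹(y)` contains
the preimage of an open neighbourhood of `y`, and such that every fibre is finite with its points
separated by pairwise disjoint open sets of `X`. Then the direct image of sheaves of sets along `π`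
preserves epimorphisms. -/
theorem result
    {X Y : TopCat.{u}} (π : X ⟶ Y)
    (h1 : ∀ (y : Y) (U : Set X), IsOpen U → π ⁻¹' {y} ⊆ U →
      ∃ V : Set Y, IsOpen V ∧ y ∈ V ∧ π ⁻¹' V ⊆ U)
    (h2 : ∀ y : Y, (π ⁻¹' {y}).Finite ∧ ∃ U : X → Set X,
      (∀ x ∈ π ⁻¹' {y}, IsOpen (U x) ∧ x ∈ U x) ∧ (π ⁻¹' {y}).PairwiseDisjoint U) :
    (TopCat.Sheaf.pushforward (Type u) π).PreservesEpimorphisms := by
  exact Groth.L04.FiniteClosedPush.preservesEpimorphisms π h1 h2

end Groth.Agent.S15582
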