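import Groth.Statements.S15585
import Groth.Agent.L09.RInvEtale
import Mathlib.RingTheory.LocalRing.Quotient
import Mathlib.RingTheory.Unramified.Field

set_option autoImplicit false
universe u v
open RInv

namespace Groth.Agent.S15585

lemma dichotomy (k : Type u) (E : Type v) [Field k] [CommRing E] [Algebra k E] [Module.Finite k E]
    [Algebra.FormallyUnramified k E] (hdim : Module.finrank k E = 2) :
    (IsField E ∧ Module.finrank k E = 2 ∧ Algebra.IsSeparable k E) ∨ Nonempty (E ≃ₐ[k] (k × k)) := by
  haveI : IsReduced E := Algebra.FormallyUnramified.isReduced_of_field k E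
  haveI : IsArtinianRing E := IsArtinianRing.of_finite k E
  haveI : Nontrivial E := Module.nontrivial_of_finrank_eq_succ hdim
  by_cases hF : IsField E
  · left
    letI : Field E := hF.toField
    exact ⟨hF, hdim, Algebra.FormallyUnramified.isSeparable k E⟩
  · right
    obtain ⟨M₁, hM₁⟩ := Ideal.exists_maximal E
    haveI := hM₁
    obtain ⟨M₂, hM₂, hne⟩ : ∃ M₂ : Ideal E, M₂.IsMaximal ∧ M₂ ≠ M₁ := by
      by_contra h
      push Not at h
      haveI : IsLocalRing E := IsLocalRing.of_unique_max_ideal ⟨M₁, hM₁, h⟩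
      exact hF (IsArtinianRing.isField_of_isReduced_of_isLocalRing E)
    haveI := hM₂
    let φ : E →ₐ[k] (E ⧸ M₁) × (E ⧸ M₂) := (Ideal.Quotient.mkₐ k M₁).prod (Ideal.Quotient.mkₐ k M₂)
    have hφ : Function.Surjective φ := by
      rintro ⟨a, b⟩
      obtain ⟨a, rfl⟩ := Ideal.Quotient.mk_surjective a
      obtain ⟨b, rfl⟩ := Ideal.Quotient.mk_surjective b
      obtain ⟨x, hx, y, hy, hxy⟩ := Submodule.mem_sup.1
        ((Ideal.eq_top_iff_one _).1 (hM₁.coprime_of_ne hM₂ (Ne.symm hne)))
      refine ⟨a * y + b * x, Prod.ext ?_ ?_⟩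
      · show Ideal.Quotient.mk M₁ (a * y + b * x) = _
        rw [Ideal.Quotient.eq, show a * y + b * x - a = (b - a) * x by linear_combination a * hxy]
        exact M₁.mul_mem_left _ hx
      · show Ideal.Quotient.mk M₂ (a * y + b * x) = _
        rw [Ideal.Quotient.eq, show a * y + b * x - b = (a - b) * y by linear_combination b * hxy]
        exact M₂.mul_mem_left _ hy
    have hsum := φ.toLinearMap.finrank_range_le
    rw [LinearMap.range_eq_top.2 (show Function.Surjective φ.toLinearMap from hφ), finrank_top, hdim,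
      Module.finrank_prod] at hsum
    have p1 : 0 < Module.finrank k (E ⧸ M₁) := Module.finrank_pos
    have p2 : 0 < Module.finrank k (E ⧸ M₂) := Module.finrank_pos
    have b1 : Function.Bijective (algebraMap k (E ⧸ M₁)) :=
      ⟨(algebraMap k (E ⧸ M₁)).injective, fun x => by
        obtain ⟨c, hc⟩ := (finrank_eq_one_iff_of_nonzero' (K := k) (1 : E ⧸ M₁) one_ne_zero).1 (by omega) x
        exact ⟨c, by rw [Algebra.algebraMap_eq_smul_one, hc]⟩⟩
    have b2 : Function.Bijective (algebraMap k (E ⧸ M₂)) :=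
      ⟨(algebraMap k (E ⧸ M₂)).injective, fun x => by
        obtain ⟨c, hc⟩ := (finrank_eq_one_iff_of_nonzero' (K := k) (1 : E ⧸ M₂) one_ne_zero).1 (by omega) x
        exact ⟨c, by rw [Algebra.algebraMap_eq_smul_one, hc]⟩⟩
    have hinj : Function.Injective φ := (LinearMap.injective_iff_surjective_of_finrank_eq_finrank
      (f := φ.toLinearMap) (by rw [hdim, Module.finrank_prod]; omega)).2 hφ
    exact ⟨(AlgEquiv.ofBijective φ ⟨hinj, hφ⟩).trans (AlgEquiv.prodCongr
      (AlgEquiv.ofBijective (Algebra.ofId k _) b1).symm (AlgEquiv.ofBijective (Algebra.ofId k _) b2).symm)⟩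



/-- For a local ring `S` (maximal ideal `m`, residue field `k`) and a quadratic etale `S`-algebra `R`,
the ring `R/mR` is a field that is a separable extension of `k` of degree 2, or else it is
isomorphic as a `k`-algebra to `k × k`. -/
theorem result (S : Type u) (R : Type v) [CommRing S]
    [CommRing R] [Algebra S R] [IsLocalRing S] (hq : RInv.IsQuadEtale S R) :
    (IsField (R ⧸ (IsLocalRing.maximalIdeal S).map (algebraMap S R)) ∧
      Module.finrank (S ⧸ IsLocalRing.maximalIdeal S)
        (R ⧸ (IsLocalRing.maximalIdeal S).map (algebraMap S R)) = 2 ∧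
      Algebra.IsSeparable (S ⧸ IsLocalRing.maximalIdeal S)
        (R ⧸ (IsLocalRing.maximalIdeal S).map (algebraMap S R))) ∨
    Nonempty ((R ⧸ (IsLocalRing.maximalIdeal S).map (algebraMap S R)) ≃ₐ[S ⧸ IsLocalRing.maximalIdeal S]
      ((S ⧸ IsLocalRing.maximalIdeal S) × (S ⧸ IsLocalRing.maximalIdeal S))) := by
  haveI := hq.1
  haveI := hq.2.1
  haveI := hq.2.2.1
  haveI : Module.Free S R := Module.free_of_flat_of_isLocalRing
  have h2 : Module.finrank S R = 2 := by
    have := hq.2.2.2 ⟨IsLocalRing.maximalIdeal S, inferInstance⟩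
    rwa [Module.rankAtStalk_eq_finrank_of_free] at this
  letI : Field (S ⧸ IsLocalRing.maximalIdeal S) := Ideal.Quotient.field _
  haveI : Algebra.FormallyUnramified (S ⧸ IsLocalRing.maximalIdeal S)
      (R ⧸ (IsLocalRing.maximalIdeal S).map (algebraMap S R)) :=
    Algebra.FormallyUnramified.of_restrictScalars S _ _
  haveI : Module.Finite (S ⧸ IsLocalRing.maximalIdeal S) (R ⧸ (IsLocalRing.maximalIdeal S).map (algebraMap S R)) :=
    Module.Finite.of_restrictScalars_finite S _ _
  exact dichotomy _ _ ((IsLocalRing.finrank_quotient_map (R := S) (S := R)).trans h2)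

end Groth.Agent.S15585
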