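import Groth.Statements.S15586
import Groth.Agent.L09.RInvBranch

set_option autoImplicit false
universe u v w
open scoped TensorProduct
open RInv

namespace Groth.Agent.S15586

/-- Let `R` be a commutative ring with an involution `lam` and fixed ring `S`, and let `S'` be a
commutative `S`-algebra. If `S'` is flat over `S`, or if `2` is invertible in `S`, then `S'` is the
fixed ring of the base-changed involution `id ⊗ lam` of `S' ⊗_S R`: the structure map `S' → S' ⊗_S
R` is injective with image the fixed elements. (In general the fixed ring does not commute with base
change.) -/
theorem result (S : Type u) (R : Type v) (S' : Type w)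
    [CommRing S] [CommRing R] [Algebra S R] [CommRing S'] [Algebra S S']
    (lam : R ≃ₐ[S] R) (hlam : Function.Involutive lam)
    (hS : RInv.IsFixedRing S R lam.toRingEquiv)
    (h : Module.Flat S S' ∨ IsUnit (2 : S)) :
    RInv.IsFixedRing S' (S' ⊗[S] R)
      (Algebra.TensorProduct.congr (AlgEquiv.refl : S' ≃ₐ[S] S') lam).toRingEquiv := by
  exact Groth.L09.RInvBranch.isFixedRing_baseChange S' (lam := lam) hlam hS h

end Groth.Agent.S15586
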