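import Groth.Statements.S15589
import Groth.Agent.L09.RInvBranch

set_option autoImplicit false
universe u v
open scoped TensorProduct
open RInv

namespace Groth.Agent.S15589

/-- Let `R` be a commutative ring with an involution `lam` and fixed ring `S`, `W ⊆ Spec S` the branch
locus (primes `p` with `S_p ⊗_S R` not quadratic etale over `S_p`), `I` its vanishing ideal and `J =
rad(IR)`. Then `Spec(R/J) → Spec(S/I)` is a homeomorphism; if `2` is a unit of `S`, the ring map
`S/I → R/J` is moreover bijective, so the reduced preimage of the branch locus maps isomorphically
onto it. Affine-local form of the statement for a good quotient of schemes by an involution (the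
hypothesis `I ≤ J ∩ S` holds automatically and only serves to write down the map). -/
theorem result (S : Type u) (R : Type v) [CommRing S] [CommRing R]
    [Algebra S R] (lam : R ≃+* R) (hlam : Function.Involutive lam) (hS : RInv.IsFixedRing S R lam)
    (W : Set (PrimeSpectrum S))
    (hW : W = {p : PrimeSpectrum S | ¬ RInv.IsQuadEtale (Localization.AtPrime p.asIdeal) (Localization.AtPrime p.asIdeal ⊗[S] R)})
    (J : Ideal R) (hJ : J = ((PrimeSpectrum.vanishingIdeal W).map (algebraMap S R)).radical)
    (hIJ : PrimeSpectrum.vanishingIdeal W ≤ J.comap (algebraMap S R)) :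
    IsHomeomorph (PrimeSpectrum.comap (Ideal.quotientMap J (algebraMap S R) hIJ)) ∧
      (IsUnit (2 : S) → Function.Bijective (Ideal.quotientMap J (algebraMap S R) hIJ)) := by
  exact Groth.L09.RInvBranch.homeomorph_and_bijective hlam hS W hW J hJ hIJ

end Groth.Agent.S15589
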