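import Groth.Statements.S15590
import Mathlib.RingTheory.Flat.FaithfullyFlat.Algebra
import Mathlib.RingTheory.DedekindDomain.Basic
import Mathlib.RingTheory.Ideal.GoingUp
import Mathlib.RingTheory.Spectrum.Prime.Topology
import Mathlib.RingTheory.Localization.FractionRing
import Mathlib.RingTheory.IntegralClosure.IntegrallyClosed

set_option autoImplicit false
universe u v
open CAlg

namespace Groth.Agent.S15590

/-- Let A → B be an injective homomorphism of commutative rings which makes B a finite flat A-module,
and suppose B is a Dedekind domain (Noetherian, integrally closed, of Krull dimension at most one; a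
field is allowed). Then A is a Dedekind domain. -/
theorem result (A : Type u) (B : Type v)
    [CommRing A] [CommRing B] [Algebra A B] [IsDedekindDomain B]
    (hinj : Function.Injective (algebraMap A B)) [Module.Finite A B] [Module.Flat A B] :
    IsDedekindDomain A := by
  have : FaithfulSMul A B := (faithfulSMul_iff_algebraMap_injective A B).mpr hinj
  have : Algebra.IsIntegral A B := Algebra.IsIntegral.of_finite A B
  have hdom : IsDomain A := hinj.isDomain (algebraMap A B)
  have : Module.FaithfullyFlat A B := Module.FaithfullyFlat.of_comap_surjective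
    (Algebra.IsIntegral.comap_surjective A B)
  have hN : IsNoetherianRing A := by
    rw [IsNoetherianRing, isNoetherian_iff']
    refine StrictMono.wellFoundedGT (f := fun I : Ideal A => I.map (algebraMap A B)) ?_
    refine Monotone.strictMono_of_injective (fun _ _ h => Ideal.map_mono h) fun I J h => ?_
    replace h : Ideal.map (algebraMap A B) I = Ideal.map (algebraMap A B) J := h
    rw [← Ideal.comap_map_eq_self_of_faithfullyFlat (B := B) I, h,
      Ideal.comap_map_eq_self_of_faithfullyFlat]
  have hdim : Ring.DimensionLEOne A := ⟨fun {p} hp hpp => by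
    obtain ⟨Q, hQ⟩ := Ideal.exists_ideal_over_prime_of_isIntegral_of_isDomain (S := B) p
      (by simp [(RingHom.injective_iff_ker_eq_bot _).mp hinj])
    have hQ0 : Q ≠ ⊥ := fun h0 => hp (by
      rw [← hQ.2, h0, Ideal.comap_bot_of_injective _ hinj])
    have := hQ.1
    have hQm : Q.IsMaximal := this.isMaximal hQ0
    exact hQ.2 ▸ Ideal.isMaximal_comap_of_isIntegral_of_isMaximal Q⟩
  have hic : IsIntegrallyClosed A := by
    rw [isIntegrallyClosed_iff (FractionRing A)]
    intro x hx
    obtain ⟨a, b, hb, rfl⟩ := IsFractionRing.div_surjective A x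
    have hb0 : algebraMap A B b ≠ 0 := (map_ne_zero_iff _ hinj).mpr (nonZeroDivisors.ne_zero hb)
    have hinjK : Function.Injective (algebraMap A (FractionRing B)) :=
      (IsFractionRing.injective B (FractionRing B)).comp hinj
    let φ : FractionRing A →ₐ[A] FractionRing B := IsFractionRing.liftAlgHom (g := Algebra.ofId A _) hinjK
    have hy : IsIntegral B (φ (algebraMap A _ a / algebraMap A _ b)) := (hx.map φ).tower_top
    obtain ⟨y, hy⟩ := IsIntegrallyClosed.isIntegral_iff.mp hy
    rw [map_div₀, AlgHom.commutes, AlgHom.commutes, IsScalarTower.algebraMap_apply A B (FractionRing B),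
      IsScalarTower.algebraMap_apply A B (FractionRing B) b,
      eq_div_iff ((map_ne_zero_iff _ (IsFractionRing.injective B _)).mpr hb0), ← map_mul] at hy
    have hmem : a ∈ ((Ideal.span {b}).map (algebraMap A B)).comap (algebraMap A B) := by
      rw [Ideal.mem_comap, Ideal.map_span, Set.image_singleton, Ideal.mem_span_singleton']
      exact ⟨y, IsFractionRing.injective B (FractionRing B) hy⟩
    rw [Ideal.comap_map_eq_self_of_faithfullyFlat, Ideal.mem_span_singleton'] at hmem
    obtain ⟨c, rfl⟩ := hmem
    refine ⟨c, ?_⟩
    rw [map_mul, mul_div_assoc, div_self, mul_one]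
    exact (map_ne_zero_iff _ (IsFractionRing.injective A (FractionRing A))).mpr (nonZeroDivisors.ne_zero hb)
  exact {}

end Groth.Agent.S15590
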