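import Groth.Statements.S15591
import Groth.Agent.L24.TorusField.Dim

set_option autoImplicit false
set_option backward.isDefEq.respectTransparency.types false
universe u
open CategoryTheory MonoidalCategory CartesianMonoidalCategory MonObj GrpObj AlgebraicGeometry
open AGF

namespace Groth.Agent.S15591

/-- Let k be a field, G an affine smooth connected k-group scheme and T ⟶ G, T' ⟶ G two maximal k-tori
of G (each maximal among the k-subtori of G through which it factors). Then T and T' have the same
dimension. -/
theorem result (k : Type u) [Field k]
    (G : Over (Spec (CommRingCat.of k))) [GrpObj G] [IsAffine G.left] [Smooth G.hom] [ConnectedSpace ↥G.left]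
    (T T' : Over (Spec (CommRingCat.of k))) [GrpObj T] [GrpObj T'] (iT : T ⟶ G) (iT' : T' ⟶ G)
    (hT : AGF.IsMaxTorus iT) (hT' : AGF.IsMaxTorus iT') :
    topologicalKrullDim ↥T.left = topologicalKrullDim ↥T'.left := by
  exact Groth.L24.TorusField.dim_maxTorus_eq (Groth.L24.TorusField.isMaximalTorus_of_isMaxTorus_field hT)
    (Groth.L24.TorusField.isMaximalTorus_of_isMaxTorus_field hT')

end Groth.Agent.S15591
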