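import Groth.Statements.S15592
import Groth.Agent.L19.AlgGrpBasic.LineFixed
import Groth.Agent.L26.AV.SmoothField
import Groth.Agent.L14.Smoothing.SymAlg

set_option autoImplicit false
set_option backward.isDefEq.respectTransparency.types false

set_option linter.style.haveILetI false
universe u
open CategoryTheory MonoidalCategory CartesianMonoidalCategory MonObj GrpObj AlgebraicGeometry
open AlgGrp

namespace Groth.Agent.S15592

/-- The case of a one-dimensional group. Let k be a field, X a proper k-scheme having a k-rational
point, and G a k-group scheme isomorphic, as a k-group scheme, to the additive group or to the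
multiplicative group over k. Then every action of G on X fixes some k-rational point of X: there is
a k-point x with g · x = x for all points g of G with values in any k-scheme. (This is the
one-dimensional case of the fixed point property of k-split solvable groups acting on proper
k-schemes with a rational point, to which the general case reduces by induction along a composition
series.) -/
theorem result (k : Type u) [Field k]
    (G X : Over (Spec (CommRingCat.of k))) [GrpObj G]
    (hG : Nonempty (Grp.mk G ≅ Grp.mk (Red.Ga (Spec (CommRingCat.of k)))) ∨ Nonempty (Grp.mk G ≅ Grp.mk (Red.Gm (Spec (CommRingCat.of k)))))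
    [IsProper X.hom] (x₀ : 𝟙_ (Over (Spec (CommRingCat.of k))) ⟶ X) (a : AlgGrp.Action G X) :
    ∃ x : 𝟙_ (Over (Spec (CommRingCat.of k))) ⟶ X, a.IsFixedPt x := by
  rcases hG with ⟨⟨E⟩⟩ | ⟨⟨E⟩⟩
  · haveI : Smooth (Red.GaZ.{u}).hom := by
      refine (HasRingHomProperty.Spec_iff (P := @Smooth)).2 ?_
      exact RingHom.smooth_algebraMap.2
        (inferInstanceAs (Algebra.Smooth (ULift.{u} ℤ) (SymmetricAlgebra (ULift.{u} ℤ) (ULift.{u} ℤ))))
    haveI : Smooth (Red.Ga (Spec (CommRingCat.of k))).hom := MorphismProperty.pullback_snd (P := @Smooth) _ _ ‹_›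
    haveI : IsReduced (Red.Ga (Spec (CommRingCat.of k))).left :=
      Groth.Agent.AV.isReduced_of_smooth_field (Red.Ga (Spec (CommRingCat.of k))).hom
    haveI : IsIso E.hom.hom.hom :=
      ⟨E.inv.hom.hom, congr($(E.hom_inv_id).hom.hom), congr($(E.inv_hom_id).hom.hom)⟩
    haveI : IsIso E.hom.hom.hom.left := inferInstanceAs (IsIso ((Over.forget _).map E.hom.hom.hom))
    haveI : IsReduced G.left := isReduced_of_isOpenImmersion E.hom.hom.hom.left
    haveI : IsMonHom E.inv.hom.hom := E.inv.hom.isMonHom_hom
    exact Groth.L19.AlgGrpBasic.exists_isFixedPt_Ga E.inv.hom.hom E.hom.hom.hom congr($(E.hom_inv_id).hom.hom) a x₀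
  · haveI : Smooth (Red.Gm (Spec (CommRingCat.of k))).hom :=
      Groth.L19.AlgGrpBasic.smooth_Gm k
    haveI : IsReduced (Red.Gm (Spec (CommRingCat.of k))).left :=
      Groth.Agent.AV.isReduced_of_smooth_field (Red.Gm (Spec (CommRingCat.of k))).hom
    haveI : IsIso E.hom.hom.hom :=
      ⟨E.inv.hom.hom, congr($(E.hom_inv_id).hom.hom), congr($(E.inv_hom_id).hom.hom)⟩
    haveI : IsIso E.hom.hom.hom.left := inferInstanceAs (IsIso ((Over.forget _).map E.hom.hom.hom))
    haveI : IsReduced G.left := isReduced_of_isOpenImmersion E.hom.hom.hom.left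
    haveI : IsMonHom E.inv.hom.hom := E.inv.hom.isMonHom_hom
    exact Groth.L19.AlgGrpBasic.exists_isFixedPt_Gm E.inv.hom.hom E.hom.hom.hom congr($(E.hom_inv_id).hom.hom) a x₀

end Groth.Agent.S15592
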