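import Groth.Statements.S15593
import Groth.Agent.L25.Translate
import Groth.Agent.L21.Smooth.Scheme
import Groth.Agent.L25.GrpBasics
import Mathlib.AlgebraicGeometry.Morphisms.FlatMono

set_option autoImplicit false
universe u
open CategoryTheory MonoidalCategory CartesianMonoidalCategory MonObj GrpObj AlgebraicGeometry
open AlgGrp

namespace Groth.Agent.S15593

/-- Let k be a field and f : G ⟶ G' a homomorphism of smooth k-group schemes of finite type. If f is
surjective (on underlying topological spaces) and has trivial kernel, that is, f is a monomorphism,
then f is an isomorphism. No flatness of f is assumed. -/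
theorem result (k : Type u) [Field k]
    (G G' : Over (Spec (CommRingCat.of k))) [GrpObj G] [GrpObj G']
    [Smooth G.hom] [QuasiCompact G.hom] [Smooth G'.hom] [QuasiCompact G'.hom]
    (f : G ⟶ G') [IsMonHom f] [Mono f] [Surjective f.left] : IsIso f := by
  have : Subsingleton (Spec (CommRingCat.of k) : Scheme.{u}) :=
    inferInstanceAs (Subsingleton (PrimeSpectrum k))
  have : IsSeparated G'.hom := ⟨Groth.L25.GrpBasics.diagonal_of_unit @IsClosedImmersion G'
    (isClosedImmersion_of_comp_eq_id G'.hom _ (Groth.L25.GrpBasics.unit_comp_hom G'))⟩
  have : QuasiCompact (f.left ≫ G'.hom) := by rw [Over.w]; infer_instance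
  have : QuasiCompact f.left := QuasiCompact.of_comp f.left G'.hom
  have : IsReduced G'.left := by
    have : ∀ x : G'.left, _root_.IsReduced (G'.left.presheaf.stalk x) := fun x => by
      have := Groth.L21.Smooth.isDomain_stalk G'.hom x
      infer_instance
    exact isReduced_of_isReduced_stalk G'.left
  have : Flat f.left := Groth.L25.Translate.flat_of_denseRange f f.left.surjective.denseRange
  have : IsIso f.left := Flat.isIso_of_surjective_of_mono f.left
  have : IsIso ((Over.forget _).map f) := ‹IsIso f.left›
  exact isIso_of_reflects_iso f (Over.forget _)
end Groth.Agent.S15593
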