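import Groth.Statements.S15594
import Mathlib.LinearAlgebra.FreeModule.Basic
import Mathlib.LinearAlgebra.Basis.VectorSpace
import Mathlib.LinearAlgebra.TensorProduct.Basis
import Mathlib.LinearAlgebra.TensorProduct.RightExactness
import Mathlib.RingTheory.Ideal.Operations
import Mathlib.RingTheory.Ideal.BigOperators

set_option autoImplicit false
universe u
open TensorProduct
open AGF

namespace Groth.Agent.S15594

/-- Affine form. Let k ⊆ K be a field extension, A a commutative k-algebra and S a set of k-algebra
homomorphisms A → k (rational points of Spec A). The ideal ⋂_{σ ∈ S} ker σ cuts out the Zariski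
closure of S with its reduced structure, and its extension to K ⊗_k A equals ⋂_{σ ∈ S} ker σ_K,
where σ_K : K ⊗_k A → K is the K-algebra map induced by σ. In words: the closure of a set of
rational points is formed compatibly with extension of the ground field. (The published statement is
for schemes locally of finite type; this affine row assumes no finiteness, which the argument does
not use.) -/
theorem result (k K A : Type u) [Field k] [Field K] [Algebra k K]
    [CommRing A] [Algebra k A] (S : Set (A →ₐ[k] k)) :
    Ideal.map (Algebra.TensorProduct.includeRight : A →ₐ[k] K ⊗[k] A) (⨅ σ ∈ S, RingHom.ker σ) =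
      ⨅ σ ∈ S, RingHom.ker ((Algebra.TensorProduct.rid k K K).toAlgHom.comp
        (Algebra.TensorProduct.map (AlgHom.id K K) σ)) := by
  refine le_antisymm (Ideal.map_le_iff_le_comap.2 fun a ha => ?_) fun x hx => ?_
  · simp only [Submodule.mem_iInf] at ha
    simp only [Ideal.mem_comap, Submodule.mem_iInf, RingHom.mem_ker]
    intro σ hσ
    have := ha σ hσ
    rw [RingHom.mem_ker] at this
    simp [this]
  · classical
    let B := Module.Free.chooseBasis k K
    obtain ⟨f, rfl⟩ := TensorProduct.eq_repr_basis_left B x
    refine Ideal.sum_mem _ fun i _ => ?_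
    have hmem : f i ∈ ⨅ σ ∈ S, RingHom.ker σ := by
      simp only [Submodule.mem_iInf, RingHom.mem_ker]
      intro σ hσ
      have hx' := (Submodule.mem_iInf _).1 ((Submodule.mem_iInf _).1 hx σ) hσ
      rw [RingHom.mem_ker, map_finsuppSum] at hx'
      have h0 : Finsupp.linearCombination k B (f.mapRange σ (map_zero σ)) = 0 := by
        rw [Finsupp.linearCombination_apply, Finsupp.sum_mapRange_index (by simp)]
        simpa using hx'
      have := DFunLike.congr_fun (B.linearIndependent (h0.trans (map_zero _).symm)) i
      simpa using this
    have h3 : B i ⊗ₜ[k] f i = (B i ⊗ₜ[k] (1 : A)) * Algebra.TensorProduct.includeRight (f i) := by simp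
    rw [show (fun i n => B i ⊗ₜ[k] n) i (f i) = _ from h3]
    exact Ideal.mul_mem_left _ _ (Ideal.mem_map_of_mem _ hmem)
end Groth.Agent.S15594
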