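import Groth.Statements.S15595
import Groth.Agent.L05.Henselization.EtaleLike
import Mathlib.LinearAlgebra.TensorProduct.RightExactness
import Mathlib.RingTheory.Flat.Stability
import Mathlib.RingTheory.TensorProduct.Maps

set_option autoImplicit false
universe u
open TensorProduct
attribute [local instance] RingHom.ker_isPrime
open CAlg

namespace Groth.Agent.S15595

/-- Let k ⊆ K be a field extension and A a Noetherian local k-algebra with residue field k, recorded by
a k-algebra map π : A → k whose kernel is the maximal ideal. Let π_K : K ⊗_k A → K be the induced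
K-algebra map, m' its kernel, and A' the localization of K ⊗_k A at m'. Assume A' is Noetherian.
Then A is a regular local ring if and only if A' is a regular local ring. -/
theorem result (k K A : Type u) [Field k] [Field K]
    [Algebra k K] [CommRing A] [Algebra k A] [IsLocalRing A] [IsNoetherianRing A]
    (π : A →ₐ[k] k) (hπ : RingHom.ker π = IsLocalRing.maximalIdeal A)
    [IsNoetherianRing (Localization.AtPrime (RingHom.ker
      ((Algebra.TensorProduct.rid k K K).toAlgHom.comp (Algebra.TensorProduct.map (AlgHom.id K K) π))))] :
    IsRegularLocalRing A ↔ IsRegularLocalRing (Localization.AtPrime (RingHom.ker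
      ((Algebra.TensorProduct.rid k K K).toAlgHom.comp (Algebra.TensorProduct.map (AlgHom.id K K) π)))) := by
  let φ : K ⊗[k] A →ₐ[k] K := ((Algebra.TensorProduct.rid k K K).toAlgHom.restrictScalars k).comp (Algebra.TensorProduct.map (AlgHom.id k K) π)
  have hsurj : Function.Surjective π := fun c => ⟨algebraMap k A c, π.commutes c⟩
  set P := RingHom.ker ((Algebra.TensorProduct.rid k K K).toAlgHom.comp (Algebra.TensorProduct.map (AlgHom.id K K) π)) with hP
  letI : Algebra A (K ⊗[k] A) := Algebra.TensorProduct.rightAlgebra
  haveI : Module.Flat A (K ⊗[k] A) :=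
    Module.Flat.of_linearEquiv (LinearEquiv.ofBijective
      ({ toFun := Algebra.TensorProduct.comm k K A
         map_add' := map_add _
         map_smul' := fun a x => by
           induction x using TensorProduct.induction_on with
           | zero => simp
           | add x y hx hy => simp only [smul_add, map_add, hx, hy]
           | tmul c b => rw [Algebra.smul_def]; simp [RingHom.algebraMap_toAlgebra, TensorProduct.smul_tmul'] } :
        (K ⊗[k] A) →ₗ[A] A ⊗[k] K)
      (Algebra.TensorProduct.comm k K A).bijective)
  haveI : Module.Flat (K ⊗[k] A) (Localization.AtPrime P) := IsLocalization.flat _ P.primeCompl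
  haveI : Module.Flat A (Localization.AtPrime P) := Module.Flat.trans A (K ⊗[k] A) _
  have hPm : P = (IsLocalRing.maximalIdeal A).map (algebraMap A (K ⊗[k] A)) := by
    rw [← hπ, show algebraMap A (K ⊗[k] A) = (Algebra.TensorProduct.includeRight : A →ₐ[k] K ⊗[k] A).toRingHom from rfl]
    refine Eq.trans ?_ (Algebra.TensorProduct.lTensor_ker (A := K) π hsurj)
    ext x
    simp only [hP, RingHom.mem_ker]
    exact ⟨fun h => (map_eq_zero_iff _ (Algebra.TensorProduct.rid k K K).injective).mp h,
      fun h => (congrArg _ h).trans (map_zero (Algebra.TensorProduct.rid k K K))⟩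
  refine Groth.L05.Henselization.isRegularLocalRing_iff_of_map_maximalIdeal A (Localization.AtPrime P) ?_
  rw [IsScalarTower.algebraMap_eq A (K ⊗[k] A) (Localization.AtPrime P), ← Ideal.map_map, ← hPm,
    Localization.AtPrime.map_eq_maximalIdeal]

end Groth.Agent.S15595
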