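import Groth.Statements.S15596
import Groth.Agent.L08.ProfiniteImage
import Mathlib.AlgebraicGeometry.AlgClosed.Basic

set_option autoImplicit false
set_option backward.isDefEq.respectTransparency.types false
set_option backward.isDefEq.respectTransparency false
set_option linter.style.haveILetI false
universe u
open CategoryTheory MonoidalCategory CartesianMonoidalCategory MonObj GrpObj AlgebraicGeometry
open AlgGrp

namespace Groth.Agent.S15596

/-- Let k be an algebraically closed field, H a smooth k-group scheme of finite type, and U a dense open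
subset of H. Then every k-rational point h of H is of the form u₂ · u₁⁻¹ for k-rational points u₁,
u₂ of H whose underlying points lie in U. -/
theorem result (k : Type u) [Field k] [IsAlgClosed k]
    (H : Over (Spec (CommRingCat.of k))) [GrpObj H] [Smooth H.hom] [QuasiCompact H.hom]
    (U : H.left.Opens) (hU : Dense (U : Set ↥H.left)) (h : 𝟙_ (Over (Spec (CommRingCat.of k))) ⟶ H) :
    ∃ u₁ u₂ : 𝟙_ (Over (Spec (CommRingCat.of k))) ⟶ H,
      u₁.left.base (IsLocalRing.closedPoint k) ∈ U ∧ u₂.left.base (IsLocalRing.closedPoint k) ∈ U ∧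
        h = u₂ * u₁⁻¹ := by
  have hjac : JacobsonSpace ↥H.left := LocallyOfFiniteType.jacobsonSpace H.hom
  let f : H ⟶ H := Groth.L08.ProfiniteImage.lt h
  have hne : ((U : Set ↥H.left) ∩ f.left ⁻¹' (U : Set ↥H.left)).Nonempty := by
    have hUne : (U : Set ↥H.left).Nonempty := by
      haveI : Nonempty ↥H.left := ⟨η[H].left (IsLocalRing.closedPoint k)⟩
      exact hU.nonempty
    have hs : Function.Surjective f.left := f.left.surjective
    obtain ⟨y, hy⟩ := hUne
    obtain ⟨x, hx⟩ := hs y
    exact hU.inter_open_nonempty _ (U.2.preimage f.left.continuous) ⟨x, show f.left x ∈ U by rw [hx]; exact hy⟩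
      |>.mono (fun z hz => ⟨hz.2, hz.1⟩)
  obtain ⟨z, hz, hzc⟩ := nonempty_inter_closedPoints hne
    (U.2.inter (U.2.preimage f.left.continuous)).isLocallyClosed
  let p : Spec (CommRingCat.of k) ⟶ H.left := pointOfClosedPoint H.hom z hzc
  let u₁ : 𝟙_ (Over (Spec (CommRingCat.of k))) ⟶ H := Over.homMk p (pointOfClosedPoint_comp H.hom z hzc)
  have hu : u₁.left.base (IsLocalRing.closedPoint k) = z := pointOfClosedPoint_apply H.hom z hzc _
  refine ⟨u₁, h * u₁, by rw [hu]; exact hz.1, ?_, by rw [mul_inv_cancel_right]⟩
  have := Groth.L08.ProfiniteImage.pt_lt h u₁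
  rw [show Groth.L08.ProfiniteImage.pt u₁ = z from hu] at this
  show Groth.L08.ProfiniteImage.pt (h * u₁) ∈ U
  rw [← this]
  exact hz.2

end Groth.Agent.S15596
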