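import Groth.Statements.S15597
import Groth.Agent.S8091
import Groth.Agent.L19.SpecSub.NoUnip
import Groth.Agent.L08.Borel.TorusImage
import Groth.Agent.L08.HopfTransport
import Groth.Agent.L08.Flag
import Groth.Agent.L08.Pullback
import Groth.Agent.L20.RepTensor.Main
import Groth.Agent.L25.Bridge.Lift
import Groth.Agent.L25.Bridge.Spec
import Groth.Agent.L25.Observable.UnipFixed

set_option autoImplicit false
universe u v
open HopfRep

set_option backward.isDefEq.respectTransparency.types false
open CategoryTheory MonoidalCategory CartesianMonoidalCategory MonObj GrpObj AlgebraicGeometry WithConv TensorProduct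
open Groth.L08 (fAct)
section Aux
open Groth.L08

theorem act_eq_fAct {k : Type u} {A : Type v} [Field k] [CommRing A] [HopfAlgebra k A] {V : Type v}
    [AddCommGroup V] [Module k V] [HopfRep.Comod k A V] (g : A →ₐ[k] k) :
    HopfRep.Comod.act k A V g = fAct V g.toLinearMap := rfl

/-- a point acting locally unipotently and semisimply is trivial -/
theorem eq_counit_of_unipotent {k : Type u} {A : Type v} [Field k] [IsAlgClosed k] [CommRing A] [HopfAlgebra k A]
    (hss : ∀ (g : A →ₐ[k] k) (V : Type v) [AddCommGroup V] [Module k V] [HopfRep.Comod k A V],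
      Module.Finite k V → Module.End.IsSemisimple (HopfRep.Comod.act k A V g))
    (g : A →ₐ[k] k) (hg : ∀ a, ∃ n, ((fAct A g.toLinearMap - 1 : Module.End k A) ^ n) a = 0) (a : A) :
    g a = Coalgebra.counit (R := k) a := by
  obtain ⟨C, h1, h2, h3⟩ := exists_finite_subcomod (k := k) (A := A) a
  letI cC : HopfRep.Comod k A C := ComodSub.Comod.restr (HopfRep.Comod.regular k A) C h3
  have hs : Module.End.IsSemisimple (HopfRep.Comod.act k A C g) := hss g C h1
  set T : Module.End k C := HopfRep.Comod.act k A C g with hT
  have hval : ∀ v : C, ((T v : C) : A) = fAct A g.toLinearMap (v : A) := fun v =>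
    fAct_comm_of_isComodHom (ComodSub.isComodHom_subtype _ C h3) _ v
  have hpow : ∀ (n : ℕ) (v : C), (((T - 1) ^ n) v : A) = ((fAct A g.toLinearMap - 1 : Module.End k A) ^ n) (v : A) := by
    intro n
    induction n with
    | zero => intro v; rfl
    | succ n ih =>
      intro v
      rw [pow_succ, pow_succ, Module.End.mul_apply, Module.End.mul_apply, ih]
      congr 1
      show ((T v - v : C) : A) = fAct A g.toLinearMap (v : A) - (v : A)
      rw [Submodule.coe_sub, hval]
  have hnil : IsNilpotent (T - 1) := Module.End.isNilpotent_iff_of_finite.2 fun v => by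
    obtain ⟨n, hn⟩ := hg (v : A)
    exact ⟨n, Subtype.ext ((hpow n v).trans hn)⟩
  have hs' : (T - 1 : Module.End k C).IsSemisimple := by
    have : (T - algebraMap k (Module.End k C) 1).IsSemisimple := (Module.End.isSemisimple_sub_algebraMap_iff (f := T)).2 hs
    rwa [map_one] at this
  have h0 := Module.End.eq_zero_of_isNilpotent_isSemisimple hnil hs'
  have h4 := hval ⟨a, h2⟩
  rw [show T = 1 from sub_eq_zero.1 h0, Module.End.one_apply] at h4
  have h5 := congrArg (Coalgebra.counit (R := k)) h4
  rw [h5]
  show g a = Coalgebra.counit (R := k) (TensorProduct.rid k A (g.toLinearMap.lTensor A (Coalgebra.comul (R := k) a)))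
  have e : ∀ z : A ⊗[k] A, Coalgebra.counit (R := k) (TensorProduct.rid k A (g.toLinearMap.lTensor A z)) =
      g (TensorProduct.lid k A (LinearMap.rTensor A (Coalgebra.counit (R := k)) z)) := by
    intro z
    induction z using TensorProduct.induction_on with
    | zero => simp
    | add p q hp hq => simp only [map_add, hp, hq]
    | tmul p q => simp [mul_comm]
  rw [e, Coalgebra.rTensor_counit_comul, TensorProduct.lid_tmul, one_smul]

/-- points of a unipotent subgroup act locally unipotently -/
theorem exists_pow_sub_eq_zero {k : Type u} [Field k] {A B : Type u} [CommRing A] [HopfAlgebra k A] [CommRing B]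
    [HopfAlgebra k B] (hU : HopfRep.IsUnipotent k B) (p : A →ₐc[k] B) (s : B →ₐ[k] k) (a : A) :
    ∃ n, ((fAct A (s.comp (p : A →ₐ[k] B)).toLinearMap - 1 : Module.End k A) ^ n) a = 0 := by
  obtain ⟨C, h1, h2, h3⟩ := exists_finite_subcomod (k := k) (A := A) a
  letI cC : HopfRep.Comod k A C := ComodSub.Comod.restr (HopfRep.Comod.regular k A) C h3
  letI cB : HopfRep.Comod k B C := push (p : A →ₗc[k] B) cC
  obtain ⟨F, -, h0, htop, -, hs⟩ := exists_flag_of_isUnipotent hU C
  have key : ∀ (i : ℕ) (v : C), v ∈ F i →
      ((fAct A (s.comp (p : A →ₐ[k] B)).toLinearMap - 1 : Module.End k A) ^ i) (v : A) = 0 := by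
    intro i
    induction i with
    | zero =>
      intro v hv
      rw [h0, Submodule.mem_bot] at hv
      subst hv
      exact map_zero _
    | succ i ih =>
      intro v hv
      obtain ⟨c, rfl, hst⟩ := hs i
      have hm := hst v hv s.toLinearMap
      rw [show s.toLinearMap 1 = 1 from map_one s, one_smul, fAct_push,
        show s.toLinearMap ∘ₗ (p : A →ₗc[k] B).toLinearMap = (s.comp (p : A →ₐ[k] B)).toLinearMap from rfl] at hm
      rw [pow_succ, Module.End.mul_apply, ← ih _ hm]
      congr 1
      show fAct A _ (v : A) - (v : A) = _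
      rw [Submodule.coe_sub]
      exact congrArg (· - (v : A)) (fAct_comm_of_isComodHom (ComodSub.isComodHom_subtype _ C h3) _ v).symm
  exact ⟨_, key _ ⟨a, h2⟩ (by rw [htop]; trivial)⟩

end Aux
namespace Groth.Agent.S15597

/-- Let k be an algebraically closed field and G = Spec A a smooth connected affine k-group, that is, A
is a finitely generated commutative Hopf algebra over k which is reduced and has no idempotents
other than 0 and 1; commutativity of G is not assumed. If every k-point of G is semisimple, in the
sense that it acts semisimply in every finite-dimensional A-comodule, then G is a torus: A is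
spanned over k by its group-like elements. (The published statement is over an arbitrary field, with
the hypothesis on the points over an algebraic closure; this row is the algebraically closed case.) -/
theorem result (k : Type u) (A : Type v) [Field k]
    [IsAlgClosed k] [CommRing A] [HopfAlgebra k A] [Algebra.FiniteType k A] [IsReduced A]
    (hconn : ∀ e : A, IsIdempotentElem e → e = 0 ∨ e = 1)
    (hss : ∀ (g : A →ₐ[k] k) (V : Type v) [AddCommGroup V] [Module k V] [HopfRep.Comod k A V],
      Module.Finite k V → Module.End.IsSemisimple (HopfRep.Comod.act k A V g)) :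
    HopfRep.IsDiagonalizable k A := by
  obtain ⟨A', i1, i2, i3, ⟨e⟩⟩ := Groth.L08.HopfTransport.exists_small_hopf k A
  have hei : Function.Injective e := e.injective
  haveI : _root_.IsReduced A' := isReduced_of_injective e hei
  have hconn' : ∀ x : A', IsIdempotentElem x → x = 0 ∨ x = 1 := fun x hx => by
    rcases hconn (e x) (hx.map e) with h | h
    · exact Or.inl (hei (h.trans (map_zero e).symm))
    · exact Or.inr (hei (h.trans (map_one e).symm))
  haveI : Nontrivial A' := RingHom.domain_nontrivial (Bialgebra.counitAlgHom k A').toRingHom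
  haveI : Smooth (Groth.L25.Observable.Sp k A').hom := smooth_Sp
  haveI : IsAffine (Groth.L25.Observable.Sp k A').left := inferInstanceAs (IsAffine (Spec (CommRingCat.of A')))
  haveI : ConnectedSpace (Groth.L25.Observable.Sp k A').left := Groth.L20.RepTensor.connectedSpace_of_idempotents hconn'
  have hT : Red.IsTorus (Groth.L25.Observable.Sp k A') := by
    refine Groth.L19.SpecSub.isTorus_of_noUnip _ fun U _ i _ hci hs hc hU => ?_
    haveI := hci
    haveI := hs
    haveI := hc
    haveI : IsAffine U.left := isAffine_of_isAffineHom i.left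
    haveI : Mono i := Over.mono_of_mono_left i
    haveI : Group.IsSolvable (VecGrp.pt k k ⟶ U) := by
      obtain ⟨n, hn⟩ := Groth.L14.Luna.isSolvableGrp_of_noSubtorus U hU
      exact ⟨⟨n, hn _⟩⟩
    obtain ⟨B, _, _, ⟨eU⟩⟩ := Groth.L25.Bridge.exists_hopf U
    let ψ : U ⟶ Groth.L25.Observable.Sp k B := eU.hom.hom.hom
    haveI : IsMonHom ψ := inferInstanceAs (IsMonHom eU.hom.hom.hom)
    haveI : IsIso ψ := ⟨eU.inv.hom.hom, congr($(eU.hom_inv_id).hom.hom), congr($(eU.inv_hom_id).hom.hom)⟩
    haveI : IsDomain B := Groth.L25.Observable.isDomain ψ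
    haveI : Algebra.FiniteType k B := by
      have : IsIso ψ.left := inferInstanceAs (IsIso ((Over.forget _).map ψ))
      have h : LocallyOfFiniteType (Groth.L25.Observable.Sp k B).hom := by
        have hw : ψ.left ≫ (Groth.L25.Observable.Sp k B).hom = U.hom := Over.w ψ
        rw [(IsIso.eq_inv_comp ψ.left).2 hw]
        infer_instance
      change LocallyOfFiniteType (Spec.map (CommRingCat.ofHom (algebraMap k B))) at h
      rw [HasRingHomProperty.Spec_iff (P := @LocallyOfFiniteType), CommRingCat.hom_ofHom,
        RingHom.finiteType_algebraMap] at h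
      exact h
    have huB := Groth.L25.Observable.isUnipotent_of_solvable_noSubtorus ψ hU
    let hom₀ : Grp.mk (Groth.L25.Bridge.P k B) ⟶ Grp.mk (Groth.L25.Bridge.P k A') := eU.inv ≫ Grp.ofHom i
    obtain ⟨p, hp⟩ : ∃ p : A' →ₐc[k] B, (Spec.map (CommRingCat.ofHom (p : A' →ₐ[k] B).toRingHom)).asOver _ =
        eU.inv.hom.hom ≫ i := by
      let f := (hopfSpec.fullyFaithful (R := CommRingCat.of k)).preimage
        (X := Opposite.op (CommHopfAlgCat.of k B)) (Y := Opposite.op (CommHopfAlgCat.of k A')) hom₀
      refine ⟨f.unop.hom, ?_⟩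
      have h := (hopfSpec.fullyFaithful (R := CommRingCat.of k)).map_preimage
        (X := Opposite.op (CommHopfAlgCat.of k B)) (Y := Opposite.op (CommHopfAlgCat.of k A')) hom₀
      exact congrArg (fun m => m.hom.hom) h
    -- every point of `B` restricts to the unit of `A`
    have hpc : (p : A' →ₐ[k] B) = (Algebra.ofId k B).comp (Bialgebra.counitAlgHom k A') := by
      refine AlgHom.ext fun a' => eq_of_sub_eq_zero (Groth.L25.GeomIrred.eq_zero_of_forall_algHom (k := k) _ fun s => ?_)
      let g : A →ₐ[k] k := (s.comp (p : A' →ₐ[k] B)).comp (e.toAlgEquiv.symm : A →ₐ[k] A')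
      have hcomm : ∀ x, fAct A g.toLinearMap (e x) = e (fAct A' (s.comp (p : A' →ₐ[k] B)).toLinearMap x) := by
        intro x
        show TensorProduct.rid k A (g.toLinearMap.lTensor A (Coalgebra.comul (R := k) (e x))) =
          e (TensorProduct.rid k A' ((s.comp (p : A' →ₐ[k] B)).toLinearMap.lTensor A' (Coalgebra.comul (R := k) x)))
        rw [← CoalgHomClass.map_comp_comul_apply e x]
        generalize Coalgebra.comul (R := k) x = z
        induction z using TensorProduct.induction_on with
        | zero => simp
        | add p q hp hq => simp only [map_add, hp, hq]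
        | tmul x y =>
          have hy : (e.toAlgEquiv.symm : A →ₐ[k] A') (e y) = y := e.toAlgEquiv.symm_apply_apply y
          simp [g, hy, show e.toAlgEquiv.symm (e y) = y from e.toAlgEquiv.symm_apply_apply y]
      have hun : ∀ a, ∃ n, ((fAct A g.toLinearMap - 1 : Module.End k A) ^ n) a = 0 := by
        intro a
        obtain ⟨x, hx⟩ : ∃ x, e x = a := e.surjective a
        rw [← hx]
        obtain ⟨n, hn⟩ := exists_pow_sub_eq_zero huB p s x
        refine ⟨n, ?_⟩
        have key : ∀ (n : ℕ) x, ((fAct A g.toLinearMap - 1 : Module.End k A) ^ n) (e x) =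
            e (((fAct A' (s.comp (p : A' →ₐ[k] B)).toLinearMap - 1 : Module.End k A') ^ n) x) := by
          intro n
          induction n with
          | zero => intro x; rfl
          | succ n ih =>
            intro x
            rw [pow_succ, pow_succ, Module.End.mul_apply, Module.End.mul_apply, ← ih]
            congr 1
            show fAct A g.toLinearMap (e x) - e x = e (_ - x)
            rw [map_sub, hcomm]
        rw [key, hn, map_zero]
      have h1 := eq_counit_of_unipotent hss g hun (e a')
      have h2 : g (e a') = s (p a') := by simp [g, show e.toAlgEquiv.symm (e a') = a' from e.toAlgEquiv.symm_apply_apply a']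
      rw [h2, CoalgHomClass.counit_comp_apply] at h1
      rw [map_sub, sub_eq_zero]
      refine h1.trans ?_
      simp
    refine Groth.L14.Luna.isTrivialGrp_of_id_eq_one ((cancel_mono i).1 ?_)
    rw [Category.id_comp, MonObj.one_comp]
    have hi : i = ψ ≫ (eU.inv.hom.hom ≫ i) := by
      rw [← Category.assoc, show ψ ≫ eU.inv.hom.hom = 𝟙 U from congr($(eU.hom_inv_id).hom.hom), Category.id_comp]
    rw [hi, ← hp, hpc]
    show ψ ≫ Spec.mapMulEquiv (1 : WithConv (A' →ₐ[k] B)) = 1
    rw [map_one, MonObj.comp_one]
  obtain ⟨n, ⟨d⟩⟩ := Groth.L08.Borel.exists_laurent_of_torus hT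
  obtain ⟨d'⟩ := Groth.L25.Bridge.exists_bialgEquiv d
  refine eq_top_iff.2 fun x _ => ?_
  obtain ⟨z, hz⟩ : ∃ z, (d'.trans e) z = x := (d'.trans e).surjective x
  rw [← hz]
  clear hz
  induction z using MonoidAlgebra.induction_linear with
  | zero => rw [map_zero]; exact zero_mem _
  | add p q hp hq => rw [map_add]; exact add_mem hp hq
  | single m c =>
    rw [show MonoidAlgebra.single m c = c • MonoidAlgebra.of k _ m by simp [MonoidAlgebra.smul_single'], map_smul]
    refine Submodule.smul_mem _ _ (Submodule.subset_span (IsGroupLikeElem.map (d'.trans e) ?_))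
    exact MonoidAlgebra.isGroupLikeElem_of m


end Groth.Agent.S15597
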