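import Groth.Statements.S15598
import Groth.Agent.L19.AlgGrpBasic.Transitive
import Groth.Agent.L19.AlgGrpBasic.ActKernel
import Groth.Agent.L20.GenericFlatScheme
import Groth.Agent.L26.AV.SmoothField

set_option autoImplicit false
set_option backward.isDefEq.respectTransparency.types false
set_option backward.isDefEq.respectTransparency false
set_option linter.style.haveILetI false
universe u
open CategoryTheory MonoidalCategory CartesianMonoidalCategory MonObj GrpObj AlgebraicGeometry
open AlgGrp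

namespace Groth.Agent.S15598
open Groth.L19.AlgGrpBasic

/-- Let k be an algebraically closed field, G a k-group scheme of finite type, and X a smooth connected
k-scheme with an action of G. Suppose that for some k-point x₀ of X the orbit map g ↦ g · x₀ from G
to X is surjective, and that the stabilizer of x₀, a subgroup scheme H ⟶ G whose points are exactly
the points g of G with g · x₀ = x₀, is connected. Then G is connected. (Stated over an algebraically
closed field, to which the general case reduces since a k-group scheme of finite type is connected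
exactly when it is geometrically connected.) -/
theorem result (k : Type u) [Field k] [IsAlgClosed k]
    (G X : Over (Spec (CommRingCat.of k))) [GrpObj G] [LocallyOfFiniteType G.hom] [QuasiCompact G.hom]
    [Smooth X.hom] [ConnectedSpace ↥X.left] (a : AlgGrp.Action G X) (x₀ : 𝟙_ (Over (Spec (CommRingCat.of k))) ⟶ X)
    (hsurj : Surjective (a.orbitMap x₀).left)
    (H : Over (Spec (CommRingCat.of k))) [GrpObj H] (i : H ⟶ G) [IsMonHom i] [Mono i]
    (hH : ∀ (T : Over (Spec (CommRingCat.of k))) (g : T ⟶ G), (∃ h : T ⟶ H, h ≫ i = g) ↔ g ≫ a.orbitMap x₀ = toUnit T ≫ x₀)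
    [ConnectedSpace ↥H.left] : ConnectedSpace ↥G.left := by
  haveI : IsReduced X.left := Groth.Agent.AV.isReduced_of_smooth_field X.hom
  haveI : LocallyOfFiniteType X.hom := inferInstance
  haveI := LocallyOfFiniteType.jacobsonSpace X.hom
  haveI := LocallyOfFiniteType.jacobsonSpace G.hom
  haveI : IsLocallyNoetherian X.left := LocallyOfFiniteType.isLocallyNoetherian X.hom
  haveI : CompactSpace G.left := QuasiCompact.compactSpace_of_compactSpace G.hom
  haveI : CompactSpace X.left := (Function.Surjective.compactSpace (a.orbitMap x₀).left.continuous hsurj.surj)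
  haveI : QuasiCompact X.hom := HasAffineProperty.iff_of_isAffine.mpr ‹CompactSpace X.left›
  set o := a.orbitMap x₀ with ho
  haveI : QuasiCompact (o.left ≫ X.hom) := by rw [Over.w]; infer_instance
  haveI : LocallyOfFiniteType (o.left ≫ X.hom) := by rw [Over.w]; infer_instance
  haveI : QuasiSeparated X.hom := inferInstance
  haveI : QuasiCompact o.left := QuasiCompact.of_comp o.left X.hom
  haveI : LocallyOfFiniteType o.left := locallyOfFiniteType_of_comp o.left X.hom
  -- points of the fibres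
  have hpts : ∀ p : X.left, IsClosed ({p} : Set X.left) → ∀ γ : G.left, IsClosed ({γ} : Set G.left) → o.left γ = p →
      ∃ s : 𝟙_ (Over (Spec (CommRingCat.of k))) ⟶ G, Groth.L08.ProfiniteImage.pt s = γ ∧
        ∀ y : 𝟙_ (Over (Spec (CommRingCat.of k))) ⟶ X, Groth.L08.ProfiniteImage.pt y = p → s ≫ o = y := by
    intro p hp γ hγ hγp
    obtain ⟨s, rfl⟩ := exists_point_of_closed hγ
    refine ⟨s, rfl, fun y hy => Over.OverMorphism.ext ?_⟩
    have h1 := (pointEquivClosedPoint X.hom).injective
      (a₁ := ⟨(s ≫ o).left, Over.w (s ≫ o)⟩) (a₂ := ⟨y.left, Over.w y⟩) (Subtype.ext (hγp.trans hy.symm))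
    exact congrArg Subtype.val h1
  have hlift : ∀ y : 𝟙_ (Over (Spec (CommRingCat.of k))) ⟶ X, ∃ s, s ≫ o = y := fun y => by
    have hy : IsClosed ({Groth.L08.ProfiniteImage.pt y} : Set X.left) :=
      ((pointEquivClosedPoint X.hom) ⟨y.left, Over.w y⟩).2
    obtain ⟨γ, hγ⟩ := hsurj.surj (Groth.L08.ProfiniteImage.pt y)
    obtain ⟨c, hc, hcc⟩ := nonempty_inter_closedPoints (Z := o.left ⁻¹' {Groth.L08.ProfiniteImage.pt y}) ⟨γ, hγ⟩
      (hy.preimage o.left.continuous).isLocallyClosed
    obtain ⟨s, -, hs⟩ := hpts _ hy c hcc hc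
    exact ⟨s, hs y rfl⟩
  let L : AlgGrp.Action G G := { act := μ[G], one_act := MonObj.one_mul G, mul_act := MonObj.mul_assoc G }
  have heqv : (G ◁ o) ≫ a.act = L.act ≫ o := by
    show (G ◁ o) ≫ a.act = μ[G] ≫ o
    rw [ho, orbitMap_apply, MonObj.mul_eq_mul, Groth.L25.Actions.mul_act]
    congr 1
    apply CartesianMonoidalCategory.hom_ext
    · simp
    · simp [AlgGrp.Action.orbitMap, comp_lift_assoc]
  have htr : ∀ y y' : 𝟙_ (Over (Spec (CommRingCat.of k))) ⟶ X, ∃ g, lift g y ≫ a.act = y' := by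
    intro y y'
    obtain ⟨c, rfl⟩ := hlift y
    obtain ⟨d, rfl⟩ := hlift y'
    refine ⟨d * c⁻¹, ?_⟩
    rw [ho, orbitMap_apply, orbitMap_apply, ← Groth.L25.Actions.mul_act, inv_mul_cancel_right]
  obtain ⟨U₀, hU₀d, hU₀f, -⟩ := Groth.L20.GFR.exists_dense_flat_lfp o.left
  haveI : Flat o.left := of_transitive @Flat L a o heqv htr U₀ hU₀d.nonempty hU₀f
  haveI : LocallyOfFinitePresentation o.left := inferInstance
  haveI : UniversallyOpen o.left := inferInstance
  rw [connectedSpace_iff_univ]
  refine ⟨⟨(1 : 𝟙_ (Over (Spec (CommRingCat.of k))) ⟶ G).left (IsLocalRing.closedPoint k), trivial⟩, ?_⟩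
  intro U V hU hV hUV hUne hVne
  by_contra hdis
  rw [Set.not_nonempty_iff_eq_empty, Set.univ_inter] at hdis
  have hUc : U = Vᶜ := Set.ext fun z => ⟨fun hz hzV => (hdis.subset ⟨hz, hzV⟩ : z ∈ (∅ : Set G.left)),
    fun hz => (hUV trivial).resolve_right hz⟩
  have hUclosed : IsClosed U := hUc ▸ hV.isClosed_compl
  have hoU := o.left.isOpenMap U hU
  have hoV := o.left.isOpenMap V hV
  have hne : (o.left '' U ∩ o.left '' V).Nonempty := by
    obtain ⟨p, hp⟩ := (connectedSpace_iff_univ.1 ‹ConnectedSpace X.left›).2 _ _ hoU hoV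
      (fun p _ => by
        obtain ⟨γ, rfl⟩ := hsurj.surj p
        exact (hUV (Set.mem_univ γ)).imp (fun h => ⟨γ, h, rfl⟩) (fun h => ⟨γ, h, rfl⟩))
      (by obtain ⟨u, -, hu⟩ := hUne; exact ⟨_, trivial, u, hu, rfl⟩)
      (by obtain ⟨u, -, hu⟩ := hVne; exact ⟨_, trivial, u, hu, rfl⟩)
    exact ⟨p, hp.2⟩
  obtain ⟨p, hp, hpc⟩ := nonempty_inter_closedPoints hne (hoU.inter hoV).isLocallyClosed
  obtain ⟨y, rfl⟩ := exists_point_of_closed hpc
  obtain ⟨s, hs⟩ := hlift y
  let F : Set G.left := (Groth.L08.ProfiniteImage.lt s).left '' Set.range i.left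
  have hF : _root_.IsPreconnected F :=
    ((isPreconnected_range i.left.continuous).image _ (Groth.L08.ProfiniteImage.lt s).left.continuous.continuousOn)
  have hFc : _root_.IsPreconnected (closure F) := hF.closure
  have hcont : ∀ γ : G.left, IsClosed ({γ} : Set G.left) → o.left γ = Groth.L08.ProfiniteImage.pt y → γ ∈ F := by
    intro γ hγ hγy
    obtain ⟨t, rfl, ht⟩ := hpts _ hpc γ hγ hγy
    have ht' := ht y rfl
    obtain ⟨h, hh⟩ := (hH _ (s⁻¹ * t)).2 (by
      rw [ho, orbitMap_apply, Groth.L25.Actions.mul_act, ← orbitMap_apply, ← ho, ht', ← hs, ho, orbitMap_apply,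
        Groth.L25.Actions.inv_act])
    refine ⟨Groth.L08.ProfiniteImage.pt (h ≫ i), ⟨h.left (IsLocalRing.closedPoint k), rfl⟩, ?_⟩
    rw [Groth.L08.ProfiniteImage.pt_lt, hh, mul_inv_cancel_left]
  have hmeet : ∀ W : Set G.left, IsOpen W → IsClosed W → Groth.L08.ProfiniteImage.pt y ∈ o.left '' W →
      (closure F ∩ W).Nonempty := by
    rintro W hW hWc ⟨γ, hγW, hγy⟩
    obtain ⟨c, hc, hcc⟩ := nonempty_inter_closedPoints (Z := o.left ⁻¹' {Groth.L08.ProfiniteImage.pt y} ∩ W) ⟨γ, hγy, hγW⟩
      ((hpc.preimage o.left.continuous).inter hWc).isLocallyClosed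
    exact ⟨c, subset_closure (hcont c hcc hc.1), hc.2⟩
  have hVc : IsClosed V := by
    have : V = Uᶜ := by rw [hUc, compl_compl]
    exact this ▸ hU.isClosed_compl
  obtain ⟨z, -, hzU, hzV⟩ := hFc U V hU hV (fun z _ => hUV trivial) (hmeet U hU hUclosed hp.1) (hmeet V hV hVc hp.2)
  exact (hdis.subset ⟨hzU, hzV⟩ : z ∈ (∅ : Set G.left))

end Groth.Agent.S15598
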