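import Groth.Statements.S15599
import Groth.Agent.L25.RedField.NormalSub
import Groth.Agent.L08.IdentityComponent

set_option autoImplicit false
universe u
open CategoryTheory MonoidalCategory CartesianMonoidalCategory MonObj GrpObj AlgebraicGeometry
open AGF

set_option backward.isDefEq.respectTransparency.types false
set_option linter.style.haveILetI false

namespace Groth.Agent.S15599

/-- Let k be an algebraically closed field and G a smooth affine k-group scheme, not necessarily
connected, whose unipotent radical is trivial: every smooth connected normal closed subgroup scheme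
of G containing no non-trivial subtorus is trivial. Let N ⟶ G be a smooth closed normal subgroup
scheme, not necessarily connected. Then N has the same property: every smooth connected closed
subgroup scheme of N which is normal in N and contains no non-trivial subtorus is trivial.
Reductivity, in this sense allowing disconnected groups, passes to smooth normal subgroups. (The
published statement is over an arbitrary field, with reductivity defined after extension to an
algebraic closure; this row is the algebraically closed case.) -/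
theorem result (k : Type u) [Field k] [IsAlgClosed k]
    (G N : Over (Spec (CommRingCat.of k))) [GrpObj G] [GrpObj N] [IsAffine G.left] [Smooth G.hom]
    (j : N ⟶ G) [IsMonHom j] (hj : IsClosedImmersion j.left) [Smooth N.hom] (hN : AlgGrp.IsNormalHom j)
    (hG : ∀ (U : Over (Spec (CommRingCat.of k))) [GrpObj U] (i : U ⟶ G) [IsMonHom i], IsClosedImmersion i.left → Smooth U.hom →
        ConnectedSpace ↥U.left → AlgGrp.IsNormalHom i → Red.HasNoSubtorus k U → Red.IsTrivialGrp U) :
    ∀ (U : Over (Spec (CommRingCat.of k))) [GrpObj U] (i : U ⟶ N) [IsMonHom i], IsClosedImmersion i.left → Smooth U.hom →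
        ConnectedSpace ↥U.left → AlgGrp.IsNormalHom i → Red.HasNoSubtorus k U → Red.IsTrivialGrp U := by
  haveI := hj
  haveI : Mono j := Over.mono_of_mono_left j
  haveI : IsAffine N.left := isAffine_of_isAffineHom j.left
  haveI : LocallyOfFiniteType N.hom := inferInstance
  obtain ⟨N₀, gN₀, j₀, hj₀, hj₀c, hj₀o, hrange⟩ := Groth.L08.IdComp.exists_identityComponent N
  haveI := hj₀; haveI := hj₀c; haveI := hj₀o
  haveI : Mono j₀ := Over.mono_of_mono_left j₀
  haveI : IsAffine N₀.left := isAffine_of_isAffineHom j₀.left
  haveI : Smooth N₀.hom := by rw [← Over.w j₀]; infer_instance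
  haveI : ConnectedSpace N₀.left := by
    rw [connectedSpace_iff_univ]
    have h : _root_.IsConnected (Set.range j₀.left) := hrange ▸ isConnected_connectedComponent
    rw [← Set.image_univ] at h
    exact ⟨Set.image_nonempty.1 h.nonempty, j₀.left.isOpenEmbedding.isInducing.isPreconnected_image.1 h.isPreconnected⟩
  -- maps from connected schemes through the unit factor through the component
  have lift₀ : ∀ {T : Over (Spec (CommRingCat.of k))} [ConnectedSpace T.left] (f : T ⟶ N) (x : T.left),
      f.left x = Groth.L25.Component.one N → ∃ z : T ⟶ N₀, z ≫ j₀ = f := by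
    intro T _ f x hx
    have hsub : Set.range f.left ⊆ Set.range j₀.left := by
      rw [hrange]
      rintro _ ⟨y, rfl⟩
      exact Groth.L08.IdComp.mem_component_of_preconnected f.left hx y
    refine ⟨Over.homMk (IsOpenImmersion.lift j₀.left f.left hsub) ?_, Over.OverMorphism.ext (IsOpenImmersion.lift_fac _ _ _)⟩
    rw [← Over.w j₀, IsOpenImmersion.lift_fac_assoc, Over.w f]
  have one_mem : ∀ {T : Over (Spec (CommRingCat.of k))} [GrpObj T] (f : T ⟶ N) [IsMonHom f],
      f.left ((η[T] : 𝟙_ (Over (Spec (CommRingCat.of k))) ⟶ T).left (IsLocalRing.closedPoint k)) =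
        Groth.L25.Component.one N := by
    intro T _ f _
    rw [← Scheme.Hom.comp_apply, ← Over.comp_left, IsMonHom.one_hom]
    rfl
  haveI : IsMonHom (j₀ ≫ j) := inferInstance
  haveI : IsClosedImmersion (j₀ ≫ j).left := inferInstanceAs (IsClosedImmersion (j₀.left ≫ j.left))
  have hn₀ : AlgGrp.IsNormalHom (j₀ ≫ j) := Groth.L25.RedField.isNormalHom_of_points (j₀ ≫ j) fun g => by
    obtain ⟨c, hcm, -, hc⟩ := Groth.L25.RedField.exists_conjAut j hN g
    haveI := hcm
    obtain ⟨a, ha⟩ := lift₀ (j₀ ≫ c) _ (one_mem (j₀ ≫ c))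
    exact ⟨a, by rw [← Category.assoc, ha, Category.assoc, hc, Groth.L08.Borel.comp_conjBy]⟩
  obtain ⟨V, gV, v, hV⟩ := Groth.L25.RedField.exists_unipotentRadical N₀
  obtain ⟨hvm, hvc, hvn, hvs, hvcon, hvns⟩ := Groth.L14.Luna.unipotentRadical_data hV
  haveI := hvm; haveI := hvc; haveI := hvs; haveI := hvcon
  haveI : IsClosedImmersion (v ≫ j₀ ≫ j).left := inferInstanceAs (IsClosedImmersion (v.left ≫ j₀.left ≫ j.left))
  haveI : IsMonHom (v ≫ j₀ ≫ j) := inferInstance
  haveI : IsAffine V.left := isAffine_of_isAffineHom v.left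
  haveI : QuasiCompact V.hom := quasiCompact_of_compactSpace _
  have hnV : AlgGrp.IsNormalHom (v ≫ j₀ ≫ j) := Groth.L25.RedField.isNormalHom_of_points (v ≫ j₀ ≫ j) fun g => by
    obtain ⟨a, ham, hai, ha⟩ := Groth.L25.RedField.exists_conjAut (j₀ ≫ j) hn₀ g
    haveI := ham; haveI := hai
    haveI : IsIso a.left := inferInstanceAs (IsIso ((Over.forget _).map a))
    haveI : IsMonHom (v ≫ a) := inferInstance
    haveI : IsClosedImmersion (v ≫ a).left := inferInstanceAs (IsClosedImmersion (v.left ≫ a.left))
    obtain ⟨b, hb⟩ := Groth.L14.Luna.exists_factor_unipotentRadical hV (v ≫ a) (fun X x y => by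
      obtain ⟨y', hy'⟩ := hvn X (x ≫ inv a) y
      refine ⟨y', ?_⟩
      have h := congrArg (· ≫ a) hy'
      simpa only [MonObj.mul_comp, GrpObj.inv_comp, Category.assoc, IsIso.inv_hom_id, Category.comp_id] using h)
      hvcon hvns
    exact ⟨b, by rw [← Category.assoc, hb, Category.assoc, ha, Groth.L08.Borel.comp_conjBy]⟩
  have hid : 𝟙 V = 1 := Groth.L14.Luna.id_eq_one_of_isTrivialGrp
    (hG V (v ≫ j₀ ≫ j) inferInstance hvs hvcon hnV hvns)
  intro U _ i _ hic hUs hUc hUn hUns
  haveI := hic; haveI := hUs; haveI := hUc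
  haveI : IsAffine U.left := isAffine_of_isAffineHom i.left
  haveI : QuasiCompact U.hom := quasiCompact_of_compactSpace _
  obtain ⟨u, hu⟩ := lift₀ i _ (one_mem i)
  haveI : IsMonHom u := Groth.L08.Borel.isMonHom_of_comp_mono u j₀ i hu
  haveI : IsClosedImmersion (u.left ≫ j₀.left) := by rw [← Over.comp_left, hu]; exact hic
  haveI : IsClosedImmersion u.left := IsClosedImmersion.of_comp u.left j₀.left
  obtain ⟨f, hf⟩ := Groth.L14.Luna.exists_factor_unipotentRadical hV u (fun X x y => by
    obtain ⟨y', hy'⟩ := hUn X (x ≫ j₀) y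
    refine ⟨y', (cancel_mono j₀).1 ?_⟩
    simpa only [MonObj.mul_comp, GrpObj.inv_comp, Category.assoc, hu] using hy') hUc hUns
  refine Groth.L14.Luna.isTrivialGrp_of_id_eq_one ?_
  haveI : Mono i := Over.mono_of_mono_left i
  rw [← cancel_mono i, Category.id_comp, MonObj.one_comp, ← hu, ← hf, ← Category.comp_id f, hid, MonObj.comp_one,
    MonObj.one_comp, MonObj.one_comp]

end Groth.Agent.S15599
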