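import Groth.Statements.S15600
import Groth.Agent.L19.SpecSub.PseudoRedSubscheme
import Groth.Agent.L19.SpecSub.FieldExt
import Groth.Agent.L19.SpecSub.NormalGen
import Groth.Agent.L25.RedField.Unipotent
import Groth.Agent.L14.Luna.Cor

set_option autoImplicit false
set_option backward.isDefEq.respectTransparency.types false
universe u
open CategoryTheory MonoidalCategory CartesianMonoidalCategory MonObj GrpObj AlgebraicGeometry
open AGF

namespace Groth.Agent.S15600

set_option backward.isDefEq.respectTransparency false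
set_option backward.isDefEq.respectTransparency.types false
set_option linter.style.haveILetI false
set_option maxHeartbeats 2000000
open CategoryTheory.Limits

/-- Factor through a closed subscheme containing the range, out of a reduced scheme. -/
theorem exists_lift_closed {k : Type u} [Field k] {X Y T : Over (Spec (CommRingCat.of k))} [IsReduced T.left]
    (i : X ⟶ Y) [IsClosedImmersion i.left] (f : T ⟶ Y) (h : Set.range f.left ⊆ Set.range i.left) :
    ∃ g : T ⟶ X, g ≫ i = f := by
  obtain ⟨l, hl⟩ := Groth.L15.GenSub.exists_lift_of_range i.left f.left h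
  exact ⟨Over.homMk l (by rw [← Over.w i, reassoc_of% hl, Over.w f]), Over.OverMorphism.ext hl⟩

/-- Connectedness descends from a geometric fibre. -/
theorem connectedSpace_of_geomFibre {k : Type u} [Field k] (U : Over (Spec (CommRingCat.of k)))
    (s : ↥(Spec (CommRingCat.of k))) (h : ConnectedSpace (Red.geomFibre s U).left) : ConnectedSpace U.left := by
  haveI : Surjective (Red.geomPt s) :=
    ⟨fun x => ⟨IsLocalRing.closedPoint _, Subsingleton.elim (α := PrimeSpectrum k) _ _⟩⟩
  haveI : Surjective (pullback.fst U.hom (Red.geomPt s)) := MorphismProperty.pullback_fst _ _ ‹Surjective (Red.geomPt s)›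
  haveI : ConnectedSpace ↥(pullback U.hom (Red.geomPt s)) := h
  exact (pullback.fst U.hom (Red.geomPt s)).surjective.connectedSpace (pullback.fst U.hom (Red.geomPt s)).continuous

/-- Let k be a field, G a smooth affine k-group scheme and G⁰ ⟶ G its identity component, that is, an
open subgroup scheme whose underlying space is connected. If U ⟶ G⁰ is the k-unipotent radical of G⁰
(the largest normal closed subgroup scheme of G⁰, smooth and quasi-compact over k, with connected
geometric fibre containing no non-trivial subtorus), then the composite U ⟶ G⁰ ⟶ G is the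
k-unipotent radical of G. -/
theorem result (k : Type u) [Field k]
    (G G₀ U : Over (Spec (CommRingCat.of k))) [GrpObj G] [GrpObj G₀] [GrpObj U] [IsAffine G.left] [Smooth G.hom]
    (j : G₀ ⟶ G) [IsMonHom j] [IsOpenImmersion j.left] [ConnectedSpace ↥G₀.left]
    (u : U ⟶ G₀) (hu : Par.IsUnipotentRadical u) : Par.IsUnipotentRadical (u ≫ j) := by
  obtain ⟨hum, huc, hun, hus, huq, hfib, hmax⟩ := hu
  haveI := hum; haveI := huc; haveI := hus; haveI := huq
  haveI : Mono u := Over.mono_of_mono_left u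
  haveI : Mono j := Over.mono_of_mono_left j
  haveI : QuasiCompact G.hom := quasiCompact_of_compactSpace _
  haveI : LocallyOfFiniteType G.hom := inferInstance
  have hjcl : IsClosed (Set.range j.left) := Groth.L15.GenSub.isClosed_range_immersion j
  haveI : IsClosedImmersion j.left := IsClosedImmersion.of_isPreimmersion j.left hjcl
  haveI : IsAffine G₀.left := isAffine_of_isAffineHom j.left
  haveI : Smooth G₀.hom := by rw [← Over.w j]; infer_instance
  haveI : IsAffine U.left := isAffine_of_isAffineHom u.left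
  haveI : IsClosedImmersion (u ≫ j).left := inferInstanceAs (IsClosedImmersion (u.left ≫ j.left))
  haveI : IsMonHom (u ≫ j) := inferInstance
  have hclopen : IsClopen (Set.range j.left) := ⟨hjcl, j.left.isOpenEmbedding.isOpen_range⟩
  have hone : Groth.L25.Component.one G ∈ Set.range j.left :=
    ⟨Groth.L25.Component.one G₀, congr(($(IsMonHom.one_hom (f := j))).left (IsLocalRing.closedPoint k))⟩
  let K := AlgebraicClosure k
  let θ : Spec (CommRingCat.of K) ⟶ Spec (CommRingCat.of k) := Spec.map (CommRingCat.ofHom (algebraMap k K))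
  let F := Over.pullback θ
  obtain ⟨s₀⟩ : Nonempty ↥(Spec (CommRingCat.of k)) := inferInstance
  haveI : ConnectedSpace U.left := connectedSpace_of_geomFibre U s₀ (hfib s₀).1
  haveI : GeometricallyConnected U.hom :=
    Groth.L25.RatConn.geometricallyConnected_of_section _ η[U].left (Groth.L25.GrpBasics.unit_comp_hom U)
  haveI : UniversallyOpen U.hom := inferInstance
  -- the conjugation map into the identity component
  let Z := G ⊗ U
  haveI : Smooth Z.hom := inferInstanceAs (Smooth (pullback.fst G.hom U.hom ≫ G.hom))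
  haveI : IsReduced Z.left := Groth.Agent.AV.isReduced_of_smooth_field Z.hom
  let c : Z ⟶ G := fst G U * (snd G U ≫ u ≫ j) * (fst G U)⁻¹
  have h1 : lift (𝟙 G) (1 : G ⟶ U) ≫ c = 1 := by
    simp only [c, MonObj.comp_mul, GrpObj.comp_inv, lift_fst, lift_snd_assoc, MonObj.one_comp]
    simp
  have hfibre : ∀ z : Z.left, ∃ A : Set Z.left, _root_.IsPreconnected A ∧ z ∈ A ∧
      ∃ z' ∈ A, c.left z' = Groth.L25.Component.one G := by
    intro z
    let x := (fst G U).left z
    refine ⟨(fst G U).left ⁻¹' {x}, ((pullback.fst G.hom U.hom).isConnected_preimage_singleton x).isPreconnected, rfl,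
      (lift (𝟙 G) (1 : G ⟶ U)).left x, ?_, ?_⟩
    · show (fst G U).left ((lift (𝟙 G) (1 : G ⟶ U)).left x) = x
      rw [← Scheme.Hom.comp_apply, ← Over.comp_left, lift_fst]
      rfl
    · rw [← Scheme.Hom.comp_apply, ← Over.comp_left, h1, Hom.one_def, Over.comp_left, Scheme.Hom.comp_apply]
      exact congrArg η[G].left (Subsingleton.elim (α := PrimeSpectrum k) _ _)
  obtain ⟨c₀, hc₀⟩ := exists_lift_closed j c (fun y ⟨z, hz⟩ => by
    obtain ⟨A, hA, hzA, z', hz'A, hz'⟩ := hfibre z
    have := (hA.image _ c.left.continuous.continuousOn).subset_isClopen hclopen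
      ⟨_, ⟨z', hz'A, hz'⟩, hone⟩
    exact hz ▸ this ⟨z, hzA, rfl⟩)
  -- the subgroup generated by the conjugates
  haveI := Groth.L16.SecComp.geometricallyReduced_of_smooth Z.hom
  obtain ⟨Γ, _, γ, hγ, hγc, ⟨cΓ, hcΓ⟩, hγred, hmin, -⟩ := Groth.L15.GenSub.exists_generated c₀
  haveI := hγ; haveI := hγc; haveI := hγred
  haveI : LocallyOfFiniteType Γ.hom := by rw [← Over.w γ]; infer_instance
  haveI : GrpObj (Over.mk Γ.hom) := inferInstanceAs (GrpObj Γ)
  haveI : Smooth Γ.hom := smooth_of_grpObj Γ.hom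
  haveI : Mono γ := Over.mono_of_mono_left γ
  -- over the algebraic closure it lies in the unipotent radical
  haveI := Groth.L08.Borel.smooth_bc θ G₀
  haveI := Groth.L08.Borel.isAffine_bc θ G₀
  haveI := Groth.L08.Borel.connectedSpace_bc' θ G₀
  haveI := Groth.L08.Borel.smooth_bc θ G
  haveI := Groth.L08.Borel.isAffine_bc θ G
  haveI := Groth.L08.Borel.connectedSpace_bc' θ U
  haveI := Groth.L08.Borel.smooth_bc θ U
  haveI := Groth.L08.Borel.isAffine_bc θ U
  obtain ⟨R, _, r, hR⟩ := Groth.L25.RedField.exists_unipotentRadical (k := K) (Red.bc θ G₀)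
  obtain ⟨hrm, hrc, hrn, hrs, hrcon, hrns⟩ := Groth.L14.Luna.unipotentRadical_data hR
  haveI := hrm; haveI := hrc; haveI := hrs; haveI := hrcon
  haveI : IsAffine R.left := isAffine_of_isAffineHom r.left
  haveI : QuasiCompact R.hom := quasiCompact_of_compactSpace _
  haveI : IsMonHom (F.map u) := Groth.L25.MonoClosed.isMonHom_pullbackMap _ _
  haveI : IsMonHom (F.map j) := Groth.L25.MonoClosed.isMonHom_pullbackMap _ _
  haveI : IsClosedImmersion (F.map u).left := Groth.L08.Borel.isClosedImmersion_map θ u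
  haveI : IsClosedImmersion (F.map j).left := Groth.L08.Borel.isClosedImmersion_map θ j
  haveI : Mono (F.map j) := Over.mono_of_mono_left _
  haveI : QuasiCompact (Red.bc θ U).hom := quasiCompact_of_compactSpace _
  obtain ⟨t₀⟩ : Nonempty ↥(Spec (CommRingCat.of K)) := inferInstance
  have hUns : Red.HasNoSubtorus K (Red.bc θ U) :=
    (Groth.L14.Luna.hasNoSubtorus_geomFibre_iff (Red.bc θ U) t₀).1
      (Groth.L19.SpecSub.geomNoSubtorus_bc θ U (fun s => (hfib s).2) t₀)
  obtain ⟨uR, huR⟩ := Groth.L14.Luna.exists_factor_unipotentRadical hR (F.map u)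
    (Groth.L19.SpecSub.isNormalHom_bc θ u hun) inferInstance hUns
  -- conjugation by a point preserves it
  have hcomp : IsClopen (Set.range (F.map j).left) := by
    refine ⟨(F.map j).left.isClosedEmbedding.isClosed_range, ?_⟩
    haveI : IsOpenImmersion (F.map j).left :=
      MorphismProperty.of_isPullback (P := @IsOpenImmersion) (Groth.L08.Borel.isPullback_bc_map' θ j).flip ‹_›
    exact (F.map j).left.isOpenEmbedding.isOpen_range
  have honeK : Groth.L25.Component.one (Red.bc θ G) ∈ Set.range (F.map j).left :=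
    ⟨Groth.L25.Component.one (Red.bc θ G₀), congr(($(IsMonHom.one_hom (f := F.map j))).left (IsLocalRing.closedPoint K))⟩
  haveI : IsReduced (Red.bc θ G₀).left := Groth.Agent.AV.isReduced_of_smooth_field (Red.bc θ G₀).hom
  have hγex : ∀ g : 𝟙_ (Over (Spec (CommRingCat.of K))) ⟶ Red.bc θ G,
      ∃ φ : Red.bc θ G₀ ⟶ Red.bc θ G₀, φ ≫ F.map j = AGF.conjBy g (F.map j) := by
    intro g
    haveI := Groth.L08.Borel.isMonHom_conjBy g (F.map j)
    refine exists_lift_closed (F.map j) _ ?_
    exact (isPreconnected_range (AGF.conjBy g (F.map j)).left.continuous).subset_isClopen hcomp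
      ⟨_, ⟨Groth.L25.Component.one (Red.bc θ G₀),
        congr(($(IsMonHom.one_hom (f := AGF.conjBy g (F.map j)))).left (IsLocalRing.closedPoint K))⟩, honeK⟩
  have hstable : ∀ g : 𝟙_ (Over (Spec (CommRingCat.of K))) ⟶ Red.bc θ G,
      ∃ ρ : R ⟶ R, ρ ≫ r ≫ F.map j = AGF.conjBy g (r ≫ F.map j) := by
    intro g
    obtain ⟨φ, hφ⟩ := hγex g
    obtain ⟨ψ, hψ⟩ := hγex g⁻¹
    haveI := Groth.L08.Borel.isMonHom_conjBy g (F.map j)
    haveI := Groth.L08.Borel.isMonHom_conjBy g⁻¹ (F.map j)
    haveI : IsMonHom φ := Groth.L08.Borel.isMonHom_lift_mono (F.map j) _ φ hφ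
    haveI : IsMonHom ψ := Groth.L08.Borel.isMonHom_lift_mono (F.map j) _ ψ hψ
    have e1 : φ ≫ ψ = 𝟙 _ := by
      rw [← cancel_mono (F.map j), Category.assoc, hψ, Groth.L08.Borel.comp_conjBy, hφ,
        Groth.L08.Borel.conjBy_conjBy, inv_mul_cancel, Groth.L08.Borel.conjBy_one, Category.id_comp]
    have e2 : ψ ≫ φ = 𝟙 _ := by
      rw [← cancel_mono (F.map j), Category.assoc, hφ, Groth.L08.Borel.comp_conjBy, hψ,
        Groth.L08.Borel.conjBy_conjBy, mul_inv_cancel, Groth.L08.Borel.conjBy_one, Category.id_comp]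
    haveI : IsIso φ := ⟨ψ, e1, e2⟩
    haveI : IsIso φ.left := inferInstanceAs (IsIso ((Over.forget _).map φ))
    haveI : IsClosedImmersion (r ≫ φ).left := inferInstanceAs (IsClosedImmersion (r.left ≫ φ.left))
    haveI : IsMonHom (r ≫ φ) := inferInstance
    have hn' : AlgGrp.IsNormalHom (r ≫ φ) := fun T h y => by
      obtain ⟨y', hy'⟩ := hrn T (h ≫ ψ) y
      refine ⟨y', ?_⟩
      have := congrArg (· ≫ φ) hy'
      simpa only [MonObj.mul_comp, GrpObj.inv_comp, Category.assoc, e2, Category.comp_id] using this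
    obtain ⟨ρ, hρ⟩ := Groth.L14.Luna.exists_factor_unipotentRadical hR (r ≫ φ) hn' inferInstance hrns
    refine ⟨ρ, ?_⟩
    rw [reassoc_of% hρ, hφ, Groth.L08.Borel.comp_conjBy]
  haveI := Groth.L08.Borel.smooth_bc θ Z
  haveI : IsReduced (Red.bc θ Z).left := Groth.Agent.AV.isReduced_of_smooth_field (Red.bc θ Z).hom
  haveI : LocallyOfFiniteType (Red.bc θ Z).hom := inferInstance
  obtain ⟨q, hq⟩ := Groth.L14.Luna.exists_lift_of_points r (F.map c₀) fun x => by
    obtain ⟨ρ, hρ⟩ := hstable (x ≫ F.map (fst G U))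
    refine ⟨((x ≫ F.map (snd G U)) ≫ uR) ≫ ρ, ?_⟩
    rw [← cancel_mono (F.map j)]
    simp only [Category.assoc, hρ]
    rw [← F.map_comp, hc₀]
    simp only [c, AGF.conjBy, MonObj.comp_mul, GrpObj.comp_inv, Functor.map_mul, Functor.map_inv',
      Functor.map_comp, reassoc_of% huR]
    congr 2 <;> rw [toUnit_unique (toUnit R) (toUnit R)]
    all_goals
      simp only [← Category.assoc]
      rw [toUnit_unique (_ ≫ toUnit R) (𝟙 _), Category.id_comp]
  haveI : IsMonHom (F.map γ) := Groth.L25.MonoClosed.isMonHom_pullbackMap _ _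
  haveI : IsImmersion r.left := inferInstance
  obtain ⟨w, hw⟩ := Groth.L15.GenSub.baseChange_minimal c₀ Γ γ ⟨cΓ, hcΓ⟩ hmin _ θ R r q hq
  -- its identity component generates a normal unipotent subgroup of the component
  obtain ⟨Γ₀, _, e₀, he₀⟩ := Groth.L08.Chev.exists_idComp Γ
  haveI := he₀.hom; haveI := he₀.closedImm; haveI := he₀.openImm
  haveI : ConnectedSpace Γ₀.left := he₀.connectedSpace
  haveI : Smooth Γ₀.hom := he₀.smooth
  haveI : IsMonHom (e₀ ≫ γ) := inferInstance
  obtain ⟨N, _, n, hnm, hnc, hNs, hNc, hNn, ⟨fN, hfN⟩, hNmin⟩ :=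
    Groth.L19.SpecSub.exists_normalGen G₀ Γ₀ (e₀ ≫ γ) θ
  haveI := hnm; haveI := hnc; haveI := hNs; haveI := hNc
  haveI : IsAffine N.left := isAffine_of_isAffineHom n.left
  haveI : QuasiCompact N.hom := quasiCompact_of_compactSpace _
  haveI : Mono r := Over.mono_of_mono_left r
  obtain ⟨wN, hwN⟩ := hNmin R inferInstance r inferInstance inferInstance hrn ⟨F.map e₀ ≫ w, by
    rw [Category.assoc, hw, ← F.map_comp]⟩
  haveI : IsMonHom (F.map n) := Groth.L25.MonoClosed.isMonHom_pullbackMap _ _
  haveI : IsClosedImmersion (F.map n).left := Groth.L08.Borel.isClosedImmersion_map θ n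
  haveI : Mono (F.map n) := Over.mono_of_mono_left _
  haveI : IsMonHom wN := Groth.L08.Borel.isMonHom_lift_mono r (F.map n) wN hwN
  haveI : Mono wN := by
    haveI : Mono (wN ≫ r) := hwN ▸ inferInstance
    exact mono_of_mono wN r
  have hNns : Red.HasNoSubtorus K (Red.bc θ N) := Groth.L14.Luna.hasNoSubtorus_of_mono wN hrns
  haveI : GeometricallyConnected N.hom :=
    Groth.L25.RatConn.geometricallyConnected_of_section _ η[N].left (Groth.L25.GrpBasics.unit_comp_hom N)
  obtain ⟨fU, hfU⟩ := hmax N n inferInstance hNn inferInstance inferInstance fun s =>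
    ⟨Groth.L08.Borel.connectedSpace_bc' (Red.geomPt s) N, Groth.L19.SpecSub.geomNoSubtorus_of_bc θ N hNns s⟩
  have hsubΓ : Set.range cΓ.left ⊆ Set.range e₀.left := by
    rintro _ ⟨z, rfl⟩
    obtain ⟨A, hA, hzA, z', hz'A, hz'⟩ := hfibre z
    refine (hA.image _ cΓ.left.continuous.continuousOn).subset_isClopen
      ⟨e₀.left.isClosedEmbedding.isClosed_range, e₀.left.isOpenEmbedding.isOpen_range⟩
      ⟨cΓ.left z', ⟨z', hz'A, rfl⟩, ?_⟩ ⟨z, hzA, rfl⟩
    rw [he₀.range]
    haveI : Mono (γ ≫ j) := mono_comp _ _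
    haveI : IsClosedImmersion (γ ≫ j).left := inferInstanceAs (IsClosedImmersion (γ.left ≫ j.left))
    have : cΓ.left z' = Groth.L25.Component.one Γ := by
      refine (γ ≫ j).left.isClosedEmbedding.injective ?_
      rw [← Scheme.Hom.comp_apply, ← Over.comp_left, reassoc_of% hcΓ, hc₀, hz']
      exact congr(($((IsMonHom.one_hom (f := γ ≫ j)).symm)).left (IsLocalRing.closedPoint k))
    rw [this]; exact mem_connectedComponent
  obtain ⟨c₁, hc₁⟩ := exists_lift_closed e₀ cΓ hsubΓ
  have hnorm : AlgGrp.IsNormalHom (u ≫ j) := fun T g y => by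
    refine ⟨lift g y ≫ c₁ ≫ fN ≫ fU, ?_⟩
    simp only [Category.assoc]
    rw [reassoc_of% hfU, reassoc_of% hfN, reassoc_of% hc₁, reassoc_of% hcΓ, hc₀]
    simp only [c, MonObj.comp_mul, GrpObj.comp_inv, lift_fst, lift_snd_assoc]
  refine ⟨inferInstance, inferInstance, hnorm, hus, huq, hfib, fun U' _ u' hu'm hu'c hu'n hu's hu'q hu'f => ?_⟩
  haveI := hu'm; haveI := hu'c; haveI := hu's; haveI := hu'q
  haveI : ConnectedSpace U'.left := connectedSpace_of_geomFibre U' s₀ (hu'f s₀).1
  haveI : IsReduced U'.left := Groth.Agent.AV.isReduced_of_smooth_field U'.hom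
  obtain ⟨v, hv⟩ := exists_lift_closed j u'
    ((isPreconnected_range u'.left.continuous).subset_isClopen hclopen
      ⟨_, ⟨Groth.L25.Component.one U', congr(($(IsMonHom.one_hom (f := u'))).left (IsLocalRing.closedPoint k))⟩, hone⟩)
  haveI : IsMonHom v := Groth.L08.Borel.isMonHom_lift_mono j u' v hv
  haveI : IsClosedImmersion (v.left ≫ j.left) := by rw [← Over.comp_left, hv]; infer_instance
  haveI : IsClosedImmersion v.left := IsClosedImmersion.of_comp v.left j.left
  have hvn : AlgGrp.IsNormalHom v := fun T g y => by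
    obtain ⟨y', hy'⟩ := hu'n T (g ≫ j) y
    refine ⟨y', ?_⟩
    rw [← cancel_mono j, MonObj.mul_comp, MonObj.mul_comp, GrpObj.inv_comp, Category.assoc, hv, hy',
      Category.assoc, hv]
  obtain ⟨f, hf⟩ := hmax U' v inferInstance hvn inferInstance inferInstance hu'f
  exact ⟨f, by rw [reassoc_of% hf, hv]⟩

end Groth.Agent.S15600
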