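import Groth.Statements.S15601
import Groth.Agent.L01.LieKolchin

set_option autoImplicit false
universe u v
open HopfRep

namespace Groth.Agent.S15601

/-- Let k be an algebraically closed field and G = Spec A a smooth connected affine k-group: A is a
finitely generated commutative Hopf algebra over k which is reduced and has no idempotents other
than 0 and 1. Suppose G is solvable, i.e. the group G(k) of k-algebra maps A → k under convolution
is solvable. Then the derived group of G is unipotent: every element of the commutator subgroup of
G(k) acts in every finite-dimensional A-comodule by an operator u with u − 1 nilpotent. (Stated over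
an algebraically closed field, where the derived group is determined by the commutators of k-points;
the case of a general field reduces to this one.) -/
theorem result (k : Type u) [Field k] [IsAlgClosed k]
    (A : Type v) [CommRing A] [HopfAlgebra k A] [Algebra.FiniteType k A] [IsReduced A]
    (hconn : ∀ e : A, IsIdempotentElem e → e = 0 ∨ e = 1)
    [Group.IsSolvable (WithConv (A →ₐ[k] k))]
    (g : WithConv (A →ₐ[k] k)) (hg : g ∈ commutator (WithConv (A →ₐ[k] k)))
    (V : Type v) [AddCommGroup V] [Module k V] [HopfRep.Comod k A V] [Module.Finite k V] :
    IsNilpotent (HopfRep.Comod.act k A V g.ofConv - 1) := by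
  classical
  obtain ⟨F, -, h0, htop, hF, hs⟩ :=
    Groth.L08.exists_flag_of_isTrigonalizable (Groth.L01.LieKolchin.isTrigonalizable (k := k) hconn) V
  refine ⟨Module.finrank k V, LinearMap.ext fun v => ?_⟩
  have key : ∀ (j : ℕ) (v : V), v ∈ F j →
      (((Groth.L08.ptAct (A := A) V g - 1) ^ j : Module.End k V)) v = 0 := by
    intro j
    induction j with
    | zero =>
      intro v hv
      rw [h0, Submodule.mem_bot] at hv
      simp [hv]
    | succ j ih =>
      intro v hv
      rw [pow_succ, Module.End.mul_apply]
      refine ih _ ?_
      rw [LinearMap.sub_apply, Module.End.one_apply]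
      obtain ⟨e, -, hst⟩ := hs j
      by_cases hle : F (j + 1) ≤ F j
      · exact sub_mem (Groth.L08.fAct_mem_of_isSubcomod (hF j) _ (hle hv)) (hle hv)
      · obtain ⟨w, hw, hwn⟩ := SetLike.not_le_iff_exists.1 hle
        have huniq : ∀ (h : WithConv (A →ₐ[k] k)) (c : k),
            Groth.L08.ptAct (A := A) V h w - c • w ∈ F j → c = h.ofConv e := by
          intro h c hc
          by_contra hne
          have h1 := sub_mem hc (hst w hw h.ofConv.toLinearMap)
          rw [Groth.L08.ptAct_apply, sub_sub_sub_cancel_left, AlgHom.toLinearMap_apply, ← sub_smul] at h1
          exact hwn (((F j).smul_mem_iff (sub_ne_zero.2 (Ne.symm hne))).1 h1)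
        let χ : WithConv (A →ₐ[k] k) →* k :=
          { toFun := fun h => h.ofConv e
            map_one' := (huniq 1 1 (by simp)).symm
            map_mul' := fun a b => by
              refine (huniq (a * b) _ ?_).symm
              have e1 := Groth.L08.fAct_mem_of_isSubcomod (hF j) a.ofConv.toLinearMap (hst w hw b.ofConv.toLinearMap)
              have e2 := (F j).smul_mem (b.ofConv e) (hst w hw a.ofConv.toLinearMap)
              have e3 := add_mem e1 e2
              rw [map_sub, map_smul, smul_sub, AlgHom.toLinearMap_apply, sub_add_sub_cancel,
                ← Groth.L08.ptAct_apply, ← Groth.L08.ptAct_apply, ← Module.End.mul_apply, ← map_mul,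
                AlgHom.toLinearMap_apply, smul_smul, mul_comm (b.ofConv e)] at e3
              exact e3 }
        have hχ : χ g = 1 := congrArg Units.val
          (Abelianization.commutator_subset_ker χ.toHomUnits hg : χ.toHomUnits g = 1)
        have h2 := hst v hv g.ofConv.toLinearMap
        rw [AlgHom.toLinearMap_apply, show g.ofConv e = 1 from hχ, one_smul] at h2
        exact h2
  exact key _ v (htop ▸ Submodule.mem_top)


end Groth.Agent.S15601
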