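import Groth.Statements.S15602
import Groth.Agent.L15.GaLaw.Sch
import Mathlib.AlgebraicGeometry.Morphisms.Affine

set_option autoImplicit false
universe u
open CategoryTheory MonoidalCategory CartesianMonoidalCategory MonObj GrpObj AlgebraicGeometry
open AlgGrp

namespace Groth.Agent.S15602

/-- Additive case. Let k be a field and consider the affine line over k, taken here as the underlying
k-scheme of the additive group. Any two structures of k-group scheme on it with the same unit
section have the same multiplication; in particular a group law on the affine line whose identity is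
the origin is the usual addition. -/
theorem result (k : Type u) [Field k]
    (h₁ h₂ : GrpObj (Red.Ga (Spec (CommRingCat.of k)))) (e : h₁.one = h₂.one) : h₁.mul = h₂.mul := by
  haveI hGZ : IsAffine (Red.GaZ.{u}).left :=
    inferInstanceAs (IsAffine (Spec (CommRingCat.of (SymmetricAlgebra (ULift.{u} ℤ) (ULift.{u} ℤ)))))
  haveI : IsAffine (Red.Ga (Spec (CommRingCat.of k))).left :=
    inferInstanceAs (IsAffine (Limits.pullback Red.GaZ.hom (GmPts.toBaseZ (Spec (CommRingCat.of k)))))
  haveI : IsAffine (Red.Ga (Spec (CommRingCat.of k)) ⊗ Red.Ga (Spec (CommRingCat.of k))).left :=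
    inferInstanceAs (IsAffine (Limits.pullback (Red.Ga (Spec (CommRingCat.of k))).hom
      (Red.Ga (Spec (CommRingCat.of k))).hom))
  exact Groth.L15.GaLaw.mul_eq_of_one_eq Groth.L15.GaLaw.linePts h₁ h₂ e

end Groth.Agent.S15602
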