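import Groth.Statements.S15603
import Groth.Agent.L15.GaLaw.Gm
import Mathlib.AlgebraicGeometry.Morphisms.Affine

set_option autoImplicit false
universe u
open CategoryTheory MonoidalCategory CartesianMonoidalCategory MonObj GrpObj AlgebraicGeometry
open AlgGrp

namespace Groth.Agent.S15603

/-- Multiplicative case. Let k be a field and consider the affine line minus the origin over k, taken
here as the underlying k-scheme of the multiplicative group. Any two structures of k-group scheme on
it with the same unit section have the same multiplication; in particular a group law on the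
punctured line whose identity is the point 1 is the usual multiplication. -/
theorem result (k : Type u) [Field k]
    (h₁ h₂ : GrpObj (Red.Gm (Spec (CommRingCat.of k)))) (e : h₁.one = h₂.one) : h₁.mul = h₂.mul := by
  haveI hGZ : IsAffine (GmPts.GmZ.{u}).left :=
    inferInstanceAs (IsAffine (Spec (CommRingCat.of (GmPts.Coord.{u}))))
  haveI : IsAffine (Red.Gm (Spec (CommRingCat.of k))).left :=
    inferInstanceAs (IsAffine (Limits.pullback GmPts.GmZ.hom (GmPts.toBaseZ (Spec (CommRingCat.of k)))))
  haveI : IsAffine (Red.Gm (Spec (CommRingCat.of k)) ⊗ Red.Gm (Spec (CommRingCat.of k))).left :=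
    inferInstanceAs (IsAffine (Limits.pullback (Red.Gm (Spec (CommRingCat.of k))).hom
      (Red.Gm (Spec (CommRingCat.of k))).hom))
  exact Groth.L15.GaLaw.mul_eq_of_one_eq' Groth.L15.GaLaw.unitPts h₁ h₂ e

end Groth.Agent.S15603
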