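import Groth.Statements.S15604
import Groth.Agent.L19.AlgGrpBasic.OrbitSmooth
import Groth.Prelude.Def_ChGrp

set_option autoImplicit false
set_option backward.isDefEq.respectTransparency.types false
set_option backward.isDefEq.respectTransparency false
set_option linter.style.haveILetI false
universe u
open CategoryTheory MonoidalCategory CartesianMonoidalCategory MonObj GrpObj AlgebraicGeometry
open AlgGrp

namespace Groth.Agent.S15604
open Groth.L19.AlgGrpBasic

/-- Let k be a field and f : G ⟶ G' a homomorphism of k-group schemes of finite type, with G smooth over
k. The image of f is closed (not asserted here); with its reduced induced structure it is smooth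
over k: every reduced closed subscheme H of G' whose underlying set is the set-theoretic image of f
is smooth over k. -/
theorem result (k : Type u) [Field k]
    (G G' : Over (Spec (CommRingCat.of k))) [GrpObj G] [GrpObj G'] [Smooth G.hom] [QuasiCompact G.hom]
    [LocallyOfFiniteType G'.hom] [QuasiCompact G'.hom] (f : G ⟶ G') [IsMonHom f]
    (H : Scheme.{u}) (i : H ⟶ G'.left) [IsClosedImmersion i] [IsReduced H]
    (hH : Set.range i.base = Set.range f.left.base) : Smooth (i ≫ G'.hom) := by
  let a : AlgGrp.Action G G' :=
    AlgGrp.Action.restrict f ({ act := μ[G'], one_act := MonObj.one_mul G', mul_act := MonObj.mul_assoc G' } : AlgGrp.Action G' G')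
  refine smooth_orbit a (1 : 𝟙_ _ ⟶ G') i (hH.trans (congrArg (fun φ : G ⟶ G' => Set.range φ.left) ?_))
  simp [AlgGrp.Action.orbitMap, a, MonObj.mul_eq_mul, MonObj.comp_mul, MonObj.comp_one]

end Groth.Agent.S15604
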