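import Groth.Statements.S15605
import Mathlib.LinearAlgebra.FreeModule.Basic
import Mathlib.LinearAlgebra.Basis.VectorSpace
import Mathlib.LinearAlgebra.TensorProduct.Basis
import Mathlib.LinearAlgebra.TensorProduct.RightExactness
import Mathlib.RingTheory.Ideal.Operations
import Mathlib.RingTheory.Ideal.BigOperators

set_option autoImplicit false
universe u
open TensorProduct
open AGF

namespace Groth.Agent.S15605

/-- Affine form. Let k be a field, A and A' finitely generated commutative k-algebras and S, S' sets of
k-algebra homomorphisms A → k, A' → k. The closure of a set of rational points of Spec A is cut out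
by the intersection of their kernels. Compatibility of these closures with products: in A ⊗_k A',
the intersection over (σ, σ') ∈ S × S' of the kernels of σ ⊗ σ' : A ⊗_k A' → k equals the ideal
generated by the images of ⋂_{σ} ker σ and of ⋂_{σ'} ker σ'. -/
theorem result (k A A' : Type u) [Field k] [CommRing A] [Algebra k A]
    [Algebra.FiniteType k A] [CommRing A'] [Algebra k A'] [Algebra.FiniteType k A']
    (S : Set (A →ₐ[k] k)) (S' : Set (A' →ₐ[k] k)) :
    (⨅ σ ∈ S, ⨅ σ' ∈ S', RingHom.ker ((Algebra.TensorProduct.lmul' (S := k) k).comp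
        (Algebra.TensorProduct.map σ σ'))) =
      Ideal.map (Algebra.TensorProduct.includeLeft : A →ₐ[k] A ⊗[k] A') (⨅ σ ∈ S, RingHom.ker σ) ⊔
        Ideal.map (Algebra.TensorProduct.includeRight : A' →ₐ[k] A ⊗[k] A') (⨅ σ' ∈ S', RingHom.ker σ') := by
  set I := ⨅ σ ∈ S, RingHom.ker σ with hIdef
  set I' := ⨅ σ' ∈ S', RingHom.ker σ' with hI'def
  refine le_antisymm (fun x hx => ?_) ?_
  · classical
    let π := (Ideal.Quotient.mkₐ k I).toLinearMap
    have hπ : Function.Surjective π := Ideal.Quotient.mk_surjective
    let B := Module.Free.chooseBasis k (A ⧸ I)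
    choose c hc using fun i => hπ (B i)
    obtain ⟨f, hf⟩ := TensorProduct.eq_repr_basis_left B (π.rTensor A' x)
    set y := f.sum fun i n => c i ⊗ₜ[k] n with hy
    have hxy : x - y ∈ Ideal.map (Algebra.TensorProduct.includeLeft : A →ₐ[k] A ⊗[k] A') I := by
      have h0 : π.rTensor A' (x - y) = 0 := by
        rw [map_sub, ← hf, hy, map_finsuppSum]
        simp [hc]
      obtain ⟨z, hz⟩ := (rTensor_exact A' (LinearMap.exact_subtype_ker_map π) hπ _).1 h0
      rw [← hz]
      clear hz
      induction z using TensorProduct.induction_on with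
      | zero => simp
      | tmul a b =>
        rw [LinearMap.rTensor_tmul]
        have : ((a : A) ⊗ₜ[k] b) = ((a : A) ⊗ₜ[k] (1 : A')) * (1 ⊗ₜ[k] b) := by simp
        show (a : A) ⊗ₜ[k] b ∈ _
        rw [this]
        refine Ideal.mul_mem_right _ _ (Ideal.mem_map_of_mem _ ?_)
        have := a.2
        rw [LinearMap.mem_ker] at this
        exact Ideal.Quotient.eq_zero_iff_mem.1 this
      | add p q hp hq => rw [map_add]; exact Ideal.add_mem _ hp hq
    have hev : ∀ σ ∈ S, ∀ σ' ∈ S', ∀ z ∈ Ideal.map (Algebra.TensorProduct.includeLeft : A →ₐ[k] A ⊗[k] A') I,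
        ((Algebra.TensorProduct.lmul' (S := k) k).comp (Algebra.TensorProduct.map σ σ')) z = 0 := by
      intro σ hσ σ' _
      show Ideal.map _ I ≤ RingHom.ker _
      rw [Ideal.map_le_iff_le_comap]
      intro a ha
      simp only [hIdef, Submodule.mem_iInf, RingHom.mem_ker] at ha
      simp [ha σ hσ]
    have hfI : ∀ i, f i ∈ I' := by
      intro i
      simp only [hI'def, Submodule.mem_iInf, RingHom.mem_ker]
      intro σ' hσ'
      have hsum : (f.sum fun j n => σ' n • c j) ∈ I := by
        simp only [hIdef, Submodule.mem_iInf, RingHom.mem_ker]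
        intro σ hσ
        have h1 := (Submodule.mem_iInf _).1 ((Submodule.mem_iInf _).1 ((Submodule.mem_iInf _).1
          ((Submodule.mem_iInf _).1 hx σ) hσ) σ') hσ'
        rw [RingHom.mem_ker] at h1
        have h2 := hev σ hσ σ' hσ' _ hxy
        rw [map_sub, h1, zero_sub, neg_eq_zero, hy, map_finsuppSum] at h2
        rw [map_finsuppSum]
        simpa [mul_comm] using h2
      have h3 : Finsupp.linearCombination k B (f.mapRange σ' (map_zero σ')) = 0 := by
        have h4 : π (f.sum fun j n => σ' n • c j) = 0 := Ideal.Quotient.eq_zero_iff_mem.2 hsum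
        rw [map_finsuppSum] at h4
        rw [Finsupp.linearCombination_apply, Finsupp.sum_mapRange_index (by simp)]
        simpa [hc] using h4
      have := DFunLike.congr_fun (B.linearIndependent (h3.trans (map_zero _).symm)) i
      simpa using this
    have hyI : y ∈ Ideal.map (Algebra.TensorProduct.includeRight : A' →ₐ[k] A ⊗[k] A') I' := by
      refine Ideal.sum_mem _ fun i _ => ?_
      have : c i ⊗ₜ[k] f i = (c i ⊗ₜ[k] (1 : A')) * Algebra.TensorProduct.includeRight (f i) := by simp
      show c i ⊗ₜ[k] f i ∈ _
      rw [this]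
      exact Ideal.mul_mem_left _ _ (Ideal.mem_map_of_mem _ (hfI i))
    have := Submodule.add_mem_sup hxy hyI
    rwa [sub_add_cancel] at this
  · refine le_iInf₂ fun σ hσ => le_iInf₂ fun σ' hσ' => sup_le ?_ ?_
    all_goals rw [Ideal.map_le_iff_le_comap]; intro a ha
    · simp only [hIdef, Submodule.mem_iInf, RingHom.mem_ker] at ha
      simp [ha σ hσ]
    · simp only [hI'def, Submodule.mem_iInf, RingHom.mem_ker] at ha
      simp [ha σ' hσ']
end Groth.Agent.S15605
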