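import Groth.Statements.S15606
import Groth.Agent.L16.SecComp.Smooth
import Groth.Agent.L08.FlatHom
import Groth.Agent.L08.AbelianGrp
import Groth.Agent.L25.DescHom
import Groth.Agent.S15180

set_option autoImplicit false
set_option backward.isDefEq.respectTransparency.types false
set_option linter.style.haveILetI false
universe u
open CategoryTheory MonoidalCategory CartesianMonoidalCategory MonObj GrpObj AlgebraicGeometry
open AlgGrp

namespace Groth.Agent.S15606

/-- Additive case. Let k be a field, H an affine smooth connected k-group scheme, and f a homomorphism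
from the additive group over k to H which is finite and surjective (an isogeny onto H). Then H is
isomorphic, as a k-group scheme, to the additive group. In particular every quotient of the additive
group by a finite k-subgroup scheme is isomorphic to the additive group over k itself, for any field
k. -/
theorem result (k : Type u) [Field k]
    (H : Over (Spec (CommRingCat.of k))) [GrpObj H] [IsAffine H.left] [Smooth H.hom] [ConnectedSpace ↥H.left]
    (f : Red.Ga (Spec (CommRingCat.of k)) ⟶ H) [IsMonHom f] [IsFinite f.left] [Surjective f.left] :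
    Nonempty (Grp.mk H ≅ Grp.mk (Red.Ga (Spec (CommRingCat.of k)))) := by
  haveI : IsReduced H.left := Groth.L16.SecComp.isReduced_of_smooth H.hom
  haveI : Flat f.left := Groth.L08.FlatHom.flat_of_surjective _ H f
  obtain ⟨N, gN, i, _, _, -, hN⟩ := Groth.L08.AbelianGrp.exists_kernel f
  haveI : IsFinite N.hom := by
    have h := hN.map (Over.forget _)
    have h1 : IsFinite (toUnit N).left := MorphismProperty.of_isPullback h ‹IsFinite f.left›
    rwa [← Over.w (toUnit N), show (𝟙_ (Over (Spec (CommRingCat.of k)))).hom = 𝟙 _ from rfl, Category.comp_id]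
  haveI : Mono i := Over.mono_of_mono_left i
  obtain ⟨φ, _, hφ, _, _⟩ := Groth.Agent.S15180.result k (Red.Ga (Spec (CommRingCat.of k))) N
    (Or.inl ⟨Iso.refl _⟩) i
  haveI : IsAffineHom (Red.Ga (Spec (CommRingCat.of k))).hom := by
    rw [← Over.w f]; haveI := isAffineHom_of_isAffine H.hom; infer_instance
  haveI : IsAffineHom φ.left := by
    haveI : IsAffineHom (φ.left ≫ (Red.Ga (Spec (CommRingCat.of k))).hom) := by rw [Over.w φ]; infer_instance
    exact IsAffineHom.of_comp φ.left (Red.Ga (Spec (CommRingCat.of k))).hom
  have cf := Groth.L25.DescHom.cov_of_flat f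
  have cφ := Groth.L25.DescHom.cov_of_flat φ
  obtain ⟨a, _, ha⟩ := Groth.L25.DescHom.exists_desc_hom i f cf hN φ (by rw [hφ.w, ← Hom.one_def])
  obtain ⟨b, _, hb⟩ := Groth.L25.DescHom.exists_desc_hom i φ cφ hφ f (by rw [hN.w, ← Hom.one_def])
  let e : H ≅ Red.Ga (Spec (CommRingCat.of k)) :=
    { hom := a
      inv := b
      hom_inv_id := Groth.L27.Torsor.cancel cf (by rw [← Category.assoc, ha, hb, Category.comp_id])
      inv_hom_id := Groth.L27.Torsor.cancel cφ (by rw [← Category.assoc, hb, ha, Category.comp_id]) }
  haveI : IsMonHom e.hom := ‹IsMonHom a›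
  exact ⟨Grp.mkIso' e⟩

end Groth.Agent.S15606
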