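import Groth.Statements.S15607
import Groth.Agent.L19.AlgGrpBasic.GmIsog
import Groth.Agent.L26.AV.Isogeny
import Groth.Agent.L00.BddFib

set_option autoImplicit false
set_option backward.isDefEq.respectTransparency.types false
set_option linter.style.haveILetI false
universe u
open CategoryTheory MonoidalCategory CartesianMonoidalCategory MonObj GrpObj AlgebraicGeometry
open AlgGrp

namespace Groth.Agent.S15607
open Groth.L19.AlgGrpBasic

/-- Multiplicative case. Let k be a field, H a smooth connected k-group scheme, and f a homomorphism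
from H to the multiplicative group over k which is finite and surjective (an isogeny). Then H is
isomorphic, as a k-group scheme, to the multiplicative group: a smooth connected k-group isogenous
to the multiplicative group over k is the split one-dimensional torus. -/
theorem result (k : Type u) [Field k]
    (H : Over (Spec (CommRingCat.of k))) [GrpObj H] [Smooth H.hom] [ConnectedSpace ↥H.left]
    (f : H ⟶ Red.Gm (Spec (CommRingCat.of k))) [IsMonHom f] [IsFinite f.left] [Surjective f.left] :
    Nonempty (Grp.mk H ≅ Grp.mk (Red.Gm (Spec (CommRingCat.of k)))) := by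
  haveI : IsAffineHom (Red.Gm (Spec (CommRingCat.of k))).hom := by
    haveI : IsAffineHom GmPts.GmZ.{u}.hom :=
      inferInstanceAs (IsAffineHom (Spec.map (CommRingCat.ofHom (algebraMap (ULift.{u} ℤ) GmPts.Coord.{u}))))
    exact inferInstanceAs (IsAffineHom (Limits.pullback.snd GmPts.GmZ.{u}.hom (GmPts.toBaseZ _)))
  haveI := smooth_Gm k
  haveI : IsReduced (Red.Gm (Spec (CommRingCat.of k))).left :=
    Groth.L16.SecComp.isReduced_of_smooth (Red.Gm (Spec (CommRingCat.of k))).hom
  haveI : IsReduced H.left := Groth.L16.SecComp.isReduced_of_smooth H.hom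
  haveI : IsAffineHom H.hom := by rw [← Over.w f]; infer_instance
  haveI : GeometricallyReduced H.hom := Groth.L16.SecComp.geometricallyReduced_of_smooth H.hom
  haveI : GeometricallyIntegral H.hom := Groth.Agent.AV.geometricallyIntegral_of_connected H
  haveI : IsIntegral H.left := GeometricallyIntegral.isIntegral_of_subsingleton H.hom
  haveI : IsLocallyNoetherian H.left := LocallyOfFiniteType.isLocallyNoetherian H.hom
  haveI : IsIntegral (H ⊗ H).left := inferInstanceAs (IsIntegral (Limits.pullback H.hom H.hom))
  haveI : Flat f.left := Groth.L08.FlatHom.flat_of_surjective H _ f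
  obtain ⟨N, gN, i, _, _, hNc, hN⟩ := Groth.L08.AbelianGrp.exists_kernel f
  haveI : IsFinite N.hom := by
    have h := hN.map (Over.forget _)
    have h1 : IsFinite (toUnit N).left := MorphismProperty.of_isPullback h ‹IsFinite f.left›
    rwa [← Over.w (toUnit N), show (𝟙_ (Over (Spec (CommRingCat.of k)))).hom = 𝟙 _ from rfl, Category.comp_id]
  haveI : Mono i := Over.mono_of_mono_left i
  -- commutativity
  haveI : IsCommMonObj H := by
    let c : H ⊗ H ⟶ H := (fst H H * snd H H) * (snd H H * fst H H)⁻¹
    have hc : c ≫ f = 1 := by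
      simp only [c, MonObj.mul_comp, GrpObj.inv_comp]
      rw [mul_comm (snd H H ≫ f) (fst H H ≫ f), mul_inv_cancel]
    let c' : H ⊗ H ⟶ N := hN.lift c (toUnit _) (by rw [hc, Hom.one_def])
    have hc' : c' ≫ i = c := hN.lift_fst _ _ _
    have h1 : c' = 1 := eq_one_of_connected c' (lift η[H] η[H]) (by
      rw [← cancel_mono i, Category.assoc, hc', MonObj.one_comp i]
      simp only [c, MonObj.comp_mul, GrpObj.comp_inv, lift_fst, lift_snd]
      rw [mul_inv_cancel])
    have h2 : c = 1 := by rw [← hc', h1, MonObj.one_comp i]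
    refine ⟨?_⟩
    have h3 : fst H H * snd H H = snd H H * fst H H := mul_inv_eq_one.1 h2
    have e1 : μ[H] = fst H H * snd H H := by rw [Hom.mul_def, lift_fst_snd, Category.id_comp]
    rw [e1, MonObj.comp_mul, braiding_hom_fst, braiding_hom_snd, h3]
  haveI : IsCommMonObj N := hNc inferInstance
  haveI : Flat N.hom := Groth.L00.BddFib.flat_toField N.hom
  obtain ⟨z⟩ : Nonempty (Spec (CommRingCat.of k)) := inferInstance
  have hr1 : 1 ≤ Scheme.Hom.finrank N.hom z := by
    haveI : Surjective N.hom := Groth.L25.Actions.surjective_of_section η[N]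
    exact (Scheme.Hom.one_le_finrank_iff_surjective N.hom).2 inferInstance z
  set r := Scheme.Hom.finrank N.hom z with hr
  have hkill : (𝟙 N : N ⟶ N) ^ r = 1 :=
    Groth.L08.Deligne.pow_eq_one N r fun s => by rw [hr]; congr 1; exact Subsingleton.elim (α := PrimeSpectrum k) _ _
  haveI hpm : IsMonHom ((𝟙 H : H ⟶ H) ^ r) := Groth.Agent.AV.Isogeny.isMonHom_pow r
  obtain ⟨g, _, hg⟩ := Groth.L25.DescHom.exists_desc_hom i f (Groth.L25.DescHom.cov_of_flat f) hN
    ((𝟙 H : H ⟶ H) ^ r) (by
      rw [MonObj.comp_pow, Category.comp_id, ← Category.id_comp i, ← MonObj.pow_comp _ _ i, hkill, MonObj.one_comp i])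
  have hgf : g ≫ f = (𝟙 (Red.Gm (Spec (CommRingCat.of k))) : _ ⟶ _) ^ r := by
    apply Groth.L27.Torsor.cancel (Groth.L25.DescHom.cov_of_flat f)
    rw [← Category.assoc, hg, MonObj.pow_comp _ _ f, Category.id_comp, MonObj.comp_pow, Category.comp_id]
  obtain ⟨hps, hpf⟩ := pow_DS_props (k := k) ℤ r hr1
  haveI : IsFinite (g.left ≫ f.left) := by rw [← Over.comp_left, hgf]; exact hpf
  haveI : IsFinite g.left := MorphismProperty.of_postcomp (W := @IsFinite) (W' := @IsSeparated) g.left f.left
    inferInstance inferInstance
  haveI : Surjective g.left := by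
    refine ⟨fun y => ?_⟩
    let C := Set.range g.left
    have hC : IsClosed C := g.left.isClosedMap.isClosed_range
    haveI : IrreducibleSpace H.left := inferInstance
    obtain ⟨x, hx⟩ := hps.surj (f.left (genericPoint H.left))
    rw [← hgf, Over.comp_left, Scheme.Hom.comp_apply] at hx
    have he : g.left x = genericPoint H.left :=
      ((f.left.isDiscrete_preimage_singleton (f.left (genericPoint H.left))).eq_of_specializes
        (genericPoint_specializes (g.left x)) rfl hx).symm
    exact (genericPoint_specializes y).mem_closed hC ⟨x, he⟩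
  exact exists_iso_Gm_of_surjective g

end Groth.Agent.S15607
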