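import Groth.Statements.S15608
import Groth.Agent.L19.AlgGrpBasic.RatClosure
import Groth.Agent.L19.AlgGrpBasic.Descent
import Groth.Agent.L08.ProfiniteImage
import Groth.Agent.L08.SubgroupObj
import Groth.Agent.L00.ReducedSub
import Mathlib.AlgebraicGeometry.Group.Smooth

set_option autoImplicit false
set_option backward.isDefEq.respectTransparency.types false
set_option backward.isDefEq.respectTransparency false
set_option linter.style.haveILetI false
universe u
open CategoryTheory CategoryTheory.Limits MonoidalCategory CartesianMonoidalCategory MonObj GrpObj AlgebraicGeometry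
open AlgGrp

namespace Groth.Agent.S15608
open Groth.L19.AlgGrpBasic

/-- Let k be a field, G a smooth k-group scheme of finite type and Σ a subgroup of the abstract group
G(k) of k-rational points. Then the Zariski closure of Σ in G, with its reduced structure, is a
smooth closed k-subgroup: there are a smooth k-group scheme H and a homomorphism H ⟶ G which is a
closed immersion whose image is the closure of the set of points of G underlying the elements of Σ.
(The published statement also asserts that forming this closure commutes with extension of the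
ground field; that clause is not stated here, its affine form being stated separately.) -/
theorem result (k : Type u) [Field k]
    (G : Over (Spec (CommRingCat.of k))) [GrpObj G] [Smooth G.hom] [QuasiCompact G.hom]
    (S : Subgroup (𝟙_ (Over (Spec (CommRingCat.of k))) ⟶ G)) :
    ∃ (H : Over (Spec (CommRingCat.of k))) (_ : GrpObj H) (i : H ⟶ G), IsMonHom i ∧ IsClosedImmersion i.left ∧ Smooth H.hom ∧
      Set.range i.left.base =
        closure ((fun s : (𝟙_ (Over (Spec (CommRingCat.of k))) ⟶ G) => s.left.base (IsLocalRing.closedPoint k)) '' (S : Set _)) := by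
  let Y : Set G.left := (fun s : (𝟙_ (Over (Spec (CommRingCat.of k))) ⟶ G) => s.left (IsLocalRing.closedPoint k)) '' (S : Set _)
  obtain ⟨W, w, hw, hred, hr⟩ := Groth.L00.ReducedSub.exists_reduced (X := G.left) (closure Y) isClosed_closure.isLocallyClosed
  haveI : IsClosedImmersion w := IsClosedImmersion.of_isPreimmersion w (hr.symm ▸ isClosed_closure)
  let N : Over (Spec (CommRingCat.of k)) := Over.mk (w ≫ G.hom)
  let j : N ⟶ G := Over.homMk w
  haveI : IsClosedImmersion j.left := inferInstanceAs (IsClosedImmersion w)
  haveI : IsReduced N.left := hred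
  haveI : Mono j := Over.mono_of_mono_left j
  haveI : LocallyOfFiniteType G.hom := inferInstance
  haveI : LocallyOfFiniteType N.hom := inferInstanceAs (LocallyOfFiniteType (w ≫ G.hom))
  haveI : IsReduced (𝟙_ (Over (Spec (CommRingCat.of k)))).left :=
    inferInstanceAs (IsReduced (Spec (CommRingCat.of k)))
  have lift' : ∀ {T : Over (Spec (CommRingCat.of k))} [IsReduced T.left] (g : T ⟶ G),
      (∀ t, g.left t ∈ closure Y) → ∃ z : T ⟶ N, z ≫ j = g := by
    intro T _ g hg
    obtain ⟨z, hz⟩ := Groth.L00.ReducedSub.exists_lift w g.left (hr.symm ▸ Set.range_subset_iff.2 hg)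
    exact ⟨Over.homMk z (by simp [N, reassoc_of% hz]), Over.OverMorphism.ext hz⟩
  have hpt : ∀ s : S, ∀ t, (s : 𝟙_ (Over (Spec (CommRingCat.of k))) ⟶ G).left t ∈ closure Y := fun s t => by
    rw [show t = IsLocalRing.closedPoint k from Subsingleton.elim (α := PrimeSpectrum k) _ _]
    exact subset_closure ⟨s, s.2, rfl⟩
  choose sN hsN using fun s : S => lift' (s : 𝟙_ (Over (Spec (CommRingCat.of k))) ⟶ G) (hpt s)
  have hdense : Dense (Set.range fun s : S => (sN s).left (IsLocalRing.closedPoint k)) := by
    intro z
    have hjz : j.left z ∈ closure Y := hr.subset ⟨z, rfl⟩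
    rw [j.left.isEmbedding.isInducing.closure_eq_preimage_closure_image, Set.mem_preimage]
    refine closure_mono ?_ hjz
    rintro _ ⟨s, hs, rfl⟩
    exact ⟨_, ⟨⟨s, hs⟩, rfl⟩, congr(($(hsN ⟨s, hs⟩)).left (IsLocalRing.closedPoint k))⟩
  haveI : GeometricallyReduced N.hom :=
    geometricallyReduced_of_dense_points N.hom (fun s : S => (sN s).left) (fun s => Over.w (sN s)) hdense
  haveI : IsLocallyNoetherian N.left := LocallyOfFiniteType.isLocallyNoetherian N.hom
  haveI : Flat N.hom := inferInstance
  haveI : IsReduced (N ⊗ N).left := inferInstanceAs (IsReduced (pullback N.hom N.hom))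
  -- right translations by elements of `S` preserve the closure
  have hrt : ∀ s : S, ∀ y ∈ closure Y, (Groth.L08.ProfiniteImage.rt (s : 𝟙_ (Over (Spec (CommRingCat.of k))) ⟶ G)).left y ∈ closure Y := by
    intro s y hy
    refine map_mem_closure (Groth.L08.ProfiniteImage.rt (s : 𝟙_ (Over (Spec (CommRingCat.of k))) ⟶ G)).left.continuous hy ?_
    rintro _ ⟨t, ht, rfl⟩
    exact ⟨t * s, S.mul_mem ht s.2, (Groth.L08.ProfiniteImage.pt_rt t s).symm⟩
  let m : N ⊗ N ⟶ G := (fst N N ≫ j) * (snd N N ≫ j)
  have hm : ∀ v, m.left v ∈ closure Y := by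
    intro v
    have hD : closure ((snd N N).left ⁻¹' Set.range fun s : S => (sN s).left (IsLocalRing.closedPoint k)) ⊆
        m.left ⁻¹' closure Y := by
      refine closure_minimal ?_ (isClosed_closure.preimage m.left.continuous)
      rintro x ⟨s, hs⟩
      obtain ⟨y, hy, -⟩ := Scheme.exists_preimage_of_isPullback (isPullback_whiskerLeft N (sN s)).flip
        (IsLocalRing.closedPoint k) x hs
      obtain ⟨y, rfl⟩ : ∃ y, (N ◁ sN s).left y = x :=
        ⟨_, (Scheme.exists_preimage_of_isPullback (isPullback_whiskerLeft N (sN s)).flip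
          (IsLocalRing.closedPoint k) x hs).choose_spec.2⟩
      have e : (N ◁ sN s) ≫ m = (fst N (𝟙_ _) ≫ j) ≫ Groth.L08.ProfiniteImage.rt (s : 𝟙_ (Over (Spec (CommRingCat.of k))) ⟶ G) := by
        rw [Groth.L08.ProfiniteImage.comp_rt, MonObj.comp_mul, whiskerLeft_fst_assoc, whiskerLeft_snd_assoc, hsN]
        congr 2
        exact toUnit_unique _ _
      show m.left ((N ◁ sN s).left y) ∈ closure Y
      rw [← Scheme.Hom.comp_apply, ← Over.comp_left, e, Over.comp_left, Scheme.Hom.comp_apply]
      exact hrt s _ (hr.subset ⟨_, rfl⟩)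
    apply hD
    rw [← IsOpenMap.preimage_closure_eq_closure_preimage ?_ (snd N N).left.continuous]
    · exact hdense _
    · rw [Over.snd_left]
      exact (pullback.snd N.hom N.hom).isOpenMap
  obtain ⟨gN, hjm⟩ := Groth.L08.exists_grpObj_of_mono j
    (lift' η[G] fun t => by
      rw [show t = IsLocalRing.closedPoint k from Subsingleton.elim (α := PrimeSpectrum k) _ _]
      exact subset_closure ⟨1, S.one_mem, by rw [Hom.one_def, toUnit_unique (toUnit _) (𝟙 _), Category.id_comp]⟩)
    (lift' _ hm)
    (lift' _ fun t => by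
      rw [Hom.inv_def, Over.comp_left, Scheme.Hom.comp_apply]
      refine map_mem_closure (GrpObj.inv (X := G)).left.continuous (hr.subset ⟨t, rfl⟩) ?_
      rintro _ ⟨s, hs, rfl⟩
      exact ⟨s⁻¹, S.inv_mem hs, by rw [Hom.inv_def]; rfl⟩)
  haveI : GrpObj (Over.mk N.hom) := gN
  exact ⟨N, gN, j, hjm, inferInstanceAs (IsClosedImmersion w), smooth_of_grpObj N.hom, hr⟩

end Groth.Agent.S15608
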