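import Groth.Statements.S15609
import Groth.Agent.L19.AlgGrpBasic.TrivTangent
import Groth.Agent.L19.AlgGrpBasic.GeomPoint
import Groth.Agent.L19.AlgGrpBasic.Points
import Groth.Agent.L19.AlgGrpBasic.Descent
import Groth.Agent.L08.AbelianGrp
import Mathlib.AlgebraicGeometry.Artinian

set_option autoImplicit false
set_option backward.isDefEq.respectTransparency.types false
set_option backward.isDefEq.respectTransparency false
set_option linter.style.haveILetI false
universe u
open CategoryTheory MonoidalCategory CartesianMonoidalCategory MonObj GrpObj AlgebraicGeometry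
open AlgGrp

namespace Groth.Agent.S15609
open Groth.L19.AlgGrpBasic

/-- The implication (ii) ⇒ (i). Let k be a field and f : G ⟶ G' a homomorphism of k-group schemes of
finite type. Suppose that f is injective on K-points for every algebraically closed field K over k,
and that f is injective on tangent spaces at the identity: every point of G with values in the dual
numbers k[ε] which restricts to the identity at ε = 0 and is sent by f to the identity point of G'
is itself the identity point. Then f has trivial kernel: it is a monomorphism. (The published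
statement assumes G smooth; this implication does not use it.) -/
theorem result (k : Type u) [Field k]
    (G G' : Over (Spec (CommRingCat.of k))) [GrpObj G] [GrpObj G'] [LocallyOfFiniteType G.hom] [QuasiCompact G.hom]
    [LocallyOfFiniteType G'.hom] [QuasiCompact G'.hom] (f : G ⟶ G') [IsMonHom f]
    (hgeom : ∀ (K : Type u) [Field K] [IsAlgClosed K] [Algebra k K],
      Function.Injective (fun g : (Over.mk (Spec.map (CommRingCat.ofHom (algebraMap k K)))) ⟶ G => g ≫ f))
    (htan : ∀ g : (Over.mk (Spec.map (CommRingCat.ofHom (algebraMap k (DualNumber k))))) ⟶ G,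
      (∀ x : 𝟙_ (Over (Spec (CommRingCat.of k))) ⟶ (Over.mk (Spec.map (CommRingCat.ofHom (algebraMap k (DualNumber k))))), x ≫ g = η[G]) →
        g ≫ f = toUnit _ ≫ η[G'] → g = toUnit _ ≫ η[G]) :
    Mono f := by
  let K := AlgebraicClosure k
  obtain ⟨N, gN, i, hi, hic, -, sq⟩ := Groth.L08.AbelianGrp.exists_kernel f
  haveI := hi
  haveI := hic
  haveI : Mono i := mono_of_closed i
  haveI : LocallyOfFiniteType N.hom := by rw [← Over.w i]; infer_instance
  haveI : QuasiCompact N.hom := by rw [← Over.w i]; infer_instance
  have hif : i ≫ f = 1 := comp_of_isKernel sq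
  -- the kernel has one point
  let e : N.left := η[N].left (IsLocalRing.closedPoint k)
  have hsecN : η[N].left ≫ N.hom = 𝟙 _ := Over.w η[N]
  have hec : IsClosed ({e} : Set N.left) := by
    haveI := isClosedImmersion_of_comp_eq_id N.hom η[N].left hsecN
    have h := η[N].left.isClosedEmbedding.isClosed_range
    have hr : Set.range η[N].left = {e} := Set.Subset.antisymm
      (by rintro _ ⟨x, rfl⟩; exact congrArg η[N].left (Subsingleton.elim (α := PrimeSpectrum k) _ _))
      (by rintro _ rfl; exact ⟨_, rfl⟩)
    rwa [hr] at h
  haveI : Subsingleton N.left := ⟨fun p q => by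
    have key : ∀ p : N.left, p = e := by
      intro p
      by_contra hp
      obtain ⟨w, hw⟩ := exists_gpt_mem (K := K) hec.isOpen_compl.isLocallyClosed ⟨p, hp⟩
      have h0 : w ≫ i ≫ f = (1 : gT k K ⟶ G) ≫ f := by rw [hif, MonObj.comp_one, hom_one_comp]
      have h1 : w ≫ i = 1 := hgeom K (show (w ≫ i) ≫ f = _ by rw [Category.assoc]; exact h0)
      have h2 : w = 1 := by rw [← cancel_mono i, h1, hom_one_comp]
      refine hw (show gpt w = e from ?_)
      rw [h2, Hom.one_def, gpt_comp]
      exact congrArg η[N].left (Subsingleton.elim (α := PrimeSpectrum k) _ _)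
    rw [key p, key q]⟩
  haveI : IsLocallyNoetherian N.left := LocallyOfFiniteType.isLocallyNoetherian N.hom
  haveI : CompactSpace N.left := QuasiCompact.compactSpace_of_compactSpace N.hom
  haveI : IsNoetherian N.left := { }
  haveI : IsArtinianScheme N.left :=
    IsArtinianScheme.iff_isNoetherian_and_discreteTopology.2 ⟨‹_›, inferInstance⟩
  haveI : IsAffine N.left := inferInstance
  let A := Γ(N.left, ⊤)
  let φ : CommRingCat.of k ⟶ A := Spec.preimage (N.left.isoSpec.inv ≫ N.hom)
  letI : Algebra k A := φ.hom.toAlgebra
  have hφ : Spec.map (CommRingCat.ofHom (algebraMap k A)) = N.left.isoSpec.inv ≫ N.hom := Spec.map_preimage _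
  let χ' : A ⟶ CommRingCat.of k := Spec.preimage (η[N].left ≫ N.left.isoSpec.hom)
  have hχ' : Spec.map χ' = η[N].left ≫ N.left.isoSpec.hom := Spec.map_preimage _
  have hcomp : CommRingCat.ofHom (algebraMap k A) ≫ χ' = 𝟙 _ := by
    apply Spec.map_injective
    rw [Spec.map_comp, hφ, Spec.map_id]
    exact ((congrArg (· ≫ N.left.isoSpec.inv ≫ N.hom) hχ').trans (by simp [hsecN]))
  let χ : A →ₐ[k] k := { χ'.hom with commutes' := fun r => ConcreteCategory.congr_hom hcomp r }
  haveI : IsNoetherianRing A := IsLocallyNoetherian.component_noetherian ⟨⊤, isAffineOpen_top N.left⟩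
  haveI : Subsingleton (PrimeSpectrum A) := N.left.isoSpec.inv.homeomorph.injective.subsingleton
  have hinj : Function.Injective χ := by
    refine injective_of_no_tangent χ fun F hF => ?_
    let T := Over.mk (Spec.map (CommRingCat.ofHom (algebraMap k (DualNumber k))))
    let g : T ⟶ N := Over.homMk (Spec.map (CommRingCat.ofHom F.toRingHom) ≫ N.left.isoSpec.inv) (by
      rw [Category.assoc, ← hφ, ← Spec.map_comp, ← CommRingCat.ofHom_comp]
      exact congrArg (fun s => Spec.map (CommRingCat.ofHom s)) F.comp_algebraMap)
    have hx : ∀ x : 𝟙_ (Over (Spec (CommRingCat.of k))) ⟶ T, x ≫ g ≫ i = η[G] := by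
      intro x
      have hxη : x ≫ g = η[N] := by
        let ψ : CommRingCat.of (DualNumber k) ⟶ CommRingCat.of k := Spec.preimage x.left
        have hψ : Spec.map ψ = x.left := Spec.map_preimage _
        have hψc : CommRingCat.ofHom (algebraMap k (DualNumber k)) ≫ ψ = 𝟙 _ := by
          apply Spec.map_injective
          rw [Spec.map_comp, hψ, Spec.map_id]
          exact Over.w x
        have hψfst : ∀ z : DualNumber k, ψ.hom z = TrivSqZeroExt.fst z := by
          intro z
          have h1 : ∀ r : k, ψ.hom (TrivSqZeroExt.inl r) = r := fun r => ConcreteCategory.congr_hom hψc r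
          have h2 : ψ.hom (DualNumber.eps) = 0 := by
            have h : ψ.hom DualNumber.eps * ψ.hom DualNumber.eps = 0 := by
              rw [← map_mul, DualNumber.eps_mul_eps, map_zero]
            exact mul_self_eq_zero.1 h
          conv_lhs => rw [← TrivSqZeroExt.inl_fst_add_inr_snd_eq z,
            show (TrivSqZeroExt.inr z.snd : DualNumber k) = TrivSqZeroExt.inl z.snd * DualNumber.eps by ext <;> simp]
          rw [map_add, map_mul, h1, h2, mul_zero, add_zero]
        apply Over.OverMorphism.ext
        show x.left ≫ Spec.map _ ≫ N.left.isoSpec.inv = η[N].left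
        rw [← hψ, ← Category.assoc, ← Spec.map_comp, Iso.comp_inv_eq, ← hχ']
        congr 1
        ext a
        exact (hψfst _).trans (hF a)
      rw [← Category.assoc, hxη, IsMonHom.one_hom]
    have hg := htan (g ≫ i) hx (by rw [Category.assoc, hif, MonObj.comp_one, Hom.one_def])
    have hg1 : g = toUnit T ≫ η[N] := by rw [← cancel_mono i, Category.assoc, IsMonHom.one_hom]; exact hg
    have h2 := congrArg (fun s => s.left ≫ N.left.isoSpec.hom) hg1
    simp only [Over.comp_left, Category.assoc, ← hχ', g, Over.homMk_left, Iso.inv_hom_id, Category.comp_id,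
      Over.toUnit_left] at h2
    have h3 : CommRingCat.ofHom F.toRingHom = χ' ≫ CommRingCat.ofHom (algebraMap k (DualNumber k)) := by
      apply Spec.map_injective
      rw [Spec.map_comp]
      exact h2
    exact fun a => ConcreteCategory.congr_hom h3 a
  have hbij : Function.Bijective χ := ⟨hinj, fun r => ⟨algebraMap k A r, χ.commutes r⟩⟩
  haveI : IsIso χ' := (ConcreteCategory.isIso_iff_bijective _).2 hbij
  haveI : IsIso η[N].left := by
    have : IsIso (η[N].left ≫ N.left.isoSpec.hom) := hχ' ▸ inferInstance
    exact IsIso.of_isIso_comp_right η[N].left N.left.isoSpec.hom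
  haveI : IsIso η[N] := by
    haveI : IsIso ((Over.forget _).map η[N]) := ‹IsIso η[N].left›
    exact isIso_of_reflects_iso _ (Over.forget _)
  refine mono_of_trivial f fun T g hg => ?_
  obtain ⟨n, rfl⟩ := exists_of_isKernel sq g hg
  have hn : n = 1 := by
    rw [← cancel_mono (inv η[N]), Hom.one_def]
    exact toUnit_unique _ _
  rw [hn, hom_one_comp]

end Groth.Agent.S15609
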