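import Groth.Agent.L18.SchFin.Affine
import Groth.Statements.S15617
-- import your own Groth.Agent.* helpers here

set_option autoImplicit false
universe u
open SchFin SchFin.OMod

namespace Groth.Agent.S15617

open SchFin in
/-- Let X be a finite space (Noetherian rings and flat restriction maps), x a point, U an up-closed
subset of the minimal open set of x which is affine, and M a quasi-coherent module. Then restriction
from the value of M at x to the sections of M over U exhibits the module of sections over U as the
base change of the value at x along the ring map from the ring of x to the ring of sections over U.
(The published statement does not carry the hypothesis that the product of the rings of the points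
of U is faithfully flat over the ring of sections over U; this holds for every affine finite space
by a result the published proof uses and recalls without proof, and this row carries it explicitly.) -/
theorem result (X : RSpace.{u}) (hX : X.IsFinSp) (x : X.pt) (U : Set X.pt)
    (hU : U ⊆ X.up x) (hU' : IsUpperSet U) (hUa : (X.restrict U).IsAffine)
    (hff : Module.FaithfullyFlat (X.sectRing U) ((q : ↥U) → X.ring q.1)) (M : OMod X) (hM : M.IsQcoh) :
    IsBCAlong (X.resSect x U hU) (M.resSect x U hU) := by
  exact Groth.L18.SchFin.isBCAlong_resSect x hU hUa hff M hM

end Groth.Agent.S15617
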