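import Groth.Agent.L18.SchFin.Affine
import Groth.Statements.S15618
-- import your own Groth.Agent.* helpers here

set_option autoImplicit false
universe u
open SchFin SchFin.Alg

namespace Groth.Agent.S15618

open SchFin TensorProduct in
/-- Let X be a schematic finite space, A a quasi-coherent algebra on X and U an affine up-closed set of
points. Then the value of A at every point of U is flat over the ring of that point if and only if
the ring map from the sections of the rings over U to the sections of A over U is flat. (The
published statement ranges over affine open subsets; this row states the criterion for one affine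
up-closed subset and carries explicitly the hypotheses that the product of the rings of the points
of U is faithfully flat over the ring of sections of the rings over U, and likewise for the algebra;
these hold for every affine open subset and every quasi-coherent algebra by results the published
proof uses and recalls without proof.) -/
theorem result (X : RSpace.{u}) (hX : X.IsSchematic) (A : Alg X) (hA : A.IsQcoh)
    (U : Set X.pt) (hU' : IsUpperSet U) (hUa : (X.restrict U).IsAffine)
    (hφ : Module.FaithfullyFlat (X.sectRing U) ((q : ↥U) → X.ring q.1))
    (hψ : (A.total.sectRing U).subtype.FaithfullyFlat) :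
    (∀ q : X.pt, q ∈ U → Module.Flat (X.ring q) (A.carrier q)) ↔ (A.sectMap U).Flat := by
  classical
  haveI : Finite ↥U := inferInstance
  letI : ∀ q : U, Algebra (X.sectRing U) (X.ring q.1) := fun q => Groth.L18.SchFin.evalAlg U q
  haveI : Module.FaithfullyFlat (X.sectRing U) ((q : ↥U) → X.ring q.1) := Groth.L18.SchFin.ff_evalAlg hφ
  letI := (A.sectMap U).toAlgebra
  have he := fun q : U => Groth.L18.SchFin.bijective_evalAlgHom U A hA hUa q
  choose e he' using he
  refine ⟨fun h => ?_, fun h q hq => ?_⟩
  · exact Groth.L18.SchFin.flat_of_factors (fun q : U => X.ring q.1) fun q =>
      haveI := h q.1 q.2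
      Module.Flat.of_linearEquiv (e q).toLinearEquiv
  · haveI : Module.Flat (X.sectRing U) (A.total.sectRing U) := h
    exact Module.Flat.of_linearEquiv (M := X.ring (⟨q, hq⟩ : U).1 ⊗[X.sectRing U] A.total.sectRing U) (e ⟨q, hq⟩).toLinearEquiv.symm

end Groth.Agent.S15618
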