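import Groth.Agent.L18.SchFin.Affine
import Groth.Statements.S15619
-- import your own Groth.Agent.* helpers here

set_option autoImplicit false
universe u
open SchFin SchFin.Alg

namespace Groth.Agent.S15619

open SchFin TensorProduct in
/-- Let X be a schematic finite space, A a quasi-coherent algebra on X and U an affine up-closed set of
points. Then the value of A at every point of U is faithfully flat over the ring of that point if
and only if the ring of sections of A over U is faithfully flat over the ring of sections of the
rings over U, through the natural ring map. (The published statement ranges over affine open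
subsets; this row states the criterion for one affine up-closed subset and carries explicitly the
hypotheses that the product of the rings of the points of U is faithfully flat over the ring of
sections of the rings over U, and likewise for the algebra; these hold for every affine open subset
and every quasi-coherent algebra by results the published proof uses and recalls without proof.) -/
theorem result (X : RSpace.{u}) (hX : X.IsSchematic) (A : Alg X)
    (hA : A.IsQcoh)
    (U : Set X.pt) (hU' : IsUpperSet U) (hUa : (X.restrict U).IsAffine)
    (hφ : Module.FaithfullyFlat (X.sectRing U) ((q : ↥U) → X.ring q.1))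
    (hψ : (A.total.sectRing U).subtype.FaithfullyFlat) :
    (∀ q : X.pt, q ∈ U → Module.FaithfullyFlat (X.ring q) (A.carrier q)) ↔ (A.sectMap U).FaithfullyFlat := by
  classical
  haveI : Finite ↥U := inferInstance
  letI : ∀ q : U, Algebra (X.sectRing U) (X.ring q.1) := fun q => Groth.L18.SchFin.evalAlg U q
  haveI : Module.FaithfullyFlat (X.sectRing U) ((q : ↥U) → X.ring q.1) := Groth.L18.SchFin.ff_evalAlg hφ
  letI := (A.sectMap U).toAlgebra
  have he := fun q : U => Groth.L18.SchFin.bijective_evalAlgHom U A hA hUa q
  choose e he' using he
  refine ⟨fun h => ?_, fun h q hq => ?_⟩
  · haveI : Module.Flat (X.sectRing U) (A.total.sectRing U) :=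
      Groth.L18.SchFin.flat_of_factors (fun q : U => X.ring q.1) fun q =>
        haveI := (h q.1 q.2).toFlat
        Module.Flat.of_linearEquiv (e q).toLinearEquiv
    refine Module.FaithfullyFlat.of_comap_surjective fun p => ?_
    obtain ⟨q, r, rfl⟩ := Groth.L18.SchFin.exists_prime_factor (fun q : U => X.ring q.1) p
    haveI := h q.1 q.2
    obtain ⟨s, rfl⟩ := PrimeSpectrum.comap_surjective_of_faithfullyFlat (A := X.ring q.1) (B := A.carrier q.1) r
    exact ⟨PrimeSpectrum.comap (A.total.evalRing U q) s, rfl⟩
  · haveI : Module.FaithfullyFlat (X.sectRing U) (A.total.sectRing U) := h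
    exact Module.FaithfullyFlat.of_linearEquiv _ (X.ring (⟨q, hq⟩ : U).1 ⊗[X.sectRing U] A.total.sectRing U) (e ⟨q, hq⟩).toLinearEquiv.symm

end Groth.Agent.S15619
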