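import Groth.Statements.S1563
import Groth.Agent.L07.FieldStalk
import Groth.Agent.S0565
import Mathlib.RingTheory.RingHom.Flat
import Mathlib.FieldTheory.IntermediateField.Adjoin.Algebra
import Mathlib.RingTheory.RingHom.EssFiniteType

set_option autoImplicit false
set_option maxSynthPendingDepth 3
set_option synthInstance.maxHeartbeats 400000
set_option maxHeartbeats 800000
set_option backward.isDefEq.respectTransparency false
set_option backward.isDefEq.respectTransparency.types false
set_option linter.style.haveILetI false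
universe u
open CategoryTheory CategoryTheory.Limits AlgebraicGeometry
open Variety

open scoped TensorProduct
attribute [local instance] Curv2.stalkAlgebra
namespace Groth.Agent.S1563

/-- Geometric regularity descends along a morphism f of locally Noetherian k-schemes which is flat at
the point x (the map of local rings at x is flat): if X has it at x then Y has it at f(x). -/
theorem result (k : Type u) [Field k] (X Y : Scheme.{u}) [X.Over (Spec (CommRingCat.of k))] [Y.Over (Spec (CommRingCat.of k))]
    [IsLocallyNoetherian X] [IsLocallyNoetherian Y] (f : X ⟶ Y) (hf : f ≫ (Y ↘ (Spec (CommRingCat.of k))) = X ↘ (Spec (CommRingCat.of k)))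
    (x : X) (hflat : (f.stalkMap x).hom.Flat) (hx : Curv2.IsGeomRegularAt k X x) :
    Curv2.IsGeomRegularAt k Y (f.base x) := by
  intro K _ _ hfg y' hy'
  haveI : Algebra.EssFiniteType k K := IntermediateField.fg_top_iff.mp hfg
  let OY := Y.presheaf.stalk (f.base x)
  let OX := X.presheaf.stalk x
  haveI : IsNoetherianRing OY := inferInstanceAs (IsNoetherianRing (Y.presheaf.stalk (f.base x)))
  have hcomm : (f.stalkMap x).hom.comp (Curv2.stalkMap k Y (f.base x)) = Curv2.stalkMap k X x := by
    have h1 : CommRingCat.ofHom (Curv2.stalkMap k Y (f.base x)) ≫ f.stalkMap x =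
        CommRingCat.ofHom (Curv2.stalkMap k X x) := by
      apply Spec.map_injective
      rw [Spec.map_comp, Groth.L07.FieldStalk.SpecMap_stalkMap, Groth.L07.FieldStalk.SpecMap_stalkMap,
        Scheme.SpecMap_stalkMap_fromSpecStalk_assoc, hf]
    exact congrArg CommRingCat.Hom.hom h1
  let g : OY →ₐ[k] OX := { (f.stalkMap x).hom with commutes' := fun c => RingHom.congr_fun hcomm c }
  let φ : K ⊗[k] OY →ₐ[k] K ⊗[k] OX := Algebra.TensorProduct.map (AlgHom.id k K) g
  have hφ : φ.toRingHom.Flat :=
    RingHom.Flat.tensorProductMap (S := k) (f := AlgHom.id k K) (g := g) (RingHom.Flat.id K) hflat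
  obtain ⟨Q, hQ, ⟨e⟩⟩ := Groth.L07.FieldStalk.exists_point_over k Y (f.base x) K y' hy'
  let iY : OY →+* K ⊗[k] OY := (Algebra.TensorProduct.includeRight : OY →ₐ[k] K ⊗[k] OY).toRingHom
  haveI := Q.2
  obtain ⟨M, _, a, b, hab, hka, hkb⟩ := Groth.L07.FlatGeomReduced.exists_common_field iY g.toRingHom Q.asIdeal
    (IsLocalRing.maximalIdeal OX) (hQ.trans (IsLocalRing.maximalIdeal_comap (f.stalkMap x).hom).symm)
  let aK : K →+* M := a.comp Algebra.TensorProduct.includeLeftRingHom
  letI : Algebra k M := (aK.comp (algebraMap k K)).toAlgebra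
  let aA : K →ₐ[k] M := { aK with commutes' := fun _ => rfl }
  have hbk : ∀ c : k, b (algebraMap k OX c) = algebraMap k M c := fun c => by
    show b (algebraMap k OX c) = a (algebraMap k K c ⊗ₜ[k] (1 : OY))
    rw [← g.commutes, show b (g (algebraMap k OY c)) = a (iY (algebraMap k OY c)) from
      (RingHom.congr_fun hab _).symm]
    congr 1
    show (1 : K) ⊗ₜ[k] algebraMap k OY c = _
    rw [Algebra.algebraMap_eq_smul_one, Algebra.algebraMap_eq_smul_one, TensorProduct.smul_tmul]
  let bA : OX →ₐ[k] M := { b with commutes' := hbk }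
  let χ : K ⊗[k] OX →ₐ[k] M := Algebra.TensorProduct.lift aA bA fun _ _ => Commute.all _ _
  let Q' : Ideal (K ⊗[k] OX) := RingHom.ker χ.toRingHom
  haveI : Q'.IsPrime := RingHom.ker_isPrime _
  have hQ' : Q'.comap (Algebra.TensorProduct.includeRight : OX →ₐ[k] K ⊗[k] OX).toRingHom =
      IsLocalRing.maximalIdeal OX := by
    rw [← hkb]
    ext o
    simp [Q', χ, bA]
  have hQQ : Q.asIdeal = Q'.comap φ.toRingHom := by
    rw [← hka, RingHom.comap_ker]
    congr 1
    refine RingHom.ext fun z => ?_
    induction z using TensorProduct.induction_on with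
    | zero => simp
    | add p q hp hq => simp only [map_add, hp, hq]
    | tmul c o =>
      show a (c ⊗ₜ o) = χ (c ⊗ₜ g o)
      rw [Algebra.TensorProduct.lift_tmul]
      show a (c ⊗ₜ o) = a (c ⊗ₜ 1) * b (g o)
      rw [show b (g o) = a (iY o) from (RingHom.congr_fun hab o).symm, ← map_mul]
      simp [iY]
  obtain ⟨x', hx', ⟨e'⟩⟩ := Groth.L07.FieldStalk.exists_point_of_prime k X x K ⟨Q', inferInstance⟩ hQ'
  haveI := hx K hfg x' hx'
  haveI : IsRegularLocalRing (Localization.AtPrime Q') := IsRegularLocalRing.of_ringEquiv e'.symm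
  let ℓ := Localization.localRingHom Q.asIdeal Q' φ.toRingHom hQQ
  letI : Algebra (Localization.AtPrime Q.asIdeal) (Localization.AtPrime Q') := ℓ.toAlgebra
  haveI : IsLocalHom (algebraMap (Localization.AtPrime Q.asIdeal) (Localization.AtPrime Q')) :=
    Localization.isLocalHom_localRingHom _ _ _ _
  haveI : Module.Flat (Localization.AtPrime Q.asIdeal) (Localization.AtPrime Q') :=
    RingHom.Flat.localRingHom hφ _ Q.asIdeal hQQ
  haveI : IsNoetherianRing (K ⊗[k] OY) := by
    haveI : IsNoetherianRing (OY ⊗[k] K) := Algebra.EssFiniteType.isNoetherianRing OY _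
    exact isNoetherianRing_of_ringEquiv _ (Algebra.TensorProduct.comm k OY K).toRingEquiv
  haveI : IsNoetherianRing (Localization.AtPrime Q.asIdeal) :=
    IsLocalization.isNoetherianRing Q.asIdeal.primeCompl _ inferInstance
  haveI := Groth.Agent.S0565.result (Localization.AtPrime Q.asIdeal) (Localization.AtPrime Q')
  exact IsRegularLocalRing.of_ringEquiv e

end Groth.Agent.S1563
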