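import Groth.Agent.L18.SchFin.Iso
import Groth.Statements.S15631
-- import your own Groth.Agent.* helpers here

set_option autoImplicit false
universe u
open SchFin SchFin.GeomPt

namespace Groth.Agent.S15631

open SchFin CategoryTheory in
/-- For a well-connected schematic finite space and a geometric point with values in an algebraically
closed field, the fibre functor at that point (an étale cover A goes to the prime spectrum of Ω ⊗
A_x, x the point hit), on the opposite of the category of étale covers, reflects isomorphisms. (This
row carries as a hypothesis the local triviality of étale covers — for every étale cover A there are
a quasi-coherent algebra B, finite and faithfully flat at every point, and a natural number n with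
B_p ⊗ A_p isomorphic to B_p^n as a B_p-algebra at every point p — which holds for well-connected
schematic spaces, the published proof of that fact going by way of an equivalence of quasi-coherent
modules along qc-isomorphisms recalled without proof; the published statement does not carry it.) -/
theorem result (X : RSpace.{u}) (hX : X.IsSchematic)
    (hwc : X.IsWellConnected)
    (hlt : ∀ A : FEt X, ∃ (B : Alg X) (n : ℕ), B.IsCovering ∧
      ∀ p : X.pt, Nonempty (TensorProduct (X.ring p) (B.carrier p) (A.obj.carrier p) ≃ₐ[B.carrier p] (Fin n → B.carrier p)))
    {Ω : Type u} [Field Ω] [IsAlgClosed Ω] (ξ : GeomPt X Ω) : ξ.fibFunctor.ReflectsIsomorphisms := by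
  exact Groth.L18.SchFin.reflectsIsomorphisms ξ hX hwc

end Groth.Agent.S15631
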