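import Groth.Statements.S15645
import Groth.Agent.L21.Nodal.SmoothOne
import Groth.Agent.L21.Nodal.PostEtale
-- import your own Groth.Agent.* helpers here

set_option autoImplicit false
universe u
open StrictSS

namespace Groth.Agent.S15645

open CategoryTheory CategoryTheory.Limits AlgebraicGeometry in
theorem lineZero_toBase (A : Type u) [CommRing A] :
    lineZero A ≫ lineToBase A = 𝟙 (Spec (CommRingCat.of A)) := by
  rw [lineZero, lineToBase, ← Spec.map_comp, ← Spec.map_id]
  congr 1
  ext a
  simp

open CategoryTheory CategoryTheory.Limits AlgebraicGeometry in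
theorem smooth_lineToBase (A : CommRingCat.{u}) : Smooth (lineToBase A) := by
  rw [lineToBase, HasRingHomProperty.Spec_iff (P := @Smooth)]
  change (algebraMap A (Polynomial A)).Smooth
  rw [RingHom.smooth_algebraMap]
  haveI : Algebra.Smooth A (MvPolynomial (Fin 1) A) := ⟨inferInstance, inferInstance⟩
  exact Algebra.Smooth.of_equiv (MvPolynomial.uniqueAlgEquiv A (Fin 1))

open CategoryTheory CategoryTheory.Limits AlgebraicGeometry in
theorem isNodalFamily_lineToBase (A : CommRingCat.{u}) : Curv2.IsNodalFamily (lineToBase A) := by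
  let e : CommRingCat.of (MvPolynomial (Fin 1) A) ≅ CommRingCat.of (Polynomial A) :=
    (MvPolynomial.uniqueAlgEquiv A (Fin 1)).toRingEquiv.toCommRingCatIso
  have h : Spec.map e.hom ≫ Groth.L21.Nodal.affProj 1 A = lineToBase A := by
    rw [Groth.L21.Nodal.affProj, lineToBase, ← Spec.map_comp]
    congr 1
    refine CommRingCat.hom_ext (RingHom.ext fun a => ?_)
    exact (MvPolynomial.uniqueAlgEquiv A (Fin 1)).commutes a
  rw [← h]
  exact Groth.L21.Nodal.comp_etale (Groth.L21.Nodal.affProj 1 A) (Spec.map e.hom)
    (Groth.L21.Nodal.isNodalFamily_affineLine A)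

open CategoryTheory CategoryTheory.Limits AlgebraicGeometry in
theorem isNodalFamily_node {U : Scheme.{u}} (A : CommRingCat.{u}) (a : A)
    (f : U ⟶ Spec (CommRingCat.of (NodeAlg A a))) [Etale f] [Flat (f ≫ nodeToBase A a)] :
    Curv2.IsNodalFamily (f ≫ nodeToBase A a) := by
  have hI : Ideal.span {(MvPolynomial.X 0 * MvPolynomial.X 1 + MvPolynomial.C (-a) : MvPolynomial (Fin 2) A)} =
      Ideal.span {(MvPolynomial.X 0 * MvPolynomial.X 1 - MvPolynomial.C a : MvPolynomial (Fin 2) A)} := by
    rw [map_neg, sub_eq_add_neg]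
  let e : CommRingCat.of (Groth.L21.Nodal.NodeModel A (-a)) ≅ CommRingCat.of (NodeAlg A a) :=
    (Ideal.quotientEquivAlgOfEq A hI).toRingEquiv.toCommRingCatIso
  refine Groth.L21.Nodal.isNodalFamily_of_model (-a) _ (f ≫ Spec.map e.hom) ?_
  rw [Category.assoc, nodeToBase, ← Spec.map_comp]
  congr 2


open CategoryTheory CategoryTheory.Limits AlgebraicGeometry in
/-- A strictly semistable multipointed curve (C, D) over a scheme S is semistable. Here (C, D) is a
multipointed S-curve (C flat, finitely presented and of pure relative dimension one over S; D a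
closed subscheme of C, flat, finitely presented and of relative dimension zero over S) every point
of which has an open neighbourhood U, over an affine open Spec A of S, with an etale morphism of
pairs from (U, D ∩ U) to the line model (Spec A[T], zero section) or, when no marked point lies in
U, an etale morphism from U to a node model Spec A[u, v]/(uv - a); the conclusion is that C → S is
an at-worst-nodal family of curves, D → S is etale and D misses the non-smooth locus of C → S. (The
published remark concerns curves over the spectrum of a valuation ring; the notion and the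
implication are local on the base, and this row states the implication over an arbitrary base
scheme.) -/
theorem result
    {C D S : Scheme.{u}} (φ : C ⟶ S) (i : D ⟶ C) (h : StrictSS.IsStrictlySemistable φ i) :
    SSMod.IsSemistable φ i := by
  obtain ⟨hmp, hch⟩ := h
  have hmp' := hmp
  obtain ⟨hflat, hlfp, -, -, -, hi, -, -, -⟩ := hmp'
  have hline : ∀ x : C, x ∈ Set.range (i.base : D → C) → HasLineChartAt φ i x := fun x hx => by
    refine (hch x).resolve_right ?_
    rintro ⟨A, j, hj, U, hxU, q, hq, a, f, hf, hfq, hdis⟩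
    exact Set.disjoint_left.1 hdis hx hxU
  have hloc : ∀ x : C, ∃ U : C.Opens, x ∈ U ∧ Curv2.IsNodalFamily (U.ι ≫ φ) := fun x => by
    rcases hch x with ⟨A, j, hj, U, hxU, q, hq, f, fD, hf, hfq, -, -⟩ | ⟨A, j, hj, U, hxU, q, hq, a, f, hf, hfq, -⟩
    · refine ⟨U, hxU, ?_⟩
      rw [hq, ← hfq]
      exact Groth.L21.Nodal.postcomp_etale j _
        (Groth.L21.Nodal.comp_etale (lineToBase A) f (isNodalFamily_lineToBase A))
    · refine ⟨U, hxU, ?_⟩
      rw [hq]
      haveI : Flat (q ≫ j) := hq ▸ inferInstance
      haveI : Flat q := Groth.L21.Nodal.flat_of_comp_etale q j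
      subst hfq
      exact Groth.L21.Nodal.postcomp_etale j _ (isNodalFamily_node A a f)
  refine ⟨hmp, ?_, ?_, ?_⟩
  · choose U hxU hU using hloc
    exact Groth.L21.Nodal.of_etale_cover φ (fun x => (U x : Scheme.{u})) (fun x => (U x).ι)
      (fun x => ⟨x, ⟨⟨x, hxU x⟩, rfl⟩⟩) hU
  · choose A j hj U hxU q hq f fD hf hfq hfD hfac using fun d : D => hline (i.base d) ⟨d, rfl⟩
    have hcov : ⨆ d, i ⁻¹ᵁ U d = ⊤ :=
      top_le_iff.mp fun d _ => TopologicalSpace.Opens.mem_iSup.mpr ⟨d, hxU d⟩
    rw [IsZariskiLocalAtSource.iff_of_iSup_eq_top (P := @Etale) _ hcov]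
    intro d
    haveI := hfD d
    haveI := hj d
    have he : (i ⁻¹ᵁ U d).ι ≫ i ≫ φ = fD d ≫ j d := by
      rw [← Category.assoc, ← morphismRestrict_ι, Category.assoc, hq, ← hfq d, Category.assoc,
        ← Category.assoc (i ∣_ U d), ← hfac d, Category.assoc, ← Category.assoc (lineZero _),
        lineZero_toBase]
      exact congrArg (fD d ≫ ·) (Category.id_comp _)
    rw [he]
    infer_instance
  · rw [Set.disjoint_left]
    intro x hx hns
    obtain ⟨A, j, hj, U, hxU, q, hq, f, fD, hf, hfq, -, -⟩ := hline x hx
    haveI := smooth_lineToBase A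
    haveI : Smooth (U.ι ≫ φ) := by rw [hq, ← hfq]; infer_instance
    have hm : (⟨x, hxU⟩ : U) ∈ (U.ι ≫ φ).smoothLocus := by rw [Scheme.Hom.smoothLocus_eq_top]; trivial
    rw [← Scheme.Hom.preimage_smoothLocus_eq] at hm
    exact hns hm

end Groth.Agent.S15645
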