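import Groth.Statements.S15654
import Groth.Agent.L26.AV.FrobRH
import Mathlib.RingTheory.Artinian.Module
import Mathlib.RingTheory.AdjoinRoot
import Mathlib.RingTheory.SimpleModule.Basic

set_option autoImplicit false
universe u
open CategoryTheory MonoidalCategory CartesianMonoidalCategory MonObj GrpObj AlgebraicGeometry
open AbVar

namespace Groth.Agent.S15654

open Groth.Agent.AV Polynomial

/-- First assertion: let A be an abelian variety over a finite field k with q elements (a proper,
geometrically integral commutative group scheme over k) and π_A its q-Frobenius endomorphism (the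
identity on points and the q-th power map on sections; a homomorphism). Then the ℚ-subalgebra ℚ[π_A]
of End⁰(A) = ℚ ⊗_ℤ End_k(A) (End_k(A) the ring of endomorphisms defined over k) generated by the
image 1 ⊗ π_A of the Frobenius endomorphism is a semisimple ring. -/
theorem result (k : Type u) [Field k] [Finite k]
    (A : Over (Spec (CommRingCat.of k)))
    [GrpObj A] [IsCommMonObj A] [IsProper A.hom] [GeometricallyIntegral A.hom]
    (πA : A ⟶ A) [IsMonHom πA] (hπAb : πA.left.base = 𝟙 _)
    (hπAle : ∀ U : A.left.Opens, U ≤ πA.left ⁻¹ᵁ U)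
    (hπAapp : ∀ (U : A.left.Opens) (s : Γ(A.left, U)), (πA.left.appLE U U (hπAle U)).hom s = s ^ Nat.card k) :
    IsSemisimpleRing (EndAV.QAdj (EndAV.End.of πA)) := by
  obtain ⟨m, hmm, hm0, hsq, -⟩ := FrobRH.exists_mu πA (Nat.card k)
    (FrobRH.pullPow_of_frobenius πA (Nat.card k) hπAle hπAapp) Nat.card_pos
  let x : EndAV.End0 A := EndAV.toEnd0 (EndAV.End.of πA)
  let p : ℚ[X] := m.map (Int.castRingHom ℚ)
  have hx : aeval x p = 0 := by
    rw [show Int.castRingHom ℚ = algebraMap ℤ ℚ from rfl] at *
    rw [show p = m.map (algebraMap ℤ ℚ) from rfl, aeval_map_algebraMap]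
    show aeval ((EndAV.toEnd0 (A := A)).toRingHom (EndAV.End.of πA)) m = 0
    rw [FrobRH.aeval_ringHom, hm0, map_zero]
  let R := ℚ[X] ⧸ Ideal.span {p}
  haveI : IsReduced R :=
    (Ideal.isRadical_iff_quotient_reduced _).mp (isRadical_iff_span_singleton.mp hsq.isRadical)
  haveI : FiniteDimensional ℚ R := (AdjoinRoot.powerBasis (hmm.map _).ne_zero).finite
  haveI : IsArtinianRing R := .of_finite ℚ R
  haveI : IsSemisimpleRing R := IsArtinianRing.isSemisimpleRing_of_isReduced R
  let f : R →ₐ[ℚ] EndAV.QAdj (EndAV.End.of πA) := Ideal.Quotient.liftₐ _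
    ((aeval x).codRestrict (Algebra.adjoin ℚ {x}) fun a => aeval_mem_adjoin_singleton ℚ x) fun a ha => by
      obtain ⟨c, rfl⟩ := Ideal.mem_span_singleton.1 ha
      exact Subtype.ext (by simp [hx])
  refine RingHom.isSemisimpleRing_of_surjective f.toRingHom ?_
  rintro ⟨y, hy⟩
  rw [EndAV.QAdj, Algebra.adjoin_singleton_eq_range_aeval] at hy
  obtain ⟨a, ha⟩ := hy
  exact ⟨Ideal.Quotient.mk _ a, Subtype.ext ha⟩

end Groth.Agent.S15654
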