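import Groth.Statements.S15655
import Groth.Agent.L00.IsogenyDual
import Groth.Agent.L26.AV.Image
import Groth.Agent.L26.AV.DimQF
import Groth.Agent.L26.AV.Isogeny
set_option linter.style.haveILetI false

set_option autoImplicit false
universe u
open CategoryTheory MonoidalCategory CartesianMonoidalCategory MonObj GrpObj AlgebraicGeometry
open AbVar

namespace Groth.Agent.S15655

/-- Proof step: let A be a simple abelian variety over a field k — a proper, geometrically integral
commutative group scheme over k whose only abelian subvarieties over k (geometrically integral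
closed subgroup schemes) are the trivial subgroup and A itself. Then every non-zero element of
End⁰(A) = ℚ ⊗_ℤ End_k(A) (End_k(A) the ring of endomorphisms defined over k) is invertible: End⁰(A)
is a division algebra. (The published proposition is the semisimplicity of End⁰(A) for every abelian
variety; this row states the step of its proof for simple A.) -/
theorem result (k : Type u) [Field k]
    (A : Over (Spec (CommRingCat.of k)))
    [GrpObj A] [IsCommMonObj A] [IsProper A.hom] [GeometricallyIntegral A.hom]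
    (hsimple : ∀ (B : Over (Spec (CommRingCat.of k))) [GrpObj B] [GeometricallyIntegral B.hom] (i : B ⟶ A) [IsMonHom i]
      [IsClosedImmersion i.left], Subsingleton B.left ∨ IsIso i) :
    ∀ x : EndAV.End0 A, x ≠ 0 → IsUnit x := by
  intro x hx
  obtain ⟨m, hm, φ, rfl⟩ : ∃ (m : ℕ), m ≠ 0 ∧ ∃ φ : EndAV.End A, x = (m : ℚ)⁻¹ ⊗ₜ[ℤ] φ := by
    clear hx
    induction x using TensorProduct.induction_on with
    | zero => exact ⟨1, one_ne_zero, 0, (TensorProduct.tmul_zero _ _).symm⟩
    | tmul q φ =>
      refine ⟨q.den, q.den_nz, q.num • φ, ?_⟩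
      rw [← TensorProduct.smul_tmul, zsmul_eq_mul, ← div_eq_mul_inv, Rat.num_div_den]
    | add a b ha hb =>
      obtain ⟨m, hm, φ, rfl⟩ := ha
      obtain ⟨l, hl, ψ, rfl⟩ := hb
      refine ⟨m * l, mul_ne_zero hm hl, (l : ℤ) • φ + (m : ℤ) • ψ, ?_⟩
      rw [TensorProduct.tmul_add, ← TensorProduct.smul_tmul, ← TensorProduct.smul_tmul, zsmul_eq_mul, zsmul_eq_mul]
      have hm' : (m : ℚ) ≠ 0 := Nat.cast_ne_zero.2 hm
      have hl' : (l : ℚ) ≠ 0 := Nat.cast_ne_zero.2 hl
      push_cast
      congr 2 <;> field_simp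
  have hφ : φ.toHom ≠ 1 := fun h => hx (by
    rw [show φ = 0 from EndAV.End.ext h, TensorProduct.tmul_zero])
  obtain ⟨B, _, i, p, hi, hic, hBp, hBi, hps, hpi, hpm⟩ := Groth.Agent.AV.exists_image φ.toHom
  haveI := hi; haveI := hic; haveI := hBi; haveI := hBp; haveI := hps
  rcases hsimple B i with hsub | hiso
  · exfalso
    haveI := hsub
    haveI : IsIntegral B.left := GeometricallyIntegral.isIntegral_of_subsingleton B.hom
    haveI : IsClosedImmersion η[B].left := by
      haveI : IsClosedImmersion (η[B].left ≫ B.hom) := by rw [Over.w]; exact inferInstanceAs (IsClosedImmersion (𝟙 _))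
      exact IsClosedImmersion.of_comp η[B].left B.hom
    haveI : Surjective η[B].left := ⟨fun b => ⟨(inferInstance : Nonempty (Spec (CommRingCat.of k))).some, Subsingleton.elim _ _⟩⟩
    haveI : IsIso η[B].left := isIso_of_isClosedImmersion_of_surjective η[B].left
    haveI : IsIso η[B] := by
      haveI : IsIso ((Over.forget _).map η[B]) := ‹IsIso η[B].left›
      exact isIso_of_reflects_iso η[B] (Over.forget _)
    refine hφ ?_
    rw [← hpi, show p = 1 by rw [← cancel_mono (inv η[B])]; exact toUnit_unique _ _, MonObj.one_comp]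
  · haveI : GeometricallyConnected A.hom := Groth.Agent.AV.Isogeny.geometricallyConnected A.hom
    haveI : LocallyOfFinitePresentation A.hom := inferInstance
    haveI : Surjective φ.toHom.left := by
      haveI := hiso
      haveI : IsIso i.left := inferInstanceAs (IsIso ((Over.forget _).map i))
      rw [← hpi, Over.comp_left]
      infer_instance
    haveI : IsIntegral A.left := GeometricallyIntegral.isIntegral_of_subsingleton A.hom
    haveI : LocallyQuasiFinite φ.toHom.left :=
      Groth.Agent.AV.locallyQuasiFinite_of_surjective_of_dim_eq A A φ.toHom rfl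
    haveI : IsProper (φ.toHom.left ≫ A.hom) := by rw [Over.w]; infer_instance
    haveI : IsProper φ.toHom.left := IsProper.of_comp φ.toHom.left A.hom
    haveI : IsFinite φ.toHom.left := IsFinite.of_isProper_of_locallyQuasiFinite _
    haveI : Flat φ.toHom.left := (Groth.L08.FlatHom.flat_of_surjective_fibres A A φ.toHom).1
    haveI := Groth.L00.IsogDual.lfp_left φ.toHom
    let s₀ : Spec (CommRingCat.of k) := (inferInstance : Nonempty (Spec (CommRingCat.of k))).some
    let n := Scheme.Hom.finrank φ.toHom.left (η[A].left s₀)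
    have hn : 1 ≤ n := (Scheme.Hom.one_le_finrank_iff_surjective φ.toHom.left).2 inferInstance _
    obtain ⟨⟨g, ⟨hgm, hg⟩, -⟩, h2⟩ := Groth.L00.IsogDual.exists_factor φ.toHom n hn
      (fun s => by rw [Subsingleton.elim s s₀])
    haveI := hgm
    obtain ⟨hg', -⟩ := h2 g hgm hg
    have e1 : EndAV.End.of g * φ = (n : EndAV.End A) := EndAV.End.ext (by
      rw [EndAV.End.toHom_natCast, EndAV.End.toHom_mul, EndAV.End.toHom_of, hg])
    have e2 : φ * EndAV.End.of g = (n : EndAV.End A) := EndAV.End.ext (by
      rw [EndAV.End.toHom_natCast, EndAV.End.toHom_mul, EndAV.End.toHom_of, hg'])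
    have hn' : (n : ℚ) ≠ 0 := Nat.cast_ne_zero.2 (by omega)
    have hm' : (m : ℚ) ≠ 0 := Nat.cast_ne_zero.2 hm
    have hc : ∀ q : ℚ, q ⊗ₜ[ℤ] (n : EndAV.End A) = (q * n) ⊗ₜ[ℤ] (1 : EndAV.End A) := fun q => by
      rw [show (n : EndAV.End A) = (n : ℤ) • (1 : EndAV.End A) by simp, ← TensorProduct.smul_tmul, zsmul_eq_mul,
        Int.cast_natCast, mul_comm]
    refine ⟨⟨(m : ℚ)⁻¹ ⊗ₜ[ℤ] φ, ((m : ℚ) / n) ⊗ₜ[ℤ] EndAV.End.of g, ?_, ?_⟩, rfl⟩
    · rw [Algebra.TensorProduct.tmul_mul_tmul, e2, hc, Algebra.TensorProduct.one_def]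
      congr 1; field_simp
    · rw [Algebra.TensorProduct.tmul_mul_tmul, e1, hc, Algebra.TensorProduct.one_def]
      congr 1; field_simp

end Groth.Agent.S15655
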