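import Groth.Statements.S15656
import Groth.Agent.L26.AV.Degree

set_option autoImplicit false
universe u
open CategoryTheory MonoidalCategory CartesianMonoidalCategory MonObj GrpObj AlgebraicGeometry
open AbVar

namespace Groth.Agent.S15656

open CategoryTheory CategoryTheory.Limits MonoidalCategory CartesianMonoidalCategory MonObj AlgebraicGeometry

/-- Remark preceding it: let A and B be abelian varieties over a field k (proper, geometrically integral
commutative group schemes over k). Then the additive group Hom_k(A, B) of homomorphisms A → B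
defined over k (sum = pointwise product in the group law of B) is torsion-free: if n·f = 0 for an
integer n ≠ 0 then f = 0. -/
theorem result (k : Type u) [Field k]
    (A B : Over (Spec (CommRingCat.of k)))
    [GrpObj A] [IsCommMonObj A] [IsProper A.hom] [GeometricallyIntegral A.hom]
    [GrpObj B] [IsCommMonObj B] [IsProper B.hom] [GeometricallyIntegral B.hom] :
    NoZeroSMulDivisors ℤ (EndAV.Hom A B) := by
  refine ⟨fun {n f} h => or_iff_not_imp_left.2 fun hn => ?_⟩
  obtain ⟨m, hm, hmn⟩ : ∃ m : ℕ, 1 ≤ m ∧ m • f = 0 := by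
    refine ⟨n.natAbs, Int.natAbs_pos.2 hn, ?_⟩
    rcases Int.natAbs_eq n with e | e
    · rwa [e, natCast_zsmul] at h
    · rwa [e, neg_zsmul, natCast_zsmul, neg_eq_zero] at h
  obtain ⟨_, _, _, _⟩ := Groth.Agent.AV.Degree.isogeny_pow (A := A) hm
  haveI : Epi (𝟙 A ^ m).left := Flat.epi_of_flat_of_surjective _
  haveI : Epi (𝟙 A ^ m) := Over.epi_of_epi_left _
  haveI : IsMonHom f.toHom := EndAV.Hom.isMonHom_toHom f
  apply EndAV.Hom.ext
  rw [EndAV.Hom.toHom_zero, ← cancel_epi (𝟙 A ^ m), MonObj.comp_one, MonObj.pow_comp, Category.id_comp,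
    ← EndAV.Hom.toHom_nsmul, hmn, EndAV.Hom.toHom_zero]

end Groth.Agent.S15656
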