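import Groth.Statements.S1566
import Groth.Agent.L21.RR.BirationalGenus

set_option autoImplicit false
universe u
open CategoryTheory CategoryTheory.Limits AlgebraicGeometry
open Curves

namespace Groth.Agent.S1566

/-- Let X be proper of dimension at most one over k and f : Y → X a finite morphism which is a closed
immersion over a dense open of X. Then the k-dimension of H^1 of the structure sheaf of Y is at most
that of X. -/
theorem result (k : Type u) [Field k] (X Y : Scheme.{u}) [X.Over (Spec (CommRingCat.of k))] [Y.Over (Spec (CommRingCat.of k))]
    [IsProper (X ↘ (Spec (CommRingCat.of k)))] (hdim : topologicalKrullDim X ≤ 1) (f : Y ⟶ X) [IsFinite f] (hf : f ≫ (X ↘ (Spec (CommRingCat.of k))) = Y ↘ (Spec (CommRingCat.of k)))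
    (U : X.Opens) (hU : Dense (U : Set X)) (hfU : IsClosedImmersion (f ∣_ U)) :
    Curv2.genus k Y ≤ Curv2.genus k X := by
  haveI := hfU
  exact Groth.L21.RR.genus_le_of_closedImmersion_over_dense f k hdim hf hU

end Groth.Agent.S1566
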