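import Groth.Statements.S15686
import Groth.Agent.L24.Count.Twist
import Groth.Agent.L24.Count.Rational

set_option autoImplicit false
set_option backward.isDefEq.respectTransparency.types false
universe u
open CategoryTheory AlgebraicGeometry MonObj
open StackCount

namespace Groth.Agent.S15686

/-- Let k be a finite field with algebraic closure k̄, G a smooth affine algebraic group over k acting
on a variety X over k (reduced and of finite type), and [X/G] the quotient stack whose objects over
a k-scheme T are G-torsors P → T (schemes, locally trivial for the étale topology) with a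
G-equivariant morphism P → X. Suppose the Galois cohomology set H¹(k, G) (continuous cocycles of
Gal(k̄/k) with values in G(k̄), up to equivalence) is finite, and choose for every class c a
continuous cocycle z_c in it, a twist X_c of X by z_c through the action (a k-scheme whose base
change to k̄ is identified with that of X so that the Galois action becomes x ↦ z_c(σ) · σx), and
the inner form G_c of G determined by z_c. If the groupoid of k-points of [X/G] is essentially
finite, then its point count (the sum over isomorphism classes of the inverse orders of the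
automorphism groups) equals the sum over the classes c of #X_c(k) / #G_c(k). (The published
statement is for the k′-points over any finite extension k′ of k and for any smooth algebraic group
G; this row is the case k′ = k, to which the general case reduces by base change, and takes G affine
so that every torsor is a scheme.) -/
theorem result (k : Type u) [Field k] [Finite k]
    (kb : Type u) [Field kb] [Algebra k kb] [IsAlgClosure k kb]
    (G : Over (Spec (CommRingCat.of k))) [GrpObj G] [Smooth G.hom] [IsAffineHom G.hom]
    (X : Over (Spec (CommRingCat.of k))) [LocallyOfFiniteType X.hom] [QuasiCompact X.hom]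
    [IsReduced X.left] (aX : AlgGrp.Action G X)
    [Fintype (GpH1.H1lc (kb ≃ₐ[k] kb) (SGA7.Pts kb G))]
    (z : GpH1.H1lc (kb ≃ₐ[k] kb) (SGA7.Pts kb G) → GpH1.OneCocycleLC (kb ≃ₐ[k] kb) (SGA7.Pts kb G))
    (hz : ∀ c, (z c).cl = c)
    (Xz : GpH1.H1lc (kb ≃ₐ[k] kb) (SGA7.Pts kb G) → Over (Spec (CommRingCat.of k)))
    (hXz : ∀ c, GalTw.IsActTwist kb aX (z c).1 (Xz c))
    (Gin : GpH1.H1lc (kb ≃ₐ[k] kb) (SGA7.Pts kb G) → Over (Spec (CommRingCat.of k)))
    [∀ c, GrpObj (Gin c)]
    (hGin : ∀ c, GalTw.IsInnTwist kb G (z c).1 (Gin c))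
    (h : StkCnt.IsEssFinite (StkCnt.pts (AlgSt.QuotSt Scheme.etalePrecoverage G aX) k)) :
    StkCnt.ptCount (AlgSt.QuotSt Scheme.etalePrecoverage G aX) k h =
      ∑ c : GpH1.H1lc (kb ≃ₐ[k] kb) (SGA7.Pts kb G),
        (Nat.card (SGA7.Pts k (Xz c)) : ℚ) / (Nat.card (SGA7.Pts k (Gin c)) : ℚ) := by
  haveI : IsAlgClosed kb := IsAlgClosure.isAlgClosed k
  haveI : Algebra.IsAlgebraic k kb := IsAlgClosure.isAlgebraic
  haveI : QuasiCompact G.hom := inferInstance
  obtain ⟨hbij, hcl⟩ := Groth.L14.Stack.cocycle_bijective (A := SGA7.Pts kb G) (Groth.L24.Count.frob k kb)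
    Groth.L24.Count.frob_apply Groth.L24.Count.isOpen_stab Groth.L24.Count.exists_stable
  let a : GpH1.H1lc (kb ≃ₐ[k] kb) (SGA7.Pts kb G) → SGA7.Pts kb G := fun c => (z c).1 (Groth.L24.Count.frob k kb)
  have hall : ∀ b, ∃ c, Groth.L24.Count.Conj b (a c) := fun b => by
    obtain ⟨w, hw⟩ := hbij.2 b
    obtain ⟨g, hg⟩ := (hcl w (z w.cl)).1 (hz _).symm
    exact ⟨w.cl, g, (hg.trans (by rw [← hw])).symm⟩
  have hdis : ∀ i j, Groth.L24.Count.Conj (a i) (a j) → i = j := fun i j ⟨g, hg⟩ => by
    rw [← hz i, ← hz j]
    exact (hcl (z i) (z j)).2 ⟨g, hg.symm⟩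
  refine (Groth.L24.Count.count_eq_sum aX h a hdis hall).trans (Finset.sum_congr rfl fun c _ => ?_)
  rw [Groth.L24.Count.nat_card_actTwist (z c).1 (hXz c), Groth.L24.Count.nat_card_innTwist (z c).1 (hGin c)]

end Groth.Agent.S15686
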