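import Groth.Statements.S15687
import Groth.Agent.L24.Count.ExactSeq

set_option autoImplicit false
set_option backward.isDefEq.respectTransparency.types false
universe u
open CategoryTheory AlgebraicGeometry MonObj
open GalTw

namespace Groth.Agent.S15687

/-- Let k be a finite field with algebraic closure k̄, and let A, B, C be smooth algebraic groups over k
with homomorphisms i : A → B and π : B → C forming a short exact sequence 1 → A → B → C → 1 (π ∘ i
trivial, B a pseudo-torsor over C under A acting through i, and π acquiring sections fppf-locally on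
C), with A connected. Then the map H¹(k, B) → H¹(k, C) induced by π on the continuous Galois
cohomology sets (continuous cocycles of Gal(k̄/k) with values in the k̄-points, up to equivalence)
is bijective. -/
theorem result (k : Type u) [Field k] [Finite k]
    (kb : Type u) [Field kb] [Algebra k kb] [IsAlgClosure k kb]
    (A B C : Over (Spec (CommRingCat.of k))) [GrpObj A] [GrpObj B] [GrpObj C]
    [Smooth A.hom] [Smooth B.hom] [Smooth C.hom]
    [QuasiCompact A.hom] [QuasiCompact B.hom] [QuasiCompact C.hom]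
    (i : A ⟶ B) (π : B ⟶ C) [IsMonHom i] [IsMonHom π]
    (hex : NonAbH1.IsExactSeq Scheme.fppfPrecoverage i π) [ConnectedSpace A.left] :
    Function.Bijective
      (GalTw.H1lcMap (GalTw.ptsMap (K := kb) π) (GalTw.ptsMap_smul (K := kb) π)) := by
  haveI : IsAlgClosed kb := IsAlgClosure.isAlgClosed k
  haveI : Algebra.IsAlgebraic k kb := IsAlgClosure.isAlgebraic
  let fr := Groth.L24.Count.frob k kb
  obtain ⟨-, hclB⟩ := Groth.L14.Stack.cocycle_bijective (A := SGA7.Pts kb B) fr
    Groth.L24.Count.frob_apply Groth.L24.Count.isOpen_stab Groth.L24.Count.exists_stable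
  obtain ⟨-, hclC⟩ := Groth.L14.Stack.cocycle_bijective (A := SGA7.Pts kb C) fr
    Groth.L24.Count.frob_apply Groth.L24.Count.isOpen_stab Groth.L24.Count.exists_stable
  refine ⟨fun x y => ?_, fun y => ?_⟩
  · induction x using Quotient.inductionOn with | h z => ?_
    induction y using Quotient.inductionOn with | h w => ?_
    intro h
    obtain ⟨g, hg⟩ := (hclC _ _).1 h
    change (w.1 fr : SGA7.Pts kb B) ≫ π = g * (z.1 fr ≫ π) * (fr • g)⁻¹ at hg
    obtain ⟨g', rfl⟩ := Groth.L24.Count.exists_lift_point hex g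
    have hsm : fr • (g' ≫ π : SGA7.Pts kb C) = (fr • g') ≫ π := (GalTw.ptsMap_smul (K := kb) π fr g').symm
    let b₂ : SGA7.Pts kb B := g' * z.1 fr * (fr • g')⁻¹
    obtain ⟨a, ha⟩ := Groth.L24.Count.exact_exists_of_eq hex (b := b₂) (b' := w.1 fr) (by
      rw [hg, MonObj.mul_comp, MonObj.mul_comp, GrpObj.inv_comp, hsm])
    obtain ⟨c, hc⟩ := Groth.L24.Count.exact_exists_conj hex
    obtain ⟨g₀, hg₀⟩ := Groth.L24.Count.exists_twisted_lang (kb := kb) i
      (fun _ _ e => Groth.L24.Count.exact_injective hex e) c hc b₂ a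
    refine (hclB z w).2 ⟨(g₀ ≫ i) * g', ?_⟩
    rw [← ha, ← hg₀, smul_mul']
    simp only [b₂, fr]
    group
  · induction y using Quotient.inductionOn with | h w => ?_
    obtain ⟨b, hb⟩ := Groth.L24.Count.exists_lift_point hex (w.1 fr)
    obtain ⟨z, hz⟩ := Groth.L14.Stack.exists_cocycle (A := SGA7.Pts kb B) fr Groth.L24.Count.frob_apply
      Groth.L24.Count.isOpen_stab Groth.L24.Count.exists_stable b
    refine ⟨z.cl, ?_⟩
    refine congrArg GpH1.OneCocycleLC.cl (Groth.L14.Stack.cocycle_ext fr Groth.L24.Count.frob_apply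
      (GalTw.lcMap (GalTw.ptsMap (K := kb) π) (GalTw.ptsMap_smul (K := kb) π) z) w ?_)
    show z.1.1 fr ≫ π = w.1.1 fr
    rw [hz, hb]

end Groth.Agent.S15687
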