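import Groth.Statements.S15688
import Groth.Agent.L24.Count.ExactSeq
import Groth.Agent.L24.Count.Rational

set_option autoImplicit false
set_option backward.isDefEq.respectTransparency.types false
universe u
open CategoryTheory AlgebraicGeometry MonoidalCategory CartesianMonoidalCategory MonObj
open StackCount

namespace Groth.Agent.S15688

/-- Let k be a finite field with algebraic closure k̄, and let A, B, C be smooth algebraic groups over k
with homomorphisms i : A → B and π : B → C forming a short exact sequence 1 → A → B → C → 1 (π ∘ i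
trivial, B a pseudo-torsor over C under A acting through i, and π acquiring sections fppf-locally on
C), with A connected; let c be the action of B on A by conjugation, i.e. an action with i(b · a) = b
i(a) b⁻¹. Let z be a continuous cocycle of Gal(k̄/k) with values in B(k̄), A_z a twist of A by z
through the action c, B_z an inner form of B by z, and C_z an inner form of C by the image of z
under π. Then the numbers of k-points satisfy #B_z(k) = #A_z(k) · #C_z(k). -/
theorem result (k : Type u) [Field k] [Finite k]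
    (kb : Type u) [Field kb] [Algebra k kb] [IsAlgClosure k kb]
    (A B C : Over (Spec (CommRingCat.of k))) [GrpObj A] [GrpObj B] [GrpObj C]
    [Smooth A.hom] [Smooth B.hom] [Smooth C.hom]
    [QuasiCompact A.hom] [QuasiCompact B.hom] [QuasiCompact C.hom]
    (i : A ⟶ B) (π : B ⟶ C) [IsMonHom i] [IsMonHom π]
    (hex : NonAbH1.IsExactSeq Scheme.fppfPrecoverage i π) [ConnectedSpace A.left]
    (c : AlgGrp.Action B A) (hc : c.act ≫ i = fst B A * (snd B A ≫ i) * (fst B A)⁻¹)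
    (z : GpH1.OneCocycleLC (kb ≃ₐ[k] kb) (SGA7.Pts kb B))
    (Az : Over (Spec (CommRingCat.of k))) (hAz : GalTw.IsActTwist kb c z.1 Az)
    (Bz : Over (Spec (CommRingCat.of k))) [GrpObj Bz] (hBz : GalTw.IsInnTwist kb B z.1 Bz)
    (Cz : Over (Spec (CommRingCat.of k))) [GrpObj Cz]
    (hCz : GalTw.IsInnTwist kb C
      (GalTw.lcMap (GalTw.ptsMap (K := kb) π) (GalTw.ptsMap_smul (K := kb) π) z).1 Cz) :
    Nat.card (SGA7.Pts k Bz) = Nat.card (SGA7.Pts k Az) * Nat.card (SGA7.Pts k Cz) := by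
  haveI : IsAlgClosed kb := IsAlgClosure.isAlgClosed k
  let fr := Groth.L24.Count.frob k kb
  let b : SGA7.Pts kb B := z.1 fr
  rw [Groth.L24.Count.nat_card_innTwist z.1 hBz, Groth.L24.Count.nat_card_actTwist z.1 hAz,
    Groth.L24.Count.nat_card_innTwist _ hCz]
  change Nat.card {g : SGA7.Pts kb B // g * b * (fr • g)⁻¹ = b} =
    Nat.card {x : SGA7.Pts kb A // Groth.L24.Count.sm c b (fr • x) = x} *
      Nat.card {g : SGA7.Pts kb C // g * (b ≫ π) * (fr • g)⁻¹ = b ≫ π}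
  have hinj : ∀ x y : SGA7.Pts kb A, x ≫ i = y ≫ i → x = y := fun _ _ e => Groth.L24.Count.exact_injective hex e
  have hπ : ∀ x : SGA7.Pts kb B, (fr • x) ≫ π = fr • (x ≫ π : SGA7.Pts kb C) := fun x =>
    GalTw.ptsMap_smul (K := kb) π fr x
  have hAfix : ∀ x : SGA7.Pts kb A, Groth.L24.Count.sm c b (fr • x) = x ↔
      (x ≫ i) * b * (fr • (x ≫ i : SGA7.Pts kb B))⁻¹ = b := fun x => by
    have e : Groth.L24.Count.sm c b (fr • x) ≫ i = b * (fr • (x ≫ i : SGA7.Pts kb B)) * b⁻¹ := by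
      rw [Groth.L24.Count.sm, Category.assoc, hc, MonObj.comp_mul, MonObj.comp_mul, GrpObj.comp_inv,
        lift_fst, lift_snd_assoc, show (fr • x) ≫ i = fr • (x ≫ i : SGA7.Pts kb B) from
          GalTw.ptsMap_smul (K := kb) i fr x]
    refine ⟨fun h => ?_, fun h => hinj _ _ ?_⟩
    · rw [h] at e
      exact mul_inv_eq_iff_eq_mul.2 (eq_mul_inv_iff_mul_eq.1 e)
    · rw [e]
      exact mul_inv_eq_iff_eq_mul.2 (mul_inv_eq_iff_eq_mul.1 h).symm
  have hmul : ∀ g h : SGA7.Pts kb B, g * b * (fr • g)⁻¹ = b → h * b * (fr • h)⁻¹ = b →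
      (g * h) * b * (fr • (g * h))⁻¹ = b := fun g h hg hh => by
    conv_rhs => rw [← hg]
    conv_rhs => arg 1; arg 2; rw [← hh]
    rw [smul_mul']
    group
  have hinv : ∀ g : SGA7.Pts kb B, g * b * (fr • g)⁻¹ = b → g⁻¹ * b * (fr • g⁻¹)⁻¹ = b := fun g hg => by
    conv_lhs => arg 1; arg 2; rw [← hg]
    rw [smul_inv']
    group
  have hsurj : ∀ γ : {g : SGA7.Pts kb C // g * (b ≫ π) * (fr • g)⁻¹ = b ≫ π},
      ∃ g : {g : SGA7.Pts kb B // g * b * (fr • g)⁻¹ = b}, g.1 ≫ π = γ.1 := fun γ => by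
    obtain ⟨g, hg⟩ := Groth.L24.Count.exists_lift_point hex γ.1
    obtain ⟨a, ha⟩ := Groth.L24.Count.exact_exists_of_eq hex (b := b) (b' := g * b * (fr • g)⁻¹) (by
      rw [MonObj.mul_comp, MonObj.mul_comp, GrpObj.inv_comp, hπ, hg, γ.2])
    obtain ⟨g₀, hg₀⟩ := Groth.L24.Count.exists_twisted_lang (kb := kb) i hinj c.act hc b a
    refine ⟨⟨(g₀ ≫ i)⁻¹ * g, ?_⟩, ?_⟩
    · have e := hg₀.trans ha
      calc (g₀ ≫ i)⁻¹ * g * b * (fr • ((g₀ ≫ i)⁻¹ * g))⁻¹
          = (g₀ ≫ i)⁻¹ * (g * b * (fr • g)⁻¹) * (fr • (g₀ ≫ i : SGA7.Pts kb B)) := by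
            rw [smul_mul', smul_inv']; group
        _ = b := by rw [← e]; simp only [fr]; group
    · show ((g₀ ≫ i)⁻¹ * g) ≫ π = γ.1
      rw [MonObj.mul_comp, GrpObj.inv_comp, Groth.L24.Count.exact_comp_eq_one hex, inv_one, _root_.one_mul, hg]
  choose s hs using hsurj
  rw [← Nat.card_prod]
  refine (Nat.card_congr (Equiv.ofBijective (fun p => ⟨(p.1.1 ≫ i) * (s p.2).1,
    hmul _ _ ((hAfix _).1 p.1.2) (s p.2).2⟩) ⟨?_, ?_⟩)).symm
  · rintro ⟨x, γ⟩ ⟨x', γ'⟩ e
    have e' := congrArg Subtype.val e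
    have eπ := congrArg (· ≫ π) e'
    simp only [MonObj.mul_comp, Groth.L24.Count.exact_comp_eq_one hex, _root_.one_mul, hs] at eπ
    obtain rfl : γ = γ' := Subtype.ext eπ
    obtain rfl : x = x' := Subtype.ext (hinj _ _ (mul_right_cancel e'))
    rfl
  · intro g
    let γ : {g : SGA7.Pts kb C // g * (b ≫ π) * (fr • g)⁻¹ = b ≫ π} := ⟨g.1 ≫ π, by
      rw [← hπ, ← GrpObj.inv_comp, ← MonObj.mul_comp, ← MonObj.mul_comp, g.2]⟩
    obtain ⟨a, ha⟩ := Groth.L24.Count.exact_exists_of_eq hex (b := (s γ).1) (b' := g.1) (hs γ).symm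
    refine ⟨(⟨a, (hAfix a).2 ?_⟩, γ), Subtype.ext ha⟩
    rw [eq_mul_inv_of_mul_eq ha]
    exact hmul _ _ g.2 (hinv _ (s γ).2)

end Groth.Agent.S15688
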