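
import Groth.Statements.S1569
import Groth.Agent.L22.LocalDim
import Mathlib.AlgebraicGeometry.IdealSheaf.Subscheme
import Mathlib.RingTheory.DiscreteValuationRing.TFAE

set_option autoImplicit false
universe u
open CategoryTheory CategoryTheory.Limits AlgebraicGeometry
open Divisors

namespace Groth.Agent.S1569

/-- On a Noetherian scheme, an effective Cartier divisor which is integral as a closed subscheme has a
discrete valuation ring as the local ring of the ambient scheme at its generic point. -/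
theorem result (X : Scheme.{u}) [IsNoetherian X]
    (D : X.IdealSheafData) (hD : BlowUp.IsEffCartierIdeal D) [IsIntegral D.subscheme]
    (ξ : X) (hξ : IsGenericPoint ξ (D.support : Set X)) :
    ∃ _ : IsDomain (X.presheaf.stalk ξ), IsDiscreteValuationRing (X.presheaf.stalk ξ) := by
  obtain ⟨U, hξU, f, hf, hIU⟩ := hD ξ
  haveI : IsNoetherianRing Γ(X, U.1) := IsLocallyNoetherian.component_noetherian U
  have hξD : ξ ∈ (D.support : Set X) := hξ.mem
  -- the ideal is prime
  have hprime : (D.ideal U).IsPrime := by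
    obtain ⟨z, hz⟩ : ξ ∈ Set.range D.subschemeι := by
      rw [D.range_subschemeι]; exact hξD
    haveI : Nonempty (D.subschemeι ⁻¹ᵁ U.1 : D.subscheme.Opens) :=
      ⟨⟨z, show D.subschemeι z ∈ U.1 from hz ▸ hξU⟩⟩
    haveI : IsDomain Γ(D.subscheme, D.subschemeι ⁻¹ᵁ U.1) := inferInstance
    haveI : IsDomain (Γ(X, U.1) ⧸ D.ideal U) :=
      (D.subschemeObjIso U).commRingCatIsoToRingEquiv.symm.toMulEquiv.isDomain
    exact (Ideal.Quotient.isDomain_iff_prime _).1 this
  -- it is the prime of `ξ`
  have hp : (U.2.primeIdealOf ⟨ξ, hξU⟩).asIdeal = D.ideal U := by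
    have h := Groth.L22.LocalDim.primeIdealOf_mem_minimalPrimes_ideal U hξU hξD fun y hy hys =>
      (hys.antisymm (hξ.specializes hy)).eq
    exact le_antisymm (h.2 ⟨hprime, le_rfl⟩ h.1.2) h.1.2
  letI : Algebra Γ(X, U.1) (X.presheaf.stalk ξ) :=
    TopCat.Presheaf.algebra_section_stalk X.presheaf ⟨ξ, hξU⟩
  haveI hloc : IsLocalization.AtPrime (X.presheaf.stalk ξ) (U.2.primeIdealOf ⟨ξ, hξU⟩).asIdeal :=
    U.2.isLocalization_stalk ⟨ξ, hξU⟩
  let L := X.presheaf.stalk ξ
  let p := (U.2.primeIdealOf ⟨ξ, hξU⟩).asIdeal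
  haveI hloc' : IsLocalization p.primeCompl L := hloc
  haveI : IsLocalization.AtPrime L p := hloc
  let g : L := algebraMap Γ(X, U.1) L f
  have hm : IsLocalRing.maximalIdeal L = Ideal.span {g} := by
    rw [← IsLocalization.AtPrime.map_eq_maximalIdeal p L, show p = D.ideal U from hp, hIU, Ideal.map_span,
      Set.image_singleton]
  have hg : g ∈ nonZeroDivisors L :=
    IsLocalization.map_nonZeroDivisors_le p.primeCompl L (Submonoid.mem_map_of_mem _ hf)
  have hgm : g ∈ IsLocalRing.maximalIdeal L := hm ▸ Ideal.mem_span_singleton_self g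
  have hrepr : ∀ a : L, a ≠ 0 → ∃ (n : ℕ) (w : L), IsUnit w ∧ a = w * g ^ n := by
    intro a ha
    have hex : ∃ n, a ∉ IsLocalRing.maximalIdeal L ^ n := by
      by_contra hcon
      push Not at hcon
      refine ha ?_
      have := Ideal.iInf_pow_eq_bot_of_isLocalRing (IsLocalRing.maximalIdeal L)
        (IsLocalRing.maximalIdeal.isMaximal L).ne_top
      rw [← Ideal.mem_bot, ← this, Submodule.mem_iInf]
      exact hcon
    classical
    have hn := Nat.find_spec hex
    rcases hk : Nat.find hex with _ | k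
    · rw [hk, pow_zero, Ideal.one_eq_top] at hn
      exact absurd Submodule.mem_top hn
    · have hk' : a ∈ IsLocalRing.maximalIdeal L ^ k := by
        by_contra h
        have := Nat.find_min' hex h
        omega
      rw [hm, Ideal.span_singleton_pow, Ideal.mem_span_singleton'] at hk'
      obtain ⟨w, hw⟩ := hk'
      refine ⟨k, w, ?_, hw.symm⟩
      by_contra hwu
      refine hn ?_
      rw [hk, ← hw, pow_succ' (IsLocalRing.maximalIdeal L)]
      exact Ideal.mul_mem_mul ((IsLocalRing.mem_maximalIdeal w).2 hwu) (Ideal.pow_mem_pow hgm k)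
  haveI : NoZeroDivisors L := ⟨fun {a b} hab => by
    by_contra hne
    rw [not_or] at hne
    obtain ⟨n, w, hw, rfl⟩ := hrepr a hne.1
    obtain ⟨m, w', hw', rfl⟩ := hrepr b hne.2
    have : w * w' * g ^ (n + m) ∈ nonZeroDivisors L :=
      mul_mem (hw.mul hw').mem_nonZeroDivisors (pow_mem hg _)
    refine zero_notMem_nonZeroDivisors (M₀ := L) ?_
    rw [← hab]
    convert this using 1
    ring⟩
  haveI hdom : IsDomain L := NoZeroDivisors.to_isDomain L
  have hnf : ¬ IsField L := by
    intro hF
    rw [IsLocalRing.isField_iff_maximalIdeal_eq] at hF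
    rw [hF, Ideal.mem_bot] at hgm
    exact zero_notMem_nonZeroDivisors (M₀ := L) (hgm ▸ hg)
  refine ⟨hdom, ?_⟩
  have hpr : (IsLocalRing.maximalIdeal L).IsPrincipal := ⟨⟨g, hm⟩⟩
  exact ((IsDiscreteValuationRing.TFAE L hnf).out 0 4).mpr hpr

end Groth.Agent.S1569
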