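import Groth.Statements.S15692
import Groth.Agent.L24.Count.Reps
import Groth.Agent.L24.Count.UnipTwist

set_option autoImplicit false
set_option backward.isDefEq.respectTransparency.types false
set_option backward.isDefEq.respectTransparency.types false
universe u
open CategoryTheory AlgebraicGeometry MonoidalCategory CartesianMonoidalCategory MonObj
open StackCount

namespace Groth.Agent.S15692

/-- Let k be a finite field with q elements and algebraic closure k̄, and G a smooth affine algebraic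
group over k which is a semidirect product of closed subgroups H and U: the inclusions H → G and U →
G are homomorphisms, U is normal in G, and multiplication H × U → G, (h, u) ↦ h u, is an isomorphism
of k-schemes. Assume U is smooth, connected and unipotent (its base change to k̄ contains no
non-trivial subtorus), of dimension d. Let G act on a variety X over k (reduced, of finite type) and
let H act on X through its inclusion. If the groupoids of k-points of the quotient stacks [X/G] and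
[X/H] (G- resp. H-torsors over Spec k as schemes, locally trivial for the étale topology, with an
equivariant map to X) are essentially finite, then their point counts (sums over isomorphism classes
of the inverse orders of the automorphism groups) satisfy #[X/G](k) · q^d = #[X/H](k). (The
published statement is for the k′-points over any finite extension k′ of k; this row is the case k′
= k, to which the general case reduces by base change, and takes the groups affine so that torsors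
are schemes.) -/
theorem result (k : Type u) [Field k] [Finite k]
    (kb : Type u) [Field kb] [Algebra k kb] [IsAlgClosure k kb]
    (G H U : Over (Spec (CommRingCat.of k))) [GrpObj G] [GrpObj H] [GrpObj U]
    [Smooth G.hom] [IsAffineHom G.hom] [Smooth H.hom] [IsAffineHom H.hom]
    [Smooth U.hom] [IsAffineHom U.hom] [ConnectedSpace U.left]
    (iH : H ⟶ G) (iU : U ⟶ G) [IsMonHom iH] [IsMonHom iU] [Mono iH] [Mono iU]
    (hUn : AlgGrp.IsNormalHom iU) (hsd : IsIso ((fst H U ≫ iH) * (snd H U ≫ iU)))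
    (hUu : Red.HasNoSubtorus kb (GalTw.bcK kb U))
    (d : ℕ) (hd : topologicalKrullDim ↥U.left = (d : WithBot ℕ∞))
    (X : Over (Spec (CommRingCat.of k))) [LocallyOfFiniteType X.hom] [QuasiCompact X.hom]
    [IsReduced X.left] (aG : AlgGrp.Action G X) (aH : AlgGrp.Action H X)
    (haH : aH.act = (iH ▷ X) ≫ aG.act)
    (hG : StkCnt.IsEssFinite (StkCnt.pts (AlgSt.QuotSt Scheme.etalePrecoverage G aG) k))
    (hH : StkCnt.IsEssFinite (StkCnt.pts (AlgSt.QuotSt Scheme.etalePrecoverage H aH) k)) :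
    StkCnt.ptCount (AlgSt.QuotSt Scheme.etalePrecoverage G aG) k hG * (Nat.card k : ℚ) ^ d =
      StkCnt.ptCount (AlgSt.QuotSt Scheme.etalePrecoverage H aH) k hH := by
  haveI : Algebra.IsAlgebraic k kb := IsAlgClosure.isAlgebraic
  haveI : IsAlgClosed kb := IsAlgClosure.isAlgClosed k
  haveI : QuasiCompact G.hom := inferInstance
  haveI : QuasiCompact U.hom := inferInstance
  haveI : QuasiCompact H.hom := inferInstance
  obtain ⟨c, hc⟩ := hUn (G ⊗ U) (fst G U) (snd G U)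
  let f : H ⊗ U ⟶ G := (fst H U ≫ iH) * (snd H U ≫ iU)
  haveI : IsIso f := hsd
  let T := SGA7.pt (K := k) kb
  -- unique decomposition of points
  have hex : ∀ g : T ⟶ G, ∃ (h : T ⟶ H) (u : T ⟶ U), (h ≫ iH) * (u ≫ iU) = g := fun g => by
    refine ⟨(g ≫ inv f) ≫ fst H U, (g ≫ inv f) ≫ snd H U, ?_⟩
    rw [Category.assoc (g ≫ inv f), Category.assoc (g ≫ inv f), ← MonObj.comp_mul]
    show (g ≫ inv f) ≫ f = g
    simp
  have huniq : ∀ (h h' : T ⟶ H) (u u' : T ⟶ U), (h ≫ iH) * (u ≫ iU) = (h' ≫ iH) * (u' ≫ iU) → h = h' ∧ u = u' := by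
    intro h h' u u' e
    have hl : ∀ (a : T ⟶ H) (b : T ⟶ U), lift a b ≫ f = (a ≫ iH) * (b ≫ iU) := fun a b => by
      rw [MonObj.comp_mul, lift_fst_assoc, lift_snd_assoc]
    have e2 : lift h u = lift h' u' := by rw [← cancel_mono f, hl, hl, e]
    exact ⟨by simpa using congrArg (· ≫ fst H U) e2, by simpa using congrArg (· ≫ snd H U) e2⟩
  have hconj : ∀ (g : T ⟶ G) (u : T ⟶ U), ∃ u' : T ⟶ U, g * (u ≫ iU) * g⁻¹ = u' ≫ iU := fun g u => hUn T g u
  have hsmH : ∀ (σ : kb ≃ₐ[k] kb) (h : SGA7.Pts kb H), σ • (h ≫ iH : SGA7.Pts kb G) = (σ • h) ≫ iH := fun σ h => by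
    show SGA7.specAut σ ≫ h ≫ iH = (SGA7.specAut σ ≫ h) ≫ iH
    rw [Category.assoc]
  have hsmU : ∀ (σ : kb ≃ₐ[k] kb) (u : SGA7.Pts kb U), σ • (u ≫ iU : SGA7.Pts kb G) = (σ • u) ≫ iU := fun σ u => by
    show SGA7.specAut σ ≫ u ≫ iU = (SGA7.specAut σ ≫ u) ≫ iU
    rw [Category.assoc]
  let π := Groth.L24.Count.frob k kb
  -- projecting twisted conjugation
  have hproj : ∀ (h h' h₁ : SGA7.Pts kb H) (u₁ : SGA7.Pts kb U),
      ((h₁ ≫ iH) * (u₁ ≫ iU)) * (h ≫ iH) * (π • ((h₁ ≫ iH) * (u₁ ≫ iU) : SGA7.Pts kb G))⁻¹ = h' ≫ iH ↔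
        h₁ * h * (π • h₁)⁻¹ = h' ∧ (u₁ ≫ iU) * (h ≫ iH) * (π • (u₁ ≫ iU : SGA7.Pts kb G))⁻¹ = h ≫ iH := by
    intro h h' h₁ u₁
    have expand : ((h₁ ≫ iH) * (u₁ ≫ iU)) * (h ≫ iH) * (π • ((h₁ ≫ iH) * (u₁ ≫ iU) : SGA7.Pts kb G))⁻¹ =
        (h₁ ≫ iH) * ((u₁ ≫ iU) * (h ≫ iH) * (π • (u₁ ≫ iU : SGA7.Pts kb G))⁻¹) * ((π • h₁) ≫ iH)⁻¹ := by
      rw [smul_mul', hsmH]; group
    refine ⟨fun e => ?_, fun ⟨e₁, e₂⟩ => ?_⟩
    · rw [expand] at e
      obtain ⟨w, hw⟩ : ∃ w : T ⟶ U,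
          (u₁ ≫ iU) * (h ≫ iH) * (π • (u₁ ≫ iU : SGA7.Pts kb G))⁻¹ = (h ≫ iH) * (w ≫ iU) := by
        obtain ⟨w₁, hw₁⟩ := hconj (h ≫ iH)⁻¹ u₁
        refine ⟨w₁ * (π • u₁)⁻¹, ?_⟩
        rw [MonObj.mul_comp, ← hw₁, GrpObj.inv_comp, hsmU, inv_inv]
        group
      rw [hw] at e ⊢
      obtain ⟨w', hw'⟩ := hconj ((π • h₁) ≫ iH) w
      have e' : ((h₁ * h * (π • h₁)⁻¹) ≫ iH) * (w' ≫ iU) = (h' ≫ iH) * ((1 : T ⟶ U) ≫ iU) := by
        rw [MonObj.one_comp, _root_.mul_one, ← e, ← hw', MonObj.mul_comp, MonObj.mul_comp, GrpObj.inv_comp]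
        group
      obtain ⟨e₁, e₂⟩ := huniq _ _ _ _ e'
      refine ⟨e₁, ?_⟩
      have : w ≫ iU = 1 := by
        have := hw'
        rw [e₂, MonObj.one_comp, mul_inv_eq_one] at this
        exact mul_eq_left.1 this
      rw [this, _root_.mul_one]
    · rw [expand, e₂, ← e₁, MonObj.mul_comp, MonObj.mul_comp, GrpObj.inv_comp]
  have hX : ∀ (h : SGA7.Pts kb H) (y : SGA7.Pts kb X),
      Groth.L24.Count.sm aG (h ≫ iH) y = Groth.L24.Count.sm aH h y := fun h y => by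
    show lift (h ≫ iH) y ≫ aG.act = lift h y ≫ aH.act
    rw [haH, lift_whiskerRight_assoc]
  obtain ⟨n, a, hdis, hall, -⟩ := Groth.L24.Count.exists_reps kb aH hH
  let b : Fin n → SGA7.Pts kb G := fun j => a j ≫ iH
  have hdis' : ∀ i j, Groth.L24.Count.Conj (b i) (b j) → i = j := by
    rintro i j ⟨g, hg⟩
    obtain ⟨h₁, u₁, rfl⟩ := hex g
    exact hdis i j ⟨h₁, ((hproj _ _ _ _).1 hg).1⟩
  have hall' : ∀ g, Nonempty (Groth.L24.Count.XFix aG g) → ∃ j, Groth.L24.Count.Conj g (b j) := by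
    intro g hne
    obtain ⟨h, u, rfl⟩ := hex g
    obtain ⟨u', hu'⟩ := hconj (h ≫ iH) u
    obtain ⟨g₀, hg₀⟩ := Groth.L24.Count.exists_twisted_lang (kb := kb) iU (fun x y e => (cancel_mono iU).1 e) c
      hc.symm (h ≫ iH) u'
    have hconjb : Groth.L24.Count.Conj ((h ≫ iH) * (u ≫ iU)) (h ≫ iH) := by
      refine Groth.L24.Count.Conj.symm ⟨g₀ ≫ iU, ?_⟩
      rw [hg₀, ← hu']
      group
    obtain ⟨x, hx⟩ := hne
    obtain ⟨g₁, hg₁⟩ := hconjb
    have hx' : Groth.L24.Count.sm aG (h ≫ iH) (π • Groth.L24.Count.sm aG g₁ x) = Groth.L24.Count.sm aG g₁ x := by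
      rw [Groth.L24.Count.smul_sm, ← Groth.L24.Count.sm_mul, ← hg₁, inv_mul_cancel_right, Groth.L24.Count.sm_mul, hx]
    rw [hX] at hx'
    obtain ⟨j, hj⟩ := hall h ⟨⟨_, hx'⟩⟩
    obtain ⟨h₁, hh₁⟩ := hj
    refine ⟨j, Groth.L24.Count.Conj.trans ⟨g₁, hg₁⟩ ⟨h₁ ≫ iH, ?_⟩⟩
    rw [hsmH, ← GrpObj.inv_comp, ← MonObj.mul_comp, ← MonObj.mul_comp, hh₁]
  have hXcard : ∀ j, Nat.card (Groth.L24.Count.XFix aG (b j)) = Nat.card (Groth.L24.Count.XFix aH (a j)) := fun j =>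
    Nat.card_congr (Equiv.subtypeEquivRight fun y => by rw [hX])
  have hUfix : ∀ h : SGA7.Pts kb H,
      Nat.card {u : SGA7.Pts kb U // (u ≫ iU) * (h ≫ iH) * (π • (u ≫ iU : SGA7.Pts kb G))⁻¹ = h ≫ iH} =
        Nat.card k ^ d := fun h => Groth.L24.Count.card_twisted U G hUu d hd iU c hc.symm (h ≫ iH)
  have hGcard : ∀ j, Nat.card (Groth.L24.Count.GFix (b j)) =
      Nat.card (Groth.L24.Count.GFix (a j)) * Nat.card k ^ d := fun j => by
    rw [← hUfix (a j), ← Nat.card_prod]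
    refine (Nat.card_congr (Equiv.ofBijective (fun p => ⟨(p.1.1 ≫ iH) * (p.2.1 ≫ iU),
      (hproj _ _ _ _).2 ⟨p.1.2, p.2.2⟩⟩) ⟨?_, ?_⟩)).symm
    · rintro ⟨⟨h₁, hh₁⟩, ⟨u₁, hu₁⟩⟩ ⟨⟨h₂, hh₂⟩, ⟨u₂, hu₂⟩⟩ e
      obtain ⟨rfl, rfl⟩ := huniq _ _ _ _ (congrArg Subtype.val e)
      rfl
    · rintro ⟨g, hg⟩
      obtain ⟨h₁, u₁, rfl⟩ := hex g
      obtain ⟨e₁, e₂⟩ := (hproj _ _ _ _).1 hg
      exact ⟨(⟨h₁, e₁⟩, ⟨u₁, e₂⟩), rfl⟩
  show StkCnt.count (Groth.L24.Count.Obj aG) hG * _ = StkCnt.count (Groth.L24.Count.Obj aH) hH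
  rw [Groth.L24.Count.count_eq_sum' aG hG b hdis' hall', Groth.L24.Count.count_eq_sum' aH hH a hdis hall,
    Finset.sum_mul]
  refine Finset.sum_congr rfl fun j _ => ?_
  rw [hXcard, hGcard, Nat.cast_mul, Nat.cast_pow, ← div_div, div_mul_cancel₀]
  exact pow_ne_zero _ (Nat.cast_ne_zero.2 Nat.card_pos.ne')

end Groth.Agent.S15692
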