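import Groth.Statements.S15693
import Groth.Agent.L24.Count.CountPairs
import Groth.Agent.L24.Count.StabGroup
import Groth.Agent.L24.Count.SumInv

set_option autoImplicit false
set_option backward.isDefEq.respectTransparency.types false
universe u
open CategoryTheory AlgebraicGeometry MonoidalCategory CartesianMonoidalCategory MonObj
open StackCount
open Groth.L24.Count

namespace Groth.Agent.S15693

/-- Let k be a finite field with q elements and algebraic closure k̄, G a smooth affine algebraic group
over k acting on a variety X over k (reduced, of finite type), and [X/G] the quotient stack whose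
objects over a k-scheme T are G-torsors over T (schemes, locally trivial for the étale topology)
with an equivariant morphism to X. Choose k̄-points x_j of X, indexed by a finite set, lying in
pairwise distinct G(k̄)-orbits, each orbit stable under Gal(k̄/k), and such that every Galois-stable
orbit contains some x_j. For each j let s_j : S_j → G_k̄ be the stabiliser of x_j: a monomorphic
homomorphism of k̄-group schemes such that a T-valued point of G_k̄ factors through S_j exactly when
it fixes x_j. Assume every S_j contains no non-trivial subtorus (equivalently, the identity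
component of its reduced subgroup is unipotent) and has dimension d_j. If the groupoid of k-points
of [X/G] is essentially finite, then its point count (sum over isomorphism classes of the inverse
orders of the automorphism groups) equals Σ_j q^(−d_j). (The published statement is for the
k′-points over any finite extension k′, to which this case k′ = k applies after base change; it asks
the unipotency of the stabilisers of all orbits, of which only the Galois-stable ones enter; and it
allows any algebraic group G, taken smooth and affine here so that torsors are schemes.) -/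
theorem result (k : Type u) [Field k] [Finite k]
    (kb : Type u) [Field kb] [Algebra k kb] [IsAlgClosure k kb]
    (G : Over (Spec (CommRingCat.of k))) [GrpObj G] [Smooth G.hom] [IsAffineHom G.hom]
    (X : Over (Spec (CommRingCat.of k))) [LocallyOfFiniteType X.hom] [QuasiCompact X.hom]
    [IsReduced X.left] (aX : AlgGrp.Action G X)
    (J : Type) [Fintype J] (x : J → SGA7.Pts kb X)
    (hdis : ∀ j j' : J, (∃ g : SGA7.Pts kb G, lift g (x j) ≫ aX.act = x j') → j = j')
    (hfix : ∀ (j : J) (σ : kb ≃ₐ[k] kb), ∃ g : SGA7.Pts kb G, lift g (σ • x j) ≫ aX.act = x j)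
    (hall : ∀ y : SGA7.Pts kb X,
      (∀ σ : kb ≃ₐ[k] kb, ∃ g : SGA7.Pts kb G, lift g (σ • y) ≫ aX.act = y) →
        ∃ (j : J) (g : SGA7.Pts kb G), lift g (x j) ≫ aX.act = y)
    (S : J → Over (Spec (CommRingCat.of kb))) [∀ j, GrpObj (S j)]
    (s : ∀ j, S j ⟶ GalTw.bcK kb G) [∀ j, IsMonHom (s j)] [∀ j, Mono (s j)]
    (hS : ∀ (j : J) (T : Over (Spec (CommRingCat.of kb)))
      (g : (Over.map (SGA7.pt (K := k) kb).hom).obj T ⟶ G),
      (∃ g' : T ⟶ S j, g' ≫ s j = (Over.mapPullbackAdj (SGA7.pt (K := k) kb).hom).homEquiv T G g) ↔
        lift g ((Over.homMk T.hom rfl : (Over.map (SGA7.pt (K := k) kb).hom).obj T ⟶ SGA7.pt (K := k) kb) ≫ x j)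
            ≫ aX.act =
          (Over.homMk T.hom rfl : (Over.map (SGA7.pt (K := k) kb).hom).obj T ⟶ SGA7.pt (K := k) kb) ≫ x j)
    (hSu : ∀ j, Red.HasNoSubtorus kb (S j))
    (d : J → ℕ) (hd : ∀ j, topologicalKrullDim ↥(S j).left = (d j : WithBot ℕ∞))
    (h : StkCnt.IsEssFinite (StkCnt.pts (AlgSt.QuotSt Scheme.etalePrecoverage G aX) k)) :
    StkCnt.ptCount (AlgSt.QuotSt Scheme.etalePrecoverage G aX) k h =
      ∑ j : J, ((Nat.card k : ℚ) ^ (d j))⁻¹ := by
  haveI : IsAlgClosed kb := IsAlgClosure.isAlgClosed k
  have hb : ∀ j, ∃ b : SGA7.Pts kb G, sm aX b (frob k kb • x j) = x j := fun j => hfix j (frob k kb)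
  choose b hb using hb
  have hM := fun j => exists_stabGroup aX (b j) (x j) (hb j) (S j) (s j) (hS j) (hSu j) (d j) (hd j)
  choose M gM hMs hMa hMu hMd θ hθi hθr hθπ using hM
  have hc := fun j => (haveI := hMs j; haveI := hMa j; exists_mass (kb := kb) (M j) (hMu j) (d j) (hMd j))
  choose n c hcdis hcall hcfin hcsum using hc
  show StkCnt.count (Obj aX) h = _
  rw [count_eq_orbits aX h x hdis hall b hb M θ hθi hθr hθπ n c hcdis hcall]
  exact Finset.sum_congr rfl fun j _ => hcsum j

end Groth.Agent.S15693
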