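import Groth.Statements.S15694
import Groth.Agent.L24.Count.SumFixed
import Groth.Agent.L24.Count.SemiDirect

set_option autoImplicit false
set_option backward.isDefEq.respectTransparency.types false
universe u
open CategoryTheory AlgebraicGeometry MonoidalCategory CartesianMonoidalCategory MonObj
open StackCount
open Groth.L24.Count

namespace Groth.Agent.S15694

/-- Let k be a finite field with q elements and algebraic closure k̄, and G a smooth affine algebraic
group over k of the form (F × H) ⋉ U: F, H, U are closed subgroups (monomorphic homomorphisms into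
G), F and H commute elementwise, U is normal, and multiplication (f, h, u) ↦ f h u is an isomorphism
of k-schemes F × H × U → G. Assume F has unipotent identity component (its base change to k̄
contains no non-trivial subtorus) and dimension d_F, H is connected, and U is smooth, connected,
unipotent (no non-trivial subtorus over k̄) of dimension d_U. Let X = E × V with E finite and
reduced over k and V isomorphic over k to affine n-space, and let G act on X so that the restriction
of the action to F is the product of an action of F on E and an action of F on V, the latter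
factoring through a homomorphism from F to a smooth connected algebraic group acting on V. Choose
k̄-points e_j of E, indexed by a finite set J, one in each Galois-stable F(k̄)-orbit of E(k̄) and in
pairwise distinct orbits. If the groupoid of k-points of the quotient stack [X/G] (étale G-torsors
as schemes with an equivariant map to X) is essentially finite, then its point count satisfies
#[X/G](k) · #H(k) · q^(d_U + d_F) = #J · q^n. (The published statement is for k′-points over any
finite extension k′ and reads #[X/G](k′) = #J · (#k′)^(dim V − dim U − dim F) / #H(k′); this row is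
the case k′ = k with denominators cleared, and takes the groups affine so that torsors are schemes.) -/
theorem result (k : Type u) [Field k] [Finite k]
    (kb : Type u) [Field kb] [Algebra k kb] [IsAlgClosure k kb]
    (G F H U : Over (Spec (CommRingCat.of k))) [GrpObj G] [GrpObj F] [GrpObj H] [GrpObj U]
    [Smooth G.hom] [IsAffineHom G.hom] [Smooth F.hom] [IsAffineHom F.hom]
    [Smooth H.hom] [IsAffineHom H.hom] [ConnectedSpace H.left]
    [Smooth U.hom] [IsAffineHom U.hom] [ConnectedSpace U.left]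
    (iF : F ⟶ G) (iH : H ⟶ G) (iU : U ⟶ G) [IsMonHom iF] [IsMonHom iH] [IsMonHom iU]
    [Mono iF] [Mono iH] [Mono iU]
    (hFH : (fst F H ≫ iF) * (snd F H ≫ iH) = (snd F H ≫ iH) * (fst F H ≫ iF))
    (hUn : AlgGrp.IsNormalHom iU)
    (hsd : IsIso ((fst (F ⊗ H) U ≫ fst F H ≫ iF) * (fst (F ⊗ H) U ≫ snd F H ≫ iH) * (snd (F ⊗ H) U ≫ iU)))
    (hFu : Red.HasNoSubtorus kb (GalTw.bcK kb F)) (hUu : Red.HasNoSubtorus kb (GalTw.bcK kb U))
    (dF dU : ℕ) (hdF : topologicalKrullDim ↥F.left = (dF : WithBot ℕ∞))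
    (hdU : topologicalKrullDim ↥U.left = (dU : WithBot ℕ∞))
    (E V : Over (Spec (CommRingCat.of k))) [IsFinite E.hom] [IsReduced E.left]
    (n : ℕ) (eV : V.left ≅ 𝔸(ULift.{u} (Fin n); Spec (CommRingCat.of k)))
    (heV : eV.hom ≫ (𝔸(ULift.{u} (Fin n); Spec (CommRingCat.of k)) ↘ Spec (CommRingCat.of k)) = V.hom)
    (aX : AlgGrp.Action G (E ⊗ V)) (aE : AlgGrp.Action F E) (aV : AlgGrp.Action F V)
    (haF : (iF ▷ (E ⊗ V)) ≫ aX.act =
      lift (lift (fst F (E ⊗ V)) (snd F (E ⊗ V) ≫ fst E V) ≫ aE.act)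
        (lift (fst F (E ⊗ V)) (snd F (E ⊗ V) ≫ snd E V) ≫ aV.act))
    (Fc : Over (Spec (CommRingCat.of k))) [GrpObj Fc] [Smooth Fc.hom] [QuasiCompact Fc.hom]
    [ConnectedSpace Fc.left] (ρ : F ⟶ Fc) [IsMonHom ρ] (aVc : AlgGrp.Action Fc V)
    (haV : aV.act = (ρ ▷ V) ≫ aVc.act)
    (J : Type) [Fintype J] (e : J → SGA7.Pts kb E)
    (hdis : ∀ j j' : J, (∃ g : SGA7.Pts kb F, lift g (e j) ≫ aE.act = e j') → j = j')
    (hfix : ∀ (j : J) (σ : kb ≃ₐ[k] kb), ∃ g : SGA7.Pts kb F, lift g (σ • e j) ≫ aE.act = e j)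
    (hall : ∀ y : SGA7.Pts kb E,
      (∀ σ : kb ≃ₐ[k] kb, ∃ g : SGA7.Pts kb F, lift g (σ • y) ≫ aE.act = y) →
        ∃ (j : J) (g : SGA7.Pts kb F), lift g (e j) ≫ aE.act = y)
    (h : StkCnt.IsEssFinite (StkCnt.pts (AlgSt.QuotSt Scheme.etalePrecoverage G aX) k)) :
    StkCnt.ptCount (AlgSt.QuotSt Scheme.etalePrecoverage G aX) k h *
        (Nat.card (SGA7.Pts k H) : ℚ) * (Nat.card k : ℚ) ^ (dU + dF) =
      (Fintype.card J : ℚ) * (Nat.card k : ℚ) ^ n := by
  haveI : IsAlgClosed kb := IsAlgClosure.isAlgClosed k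
  haveI : IsAffine G.left := isAffine_of_isAffineHom G.hom
  haveI : IsAffine F.left := isAffine_of_isAffineHom F.hom
  haveI : IsAffine H.left := isAffine_of_isAffineHom H.hom
  haveI : IsAffineHom V.hom := by
    haveI : IsAffineHom (𝔸(ULift.{u} (Fin n); Spec (CommRingCat.of k)) ↘ Spec (CommRingCat.of k)) := inferInstance
    rw [← heV]
    infer_instance
  haveI : LocallyOfFiniteType V.hom := by
    rw [← heV]
    infer_instance
  haveI : LocallyOfFiniteType (E ⊗ V).hom :=
    inferInstanceAs (LocallyOfFiniteType (Limits.pullback.fst E.hom V.hom ≫ E.hom))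
  haveI : QuasiCompact (E ⊗ V).hom :=
    inferInstanceAs (QuasiCompact (Limits.pullback.fst E.hom V.hom ≫ E.hom))
  obtain ⟨hmeet, hproj, hcard⟩ := semidirect (kb := kb) G F H U iF iH iU hFH hUn hsd hUu dU hdU
  obtain ⟨N, c, hcd, hca, hsum⟩ := exists_sum_fixed F hFu dF hdF E aE e hdis hfix hall
  have hall' : ∀ b : SGA7.Pts kb G, Nonempty (XFix aX b) → ∃ i, Conj b (c i ≫ iF : SGA7.Pts kb G) := fun b _ => by
    obtain ⟨f, hf⟩ := hmeet b
    obtain ⟨i, g, hg⟩ := hca f
    refine ⟨i, Conj.trans hf ⟨g ≫ iF, ?_⟩⟩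
    rw [smul_comp, ← GrpObj.inv_comp, ← MonObj.mul_comp, ← MonObj.mul_comp, hg]
  rw [show StkCnt.ptCount (AlgSt.QuotSt Scheme.etalePrecoverage G aX) k h = StkCnt.count (Obj aX) h from rfl,
    count_eq_sum' (kb := kb) aX h (fun i => c i ≫ iF) (fun i i' hi => hcd i i' (hproj _ _ hi)) hall']
  have hX : ∀ i, Nat.card (XFix aX (c i ≫ iF : SGA7.Pts kb G)) = Nat.card (XFix aE (c i)) * Nat.card k ^ n := fun i => by
    rw [← card_vFix V Fc aVc n eV heV (c i ≫ ρ), ← Nat.card_prod]
    have hact : ∀ y : SGA7.Pts kb (E ⊗ V), sm aX (c i ≫ iF) y =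
        lift (sm aE (c i) (y ≫ fst E V)) (sm aVc (c i ≫ ρ) (y ≫ snd E V)) := fun y => by
      have h1 := congrArg (lift (c i) y ≫ ·) haF
      have e1 : lift (c i) y ≫ (iF ▷ (E ⊗ V)) = lift (c i ≫ iF) y := by
        apply CartesianMonoidalCategory.hom_ext
        · rw [Category.assoc, whiskerRight_fst, lift_fst_assoc, lift_fst]
        · rw [Category.assoc, whiskerRight_snd, lift_snd, lift_snd]
      have e2 : ∀ v : SGA7.Pts kb V, lift (c i) v ≫ (ρ ▷ V) = lift (c i ≫ ρ) v := fun v => by
        apply CartesianMonoidalCategory.hom_ext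
        · rw [Category.assoc, whiskerRight_fst, lift_fst_assoc, lift_fst]
        · rw [Category.assoc, whiskerRight_snd, lift_snd, lift_snd]
      simp only [comp_lift, lift_fst, lift_snd_assoc, ← Category.assoc, e1] at h1
      simp only [haV, Category.assoc, comp_lift_assoc, lift_fst, lift_snd_assoc] at h1
      rw [← Category.assoc _ (ρ ▷ V), e2] at h1
      exact h1
    let q : SGA7.Pts kb (E ⊗ V) ≃ SGA7.Pts kb E × SGA7.Pts kb V :=
      ⟨fun y => (y ≫ fst E V, y ≫ snd E V), fun p => lift p.1 p.2,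
        fun y => by simp, fun p => by simp⟩
    refine Nat.card_congr ((q.subtypeEquiv fun y => ?_).trans
      (Equiv.subtypeProdEquivProd (p := fun y => sm aE (c i) (frob k kb • y) = y)
        (q := fun y => sm aVc (c i ≫ ρ) (frob k kb • y) = y)))
    show _ = y ↔ _ = y ≫ fst E V ∧ _ = y ≫ snd E V
    rw [hact, ← smul_comp, ← smul_comp]
    constructor
    · intro hy
      exact ⟨(lift_fst _ _).symm.trans (congrArg (· ≫ fst E V) hy),
        (lift_snd _ _).symm.trans (congrArg (· ≫ snd E V) hy)⟩
    · rintro ⟨h1, h2⟩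
      apply CartesianMonoidalCategory.hom_ext
      · rw [lift_fst]; exact h1
      · rw [lift_snd]; exact h2
  have hA : (Nat.card (SGA7.Pts (K := k) k H) : ℚ) ≠ 0 := by
    haveI : Finite k := ‹Finite k›
    haveI : Finite (SGA7.Pts (K := k) k H) := finite_pts k H
    exact Nat.cast_ne_zero.2 Nat.card_pos.ne'
  have hq : (Nat.card k : ℚ) ≠ 0 := Nat.cast_ne_zero.2 Nat.card_pos.ne'
  simp only [hX, hcard, Nat.cast_mul, Nat.cast_pow, div_eq_mul_inv, mul_inv]
  calc _ = (∑ i, (Nat.card (XFix aE (c i)) : ℚ) * ((Nat.card (GFix (c i)) : ℚ))⁻¹) *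
        ((Nat.card k : ℚ) ^ n * (Nat.card k : ℚ) ^ dF) := by
          rw [Finset.sum_mul, Finset.sum_mul, Finset.sum_mul]
          refine Finset.sum_congr rfl fun i _ => ?_
          field_simp
          ring
    _ = _ := by rw [hsum]; field_simp

end Groth.Agent.S15694
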