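import Groth.Statements.S15695
import Groth.Agent.L09.RatLift.Spread

set_option autoImplicit false
universe u
open CategoryTheory AlgebraicGeometry
open RatVar

namespace Groth.Agent.S15695

/-- Let X be an integral scheme of finite type over a field k. The following are equivalent. (i) There
are a non-empty open subscheme U of X, an open subscheme Y of an affine space Spec k[x_1, ..., x_n]
and k-morphisms U → Y → U whose composite is the identity of U. (ii) There is a non-empty open
subscheme V of X such that for every local k-algebra A with residue field κ, every k-morphism Spec κ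
→ V lifts along Spec κ → Spec A to a k-morphism Spec A → V. (Local k-algebras are taken in the
universe of k.) -/
theorem result (k : Type u) [Field k] (X : Scheme.{u})
    (f : X ⟶ Spec (CommRingCat.of k)) [IsIntegral X] [LocallyOfFiniteType f] [QuasiCompact f] :
    (∃ (U : X.Opens) (n : ℕ) (Y : (Spec (CommRingCat.of (MvPolynomial (Fin n) k))).Opens)
        (a : (U : Scheme.{u}) ⟶ (Y : Scheme.{u})) (b : (Y : Scheme.{u}) ⟶ (U : Scheme.{u})),
        (U : Set X).Nonempty ∧ a ≫ b = 𝟙 (U : Scheme.{u}) ∧
        a ≫ Y.ι ≫ Spec.map (CommRingCat.ofHom (algebraMap k (MvPolynomial (Fin n) k))) = U.ι ≫ f ∧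
        b ≫ U.ι ≫ f = Y.ι ≫ Spec.map (CommRingCat.ofHom (algebraMap k (MvPolynomial (Fin n) k)))) ↔
    (∃ V : X.Opens, (V : Set X).Nonempty ∧
      ∀ (A : Type u) [CommRing A] [IsLocalRing A] [Algebra k A]
        (g : Spec (CommRingCat.of (IsLocalRing.ResidueField A)) ⟶ (V : Scheme.{u})),
        g ≫ V.ι ≫ f = Spec.map (CommRingCat.ofHom ((IsLocalRing.residue A).comp (algebraMap k A))) →
        ∃ g' : Spec (CommRingCat.of A) ⟶ (V : Scheme.{u}),
          Spec.map (CommRingCat.ofHom (IsLocalRing.residue A)) ≫ g' = g ∧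
          g' ≫ V.ι ≫ f = Spec.map (CommRingCat.ofHom (algebraMap k A))) := by
  constructor
  · rintro ⟨U, n, Y, a, b, hU, hab, ha, hb⟩
    refine ⟨U, hU, fun A _ _ _ g hg => ?_⟩
    let P := MvPolynomial (Fin n) k
    obtain ⟨φ, hφ⟩ : ∃ φ : CommRingCat.of P ⟶ CommRingCat.of (IsLocalRing.ResidueField A), Spec.map φ = g ≫ a ≫ Y.ι :=
      ⟨Spec.preimage _, Spec.map_preimage _⟩
    have hφk : CommRingCat.ofHom (algebraMap k P) ≫ φ =
        CommRingCat.ofHom ((IsLocalRing.residue A).comp (algebraMap k A)) := by
      apply Spec.map_injective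
      rw [Spec.map_comp, hφ, Category.assoc, Category.assoc, ha, hg]
    choose c hc using fun i => IsLocalRing.residue_surjective (R := A) (φ.hom (MvPolynomial.X i))
    let L : CommRingCat.of P ⟶ CommRingCat.of A := CommRingCat.ofHom (MvPolynomial.aeval (R := k) c).toRingHom
    have hL : L ≫ CommRingCat.ofHom (IsLocalRing.residue A) = φ :=
      CommRingCat.hom_ext (MvPolynomial.ringHom_ext (fun x => by
        have := congrArg (fun q => q.hom x) hφk
        simpa [L, P] using this.symm) fun i => by simp [L, hc])
    have hr : Set.range (Spec.map L) ⊆ Set.range Y.ι := by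
      rintro - ⟨p, rfl⟩
      rw [Scheme.Opens.range_ι]
      have hp : (p : Spec (CommRingCat.of A)) ⤳ IsLocalRing.closedPoint A :=
        (PrimeSpectrum.le_iff_specializes _ _).1 (IsLocalRing.le_maximalIdeal p.2.ne_top)
      refine Y.2.stableUnderGeneralization (hp.map (Spec.map L).continuous) ?_
      let z : Spec (CommRingCat.of (IsLocalRing.ResidueField A)) := IsLocalRing.closedPoint _
      have hz : Spec.map (CommRingCat.ofHom (IsLocalRing.residue A)) z = IsLocalRing.closedPoint A :=
        IsLocalRing.comap_closedPoint (IsLocalRing.residue A)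
      rw [← hz, ← Scheme.Hom.comp_apply, ← Spec.map_comp, hL, hφ, ← Category.assoc, Scheme.Hom.comp_apply]
      exact ((g ≫ a) z).2
    refine ⟨IsOpenImmersion.lift Y.ι _ hr ≫ b, ?_, ?_⟩
    · have : Spec.map (CommRingCat.ofHom (IsLocalRing.residue A)) ≫ IsOpenImmersion.lift Y.ι _ hr = g ≫ a := by
        rw [← cancel_mono Y.ι, Category.assoc, IsOpenImmersion.lift_fac, ← Spec.map_comp, hL, hφ, Category.assoc]
      rw [reassoc_of% this, hab, Category.comp_id]
    · rw [Category.assoc, hb, IsOpenImmersion.lift_fac_assoc, ← Spec.map_comp]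
      exact congrArg Spec.map (CommRingCat.hom_ext (RingHom.ext fun x => MvPolynomial.aeval_C c x))
  · exact Groth.L09.RatLift.exists_retract k X f

end Groth.Agent.S15695
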