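import Groth.Statements.S15698
import Groth.Agent.L13.InvFld.Perm

set_option autoImplicit false
universe u
open InvFld

namespace Groth.Agent.S15698

/-- Let k be a characteristic-zero field; for each faithful finite-dimensional linear representation V
of the symmetric group S_n over k, the field of invariants k(V)^{S_n} is stably pure over k. Stated
with V = k^m: G is a finite group of k-algebra automorphisms of k(x_1, ..., x_m), each sending every
variable to a k-linear combination of the variables, isomorphic as an abstract group to the
symmetric group on n letters; then for some r the rational function field in r variables over the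
fixed field of G is generated over k by finitely many algebraically independent elements. -/
theorem result (k : Type u) [Field k] [CharZero k] (n m : ℕ)
    (G : Subgroup (InvFld.Fld (Fin m) k ≃ₐ[k] InvFld.Fld (Fin m) k)) [Finite G] (e : G ≃* Equiv.Perm (Fin n))
    (hG : ∀ σ ∈ G, ∀ i : Fin m, σ (InvFld.X i) ∈ Submodule.span k (Set.range fun j : Fin m => (InvFld.X j : InvFld.Fld (Fin m) k))) :
    ∃ (r N : ℕ) (t : Fin N → InvFld.Fld (Fin r) (IntermediateField.fixedField G)),
      AlgebraicIndependent k t ∧ IntermediateField.adjoin k (Set.range t) = ⊤ := by
  classical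
  have : Finite (Groth.Agent.L13.InvFld.permHom k n).range :=
    Finite.of_surjective (Groth.Agent.L13.InvFld.permHom k n).rangeRestrict
      (Groth.Agent.L13.InvFld.permHom k n).rangeRestrict_surjective
  let e' : G ≃* (Groth.Agent.L13.InvFld.permHom k n).range :=
    e.trans (MonoidHom.ofInjective (Groth.Agent.L13.InvFld.permHom_injective k n))
  obtain ⟨Φ⟩ := Groth.Agent.L13.InvFld.stable_equiv G _ e' hG
    (fun τ hτ => Groth.Agent.L13.InvFld.permHom_linear k n τ hτ)
  obtain ⟨a, ha, hatop⟩ := Groth.Agent.L13.InvFld.fixedField_perm k n
  obtain ⟨t, ht, httop⟩ := Groth.Agent.L13.InvFld.fld_pure k (m := m) a ha hatop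
  refine ⟨n, m + n, fun i => Φ.symm (t i), ht.map' (f := Φ.symm.toAlgHom) Φ.symm.injective, ?_⟩
  have h := congrArg (IntermediateField.map Φ.symm.toAlgHom) httop
  rw [IntermediateField.adjoin_map, ← Set.range_comp, ← AlgHom.fieldRange_eq_map,
    AlgHom.fieldRange_eq_top.2 Φ.symm.surjective] at h
  exact h

end Groth.Agent.S15698
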