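import Groth.Statements.S15699
import Groth.Agent.L03.RatVar.Retract
-- import your own Groth.Agent.* helpers here

set_option autoImplicit false
universe u
open CategoryTheory CategoryTheory.Limits AlgebraicGeometry
open RatVar

namespace Groth.Agent.S15699

/-- A direct factor of a k-rational variety is retract rational over k. Here k is an infinite field, X
and Y are integral schemes of finite type over k whose fibre product over k is integral and rational
over k (birational over k, through dense open subschemes, to an affine space over k); the conclusion
is that some non-empty open subscheme U of X admits k-morphisms U → Y' → U with composite the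
identity, Y' an open subscheme of an affine space Spec k[x_1, ..., x_n]. (The published statement
allows any field k; the argument picks a k-rational point of the given open set, so k is taken
infinite here.) -/
theorem result (k : Type u) [Field k] [Infinite k]
    (X Y : Scheme.{u}) (f : X ⟶ Spec (CommRingCat.of k)) (g : Y ⟶ Spec (CommRingCat.of k))
    [IsIntegral X] [LocallyOfFiniteType f] [QuasiCompact f]
    [IsIntegral Y] [LocallyOfFiniteType g] [QuasiCompact g] [IsIntegral (pullback f g)]
    [Scheme.IsRationalOver (pullback.fst f g ≫ f)] :
    ∃ (U : X.Opens) (n : ℕ) (Y' : (Spec (CommRingCat.of (MvPolynomial (Fin n) k))).Opens)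
        (a : (U : Scheme.{u}) ⟶ (Y' : Scheme.{u})) (b : (Y' : Scheme.{u}) ⟶ (U : Scheme.{u})),
        (U : Set X).Nonempty ∧ a ≫ b = 𝟙 (U : Scheme.{u}) ∧
        a ≫ Y'.ι ≫ Spec.map (CommRingCat.ofHom (algebraMap k (MvPolynomial (Fin n) k))) = U.ι ≫ f ∧
        b ≫ U.ι ≫ f = Y'.ι ≫ Spec.map (CommRingCat.ofHom (algebraMap k (MvPolynomial (Fin n) k))) := by
  exact Groth.L03.RatVar.exists_retract f g

end Groth.Agent.S15699
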