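
import Groth.Statements.S1570
import Groth.Agent.L22.LocalDim

set_option autoImplicit false
universe u
open CategoryTheory CategoryTheory.Limits AlgebraicGeometry
open Divisors

namespace Groth.Agent.S1570

theorem exists_spread {A : Type u} [CommRing A] [IsNoetherianRing A] (p : Ideal A) [p.IsPrime]
    (L : Type u) [CommRing L] [Algebra A L] [IsLocalization.AtPrime L p] (I : Ideal A) (g : L)
    (hg : g ∈ nonZeroDivisors L) (hI : I.map (algebraMap A L) = Ideal.span {g}) :
    ∃ i ∈ I, ∃ t : A, t ∉ p ∧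
      (∀ (B : Type u) [CommRing B] [Algebra A B] [IsLocalization.Away t B],
        I.map (algebraMap A B) = Ideal.span {algebraMap A B i}) ∧
      ∀ {B : Type u} [CommRing B] [Algebra A B] [IsLocalization.Away t B],
        algebraMap A B i ∈ nonZeroDivisors B := by
  classical
  obtain ⟨⟨⟨i, hi⟩, s⟩, his⟩ := (IsLocalization.mem_map_algebraMap_iff p.primeCompl L).1
    (hI ▸ Ideal.mem_span_singleton_self g)
  dsimp only at his
  have hu := IsLocalization.map_units L s
  have hgi : ∀ a ∈ I, ∃ u : A, u ∉ p ∧ u * a ∈ Ideal.span {i} := by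
    intro a ha
    obtain ⟨z, hz⟩ := Ideal.mem_span_singleton'.1 (hI ▸ Ideal.mem_map_of_mem _ ha)
    obtain ⟨⟨c, t⟩, rfl⟩ := IsLocalization.mk'_surjective p.primeCompl z
    dsimp only at hz
    have hz' : algebraMap A L (c * i) = algebraMap A L (t * s * a) := by
      rw [map_mul, map_mul, map_mul, ← hz, ← IsLocalization.mk'_spec' L c t, ← his]
      ring
    obtain ⟨v, hv⟩ := (IsLocalization.eq_iff_exists p.primeCompl L).1 hz'
    refine ⟨v * (t * s), p.primeCompl.mul_mem v.2 (p.primeCompl.mul_mem t.2 s.2),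
      Ideal.mem_span_singleton'.2 ⟨v * c, ?_⟩⟩
    rw [mul_assoc, hv]
    ring
  choose! u hu' hu'' using hgi
  obtain ⟨T, hT⟩ := (IsNoetherian.noetherian I : I.FG)
  have hiL : algebraMap A L i ∈ nonZeroDivisors L := his ▸ mul_mem hg hu.mem_nonZeroDivisors
  obtain ⟨T', hT'⟩ := (IsNoetherian.noetherian (LinearMap.ker (LinearMap.mulLeft A i)) :
    (LinearMap.ker (LinearMap.mulLeft A i)).FG)
  have hkill : ∀ a ∈ T', ∃ v : A, v ∉ p ∧ v * a = 0 := by
    intro a ha
    have h0 : i * a = 0 := (hT' ▸ Submodule.subset_span ha :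
      a ∈ LinearMap.ker (LinearMap.mulLeft A i))
    have : algebraMap A L a = 0 := by
      apply (mul_cancel_left_mem_nonZeroDivisors hiL).1
      rw [mul_zero, ← map_mul, h0, map_zero]
    obtain ⟨v, hv⟩ := (IsLocalization.map_eq_zero_iff p.primeCompl L a).1 this
    exact ⟨v, v.2, hv⟩
  choose! v hv hv' using hkill
  let t := (∏ a ∈ T, u a) * ∏ a ∈ T', v a
  refine ⟨i, hi, t, ?_, ?_, ?_⟩
  · intro h
    rcases Ideal.IsPrime.mem_or_mem ‹p.IsPrime› h with h | h
    · obtain ⟨a, ha, h⟩ := Ideal.IsPrime.prod_mem_iff.1 h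
      exact hu' a (hT ▸ Submodule.subset_span ha) h
    · obtain ⟨a, ha, h⟩ := Ideal.IsPrime.prod_mem_iff.1 h
      exact hv a ha h
  · intro B _ _ _
    refine le_antisymm ?_ ((Ideal.span_singleton_le_iff_mem _).2 (Ideal.mem_map_of_mem _ hi))
    rw [Ideal.map_le_iff_le_comap, ← hT, Submodule.span_le]
    intro a ha
    rw [SetLike.mem_coe, Ideal.mem_comap]
    have hua : IsUnit (algebraMap A B (u a)) :=
      isUnit_of_dvd_unit (map_dvd _ ((Finset.dvd_prod_of_mem u ha).trans (dvd_mul_right _ _)))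
        (IsLocalization.Away.algebraMap_isUnit t)
    refine (Ideal.unit_mul_mem_iff_mem _ hua).1 ?_
    rw [← map_mul]
    have := Ideal.mem_map_of_mem (algebraMap A B) (hu'' a (hT ▸ Submodule.subset_span ha))
    rwa [Ideal.map_span, Set.image_singleton] at this
  · intro B _ _ _
    refine mem_nonZeroDivisors_iff_right.2 fun b hb => ?_
    obtain ⟨⟨a, m⟩, rfl⟩ := IsLocalization.mk'_surjective (Submonoid.powers t) b
    rw [mul_comm, IsLocalization.mul_mk'_eq_mk'_of_mul, IsLocalization.mk'_eq_zero_iff] at hb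
    obtain ⟨w, hw⟩ := hb
    rw [IsLocalization.mk'_eq_zero_iff]
    have hker : (w : A) * a ∈ Submodule.span A (T' : Set A) := by
      rw [hT']
      exact (mul_left_comm i (w : A) a).trans hw
    have hall : ∀ z ∈ Submodule.span A (T' : Set A), t * z = 0 := by
      intro z hz
      induction hz using Submodule.span_induction with
      | mem z hz =>
        have hd : v z ∣ t := (Finset.dvd_prod_of_mem v hz).trans
          (dvd_mul_left _ (∏ a ∈ T, u a))
        obtain ⟨c, hc⟩ := hd
        rw [hc, mul_right_comm, hv' z hz, zero_mul]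
      | zero => exact mul_zero t
      | add z z' _ _ h h' => rw [mul_add, h, h', add_zero]
      | smul r z _ h => rw [smul_eq_mul, mul_left_comm, h, mul_zero]
    exact ⟨⟨t, 1, pow_one t⟩ * w, by rw [Submonoid.coe_mul, mul_assoc]; exact hall _ hker⟩


/-- Let X be locally Noetherian and D a closed subscheme with ideal sheaf I. If for every point x of D
the ideal generated by I in the local ring at x is generated by one nonzerodivisor, then D is an
effective Cartier divisor. -/
theorem result (X : Scheme.{u}) [IsLocallyNoetherian X]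
    (D : X.IdealSheafData)
    (h : ∀ x ∈ D.support, ∀ (U : X.affineOpens) (hx : x ∈ (U : X.Opens)),
      ∃ g : X.presheaf.stalk x, g ∈ nonZeroDivisors (X.presheaf.stalk x) ∧
        (D.ideal U).map (X.presheaf.germ U x hx).hom = Ideal.span {g}) :
    BlowUp.IsEffCartierIdeal D := by
  intro x
  by_cases hx : x ∈ D.support
  swap
  · obtain ⟨_, ⟨W, hW, rfl⟩, hxW, hWle⟩ := X.isBasis_affineOpens.exists_subset_of_mem_open
      (show x ∈ (D.support.compl : X.Opens) from hx) (D.support.compl : X.Opens).2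
    change X.Opens at W
    replace hW : IsAffineOpen W := hW
    refine ⟨⟨W, hW⟩, hxW, 1, one_mem _, ?_⟩
    rw [Ideal.span_singleton_one]
    by_contra hne
    obtain ⟨M, hM, hle⟩ := Ideal.exists_le_maximal _ hne
    let q : Spec Γ(X, W) := ⟨M, hM.isPrime⟩
    have hz : hW.fromSpec q ∈ W := Groth.L22.LocalDim.fromSpec_mem hW q
    refine hWle hz ((Scheme.IdealSheafData.mem_support_iff_of_mem (U := ⟨W, hW⟩) hz).2 ?_)
    rw [Scheme.mem_zeroLocus_iff]
    intro a ha hza
    rw [Groth.L22.LocalDim.mem_basicOpen_iff hW hz,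
      Groth.L22.LocalDim.primeIdealOf_fromSpec] at hza
    exact hza (hle ha)
  · obtain ⟨_, ⟨W, hW, rfl⟩, hxW, -⟩ :=
      X.isBasis_affineOpens.exists_subset_of_mem_open (Set.mem_univ x) isOpen_univ
    change X.Opens at W
    replace hW : IsAffineOpen W := hW
    haveI : IsNoetherianRing Γ(X, W) := IsLocallyNoetherian.component_noetherian ⟨W, hW⟩
    obtain ⟨g, hg, hspan⟩ := h x hx ⟨W, hW⟩ hxW
    letI : Algebra Γ(X, W) (X.presheaf.stalk x) :=
      TopCat.Presheaf.algebra_section_stalk X.presheaf ⟨x, hxW⟩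
    set p := hW.primeIdealOf ⟨x, hxW⟩ with hp
    haveI : IsLocalization.AtPrime (X.presheaf.stalk x) p.asIdeal :=
      hW.isLocalization_stalk ⟨x, hxW⟩
    have hspan' : (D.ideal ⟨W, hW⟩).map (algebraMap Γ(X, W) (X.presheaf.stalk x)) =
        Ideal.span {g} := hspan
    obtain ⟨i, hi, t, ht, hspan2, hnzd⟩ := exists_spread p.asIdeal (X.presheaf.stalk x)
      (D.ideal ⟨W, hW⟩) g hg hspan'
    refine ⟨⟨X.basicOpen t, hW.basicOpen t⟩,
      (Groth.L22.LocalDim.mem_basicOpen_iff hW hxW t).2 ht, ?_⟩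
    haveI := hW.isLocalization_basicOpen t
    refine ⟨algebraMap Γ(X, W) Γ(X, X.basicOpen t) i, hnzd, ?_⟩
    rw [← Scheme.IdealSheafData.map_ideal D (U := ⟨X.basicOpen t, hW.basicOpen t⟩)
      (V := ⟨W, hW⟩) (X.basicOpen_le t)]
    exact hspan2 Γ(X, X.basicOpen t)

end Groth.Agent.S1570
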