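import Groth.Statements.S15700
import Groth.Agent.L12.RatSpec
import Groth.Agent.L12.NormSub
import Groth.Agent.L22.SchemeDim
import Mathlib.AlgebraicGeometry.Morphisms.UnderlyingMap
-- import your own Groth.Agent.* helpers here

set_option autoImplicit false
universe u
open CategoryTheory AlgebraicGeometry
open RatVar

namespace Groth.Agent.S15700

open TopologicalSpace in
theorem fromSpec_comp (k : Type u) [Field k] (X : Scheme.{u}) [X.Over (Spec (CommRingCat.of k))]
    {U : X.Opens} (hU : IsAffineOpen U) :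
    hU.fromSpec ≫ (X ↘ Spec (CommRingCat.of k)) = Spec.map (CommRingCat.ofHom (Groth.L22.SchemeDim.sectHom k X U)) := by
  rw [Groth.L12.NormSub.eq_toSpecΓ (X ↘ Spec (CommRingCat.of k)), hU.fromSpec_toSpecΓ_assoc, ← Spec.map_comp]
  rfl

open TopologicalSpace MvPolynomial in
theorem main (k : Type u) [Field k] [Infinite k] (X : Scheme.{u}) [X.Over (Spec (CommRingCat.of k))] [IsIntegral X]
    [LocallyOfFiniteType (X ↘ Spec (CommRingCat.of k))]
    (n : ℕ) (W : (Spec (CommRingCat.of (MvPolynomial (Fin n) k))).Opens) (hW : (W : Set ↑(Spec (CommRingCat.of (MvPolynomial (Fin n) k)))).Nonempty)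
    (φ : (W : Scheme.{u}) ⟶ X) [IsDominant φ]
    (hφ : φ ≫ (X ↘ Spec (CommRingCat.of k)) = W.ι ≫ Spec.map (CommRingCat.ofHom (algebraMap k (MvPolynomial (Fin n) k)))) :
    ∃ (m : ℕ) (W' : (Spec (CommRingCat.of (MvPolynomial (Fin m) k))).Opens) (ψ : (W' : Scheme.{u}) ⟶ X),
      (W' : Set ↑(Spec (CommRingCat.of (MvPolynomial (Fin m) k)))).Nonempty ∧ IsDominant ψ ∧
      ψ ≫ (X ↘ Spec (CommRingCat.of k)) = W'.ι ≫ Spec.map (CommRingCat.ofHom (algebraMap k (MvPolynomial (Fin m) k))) ∧
      (m : WithBot ℕ∞) = topologicalKrullDim X := by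
  let f := X ↘ Spec (CommRingCat.of k)
  obtain ⟨_, ⟨U, hU, rfl⟩, hηU, -⟩ :=
    X.isBasis_affineOpens.exists_subset_of_mem_open (Set.mem_univ (genericPoint X)) isOpen_univ
  haveI : Nonempty U := ⟨⟨_, hηU⟩⟩
  let P := MvPolynomial (Fin n) k
  -- a basic open of the source over `U`
  obtain ⟨w, hw⟩ : ((φ ⁻¹ᵁ U : (W : Scheme.{u}).Opens) : Set W).Nonempty := by
    obtain ⟨w, hw⟩ := φ.denseRange.exists_mem_open U.2 ⟨_, hηU⟩
    exact ⟨w, hw⟩
  let V : (Spec (CommRingCat.of P)).Opens := W.ι ''ᵁ (φ ⁻¹ᵁ U)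
  obtain ⟨_, ⟨_, ⟨h, rfl⟩, rfl⟩, hwh, hle⟩ := PrimeSpectrum.isBasis_basic_opens.exists_subset_of_mem_open
    (show W.ι w ∈ V from ⟨w, hw, rfl⟩) V.2
  have hh : h ≠ 0 := by
    rintro rfl
    rw [PrimeSpectrum.basicOpen_zero] at hwh
    exact hwh
  let L := Localization.Away h
  haveI : IsDomain L := IsLocalization.isDomain_localization (powers_le_nonZeroDivisors_of_noZeroDivisors hh)
  let j : Spec (CommRingCat.of L) ⟶ Spec (CommRingCat.of P) := Spec.map (CommRingCat.ofHom (algebraMap P L))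
  haveI : IsOpenImmersion j := IsOpenImmersion.of_isLocalization h
  have hjV : ∀ z, j z ∈ V := fun z => hle ((PrimeSpectrum.localization_away_comap_range L h).le ⟨z, rfl⟩)
  have hrW : Set.range j ⊆ Set.range W.ι := by
    rintro _ ⟨z, rfl⟩
    obtain ⟨y, -, hy⟩ := hjV z
    exact ⟨y, hy⟩
  let lW := IsOpenImmersion.lift W.ι j hrW
  have hlW : lW ≫ W.ι = j := IsOpenImmersion.lift_fac _ _ _
  haveI : IsOpenImmersion (lW ≫ W.ι) := by rw [hlW]; infer_instance
  haveI : IsOpenImmersion lW := IsOpenImmersion.of_comp lW W.ι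
  have hrU : Set.range (lW ≫ φ) ⊆ Set.range hU.fromSpec := by
    rw [hU.range_fromSpec]
    rintro _ ⟨z, rfl⟩
    obtain ⟨y, hy, hyz⟩ := hjV z
    have : lW z = y := W.ι.isOpenEmbedding.injective (((congr($hlW z))).trans hyz.symm)
    show φ (lW z) ∈ U
    rw [this]; exact hy
  let a := IsOpenImmersion.lift hU.fromSpec (lW ≫ φ) hrU
  have hafac : a ≫ hU.fromSpec = lW ≫ φ := IsOpenImmersion.lift_fac _ _ _
  letI : Algebra k Γ(X, U) := (Groth.L22.SchemeDim.sectHom k X U).toAlgebra
  haveI : Algebra.FiniteType k Γ(X, U) := Groth.L22.SchemeDim.finiteType_sectHom k X hU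
  obtain ⟨θ, hθ⟩ : ∃ θ : Γ(X, U) ⟶ CommRingCat.of L, Spec.map θ = a := ⟨_, Spec.map_preimage _⟩
  have hcomm : θ.hom.comp (algebraMap k Γ(X, U)) = algebraMap k L := by
    have h1 : Spec.map (CommRingCat.ofHom (algebraMap k Γ(X, U)) ≫ θ) = Spec.map (CommRingCat.ofHom (algebraMap k L)) := by
      rw [Spec.map_comp, hθ, show Spec.map (CommRingCat.ofHom (algebraMap k Γ(X, U))) = hU.fromSpec ≫ f from
        (fromSpec_comp k X hU).symm, reassoc_of% hafac, hφ, reassoc_of% hlW, ← Spec.map_comp,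
        ← CommRingCat.ofHom_comp, ← IsScalarTower.algebraMap_eq]
    exact congrArg CommRingCat.Hom.hom (Spec.map_injective h1)
  let φA : Γ(X, U) →ₐ[k] L := { θ.hom with commutes' := fun r => RingHom.congr_fun hcomm r }
  have hinj : Function.Injective φA := by
    haveI : Nonempty (Spec (CommRingCat.of L)) := ⟨(⟨⊥, Ideal.isPrime_bot⟩ : PrimeSpectrum L)⟩
    haveI : Nonempty (W : Scheme.{u}) := ⟨w⟩
    haveI : IrreducibleSpace (W : Scheme.{u}) := by
      haveI : IsIntegral (W : Scheme.{u}) := isIntegral_of_isOpenImmersion W.ι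
      infer_instance
    have hd : DenseRange lW := lW.isOpenEmbedding.isOpen_range.dense (Set.range_nonempty _)
    have hd2 : DenseRange (lW ≫ φ) := by
      rw [show ((lW ≫ φ : Spec (CommRingCat.of L) ⟶ X) : Spec (CommRingCat.of L) → X) = (φ : W → X) ∘ lW from rfl]
      exact DenseRange.comp φ.denseRange hd φ.continuous
    have hd3 : DenseRange a := by
      have h1 : closure (Set.range a) = hU.fromSpec ⁻¹' closure (hU.fromSpec '' Set.range a) := by
        rw [hU.fromSpec.isOpenEmbedding.isOpenMap.preimage_closure_eq_closure_preimage hU.fromSpec.continuous,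
          hU.fromSpec.isOpenEmbedding.injective.preimage_image]
      rw [DenseRange, dense_iff_closure_eq, h1, ← Set.range_comp]
      have : (hU.fromSpec : Spec Γ(X, U) → X) ∘ a = (lW ≫ φ : Spec (CommRingCat.of L) → X) :=
        funext fun z => congr($hafac z)
      rw [this, hd2.closure_range, Set.preimage_univ]
    rw [← hθ] at hd3
    have hk := (PrimeSpectrum.denseRange_comap_iff_ker_le_nilRadical θ.hom).1 hd3
    rw [nilradical_eq_zero, Ideal.zero_eq_bot, le_bot_iff] at hk
    exact (RingHom.injective_iff_ker_eq_bot _).2 hk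
  obtain ⟨m, hm, h', hh', σ, hσ⟩ := Groth.L12.RatSpec.exists_specialisation h hh Γ(X, U) φA hinj
  let Y := MvPolynomial (Fin m) k
  let W' : (Spec (CommRingCat.of Y)).Opens := PrimeSpectrum.basicOpen h'
  let L' := Localization.Away h'
  let e := basicOpenIsoSpecAway (R := CommRingCat.of Y) h'
  let ρ : Spec (CommRingCat.of L') ⟶ Spec Γ(X, U) := Spec.map (CommRingCat.ofHom (σ.comp φA).toRingHom)
  haveI : IsDomain L' := IsLocalization.isDomain_localization (powers_le_nonZeroDivisors_of_noZeroDivisors hh')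
  refine ⟨m, W', e.hom ≫ ρ ≫ hU.fromSpec, ?_, ?_, ?_, ?_⟩
  · exact ⟨(⟨⊥, Ideal.isPrime_bot⟩ : PrimeSpectrum Y), fun h0 => hh' (Ideal.mem_bot.1 h0)⟩
  · have hd : DenseRange ρ := (PrimeSpectrum.denseRange_comap_iff_ker_le_nilRadical (σ.comp φA).toRingHom).2
      (((RingHom.injective_iff_ker_eq_bot _).1 hσ).le.trans bot_le)
    haveI : IsDominant ρ := ⟨hd⟩
    haveI : IsDominant hU.fromSpec := ⟨hU.fromSpec.isOpenEmbedding.isOpen_range.dense
      (by rw [hU.range_fromSpec]; exact ⟨_, hηU⟩)⟩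
    infer_instance
  · simp only [Category.assoc]
    rw [fromSpec_comp k X hU]
    have h1 : (σ.comp φA).toRingHom.comp (Groth.L22.SchemeDim.sectHom k X U) = (algebraMap Y L').comp (algebraMap k Y) := by
      rw [← IsScalarTower.algebraMap_eq]
      exact RingHom.ext fun r => (σ.comp φA).commutes r
    rw [← Spec.map_comp, ← CommRingCat.ofHom_comp, h1, CommRingCat.ofHom_comp, Spec.map_comp, ← Category.assoc]
    exact congrArg (· ≫ _) (basicOpenIsoSpecAway_hom_SpecMap (R := CommRingCat.of Y) h')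
  · haveI : IrreducibleSpace X := inferInstance
    obtain ⟨d, hd, -, hdU⟩ := Groth.L22.SchemeDim.exists_dim_eq_trdeg k X
    rw [← hm, hd, ← hdU U ⟨_, hηU⟩]
    exact (Groth.L22.SchemeDim.topologicalKrullDim_affineOpen hU).symm


/-- Over an infinite field k, an integral scheme X of finite type over k that admits a dominant
k-morphism from a k-rational variety admits one from a k-rational variety of the same dimension as
X. Stated with open subschemes of affine spaces: if a non-empty open subscheme of Spec k[x_1, ...,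
x_n] maps dominantly to X over k, then some non-empty open subscheme of some Spec k[x_1, ..., x_m]
with m = dim X maps dominantly to X over k. -/
theorem result (k : Type u) [Field k] [Infinite k]
    (X : Scheme.{u}) (f : X ⟶ Spec (CommRingCat.of k)) [IsIntegral X] [LocallyOfFiniteType f] [QuasiCompact f]
    (n : ℕ) (W : (Spec (CommRingCat.of (MvPolynomial (Fin n) k))).Opens) (hW : (W : Set ↑(Spec (CommRingCat.of (MvPolynomial (Fin n) k)))).Nonempty)
    (φ : (W : Scheme.{u}) ⟶ X) [IsDominant φ] (hφ : φ ≫ f = W.ι ≫ Spec.map (CommRingCat.ofHom (algebraMap k (MvPolynomial (Fin n) k)))) :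
    ∃ (m : ℕ) (W' : (Spec (CommRingCat.of (MvPolynomial (Fin m) k))).Opens) (ψ : (W' : Scheme.{u}) ⟶ X),
      (W' : Set ↑(Spec (CommRingCat.of (MvPolynomial (Fin m) k)))).Nonempty ∧ IsDominant ψ ∧ ψ ≫ f = W'.ι ≫ Spec.map (CommRingCat.ofHom (algebraMap k (MvPolynomial (Fin m) k))) ∧
      (m : WithBot ℕ∞) = topologicalKrullDim X := by
  letI : X.Over (Spec (CommRingCat.of k)) := ⟨f⟩
  haveI : LocallyOfFiniteType (X ↘ Spec (CommRingCat.of k)) := inferInstanceAs (LocallyOfFiniteType f)
  exact main k X n W hW φ hφ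

end Groth.Agent.S15700
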