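import Groth.Statements.S15701
import Mathlib.AlgebraicGeometry.Morphisms.Separated
import Mathlib.AlgebraicGeometry.Morphisms.ClosedImmersion
-- import your own Groth.Agent.* helpers here

set_option autoImplicit false
universe u
open CategoryTheory AlgebraicGeometry
open RatVar

namespace Groth.Agent.S15701

/-- A faithful action of a finite group on a geometrically integral variety is almost free. Here k is a
field of characteristic zero, X is an integral separated scheme of finite type over k, and the
finite group G acts on X by k-automorphisms through an injective homomorphism to Aut X; the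
conclusion is a non-empty G-stable open subscheme U of X such that for every field K and every
morphism Spec K → X whose image lies in U, an element of G fixing that K-point is the identity. (X
is taken separated: for the affine line with a doubled origin and the involution exchanging the two
origins the action is faithful while every point off the origins is fixed, so no such U exists;
integrality replaces geometric integrality, which is all the codimension argument uses.) -/
theorem result (k : Type u) [Field k] [CharZero k]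
    (X : Scheme.{u}) (f : X ⟶ Spec (CommRingCat.of k)) [IsIntegral X] [LocallyOfFiniteType f]
    [QuasiCompact f] [IsSeparated f]
    (G : Type u) [Group G] [Finite G] (ρ : G →* Aut X)
    (hρ : ∀ g : G, (ρ g).hom ≫ f = f) (hfaith : Function.Injective ρ) :
    ∃ U : X.Opens, (U : Set X).Nonempty ∧ (∀ g : G, (ρ g).hom ⁻¹ᵁ U = U) ∧
      ∀ (K : Type u) [Field K] (x : Spec (CommRingCat.of K) ⟶ X),
        Set.range x.base ⊆ (U : Set X) → ∀ g : G, x ≫ (ρ g).hom = x → g = 1 := by
  haveI : X.IsSeparated := ⟨by rw [← Limits.terminal.comp_from f]; infer_instance⟩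
  let V : G → X.Opens := fun g => ⟨(Set.range (Limits.equalizer.ι (ρ g).hom (𝟙 X)))ᶜ,
    (Limits.equalizer.ι (ρ g).hom (𝟙 X)).isClosedEmbedding.isClosed_range.isOpen_compl⟩
  have hη : ∀ g, g ≠ 1 → genericPoint X ∈ V g := by
    intro g hg hmem
    have hsurj : Surjective (Limits.equalizer.ι (ρ g).hom (𝟙 X)) := ⟨fun z =>
      (genericPoint_specializes z).mem_closed (Limits.equalizer.ι (ρ g).hom (𝟙 X)).isClosedEmbedding.isClosed_range hmem⟩
    have := isIso_of_isClosedImmersion_of_surjective (Y := X) (Limits.equalizer.ι (ρ g).hom (𝟙 X))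
    have h1 : (ρ g).hom = 𝟙 X := by
      rw [← cancel_epi (Limits.equalizer.ι (ρ g).hom (𝟙 X))]
      exact Limits.equalizer.condition _ _
    refine hg (hfaith ?_)
    rw [map_one]
    exact Iso.ext h1
  let U : X.Opens := ⟨⋂ h : G, ⋂ g ∈ {g : G | g ≠ 1}, (ρ h).hom ⁻¹' (V g : Set X),
    isOpen_iInter_of_finite fun h => (Set.toFinite _).isOpen_biInter fun g _ => (V g).2.preimage (ρ h).hom.continuous⟩
  have hU : ∀ z : X, z ∈ U ↔ ∀ h g : G, g ≠ 1 → (ρ h).hom z ∈ V g := fun z => by
    show z ∈ (⋂ h : G, ⋂ g ∈ {g : G | g ≠ 1}, (ρ h).hom ⁻¹' (V g : Set X)) ↔ _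
    simp only [Set.mem_iInter, Set.mem_ofPred_eq, Set.mem_preimage, SetLike.mem_coe]
  have hcomp : ∀ (a b : G) (z : X), (ρ a).hom ((ρ b).hom z) = (ρ (a * b)).hom z := fun a b z => by
    rw [map_mul, ← Scheme.Hom.comp_apply]
    rfl
  have hone : ∀ z : X, (ρ 1).hom z = z := fun z => by
    rw [map_one]
    rfl
  refine ⟨U, ⟨genericPoint X, (hU _).2 fun h g hg => ?_⟩, fun g => ?_, fun K _ x hx g hg => ?_⟩
  · exact (((genericPoint_spec X).mem_open_set_iff ((V g).2.preimage (ρ h).hom.continuous)).2
      ⟨(ρ h⁻¹).hom (genericPoint X), trivial, by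
        show (ρ h).hom ((ρ h⁻¹).hom (genericPoint X)) ∈ V g
        rw [hcomp, mul_inv_cancel, hone]
        exact hη g hg⟩)
  · ext z
    show (ρ g).hom z ∈ U ↔ z ∈ U
    rw [hU, hU]
    refine ⟨fun hz h a ha => ?_, fun hz h a ha => ?_⟩
    · have := hz (h * g⁻¹) a ha
      rwa [hcomp, inv_mul_cancel_right] at this
    · rw [hcomp]
      exact hz _ a ha
  · by_contra hne
    have hmem := (hU _).1 (hx ⟨IsLocalRing.closedPoint K, rfl⟩) 1 g hne
    rw [hone] at hmem
    refine hmem ⟨Limits.equalizer.lift x (by rw [hg, Category.comp_id]) (IsLocalRing.closedPoint K), ?_⟩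
    rw [← Scheme.Hom.comp_apply, Limits.equalizer.lift_ι]

end Groth.Agent.S15701
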