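import Groth.Statements.S15702
import Groth.Agent.L08.Basic
import Groth.Agent.L08.UnitsLines
import Groth.Agent.L08.KrullHopf

set_option autoImplicit false
universe u
open GLin

namespace Groth.Agent.S15702

open TensorProduct Groth.L08

theorem isGroupLikeElem_of_scalar {k A U : Type u} [Field k] [CommRing A] [HopfAlgebra k A] [AddCommGroup U]
    [Module k U] [HopfRep.Comod k A U] {q : U} (hq0 : q ≠ 0) {g : A}
    (hq : ∀ φ : A →ₗ[k] k, fAct U φ q = φ g • q) : IsGroupLikeElem k g := by
  obtain ⟨f, hf⟩ : ∃ f : Module.Dual k U, f q = 1 := by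
    obtain ⟨f, hf⟩ : ∃ f : Module.Dual k U, f q ≠ 0 := by
      by_contra! h0
      exact hq0 ((Module.forall_dual_apply_eq_zero_iff k q).1 h0)
    exact ⟨(f q)⁻¹ • f, by simp [hf]⟩
  have hc : cf (A := A) f q = g := by
    rw [← sub_eq_zero, ← Module.forall_dual_apply_eq_zero_iff k]
    intro φ
    rw [map_sub, apply_cf, hq, map_smul, hf, smul_eq_mul, mul_one, sub_self]
  have hco : HopfRep.Comod.coact (k := k) (A := A) q = q ⊗ₜ[k] g := by
    classical
    let b := Module.Basis.ofVectorSpace k A
    refine (TensorProduct.equivFinsuppOfBasisRight b).injective (Finsupp.ext fun i => ?_)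
    rw [TensorProduct.equivFinsuppOfBasisRight_apply, TensorProduct.equivFinsuppOfBasisRight_apply,
      ← fAct_apply, hq]
    simp
  refine ⟨?_, ?_⟩
  · have h1 := hq Coalgebra.counit
    rw [fAct_counit, LinearMap.id_apply] at h1
    exact (smul_left_injective k hq0 ((one_smul k q).trans h1)).symm
  · have h2 : Coalgebra.comul (R := k) (cf (A := A) f q) = (cf (A := A) f).rTensor A (HopfRep.Comod.coact (k := k) (A := A) q) :=
      LinearMap.congr_fun (isComodHom_cf f) q
    rwa [hco, LinearMap.rTensor_tmul, hc] at h2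


section

variable {k A B : Type u} [Field k] [CommRing A] [HopfAlgebra k A] [CommRing B] [Algebra k B]
  [HopfRep.Comod k A B]

theorem point_inverse (φ : A →ₐ[k] k) :
    ∃ ψ : A →ₐ[k] k, (∀ b : B, HopfRep.Comod.act k A B φ (HopfRep.Comod.act k A B ψ b) = b) ∧
      ∀ b : B, HopfRep.Comod.act k A B ψ (HopfRep.Comod.act k A B φ b) = b := by
  let ψ : A →ₐ[k] k := φ.comp (HopfAlgebra.antipodeAlgHom k A)
  have hS : ψ.toLinearMap = φ.toLinearMap ∘ₗ HopfAlgebra.antipode k := rfl
  have key : ∀ (u v : A →ₗ[k] A), LinearMap.mul' k A ∘ₗ TensorProduct.map u v ∘ₗ Coalgebra.comul =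
      Algebra.linearMap k A ∘ₗ Coalgebra.counit →
      ∀ b : B, fAct B (φ.toLinearMap ∘ₗ u) (fAct B (φ.toLinearMap ∘ₗ v) b) = b := by
    intro u v huv b
    have h1 : LinearMap.mul' k k ∘ₗ TensorProduct.map (φ.toLinearMap ∘ₗ u) (φ.toLinearMap ∘ₗ v) ∘ₗ
        Coalgebra.comul = Coalgebra.counit := by
      refine LinearMap.ext fun x => ?_
      have h2 : ∀ y : A ⊗[k] A, LinearMap.mul' k k (TensorProduct.map (φ.toLinearMap ∘ₗ u)
          (φ.toLinearMap ∘ₗ v) y) = φ (LinearMap.mul' k A (TensorProduct.map u v y)) := by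
        intro y
        induction y with
        | zero => simp
        | add a b ha hb => simp only [map_add, ha, hb]
        | tmul a b => simp
      rw [LinearMap.comp_apply, LinearMap.comp_apply, h2]
      have h3 : LinearMap.mul' k A (TensorProduct.map u v (Coalgebra.comul x)) =
          algebraMap k A (Coalgebra.counit x) := LinearMap.congr_fun huv x
      rw [h3, AlgHom.commutes]
      rfl
    have h4 := LinearMap.congr_fun (fAct_comp (V := B) (φ.toLinearMap ∘ₗ u) (φ.toLinearMap ∘ₗ v)) b
    rw [h1, fAct_counit, LinearMap.id_apply] at h4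
    exact h4.symm
  refine ⟨ψ, fun b => ?_, fun b => ?_⟩
  · show fAct B φ.toLinearMap (fAct B ψ.toLinearMap b) = b
    rw [hS]
    exact key LinearMap.id (HopfAlgebra.antipode k) HopfAlgebra.mul_antipode_lTensor_comul b
  · show fAct B ψ.toLinearMap (fAct B φ.toLinearMap b) = b
    rw [hS]
    exact key (HopfAlgebra.antipode k) LinearMap.id HopfAlgebra.mul_antipode_rTensor_comul b

/-- A non-zero element which every point moves by a unit is fixed. -/
theorem fixed_of_unit_multiples [IsAlgClosed k] [Algebra.FiniteType k A] [IsDomain A]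
    [Algebra.FiniteType k B] [IsDomain B] (hchar : ∀ a : A, IsGroupLikeElem k a → a = 1)
    {a : B} (ha : a ≠ 0)
    (h : ∀ φ : A →ₐ[k] k, ∃ u : B, IsUnit u ∧ HopfRep.Comod.act k A B φ a = a * u)
    (φ : A →ₐ[k] k) : HopfRep.Comod.act k A B φ a = a := by
  classical
  obtain ⟨S, hS⟩ := TensorProduct.exists_finset (HopfRep.Comod.coact (k := k) (A := A) a)
  let V0 : Submodule k B := Submodule.span k ((S.image Prod.fst : Finset B) : Set B)
  have hV0 : ∀ θ : A →ₗ[k] k, fAct B θ a ∈ V0 := by
    intro θ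
    rw [fAct_apply, hS, map_sum, map_sum]
    refine Submodule.sum_mem _ fun i hi => ?_
    rw [LinearMap.lTensor_tmul, TensorProduct.rid_tmul]
    exact Submodule.smul_mem _ _ (Submodule.subset_span (Finset.mem_image_of_mem Prod.fst hi))
  haveI : FiniteDimensional k V0 := FiniteDimensional.span_finset k _
  let V : Submodule k B := V0.comap (LinearMap.mulLeft k a)
  haveI : FiniteDimensional k V :=
    Module.Finite.of_injective (((LinearMap.mulLeft k a).domRestrict V).codRestrict V0 fun x => x.2)
      fun x y hxy => Subtype.ext (mul_left_cancel₀ ha (congrArg Subtype.val hxy))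
  obtain ⟨s, hs⟩ := UnitsLines.exists_finset_lines B V
  let J : B → Submodule k A := fun w =>
    Submodule.map ((LinearMap.applyₗ a).comp
      ({ toFun := fun θ => cf (A := A) θ, map_add' := cf_add, map_smul' := cf_smul } :
        Module.Dual k B →ₗ[k] B →ₗ[k] A)) (Submodule.span k {a * w}).dualAnnihilator
  have hJ : ∃ w ∈ s, J w = ⊥ := by
    by_contra hne
    have hne' : ∀ w ∈ s, ∃ x ∈ J w, x ≠ 0 :=
      fun w hw => Submodule.exists_mem_ne_zero_of_ne_bot fun hb => hne ⟨w, hw, hb⟩
    choose! x hxJ hx0 using hne'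
    have hP : (∏ w ∈ s, x w) ∉ (⊥ : Ideal A) := by
      simpa [Finset.prod_eq_zero_iff] using hx0
    obtain ⟨χ, -, hχ⟩ := KrullHopf.exists_point_notMem k (⊥ : Ideal A) hP
    obtain ⟨u, hu, hau⟩ := h χ
    have huV : u ∈ V := by
      show a * u ∈ V0
      rw [← hau]
      exact hV0 χ.toLinearMap
    obtain ⟨w, hw, c, rfl⟩ := hs u huV hu
    obtain ⟨θ, hθ, hθx⟩ := hxJ w hw
    refine hχ ?_
    rw [map_prod]
    refine Finset.prod_eq_zero hw ?_
    rw [← hθx]
    show χ.toLinearMap (cf θ a) = 0
    rw [apply_cf]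
    show θ (HopfRep.Comod.act k A B χ a) = 0
    rw [hau, mul_smul_comm, map_smul,
      (Submodule.mem_dualAnnihilator θ).1 hθ _ (Submodule.mem_span_singleton_self _), smul_zero]
  obtain ⟨w, -, hw⟩ := hJ
  have hline : ∀ θ : A →ₗ[k] k, fAct B θ a ∈ Submodule.span k {a * w} := by
    intro θ
    by_contra hn
    obtain ⟨f, hfv, hf⟩ := Submodule.exists_le_ker_of_notMem hn
    refine hfv ?_
    rw [← apply_cf]
    have : cf (A := A) f a ∈ J w :=
      ⟨f, (Submodule.mem_dualAnnihilator f).2 fun v hv => LinearMap.mem_ker.1 (hf hv), rfl⟩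
    rw [hw, Submodule.mem_bot] at this
    rw [this, map_zero]
  have haw : a ∈ Submodule.span k {a * w} := by
    simpa using hline Coalgebra.counit
  obtain ⟨c0, hc0⟩ := Submodule.mem_span_singleton.1 haw
  have hscal : ∀ θ : A →ₗ[k] k, ∃ d : k, fAct B θ a = d • a := by
    intro θ
    obtain ⟨e, he⟩ := Submodule.mem_span_singleton.1 (hline θ)
    have hc00 : c0 ≠ 0 := by
      rintro rfl
      rw [zero_smul] at hc0
      exact ha hc0.symm
    refine ⟨e * c0⁻¹, ?_⟩
    rw [mul_smul, ← he]
    congr 1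
    rw [eq_inv_smul_iff₀ hc00]
    exact hc0
  choose d hd using hscal
  obtain ⟨θ0, hθ0⟩ : ∃ f : Module.Dual k B, f a = 1 := by
    obtain ⟨f, hf⟩ : ∃ f : Module.Dual k B, f a ≠ 0 := by
      by_contra! h0
      exact ha ((Module.forall_dual_apply_eq_zero_iff k a).1 h0)
    exact ⟨(f a)⁻¹ • f, by simp [hf]⟩
  have hg : ∀ θ : A →ₗ[k] k, fAct B θ a = θ (cf θ0 a) • a := by
    intro θ
    rw [apply_cf, hd, map_smul, hθ0, smul_eq_mul, mul_one]
  have h1 := hchar _ (isGroupLikeElem_of_scalar ha hg)
  show fAct B φ.toLinearMap a = a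
  rw [hg, h1, AlgHom.toLinearMap_apply, map_one, one_smul]

end


/-- Let k be algebraically closed of characteristic zero, let G be a connected linear algebraic group
over k without non-trivial characters acting on an integral affine k-variety Spec B of finite type
with B a unique factorisation domain; then the field of G-invariant rational functions is the
fraction field of the ring of invariants B^G. In coordinate-ring form: A is a commutative Hopf
algebra of finite type over k, a domain, whose only group-like element is 1; B is a k-algebra of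
finite type, a domain and a unique factorisation monoid, with a coaction of A that is an algebra
map; k-points φ : A →ₐ[k] k act on B through the coaction. If f, g ∈ B, g ≠ 0, satisfy (φ·f) g = f
(φ·g) for all φ, then f g' = f' g for some f', g' ∈ B fixed by all φ with g' ≠ 0. (The published
lemma allows G disconnected with character-free identity component; this row is the connected case
treated first in its proof.) -/
theorem result (k : Type u) [Field k] [IsAlgClosed k] [CharZero k]
    (A : Type u) [CommRing A] [HopfAlgebra k A] [Algebra.FiniteType k A] [IsDomain A]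
    (hchar : ∀ a : A, IsGroupLikeElem k a → a = 1)
    (B : Type u) [CommRing B] [Algebra k B] [Algebra.FiniteType k B] [IsDomain B] [UniqueFactorizationMonoid B]
    [HopfRep.Comod k A B] [GLin.IsCoactAlg k A B]
    (f g : B) (hg : g ≠ 0)
    (hinv : ∀ φ : A →ₐ[k] k, HopfRep.Comod.act k A B φ f * g = f * HopfRep.Comod.act k A B φ g) :
    ∃ f' g' : B, (∀ φ : A →ₐ[k] k, HopfRep.Comod.act k A B φ f' = f') ∧
      (∀ φ : A →ₐ[k] k, HopfRep.Comod.act k A B φ g' = g') ∧ g' ≠ 0 ∧ f * g' = f' * g := by
  let T : (A →ₐ[k] k) → (B →ₐ[k] B) := fun φ =>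
    (Algebra.TensorProduct.rid k k B).toAlgHom.comp
      ((Algebra.TensorProduct.map (AlgHom.id k B) φ).comp (GLin.coactAlgHom (k := k) (A := A) (R := B)))
  have hT : ∀ φ b, T φ b = HopfRep.Comod.act k A B φ b := by
    intro φ b
    show _ = TensorProduct.rid k B (φ.toLinearMap.lTensor B (HopfRep.Comod.coact (k := k) (A := A) b))
    show Algebra.TensorProduct.rid k k B (Algebra.TensorProduct.map (AlgHom.id k B) φ
      (HopfRep.Comod.coact (k := k) (A := A) b)) = _
    induction HopfRep.Comod.coact (k := k) (A := A) b with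
    | zero => simp
    | add x y hx hy => simp only [map_add, hx, hy]
    | tmul x y => simp
  obtain ⟨a', b', c', hrel, haf, hbg⟩ := UniqueFactorizationMonoid.exists_reduced_factors' f g hg
  have hb0 : b' ≠ 0 := by
    rintro rfl
    exact hg (hbg.symm.trans (mul_zero _))
  have hc0 : c' ≠ 0 := by
    rintro rfl
    exact hg (hbg.symm.trans (zero_mul _))
  have hinj : ∀ φ : A →ₐ[k] k, Function.Injective (T φ) := by
    intro φ x y hxy
    obtain ⟨ψ, -, h2⟩ := point_inverse (B := B) φ
    rw [← h2 x, ← h2 y, ← hT, ← hT, ← hT, hxy]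
    simp [hT]
  have hcross : ∀ φ, T φ a' * b' = a' * T φ b' := by
    intro φ
    have h := hinv φ
    rw [← hT, ← hT, ← haf, ← hbg, map_mul, map_mul] at h
    have hne : T φ c' * c' ≠ 0 :=
      mul_ne_zero (fun h0 => hc0 (hinj φ (h0.trans (map_zero _).symm))) hc0
    refine mul_left_cancel₀ hne ?_
    linear_combination h
  have hdvd : ∀ φ, a' ∣ T φ a' ∧ b' ∣ T φ b' := fun φ =>
    ⟨hrel.dvd_of_dvd_mul_right ⟨T φ b', hcross φ⟩,
      hrel.symm.dvd_of_dvd_mul_left ⟨T φ a', (hcross φ).symm.trans (mul_comm _ _)⟩⟩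
  have hfix : ∀ x : B, (∀ φ, x ∣ T φ x) → ∀ φ : A →ₐ[k] k, HopfRep.Comod.act k A B φ x = x := by
    intro x hx φ
    rcases eq_or_ne x 0 with rfl | hx0
    · exact map_zero _
    refine fixed_of_unit_multiples hchar hx0 (fun χ => ?_) φ
    obtain ⟨ψ, h1, -⟩ := point_inverse (B := B) χ
    have h2 : T χ x ∣ x := by
      have h3 := map_dvd (T χ) (hx ψ)
      rwa [hT χ (T ψ x), hT ψ x, h1] at h3
    obtain ⟨u, hu⟩ := associated_of_dvd_dvd (hx χ) h2
    exact ⟨u, u.isUnit, (hT χ x).symm.trans hu.symm⟩
  exact ⟨a', b', hfix a' fun φ => (hdvd φ).1, hfix b' fun φ => (hdvd φ).2, hb0,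
    by rw [← haf, ← hbg]; ring⟩


end Groth.Agent.S15702
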