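import Groth.Statements.S15704
import Groth.Agent.L07.SpecialBirat.Half

set_option autoImplicit false
universe u
open CategoryTheory CategoryTheory.Limits MonoidalCategory CartesianMonoidalCategory MonObj GrpObj AlgebraicGeometry
open AGF

set_option linter.style.haveILetI false
set_option backward.isDefEq.respectTransparency.types false
set_option maxHeartbeats 1000000

open Groth.L07.SpecialBirat Groth.L11.SBStable

namespace Groth.Agent.S15704

/-- Let G be a linear algebraic group over a field k of characteristic zero, contained as a closed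
subgroup in two special groups G₁, G₂ whose underlying varieties are k-rational; then G₁/G and G₂/G
are stably k-birationally equivalent. Here G, G₁, G₂ are affine group schemes of finite type over k
with homomorphic closed immersions G → G_j; 'special' is spelled out: for every action of G_j on a
k-scheme X of finite type and every faithfully flat k-morphism p : X → Y to a k-scheme of finite
type such that (g, x) ↦ (g·x, x) makes G_j × X the fibre product X ×_Y X, every point of Y has an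
open neighbourhood over which p has a section; 'k-rational' is birationality over k with an affine
space; Q_j with its G_j-action and base point is a quotient G_j/G; the conclusion is that Q₁ ×_k
Spec k[x_1, ..., x_r] and Q₂ ×_k Spec k[x_1, ..., x_s] are birational over k for some r, s. -/
theorem result (k : Type u) [Field k] [CharZero k]
    (G G₁ G₂ : Over (Spec (CommRingCat.of k))) [GrpObj G] [GrpObj G₁] [GrpObj G₂]
    [IsAffine G.left] [IsAffine G₁.left] [IsAffine G₂.left]
    [LocallyOfFiniteType G.hom] [LocallyOfFiniteType G₁.hom] [LocallyOfFiniteType G₂.hom]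
    (i₁ : G ⟶ G₁) (i₂ : G ⟶ G₂) [IsMonHom i₁] [IsMonHom i₂]
    [IsClosedImmersion i₁.left] [IsClosedImmersion i₂.left]
    (hsp₁ : (∀ (X' Y' : Over (Spec (CommRingCat.of k))) (a : AlgGrp.Action G₁ X') (p : X' ⟶ Y'),
      LocallyOfFiniteType X'.hom → QuasiCompact X'.hom → LocallyOfFiniteType Y'.hom → QuasiCompact Y'.hom →
      Flat p.left → Surjective p.left → IsPullback a.act.left (snd G₁ X').left p.left p.left →
      ∀ y : ↥Y'.left, ∃ (W : Y'.left.Opens) (s : (W : Scheme.{u}) ⟶ X'.left), y ∈ W ∧ s ≫ p.left = W.ι))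
    (hsp₂ : (∀ (X' Y' : Over (Spec (CommRingCat.of k))) (a : AlgGrp.Action G₂ X') (p : X' ⟶ Y'),
      LocallyOfFiniteType X'.hom → QuasiCompact X'.hom → LocallyOfFiniteType Y'.hom → QuasiCompact Y'.hom →
      Flat p.left → Surjective p.left → IsPullback a.act.left (snd G₂ X').left p.left p.left →
      ∀ y : ↥Y'.left, ∃ (W : Y'.left.Opens) (s : (W : Scheme.{u}) ⟶ X'.left), y ∈ W ∧ s ≫ p.left = W.ι))
    [Scheme.IsRationalOver G₁.hom] [Scheme.IsRationalOver G₂.hom]
    (Q₁ Q₂ : Over (Spec (CommRingCat.of k))) (a₁ : AlgGrp.Action G₁ Q₁) (a₂ : AlgGrp.Action G₂ Q₂)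
    (o₁ : 𝟙_ (Over (Spec (CommRingCat.of k))) ⟶ Q₁) (o₂ : 𝟙_ (Over (Spec (CommRingCat.of k))) ⟶ Q₂)
    (hQ₁ : AGF.IsQuotient i₁ Q₁ a₁ o₁) (hQ₂ : AGF.IsQuotient i₂ Q₂ a₂ o₂) :
    ∃ r s : ℕ, Scheme.BirationalOver
      (pullback.fst Q₁.hom (Spec.map (CommRingCat.ofHom (algebraMap k (MvPolynomial (Fin r) k)))) ≫ Q₁.hom)
      (pullback.fst Q₂.hom (Spec.map (CommRingCat.ofHom (algebraMap k (MvPolynomial (Fin s) k)))) ≫ Q₂.hom) := by
  obtain ⟨n₁, hn₁, h₁⟩ := exists_birational_poly G₁.hom
  obtain ⟨n₂, hn₂, h₂⟩ := exists_birational_poly G₂.hom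
  haveI : IrreducibleSpace (G₁ ⊗ G₂).left := by
    haveI := irreducibleSpace_poly_prod (k := k) n₁ n₂
    haveI : LocallyOfFiniteType (polyHom k n₂) :=
      (HasRingHomProperty.Spec_iff (P := @LocallyOfFiniteType)).2
        (RingHom.finiteType_algebraMap.2 inferInstance)
    exact irreducibleSpace_of_birationalOver
      ((birationalOver_prod_right G₁.hom G₂.hom (polyHom k n₂) h₂).trans
        (birationalOver_prod_left (polyHom k n₂) G₁.hom (polyHom k n₁) h₁))
  haveI : IsAffine (G₁ ⊗ G₂).left := inferInstanceAs (IsAffine (pullback G₁.hom G₂.hom))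
  haveI : LocallyOfFiniteType (G₁ ⊗ G₂).hom :=
    inferInstanceAs (LocallyOfFiniteType (pullback.fst G₁.hom G₂.hom ≫ G₁.hom))
  haveI hf₁ : Flat (fst G₁ G₂).left :=
    MorphismProperty.of_isPullback (P := @Flat) (Groth.L25.Actions.isPullback_snd G₁ G₂).flip inferInstance
  haveI hs₁ : Surjective (fst G₁ G₂).left :=
    MorphismProperty.of_isPullback (P := @Surjective) (Groth.L25.Actions.isPullback_snd G₁ G₂).flip
      (Groth.L25.Actions.surjective_grp G₂)
  haveI hf₂ : Flat (snd G₁ G₂).left :=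
    MorphismProperty.of_isPullback (P := @Flat) (Groth.L25.Actions.isPullback_snd G₁ G₂) inferInstance
  haveI hs₂ : Surjective (snd G₁ G₂).left :=
    MorphismProperty.of_isPullback (P := @Surjective) (Groth.L25.Actions.isPullback_snd G₁ G₂)
      (Groth.L25.Actions.surjective_grp G₁)
  let j : G ⟶ G₁ ⊗ G₂ := lift i₁ i₂
  haveI : IsMonHom j := by
    refine ⟨?_, ?_⟩ <;> apply CartesianMonoidalCategory.hom_ext <;> simp [j]
  haveI : IsSeparated (fst G₁ G₂).left := inferInstanceAs (IsSeparated (pullback.fst G₁.hom G₂.hom))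
  haveI : IsClosedImmersion (j.left ≫ (fst G₁ G₂).left) := by
    rw [← Over.comp_left, lift_fst]; infer_instance
  haveI : IsClosedImmersion j.left := IsClosedImmersion.of_comp j.left (fst G₁ G₂).left
  obtain ⟨X, p, a, hlft, -, hps, hpf, -, sq, horb⟩ := Groth.L08.HomSpace.exists_quotient j
  let o := η[G₁ ⊗ G₂] ≫ p
  have hX : AGF.IsQuotient j X a o := by
    refine ⟨hlft, ?_, ?_, ?_⟩
    · rw [horb]; exact hpf
    · rw [horb]; exact hps
    · rw [horb]; exact sq
  let s₂ : G₂ ⟶ G₁ ⊗ G₂ := lift 1 (𝟙 G₂)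
  let s₁ : G₁ ⟶ G₁ ⊗ G₂ := lift (𝟙 G₁) 1
  haveI : IsMonHom (1 : G₂ ⟶ G₁) := by rw [Hom.one_def]; infer_instance
  haveI : IsMonHom (1 : G₁ ⟶ G₂) := by rw [Hom.one_def]; infer_instance
  haveI : IsMonHom s₂ := by
    refine ⟨?_, ?_⟩ <;> apply CartesianMonoidalCategory.hom_ext <;> simp [s₂, - MonObj.comp_one]
  haveI : IsMonHom s₁ := by
    refine ⟨?_, ?_⟩ <;> apply CartesianMonoidalCategory.hom_ext <;> simp [s₁, - MonObj.comp_one]
  haveI := hQ₁.1
  haveI := hQ₂.1
  have e₁ := birationalOver_prod_of_special i₁ (fst G₁ G₂) (snd G₁ G₂)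
    (fun T x y h h' => CartesianMonoidalCategory.hom_ext _ _ h h') s₂ (lift_fst _ _) (lift_snd _ _)
    j (lift_fst _ _) hsp₂ hX hQ₁
  have e₂ := birationalOver_prod_of_special i₂ (snd G₁ G₂) (fst G₁ G₂)
    (fun T x y h h' => CartesianMonoidalCategory.hom_ext _ _ h' h) s₁ (lift_snd _ _) (lift_fst _ _)
    j (lift_snd _ _) hsp₁ hX hQ₂
  obtain ⟨r, hr⟩ := birationalOver_poly_fin (k := k) n₂
  obtain ⟨s, hs⟩ := birationalOver_poly_fin (k := k) n₁
  have f₁ := (birationalOver_symm_prod G₂.hom Q₁.hom).trans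
    (birationalOver_prod_right Q₁.hom _ _ (h₂.trans hr))
  have f₂ := (birationalOver_symm_prod G₁.hom Q₂.hom).trans
    (birationalOver_prod_right Q₂.hom _ _ (h₁.trans hs))
  exact ⟨r, s, f₁.symm.trans (e₁.symm.trans (e₂.trans f₂))⟩

end Groth.Agent.S15704
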