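import Groth.Statements.S15706
import Mathlib.RingTheory.Ideal.AssociatedPrime.Finiteness
import Mathlib.RingTheory.Ideal.MinimalPrime.Localization

set_option autoImplicit false
universe u
open CAlg

namespace Groth.Agent.S15706

/-- Let A be a Noetherian ring with Serre's property (S_1), stated here in the equivalent form that
every associated prime of A is a minimal prime of A. Let I be an ideal of A and b an element of A/I
which is regular (a non-zero-divisor) in A/I. Then b is the image of a regular element of A. -/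
theorem result (A : Type u) [CommRing A]
    [IsNoetherianRing A] (hS1 : ∀ p ∈ associatedPrimes A A, p ∈ minimalPrimes A) (I : Ideal A)
    (b : A ⧸ I) (hb : b ∈ nonZeroDivisors (A ⧸ I)) :
    ∃ a : A, a ∈ nonZeroDivisors A ∧ Ideal.Quotient.mk I a = b := by
  classical
  obtain ⟨a₀, rfl⟩ := Ideal.Quotient.mk_surjective b
  let S := (associatedPrimes.finite A A).toFinset
  let S₁ := S.filter fun p => a₀ ∈ p
  let S₂ := S.filter fun p => a₀ ∉ p
  have hpr : ∀ p ∈ S, p.IsPrime := fun p hp => ((associatedPrimes.finite A A).mem_toFinset.mp hp).isPrime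
  have hmin : ∀ p ∈ S, p ∈ minimalPrimes A := fun p hp =>
    hS1 p ((associatedPrimes.finite A A).mem_toFinset.mp hp)
  have hnot : ∀ p ∈ S₁, ¬ I ⊓ S₂.inf id ≤ p := by
    intro p hp hle
    rw [Finset.mem_filter] at hp
    have := hpr p hp.1
    rcases (Ideal.IsPrime.inf_le this).mp hle with hI | hI
    · obtain ⟨q, hq, hqp⟩ := Ideal.exists_minimalPrimes_le hI
      have hpq : p ≤ q := (hmin p hp.1).2 ⟨hq.isPrime, bot_le⟩ hqp
      have : q = p := le_antisymm hqp hpq
      subst this
      have hbar : (q.map (Ideal.Quotient.mk I)) ∈ minimalPrimes (A ⧸ I) := by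
        rw [minimalPrimes]
        refine ⟨⟨Ideal.isPrime_map_quotientMk_of_isPrime hI, bot_le⟩, fun r hr hrle => ?_⟩
        have h1 : r.comap (Ideal.Quotient.mk I) ≤ q := by
          refine (Ideal.comap_mono hrle).trans ?_
          rw [Ideal.comap_map_of_surjective' _ Ideal.Quotient.mk_surjective, Ideal.mk_ker]
          exact sup_le le_rfl hI
        have h2 : q ≤ r.comap (Ideal.Quotient.mk I) := by
          have := hr.1
          exact hq.2 ⟨Ideal.IsPrime.comap _, by
            conv_lhs => rw [← Ideal.mk_ker (I := I)]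
            exact Ideal.comap_mono bot_le⟩ h1
        exact Ideal.map_le_iff_le_comap.mpr h2
      exact (Ideal.disjoint_nonZeroDivisors_of_mem_minimalPrimes hbar).le_bot
        ⟨Ideal.mem_map_of_mem _ hp.2, hb⟩
    · obtain ⟨q, hq, hqp⟩ := (Ideal.IsPrime.inf_le' this).mp hI
      rw [Finset.mem_filter] at hq
      have hpq : p ≤ q := (hmin p hp.1).2 ⟨hpr q hq.1, bot_le⟩ hqp
      exact hq.2 (hpq hp.2)
  obtain ⟨i, hi, hiS⟩ : ∃ i ∈ I ⊓ S₂.inf id, ∀ p ∈ S₁, i ∉ p := by
    rcases S₁.eq_empty_or_nonempty with h0 | ⟨p₀, hp₀⟩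
    · exact ⟨0, zero_mem _, by simp [h0]⟩
    by_contra! hcon
    obtain ⟨p, hp, hle⟩ := (Ideal.subset_union_prime (f := id) p₀ p₀
      (fun p hp _ _ => hpr p (Finset.mem_filter.mp hp).1)).mp
      (fun x hx => by obtain ⟨p, hp, hxp⟩ := hcon x hx; exact Set.mem_biUnion hp hxp)
    exact hnot p hp hle
  refine ⟨a₀ + i, ?_, ?_⟩
  · by_contra hnz
    have hmem : a₀ + i ∈ ⋃ p ∈ associatedPrimes A A, (p : Set A) := by
      rw [biUnion_associatedPrimes_eq_compl_nonZeroDivisors]
      exact hnz
    obtain ⟨p, hp, hap⟩ := Set.mem_iUnion₂.mp hmem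
    have hpS : p ∈ S := (associatedPrimes.finite A A).mem_toFinset.mpr hp
    by_cases ha : a₀ ∈ p
    · exact hiS p (Finset.mem_filter.mpr ⟨hpS, ha⟩) (by simpa using sub_mem hap ha)
    · have : i ∈ p := (Finset.inf_le (f := id) (Finset.mem_filter.mpr ⟨hpS, ha⟩) :
        S₂.inf id ≤ p) hi.2
      exact ha (by simpa using sub_mem hap this)
  · rw [map_add, Ideal.Quotient.eq_zero_iff_mem.mpr hi.1, add_zero]

end Groth.Agent.S15706
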