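import Groth.Statements.S15707
import Groth.Agent.S15706

set_option autoImplicit false
universe u
open CAlg

namespace Groth.Agent.S15707

/-- Let A be a Noetherian ring with Serre's property (S_1), stated here as: every associated prime of A
is a minimal prime. Let I be an ideal and B = A/I. Then the B-module Hom_A(B, A), with B acting
through the source, is torsion-free: an A-linear map φ : B → A which is killed by a regular element
b of B, in the sense that φ(b x) = 0 for all x, is zero. -/
theorem result (A : Type u) [CommRing A]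
    [IsNoetherianRing A] (hS1 : ∀ p ∈ associatedPrimes A A, p ∈ minimalPrimes A) (I : Ideal A)
    (φ : (A ⧸ I) →ₗ[A] A) (b : A ⧸ I) (hb : b ∈ nonZeroDivisors (A ⧸ I))
    (h : ∀ x : A ⧸ I, φ (b * x) = 0) : φ = 0 := by
  obtain ⟨a, ha, rfl⟩ := Groth.Agent.S15706.result A hS1 I b hb
  have hc : φ 1 = 0 := by
    have := h 1
    rw [mul_one, show (Ideal.Quotient.mk I) a = a • (1 : A ⧸ I) by
      rw [Algebra.smul_def, mul_one]; rfl, map_smul, smul_eq_mul] at this
    exact (mul_right_mem_nonZeroDivisors_eq_zero_iff ha).mp (by rwa [mul_comm])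
  refine LinearMap.ext fun x => ?_
  obtain ⟨r, rfl⟩ := Ideal.Quotient.mk_surjective x
  rw [show (Ideal.Quotient.mk I) r = r • (1 : A ⧸ I) by rw [Algebra.smul_def, mul_one]; rfl,
    map_smul, hc, smul_zero, LinearMap.zero_apply]

end Groth.Agent.S15707
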