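import Groth.Statements.S15708
import Mathlib.RingTheory.GradedAlgebra.Radical
import Mathlib.Order.Preorder.Finite

set_option autoImplicit false
universe u v
open CAlg

namespace Groth.Agent.S15708

theorem exists_hom_notMem {R : Type u} {A : Type v} [CommRing R] [CommRing A] [Algebra R A]
    (𝒜 : ℕ → Submodule R A) [GradedRing 𝒜] {I : Ideal A} (hI : I.IsHomogeneous 𝒜) {q : Ideal A}
    (h : ¬ I ≤ q) : ∃ n, ∃ x ∈ 𝒜 n, x ∈ I ∧ x ∉ q := by
  classical
  obtain ⟨x, hxI, hxq⟩ := SetLike.not_le_iff_exists.mp h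
  by_contra hcon
  push Not at hcon
  refine hxq ?_
  rw [← DirectSum.sum_support_decompose 𝒜 x]
  exact Submodule.sum_mem _ fun i _ => hcon i _ (SetLike.coe_mem _) (hI i hxI)

theorem avoid {R : Type u} {A : Type v} [CommRing R] [CommRing A]
    [Algebra R A] (𝒜 : ℕ → Submodule R A) [GradedRing 𝒜]
    (J : Ideal A) (hJ : J.IsHomogeneous 𝒜) (P : Finset (Ideal A))
    (hP : ∀ p ∈ P, p.IsPrime ∧ ¬ (HomogeneousIdeal.irrelevant 𝒜).toIdeal ≤ p ∧ ¬ J ≤ p) :
    ∃ (z : A) (n : ℕ), 0 < n ∧ z ∈ 𝒜 n ∧ z ∈ J ∧ ∀ p ∈ P, z ∉ p := by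
  classical
  rcases P.eq_empty_or_nonempty with rfl | -
  · exact ⟨0, 1, one_pos, zero_mem _, zero_mem _, by simp⟩
  let cp : Ideal A → Ideal A := fun p => (p.homogeneousCore 𝒜).toIdeal
  let S := P.image cp
  let S' := S.filter fun q => ∀ q' ∈ S, q ≤ q' → q' = q
  have hS : ∀ q ∈ S, q.IsPrime ∧ q.IsHomogeneous 𝒜 ∧
      ¬ (HomogeneousIdeal.irrelevant 𝒜).toIdeal ≤ q ∧ ¬ J ≤ q := fun q hq => by
    obtain ⟨p, hp, rfl⟩ := Finset.mem_image.mp hq
    have hle : cp p ≤ p := Ideal.toIdeal_homogeneousCore_le _ _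
    exact ⟨(hP p hp).1.homogeneousCore, (p.homogeneousCore 𝒜).isHomogeneous,
      fun h => (hP p hp).2.1 (h.trans hle), fun h => (hP p hp).2.2 (h.trans hle)⟩
  have key : ∀ q : S', ∃ d x, 0 < d ∧ x ∈ 𝒜 d ∧ x ∈ J ∧ x ∉ q.1 ∧ ∀ q' : S', q' ≠ q → x ∈ q'.1 := by
    intro q
    obtain ⟨hqS, hqmax⟩ := Finset.mem_filter.mp q.2
    obtain ⟨hqp, hqh, hqi, hqJ⟩ := hS q hqS
    obtain ⟨a, y, hy, hyJ, hyq⟩ := exists_hom_notMem 𝒜 hJ hqJ
    obtain ⟨b, w, hb, hw, hwq⟩ : ∃ b w, 0 < b ∧ w ∈ 𝒜 b ∧ w ∉ q.1 := by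
      by_contra hcon
      push Not at hcon
      exact hqi ((HomogeneousIdeal.toIdeal_irrelevant_le 𝒜).mpr fun i hi x hx => hcon i x hi hx)
    have hx : ∀ q' : S', ∃ n, ∃ x ∈ 𝒜 n, (q' ≠ q → x ∈ q'.1) ∧ x ∉ q.1 := fun q' => by
      by_cases hne : q' = q
      · exact ⟨0, 1, SetLike.one_mem_graded 𝒜, fun h => absurd hne h, fun h => hqp.ne_top ((Ideal.eq_top_iff_one _).mpr h)⟩
      · obtain ⟨hq'S, hq'max⟩ := Finset.mem_filter.mp q'.2
        obtain ⟨n, x, hx, hxq', hxq⟩ := exists_hom_notMem 𝒜 (hS q' hq'S).2.1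
          (fun hle => hne (Subtype.ext (hq'max q hqS hle).symm))
        exact ⟨n, x, hx, fun _ => hxq', hxq⟩
    choose n x hx hxmem hxq using hx
    refine ⟨a + b + ∑ q' : S', n q', y * w * ∏ q' : S', x q', by omega,
      SetLike.mul_mem_graded (SetLike.mul_mem_graded hy hw)
        (SetLike.prod_mem_graded 𝒜 n x fun q' _ => hx q'),
      J.mul_mem_right _ (J.mul_mem_right _ hyJ), ?_, fun q' hne => ?_⟩
    · intro hmem
      rcases hqp.mem_or_mem hmem with h | h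
      · exact (hqp.mem_or_mem h).elim hyq hwq
      · obtain ⟨q', -, hq'⟩ := hqp.prod_mem_iff.mp h
        exact hxq q' hq'
    · exact Ideal.mul_mem_left _ _ (Ideal.prod_mem _ (Finset.mem_univ q') (hxmem q' hne))
  choose d x hd hxd hxJ hxq hxo using key
  let D := ∏ q : S', d q
  have hD : 0 < D := Finset.prod_pos fun q _ => hd q
  let e : S' → ℕ := fun q => D / d q
  have he : ∀ q, 0 < e q := fun q => Nat.div_pos
    (Nat.le_of_dvd hD (Finset.dvd_prod_of_mem d (Finset.mem_univ q))) (hd q)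
  refine ⟨∑ q : S', x q ^ e q, D, hD, Submodule.sum_mem _ fun q _ => ?_, Ideal.sum_mem _ fun q _ =>
    Ideal.pow_mem_of_mem J (hxJ q) _ (he q), fun p hp hz => ?_⟩
  · have := SetLike.pow_mem_graded (e q) (hxd q)
    rwa [smul_eq_mul, Nat.div_mul_cancel (Finset.dvd_prod_of_mem d (Finset.mem_univ q))] at this
  · have hcp : (∑ q : S', x q ^ e q) ∈ cp p := by
      have hzD : (∑ q : S', x q ^ e q) ∈ 𝒜 D := Submodule.sum_mem _ fun q _ => by
        have := SetLike.pow_mem_graded (e q) (hxd q)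
        rwa [smul_eq_mul, Nat.div_mul_cancel (Finset.dvd_prod_of_mem d (Finset.mem_univ q))] at this
      exact Ideal.mem_homogeneousCore_of_homogeneous_of_mem ⟨D, hzD⟩ hz
    obtain ⟨q, hle, hq⟩ := Finset.exists_le_maximal S (Finset.mem_image_of_mem cp hp)
    have hq' : q ∈ S' := Finset.mem_filter.mpr ⟨hq.1, fun r hr hqr => le_antisymm (hq.2 hr hqr) hqr⟩
    obtain ⟨hqp, -⟩ := hS q hq.1
    have h1 := hle hcp
    rw [← Finset.add_sum_erase _ _ (Finset.mem_univ (⟨q, hq'⟩ : S'))] at h1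
    have h2 : ∑ r ∈ (Finset.univ : Finset S').erase ⟨q, hq'⟩, x r ^ e r ∈ q :=
      Ideal.sum_mem _ fun r hr => Ideal.pow_mem_of_mem q
        (hxo r ⟨q, hq'⟩ (Finset.ne_of_mem_erase hr).symm) _ (he r)
    exact hxq ⟨q, hq'⟩ (hqp.mem_of_pow_mem _ ((Submodule.add_mem_iff_left _ h2).mp h1))


/-- Let A be a Noetherian commutative ring graded by the natural numbers, J a homogeneous ideal, and
p_1, ..., p_r finitely many prime ideals such that no p_i contains the irrelevant ideal A_+ and no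
p_i contains J. Then there is a homogeneous element z of positive degree with z in J and z in no
p_i. -/
theorem result {R : Type u} {A : Type v} [CommRing R] [CommRing A]
    [Algebra R A] [IsNoetherianRing A] (𝒜 : ℕ → Submodule R A) [GradedRing 𝒜]
    (J : Ideal A) (hJ : J.IsHomogeneous 𝒜) (P : Finset (Ideal A))
    (hP : ∀ p ∈ P, p.IsPrime ∧ ¬ (HomogeneousIdeal.irrelevant 𝒜).toIdeal ≤ p ∧ ¬ J ≤ p) :
    ∃ (z : A) (n : ℕ), 0 < n ∧ z ∈ 𝒜 n ∧ z ∈ J ∧ ∀ p ∈ P, z ∉ p := avoid 𝒜 J hJ P hP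

end Groth.Agent.S15708
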