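import Groth.Statements.S15709
import Groth.Agent.L17.RatTrace.Local

set_option autoImplicit false
universe u
open CategoryTheory CategoryTheory.Limits AlgebraicGeometry TopologicalSpace
attribute [local instance] HasDerivedCategory.standard
open RatSing

namespace Groth.Agent.S15709

/-- Let f : X → Y be a proper birational morphism (an isomorphism between dense open subsets) of
excellent schemes of pure dimension that admit dualizing complexes. This row takes Y Noetherian (the
assertion is local on Y), fixes a dualizing complex K on Y with quasi-coherent cohomology sheaves,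
and uses for X the dualizing complex f^!K, where f^! is the right adjoint of Rf_* on D_QCoh
(existence of Rf_* and of the adjoint, preservation of D_QCoh, exactness of restriction to opens and
of M ↦ M~, and injective resolutions of O_X-modules are carried as hypotheses). Then the natural map
O_Y → Rf_* O_X is an isomorphism, i.e. O_Y → f_* O_X is an isomorphism and R^p f_* O_X = 0 for p >
0, if and only if the trace map Rf_* f^! K → K is an isomorphism. -/
theorem result (X Y : Scheme.{u})
    [IsLocallyNoetherian X] [IsNoetherian Y]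
    (hexcX : ∀ V : X.affineOpens, EGA4.IsExcellent Γ(X, V.1)) (hexcY : ∀ V : Y.affineOpens, EGA4.IsExcellent Γ(Y, V.1))
    (hpdX : ∃ d : ℕ, ∀ Z ∈ irreducibleComponents (X : Type u), topologicalKrullDim Z = d)
    (hpdY : ∃ d : ℕ, ∀ Z ∈ irreducibleComponents (Y : Type u), topologicalKrullDim Z = d)
    [∀ (U : Scheme.{u}) (j : U ⟶ Y) [IsOpenImmersion j], PreservesFiniteLimits (Scheme.Modules.restrictFunctor j)]
    [∀ (R : CommRingCat.{u}), PreservesFiniteLimits (tilde.functor R)]
    (f : X ⟶ Y) [IsProper f]
    (hbir : ∃ V : Y.Opens, Dense (V : Set Y) ∧ Dense ((f ⁻¹ᵁ V : X.Opens) : Set X) ∧ IsIso (f ∣_ V))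
    [DCoh.HasRpush f] (h : DCoh.RpushPreservesQCoh f) [DCoh.HasShriek f h]
    (K : DCoh.DQCoh Y) (hK : Dual2.IsDualizingSch Y K.obj) [HasInjectiveResolutions X.Modules] :
    (IsIso (ClSub.unitToPush f) ∧ ∀ p : ℕ, 0 < p → IsZero ((Coh.Rpush f p).obj (Coh.structureModule X))) ↔
      IsIso ((ObjectProperty.ι DCoh.IsQCohD).map ((DCoh.trace f h).app K)) := by
  exact Groth.L17.RatTrace.isIso_trace_iff_unit (DCoh.shriekAdj f h) K hK

end Groth.Agent.S15709
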