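import Groth.Statements.S15712
import Groth.Agent.L19.SchDense
import Groth.Agent.L20.FlatGeneric
import Groth.Agent.L01.DepthBasic
import Mathlib.RingTheory.KrullDimension.Zero
-- import your own Groth.Agent.* helpers here

set_option autoImplicit false
universe u
open CategoryTheory AlgebraicGeometry TopologicalSpace
open RatSing

namespace Groth.Agent.S15712

/-- Let X be a locally Noetherian scheme with Serre's property (S_1), i.e. every local ring O_{X,x} has
depth at least min(1, dim O_{X,x}) (for instance X Cohen–Macaulay), and let U ⊆ X be open. Then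
scheme-theoretic density of U in X is equivalent to U being dense as a subset. (The published
statement assumes every scheme excellent, in particular locally Noetherian.) -/
theorem result (X : Scheme.{u}) [IsLocallyNoetherian X]
    (hS1 : ∀ x : X, min (1 : WithBot ℕ∞) (ringKrullDim (X.presheaf.stalk x)) ≤
      ((LocCoh.depth (X.presheaf.stalk x) (X.presheaf.stalk x) : ℕ∞) : WithBot ℕ∞))
    (U : X.Opens) : CInt.IsSchematicallyDense U ↔ Dense (U : Set X) := by
  constructor
  · intro hU
    rw [dense_iff_inter_open]
    intro O hO hne
    by_contra hemp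
    rw [Set.not_nonempty_iff_eq_empty] at hemp
    obtain ⟨x, hx⟩ := hne
    let V : X.Opens := ⟨O, hO⟩
    have hbot : V ⊓ U = ⊥ := Opens.ext hemp
    have : Nonempty V.toScheme := ⟨⟨x, hx⟩⟩
    have := Scheme.component_nontrivial X V
    have hsub : Subsingleton Γ(X, V ⊓ U) := by
      rw [hbot]; exact CommRingCat.subsingleton_of_isTerminal X.sheaf.isTerminalOfEmpty
    exact one_ne_zero (hU V (Subsingleton.elim _ (X.presheaf.map (homOfLE (inf_le_left : V ⊓ U ≤ V)).op 0)))
  · intro hU
    rw [Groth.Agent.L19.SchDense.isSchematicallyDense_iff]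
    intro x hx
    refine Groth.L20.mem_of_dense_of_mem_genericPoints U hU ?_
    rw [Groth.L20.mem_genericPoints_iff]
    intro y hy
    obtain ⟨hp, a, ha⟩ := isAssociatedPrime_iff.1 hx
    have hdepth : LocCoh.depth (X.presheaf.stalk x) (X.presheaf.stalk x) = 0 := by
      refine Groth.L01.depth_eq_zero_of_smul_eq_zero (m := a) ?_ fun r hr => ?_
      · rintro rfl
        exact hp.ne_top (by rw [ha, Ideal.eq_top_iff_one]; simp [Submodule.mem_colon_singleton])
      · rw [ha, Submodule.mem_colon_singleton, Submodule.mem_bot] at hr
        exact hr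
    have h1 := hS1 x
    rw [hdepth, min_le_iff] at h1
    have hdim : Ring.KrullDimLE 0 (X.presheaf.stalk x) := by
      refine (Ring.krullDimLE_iff).2 ?_
      refine h1.resolve_left ?_
      exact not_le.2 (by exact_mod_cast zero_lt_one)
    obtain ⟨q, rfl⟩ : y ∈ Set.range (X.fromSpecStalk x) := by
      rw [Scheme.range_fromSpecStalk]; exact hy
    have : q = IsLocalRing.closedPoint (X.presheaf.stalk x) := by
      refine PrimeSpectrum.ext ?_
      exact IsLocalRing.eq_maximalIdeal (Ideal.isMaximal_iff_isPrime.2 q.2)
    rw [this, Scheme.fromSpecStalk_closedPoint]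

end Groth.Agent.S15712
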