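import Groth.Statements.S15713
import Groth.Agent.L07.BlowLib.CMBlow
import Groth.Agent.L13.BlowUp.Proper

set_option autoImplicit false
set_option linter.style.haveILetI false
universe u
open CategoryTheory AlgebraicGeometry TopologicalSpace
open RatSing

namespace Groth.Agent.S15713

/-- Let W be a Cohen–Macaulay scheme (excellent, as the published statement assumes throughout), I an
ideal sheaf locally generated by a regular sequence, and π : T → W the blowing up of W in I. Then T
is Cohen–Macaulay. (The published statement also asserts that the closed subscheme V of I and the
exceptional divisor F are Cohen–Macaulay; this row states the assertion for T. The blowing up is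
characterised by its universal property.) -/
theorem result (W T : Scheme.{u}) [IsLocallyNoetherian W]
    (hexc : ∀ U : W.affineOpens, EGA4.IsExcellent Γ(W, U.1))
    (hcm : ∀ w : W, LocCoh.IsCohenMacaulayLocalRing (W.presheaf.stalk w))
    (I : W.IdealSheafData) (hI : RegImm.IsRegularIdeal RegImm.Kind.regular I)
    (π : T ⟶ W) (hπ : BlowUp.IsBlowUp π I) (t : T) :
    LocCoh.IsCohenMacaulayLocalRing (T.presheaf.stalk t) := by
  haveI : IsProper π := Groth.L13.BU.isProper_blowUp hπ fun U =>
    haveI := IsLocallyNoetherian.component_noetherian U
    IsNoetherian.noetherian _
  haveI : IsLocallyNoetherian T := LocallyOfFiniteType.isLocallyNoetherian π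
  exact Groth.L07.BlowLib.cm_blowUp hcm I hI π hπ t

end Groth.Agent.S15713
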