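import Groth.Statements.S15714
import Groth.Agent.L17.RatTrace.PseudoRat

set_option autoImplicit false
set_option linter.style.haveILetI false
universe u
open CategoryTheory CategoryTheory.Limits AlgebraicGeometry TopologicalSpace
attribute [local instance] HasDerivedCategory.standard
open RatSing

namespace Groth.Agent.S15714

/-- Let φ : Z → W be a proper birational morphism of excellent schemes of pure dimension d admitting
dualizing complexes, with Z and W Cohen–Macaulay, and assume φ is a pseudo-rational modification: φ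
is an isomorphism over an open V of W whose complement has codimension at least 2 and whose preimage
is dense in Z, and f_* ω_Z → ω_W is surjective. Then the natural map η : O_W → Rφ_* O_Z admits η' :
Rφ_* O_Z → O_W with η' ∘ η an isomorphism. This row takes W Noetherian (the assertion is local on
W), fixes the dualizing complex K = ω_W^• with quasi-coherent cohomology concentrated in degree -d,
uses ω_Z^• = φ^! K for φ^! the right adjoint of Rφ_* on D_QCoh, expresses the codimension condition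
as dim O_{W,w} ≥ 2 off V and the surjectivity as: h^{-d} of the trace Rφ_* φ^! K → K is an
epimorphism, and writes η in D_QCoh(O_W) as the unit of Lφ^* ⊣ Rφ_* at O_W followed by Rφ_* of an
identification Lφ^* O_W ≅ O_Z. Existence of the derived functors and adjunctions, preservation of
D_QCoh, and exactness of restriction to opens and of M ↦ M~ are carried as hypotheses. -/
theorem result (Z W : Scheme.{u}) (d : ℕ)
    [IsLocallyNoetherian Z] [IsNoetherian W]
    (hexcZ : ∀ U : Z.affineOpens, EGA4.IsExcellent Γ(Z, U.1)) (hexcW : ∀ U : W.affineOpens, EGA4.IsExcellent Γ(W, U.1))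
    (hcmZ : ∀ z : Z, LocCoh.IsCohenMacaulayLocalRing (Z.presheaf.stalk z))
    (hcmW : ∀ w : W, LocCoh.IsCohenMacaulayLocalRing (W.presheaf.stalk w))
    (hpdZ : ∀ C ∈ irreducibleComponents (Z : Type u), topologicalKrullDim C = d)
    (hpdW : ∀ C ∈ irreducibleComponents (W : Type u), topologicalKrullDim C = d)
    [∀ (U : Scheme.{u}) (j : U ⟶ W) [IsOpenImmersion j], PreservesFiniteLimits (Scheme.Modules.restrictFunctor j)]
    [∀ (R : CommRingCat.{u}), PreservesFiniteLimits (tilde.functor R)]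
    (φ : Z ⟶ W) [IsProper φ]
    (V : W.Opens) (hV : ∀ w : W, w ∉ V → (2 : WithBot ℕ∞) ≤ ringKrullDim (W.presheaf.stalk w))
    (hVZ : Dense ((φ ⁻¹ᵁ V : Z.Opens) : Set Z)) [IsIso (φ ∣_ V)]
    [DCoh.HasRpush φ] (h : DCoh.RpushPreservesQCoh φ) [DCoh.HasShriek φ h]
    [DCoh.HasLpull φ] (hL : Dual3.LpullPreservesQCoh φ) (adjL : Dual3.LpullQ φ hL ⊣ DCoh.RpushQ φ h)
    (K : DCoh.DQCoh W) (hK : Dual2.IsDualizingSch W K.obj)
    (hKd : ∀ i : ℤ, i ≠ -(d : ℤ) → IsZero (DCoh.HD K.obj i))
    (hsurj : Epi ((DerivedCategory.homologyFunctor W.Modules (-(d : ℤ))).map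
      ((ObjectProperty.ι DCoh.IsQCohD).map ((DCoh.trace φ h).app K))))
    (OW : DCoh.DQCoh W) (eW : OW.obj ≅ DCoh.inD W (Coh.structureModule W))
    (OZ : DCoh.DQCoh Z) (eZ : OZ.obj ≅ DCoh.inD Z (Coh.structureModule Z))
    (e : (Dual3.LpullQ φ hL).obj OW ≅ OZ) :
    ∃ η' : (DCoh.RpushQ φ h).obj OZ ⟶ OW, IsIso (adjL.unit.app OW ≫ (DCoh.RpushQ φ h).map e.hom ≫ η') := by
  haveI := Groth.L17.PushQCoh.hasInjectiveResolutions Z
  have hs := Groth.L17.RatTrace.isSplitEpi_trace_of_epi (DCoh.shriekAdj φ h) K hK V ‹IsIso (φ ∣_ V)› hVZ hcmZ d hKd hsurj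
  obtain ⟨E, ⟨r⟩⟩ := Groth.L17.RatTrace.exists_retract_of_isSplitEpi (DCoh.shriekAdj φ h) K hK hs
  haveI := Groth.L17.RatTrace.isSplitMono_unit_of_retract (f := φ) ((Retract.ofIso eW).trans r)
  let adjQ := Groth.L29.BCAdj.adjQ φ h hL
  let u := (adjL.leftAdjointUniq adjQ).hom.app OW
  let η₀ := (Groth.L29.BC.adj φ).unit.app OW.obj
  let ret : (DCoh.RpushQ φ h).obj ((Dual3.LpullQ φ hL).obj OW) ⟶ OW := ObjectProperty.homMk (retraction η₀)
  refine ⟨(DCoh.RpushQ φ h).map (e.inv ≫ u) ≫ ret, ?_⟩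
  rw [← Functor.map_comp_assoc, Iso.hom_inv_id_assoc,
    show adjL.unit.app OW ≫ (DCoh.RpushQ φ h).map u ≫ ret = adjQ.unit.app OW ≫ ret from
      (Category.assoc _ _ _).symm.trans (congrArg (· ≫ ret) (adjL.unit_leftAdjointUniq_hom_app adjQ OW))]
  have hu : adjQ.unit.app OW ≫ ret = 𝟙 OW := by
    refine ObjectProperty.hom_ext _ ?_
    have h1 : (adjQ.unit.app OW).hom = η₀ := by
      rw [← Adjunction.homEquiv_id adjQ OW]
      exact (Groth.L29.BCAdj.adjQ_homEquiv φ h hL _).trans ((Groth.L29.BC.adj φ).homEquiv_id _)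
    exact (congrArg (fun m => m ≫ retraction η₀) h1).trans (IsSplitMono.id η₀)
  rw [hu]
  exact IsIso.id OW

end Groth.Agent.S15714
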