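import Groth.Statements.S15715
import Groth.Agent.L19.SchDense
import Groth.Agent.L16.QCohSections
import Mathlib.RingTheory.Ideal.AssociatedPrime.Finiteness
import Mathlib.RingTheory.Ideal.Operations
-- import your own Groth.Agent.* helpers here

set_option autoImplicit false
universe u
open CategoryTheory AlgebraicGeometry TopologicalSpace
open RatSing

namespace Groth.Agent.S15715

/-- Let X be a locally Noetherian scheme, φ : F → G a homomorphism of O_X-modules with F quasi-coherent
and torsion-free (over every affine open V, no nonzero section of F is killed by a regular element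
of O_X(V)), and U a scheme-theoretically dense open subset of X such that the restriction of φ to U
is injective. Then φ is injective. (The published statement allows an arbitrary O_X-module F; for
the skyscraper sheaf on the affine line over a field, placed at a closed point with value the local
ring at that point, which is torsion-free in this sense, the zero map to the zero module is
injective over the dense open complement of the point but not injective. This row takes F
quasi-coherent.) -/
theorem result (X : Scheme.{u})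
    [IsLocallyNoetherian X] (F G : X.Modules) (hF : Coh.IsQCoh F)
    (htf : ∀ V : X.affineOpens, Submodule.torsion Γ(X, V.1) (F.val.obj (Opposite.op V.1)) = ⊥)
    (φ : F ⟶ G) (U : X.Opens) (hU : CInt.IsSchematicallyDense U)
    (hφU : ∀ V : X.Opens, V ≤ U → Function.Injective ⇑(ConcreteCategory.hom (φ.val.app (Opposite.op V)))) (V : X.Opens) :
    Function.Injective ⇑(ConcreteCategory.hom (φ.val.app (Opposite.op V))) := by
  classical
  have := hF
  rw [injective_iff_map_eq_zero]
  intro m hm
  have hres : ∀ (W : X.Opens) (hW : W ≤ V), W ≤ U → F.presheaf.map (homOfLE hW).op m = 0 := by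
    intro W hW hWU
    apply hφU W hWU
    refine Eq.trans ?_ (map_zero _).symm
    have hn := PresheafOfModules.naturality_apply φ.val (homOfLE hW).op m
    refine hn.trans ?_
    rw [hm]
    exact map_zero _
  refine TopCat.Sheaf.eq_of_locally_eq' (⟨F.presheaf, F.isSheaf⟩ : TopCat.Sheaf Ab X)
    (fun B : {B : X.affineOpens // B.1 ≤ V} => B.1.1) V
    (fun B => homOfLE B.2) (fun x hx => ?_) _ _ fun B => ?_
  · obtain ⟨B', hB', hxB, hB⟩ := exists_isAffineOpen_mem_and_subset (x := x) (U := V) hx
    exact Opens.mem_iSup.2 ⟨⟨⟨B', hB'⟩, hB⟩, hxB⟩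
  obtain ⟨⟨A', hA⟩, hAV⟩ := B
  refine Eq.trans ?_ (map_zero _).symm
  set a : Γ(F, A') := F.presheaf.map (homOfLE hAV).op m with ha_def
  show a = 0
  have : IsNoetherianRing Γ(X, A') := IsLocallyNoetherian.component_noetherian ⟨A', hA⟩
  obtain ⟨t, ht⟩ := Groth.Agent.L19.SchDense.exists_cover U hA
  let I : Ideal Γ(X, A') := Ideal.span (t : Set Γ(X, A'))
  have hnle : ∀ q ∈ associatedPrimes Γ(X, A') Γ(X, A'), ¬ I ≤ q := by
    intro q hq hle
    obtain ⟨hp, b, hb⟩ := isAssociatedPrime_iff.1 hq
    have h0 : b = 0 := Groth.Agent.L19.SchDense.eq_zero_of_killed hU t hA ht 1 b fun g => by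
      have := hle (Ideal.subset_span g.2)
      rw [hb, Submodule.mem_colon_singleton, Submodule.mem_bot, smul_eq_mul] at this
      rwa [pow_one]
    apply hp.ne_top
    rw [hb, h0, Ideal.eq_top_iff_one]
    simp [Submodule.mem_colon_singleton]
  obtain ⟨c, hcI, hc⟩ : ∃ c ∈ I, c ∈ nonZeroDivisors Γ(X, A') := by
    by_contra hne
    push Not at hne
    have hsub : (I : Set Γ(X, A')) ⊆ ⋃ q ∈ associatedPrimes Γ(X, A') Γ(X, A'), (q : Set _) := by
      intro c hc
      rw [biUnion_associatedPrimes_eq_compl_regular]
      intro hreg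
      refine hne c hc (mem_nonZeroDivisors_iff_right.2 fun x hx => hreg ?_)
      show c * x = c * 0
      rw [mul_zero, mul_comm, hx]
    have hfin := associatedPrimes.finite Γ(X, A') Γ(X, A')
    obtain ⟨q, hq, hle⟩ := (Ideal.subset_union_prime_finite hfin (f := id) ⊥ ⊥
      (fun i hi _ _ => IsAssociatedPrime.isPrime hi)).1 hsub
    exact hnle q hq hle
  have hk : ∀ g : t, ∃ n : ℕ, (g : Γ(X, A')) ^ n • a = 0 := by
    intro g
    have hgU : X.basicOpen (g : Γ(X, A')) ≤ U :=
      ((le_iSup (fun g : t => X.basicOpen (g : Γ(X, A'))) g).trans ht.ge).trans inf_le_right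
    refine Groth.L16.QCohSect.exists_pow_smul_eq_zero hA F _ a ?_
    rw [ha_def]
    refine Eq.trans ?_ (hres _ ((X.basicOpen_le _).trans hAV) hgU)
    exact Groth.L18.Frame.rs_rs F _ _ m
  let K : Ideal Γ(X, A') := (Submodule.span Γ(X, A') {a}).annihilator
  have hrad : I ≤ K.radical := by
    refine Ideal.span_le.2 fun g hg => ?_
    obtain ⟨n, hn⟩ := hk ⟨g, hg⟩
    exact ⟨n, (Submodule.mem_annihilator_span_singleton a _).2 hn⟩
  obtain ⟨n, hn⟩ := hrad hcI
  have hca : c ^ n • a = 0 := (Submodule.mem_annihilator_span_singleton a _).1 hn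
  have hmem : a ∈ Submodule.torsion Γ(X, A') (F.val.obj (Opposite.op A')) :=
    ⟨⟨c ^ n, pow_mem hc n⟩, hca⟩
  exact (Submodule.mem_bot _).1 ((htf ⟨A', hA⟩) ▸ hmem)

end Groth.Agent.S15715
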