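import Groth.Statements.S15717
import Groth.Agent.L04.CMBasic
import Mathlib.RingTheory.KrullDimension.LocalRing
import Mathlib.RingTheory.Ideal.KrullsHeightTheorem

set_option autoImplicit false
universe u
open CAlg

namespace Groth.Agent.S15717

/-- Let R be a Cohen–Macaulay local ring and I an ideal of R with R/I equidimensional (all minimal
primes p over I have the same dim R/p). Then there is a regular sequence r_1, ..., r_n in I such
that the closed subscheme V(r_1, ..., r_n) of Spec R, a local complete intersection, contains V(I),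
has the same dimension as V(I), and has the irreducible components of V(I) among its irreducible
components: dim R/(r_1, ..., r_n) = dim R/I and every minimal prime over I is a minimal prime over
(r_1, ..., r_n). The sequence is asked to be weakly regular (each r_i a non-zero-divisor modulo the
previous ones), which for I proper is the same as regular and which also covers I = R with the
sequence (1). -/
theorem result (R : Type u) [CommRing R]
    [LocCoh.IsCohenMacaulayLocalRing R] (I : Ideal R)
    (hI : ∀ p ∈ I.minimalPrimes, ringKrullDim (R ⧸ p) = ringKrullDim (R ⧸ I)) :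
    ∃ rs : List R, RingTheory.Sequence.IsWeaklyRegular R rs ∧ Ideal.ofList rs ≤ I ∧
      ringKrullDim (R ⧸ Ideal.ofList rs) = ringKrullDim (R ⧸ I) ∧
      I.minimalPrimes ⊆ (Ideal.ofList rs).minimalPrimes := by
  classical
  by_cases hI' : I = ⊤
  · subst hI'
    refine ⟨[1], ?_, le_top, ?_, ?_⟩
    · rw [RingTheory.Sequence.isWeaklyRegular_cons_iff]
      exact ⟨fun a b h => by simpa using h, RingTheory.Sequence.IsWeaklyRegular.nil R _⟩
    · rw [show Ideal.ofList [(1 : R)] = ⊤ by rw [Ideal.ofList_singleton, Ideal.span_singleton_one]]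
    · rw [Ideal.minimalPrimes_top]; exact Set.empty_subset _
  have hCM : LocCoh.IsCohenMacaulayModule R R := LocCoh.IsCohenMacaulayLocalRing.supportDim_eq_depth
  obtain ⟨rs, -, hrs, hrsI, z, hz0, hz⟩ := Groth.L04.exists_maximal_regular
    (Groth.L04.smul_top_ne_top_of_nontrivial (M := R) hI') (RingTheory.Sequence.IsWeaklyRegular.nil R R) (by simp)
  have hJI : Ideal.ofList rs ≤ I := Ideal.span_le.2 hrsI
  have hdim : ringKrullDim (R ⧸ Ideal.ofList rs) = ringKrullDim (R ⧸ I) := by
    have h1 := Groth.L04.supportDim_quotient_ofList_add hrs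
      (fun r hr => IsLocalRing.le_maximalIdeal hI' (hrsI r hr))
    have h2 := Groth.L04.supportDim_eq_add_idealDepth hI' hCM
    rw [Groth.L04.idealDepth_eq_length hrs hrsI hz0 hz, ← h1] at h2
    have h3 : Module.supportDim R (R ⧸ Ideal.ofList rs • (⊤ : Submodule R R)) =
        Module.supportDim R (R ⧸ I • (⊤ : Submodule R R)) := by
      generalize Module.supportDim R (R ⧸ Ideal.ofList rs • (⊤ : Submodule R R)) = a at h2 ⊢
      generalize Module.supportDim R (R ⧸ I • (⊤ : Submodule R R)) = b at h2 ⊢
      cases a <;> cases b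
      · rfl
      · rw [WithBot.bot_add, ← WithBot.coe_add] at h2
        exact absurd h2 WithBot.bot_ne_coe
      · rw [WithBot.bot_add, ← WithBot.coe_natCast, ← WithBot.coe_add] at h2
        exact absurd h2 WithBot.coe_ne_bot
      · rw [WithBot.coe_natCast, ← WithBot.coe_natCast, ← WithBot.coe_add, ← WithBot.coe_add, WithBot.coe_inj] at h2
        exact congrArg _ (ENat.add_left_injective_of_ne_top (ENat.natCast_ne_top rs.length) h2)
    rw [← Module.supportDim_quotient_eq_ringKrullDim, ← Module.supportDim_quotient_eq_ringKrullDim]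
    have e : ∀ J : Ideal R, J • (⊤ : Submodule R R) = J := fun J => by rw [smul_eq_mul]; exact Ideal.mul_top J
    rw [e, e] at h3
    exact h3
  refine ⟨rs, hrs, hJI, hdim, fun p hp => ?_⟩
  haveI : p.IsPrime := hp.1.1
  obtain ⟨q, hq, hqp⟩ := Ideal.exists_minimalPrimes_le (J := p) (hJI.trans hp.1.2)
  haveI : q.IsPrime := hq.1.1
  rcases hqp.lt_or_eq with hlt | rfl
  · exfalso
    obtain ⟨a, hap, haq⟩ := SetLike.exists_of_lt hlt
    have ha0 : Ideal.Quotient.mk q a ≠ 0 := fun h => haq (Ideal.Quotient.eq_zero_iff_mem.mp h)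
    have h3 : ringKrullDim (R ⧸ p) + 1 ≤ ringKrullDim (R ⧸ q) :=
      ringKrullDim_succ_le_of_surjective (Ideal.Quotient.factor hqp) (Ideal.Quotient.factor_surjective hqp)
        (mem_nonZeroDivisors_of_ne_zero ha0) (Ideal.Quotient.eq_zero_iff_mem.mpr hap)
    have h4 : ringKrullDim (R ⧸ q) ≤ ringKrullDim (R ⧸ Ideal.ofList rs) :=
      ringKrullDim_le_of_surjective (Ideal.Quotient.factor hq.1.2) (Ideal.Quotient.factor_surjective _)
    rw [hI p hp, ← hdim] at h3
    have h5 := h3.trans h4
    haveI : Nontrivial (R ⧸ Ideal.ofList rs) :=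
      Ideal.Quotient.nontrivial_iff.mpr (ne_top_of_le_ne_top hI' hJI)
    haveI : IsLocalRing (R ⧸ Ideal.ofList rs) := IsLocalRing.of_surjective' _ Ideal.Quotient.mk_surjective
    obtain ⟨d, hd⟩ := WithBot.ne_bot_iff_exists.1 (ringKrullDim_nonneg_of_nontrivial (R := R ⧸ Ideal.ofList rs) |> fun h => ne_bot_of_le_ne_bot (by simp) h)
    have hfin : d ≠ ⊤ := fun h => by
      have := ringKrullDim_lt_top (R := R ⧸ Ideal.ofList rs)
      rw [← hd, h] at this
      exact lt_irrefl _ this
    rw [← hd] at h5
    obtain ⟨d', rfl⟩ := ENat.ne_top_iff_exists.1 hfin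
    have h6 : d' + 1 ≤ d' := by exact_mod_cast h5
    omega
  · exact hq

end Groth.Agent.S15717
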