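import Groth.Statements.S15719
import Groth.Agent.L17.RatTrace.Split

set_option autoImplicit false
universe u
open CategoryTheory CategoryTheory.Limits AlgebraicGeometry TopologicalSpace
attribute [local instance] HasDerivedCategory.standard
open RatSing

namespace Groth.Agent.S15719

/-- Let φ : Z → W be a proper birational morphism of equidimensional excellent schemes admitting
dualizing complexes which is an isomorphism in codimension 1 on the target (an isomorphism over an
open V of W whose complement has codimension at least 2), and let η : O_W → Rφ_* O_Z be the natural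
map. If there is η' : Rφ_* O_Z → O_W with η' ∘ η an automorphism of O_W, then φ is a pseudo-rational
modification: the natural map φ_* ω_Z → ω_W is surjective. This row takes W Noetherian and Z, W of
pure dimension d (the assertion is local on W), fixes the dualizing complex K = ω_W^• on W with
quasi-coherent cohomology vanishing below degree -d, uses ω_Z^• = φ^! K with φ^! the right adjoint
of Rφ_* on D_QCoh, renders the surjectivity of φ_* ω_Z → ω_W as: h^{-d} of the trace Rφ_* φ^! K → K
is an epimorphism, renders the codimension condition as dim O_{W,w} ≥ 2 off V together with density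
of φ⁻¹V in Z (for equidimensional local rings this is the codimension condition of the published
definition), and writes η in D_QCoh(O_W) as the unit of Lφ^* ⊣ Rφ_* at O_W followed by Rφ_* of an
identification Lφ^* O_W ≅ O_Z. Existence of the derived functors and adjoints, preservation of
D_QCoh, and exactness of restriction to opens and of M ↦ M~ are carried as hypotheses. -/
theorem result (Z W : Scheme.{u}) (d : ℕ)
    [IsLocallyNoetherian Z] [IsNoetherian W]
    (hexcZ : ∀ U : Z.affineOpens, EGA4.IsExcellent Γ(Z, U.1)) (hexcW : ∀ U : W.affineOpens, EGA4.IsExcellent Γ(W, U.1))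
    (hpdZ : ∀ C ∈ irreducibleComponents (Z : Type u), topologicalKrullDim C = d)
    (hpdW : ∀ C ∈ irreducibleComponents (W : Type u), topologicalKrullDim C = d)
    [∀ (U : Scheme.{u}) (j : U ⟶ W) [IsOpenImmersion j], PreservesFiniteLimits (Scheme.Modules.restrictFunctor j)]
    [∀ (R : CommRingCat.{u}), PreservesFiniteLimits (tilde.functor R)]
    (φ : Z ⟶ W) [IsProper φ]
    (V : W.Opens) (hV : ∀ w : W, w ∉ V → (2 : WithBot ℕ∞) ≤ ringKrullDim (W.presheaf.stalk w))
    (hVZ : Dense ((φ ⁻¹ᵁ V : Z.Opens) : Set Z)) [IsIso (φ ∣_ V)]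
    [DCoh.HasRpush φ] (h : DCoh.RpushPreservesQCoh φ) [DCoh.HasShriek φ h]
    [DCoh.HasLpull φ] (hL : Dual3.LpullPreservesQCoh φ) (adjL : Dual3.LpullQ φ hL ⊣ DCoh.RpushQ φ h)
    (K : DCoh.DQCoh W) (hK : Dual2.IsDualizingSch W K.obj)
    (hKlow : ∀ i : ℤ, i < -(d : ℤ) → IsZero (DCoh.HD K.obj i))
    (OW : DCoh.DQCoh W) (eW : OW.obj ≅ DCoh.inD W (Coh.structureModule W))
    (OZ : DCoh.DQCoh Z) (eZ : OZ.obj ≅ DCoh.inD Z (Coh.structureModule Z))
    (e : (Dual3.LpullQ φ hL).obj OW ≅ OZ)
    (hsplit : ∃ η' : (DCoh.RpushQ φ h).obj OZ ⟶ OW, IsIso (adjL.unit.app OW ≫ (DCoh.RpushQ φ h).map e.hom ≫ η')) :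
    Epi ((DerivedCategory.homologyFunctor W.Modules (-(d : ℤ))).map
      ((ObjectProperty.ι DCoh.IsQCohD).map ((DCoh.trace φ h).app K))) := by
  obtain ⟨η', hη⟩ := hsplit
  let η := adjL.unit.app OW ≫ (DCoh.RpushQ φ h).map e.hom
  haveI : IsIso (η ≫ η') := by
    have : η ≫ η' = adjL.unit.app OW ≫ (DCoh.RpushQ φ h).map e.hom ≫ η' := Category.assoc _ _ _
    rw [this]; exact hη
  let r₀ : Retract OW ((DCoh.RpushQ φ h).obj OZ) :=
    { i := η
      r := η' ≫ inv (η ≫ η')
      retract := by rw [← Category.assoc]; exact IsIso.hom_inv_id _ }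
  let r : Retract OW.obj ((DCoh.Rpush φ).obj OZ.obj) := r₀.map (ObjectProperty.ι DCoh.IsQCohD)
  haveI := Groth.L17.RatTrace.isSplitEpi_trace (f := φ)
    (((Retract.ofIso eW.symm).trans r).trans (Retract.ofIso ((DCoh.Rpush φ).mapIso eZ)))
    (Groth.L29.DC.isQCohD_of_iso eZ OZ.property) (DCoh.shriekAdj φ h) K
  infer_instance

end Groth.Agent.S15719
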