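import Groth.Statements.S15722
import Groth.Agent.L17.RatTrace.BlowTrace
import Groth.Agent.L07.BlowLib.CMBlow

set_option autoImplicit false
set_option linter.style.haveILetI false
universe u
open CategoryTheory CategoryTheory.Limits AlgebraicGeometry TopologicalSpace
attribute [local instance] HasDerivedCategory.standard
open RatSing

namespace Groth.Agent.S15722

/-- Let W be a Cohen–Macaulay scheme (excellent, as the published statement assumes throughout), I an
ideal sheaf locally generated by a regular sequence whose zero locus V is nowhere dense in W, and π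
: T → W the blowing up of W in I. Then Rπ_* ω_T ≅ ω_W through the natural map: the trace Rπ_* ω_T^•
→ ω_W^• is an isomorphism and R^p π_* ω_T = 0 for p > 0. (The published statement also asserts O_W ≅
Rπ_* O_T, i.e. that O_W → π_* O_T is an isomorphism and R^p π_* O_T = 0 for p > 0; that assertion is
not restated in this row.) This row takes W Noetherian of pure dimension d, fixes the dualizing
complex K = ω_W^• with quasi-coherent cohomology concentrated in degree -d, uses ω_T^• = π^! K with
π^! the right adjoint of Rπ_* on D_QCoh and ω_T = h^{-d}(π^! K), and characterises the blowing up by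
its universal property. (The published statement does not exclude the empty regular sequence, i.e. I
= 0 on a connected component, where the blowing up is empty and neither O_W → π_* O_T nor the trace
0 = Rπ_* ω_T^• → ω_W^• is an isomorphism; so V is taken nowhere dense here.) Existence of Rπ_* and
π^!, preservation of D_QCoh, exactness of restriction to opens and of M ↦ M~, and injective
resolutions are carried as hypotheses. -/
theorem result (W T : Scheme.{u}) (d : ℕ) [IsNoetherian W]
    (hexc : ∀ U : W.affineOpens, EGA4.IsExcellent Γ(W, U.1))
    (hcm : ∀ w : W, LocCoh.IsCohenMacaulayLocalRing (W.presheaf.stalk w))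
    (hpd : ∀ C ∈ irreducibleComponents (W : Type u), topologicalKrullDim C = d)
    [∀ (U : Scheme.{u}) (j : U ⟶ W) [IsOpenImmersion j], PreservesFiniteLimits (Scheme.Modules.restrictFunctor j)]
    [∀ (R : CommRingCat.{u}), PreservesFiniteLimits (tilde.functor R)]
    (K : DCoh.DQCoh W) (hK : Dual2.IsDualizingSch W K.obj) (hKd : ∀ i : ℤ, i ≠ -(d : ℤ) → IsZero (DCoh.HD K.obj i))
    (I : W.IdealSheafData) (hI : RegImm.IsRegularIdeal RegImm.Kind.regular I)
    (hV : Dense ((I.support : Set W)ᶜ)) (π : T ⟶ W) (hπ : BlowUp.IsBlowUp π I)
    [DCoh.HasRpush π] (h : DCoh.RpushPreservesQCoh π) [DCoh.HasShriek π h] [HasInjectiveResolutions T.Modules] :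
    IsIso ((ObjectProperty.ι DCoh.IsQCohD).map ((DCoh.trace π h).app K)) ∧
      (∀ p : ℕ, 0 < p → IsZero ((Coh.Rpush π p).obj (DCoh.HD ((DCoh.shriek π h).obj K).obj (-(d : ℤ))))) := by
  haveI : IsProper π := Groth.L13.BU.isProper_blowUp hπ fun U =>
    haveI := IsLocallyNoetherian.component_noetherian U
    IsNoetherian.noetherian _
  haveI : IsLocallyNoetherian T := LocallyOfFiniteType.isLocallyNoetherian π
  exact Groth.L17.RatTrace.trace_blowUp hπ hI hV
    (fun t => Groth.L07.BlowLib.cm_blowUp hcm I hI π hπ t) (DCoh.shriekAdj π h) K hK d hKd

end Groth.Agent.S15722
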