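import Groth.Statements.S15723
import Mathlib.RingTheory.Regular.RegularSequence
import Groth.Agent.L01.GeomHeight
import Groth.Agent.S15708

set_option autoImplicit false
universe u v
open CAlg

namespace Groth.Agent.S15723

open W4c2ratsingkovacs Groth.L01.GeomHeight in
theorem step {R : Type u} {A : Type v} [CommRing R] [CommRing A] [Algebra R A]
    [IsNoetherianRing A] (𝒜 : ℕ → Submodule R A) [GradedRing 𝒜]
    (J : Ideal A) (h : ℕ) (hJh : HasUniformGeomHeight 𝒜 J h) (l : List A) (z : A) (hl : l.length < h)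
    (hmem : ∀ x ∈ l ++ [z], (∃ e, x ∈ 𝒜 e) ∧ x ∈ J)
    (hz : ∀ Q ∈ (Ideal.ofList l).minimalPrimes, ¬ (HomogeneousIdeal.irrelevant 𝒜).toIdeal ≤ Q →
      ¬ J ≤ Q → z ∉ Q)
    (f : A) (n : ℕ) (hn : 0 < n) (hf : f ∈ 𝒜 n) (hfJ : f ∉ J.radical)
    (ih : (l.length : ℕ∞) ≤ geomHeight 𝒜 (Ideal.ofList l) f) :
    geomHeight 𝒜 (Ideal.ofList (l ++ [z])) f = (l.length + 1 : ℕ) := by
  classical
  haveI := Groth.L01.GeomHeight.isNoetherianRing 𝒜 hf
  have hspan : ∀ l' : List A, Ideal.ofList l' = Ideal.span (l'.toFinset : Set A) := fun l' => by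
    simp [Ideal.ofList]
  have hcard : ∀ l' : List A, (∀ x ∈ l', ∃ e, x ∈ 𝒜 e) → ∀ P ∈
      (locIdeal 𝒜 (Ideal.ofList l') f).minimalPrimes, P.height ≤ (l'.length : ℕ∞) := by
    intro l' hl' P hP
    refine (height_le_of_minimal 𝒜 hf hn l'.toFinset (fun x hx => hl' x (List.mem_toFinset.mp hx))
      (hspan l' ▸ hP)).trans ?_
    exact_mod_cast l'.toFinset_card_le
  have hJtop : locIdeal 𝒜 J f ≠ ⊤ := Groth.L01.GeomHeight.locIdeal_ne_top 𝒜 hf hfJ
  have hle : locIdeal 𝒜 (Ideal.ofList (l ++ [z])) f ≠ ⊤ := fun h => hJtop (top_le_iff.mp (h ▸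
    Groth.L01.GeomHeight.locIdeal_mono 𝒜 (Ideal.span_le.mpr fun x hx => (hmem x hx).2)))
  refine le_antisymm ?_ ?_
  · obtain ⟨M, hM, hIM⟩ := Ideal.exists_le_maximal _ hle
    haveI := hM.isPrime
    obtain ⟨P, hP, -⟩ := Ideal.exists_minimalPrimes_le hIM
    refine (Ideal.height_mono hP.le).trans ((hcard _ (fun x hx => (hmem x hx).1) P hP).trans ?_)
    simp
  · rw [geomHeight, Ideal.height_eq_inf_minimalPrimes]
    refine le_iInf₂ fun P hP => ?_
    haveI := hP.isPrime
    have hll : locIdeal 𝒜 (Ideal.ofList l) f ≤ P := le_trans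
      (Groth.L01.GeomHeight.locIdeal_mono 𝒜 (Ideal.span_mono fun x hx => List.mem_append_left _ hx)) hP.le
    obtain ⟨P', hP', hP'P⟩ := Ideal.exists_minimalPrimes_le hll
    haveI := hP'.isPrime
    have h1 : (l.length : ℕ∞) ≤ P'.height := ih.trans (Ideal.height_mono hP'.le)
    have h2 := hcard l (fun x hx => (hmem x (List.mem_append_left _ hx)).1) P' hP'
    obtain ⟨q, hq, hPq, hQ, hfQ, hloc⟩ := exists_of_minimal 𝒜 hf hP'
    haveI := hq
    have hJQ : ¬ J ≤ q.comap (algebraMap A (Localization.Away f)) := fun hJQ => by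
      have h3 : (h : ℕ∞) ≤ P'.height := by
        rw [hloc, ← hJh f n hn hf hfJ]
        exact Ideal.height_mono (Groth.L01.GeomHeight.locIdeal_mono 𝒜 hJQ)
      have := h3.trans h2
      norm_cast at this
      omega
    have hirr : ¬ (HomogeneousIdeal.irrelevant 𝒜).toIdeal ≤ q.comap (algebraMap A (Localization.Away f)) :=
      fun h => hfQ (h (HomogeneousIdeal.mem_irrelevant_of_mem 𝒜 hn hf))
    obtain ⟨⟨e, he⟩, -⟩ := hmem z (by simp)
    have hwP : frac 𝒜 hf he ∈ P :=
      hP.le (frac_mem 𝒜 hf he hn (Ideal.subset_span (by simp)))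
    have hwP' : frac 𝒜 hf he ∉ P' := fun h => hz _ hQ hirr hJQ (mem_of_frac_mem 𝒜 hf he (hPq ▸ h))
    refine le_trans ?_ (Ideal.height_add_one_le_of_lt_of_isPrime
      (lt_of_le_of_ne hP'P fun h => hwP' (h ▸ hwP)))
    push_cast
    gcongr


/-- Let A be a Noetherian commutative ring graded by the natural numbers, J a homogeneous ideal of
uniform geometric height h (the height of the homogeneous localization J_(f) in the degree-zero ring
A_(f) is h for every homogeneous f of positive degree outside the radical of J), and q_1, ..., q_t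
finitely many prime ideals none of which contains J or the irrelevant ideal A_+. Then there are
homogeneous elements z_1, ..., z_h of positive degree, lying in J and in no q_i, such that for every
homogeneous f of positive degree outside the radical of J and every 1 ≤ j ≤ h the ideal (z_1, ...,
z_j) has geometric height j with respect to f. (The published statement lets f range over all
homogeneous elements outside the radical of J, degree 0 included; then it fails: in A = k[t][x] with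
t of degree 0 and x of degree 1, the ideal J = (t) has geometric height 1 with respect to every
homogeneous f outside its radical, f = 1 included, while (z)_(1) = 0 has height 0 for every
homogeneous z of positive degree. This row takes f of positive degree, in the hypothesis and in the
conclusion.) -/
theorem result {R : Type u} {A : Type v} [CommRing R] [CommRing A]
    [Algebra R A] [IsNoetherianRing A] (𝒜 : ℕ → Submodule R A) [GradedRing 𝒜]
    (J : Ideal A) (hJ : J.IsHomogeneous 𝒜) (h : ℕ) (hJh : W4c2ratsingkovacs.HasUniformGeomHeight 𝒜 J h)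
    (P : Finset (Ideal A)) (hP : ∀ q ∈ P, q.IsPrime ∧ ¬ J ≤ q ∧ ¬ (HomogeneousIdeal.irrelevant 𝒜).toIdeal ≤ q) :
    ∃ zs : List A, zs.length = h ∧
      (∀ z ∈ zs, (∃ n : ℕ, 0 < n ∧ z ∈ 𝒜 n) ∧ z ∈ J ∧ ∀ q ∈ P, z ∉ q) ∧
      ∀ (f : A) (n : ℕ), 0 < n → f ∈ 𝒜 n → f ∉ J.radical →
        ∀ j : ℕ, 1 ≤ j → j ≤ h → W4c2ratsingkovacs.geomHeight 𝒜 (Ideal.ofList (zs.take j)) f = j := by
  classical
  suffices H : ∀ k ≤ h, ∃ zs : List A, zs.length = k ∧
      (∀ z ∈ zs, (∃ n : ℕ, 0 < n ∧ z ∈ 𝒜 n) ∧ z ∈ J ∧ ∀ q ∈ P, z ∉ q) ∧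
      ∀ (f : A) (n : ℕ), 0 < n → f ∈ 𝒜 n → f ∉ J.radical →
        ∀ j : ℕ, 1 ≤ j → j ≤ k →
          W4c2ratsingkovacs.geomHeight 𝒜 (Ideal.ofList (zs.take j)) f = j from H h le_rfl
  intro k
  induction k with
  | zero => exact fun _ => ⟨[], rfl, by simp, fun f n _ _ _ j h1 h2 => absurd (h1.trans h2) (by omega)⟩
  | succ k ih =>
    intro hk
    obtain ⟨l, hl, hmem, hh⟩ := ih (Nat.le_of_succ_le hk)
    let M := (Ideal.finite_minimalPrimes_of_isNoetherianRing A (Ideal.ofList l)).toFinset.filter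
      fun Q => ¬ (HomogeneousIdeal.irrelevant 𝒜).toIdeal ≤ Q ∧ ¬ J ≤ Q
    obtain ⟨z, e, he, hze, hzJ, hzP⟩ := Groth.Agent.S15708.avoid 𝒜 J hJ (P ∪ M) (by
      intro p hp
      rcases Finset.mem_union.mp hp with hp | hp
      · exact ⟨(hP p hp).1, (hP p hp).2.2, (hP p hp).2.1⟩
      · obtain ⟨hp1, hp2, hp3⟩ := Finset.mem_filter.mp hp
        exact ⟨((Set.Finite.mem_toFinset _).mp hp1).isPrime, hp2, hp3⟩)
    have hall : ∀ x ∈ l ++ [z], (∃ n : ℕ, 0 < n ∧ x ∈ 𝒜 n) ∧ x ∈ J ∧ ∀ q ∈ P, x ∉ q := by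
      intro x hx
      rcases List.mem_append.mp hx with hx | hx
      · exact hmem x hx
      · obtain rfl := List.mem_singleton.mp hx
        exact ⟨⟨e, he, hze⟩, hzJ, fun q hq => hzP q (Finset.mem_union_left _ hq)⟩
    refine ⟨l ++ [z], by simp [hl], hall, fun f n hn hf hfJ j h1 h2 => ?_⟩
    rcases Nat.lt_or_ge k j with hj | hj
    · obtain rfl : j = l.length + 1 := by omega
      rw [List.take_of_length_le (by simp)]
      refine step 𝒜 J h hJh l z (by omega)
        (fun x hx => ⟨⟨_, (hall x hx).1.choose_spec.2⟩, (hall x hx).2.1⟩)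
        (fun Q hQ hi hjQ => hzP Q (Finset.mem_union_right _ (Finset.mem_filter.mpr
          ⟨(Set.Finite.mem_toFinset _).mpr hQ, hi, hjQ⟩))) f n hn hf hfJ ?_
      rcases Nat.eq_zero_or_pos l.length with h0 | h0
      · simp [h0]
      · have := hh f n hn hf hfJ l.length h0 (by omega)
        rw [List.take_length] at this
        exact this.ge
    · rw [List.take_append_of_le_length (by omega)]
      exact hh f n hn hf hfJ j h1 hj

end Groth.Agent.S15723
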