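import Groth.Statements.S15724
import Groth.Agent.L13.InvHilb.Gen

set_option autoImplicit false
universe u
open W4c2invhilbsl2

namespace Groth.Agent.S15724

/-- Grade the polynomial ring k[X₀,…,X₄] over a field k by ℤ × ℤ/m, giving X₀ weight (1,0), X₁ and X₂
weight (−p,−1), and X₃ and X₄ weight (q,1), where 0 < p < q are coprime integers and m ≥ 1, and let
P be the principal ideal generated by the weight-zero element X₀^(q−p) − X₁X₄ + X₂X₃ (the equation
of an affine hypersurface). Then every polynomial homogeneous of the weight of X₁ is congruent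
modulo P to some a·X₁ + b·X₂ with a and b homogeneous of weight zero, and every polynomial
homogeneous of the weight of X₃ is congruent modulo P to some a·X₃ + b·X₄ with a and b homogeneous
of weight zero. Equivalently, in the coordinate ring of the hypersurface the weight pieces of the
weights of X₁ and of X₃ are generated over the weight-zero subring (the ring of invariants of the
diagonal action of a one-dimensional torus times the group of m-th roots of unity with these
weights) by X₁, X₂ and by X₃, X₄ respectively. (For the weight of X₁ the congruence is already an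
equality in the polynomial ring; for the weight of X₃ the hypersurface equation is needed, e.g.
X₀^(q+p)X₁ has that weight when m divides 2.) -/
theorem result (k : Type u) [Field k] (p q m : ℕ) (hp : 0 < p) (hpq : p < q) (hcop : Nat.Coprime p q) (hm : 0 < m) (f : MvPolynomial (Fin 5) k) :
    (f ∈ MvPolynomial.weightedHomogeneousSubmodule k (W4c2invhilbsl2.wt5 p q m) (W4c2invhilbsl2.wt5 p q m 1) →
      ∃ a b : MvPolynomial (Fin 5) k, a ∈ MvPolynomial.weightedHomogeneousSubmodule k (W4c2invhilbsl2.wt5 p q m) 0 ∧ b ∈ MvPolynomial.weightedHomogeneousSubmodule k (W4c2invhilbsl2.wt5 p q m) 0 ∧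
        f - (a * MvPolynomial.X (1 : Fin 5) + b * MvPolynomial.X (2 : Fin 5)) ∈ Ideal.span {MvPolynomial.X (0 : Fin 5) ^ (q - p) - MvPolynomial.X 1 * MvPolynomial.X 4 + MvPolynomial.X 2 * MvPolynomial.X 3}) ∧
    (f ∈ MvPolynomial.weightedHomogeneousSubmodule k (W4c2invhilbsl2.wt5 p q m) (W4c2invhilbsl2.wt5 p q m 3) →
      ∃ a b : MvPolynomial (Fin 5) k, a ∈ MvPolynomial.weightedHomogeneousSubmodule k (W4c2invhilbsl2.wt5 p q m) 0 ∧ b ∈ MvPolynomial.weightedHomogeneousSubmodule k (W4c2invhilbsl2.wt5 p q m) 0 ∧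
        f - (a * MvPolynomial.X (3 : Fin 5) + b * MvPolynomial.X (4 : Fin 5)) ∈ Ideal.span {MvPolynomial.X (0 : Fin 5) ^ (q - p) - MvPolynomial.X 1 * MvPolynomial.X 4 + MvPolynomial.X 2 * MvPolynomial.X 3}) := by
  open MvPolynomial Groth.L13.InvHilb W4c2invhilbsl2 in
  have hw : ∀ j : Fin 5, Finsupp.weight (W4c2invhilbsl2.wt5 p q m) (Finsupp.single j 1) = W4c2invhilbsl2.wt5 p q m j :=
    fun j => by simp [Finsupp.weight_apply]
  have hle : ∀ (j : Fin 5) (d : Fin 5 →₀ ℕ), 1 ≤ d j → Finsupp.single j 1 ≤ d :=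
    fun j d h => Finsupp.single_le_iff.2 h
  constructor
  · intro hf
    have hmem : f ∈ genMod (hyp k p q) (W4c2invhilbsl2.wt5 p q m) ![Finsupp.single (1 : Fin 5) 1, Finsupp.single 2 1] := by
      refine homog_mem _ hf fun d hd => ?_
      have hd' := congrArg Prod.fst ((weight5 d).symm.trans hd)
      simp [W4c2invhilbsl2.wt5] at hd'
      by_cases h1 : 1 ≤ d 1
      · exact monomial_mem_genMod hd 0 (hle 1 d h1) (hw 1)
      · refine monomial_mem_genMod hd 1 (hle 2 d ?_) ((hw 2).trans (by simp [W4c2invhilbsl2.wt5]))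
        by_contra h2
        rw [show d 1 = 0 by omega, show d 2 = 0 by omega] at hd'
        push_cast at hd'
        nlinarith
    obtain ⟨a, ha, hm'⟩ := hmem
    exact ⟨a 0, a 1, ha 0, ha 1, by simpa [Fin.sum_univ_two, ← MvPolynomial.X_pow_eq_monomial] using hm'⟩
  · intro hf
    have hmem : f ∈ genMod (hyp k p q) (W4c2invhilbsl2.wt5 p q m) ![Finsupp.single (3 : Fin 5) 1, Finsupp.single 4 1] := by
      have hdirect : ∀ d : Fin 5 →₀ ℕ, Finsupp.weight (W4c2invhilbsl2.wt5 p q m) d = W4c2invhilbsl2.wt5 p q m 3 → 1 ≤ d 3 + d 4 →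
          monomial d 1 ∈ genMod (hyp k p q) (W4c2invhilbsl2.wt5 p q m) ![Finsupp.single (3 : Fin 5) 1, Finsupp.single 4 1] := by
        intro d hd h
        by_cases h3 : 1 ≤ d 3
        · exact monomial_mem_genMod hd 0 (hle 3 d h3) (hw 3)
        · exact monomial_mem_genMod hd 1 (hle 4 d (by omega)) ((hw 4).trans (by simp [W4c2invhilbsl2.wt5]))
      refine homog_mem _ hf fun d hd => ?_
      by_cases h : 1 ≤ d 3 + d 4
      · exact hdirect d hd h
      · have hd' := congrArg Prod.fst ((weight5 d).symm.trans hd)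
        simp [W4c2invhilbsl2.wt5] at hd'
        rw [show d 3 = 0 by omega, show d 4 = 0 by omega] at hd'
        push_cast at hd'
        refine monomial_mem_of_hyp hpq _ (fun x y => mem_genMod_of_sub) hd ?_
          (fun d' h' he => hdirect d' h' (by subst he; simp [E5] <;> omega)) (fun d' h' he => hdirect d' h' (by subst he; simp [E5] <;> omega))
        have : (q : ℤ) ≤ d 0 := by nlinarith
        omega
    obtain ⟨a, ha, hm'⟩ := hmem
    exact ⟨a 0, a 1, ha 0, ha 1, by simpa [Fin.sum_univ_two, ← MvPolynomial.X_pow_eq_monomial] using hm'⟩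

end Groth.Agent.S15724
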