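import Groth.Statements.S15725
import Groth.Agent.L13.InvHilb.Gen

set_option autoImplicit false
universe u
open W4c2invhilbsl2

namespace Groth.Agent.S15725

/-- Grade the polynomial ring k[X₀,X₁,X₂] over a field k by ℤ × ℤ/m, giving X₀ weight (1,0), X₁ weight
(−p,−1) and X₂ weight (q,1), where 0 < p < q are coprime integers and m ≥ 1 (this three-variable
ring stands for the subring k[X₀,X₁,Xⱼ], j = 3 or 4, of the five-variable ring with the same
weights). Then every polynomial homogeneous of weight (q−p, 0) can be written a·X₀^(q−p) + b·X₁X₂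
with a and b homogeneous of weight zero; in other words the weight-(q−p, 0) piece is generated by
X₀^(q−p) and X₁X₂ as a module over the weight-zero subring. -/
theorem result (k : Type u) [Field k] (p q m : ℕ) (hp : 0 < p) (hpq : p < q) (hcop : Nat.Coprime p q) (hm : 0 < m) (f : MvPolynomial (Fin 3) k)
    (hf : f ∈ MvPolynomial.weightedHomogeneousSubmodule k (W4c2invhilbsl2.wt3 p q m) ((q : ℤ) - (p : ℤ), (0 : ZMod m))) :
    ∃ a b : MvPolynomial (Fin 3) k, a ∈ MvPolynomial.weightedHomogeneousSubmodule k (W4c2invhilbsl2.wt3 p q m) 0 ∧ b ∈ MvPolynomial.weightedHomogeneousSubmodule k (W4c2invhilbsl2.wt3 p q m) 0 ∧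
      f = a * MvPolynomial.X (0 : Fin 3) ^ (q - p) + b * (MvPolynomial.X (1 : Fin 3) * MvPolynomial.X (2 : Fin 3)) := by
  open MvPolynomial Groth.L13.InvHilb W4c2invhilbsl2 in
  have hz : ((q - p : ℕ) : ℤ) = (q : ℤ) - p := by omega
  have hmem : f ∈ genMod (⊥ : Ideal (MvPolynomial (Fin 3) k)) (W4c2invhilbsl2.wt3 p q m) ![E3 (q - p) 0 0, E3 0 1 1] := by
    refine homog_mem _ hf fun d hd => ?_
    by_cases h0 : q - p ≤ d 0
    · refine monomial_mem_genMod hd 0 (fun j => ?_) ?_
      · fin_cases j <;> simp [E3] <;> omega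
      · simp [weight3, E3, hz]
    · refine monomial_mem_genMod hd 1 (fun j => ?_) ?_
      · obtain ⟨h1, x, hx⟩ := (weight3_eq_iff d ((q : ℤ) - p) 0).1 (hd.trans (by simp))
        have key : ((q : ℤ) - p) * d 2 = (q : ℤ) - p - d 0 + (p : ℤ) * ((d 1 : ℤ) - d 2) := by linarith
        have hd2 : 1 ≤ d 2 := by
          by_contra h
          rw [show d 2 = 0 by omega] at key
          push_cast at key
          have : (d 0 : ℤ) < (q : ℤ) - p := by omega
          nlinarith
        have hd1 : 1 ≤ d 1 := by
          by_contra h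
          rw [show d 1 = 0 by omega] at key
          push_cast at key
          have : (1 : ℤ) ≤ d 2 := by exact_mod_cast hd2
          nlinarith
        fin_cases j <;> simp [E3] <;> omega
      · simp [weight3, E3]; ring
  obtain ⟨a, ha, hm'⟩ := hmem
  rw [Submodule.mem_bot, sub_eq_zero, Fin.sum_univ_two] at hm'
  exact ⟨a 0, a 1, ha 0, ha 1, by rw [hm']; simp [monomial3, E3]⟩

end Groth.Agent.S15725
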