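import Groth.Statements.S15726
import Groth.Agent.L13.InvHilb.Gen

set_option autoImplicit false
universe u
open W4c2invhilbsl2

namespace Groth.Agent.S15726

/-- Grade the polynomial ring k[X₀,…,X₄] over a field k by ℤ × ℤ/m, giving X₀ weight (1,0), X₁ and X₂
weight (−p,−1), and X₃ and X₄ weight (q,1), where 0 < p < q are coprime integers and m ≥ 1. Then
modulo the principal ideal generated by the weight-zero element X₀^(q−p) − X₁X₄ + X₂X₃ (the equation
of an affine hypersurface), every polynomial homogeneous of weight (q−p, 0) is congruent to a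
combination a₁₃X₁X₃ + a₁₄X₁X₄ + a₂₃X₂X₃ + a₂₄X₂X₄ whose four coefficients are homogeneous of weight
zero. Equivalently, in the coordinate ring of the hypersurface the weight-(q−p, 0) piece is
generated over the weight-zero subring (the invariant ring of the diagonal action with these
weights) by the span of the four products XₐX_b with a ∈ {1,2} and b ∈ {3,4}. (The published
statement is over the complex numbers; this row takes any field.) -/
theorem result (k : Type u) [Field k] (p q m : ℕ) (hp : 0 < p) (hpq : p < q) (hcop : Nat.Coprime p q) (hm : 0 < m) (f : MvPolynomial (Fin 5) k)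
    (hf : f ∈ MvPolynomial.weightedHomogeneousSubmodule k (W4c2invhilbsl2.wt5 p q m) ((q : ℤ) - (p : ℤ), (0 : ZMod m))) :
    ∃ a₁₃ a₁₄ a₂₃ a₂₄ : MvPolynomial (Fin 5) k,
      a₁₃ ∈ MvPolynomial.weightedHomogeneousSubmodule k (W4c2invhilbsl2.wt5 p q m) 0 ∧ a₁₄ ∈ MvPolynomial.weightedHomogeneousSubmodule k (W4c2invhilbsl2.wt5 p q m) 0 ∧ a₂₃ ∈ MvPolynomial.weightedHomogeneousSubmodule k (W4c2invhilbsl2.wt5 p q m) 0 ∧ a₂₄ ∈ MvPolynomial.weightedHomogeneousSubmodule k (W4c2invhilbsl2.wt5 p q m) 0 ∧
      f - (a₁₃ * (MvPolynomial.X (1 : Fin 5) * MvPolynomial.X 3) + a₁₄ * (MvPolynomial.X (1 : Fin 5) * MvPolynomial.X 4) +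
          a₂₃ * (MvPolynomial.X (2 : Fin 5) * MvPolynomial.X 3) + a₂₄ * (MvPolynomial.X (2 : Fin 5) * MvPolynomial.X 4)) ∈
        Ideal.span {MvPolynomial.X (0 : Fin 5) ^ (q - p) - MvPolynomial.X 1 * MvPolynomial.X 4 + MvPolynomial.X 2 * MvPolynomial.X 3} := by
  open MvPolynomial Groth.L13.InvHilb W4c2invhilbsl2 in
  have hz : ((q - p : ℕ) : ℤ) = (q : ℤ) - p := by omega
  set g : Fin 4 → (Fin 5 →₀ ℕ) := ![E5 0 1 0 1 0, E5 0 1 0 0 1, E5 0 0 1 1 0, E5 0 0 1 0 1] with hg
  have hmem : f ∈ genMod (hyp k p q) (W4c2invhilbsl2.wt5 p q m) g := by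
    have hdirect : ∀ d : Fin 5 →₀ ℕ, Finsupp.weight (W4c2invhilbsl2.wt5 p q m) d = ((q : ℤ) - p, (0 : ZMod m)) →
        1 ≤ d 1 + d 2 → 1 ≤ d 3 + d 4 → monomial d 1 ∈ genMod (hyp k p q) (W4c2invhilbsl2.wt5 p q m) g := by
      intro d hd h12 h34
      by_cases h1 : 1 ≤ d 1 <;> by_cases h3 : 1 ≤ d 3
      · refine monomial_mem_genMod hd 0 (fun j => ?_) (by simp [hg, weight5, E5]; ring)
        fin_cases j <;> simp [hg, E5] <;> omega
      · refine monomial_mem_genMod hd 1 (fun j => ?_) (by simp [hg, weight5, E5]; ring)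
        fin_cases j <;> simp [hg, E5] <;> omega
      · refine monomial_mem_genMod hd 2 (fun j => ?_) (by simp [hg, weight5, E5]; ring)
        fin_cases j <;> simp [hg, E5] <;> omega
      · refine monomial_mem_genMod hd 3 (fun j => ?_) (by simp [hg, weight5, E5]; ring)
        fin_cases j <;> simp [hg, E5] <;> omega
    refine homog_mem _ hf fun d hd => ?_
    have hd' := congrArg Prod.fst ((weight5 d).symm.trans hd)
    simp only at hd'
    by_cases h0 : q - p ≤ d 0
    · refine monomial_mem_of_hyp hpq _ (fun x y => mem_genMod_of_sub) hd h0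
        (fun d' h' he => hdirect d' h' (by subst he; simp [E5] <;> omega) (by subst he; simp [E5] <;> omega))
        (fun d' h' he => hdirect d' h' (by subst he; simp [E5] <;> omega) (by subst he; simp [E5] <;> omega))
    · have h0' : (d 0 : ℤ) < (q : ℤ) - p := by omega
      refine hdirect d hd ?_ ?_
      · by_contra h
        rw [show d 1 = 0 by omega, show d 2 = 0 by omega] at hd'
        push_cast at hd'
        rcases Nat.eq_zero_or_pos (d 3 + d 4) with h34 | h34
        · rw [show d 3 = 0 by omega, show d 4 = 0 by omega] at hd'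
          push_cast at hd'
          linarith
        · have : (1 : ℤ) ≤ (d 3 : ℤ) + d 4 := by exact_mod_cast h34
          nlinarith
      · by_contra h
        rw [show d 3 = 0 by omega, show d 4 = 0 by omega] at hd'
        push_cast at hd'
        have : (0 : ℤ) ≤ (d 1 : ℤ) + d 2 := by positivity
        nlinarith
  obtain ⟨a, ha, hm'⟩ := hmem
  exact ⟨a 0, a 1, a 2, a 3, ha 0, ha 1, ha 2, ha 3, by simpa [Fin.sum_univ_four, hg, monomial5, E5] using hm'⟩

end Groth.Agent.S15726
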