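import Groth.Statements.S15727
import Groth.Agent.L13.InvHilb.Gen

set_option autoImplicit false
universe u
open W4c2invhilbsl2

namespace Groth.Agent.S15727

/-- Let k be an algebraically closed field, 0 < p < q coprime integers and m ≥ 1, and grade k[X₀,…,X₄]
by ℤ × ℤ/m, giving X₀ weight (1,0), X₁ and X₂ weight (−p,−1), and X₃ and X₄ weight (q,1). For s ∈ k
let I_s be the ideal (X₀^(q−p) − X₁X₄, X₂, X₃, s − X₀^(mp)X₁^m), whose generators are homogeneous
(the last one of weight zero). Then for every weight ν the image in k[X₀,…,X₄]/I_s of the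
homogeneous polynomials of weight ν is a k-vector space of dimension at most 1. (The published
statement asserts that this dimension equals 1 for every ν and every s, namely that the quotient has
the Hilbert function of the regular representation of the grading group; this row states the upper
bound, the half obtained from the monomial analysis of the weight pieces, while the lower bound
there is drawn from the moduli interpretation of these ideals. The published statement is over the
complex numbers; this row takes any algebraically closed field, which is what the reduction to s =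
0, 1 by rescaling the variables uses.) -/
theorem result (k : Type u) [Field k] [IsAlgClosed k] (p q m : ℕ) (hp : 0 < p) (hpq : p < q) (hcop : Nat.Coprime p q) (hm : 0 < m) (s : k) (ν : ℤ × ZMod m) :
    Module.rank k (W4c2invhilbsl2.piece k (W4c2invhilbsl2.wt5 p q m) (W4c2invhilbsl2.idealI k p q m s) ν) ≤ 1 := by
  open MvPolynomial Groth.L13.InvHilb W4c2invhilbsl2 in
  refine rank_piece_le_one _ ν fun d d' hd hd' => ?_
  set I := W4c2invhilbsl2.idealI k p q m s with hI
  have h2 : (MvPolynomial.X 2 : MvPolynomial (Fin 5) k) ∈ I := Ideal.subset_span (by simp)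
  have h3 : (MvPolynomial.X 3 : MvPolynomial (Fin 5) k) ∈ I := Ideal.subset_span (by simp)
  have hzero : ∀ e : Fin 5 →₀ ℕ, (1 ≤ e 2 ∨ 1 ≤ e 3) → monomial e (1 : k) ∈ I := by
    intro e he
    rw [monomial5]
    rcases he with he | he
    · exact I.mul_mem_right _ (I.mul_mem_right _ (I.mul_mem_left _ (I.pow_mem_of_mem h2 _ he)))
    · exact I.mul_mem_right _ (I.mul_mem_left _ (I.pow_mem_of_mem h3 _ he))
  by_cases hz : 1 ≤ d 2 ∨ 1 ≤ d 3
  · exact ⟨0, .inl (by simpa using hzero d hz)⟩
  by_cases hz' : 1 ≤ d' 2 ∨ 1 ≤ d' 3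
  · exact ⟨0, .inr (by simpa using hzero d' hz')⟩
  have hw := (weight5 d).symm.trans (hd.trans (hd'.symm.trans (weight5 d')))
  rw [show d 2 = 0 by omega, show d 3 = 0 by omega, show d' 2 = 0 by omega, show d' 3 = 0 by omega, Prod.mk.injEq,
    ZMod.intCast_eq_intCast_iff_dvd_sub] at hw
  obtain ⟨hn, hc⟩ := hw
  push_cast at hn hc
  simp only [add_zero, sub_zero, zero_add] at hn hc
  have hq : ∀ x, Ideal.Quotient.mk I x = 0 ↔ x ∈ I := fun x => Ideal.Quotient.eq_zero_iff_mem
  have ha : (Ideal.Quotient.mk I (MvPolynomial.X 0)) ^ (q - p) = Ideal.Quotient.mk I (MvPolynomial.X 1) * Ideal.Quotient.mk I (MvPolynomial.X 4) := by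
    rw [← map_pow, ← map_mul, ← sub_eq_zero, ← map_sub, hq]
    exact Ideal.subset_span (by simp)
  have hb : (Ideal.Quotient.mk I (MvPolynomial.X 0)) ^ (m * p) * (Ideal.Quotient.mk I (MvPolynomial.X 1)) ^ m = algebraMap k _ s := by
    rw [← map_pow, ← map_pow, ← map_mul, IsScalarTower.algebraMap_apply k (MvPolynomial (Fin 5) k) (MvPolynomial (Fin 5) k ⧸ I),
      Ideal.Quotient.algebraMap_eq, MvPolynomial.algebraMap_eq, eq_comm, ← sub_eq_zero, ← map_sub, hq]
    exact Ideal.subset_span (by simp)
  obtain ⟨r, hr⟩ := rel_span (p := p) (q := q) (m := m) hpq (k := k) ha hb (d0 := d 0) (d1 := d 1) (d2 := d 4)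
    (e0 := d' 0) (e1 := d' 1) (e2 := d' 4) (by linarith) (by
      obtain ⟨x, hx⟩ := hc
      exact ⟨x, by linarith⟩)
  refine ⟨r, ?_⟩
  rw [monomial5 d, monomial5 d', show d 2 = 0 by omega, show d 3 = 0 by omega, show d' 2 = 0 by omega, show d' 3 = 0 by omega]
  simp only [pow_zero, mul_one, ← hq, map_sub, sub_eq_zero]
  rcases hr with hr | hr
  · exact .inl (by rw [map_mul, map_mul, map_pow, map_pow, map_pow, hr, ← Ideal.Quotient.mkₐ_eq_mk k, map_smul]; simp)
  · exact .inr (by rw [map_mul, map_mul, map_pow, map_pow, map_pow, hr, ← Ideal.Quotient.mkₐ_eq_mk k, map_smul]; simp)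

end Groth.Agent.S15727
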