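import Groth.Statements.S15728
import Groth.Agent.L13.InvHilb.Gen

set_option autoImplicit false
universe u
open W4c2invhilbsl2

namespace Groth.Agent.S15728

/-- Let k be an algebraically closed field, 0 < p < q coprime integers and m ≥ 1; put g = gcd(m, q−p)
and a = m/g, and grade k[X₀,…,X₄] by ℤ × ℤ/m, giving X₀ weight (1,0), X₁ and X₂ weight (−p,−1), and
X₃ and X₄ weight (q,1). For s ∈ k let J_s be the ideal (X₀^g, X₂, X₄, s − X₁^(aq)X₃^(ap)), whose
generators are homogeneous (the last one of weight zero). Then for every weight ν the image in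
k[X₀,…,X₄]/J_s of the homogeneous polynomials of weight ν is a k-vector space of dimension at most
1. (The published statement asserts that this dimension equals 1 for every ν and every s; this row
states the upper bound, the half obtained from the monomial analysis of the weight pieces, while the
lower bound there is drawn from the moduli interpretation of these ideals. The published statement
is over the complex numbers; this row takes any algebraically closed field, which is what the
reduction to s = 0, 1 by rescaling the variables uses.) -/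
theorem result (k : Type u) [Field k] [IsAlgClosed k] (p q m : ℕ) (hp : 0 < p) (hpq : p < q) (hcop : Nat.Coprime p q) (hm : 0 < m) (s : k) (ν : ℤ × ZMod m) :
    Module.rank k (W4c2invhilbsl2.piece k (W4c2invhilbsl2.wt5 p q m) (W4c2invhilbsl2.idealJ k p q m s) ν) ≤ 1 := by
  open MvPolynomial Groth.L13.InvHilb W4c2invhilbsl2 in
  refine rank_piece_le_one _ ν fun d d' hd hd' => ?_
  set I := W4c2invhilbsl2.idealJ k p q m s with hI
  have h0 : (MvPolynomial.X 0 ^ Nat.gcd m (q - p) : MvPolynomial (Fin 5) k) ∈ I := Ideal.subset_span (by simp)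
  have h2 : (MvPolynomial.X 2 : MvPolynomial (Fin 5) k) ∈ I := Ideal.subset_span (by simp)
  have h4 : (MvPolynomial.X 4 : MvPolynomial (Fin 5) k) ∈ I := Ideal.subset_span (by simp)
  have hzero : ∀ e : Fin 5 →₀ ℕ, (Nat.gcd m (q - p) ≤ e 0 ∨ 1 ≤ e 2 ∨ 1 ≤ e 4) → monomial e (1 : k) ∈ I := by
    intro e he
    rw [monomial5]
    rcases he with he | he | he
    · exact I.mul_mem_right _ (I.mul_mem_right _ (I.mul_mem_right _ (I.mul_mem_right _
        (I.mem_of_dvd (pow_dvd_pow _ he) h0))))
    · exact I.mul_mem_right _ (I.mul_mem_right _ (I.mul_mem_left _ (I.pow_mem_of_mem h2 _ he)))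
    · exact I.mul_mem_left _ (I.pow_mem_of_mem h4 _ he)
  by_cases hz : Nat.gcd m (q - p) ≤ d 0 ∨ 1 ≤ d 2 ∨ 1 ≤ d 4
  · exact ⟨0, .inl (by simpa using hzero d hz)⟩
  by_cases hz' : Nat.gcd m (q - p) ≤ d' 0 ∨ 1 ≤ d' 2 ∨ 1 ≤ d' 4
  · exact ⟨0, .inr (by simpa using hzero d' hz')⟩
  have hw := (weight5 d).symm.trans (hd.trans (hd'.symm.trans (weight5 d')))
  rw [show d 2 = 0 by omega, show d 4 = 0 by omega, show d' 2 = 0 by omega, show d' 4 = 0 by omega, Prod.mk.injEq,
    ZMod.intCast_eq_intCast_iff_dvd_sub] at hw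
  obtain ⟨hn, x, hx⟩ := hw
  push_cast at hn hx
  simp only [add_zero, sub_zero] at hn hx
  obtain ⟨he0, u, hu1, hu2, -⟩ := small_pair hp hpq hcop hm (d0 := d 0) (d1 := d 1) (d2 := d 3) (e0 := d' 0) (e1 := d' 1) (e2 := d' 3)
    (by linarith) ⟨-x, by linarith⟩ (by omega) (by omega)
  have hq : ∀ x, Ideal.Quotient.mk I x = 0 ↔ x ∈ I := fun x => Ideal.Quotient.eq_zero_iff_mem
  set A := m / Nat.gcd m (q - p) * q with hA
  set B := m / Nat.gcd m (q - p) * p with hB
  have hrel : MvPolynomial.C s - MvPolynomial.X 1 ^ A * MvPolynomial.X 3 ^ B ∈ I := Ideal.subset_span (by simp [hA, hB])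
  obtain ⟨n, rfl | rfl⟩ := Int.eq_nat_or_neg u
  · refine ⟨s ^ n, .inr ?_⟩
    have e1 : d' 1 = d 1 + A * n := by exact_mod_cast hu1
    have e2 : d' 3 = d 3 + B * n := by exact_mod_cast hu2
    rw [monomial5 d, monomial5 d', show d 2 = 0 by omega, show d 4 = 0 by omega, show d' 2 = 0 by omega, show d' 4 = 0 by omega, ← he0, e1, e2]
    convert smul_sub_pow_mem I hrel n (MvPolynomial.X 0 ^ d 0 * MvPolynomial.X 1 ^ d 1 * MvPolynomial.X 3 ^ d 3) using 1
    simp only [smul_eq_C_mul]; ring
  · refine ⟨s ^ n, .inl ?_⟩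
    have e1 : d 1 = d' 1 + A * n := by
      have : (d 1 : ℤ) = d' 1 + (A : ℤ) * n := by rw [hu1]; ring
      exact_mod_cast this
    have e2 : d 3 = d' 3 + B * n := by
      have : (d 3 : ℤ) = d' 3 + (B : ℤ) * n := by rw [hu2]; ring
      exact_mod_cast this
    rw [monomial5 d, monomial5 d', show d 2 = 0 by omega, show d 4 = 0 by omega, show d' 2 = 0 by omega, show d' 4 = 0 by omega, ← he0, e1, e2]
    convert smul_sub_pow_mem I hrel n (MvPolynomial.X 0 ^ d 0 * MvPolynomial.X 1 ^ d' 1 * MvPolynomial.X 3 ^ d' 3) using 1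
    simp only [smul_eq_C_mul]; ring

end Groth.Agent.S15728
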