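import Groth.Statements.S15729
import Groth.Agent.L13.InvHilb.Gen

set_option autoImplicit false
universe u
open W4c2invhilbsl2

namespace Groth.Agent.S15729

/-- Let 0 < p < q be coprime integers and m ≥ 1 such that q − p does not divide m; put g = gcd(m, q−p),
b = (q−p)/g, α = ⌊mp/(q−p)⌋, β = the remainder of mp modulo q−p and t = (q−p−β)/g, so that 1 ≤ t <
b, and let b/t = c₁ − 1/(c₂ − 1/(⋯ − 1/c_r)) be the negative-regular (Hirzebruch–Jung) continued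
fraction expansion with every cᵢ ≥ 2; set P₀ = 0, P₁ = 1, Q₀ = −1, Q₁ = 0, Pᵢ = cᵢ₋₁Pᵢ₋₁ − Pᵢ₋₂, Qᵢ
= cᵢ₋₁Qᵢ₋₁ − Qᵢ₋₂ for 2 ≤ i ≤ r+1, and eᵢ = (α+1+m)Pᵢ − Qᵢ, lᵢ = (α+1)Pᵢ − Qᵢ, nᵢ = q·lᵢ − p·eᵢ,
which are non-negative integers for 0 ≤ i ≤ r+1. Grade the polynomial ring k[X₀,X₁,X₂] over a field
k by ℤ × ℤ/m with weights (1,0), (−p,−1), (q,1) (it stands for k[X₀,X₁,Xⱼ], j = 3 or 4, inside the
five-variable ring). Then for every 1 ≤ i ≤ r, every polynomial homogeneous of weight (nᵢ, 0) can be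
written a·X₀^(nᵢ) + b·X₁^(eᵢ)X₂^(lᵢ) with a and b homogeneous of weight zero; that is, the
weight-(nᵢ,0) piece is generated over the weight-zero subring by X₀^(nᵢ) and X₁^(eᵢ)X₂^(lᵢ). -/
theorem result (k : Type u) [Field k] (p q m : ℕ) (hp : 0 < p) (hpq : p < q) (hcop : Nat.Coprime p q) (hm : 0 < m) (hnt : ¬ (q - p ∣ m)) (c : List ℤ) (hc : W4c2invhilbsl2.IsHJDigits p q m c) (i : ℕ) (hi : 1 ≤ i) (hir : i ≤ c.length)
    (f : MvPolynomial (Fin 3) k) (hf : f ∈ MvPolynomial.weightedHomogeneousSubmodule k (W4c2invhilbsl2.wt3 p q m) (W4c2invhilbsl2.nN p q m c i, (0 : ZMod m))) :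
    ∃ a b : MvPolynomial (Fin 3) k, a ∈ MvPolynomial.weightedHomogeneousSubmodule k (W4c2invhilbsl2.wt3 p q m) 0 ∧ b ∈ MvPolynomial.weightedHomogeneousSubmodule k (W4c2invhilbsl2.wt3 p q m) 0 ∧
      f = a * MvPolynomial.X (0 : Fin 3) ^ (W4c2invhilbsl2.nN p q m c i).toNat +
        b * (MvPolynomial.X (1 : Fin 3) ^ (W4c2invhilbsl2.eE p q m c i).toNat * MvPolynomial.X (2 : Fin 3) ^ (W4c2invhilbsl2.lL p q m c i).toNat) := by
  open MvPolynomial Groth.L13.InvHilb W4c2invhilbsl2 in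
  have S : Setup p q m c := ⟨hp, hpq, hcop, hm, hnt, hc⟩
  obtain ⟨j, rfl⟩ : ∃ j, i = j + 1 := ⟨i - 1, by omega⟩
  have hn0 := S.nN_pos hir
  obtain ⟨n, hn⟩ : ∃ n : ℕ, W4c2invhilbsl2.nN p q m c (j + 1) = n := ⟨_, (Int.toNat_of_nonneg hn0.le).symm⟩
  obtain ⟨E, hE⟩ : ∃ E : ℕ, W4c2invhilbsl2.eE p q m c (j + 1) = E := ⟨_, (Int.toNat_of_nonneg (S.eE_pos hir).le).symm⟩
  obtain ⟨L, hL⟩ : ∃ L : ℕ, W4c2invhilbsl2.lL p q m c (j + 1) = L := ⟨_, (Int.toNat_of_nonneg (S.lL_pos hir).le).symm⟩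
  rw [hn, hE, hL, Int.toNat_natCast, Int.toNat_natCast, Int.toNat_natCast]
  have hEL : (E : ℤ) = L + m * W4c2invhilbsl2.hjP c (j + 1) := by rw [← hE, ← hL]; exact S.eE_eq _
  have hmem : f ∈ genMod (⊥ : Ideal (MvPolynomial (Fin 3) k)) (W4c2invhilbsl2.wt3 p q m) ![E3 n 0 0, E3 0 E L] := by
    refine homog_mem _ hf fun d hd => ?_
    by_cases h0 : n ≤ d 0
    · refine monomial_mem_genMod hd 0 (fun l => ?_) ?_
      · fin_cases l <;> simp [E3] <;> omega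
      · simp [weight3, E3, hn]
    · obtain ⟨h1, x, hx⟩ := (weight3_eq_iff d (W4c2invhilbsl2.nN p q m c (j + 1)) 0).1 (hd.trans (by simp))
      obtain ⟨he, hl⟩ := toric_dom S (i := j) (by omega) (d0 := d 0) (D1 := d 1) (D2 := d 2) (x := x)
        (by positivity) (by positivity) (by positivity) (by rw [hn]; exact_mod_cast not_le.1 h0) h1 (by linarith)
      refine monomial_mem_genMod hd 1 (fun l => ?_) ?_
      · fin_cases l <;> simp [E3] <;> omega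
      · rw [show (W4c2invhilbsl2.nN p q m c (j + 1), (0 : ZMod m)) = (W4c2invhilbsl2.nN p q m c (j + 1), ((0 : ℤ) : ZMod m)) by simp,
          weight3_eq_iff]
        simp [E3, hEL]
        rw [← hL]
        simp only [W4c2invhilbsl2.nN, W4c2invhilbsl2.eE, W4c2invhilbsl2.lL]
        push_cast
        ring
  obtain ⟨a, ha, hm'⟩ := hmem
  rw [Submodule.mem_bot, sub_eq_zero, Fin.sum_univ_two] at hm'
  exact ⟨a 0, a 1, ha 0, ha 1, by rw [hm']; simp [monomial3, E3]⟩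

end Groth.Agent.S15729
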