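
import Groth.Statements.S1573
import Groth.Agent.L22.LocalDim

set_option autoImplicit false
universe u
open CategoryTheory CategoryTheory.Limits AlgebraicGeometry
open Divisors

namespace Groth.Agent.S1573

/-- Let X be locally Noetherian and U an open subscheme whose inclusion is an affine morphism. At every
point ξ outside U which is maximal under generisation among points outside U, the local ring of X
has dimension at most one; if U is dense the dimension equals one. -/
theorem result (X : Scheme.{u}) [IsLocallyNoetherian X]
    (U : X.Opens) [IsAffineHom U.ι] (ξ : X) (hξ : ξ ∉ U) (hgen : ∀ y : X, y ∉ U → y ⤳ ξ → y = ξ) :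
    ringKrullDim (X.presheaf.stalk ξ) ≤ 1 ∧ (Dense (U : Set X) → ringKrullDim (X.presheaf.stalk ξ) = 1) := by
  have h1 := Groth.L22.LocalDim.dim_le_one_of_isAffineHom U hξ hgen
  exact ⟨h1, fun hd => le_antisymm h1
    (Groth.L22.LocalDim.one_le_dim_of_mem_closure hξ (hd ξ))⟩

end Groth.Agent.S1573
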