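import Groth.Statements.S15732
import Groth.Agent.L13.InvHilb.Gen

set_option autoImplicit false
universe u
open W4c2invhilbsl2

namespace Groth.Agent.S15732

/-- Let 0 < p < q be coprime integers and m ≥ 1 such that q − p does not divide m; put g = gcd(m, q−p),
b = (q−p)/g, α = ⌊mp/(q−p)⌋, β = the remainder of mp modulo q−p and t = (q−p−β)/g, so that 1 ≤ t <
b, and let b/t = c₁ − 1/(c₂ − 1/(⋯ − 1/c_r)) be the negative-regular (Hirzebruch–Jung) continued
fraction expansion with every cᵢ ≥ 2; set P₀ = 0, P₁ = 1, Q₀ = −1, Q₁ = 0, Pᵢ = cᵢ₋₁Pᵢ₋₁ − Pᵢ₋₂, Qᵢ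
= cᵢ₋₁Qᵢ₋₁ − Qᵢ₋₂ for 2 ≤ i ≤ r+1, and eᵢ = (α+1+m)Pᵢ − Qᵢ, lᵢ = (α+1)Pᵢ − Qᵢ, nᵢ = q·lᵢ − p·eᵢ,
which are non-negative integers for 0 ≤ i ≤ r+1. Grade the polynomial ring k[X₀,…,X₄] over a field k
by ℤ × ℤ/m, giving X₀ weight (1,0), X₁ and X₂ weight (−p,−1), and X₃ and X₄ weight (q,1). Then for
every 1 ≤ i ≤ r, modulo the principal ideal generated by the weight-zero element X₀^(q−p) − X₁X₄ +
X₂X₃, every polynomial homogeneous of weight (nᵢ, 0) is congruent to a combination a₀·X₀^(nᵢ) + Σ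
a_{e,l}·X₁^(eᵢ−e)X₂^e X₃^(lᵢ−l)X₄^l (sum over 0 ≤ e ≤ eᵢ, 0 ≤ l ≤ lᵢ) whose coefficients a₀, a_{e,l}
are homogeneous of weight zero. Equivalently, in the coordinate ring of the hypersurface the
weight-(nᵢ,0) piece is generated over the weight-zero subring (the invariant ring) by X₀^(nᵢ)
together with the products of a degree-eᵢ monomial in X₁, X₂ and a degree-lᵢ monomial in X₃, X₄.
(The published statement is over the complex numbers; this row takes any field.) -/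
theorem result (k : Type u) [Field k] (p q m : ℕ) (hp : 0 < p) (hpq : p < q) (hcop : Nat.Coprime p q) (hm : 0 < m) (hnt : ¬ (q - p ∣ m)) (c : List ℤ) (hc : W4c2invhilbsl2.IsHJDigits p q m c) (i : ℕ) (hi : 1 ≤ i) (hir : i ≤ c.length)
    (f : MvPolynomial (Fin 5) k) (hf : f ∈ MvPolynomial.weightedHomogeneousSubmodule k (W4c2invhilbsl2.wt5 p q m) (W4c2invhilbsl2.nN p q m c i, (0 : ZMod m))) :
    ∃ (a₀ : MvPolynomial (Fin 5) k) (a : ℕ → ℕ → MvPolynomial (Fin 5) k),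
      a₀ ∈ MvPolynomial.weightedHomogeneousSubmodule k (W4c2invhilbsl2.wt5 p q m) 0 ∧ (∀ e l : ℕ, a e l ∈ MvPolynomial.weightedHomogeneousSubmodule k (W4c2invhilbsl2.wt5 p q m) 0) ∧
      f - (a₀ * MvPolynomial.X (0 : Fin 5) ^ (W4c2invhilbsl2.nN p q m c i).toNat +
          ∑ e ∈ Finset.range ((W4c2invhilbsl2.eE p q m c i).toNat + 1), ∑ l ∈ Finset.range ((W4c2invhilbsl2.lL p q m c i).toNat + 1),
            a e l * (MvPolynomial.X (1 : Fin 5) ^ ((W4c2invhilbsl2.eE p q m c i).toNat - e) * MvPolynomial.X (2 : Fin 5) ^ e *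
              MvPolynomial.X (3 : Fin 5) ^ ((W4c2invhilbsl2.lL p q m c i).toNat - l) * MvPolynomial.X (4 : Fin 5) ^ l)) ∈
        Ideal.span {MvPolynomial.X (0 : Fin 5) ^ (q - p) - MvPolynomial.X 1 * MvPolynomial.X 4 + MvPolynomial.X 2 * MvPolynomial.X 3} := by
  open MvPolynomial Groth.L13.InvHilb W4c2invhilbsl2 in
  have S : Setup p q m c := ⟨hp, hpq, hcop, hm, hnt, hc⟩
  obtain ⟨j, rfl⟩ : ∃ j, i = j + 1 := ⟨i - 1, by omega⟩
  have hn0 := S.nN_pos hir
  obtain ⟨n, hn⟩ : ∃ n : ℕ, W4c2invhilbsl2.nN p q m c (j + 1) = n := ⟨_, (Int.toNat_of_nonneg hn0.le).symm⟩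
  obtain ⟨E, hE⟩ : ∃ E : ℕ, W4c2invhilbsl2.eE p q m c (j + 1) = E := ⟨_, (Int.toNat_of_nonneg (S.eE_pos hir).le).symm⟩
  obtain ⟨L, hL⟩ : ∃ L : ℕ, W4c2invhilbsl2.lL p q m c (j + 1) = L := ⟨_, (Int.toNat_of_nonneg (S.lL_pos hir).le).symm⟩
  rw [hn, hE, hL, Int.toNat_natCast, Int.toNat_natCast, Int.toNat_natCast]
  have hEL : (E : ℤ) = L + m * W4c2invhilbsl2.hjP c (j + 1) := by rw [← hE, ← hL]; exact S.eE_eq _
  have hnE : (n : ℤ) = -(p : ℤ) * E + q * L := by rw [← hn, ← hE, ← hL]; rfl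
  let g : Option (Fin (E + 1) × Fin (L + 1)) → (Fin 5 →₀ ℕ) := fun o =>
    o.elim (E5 n 0 0 0 0) (fun z => E5 0 (E - z.1.val) z.1.val (L - z.2.val) z.2.val)
  have hmem : f ∈ genMod (hyp k p q) (W4c2invhilbsl2.wt5 p q m) g := by
    refine homog_mem _ hf fun d hd => ?_
    by_cases h0 : n ≤ d 0
    · refine monomial_mem_genMod hd none (fun l => ?_) ?_
      · fin_cases l <;> simp [g, E5] <;> omega
      · simp [g, weight5, E5, hn]
    · obtain ⟨h1, x, hx⟩ := (weight5_eq_iff d (W4c2invhilbsl2.nN p q m c (j + 1)) 0).1 (hd.trans (by simp))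
      obtain ⟨he, hl⟩ := toric_dom S (i := j) (by omega) (d0 := d 0) (D1 := (d 1 : ℤ) + d 2) (D2 := (d 3 : ℤ) + d 4) (x := x)
        (by positivity) (by positivity) (by positivity) (by rw [hn]; exact_mod_cast not_le.1 h0) h1 (by linarith)
      rw [hE] at he
      rw [hL] at hl
      have he' : E ≤ d 1 + d 2 := by exact_mod_cast he
      have hl' : L ≤ d 3 + d 4 := by exact_mod_cast hl
      refine monomial_mem_genMod hd (some (⟨min (d 2) E, by omega⟩, ⟨min (d 4) L, by omega⟩)) (fun l => ?_) ?_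
      · fin_cases l <;> simp [g, E5] <;> omega
      · rw [show (W4c2invhilbsl2.nN p q m c (j + 1), (0 : ZMod m)) = (W4c2invhilbsl2.nN p q m c (j + 1), ((0 : ℤ) : ZMod m)) by simp,
          weight5_eq_iff, hn]
        simp [g, E5]
        exact ⟨by linarith, ⟨W4c2invhilbsl2.hjP c (j + 1), by linarith⟩⟩
  obtain ⟨a, ha, hm'⟩ := hmem
  refine ⟨a none, fun e l => if h : e < E + 1 ∧ l < L + 1 then a (some (⟨e, h.1⟩, ⟨l, h.2⟩)) else 0, ha none, fun e l => ?_, ?_⟩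
  · by_cases h : e < E + 1 ∧ l < L + 1
    · simp only [dif_pos h]; exact ha _
    · simp only [dif_neg h]; exact zero_mem _
  · rw [Fintype.sum_option, Fintype.sum_prod_type] at hm'
    convert hm' using 1
    congr 2
    · simp [g, monomial5, E5]
    · rw [Finset.sum_range]
      refine Finset.sum_congr rfl fun e _ => ?_
      rw [Finset.sum_range]
      refine Finset.sum_congr rfl fun l _ => ?_
      simp only [dif_pos (And.intro e.2 l.2)]
      simp [g, monomial5, E5]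

end Groth.Agent.S15732
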