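import Groth.Statements.S15733
import Groth.Agent.L13.InvHilb.Gen

set_option autoImplicit false
open W4c2invhilbsl2

namespace Groth.Agent.S15733

/-- Let 0 < p < q be coprime integers and m ≥ 1 such that q − p does not divide m; put g = gcd(m, q−p),
b = (q−p)/g, α = ⌊mp/(q−p)⌋, β = the remainder of mp modulo q−p and t = (q−p−β)/g, so that 1 ≤ t <
b, and let b/t = c₁ − 1/(c₂ − 1/(⋯ − 1/c_r)) be the negative-regular (Hirzebruch–Jung) continued
fraction expansion with every cᵢ ≥ 2; set P₀ = 0, P₁ = 1, Q₀ = −1, Q₁ = 0, Pᵢ = cᵢ₋₁Pᵢ₋₁ − Pᵢ₋₂, Qᵢ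
= cᵢ₋₁Qᵢ₋₁ − Qᵢ₋₂ for 2 ≤ i ≤ r+1, and eᵢ = (α+1+m)Pᵢ − Qᵢ, lᵢ = (α+1)Pᵢ − Qᵢ, nᵢ = q·lᵢ − p·eᵢ,
which are non-negative integers for 0 ≤ i ≤ r+1. Then for every 1 < i ≤ r and every integer x with 0
< x < Pᵢ, the remainder of pmx + nᵢ on division by q − p equals nᵢ plus the remainder of pmx on
division by q − p (in particular nᵢ + (pmx mod (q−p)) < q − p). -/
theorem result (p q m : ℕ) (hp : 0 < p) (hpq : p < q) (hcop : Nat.Coprime p q) (hm : 0 < m) (hnt : ¬ (q - p ∣ m)) (c : List ℤ) (hc : W4c2invhilbsl2.IsHJDigits p q m c) (i : ℕ) (hi : 1 < i) (hir : i ≤ c.length)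
    (x : ℤ) (hx0 : 0 < x) (hx : x < W4c2invhilbsl2.hjP c i) :
    Int.emod ((p : ℤ) * m * x + W4c2invhilbsl2.nN p q m c i) ((q : ℤ) - p) = W4c2invhilbsl2.nN p q m c i + Int.emod ((p : ℤ) * m * x) ((q : ℤ) - p) := by
  open Groth.L13.InvHilb W4c2invhilbsl2 in
  have S : Setup p q m c := ⟨hp, hpq, hcop, hm, hnt, hc⟩
  obtain ⟨j, rfl⟩ : ∃ j, i = j + 1 := ⟨i - 1, by omega⟩
  set D : ℤ := (q : ℤ) - p with hD
  show ((p : ℤ) * m * x + _) % D = _ + ((p : ℤ) * m * x) % D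
  have hD0 : 0 < D := by omega
  set R := ((p : ℤ) * m * x) % D with hR
  have hR0 : 0 ≤ R := Int.emod_nonneg _ (by omega)
  have hR1 : R < D := Int.emod_lt_of_pos _ hD0
  have hdiv := Int.emod_add_mul_ediv ((p : ℤ) * m * x) D
  rw [← hR] at hdiv
  have hn0 := S.nN_pos (i := j + 1) hir
  have hnlt := S.nN_succ_lt (i := j) (by omega)
  have hnle := S.nN_le (i := j) (by omega)
  have key : R + W4c2invhilbsl2.nN p q m c (j + 1) < D := by
    by_contra hge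
    push Not at hge
    have := S.hjP_le (i := j) (by omega) hx0 (v := D - R) (y := (p : ℤ) * m * x / D + 1) (by linarith) (by linarith)
      (by rw [← hD]; linear_combination hdiv)
    omega
  rw [Int.add_emod, ← hR, Int.emod_eq_of_lt hn0.le (lt_of_lt_of_le hnlt hnle), Int.emod_eq_of_lt (by omega) key]
  ring

end Groth.Agent.S15733
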