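import Groth.Statements.S15734
import Groth.Agent.L13.InvHilb.Gen

set_option autoImplicit false
open W4c2invhilbsl2

namespace Groth.Agent.S15734

/-- Let 0 < p < q be coprime integers and m ≥ 1 such that q − p does not divide m; put g = gcd(m, q−p),
b = (q−p)/g, α = ⌊mp/(q−p)⌋, β = the remainder of mp modulo q−p and t = (q−p−β)/g, so that 1 ≤ t <
b, and let b/t = c₁ − 1/(c₂ − 1/(⋯ − 1/c_r)) be the negative-regular (Hirzebruch–Jung) continued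
fraction expansion with every cᵢ ≥ 2; set P₀ = 0, P₁ = 1, Q₀ = −1, Q₁ = 0, Pᵢ = cᵢ₋₁Pᵢ₋₁ − Pᵢ₋₂, Qᵢ
= cᵢ₋₁Qᵢ₋₁ − Qᵢ₋₂ for 2 ≤ i ≤ r+1, and eᵢ = (α+1+m)Pᵢ − Qᵢ, lᵢ = (α+1)Pᵢ − Qᵢ, nᵢ = q·lᵢ − p·eᵢ,
which are non-negative integers for 0 ≤ i ≤ r+1; moreover g divides every nᵢ, and write tᵢ = nᵢ/g
(so t₁ = t). Then (a) for every 1 ≤ i ≤ r the remainder of t·Pᵢ on division by b equals tᵢ, and (b)
for every 1 < i ≤ r and every integer x with 0 < x < Pᵢ the remainder ρ of t·x on division by b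
satisfies tᵢ₋₁ ≤ ρ ≤ b + tᵢ − tᵢ₋₁. -/
theorem result (p q m : ℕ) (hp : 0 < p) (hpq : p < q) (hcop : Nat.Coprime p q) (hm : 0 < m) (hnt : ¬ (q - p ∣ m)) (c : List ℤ) (hc : W4c2invhilbsl2.IsHJDigits p q m c) :
    (∀ i : ℕ, 1 ≤ i → i ≤ c.length →
      Int.emod ((W4c2invhilbsl2.tT p q m : ℤ) * W4c2invhilbsl2.hjP c i) (W4c2invhilbsl2.bB p q m : ℤ) = W4c2invhilbsl2.nN p q m c i / (W4c2invhilbsl2.gcdK p q m : ℤ)) ∧
    (∀ i : ℕ, 1 < i → i ≤ c.length → ∀ x : ℤ, 0 < x → x < W4c2invhilbsl2.hjP c i →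
      W4c2invhilbsl2.nN p q m c (i - 1) / (W4c2invhilbsl2.gcdK p q m : ℤ) ≤ Int.emod ((W4c2invhilbsl2.tT p q m : ℤ) * x) (W4c2invhilbsl2.bB p q m : ℤ) ∧
      Int.emod ((W4c2invhilbsl2.tT p q m : ℤ) * x) (W4c2invhilbsl2.bB p q m : ℤ) ≤
        (W4c2invhilbsl2.bB p q m : ℤ) + W4c2invhilbsl2.nN p q m c i / (W4c2invhilbsl2.gcdK p q m : ℤ) - W4c2invhilbsl2.nN p q m c (i - 1) / (W4c2invhilbsl2.gcdK p q m : ℤ)) := by
  open Groth.L13.InvHilb W4c2invhilbsl2 in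
  have S : Setup p q m c := ⟨hp, hpq, hcop, hm, hnt, hc⟩
  have hb := S.b_pos
  have ht := S.t_pos
  have hdivn : ∀ i, W4c2invhilbsl2.nN p q m c i / (W4c2invhilbsl2.gcdK p q m : ℤ) =
      rem (W4c2invhilbsl2.bB p q m) (W4c2invhilbsl2.tT p q m) c i := fun i => by
    rw [S.nN_eq, Int.mul_ediv_cancel_left _ S.g_pos.ne']
  refine ⟨fun i hi1 hir => ?_, fun i hi1 hir x hx0 hx => ?_⟩
  · rw [hdivn]
    show ((W4c2invhilbsl2.tT p q m : ℤ) * W4c2invhilbsl2.hjP c i) % (W4c2invhilbsl2.bB p q m : ℤ) = _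
    obtain ⟨j, rfl⟩ : ∃ j, i = j + 1 := ⟨i - 1, by omega⟩
    rw [show (W4c2invhilbsl2.tT p q m : ℤ) * W4c2invhilbsl2.hjP c (j + 1) =
      rem (W4c2invhilbsl2.bB p q m) (W4c2invhilbsl2.tT p q m) c (j + 1) + (W4c2invhilbsl2.bB p q m : ℤ) * W4c2invhilbsl2.hjQ c (j + 1) by
      simp only [rem]; ring, Int.add_mul_emod_self_left]
    exact Int.emod_eq_of_lt (rem_pos hc.1 hb ht S.val hir).le
      (lt_of_lt_of_le (rem_succ_lt hc.1 hb ht S.val (by omega)) (rem_le hc.1 hb ht S.val (by omega)))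
  · rw [hdivn, hdivn]
    show _ ≤ ((W4c2invhilbsl2.tT p q m : ℤ) * x) % _ ∧ ((W4c2invhilbsl2.tT p q m : ℤ) * x) % _ ≤ _
    obtain ⟨j, rfl⟩ : ∃ j, i = j + 1 := ⟨i - 1, by omega⟩
    rw [Nat.add_sub_cancel, Int.emod_def]
    set b : ℤ := (W4c2invhilbsl2.bB p q m : ℤ) with hbdef
    set t : ℤ := (W4c2invhilbsl2.tT p q m : ℤ) with htdef
    have h0 : 0 ≤ t * x - b * (t * x / b) := by
      have := Int.emod_nonneg (t * x) hb.ne'; rwa [Int.emod_def] at this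
    have h1 : t * x - b * (t * x / b) < b := by
      have := Int.emod_lt_of_pos (t * x) hb; rwa [Int.emod_def] at this
    have hlow := rem_best hc.1 hb ht S.val (i := j) (by omega) hx0 hx h0 h1
    refine ⟨hlow, ?_⟩
    have hlt := rem_succ_lt hc.1 hb ht S.val (i := j) (by omega)
    have hrec : rem b t c (j + 1) = t * W4c2invhilbsl2.hjP c (j + 1) - b * W4c2invhilbsl2.hjQ c (j + 1) := rfl
    have hpos := rem_pos hc.1 hb ht S.val (i := j + 1) hir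
    have hup := rem_best hc.1 hb ht S.val (i := j) (by omega) (x := W4c2invhilbsl2.hjP c (j + 1) - x)
      (y := W4c2invhilbsl2.hjQ c (j + 1) - t * x / b - 1) (by linarith) (by linarith) (by linarith) (by linarith)
    linarith

end Groth.Agent.S15734
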