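import Groth.Statements.S15739
import Groth.Agent.L13.InvHilb.Gen

set_option autoImplicit false
universe u
open W4c2invhilbsl2

namespace Groth.Agent.S15739

/-- Let k be a field and m ≥ 1, put g = gcd(m, q−p), a = m/g and b = (q−p)/g; for a monomial
X₀^d₀X₁^d₁X₂^d₂ of the polynomial ring in X₀, X₁, X₂ (X₂ standing for Xⱼ, j = 3 or 4, of the
five-variable ring) put n = d₀ − p·d₁ + q·d₂ (its weight for the torus diag(t, t^(−p), t^q)), c = d₁
− d₂ and ω = p·d₁ − q·d₂, so that d₀ = n + ω; here 0 < p < q are coprime integers. Take two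
monomials X₀^d₀X₁^d₁X₂^d₂ and X₀^e₀X₁^e₁X₂^e₂ with the same n, where 0 ≤ n < q − p, whose values c
and c' of c are both divisible by m, and with d₀ < g and e₀ < g (so each has the least ω for its
pair (n, c), as g ≤ q − p). Then: (i) d₀ = e₀, i.e. the two values of ω agree, and m·b divides c −
c'; (ii) if c < c', then X₀^e₀X₁^e₁X₂^e₂ is a multiple of X₀^d₀X₁^d₁X₂^d₂ · X₁^(aq)X₂^(ap); (iii)
the difference of the two monomials lies in the principal ideal (1 − X₁^(aq)X₂^(ap)). -/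
theorem result (k : Type u) [Field k] (p q m : ℕ) (hp : 0 < p) (hpq : p < q) (hcop : Nat.Coprime p q) (hm : 0 < m)
    (d0 d1 d2 e0 e1 e2 : ℕ) (hn : (e0 : ℤ) - (p : ℤ) * e1 + (q : ℤ) * e2 = (d0 : ℤ) - (p : ℤ) * d1 + (q : ℤ) * d2)
    (hn0 : 0 ≤ (d0 : ℤ) - (p : ℤ) * d1 + (q : ℤ) * d2) (hnq : (d0 : ℤ) - (p : ℤ) * d1 + (q : ℤ) * d2 < (q : ℤ) - p)
    (hcd : (m : ℤ) ∣ (d1 : ℤ) - d2) (hce : (m : ℤ) ∣ (e1 : ℤ) - e2)
    (hd0 : d0 < Nat.gcd m (q - p)) (he0 : e0 < Nat.gcd m (q - p)) :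
    (d0 = e0 ∧ ((m : ℤ) * ((q - p) / Nat.gcd m (q - p) : ℕ)) ∣ ((d1 : ℤ) - d2) - ((e1 : ℤ) - e2)) ∧
    ((d1 : ℤ) - d2 < (e1 : ℤ) - e2 →
      (MvPolynomial.X (0 : Fin 3) ^ d0 * MvPolynomial.X (1 : Fin 3) ^ d1 * MvPolynomial.X (2 : Fin 3) ^ d2 * (MvPolynomial.X (1 : Fin 3) ^ (m / Nat.gcd m (q - p) * q) * MvPolynomial.X (2 : Fin 3) ^ (m / Nat.gcd m (q - p) * p)) : MvPolynomial (Fin 3) k) ∣ MvPolynomial.X (0 : Fin 3) ^ e0 * MvPolynomial.X (1 : Fin 3) ^ e1 * MvPolynomial.X (2 : Fin 3) ^ e2) ∧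
    ((MvPolynomial.X (0 : Fin 3) ^ e0 * MvPolynomial.X (1 : Fin 3) ^ e1 * MvPolynomial.X (2 : Fin 3) ^ e2 - MvPolynomial.X (0 : Fin 3) ^ d0 * MvPolynomial.X (1 : Fin 3) ^ d1 * MvPolynomial.X (2 : Fin 3) ^ d2 : MvPolynomial (Fin 3) k) ∈
      Ideal.span {(1 : MvPolynomial (Fin 3) k) - MvPolynomial.X (1 : Fin 3) ^ (m / Nat.gcd m (q - p) * q) * MvPolynomial.X (2 : Fin 3) ^ (m / Nat.gcd m (q - p) * p)}) := by
  open MvPolynomial Groth.L13.InvHilb in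
  obtain ⟨he0, u, hu1, hu2, hu3⟩ := small_pair hp hpq hcop hm hn (dvd_sub hce hcd) hd0 he0
  refine ⟨⟨he0, ⟨-u, by rw [← neg_sub, hu3]; ring⟩⟩, fun hlt => ?_, ?_⟩
  · have hu : 0 < u := by
      by_contra h
      push Not at h
      have : (m : ℤ) * (((q - p) / Nat.gcd m (q - p) : ℕ) : ℤ) * u ≤ 0 := mul_nonpos_of_nonneg_of_nonpos (by positivity) h
      linarith
    obtain ⟨n, rfl⟩ : ∃ n : ℕ, u = n + 1 := ⟨(u - 1).toNat, by omega⟩
    have ee1 : e1 = d1 + m / Nat.gcd m (q - p) * q * (n + 1) := by exact_mod_cast hu1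
    have e2' : e2 = d2 + m / Nat.gcd m (q - p) * p * (n + 1) := by exact_mod_cast hu2
    rw [← he0, ee1, e2', pow_add, pow_add]
    exact ⟨(MvPolynomial.X 1 ^ (m / Nat.gcd m (q - p) * q * n)) * (MvPolynomial.X 2 ^ (m / Nat.gcd m (q - p) * p * n)), by ring⟩
  · set A := m / Nat.gcd m (q - p) * q
    set B := m / Nat.gcd m (q - p) * p
    set I := Ideal.span {(1 : MvPolynomial (Fin 3) k) - MvPolynomial.X (1 : Fin 3) ^ A * MvPolynomial.X (2 : Fin 3) ^ B}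
    have hrel : MvPolynomial.C (1 : k) - MvPolynomial.X (1 : Fin 3) ^ A * MvPolynomial.X (2 : Fin 3) ^ B ∈ I := by
      rw [map_one]; exact Ideal.subset_span rfl
    obtain ⟨n, rfl | rfl⟩ := Int.eq_nat_or_neg u
    · have ee1 : e1 = d1 + A * n := by exact_mod_cast hu1
      have e2' : e2 = d2 + B * n := by exact_mod_cast hu2
      rw [← he0, ee1, e2']
      convert smul_sub_pow_mem I hrel n (MvPolynomial.X 0 ^ d0 * MvPolynomial.X 1 ^ d1 * MvPolynomial.X 2 ^ d2) using 1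
      simp only [one_pow, one_smul]; ring
    · have ee1 : d1 = e1 + A * n := by
        have : (d1 : ℤ) = e1 + (A : ℤ) * n := by rw [hu1]; ring
        exact_mod_cast this
      have e2' : d2 = e2 + B * n := by
        have : (d2 : ℤ) = e2 + (B : ℤ) * n := by rw [hu2]; ring
        exact_mod_cast this
      rw [← he0, ee1, e2']
      convert I.neg_mem (smul_sub_pow_mem I hrel n (MvPolynomial.X 0 ^ d0 * MvPolynomial.X 1 ^ e1 * MvPolynomial.X 2 ^ e2)) using 1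
      simp only [one_pow, one_smul]; ring

end Groth.Agent.S15739
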