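import Groth.Prelude.Def_UnitsSh
import Groth.Prelude.Def_PicGrp
import Groth.Agent.L02.PicH1.Equiv

set_option autoImplicit false
set_option linter.style.haveILetI false
namespace PicGrp
end PicGrp
universe u
open CategoryTheory AlgebraicGeometry
open PicGrp

namespace Groth.Agent.S15746

/-- Let `X` be a scheme, and assume the Picard group law on `X` (isomorphism classes of invertible
`O_X`-modules under tensor product). Then the Picard group of `X`, written additively, is isomorphic
as a group to `H¹(X, O_X^×)`, the first cohomology group of the abelian sheaf of units on the
underlying topological space of `X`. (Existence of a group isomorphism only: the isomorphism sending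
the class of an invertible module to the class of its torsor of local generators is not named here.
The published statement is for any ringed space all of whose stalks are local rings; this row is its
case of a scheme.) -/
theorem result (X : Scheme.{u}) [PicGrp.Law X] :
    Nonempty (Additive (PicLoc.PicSet X) ≃+ CohTop.H (UnitsSh.unitsAb X) 1) := by
  exact Groth.L02.PicH1.nonempty_addEquiv_pic X

end Groth.Agent.S15746
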