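import Groth.Statements.S15749
import Mathlib.RingTheory.HahnSeries.Multiplication
import Mathlib.RingTheory.HahnSeries.Summable
import Mathlib.RingTheory.Idempotents
import Mathlib.RingTheory.Nilpotent.Lemmas
import Mathlib.RingTheory.Noetherian.Nilpotent

set_option autoImplicit false
universe u
open CAlg

namespace Groth.Agent.S15749

/-- For an arbitrary commutative ring R, every idempotent of the ring of formal Laurent series R((t)) is
the constant series attached to a unique idempotent of R. Equivalently, the structure map R → R((t))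
induces a bijection on idempotents, so that the spectrum of R((t)) is connected if and only if the
spectrum of R is. No reducedness is assumed. -/
theorem result (R : Type u) [CommRing R]
    (e : LaurentSeries R) (he : IsIdempotentElem e) :
    ∃! r : R, IsIdempotentElem r ∧ HahnSeries.C r = e := by
  classical
  have hdom : ∀ (P : Ideal R) [P.IsPrime], e.map (Ideal.Quotient.mk P) = 0 ∨
      e.map (Ideal.Quotient.mk P) = 1 := by
    intro P _
    refine IsIdempotentElem.iff_eq_zero_or_one.mp ?_
    change e.map ((Ideal.Quotient.mk P).toNonUnitalRingHom) * e.map ((Ideal.Quotient.mk P).toNonUnitalRingHom) = _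
    rw [← HahnSeries.map_mul, he.eq]
    rfl
  have hoff : ∀ i : ℤ, i ≠ 0 → IsNilpotent (e.coeff i) := fun i hi => by
    rw [← mem_nilradical, nilradical_eq_sInf]
    refine Submodule.mem_sInf.mpr fun (P : Ideal R) (hP : P.IsPrime) => ?_
    rcases hdom P with h | h
    · have := congrArg (fun z => HahnSeries.coeff z i) h
      simpa [HahnSeries.map_coeff, Ideal.Quotient.eq_zero_iff_mem] using this
    · have := congrArg (fun z => HahnSeries.coeff z i) h
      simpa [HahnSeries.map_coeff, Ideal.Quotient.eq_zero_iff_mem, hi] using this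
  have h0 : IsNilpotent (e.coeff 0 * e.coeff 0 - e.coeff 0) := by
    rw [← mem_nilradical, nilradical_eq_sInf]
    refine Submodule.mem_sInf.mpr fun (P : Ideal R) (hP : P.IsPrime) => ?_
    rw [← Ideal.Quotient.eq_zero_iff_mem, map_sub, map_mul]
    rcases hdom P with h | h
    · have := congrArg (fun z => HahnSeries.coeff z 0) h
      simp [HahnSeries.map_coeff] at this
      simp [this]
    · have := congrArg (fun z => HahnSeries.coeff z 0) h
      simp [HahnSeries.map_coeff] at this
      simp [this]
  obtain ⟨r, hr, hre⟩ := exists_isIdempotentElem_eq_of_ker_isNilpotent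
    (Ideal.Quotient.mk (nilradical R)) (fun x hx => by simpa [mem_nilradical] using hx)
    (Ideal.Quotient.mk (nilradical R) (e.coeff 0)) ⟨_, rfl⟩ (by
      rw [IsIdempotentElem, ← map_mul, Ideal.Quotient.mk_eq_mk_iff_sub_mem, mem_nilradical]
      exact h0)
  set d : LaurentSeries R := e - HahnSeries.C r with hd
  have hC : IsIdempotentElem (HahnSeries.C r : LaurentSeries R) := hr.map _
  have hd3 : d * d * d = d := by
    have e1 := he.eq
    have e2 := hC.eq
    rw [hd]
    linear_combination (e - 3 * HahnSeries.C r + 1) * e1 + (3 * e - HahnSeries.C r - 1) * e2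
  have hdn : ∀ i, IsNilpotent (d.coeff i) := fun i => by
    by_cases hi : i = 0
    · subst hi
      have : d.coeff 0 = e.coeff 0 - r := by simp [hd]
      rw [this, ← mem_nilradical, ← Ideal.Quotient.mk_eq_mk_iff_sub_mem, hre]
    · have : d.coeff i = e.coeff i := by simp [hd, hi]
      rw [this]; exact hoff i hi
  let s : Finset R := (Finset.Icc d.order 0).image d.coeff
  let N : Ideal R := Ideal.span s
  have hN : IsNilpotent N := by
    refine (Ideal.FG.isNilpotent_iff_le_nilradical ⟨s, rfl⟩).mpr (Ideal.span_le.mpr ?_)
    intro x hx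
    obtain ⟨i, -, rfl⟩ := Finset.mem_image.mp hx
    exact mem_nilradical.mpr (hdn i)
  have hle : ∀ i ≤ (0 : ℤ), d.coeff i ∈ N := fun i hi => by
    by_cases hd0 : d.coeff i = 0
    · rw [hd0]; exact zero_mem _
    exact Ideal.subset_span (Finset.mem_image.mpr
      ⟨i, Finset.mem_Icc.mpr ⟨HahnSeries.order_le_of_coeff_ne_zero hd0, hi⟩, rfl⟩)
  have hall : ∀ i, d.coeff i ∈ N := by
    let φ := (Ideal.Quotient.mk N).toNonUnitalRingHom
    have hz : d.map φ = 0 := by
      have h3 : d.map φ * d.map φ * d.map φ = d.map φ := by
        rw [← HahnSeries.map_mul, ← HahnSeries.map_mul, hd3]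
      by_contra hne
      have hneg : ∀ i ≤ (0 : ℤ), (d.map φ).coeff i = 0 := fun i hi =>
        Ideal.Quotient.eq_zero_iff_mem.mpr (hle i hi)
      have hk : 0 < (d.map φ).order := by
        by_contra hk
        exact hne (HahnSeries.coeff_order_eq_zero.mp (hneg _ (not_lt.mp hk)))
      set k := (d.map φ).order with hkdef
      have h1 : (d.map φ * d.map φ * d.map φ).coeff k = 0 := by
        refine HahnSeries.coeff_eq_zero_of_lt_orderTop ?_
        refine lt_of_lt_of_le ?_ ((add_le_add_left HahnSeries.orderTop_add_le_mul _).trans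
          HahnSeries.orderTop_add_le_mul)
        rw [← HahnSeries.order_eq_orderTop_of_ne_zero hne, ← WithTop.coe_add, ← WithTop.coe_add,
          WithTop.coe_lt_coe]
        omega
      rw [h3] at h1
      exact hne (HahnSeries.coeff_order_eq_zero.mp h1)
    intro i
    have := congrArg (fun z => HahnSeries.coeff z i) hz
    refine Ideal.Quotient.eq_zero_iff_mem.mp ?_
    simp only [φ, HahnSeries.map_coeff, HahnSeries.coeff_zero] at this
    exact this
  have hpow : ∀ j i, d.coeff i ∈ N ^ (j + 1) := by
    intro j
    induction j with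
    | zero => simpa using hall
    | succ j ih =>
      intro i
      rw [← hd3, HahnSeries.coeff_mul]
      refine Submodule.sum_mem _ fun ij _ => ?_
      rw [pow_succ]
      refine Ideal.mul_mem_mul ?_ (hall _)
      rw [HahnSeries.coeff_mul]
      exact Submodule.sum_mem _ fun kl _ => Ideal.mul_mem_right _ _ (ih _)
  have hdz : d = 0 := by
    obtain ⟨m, hm⟩ := hN
    ext i
    have := hpow m i
    rw [pow_succ, hm, Ideal.zero_eq_bot, Ideal.bot_mul, Submodule.mem_bot] at this
    simpa using this
  refine ⟨r, ⟨hr, (sub_eq_zero.mp hdz).symm⟩, fun y hy => HahnSeries.C_injective (Γ := ℤ) (R := R) ?_⟩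
  rw [hy.2]
  exact sub_eq_zero.mp hdz

end Groth.Agent.S15749
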