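import Groth.Statements.S15750
import Mathlib.RingTheory.LaurentSeries
import Mathlib.RingTheory.PowerSeries.Inverse
import Mathlib.RingTheory.Nilpotent.Lemmas

set_option autoImplicit false
universe u
open CAlg

namespace Groth.Agent.S15750

/-- Let R be a nonzero reduced commutative ring with no idempotents other than 0 and 1. Then every unit
of the Laurent series ring R((t)) is t^n · u for a unique integer n and a unique unit u of the power
series ring R[[t]]. (The published statement is for an arbitrary torus T over a reduced ring R, with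
n replaced by a locally constant integer-valued function on Spec R, i.e. a point of the cocharacter
lattice; this row is the case where T is the multiplicative group and Spec R is connected, to which
the published proof reduces.) -/
theorem result (R : Type u) [CommRing R]
    [IsReduced R] [Nontrivial R] (hconn : ∀ e : R, IsIdempotentElem e → e = 0 ∨ e = 1)
    (f : (LaurentSeries R)ˣ) :
    ∃! p : ℤ × (PowerSeries R)ˣ,
      (f : LaurentSeries R) = HahnSeries.single p.1 (1 : R) * HahnSeries.ofPowerSeries ℤ R (p.2 : PowerSeries R) := by
  classical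
  set x : LaurentSeries R := (f : LaurentSeries R) with hx
  set y : LaurentSeries R := ((f⁻¹ : (LaurentSeries R)ˣ) : LaurentSeries R) with hy
  have hx0 : x ≠ 0 := f.ne_zero
  set a := x.coeff x.order with ha
  set e := a * y.coeff (-x.order) with he
  have key : ∀ P : Ideal R, P.IsPrime → a ∉ P → e - 1 ∈ P := by
    intro P hP haP
    let φ := Ideal.Quotient.mk P
    have hmul : x.map φ * y.map φ = (1 : LaurentSeries (R ⧸ P)) := by
      have h := HahnSeries.map_mul (Γ := ℤ) (φ : R →ₙ+* R ⧸ P) (x := x) (y := y)
      rw [f.mul_inv] at h
      refine h.symm.trans ?_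
      ext n
      simp only [HahnSeries.map_coeff, HahnSeries.coeff_one]
      rw [apply_ite (⇑(φ : R →ₙ+* R ⧸ P))]
      split
      · exact map_one (Ideal.Quotient.mk P)
      · exact map_zero (Ideal.Quotient.mk P)
    have hne : φ a ≠ 0 := fun h => haP (Ideal.Quotient.eq_zero_iff_mem.1 h)
    have hX : x.map φ ≠ 0 := fun h => hne (by simpa using congrArg (fun z => z.coeff x.order) h)
    have hY : y.map φ ≠ 0 := fun h => by
      rw [h, mul_zero] at hmul
      exact zero_ne_one hmul
    have hord : (x.map φ).order = x.order := by
      refine le_antisymm (HahnSeries.order_le_of_coeff_ne_zero (by simpa using hne)) ?_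
      apply HahnSeries.order_le_of_coeff_ne_zero
      intro h
      exact (HahnSeries.coeff_order_eq_zero.not.2 hX) (by simp [h])
    have hsum := HahnSeries.order_mul hX hY
    rw [hmul, HahnSeries.order_one, hord] at hsum
    have hl := HahnSeries.coeff_mul_order_add_order (x.map φ) (y.map φ)
    rw [hmul, hord, show (y.map φ).order = -x.order by omega, add_neg_cancel, HahnSeries.coeff_one,
      if_pos rfl, HahnSeries.leadingCoeff_eq, HahnSeries.leadingCoeff_eq, hord,
      show (y.map φ).order = -x.order by omega] at hl
    rw [← Ideal.Quotient.eq_zero_iff_mem, map_sub, map_one, map_mul, sub_eq_zero]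
    exact hl.symm
  have hidem : IsIdempotentElem e := by
    refine sub_eq_zero.1 (IsReduced.eq_zero _ ?_)
    rw [← mem_nilradical, nilradical_eq_sInf, Ideal.mem_sInf]
    intro P hP
    rw [show e * e - e = e * (e - 1) by ring]
    by_cases haP : a ∈ P
    · exact P.mul_mem_right _ (P.mul_mem_right _ haP)
    · exact P.mul_mem_left _ (key P hP haP)
  have hunit : IsUnit a := by
    rcases hconn e hidem with h | h
    · exfalso
      apply hx0
      rw [← HahnSeries.coeff_order_eq_zero]
      refine IsReduced.eq_zero _ ?_
      rw [← mem_nilradical, nilradical_eq_sInf, Ideal.mem_sInf]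
      intro P hP
      by_contra haP
      have h1 := key P hP haP
      rw [h, zero_sub, neg_mem_iff] at h1
      exact hP.ne_top ((Ideal.eq_top_iff_one P).2 h1)
    · exact IsUnit.of_mul_eq_one (y.coeff (-x.order)) h
  have hpart : IsUnit x.powerSeriesPart := by
    rw [PowerSeries.isUnit_iff_constantCoeff, ← PowerSeries.coeff_zero_eq_constantCoeff_apply,
      LaurentSeries.powerSeriesPart_coeff]
    simpa using hunit
  refine ⟨(x.order, hpart.unit), ?_, ?_⟩
  · exact (LaurentSeries.single_order_mul_powerSeriesPart x).symm
  rintro ⟨n, u⟩ hnu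
  have hcoeff : ∀ z : ℤ, x.coeff z = (HahnSeries.ofPowerSeries ℤ R (u : PowerSeries R)).coeff (z - n) := fun z => by
    rw [hnu, HahnSeries.coeff_single_mul, one_mul]
  have hu0 : x.coeff n ≠ 0 := by
    rw [hcoeff, sub_self, show (0 : ℤ) = ((0 : ℕ) : ℤ) from rfl, HahnSeries.ofPowerSeries_apply_coeff,
      PowerSeries.coeff_zero_eq_constantCoeff_apply]
    exact (PowerSeries.isUnit_iff_constantCoeff.1 u.isUnit).ne_zero
  have hlow : ∀ z < n, x.coeff z = 0 := fun z hz => by
    rw [hcoeff, HahnSeries.ofPowerSeries_apply, HahnSeries.embDomain_notin_range]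
    rintro ⟨m, hm⟩
    simp at hm
    omega
  have hn : n = x.order := by
    refine le_antisymm (not_lt.1 fun h => HahnSeries.coeff_order_eq_zero.not.2 hx0 (hlow _ h))
      (HahnSeries.order_le_of_coeff_ne_zero hu0)
  subst hn
  refine Prod.ext rfl (Units.ext (HahnSeries.ofPowerSeries_injective (Γ := ℤ) ?_))
  have h2 := hnu.symm.trans (LaurentSeries.single_order_mul_powerSeriesPart x).symm
  exact ((IsUnit.of_mul_eq_one (HahnSeries.single (-x.order) (1 : R)) (by
    rw [HahnSeries.single_mul_single, add_neg_cancel, one_mul]; rfl)).mul_right_inj).1 h2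

end Groth.Agent.S15750
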