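import Groth.Statements.S15752
import Groth.Agent.L01.HensWeier

set_option autoImplicit false
universe u
open Polynomial
open CAlg

namespace Groth.Agent.S15752

open L01.HensWeier


/-- Let R be a Henselian local ring with maximal ideal m and let B be a henselization of R[t] along (t).
Every f ∈ B outside mB factors as f = P · u for a unique pair (P, u) with P ∈ R[t] monic whose
non-leading coefficients lie in m and u a unit of B; moreover the natural map R[t]/(P) → B/(f) is
bijective, stated as: every element of B is congruent to (the image of) a polynomial modulo f, and a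
polynomial whose image lies in fB lies in P·R[t]. -/
theorem result (R : Type u) [CommRing R]
    [HenselianLocalRing R] (B : Type u) [CommRing B] [Algebra R B] [Algebra R[X] B]
    [IsScalarTower R R[X] B] (hB : Hens2.IsPairHenselization R[X] (Ideal.span {(X : R[X])}) B)
    (f : B) (hf : f ∉ (IsLocalRing.maximalIdeal R).map (algebraMap R B)) :
    (∃! Pu : R[X] × Bˣ, Pu.1.Monic ∧ (∀ i : ℕ, i < Pu.1.natDegree → Pu.1.coeff i ∈ IsLocalRing.maximalIdeal R) ∧
        f = algebraMap R[X] B Pu.1 * (Pu.2 : B)) ∧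
    (∀ (P : R[X]) (u : Bˣ), P.Monic → (∀ i : ℕ, i < P.natDegree → P.coeff i ∈ IsLocalRing.maximalIdeal R) →
        f = algebraMap R[X] B P * (u : B) →
      (∀ b : B, ∃ q : R[X], algebraMap R[X] B q - b ∈ Ideal.span {f}) ∧
      (∀ q : R[X], algebraMap R[X] B q ∈ Ideal.span {f} → q ∈ Ideal.span {P})) := by

  refine ⟨?_, ?_⟩
  · obtain ⟨P, u, hP, hfP⟩ := exists_dist hB f hf
    refine ⟨(P, u), ⟨(dist_iff.1 hP).1, (dist_iff.1 hP).2, hfP⟩, ?_⟩
    rintro ⟨P', u'⟩ ⟨hm, hc, h'⟩
    have hP' : Dist P' := dist_iff.2 ⟨hm, hc⟩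
    have e : algebraMap R[X] B P * u = algebraMap R[X] B P' * u' := hfP.symm.trans h'
    have d1 : P ∣ P' := Ideal.mem_span_singleton.1 (mem_span_of_map_mem hB hP (Ideal.mem_span_singleton'.2
      ⟨u * ↑u'⁻¹, by rw [mul_comm, ← mul_assoc, e, mul_assoc, u'.mul_inv, mul_one]⟩))
    have d2 : P' ∣ P := Ideal.mem_span_singleton.1 (mem_span_of_map_mem hB hP' (Ideal.mem_span_singleton'.2
      ⟨u' * ↑u⁻¹, by rw [mul_comm, ← mul_assoc, ← e, mul_assoc, u.mul_inv, mul_one]⟩))
    have hPP : P' = P :=
      Polynomial.eq_of_monic_of_dvd_of_natDegree_le hP.1 hm d1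
        (by
          obtain ⟨c, hc'⟩ := d2
          have hc0 : c ≠ 0 := fun h0 => hP.1.ne_zero (by rw [hc', h0, mul_zero])
          rw [hc', hm.natDegree_mul' hc0]
          exact Nat.le_add_right _ _)
    subst hPP
    refine Prod.ext rfl (Units.ext (sub_eq_zero.1 (mul_eq_zero_of_dist hB hP ?_)))
    rw [mul_sub, e, sub_self]
  · intro P u hm hc h
    have hP : Dist P := dist_iff.2 ⟨hm, hc⟩
    have hspan : Ideal.span {f} = Ideal.span {algebraMap R[X] B P} := by
      rw [h, Ideal.span_singleton_mul_right_unit u.isUnit]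
    rw [hspan]
    exact ⟨exists_poly_sub_mem hB hP, fun q hq => mem_span_of_map_mem hB hP hq⟩


end Groth.Agent.S15752
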