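import Groth.Statements.S15753
import Groth.Agent.L01.PicLaurent
import Groth.Agent.L01.LaurentExtend

set_option autoImplicit false
universe u
open Polynomial TensorProduct
open CAlg

namespace Groth.Agent.S15753

/-- Let R be a Henselian local ring and regard R((t)) as an R[s]-algebra through s ↦ t⁻¹. Then the
pullback map Pic(R[t⁻¹]) → Pic(R((t))) is bijective: an invertible R[s]-module that becomes free
over R((t)) is free, and every invertible R((t))-module is extended from an invertible R[s]-module.
(The published statement is the chain of three bijections Pic(R[t⁻¹]) ≅ Pic((R[t]_{1+tR[t]})[1/t]) ≅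
Pic(R{t}[1/t]) ≅ Pic(R((t))), each induced by pullback; this row states the composite.) -/
theorem result (R : Type u) [CommRing R]
    [HenselianLocalRing R] [Algebra R[X] (LaurentSeries R)]
    (halg : algebraMap R[X] (LaurentSeries R) =
      Polynomial.eval₂RingHom (HahnSeries.C) (HahnSeries.single (-1 : ℤ) (1 : R))) :
    (∀ (M : Type u) [AddCommGroup M] [Module R[X] M] [Module.Invertible R[X] M],
        Module.Free (LaurentSeries R) (LaurentSeries R ⊗[R[X]] M) → Module.Free R[X] M) ∧
    (∀ (L : Type u) [AddCommGroup L] [Module (LaurentSeries R) L] [Module.Invertible (LaurentSeries R) L],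
        ∃ (M : Type u) (_ : AddCommGroup M) (_ : Module R[X] M), Module.Invertible R[X] M ∧
          Nonempty (L ≃ₗ[LaurentSeries R] LaurentSeries R ⊗[R[X]] M)) := by
  refine ⟨fun M _ _ _ hfree => ?_, fun N _ _ _ => L01.PicLaurent.exists_invertible halg N⟩
  obtain ⟨l⟩ := Module.Invertible.free_iff_linearEquiv.1 hfree
  refine L01.LaurentExtend.free_of_free (RingHom.id (LaurentSeries R)) (fun p => ?_)
    (l ≪≫ₗ (LinearEquiv.funUnique (Fin 1) (LaurentSeries R) (LaurentSeries R)).symm)
  rw [RingHom.id_apply, halg]
  suffices h : Polynomial.eval₂RingHom (HahnSeries.C) (HahnSeries.single (-1 : ℤ) (1 : R)) =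
      (L01.LaurentExtend.ι (R := R)).comp (L02.CAlg.Horrocks.toS (A := R)).toRingHom from RingHom.congr_fun h p
  refine Polynomial.ringHom_ext (fun r => ?_) ?_
  · show eval₂ _ _ (C r) = L01.LaurentExtend.ι (L02.CAlg.Horrocks.toS (C r))
    rw [eval₂_C, show L02.CAlg.Horrocks.toS (C r) = L02.CAlg.Horrocks.toT (C r) from
      (L02.CAlg.Horrocks.toS.commutes r).trans (L02.CAlg.Horrocks.toT.commutes r).symm,
      L01.LaurentExtend.ι_toT, Polynomial.coe_C, HahnSeries.ofPowerSeries_C]
  · show eval₂ _ _ X = L01.LaurentExtend.ι (L02.CAlg.Horrocks.toS X)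
    rw [eval₂_X, L02.CAlg.Horrocks.toS_X, L01.LaurentExtend.ι_T]
    rfl


end Groth.Agent.S15753
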