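import Groth.Statements.S15754
import Groth.Agent.L01.LaurentIso

set_option autoImplicit false
universe u
open TensorProduct
open CAlg

namespace Groth.Agent.S15754

open L02.CAlg.Horrocks


/-- For an arbitrary commutative ring R, non-isomorphic finitely generated projective R-modules cannot
become isomorphic over the Laurent series ring R((t)): for an R-algebra L that is R-isomorphic to
R((t)), if L ⊗_R M ≅ L ⊗_R N as L-modules then M ≅ N. (L is R((t)) up to an R-algebra isomorphism;
it is kept abstract only so that the L-module structure on L ⊗_R M elaborates.) -/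
theorem result (R : Type u) [CommRing R]
    (L : Type u) [CommRing L] [Algebra R L] (eL : L ≃ₐ[R] LaurentSeries R)
    (M N : Type u) [AddCommGroup M] [Module R M] [Module.Finite R M] [Module.Projective R M]
    [AddCommGroup N] [Module R N] [Module.Finite R N] [Module.Projective R N]
    (e : L ⊗[R] M ≃ₗ[L] L ⊗[R] N) :
    Nonempty (M ≃ₗ[R] N) := by

  classical
  obtain ⟨n, iM, pM, hM⟩ := exists_retract R M
  obtain ⟨m, iN, pN, hN⟩ := exists_retract R N
  let E := LinearMap.toMatrix' (iM ∘ₗ pM)
  let F := LinearMap.toMatrix' (iN ∘ₗ pN)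
  let U : Matrix (Fin m) (Fin n) L :=
    LinearMap.toMatrix' (inclS L iN ∘ₗ e.toLinearMap ∘ₗ projS L pM)
  let V : Matrix (Fin n) (Fin m) L :=
    LinearMap.toMatrix' (inclS L iM ∘ₗ e.symm.toLinearMap ∘ₗ projS L pN)
  have hUV : U * V = F.map (algebraMap R L) := by
    rw [← LinearMap.toMatrix'_comp]
    refine Matrix.toLin'.injective (LinearMap.ext fun v => ?_)
    rw [Matrix.toLin'_toMatrix', Matrix.toLin'_apply, ← inclS_projS]
    simp [projS_inclS iM pM hM]
  have hVU : V * U = E.map (algebraMap R L) := by
    rw [← LinearMap.toMatrix'_comp]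
    refine Matrix.toLin'.injective (LinearMap.ext fun v => ?_)
    rw [Matrix.toLin'_toMatrix', Matrix.toLin'_apply, ← inclS_projS]
    simp [projS_inclS iN pN hN]
  have hc : ∀ r, eL (algebraMap R L r) = HahnSeries.ofPowerSeries ℤ R (PowerSeries.C r) := by
    intro r
    rw [eL.commutes, HahnSeries.algebraMap_apply']
    rfl
  let φ : L →+* LaurentSeries R := eL.toRingEquiv.toRingHom
  have key := L01.LaurentIso.eqv_of_laurentSeries E F (toMatrix'_idem iM pM hM) (toMatrix'_idem iN pN hN)
    (U.map φ) (V.map φ) (by rw [← Matrix.map_mul, hUV]; exact Matrix.ext fun i j => hc _)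
    (by rw [← Matrix.map_mul, hVU]; exact Matrix.ext fun i j => hc _)
  refine nonempty_linearEquiv_of_eqv iM pM iN pN (fun x => LinearMap.congr_fun hM x)
    (fun x => LinearMap.congr_fun hN x) (fun v => ?_) (fun v => ?_) key
  · rw [← Matrix.toLin'_apply, Matrix.toLin'_toMatrix', LinearMap.comp_apply]
  · rw [← Matrix.toLin'_apply, Matrix.toLin'_toMatrix', LinearMap.comp_apply]


end Groth.Agent.S15754
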