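import Groth.Statements.S15755
import Groth.Agent.L14.Popescu.Main
import Groth.Agent.L05.Hensel.Smooth
import Groth.Agent.S0543
import Mathlib.Algebra.Category.CommAlgCat.Basic
import Mathlib.CategoryTheory.Limits.Types.Filtered
import Mathlib.CategoryTheory.Filtered.Basic

set_option autoImplicit false
universe u
open CategoryTheory CategoryTheory.Limits
open CAlg

namespace Groth.Agent.S15755

variable (A : Type u) [CommRing A] (Λ : Type u) [CommRing Λ] [Algebra A Λ]

/-- the finitely generated subalgebras -/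
abbrev FGSub : Type u := {S : Subalgebra A Λ // S.FG}

instance : Nonempty (FGSub A Λ) := ⟨⟨⊥, Subalgebra.fg_bot⟩⟩

instance : IsDirectedOrder (FGSub A Λ) :=
  ⟨fun S T => ⟨⟨S.1 ⊔ T.1, S.2.sup T.2⟩, (le_sup_left : S.1 ≤ S.1 ⊔ T.1), (le_sup_right : T.1 ≤ S.1 ⊔ T.1)⟩⟩

/-- the diagram -/
noncomputable def diagram : FGSub A Λ ⥤ CommAlgCat.{u} A where
  obj S := CommAlgCat.of A S.1
  map {S T} h := CommAlgCat.ofHom (Subalgebra.inclusion (show S.1 ≤ T.1 from leOfHom h))

/-- the cocone -/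
noncomputable def cocone : Cocone (diagram A Λ) where
  pt := CommAlgCat.of A Λ
  ι := { app := fun S => CommAlgCat.ofHom S.1.val }

/-- the stage of an element -/
noncomputable def stage (x : Λ) : FGSub A Λ := ⟨Algebra.adjoin A {x}, Subalgebra.fg_adjoin_finset {x} |> fun h => by simpa using h⟩

theorem mem_stage (x : Λ) : x ∈ (stage A Λ x).1 := Algebra.subset_adjoin rfl

theorem leg_eq (c : Cocone (diagram A Λ)) {S T : FGSub A Λ} (h : S ≤ T) (x : S.1) :
    (c.ι.app T).hom (Subalgebra.inclusion (show S.1 ≤ T.1 from h) x) = (c.ι.app S).hom x :=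
  congrArg (fun φ : (diagram A Λ).obj S ⟶ c.pt => φ.hom x) (c.w (homOfLE h))

/-- the descent map -/
noncomputable def descFun (c : Cocone (diagram A Λ)) (x : Λ) : c.pt :=
  (c.ι.app (stage A Λ x)).hom ⟨x, mem_stage A Λ x⟩

theorem descFun_eq (c : Cocone (diagram A Λ)) (S : FGSub A Λ) (x : Λ) (hx : x ∈ S.1) :
    descFun A Λ c x = (c.ι.app S).hom (⟨x, hx⟩ : S.1) := by
  rw [descFun, ← leg_eq A Λ c (S := stage A Λ x) (T := S) (show (stage A Λ x).1 ≤ S.1 from
    Algebra.adjoin_le (Set.singleton_subset_iff.mpr hx)) ⟨x, mem_stage A Λ x⟩]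
  rfl

/-- the descent homomorphism -/
noncomputable def descHom (c : Cocone (diagram A Λ)) : Λ →ₐ[A] c.pt where
  toFun := descFun A Λ c
  map_one' := by
    rw [descFun_eq A Λ c (stage A Λ 1) 1 (one_mem _)]
    exact map_one (c.ι.app _).hom
  map_mul' x y := by
    let S : FGSub A Λ := ⟨(stage A Λ x).1 ⊔ (stage A Λ y).1, (stage A Λ x).2.sup (stage A Λ y).2⟩
    have hx : x ∈ S.1 := (le_sup_left : (stage A Λ x).1 ≤ S.1) (mem_stage A Λ x)
    have hy : y ∈ S.1 := (le_sup_right : (stage A Λ y).1 ≤ S.1) (mem_stage A Λ y)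
    rw [descFun_eq A Λ c S _ (mul_mem hx hy), descFun_eq A Λ c S _ hx, descFun_eq A Λ c S _ hy]
    exact map_mul (c.ι.app S).hom ⟨x, hx⟩ ⟨y, hy⟩
  map_zero' := by
    rw [descFun_eq A Λ c (stage A Λ 1) 0 (zero_mem _)]
    exact map_zero (c.ι.app _).hom
  map_add' x y := by
    let S : FGSub A Λ := ⟨(stage A Λ x).1 ⊔ (stage A Λ y).1, (stage A Λ x).2.sup (stage A Λ y).2⟩
    have hx : x ∈ S.1 := (le_sup_left : (stage A Λ x).1 ≤ S.1) (mem_stage A Λ x)
    have hy : y ∈ S.1 := (le_sup_right : (stage A Λ y).1 ≤ S.1) (mem_stage A Λ y)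
    rw [descFun_eq A Λ c S _ (add_mem hx hy), descFun_eq A Λ c S _ hx, descFun_eq A Λ c S _ hy]
    exact map_add (c.ι.app S).hom ⟨x, hx⟩ ⟨y, hy⟩
  commutes' a := by
    rw [descFun_eq A Λ c (stage A Λ 1) _ ((stage A Λ 1).1.algebraMap_mem a)]
    exact AlgHom.commutes (c.ι.app _).hom a

/-- the algebra is the colimit of its finitely generated subalgebras -/
noncomputable def isColimit : IsColimit (cocone A Λ) where
  desc c := CommAlgCat.ofHom (descHom A Λ c)
  fac c S := CommAlgCat.hom_ext (AlgHom.ext fun x => descFun_eq A Λ c S x.1 x.2)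
  uniq c m hm := CommAlgCat.hom_ext (AlgHom.ext fun x =>
    congrArg (fun φ : (diagram A Λ).obj (stage A Λ x) ⟶ c.pt => φ.hom ⟨x, mem_stage A Λ x⟩) (hm (stage A Λ x)))


/-- Let (A, I) be a Henselian pair with A Noetherian whose map to the I-adic completion Â is a regular
ring homomorphism, and let F be a set-valued functor on commutative A-algebras preserving filtered
colimits. Then F(A) → F(Â) is injective, and an element of F(A/I) is in the image of F(A) if and
only if it is in the image of F(Â) under the canonical A-algebra map Â → A/I. -/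
theorem result (A : Type u) [CommRing A]
    [IsNoetherianRing A] (I : Ideal A) [HenselianRing A I]
    (hreg : CAlg.IsRegularHom A (AdicCompletion I A))
    (F : CommAlgCat.{u} A ⥤ Type u) [PreservesFilteredColimitsOfSize.{u, u} F] :
    Function.Injective (F.map (CommAlgCat.ofHom (Algebra.ofId A (AdicCompletion I A)))) ∧
    ∀ xbar : F.obj (CommAlgCat.of A (A ⧸ I)),
      (∃ x : F.obj (CommAlgCat.of A A), F.map (CommAlgCat.ofHom (Ideal.Quotient.mkₐ A I)) x = xbar) ↔
      (∃ y : F.obj (CommAlgCat.of A (AdicCompletion I A)),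
        F.map (CommAlgCat.ofHom (AdicCompletion.evalOneₐ I)) y = xbar) := by
  let Λ := AdicCompletion I A
  haveI : IsNoetherianRing Λ := Groth.Agent.S0543.result A I
  have hind := Groth.L14.Popescu.indSmooth_of_isRegularHom hreg
  have hc := isColimitOfPreserves F (isColimit A Λ)
  let i := CommAlgCat.ofHom (Algebra.ofId A Λ)
  -- a retraction of each finitely generated stage
  have retr : ∀ S : FGSub A Λ, ∃ τ : S.1 →ₐ[A] A,
      (Ideal.Quotient.mkₐ A I).comp τ = (AdicCompletion.evalOneₐ I).comp S.1.val := by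
    intro S
    haveI : Algebra.FiniteType A S.1 := S.1.fg_iff_finiteType.mp S.2
    haveI : Algebra.FinitePresentation A S.1 := Algebra.FinitePresentation.of_finiteType.mp inferInstance
    obtain ⟨B, _, _, hB, g, h, hgh⟩ := hind S.1 inferInstance S.1.val
    haveI := hB
    obtain ⟨τ, hτ⟩ := Groth.L05.exists_algHom_lift_smooth I ((AdicCompletion.evalOneₐ I).comp h)
    exact ⟨τ.comp g, by rw [← AlgHom.comp_assoc, hτ, AlgHom.comp_assoc, hgh]⟩
  have hcomp : ∀ {X Y Z : CommAlgCat.{u} A} (f : X ⟶ Y) (g : Y ⟶ Z) (z : F.obj X),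
      F.map g (F.map f z) = F.map (f ≫ g) z := fun f g z => by simp
  have hstage : ∀ S : FGSub A Λ, CommAlgCat.ofHom (Algebra.ofId A S.1) ≫ (cocone A Λ).ι.app S = i := fun S =>
    CommAlgCat.hom_ext (Subsingleton.elim _ _)
  refine ⟨fun x y hxy => ?_, fun xbar => ⟨?_, ?_⟩⟩
  · let S₀ : FGSub A Λ := ⟨⊥, Subalgebra.fg_bot⟩
    have h1 : (F.mapCocone (cocone A Λ)).ι.app S₀ (F.map (CommAlgCat.ofHom (Algebra.ofId A S₀.1)) x) =
        (F.mapCocone (cocone A Λ)).ι.app S₀ (F.map (CommAlgCat.ofHom (Algebra.ofId A S₀.1)) y) := by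
      have e : ∀ z, (F.mapCocone (cocone A Λ)).ι.app S₀ (F.map (CommAlgCat.ofHom (Algebra.ofId A S₀.1)) z) = F.map i z :=
        fun z => (hcomp (CommAlgCat.ofHom (Algebra.ofId A S₀.1)) ((cocone A Λ).ι.app S₀) z).trans
          (congrArg (fun φ => F.map φ z) (hstage S₀))
      rw [e, e]
      exact hxy
    obtain ⟨T, f, hT⟩ := (Types.FilteredColimit.isColimit_eq_iff' hc _ _).mp h1
    obtain ⟨τ, -⟩ := retr T
    let a₀ : CommAlgCat.of A A ⟶ (diagram A Λ).obj S₀ := CommAlgCat.ofHom (Algebra.ofId A S₀.1)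
    let t : (diagram A Λ).obj T ⟶ CommAlgCat.of A A := CommAlgCat.ofHom τ
    have hid : (a₀ ≫ (diagram A Λ).map f) ≫ t = 𝟙 (CommAlgCat.of A A) := CommAlgCat.hom_ext (Subsingleton.elim _ _)
    have e : ∀ z, F.map t (F.map ((diagram A Λ).map f) (F.map a₀ z)) = z := fun z => by
      rw [hcomp, hcomp, ← Category.assoc, hid]
      simp
    exact (e x).symm.trans ((congrArg (F.map t) hT).trans (e y))
  · rintro ⟨x, hx⟩
    refine ⟨F.map i x, ?_⟩
    rw [← hx, hcomp]
    exact congrArg (fun φ => F.map φ x) (CommAlgCat.hom_ext (Subsingleton.elim _ _))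
  · rintro ⟨y, hy⟩
    obtain ⟨S, z, rfl⟩ := Types.jointly_surjective_of_isColimit hc y
    obtain ⟨τ, hτ⟩ := retr S
    refine ⟨F.map (CommAlgCat.ofHom τ) z, ?_⟩
    rw [← hy]
    show F.map _ (F.map (CommAlgCat.ofHom τ) z) = F.map _ (F.map ((cocone A Λ).ι.app S) z)
    refine (hcomp _ _ z).trans (Eq.trans ?_ (hcomp _ _ z).symm)
    exact congrArg (fun φ => F.map φ z) (CommAlgCat.hom_ext hτ)

end Groth.Agent.S15755
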