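import Groth.Statements.S15756
import Groth.Agent.L14.Elkik.Approx
import Mathlib.RingTheory.Etale.Basic

set_option autoImplicit false
universe u
open CAlg

namespace Groth.Agent.S15756

/-- Case of the whole affine base U = Spec A, the unit ideal I = A and an affine scheme X: let A be a
ring with an element t such that (A, tA) is a Henselian pair and the t-power torsion of A is
bounded, let Â be the t-adic completion, and let B be an A-algebra of finite type with B[1/t] smooth
over A[1/t]. Then every A-algebra homomorphism B → Â is congruent modulo t^n, for any prescribed n,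
to an A-algebra homomorphism B → A. (The published statement allows any quasi-compact open U of Spec
A containing Spec A[1/t], any bounded Zariski Gabber–Ramero triple (A, t, I) that is Henselian (or,
instead, satisfies a lifting condition for Zariski pairs over A[1/t]), and U-schemes locally of
finite type that are ind-quasi-affine or subprojective and smooth over A[1/t], and it asserts
density of X(U) in X(U_Â) for the (t, I)-adic topology; this row is the case U = Spec A, I = A, X =
Spec B affine, under the Henselian alternative.) -/
theorem result (A : Type u) [CommRing A] (t : A)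
    [HenselianRing A (Ideal.span {t})]
    (hbd : ∃ N : ℕ, ∀ a : A, (∃ m : ℕ, t ^ m * a = 0) → t ^ N * a = 0)
    (B : Type u) [CommRing B] [Algebra A B] [Algebra.FiniteType A B]
    (hsm : Algebra.Smooth (Localization.Away t)
      (Localization (Algebra.algebraMapSubmonoid B (Submonoid.powers t))))
    (n : ℕ) (σ : B →ₐ[A] AdicCompletion (Ideal.span {t}) A) :
    ∃ τ : B →ₐ[A] A,
      (Ideal.Quotient.mkₐ A (Ideal.span {t} ^ n)).comp τ =
        (AdicCompletion.evalₐ (Ideal.span {t}) n).comp σ := by
  classical
  obtain ⟨N, hN⟩ := hbd
  obtain ⟨m, π, hπ⟩ := Algebra.FiniteType.iff_quotient_mvPolynomial''.mp (inferInstance : Algebra.FiniteType A B)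
  let M := Algebra.algebraMapSubmonoid B (Submonoid.powers t)
  let L := Localization M
  haveI := hsm
  haveI : IsLocalization.Away (algebraMap A B t) L := by
    show IsLocalization (Submonoid.powers (algebraMap A B t)) L
    rw [← Algebra.algebraMapSubmonoid_powers]
    exact inferInstanceAs (IsLocalization M (Localization M))
  haveI : Algebra.Smooth A (Localization.Away t) :=
    haveI := Algebra.Etale.of_isLocalizationAway (A := Localization.Away t) t
    inferInstance
  haveI hAL : Algebra.Smooth A L := Algebra.Smooth.comp A (Localization.Away t) L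
  obtain ⟨q, hq⟩ := Groth.L14.Elkik.exists_root_principal t (RingHom.ker π)
    (Groth.L14.Elkik.isSplitAt_of_formallySmooth π hπ t L) N (fun m a h => hN a ⟨m, h⟩)
  let Â := AdicCompletion (Ideal.span {t}) A
  choose x₁ hx₁ using fun i : Fin m => Ideal.Quotient.mk_surjective
    (AdicCompletion.evalₐ (Ideal.span {t}) (n + q) (σ (π (MvPolynomial.X i))))
  have hval : ∀ g, Ideal.Quotient.mk (Ideal.span {t} ^ (n + q)) (MvPolynomial.aeval x₁ g) =
      AdicCompletion.evalₐ (Ideal.span {t}) (n + q) (σ (π g)) := by
    have h : (Ideal.Quotient.mkₐ A (Ideal.span {t} ^ (n + q))).comp (MvPolynomial.aeval x₁) =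
        (AdicCompletion.evalₐ (Ideal.span {t}) (n + q)).comp (σ.comp π) :=
      MvPolynomial.algHom_ext fun i => by simpa using hx₁ i
    exact fun g => AlgHom.congr_fun h g
  obtain ⟨x, hx, hroot⟩ := hq n x₁ fun g hg => by
    rw [← Ideal.span_singleton_pow, ← Groth.L05.aeval_apply_eq_eval, ← Ideal.Quotient.eq_zero_iff_mem, hval,
      show π g = 0 from hg, map_zero, map_zero]
  refine ⟨AlgHom.liftOfSurjective π hπ (MvPolynomial.aeval x) fun g hg => by
    show MvPolynomial.aeval x g = 0
    rw [Groth.L05.aeval_apply_eq_eval]; exact hroot g hg, AlgHom.ext fun b => ?_⟩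
  obtain ⟨g, rfl⟩ := hπ b
  rw [AlgHom.comp_apply, AlgHom.liftOfSurjective_apply, AlgHom.comp_apply,
    ← Groth.L14.Popescu.factor_evalₐ _ (Nat.le_add_right n q), ← hval, Ideal.Quotient.factor_mk]
  refine Ideal.Quotient.eq.mpr ?_
  rw [Ideal.span_singleton_pow]
  have := Groth.L14.Elkik.aeval_add_sub_mem (A := A) x₁ (x - x₁) (Ideal.span {t ^ n}) hx g
  rwa [add_sub_cancel] at this

end Groth.Agent.S15756
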