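import Groth.Statements.S15759
import Groth.Agent.L01.ApproxProj
import Mathlib.RingTheory.LaurentSeries
import Mathlib.RingTheory.PowerSeries.Trunc
import Mathlib.RingTheory.PowerSeries.Inverse

set_option autoImplicit false
universe u
open Polynomial TensorProduct
open CAlg

namespace Groth.Agent.S15759

/-- Let R be a ring, L = R(t) the localisation of R[t] at the monoid generated by t and the polynomials
with constant term 1 (that is, (R[t]_{1+tR[t]})[1/t]), and L' an L-algebra identified with R((t))
compatibly with R[t] → R((t)). Then (b) finitely generated projective L-modules that become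
isomorphic over L' are isomorphic, and (c) every stably free L'-module is the base change of a
stably free L-module. -/
theorem result (R : Type u) [CommRing R]
    (L : Type u) [CommRing L] [Algebra R[X] L]
    [IsLocalization (Submonoid.closure ({f : R[X] | f.coeff 0 = 1} ∪ {X})) L]
    (L' : Type u) [CommRing L'] [Algebra L L'] (e : L' ≃+* LaurentSeries R)
    (he : ∀ p : R[X], e (algebraMap L L' (algebraMap R[X] L p)) =
      HahnSeries.ofPowerSeries ℤ R (Polynomial.coeToPowerSeries.ringHom p)) :
    (∀ (M N : Type u) [AddCommGroup M] [Module L M] [Module.Finite L M] [Module.Projective L M]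
        [AddCommGroup N] [Module L N] [Module.Finite L N] [Module.Projective L N],
        Nonempty (L' ⊗[L] M ≃ₗ[L'] L' ⊗[L] N) → Nonempty (M ≃ₗ[L] N)) ∧
    (∀ (M' : Type u) [AddCommGroup M'] [Module L' M'] [Module.Finite L' M'],
        (∃ n m : ℕ, Nonempty ((M' × (Fin n → L')) ≃ₗ[L'] (Fin m → L'))) →
        ∃ (M : Type u) (_ : AddCommGroup M) (_ : Module L M), Module.Finite L M ∧
          (∃ n m : ℕ, Nonempty ((M × (Fin n → L)) ≃ₗ[L] (Fin m → L))) ∧
          Nonempty (L' ⊗[L] M ≃ₗ[L'] M')) := by
  -- `A = R[t]` localised at the polynomials with constant term one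
  let S₁ : Submonoid R[X] :=
    { carrier := {f | f.coeff 0 = 1}
      one_mem' := by simp
      mul_mem' := fun {a b} (ha : a.coeff 0 = 1) (hb : b.coeff 0 = 1) => by
        simp [Polynomial.mul_coeff_zero, ha, hb] }
  let A := Localization S₁
  let c : R[X] →+* PowerSeries R := Polynomial.coeToPowerSeries.ringHom
  have hcoe : ∀ p : R[X], PowerSeries.constantCoeff (c p) = p.coeff 0 := fun p => by
    rw [← PowerSeries.coeff_zero_eq_constantCoeff_apply]
    exact Polynomial.coeff_coe p 0
  have hunit : ∀ y : S₁, IsUnit (c y) := fun y => PowerSeries.isUnit_iff_constantCoeff.2 (by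
    rw [hcoe, show (y : R[X]).coeff 0 = 1 from y.2]
    exact isUnit_one)
  letI : Algebra A (PowerSeries R) := (IsLocalization.lift hunit).toAlgebra
  have hAS : ∀ p, algebraMap A (PowerSeries R) (algebraMap R[X] A p) = c p := IsLocalization.lift_eq hunit
  have hLunit : ∀ y : S₁, IsUnit (algebraMap R[X] L y) := fun y =>
    IsLocalization.map_units L (⟨y, Submonoid.subset_closure (Or.inl y.2)⟩ :
      Submonoid.closure ({f : R[X] | f.coeff 0 = 1} ∪ {X}))
  letI : Algebra A L := (IsLocalization.lift hLunit).toAlgebra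
  have hAL : ∀ p, algebraMap A L (algebraMap R[X] A p) = algebraMap R[X] L p := IsLocalization.lift_eq hLunit
  set t : A := algebraMap R[X] A X with ht
  have hX1 : algebraMap R[X] L X = algebraMap A L t := (hAL X).symm
  have hden : ∀ q ∈ Submonoid.closure ({f : R[X] | f.coeff 0 = 1} ∪ {X}),
      ∃ (u : Aˣ) (k : ℕ), algebraMap R[X] A q = u * t ^ k := by
    intro q hq
    induction hq using Submonoid.closure_induction with
    | mem x hx =>
      rcases hx with hx | hx
      · exact ⟨(IsLocalization.map_units A (⟨x, hx⟩ : S₁)).unit, 0, by simp⟩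
      · exact ⟨1, 1, by simp [ht, Set.mem_singleton_iff.1 hx]⟩
    | one => exact ⟨1, 0, by simp⟩
    | mul x y _ _ hx hy =>
      obtain ⟨u, k, hu⟩ := hx
      obtain ⟨v, l, hv⟩ := hy
      exact ⟨u * v, k + l, by rw [map_mul, hu, hv, Units.val_mul, pow_add]; ring⟩
  haveI : IsLocalization.Away t L := by
    constructor; constructor
    · rintro ⟨_, k, rfl⟩
      rw [map_pow, ← hX1]
      exact (IsLocalization.map_units L (⟨X, Submonoid.subset_closure (Or.inr rfl)⟩ :
        Submonoid.closure ({f : R[X] | f.coeff 0 = 1} ∪ {X}))).pow k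
    · intro z
      obtain ⟨⟨p, q, hq⟩, hz⟩ := IsLocalization.surj
        (Submonoid.closure ({f : R[X] | f.coeff 0 = 1} ∪ {X})) z
      obtain ⟨u, k, hu⟩ := hden q hq
      refine ⟨(↑u⁻¹ * algebraMap R[X] A p, ⟨t ^ k, k, rfl⟩), ?_⟩
      show z * algebraMap A L (t ^ k) = algebraMap A L (↑u⁻¹ * algebraMap R[X] A p)
      have h1 : z * algebraMap A L (↑u * t ^ k) = algebraMap A L (algebraMap R[X] A p) := by
        rw [← hu, hAL, hAL]; exact hz
      calc z * algebraMap A L (t ^ k) = algebraMap A L ↑u⁻¹ * (z * algebraMap A L (↑u * t ^ k)) := by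
            rw [map_mul, mul_left_comm, ← mul_assoc (algebraMap A L ↑u⁻¹), ← map_mul, u.inv_mul, map_one,
              one_mul]
        _ = _ := by rw [h1, map_mul]
    · intro x y hxy
      obtain ⟨⟨p, s⟩, rfl⟩ := IsLocalization.mk'_surjective S₁ x |>.imp fun a ha => ha.symm
      obtain ⟨⟨p', s'⟩, rfl⟩ := IsLocalization.mk'_surjective S₁ y |>.imp fun a ha => ha.symm
      have h1 : algebraMap R[X] L (p * s') = algebraMap R[X] L (p' * s) := by
        rw [← hAL, ← hAL, map_mul (algebraMap R[X] A), map_mul (algebraMap R[X] A),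
          ← IsLocalization.mk'_spec A p s, ← IsLocalization.mk'_spec A p' s',
          map_mul (algebraMap A L), map_mul (algebraMap A L), map_mul (algebraMap A L),
          map_mul (algebraMap A L), hxy]
        ring
      obtain ⟨⟨q, hq⟩, hq'⟩ := (IsLocalization.eq_iff_exists
        (Submonoid.closure ({f : R[X] | f.coeff 0 = 1} ∪ {X})) L).1 h1
      obtain ⟨u, k, hu⟩ := hden q hq
      refine ⟨⟨t ^ k, k, rfl⟩, ?_⟩
      have h2 := congrArg (algebraMap R[X] A) hq'
      simp only [map_mul, hu] at h2
      rw [← IsLocalization.mk'_spec A p s, ← IsLocalization.mk'_spec A p' s'] at h2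
      refine ((u.isUnit.mul ((IsLocalization.map_units A s).mul (IsLocalization.map_units A s')))).mul_left_cancel ?_
      linear_combination h2
  -- the Laurent series
  letI : Algebra (PowerSeries R) L' :=
    (e.symm.toRingHom.comp (HahnSeries.ofPowerSeries ℤ R)).toAlgebra
  letI : Algebra A L' := ((algebraMap L L').comp (algebraMap A L)).toAlgebra
  haveI : IsScalarTower A L L' := IsScalarTower.of_algebraMap_eq fun _ => rfl
  have hSL' : ∀ p, algebraMap (PowerSeries R) L' (c p) = algebraMap L L' (algebraMap R[X] L p) := fun p =>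
    (congrArg e.symm (he p)).symm.trans (e.symm_apply_apply _)
  haveI : IsScalarTower A (PowerSeries R) L' := by
    refine IsScalarTower.of_algebraMap_eq' (IsLocalization.ringHom_ext S₁ (RingHom.ext fun p => ?_))
    show algebraMap L L' (algebraMap A L (algebraMap R[X] A p)) =
      algebraMap (PowerSeries R) L' (algebraMap A (PowerSeries R) (algebraMap R[X] A p))
    rw [hAL, hAS, hSL']
  have htS : algebraMap A (PowerSeries R) t = PowerSeries.X := (hAS X).trans Polynomial.coe_X
  have hloc : IsLocalization.Away (algebraMap A (PowerSeries R) t) L' := by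
    rw [htS]
    exact IsLocalization.isLocalization_of_algEquiv (Submonoid.powers (PowerSeries.X : PowerSeries R))
      (AlgEquiv.ofRingEquiv (f := e.symm) fun x => rfl : LaurentSeries R ≃ₐ[PowerSeries R] L')
  have h : L01.ApproxProj.Setup A (PowerSeries R) L L' t := by
    refine ⟨inferInstance, hloc, Ideal.mem_jacobson_bot.2 fun y => ?_, Ideal.mem_jacobson_bot.2 fun y => ?_,
      fun m s => ?_, fun m a ha => ?_⟩
    · obtain ⟨⟨p, s⟩, rfl⟩ := IsLocalization.mk'_surjective S₁ y |>.imp fun a ha => ha.symm
      refine (IsUnit.mul_iff (y := algebraMap R[X] A s)).1 ?_ |>.1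
      rw [add_mul, one_mul, mul_assoc, IsLocalization.mk'_spec, ht, ← map_mul, ← map_add]
      exact IsLocalization.map_units A (⟨X * p + (s : R[X]), by
        show (X * p + (s : R[X])).coeff 0 = 1
        rw [Polynomial.coeff_add, Polynomial.mul_coeff_zero, Polynomial.coeff_X_zero, zero_mul, zero_add]
        exact s.2⟩ : S₁)
    · rw [htS, PowerSeries.isUnit_iff_constantCoeff]
      simp
    · refine ⟨algebraMap R[X] A (PowerSeries.trunc m s), PowerSeries.mk fun i => PowerSeries.coeff (i + m) s, ?_⟩
      rw [hAS, htS, sub_eq_iff_eq_add]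
      exact PowerSeries.eq_X_pow_mul_shift_add_trunc m s
    · obtain ⟨⟨p, s⟩, rfl⟩ := IsLocalization.mk'_surjective S₁ a |>.imp fun a ha => ha.symm
      obtain ⟨w, hw⟩ := ha
      have h1 : c p = PowerSeries.X ^ m * (w * c s) := by
        rw [← hAS p, ← IsLocalization.mk'_spec A p s, map_mul, hw, htS, hAS, mul_assoc]
      have h2 : (X : R[X]) ^ m ∣ p := Polynomial.X_pow_dvd_iff.2 fun d hd => by
        rw [← Polynomial.coeff_coe]
        show PowerSeries.coeff d (c p) = 0
        rw [h1, PowerSeries.coeff_X_pow_mul', if_neg (by omega)]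
      obtain ⟨r, rfl⟩ := h2
      refine ⟨IsLocalization.mk' A r s, ?_⟩
      rw [ht, ← map_pow]
      exact (IsLocalization.mul_mk'_eq_mk'_of_mul _ _ s).symm
  exact ⟨fun M N _ _ _ _ _ _ _ _ ⟨e⟩ => L01.ApproxProj.nonempty_linearEquiv h M N e,
    fun M' _ _ _ hM' => L01.ApproxProj.exists_stablyFree h M' hM'⟩


end Groth.Agent.S15759
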