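import Groth.Statements.S1576
import Groth.Agent.L19.Ass.Basic
import Mathlib.RingTheory.Ideal.AssociatedPrime.Finiteness

set_option autoImplicit false
universe u
open CategoryTheory CategoryTheory.Limits AlgebraicGeometry
open Divisors

namespace Groth.Agent.S1576

/-- Let X be locally Noetherian and F coherent. Then the associated points of F lying in any
quasi-compact open subset form a finite set. -/
theorem result (X : Scheme.{u}) [IsLocallyNoetherian X]
    (F : X.Modules) (hF : Coh.IsCoh F) (U : X.Opens) (hU : IsCompact (U : Set X)) :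
    {x : X | x ∈ U ∧ Curv2.IsAssPoint F x}.Finite := by
  haveI : Coh.IsQCoh F := hF.1
  obtain ⟨T, hT, hcov⟩ := isCompact_iff_finite_and_eq_biUnion_affineOpens.mp hU
  have hfin : ∀ W : X.affineOpens, {x : X | x ∈ (W : X.Opens) ∧ Curv2.IsAssPoint F x}.Finite := fun ⟨W, hW⟩ => by
    haveI : IsNoetherianRing Γ(X, W) := IsLocallyNoetherian.component_noetherian ⟨W, hW⟩
    haveI : Module.Finite Γ(X, W) Γ(F, W) := Groth.L20.ModStalk.finite_sections F hF hW
    refine ((associatedPrimes.finite Γ(X, W) Γ(F, W)).preimage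
      (f := fun q : Spec Γ(X, W) => q.asIdeal) (fun a _ b _ h => PrimeSpectrum.ext h) |>.image hW.fromSpec).subset ?_
    rintro x ⟨hxW, hass⟩
    exact ⟨hW.primeIdealOf ⟨x, hxW⟩, (Groth.L19.Ass.mem_iff_of_affine F hW hxW).1 hass,
      hW.fromSpec_primeIdealOf ⟨x, hxW⟩⟩
  refine (hT.biUnion fun W _ => hfin W).subset ?_
  rintro x ⟨hxU, hx⟩
  obtain ⟨W, hW, hxW⟩ : ∃ W ∈ T, x ∈ (W : X.Opens) := by
    rw [hcov] at hxU
    simpa using hxU
  exact Set.mem_biUnion hW ⟨hxW, hx⟩

end Groth.Agent.S1576
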