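import Groth.Statements.S15760
import Groth.Agent.L08.Borel.OrbitTori
-- import your own Groth.Agent.* helpers here

set_option autoImplicit false
set_option backward.isDefEq.respectTransparency.types false
set_option linter.style.haveILetI false
universe u
open CategoryTheory MonoidalCategory CartesianMonoidalCategory MonObj GrpObj AlgebraicGeometry
open AlgGrp

namespace Groth.Agent.S15760

/-- Let G be a group scheme of finite type over a field k acting on a quasi-affine k-scheme X of finite
type, and let x be a k-point of X with orbit map G → X, g ↦ g · x. If every subtorus of G over an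
algebraic closure of k fixes x (the base-changed orbit map restricted to the torus factors through
the base change of x), then the orbit of x is a closed subset of X. -/
theorem result (k : Type u) [Field k]
    (G X : Over (Spec (CommRingCat.of k))) [GrpObj G] [LocallyOfFiniteType G.hom] [QuasiCompact G.hom]
    [LocallyOfFiniteType X.hom] (hX : X.left.IsQuasiAffine)
    (a : AlgGrp.Action G X) (x : 𝟙_ (Over (Spec (CommRingCat.of k))) ⟶ X)
    (htor : ∀ (T : Over (Spec (CommRingCat.of (AlgebraicClosure k)))) [GrpObj T]
      (i : T ⟶ Red.bc (Spec.map (CommRingCat.ofHom (algebraMap k (AlgebraicClosure k)))) G) [IsMonHom i],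
      Mono i → Red.IsTorus T →
      ∃ c : T ⟶ Red.bc (Spec.map (CommRingCat.ofHom (algebraMap k (AlgebraicClosure k))))
          (𝟙_ (Over (Spec (CommRingCat.of k)))),
        i ≫ (Over.pullback (Spec.map (CommRingCat.ofHom (algebraMap k (AlgebraicClosure k))))).map (a.orbitMap x) =
          c ≫ (Over.pullback (Spec.map (CommRingCat.ofHom (algebraMap k (AlgebraicClosure k))))).map x) :
    IsClosed (Set.range (a.orbitMap x).left) := by
  let L : Type u := AlgebraicClosure k
  let t : Spec (CommRingCat.of L) ⟶ Spec (CommRingCat.of k) := Spec.map (CommRingCat.ofHom (algebraMap k L))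
  haveI : Surjective t := ⟨fun s => ⟨IsLocalRing.closedPoint L, Subsingleton.elim (α := PrimeSpectrum k) _ _⟩⟩
  let p : (Red.bc t X).left ⟶ X.left := Limits.pullback.fst X.hom t
  haveI : IsAffineHom p := MorphismProperty.pullback_fst X.hom t (inferInstanceAs (IsAffineHom t))
  haveI : Surjective p := MorphismProperty.pullback_fst X.hom t ‹Surjective t›
  haveI : UniversallyOpen p := MorphismProperty.pullback_fst X.hom t (inferInstanceAs (UniversallyOpen t))
  haveI := hX
  haveI : (Red.bc t X).left.IsQuasiAffine := Scheme.IsQuasiAffine.of_isAffineHom p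
  haveI : LocallyOfFiniteType (Red.bc t X).hom := inferInstanceAs (LocallyOfFiniteType (Limits.pullback.snd X.hom t))
  haveI : LocallyOfFiniteType (Red.bc t G).hom := inferInstanceAs (LocallyOfFiniteType (Limits.pullback.snd G.hom t))
  haveI : QuasiCompact (Red.bc t G).hom := inferInstanceAs (QuasiCompact (Limits.pullback.snd G.hom t))
  have h := Groth.L08.Borel.OrbitTori.isClosed_orbit_of_tori (a.bc t) (Groth.L19.AlgGrpBasic.bcPt t x)
    fun T _ i hi hm hT => by
      haveI := hi
      obtain ⟨c, hc⟩ := htor T i hm hT
      rw [Groth.L19.AlgGrpBasic.bc_orbitMap, hc]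
      exact Groth.L08.Borel.OrbitTori.comp_bc_pt t x c
  rw [Groth.L19.AlgGrpBasic.range_bc_orbitMap] at h
  exact ((p.isOpenMap.isQuotientMap p.continuous p.surjective).isClosed_preimage).1 h

end Groth.Agent.S15760
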