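import Mathlib.AlgebraicGeometry.QuasiAffine
import Mathlib.Topology.Algebra.Ring.Basic
import Mathlib.RingTheory.Spectrum.Prime.Topology
import Groth.Statements.S15765
-- import your own Groth.Agent.* helpers here

set_option autoImplicit false
universe u
open CategoryTheory AlgebraicGeometry
open CAlg

namespace Groth.Agent.S15765

/-- Let B be a topological ring in which the units form an open subset, B₀ → B a ring map with dense
image and X a quasi-affine scheme over B₀. Then the image of any B-point Spec B → X over B₀ is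
contained in an affine open of X. (The published statement allows X ind-quasi-affine, i.e. with all
quasi-compact opens quasi-affine; since a B-point lands in a quasi-compact open, this row's
quasi-affine case carries the content.) -/
theorem result (B : Type u) [CommRing B] [TopologicalSpace B]
    [IsTopologicalRing B] (hB : IsOpen {b : B | IsUnit b})
    (B₀ : Type u) [CommRing B₀] (φ : B₀ →+* B) (hφ : DenseRange φ)
    (X : Scheme.{u}) [X.IsQuasiAffine] (p : X ⟶ Spec (CommRingCat.of B₀))
    (f : Spec (CommRingCat.of B) ⟶ X) (hf : f ≫ p = Spec.map (CommRingCat.ofHom φ)) :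
    ∃ U : X.Opens, IsAffineOpen U ∧ Set.range f.base ⊆ (U : Set X) := by
  classical
  haveI : IsOpenImmersion X.toSpecΓ := inferInstance
  set O := X.toSpecΓ.opensRange with hO
  obtain ⟨s, hs⟩ := (PrimeSpectrum.isClosed_iff_zeroLocus _).mp O.2.isClosed_compl
  let ψ : Γ(X, ⊤) →+* B := ((Scheme.ΓSpecIso (CommRingCat.of B)).hom.hom).comp f.appTop.hom
  let χ : B₀ →+* Γ(X, ⊤) := p.appTop.hom.comp (Scheme.ΓSpecIso (CommRingCat.of B₀)).inv.hom
  have hψχ : ψ.comp χ = φ := by
    have h : (Scheme.ΓSpecIso (CommRingCat.of B₀)).inv ≫ p.appTop ≫ f.appTop ≫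
        (Scheme.ΓSpecIso (CommRingCat.of B)).hom = CommRingCat.ofHom φ := by
      rw [← Scheme.Hom.comp_appTop_assoc, hf, Scheme.ΓSpecIso_naturality, Iso.inv_hom_id_assoc]
    exact congrArg CommRingCat.Hom.hom h
  have hmap : ∀ q : PrimeSpectrum B, X.toSpecΓ.base (f.base q) = PrimeSpectrum.comap ψ q := by
    intro q
    have h : f ≫ X.toSpecΓ = Spec.map (f.appTop ≫ (Scheme.ΓSpecIso (CommRingCat.of B)).hom) := by
      rw [Scheme.toSpecΓ_naturality, Spec.map_comp, SpecMap_ΓSpecIso_hom]
    exact congr($(h).base q)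
  have h1 : (1 : B) ∈ Ideal.span (ψ '' s) := by
    by_contra h
    obtain ⟨q, hq, hle⟩ := Ideal.exists_le_maximal _ (show Ideal.span (ψ '' s) ≠ ⊤ from fun e => h (by rw [e]; exact Submodule.mem_top))
    have hmem : X.toSpecΓ.base (f.base ⟨q, hq.isPrime⟩) ∈ (O : Set _) := ⟨f.base ⟨q, hq.isPrime⟩, rfl⟩
    refine ((Set.ext_iff.mp hs (X.toSpecΓ.base (f.base ⟨q, hq.isPrime⟩))).mpr ?_) hmem
    rw [hmap]
    intro a ha
    exact hle (Ideal.subset_span (Set.mem_image_of_mem ψ ha))
  rw [Ideal.span, Finsupp.span_image_eq_map_linearCombination] at h1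
  obtain ⟨l, hl, hl1⟩ := h1
  rw [Finsupp.linearCombination_apply] at hl1
  let F : (l.support → B) → B := fun c => ∑ i, c i * ψ i.1
  have hF : Continuous F := continuous_finset_sum _ fun i _ => (continuous_apply i).mul continuous_const
  have hopen : IsOpen (F ⁻¹' {b : B | IsUnit b}) := hB.preimage hF
  obtain ⟨c, hc⟩ := (DenseRange.piMap (fun _ : l.support => hφ)).exists_mem_open hopen
    ⟨fun i => l i.1, by
      show IsUnit (∑ i : l.support, l i.1 * ψ i.1)
      rw [Finset.sum_coe_sort l.support (fun a => l a * ψ a)]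
      exact (show ∑ a ∈ l.support, l a * ψ a = 1 from hl1).symm ▸ isUnit_one⟩
  let g : Γ(X, ⊤) := ∑ i : l.support, χ (c i) * i.1
  have hgO : PrimeSpectrum.basicOpen g ≤ O := by
    intro q hq
    by_contra hqO
    refine hq (Submodule.sum_mem _ fun i _ => Ideal.mul_mem_left _ _ ?_)
    exact (Set.ext_iff.mp hs q).mp hqO (hl i.2)
  refine ⟨X.basicOpen g, ?_, ?_⟩
  · rw [← Scheme.toSpecΓ_preimage_basicOpen]
    exact (IsAffineOpen.Spec_basicOpen g).preimage_of_isOpenImmersion X.toSpecΓ hgO
  · rintro _ ⟨q, rfl⟩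
    rw [← Scheme.toSpecΓ_preimage_basicOpen]
    show X.toSpecΓ.base (f.base q) ∈ PrimeSpectrum.basicOpen g
    rw [hmap]
    intro hq
    have hu : IsUnit (ψ g) := by
      have e : ψ g = F fun i => φ (c i) := by
        simp only [g, F, map_sum, map_mul]
        exact Finset.sum_congr rfl fun i _ => by rw [← hψχ]; rfl
      rw [e]
      exact hc
    exact q.isPrime.ne_top (Ideal.eq_top_of_isUnit_mem _ hq hu)

end Groth.Agent.S15765
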