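import Groth.Statements.S15766
import Groth.Agent.L27.LaurentEt.Sections

set_option autoImplicit false
set_option linter.style.haveILetI false
set_option backward.isDefEq.respectTransparency.types false
universe u
open CategoryTheory CategoryTheory.Limits AlgebraicGeometry
open FEt

namespace Groth.Agent.S15766

/-- Let R be a strictly Henselian local ring with residue field k, let d > 0 be invertible in R, and let
X → Spec R((t)) be finite étale and split (a trivial finite cover) after base change along the
substitution t ↦ t^d. Then every k((t))-point of X over R((t)) comes from a unique R((t))-section of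
X; here ρ : R((t)) → k((t)) is the coefficientwise residue map, pinned on power series. (The
published statement is for a finite étale group scheme G of order invertible in R that becomes
constant over a finite étale cover of R((t)) tamely ramified relative to R, in the form H⁰(R((t)),
G) ≅ H⁰(k((t)), G); the covers t ↦ t^d with d invertible in R are cofinal among such tame covers,
and the group structure plays no role in the H⁰ statement, so this row states it for any finite
étale X split by such a cover.) -/
theorem result (R : Type u) [CommRing R]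
    [HenselianLocalRing R] [IsSepClosed (IsLocalRing.ResidueField R)]
    (d : ℕ) (hd : 0 < d) (hdu : IsUnit (d : R))
    (hinj : Function.Injective (AddMonoidHom.mulLeft (d : ℤ)))
    (hmono : ∀ g g' : ℤ, AddMonoidHom.mulLeft (d : ℤ) g ≤ AddMonoidHom.mulLeft (d : ℤ) g' ↔ g ≤ g')
    (ρ : LaurentSeries R →+* LaurentSeries (IsLocalRing.ResidueField R))
    (hρ : ρ.comp (HahnSeries.ofPowerSeries ℤ R) =
      (HahnSeries.ofPowerSeries ℤ (IsLocalRing.ResidueField R)).comp (PowerSeries.map (IsLocalRing.residue R)))
    (X : Scheme.{u}) (p : X ⟶ Spec (CommRingCat.of (LaurentSeries R))) [IsFinite p] [Etale p]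
    (hsplit : ∃ (n : ℕ) (e : pullback p (Spec.map (CommRingCat.ofHom
        (HahnSeries.embDomainRingHom (R := R) (AddMonoidHom.mulLeft (d : ℤ)) hinj hmono))) ≅
        (∐ fun _ : Fin n => Spec (CommRingCat.of (LaurentSeries R)))),
      e.hom ≫ Sigma.desc (fun _ : Fin n => 𝟙 (Spec (CommRingCat.of (LaurentSeries R)))) =
        pullback.snd p (Spec.map (CommRingCat.ofHom
          (HahnSeries.embDomainRingHom (R := R) (AddMonoidHom.mulLeft (d : ℤ)) hinj hmono)))) :
    (∀ s₁ s₂ : Spec (CommRingCat.of (LaurentSeries R)) ⟶ X,
        s₁ ≫ p = 𝟙 _ → s₂ ≫ p = 𝟙 _ →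
        Spec.map (CommRingCat.ofHom ρ) ≫ s₁ = Spec.map (CommRingCat.ofHom ρ) ≫ s₂ → s₁ = s₂) ∧
    (∀ s' : Spec (CommRingCat.of (LaurentSeries (IsLocalRing.ResidueField R))) ⟶ X,
        s' ≫ p = Spec.map (CommRingCat.ofHom ρ) →
        ∃ s : Spec (CommRingCat.of (LaurentSeries R)) ⟶ X, s ≫ p = 𝟙 _ ∧ Spec.map (CommRingCat.ofHom ρ) ≫ s = s') := by
  exact ⟨fun s₁ s₂ h₁ h₂ h => Groth.L27.LaurentEt.sections_unique ρ hρ p s₁ s₂ h₁ h₂ h, fun s' hs' => Groth.L27.LaurentEt.exists_section d hinj hmono ρ hρ p hd hdu hsplit s' hs'⟩

end Groth.Agent.S15766
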