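import Groth.Statements.S15768
import Groth.Agent.L01.NagataComplete
import Groth.Agent.L05.Henselization.Pair
import Mathlib.RingTheory.Idempotents
import Mathlib.RingTheory.PowerSeries.Inverse
import Mathlib.Tactic.LinearCombination

set_option autoImplicit false
universe u
open Polynomial
open CAlg

namespace Groth.Agent.S15768

section Helpers

/-- A power series with nilpotent coefficients and `p² = Xⁿ p` is zero. -/
lemma eq_zero_of_mul_self_eq {R : Type u} [CommRing R] (n : ℕ) (p : PowerSeries R)
    (hnil : ∀ i, IsNilpotent (PowerSeries.coeff i p)) (h : p * p = PowerSeries.X ^ n * p) : p = 0 := by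
  classical
  set a := fun i => PowerSeries.coeff i p with ha
  have hrec : ∀ i, a i = ∑ x ∈ Finset.antidiagonal (i + n), a x.1 * a x.2 := by
    intro i
    have h1 := congrArg (PowerSeries.coeff (i + n)) h
    rw [PowerSeries.coeff_mul, PowerSeries.coeff_X_pow_mul] at h1
    exact h1.symm
  set J : Ideal R := Ideal.span (((Finset.range (n + 1)).image a : Finset R) : Set R) with hJ
  have hmem : ∀ i, a i ∈ J := by
    intro i
    induction i using Nat.strong_induction_on with
    | h i ih =>
      rcases le_or_gt i n with hi | hi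
      · exact Ideal.subset_span (Finset.mem_coe.mpr (Finset.mem_image_of_mem a (Finset.mem_range.mpr (by omega))))
      · rw [hrec i]
        refine Ideal.sum_mem _ fun x hx => ?_
        rw [Finset.mem_antidiagonal] at hx
        rcases lt_or_ge x.1 i with h1 | h1
        · exact Ideal.mul_mem_right _ _ (ih _ h1)
        · exact Ideal.mul_mem_left _ _ (ih _ (by omega))
  have hpow : ∀ (m : ℕ) i, a i ∈ J ^ (2 ^ m) := by
    intro m
    induction m with
    | zero => simpa using hmem
    | succ m ih =>
      intro i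
      rw [hrec i, pow_succ, pow_mul, pow_two]
      exact Ideal.sum_mem _ fun x _ => Ideal.mul_mem_mul (ih _) (ih _)
  obtain ⟨N, hN⟩ : IsNilpotent J := by
    refine (Ideal.FG.isNilpotent_iff_le_nilradical (show J.FG from Submodule.fg_span (Finset.finite_toSet _))).mpr ?_
    rw [hJ, Ideal.span_le]
    intro x hx
    obtain ⟨i, -, rfl⟩ := Finset.mem_image.mp (Finset.mem_coe.mp hx)
    exact mem_nilradical.mpr (hnil i)
  ext i
  have h2 : a i ∈ J ^ N := Ideal.pow_le_pow_right (Nat.lt_two_pow_self).le (hpow N i)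
  rw [hN] at h2
  simpa using h2

/-- The numerator of an idempotent of `R((X))` is, up to nilpotents, constant. -/
lemma exists_idempotent_coeff {R : Type u} [CommRing R] (n : ℕ) (p : PowerSeries R)
    (h : p * p = PowerSeries.X ^ n * p) :
    ∃ r : R, IsIdempotentElem r ∧ (∀ i, i ≠ n → IsNilpotent (PowerSeries.coeff i p)) ∧
      IsNilpotent (PowerSeries.coeff n p - r) := by
  classical
  have hP : ∀ (P : Ideal R), P.IsPrime →
      (∀ i, i ≠ n → PowerSeries.coeff i p ∈ P) ∧
        PowerSeries.coeff n p * PowerSeries.coeff n p - PowerSeries.coeff n p ∈ P := by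
    intro P hP
    set ψ := PowerSeries.map (Ideal.Quotient.mk P)
    have h1 : ψ p * (ψ p - PowerSeries.X ^ n) = 0 := by
      rw [mul_sub, mul_comm (ψ p) (PowerSeries.X ^ n), ← PowerSeries.map_X (Ideal.Quotient.mk P),
        ← map_pow, ← map_mul, ← map_mul, h, sub_self]
    have hc : ∀ i, PowerSeries.coeff i (ψ p) = Ideal.Quotient.mk P (PowerSeries.coeff i p) :=
      fun i => PowerSeries.coeff_map _ _ _
    rcases mul_eq_zero.mp h1 with h0 | h0
    · have hall : ∀ i, PowerSeries.coeff i p ∈ P := fun i => by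
        rw [← Ideal.Quotient.eq_zero_iff_mem, ← hc, h0, map_zero]
      exact ⟨fun i _ => hall i, P.sub_mem (P.mul_mem_left _ (hall n)) (hall n)⟩
    · rw [sub_eq_zero] at h0
      refine ⟨fun i hi => ?_, ?_⟩
      · rw [← Ideal.Quotient.eq_zero_iff_mem, ← hc, h0, PowerSeries.coeff_X_pow, if_neg hi]
      · rw [← Ideal.Quotient.eq_zero_iff_mem, map_sub, map_mul, ← hc, h0, PowerSeries.coeff_X_pow,
          if_pos rfl, one_mul, sub_self]
  have hne : ∀ i, i ≠ n → IsNilpotent (PowerSeries.coeff i p) := fun i hi =>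
    nilpotent_iff_mem_prime.mpr fun P hP' => (hP P hP').1 i hi
  have hidem : IsIdempotentElem (Ideal.Quotient.mk (nilradical R) (PowerSeries.coeff n p)) := by
    rw [IsIdempotentElem, ← map_mul, Ideal.Quotient.eq, mem_nilradical]
    exact nilpotent_iff_mem_prime.mpr fun P hP' => (hP P hP').2
  obtain ⟨r, hr, hrp⟩ := exists_isIdempotentElem_eq_of_ker_isNilpotent (Ideal.Quotient.mk (nilradical R))
    (fun x hx => mem_nilradical.mp (by rwa [Ideal.mk_ker] at hx)) _ ⟨_, rfl⟩ hidem
  exact ⟨r, hr, hne, mem_nilradical.mp (Ideal.Quotient.eq.mp hrp.symm)⟩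

/-- Idempotents of `B[1/t]` come from idempotents of `R`. -/
lemma existsUnique_core {R B : Type u} [CommRing R] [CommRing B] (t : B)
    (ht : t ∈ Ideal.jacobson (⊥ : Ideal B)) (π : B →+* PowerSeries R) (ι : R →+* B)
    (hι : ∀ r, π (ι r) = PowerSeries.C r) (hπt : π t = PowerSeries.X)
    (hker : ∀ b, π b = 0 → ∀ k : ℕ, b ∈ Ideal.span {t ^ k})
    (e : Localization.Away t) (he : IsIdempotentElem e) :
    ∃! r : R, IsIdempotentElem r ∧ algebraMap B (Localization.Away t) (ι r) = e := by
  classical
  have hvanish : ∀ (n : ℕ) (b : B), b * b = t ^ n * b → π b = 0 → t ^ n * b = 0 := by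
    intro n b hb hπb
    obtain ⟨c, hc⟩ := Ideal.mem_span_singleton'.mp (hker b hπb (n + 1))
    have h1 : t ^ n * b * (t * c - 1) = 0 := by
      have : b * b = t ^ n * b * (t * c) := by
        calc b * b = b * (c * t ^ (n + 1)) := by rw [hc]
          _ = _ := by ring
      rw [mul_sub, ← this, hb, mul_one, sub_self]
    have hu : IsUnit (t * c - 1) := by
      have := (Ideal.mem_jacobson_bot.mp ht) (-c)
      rw [show t * -c + 1 = -(t * c - 1) by ring] at this
      exact (IsUnit.neg_iff _).mp this
    exact hu.mul_left_eq_zero.mp h1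
  obtain ⟨⟨b₀, ⟨_, n₀, rfl⟩⟩, hb₀⟩ := IsLocalization.surj (Submonoid.powers t) e
  simp only at hb₀
  have h2 : algebraMap B (Localization.Away t) (b₀ * b₀) = algebraMap B _ (t ^ n₀ * b₀) := by
    rw [map_mul, map_mul, ← hb₀]
    calc e * algebraMap B _ (t ^ n₀) * (e * algebraMap B _ (t ^ n₀))
        = (e * e) * algebraMap B _ (t ^ n₀) * algebraMap B _ (t ^ n₀) := by ring
      _ = _ := by rw [he.eq]; ring
  obtain ⟨⟨_, m, rfl⟩, hm⟩ := (IsLocalization.eq_iff_exists (Submonoid.powers t) _).mp h2
  set n := n₀ + m with hn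
  set b := t ^ m * b₀ with hb
  have hbe : algebraMap B (Localization.Away t) b = e * algebraMap B _ (t ^ n) := by
    rw [hb, hn, map_mul, ← hb₀, pow_add, map_mul]; ring
  have hbb : b * b = t ^ n * b := by
    simp only at hm
    rw [hb, hn, pow_add]
    calc t ^ m * b₀ * (t ^ m * b₀) = t ^ m * (t ^ m * (b₀ * b₀)) := by ring
      _ = t ^ m * (t ^ m * (t ^ n₀ * b₀)) := by rw [hm]
      _ = _ := by ring
  have hp : π b * π b = PowerSeries.X ^ n * π b := by rw [← map_mul, hbb, map_mul, map_pow, hπt]
  obtain ⟨r, hr, hne, hrn⟩ := exists_idempotent_coeff n (π b) hp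
  have hr' : r * r = r := hr.eq
  have hι' : ι r * ι r = ι r := by rw [← map_mul, hr']
  have hs : (1 - ι r) * (1 - ι r) = 1 - ι r := by linear_combination hι'
  -- `e (1 - r) = 0`
  have h1 : t ^ n * (b * (1 - ι r)) = 0 := by
    have hsq : b * (1 - ι r) * (b * (1 - ι r)) = t ^ n * (b * (1 - ι r)) := by
      calc b * (1 - ι r) * (b * (1 - ι r)) = (b * b) * ((1 - ι r) * (1 - ι r)) := by ring
        _ = _ := by rw [hbb, hs]; ring
    refine hvanish n _ hsq (eq_zero_of_mul_self_eq n _ (fun i => ?_) ?_)
    · rw [map_mul, map_sub, map_one, hι,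
        show π b * (1 - PowerSeries.C r) = PowerSeries.C (1 - r) * π b by rw [map_sub, map_one]; ring,
        PowerSeries.coeff_C_mul]
      rcases eq_or_ne i n with hi | hi
      · rw [hi, show (1 - r) * PowerSeries.coeff n (π b) = (1 - r) * (PowerSeries.coeff n (π b) - r) by
          linear_combination -hr']
        exact (Commute.all _ _).isNilpotent_mul_left hrn
      · exact (Commute.all _ _).isNilpotent_mul_left (hne i hi)
    · rw [← map_mul, hsq, map_mul, map_pow, hπt]
  -- `r (1 - e) = 0`
  have h2' : t ^ n * (ι r * (t ^ n - b)) = 0 := by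
    have hsq : ι r * (t ^ n - b) * (ι r * (t ^ n - b)) = t ^ n * (ι r * (t ^ n - b)) := by
      calc ι r * (t ^ n - b) * (ι r * (t ^ n - b)) = (ι r * ι r) * ((t ^ n - b) * (t ^ n - b)) := by ring
        _ = _ := by rw [hι']; linear_combination ι r * hbb
    refine hvanish n _ hsq (eq_zero_of_mul_self_eq n _ (fun i => ?_) ?_)
    · rw [map_mul, map_sub, map_pow, hπt, hι, PowerSeries.coeff_C_mul, map_sub, PowerSeries.coeff_X_pow]
      rcases eq_or_ne i n with hi | hi
      · rw [hi, if_pos rfl, show r * (1 - PowerSeries.coeff n (π b)) = r * (-(PowerSeries.coeff n (π b) - r)) by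
          linear_combination -hr']
        exact (Commute.all _ _).isNilpotent_mul_left hrn.neg
      · rw [if_neg hi, zero_sub]
        exact (Commute.all _ _).isNilpotent_mul_left (hne i hi).neg
    · rw [← map_mul, hsq, map_mul, map_pow, hπt]
  have htu : IsUnit (algebraMap B (Localization.Away t) (t ^ n)) :=
    IsLocalization.map_units _ (⟨_, n, rfl⟩ : Submonoid.powers t)
  have e1 : e * (1 - algebraMap B (Localization.Away t) (ι r)) = 0 := by
    apply htu.mul_right_eq_zero.mp
    apply htu.mul_right_eq_zero.mp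
    calc algebraMap B _ (t ^ n) * (algebraMap B _ (t ^ n) * (e * (1 - algebraMap B _ (ι r))))
        = algebraMap B _ (t ^ n * (b * (1 - ι r))) := by
          rw [map_mul, map_mul, map_sub, map_one, hbe]; ring
      _ = 0 := by rw [h1, map_zero]
  have e2 : algebraMap B (Localization.Away t) (ι r) * (1 - e) = 0 := by
    apply htu.mul_right_eq_zero.mp
    apply htu.mul_right_eq_zero.mp
    calc algebraMap B _ (t ^ n) * (algebraMap B _ (t ^ n) * (algebraMap B _ (ι r) * (1 - e)))
        = algebraMap B _ (t ^ n * (ι r * (t ^ n - b))) := by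
          rw [map_mul, map_mul, map_sub, hbe]; ring
      _ = 0 := by rw [h2', map_zero]
  refine ⟨r, ⟨hr, by linear_combination e2 - e1⟩, ?_⟩
  rintro r' ⟨-, hr''⟩
  have heq : algebraMap B (Localization.Away t) (ι r') = algebraMap B _ (ι r) := by
    rw [hr'']; linear_combination e1 - e2
  obtain ⟨⟨_, k, rfl⟩, hk⟩ := (IsLocalization.eq_iff_exists (Submonoid.powers t) _).mp heq
  have h3 := congrArg (PowerSeries.coeff k) (congrArg π hk)
  simp only [map_mul, map_pow, hπt, hι, PowerSeries.coeff_X_pow_mul'] at h3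
  simpa using h3

end Helpers

open Polynomial

/-- For any ring R and a henselization B of R[t] along (t), every idempotent of B[1/t] comes from a
unique idempotent of R under R → R[t] → B → B[1/t]. -/
theorem result (R : Type u) [CommRing R]
    (B : Type u) [CommRing B] [Algebra R[X] B] (hB : Hens2.IsPairHenselization R[X] (Ideal.span {(X : R[X])}) B)
    (e : Localization.Away (algebraMap R[X] B X)) (he : IsIdempotentElem e) :
    ∃! r : R, IsIdempotentElem r ∧
      algebraMap B (Localization.Away (algebraMap R[X] B X)) (algebraMap R[X] B (Polynomial.C r)) = e := by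
  classical
  set I : Ideal R[X] := Ideal.span {(X : R[X])} with hI
  have hC : HenselianRing (PowerSeries R) (Ideal.span {(PowerSeries.X : PowerSeries R)}) := by
    haveI := Groth.L01.NagataComplete.isAdicComplete_span_X R
    infer_instance
  obtain ⟨π, hπ, -⟩ := hB.2 (PowerSeries R) _ Polynomial.coeToPowerSeries.ringHom hC (by
    rw [Ideal.map_span, Set.image_singleton, Polynomial.coeToPowerSeries.ringHom_apply, Polynomial.coe_X])
  have hπ' : ∀ q : R[X], π (algebraMap R[X] B q) = (q : PowerSeries R) := fun q =>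
    DFunLike.congr_fun hπ q
  have ht : algebraMap R[X] B X ∈ Ideal.jacobson (⊥ : Ideal B) :=
    hB.1.jac (Ideal.mem_map_of_mem _ (Ideal.mem_span_singleton_self _))
  refine existsUnique_core (algebraMap R[X] B X) ht π ((algebraMap R[X] B).comp Polynomial.C) (fun r => ?_) ?_ ?_ e he
  · rw [RingHom.comp_apply, hπ', Polynomial.coe_C]
  · rw [hπ', Polynomial.coe_X]
  · intro b hb k
    obtain ⟨q, hq⟩ := (Groth.L05.Henselization.quotientMap_pow_bijective R[X] I hB k).2
      (Ideal.Quotient.mk _ b)
    obtain ⟨q, rfl⟩ := Ideal.Quotient.mk_surjective q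
    rw [Ideal.quotientMap_mk, Ideal.Quotient.eq] at hq
    have hspan : (I ^ k).map (algebraMap R[X] B) = Ideal.span {algebraMap R[X] B X ^ k} := by
      rw [hI, Ideal.span_singleton_pow, Ideal.map_span, Set.image_singleton, map_pow]
    rw [hspan, Ideal.mem_span_singleton'] at hq
    obtain ⟨c, hc⟩ := hq
    have hdvd : (X : R[X]) ^ k ∣ q := by
      rw [Polynomial.X_pow_dvd_iff]
      intro d hd
      have h1 := congrArg (PowerSeries.coeff d) (congrArg π hc)
      rw [map_mul, map_pow, hπ', Polynomial.coe_X, map_sub, hπ', hb, sub_zero,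
        PowerSeries.coeff_mul_X_pow', if_neg (by omega), Polynomial.coeff_coe] at h1
      exact h1.symm
    obtain ⟨q', rfl⟩ := hdvd
    rw [map_mul, map_pow] at hc
    rw [Ideal.mem_span_singleton']
    exact ⟨algebraMap R[X] B q' - c, by rw [sub_mul, hc]; ring⟩


end Groth.Agent.S15768
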