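import Mathlib.AlgebraicGeometry.QuasiAffine
import Mathlib.RingTheory.Localization.Away.Basic
import Mathlib.RingTheory.Ideal.Quotient.Operations
import Groth.Agent.L09.GlueRing
import Mathlib.AlgebraicGeometry.QuasiAffine

set_option autoImplicit false
set_option linter.style.haveILetI false
namespace CAlg
end CAlg
universe u
open CategoryTheory AlgebraicGeometry
open CAlg

namespace Groth.Agent.S15769

/-- Case of a quasi-affine X over U = Spec A: let φ : A → A' and t ∈ A be such that A/t^m → A'/t^m is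
bijective for every m and φ restricts to a bijection between the t-power-torsion submodules; let X
be a quasi-affine scheme over Spec A. Then sections of X over Spec A correspond bijectively to pairs
of an A'-point and an A[1/t]-point of X over A that agree over A'[1/t]. (The published statement
allows a flat A-scheme U as base and X either ind-quasi-affine or subprojective over U; this row is
U = Spec A with X quasi-affine.) -/
theorem result (A A' : Type u) [CommRing A] [CommRing A']
    (φ : A →+* A') (t : A)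
    (hq : ∀ m : ℕ, Function.Bijective (Ideal.quotientMap (Ideal.map φ (Ideal.span {t} ^ m)) φ Ideal.le_comap_map))
    (htor : ∀ a' : A', (∃ m : ℕ, φ t ^ m * a' = 0) → ∃! a : A, (∃ m : ℕ, t ^ m * a = 0) ∧ φ a = a')
    (X : Scheme.{u}) [X.IsQuasiAffine] (p : X ⟶ Spec (CommRingCat.of A)) :
    (∀ s₁ s₂ : Spec (CommRingCat.of A) ⟶ X, s₁ ≫ p = 𝟙 _ → s₂ ≫ p = 𝟙 _ →
        Spec.map (CommRingCat.ofHom φ) ≫ s₁ = Spec.map (CommRingCat.ofHom φ) ≫ s₂ →
        Spec.map (CommRingCat.ofHom (algebraMap A (Localization.Away t))) ≫ s₁ =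
          Spec.map (CommRingCat.ofHom (algebraMap A (Localization.Away t))) ≫ s₂ →
        s₁ = s₂) ∧
    (∀ (x' : Spec (CommRingCat.of A') ⟶ X) (xt : Spec (CommRingCat.of (Localization.Away t)) ⟶ X),
        x' ≫ p = Spec.map (CommRingCat.ofHom φ) →
        xt ≫ p = Spec.map (CommRingCat.ofHom (algebraMap A (Localization.Away t))) →
        Spec.map (CommRingCat.ofHom (algebraMap A' (Localization.Away (φ t)))) ≫ x' =
          Spec.map (CommRingCat.ofHom (Localization.awayMap φ t)) ≫ xt →
        ∃ s : Spec (CommRingCat.of A) ⟶ X, s ≫ p = 𝟙 _ ∧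
          Spec.map (CommRingCat.ofHom φ) ≫ s = x' ∧
          Spec.map (CommRingCat.ofHom (algebraMap A (Localization.Away t))) ≫ s = xt) := by
  letI := φ.toAlgebra
  have h : Groth.L09.GlueRing.Cond (algebraMap A A') t := ⟨hq, htor⟩
  haveI : IsOpenImmersion X.toSpecΓ := inferInstance
  let gt := CommRingCat.ofHom (algebraMap A (Localization.Away t))
  let g' := CommRingCat.ofHom φ
  have hom_ext : ∀ {C : CommRingCat.{u}} (a b : C ⟶ CommRingCat.of A), a ≫ g' = b ≫ g' → a ≫ gt = b ≫ gt → a = b := by
    intro C a b h1 h2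
    ext c
    refine sub_eq_zero.1 (Groth.L09.GlueRing.eq_zero h ?_ ?_)
    · rw [map_sub, sub_eq_zero]; exact congr($h2 c)
    · rw [map_sub, sub_eq_zero]; exact congr($h1 c)
  refine ⟨fun s₁ s₂ _ _ h1 h2 => ?_, fun x' xt hx' hxt hagree => ?_⟩
  · rw [← cancel_mono X.toSpecΓ, ← Spec.map_preimage (s₁ ≫ X.toSpecΓ), ← Spec.map_preimage (s₂ ≫ X.toSpecΓ)]
    refine congrArg Spec.map (hom_ext _ _ (Spec.map_injective ?_) (Spec.map_injective ?_))
    · rw [Spec.map_comp, Spec.map_comp, Spec.map_preimage, Spec.map_preimage, reassoc_of% h1]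
    · rw [Spec.map_comp, Spec.map_comp, Spec.map_preimage, Spec.map_preimage, reassoc_of% h2]
  let α' := Spec.preimage (x' ≫ X.toSpecΓ)
  let αt := Spec.preimage (xt ≫ X.toSpecΓ)
  have hc : α' ≫ CommRingCat.ofHom (algebraMap A' (Localization.Away (φ t))) =
      αt ≫ CommRingCat.ofHom (Localization.awayMap φ t) := by
    apply Spec.map_injective
    rw [Spec.map_comp, Spec.map_comp, Spec.map_preimage, Spec.map_preimage, reassoc_of% hagree]
  choose k hkt hk' using fun c => Groth.L09.GlueRing.exists_eq h (αt c) (α' c) (congr($hc c)).symm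
  have huniq : ∀ a b : A, algebraMap A (Localization.Away t) a = algebraMap A (Localization.Away t) b →
      algebraMap A A' a = algebraMap A A' b → a = b := fun a b e e' =>
    sub_eq_zero.1 (Groth.L09.GlueRing.eq_zero h (by rw [map_sub, e, sub_self]) (by rw [map_sub, e', sub_self]))
  let β : Γ(X, ⊤) ⟶ CommRingCat.of A := CommRingCat.ofHom
    { toFun := k
      map_one' := huniq _ _ (by rw [hkt, map_one, map_one]) (by rw [hk', map_one, map_one])
      map_zero' := huniq _ _ (by rw [hkt, map_zero, map_zero]) (by rw [hk', map_zero, map_zero])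
      map_mul' := fun a b => huniq _ _ (by rw [hkt, map_mul, map_mul, hkt, hkt]) (by rw [hk', map_mul, map_mul, hk', hk'])
      map_add' := fun a b => huniq _ _ (by rw [hkt, map_add, map_add, hkt, hkt]) (by rw [hk', map_add, map_add, hk', hk']) }
  have hβt : Spec.map gt ≫ Spec.map β = xt ≫ X.toSpecΓ := by
    rw [← Spec.map_comp, ← Spec.map_preimage (xt ≫ X.toSpecΓ)]
    exact congrArg Spec.map (CommRingCat.hom_ext (RingHom.ext hkt))
  have hβ' : Spec.map g' ≫ Spec.map β = x' ≫ X.toSpecΓ := by
    rw [← Spec.map_comp, ← Spec.map_preimage (x' ≫ X.toSpecΓ)]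
    exact congrArg Spec.map (CommRingCat.hom_ext (RingHom.ext hk'))
  have hrange : Set.range (Spec.map β) ⊆ Set.range X.toSpecΓ := by
    rintro _ ⟨P, rfl⟩
    let κ := P.asIdeal.ResidueField
    obtain ⟨q, hq⟩ : ∃ q, Spec.map (CommRingCat.ofHom (algebraMap A κ)) q = P := by
      refine ⟨IsLocalRing.closedPoint κ, PrimeSpectrum.ext ?_⟩
      show Ideal.comap (algebraMap A κ) (IsLocalRing.maximalIdeal κ) = _
      rw [IsLocalRing.maximalIdeal_eq_bot]
      exact Ideal.ker_algebraMap_residueField P.asIdeal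
    rcases Groth.L09.GlueRing.exists_point h (κ := κ) with ⟨⟨ψ⟩⟩ | ⟨⟨ψ⟩⟩
    · refine ⟨xt (Spec.map (CommRingCat.ofHom ψ.toRingHom) q), ?_⟩
      refine Eq.trans ?_ (congrArg (Spec.map β) hq)
      rw [← show CommRingCat.ofHom (ψ.toRingHom.comp (algebraMap A (Localization.Away t))) = CommRingCat.ofHom (algebraMap A κ) from
        congrArg CommRingCat.ofHom ψ.comp_algebraMap, CommRingCat.ofHom_comp, Spec.map_comp]
      exact (congrArg (fun l : Spec _ ⟶ Spec _ => l (Spec.map (CommRingCat.ofHom ψ.toRingHom) q)) hβt).symm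
    · refine ⟨x' (Spec.map (CommRingCat.ofHom ψ.toRingHom) q), ?_⟩
      refine Eq.trans ?_ (congrArg (Spec.map β) hq)
      rw [← show CommRingCat.ofHom (ψ.toRingHom.comp (algebraMap A A')) = CommRingCat.ofHom (algebraMap A κ) from
        congrArg CommRingCat.ofHom ψ.comp_algebraMap, CommRingCat.ofHom_comp, Spec.map_comp]
      exact (congrArg (fun l : Spec _ ⟶ Spec _ => l (Spec.map (CommRingCat.ofHom ψ.toRingHom) q)) hβ').symm
  let s := IsOpenImmersion.lift X.toSpecΓ (Spec.map β) hrange
  have hs' : Spec.map g' ≫ s = x' := by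
    rw [← cancel_mono X.toSpecΓ, Category.assoc, IsOpenImmersion.lift_fac, hβ']
  have hst : Spec.map gt ≫ s = xt := by
    rw [← cancel_mono X.toSpecΓ, Category.assoc, IsOpenImmersion.lift_fac, hβt]
  refine ⟨s, ?_, hs', hst⟩
  rw [← Spec.map_preimage (s ≫ p), ← Spec.map_id]
  refine congrArg Spec.map (hom_ext _ _ (Spec.map_injective ?_) (Spec.map_injective ?_))
  · rw [Category.id_comp, Spec.map_comp, Spec.map_preimage, reassoc_of% hs']
    exact hx'
  · rw [Category.id_comp, Spec.map_comp, Spec.map_preimage, reassoc_of% hst]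
    exact hxt

end Groth.Agent.S15769
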