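import Groth.Statements.S1577
import Groth.Agent.L19.Ass.Basic

set_option autoImplicit false
set_option backward.isDefEq.respectTransparency.types false
set_option backward.isDefEq.respectTransparency false
set_option linter.style.haveILetI false
universe u
open CategoryTheory CategoryTheory.Limits AlgebraicGeometry
open Divisors

namespace Groth.Agent.S1577

/-- Let X be locally Noetherian and F quasi-coherent. A point of the support of F which is not a
specialisation of a different point of the support is an associated point of F. -/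
theorem result (X : Scheme.{u}) [IsLocallyNoetherian X]
    (F : X.Modules) (hF : Coh.IsQCoh F) (x : X) (hx : x ∈ CohB1.support F)
    (hmax : ∀ y ∈ CohB1.support F, y ⤳ x → y = x) : Curv2.IsAssPoint F x := by
  haveI := hF
  obtain ⟨_, ⟨V, hV, rfl⟩, hxV, -⟩ :=
    X.isBasis_affineOpens.exists_subset_of_mem_open (Set.mem_univ x) isOpen_univ
  replace hV : IsAffineOpen V := hV
  obtain ⟨m, hm⟩ : ∃ m : F.presheaf.stalk x, m ≠ 0 := by
    by_contra h
    push_neg at h
    exact hx ⟨fun a b => (h a).trans (h b).symm⟩
  letI := Groth.L20.ModStalk.stalkModule F hxV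
  have := Groth.L20.ModStalk.isLocalizedModule_germ F hV hxV
  obtain ⟨⟨s, t⟩, hst⟩ := IsLocalizedModule.surj (hV.primeIdealOf ⟨x, hxV⟩).asIdeal.primeCompl
    (Groth.L20.ModStalk.germₗ F hxV) m
  have hgs : F.presheaf.germ V x hxV s ≠ 0 := by
    intro h0
    refine hm (((Module.End.isUnit_iff _).mp (IsLocalizedModule.map_units
      (Groth.L20.ModStalk.germₗ F hxV) t)).1 ?_)
    simp only [Module.algebraMap_end_apply, smul_zero]
    exact hst.trans h0
  have : IsNoetherianRing Γ(X, V) := IsLocallyNoetherian.component_noetherian ⟨V, hV⟩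
  obtain ⟨q, hq, hqp⟩ := Ideal.exists_minimalPrimes_le
    (I := (⊥ : Submodule Γ(X, V) Γ(F, V)).colon {s}) (J := (hV.primeIdealOf ⟨x, hxV⟩).asIdeal) (fun a ha => by
      by_contra hna
      refine hgs ((IsLocalizedModule.eq_zero_iff (hV.primeIdealOf ⟨x, hxV⟩).asIdeal.primeCompl
        (Groth.L20.ModStalk.germₗ F hxV)).mpr ⟨⟨a, hna⟩, ?_⟩)
      exact (Submodule.mem_bot _).mp (Submodule.mem_colon_singleton.mp ha))
  have := hq.1.1
  have hqass : q ∈ associatedPrimes Γ(X, V) Γ(F, V) := by
    refine associatedPrimes.subset_of_injective (f := (Submodule.span Γ(X, V) {s}).subtype)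
      Subtype.val_injective (Module.associatedPrimes.minimalPrimes_annihilator_subset_associatedPrimes _ _ ?_)
    convert hq using 1
    congr 1
    ext b
    rw [Module.mem_annihilator, Submodule.mem_colon_singleton, Submodule.mem_bot]
    constructor
    · intro h
      exact congrArg Subtype.val (h ⟨s, Submodule.mem_span_singleton_self s⟩)
    · rintro h ⟨n, hn⟩
      obtain ⟨c, rfl⟩ := Submodule.mem_span_singleton.mp hn
      exact Subtype.ext (by show b • c • s = 0; rw [smul_comm, h, smul_zero])
  set y := hV.fromSpec ⟨q, hq.1.1⟩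
  have hy : y ∈ AssSch.Ass F := Groth.L19.Ass.fromSpec_mem_ass F hV hqass
  have hys : y ∈ CohB1.support F := by
    intro hsub
    have := hy
    exact not_isAssociatedPrime_of_subsingleton (I := IsLocalRing.maximalIdeal (X.presheaf.stalk y))
      (M := F.presheaf.stalk y) this
  have hyx : y ⤳ x := by
    have hsp := ((PrimeSpectrum.le_iff_specializes (⟨q, hq.1.1⟩ : PrimeSpectrum Γ(X, V))
      (hV.primeIdealOf ⟨x, hxV⟩)).mp hqp).map hV.fromSpec.continuous
    erw [hV.fromSpec_primeIdealOf] at hsp
    exact hsp
  rw [← hmax y hys hyx]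
  exact hy

end Groth.Agent.S1577
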