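import Groth.Statements.S15770
import Mathlib.Topology.Algebra.Module.ModuleTopology
import Mathlib.Topology.Instances.Matrix
import Mathlib.Algebra.Module.Projective
import Mathlib.RingTheory.Finiteness.Cardinality
import Mathlib.LinearAlgebra.Matrix.ToLin
import Mathlib.LinearAlgebra.Matrix.NonsingularInverse

set_option autoImplicit false
universe u
open CAlg

namespace Groth.Agent.S15770

/-- Let B be a topological ring with Bˣ ⊂ B open and M, M' finitely generated projective B-modules, and
endow Hom_B(M, M') with the module topology (the canonical topology of a finite module). Then the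
set of surjective B-linear maps M → M' is open. -/
theorem result (B : Type u) [CommRing B] [TopologicalSpace B]
    [IsTopologicalRing B] (hB : IsOpen {b : B | IsUnit b})
    (M M' : Type u) [AddCommGroup M] [Module B M] [Module.Finite B M] [Module.Projective B M]
    [AddCommGroup M'] [Module B M'] [Module.Finite B M'] [Module.Projective B M']
    [TopologicalSpace (M →ₗ[B] M')] [IsModuleTopology B (M →ₗ[B] M')] :
    IsOpen {f : M →ₗ[B] M' | Function.Surjective f} := by
  classical
  refine isOpen_iff_forall_mem_open.mpr fun f hf => ?_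
  obtain ⟨s, hs⟩ := Module.projective_lifting_property f LinearMap.id hf
  obtain ⟨n, π, hπ⟩ := Module.Finite.exists_fin' B M'
  obtain ⟨i, hi⟩ := Module.projective_lifting_property π LinearMap.id hπ
  let E : (M →ₗ[B] M') →ₗ[B] Matrix (Fin n) (Fin n) B :=
    LinearMap.toMatrix'.toLinearMap ∘ₗ LinearMap.llcomp B (Fin n → B) M' (Fin n → B) i ∘ₗ
      LinearMap.lcomp B M' (s ∘ₗ π)
  let c : Matrix (Fin n) (Fin n) B := LinearMap.toMatrix' (LinearMap.id - i ∘ₗ π)
  have hE : ∀ g, E g = LinearMap.toMatrix' (i ∘ₗ g ∘ₗ s ∘ₗ π) := fun g => rfl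
  refine ⟨{g | IsUnit (E g + c).det}, fun g hg => ?_, ?_, ?_⟩
  · have h1 : IsUnit (E g + c) := (Matrix.isUnit_iff_isUnit_det _).mpr hg
    intro y
    obtain ⟨u, hu⟩ := h1
    have h2 : Matrix.toLin' (E g + c) = i ∘ₗ g ∘ₗ s ∘ₗ π + (LinearMap.id - i ∘ₗ π) := by
      rw [map_add, hE, Matrix.toLin'_toMatrix', Matrix.toLin'_toMatrix']
    let v := Matrix.toLin' (↑u⁻¹ : Matrix (Fin n) (Fin n) B) (i y)
    have hv : Matrix.toLin' (E g + c) v = i y := by
      simp only [v]
      rw [← LinearMap.comp_apply, ← Matrix.toLin'_mul, ← hu, Units.mul_inv, Matrix.toLin'_one,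
        LinearMap.id_apply]
    have hpi : ∀ z, π (i z) = z := fun z => LinearMap.congr_fun hi z
    have h3 := congrArg π hv
    rw [h2] at h3
    simp only [LinearMap.add_apply, LinearMap.sub_apply, LinearMap.comp_apply, LinearMap.id_apply,
      map_add, map_sub, hpi, sub_self, add_zero] at h3
    exact ⟨s (π v), h3⟩
  · refine hB.preimage ?_
    exact ((IsModuleTopology.continuous_of_linearMap E).add continuous_const).matrix_det
  · show IsUnit (E f + c).det
    rw [hE, ← map_add, ← LinearMap.comp_assoc π s f, hs, LinearMap.id_comp, add_sub_cancel,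
      LinearMap.toMatrix'_id, Matrix.det_one]
    exact isUnit_one

end Groth.Agent.S15770
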