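import Groth.Statements.S15771
import Mathlib.Topology.Algebra.Module.Basic
import Mathlib.LinearAlgebra.TensorProduct.Basic
import Mathlib.Topology.Algebra.Group.Basic
import Mathlib.RingTheory.TensorProduct.Basic

set_option autoImplicit false
universe u
open TensorProduct
open CAlg

namespace Groth.Agent.S15771

/-- For a ring map B₀ → B with dense image into a topological ring B, a finitely generated B₀-module M₀
and any topological B-module structure on M = B ⊗_{B₀} M₀, the natural map M₀ → M has dense image. -/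
theorem result (B₀ B : Type u) [CommRing B₀] [CommRing B] [Algebra B₀ B]
    [TopologicalSpace B] [IsTopologicalRing B] (hφ : DenseRange (algebraMap B₀ B))
    (M₀ : Type u) [AddCommGroup M₀] [Module B₀ M₀] [Module.Finite B₀ M₀]
    [TopologicalSpace (B ⊗[B₀] M₀)] [IsTopologicalAddGroup (B ⊗[B₀] M₀)] [ContinuousSMul B (B ⊗[B₀] M₀)] :
    DenseRange (fun m : M₀ => (1 : B) ⊗ₜ[B₀] m) := by
  let ι : M₀ →+ (B ⊗[B₀] M₀) := (TensorProduct.mk B₀ B M₀ 1).toAddMonoidHom
  let K : AddSubgroup (B ⊗[B₀] M₀) := ι.range.topologicalClosure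
  suffices h : ∀ z, z ∈ K by
    intro z
    have := h z
    exact this
  intro z
  induction z using TensorProduct.induction_on with
  | zero => exact zero_mem K
  | tmul b m =>
    have hc : Continuous (fun c : B => c • ((1 : B) ⊗ₜ[B₀] m)) := by fun_prop
    have hm := map_mem_closure hc (hφ b) (t := (ι.range : Set (B ⊗[B₀] M₀))) (by
      rintro _ ⟨a, rfl⟩
      exact ⟨a • m, by change (1 : B) ⊗ₜ[B₀] (a • m) = _; rw [TensorProduct.tmul_smul]; exact (algebraMap_smul B a _).symm⟩)
    have he : b • ((1 : B) ⊗ₜ[B₀] m) = b ⊗ₜ[B₀] m := by rw [TensorProduct.smul_tmul', smul_eq_mul, mul_one]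
    rw [he] at hm
    exact hm
  | add x y hx hy => exact add_mem hx hy

end Groth.Agent.S15771
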