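import Groth.Statements.S15773
import Groth.Agent.L01.AvoidFibre

set_option autoImplicit false
universe u
open Polynomial
open CAlg

namespace Groth.Agent.S15773

/-- For a Henselian local ring (R, m), a henselization B of R[t] along (t), L = B[1/t] and the R-algebra
map ψ : R[s] → L sending s to t⁻¹, extension and contraction along ψ are mutually inverse bijections
between the ideals of R[s] comaximal with mR[s] and the ideals of L comaximal with mL, and R[s]/I →
L/IL is bijective for every such I. (The published statement is phrased with closed subschemes of
Spec R[t⁻¹] and of Spec L not meeting the residue fibre, matched by base change and schematic image,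
and treats the localisation (R[t]_{1+tR[t]})[1/t] alongside R{t}[1/t]; this row states it with
ideals and includes the bijection of the corresponding quotient rings.) -/
theorem result (R : Type u) [CommRing R]
    [HenselianLocalRing R] (B : Type u) [CommRing B] [Algebra R B] [Algebra R[X] B] [IsScalarTower R R[X] B]
    (hB : Hens2.IsPairHenselization R[X] (Ideal.span {(X : R[X])}) B)
    (ψ : R[X] →ₐ[R] Localization.Away (algebraMap R[X] B X))
    (hψ : ψ X * algebraMap B (Localization.Away (algebraMap R[X] B X)) (algebraMap R[X] B X) = 1) :
    (∀ I : Ideal R[X], I ⊔ (IsLocalRing.maximalIdeal R).map (algebraMap R R[X]) = ⊤ →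
        (I.map ψ.toRingHom).comap ψ.toRingHom = I ∧
        I.map ψ.toRingHom ⊔ (IsLocalRing.maximalIdeal R).map
          (algebraMap R (Localization.Away (algebraMap R[X] B X))) = ⊤ ∧
        Function.Bijective (Ideal.quotientMap (I.map ψ.toRingHom) ψ.toRingHom Ideal.le_comap_map)) ∧
    (∀ J : Ideal (Localization.Away (algebraMap R[X] B X)),
        J ⊔ (IsLocalRing.maximalIdeal R).map (algebraMap R (Localization.Away (algebraMap R[X] B X))) = ⊤ →
        (J.comap ψ.toRingHom).map ψ.toRingHom = J ∧
        J.comap ψ.toRingHom ⊔ (IsLocalRing.maximalIdeal R).map (algebraMap R R[X]) = ⊤) := by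
  exact L01.AvoidFibre.main_hens hB ψ hψ


end Groth.Agent.S15773
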