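import Groth.Statements.S15774
import Mathlib.RingTheory.AdicCompletion.Completeness
import Mathlib.RingTheory.AdicCompletion.Algebra
import Mathlib.RingTheory.AdicCompletion.LocalRing
import Mathlib.RingTheory.Henselian
import Mathlib.Tactic.ComputeDegree
import Mathlib.Tactic.LinearCombination

set_option autoImplicit false
universe u
open CAlg

namespace Groth.Agent.S15774

section Helpers

variable {B : Type u} [CommRing B] {t : B}

lemma exists_rep (e : Localization.Away t) (he : IsIdempotentElem e) :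
    ∃ (n : ℕ) (b : B), b * b = t ^ n * b ∧
      algebraMap B (Localization.Away t) b = e * algebraMap B (Localization.Away t) (t ^ n) := by
  obtain ⟨⟨b₀, ⟨_, n₀, rfl⟩⟩, hb₀⟩ := IsLocalization.surj (Submonoid.powers t) e
  simp only at hb₀
  have h2 : algebraMap B (Localization.Away t) (b₀ * b₀) = algebraMap B _ (t ^ n₀ * b₀) := by
    rw [map_mul, map_mul, ← hb₀]
    calc e * algebraMap B _ (t ^ n₀) * (e * algebraMap B _ (t ^ n₀))
        = (e * e) * algebraMap B _ (t ^ n₀) * algebraMap B _ (t ^ n₀) := by ring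
      _ = _ := by rw [he.eq]; ring
  obtain ⟨⟨_, m, rfl⟩, hm⟩ := (IsLocalization.eq_iff_exists (Submonoid.powers t) _).mp h2
  simp only at hm
  refine ⟨n₀ + m, t ^ m * b₀, ?_, ?_⟩
  · calc t ^ m * b₀ * (t ^ m * b₀) = t ^ m * (t ^ m * (b₀ * b₀)) := by ring
      _ = t ^ m * (t ^ m * (t ^ n₀ * b₀)) := by rw [hm]
      _ = _ := by ring
  · rw [map_mul, ← hb₀, pow_add, map_mul]; ring

lemma pad_rep {n : ℕ} {b : B} {e : Localization.Away t} (k : ℕ) (hb : b * b = t ^ n * b)
    (hbe : algebraMap B (Localization.Away t) b = e * algebraMap B _ (t ^ n)) :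
    t ^ k * b * (t ^ k * b) = t ^ (k + n) * (t ^ k * b) ∧
      algebraMap B (Localization.Away t) (t ^ k * b) = e * algebraMap B _ (t ^ (k + n)) := by
  refine ⟨?_, by rw [map_mul, hbe, pow_add, map_mul]; ring⟩
  calc t ^ k * b * (t ^ k * b) = t ^ k * t ^ k * (b * b) := by ring
    _ = _ := by rw [hb]; ring

lemma vanish (ht : t ∈ Ideal.jacobson (⊥ : Ideal B)) {n : ℕ} {b : B} (hb : b * b = t ^ n * b)
    (hmem : b ∈ Ideal.span {t ^ (n + 1)}) : t ^ n * b = 0 := by
  obtain ⟨c, hc⟩ := Ideal.mem_span_singleton'.mp hmem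
  have h1 : t ^ n * b * (t * c - 1) = 0 := by
    have : b * b = t ^ n * b * (t * c) := by
      calc b * b = b * (c * t ^ (n + 1)) := by rw [hc]
        _ = _ := by ring
    rw [mul_sub, ← this, hb, mul_one, sub_self]
  have hu : IsUnit (t * c - 1) := by
    have := (Ideal.mem_jacobson_bot.mp ht) (-c)
    rw [show t * -c + 1 = -(t * c - 1) by ring] at this
    exact (IsUnit.neg_iff _).mp this
  exact hu.mul_left_eq_zero.mp h1

lemma eq_of_congr (ht : t ∈ Ideal.jacobson (⊥ : Ideal B)) {n : ℕ} {b b' : B}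
    {e e' : Localization.Away t} (hb : b * b = t ^ n * b) (hb' : b' * b' = t ^ n * b')
    (hbe : algebraMap B (Localization.Away t) b = e * algebraMap B _ (t ^ n))
    (hbe' : algebraMap B (Localization.Away t) b' = e' * algebraMap B _ (t ^ n))
    (h : b - b' ∈ Ideal.span {t ^ (2 * n + 1)}) : e = e' := by
  have hcross : ∀ (p q : B) (x y : Localization.Away t), p * p = t ^ n * p → q * q = t ^ n * q →
      algebraMap B (Localization.Away t) p = x * algebraMap B _ (t ^ n) →
      algebraMap B (Localization.Away t) q = y * algebraMap B _ (t ^ n) →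
      p - q ∈ Ideal.span {t ^ (2 * n + 1)} → x * (1 - y) = 0 := by
    intro p q x y hp hq hpx hqy hpq
    have hc : p * (t ^ n - q) ∈ Ideal.span {t ^ (2 * n + 1)} := by
      rw [show p * (t ^ n - q) = p * (p - q) by linear_combination -hp]
      exact Ideal.mul_mem_left _ _ hpq
    have hsq : p * (t ^ n - q) * (p * (t ^ n - q)) = t ^ (2 * n) * (p * (t ^ n - q)) := by
      linear_combination (t ^ n - q) * (t ^ n - q) * hp + t ^ n * p * hq
    have h0 := congrArg (algebraMap B (Localization.Away t)) (vanish ht hsq hc)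
    rw [map_mul, map_mul, map_sub, hpx, hqy, map_zero] at h0
    have htu : IsUnit (algebraMap B (Localization.Away t) (t ^ n)) :=
      IsLocalization.map_units _ (⟨_, n, rfl⟩ : Submonoid.powers t)
    have htu2 : IsUnit (algebraMap B (Localization.Away t) (t ^ (2 * n))) :=
      IsLocalization.map_units _ (⟨_, 2 * n, rfl⟩ : Submonoid.powers t)
    apply htu.mul_right_eq_zero.mp
    apply htu.mul_right_eq_zero.mp
    apply htu2.mul_right_eq_zero.mp
    linear_combination h0
  have h1 := hcross b b' e e' hb hb' hbe hbe' h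
  have h2 := hcross b' b e' e hb' hb hbe' hbe (by rw [← neg_sub]; exact Ideal.neg_mem_iff _ |>.mpr h)
  linear_combination h1 - h2

end Helpers

/-- The instance A[1/t] → Â[1/t]: if (A, tA) is a Henselian pair and the t-power torsion of A is
bounded, then every idempotent of Â[1/t] (Â the t-adic completion) comes from a unique idempotent of
A[1/t]. -/
theorem result (A : Type u) [CommRing A] (t : A) [HenselianRing A (Ideal.span {t})]
    (hbd : ∃ N : ℕ, ∀ a : A, (∃ m : ℕ, t ^ m * a = 0) → t ^ N * a = 0)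
    (e : Localization.Away (algebraMap A (AdicCompletion (Ideal.span {t}) A) t)) (he : IsIdempotentElem e) :
    ∃! e₀ : Localization.Away t, IsIdempotentElem e₀ ∧ Localization.awayMap (algebraMap A (AdicCompletion (Ideal.span {t}) A)) t e₀ = e := by
  classical
  have hfg : (Ideal.span {t}).FG := Submodule.fg_span_singleton t
  let f : A →+* AdicCompletion (Ideal.span {t}) A := algebraMap A _
  have hmap : ∀ k : ℕ, ((Ideal.span {t}) ^ k).map f = Ideal.span {f t ^ k} := fun k => by
    rw [Ideal.span_singleton_pow, Ideal.map_span, Set.image_singleton, map_pow]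
  have F1 : ∀ (k : ℕ) (a : A), f a ∈ Ideal.span {f t ^ k} → a ∈ Ideal.span {t ^ k} := by
    intro k a ha
    obtain ⟨c, hc⟩ := Ideal.mem_span_singleton'.mp ha
    have h1 : AdicCompletion.evalₐ (Ideal.span {t}) k (f a) = Ideal.Quotient.mk ((Ideal.span {t}) ^ k) a :=
      (AdicCompletion.evalₐ (Ideal.span {t}) k).commutes a
    have h2 : AdicCompletion.evalₐ (Ideal.span {t}) k (f t ^ k) = Ideal.Quotient.mk ((Ideal.span {t}) ^ k) (t ^ k) := by
      rw [← map_pow]; exact (AdicCompletion.evalₐ (Ideal.span {t}) k).commutes _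
    rw [← Ideal.span_singleton_pow, ← Ideal.Quotient.eq_zero_iff_mem, ← h1, ← hc, map_mul, h2,
      Ideal.Quotient.eq_zero_iff_mem.mpr (Ideal.pow_mem_pow (Ideal.mem_span_singleton_self t) k), mul_zero]
  have F2 : ∀ (k : ℕ) (p : AdicCompletion (Ideal.span {t}) A), ∃ a : A, p - f a ∈ Ideal.span {f t ^ k} := by
    intro k p
    obtain ⟨r, hr⟩ := Submodule.Quotient.mk_surjective _ (AdicCompletion.eval (Ideal.span {t}) A k p)
    refine ⟨r, ?_⟩
    have h : p - f r ∈ (Ideal.span {t}) ^ k • (⊤ : Submodule A (AdicCompletion (Ideal.span {t}) A)) := by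
      rw [AdicCompletion.pow_smul_top_eq_ker_eval hfg, LinearMap.mem_ker, map_sub, sub_eq_zero, ← hr]
      rfl
    rw [Ideal.smul_top_eq_map] at h
    rw [← hmap]
    exact h
  have F3 : f t ∈ Ideal.jacobson (⊥ : Ideal (AdicCompletion (Ideal.span {t}) A)) := by
    haveI := AdicCompletion.isAdicComplete_self (Ideal.span {t}) hfg
    exact IsAdicComplete.le_jacobson_bot ((Ideal.span {t}).map f) (Ideal.mem_map_of_mem _ (Ideal.mem_span_singleton_self t))
  have htA : t ∈ Ideal.jacobson (⊥ : Ideal A) :=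
    HenselianRing.jac (I := Ideal.span {t}) (Ideal.mem_span_singleton_self t)
  let L := Localization.Away (algebraMap A (AdicCompletion (Ideal.span {t}) A) t)
  let φ : Localization.Away t →+* L := Localization.awayMap (algebraMap A (AdicCompletion (Ideal.span {t}) A)) t
  have hφ : ∀ a, φ (algebraMap A (Localization.Away t) a) = algebraMap (AdicCompletion (Ideal.span {t}) A) L (f a) :=
    fun a => IsLocalization.map_eq _ a
  -- uniqueness
  have huniq : ∀ x y : Localization.Away t, IsIdempotentElem x → IsIdempotentElem y → φ x = φ y → x = y := by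
    intro x y hx hy hxy
    obtain ⟨n, b, hb, hbe⟩ := exists_rep x hx
    obtain ⟨n', b', hb', hbe'⟩ := exists_rep y hy
    obtain ⟨hb1, hbe1⟩ := pad_rep n' hb hbe
    obtain ⟨hb2, hbe2⟩ := pad_rep n hb' hbe'
    rw [add_comm n' n] at hb1 hbe1
    have heq : algebraMap (AdicCompletion (Ideal.span {t}) A) L (f (t ^ n' * b)) =
        algebraMap (AdicCompletion (Ideal.span {t}) A) L (f (t ^ n * b')) := by
      rw [← hφ, ← hφ, hbe1, hbe2, map_mul, map_mul, hxy]
    obtain ⟨⟨_, k, rfl⟩, hk⟩ := (IsLocalization.eq_iff_exists (Submonoid.powers (f t)) L).mp heq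
    simp only [← map_pow, ← map_mul] at hk
    obtain ⟨hb3, hbe3⟩ := pad_rep k hb1 hbe1
    obtain ⟨hb4, hbe4⟩ := pad_rep k hb2 hbe2
    refine eq_of_congr htA hb3 hb4 hbe3 hbe4 (F1 _ _ ?_)
    rw [map_sub, hk, sub_self]
    exact Submodule.zero_mem _
  -- existence
  obtain ⟨n, p, hp, hpe⟩ := exists_rep e he
  have htt : algebraMap A (AdicCompletion (Ideal.span {t}) A) t = f t := rfl
  rw [htt] at hp
  obtain ⟨a, ha⟩ := F2 (4 * n + 1) p
  obtain ⟨c, hc⟩ : ∃ c, c * t ^ (4 * n + 1) = a * a - t ^ n * a := by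
    refine Ideal.mem_span_singleton'.mp (F1 _ _ ?_)
    rw [show f (a * a - t ^ n * a) = (p - f a) * (-(p + f a) + f t ^ n) + (p * p - f t ^ n * p) by
      rw [map_sub, map_mul, map_mul, map_pow]; ring, hp, sub_self, add_zero]
    exact Ideal.mul_mem_right _ _ ha
  have hu : IsUnit (1 + 4 * t ^ (2 * n + 1) * c) := by
    have := (Ideal.mem_jacobson_bot.mp htA) (4 * t ^ (2 * n) * c)
    rwa [show t * (4 * t ^ (2 * n) * c) + 1 = 1 + 4 * t ^ (2 * n + 1) * c by ring] at this
  obtain ⟨u, hu⟩ := hu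
  set w := t ^ (2 * n + 1) * (c * ↑u⁻¹) with hw
  have hwI : w ∈ (Ideal.span {t}) := Ideal.mul_mem_right _ _
    (Ideal.pow_mem_of_mem _ (Ideal.mem_span_singleton_self t) _ (by omega))
  obtain ⟨y, hy, hyI⟩ := HenselianRing.is_henselian (I := Ideal.span {t})
    (Polynomial.X ^ 2 + Polynomial.X + Polynomial.C w) (by monicity!) 0
    (by simp [hwI]) (by simp)
  simp only [Polynomial.IsRoot.def, Polynomial.eval_add, Polynomial.eval_pow, Polynomial.eval_X,
    Polynomial.eval_C] at hy
  rw [sub_zero] at hyI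
  obtain ⟨v, hv⟩ : IsUnit (1 + y) := by
    obtain ⟨z, hz⟩ := Ideal.mem_span_singleton'.mp hyI
    have := (Ideal.mem_jacobson_bot.mp htA) z
    rwa [show t * z + 1 = 1 + y by rw [← hz]; ring] at this
  have hymem : y = t ^ (2 * n + 1) * (-(c * ↑u⁻¹) * ↑v⁻¹) := by
    have h1 : y * (1 + y) = -w := by linear_combination hy
    calc y = y * (1 + y) * ↑v⁻¹ := by rw [← hv, mul_assoc, Units.mul_inv, mul_one]
      _ = _ := by rw [h1, hw]; ring
  set x := a + (2 * a - t ^ n) * y with hxdef
  have hx : x * x = t ^ n * x := by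
    have hD : (2 * a - t ^ n) * (2 * a - t ^ n) = t ^ (2 * n) * (1 + 4 * t ^ (2 * n + 1) * c) := by
      linear_combination -(4 * hc)
    have hwu : t ^ (2 * n) * (1 + 4 * t ^ (2 * n + 1) * c) * w = a * a - t ^ n * a := by
      rw [← hu, hw, ← hc, ← mul_one c]
      conv_rhs => rw [← Units.mul_inv u]
      ring
    linear_combination (y ^ 2 + y) * hD + (t ^ (2 * n) * (1 + 4 * t ^ (2 * n + 1) * c)) * hy - hwu
  have htu : IsUnit (algebraMap A (Localization.Away t) (t ^ n)) :=
    IsLocalization.map_units _ (⟨_, n, rfl⟩ : Submonoid.powers t)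
  obtain ⟨s, hs⟩ := htu
  set e₀ := algebraMap A (Localization.Away t) x * ↑s⁻¹ with he₀
  have hxe : algebraMap A (Localization.Away t) x = e₀ * algebraMap A _ (t ^ n) := by
    rw [he₀, ← hs, mul_assoc, Units.inv_mul, mul_one]
  have he₀i : IsIdempotentElem e₀ := by
    have h1 := congrArg (algebraMap A (Localization.Away t)) hx
    rw [map_mul, map_mul, hxe, ← hs] at h1
    apply s.isUnit.mul_left_cancel
    apply s.isUnit.mul_left_cancel
    linear_combination h1
  have hφe : φ e₀ = e := by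
    refine eq_of_congr (B := AdicCompletion (Ideal.span {t}) A) (t := f t) (n := n) (b := f x) (b' := p) F3 ?_ hp ?_ hpe ?_
    · rw [← map_pow, ← map_mul, ← map_mul, hx]
    · rw [← hφ, hxe, map_mul, hφ, map_pow]
    · rw [show f x - p = -(p - f a) + f ((2 * a - t ^ n) * y) by rw [hxdef, map_add]; ring]
      refine Ideal.add_mem _ ?_ ?_
      · refine Ideal.neg_mem_iff _ |>.mpr (Ideal.span_singleton_le_span_singleton.mpr ?_ ha)
        exact pow_dvd_pow _ (by omega)
      · rw [hymem, map_mul, map_mul, map_pow]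
        exact Ideal.mul_mem_left _ _ (Ideal.mul_mem_right _ _ (Ideal.mem_span_singleton_self _))
  exact ⟨e₀, ⟨he₀i, hφe⟩, fun z ⟨hz, hz'⟩ => huniq z e₀ hz he₀i (hz'.trans hφe.symm)⟩


end Groth.Agent.S15774
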