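import Groth.Statements.S15778
import Groth.Agent.L01.ApproxProj
import Mathlib.RingTheory.AdicCompletion.LocalRing

set_option autoImplicit false
universe u
open TensorProduct
open CAlg

namespace Groth.Agent.S15778

/-- The instance A[1/t] → Â[1/t] for modules: let t lie in the Jacobson radical of A (a Zariski pair (A,
tA)) with bounded t-power torsion, Â the t-adic completion, and give Â[1/t] the A[1/t]-algebra
structure of the canonical map. Then finitely generated projective A[1/t]-modules isomorphic over
Â[1/t] are isomorphic, and every stably free Â[1/t]-module is extended from a stably free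
A[1/t]-module. (The published statement also asserts injectivity on H¹ for inner forms of GL_n; this
row omits that clause.) -/
theorem result (A : Type u) [CommRing A]
    (t : A) (ht : t ∈ (⊥ : Ideal A).jacobson)
    (hbd : ∃ N : ℕ, ∀ a : A, (∃ m : ℕ, t ^ m * a = 0) → t ^ N * a = 0)
    [Algebra (Localization.Away t) (Localization.Away (algebraMap A (AdicCompletion (Ideal.span {t}) A) t))]
    (halg : algebraMap (Localization.Away t) (Localization.Away (algebraMap A (AdicCompletion (Ideal.span {t}) A) t)) = Localization.awayMap (algebraMap A (AdicCompletion (Ideal.span {t}) A)) t) :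
    (∀ (M N : Type u) [AddCommGroup M] [Module (Localization.Away t) M] [Module.Finite (Localization.Away t) M] [Module.Projective (Localization.Away t) M]
        [AddCommGroup N] [Module (Localization.Away t) N] [Module.Finite (Localization.Away t) N] [Module.Projective (Localization.Away t) N],
        Nonempty ((Localization.Away (algebraMap A (AdicCompletion (Ideal.span {t}) A) t)) ⊗[Localization.Away t] M ≃ₗ[Localization.Away (algebraMap A (AdicCompletion (Ideal.span {t}) A) t)] (Localization.Away (algebraMap A (AdicCompletion (Ideal.span {t}) A) t)) ⊗[Localization.Away t] N) → Nonempty (M ≃ₗ[Localization.Away t] N)) ∧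
    (∀ (M' : Type u) [AddCommGroup M'] [Module (Localization.Away (algebraMap A (AdicCompletion (Ideal.span {t}) A) t)) M'] [Module.Finite (Localization.Away (algebraMap A (AdicCompletion (Ideal.span {t}) A) t)) M'],
        (∃ n m : ℕ, Nonempty ((M' × (Fin n → Localization.Away (algebraMap A (AdicCompletion (Ideal.span {t}) A) t))) ≃ₗ[Localization.Away (algebraMap A (AdicCompletion (Ideal.span {t}) A) t)] (Fin m → Localization.Away (algebraMap A (AdicCompletion (Ideal.span {t}) A) t)))) →
        ∃ (M : Type u) (_ : AddCommGroup M) (_ : Module (Localization.Away t) M), Module.Finite (Localization.Away t) M ∧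
          (∃ n m : ℕ, Nonempty ((M × (Fin n → Localization.Away t)) ≃ₗ[Localization.Away t] (Fin m → Localization.Away t))) ∧
          Nonempty ((Localization.Away (algebraMap A (AdicCompletion (Ideal.span {t}) A) t)) ⊗[Localization.Away t] M ≃ₗ[Localization.Away (algebraMap A (AdicCompletion (Ideal.span {t}) A) t)] M')) := by
  have hfg : (Ideal.span {t}).FG := ⟨{t}, by simp⟩
  haveI : IsScalarTower A (Localization.Away t)
      (Localization.Away (algebraMap A (AdicCompletion (Ideal.span {t}) A) t)) :=
    IsScalarTower.of_algebraMap_eq fun a => by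
      rw [halg]
      refine Eq.trans ?_ (IsLocalization.map_eq _ a).symm
      exact IsScalarTower.algebraMap_apply A (AdicCompletion (Ideal.span {t}) A) _ a
  haveI := AdicCompletion.isAdicComplete_self (Ideal.span {t}) hfg
  have h : L01.ApproxProj.Setup A (AdicCompletion (Ideal.span {t}) A) (Localization.Away t)
      (Localization.Away (algebraMap A (AdicCompletion (Ideal.span {t}) A) t)) t := by
    refine ⟨inferInstance, inferInstance, ht, IsAdicComplete.le_jacobson_bot
      ((Ideal.span {t}).map (algebraMap A (AdicCompletion (Ideal.span {t}) A))) (Ideal.mem_map_of_mem _ (Ideal.mem_span_singleton_self t)),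
      fun m x => ?_, fun m a ha => ?_⟩
    · obtain ⟨a, ha⟩ := Submodule.Quotient.mk_surjective _ (AdicCompletion.eval (Ideal.span {t}) A m x)
      have hker : x - algebraMap A (AdicCompletion (Ideal.span {t}) A) a ∈ (AdicCompletion.eval (Ideal.span {t}) A m).ker := by
        rw [LinearMap.mem_ker, map_sub, AdicCompletion.algebraMap_apply]
        refine sub_eq_zero.2 ?_
        exact ha.symm
      rw [← AdicCompletion.pow_smul_top_eq_ker_eval hfg, Ideal.span_singleton_pow,
        Submodule.ideal_span_singleton_smul] at hker
      obtain ⟨y, -, hy⟩ := (Submodule.mem_smul_pointwise_iff_exists _ _ _).1 hker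
      refine ⟨a, y, ?_⟩
      rw [← hy, Algebra.smul_def, map_pow]
    · obtain ⟨y, hy⟩ := ha
      have h1 := congrArg (AdicCompletion.evalₐ (Ideal.span {t}) m) hy
      rw [map_mul, map_pow, AlgHom.commutes, AlgHom.commutes, ← map_pow] at h1
      have h2 : algebraMap A (A ⧸ (Ideal.span {t}) ^ m) (t ^ m) = 0 :=
        Ideal.Quotient.eq_zero_iff_mem.2 (Ideal.pow_mem_pow (Ideal.mem_span_singleton_self t) m)
      rw [h2, zero_mul] at h1
      have h3 := Ideal.Quotient.eq_zero_iff_mem.1 h1
      rwa [Ideal.span_singleton_pow, Ideal.mem_span_singleton] at h3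
  exact ⟨fun M N _ _ _ _ _ _ _ _ ⟨e⟩ => L01.ApproxProj.nonempty_linearEquiv h M N e,
    fun M' _ _ _ hM' => L01.ApproxProj.exists_stablyFree h M' hM'⟩


end Groth.Agent.S15778
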