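import Groth.Statements.S15779
import Groth.Agent.L01.AvoidFibre
import Mathlib.RingTheory.PowerSeries.Inverse

set_option autoImplicit false
universe u
open Polynomial
open CAlg

namespace Groth.Agent.S15779

/-- For a Henselian local ring (R, m), L the localisation of R[t] at the monoid generated by t and the
polynomials with constant term 1, and ψ : R[s] → L the R-algebra map with s ↦ t⁻¹, extension and
contraction along ψ are mutually inverse bijections between the ideals of R[s] comaximal with mR[s]
and the ideals of L comaximal with mL, and R[s]/I → L/IL is bijective for every such I. -/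
theorem result (R : Type u) [CommRing R]
    [HenselianLocalRing R] (L : Type u) [CommRing L] [Algebra R[X] L]
    [IsLocalization (Submonoid.closure ({f : R[X] | f.coeff 0 = 1} ∪ {X})) L]
    [Algebra R L] [IsScalarTower R R[X] L]
    (ψ : R[X] →ₐ[R] L) (hψ : ψ X * algebraMap R[X] L X = 1) :
    (∀ I : Ideal R[X], I ⊔ (IsLocalRing.maximalIdeal R).map (algebraMap R R[X]) = ⊤ →
        (I.map ψ.toRingHom).comap ψ.toRingHom = I ∧
        I.map ψ.toRingHom ⊔ (IsLocalRing.maximalIdeal R).map (algebraMap R L) = ⊤ ∧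
        Function.Bijective (Ideal.quotientMap (I.map ψ.toRingHom) ψ.toRingHom Ideal.le_comap_map)) ∧
    (∀ J : Ideal L, J ⊔ (IsLocalRing.maximalIdeal R).map (algebraMap R L) = ⊤ →
        (J.comap ψ.toRingHom).map ψ.toRingHom = J ∧
        J.comap ψ.toRingHom ⊔ (IsLocalRing.maximalIdeal R).map (algebraMap R R[X]) = ⊤) := by
  set T := algebraMap R[X] L X with hT
  have hTa : ∀ p : R[X], algebraMap R[X] L p = aeval T p := fun p =>
    DFunLike.congr_fun (Polynomial.algHom_ext (f := IsScalarTower.toAlgHom R R[X] L) (g := aeval T)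
      (by rw [aeval_X]; rfl)) p
  have hψe : ∀ p, ψ p = aeval (ψ X) p := fun p =>
    DFunLike.congr_fun (Polynomial.algHom_ext (f := ψ) (g := aeval (ψ X)) (by rw [aeval_X])) p
  have hTψ : T * ψ X = 1 := by rw [mul_comm]; exact hψ
  have key : ∀ (p : R[X]) (n : ℕ), p.natDegree ≤ n → algebraMap R[X] L (reflect n p) = T ^ n * ψ p :=
    fun p n hn => by rw [hTa, L01.AvoidFibre.aeval_reflect hTψ n p hn, ← hψe]
  have hTu : IsUnit T := IsUnit.of_mul_eq_one _ hTψ
  have hden : ∀ x ∈ Submonoid.closure ({f : R[X] | f.coeff 0 = 1} ∪ {X}),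
      ∃ (k : ℕ) (f : R[X]), f.coeff 0 = 1 ∧ x = X ^ k * f := by
    intro x hx
    induction hx using Submonoid.closure_induction with
    | mem x hx =>
      rcases hx with hx | hx
      · exact ⟨0, x, hx, by rw [pow_zero, one_mul]⟩
      · exact ⟨1, 1, coeff_one_zero, by rw [Set.mem_singleton_iff.1 hx, pow_one, mul_one]⟩
    | one => exact ⟨0, 1, coeff_one_zero, by simp⟩
    | mul x y _ _ hx hy =>
      obtain ⟨k, f, hf, rfl⟩ := hx
      obtain ⟨l, g, hg, rfl⟩ := hy
      exact ⟨k + l, f * g, by rw [mul_coeff_zero, hf, hg, one_mul], by rw [pow_add]; ring⟩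
  have hrefl : ∀ (p : R[X]) (N : ℕ), p.natDegree ≤ N → (reflect N p).natDegree ≤ N := fun p N hN =>
    natDegree_le_iff_coeff_eq_zero.2 fun i hi => by
      rw [coeff_reflect, revAt_eq_self_of_lt hi]
      exact coeff_eq_zero_of_natDegree_lt (lt_of_le_of_lt hN hi)
  have hrr : ∀ (p : R[X]) (N : ℕ), reflect N (reflect N p) = p := fun p N => by
    ext i; rw [coeff_reflect, coeff_reflect, revAt_invol]
  refine L01.AvoidFibre.main_monic ψ (fun b hb => ?_) (fun l => ?_) (fun p hp => ?_)
  · have h0 : (reflect b.natDegree b).coeff 0 = 1 := by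
      rw [coeff_reflect, revAt_le (Nat.zero_le _), Nat.sub_zero, hb.coeff_natDegree]
    have h1 : IsUnit (algebraMap R[X] L (reflect b.natDegree b)) := IsLocalization.map_units L
      (⟨_, Submonoid.subset_closure (Or.inl h0)⟩ : Submonoid.closure ({f : R[X] | f.coeff 0 = 1} ∪ {X}))
    rw [key b _ le_rfl] at h1
    exact isUnit_of_mul_isUnit_right h1
  · obtain ⟨⟨num, den, hd⟩, hl⟩ := IsLocalization.surj
      (Submonoid.closure ({f : R[X] | f.coeff 0 = 1} ∪ {X})) l
    obtain ⟨k, f, hf, rfl⟩ := hden den hd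
    let N := max f.natDegree num.natDegree
    refine ⟨reflect N num * X ^ k, reflect N f, monic_of_natDegree_le_of_coeff_eq_one N
      (hrefl f N (le_max_left _ _)) (by rw [coeff_reflect, revAt_le le_rfl, Nat.sub_self, hf]), ?_⟩
    have e1 := key (reflect N f) N (hrefl f N (le_max_left _ _))
    have e2 := key (reflect N num) N (hrefl num N (le_max_right _ _))
    rw [hrr] at e1 e2
    simp only at hl
    rw [map_mul, map_pow, ← hT, e1, e2] at hl
    refine (hTu.pow N).mul_left_cancel ?_
    have hk : T ^ k * ψ X ^ k = 1 := by rw [← mul_pow, hTψ, one_pow]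
    rw [map_mul, map_pow]
    linear_combination (ψ X ^ k) * hl - (l * T ^ N * ψ (reflect N f)) * hk
  · have h1 : algebraMap R[X] L (reflect p.natDegree p) = 0 := by rw [key p _ le_rfl, hp, mul_zero]
    obtain ⟨⟨den, hd⟩, he⟩ := (IsLocalization.map_eq_zero_iff
      (Submonoid.closure ({f : R[X] | f.coeff 0 = 1} ∪ {X})) L _).1 h1
    obtain ⟨k, f, hf, rfl⟩ := hden den hd
    have h2 : ((X : R[X]) ^ k * f : R[X]) * reflect p.natDegree p = 0 := he
    rw [mul_assoc] at h2
    have h3 : f * reflect p.natDegree p = 0 := ((monic_X_pow k).isRegular).left (by simpa using h2)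
    have h4 := congrArg (Polynomial.coeToPowerSeries.ringHom) h3
    rw [map_mul, map_zero] at h4
    have hu : IsUnit (Polynomial.coeToPowerSeries.ringHom f : PowerSeries R) :=
      PowerSeries.isUnit_iff_constantCoeff.2 (by
        rw [← PowerSeries.coeff_zero_eq_constantCoeff_apply,
          show PowerSeries.coeff 0 (Polynomial.coeToPowerSeries.ringHom f) = f.coeff 0 from Polynomial.coeff_coe f 0, hf]
        exact isUnit_one)
    have h5 : reflect p.natDegree p = 0 := Polynomial.coe_injective R (by
      rw [Polynomial.coe_zero]; exact hu.mul_right_eq_zero.1 h4)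
    rw [← hrr p p.natDegree, h5, reflect_zero]


end Groth.Agent.S15779
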