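import Groth.Statements.S15784
import Mathlib.Tactic.LinearCombination
import Mathlib.RingTheory.DiscreteValuationRing.Basic
import Mathlib.RingTheory.Localization.FractionRing
import Mathlib.Tactic.FieldSimp
import Mathlib.Tactic.Ring

set_option autoImplicit false
universe u
open Neron

namespace Groth.Agent.S15784

/-- Let O be a discrete valuation ring with fraction field L and uniformizer ϖ', let ϖ be an element of
the maximal ideal of O, let q = u·ϖ'^n with u a unit of O and n ≥ 1, and let m ≥ 1 be a divisor of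
n. Then the following are equivalent: (i) there is a nonzero element z = w·ϖ'^a of L, with w a unit
of O and a an integer congruent to n/m modulo n, and an integer j such that z^m·q^j lies in 1 + ϖO;
(ii) ϖ'^n/q is an m-th power in the group of units of O/ϖO, that is, u·(y^m + ϖ·r) = 1 for some y, r
∈ O. (The published statement phrases (i) geometrically, as the existence of a point of order m in
the special fibre of the Néron model of the Weil restriction of the Tate curve with parameter q from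
L down to a subfield over which L is totally ramified with ϖ a uniformizer of the subfield, whose
image in the component group also has order m; this row states the equivalence between (i) and (ii)
that the printed argument establishes.) -/
theorem result
    (O : Type u) [CommRing O] [IsDomain O] [IsDiscreteValuationRing O]
    (L : Type u) [Field L] [Algebra O L] [IsFractionRing O L]
    (ϖ' : O) (hϖ' : Irreducible ϖ') (ϖ : O) (hϖ : ϖ ∈ IsLocalRing.maximalIdeal O)
    (n : ℕ) (hn : 1 ≤ n) (u : Oˣ) (q : O) (hq : q = u * ϖ' ^ n)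
    (m : ℕ) (hm : 1 ≤ m) (hmn : m ∣ n) :
    (∃ (w : Oˣ) (a j t : ℤ) (r : O), a = (n / m : ℕ) + t * n ∧
        (algebraMap O L w * algebraMap O L ϖ' ^ a) ^ m * algebraMap O L q ^ j = algebraMap O L (1 + ϖ * r)) ↔
      ∃ y r : O, (u : O) * (y ^ m + ϖ * r) = 1 := by
  obtain ⟨d, rfl⟩ := hmn
  rw [Nat.mul_div_cancel_left _ (by omega)]
  obtain ⟨hd0, hm0⟩ : 0 < d ∧ 0 < m := by
    constructor
    · rcases Nat.eq_zero_or_pos d with h | h
      · rw [h, mul_zero] at hn; omega
      · exact h
    · omega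
  let f := algebraMap O L
  have finj : Function.Injective f := IsFractionRing.injective O L
  have hπ : f ϖ' ≠ 0 := fun h => hϖ'.ne_zero (finj (by rw [h, map_zero]))
  have hunit : ∀ x, IsUnit (1 + ϖ * x) := fun x => by
    have : ϖ * x ∈ IsLocalRing.maximalIdeal O := Ideal.mul_mem_right _ _ hϖ
    simpa [sub_neg_eq_add] using
      IsLocalRing.isUnit_one_sub_self_of_mem_nonunits (-(ϖ * x))
        (by simpa using this)
  -- units times powers of the uniformizer
  have hsep : ∀ (v : Oˣ) (e : ℤ), f v * f ϖ' ^ e = 1 → e = 0 := by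
    intro v e he
    have hnat : ∀ (v : Oˣ) (k : ℕ), f v * f ϖ' ^ k = 1 → k = 0 := by
      intro v k hk
      rw [← map_pow, ← map_mul, ← map_one f] at hk
      by_contra hk0
      exact hϖ'.not_isUnit ((isUnit_pow_iff hk0).1 (IsUnit.of_mul_eq_one_right _ (finj hk)))
    rcases Int.eq_nat_or_neg e with ⟨k, rfl | rfl⟩
    · rw [zpow_natCast] at he; exact_mod_cast hnat v k he
    · rw [zpow_neg, zpow_natCast, mul_inv_eq_one₀ (pow_ne_zero _ hπ)] at he
      have : f (v⁻¹ : Oˣ) * f ϖ' ^ k = 1 := by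
        rw [← he, ← map_mul, Units.inv_mul, map_one]
      rw [hnat _ k this]; rfl
  have hfu : ∀ (v : Oˣ) (j : ℤ), f v ^ j = f ((v ^ j : Oˣ) : O) := by
    intro v j
    let φ : Oˣ →* Lˣ := Units.map (f : O →* L)
    have : f ((v ^ j : Oˣ) : O) = ((φ (v ^ j) : Lˣ) : L) := rfl
    rw [this, map_zpow, Units.val_zpow_eq_zpow_val]
    rfl
  constructor
  · rintro ⟨w, a, j, t, r, rfl, h⟩
    obtain ⟨ε, hε⟩ := hunit r
    rw [hq, map_mul, map_pow] at h
    have e : (f w * f ϖ' ^ ((d : ℤ) + t * (m * d : ℕ))) ^ m * (f u * f ϖ' ^ (m * d)) ^ j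
        = f ((w ^ m * u ^ j : Oˣ) : O) * f ϖ' ^ (((d : ℤ) + t * (m * d : ℕ)) * m + (m * d : ℕ) * j) := by
      rw [mul_pow, mul_zpow, ← zpow_natCast (f ϖ' ^ _) m, ← zpow_mul, ← zpow_natCast (f ϖ') (m * d),
        ← zpow_mul, Units.val_mul, map_mul, Units.val_pow_eq_pow_val, map_pow, ← hfu, zpow_add₀ hπ]
      ring
    have h' := h
    rw [e, ← hε] at h
    have hz := hsep (w ^ m * u ^ j * ε⁻¹) (((d : ℤ) + t * (m * d : ℕ)) * m + (m * d : ℕ) * j) (by
      rw [Units.val_mul _ ε⁻¹, map_mul, mul_right_comm, h, ← map_mul, Units.mul_inv, map_one])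
    have hj : j = -(1 + t * m) := by
      push_cast at hz
      have : ((m : ℤ) * d) * (1 + t * m + j) = 0 := by linear_combination hz
      rcases mul_eq_zero.1 this with h0 | h0
      · exfalso
        have : 0 < (m : ℤ) * d := mul_pos (by omega) (by omega)
        omega
      · omega
    rw [hz, zpow_zero, mul_one] at h
    have hO : w ^ m * u ^ j = ε := Units.ext (finj h)
    let w' : Oˣ := w * u ^ (-t)
    have hw' : w' ^ m = u * ε := by
      simp only [w', mul_pow, ← zpow_natCast (u ^ (-t)), ← zpow_mul]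
      rw [← hO, hj, mul_left_comm, ← zpow_one_add]
      congr 2; ring
    refine ⟨((w'⁻¹ : Oˣ) : O), ((w'⁻¹ ^ m : Oˣ) : O) * r, ?_⟩
    have key : ((w'⁻¹ ^ m : Oˣ) : O) * ((u : O) * (ε : O)) = 1 := by
      rw [← Units.val_mul u ε, ← hw', ← Units.val_mul, inv_pow, inv_mul_cancel, Units.val_one]
    rw [hε] at key
    rw [← key, ← Units.val_pow_eq_pow_val]
    ring
  · rintro ⟨y, r, h⟩
    have hyu : IsUnit y := by
      have he := hunit (-((u : O) * r))
      rw [show 1 + ϖ * (-((u : O) * r)) = (u : O) * y ^ m by linear_combination -h] at he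
      exact (isUnit_pow_iff (by omega : m ≠ 0)).1 (isUnit_of_mul_isUnit_right he)
    obtain ⟨Y, rfl⟩ := hyu
    refine ⟨Y⁻¹, d, -1, 0, r * ((Y⁻¹ : Oˣ) : O) ^ m, by simp, ?_⟩
    rw [hq, map_mul, map_pow, zpow_natCast, mul_pow, ← pow_mul, mul_comm d m, zpow_neg_one, mul_inv]
    have h2 : f ((Y⁻¹ : Oˣ) : O) ^ m * (f u)⁻¹ = f (1 + ϖ * (r * ((Y⁻¹ : Oˣ) : O) ^ m)) := by
      have hfu0 : f u ≠ 0 := (u.isUnit.map f).ne_zero
      rw [eq_comm, ← div_eq_mul_inv, eq_div_iff hfu0, ← map_mul, ← map_pow]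
      congr 1
      have hY : ((Y⁻¹ : Oˣ) : O) ^ m * (Y : O) ^ m = 1 := by
        rw [← mul_pow, Units.inv_mul, one_pow]
      linear_combination ((Y⁻¹ : Oˣ) : O) ^ m * h - (u : O) * hY
    rw [← h2]
    show f _ ^ m * f ϖ' ^ (m * d) * ((f u)⁻¹ * (f ϖ' ^ (m * d))⁻¹) = _
    field_simp [pow_ne_zero _ hπ]

end Groth.Agent.S15784
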