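import Groth.Statements.S15789
import Groth.Agent.L13.Wild.MRSeries

set_option autoImplicit false
universe u
open WildQuot

namespace Groth.Agent.S15789

open MvPolynomial in
/-- Let `k` be a field of characteristic `p > 0`, `n ≥ 2`, `R = k[[x_1, …, x_n]]`, `a_1, …, a_n ∈ R`
nonzero with zero constant term, and `A = R[u_1, …, u_n] / (u_i ^ p - a_i ^ (p-1) u_i - x_i : i =
1..n)`. Then the group of `R`-algebra automorphisms of `A` has exactly `p ^ n` elements, is
commutative and every element has `p`-th power the identity (it is the elementary abelian group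
generated by the substitutions `u_i ↦ u_i + a_i`), and an element of `A` is fixed by every
`R`-algebra automorphism if and only if it comes from `R`. (The published statement says that
`Frac(A)/Frac(R)` is Galois with group `(ℤ/pℤ)^n` and `R = A^H`; this row states it through the
`R`-algebra automorphisms of `A`.) -/
theorem result
    (p : ℕ) [Fact p.Prime] (k : Type u) [Field k] [CharP k p] (n : ℕ) (hn : 2 ≤ n)
    (a : Fin n → MvPowerSeries (Fin n) k)
    (ha0 : ∀ i, a i ≠ 0) (ham : ∀ i, MvPowerSeries.constantCoeff (a i) = 0) :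
    let R := MvPowerSeries (Fin n) k
    let I : Ideal (MvPolynomial (Fin n) R) :=
      Ideal.span (Set.range fun i : Fin n =>
        X i ^ p - C (a i ^ (p - 1)) * X i - C (MvPowerSeries.X i))
    Nat.card ((MvPolynomial (Fin n) R ⧸ I) ≃ₐ[R] (MvPolynomial (Fin n) R ⧸ I)) = p ^ n ∧
      (∀ σ τ : (MvPolynomial (Fin n) R ⧸ I) ≃ₐ[R] (MvPolynomial (Fin n) R ⧸ I), σ * τ = τ * σ) ∧
      (∀ σ : (MvPolynomial (Fin n) R ⧸ I) ≃ₐ[R] (MvPolynomial (Fin n) R ⧸ I), σ ^ p = 1) ∧
      (∀ b : MvPolynomial (Fin n) R ⧸ I,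
        (∀ σ : (MvPolynomial (Fin n) R ⧸ I) ≃ₐ[R] (MvPolynomial (Fin n) R ⧸ I), σ b = b) ↔
          b ∈ Set.range (algebraMap R (MvPolynomial (Fin n) R ⧸ I))) := by
  intro R I
  have hdom := Groth.L13.Wild.MR.isDomain (p := p) a ham
  let c : Fin n → R := fun i => MvPowerSeries.X i
  have : IsDomain (MvPowerSeries (Fin n) k) := NoZeroDivisors.to_isDomain _
  have hbij : Function.Bijective (Groth.L13.Wild.MR.shift (p := p) a c) :=
    ⟨Groth.L13.Wild.MR.shift_injective a c ha0, fun σ =>
      (Groth.L13.Wild.MR.algEquiv_eq_shift a c ha0 σ).imp fun _ h => h.symm⟩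
  have hadd : ∀ j l : Fin n → ZMod p, Groth.L13.Wild.MR.shift a c j * Groth.L13.Wild.MR.shift a c l =
      Groth.L13.Wild.MR.shift a c (j + l) := fun j l =>
    AlgEquiv.ext fun t => AlgHom.congr_fun (Groth.L13.Wild.MR.shiftHom_comp a c j l) t
  have hzero : Groth.L13.Wild.MR.shift (p := p) a c 0 = 1 :=
    AlgEquiv.ext fun t => AlgHom.congr_fun (Groth.L13.Wild.MR.shiftHom_zero (p := p) a c) t
  refine ⟨?_, fun σ τ => ?_, fun σ => ?_, fun b => ⟨fun h => Groth.L13.Wild.MR.mem_range_of_fixed a c ha0 b h, ?_⟩⟩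
  · rw [← Nat.card_eq_of_bijective _ hbij]
    simp [Nat.card_eq_fintype_card]
  · obtain ⟨j, rfl⟩ := hbij.2 σ
    obtain ⟨l, rfl⟩ := hbij.2 τ
    rw [hadd, hadd, add_comm]
  · obtain ⟨j, rfl⟩ := hbij.2 σ
    have : ∀ m : ℕ, Groth.L13.Wild.MR.shift a c j ^ m = Groth.L13.Wild.MR.shift a c (m • j) := fun m => by
      induction m with
      | zero => rw [pow_zero, zero_smul, hzero]
      | succ m ih => rw [pow_succ, ih, hadd, succ_nsmul]
    rw [this, show p • j = 0 from funext fun i => by simp, hzero]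
  · rintro ⟨r, rfl⟩ σ
    exact σ.commutes r

end Groth.Agent.S15789
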