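import Groth.Statements.S1579
import Groth.Agent.L15.WeakAss
import Groth.Agent.L20.ModStalk
import Mathlib.AlgebraicGeometry.Morphisms.Finite
import Mathlib.RingTheory.QuasiFinite.Basic
import Mathlib.RingTheory.Ideal.GoingUp

set_option autoImplicit false
universe u
open CategoryTheory CategoryTheory.Limits AlgebraicGeometry
open Divisors

namespace Groth.Agent.S1579

theorem exists_smul_minimal {A B N : Type u} [CommRing A] [CommRing B] [Algebra A B] [Module.Finite A B]
    [AddCommGroup N] [Module B N] (n : N) (q : Ideal B)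
    (hq : q ∈ (Submodule.colon (⊥ : Submodule B N) {n}).minimalPrimes) :
    ∃ c : B, q.comap (algebraMap A B) ∈
      ((Submodule.colon (⊥ : Submodule B N) {c • n}).comap (algebraMap A B)).minimalPrimes := by
  classical
  haveI := hq.isPrime
  set p := q.comap (algebraMap A B) with hp
  have hT : (p.primesOver B \ {q}).Finite := (Algebra.QuasiFinite.finite_primesOver p).diff
  set I := Submodule.colon (⊥ : Submodule B N) {n} with hI
  have key : ∀ Q ∈ p.primesOver B \ {q}, ∃ s t : B, s ∉ q ∧ t ∉ Q ∧ s * t ∈ I := by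
    rintro Q ⟨⟨hQp, hQo⟩, hne⟩
    by_contra hcon
    push Not at hcon
    let M : Submonoid B :=
      { carrier := {z | ∃ s t : B, s ∉ q ∧ t ∉ Q ∧ z = s * t}
        one_mem' := ⟨1, 1, q.one_notMem, Q.one_notMem, (one_mul 1).symm⟩
        mul_mem' := by
          rintro _ _ ⟨a, b, ha, hb, rfl⟩ ⟨a', b', ha', hb', rfl⟩
          exact ⟨a * a', b * b', hq.isPrime.mul_notMem ha ha', hQp.mul_notMem hb hb', by ring⟩ }
    obtain ⟨P, hP, hIP, hPM⟩ := Ideal.exists_le_prime_disjoint I M (Set.disjoint_left.2 fun z hz hzM => by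
      obtain ⟨s, t, hs, ht, rfl⟩ := hzM
      exact hcon s t hs ht hz)
    have hPq : P ≤ q := fun z hz => by
      by_contra h
      exact Set.disjoint_left.1 hPM hz ⟨z, 1, h, Q.one_notMem, (mul_one z).symm⟩
    have hPQ : P ≤ Q := fun z hz => by
      by_contra h
      exact Set.disjoint_left.1 hPM hz ⟨1, z, q.one_notMem, h, (one_mul z).symm⟩
    have hPq' : P = q := le_antisymm hPq (hq.2 ⟨hP, hIP⟩ hPq)
    subst hPq'
    have hlt : P < Q := lt_of_le_of_ne hPQ (fun h => hne h.symm)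
    haveI := hQp
    have h1 := Ideal.IsIntegral.comap_lt_comap (R := A) hlt
    exact h1.ne hQo.over
  choose! s t hs ht hst using key
  let c := ∏ Q ∈ hT.toFinset, s Q
  have hc : c ∉ q := fun h => by
    obtain ⟨Q, hQ, hQ'⟩ := hq.isPrime.prod_mem_iff.1 h
    exact hs Q (hT.mem_toFinset.1 hQ) hQ'
  refine ⟨c, ⟨inferInstance, ?_⟩, fun p' hp' hle => ?_⟩
  · refine Ideal.comap_mono fun b hb => ?_
    have h1 : b * c ∈ I := by
      rw [hI, Groth.L15.WeakAss.mem_colon, mul_smul]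
      exact Groth.L15.WeakAss.mem_colon.1 hb
    exact (hq.isPrime.mem_or_mem (hq.le h1)).resolve_right hc
  · haveI := hp'.1
    obtain ⟨p₀, hp₀, hp₀le⟩ := Ideal.exists_minimalPrimes_le hp'.2
    obtain ⟨Q₀, hQ₀, hQ₀p⟩ := Ideal.exists_minimalPrimes_comap_eq (algebraMap A B) p₀ hp₀
    haveI := hQ₀.isPrime
    obtain ⟨Q, hQ₀Q, hQp, hQc⟩ :=
      Ideal.exists_ideal_over_prime_of_isIntegral p Q₀ (hQ₀p.trans_le (hp₀le.trans hle))
    have hQq : Q = q := by
      by_contra hne
      have hmem : Q ∈ p.primesOver B \ {q} := ⟨⟨hQp, ⟨hQc.symm⟩⟩, hne⟩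
      refine ht Q hmem (hQ₀Q (hQ₀.le (Groth.L15.WeakAss.mem_colon.2 ?_)))
      rw [smul_smul, mul_comm]
      rw [show c = (∏ Q' ∈ hT.toFinset.erase Q, s Q') * s Q from
        (Finset.prod_erase_mul _ _ (hT.mem_toFinset.2 hmem)).symm, mul_assoc, mul_smul,
        Groth.L15.WeakAss.mem_colon.1 (hst Q hmem), smul_zero]
    subst hQq
    have hQ₀q : Q₀ = Q := le_antisymm hQ₀Q (hq.2 ⟨hQ₀.isPrime, fun b hb => hQ₀.le
      (Groth.L15.WeakAss.mem_colon.2 (by rw [smul_comm, Groth.L15.WeakAss.mem_colon.1 hb, smul_zero]))⟩ hQ₀Q)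
    rw [hp, ← hQ₀q, hQ₀p]
    exact hp₀le


/-- Let f : X → S be finite and F quasi-coherent on X. Then the weakly associated points of f_* F are
precisely the images under f of the weakly associated points of F. -/
theorem result {X S : Scheme.{u}} (f : X ⟶ S) [IsFinite f] (F : X.Modules) (hF : Coh.IsQCoh F) :
    {s : S | Curv2.IsWeakAssPoint ((Coh.push f).obj F) s} = f.base '' {x : X | Curv2.IsWeakAssPoint F x} := by
  haveI : Coh.IsQCoh F := hF
  ext s
  constructor
  · intro hs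
    obtain ⟨x, hx, hxA⟩ := Groth.L15.WeakAss.weakAss_push_subset F f s hs
    exact ⟨x, hxA, hx⟩
  rintro ⟨x, hx, rfl⟩
  show Curv2.IsWeakAssPoint ((Scheme.Modules.pushforward f).obj F) (f x)
  haveI := Groth.L16.QcqsPush.isQCoh_push f (M := F)
  obtain ⟨_, ⟨U, hU, rfl⟩, hxU, -⟩ :=
    S.isBasis_affineOpens.exists_subset_of_mem_open (Set.mem_univ (f x)) isOpen_univ
  replace hU : IsAffineOpen U := hU
  have hV : IsAffineOpen (f ⁻¹ᵁ U) := hU.preimage f
  letI : Algebra Γ(S, U) Γ(X, f ⁻¹ᵁ U) := (f.app U).hom.toAlgebra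
  haveI : Module.Finite Γ(S, U) Γ(X, f ⁻¹ᵁ U) := IsFinite.finite_app f U hU
  obtain ⟨n, hn⟩ := Groth.L15.WeakAss.exists_minimal_of_isWeakAssPoint F hV (x := x) hxU hx
  obtain ⟨c, hc⟩ := exists_smul_minimal (A := Γ(S, U)) n _ hn
  have hp : (hV.primeIdealOf ⟨x, hxU⟩).asIdeal.comap (f.app U).hom = (hU.primeIdealOf ⟨f x, hxU⟩).asIdeal := by
    refine congrArg PrimeSpectrum.asIdeal (?_ : (Spec.map (f.app U)) (hV.primeIdealOf ⟨x, hxU⟩) = _)
    refine hU.fromSpec.isOpenEmbedding.injective ?_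
    rw [hU.fromSpec_primeIdealOf, ← Scheme.Hom.comp_apply, Scheme.Hom.app_eq_appLE,
      hU.SpecMap_appLE_fromSpec f hV, Scheme.Hom.comp_apply, hV.fromSpec_primeIdealOf]
  refine Groth.L15.WeakAss.isWeakAssPoint_of_minimal ((Scheme.Modules.pushforward f).obj F) hU hxU
    (show Γ((Scheme.Modules.pushforward f).obj F, U) from c • n) ?_
  rw [← hp]
  exact hc

end Groth.Agent.S1579
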