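import Groth.Statements.S15793
import Groth.Agent.L13.Wild.CompleteTools

set_option autoImplicit false
universe u v w
open WildQuot

namespace Groth.Agent.S15793

/-- Let `A` be a complete regular local ring of Krull dimension at least `2` and prime characteristic
`p`, with maximal ideal `m`; let `k` be a field with a ring map `k → A` whose composite with `A →
A/m` is onto (a field of representatives); let `G` be a group of order `p` acting on `A` by ring
automorphisms that fix the image of `k`, ramified precisely at the origin: for every prime `P ≠ m`,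
the inertia subgroup of `P` (the elements of `G` fixing every element of `A` modulo `P`) is trivial.
Then no element of `m` outside `m ^ 2` is fixed by every element of `G`; in particular the action is
not linear in any regular system of parameters. -/
theorem result
    (p : ℕ) [Fact p.Prime] (A : Type u) [CommRing A] [IsRegularLocalRing A] [CharP A p]
    [IsAdicComplete (IsLocalRing.maximalIdeal A) A] (hdim : 2 ≤ ringKrullDim A)
    (k : Type v) [Field k] [Algebra k A]
    (hk : Function.Surjective (IsLocalRing.residue A ∘ algebraMap k A))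
    (G : Type w) [Group G] [Finite G] [MulSemiringAction G A] (hcard : Nat.card G = p)
    (hGk : ∀ (σ : G) (c : k), σ • algebraMap k A c = algebraMap k A c)
    (hram : ∀ P : Ideal A, P.IsPrime → P ≠ IsLocalRing.maximalIdeal A → P.inertia G = ⊥)
    (v : A) (hv : v ∈ IsLocalRing.maximalIdeal A) (hv2 : v ∉ IsLocalRing.maximalIdeal A ^ 2) :
    ∃ σ : G, σ • v ≠ v := by
  classical
  by_contra hfix
  push Not at hfix
  have : Nontrivial G := (Finite.one_lt_card_iff_nontrivial (α := G)).1 (hcard ▸ (Fact.out : p.Prime).one_lt)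
  obtain ⟨σ, hσ⟩ := exists_ne (1 : G)
  obtain ⟨d, hd⟩ := Groth.L01.exists_dim_eq_nat (R := A)
  obtain ⟨m, u, hu, huv⟩ : ∃ (m : ℕ) (u : Fin (m + 1) → A), m + 1 = d ∧ u 0 = v ∧
      Ideal.span (Set.range u) = IsLocalRing.maximalIdeal A := by
    have hq := Groth.L01.regular_quotient_of_notMem_sq hv hv2
    obtain ⟨hq1, hq2⟩ := hq
    have hloc : IsLocalRing (A ⧸ Ideal.span {v}) := hq1.toIsLocalRing
    obtain ⟨s, hs, hs'⟩ := Submodule.FG.exists_span_finset_card_eq_spanFinrank
      (IsNoetherian.noetherian (IsLocalRing.maximalIdeal (A ⧸ Ideal.span {v})))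
    choose l hl using fun y : A ⧸ Ideal.span {v} => Ideal.Quotient.mk_surjective y
    refine ⟨s.card, Fin.cons v (fun i => l (s.equivFin.symm i).1), ?_, rfl, ?_⟩
    · have h := (isRegularLocalRing_iff (A ⧸ Ideal.span {v})).1 hq1
      rw [← hs] at h
      rw [hd, ← h] at hq2
      exact_mod_cast hq2
    · have hrange : Ideal.span (Set.range fun i => l (s.equivFin.symm i).1) =
          Ideal.span (l '' (s : Set (A ⧸ Ideal.span {v}))) := by
        congr 1
        ext y
        constructor
        · rintro ⟨i, rfl⟩; exact ⟨_, (s.equivFin.symm i).2, rfl⟩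
        · rintro ⟨z, hz, rfl⟩; exact ⟨s.equivFin ⟨z, hz⟩, by simp⟩
      have hcomap : (IsLocalRing.maximalIdeal (A ⧸ Ideal.span {v})).comap (Ideal.Quotient.mk _) = IsLocalRing.maximalIdeal A :=
        IsLocalRing.eq_maximalIdeal (Ideal.comap_isMaximal_of_surjective _ Ideal.Quotient.mk_surjective)
      rw [Fin.range_cons, Ideal.span_insert, hrange]
      rw [← hcomap, ← hs']
      show _ = Ideal.comap _ (Ideal.span (s : Set (A ⧸ Ideal.span {v})))
      rw [show (s : Set (A ⧸ Ideal.span {v})) = Ideal.Quotient.mk _ '' (l '' (s : Set (A ⧸ Ideal.span {v}))) by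
          rw [Set.image_image]; simp [hl]]
      rw [← Ideal.map_span, Ideal.comap_map_of_surjective _ Ideal.Quotient.mk_surjective, ← RingHom.ker_eq_comap_bot,
        Ideal.mk_ker, sup_comm]
      simp only [Set.image_image, hl, Set.image_id']
  obtain ⟨hu0, hum⟩ := huv
  let g : A → A := fun a => σ • a - a
  let J : Ideal A := Ideal.span (Set.range fun i : Fin m => g (u i.succ))
  have hgu : ∀ i, g (u i) ∈ J := by
    refine Fin.cases ?_ fun i => Ideal.subset_span ⟨i, rfl⟩
    simp only [g, hu0, hfix σ, sub_self]; exact zero_mem _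
  have hmσ : ∀ N, ∀ a ∈ IsLocalRing.maximalIdeal A ^ N, σ • a ∈ IsLocalRing.maximalIdeal A ^ N := by
    intro N a ha
    have hle : (IsLocalRing.maximalIdeal A).map (MulSemiringAction.toRingHom G A σ) ≤ IsLocalRing.maximalIdeal A := by
      refine Ideal.map_le_iff_le_comap.2 fun y hy => ?_
      rw [Ideal.mem_comap, IsLocalRing.mem_maximalIdeal, mem_nonunits_iff]
      intro hu'
      have := IsUnit.map (MulSemiringAction.toRingHom G A σ⁻¹) hu'
      rw [MulSemiringAction.toRingHom_apply, MulSemiringAction.toRingHom_apply, inv_smul_smul] at this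
      exact (IsLocalRing.mem_maximalIdeal _).1 hy this
    exact Ideal.pow_right_mono hle N (Ideal.map_pow (MulSemiringAction.toRingHom G A σ) _ N ▸ Ideal.mem_map_of_mem _ ha)
  have hJle : J ≠ ⊤ := fun h => by
    have : J ≤ IsLocalRing.maximalIdeal A := by
      refine Ideal.span_le.2 ?_
      rintro _ ⟨i, rfl⟩
      have h1 : u i.succ ∈ IsLocalRing.maximalIdeal A := hum ▸ Ideal.subset_span (Set.mem_range_self _)
      exact sub_mem (pow_one (IsLocalRing.maximalIdeal A) ▸ hmσ 1 _ (by rwa [pow_one])) h1
    exact (IsLocalRing.maximalIdeal.isMaximal A).ne_top (top_le_iff.1 (h ▸ this))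
  have hgJ : ∀ a, g a ∈ J := by
    intro a
    have h1 : ∀ N, g a ∈ J ⊔ IsLocalRing.maximalIdeal A ^ N := by
      intro N
      obtain ⟨s, hs, has⟩ := Groth.L13.Wild.exists_polyPart_sub_mem hk u hum N a
      have hs' : g s ∈ J := by
        have hs2 := Groth.L13.Wild.polyPart_le_adjoin u N hs
        clear has hs
        induction hs2 using Algebra.adjoin_induction with
        | mem y hy => obtain ⟨i, rfl⟩ := hy; exact hgu i
        | algebraMap c => simp only [g, hGk, sub_self]; exact zero_mem _
        | add y z _ _ hy hz =>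
          simp only [g, smul_add, add_sub_add_comm]; exact add_mem hy hz
        | mul y z _ _ hy hz =>
          simp only [g, smul_mul']
          rw [show σ • y * σ • z - y * z = (σ • y - y) * σ • z + y * (σ • z - z) by ring]
          exact add_mem (J.mul_mem_right _ hy) (J.mul_mem_left _ hz)
      have : g a = g s + (σ • (a - s) - (a - s)) := by simp only [g, smul_sub]; ring
      rw [this]
      exact Submodule.add_mem_sup hs' (sub_mem (hmσ N _ has) has)
    have hmk : ∀ N, Ideal.Quotient.mk J (g a) ∈ ((IsLocalRing.maximalIdeal A).map (Ideal.Quotient.mk J)) ^ N := fun N => by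
      rw [← Ideal.map_pow]
      obtain ⟨j, hj, y, hy, e⟩ := Submodule.mem_sup.1 (h1 N)
      rw [← e, map_add, Ideal.Quotient.eq_zero_iff_mem.2 hj, zero_add]
      exact Ideal.mem_map_of_mem _ hy
    have : Nontrivial (A ⧸ J) := Ideal.Quotient.nontrivial_iff.2 hJle
    have : IsLocalRing (A ⧸ J) := IsLocalRing.of_surjective' _ Ideal.Quotient.mk_surjective
    have hne : (IsLocalRing.maximalIdeal A).map (Ideal.Quotient.mk J) ≠ ⊤ := fun h => by
      have := congrArg (Ideal.comap (Ideal.Quotient.mk J)) h
      rw [Ideal.comap_top, Ideal.comap_map_of_surjective _ Ideal.Quotient.mk_surjective, ← RingHom.ker_eq_comap_bot,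
        Ideal.mk_ker, sup_eq_left.2 (IsLocalRing.le_maximalIdeal hJle)] at this
      exact (IsLocalRing.maximalIdeal.isMaximal A).ne_top this
    rw [← Ideal.Quotient.eq_zero_iff_mem, ← Submodule.mem_bot (R := A ⧸ J), ← Ideal.iInf_pow_eq_bot_of_isLocalRing _ hne]
    exact Ideal.mem_iInf.2 hmk
  obtain ⟨P, hP⟩ := Ideal.nonempty_minimalPrimes hJle
  have hPp : P.IsPrime := hP.isPrime
  have hPm : P = IsLocalRing.maximalIdeal A := by
    by_contra hne
    have hmem : σ ∈ P.inertia G := fun a => hP.1.2 (hgJ a)
    rw [hram P hPp hne, Subgroup.mem_bot] at hmem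
    exact hσ hmem
  have hJm : P.height ≤ (m : ℕ∞) := by
    refine (Ideal.height_le_card_of_mem_minimalPrimes_span (Set.finite_range fun i : Fin m => g (u i.succ)) hP).trans ?_
    rw [← Nat.card_coe_set_eq]
    exact Nat.cast_le.2 ((Finite.card_range_le _).trans (by simp))
  have h3 : (d : ℕ∞) ≤ (m : ℕ∞) := by
    have hd' := IsLocalRing.maximalIdeal_height_eq_ringKrullDim (R := A)
    rw [hd, ← hPm] at hd'
    have hd'' : P.height = (d : ℕ∞) := by exact_mod_cast hd'
    rw [← hd'']
    exact hJm
  have h4 : d ≤ m := by exact_mod_cast h3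
  omega

end Groth.Agent.S15793
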