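import Groth.Statements.S15795
import Groth.Agent.L13.Wild.Flag

set_option autoImplicit false
universe u v
open WildQuot

namespace Groth.Agent.S15795

/-- Let `A` be a regular local ring of Krull dimension `n` with maximal ideal `m`, let a finite group
`G` act on `A` by ring automorphisms inducing the identity on the residue field, and let `u_1, …,
u_n` generate `m`. Suppose that for every `σ ∈ G` and every `i`, `σ u_i ∈ (u_1, …, u_i) + m ^ 2`,
i.e. the induced linear maps of `m / m ^ 2` are upper triangular in the basis given by the `u_i`.
Then the system `u` is admissible: for every choice `σ_1, …, σ_n ∈ G` the elements `σ_1 u_1, …, σ_n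
u_n` generate `m`. (The published statement is for a complete regular local ring containing a
`G`-fixed field of representatives; this row drops completeness and asks only that `G` act trivially
on the residue field.) -/
theorem result
    (A : Type u) [CommRing A] [IsRegularLocalRing A]
    (G : Type v) [Group G] [Finite G] [MulSemiringAction G A]
    (hres : ∀ (σ : G) (a : A), σ • a - a ∈ IsLocalRing.maximalIdeal A)
    (n : ℕ) (hn : ringKrullDim A = n) (u : Fin n → A)
    (hu : Ideal.span (Set.range u) = IsLocalRing.maximalIdeal A)
    (htri : ∀ (σ : G) (i : Fin n),
      σ • u i ∈ Ideal.span (u '' {j | j ≤ i}) ⊔ IsLocalRing.maximalIdeal A ^ 2) :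
    ∀ τ : Fin n → G,
      Ideal.span (Set.range fun i => τ i • u i) = IsLocalRing.maximalIdeal A := by
  exact Groth.L13.Wild.span_twist_eq u hu htri

end Groth.Agent.S15795
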