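import Groth.Statements.S15796
import Mathlib.RingTheory.Ideal.KrullsHeightTheorem

set_option autoImplicit false
universe u v
open WildQuot

namespace Groth.Agent.S15796

/-- Let `A` be a Noetherian local ring of Krull dimension `n` whose maximal ideal `m` is generated by
`u_1, …, u_n`, and let a finite group `G` act on `A` by ring automorphisms. If some `σ ∈ G` maps
some `u_i` into the ideal generated by the `u_j` with `j ≠ i`, then the system `u` is not weakly
admissible: for some choice `σ_1, …, σ_n ∈ G` the radical of `(σ_1 u_1, …, σ_n u_n)` does not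
contain `m`. (The published statement is for a linear action on `k[[u_1, …, u_n]]` whose matrix has
a zero diagonal entry; this row assumes instead that some `σ u_i` lies in the ideal generated by the
other `u_j`.) -/
theorem result
    (A : Type u) [CommRing A] [IsLocalRing A] [IsNoetherianRing A]
    (G : Type v) [Group G] [Finite G] [MulSemiringAction G A]
    (n : ℕ) (hn : ringKrullDim A = n) (u : Fin n → A)
    (hu : Ideal.span (Set.range u) = IsLocalRing.maximalIdeal A)
    (σ : G) (i : Fin n) (hσ : σ • u i ∈ Ideal.span (u '' {j | j ≠ i})) :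
    ∃ τ : Fin n → G,
      ¬ IsLocalRing.maximalIdeal A ≤ (Ideal.span (Set.range fun j => τ j • u j)).radical := by
  classical
  refine ⟨Function.update 1 i σ, fun hle => ?_⟩
  set I := Ideal.span (u '' {j | j ≠ i}) with hI
  have hsub : Ideal.span (Set.range fun j => Function.update (1 : Fin n → G) i σ j • u j) ≤ I := by
    refine Ideal.span_le.2 ?_
    rintro _ ⟨j, rfl⟩
    show Function.update (1 : Fin n → G) i σ j • u j ∈ I
    rcases eq_or_ne j i with rfl | h
    · rw [Function.update_self]; exact hσ
    · rw [Function.update_of_ne h, Pi.one_apply, one_smul]; exact Ideal.subset_span ⟨j, h, rfl⟩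
  have hIm : I ≤ IsLocalRing.maximalIdeal A := hu ▸ Ideal.span_mono (Set.image_subset_range _ _)
  have hrad := hle.trans (Ideal.radical_mono hsub)
  have hmin : IsLocalRing.maximalIdeal A ∈ I.minimalPrimes := by
    refine ⟨⟨inferInstance, hIm⟩, fun P ⟨hP, hIP⟩ _ => hrad.trans (hP.radical_le_iff.2 hIP)⟩
  have hset : u '' {j | j ≠ i} = ↑((Finset.univ.erase i).image u) := by ext x; simp
  rw [hI, hset] at hmin
  have hh := Ideal.height_le_card_of_mem_minimalPrimes_span_finset hmin
  have hd := IsLocalRing.maximalIdeal_height_eq_ringKrullDim (R := A)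
  rw [hn] at hd
  have hd' : (IsLocalRing.maximalIdeal A).height = (n : ℕ∞) := by exact_mod_cast hd
  rw [hd'] at hh
  have hc : ((Finset.univ.erase i).image u).card ≤ n - 1 := Finset.card_image_le.trans (by simp)
  have : n ≤ ((Finset.univ.erase i).image u).card := by exact_mod_cast hh
  have := i.pos
  omega

end Groth.Agent.S15796
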