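import Groth.Statements.S15797
import Groth.Agent.L13.Wild.Length

set_option autoImplicit false
universe u v
open WildQuot

namespace Groth.Agent.S15797

/-- Let `A` be a regular local ring of Krull dimension `n` with maximal ideal `m` generated by `u_1, …,
u_n`, let a finite group `G` of order `g` act on `A` by ring automorphisms, and suppose `u` is
weakly admissible: for every choice `σ_1, …, σ_n ∈ G` the radical of `(σ_1 u_1, …, σ_n u_n)`
contains `m`. With `x_i = ∏_{σ ∈ G} σ u_i` the norms, the length of `A / (x_1, …, x_n)` is at least
`g ^ n` (so the finite flat map from `k[[x_1, …, x_n]]` has degree at least `g ^ n`). (The published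
statement is for a complete regular local ring containing a `G`-fixed field of representatives; this
row does not assume those.) -/
theorem result
    (A : Type u) [CommRing A] [IsRegularLocalRing A]
    (G : Type v) [Group G] [Fintype G] [MulSemiringAction G A]
    (n : ℕ) (hn : ringKrullDim A = n) (u : Fin n → A)
    (hu : Ideal.span (Set.range u) = IsLocalRing.maximalIdeal A)
    (hwa : ∀ τ : Fin n → G,
      IsLocalRing.maximalIdeal A ≤ (Ideal.span (Set.range fun i => τ i • u i)).radical) :
    ((Fintype.card G ^ n : ℕ) : ℕ∞) ≤
      Module.length A (A ⧸ Ideal.span (Set.range fun i => ∏ σ : G, σ • u i)) := by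
  refine Groth.L13.Wild.pow_le_length hn Fintype.card_pos _ (Ideal.span_le.2 ?_)
  rintro _ ⟨i, rfl⟩
  have hm : ∀ σ : G, σ • u i ∈ IsLocalRing.maximalIdeal A := fun σ => by
    have h1 : u i ∈ IsLocalRing.maximalIdeal A := hu ▸ Ideal.subset_span ⟨i, rfl⟩
    rw [IsLocalRing.mem_maximalIdeal, mem_nonunits_iff] at h1 ⊢
    intro hunit
    exact h1 (by simpa using hunit.map (MulSemiringAction.toRingHom G A σ⁻¹))
  have key : ∀ s : Finset G, ∏ σ ∈ s, σ • u i ∈ IsLocalRing.maximalIdeal A ^ s.card := by
    classical
    intro s
    induction s using Finset.induction_on with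
    | empty => simp
    | insert σ s hs ih => rw [Finset.prod_insert hs, Finset.card_insert_of_notMem hs, pow_succ']; exact Ideal.mul_mem_mul (hm σ) ih
  exact key Finset.univ

end Groth.Agent.S15797
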