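import Groth.Statements.S15798
import Groth.Agent.L13.Wild.OriginInv
import Groth.Agent.L13.Wild.FreeRegular

set_option autoImplicit false
universe u v w
open WildQuot

namespace Groth.Agent.S15798

/-- Let `A` be a complete regular local ring of Krull dimension at least `2` and prime characteristic
`p`, with maximal ideal `m`; let `k` be a field with a ring map `k → A` whose composite with `A →
A/m` is onto; let `G` be a group of order `p` acting on `A` by ring automorphisms fixing the image
of `k` and ramified precisely at the origin (for every prime `P ≠ m`, the inertia subgroup of `P`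
(the elements of `G` fixing every element modulo `P`) is trivial). Then the invariant ring `A^G` is
Noetherian, `A` is a finite `A^G`-module, `A^G` is an integrally closed domain of the same Krull
dimension as `A`, `A^G` is complete and separated for the adic topology of `m ∩ A^G`, and `A^G` is
not a regular local ring. (The published statement also asserts that `A^G` has depth `2`, that the
extension has degree `p`, and that the singular locus of `Spec A^G` is the closed point; this row
omits those clauses.) -/
theorem result
    (p : ℕ) [Fact p.Prime] (A : Type u) [CommRing A] [IsRegularLocalRing A] [CharP A p]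
    [IsAdicComplete (IsLocalRing.maximalIdeal A) A] (hdim : 2 ≤ ringKrullDim A)
    (k : Type v) [Field k] [Algebra k A]
    (hk : Function.Surjective (IsLocalRing.residue A ∘ algebraMap k A))
    (G : Type w) [Group G] [Finite G] [MulSemiringAction G A] (hcard : Nat.card G = p)
    (hGk : ∀ (σ : G) (c : k), σ • algebraMap k A c = algebraMap k A c)
    (hram : ∀ P : Ideal A, P.IsPrime → P ≠ IsLocalRing.maximalIdeal A → P.inertia G = ⊥) :
    IsNoetherianRing (FixedPoints.subring A G) ∧ Module.Finite (FixedPoints.subring A G) A ∧
      IsIntegrallyClosed (FixedPoints.subring A G) ∧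
      ringKrullDim (FixedPoints.subring A G) = ringKrullDim A ∧
      IsAdicComplete (Ideal.comap (FixedPoints.subring A G).subtype (IsLocalRing.maximalIdeal A))
        (FixedPoints.subring A G) ∧
      ¬ IsRegularLocalRing (FixedPoints.subring A G) := by
  obtain ⟨hN, hfin⟩ := Groth.L13.Wild.Origin.finite_and_noetherian hk hGk
  have := Groth.L13.Wild.Origin.isLocalRing (A := A) (G := G)
  have := Groth.L01.isDomain_of_regular A
  have : IsIntegrallyClosed A := Groth.L03.RegularNormal.isIntegrallyClosed A
  have hp : p.Prime := Fact.out
  have hic : IsIntegrallyClosed (FixedPoints.subring A G) := by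
    have hcyc : IsCyclic G := isCyclic_of_prime_card hcard
    obtain ⟨σ, hσ⟩ := hcyc.exists_generator
    exact Groth.L13.Wild.isIntegrallyClosed_fixed (MulSemiringAction.toRingHom G A σ)
      (FixedPoints.subring A G) fun x => ⟨fun h => h σ, fun h τ => by
        have hst : σ ∈ MulAction.stabilizer G x := h
        exact (Subgroup.zpowers_le.2 hst : Subgroup.zpowers σ ≤ _) (hσ τ)⟩
  refine ⟨hN, hfin, hic, ?_, Groth.L13.Wild.Origin.isAdicComplete hk hGk, fun hreg => ?_⟩
  · have := Groth.L13.Wild.Origin.isIntegral (A := A) (G := G)
    exact ((Groth.Agent.S5763.result (FixedPoints.subring A G) A).2 Subtype.val_injective).symm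
  · have : Module.Free (FixedPoints.subring A G) A :=
      Groth.L13.Wild.free_of_regular (FixedPoints.subring A G) A Subtype.val_injective
    exact Groth.L13.Wild.Origin.not_free hk hGk hdim hp hcard hram

end Groth.Agent.S15798
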