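import Groth.Statements.S15799
import Groth.Agent.L13.Wild.OriginInv
import Groth.Agent.L13.Wild.FrobDescent

set_option autoImplicit false
universe u v w
open WildQuot

namespace Groth.Agent.S15799

/-- Let `A` be a complete regular local ring of Krull dimension `n ≥ 2` and prime characteristic `p`,
`k` a field with `k → A` mapping onto the residue field, and `G` a group of order `p` acting on `A`
by `k`-algebra automorphisms, ramified precisely at the origin (for every non-maximal prime `P`, the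
inertia subgroup of `P` (the elements of `G` fixing every element modulo `P`) is trivial). Let `u_1,
…, u_n` be an admissible regular system of parameters (for every choice `σ_1, …, σ_n ∈ G`, the
elements `σ_i u_i` generate the maximal ideal) and let `φ : k[[X_1, …, X_n]] → A` be the `k`-algebra
map with `φ X_i = x_i = ∏_{σ} σ u_i`, whose image is the norm subring `R`. Then `Frac(A^G)` is not
purely inseparable over `Frac(R)`; equivalently (as `A` is integral over the integrally closed `R`),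
some `G`-invariant `y ∈ A` has no iterated `p`-th power `y ^ (p ^ e)` in `R`. -/
theorem result
    (p : ℕ) [Fact p.Prime] (A : Type u) [CommRing A] [IsRegularLocalRing A] [CharP A p]
    [IsAdicComplete (IsLocalRing.maximalIdeal A) A] (n : ℕ) (hn : ringKrullDim A = n) (h2 : 2 ≤ n)
    (k : Type v) [Field k] [Algebra k A]
    (hk : Function.Surjective (IsLocalRing.residue A ∘ algebraMap k A))
    (G : Type w) [Group G] [Fintype G] [MulSemiringAction G A] (hcard : Fintype.card G = p)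
    [SMulCommClass G k A]
    (hram : ∀ P : Ideal A, P.IsPrime → P ≠ IsLocalRing.maximalIdeal A → P.inertia G = ⊥)
    (u : Fin n → A)
    (hu : ∀ τ : Fin n → G,
      Ideal.span (Set.range fun i => τ i • u i) = IsLocalRing.maximalIdeal A)
    (φ : MvPowerSeries (Fin n) k →ₐ[k] A) (hφ : ∀ i, φ (MvPowerSeries.X i) = ∏ σ : G, σ • u i) :
    ∃ y : A, (∀ σ : G, σ • y = y) ∧ ∀ e : ℕ, y ^ p ^ e ∉ Set.range φ := by
  classical
  by_contra hall
  push Not at hall
  have hpp : p.Prime := Fact.out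
  have := Groth.L01.isDomain_of_regular A
  have : IsIntegrallyClosed A := Groth.L03.RegularNormal.isIntegrallyClosed A
  have : CharP k p := (algebraMap k A).charP (algebraMap k A).injective p
  have hdim : 2 ≤ ringKrullDim A := hn ▸ (by exact_mod_cast h2)
  have hcard' : Nat.card G = p := by rw [Nat.card_eq_fintype_card, hcard]
  have hGk : ∀ (σ : G) (c : k), σ • algebraMap k A c = algebraMap k A c := fun σ c => smul_algebraMap σ c
  obtain ⟨hN, hfin⟩ := Groth.L13.Wild.Origin.finite_and_noetherian hk hGk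
  have := Groth.L13.Wild.Origin.isLocalRing (A := A) (G := G)
  have := Groth.L13.Wild.Origin.isIntegral (A := A) (G := G)
  have := Groth.L13.Wild.Origin.isLocalHom_subtype (A := A) (G := G)
  have : SMulCommClass G (FixedPoints.subring A G) A := ⟨fun g b a => by
    show g • ((b : A) * a) = (b : A) * g • a
    rw [smul_mul', b.2 g]⟩
  have hinjB : Function.Injective (algebraMap (FixedPoints.subring A G) A) := Subtype.val_injective
  have hcyc : IsCyclic G := isCyclic_of_prime_card hcard'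
  obtain ⟨σ, hσ⟩ := hcyc.exists_generator
  have hord : orderOf σ = p := by rw [orderOf_eq_card_of_forall_mem_zpowers hσ, hcard']
  have hcomm : ∀ g h : G, g * h = h * g := fun g h => (IsCyclic.commGroup (α := G)).mul_comm g h
  have hfixed : ∀ a : A, σ • a = a → ∀ g : G, g • a = a := fun a h g => by
    have hst : σ ∈ MulAction.stabilizer G a := h
    exact (Subgroup.zpowers_le.2 hst : Subgroup.zpowers σ ≤ _) (hσ g)
  have hσm : ∀ g : G, ∀ a ∈ IsLocalRing.maximalIdeal A, g • a ∈ IsLocalRing.maximalIdeal A := fun g a ha => by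
    rw [IsLocalRing.mem_maximalIdeal, mem_nonunits_iff] at ha ⊢
    intro hu'
    have := IsUnit.map (MulSemiringAction.toRingHom G A g⁻¹) hu'
    simp only [MulSemiringAction.toRingHom_apply, inv_smul_smul] at this
    exact ha this
  let x : Fin n → A := fun i => ∏ τ : G, τ • u i
  have hxfix : ∀ (g : G) i, g • x i = x i := fun g i => by
    simp only [x, Finset.smul_prod']
    exact Fintype.prod_equiv (Equiv.mulLeft g) _ _ fun τ => by rw [← mul_smul]; rfl
  have hum : ∀ i, u i ∈ IsLocalRing.maximalIdeal A := fun i =>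
    (hu fun _ => 1).le (Ideal.subset_span ⟨i, one_smul _ _⟩)
  have hxm : ∀ i, x i ∈ IsLocalRing.maximalIdeal A := fun i =>
    (IsLocalRing.maximalIdeal.isMaximal A).isPrime.prod_mem_iff.2 ⟨1, Finset.mem_univ _, by rw [one_smul]; exact hum i⟩
  have hrad : (Ideal.span (Set.range x)).radical = IsLocalRing.maximalIdeal A := by
    refine le_antisymm ((IsLocalRing.maximalIdeal.isMaximal A).isPrime.radical_le_iff.2 (Ideal.span_le.2 (by rintro _ ⟨i, rfl⟩; exact hxm i))) ?_
    rw [Ideal.radical_eq_sInf]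
    refine le_sInf fun P hP => ?_
    obtain ⟨hle, hPp⟩ := hP
    choose τ hτ using fun i => show ∃ τ : G, τ • u i ∈ P by
      obtain ⟨τ, -, hτ⟩ := hPp.prod_mem_iff.1 (hle (Ideal.subset_span ⟨i, rfl⟩))
      exact ⟨τ, hτ⟩
    rw [← hu τ, Ideal.span_le]
    rintro _ ⟨i, rfl⟩
    exact hτ i
  have hinj := Groth.L13.Wild.injective_powerSeries φ (Groth.L13.Wild.finite_powerSeries hk x hrad φ hφ) hn
  -- powers of the parameters are traces
  have htr : ∀ i, ∃ (N : ℕ) (y : A), ∑ τ : G, τ • y = x i ^ N := by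
    intro i
    let T : A →ₗ[FixedPoints.subring A G] A := ∑ τ : G, DistribSMul.toLinearMap (FixedPoints.subring A G) A τ
    have hT : ∀ a, T a = ∑ τ : G, τ • a := fun a => by simp [T]
    let J : Ideal (FixedPoints.subring A G) :=
      Submodule.comap (Algebra.linearMap (FixedPoints.subring A G) A) (LinearMap.range T)
    let b : FixedPoints.subring A G := ⟨x i, fun g => hxfix g i⟩
    have hb : b ∈ J.radical := by
      rw [Ideal.radical_eq_sInf, Ideal.mem_sInf]
      intro Q hQ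
      obtain ⟨hle, hQp⟩ := hQ
      by_contra hbQ
      obtain ⟨Q', -, hQ', hQQ⟩ := Ideal.exists_ideal_over_prime_of_isIntegral (R := FixedPoints.subring A G) (S := A) Q ⊥ (by
        rw [← RingHom.ker_eq_comap_bot, (RingHom.injective_iff_ker_eq_bot _).1 hinjB]
        exact bot_le)
      have hI : ∀ P : Ideal A, P.IsPrime → P.comap (algebraMap (FixedPoints.subring A G) A) = Q → P.inertia G = ⊥ := by
        intro P hP hPQ
        refine hram P hP fun h => hbQ ?_
        rw [← hPQ, Ideal.mem_comap, h]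
        exact hxm i
      obtain ⟨y, hy⟩ := Groth.L13.Wild.FrobDescent.exists_trace_notMem hcomm hinjB Q hI Q' hQQ
      refine hy ?_
      have hmem : (⟨∑ τ : G, τ • y, fun g => by
          rw [Finset.smul_sum]
          exact Fintype.sum_equiv (Equiv.mulLeft g) _ _ fun τ => by rw [← mul_smul]; rfl⟩ : FixedPoints.subring A G) ∈ J :=
        ⟨y, hT y⟩
      have := hle hmem
      rw [← hQQ, Ideal.mem_comap] at this
      exact this
    obtain ⟨N, hN⟩ := hb
    obtain ⟨y, hy⟩ := hN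
    exact ⟨N, y, by rw [← hT]; exact hy⟩
  -- Artin–Schreier elements
  have has : ∀ i, ∃ (N : ℕ), ∀ N' ≥ N, ∃ z : A, σ • z = z + x i ^ N' := by
    intro i
    obtain ⟨N, y, hy⟩ := htr i
    refine ⟨N, fun N' hN' => ?_⟩
    let s : ℕ → A := fun j => σ ^ j • (x i ^ (N' - N) * y)
    refine ⟨-∑ j ∈ Finset.range p, (j : A) * s j, ?_⟩
    have hsum : ∑ j ∈ Finset.range p, s j = x i ^ N' := by
      have hb : Function.Bijective (fun j : Fin p => σ ^ (j : ℕ)) := by
        rw [Fintype.bijective_iff_injective_and_card, Fintype.card_fin, hcard]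
        refine ⟨fun a b hab => Fin.ext (pow_injOn_Iio_orderOf ?_ ?_ hab), rfl⟩ <;> simp [hord]
      rw [Finset.sum_range]
      have hfx : ∀ τ : G, τ • x i ^ (N' - N) = x i ^ (N' - N) := fun τ => by rw [smul_pow', hxfix]
      show ∑ j : Fin p, σ ^ (j : ℕ) • (x i ^ (N' - N) * y) = _
      rw [Fintype.sum_bijective _ hb (fun j : Fin p => σ ^ (j : ℕ) • (x i ^ (N' - N) * y))
          (fun τ : G => τ • (x i ^ (N' - N) * y)) fun _ => rfl]
      simp only [smul_mul', hfx]
      rw [← Finset.mul_sum, hy, ← pow_add, Nat.sub_add_cancel hN']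
    have hstep : ∀ j : ℕ, σ • ((j : A) * s j) = ((j + 1 : ℕ) : A) * s (j + 1) - s (j + 1) := fun j => by
      rw [smul_mul', show σ • (j : A) = (j : A) from map_natCast (MulSemiringAction.toRingHom G A σ) j,
        show σ • s j = s (j + 1) by simp only [s]; rw [← mul_smul, pow_succ']]
      push_cast; ring
    have hshift : ∀ f : ℕ → A, f p = f 0 → ∑ j ∈ Finset.range p, f (j + 1) = ∑ j ∈ Finset.range p, f j := fun f hf => by
      have h1 := Finset.sum_range_succ' f p
      rw [Finset.sum_range_succ, hf, add_left_inj] at h1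
      exact h1.symm
    rw [smul_neg, Finset.smul_sum, Finset.sum_congr rfl (fun j _ => hstep j), Finset.sum_sub_distrib,
      hshift (fun j => (j : A) * s j) (by simp [CharP.cast_eq_zero]),
      hshift s (by simp [s, ← hord, pow_orderOf_eq_one]), hsum]
    ring
  obtain ⟨i₁, i₂, hij⟩ : ∃ i₁ i₂ : Fin n, i₁ ≠ i₂ := ⟨⟨0, by omega⟩, ⟨1, by omega⟩, by simp⟩
  obtain ⟨N₁, hN₁⟩ := has i₁
  obtain ⟨N₂, hN₂⟩ := has i₂
  obtain ⟨z₁, hz₁⟩ := hN₁ (max N₁ N₂) (le_max_left _ _)
  obtain ⟨z₂, hz₂⟩ := hN₂ (max N₁ N₂) (le_max_right _ _)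
  set N := max N₁ N₂
  have hb : ∀ i, σ • x i ^ N = x i ^ N := fun i => by rw [smul_pow', hxfix]
  have hone : ∀ z b : A, σ • z = z + b → σ • b = b →
      σ • (z ^ p - b ^ (p - 1) * z) = z ^ p - b ^ (p - 1) * z := fun z b hz hbb => by
    rw [smul_sub, smul_pow', smul_mul', smul_pow', hz, hbb, add_pow_char, mul_add, ← pow_succ, Nat.sub_add_cancel hpp.one_le]
    ring
  obtain ⟨e₀, he₀⟩ := hall (x i₂ ^ N * z₁ - x i₁ ^ N * z₂) (hfixed _ (by
    rw [smul_sub, smul_mul', smul_mul', hb, hb, hz₁, hz₂]; ring))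
  obtain ⟨e₁, he₁⟩ := hall _ (hfixed _ (hone z₁ _ hz₁ (hb i₁)))
  obtain ⟨e₂, he₂⟩ := hall _ (hfixed _ (hone z₂ _ hz₂ (hb i₂)))
  have hup : ∀ (y : A) (e e' : ℕ), e ≤ e' → y ^ p ^ e ∈ Set.range φ → y ^ p ^ e' ∈ Set.range φ := by
    rintro y e e' hee ⟨f, hf⟩
    exact ⟨f ^ p ^ (e' - e), by rw [map_pow, hf, ← pow_mul, ← pow_add, Nat.add_sub_cancel' hee]⟩
  obtain ⟨r, hr⟩ := hup _ _ (max e₀ (max e₁ e₂)) (le_max_left _ _) he₀
  obtain ⟨s₁, hs₁⟩ := hup _ _ (max e₀ (max e₁ e₂)) ((le_max_left _ _).trans (le_max_right _ _)) he₁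
  obtain ⟨s₂, hs₂⟩ := hup _ _ (max e₀ (max e₁ e₂)) ((le_max_right _ _).trans (le_max_right _ _)) he₂
  set e := max e₀ (max e₁ e₂)
  have hX : ∀ i, φ (MvPowerSeries.X i ^ (N * p ^ e)) = (x i ^ N) ^ p ^ e := fun i => by
    rw [map_pow, hφ, pow_mul]
  rw [sub_pow_char_pow, mul_pow, mul_pow] at hr
  rw [sub_pow_char_pow, mul_pow, ← pow_mul z₁, ← pow_mul (x i₁ ^ N) (p - 1), mul_comm p, mul_comm (p - 1),
    pow_mul z₁, pow_mul (x i₁ ^ N)] at hs₁
  rw [sub_pow_char_pow, mul_pow, ← pow_mul z₂, ← pow_mul (x i₂ ^ N) (p - 1), mul_comm p, mul_comm (p - 1),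
    pow_mul z₂, pow_mul (x i₂ ^ N)] at hs₂
  have hrel : r ^ p - (MvPowerSeries.X i₁ ^ (N * p ^ e) * MvPowerSeries.X i₂ ^ (N * p ^ e)) ^ (p - 1) * r =
      (MvPowerSeries.X i₁ ^ (N * p ^ e)) ^ p * (-s₂) + (MvPowerSeries.X i₂ ^ (N * p ^ e)) ^ p * s₁ := by
    apply hinj
    simp only [map_sub, map_add, map_mul, map_neg, hr, hs₁, hs₂, map_pow φ _ p, map_pow φ _ (p - 1), hX]
    rw [sub_pow_char]
    obtain ⟨m, hm⟩ : ∃ m, p = m + 1 := ⟨p - 1, by have := hpp.one_le; omega⟩
    rw [hm, Nat.add_sub_cancel]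
    ring
  obtain ⟨c₁, c₂, hc⟩ := Ideal.mem_span_pair.1 (Groth.L13.Wild.FrobDescent.mem_of_frobenius hpp hij _ r _ _ hrel)
  have hc' := congrArg φ hc
  rw [map_add, map_mul, map_mul, hX, hX, hr] at hc'
  set a₁ := (x i₁ ^ N) ^ p ^ e
  set a₂ := (x i₂ ^ N) ^ p ^ e
  set W₁ := z₁ ^ p ^ e - φ c₂
  set W₂ := z₂ ^ p ^ e + φ c₁
  have hW : a₂ * W₁ = a₁ * W₂ := by simp only [W₁, W₂]; linear_combination -hc'
  have hx0 : ∀ i, x i ≠ 0 := fun i h => by
    obtain ⟨τ, -, hτ⟩ := Finset.prod_eq_zero_iff.1 h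
    have h0 : u i = 0 := (smul_eq_zero_iff_eq τ).1 hτ
    obtain ⟨j, hj⟩ : ∃ j : Fin n, j ≠ i := by
      rcases eq_or_ne i₁ i with h | h
      · exact ⟨i₂, h ▸ hij.symm⟩
      · exact ⟨i₁, h⟩
    have := Groth.L13.Wild.FrobDescent.two_le_height hn (fun l => (fun _ : Fin n => (1 : G)) l • u l) (hu fun _ => 1) hj.symm
    simp only [one_smul] at this
    obtain ⟨q, hq⟩ := Ideal.nonempty_minimalPrimes (I := Ideal.span {u j})
      (ne_top_of_le_ne_top (IsLocalRing.maximalIdeal.isMaximal A).ne_top ((Ideal.span_singleton_le_iff_mem _).2 (hum j)))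
    have hqp : q.IsPrime := hq.isPrime
    have h1 := this q (h0 ▸ q.zero_mem) (hq.1.2 (Ideal.mem_span_singleton_self _))
    have h2' : (q.height : ℕ∞) ≤ 1 := Ideal.height_le_one_of_isPrincipal_of_mem_minimalPrimes _ _ hq
    exact absurd (h1.trans h2') (by decide)
  obtain ⟨t, ht⟩ : a₁ ∣ W₁ := by
    refine Groth.L13.Wild.Inv.mem_range_of_codimOne (pow_ne_zero _ (pow_ne_zero _ (hx0 i₁))) fun q hq hht => ?_
    by_cases h1 : a₁ ∈ q
    · refine ⟨a₂, fun h2' => ?_, hW ▸ dvd_mul_right _ _⟩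
      obtain ⟨τ₁, -, hτ₁⟩ := hq.prod_mem_iff.1 (hq.mem_of_pow_mem _ (hq.mem_of_pow_mem _ h1))
      obtain ⟨τ₂, -, hτ₂⟩ := hq.prod_mem_iff.1 (hq.mem_of_pow_mem _ (hq.mem_of_pow_mem _ h2'))
      have := Groth.L13.Wild.FrobDescent.two_le_height hn _ (hu fun l => if l = i₁ then τ₁ else τ₂) hij q
        (by simpa using hτ₁) (by simpa [hij.symm] using hτ₂)
      rw [hht] at this
      exact absurd this (by decide)
    · exact ⟨a₁, h1, dvd_mul_right _ _⟩
  have hφfix : ∀ f, σ • φ f = φ f := fun f => by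
    have h3 : (MulSemiringAction.toAlgHom k A σ).comp φ = φ :=
      Groth.L12.evalPS_ext (IsLocalRing.maximalIdeal A) (fun i => by
        show σ • φ (MvPowerSeries.X i) ∈ _
        rw [hφ]; exact hσm _ _ (hxm i))
        (fun i => by
          show σ • φ (MvPowerSeries.X i) = φ (MvPowerSeries.X i)
          rw [hφ]; exact hxfix σ i)
    exact AlgHom.congr_fun h3 f
  have hW1 : σ • W₁ = W₁ + a₁ := by
    simp only [W₁, a₁]
    rw [smul_sub, smul_pow', hz₁, add_pow_char_pow, hφfix]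
    ring
  rw [ht, smul_mul', show σ • a₁ = a₁ by simp only [a₁]; rw [smul_pow', hb]] at hW1
  have h1 : σ • t = t + 1 := mul_left_cancel₀ (pow_ne_zero _ (pow_ne_zero _ (hx0 i₁)) : a₁ ≠ 0) (by rw [hW1]; ring)
  obtain ⟨c, hc0⟩ := hk (IsLocalRing.residue A t)
  have hmem : t - algebraMap k A c ∈ IsLocalRing.maximalIdeal A := by
    rw [← IsLocalRing.residue_eq_zero_iff, map_sub, sub_eq_zero]
    exact hc0.symm
  have h3 := sub_mem (hσm σ _ hmem) hmem
  rw [smul_sub, hGk, h1] at h3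
  ring_nf at h3
  exact (IsLocalRing.maximalIdeal.isMaximal A).ne_top ((Ideal.eq_top_iff_one _).2 h3)

end Groth.Agent.S15799
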