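import Groth.Statements.S15800
import Groth.Agent.L13.Wild.AutExtend

set_option autoImplicit false
universe u v w
open WildQuot

namespace Groth.Agent.S15800

/-- Let `A` be a complete regular local ring of Krull dimension at least `2` and prime characteristic
`p`; let `k` be a field with `k → A` mapping onto the residue field, such that `k` has no Galois
extension of degree `p`; let `G` be a group of order `p` acting on `A` by `k`-algebra automorphisms,
ramified precisely at the origin (for every non-maximal prime `P`, the inertia subgroup of `P` (the
elements of `G` fixing every element modulo `P`) is trivial). Then every `k`-algebra automorphism of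
the ring of invariants `A^G` is the restriction of a `k`-algebra automorphism of `A`. (The published
statement also asserts that when `A^G` contains a subring `R` with `A^G` finite over `R` and
`Frac(A^G)/Frac(R)` Galois, then `Frac(A)/Frac(R)` is Galois; this row omits that clause.) -/
theorem result
    (p : ℕ) [Fact p.Prime] (A : Type u) [CommRing A] [IsRegularLocalRing A] [CharP A p]
    [IsAdicComplete (IsLocalRing.maximalIdeal A) A] (hdim : 2 ≤ ringKrullDim A)
    (k : Type v) [Field k] [Algebra k A]
    (hk : Function.Surjective (IsLocalRing.residue A ∘ algebraMap k A))
    (hkp : ∀ (L : Type v) [Field L] [Algebra k L], IsGalois k L → Module.finrank k L ≠ p)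
    (G : Type w) [Group G] [Finite G] [MulSemiringAction G A] (hcard : Nat.card G = p)
    [SMulCommClass G k A]
    (hram : ∀ P : Ideal A, P.IsPrime → P ≠ IsLocalRing.maximalIdeal A → P.inertia G = ⊥)
    (φ : FixedPoints.subalgebra k A G ≃ₐ[k] FixedPoints.subalgebra k A G) :
    ∃ ψ : A ≃ₐ[k] A, ∀ x : FixedPoints.subalgebra k A G, ψ x = φ x := by
  exact Groth.L13.Wild.AutExtend.exists_extension hdim hk hkp hcard hram φ

end Groth.Agent.S15800
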