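import Groth.Statements.S15803
import Groth.Agent.L13.Purity.InertiaGen

set_option autoImplicit false
universe u v w
open WildQuot

namespace Groth.Agent.S15803

/-- Let `R` be a regular local ring and `A` a normal local domain, finite over `R` (with `R → A`
injective) and with the same residue field; let a finite group `H` act faithfully on `A` by
`R`-algebra automorphisms with ring of invariants exactly `R` (so `Frac(A)/Frac(R)` is Galois with
group `H`); let `p` be a prime and suppose that every nontrivial inertia subgroup of a height-one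
prime of `A` has order `p` and is normal in `H`. Then `H` is commutative and every element satisfies
`h ^ p = 1`: `H` is an elementary abelian `p`-group (of order the degree of `Frac(A)` over
`Frac(R)`). (The published statement is for `A` a complete regular local ring with an action
ramified precisely at the origin, `R = k[[x_1, …, x_n]]` a norm subring and `H` the Galois group of
`Frac(A)/Frac(R)`, when that extension is Galois; this row assumes only the hypotheses listed
above.) -/
theorem result
    (p : ℕ) [Fact p.Prime] (R : Type u) [CommRing R] [IsRegularLocalRing R]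
    (A : Type v) [CommRing A] [IsDomain A] [IsIntegrallyClosed A] [IsLocalRing A]
    [Algebra R A] [Module.Finite R A] (hinj : Function.Injective (algebraMap R A))
    (hres : Function.Surjective (IsLocalRing.residue A ∘ algebraMap R A))
    (H : Type w) [Group H] [Finite H] [MulSemiringAction H A] [SMulCommClass H R A] [FaithfulSMul H A]
    (hfix : ∀ a : A, (∀ h : H, h • a = a) → a ∈ Set.range (algebraMap R A))
    (hMR2 : ∀ P : Ideal A, P.IsPrime → P.height = 1 → P.inertia H ≠ ⊥ →
      Nat.card (P.inertia H) = p ∧ (P.inertia H).Normal) :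
    (∀ g h : H, g * h = h * g) ∧ ∀ h : H, h ^ p = 1 := by
  classical
  have htop := Groth.L13.Purity.iSup_inertia_eq_top hinj hres hfix (H := H)
  have hgen : ∀ P : {P : Ideal A // P.IsPrime ∧ P.height = 1}, ∀ g ∈ P.1.inertia H,
      g ^ p = 1 ∧ g ∈ Subgroup.center H := by
    intro P g hg
    by_cases hg1 : g = 1
    · subst hg1; exact ⟨one_pow _, one_mem _⟩
    have hne : P.1.inertia H ≠ ⊥ := fun h => hg1 (by rwa [h, Subgroup.mem_bot] at hg)
    obtain ⟨hcard, hnorm⟩ := hMR2 P.1 P.2.1 P.2.2 hne
    refine ⟨?_, ?_⟩
    · have := pow_card_eq_one' (x := (⟨g, hg⟩ : P.1.inertia H))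
      rw [hcard] at this
      exact congrArg Subtype.val this
    rw [Subgroup.mem_center_iff]
    intro k
    have hk : k ∈ (⨆ P : {P : Ideal A // P.IsPrime ∧ P.height = 1}, P.1.inertia H) := by rw [htop]; trivial
    induction hk using Subgroup.iSup_induction' with
    | h1 => simp
    | hmul a b _ _ ha hb => rw [mul_assoc, hb, ← mul_assoc, ha, mul_assoc]
    | hp P' k hk =>
      by_cases hk1 : k = 1
      · simp [hk1]
      have hne' : P'.1.inertia H ≠ ⊥ := fun h => hk1 (by rwa [h, Subgroup.mem_bot] at hk)
      obtain ⟨hcard', hnorm'⟩ := hMR2 P'.1 P'.2.1 P'.2.2 hne'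
      haveI : Fact (Nat.card (P.1.inertia H)).Prime := ⟨hcard.symm ▸ Fact.out⟩
      rcases ((P'.1.inertia H).subgroupOf (P.1.inertia H)).eq_bot_or_eq_top_of_prime_card with h | h
      · have hdisj : Disjoint (P'.1.inertia H) (P.1.inertia H) := by
          rw [Subgroup.subgroupOf_eq_bot] at h
          exact h
        exact (Subgroup.commute_of_normal_of_disjoint _ _ hnorm' hnorm hdisj k g hk hg).eq
      · rw [Subgroup.subgroupOf_eq_top] at h
        have heq : P.1.inertia H = P'.1.inertia H :=
          Subgroup.eq_of_le_of_card_ge h (by rw [hcard, hcard'])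
        haveI : IsCyclic (P.1.inertia H) := isCyclic_of_prime_card hcard
        letI := IsCyclic.commGroup (α := P.1.inertia H)
        exact congrArg Subtype.val (mul_comm (⟨k, heq ▸ hk⟩ : P.1.inertia H) ⟨g, hg⟩)
  have hle : (⊤ : Subgroup H) ≤ Subgroup.center H := htop ▸ iSup_le fun P g hg => (hgen P g hg).2
  have hcomm : ∀ g h : H, g * h = h * g := fun g h => (Subgroup.mem_center_iff.1 (hle trivial) g)
  refine ⟨hcomm, fun h => ?_⟩
  have hh : h ∈ (⨆ P : {P : Ideal A // P.IsPrime ∧ P.height = 1}, P.1.inertia H) := by rw [htop]; trivial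
  induction hh using Subgroup.iSup_induction' with
  | h1 => exact one_pow _
  | hmul a b _ _ ha hb => rw [Commute.mul_pow (hcomm a b), ha, hb, one_mul]
  | hp P g hg => exact (hgen P g hg).1

end Groth.Agent.S15803
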