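import Groth.Statements.S15804
import Groth.Agent.L13.Wild.PurityDimTwo

set_option autoImplicit false
universe u v w
open WildQuot

namespace Groth.Agent.S15804

/-- Let `R` be a regular local ring and `A` a normal local domain, finite over `R` (with `R → A`
injective) and with the same residue field; let a finite group `H` act faithfully on `A` by
`R`-algebra automorphisms with ring of invariants exactly `R` (so `Frac(A)/Frac(R)` is Galois with
group `H`); assume `A` has Krull dimension `2`, `H` has order `p ^ 2` for a prime `p`, and `Γ ≤ H`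
is a subgroup of order `p` whose intersection with the inertia subgroup of every non-maximal prime
of `A` is trivial (the action of `Γ` is ramified precisely at the origin). Then every nontrivial
inertia subgroup of a height-one prime of `A` has order `p`, and `H` is commutative with every
element satisfying `h ^ p = 1`, i.e. elementary abelian of order `p ^ 2`. (The published statement
is for `A` a complete regular local ring with an action ramified precisely at the origin, `R =
k[[x_1, …, x_n]]` a norm subring and `H` the Galois group of `Frac(A)/Frac(R)`, when that extension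
is Galois; this row assumes only the hypotheses listed above.) -/
theorem result
    (p : ℕ) [Fact p.Prime] (R : Type u) [CommRing R] [IsRegularLocalRing R]
    (A : Type v) [CommRing A] [IsDomain A] [IsIntegrallyClosed A] [IsLocalRing A]
    [Algebra R A] [Module.Finite R A] (hinj : Function.Injective (algebraMap R A))
    (hres : Function.Surjective (IsLocalRing.residue A ∘ algebraMap R A))
    (H : Type w) [Group H] [Finite H] [MulSemiringAction H A] [SMulCommClass H R A] [FaithfulSMul H A]
    (hfix : ∀ a : A, (∀ h : H, h • a = a) → a ∈ Set.range (algebraMap R A))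
    (hdim : ringKrullDim A = 2) (hcard : Nat.card H = p ^ 2)
    (Γ : Subgroup H) (hΓ : Nat.card Γ = p)
    (hram : ∀ P : Ideal A, P.IsPrime → P ≠ IsLocalRing.maximalIdeal A → P.inertia H ⊓ Γ = ⊥) :
    (∀ P : Ideal A, P.IsPrime → P.height = 1 → P.inertia H ≠ ⊥ → Nat.card (P.inertia H) = p) ∧
      (∀ g h : H, g * h = h * g) ∧ ∀ h : H, h ^ p = 1 := by
  classical
  have := Groth.L01.isDomain_of_regular R
  have := Groth.L03.RegularNormal.isIntegrallyClosed R
  have hp : p.Prime := Fact.out
  have hI : ∀ P : Ideal A, P.IsPrime → P.height = 1 → P.inertia H ≠ ⊥ → Nat.card (P.inertia H) = p := by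
    intro P hP hht hne
    have hPm : P ≠ IsLocalRing.maximalIdeal A := by
      rintro rfl
      have := IsLocalRing.maximalIdeal_height_eq_ringKrullDim (R := A)
      rw [hdim, hht] at this
      exact absurd this (by decide)
    have hinf := hram P hP hPm
    have hdvd : Nat.card (P.inertia H) ∣ p ^ 2 := hcard ▸ Subgroup.card_subgroup_dvd_card _
    obtain ⟨i, hi2, hi⟩ := (Nat.dvd_prime_pow hp).1 hdvd
    have hinj' : Function.Injective (fun x : P.inertia H × Γ => (x.1 : H) * x.2) := by
      rintro ⟨a, b⟩ ⟨a', b'⟩ h
      have h1 : (a' : H)⁻¹ * a = (b' : H) * (b : H)⁻¹ := by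
        rw [eq_mul_inv_iff_mul_eq, mul_assoc, show (a : H) * b = a' * b' from h, inv_mul_cancel_left]
      have h2 : (a' : H)⁻¹ * a ∈ P.inertia H ⊓ Γ :=
        ⟨(P.inertia H).mul_mem ((P.inertia H).inv_mem a'.2) a.2, h1 ▸ Γ.mul_mem b'.2 (Γ.inv_mem b.2)⟩
      rw [hinf, Subgroup.mem_bot] at h2
      rw [h2] at h1
      exact Prod.ext (Subtype.ext (inv_mul_eq_one.1 h2).symm) (Subtype.ext (mul_inv_eq_one.1 h1.symm).symm)
    have hle := Nat.card_le_card_of_injective _ hinj'
    rw [Nat.card_prod, hcard, hi, hΓ] at hle
    interval_cases i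
    · exact absurd (Subgroup.card_eq_one.1 hi) hne
    · simpa using hi
    · nlinarith [hp.two_le, pow_pos hp.pos 2]
  have hcomm : ∀ g h : H, g * h = h * g := fun g h => (IsPGroup.commGroupOfCardEqPrimeSq hcard).mul_comm g h
  refine ⟨hI, hcomm, fun h => ?_⟩
  by_contra hh
  have hcyc : IsCyclic H := by
    refine isCyclic_of_orderOf_eq_card h ?_
    rw [hcard]
    obtain ⟨i, hi2, hi⟩ := (Nat.dvd_prime_pow hp).1 (hcard ▸ orderOf_dvd_natCard h)
    interval_cases i
    · exact absurd (by rw [(orderOf_eq_one_iff (x := h)).1 (by simpa using hi), one_pow]) hh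
    · exact absurd (orderOf_dvd_iff_pow_eq_one.1 (dvd_of_eq (by simpa using hi))) hh
    · exact hi
  have hunr : ∀ P : Ideal A, P.IsPrime → P.height = 1 → P.inertia H = ⊥ := by
    intro P hP hht
    by_contra hne
    have hPm : P ≠ IsLocalRing.maximalIdeal A := by
      rintro rfl
      have := IsLocalRing.maximalIdeal_height_eq_ringKrullDim (R := A)
      rw [hdim, hht] at this
      exact absurd this (by decide)
    exact Groth.L13.Wild.Inv.inf_ne_bot_of_isCyclic hp (hI P hP hht hne) hΓ (hram P hP hPm)
  have hR : ringKrullDim R = 2 := by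
    refine le_antisymm ?_ (hdim ▸ Order.krullDim_le_of_strictMono (PrimeSpectrum.comap (algebraMap R A))
      fun I J h => Ideal.IsIntegral.comap_lt_comap (I := I.asIdeal) (J := J.asIdeal) h)
    refine hdim ▸ iSup_le fun l => ?_
    obtain ⟨Q, -, hQ, hQl⟩ := Ideal.exists_ideal_over_prime_of_isIntegral l.head.asIdeal (⊥ : Ideal A)
      (by rw [← RingHom.ker_eq_comap_bot, (RingHom.injective_iff_ker_eq_bot _).mp hinj]; exact bot_le)
    have : Q.LiesOver l.head.asIdeal := ⟨hQl.symm⟩
    obtain ⟨L, hL, -, -⟩ := Ideal.exists_ltSeries_of_hasGoingUp l Q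
    exact hL ▸ Order.LTSeries.length_le_krullDim L
  have := Groth.L13.Wild.Inv.free_of_normal_dim_two R A hinj hR hdim
  have hsub := Groth.L13.Wild.Inv.subsingleton_of_unramified hinj hres hfix hcomm hunr
  exact hh (by rw [Subsingleton.elim h 1, one_pow])

end Groth.Agent.S15804
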