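import Groth.Statements.S19997
import Groth.Agent.L13.Wild.MRSeries

set_option autoImplicit false
universe u
open WildQuot

namespace Groth.Agent.S19997

open MvPolynomial in
/-- Let `k` be a field of characteristic `p > 0`, `n ≥ 2`, `R = k[[x_1, …, x_n]]`, `a_1, …, a_n ∈ R`
with zero constant term and pairwise coprime, `μ ∈ R` nonzero and coprime to each `a_i`, `A = R[u_1,
…, u_n] / (u_i ^ p - (μ a_i) ^ (p-1) u_i - x_i : i = 1..n)`, and `σ` the `R`-algebra automorphism of
`A` with `σ u_i = u_i + μ a_i` for every `i` (it generates a group `G` of order `p`). Fix an index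
`i₀` and let `A_ci ⊆ A` be the `R`-subalgebra generated by the minor elements `z_j = a_{i₀} u_j -
a_j u_{i₀}`, `j ≠ i₀` (these are `σ`-invariant). Then `A_ci[1/(μ a_{i₀})] = A^G[1/(μ a_{i₀})]`: for
every `σ`-invariant `t ∈ A` some power `(μ a_{i₀}) ^ N t` lies in `A_ci`. (The published statement
uses the first index for `i₀`.) -/
theorem result
    (p : ℕ) [Fact p.Prime] (k : Type u) [Field k] [CharP k p] (n : ℕ) (hn : 2 ≤ n)
    (a : Fin n → MvPowerSeries (Fin n) k) (μ : MvPowerSeries (Fin n) k)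
    (ham : ∀ i, MvPowerSeries.constantCoeff (a i) = 0) (hcop : ∀ i j, i ≠ j → IsRelPrime (a i) (a j))
    (hμ : μ ≠ 0) (hμa : ∀ i, IsRelPrime μ (a i)) (i₀ : Fin n) :
    let R := MvPowerSeries (Fin n) k
    let I : Ideal (MvPolynomial (Fin n) R) :=
      Ideal.span (Set.range fun i : Fin n =>
        X i ^ p - C ((μ * a i) ^ (p - 1)) * X i - C (MvPowerSeries.X i))
    let A := MvPolynomial (Fin n) R ⧸ I
    let u : Fin n → A := fun i => Ideal.Quotient.mk I (X i)
    let z : {j : Fin n // j ≠ i₀} → A := fun j =>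
      algebraMap R A (a i₀) * u j.1 - algebraMap R A (a j.1) * u i₀
    ∀ σ : A ≃ₐ[R] A, (∀ i, σ (u i) = u i + algebraMap R A (μ * a i)) →
      ∀ t : A, σ t = t →
        ∃ N : ℕ, algebraMap R A (μ * a i₀) ^ N * t ∈ Algebra.adjoin R (Set.range z) := by
  intro R I A u z σ hσ t ht
  let b : Fin n → R := fun i => μ * a i
  have hb : ∀ i, MvPowerSeries.constantCoeff (b i) = 0 := fun i => by simp [b, ham i]
  have hdom : IsDomain A := Groth.L13.Wild.MR.isDomain (p := p) b hb
  have : CharP A p := Groth.L13.Wild.MR.charP b _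
  obtain ⟨N, hN⟩ := Groth.L13.Wild.exists_pow_mul_mem (S := Algebra.adjoin R (insert (u i₀) (Set.range z)))
    (a i₀) (G := Set.range u) (by
      rintro _ ⟨j, rfl⟩
      by_cases hj : j = i₀
      · subst hj
        exact mul_mem (Subalgebra.algebraMap_mem _ _) (Algebra.subset_adjoin (Set.mem_insert _ _))
      · rw [show algebraMap R A (a i₀) * u j = z ⟨j, hj⟩ + algebraMap R A (a j) * u i₀ by simp [z]]
        exact add_mem (Algebra.subset_adjoin (Set.mem_insert_of_mem _ ⟨_, rfl⟩))
          (mul_mem (Subalgebra.algebraMap_mem _ _) (Algebra.subset_adjoin (Set.mem_insert _ _))))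
    (t := t) (by rw [show Algebra.adjoin R (Set.range u) = ⊤ from Groth.L13.Wild.MR.adjoin_U b _]; trivial)
  refine ⟨N, ?_⟩
  have h2 : algebraMap R A (a i₀) ^ N * t ∈ Algebra.adjoin R (Set.range z) := by
    refine Groth.L13.Wild.mem_adjoin_of_fixed p σ.toAlgHom ?_ (hσ i₀) (fun e => ?_) (σ.commutes _)
      (g := b i₀ ^ (p - 1)) (h := MvPowerSeries.X i₀) (Groth.L13.Wild.MR.U_pow b _ i₀) hN ?_
    · rintro _ ⟨j, rfl⟩
      show σ (z j) = z j
      simp only [z, map_sub, map_mul, AlgEquiv.commutes, hσ]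
      ring
    · exact mul_ne_zero hμ (Groth.L13.Wild.MR.ne_zero_of_coprime hn ham hcop i₀)
        (Groth.L13.Wild.MR.algebraMap_injective b (fun i => MvPowerSeries.X i) (e.trans (map_zero _).symm))
    · show σ _ = _
      rw [map_mul, map_pow, σ.commutes, ht]
  rw [map_mul]
  rw [show (algebraMap R A μ * algebraMap R A (a i₀)) ^ N * t = algebraMap R A μ ^ N * (algebraMap R A (a i₀) ^ N * t) by ring]
  exact mul_mem (pow_mem (Subalgebra.algebraMap_mem _ _) _) h2

end Groth.Agent.S19997
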