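import Groth.Statements.S15808
import Groth.Agent.L13.Wild.MRSeries
import Groth.Agent.L13.Wild.MRMinor
import Groth.Agent.L13.Wild.FixedNormal
import Groth.Agent.L03.RegularNormal
import Groth.Agent.S19997

set_option autoImplicit false
universe u
open WildQuot

namespace Groth.Agent.S15808

open MvPolynomial in
/-- Let `k` be a field of characteristic `p > 0`, `n ≥ 2`, `R = k[[x_1, …, x_n]]`, `a_1, …, a_n ∈ R`
with zero constant term and pairwise coprime, `μ ∈ R` nonzero and coprime to each `a_i`; fix an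
index `i₀` and let `B = R[Z_j : j ≠ i₀] / (Z_j ^ p - (μ a_{i₀} a_j) ^ (p-1) Z_j - (a_{i₀} ^ p x_j -
a_j ^ p x_{i₀}) : j ≠ i₀)`, the complete-intersection ring of the minor elements through `u_{i₀}`.
Then `B` is a free `R`-module of rank `p ^ (n-1)`, `B` is an integral domain, and the localisation
`B[1/(μ a_{i₀})]` is integrally closed. (The published statement uses the first index for `i₀`; this
row allows any index.) -/
theorem result
    (p : ℕ) [Fact p.Prime] (k : Type u) [Field k] [CharP k p] (n : ℕ) (hn : 2 ≤ n)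
    (a : Fin n → MvPowerSeries (Fin n) k) (μ : MvPowerSeries (Fin n) k)
    (ham : ∀ i, MvPowerSeries.constantCoeff (a i) = 0) (hcop : ∀ i j, i ≠ j → IsRelPrime (a i) (a j))
    (hμ : μ ≠ 0) (hμa : ∀ i, IsRelPrime μ (a i)) (i₀ : Fin n) :
    let R := MvPowerSeries (Fin n) k
    let r : {j : Fin n // j ≠ i₀} → MvPolynomial {j : Fin n // j ≠ i₀} R := fun j =>
      X j ^ p - C ((μ * a i₀ * a j.1) ^ (p - 1)) * X j
        - C (a i₀ ^ p * MvPowerSeries.X j.1 - a j.1 ^ p * MvPowerSeries.X i₀)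
    let B := MvPolynomial {j : Fin n // j ≠ i₀} R ⧸ Ideal.span (Set.range r)
    Module.Free R B ∧ Module.finrank R B = p ^ (n - 1) ∧ IsDomain B ∧
      IsIntegrallyClosed (Localization.Away (algebraMap R B (μ * a i₀))) := by
  intro R r B
  have : IsDomain (MvPowerSeries (Fin n) k) := NoZeroDivisors.to_isDomain _
  let x : Fin n → R := fun i => MvPowerSeries.X i
  let b : Fin n → R := fun i => μ * a i
  let b' := Groth.L13.Wild.MR.mb μ a i₀
  let c' := Groth.L13.Wild.MR.mc a x i₀ p
  have ha := Groth.L13.Wild.MR.ne_zero_of_coprime hn ham hcop i₀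
  have hb : ∀ i, MvPowerSeries.constantCoeff (b i) = 0 := fun i => by simp [b, ham i]
  let A := Groth.L13.Wild.MR.Alg p b x
  have hdom : IsDomain A := Groth.L13.Wild.MR.isDomain (p := p) b hb
  have hreg : IsRegularLocalRing A := Groth.L13.Wild.MR.isRegularLocalRing (p := p) b hb
  have hnorm : IsIntegrallyClosed A := Groth.L03.RegularNormal.isIntegrallyClosed A
  let ψ := Groth.L13.Wild.MR.psi (p := p) μ a x i₀
  have hinj : Function.Injective ψ := Groth.L13.Wild.MR.psi_injective (p := p) μ a x i₀ ha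
  have hBdom : IsDomain B := hinj.isDomain ψ.toRingHom
  refine ⟨Groth.L13.Wild.MR.moduleFree b' c', ?_, hBdom, ?_⟩
  · have h := Groth.L13.Wild.MR.finrank_eq (p := p) b' c'
    rw [Fintype.card_subtype_compl, Fintype.card_fin, Fintype.card_subtype_eq] at h
    exact h
  let σ := Groth.L13.Wild.MR.shift b x (1 : Fin n → ZMod p)
  have hσU : ∀ i, σ (Groth.L13.Wild.MR.U b x i) = Groth.L13.Wild.MR.U b x i + algebraMap R A (b i) := fun i => by
    rw [Groth.L13.Wild.MR.shift_U, Pi.one_apply, map_one, one_mul]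
  have hσψ : ∀ w, σ (ψ w) = ψ w := Groth.L13.Wild.MR.shift_one_psi μ a x i₀
  have hβ : algebraMap R B (μ * a i₀) ≠ 0 := fun h =>
    mul_ne_zero hμ ha (Groth.L13.Wild.MR.algebraMap_injective b' c' (h.trans (map_zero _).symm))
  refine Groth.L13.Wild.isIntegrallyClosed_away ψ.toRingHom hinj σ.toAlgHom.toRingHom hσψ hβ fun t ht => ?_
  obtain ⟨N, hN⟩ := Groth.Agent.S19997.result p k n hn a μ ham hcop hμ hμa i₀ σ hσU t ht
  obtain ⟨w, hw⟩ : algebraMap R A (μ * a i₀) ^ N * t ∈ ψ.range := by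
    rw [Groth.L13.Wild.MR.range_psi]; exact hN
  refine ⟨w, N, ?_⟩
  show ψ w = ψ (algebraMap R B (μ * a i₀)) ^ N * t
  rw [show ψ (algebraMap R B (μ * a i₀)) = algebraMap R A (μ * a i₀) from ψ.commutes _]
  exact hw

end Groth.Agent.S15808
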