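import Groth.Statements.S15810
import Groth.Agent.L13.Wild.MRHs
import Groth.Agent.L13.Wild.MRSeries
import Groth.Agent.L10.RegularUFD
import Groth.Agent.L01.PowSerReg

set_option autoImplicit false
universe u
open WildQuot

namespace Groth.Agent.S15810

open MvPolynomial in
/-- Let `k` be a field of characteristic `p > 0`, `n ≥ 2`, `R = k[[x_1, …, x_n]]`, `a_1, …, a_n ∈ R`
with zero constant term and pairwise coprime, `μ ∈ R` nonzero and coprime to each `a_i`, `A = R[u_1,
…, u_n] / (u_i ^ p - (μ a_i) ^ (p-1) u_i - x_i : i = 1..n)`, and `σ_1, …, σ_n` the `R`-algebra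
automorphisms of `A` with `σ_i u_j = u_j + δ_{ij} μ a_i` (they generate an elementary abelian group
`H` of order `p ^ n`). For a nonzero vector `s ∈ (ℤ/p)^n` let `H_s = {ν : Σ ν_i s_i = 0}`, `α =
∏_{s_i ≠ 0} a_i`, `α_i = ∏_{j ≠ i, s_j ≠ 0} a_j`, `z_s = Σ_{s_i ≠ 0} s_i α_i u_i` and `f_s(T) = T ^
p - (μ α) ^ (p-1) T - Σ_{s_i ≠ 0} s_i α_i ^ p x_i`. Then an element of `A` is fixed by `∏_i σ_i ^
{ν_i}` for every `ν ∈ H_s` if and only if it is a polynomial over `R` in `z_s`, and the kernel of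
`R[T] → A`, `T ↦ z_s`, is generated by `f_s`: the ring of invariants of `H_s` is `R[T]/(f_s)`, in
particular free of rank `p` over `R`. -/
theorem result
    (p : ℕ) [Fact p.Prime] (k : Type u) [Field k] [CharP k p] (n : ℕ) (hn : 2 ≤ n)
    (a : Fin n → MvPowerSeries (Fin n) k) (μ : MvPowerSeries (Fin n) k)
    (ham : ∀ i, MvPowerSeries.constantCoeff (a i) = 0) (hcop : ∀ i j, i ≠ j → IsRelPrime (a i) (a j))
    (hμ : μ ≠ 0) (hμa : ∀ i, IsRelPrime μ (a i))
    (s : Fin n → ZMod p) (hs : s ≠ 0) :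
    let R := MvPowerSeries (Fin n) k
    let I : Ideal (MvPolynomial (Fin n) R) :=
      Ideal.span (Set.range fun i : Fin n =>
        X i ^ p - C ((μ * a i) ^ (p - 1)) * X i - C (MvPowerSeries.X i))
    let A := MvPolynomial (Fin n) R ⧸ I
    let u : Fin n → A := fun i => Ideal.Quotient.mk I (X i)
    let c : Fin n → R := fun i => algebraMap k R (ZMod.castHom (dvd_refl p) k (s i))
    let α : R := ∏ i ∈ Finset.univ.filter (fun i => s i ≠ 0), a i
    let αi : Fin n → R := fun i => ∏ j ∈ (Finset.univ.filter (fun j => s j ≠ 0)).erase i, a j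
    let z : A := ∑ i ∈ Finset.univ.filter (fun i => s i ≠ 0), algebraMap R A (c i * αi i) * u i
    let f : Polynomial R := Polynomial.X ^ p - Polynomial.C ((μ * α) ^ (p - 1)) * Polynomial.X
      - Polynomial.C (∑ i ∈ Finset.univ.filter (fun i => s i ≠ 0), c i * αi i ^ p * MvPowerSeries.X i)
    ∀ σ : Fin n → (A ≃ₐ[R] A),
      (∀ i j, σ i (u j) = u j + (if i = j then algebraMap R A (μ * a i) else 0)) →
      (∀ t : A, (∀ ν : Fin n → ZMod p, ∑ i, ν i * s i = 0 →
          (List.ofFn (fun i : Fin n => σ i ^ (ν i).val)).prod t = t) ↔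
        t ∈ (Polynomial.aeval z : Polynomial R →ₐ[R] A).range) ∧
      RingHom.ker (Polynomial.aeval z : Polynomial R →ₐ[R] A) = Ideal.span {f} := by
  intro R I A u c α αi z f σ hσ
  classical
  haveI : CharP R p := Groth.L13.Wild.MR.charP_mvPowerSeries p
  haveI : IsRegularLocalRing R := Groth.L01.PowSerReg.isRegularLocalRing k n
  haveI : IsDomain R := Groth.L01.isDomain_of_regular _
  haveI : UniqueFactorizationMonoid R := Groth.L10.RegUFD.isUFD R
  let b : Fin n → R := fun i => μ * a i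
  let x : Fin n → R := fun i => MvPowerSeries.X i
  haveI : IsDomain (Groth.L13.Wild.MR.Alg p b x) := Groth.L13.Wild.MR.isDomain (p := p) b fun i => by
    rw [map_mul, ham i, mul_zero]
  have ha : ∀ i, a i ≠ 0 := Groth.L13.Wild.MR.ne_zero_of_coprime hn ham hcop
  have hb : ∀ i, b i ≠ 0 := fun i => mul_ne_zero hμ (ha i)
  set S := Finset.univ.filter (fun i => s i ≠ 0) with hS
  let φ : ZMod p →+* R := ZMod.castHom dvd_rfl R
  have hc : ∀ i, c i = φ (s i) := fun i =>
    RingHom.congr_fun (RingHom.ext_zmod ((algebraMap k R).comp (ZMod.castHom (dvd_refl p) k)) φ) (s i)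
  have hcu : ∀ i ∈ S, IsUnit (c i) := fun i hi => by
    rw [hc]
    exact (isUnit_iff_ne_zero.mpr (Finset.mem_filter.mp hi).2).map φ
  let l : Fin n → R := fun m => if s m ≠ 0 then c m * αi m else 0
  have hz : z = ∑ m, algebraMap R A (l m) * u m := by
    show (∑ i ∈ S, algebraMap R A (c i * αi i) * u i) = _
    rw [hS, Finset.sum_filter]
    refine Finset.sum_congr rfl fun m _ => ?_
    show (if s m ≠ 0 then algebraMap R A (c m * αi m) * u m else 0) =
      algebraMap R A (if s m ≠ 0 then c m * αi m else 0) * u m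
    split_ifs
    · rfl
    · rw [map_zero, zero_mul]
  have hαi : ∀ i ∈ S, αi i * a i = α := fun i hi => Finset.prod_erase_mul S a hi
  have hαi0 : ∀ i, αi i ≠ 0 := fun i => Finset.prod_ne_zero_iff.mpr fun j _ => ha j
  obtain ⟨i₀, hi₀⟩ : ∃ i, s i ≠ 0 := Function.ne_iff.mp hs
  have hi₀S : i₀ ∈ S := Finset.mem_filter.mpr ⟨Finset.mem_univ _, hi₀⟩
  have hl₀ : l i₀ ≠ 0 := by
    simp only [l, if_pos hi₀]
    exact mul_ne_zero (hcu i₀ hi₀S).ne_zero (hαi0 i₀)
  have hlin : ∀ ν : Fin n → ZMod p, ∑ i, l i * (φ (ν i) * b i) = μ * α * φ (∑ i, ν i * s i) := by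
    intro ν
    rw [map_sum, Finset.mul_sum]
    refine Finset.sum_congr rfl fun i _ => ?_
    rw [map_mul]
    by_cases hi : s i ≠ 0
    · simp only [l, if_pos hi, b]
      rw [← hαi i (Finset.mem_filter.mpr ⟨Finset.mem_univ _, hi⟩), hc]
      ring
    · simp only [l, if_neg hi]
      rw [not_not.mp hi, map_zero, mul_zero, mul_zero, zero_mul]
  have hprim : ∀ π : R, Prime π → ∃ i, ¬ π ∣ l i := by
    intro π hπ
    by_contra hall
    push_neg at hall
    have h1 : ∀ i ∈ S, π ∣ αi i := fun i hi => by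
      have h := hall i
      simp only [l, if_pos (Finset.mem_filter.mp hi).2] at h
      exact ((hcu i hi).dvd_mul_left).mp h
    obtain ⟨j, hj, hjd⟩ := hπ.exists_mem_finset_dvd (h1 i₀ hi₀S)
    obtain ⟨m, hm, hmd⟩ := hπ.exists_mem_finset_dvd (h1 j (Finset.mem_erase.mp hj).2)
    exact hπ.not_unit ((hcop m j (Finset.mem_erase.mp hm).1) hmd hjd)
  have hdeg : (Polynomial.C ((μ * α) ^ (p - 1)) * Polynomial.X +
      Polynomial.C (∑ i ∈ S, c i * αi i ^ p * MvPowerSeries.X i)).degree < (p : WithBot ℕ) :=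
    lt_of_le_of_lt Polynomial.degree_linear_le (by exact_mod_cast (Fact.out : p.Prime).one_lt)
  have hf : f.Monic := by
    show (_ - _ - _ : Polynomial R).Monic
    rw [sub_sub]
    exact Polynomial.monic_X_pow_sub hdeg
  have hfd : f.natDegree = p := by
    refine Polynomial.natDegree_eq_of_degree_eq_some ?_
    show (_ - _ - _ : Polynomial R).degree = _
    rw [sub_sub, Polynomial.degree_sub_eq_left_of_degree_lt (by rwa [Polynomial.degree_X_pow]),
      Polynomial.degree_X_pow]
  have hfz : Polynomial.aeval (∑ m, algebraMap R (Groth.L13.Wild.MR.Alg p b x) (l m) *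
      Groth.L13.Wild.MR.U b x m) f = 0 := by
    show Polynomial.aeval _ (Polynomial.X ^ p - Polynomial.C ((μ * α) ^ (p - 1)) * Polynomial.X
      - Polynomial.C (∑ i ∈ S, c i * αi i ^ p * MvPowerSeries.X i)) = 0
    rw [map_sub, map_sub, map_pow, map_mul, Polynomial.aeval_X, Polynomial.aeval_C, Polynomial.aeval_C,
      sum_pow_char, sub_sub, sub_eq_zero, Finset.mul_sum, hS, Finset.sum_filter, map_sum,
      ← Finset.sum_add_distrib]
    refine Finset.sum_congr rfl fun m _ => ?_
    rw [mul_pow, ← map_pow, Groth.L13.Wild.MR.U_pow]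
    by_cases hm : s m ≠ 0
    · have hcp : c m ^ p = c m := by rw [hc, ← map_pow, ZMod.pow_card]
      have hmS : m ∈ S := Finset.mem_filter.mpr ⟨Finset.mem_univ _, hm⟩
      simp only [l, if_pos hm]
      rw [mul_pow, hcp, mul_add, ← mul_assoc, ← map_mul, ← map_mul, ← mul_assoc, ← map_mul]
      congr 2
      · congr 1
        show c m * αi m ^ p * (μ * a m) ^ (p - 1) = (μ * α) ^ (p - 1) * (c m * αi m)
        rw [← hαi m hmS]
        obtain ⟨q, hq⟩ : ∃ q, p = q + 1 := ⟨p - 1, (Nat.sub_add_cancel (Fact.out : p.Prime).one_le).symm⟩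
        rw [hq, Nat.add_sub_cancel, pow_succ, mul_pow, mul_pow, mul_pow]
        ring
    · simp only [l, if_neg hm]
      rw [zero_pow (Fact.out : p.Prime).ne_zero, map_zero, zero_mul, zero_mul, mul_zero, zero_add]
  have hσ' : ∀ i, σ i = Groth.L13.Wild.MR.shift b x (Pi.single i 1) := fun i =>
    AlgEquiv.coe_algHom_injective (Groth.L13.Wild.MR.hom_ext (f := (σ i).toAlgHom)
      (g := (Groth.L13.Wild.MR.shift b x (Pi.single i 1)).toAlgHom) b x fun j => by
      show σ i (u j) = Groth.L13.Wild.MR.shift b x (Pi.single i 1) (u j)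
      refine (hσ i j).trans ?_
      refine Eq.trans ?_ (Groth.L13.Wild.MR.shift_U b x (Pi.single i 1) j).symm
      show u j + _ = u j + _
      congr 1
      by_cases hij : i = j
      · subst hij
        rw [if_pos rfl, Pi.single_eq_same, map_one, one_mul]
      · rw [if_neg hij, Pi.single_eq_of_ne (Ne.symm hij), map_zero, zero_mul, map_zero])
  have hprod : ∀ ν : Fin n → ZMod p,
      (List.ofFn (fun i : Fin n => σ i ^ (ν i).val)).prod = Groth.L13.Wild.MR.shift b x ν := by
    intro ν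
    have h1 : (fun i : Fin n => σ i ^ (ν i).val) =
        (Groth.L13.Wild.MR.shift b x) ∘ fun i => (ν i).val • Pi.single i 1 := funext fun i => by
      rw [hσ', Groth.L13.Wild.MR.shift_pow]; rfl
    rw [h1, ← List.map_ofFn, Groth.L13.Wild.MR.shift_list_prod, List.sum_ofFn]
    congr 1
    funext j
    rw [Finset.sum_apply, Finset.sum_eq_single j]
    · rw [Pi.smul_apply, Pi.single_eq_same, nsmul_eq_mul, mul_one, ZMod.natCast_val, ZMod.cast_id]
    · intro m _ hm
      rw [Pi.smul_apply, Pi.single_eq_of_ne (Ne.symm hm), smul_zero]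
    · simp
  refine ⟨fun t => ?_, ?_⟩
  · simp only [hprod]
    rw [hz]
    exact Groth.L13.Wild.MR.fixed_iff_mem_range b x hb s l i₀ hi₀ hl₀
      (fun ν hν => by rw [hlin ν, hν, map_zero, mul_zero]) hprim f hf hfd hfz t
  · rw [hz]
    refine Groth.L13.Wild.MR.ker_aeval_eq b x hb l (Pi.single i₀ 1) ?_ f hf hfd hfz
    rw [hlin, Finset.sum_eq_single i₀, Pi.single_eq_same, one_mul, ← hc]
    · exact mul_ne_zero (mul_ne_zero hμ (Finset.prod_ne_zero_iff.mpr fun j _ => ha j)) (hcu i₀ hi₀S).ne_zero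
    · intro m _ hm
      rw [Pi.single_eq_of_ne hm, zero_mul]
    · simp

end Groth.Agent.S15810
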