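import Groth.Statements.S15811
import Mathlib.FieldTheory.Finite.Basic
import Mathlib.RingTheory.IntegralClosure.IntegrallyClosed

set_option autoImplicit false
universe u
open WildQuot

namespace Groth.Agent.S15811

/-- Let `R` be an integrally closed domain of prime characteristic `p` with fraction field `K`, and `α ∈
R`. Then `α ≠ 0` and the polynomial `T ^ p - α T` splits into linear factors over `K` — which says
that the finite flat group scheme `Spec R[T]/(T ^ p - α T)` of order `p` has constant generic fibre
(its `p` roots are then distinct) — if and only if `α = a ^ (p-1)` for some nonzero `a ∈ R`. (The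
published statement is that the generic fibre of the finite flat group scheme of order `p` with
parameters `α, β` satisfying `α β = 0`, whose underlying scheme is `Spec R[T]/(T ^ p - α T)`, is
constant if and only if `β = 0` and `α` is the `(p-1)`-th power of a nonzero element of `R`; this
row states the polynomial condition, in which `α ≠ 0` already forces `β = 0` over a domain.) -/
theorem result
    (p : ℕ) [Fact p.Prime] (R : Type u) [CommRing R] [IsDomain R] [IsIntegrallyClosed R]
    [CharP R p] (α : R) :
    (α ≠ 0 ∧ (Polynomial.map (algebraMap R (FractionRing R))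
        (Polynomial.X ^ p - Polynomial.C α * Polynomial.X)).Splits) ↔
      ∃ a : R, a ≠ 0 ∧ α = a ^ (p - 1) := by
  have hp := (Fact.out : p.Prime).two_le
  let K := FractionRing R
  haveI : CharP K p := charP_of_injective_algebraMap (IsFractionRing.injective R K) p
  constructor
  · rintro ⟨hα, hs⟩
    set f := Polynomial.map (algebraMap R K) (Polynomial.X ^ p - Polynomial.C α * Polynomial.X) with hf
    have hαK : algebraMap R K α ≠ 0 := fun h => hα (IsFractionRing.injective R K (h.trans (map_zero _).symm))
    have hfe : f = Polynomial.X ^ p - Polynomial.C (algebraMap R K α) * Polynomial.X := by simp [hf]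
    have hdeg : f.natDegree = p := by
      rw [hfe, Polynomial.natDegree_sub_eq_left_of_natDegree_lt, Polynomial.natDegree_X_pow]
      rw [Polynomial.natDegree_X_pow]
      exact lt_of_le_of_lt (Polynomial.natDegree_C_mul_le _ _) (by rw [Polynomial.natDegree_X]; omega)
    have hsep : f.Separable := by
      rw [Polynomial.separable_def, hfe, Polynomial.derivative_sub, Polynomial.derivative_X_pow, Polynomial.derivative_C_mul_X,
        CharP.cast_eq_zero, Polynomial.C_0, zero_mul, zero_sub]
      exact ⟨0, -Polynomial.C (algebraMap R K α)⁻¹, by rw [zero_mul, zero_add, show ∀ x y : Polynomial K, -x * -y = x * y from fun x y => by ring, ← Polynomial.C_mul, inv_mul_cancel₀ hαK, Polynomial.C_1]⟩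
    have hcard : Multiset.card f.roots = p := by rw [← hs.natDegree_eq_card_roots, hdeg]
    obtain ⟨y, hy, hy0⟩ : ∃ y ∈ f.roots, y ≠ 0 := by
      classical
      by_contra h
      push Not at h
      have h2 := Polynomial.nodup_roots hsep
      rw [Multiset.eq_replicate_card.2 h, hcard] at h2
      have := Multiset.nodup_iff_count_le_one.1 h2 (0 : K)
      rw [Multiset.count_replicate_self] at this
      omega
    have hy' : y ^ (p - 1) = algebraMap R K α := by
      have h1 := (Polynomial.mem_roots'.1 hy).2
      rw [Polynomial.IsRoot.def, hfe] at h1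
      simp at h1
      refine mul_right_cancel₀ hy0 ?_
      rw [← pow_succ, show p - 1 + 1 = p by omega]
      exact sub_eq_zero.1 h1
    have hint : IsIntegral R y := IsIntegral.of_pow (by omega : 0 < p - 1) (hy' ▸ isIntegral_algebraMap)
    obtain ⟨a, ha⟩ := IsIntegrallyClosed.algebraMap_eq_of_integral hint
    refine ⟨a, fun h => hy0 (by rw [← ha, h, map_zero]), IsFractionRing.injective R K ?_⟩
    rw [map_pow, ha, hy']
  · rintro ⟨a, ha, rfl⟩
    refine ⟨pow_ne_zero _ ha, ?_⟩
    classical
    set f := Polynomial.map (algebraMap R K) (Polynomial.X ^ p - Polynomial.C (a ^ (p - 1)) * Polynomial.X) with hf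
    have hfe : f = Polynomial.X ^ p - Polynomial.C (algebraMap R K a ^ (p - 1)) * Polynomial.X := by simp [hf]
    have ha' : algebraMap R K a ≠ 0 := fun h => ha (IsFractionRing.injective R K (h.trans (map_zero _).symm))
    have hdeg : f.natDegree = p := by
      rw [hfe, Polynomial.natDegree_sub_eq_left_of_natDegree_lt, Polynomial.natDegree_X_pow]
      rw [Polynomial.natDegree_X_pow]
      exact lt_of_le_of_lt (Polynomial.natDegree_C_mul_le _ _) (by rw [Polynomial.natDegree_X]; omega)
    have hne : f ≠ 0 := fun h => by rw [h, Polynomial.natDegree_zero] at hdeg; omega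
    haveI : NeZero p := ⟨(Fact.out : p.Prime).ne_zero⟩
    let φ : ZMod p →+* K := ZMod.castHom dvd_rfl K
    set S : Finset K := Finset.univ.image (fun c : ZMod p => φ c * algebraMap R K a) with hS
    have hScard : S.card = p := by
      rw [hS, Finset.card_image_of_injective _ (fun c d h => φ.injective (mul_right_cancel₀ ha' h)), Finset.card_univ, ZMod.card]
    have hle : S.val ≤ f.roots := by
      refine (Multiset.le_iff_subset S.nodup).2 fun x hx => ?_
      obtain ⟨c, -, rfl⟩ := Finset.mem_image.1 (Finset.mem_def.2 hx)
      rw [Polynomial.mem_roots hne, Polynomial.IsRoot.def, hfe]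
      simp only [Polynomial.eval_sub, Polynomial.eval_mul, Polynomial.eval_pow, Polynomial.eval_X, Polynomial.eval_C]
      rw [mul_pow, ← map_pow, ZMod.pow_card]
      obtain ⟨q, hq⟩ : ∃ q, p = q + 1 := ⟨p - 1, by omega⟩
      rw [show p - 1 = q by omega]
      conv_lhs => arg 1; rw [show (algebraMap R K a) ^ p = (algebraMap R K a) ^ q * algebraMap R K a by rw [hq, pow_succ]]
      ring
    refine Polynomial.splits_iff_card_roots.2 (le_antisymm (Polynomial.card_roots' f) ?_)
    calc f.natDegree = S.val.card := by rw [hdeg]; exact hScard.symm
      _ ≤ _ := Multiset.card_le_card hle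

end Groth.Agent.S15811
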