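import Groth.Statements.S15813
import Groth.Agent.L13.Wild.Series

set_option autoImplicit false
universe u
open WildQuot

namespace Groth.Agent.S15813

/-- Let `k` be a field of characteristic `p > 0`, `A = k[[u]]`, and `σ` a `k`-algebra automorphism of
`A` of order exactly `p`, with ramification break `m`: `σ u - u` has order `m + 1`. Let `x = ∏_{i <
p} σ^i u` be the norm of `u`, let `f ∈ A` be `σ`-invariant with nonzero constant term (a unit of the
invariant ring `k[[x]]`), let `μ > 0` be prime to `p`, and let `z ∈ Frac(A)` satisfy the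
Artin–Schreier equation `z ^ p - z = f / x ^ μ`. Then `μ = m`. (The published statement also records
that `Frac(A) = Frac(A^σ)(z)`; that follows from the equation since `p` does not divide `μ`, so it
is not repeated as a hypothesis.) -/
theorem result
    (p : ℕ) [Fact p.Prime] (k : Type u) [Field k] [CharP k p]
    (σ : PowerSeries k ≃ₐ[k] PowerSeries k) (hσp : σ ^ p = 1) (hσ1 : σ ≠ 1)
    (m : ℕ) (hm : (σ PowerSeries.X - PowerSeries.X).order = ((m + 1 : ℕ) : ℕ∞))
    (f : PowerSeries k) (hfσ : σ f = f) (hf0 : PowerSeries.constantCoeff f ≠ 0)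
    (μ : ℕ) (hμ : 0 < μ) (hpμ : ¬ p ∣ μ)
    (z : FractionRing (PowerSeries k))
    (hz : z ^ p - z = algebraMap (PowerSeries k) (FractionRing (PowerSeries k)) f /
      algebraMap (PowerSeries k) (FractionRing (PowerSeries k))
        (∏ i ∈ Finset.range p, (σ ^ i) PowerSeries.X) ^ μ) :
    μ = m := by
  open Groth.L13.Wild in
  let ι := algebraMap (PowerSeries k) (FractionRing (PowerSeries k))
  set P : PowerSeries k := normX σ p ^ (μ * (p - 1)) with hP
  have hN : ι (normX σ p) ^ μ ≠ 0 := pow_ne_zero _ (fun h => (ord_normX σ p).ne_zero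
    (IsFractionRing.injective (PowerSeries k) (FractionRing (PowerSeries k)) (h.trans (map_zero _).symm)))
  have hY : (z * ι (normX σ p) ^ μ) ^ p - ι P * (z * ι (normX σ p) ^ μ) = ι (f * P) := by
    obtain ⟨q, hq⟩ : ∃ q, p = q + 1 := ⟨p - 1, by have := (Fact.out : p.Prime).pos; omega⟩
    have hz' : (z ^ p - z) * ι (normX σ p) ^ μ = ι f := by
      rw [hz]
      exact div_mul_cancel₀ _ hN
    have hp1 : p - 1 = q := by omega
    have hP' : ι P = ι (normX σ p) ^ (μ * q) := by rw [hP, map_pow, hp1]
    have h1 : z ^ p * ι (normX σ p) ^ (μ * p) - z * ι (normX σ p) ^ (μ * p) = ι f * ι (normX σ p) ^ (μ * q) := by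
      rw [← hz', show μ * p = μ + μ * q by rw [hq]; ring, pow_add]
      ring
    rw [map_mul, hP', mul_pow, ← pow_mul]
    rw [show z ^ p * ι (normX σ p) ^ (μ * p) = z * ι (normX σ p) ^ (μ * p) + ι f * ι (normX σ p) ^ (μ * q) by linear_combination h1]
    rw [show μ * p = μ + μ * q by rw [hq]; ring, pow_add]
    ring
  have hint : IsIntegral (PowerSeries k) (z * ι (normX σ p) ^ μ) := by
    refine ⟨Polynomial.X ^ p - (Polynomial.C P * Polynomial.X + Polynomial.C (f * P)), Polynomial.monic_X_pow_sub ?_, ?_⟩
    · refine lt_of_le_of_lt Polynomial.degree_linear_le ?_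
      exact_mod_cast (Fact.out : p.Prime).one_lt
    · simp only [Polynomial.eval₂_sub, Polynomial.eval₂_add, Polynomial.eval₂_mul, Polynomial.eval₂_C, Polynomial.eval₂_X, Polynomial.eval₂_X_pow]
      linear_combination hY
  obtain ⟨y, hy⟩ := IsIntegrallyClosed.algebraMap_eq_of_integral hint
  refine conductor σ hσp hm hfσ hf0 hμ hpμ (y := y) (IsFractionRing.injective (PowerSeries k) (FractionRing (PowerSeries k)) ?_)
  rw [map_sub, map_pow, map_mul, hy]
  exact hY

end Groth.Agent.S15813
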