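import Groth.Statements.S15817
import Mathlib.Algebra.Category.ModuleCat.Limits
import Mathlib.CategoryTheory.Limits.Shapes.Pullback.IsPullback.Defs

set_option autoImplicit false
universe u v
open CategoryTheory
open CAlg

namespace Groth.Agent.S15817

/-- Let A be a commutative ring, M an A-module and P, Q submodules of M. Then the commuting square of
quotient projections with corners M/(P ∩ Q), M/P, M/Q and M/(P + Q) is cartesian in the category of
A-modules: M/(P ∩ Q) is the fibre product of M/P and M/Q over M/(P + Q). -/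
theorem result (A : Type u) [CommRing A] (M : Type v) [AddCommGroup M] [Module A M]
    (P Q : Submodule A M) :
    IsPullback (ModuleCat.ofHom (Submodule.factor (inf_le_left : P ⊓ Q ≤ P)))
      (ModuleCat.ofHom (Submodule.factor (inf_le_right : P ⊓ Q ≤ Q)))
      (ModuleCat.ofHom (Submodule.factor (le_sup_left : P ≤ P ⊔ Q)))
      (ModuleCat.ofHom (Submodule.factor (le_sup_right : Q ≤ P ⊔ Q))) := by
  classical
  let T : (M ⧸ P ⊓ Q) →ₗ[A] (M ⧸ P) × (M ⧸ Q) :=
    (Submodule.factor (inf_le_left : P ⊓ Q ≤ P)).prod (Submodule.factor (inf_le_right : P ⊓ Q ≤ Q))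
  have hT : Function.Injective T := by
    rw [injective_iff_map_eq_zero]
    intro x hx
    obtain ⟨m, rfl⟩ := Submodule.Quotient.mk_surjective _ x
    obtain ⟨h1, h2⟩ := Prod.ext_iff.mp hx
    exact (Submodule.Quotient.mk_eq_zero _).mpr
      ⟨(Submodule.Quotient.mk_eq_zero P).mp h1, (Submodule.Quotient.mk_eq_zero Q).mp h2⟩
  have hR : ∀ (a : M ⧸ P) (b : M ⧸ Q), Submodule.factor (le_sup_left : P ≤ P ⊔ Q) a =
      Submodule.factor (le_sup_right : Q ≤ P ⊔ Q) b → (a, b) ∈ LinearMap.range T := by
    intro a b hab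
    obtain ⟨a, rfl⟩ := Submodule.Quotient.mk_surjective _ a
    obtain ⟨b, rfl⟩ := Submodule.Quotient.mk_surjective _ b
    obtain ⟨x, hx, y, hy, hxy⟩ := Submodule.mem_sup.mp
      ((Submodule.Quotient.eq (P ⊔ Q)).mp hab : a - b ∈ P ⊔ Q)
    refine ⟨Submodule.Quotient.mk (a - x), Prod.ext ?_ ?_⟩
    · exact (Submodule.Quotient.eq P).mpr (by simpa using neg_mem hx)
    · refine (Submodule.Quotient.eq Q).mpr ?_
      change a - x - b ∈ Q
      rw [show a - x - b = y by rw [sub_right_comm, ← hxy, add_sub_cancel_left]]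
      exact hy
  refine ⟨⟨by
    refine ModuleCat.hom_ext (Submodule.linearMap_qext _ (LinearMap.ext fun m => ?_))
    rfl⟩, ⟨CategoryTheory.Limits.PullbackCone.IsLimit.mk _
      (fun s => ModuleCat.ofHom ((LinearEquiv.ofInjective T hT).symm.toLinearMap.comp
        ((s.fst.hom.prod s.snd.hom).codRestrict (LinearMap.range T) fun z => hR _ _ ?_)))
      (fun s => ?_) (fun s => ?_) (fun s m h1 h2 => ?_)⟩⟩
  · exact congrArg (fun φ => φ.hom z) s.condition
  · refine ModuleCat.hom_ext (LinearMap.ext fun z => ?_)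
    exact congrArg Prod.fst (LinearEquiv.ofInjective_symm_apply T (h := hT) _)
  · refine ModuleCat.hom_ext (LinearMap.ext fun z => ?_)
    exact congrArg Prod.snd (LinearEquiv.ofInjective_symm_apply T (h := hT) _)
  · refine ModuleCat.hom_ext (LinearMap.ext fun z => hT ?_)
    refine Eq.trans ?_ (LinearEquiv.ofInjective_symm_apply T (h := hT) _).symm
    exact Prod.ext (congrArg (fun φ => φ.hom z) h1) (congrArg (fun φ => φ.hom z) h2)

end Groth.Agent.S15817
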