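import Groth.Statements.S15818
import Mathlib.CategoryTheory.Limits.Types.Pullbacks
import Mathlib.Algebra.Category.ModuleCat.Limits

set_option autoImplicit false
universe u
open CategoryTheory
open Koszul

namespace Groth.Agent.S15818

theorem isPullback_aux {A : Type u} [CommRing A] {X : Type u} [AddCommGroup X] [Module A X] (Z B : Submodule A X)
    (hBZ : B ≤ Z) (x : A) (hxH : IsSMulRegular (↥Z ⧸ Submodule.comap Z.subtype B) x) :
    IsPullback
      (ModuleCat.ofHom (Submodule.factor (Submodule.comap_mono (Submodule.smul_mono le_rfl hBZ) :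
        Submodule.comap Z.subtype (Ideal.span {x} • B) ≤ Submodule.comap Z.subtype (Ideal.span {x} • Z))))
      (ModuleCat.ofHom (Submodule.factor (Submodule.comap_mono Submodule.smul_le_right :
        Submodule.comap Z.subtype (Ideal.span {x} • B) ≤ Submodule.comap Z.subtype B)))
      (ModuleCat.ofHom (Submodule.factor (Submodule.comap_mono le_sup_right :
        Submodule.comap Z.subtype (Ideal.span {x} • Z) ≤ Submodule.comap Z.subtype (B ⊔ Ideal.span {x} • Z))))
      (ModuleCat.ofHom (Submodule.factor (Submodule.comap_mono le_sup_left :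
        Submodule.comap Z.subtype B ≤ Submodule.comap Z.subtype (B ⊔ Ideal.span {x} • Z)))) := by
  refine IsPullback.of_map (forget (ModuleCat.{u} A)) (by ext z; rfl) ?_
  rw [CategoryTheory.Limits.Types.isPullback_iff]
  refine ⟨by ext z; obtain ⟨z, rfl⟩ := Submodule.mkQ_surjective _ z; rfl, fun z₁ z₂ h => ?_, fun a b h => ?_⟩
  · obtain ⟨z₁, rfl⟩ := Submodule.mkQ_surjective _ z₁
    obtain ⟨z₂, rfl⟩ := Submodule.mkQ_surjective _ z₂
    obtain ⟨h1, h2⟩ := h
    replace h1 : (z₁ - z₂ : Z) ∈ Submodule.comap Z.subtype (Ideal.span {x} • Z) := (Submodule.Quotient.eq _).1 h1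
    replace h2 : (z₁ - z₂ : Z) ∈ Submodule.comap Z.subtype B := (Submodule.Quotient.eq _).1 h2
    refine (Submodule.Quotient.eq _).2 ?_
    rw [Submodule.mem_comap, Submodule.ideal_span_singleton_smul, Submodule.mem_smul_pointwise_iff_exists] at h1 ⊢
    obtain ⟨w, hw, hwe⟩ := h1
    refine ⟨w, ?_, hwe⟩
    have hwB : (Submodule.Quotient.mk (⟨w, hw⟩ : Z) : ↥Z ⧸ Submodule.comap Z.subtype B) = 0 := by
      refine hxH ?_
      show x • _ = x • _
      rw [smul_zero, ← Submodule.Quotient.mk_smul, Submodule.Quotient.mk_eq_zero, Submodule.mem_comap, map_smul]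
      exact (congrArg (· ∈ B) hwe).mpr h2
    exact Submodule.mem_comap.1 ((Submodule.Quotient.mk_eq_zero _).1 hwB : (⟨w, hw⟩ : Z) ∈ Submodule.comap Z.subtype B)
  · obtain ⟨a, rfl⟩ := Submodule.mkQ_surjective _ a
    obtain ⟨b, rfl⟩ := Submodule.mkQ_surjective _ b
    replace h : (a - b : Z) ∈ Submodule.comap Z.subtype (B ⊔ Ideal.span {x} • Z) := (Submodule.Quotient.eq _).1 h
    obtain ⟨c, hc, d, hd, hcd⟩ := Submodule.mem_sup.1 h
    refine ⟨Submodule.Quotient.mk (b + ⟨c, hBZ hc⟩), ?_, ?_⟩
    · refine (Submodule.Quotient.eq _).2 ?_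
      rw [Submodule.mem_comap]
      show (b : X) + c - a ∈ _
      have : (b : X) + c - a = -d := by
        rw [map_sub] at hcd
        simp only [Submodule.subtype_apply] at hcd
        rw [show (a : X) = b + (c + d) by rw [hcd]; abel]
        abel
      rw [this]
      exact neg_mem hd
    · refine (Submodule.Quotient.eq _).2 ?_
      show (b : X) + c - b ∈ B
      rwa [add_sub_cancel_left]

/-- Let A be a commutative ring, f = (f_1, …, f_n) a finite sequence in A with Koszul complex K = K(f)
(mapping-cone model) and differentials ∂, q an integer, Z = Ker(∂^q) and B = Im(∂^{q-1}), so B ⊆ Z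
inside K^q (this inclusion is carried as the hypothesis hBZ). Let x be a non-zero-divisor of A which
moreover acts injectively on the cohomology module Z/B (for Noetherian A this says that x lies in no
associated prime of Z/B, which is how the published statement phrases it; the published argument
uses exactly the injectivity). Then the commuting square of quotient projections with corners Z/xB
(top left; it is isomorphic to the q-th cohomology of the Koszul complex of (x f_1, …, x f_n)), Z/xZ
= Z ⊗ A/(x) (top right), Z/B (bottom left) and Z/(B + xZ) = (Z/B) ⊗ A/(x) (bottom right) is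
cartesian in the category of A-modules. All four corners are written as quotients of Z by the
preimages of the submodules xB, xZ, B, B + xZ of K^q. -/
theorem result (A : Type u) [CommRing A] (l : List A) (q : ℤ)
    (K : CochainComplex (ModuleCat.{u} A) ℤ) (hK : K = Koszul.koszul A l)
    (hBZ : LinearMap.range (K.d (q - 1) q).hom ≤ LinearMap.ker (K.d q (q + 1)).hom)
    (x : A) (hx : x ∈ nonZeroDivisors A)
    (hxH : IsSMulRegular (↥(LinearMap.ker (K.d q (q + 1)).hom) ⧸ Submodule.comap (LinearMap.ker (K.d q (q + 1)).hom).subtype (LinearMap.range (K.d (q - 1) q).hom)) x) :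
    IsPullback
      (ModuleCat.ofHom (Submodule.factor (Submodule.comap_mono (Submodule.smul_mono le_rfl hBZ) :
        Submodule.comap (LinearMap.ker (K.d q (q + 1)).hom).subtype (Ideal.span {x} • LinearMap.range (K.d (q - 1) q).hom) ≤
          Submodule.comap (LinearMap.ker (K.d q (q + 1)).hom).subtype (Ideal.span {x} • LinearMap.ker (K.d q (q + 1)).hom))))
      (ModuleCat.ofHom (Submodule.factor (Submodule.comap_mono (Submodule.smul_le_right) :
        Submodule.comap (LinearMap.ker (K.d q (q + 1)).hom).subtype (Ideal.span {x} • LinearMap.range (K.d (q - 1) q).hom) ≤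
          Submodule.comap (LinearMap.ker (K.d q (q + 1)).hom).subtype (LinearMap.range (K.d (q - 1) q).hom))))
      (ModuleCat.ofHom (Submodule.factor (Submodule.comap_mono le_sup_right :
        Submodule.comap (LinearMap.ker (K.d q (q + 1)).hom).subtype (Ideal.span {x} • LinearMap.ker (K.d q (q + 1)).hom) ≤
          Submodule.comap (LinearMap.ker (K.d q (q + 1)).hom).subtype (LinearMap.range (K.d (q - 1) q).hom ⊔ Ideal.span {x} • LinearMap.ker (K.d q (q + 1)).hom))))
      (ModuleCat.ofHom (Submodule.factor (Submodule.comap_mono le_sup_left :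
        Submodule.comap (LinearMap.ker (K.d q (q + 1)).hom).subtype (LinearMap.range (K.d (q - 1) q).hom) ≤
          Submodule.comap (LinearMap.ker (K.d q (q + 1)).hom).subtype (LinearMap.range (K.d (q - 1) q).hom ⊔ Ideal.span {x} • LinearMap.ker (K.d q (q + 1)).hom)))) := by

    exact isPullback_aux (LinearMap.ker (K.d q (q + 1)).hom) (LinearMap.range (K.d (q - 1) q).hom) hBZ x hxH

end Groth.Agent.S15818
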