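import Groth.Statements.S15823
import Groth.Agent.L10.RegDiag.Basic

set_option autoImplicit false
set_option linter.style.haveILetI false
set_option linter.unusedVariables false
set_option backward.defeqAttrib.useBackward true
set_option backward.isDefEq.respectTransparency false
universe u
open CategoryTheory CategoryTheory.Limits AlgebraicGeometry
attribute [local instance] HasDerivedCategory.standard
open RegImm

namespace Groth.Agent.S15823

/-- Let k be a field and X a scheme with a smooth morphism f : X → Spec k, and let i₁ : Y₁ → X and i₂ :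
Y₂ → X be closed immersions which are regular (ideals locally generated by regular sequences). Write
X ×_k X for the fibre product of f with itself, Δ : X → X ×_k X for the diagonal, Y₁ ×_k Y₂ for the
fibre product of the structure morphisms i₁ ≫ f and i₂ ≫ f, and i₁ × i₂ : Y₁ ×_k Y₂ → X ×_k X for
the induced closed immersion. Assume that the total left derived functors − ⊗^L i₂_*O_{Y₂} on D(O_X)
and LΔ^* : D(O_{X ×_k X}) → D(O_X) exist. Then the objects i₁_*O_{Y₁} ⊗^L i₂_*O_{Y₂} and LΔ^*((i₁ ×
i₂)_* O_{Y₁ ×_k Y₂}) of D(O_X) are isomorphic (existence of an isomorphism; the direct image along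
the closed immersion i₁ × i₂ is the underived one, which is exact). (The published statement allows
n subschemes and the n-fold product; this row is the case n = 2.) -/
theorem result (k : Type u) [Field k]
    {X Y₁ Y₂ : Scheme.{u}} (f : X ⟶ Spec (CommRingCat.of k)) [Smooth f]
    (i₁ : Y₁ ⟶ X) (i₂ : Y₂ ⟶ X) [IsClosedImmersion i₁] [IsClosedImmersion i₂]
    (h₁ : RegImm.IsRegularImmersion RegImm.Kind.regular i₁) (h₂ : RegImm.IsRegularImmersion RegImm.Kind.regular i₂)
    [DCoh.HasLTensorMod ((Scheme.Modules.pushforward i₂).obj (Coh.structureModule Y₂))]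
    [DCoh.HasLpull (pullback.diagonal f)] :
    Nonempty ((DCoh.LTensorMod ((Scheme.Modules.pushforward i₂).obj (Coh.structureModule Y₂))).obj
        (DCoh.inD X ((Scheme.Modules.pushforward i₁).obj (Coh.structureModule Y₁))) ≅
      (DCoh.Lpull (pullback.diagonal f)).obj (DCoh.inD (pullback f f)
        ((Scheme.Modules.pushforward (pullback.map (i₁ ≫ f) (i₂ ≫ f) f f i₁ i₂ (𝟙 (Spec (CommRingCat.of k))) (Category.comp_id _) (Category.comp_id _))).obj
          (Coh.structureModule (pullback (i₁ ≫ f) (i₂ ≫ f)))))) := by
  haveI : Flat f := inferInstance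
  haveI : Flat (i₁ ≫ f) := inferInstance
  exact Groth.L10.RegDiag.nonempty_iso f i₁ i₂

end Groth.Agent.S15823
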