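import Groth.Statements.S15824
import Groth.Agent.L14.RegImmStalk.Stalk
import Groth.Agent.L04.CMBasic

set_option autoImplicit false
set_option linter.style.haveILetI false
universe u
open CategoryTheory AlgebraicGeometry
open RegImm

namespace Groth.Agent.S15824

/-- Let X be a locally Noetherian scheme all of whose local rings are Cohen–Macaulay, and i : Z → X a
closed immersion which is regular (around every point, on some affine open of X the ideal of Z is
generated by a regular sequence). Then Z has no embedded points (each associated point of Z is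
generic in an irreducible component): for every point z of Z, if the maximal ideal of O_{Z,z} is an
associated prime of O_{Z,z} (as a module over itself), then O_{Z,z} has Krull dimension 0. (The
published statement takes X Noetherian and Z a local complete intersection subscheme; the assertion
is local on X and uses only that the ideal of Z is locally generated by a regular sequence.) -/
theorem result {X Z : Scheme.{u}}
    [IsLocallyNoetherian X] (hCM : ∀ x : X, LocCoh.IsCohenMacaulayLocalRing (X.presheaf.stalk x))
    (i : Z ⟶ X) [IsClosedImmersion i] (hi : RegImm.IsRegularImmersion RegImm.Kind.regular i) (z : Z)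
    (hz : IsAssociatedPrime (IsLocalRing.maximalIdeal (Z.presheaf.stalk z)) (Z.presheaf.stalk z)) :
    ringKrullDim (Z.presheaf.stalk z) = 0 := by
  haveI := hCM (i z)
  set R := X.presheaf.stalk (i z)
  set S := Z.presheaf.stalk z
  obtain ⟨rs, hrs, hker⟩ :=
    (Groth.L14.RegImmStalk.regularAt_iff_stalk i RegImm.Kind.regular z).mp (hi.2 z)
  let f : R →+* S := (i.stalkMap z).hom
  have hf : Function.Surjective f := i.stalkMap_surjective z
  haveI : IsLocalHom f := inferInstanceAs (IsLocalHom (i.stalkMap z).hom)
  have hM : LocCoh.IsCohenMacaulayModule R R := LocCoh.IsCohenMacaulayLocalRing.supportDim_eq_depth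
  have hrsm : ∀ r ∈ rs, r ∈ IsLocalRing.maximalIdeal R := fun r hr =>
    IsLocalRing.le_maximalIdeal (RingHom.ker_ne_top f)
      (hker.le (Ideal.subset_span hr))
  have hQ := Groth.L04.isCohenMacaulayModule_quotient_ofList hM hrs.toIsWeaklyRegular hrsm
  obtain ⟨K, hK⟩ : ∃ K : Ideal R, K = Ideal.ofList rs • (⊤ : Submodule R R) := ⟨_, rfl⟩
  rw [← hK] at hQ
  have hKker : K = RingHom.ker f := by rw [hK, smul_eq_mul, Ideal.mul_top]; exact hker
  obtain ⟨-, s, hs⟩ := hz
  obtain ⟨x, rfl⟩ := hf s
  have hass : IsLocalRing.maximalIdeal R ∈ associatedPrimes R (R ⧸ K) := by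
    refine ⟨inferInstance, Ideal.Quotient.mk K x, ?_⟩
    have hmax : (IsLocalRing.maximalIdeal S).comap f = IsLocalRing.maximalIdeal R :=
      Ideal.ext fun r => by simp [IsLocalRing.mem_maximalIdeal, mem_nonunits_iff]
    rw [← hmax, hs, Ideal.comap_radical]
    congr 1
    ext r
    rw [Ideal.mem_comap, Submodule.mem_colon_singleton, Submodule.mem_colon_singleton, Submodule.mem_bot,
      Submodule.mem_bot, smul_eq_mul, ← map_mul, ← RingHom.mem_ker, ← hKker,
      ← Ideal.Quotient.eq_zero_iff_mem]
    rfl
  have h1 := Groth.L04.ringKrullDim_quotient_eq_supportDim_of_isCM hQ hass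
  rw [ringKrullDim_eq_zero_of_isField ((Ideal.Quotient.maximal_ideal_iff_isField_quotient _).mp inferInstance),
    Module.supportDim_quotient_eq_ringKrullDim] at h1
  rw [← ringKrullDim_eq_of_ringEquiv (RingHom.quotientKerEquivOfSurjective hf), ← hKker]
  exact h1.symm

end Groth.Agent.S15824
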