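import Groth.Statements.S15832
import Mathlib.Tactic.Ring
import Mathlib.Tactic.LinearCombination
import Mathlib.Tactic.FieldSimp
import Mathlib.Algebra.BigOperators.Ring.Finset

set_option autoImplicit false
universe u
open TopGrp

namespace Groth.Agent.S15832

theorem aux {T : Type*} [Group T] (𝒢 : Set (Subgroup T)) :
    @NonarchimedeanGroup T _ (TopologicalSpace.generateFrom
      {S : Set T | ∃ Γ ∈ 𝒢, ∃ x y : T, S = (fun g : T => x * g * y) '' (Γ : Set T)}) := by
  set 𝔅 := {S : Set T | ∃ Γ ∈ 𝒢, ∃ x y : T, S = (fun g : T => x * g * y) '' (Γ : Set T)} with h𝔅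
  letI τ : TopologicalSpace T := TopologicalSpace.generateFrom 𝔅
  have hmem : ∀ (Γ : Subgroup T) (x y g : T),
      g ∈ (fun g : T => x * g * y) '' (Γ : Set T) ↔ x⁻¹ * g * y⁻¹ ∈ Γ := by
    intro Γ x y g
    constructor
    · rintro ⟨c, hc, rfl⟩; simpa [mul_assoc] using hc
    · intro h; exact ⟨_, h, by simp [mul_assoc]⟩
  have hop : ∀ Γ ∈ 𝒢, ∀ (x y : T), IsOpen {g | x⁻¹ * g * y⁻¹ ∈ (Γ : Subgroup T)} := by
    intro Γ hΓ x y
    refine TopologicalSpace.GenerateOpen.basic _ ⟨Γ, hΓ, x, y, ?_⟩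
    ext g; rw [hmem]; rfl
  have hinv : Continuous (fun g : T => g⁻¹) := by
    rw [continuous_generateFrom_iff]
    rintro _ ⟨Γ, hΓ, x, y, rfl⟩
    convert hop Γ hΓ y⁻¹ x⁻¹ using 1
    ext g
    rw [Set.mem_preimage, hmem]
    show _ ↔ _ ∈ Γ
    rw [← inv_mem_iff]; simp [mul_assoc]
  have hmul : Continuous (fun p : T × T => p.1 * p.2) := by
    rw [continuous_generateFrom_iff]
    rintro _ ⟨Γ, hΓ, x, y, rfl⟩
    rw [isOpen_prod_iff]
    intro g h hgh
    have hgh' : x⁻¹ * (g * h) * y⁻¹ ∈ Γ := (hmem _ _ _ _).1 hgh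
    refine ⟨{a | x⁻¹ * a * (x⁻¹ * g)⁻¹ ∈ Γ}, {b | (g⁻¹ * x)⁻¹ * b * (x⁻¹ * g * h)⁻¹ ∈ Γ},
      hop _ hΓ _ _, hop _ hΓ _ _, ?_, ?_, ?_⟩
    · simp [mul_assoc, one_mem]
    · simp [mul_assoc, one_mem]
    · rintro ⟨a, b⟩ ⟨ha, hb⟩
      rw [Set.mem_preimage, hmem]
      have := mul_mem (mul_mem ha hb) hgh'
      simpa [mul_assoc] using this
  haveI : IsTopologicalGroup T := { continuous_mul := hmul, continuous_inv := hinv }
  refine ⟨fun U hU => ?_⟩
  obtain ⟨O, hOU, hO, h1⟩ := mem_nhds_iff.1 hU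
  suffices ∀ O : Set T, TopologicalSpace.GenerateOpen 𝔅 O → (1 : T) ∈ O →
      ∃ V : OpenSubgroup T, (V : Set T) ⊆ O by
    obtain ⟨V, hV⟩ := this O hO h1
    exact ⟨V, hV.trans hOU⟩
  intro O hO
  induction hO with
  | basic s hs =>
    obtain ⟨Γ, hΓ, x, y, rfl⟩ := hs
    intro h
    rw [hmem, mul_one] at h
    refine ⟨⟨Γ.comap (MulAut.conj x⁻¹).toMonoidHom, ?_⟩, ?_⟩
    · convert hop Γ hΓ x x⁻¹ using 1
      ext g; simp
    · intro g hg
      rw [hmem]
      have hg' : x⁻¹ * g * x ∈ Γ := by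
        have hg2 : (MulAut.conj x⁻¹) g ∈ Γ := hg
        simpa using hg2
      simpa [mul_assoc] using mul_mem hg' h
  | univ => intro _; exact ⟨⊤, Set.subset_univ _⟩
  | inter s t _ _ ih1 ih2 =>
    intro h
    obtain ⟨V, hV⟩ := ih1 h.1
    obtain ⟨W, hW⟩ := ih2 h.2
    exact ⟨V ⊓ W, fun g hg => ⟨hV hg.1, hW hg.2⟩⟩
  | sUnion S _ ih =>
    rintro ⟨s, hs, h⟩
    obtain ⟨V, hV⟩ := ih s hs h
    exact ⟨V, hV.trans (Set.subset_sUnion_of_mem hs)⟩

/-- For a group T with a topology, let B be the family of two-sided translates x Γ y, where Γ runs over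
the subgroups of T open in the given topology and x, y over T; the topology generated by B makes T a
topological group in which every neighbourhood of the identity contains a subgroup open for that
topology. (The published statement is for the free topological product of two Noohi groups whose
open subgroups form a basis of neighbourhoods of the identity; the argument uses only the group
structure and the chosen family of subgroups, so the row is stated for an arbitrary group with a
topology. The published conventions include Hausdorffness in the word topological group; this row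
does not assert it, and the published argument does not prove it.) -/
theorem result (T : Type u) [Group T]
    [TopologicalSpace T] :
    @NonarchimedeanGroup T _ (TopologicalSpace.generateFrom
      {S : Set T | ∃ (Γ : OpenSubgroup T) (x y : T), S = (fun g : T => x * g * y) '' (Γ : Set T)}) := by
  have h := aux (Set.range fun Γ : OpenSubgroup T => (Γ : Subgroup T))
  convert h using 3
  ext S
  constructor
  · rintro ⟨Γ, x, y, rfl⟩; exact ⟨_, ⟨Γ, rfl⟩, x, y, rfl⟩
  · rintro ⟨_, ⟨Γ, rfl⟩, x, y, rfl⟩; exact ⟨Γ, x, y, rfl⟩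

end Groth.Agent.S15832
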