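import Groth.Statements.S15833
-- import your own Groth.Agent.* helpers here

set_option autoImplicit false
universe u
open EtBase

namespace Groth.Agent.S15833

open CategoryTheory CategoryTheory.Limits AlgebraicGeometry in
/-- Let i : X₀ ⟶ X be a surjective closed immersion of schemes and f : Y ⟶ X a morphism. Then f
satisfies the valuative criterion (existence and uniqueness of a lift in every valuative square,
over arbitrary valuation rings) if and only if its base change Y ×_X X₀ ⟶ X₀ does. (The published
statement takes X locally Noetherian and connected, X₀ the reduced closed subscheme with the same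
underlying space and f étale, and combines this step with the equivalence between étale schemes over
X and over X₀ to identify the geometric coverings, i.e. the étale morphisms satisfying the valuative
criterion, of X and of X₀; the argument for this step uses only that X₀ ⟶ X is a surjective closed
immersion and that valuation rings are reduced.) -/
theorem result {X X₀ Y : Scheme.{u}} (i : X₀ ⟶ X)
    [IsClosedImmersion i] [Surjective i] (f : Y ⟶ X) :
    ValuativeCriterion f ↔ ValuativeCriterion (pullback.snd f i) := by
  have key : ∀ (T : Scheme.{u}) [IsReduced T] (g : T ⟶ X), ∃! g₀ : T ⟶ X₀, g₀ ≫ i = g := by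
    intro T _ g
    haveI : IsIso (pullback.fst g i) := isIso_of_isClosedImmersion_of_surjective _
    refine ⟨inv (pullback.fst g i) ≫ pullback.snd g i, ?_, fun h hh => ?_⟩
    · beta_reduce
      rw [Category.assoc, ← pullback.condition, IsIso.inv_hom_id_assoc]
    · rw [← cancel_mono i, hh, Category.assoc, ← pullback.condition, IsIso.inv_hom_id_assoc]
  constructor
  · intro h S
    letI := S.commRing; letI := S.domain; letI := S.valuationRing; letI := S.field
    let S' : ValuativeCommSq f :=
      { R := S.R, K := S.K, i₁ := S.i₁ ≫ pullback.fst f i, i₂ := S.i₂ ≫ i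
        commSq := ⟨by rw [Category.assoc, pullback.condition, ← Category.assoc, S.commSq.w, Category.assoc]⟩ }
    obtain ⟨hu⟩ := h S'
    refine ⟨{ default := ⟨pullback.lift (hu.default.l) S.i₂ (by rw [hu.default.fac_right]), ?_, pullback.lift_snd _ _ _⟩, uniq := ?_ }⟩
    · apply pullback.hom_ext
      · rw [Category.assoc, pullback.lift_fst]; exact hu.default.fac_left
      · rw [Category.assoc, pullback.lift_snd]; exact S.commSq.w.symm
    · intro b
      apply CommSq.LiftStruct.ext
      apply pullback.hom_ext
      · rw [pullback.lift_fst]
        exact congrArg (fun t => t.l) (hu.uniq ⟨b.l ≫ pullback.fst f i, by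
          show _ ≫ _ ≫ _ = S.i₁ ≫ _
          rw [← Category.assoc, b.fac_left], by
          show (b.l ≫ _) ≫ _ = _
          rw [Category.assoc, pullback.condition, ← Category.assoc, b.fac_right]⟩)
      · rw [pullback.lift_snd]; exact b.fac_right
  · intro h S
    letI := S.commRing; letI := S.domain; letI := S.valuationRing; letI := S.field
    obtain ⟨g₀, hg₀, -⟩ := key _ S.i₂
    let S' : ValuativeCommSq (pullback.snd f i) :=
      { R := S.R, K := S.K, i₁ := pullback.lift S.i₁ (Spec.map (CommRingCat.ofHom (algebraMap S.R S.K)) ≫ g₀)
          (by rw [Category.assoc, hg₀]; exact S.commSq.w)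
        i₂ := g₀, commSq := ⟨pullback.lift_snd _ _ _⟩ }
    obtain ⟨hu⟩ := h S'
    refine ⟨{ default := ⟨hu.default.l ≫ pullback.fst f i, ?_, ?_⟩, uniq := ?_ }⟩
    · rw [← Category.assoc, hu.default.fac_left]; exact pullback.lift_fst _ _ _
    · rw [Category.assoc, pullback.condition, ← Category.assoc, hu.default.fac_right]; exact hg₀
    · intro b
      apply CommSq.LiftStruct.ext
      have hb : b.l ≫ f = g₀ ≫ i := by rw [b.fac_right, hg₀]
      have := congrArg (fun t => t.l ≫ pullback.fst f i) (hu.uniq ⟨pullback.lift b.l g₀ hb, by
        apply pullback.hom_ext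
        · simp only [S', Category.assoc, pullback.lift_fst]; exact b.fac_left
        · simp only [S', Category.assoc, pullback.lift_snd], pullback.lift_snd _ _ _⟩)
      exact (pullback.lift_fst b.l g₀ hb).symm.trans this

end Groth.Agent.S15833
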