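import Groth.Statements.S15835
import Mathlib.Algebra.Polynomial.Expand
import Mathlib.Algebra.CharP.Lemmas
import Mathlib.Algebra.CharP.Invertible
import Mathlib.Algebra.CharP.Algebra
import Mathlib.Tactic.Ring

set_option autoImplicit false
universe u
open SprIso

namespace Groth.Agent.S15835

open Polynomial

/-- Over a commutative ring R of prime characteristic p, let n ≥ 1 and let p^m be the largest power of p
dividing n. The locus of n × n matrices with characteristic polynomial t^n is stable under adding a
scalar matrix a·1 with n·a = 0 exactly when a^(p^m) = 0: for X with characteristic polynomial t^n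
and such an a, the matrix X + a·1 has characteristic polynomial t^n if and only if a^(p^m) = 0.
(Stated on points with values in an arbitrary ring of characteristic p; the scheme-theoretic
assertion about the nilpotent scheme of SL_n is this statement for all such rings.) -/
theorem result (p : ℕ) [Fact p.Prime] (R : Type u) [CommRing R]
    [CharP R p] (n : ℕ) (hn : 0 < n) (X : Matrix (Fin n) (Fin n) R) (hX : X.charpoly = Polynomial.X ^ n)
    (a : R) (ha : (n : R) * a = 0) :
    (X + Matrix.scalar (Fin n) a).charpoly = Polynomial.X ^ n ↔ a ^ (p ^ padicValNat p n) = 0 := by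
  set q := p ^ padicValNat p n with hq
  obtain ⟨m, hm⟩ : q ∣ n := pow_padicValNat_dvd
  have hq0 : 0 < q := pow_pos (Nat.Prime.pos Fact.out) _
  have hm0 : 0 < m := Nat.pos_of_ne_zero fun h => by simp [hm, h] at hn
  have hp : ¬ p ∣ m := fun h => by
    obtain ⟨r, rfl⟩ := h
    exact pow_succ_padicValNat_not_dvd (p := p) hn.ne' ⟨r, by rw [pow_succ, ← hq, hm]; ring⟩
  have hchar : (X + Matrix.scalar (Fin n) a).charpoly = (Polynomial.X ^ q - C (a ^ q)) ^ m := by
    rw [show X + Matrix.scalar (Fin n) a = X - Matrix.scalar (Fin n) (-a) by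
        rw [map_neg, sub_neg_eq_add], Matrix.charpoly_sub_scalar, hX, pow_comp, X_comp, C_neg,
      ← sub_eq_add_neg, hm, pow_mul, hq, sub_pow_char_pow, C_pow]
  rw [hchar]
  constructor
  · intro h
    have h1 : (Polynomial.expand R q ((Polynomial.X - C (a ^ q)) ^ m)).coeff (q * (m - 1)) =
        (Polynomial.X ^ n : R[X]).coeff (q * (m - 1)) := by
      rw [map_pow, map_sub, expand_X, expand_C, h]
    rw [Polynomial.coeff_expand_mul' hq0, coeff_X_pow,
      if_neg (by rw [hm]; exact fun e => by have := Nat.eq_of_mul_eq_mul_left hq0 e; omega),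
      sub_eq_add_neg, ← C_neg, Polynomial.coeff_X_add_C_pow,
      show m - (m - 1) = 1 by omega, pow_one, ← Nat.choose_symm (by omega),
      show m - (m - 1) = 1 by omega, Nat.choose_one_right] at h1
    have hu : IsUnit (m : R) := (CharP.isUnit_natCast_iff Fact.out).mpr hp
    rwa [hu.mul_left_eq_zero, neg_eq_zero] at h1
  · intro h
    rw [h, C_0, sub_zero, ← pow_mul, ← hm]

end Groth.Agent.S15835
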