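import Groth.Statements.S15836
import Groth.Agent.L13.GradedPic

set_option autoImplicit false
universe u
open SprIso

namespace Groth.Agent.S15836

/-- Let k be a field and C a closed subscheme of affine n-space over k which is stable under the scaling
action of the affine line, i.e. C = Spec A with A = k[x_1, …, x_n]/I for an ideal I generated by
homogeneous polynomials, and assume C is normal (A is an integrally closed domain). Then Pic(C) = 0:
every invertible A-module is free. -/
theorem result (k : Type u) [Field k] (n : ℕ)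
    (I : Ideal (MvPolynomial (Fin n) k))
    (hI : ∃ s : Set (MvPolynomial (Fin n) k), (∀ f ∈ s, ∃ d : ℕ, f.IsHomogeneous d) ∧ I = Ideal.span s)
    [IsDomain (MvPolynomial (Fin n) k ⧸ I)] [IsIntegrallyClosed (MvPolynomial (Fin n) k ⧸ I)]
    (M : Type u) [AddCommGroup M] [Module (MvPolynomial (Fin n) k ⧸ I) M]
    [Module.Invertible (MvPolynomial (Fin n) k ⧸ I) M] :
    Module.Free (MvPolynomial (Fin n) k ⧸ I) M := by
  obtain ⟨s, hs, hIs⟩ := hI
  let Ψ : MvPolynomial (Fin n) k →ₐ[k] Polynomial (MvPolynomial (Fin n) k ⧸ I) :=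
    MvPolynomial.aeval fun i => Polynomial.C (Ideal.Quotient.mk I (MvPolynomial.X i)) * Polynomial.X
  have hhom : ∀ (f : MvPolynomial (Fin n) k) (d : ℕ), f.IsHomogeneous d →
      Ψ f = Polynomial.C (Ideal.Quotient.mk I f) * Polynomial.X ^ d := by
    intro f d hf
    conv_lhs => rw [MvPolynomial.as_sum f]
    rw [map_sum]
    conv_rhs => rw [MvPolynomial.as_sum f, map_sum, map_sum, Finset.sum_mul]
    refine Finset.sum_congr rfl fun m hm => ?_
    have hdeg : d = m.sum fun _ e => e := by
      rw [← hf (MvPolynomial.mem_support_iff.mp hm), Finsupp.weight_apply]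
      simp
    simp only [Ψ, MvPolynomial.aeval_monomial]
    rw [MvPolynomial.monomial_eq, hdeg]
    simp only [Finsupp.prod, Finsupp.sum, mul_pow, Finset.prod_mul_distrib,
      Finset.prod_pow_eq_pow_sum, map_mul, map_prod, map_pow]
    erw [Finset.prod_congr rfl (fun x (_ : x ∈ m.support) =>
        mul_pow (Polynomial.C (Ideal.Quotient.mk I (MvPolynomial.X x))) Polynomial.X (m x)),
      Finset.prod_mul_distrib, Finset.prod_pow_eq_pow_sum, ← mul_assoc]
    rfl
  have hΨ : ∀ f ∈ I, Ψ f = 0 := by
    intro f hf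
    rw [hIs] at hf
    refine Submodule.span_induction (p := fun f _ => Ψ f = 0) ?_ (map_zero _) ?_ ?_ hf
    · intro g hg
      obtain ⟨d, hd⟩ := hs g hg
      rw [hhom g d hd, Ideal.Quotient.eq_zero_iff_mem.mpr ((hIs ▸ Ideal.subset_span hg : g ∈ I)), map_zero, zero_mul]
    · intro a b _ _ ha hb; rw [map_add, ha, hb, add_zero]
    · intro a b _ hb; rw [smul_eq_mul, map_mul, hb, mul_zero]
  have hconst : ∀ f ∈ I, MvPolynomial.constantCoeff f = 0 := by
    intro f hf
    rw [hIs] at hf
    refine Submodule.span_induction (p := fun f _ => MvPolynomial.constantCoeff f = 0) ?_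
      (map_zero _) ?_ ?_ hf
    · intro g hg
      obtain ⟨d, hd⟩ := hs g hg
      by_contra hne
      have hd0 : d = 0 := by
        simpa using (hd (show g.coeff 0 ≠ 0 from hne)).symm
      subst hd0
      have hgC : g = MvPolynomial.C (g.coeff 0) :=
        MvPolynomial.totalDegree_eq_zero_iff_eq_C.mp (Nat.le_zero.mp hd.totalDegree_le)
      have htop : I = ⊤ := Ideal.eq_top_of_isUnit_mem _ ((hIs ▸ Ideal.subset_span hg : g ∈ I))
        (hgC ▸ (isUnit_iff_ne_zero.mpr hne).map MvPolynomial.C)
      exact (Ideal.Quotient.nontrivial_iff.mp inferInstance) htop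
    · intro a b _ _ ha hb; rw [map_add, ha, hb, add_zero]
    · intro a b _ hb; rw [smul_eq_mul, map_mul, hb, mul_zero]
  let φ := Ideal.Quotient.lift I Ψ.toRingHom hΨ
  let ε := Ideal.Quotient.lift I (MvPolynomial.constantCoeff (R := k) (σ := Fin n)) hconst
  refine Groth.Agent.L13.GradedPic.free_of_invertible φ ε (fun c => ?_) (fun a => ?_) (fun a => ?_) M
  · show MvPolynomial.constantCoeff (MvPolynomial.C c) = c
    simp
  · obtain ⟨f, rfl⟩ := Ideal.Quotient.mk_surjective a
    show (Ψ f).eval 1 = _
    induction f using MvPolynomial.induction_on with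
    | C c => simp [Ψ]; rfl
    | add p q hp hq => rw [map_add, Polynomial.eval_add, hp, hq, map_add]
    | mul_X p i hp => rw [map_mul, Polynomial.eval_mul, hp]; simp [Ψ]
  · obtain ⟨f, rfl⟩ := Ideal.Quotient.mk_surjective a
    show (Ψ f).eval 0 = algebraMap k _ (MvPolynomial.constantCoeff f)
    induction f using MvPolynomial.induction_on with
    | C c => simp [Ψ]
    | add p q hp hq => rw [map_add, Polynomial.eval_add, hp, hq, map_add, map_add]
    | mul_X p i hp => rw [map_mul, Polynomial.eval_mul, hp]; simp [Ψ]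

end Groth.Agent.S15836
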