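import Groth.Statements.S15837
import Groth.Agent.L13.FixedLocus.Finite
import Groth.Agent.S12442

set_option autoImplicit false
universe u
open CategoryTheory MonoidalCategory CartesianMonoidalCategory MonObj GrpObj AlgebraicGeometry
open SprIso
open CategoryTheory.Limits

namespace Groth.Agent.S15837

/-- Let S be a scheme, G an S-group scheme of finite presentation acting on an S-scheme X which is
affine and of finite presentation over S, and Y a closed subscheme of X which is finite, flat and of
finite presentation over S. Then the functorial stabilizer of Y in G — whose points with values in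
an S-scheme T are the points g of G such that g acts as the identity on every point of Y with values
in a scheme over T — is represented by a closed subscheme of G whose inclusion is of finite
presentation. -/
theorem result (S : Scheme.{u}) (G X Y : Over S) [GrpObj G]
    [LocallyOfFinitePresentation G.hom] [QuasiCompact G.hom] [QuasiSeparated G.hom]
    [IsAffineHom X.hom] [LocallyOfFinitePresentation X.hom] (a : AlgGrp.Action G X)
    (i : Y ⟶ X) [IsClosedImmersion i.left] [IsFinite Y.hom] [Flat Y.hom] [LocallyOfFinitePresentation Y.hom] :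
    ∃ (Z : Over S) (j : Z ⟶ G), IsClosedImmersion j.left ∧ LocallyOfFinitePresentation j.left ∧
      ∀ (T : Over S) (g : T ⟶ G), (∃ z : T ⟶ Z, z ≫ j = g) ↔
        ∀ (T' : Over S) (t : T' ⟶ T) (y : T' ⟶ Y), lift (t ≫ g) (y ≫ i) ≫ a.act = y ≫ i := by
  haveI : LocallyOfFinitePresentation (pullback.diagonal X.hom ≫ pullback.fst X.hom X.hom) := by
    rw [pullback.diagonal_fst]; infer_instance
  haveI : LocallyOfFinitePresentation (pullback.diagonal X.hom) :=
    Groth.Agent.S12442.result (pullback.diagonal X.hom) (pullback.fst X.hom X.hom)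
  let u : G ⊗ Y ⟶ X := (G ◁ i) ≫ a.act
  let v : G ⊗ Y ⟶ X := snd G Y ≫ i
  haveI : IsFinite (fst G Y).left := inferInstanceAs (IsFinite (pullback.fst G.hom Y.hom))
  haveI : Flat (fst G Y).left := inferInstanceAs (Flat (pullback.fst G.hom Y.hom))
  haveI : LocallyOfFinitePresentation (fst G Y).left :=
    inferInstanceAs (LocallyOfFinitePresentation (pullback.fst G.hom Y.hom))
  obtain ⟨Z₀, j₀, hj, hjfp, hZ⟩ := Groth.L13.FixedLocus.exists_closedImmersion_fp_of_finite
    (fst G Y).left (p := X.hom) u.left v.left ((Over.w u).trans (Over.w v).symm)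
  refine ⟨Over.mk (j₀ ≫ G.hom), Over.homMk j₀, hj, hjfp, fun T g => ?_⟩
  have hiff : (∃ z : T ⟶ Over.mk (j₀ ≫ G.hom), z ≫ Over.homMk j₀ = g) ↔ ∃ z₀ : T.left ⟶ Z₀, z₀ ≫ j₀ = g.left := by
    constructor
    · rintro ⟨z, rfl⟩
      exact ⟨z.left, rfl⟩
    · rintro ⟨z₀, hz₀⟩
      refine ⟨Over.homMk z₀ ((Category.assoc _ _ _).symm.trans (hz₀ ▸ Over.w g)), ?_⟩
      ext1
      exact hz₀
  rw [hiff, hZ]
  constructor
  · intro h T' t y
    have hu : lift (t ≫ g) (y ≫ i) ≫ a.act = lift (t ≫ g) y ≫ u := by
      simp only [u, ← Category.assoc, lift_whiskerLeft]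
    have hv : y ≫ i = lift (t ≫ g) y ≫ v := by
      simp only [v, ← Category.assoc, lift_snd]
    rw [hu, hv]
    ext1
    let n : T'.left ⟶ pullback (fst G Y).left g.left :=
      pullback.lift (lift (t ≫ g) y).left t.left (congrArg CommaMorphism.left (lift_fst (t ≫ g) y))
    have hn : n ≫ pullback.fst _ _ = (lift (t ≫ g) y).left := pullback.lift_fst _ _ _
    show (lift (t ≫ g) y).left ≫ u.left = (lift (t ≫ g) y).left ≫ v.left
    rw [← hn, Category.assoc, Category.assoc, h]
  · intro h
    let T' : Over S := Over.mk (pullback.snd (fst G Y).left g.left ≫ T.hom)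
    let t : T' ⟶ T := Over.homMk (pullback.snd _ _)
    let q : T' ⟶ G ⊗ Y := Over.homMk (pullback.fst (fst G Y).left g.left) (by
      show pullback.fst _ _ ≫ (G ⊗ Y).hom = pullback.snd _ _ ≫ T.hom
      rw [← Over.w (fst G Y), ← Category.assoc, pullback.condition, Category.assoc, Over.w g])
    have hl : lift (t ≫ g) (q ≫ snd G Y) = q := by
      apply CartesianMonoidalCategory.hom_ext
      · rw [lift_fst]
        ext1
        exact pullback.condition.symm
      · rw [lift_snd]
    have h1 := h T' t (q ≫ snd G Y)
    have hu : lift (t ≫ g) ((q ≫ snd G Y) ≫ i) ≫ a.act = q ≫ u := by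
      simp only [u, ← Category.assoc]
      rw [← lift_whiskerLeft, hl]
    rw [hu, Category.assoc] at h1
    exact congrArg CommaMorphism.left h1

end Groth.Agent.S15837
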