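import Groth.Statements.S15838
import Groth.Agent.L08.JordanPoly

set_option autoImplicit false
universe u
open scoped TensorProduct
open SprIso

namespace Groth.Agent.S15838
open Groth.L08

/-- General linear group case: this is the case G = GL(V), to which the general case reduces along a
closed embedding. Let k be a perfect field and V a finite-dimensional k-vector space. If an
invertible endomorphism g of V has multiplicative Jordan decomposition g = t u (t semisimple, u
unipotent, t and u commuting), then the scheme-theoretic centralizer of g in GL(V) is the
centralizer of u inside the centralizer of t: for every commutative k-algebra R, an R-linear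
endomorphism h of R ⊗ V commutes with g_R if and only if it commutes with both t_R and u_R.
Likewise, if an endomorphism X of V has additive Jordan decomposition X = Y + N (Y semisimple, N
nilpotent, commuting), then h commutes with X_R if and only if it commutes with both Y_R and N_R. -/
theorem result (k : Type u) [Field k] [PerfectField k]
    (V : Type u) [AddCommGroup V] [Module k V] [FiniteDimensional k V]
    (R : Type u) [CommRing R] [Algebra k R] (h : Module.End R (R ⊗[k] V)) :
    (∀ (g t u : Module.End k V), IsUnit g → t.IsSemisimple → IsNilpotent (u - 1) → Commute t u → g = t * u →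
      (Commute h (g.baseChange R) ↔ Commute h (t.baseChange R) ∧ Commute h (u.baseChange R))) ∧
    (∀ (X Y N : Module.End k V), Y.IsSemisimple → IsNilpotent N → Commute Y N → X = Y + N →
      (Commute h (X.baseChange R) ↔ Commute h (Y.baseChange R) ∧ Commute h (N.baseChange R))) := by
  have hb : ∀ (a : Module.End k V) (Q : Polynomial k), Commute h (a.baseChange R) →
      Commute h ((Polynomial.aeval a Q).baseChange R) := by
    intro a Q ha
    change Commute h ((Module.End.baseChangeHom k R V) (Polynomial.aeval a Q))
    rw [← Polynomial.aeval_algHom_apply]
    induction Q using Polynomial.induction_on with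
    | C c => rw [Polynomial.aeval_C]; exact (Algebra.commutes c h).symm
    | add p q hp hq => rw [map_add]; exact hp.add_right hq
    | monomial n c hh =>
      rw [pow_succ, ← mul_assoc, map_mul, Polynomial.aeval_X]; exact hh.mul_right ha
  refine ⟨fun g t u hg ht hu htu he => ⟨fun hc => ?_, fun hc => ?_⟩, fun X Y N hY hN hc he => ⟨fun hh => ?_, fun hh => ?_⟩⟩
  · obtain ⟨hn, hc'⟩ := JordanPoly.isNilpotent_sub_of_mul hu htu he.symm
    obtain ⟨P, hP⟩ := JordanPoly.exists_poly g t ht hn hc'
    have h1 : Commute h (t.baseChange R) := hP ▸ hb g P hc
    refine ⟨h1, ?_⟩
    have hT : IsUnit (t.baseChange R) := (htu.isUnit_mul_iff.1 (he ▸ hg)).1.map (Module.End.baseChangeHom k R V)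
    refine hT.mul_left_cancel ?_
    have e : g.baseChange R = t.baseChange R * u.baseChange R := by rw [he, LinearMap.baseChange_mul]
    rw [← mul_assoc, ← h1.eq, mul_assoc, ← e, hc.eq, e, mul_assoc]
  · rw [he, LinearMap.baseChange_mul]; exact hc.1.mul_right hc.2
  · have hYX : Commute Y X := he ▸ (Commute.refl Y).add_right hc
    obtain ⟨P, hP⟩ := JordanPoly.exists_poly X Y hY (by rwa [he, add_sub_cancel_left]) hYX
    have h1 : Commute h (Y.baseChange R) := hP ▸ hb X P hh
    refine ⟨h1, ?_⟩
    have e : N.baseChange R = X.baseChange R - Y.baseChange R := by
      rw [← LinearMap.baseChange_sub, he, add_sub_cancel_left]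
    rw [e]; exact Commute.sub_right (R := Module.End R (R ⊗[k] V)) hh h1
  · rw [he, LinearMap.baseChange_add]; exact hh.1.add_right hh.2

end Groth.Agent.S15838
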