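import Groth.Statements.S15839
import Groth.Agent.S12442

set_option autoImplicit false
universe u
open CategoryTheory MonoidalCategory CartesianMonoidalCategory MonObj GrpObj AlgebraicGeometry
open SprIso
open CategoryTheory.Limits

namespace Groth.Agent.S15839

/-- Let S be a scheme, G an S-group scheme which is affine and of finite presentation over S, and g a
section of G over S. Then the centralizer of g — the subfunctor of G whose points with values in an
S-scheme T are the points x of G with x g_T = g_T x — is represented by a closed subscheme of G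
whose inclusion is of finite presentation. -/
theorem result (S : Scheme.{u}) (G : Over S) [GrpObj G]
    [IsAffineHom G.hom] [LocallyOfFinitePresentation G.hom] (g : 𝟙_ (Over S) ⟶ G) :
    ∃ (Z : Over S) (j : Z ⟶ G), IsClosedImmersion j.left ∧ LocallyOfFinitePresentation j.left ∧
      ∀ (T : Over S) (x : T ⟶ G), (∃ z : T ⟶ Z, z ≫ j = x) ↔
        x * (toUnit T ≫ g) = (toUnit T ≫ g) * x := by
  let u : G ⟶ G := 𝟙 G * (toUnit G ≫ g)
  let v : G ⟶ G := (toUnit G ≫ g) * 𝟙 G
  let c : G.left ⟶ pullback G.hom G.hom := pullback.lift u.left v.left ((Over.w u).trans (Over.w v).symm)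
  haveI : LocallyOfFinitePresentation (pullback.diagonal G.hom ≫ pullback.fst G.hom G.hom) := by
    rw [pullback.diagonal_fst]; infer_instance
  haveI : LocallyOfFinitePresentation (pullback.diagonal G.hom) :=
    Groth.Agent.S12442.result (pullback.diagonal G.hom) (pullback.fst G.hom G.hom)
  refine ⟨Over.mk (pullback.fst c (pullback.diagonal G.hom) ≫ G.hom),
    Over.homMk (pullback.fst c (pullback.diagonal G.hom)), ?_, ?_, fun T x => ?_⟩
  · exact inferInstanceAs (IsClosedImmersion (pullback.fst c (pullback.diagonal G.hom)))
  · exact inferInstanceAs (LocallyOfFinitePresentation (pullback.fst c (pullback.diagonal G.hom)))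
  have hu : x ≫ u = x * (toUnit T ≫ g) := by
    rw [MonObj.comp_mul, Category.comp_id, ← Category.assoc, comp_toUnit]
  have hv : x ≫ v = (toUnit T ≫ g) * x := by
    rw [MonObj.comp_mul, Category.comp_id, ← Category.assoc, comp_toUnit]
  rw [← hu, ← hv]
  constructor
  · rintro ⟨z, rfl⟩
    ext1
    have h1 := congrArg (fun t => t ≫ pullback.fst G.hom G.hom) (pullback.condition (f := c) (g := pullback.diagonal G.hom))
    have h2 := congrArg (fun t => t ≫ pullback.snd G.hom G.hom) (pullback.condition (f := c) (g := pullback.diagonal G.hom))
    simp only [c, Category.assoc, pullback.lift_fst, pullback.lift_snd, pullback.diagonal_fst,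
      pullback.diagonal_snd] at h1 h2
    show (z.left ≫ pullback.fst c (pullback.diagonal G.hom)) ≫ u.left =
      (z.left ≫ pullback.fst c (pullback.diagonal G.hom)) ≫ v.left
    rw [Category.assoc, Category.assoc]
    exact congrArg (z.left ≫ ·) (h1.trans h2.symm)
  · intro h
    have h' : x.left ≫ u.left = x.left ≫ v.left := congrArg CommaMorphism.left h
    refine ⟨Over.homMk (pullback.lift x.left (x.left ≫ u.left) ?_) ?_, ?_⟩
    · apply pullback.hom_ext
      · simp only [c, Category.assoc, pullback.diagonal_fst, Category.comp_id]
        exact congrArg (x.left ≫ ·) (pullback.lift_fst _ _ _)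
      · simp only [c, Category.assoc, pullback.diagonal_snd, Category.comp_id]
        exact (congrArg (x.left ≫ ·) (pullback.lift_snd _ _ _)).trans h'.symm
    · show pullback.lift _ _ _ ≫ pullback.fst c (pullback.diagonal G.hom) ≫ G.hom = T.hom
      rw [pullback.lift_fst_assoc]
      exact Over.w x
    · ext1
      exact pullback.lift_fst _ _ _

end Groth.Agent.S15839
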