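import Groth.Statements.S15840
import Mathlib.Algebra.Polynomial.Expand
import Mathlib.Algebra.CharP.Lemmas
import Mathlib.Tactic.Ring

set_option autoImplicit false
universe u
open SprIso

namespace Groth.Agent.S15840

open Polynomial

/-- For G = SL_n (n = r + 1) over a field of characteristic p > 0, write n = m p^e with m prime to p, so
that the identity component of the centre of G is μ_{p^e} embedded diagonally. The character of the
i-th exterior power of the standard representation takes the value C(n, i) α^i at a point α of
μ_{p^e}, and this is constant: for every commutative ring R of characteristic p and every α in R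
with α^(p^e) = 1 one has C(n, i) α^i = C(n, i) in R, for all i. -/
theorem result (p : ℕ) [Fact p.Prime] (R : Type u) [CommRing R]
    [CharP R p] (n : ℕ) (hn : 0 < n) (α : R) (hα : α ^ (p ^ padicValNat p n) = 1) (i : ℕ) :
    (n.choose i : R) * α ^ i = (n.choose i : R) := by
  set q := p ^ padicValNat p n with hq
  obtain ⟨m, hm⟩ : q ∣ n := pow_padicValNat_dvd
  have hq0 : 0 < q := pow_pos (Nat.Prime.pos Fact.out) _
  by_cases hqi : q ∣ i
  · obtain ⟨j, rfl⟩ := hqi
    rw [pow_mul, hα, one_pow, mul_one]
  · have h1 : ((1 + X : R[X]) ^ n).coeff i = (n.choose i : R) := Polynomial.coeff_one_add_X_pow R n i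
    have h2 : (1 + X : R[X]) ^ n = Polynomial.expand R q ((1 + X) ^ m) := by
      rw [hm, pow_mul, hq, add_pow_char_pow]
      simp
    rw [h2, Polynomial.coeff_expand hq0, if_neg hqi] at h1
    rw [← h1, zero_mul]

end Groth.Agent.S15840
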