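import Groth.Statements.S15841

set_option autoImplicit false
universe u
open scoped TensorProduct
open SprIso

namespace Groth.Agent.S15841

/-- For a connected reductive group G with maximal torus T whose derived group is simply connected, and
a Coxeter element w (the product of the simple reflections, each once, in any order), an element of
Lie T = k ⊗ X_*(T) fixed by Ad(w) is killed by the differential of every simple root, i.e. lies in
the centre of Lie G. In root-datum form: let P be a root pairing over ℤ with character lattice M and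
cocharacter lattice N, b a base, and suppose each simple coroot has a dual character ω_i in M with
⟨ω_i, α_i^∨⟩ = 1 and ⟨ω_i, α_j^∨⟩ = 0 for every other simple j (the simply connected derived group
hypothesis). If l lists the simple roots without repetition, w^∨ is the composite of the
coreflections along l acting on N, k is a field and H in k ⊗ N satisfies w^∨_k H = H, then (α_i)_k H
= 0 for every simple root α_i, where (α_i)_k is the base change to k of the functional ⟨α_i, −⟩ on
N. (Stated for an arbitrary field k; the published setting is an algebraically closed field, and the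
argument does not depend on k.) -/
theorem result {ι M N : Type u} [AddCommGroup M] [AddCommGroup N]
    (P : RootPairing ι ℤ M N) (b : P.Base)
    (hsc : ∀ i ∈ b.support, ∃ ω : M, P.coroot' i ω = 1 ∧ ∀ j ∈ b.support, j ≠ i → P.coroot' j ω = 0)
    (l : List ι) (hl : l.Nodup) (hlb : ∀ i : ι, i ∈ l ↔ i ∈ b.support)
    (k : Type u) [Field k] (H : k ⊗[ℤ] N)
    (hH : ((l.map (fun i => ((P.coreflection i : N ≃ₗ[ℤ] N) : N →ₗ[ℤ] N))).prod).baseChange k H = H) :
    ∀ i ∈ b.support, (P.root' i).baseChange k H = 0 := by
  let F : Module.Dual ℤ N → (k ⊗[ℤ] N →ₗ[k] k) := fun f =>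
    (TensorProduct.AlgebraTensorModule.rid ℤ k k).toLinearMap ∘ₗ f.baseChange k
  have hs : ∀ (i : ι) (y : k ⊗[ℤ] N),
      ((P.coreflection i : N ≃ₗ[ℤ] N) : N →ₗ[ℤ] N).baseChange k y =
        y - F (P.root' i) y • ((1 : k) ⊗ₜ[ℤ] P.coroot i) := by
    intro i y
    induction y with
    | zero => simp
    | tmul r n =>
      simp [F, RootPairing.coreflection_apply, TensorProduct.tmul_sub, TensorProduct.tmul_smul,
        TensorProduct.smul_tmul']
    | add a c ha hc => rw [map_add, ha, hc, map_add, add_smul]; abel
  have hmem : ∀ (l' : List ι) (y : k ⊗[ℤ] N),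
      ((l'.map (fun i => ((P.coreflection i : N ≃ₗ[ℤ] N) : N →ₗ[ℤ] N))).prod).baseChange k y - y ∈
        Submodule.span k ((fun i => (1 : k) ⊗ₜ[ℤ] P.coroot i) '' {i | i ∈ l'}) := by
    intro l'
    induction l' with
    | nil => intro y; simp [Module.End.one_eq_id]
    | cons i l' ih =>
      intro y
      rw [List.map_cons, List.prod_cons, Module.End.mul_eq_comp, LinearMap.baseChange_comp,
        LinearMap.comp_apply, hs]
      set z := ((l'.map (fun i => ((P.coreflection i : N ≃ₗ[ℤ] N) : N →ₗ[ℤ] N))).prod).baseChange k y
      rw [show z - F (P.root' i) z • ((1 : k) ⊗ₜ[ℤ] P.coroot i) - y =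
        (z - y) - F (P.root' i) z • ((1 : k) ⊗ₜ[ℤ] P.coroot i) by abel]
      exact sub_mem (Submodule.span_mono (Set.image_mono fun j hj => List.mem_cons_of_mem i hj) (ih y))
        (Submodule.smul_mem _ _ (Submodule.subset_span ⟨i, by simp, rfl⟩))
  have main : ∀ (l' : List ι), l'.Nodup → (∀ i ∈ l', i ∈ b.support) → ∀ H' : k ⊗[ℤ] N,
      ((l'.map (fun i => ((P.coreflection i : N ≃ₗ[ℤ] N) : N →ₗ[ℤ] N))).prod).baseChange k H' = H' →
      ∀ i ∈ l', (P.root' i).baseChange k H' = 0 := by
    intro l'
    induction l' with
    | nil => intro _ _ _ _ i hi; simp at hi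
    | cons i l' ih =>
      intro hnd hsub H' hfix j hj
      have h0 := hmem l' H'
      rw [List.map_cons, List.prod_cons, Module.End.mul_eq_comp, LinearMap.baseChange_comp,
        LinearMap.comp_apply, hs] at hfix
      set z := ((l'.map (fun i => ((P.coreflection i : N ≃ₗ[ℤ] N) : N →ₗ[ℤ] N))).prod).baseChange k H'
        with hzdef
      obtain ⟨ω, hω1, hω2⟩ := hsc i (hsub i List.mem_cons_self)
      have hker : Submodule.span k ((fun i => (1 : k) ⊗ₜ[ℤ] P.coroot i) '' {j | j ∈ l'}) ≤
          LinearMap.ker (F (P.toLinearMap ω)) := by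
        rw [Submodule.span_le]
        rintro _ ⟨j', hj', rfl⟩
        have hne : j' ≠ i := fun h => (List.nodup_cons.1 hnd).1 (h ▸ hj')
        have h2 : P.toLinearMap ω (P.coroot j') = 0 := hω2 j' (hsub j' (List.mem_cons_of_mem i hj')) hne
        simp [F, h2]
      have hzero : F (P.root' i) z = 0 := by
        have h1 : F (P.toLinearMap ω) (z - H') = 0 := hker h0
        rw [show z - H' = F (P.root' i) z • ((1 : k) ⊗ₜ[ℤ] P.coroot i) by
          conv_lhs => rw [← hfix]
          abel, map_smul] at h1
        have h2 : P.toLinearMap ω (P.coroot i) = 1 := hω1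
        simpa [F, h2] using h1
      rw [hzero, zero_smul, sub_zero] at hfix
      rcases List.mem_cons.1 hj with rfl | hj
      · rw [hfix] at hzero
        exact (TensorProduct.AlgebraTensorModule.rid ℤ k k).injective (by simpa [F] using hzero)
      · exact ih (List.nodup_cons.1 hnd).2 (fun m hm => hsub m (List.mem_cons_of_mem i hm)) H' hfix j hj
  exact fun i hi => main l hl (fun m hm => (hlb m).1 hm) H hH i ((hlb i).2 hi)

end Groth.Agent.S15841
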