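import Groth.Statements.S15844
import Groth.Agent.L13.RegularMatrix

set_option autoImplicit false
universe u
open SprIso

namespace Groth.Agent.S15844

/-- General linear group case: this is the case G = GL_n (derived group SL_n simply connected, all
primes good). Let A be a commutative ring, u an n × n matrix over A with characteristic polynomial
(t − 1)^n (a section of the unipotent scheme) and X one with characteristic polynomial t^n (a
section of the nilpotent scheme), both fiberwise regular — at every field-valued point A → K the
commutant in M_n(K) has dimension n — and suppose X commutes with u (X lies in the Lie algebra of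
the centralizer of u). Then Z(u) = Z(X) inside GL_n: for every commutative A-algebra B and every
invertible x ∈ M_n(B), x commutes with u_B if and only if x commutes with X_B. -/
theorem result (A : Type u) [CommRing A] (n : ℕ)
    (u X : Matrix (Fin n) (Fin n) A)
    (hu : u.charpoly = (Polynomial.X - 1) ^ n) (hX : X.charpoly = Polynomial.X ^ n)
    (hureg : ∀ (K : Type u) [Field K] (φ : A →+* K),
      Module.finrank K (Subalgebra.centralizer K ({u.map φ} : Set (Matrix (Fin n) (Fin n) K))) = n)
    (hXreg : ∀ (K : Type u) [Field K] (φ : A →+* K),
      Module.finrank K (Subalgebra.centralizer K ({X.map φ} : Set (Matrix (Fin n) (Fin n) K))) = n)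
    (hXu : X * u = u * X)
    (B : Type u) [CommRing B] [Algebra A B] (x : Matrix (Fin n) (Fin n) B) (hx : IsUnit x) :
    x * u.map (algebraMap A B) = u.map (algebraMap A B) * x ↔
      x * X.map (algebraMap A B) = X.map (algebraMap A B) * x := by
  obtain ⟨c, hc⟩ := Groth.L13.RegularMatrix.exists_powSum hureg B (algebraMap A B) (x := X.map (algebraMap A B))
    (show Commute _ _ from by
      have := congrArg (algebraMap A B).mapMatrix hXu
      rwa [map_mul, map_mul] at this)
  obtain ⟨d, hd⟩ := Groth.L13.RegularMatrix.exists_powSum hXreg B (algebraMap A B) (x := u.map (algebraMap A B))
    (show Commute _ _ from by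
      have := congrArg (algebraMap A B).mapMatrix hXu.symm
      rwa [map_mul, map_mul] at this)
  constructor
  · intro h
    rw [hc]
    exact (Commute.sum_right _ _ _ fun j _ => ((show Commute x _ from h).pow_right _).smul_right _).eq
  · intro h
    rw [hd]
    exact (Commute.sum_right _ _ _ fun j _ => ((show Commute x _ from h).pow_right _).smul_right _).eq

end Groth.Agent.S15844
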