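import Groth.Statements.S15845

set_option autoImplicit false
universe u
open SprIso

namespace Groth.Agent.S15845

/-- General linear group case: this is the case G = GL_n with its upper-triangular Borel subgroup B
(derived group SL_n simply connected, all primes good, so the hypotheses on the characteristic
hold), together with the companion statement for a regular nilpotent element of Lie B. Let k be a
field and u an n × n upper-triangular matrix over k whose diagonal entries are all equal and whose
superdiagonal entries u_{i,i+1} are all non-zero — for diagonal 1 this is a regular unipotent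
element of B(k), for diagonal 0 a regular nilpotent element of Lie B. Then the centralizer of u in
GL_n is contained in B and is the product of the centre with the centralizer in the unipotent
radical: for every commutative k-algebra R and every invertible x ∈ M_n(R) commuting with u_R, x is
upper triangular and its diagonal entries are all equal. (The smoothness of the centralizer in the
unipotent radical, also part of the published statement, is not stated here.) -/
theorem result (k : Type u) [Field k] (n : ℕ)
    (u : Matrix (Fin n) (Fin n) k) (htri : ∀ i j : Fin n, j < i → u i j = 0) (hdiag : ∀ i j : Fin n, u i i = u j j)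
    (hreg : ∀ (i j : Fin n), j.val = i.val + 1 → u i j ≠ 0)
    (R : Type u) [CommRing R] [Algebra k R] (x : Matrix (Fin n) (Fin n) R) (hx : IsUnit x)
    (hxu : x * u.map (algebraMap k R) = u.map (algebraMap k R) * x) :
    (∀ i j : Fin n, j < i → x i j = 0) ∧ (∀ i j : Fin n, x i i = x j j) := by
  let φ := algebraMap k R
  let N : Matrix (Fin n) (Fin n) R := fun i j => if i = j then 0 else φ (u i j)
  have hN0 : ∀ i j : Fin n, j ≤ i → N i j = 0 := fun i j h => by
    rcases h.eq_or_lt with h | h
    · simp [N, h]
    · simp [N, htri i j h]
  have hcomm : x * N = N * x := by
    funext i j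
    have h := congr_fun (congr_fun hxu i) j
    simp only [Matrix.mul_apply, Matrix.map_apply] at h ⊢
    have e1 : ∑ l, x i l * φ (u l j) = (∑ l, x i l * N l j) + x i j * φ (u j j) := by
      have : ∀ l, x i l * φ (u l j) = x i l * N l j + (if l = j then x i j * φ (u j j) else 0) := by
        intro l
        by_cases hl : l = j
        · subst hl; simp [N]
        · simp [N, hl]
      rw [Finset.sum_congr rfl fun l _ => this l, Finset.sum_add_distrib]
      simp
    have e2 : ∑ l, φ (u i l) * x l j = (∑ l, N i l * x l j) + φ (u i i) * x i j := by
      have : ∀ l, φ (u i l) * x l j = N i l * x l j + (if l = i then φ (u i i) * x i j else 0) := by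
        intro l
        by_cases hl : l = i
        · subst hl; simp [N]
        · simp [N, hl, Ne.symm hl]
      rw [Finset.sum_congr rfl fun l _ => this l, Finset.sum_add_distrib]
      simp
    rw [e1, e2, hdiag j i, mul_comm (φ (u i i))] at h
    exact add_right_cancel h
  have hunit : ∀ (i : Fin n) (hi : i.val + 1 < n), IsUnit (N i ⟨i.val + 1, hi⟩) := fun i hi => by
    have hne : i ≠ ⟨i.val + 1, hi⟩ := fun h => by
      have := congr_arg Fin.val h
      simp at this
    simp only [N, if_neg hne]
    exact (isUnit_iff_ne_zero.mpr (hreg i _ rfl)).map φ
  have hlow : ∀ (c : ℕ) (i j : Fin n), j.val = c → j < i → x i j = 0 := by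
    intro c
    induction c using Nat.strong_induction_on with
    | _ c ihc =>
      have inner : ∀ (d : ℕ) (i j : Fin n), j.val = c → j < i → n - i.val = d → x i j = 0 := by
        intro d
        induction d using Nat.strong_induction_on with
        | _ d ihd =>
          intro i j hj hji hd
          have hji' : j.val < i.val := hji
          let i' : Fin n := ⟨i.val - 1, by omega⟩
          have h := congr_fun (congr_fun hcomm i') j
          simp only [Matrix.mul_apply] at h
          rw [Finset.sum_eq_zero (fun l _ => ?_), Finset.sum_eq_single i] at h
          · have he : i = ⟨i'.val + 1, by simp [i']; omega⟩ := Fin.ext (by simp [i']; omega)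
            have hu := hunit i' (by simp [i']; omega)
            rw [← he] at hu
            exact hu.mul_right_eq_zero.mp h.symm
          · intro l _ hl
            by_cases hle : l ≤ i'
            · rw [hN0 i' l hle, zero_mul]
            · have hli : i'.val < l.val := not_le.mp hle
              have hne : l.val ≠ i.val := fun h => hl (Fin.ext h)
              simp only [i'] at hli
              rw [ihd (n - l.val) (by omega) l j hj (show j.val < l.val by omega) rfl, mul_zero]
          · intro h'
            exact absurd (Finset.mem_univ i) h'
          · by_cases hlj : j ≤ l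
            · rw [hN0 l j hlj, mul_zero]
            · have hl' : l.val < j.val := not_le.mp hlj
              rw [ihc l.val (by omega) i' l rfl (show l.val < i.val - 1 by omega), zero_mul]
      exact fun i j hj hji => inner _ i j hj hji rfl
  have hlow' : ∀ i j : Fin n, j < i → x i j = 0 := fun i j h => hlow _ i j rfl h
  refine ⟨hlow', ?_⟩
  have hstep : ∀ (i : Fin n) (hi : i.val + 1 < n), x i i = x ⟨i.val + 1, hi⟩ ⟨i.val + 1, hi⟩ := by
    intro i hi
    have h := congr_fun (congr_fun hcomm i) ⟨i.val + 1, hi⟩
    simp only [Matrix.mul_apply] at h
    rw [Finset.sum_eq_single i, Finset.sum_eq_single (⟨i.val + 1, hi⟩ : Fin n)] at h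
    · rw [mul_comm (N i _)] at h
      exact (hunit i hi).mul_left_injective h
    · intro l _ hl
      by_cases hle : l ≤ i
      · rw [hN0 i l hle, zero_mul]
      · have h1 : i.val < l.val := not_le.mp hle
        have h2 : l.val ≠ i.val + 1 := fun h => hl (Fin.ext h)
        rw [hlow' l _ (show i.val + 1 < l.val by omega), mul_zero]
    · intro h'; exact absurd (Finset.mem_univ _) h'
    · intro l _ hl
      by_cases hli : l < i
      · rw [hlow' i l hli, zero_mul]
      · have h1 : i.val ≤ l.val := not_lt.mp hli
        have h2 : l.val ≠ i.val := fun h => hl (Fin.ext h)
        rw [hN0 l _ (show i.val + 1 ≤ l.val by omega), mul_zero]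
    · intro h'; exact absurd (Finset.mem_univ _) h'
  intro i j
  have key : ∀ (c : ℕ) (hc : c < n), x ⟨c, hc⟩ ⟨c, hc⟩ = x ⟨0, by omega⟩ ⟨0, by omega⟩ := by
    intro c
    induction c with
    | zero => intro _; rfl
    | succ c ih => intro hc; rw [← hstep ⟨c, by omega⟩ hc, ih]
  exact (key i.val i.isLt).trans (key j.val j.isLt).symm

end Groth.Agent.S15845
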