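import Groth.Statements.S15848
import Groth.Agent.L15.CohFlat
import Groth.Agent.L21.Smooth.Scheme
import Groth.Agent.L16.NegPow.Gen
import Groth.Agent.L16.CohSupport
import Groth.Agent.L12.DefoSh.Tensor
import Groth.Agent.L15.Ref.Reflexive
import Groth.Agent.L17.ClosedPush
import Groth.Agent.Lead.StalkPush
import Groth.Agent.L04.RegularPd
import Groth.Agent.L04.Depth
import Groth.Agent.L01.DepthBasic
import Groth.Agent.L06.RelFPModules
import Groth.Agent.L21.Mod.Stalks

set_option autoImplicit false
universe u
open CategoryTheory CategoryTheory.Limits AlgebraicGeometry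
open Surf

namespace Groth.Agent.S15848

/-- Let k be an algebraically closed field of characteristic zero and S a smooth surface over k (an
integral k-scheme, smooth over k, of dimension two). Let j : C → S be a closed immersion with C
integral of dimension one, M a coherent O_C-module whose stalks are torsion-free modules over the
local rings of C, F a finite locally free O_S-module and f : F → j_*M an epimorphism of O_S-modules.
Then the kernel of f, the elementary transformation of F along f, is a finite locally free
O_S-module. (The published setting takes S projective; the argument is local on S and projectivity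
is not assumed here.) -/
theorem result
    (k : Type u) [Field k] [IsAlgClosed k] [CharZero k]
    (S : Scheme.{u}) [S.Over (Spec (CommRingCat.of k))] [IsIntegral S]
    [Smooth (S ↘ Spec (CommRingCat.of k))] (hdim : topologicalKrullDim S = 2)
    (C : Scheme.{u}) (j : C ⟶ S) [IsClosedImmersion j] [IsIntegral C]
    (hC : topologicalKrullDim C = 1)
    (M : C.Modules) (hM : Coh.IsCoh M) (hMtf : TorSh.IsTorsionFree M)
    (F : S.Modules) (hF : FlatMod.IsFinLocFree F)
    (f : F ⟶ (Coh.push j).obj M) [Epi f] :
    FlatMod.IsFinLocFree (kernel f) := by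
  haveI : IsLocallyNoetherian S :=
    LocallyOfFiniteType.isLocallyNoetherian (S ↘ Spec (CommRingCat.of k))
  have hreg : ∀ x : S, IsRegularLocalRing (S.presheaf.stalk x) :=
    Groth.L21.Smooth.regular_stalk (S ↘ Spec (CommRingCat.of k))
  have hFc : Coh.IsCoh F := Groth.L16.NegPow.isCoh_of_isFinLocFree hF
  haveI : Coh.IsQCoh F := hFc.1
  let G : S.Modules := (Coh.push j).obj M
  haveI : Coh.IsQCoh M := hM.1
  haveI : Coh.IsQCoh G := Groth.L06.RelFPModules.isQCoh_push j M
  have hK : Coh.IsCoh (kernel f) := Groth.L16.CohSupport.isCoh_kernel hFc f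
  have hseq : (ShortComplex.mk (kernel.ι f) f (kernel.condition f)).ShortExact :=
    { exact := ShortComplex.exact_kernel f
      mono_f := inferInstanceAs (Mono (kernel.ι f))
      epi_g := ‹Epi f› }
  refine Groth.L15.CohFlat.isFinLocFree_of_isCoh_isFlat _ hK fun x => ?_
  show Module.Flat _ _
  haveI := hreg x
  let R := S.presheaf.stalk x
  let u := RefHull.stalkMapₗ (kernel.ι f) x
  let v := RefHull.stalkMapₗ f x
  obtain ⟨h1, h2, h3⟩ : Function.Exact u v ∧ Function.Injective u ∧ Function.Surjective v :=
    ⟨(ShortComplex.ab_exact_iff_function_exact _).1 ((Groth.L21.Mod.exact_iff_stalk _).1 hseq.exact x),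
      (Groth.L21.Mod.mono_iff_stalk_injective (kernel.ι f)).1 inferInstance x,
      (Groth.L21.Mod.epi_iff_stalk_surjective f).1 inferInstance x⟩
  haveI := Groth.L15.Ref.finite_stalk hFc x
  haveI := Groth.L15.Ref.finite_stalk hK x
  haveI : Module.Finite R (G.presheaf.stalk x) := Module.Finite.of_surjective v h3
  haveI := Groth.L12.DefoSh.free_stalk hF x
  obtain ⟨d, hd, hd2⟩ : ∃ d : ℕ, ringKrullDim R = d ∧ d ≤ 2 := by
    have h := (Groth.L15.CohFlat.ringKrullDim_stalk_le x).trans_eq hdim
    rw [ringKrullDim_stalk_eq_coheight x] at h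
    have h' : Order.coheight x ≤ ((2 : ℕ) : ℕ∞) := WithBot.coe_le_coe.1 h
    obtain ⟨d, hd⟩ := ENat.ne_top_iff_exists.1 (ne_top_of_le_ne_top (ENat.natCast_ne_top 2) h')
    refine ⟨d, (ringKrullDim_stalk_eq_coheight x).trans (by rw [← hd]; rfl), ?_⟩
    rw [← hd] at h'
    exact_mod_cast h'
  have hdep : (d : ℕ∞) ≤ ((1 : ℕ) : ℕ∞) + LocCoh.depth R (G.presheaf.stalk x) ∨
      Subsingleton (G.presheaf.stalk x) := by
    by_cases hx : x ∈ Set.range j
    swap
    · exact Or.inr (Groth.L17.ClosedPush.subsingleton_stalk_push j M hx)
    obtain ⟨c, rfl⟩ := hx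
    refine Or.inl ?_
    rcases Nat.lt_or_ge d 2 with hlt | hge
    · exact le_add_right (by exact_mod_cast Nat.lt_succ_iff.1 hlt)
    obtain rfl : d = 2 := le_antisymm hd2 hge
    have hne : IsLocalRing.maximalIdeal (C.presheaf.stalk c) ≠ ⊥ := by
      intro hbot
      have hfield : IsField (C.presheaf.stalk c) := IsLocalRing.isField_iff_maximalIdeal_eq.2 hbot
      have h0 : Order.coheight c = 0 := by
        have h := ringKrullDim_stalk_eq_coheight c
        rw [ringKrullDim_eq_zero_of_isField hfield] at h
        exact_mod_cast h.symm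
      have hgen : c = genericPoint ↥C := by
        have hmax : IsMax c := Order.coheight_eq_zero.1 h0
        have h1 : c ≤ genericPoint ↥C := ((genericPoint_spec ↥C).specializes trivial)
        have h1' : genericPoint ↥C ⤳ c := h1
        have h2' : c ⤳ genericPoint ↥C := hmax h1
        exact (h2'.antisymm h1').eq
      obtain ⟨c', hc'⟩ : ∃ c' : C, c' ≠ c := by
        by_contra hc
        push Not at hc
        haveI : Subsingleton C := ⟨fun a b => (hc a).trans (hc b).symm⟩
        have := (topologicalKrullDim_zero_of_discreteTopology (↥C))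
        rw [hC] at this
        exact absurd this (by decide)
        
      have hlt : j c' < j c := by
        have hle : c ⤳ c' := hgen ▸ (genericPoint_spec ↥C).specializes trivial
        have hle' : j c ⤳ j c' := hle.map j.continuous
        refine lt_iff_le_not_ge.2 ⟨hle', fun h => hc' (j.isClosedEmbedding.injective ?_)⟩
        have h' : j c' ⤳ j c := h
        exact (h'.antisymm hle').eq
      have h2 : Order.coheight (j c) + 1 ≤ Order.coheight (j c') := Order.coheight_add_one_le hlt
      have hd' := (ringKrullDim_stalk_eq_coheight (j c)).symm.trans hd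
      have hc2 : Order.coheight (j c) = ((2 : ℕ) : ℕ∞) := WithBot.coe_inj.1 hd'
      have h4 := (ringKrullDim_stalk_eq_coheight (j c')).symm.trans_le
        ((Groth.L15.CohFlat.ringKrullDim_stalk_le (j c')).trans_eq hdim)
      have h5 : Order.coheight (j c') ≤ ((2 : ℕ) : ℕ∞) := WithBot.coe_le_coe.1 h4
      have h6 := h2.trans h5
      rw [hc2] at h6
      exact absurd h6 (by decide)
    obtain ⟨m, hm, hm0⟩ := Submodule.exists_mem_ne_zero_of_ne_bot hne
    obtain ⟨r, rfl⟩ := j.stalkMap_surjective c m
    have hr : r ∈ IsLocalRing.maximalIdeal (S.presheaf.stalk (j c)) := by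
      rw [IsLocalRing.mem_maximalIdeal] at hm ⊢
      exact fun h => hm (h.map (j.stalkMap c).hom)
    haveI := hMtf c
    have hbij : Function.Bijective (Groth.Lead.StalkPush.σ j c M) := by
      haveI := TopCat.Presheaf.stalkPushforward.stalkPushforward_iso_of_isInducing AddCommGrpCat.{u}
        j.isClosedEmbedding.isInducing M.presheaf c
      exact ConcreteCategory.bijective_of_isIso
        (TopCat.Presheaf.stalkPushforward AddCommGrpCat.{u} j.base M.presheaf c)
    have hsr : IsSMulRegular (G.presheaf.stalk (j c)) r := fun a b hab => hbij.1 <| by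
      have h := congrArg (Groth.Lead.StalkPush.σ j c M) hab
      rw [Groth.Lead.StalkPush.σ_smul, Groth.Lead.StalkPush.σ_smul] at h
      exact smul_right_injective _ hm0 h
    have h := Groth.L01.one_le_depth (M := G.presheaf.stalk (j c)) hr hsr
    calc ((2 : ℕ) : ℕ∞) = ((1 : ℕ) : ℕ∞) + 1 := rfl
      _ ≤ _ := add_le_add le_rfl h
  haveI hG : HasProjectiveDimensionLE (ModuleCat.of R (G.presheaf.stalk x)) 1 := by
    rcases hdep with h | h
    · exact Groth.L04.hasProjectiveDimensionLE_of_dim_le_add_depth _ hd h
    · exact Groth.L04.hasProjectiveDimensionLE_of_subsingleton _ 1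
  have hS := Groth.L04.shortExact_mk (N' := (kernel f).presheaf.stalk x) (N := F.presheaf.stalk x)
    (N'' := G.presheaf.stalk x) h2 h3 h1
  haveI : Projective (ModuleCat.of R (F.presheaf.stalk x)) :=
    (IsProjective.iff_projective (R := R) (F.presheaf.stalk x)).1 inferInstance
  haveI : HasProjectiveDimensionLT (ModuleCat.of R ((kernel f).presheaf.stalk x)) 1 :=
    hS.hasProjectiveDimensionLT_X₁ (n := 1)
      (show HasProjectiveDimensionLT (ModuleCat.of R (F.presheaf.stalk x)) 1 from inferInstance) hG
  haveI : Projective (ModuleCat.of R ((kernel f).presheaf.stalk x)) :=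
    projective_iff_hasProjectiveDimensionLT_one.2 inferInstance
  haveI : Module.Projective R ((kernel f).presheaf.stalk x) :=
    (IsProjective.iff_projective (R := R) ((kernel f).presheaf.stalk x)).2 inferInstance
  exact Module.Flat.of_projective
end Groth.Agent.S15848
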