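import Groth.Statements.S15849
import Groth.Agent.L03.ShStab.PicZStable
import Groth.Agent.L08.Cube.SmoothStalk
-- import your own Groth.Agent.* helpers here

set_option autoImplicit false
universe u
open CategoryTheory CategoryTheory.Limits AlgebraicGeometry
open ShStab

namespace Groth.Agent.S15849

/-- Let k be an algebraically closed field of characteristic zero and S a smooth projective surface over
k (integral, smooth over k, of dimension two, with a closed immersion over k into some projective
space) whose Picard group is infinite cyclic, generated by the class of an ample invertible sheaf L.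
Let N ⊆ L be a coherent subsheaf whose quotient L/N has support of dimension at most zero (N is L
twisted by the ideal sheaf of a finite subscheme, possibly empty), and let V be a coherent
O_S-module with torsion-free stalks in a short exact sequence 0 → O_S → V → N → 0 that does not
split. Then V is slope-stable of dimension two with respect to L: V has no coherent subsheaf with
one-dimensional support, and every coherent subsheaf whose multiplicity lies strictly between 0 and
that of V has normalised slope of its Hilbert polynomial strictly smaller than that of V. (The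
published statement does not ask the extension to be non-split; for the split extension V = O_S ⊕ N
the subsheaf N has larger slope than V, and the printed argument uses that the sequence does not
split, so non-splitness is assumed here.) -/
theorem result
    (k : Type u) [Field k] [IsAlgClosed k] [CharZero k]
    (S : Scheme.{u}) [S.Over (Spec (CommRingCat.of k))] [IsIntegral S]
    [Smooth (S ↘ Spec (CommRingCat.of k))] (hdim : topologicalKrullDim S = 2)
    [IsProper (S ↘ Spec (CommRingCat.of k))]
    (hproj : ∃ (n : ℕ) (ι : S ⟶ CohB1.ProjSpace n k), IsClosedImmersion ι ∧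
      ι ≫ CohB1.ProjSpace.toSpec n k = S ↘ Spec (CommRingCat.of k))
    (L : S.Modules) (hLi : PicF.IsInvertible L) (hLa : CohB1.IsAmple L)
    [PicGrp.Law S] (hgen : ∀ c : PicLoc.PicSet S, ∃ n : ℤ, c = PicGrp.cls L hLi ^ n)
    (hfree : ∀ n : ℤ, PicGrp.cls L hLi ^ n = 1 → n = 0)
    (N : S.Modules) (ι : N ⟶ L) [Mono ι] (hN : Coh.IsCoh N)
    (hZ : topologicalKrullDim (CohB1.support (cokernel ι)) ≤ 0)
    (V : S.Modules) (hV : Coh.IsCoh V) (hVtf : TorSh.IsTorsionFree V)
    (a : Coh.structureModule S ⟶ V) (b : V ⟶ N) (w : a ≫ b = 0)
    (hex : (ShortComplex.mk a b w).ShortExact)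
    (hns : ∀ r : V ⟶ Coh.structureModule S, a ≫ r ≠ 𝟙 (Coh.structureModule S)) :
    ShStab.IsMuStable k S L V 2 := by
  have h2 : topologicalKrullDim S = ((2 : ℕ) : WithBot ℕ∞) := by rw [hdim]; rfl
  have hj : topologicalKrullDim (CohB1.support (cokernel ι)) + 2 ≤ ((2 : ℕ) : WithBot ℕ∞) := by
    refine (add_le_add_left hZ 2).trans ?_
    rw [zero_add]; rfl
  exact Groth.L03.ShStab.PicZStable.isMuStable
    (fun x => Groth.L08.Cube.isRegularLocalRing_of_smooth (S ↘ Spec (CommRingCat.of k)) x) hLa hgen
    (by norm_num) h2 hex (Iso.refl _) hV ι hj (fun r => hns r)

end Groth.Agent.S15849
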