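import Groth.Statements.S15851
import Groth.Agent.L03.SurfExt.Bidual
import Groth.Agent.L03.SurfAdj.Tools
-- import your own Groth.Agent.* helpers here

set_option autoImplicit false
universe u
open CategoryTheory CategoryTheory.Limits AlgebraicGeometry
attribute [local instance] HasDerivedCategory.standard
open Surf

namespace Groth.Agent.S15851

/-- Let k be an algebraically closed field of characteristic zero, S a smooth projective surface over k
(integral, smooth over k, of dimension two, with a closed immersion over k into some projective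
space) and ω an O_S-module which is a second exterior power of the sheaf of differentials of S over
k (the canonical sheaf). Let j : C → S be a closed immersion with C integral of dimension one and A
a coherent O_C-module with torsion-free stalks and one-dimensional generic stalk (a rank-one
torsion-free sheaf on C). Put A^* = Ext^1_{O_S}(j_*A, ω), the value at ω of the first right derived
functor of the sheaf Hom functor Hom_{O_S}(j_*A, -) (taken as the right adjoint of j_*A ⊗ -). Then
Ext^1_{O_S}(A^*, ω) is isomorphic to j_*A: the operation A ↦ A^* is an involution up to isomorphism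
(existence of an isomorphism only). (The instance binders on sheaf Hom functors and injective
resolutions always hold.) -/
theorem result
    (k : Type u) [Field k] [IsAlgClosed k] [CharZero k]
    (S : Scheme.{u}) [S.Over (Spec (CommRingCat.of k))] [IsIntegral S]
    [Smooth (S ↘ Spec (CommRingCat.of k))] (hdim : topologicalKrullDim S = 2)
    [IsProper (S ↘ Spec (CommRingCat.of k))]
    (hproj : ∃ (n : ℕ) (ι : S ⟶ CohB1.ProjSpace n k), IsClosedImmersion ι ∧
      ι ≫ CohB1.ProjSpace.toSpec n k = S ↘ Spec (CommRingCat.of k))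
    [HasInjectiveResolutions S.Modules]
    (ω : S.Modules) (hω : Canon.IsTopDiff (S ↘ Spec (CommRingCat.of k)) 2 ω)
    (C : Scheme.{u}) (j : C ⟶ S) [IsClosedImmersion j] [IsIntegral C]
    (hC : topologicalKrullDim C = 1)
    (M : C.Modules) (hM : Coh.IsCoh M) (hMtf : TorSh.IsTorsionFree M)
    (hrk : Module.finrank (C.presheaf.stalk (genericPoint C)) (M.presheaf.stalk (genericPoint C)) = 1)
    [DCoh.HasSheafHom ((Coh.push j).obj M)] [(DCoh.sheafHom ((Coh.push j).obj M)).Additive]
    [DCoh.HasSheafHom (((DCoh.sheafHom ((Coh.push j).obj M)).rightDerived 1).obj ω)]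
    [(DCoh.sheafHom (((DCoh.sheafHom ((Coh.push j).obj M)).rightDerived 1).obj ω)).Additive] :
    Nonempty (((DCoh.sheafHom (((DCoh.sheafHom ((Coh.push j).obj M)).rightDerived 1).obj ω)).rightDerived 1).obj ω ≅ (Coh.push j).obj M) := by
  have hreg := fun x => Groth.L03.SurfAdj.reg_of_smooth k (X := S) x
  obtain ⟨N, ι, hι, hιk⟩ := id hproj
  haveI := hι
  haveI := Groth.L21.RR.isNoetherian_of_proper (X := S) k
  haveI := Groth.L00.Tensor.grothendieckAbelian_modules S
  haveI : HasExt.{u} S.Modules := IsGrothendieckAbelian.hasExt _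
  obtain ⟨hωi, -, -⟩ := Groth.L03.SurfExt.exists_dualizing_topDiff k hdim hreg hproj hω
  obtain ⟨T, hT, h3, h1f, h2f, -, -, -, -, -, b, w, hb⟩ :=
    Groth.L03.SurfExt.exists_resolution (k := k) (ω := ω) j hreg hdim hC ι hωi hM hMtf
  obtain ⟨e⟩ := Groth.L03.SurfExt.nonempty_rightDerived_iso ((Coh.push j).obj M) ω 1
  have hη : Subsingleton (T.X₃.presheaf.stalk (genericPoint ↥S)) := by
    by_contra h
    refine Groth.L03.SurfExt.ne_genericPoint_of_mem_support j (M := M) hdim hC ?_ rfl
    rw [← h3]
    exact h
  let e' : Groth.L22.ExtSh.E T.X₃ ω 1 ≅ _ := eqToIso (congrArg (fun F => Groth.L22.ExtSh.E F ω 1) h3) ≪≫ e.symm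
  have w' : Groth.L22.PDual.pre' ω T.f ≫ b ≫ e'.hom = 0 := by rw [reassoc_of% w, zero_comp]
  obtain ⟨a⟩ := Groth.L03.SurfExt.nonempty_bidual_iso hT h1f h2f hωi hη (b ≫ e'.hom) w'
    (ShortComplex.shortExact_of_iso (show ShortComplex.mk (Groth.L22.PDual.pre' ω T.f) b w ≅
      ShortComplex.mk (Groth.L22.PDual.pre' ω T.f) (b ≫ e'.hom) w' from
      ShortComplex.isoMk (Iso.refl _) (Iso.refl _) e' (by simp) (by simp)) hb)
  obtain ⟨e2⟩ := Groth.L03.SurfExt.nonempty_rightDerived_iso
    (((DCoh.sheafHom ((Coh.push j).obj M)).rightDerived 1).obj ω) ω 1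
  exact ⟨e2 ≪≫ a ≪≫ eqToIso h3⟩

end Groth.Agent.S15851
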