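import Groth.Statements.S15853
import Groth.Agent.L03.ShStab.K3Rank2
-- import your own Groth.Agent.* helpers here

set_option autoImplicit false
universe u
open CategoryTheory CategoryTheory.Limits AlgebraicGeometry Polynomial
open ShStab

namespace Groth.Agent.S15853

/-- Let k be an algebraically closed field of characteristic zero and S a K3 surface over k — a smooth
projective surface (integral, smooth over k, of dimension two, with a closed immersion over k into
some projective space) whose structure sheaf is a second exterior power of its sheaf of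
differentials and with H^1(S, O_S) = 0 — whose Picard group is infinite cyclic, generated by the
class of an ample invertible sheaf L. Let V be a coherent O_S-module with torsion-free stalks,
stable of dimension two with respect to L, and let P be its Hilbert polynomial with respect to L,
P(m) = χ(V ⊗ L^m). Assume: the leading coefficient of P is twice that of the Hilbert polynomial of
O_S (V has rank two); the coefficients of m and of m^2 in P agree (on such a surface this says
c_1(V)·L = L^2, i.e. the first Chern class of V is the class of L); and P(0) = χ(V) ≥ 1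
(equivalently c_2(V) ≤ L^2/2 + 3). Then V is an extension of L ⊗ I_Z by O_S for some finite
subscheme Z: there are a coherent subsheaf N ⊆ L with L/N supported in dimension at most zero and a
short exact sequence 0 → O_S → V → N → 0, which moreover does not split. -/
theorem result
    (k : Type u) [Field k] [IsAlgClosed k] [CharZero k]
    (S : Scheme.{u}) [S.Over (Spec (CommRingCat.of k))] [IsIntegral S]
    [Smooth (S ↘ Spec (CommRingCat.of k))] (hdim : topologicalKrullDim S = 2)
    [IsProper (S ↘ Spec (CommRingCat.of k))]
    (hproj : ∃ (n : ℕ) (ι : S ⟶ CohB1.ProjSpace n k), IsClosedImmersion ι ∧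
      ι ≫ CohB1.ProjSpace.toSpec n k = S ↘ Spec (CommRingCat.of k))
    (hK : Canon.IsTopDiff (S ↘ Spec (CommRingCat.of k)) 2 (Coh.structureModule S))
    (hq : Module.finrank k (Coh.HH S (Coh.structureModule S) 1) = 0)
    (L : S.Modules) (hLi : PicF.IsInvertible L) (hLa : CohB1.IsAmple L)
    [PicGrp.Law S] (hgen : ∀ c : PicLoc.PicSet S, ∃ n : ℤ, c = PicGrp.cls L hLi ^ n)
    (hfree : ∀ n : ℤ, PicGrp.cls L hLi ^ n = 1 → n = 0)
    (V : S.Modules) (hV : Coh.IsCoh V) (hVtf : TorSh.IsTorsionFree V)
    (hst : ShStab.IsStable k S L V 2)
    (P PO : ℚ[X]) (hP : ShStab.IsHilbPoly k S L V P)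
    (hPO : ShStab.IsHilbPoly k S L (Coh.structureModule S) PO)
    (hrk : P.coeff 2 = 2 * PO.coeff 2) (hc1 : P.coeff 1 = P.coeff 2) (hchi : 1 ≤ P.coeff 0) :
    ∃ (N : S.Modules) (ι : N ⟶ L) (_ : Mono ι) (_ : Coh.IsCoh N)
      (_ : topologicalKrullDim (CohB1.support (cokernel ι)) ≤ 0)
      (a : Coh.structureModule S ⟶ V) (b : V ⟶ N) (w : a ≫ b = 0),
      (ShortComplex.mk a b w).ShortExact ∧
        ∀ r : V ⟶ Coh.structureModule S, a ≫ r ≠ 𝟙 (Coh.structureModule S) := by
  exact Groth.L03.ShStab.K3Rank2.exists_extension (hdim.trans Nat.cast_ofNat.symm) hLa (fun c => hgen c)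
    hproj hK hV hVtf hst hP hPO hrk hc1 hchi

end Groth.Agent.S15853
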