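import Groth.Statements.S15855
import Groth.Agent.L03.SurfExt.OnCurve
-- import your own Groth.Agent.* helpers here

set_option autoImplicit false
universe u
open CategoryTheory CategoryTheory.Limits AlgebraicGeometry
attribute [local instance] HasDerivedCategory.standard
open Surf

namespace Groth.Agent.S15855

open Groth.L03.SurfExt

/-- Let k be an algebraically closed field of characteristic zero, S a smooth projective surface over k
(integral, smooth over k, of dimension two, with a closed immersion over k into some projective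
space), ω an O_S-module which is a second exterior power of the sheaf of differentials of S over k,
j : C → S a closed immersion with C integral of dimension one, and A a coherent O_C-module with
torsion-free stalks and one-dimensional generic stalk, with H^0(S, j_*A) ≠ 0 and H^1(S, j_*A) ≠ 0.
For a coherent O_S-module F write F^* = Ext^1_{O_S}(F, ω) (first right derived functor of the sheaf
Hom functor Hom_{O_S}(F, -), the right adjoint of F ⊗ -, at ω). Let A' ⊆ j_*A be the base-point-free
part of A: a globally generated coherent subsheaf such that H^0(S, A') → H^0(S, j_*A) is surjective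
(the image of the evaluation map). Let B ⊆ A'^* be, likewise, a globally generated coherent subsheaf
with H^0(S, B) → H^0(S, A'^*) surjective, and put A'' = B^*. Then both A'' and A''^* are globally
generated (quotients of free O_S-modules). -/
theorem result
    (k : Type u) [Field k] [IsAlgClosed k] [CharZero k]
    (S : Scheme.{u}) [S.Over (Spec (CommRingCat.of k))] [IsIntegral S]
    [Smooth (S ↘ Spec (CommRingCat.of k))] (hdim : topologicalKrullDim S = 2)
    [IsProper (S ↘ Spec (CommRingCat.of k))]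
    (hproj : ∃ (n : ℕ) (ι : S ⟶ CohB1.ProjSpace n k), IsClosedImmersion ι ∧
      ι ≫ CohB1.ProjSpace.toSpec n k = S ↘ Spec (CommRingCat.of k))
    [HasInjectiveResolutions S.Modules]
    (ω : S.Modules) (hω : Canon.IsTopDiff (S ↘ Spec (CommRingCat.of k)) 2 ω)
    (C : Scheme.{u}) (j : C ⟶ S) [IsClosedImmersion j] [IsIntegral C]
    (hC : topologicalKrullDim C = 1)
    (M : C.Modules) (hM : Coh.IsCoh M) (hMtf : TorSh.IsTorsionFree M)
    (hrk : Module.finrank (C.presheaf.stalk (genericPoint C)) (M.presheaf.stalk (genericPoint C)) = 1)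
    (h0 : 0 < Module.finrank k (Coh.HH S ((Coh.push j).obj M) 0)) (h1 : 0 < Module.finrank k (Coh.HH S ((Coh.push j).obj M) 1))
    (A' : S.Modules) (ι₁ : A' ⟶ ((Coh.push j).obj M)) [Mono ι₁] (hA'c : Coh.IsCoh A')
    (hA'g : Curv2.IsGloballyGenerated A') (hA'0 : Function.Surjective (Canon.HHlin k ι₁ 0))
    [DCoh.HasSheafHom A'] [(DCoh.sheafHom A').Additive]
    (B : S.Modules) (ι₂ : B ⟶ ((DCoh.sheafHom A').rightDerived 1).obj ω) [Mono ι₂] (hBc : Coh.IsCoh B)
    (hBg : Curv2.IsGloballyGenerated B) (hB0 : Function.Surjective (Canon.HHlin k ι₂ 0))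
    [DCoh.HasSheafHom B] [(DCoh.sheafHom B).Additive]
    [DCoh.HasSheafHom (((DCoh.sheafHom B).rightDerived 1).obj ω)] [(DCoh.sheafHom (((DCoh.sheafHom B).rightDerived 1).obj ω)).Additive] :
    Curv2.IsGloballyGenerated (((DCoh.sheafHom B).rightDerived 1).obj ω) ∧
      Curv2.IsGloballyGenerated (((DCoh.sheafHom (((DCoh.sheafHom B).rightDerived 1).obj ω)).rightDerived 1).obj ω) := by
  haveI := Groth.L21.RR.isNoetherian_of_proper (X := S) k
  have hreg := fun x => Groth.L03.SurfAdj.reg_of_smooth k (X := S) x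
  obtain ⟨hωi, ht⟩ := Groth.L03.SurfExt.exists_dualizing_topDiff k hdim hreg hproj hω
  have c : Ctx k S ω := ⟨hreg, hdim, hproj, hωi, ht⟩
  have hF := good_push j hdim hC hM hMtf
  have hsupp : CohB1.support ((Coh.push j).obj M) ⊆ Set.range j := Groth.L16.CohClosedPush.support_push_subset j M
  -- the part `A'`
  have hA := good_sub ι₁ hA'c hF
  have hA0 : ¬ IsZero A' := fun hz => by
    haveI := Groth.L03.Euler.subsingleton_HH_of_isZero hz 0
    haveI := hA'0.subsingleton
    rw [Module.finrank_zero_of_subsingleton] at h0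
    omega
  obtain ⟨hT₁, hAs, hAn⟩ := suppClosed_cokernel j hdim hC ι₁ hA hsupp hA0 (simple_push j hrk)
  have hA1 : 0 < Module.finrank k (Coh.HH S A' 1) := by
    haveI := Groth.L16.ProperFinite.finite_HH k hA'c 1
    have hsh : (ShortComplex.mk ι₁ (cokernel.π ι₁) (cokernel.condition ι₁)).ShortExact :=
      { exact := ShortComplex.exact_cokernel ι₁ }
    have hsurj : Function.Surjective (Groth.L16.CohLinear.overLin k (Groth.L16.CohLinear.hmap ι₁ 1)) := fun y =>
      (Groth.L16.CohLinear.exact_hmap_hmap hsh 1 y).1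
        (@Subsingleton.elim _ (Groth.L21.RR.subsingleton_HH_of_suppClosed hT₁ 0) _ _)
    have := LinearMap.finrank_le_finrank_of_surjective hsurj
    exact h1.trans_le this
  -- its dual
  obtain ⟨e⟩ := nonempty_rightDerived_iso A' ω 1
  obtain ⟨hD, hD0, ⟨bidA⟩⟩ := c.dual_spec hA e
  have hDsupp : CohB1.support (((DCoh.sheafHom A').rightDerived 1).obj ω) ⊆ Set.range j := fun x hx =>
    hsupp (support_subset_of_mono ι₁ fun h => hx (stalk_subsingleton_of_iso e.symm x
      (subsingleton_stalk_E hA'c ω 1 h)))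
  have hDs : Simple (S.presheaf.stalk (ηC j)) ((((DCoh.sheafHom A').rightDerived 1).obj ω).presheaf.stalk (ηC j)) := by
    haveI := hreg (ηC j)
    haveI := hAn
    have hs := simple_stalk_E (L := ω) hA'c hωi (dim_ηC j hdim hC) hAs
    let q : ((((DCoh.sheafHom A').rightDerived 1).obj ω).presheaf.stalk (ηC j)) ≃ₗ[S.presheaf.stalk (ηC j)]
        (Groth.L22.ExtSh.E A' ω 1).presheaf.stalk (ηC j) :=
      ((Groth.L00.Stk.F S (ηC j)).mapIso e).toLinearEquiv
    obtain ⟨g, hg⟩ := hs.cyclic
    refine ⟨fun a ha v => q.injective (by rw [map_smul, hs.kills a ha, map_zero]), ⟨q.symm g, fun z => ?_⟩⟩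
    obtain ⟨r, hr⟩ := hg (q z)
    exact ⟨r, q.injective (by rw [map_smul, q.apply_symm_apply, hr])⟩
  -- the part `B`
  have hB := good_sub ι₂ hBc hD
  have hB00 : ¬ IsZero B := fun hz => by
    haveI := Groth.L03.Euler.subsingleton_HH_of_isZero hz 0
    haveI := hB0.subsingleton
    rw [← hD0, Module.finrank_zero_of_subsingleton] at hA1
    omega
  obtain ⟨hT₂, -, -⟩ := suppClosed_cokernel j hdim hC ι₂ hB hDsupp hB00 hDs
  let T := ShortComplex.mk ι₂ (cokernel.π ι₂) (cokernel.condition ι₂)
  have hT : T.ShortExact := { exact := ShortComplex.exact_cokernel ι₂ }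
  obtain ⟨φ, hφm, hφs⟩ := c.exists_dual_map hT hBc hD.coh
    (Groth.L16.CohKernel.isCoh_kernel_cokernel hBc hD.coh ι₂).2 hT₂
  have hBD : Module.finrank k (Coh.HH S B 0) = Module.finrank k (Coh.HH S (((DCoh.sheafHom A').rightDerived 1).obj ω) 0) := by
    refine LinearEquiv.finrank_eq (LinearEquiv.ofBijective (Groth.L16.CohLinear.overLin k (Groth.L16.CohLinear.hmap ι₂ 0))
      ⟨fun x y h => Groth.L03.Euler.injective_hmap_zero (S := T) hT h, ?_⟩)
    intro y
    obtain ⟨x, hx⟩ := hB0 y
    exact ⟨x, hx⟩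
  -- the double dual
  obtain ⟨e'⟩ := nonempty_rightDerived_iso B ω 1
  obtain ⟨hD', -, ⟨bidB⟩⟩ := c.dual_spec hB e'
  obtain ⟨e''⟩ := nonempty_rightDerived_iso (((DCoh.sheafHom B).rightDerived 1).obj ω) ω 1
  obtain ⟨-, hD'0, -⟩ := c.dual_spec hD' (CategoryTheory.Iso.refl (Groth.L22.ExtSh.E (((DCoh.sheafHom B).rightDerived 1).obj ω) ω 1))
  refine ⟨?_, Groth.L18.Ample.isGloballyGenerated_of_iso (e'' ≪≫ bidB).symm hBg⟩
  let ψ : A' ⟶ ((DCoh.sheafHom B).rightDerived 1).obj ω := bidA.inv ≫ φ ≫ e'.inv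
  haveI : Mono φ := hφm
  refine gg_of_suppClosed k hA'c hD'.coh ψ (fun x hx => ?_) hA'g ?_
  · exact stalk_subsingleton_of_iso
      ((cokernelEpiComp bidA.inv (φ ≫ e'.inv)) ≪≫ cokernelCompIsIso φ e'.inv).symm x (hφs x hx)
  · rw [← hD0, ← hBD, ← hD'0, Groth.L03.Euler.finrank_HH_of_iso bidB]

end Groth.Agent.S15855
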