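import Groth.Statements.S15856
import Groth.Agent.L03.SurfExt.K3Line
import Groth.Agent.L03.SurfExt.NotFree
import Groth.Agent.L03.SurfAdj.Embed
-- import your own Groth.Agent.* helpers here

set_option autoImplicit false
universe u
open CategoryTheory CategoryTheory.Limits AlgebraicGeometry
open ShStab

namespace Groth.Agent.S15856

open Groth.L03.SurfExt

/-- Let k be an algebraically closed field of characteristic zero and S a K3 surface over k — a smooth
projective surface (integral, smooth over k, of dimension two, with a closed immersion over k into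
some projective space) whose structure sheaf is a second exterior power of its sheaf of
differentials and with H^1(S, O_S) = 0 — whose Picard group is infinite cyclic, generated by the
class of an ample invertible sheaf G. Let L and L' be invertible O_S-modules and N ⊆ L' a coherent
subsheaf whose quotient L'/N is supported in dimension at most zero (N is L' twisted by the ideal
sheaf of a finite subscheme Z). If the group Ext^1_{O_S}(N, L), computed in the category of all
O_S-modules with its k-linear structure (the Ext instance is the stated hypothesis; it holds), has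
k-dimension at least 2, then there is a short exact sequence 0 → L → V → N → 0 which does not split
and whose middle term V is not a finite locally free O_S-module. -/
theorem result
    (k : Type u) [Field k] [IsAlgClosed k] [CharZero k]
    (S : Scheme.{u}) [S.Over (Spec (CommRingCat.of k))] [IsIntegral S]
    [Smooth (S ↘ Spec (CommRingCat.of k))] (hdim : topologicalKrullDim S = 2)
    [IsProper (S ↘ Spec (CommRingCat.of k))]
    (hproj : ∃ (n : ℕ) (ι : S ⟶ CohB1.ProjSpace n k), IsClosedImmersion ι ∧
      ι ≫ CohB1.ProjSpace.toSpec n k = S ↘ Spec (CommRingCat.of k))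
    (hK : Canon.IsTopDiff (S ↘ Spec (CommRingCat.of k)) 2 (Coh.structureModule S))
    (hq : Module.finrank k (Coh.HH S (Coh.structureModule S) 1) = 0)
    (G : S.Modules) (hGi : PicF.IsInvertible G) (hGa : CohB1.IsAmple G)
    [PicGrp.Law S] (hgen : ∀ c : PicLoc.PicSet S, ∃ n : ℤ, c = PicGrp.cls G hGi ^ n)
    (hfree : ∀ n : ℤ, PicGrp.cls G hGi ^ n = 1 → n = 0)
    [HasExt.{u} S.Modules]
    (L L' : S.Modules) (hL : PicF.IsInvertible L) (hL' : PicF.IsInvertible L')
    (N : S.Modules) (ι : N ⟶ L') [Mono ι] (hN : Coh.IsCoh N)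
    (hZ : topologicalKrullDim (CohB1.support (cokernel ι)) ≤ 0)
    (h2 : 2 ≤ Module.finrank k (Abelian.Ext N L 1)) :
    ∃ (V : S.Modules) (a : L ⟶ V) (b : V ⟶ N) (w : a ≫ b = 0),
      (ShortComplex.mk a b w).ShortExact ∧ (∀ r : V ⟶ L, a ≫ r ≠ 𝟙 L) ∧
        ¬ FlatMod.IsFinLocFree V := by
  haveI := Groth.L21.RR.isNoetherian_of_proper (X := S) k
  have hK' := hK
  have hreg := fun x => Groth.L03.SurfAdj.reg_of_smooth k (X := S) x
  obtain ⟨n, emb, hemb, hembk⟩ := hproj
  haveI := hemb
  have hLc := Groth.L18.Ample.isCoh_of_isInvertible hL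
  obtain ⟨d, hd⟩ := Groth.L22.ExtSh.exists_ext_twist_vanish_all emb hLc
  obtain ⟨q, r, p, hqd, hp⟩ := Groth.L22.DualCM.exists_epi_sum emb hN d.toNat
  haveI := hp
  have hPf : FlatMod.IsFinLocFree (∐ fun _ : Fin r => (Scheme.Modules.pullback emb).obj
      (Groth.L22.Reg.O' n k (-(q : ℤ)))) :=
    Groth.L29.DC.isFinLocFree_coprod_fin r _ fun _ => Groth.L29.LocFree.pullback emb
      (Groth.L20.ResDescent.isFinLocFree_of_isInvertible (Groth.L16.ProjTwist.isInvertible_twistProjSpace n k _))
  have hseq : (ShortComplex.mk (kernel.ι p) p (kernel.condition p)).ShortExact := { exact := ShortComplex.exact_kernel p }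
  have hη : ∀ x : S, x = genericPoint ↥S → Subsingleton ((cokernel ι).presheaf.stalk x) := fun x hx => by
    by_contra h
    have hcl := Groth.L16.CohSupport.isClosed_support (cokernel ι)
      (Groth.L16.CohKernel.isCoh_kernel_cokernel hN (Groth.L18.Ample.isCoh_of_isInvertible hL') ι).2.2
    have huniv : CohB1.support (cokernel ι) = Set.univ := Set.eq_univ_of_forall fun y =>
      ((genericPoint_spec ↥S).specializes (Set.mem_univ y)).mem_closed hcl (by rw [← hx]; exact h)
    rw [huniv, IsHomeomorph.topologicalKrullDim_eq _ (Homeomorph.Set.univ S).isHomeomorph, hdim] at hZ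
    exact absurd hZ (by norm_num)
  have hK : FlatMod.IsFinLocFree (kernel p) := isFinLocFree_kernel hreg hdim.le hPf hN (fun x hx _ => by
    obtain ⟨o⟩ := stalk_equiv_of_invertible hL' x
    let ψ := o.symm.toLinearMap.comp (RefHull.stalkMapₗ ι x)
    have hψ : Function.Injective ψ :=
      o.symm.injective.comp ((Groth.L21.Mod.mono_iff_stalk_injective ι).1 inferInstance x)
    refine one_le_depth_of_torsionFree (hψ.moduleIsTorsionFree ψ (fun a m => map_smul ψ a m)) fun hxη => ?_
    have huniv : ({x} : Set ↥S) = Set.univ := Set.eq_univ_of_forall fun y =>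
      ((genericPoint_spec ↥S).specializes (Set.mem_univ y)).mem_closed hx (hxη.symm ▸ rfl)
    haveI : Subsingleton ↥S := ⟨fun a b => ((huniv ▸ Set.mem_univ a : a ∈ ({x} : Set ↥S))).trans
      ((huniv ▸ Set.mem_univ b : b ∈ ({x} : Set ↥S))).symm⟩
    haveI : DiscreteTopology ↥S := Subsingleton.discreteTopology
    exact absurd (hdim ▸ topologicalKrullDim_zero_of_discreteTopology S : (2 : WithBot ℕ∞) ≤ 0) (by norm_num)) p
  exact exists_nonsplit_not_free k
    (fun M hM => subsingleton_h1_invertible k hdim hreg hK' hq hGi hGa hgen M hM) hseq hK hPf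
    (Groth.L10.AcycObj.subsingleton_ext_coprod _ L (fun _ i => hd q (by omega) (i + 1) (Nat.succ_pos i)) 0)
    hN hL hL' ι (hη _ rfl) h2

end Groth.Agent.S15856
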