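import Groth.Statements.S15857
import Groth.Agent.L24.Degen.Main

set_option autoImplicit false
set_option backward.isDefEq.respectTransparency.types false
universe u
open CategoryTheory CategoryTheory.Limits AlgebraicGeometry
open Coherent

namespace Groth.Agent.S15857

/-- Let k be a field that is algebraically closed with char k = 0 and X a smooth proper variety over k
(an integral k-scheme, smooth and proper over k) of dimension n; let E and F be locally free
O_X-modules of ranks e and f such that the sheaf Hom(E, F) = E^∨ ⊗ F (the right adjoint of E ⊗ - at
F) is globally generated, and let r be a natural number with r < e and r < f. For a morphism φ : E →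
F let D_r(φ) ⊆ X be the closed subscheme where φ has rank at most r, with its determinantal
structure (the subscheme of the (f - r - 1)-st Fitting ideal sheaf of the cokernel of φ, generated
locally by the (r+1)-minors of φ), and let D_r(φ) ∖ D_{r-1}(φ) be its open subscheme where the rank
is exactly r (the complement of the zero set of the (f - r)-th Fitting ideal). Then for φ general —
for all φ in a non-empty Zariski-open subset of the finite-dimensional k-vector space Hom(E, F),
namely all φ at which some fixed nonzero polynomial in linear coordinates on Hom(E, F) does not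
vanish — the scheme D_r(φ) ∖ D_{r-1}(φ) is smooth over k and is either empty or has all its
irreducible components of dimension n - (e - r)(f - r); in particular it is empty when (e - r)(f -
r) > n. (The published statement allows every r and does not ask X to be proper; this row takes r <
e, r < f and X proper, so that Hom(E, F) is a finite-dimensional k-vector space.) -/
theorem result
    (k : Type u) [Field k] [IsAlgClosed k] [CharZero k]
    (X : Scheme.{u}) [X.Over (Spec (CommRingCat.of k))] [IsIntegral X]
    [Smooth (X ↘ Spec (CommRingCat.of k))] [IsProper (X ↘ Spec (CommRingCat.of k))]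
    (n : ℕ) (hdim : topologicalKrullDim X = n)
    (E F : X.Modules) (e f : ℕ) (hE : FlatMod.IsFinLocFreeOfRank e E) (hF : FlatMod.IsFinLocFreeOfRank f F)
    [DCoh.HasSheafHom E] (hgg : Curv2.IsGloballyGenerated ((DCoh.sheafHom E).obj F))
    (r : ℕ) (hre : r < e) (hrf : r < f) :
    ∃ (m : ℕ) (c : (E ⟶ F) ≃ₗ[k] (Fin m → k)) (p : MvPolynomial (Fin m) k), p ≠ 0 ∧
      ∀ φ : E ⟶ F, MvPolynomial.eval (c φ) p ≠ 0 →
        letI D := Fitt.sheafIdeal (cokernel φ) (f - r - 1)
        letI W : D.subscheme.Opens :=
          D.subschemeι ⁻¹ᵁ ((Fitt.sheafIdeal (cokernel φ) (f - r)).support : TopologicalSpace.Closeds X).compl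
        Smooth (W.ι ≫ D.subschemeι ≫ (X ↘ Spec (CommRingCat.of k))) ∧
          (IsEmpty W ∨ ((e - r) * (f - r) ≤ n ∧
            ∀ Z ∈ irreducibleComponents (W : Type u),
              topologicalKrullDim Z = ((n - (e - r) * (f - r) : ℕ) : WithBot ℕ∞))) := by
  exact Groth.L24.Degen.smooth_rankLocus k X n hdim E F e f hE hF hgg r hre hrf

end Groth.Agent.S15857
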