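import Groth.Statements.S15860
import Groth.Agent.L13.PointBlow.Table
import Mathlib.Analysis.Complex.Polynomial.Basic

set_option autoImplicit false
open CategoryTheory CategoryTheory.Limits AlgebraicGeometry
open BlowUp

namespace Groth.Agent.S15860

/-- Case of a non-positive coefficient of the exceptional divisor. Let σ : X ⟶ P² be the blow-up of the
complex projective plane at a closed point (universal property), I_E the ideal of the exceptional
curve and H = σ^*O(1). For an integer p and a natural number b write M = σ^*O(p) ⊗ I_E ^ b (the line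
bundle pH − bE) and C(n,2) for the binomial coefficient, taken to be 0 when n < 2. Then the
dimensions h^i = dim H^i(X, M) are: if b ≤ p, h^0 = C(p+2,2) − C(b+1,2) and h^1 = h^2 = 0; if p = b
− 1, h^0 = h^1 = h^2 = 0; if p ≤ b − 2, h^0 = 0, h^1 = C(b+1,2) − C(p+2,2) and h^2 = C(−p−1,2). (The
structure of scheme over C on X is the composite through σ.) -/
theorem result
    (x : ↥(CohB1.ProjSpace 2 ℂ)) (hx : IsClosed ({x} : Set ↥(CohB1.ProjSpace 2 ℂ)))
    {X : Scheme.{0}} [X.Over (Spec (CommRingCat.of ℂ))] (σ : X ⟶ CohB1.ProjSpace 2 ℂ)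
    (hσk : σ ≫ CohB1.ProjSpace.toSpec 2 ℂ = X ↘ Spec (CommRingCat.of ℂ))
    (hσ : BlowUp.IsBlowUp σ (Scheme.IdealSheafData.vanishingIdeal ⟨{x}, hx⟩)) (p : ℤ) (b : ℕ) :
    ((b : ℤ) ≤ p →
      (Module.finrank ℂ (Coh.HH X (CohB1.tensorMod ((Scheme.Modules.pullback σ).obj (Twist.twistProjSpace 2 ℂ p))
        (ClSub.idealMod ((BlowUp.exceptional σ (Scheme.IdealSheafData.vanishingIdeal ⟨{x}, hx⟩)) ^ b))) 0) : ℤ) = ((p + 2).toNat.choose 2 : ℤ) - ((b + 1).choose 2 : ℤ) ∧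
      Module.finrank ℂ (Coh.HH X (CohB1.tensorMod ((Scheme.Modules.pullback σ).obj (Twist.twistProjSpace 2 ℂ p))
        (ClSub.idealMod ((BlowUp.exceptional σ (Scheme.IdealSheafData.vanishingIdeal ⟨{x}, hx⟩)) ^ b))) 1) = 0 ∧
      Module.finrank ℂ (Coh.HH X (CohB1.tensorMod ((Scheme.Modules.pullback σ).obj (Twist.twistProjSpace 2 ℂ p))
        (ClSub.idealMod ((BlowUp.exceptional σ (Scheme.IdealSheafData.vanishingIdeal ⟨{x}, hx⟩)) ^ b))) 2) = 0) ∧
    (p = (b : ℤ) - 1 →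
      Module.finrank ℂ (Coh.HH X (CohB1.tensorMod ((Scheme.Modules.pullback σ).obj (Twist.twistProjSpace 2 ℂ p))
        (ClSub.idealMod ((BlowUp.exceptional σ (Scheme.IdealSheafData.vanishingIdeal ⟨{x}, hx⟩)) ^ b))) 0) = 0 ∧
      Module.finrank ℂ (Coh.HH X (CohB1.tensorMod ((Scheme.Modules.pullback σ).obj (Twist.twistProjSpace 2 ℂ p))
        (ClSub.idealMod ((BlowUp.exceptional σ (Scheme.IdealSheafData.vanishingIdeal ⟨{x}, hx⟩)) ^ b))) 1) = 0 ∧
      Module.finrank ℂ (Coh.HH X (CohB1.tensorMod ((Scheme.Modules.pullback σ).obj (Twist.twistProjSpace 2 ℂ p))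
        (ClSub.idealMod ((BlowUp.exceptional σ (Scheme.IdealSheafData.vanishingIdeal ⟨{x}, hx⟩)) ^ b))) 2) = 0) ∧
    (p ≤ (b : ℤ) - 2 →
      Module.finrank ℂ (Coh.HH X (CohB1.tensorMod ((Scheme.Modules.pullback σ).obj (Twist.twistProjSpace 2 ℂ p))
        (ClSub.idealMod ((BlowUp.exceptional σ (Scheme.IdealSheafData.vanishingIdeal ⟨{x}, hx⟩)) ^ b))) 0) = 0 ∧
      (Module.finrank ℂ (Coh.HH X (CohB1.tensorMod ((Scheme.Modules.pullback σ).obj (Twist.twistProjSpace 2 ℂ p))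
        (ClSub.idealMod ((BlowUp.exceptional σ (Scheme.IdealSheafData.vanishingIdeal ⟨{x}, hx⟩)) ^ b))) 1) : ℤ) = ((b + 1).choose 2 : ℤ) - ((p + 2).toNat.choose 2 : ℤ) ∧
      Module.finrank ℂ (Coh.HH X (CohB1.tensorMod ((Scheme.Modules.pullback σ).obj (Twist.twistProjSpace 2 ℂ p))
        (ClSub.idealMod ((BlowUp.exceptional σ (Scheme.IdealSheafData.vanishingIdeal ⟨{x}, hx⟩)) ^ b))) 2) = (-p - 1).toNat.choose 2) := by
  have B : Groth.L13.PointBlow.Blown hx σ := ⟨hσk, hσ⟩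
  have hE := Groth.L13.PointBlow.isInvertible_E B
  obtain ⟨-, ⟨e⟩⟩ := Groth.L13.PointBlow.nonempty_idealMod_pow hE b
  have hh : ∀ n, Module.finrank ℂ (Coh.HH X (CohB1.tensorMod ((Scheme.Modules.pullback σ).obj (Twist.twistProjSpace 2 ℂ p))
      (ClSub.idealMod ((BlowUp.exceptional σ (Scheme.IdealSheafData.vanishingIdeal ⟨{x}, hx⟩)) ^ b))) n) =
      Groth.L21.RR.h ℂ n (Groth.L13.PointBlow.Mneg hx σ p b) := fun n =>
    Groth.L21.RR.h_congr ℂ (Groth.L00.Tensor.tensorIso (Iso.refl _) e) n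
  simp only [hh]
  obtain ⟨h2, h3, hχ⟩ := Groth.L13.PointBlow.top_neg B p b
  rw [Groth.L13.PointBlow.euler_eq B (Groth.L13.PointBlow.isCoh_of_invertible B
    (Groth.L13.PointBlow.isInvertible_Mneg B p b)) h3, h2] at hχ
  obtain ⟨t1, t0⟩ := Groth.L13.PointBlow.table_neg B p b
  refine ⟨fun hb => ?_, fun hb => ?_, fun hb => ?_⟩
  · have a1 := t1 (by omega)
    have a2 : (-p - 1).toNat.choose 2 = 0 := Nat.choose_eq_zero_of_lt (by omega)
    rw [a1, a2] at hχ
    exact ⟨by omega, a1, by rw [h2, a2]⟩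
  · have a1 := t1 (by omega)
    have a0 := t0 (by omega)
    have a2 : (-p - 1).toNat.choose 2 = 0 := Nat.choose_eq_zero_of_lt (by omega)
    exact ⟨a0, a1, by rw [h2, a2]⟩
  · have a0 := t0 (by omega)
    rw [a0] at hχ
    exact ⟨a0, by omega, h2⟩

end Groth.Agent.S15860
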