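import Groth.Statements.S15861
import Groth.Agent.L13.PointBlow.Table
import Mathlib.Analysis.Complex.Polynomial.Basic

set_option autoImplicit false
open CategoryTheory CategoryTheory.Limits AlgebraicGeometry
open BlowUp

namespace Groth.Agent.S15861

/-- Case of a non-negative coefficient of the exceptional divisor. Let σ : X ⟶ P² be the blow-up of the
complex projective plane at a closed point (universal property), I_E the ideal of the exceptional
curve, H = σ^*O(1), and L an O_X-module with L ⊗ I_E ≅ O_X (L is O_X(E)). For an integer p and a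
natural number b write M = σ^*O(p) ⊗ L^{⊗b} (the line bundle pH + bE) and C(n,2) for the binomial
coefficient, taken to be 0 when n < 2. Then the dimensions h^i = dim H^i(X, M) are: if p + b ≥ 0,
h^0 = C(p+2,2), h^1 = C(b,2) − C(−p−1,2) and h^2 = 0; if p + b = −1, h^0 = h^1 = h^2 = 0; if p + b ≤
−2, h^0 = h^1 = 0 and h^2 = C(−p−1,2) − C(b,2). (The structure of scheme over C on X is the
composite through σ.) -/
theorem result
    (x : ↥(CohB1.ProjSpace 2 ℂ)) (hx : IsClosed ({x} : Set ↥(CohB1.ProjSpace 2 ℂ)))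
    {X : Scheme.{0}} [X.Over (Spec (CommRingCat.of ℂ))] (σ : X ⟶ CohB1.ProjSpace 2 ℂ)
    (hσk : σ ≫ CohB1.ProjSpace.toSpec 2 ℂ = X ↘ Spec (CommRingCat.of ℂ))
    (hσ : BlowUp.IsBlowUp σ (Scheme.IdealSheafData.vanishingIdeal ⟨{x}, hx⟩))
    (L : X.Modules) (hL : ClSub.IsInverseOf L (ClSub.idealMod (BlowUp.exceptional σ (Scheme.IdealSheafData.vanishingIdeal ⟨{x}, hx⟩))))
    (p : ℤ) (b : ℕ) :
    (0 ≤ p + b →
      Module.finrank ℂ (Coh.HH X (CohB1.tensorMod ((Scheme.Modules.pullback σ).obj (Twist.twistProjSpace 2 ℂ p)) (CohB1.tensorPow L b)) 0) = (p + 2).toNat.choose 2 ∧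
      (Module.finrank ℂ (Coh.HH X (CohB1.tensorMod ((Scheme.Modules.pullback σ).obj (Twist.twistProjSpace 2 ℂ p)) (CohB1.tensorPow L b)) 1) : ℤ) = (b.choose 2 : ℤ) - ((-p - 1).toNat.choose 2 : ℤ) ∧
      Module.finrank ℂ (Coh.HH X (CohB1.tensorMod ((Scheme.Modules.pullback σ).obj (Twist.twistProjSpace 2 ℂ p)) (CohB1.tensorPow L b)) 2) = 0) ∧
    (p + b = -1 →
      Module.finrank ℂ (Coh.HH X (CohB1.tensorMod ((Scheme.Modules.pullback σ).obj (Twist.twistProjSpace 2 ℂ p)) (CohB1.tensorPow L b)) 0) = 0 ∧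
      Module.finrank ℂ (Coh.HH X (CohB1.tensorMod ((Scheme.Modules.pullback σ).obj (Twist.twistProjSpace 2 ℂ p)) (CohB1.tensorPow L b)) 1) = 0 ∧
      Module.finrank ℂ (Coh.HH X (CohB1.tensorMod ((Scheme.Modules.pullback σ).obj (Twist.twistProjSpace 2 ℂ p)) (CohB1.tensorPow L b)) 2) = 0) ∧
    (p + b ≤ -2 →
      Module.finrank ℂ (Coh.HH X (CohB1.tensorMod ((Scheme.Modules.pullback σ).obj (Twist.twistProjSpace 2 ℂ p)) (CohB1.tensorPow L b)) 0) = 0 ∧
      Module.finrank ℂ (Coh.HH X (CohB1.tensorMod ((Scheme.Modules.pullback σ).obj (Twist.twistProjSpace 2 ℂ p)) (CohB1.tensorPow L b)) 1) = 0 ∧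
      (Module.finrank ℂ (Coh.HH X (CohB1.tensorMod ((Scheme.Modules.pullback σ).obj (Twist.twistProjSpace 2 ℂ p)) (CohB1.tensorPow L b)) 2) : ℤ) = ((-p - 1).toNat.choose 2 : ℤ) - (b.choose 2 : ℤ)) := by
  have B : Groth.L13.PointBlow.Blown hx σ := ⟨hσk, hσ⟩
  have hh : ∀ n, Module.finrank ℂ (Coh.HH X (CohB1.tensorMod ((Scheme.Modules.pullback σ).obj (Twist.twistProjSpace 2 ℂ p))
      (CohB1.tensorPow L b)) n) = Groth.L21.RR.h ℂ n (Groth.L13.PointBlow.Mpos σ L p b) := fun n => rfl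
  simp only [hh]
  obtain ⟨h0, h3, hχ⟩ := Groth.L13.PointBlow.top_pos B hL p b
  rw [Groth.L13.PointBlow.euler_eq B (Groth.L13.PointBlow.isCoh_of_invertible B
    (Groth.L13.PointBlow.isInvertible_Mpos B hL p b)) h3, h0] at hχ
  obtain ⟨t2, t1⟩ := Groth.L13.PointBlow.table_pos B hL p b
  refine ⟨fun hb => ?_, fun hb => ?_, fun hb => ?_⟩
  · have a2 := t2 (by omega)
    rw [a2] at hχ
    exact ⟨h0, by omega, a2⟩
  · have a1 := t1 (by omega)
    have a2 := t2 (by omega)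
    have a0 : (p + 2).toNat.choose 2 = 0 := Nat.choose_eq_zero_of_lt (by omega)
    exact ⟨by rw [h0, a0], a1, a2⟩
  · have a1 := t1 (by omega)
    have a0 : (p + 2).toNat.choose 2 = 0 := Nat.choose_eq_zero_of_lt (by omega)
    rw [a1] at hχ
    exact ⟨by rw [h0, a0], a1, by omega⟩

end Groth.Agent.S15861
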