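import Groth.Statements.S15866
import Groth.Agent.L03.LinForm
import Groth.Agent.L03.MultDeg
import Groth.Agent.L03.BlowPt.Pair
import Groth.Agent.L03.BlowPt.Rules
import Groth.Agent.L03.SurfAdj.Tools
import Groth.Agent.L22.CurveDeg.NonSpecial
import Groth.Agent.L18.AmplePull
import Groth.Agent.L14.RegImmStalk.Stalk
import Groth.Agent.L29.LocFree
import Mathlib.Analysis.Complex.Polynomial.Basic
-- import your own Groth.Agent.* helpers here

set_option autoImplicit false
open CategoryTheory CategoryTheory.Limits AlgebraicGeometry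
open SurfBl

namespace Groth.Agent.S15866

/-- Let S be a smooth projective surface over the complex numbers (integral, smooth of relative
dimension 2 over C) with a closed immersion ι over C into some projective space P^n, H = ι^*O(1) the
very ample invertible module, C ⊆ S an integral curve (an integral closed subscheme of dimension
one, closed immersion j over C), P a closed point of S with ideal m_P, and m a natural number such
that the ideal of C is contained in m_P^m, i.e. C has multiplicity at least m at P. Then H·C ≥ m,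
where H·C is the degree of H|_C on C, written χ(C, j^*H) − χ(C, O_C). (The published statement is
for a curve C ⊆ S; this row takes C integral.) -/
theorem result
    (S : Scheme.{0}) [S.Over (Spec (CommRingCat.of ℂ))] [IsIntegral S]
    [SmoothOfRelativeDimension 2 (S ↘ Spec (CommRingCat.of ℂ))]
    (n : ℕ) (ι : S ⟶ CohB1.ProjSpace n ℂ) [IsClosedImmersion ι]
    (hι : ι ≫ CohB1.ProjSpace.toSpec n ℂ = S ↘ Spec (CommRingCat.of ℂ))
    (C : Scheme.{0}) [C.Over (Spec (CommRingCat.of ℂ))] [IsIntegral C] (hdimC : topologicalKrullDim ↥C = 1)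
    (j : C ⟶ S) [IsClosedImmersion j] (hj : j ≫ (S ↘ Spec (CommRingCat.of ℂ)) = C ↘ Spec (CommRingCat.of ℂ))
    (P : ↥S) (hP : IsClosed ({P} : Set ↥S)) (m : ℕ)
    (hm : j.ker ≤ Scheme.IdealSheafData.vanishingIdeal ⟨{P}, hP⟩ ^ m) :
    (m : ℤ) ≤ Curv2.deg ℂ C ((Scheme.Modules.pullback j).obj
      ((Scheme.Modules.pullback ι).obj (Twist.twistProjSpace n ℂ 1))) 1 := by
  let g : C ⟶ Groth.L18.PUP.P n ℂ := j ≫ ι
  haveI : IsClosedImmersion g := inferInstanceAs (IsClosedImmersion (j ≫ ι))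
  letI : (CohB1.ProjSpace n ℂ).Over (Spec (CommRingCat.of ℂ)) := ⟨CohB1.ProjSpace.toSpec n ℂ⟩
  haveI : IsProper (CohB1.ProjSpace.toSpec n ℂ) := Groth.L16.ProjSpace.isProper_toSpec n ℂ
  haveI : IsProper (S ↘ Spec (CommRingCat.of ℂ)) := by rw [← hι]; infer_instance
  haveI : IsProper (C ↘ Spec (CommRingCat.of ℂ)) := by rw [← hj]; infer_instance
  haveI : JacobsonSpace C := LocallyOfFiniteType.jacobsonSpace (C ↘ Spec (CommRingCat.of ℂ))
  haveI := Groth.L21.RR.isNoetherian_of_proper (X := S) ℂ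
  have hd : topologicalKrullDim S = (2 : ℕ) := Groth.L03.SurfAdj.dim_of_relDim (S ↘ Spec (CommRingCat.of ℂ)) 2
  have hcl : ∀ (U : Set C), IsOpen U → U.Nonempty → ∃ z ∈ U, IsClosed ({z} : Set C) := fun U hU hne => by
    obtain ⟨z, hz, hz'⟩ := nonempty_inter_closedPoints hne hU.isLocallyClosed
    exact ⟨z, hz, mem_closedPoints_iff.1 hz'⟩
  -- a closed point over `P`
  obtain ⟨Q, hQc, hQ⟩ : ∃ Q : C, IsClosed ({Q} : Set C) ∧ (m = 0 ∨ j Q = P) := by
    by_cases hPr : P ∈ Set.range j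
    · obtain ⟨Q, rfl⟩ := hPr
      refine ⟨Q, ?_, Or.inr rfl⟩
      have h := hP.preimage j.continuous
      rwa [← Set.image_singleton, j.isClosedEmbedding.injective.preimage_image] at h
    · obtain ⟨Q, -, hQ⟩ := hcl Set.univ isOpen_univ ⟨genericPoint C, trivial⟩
      refine ⟨Q, hQ, Or.inl ?_⟩
      by_contra hm0
      have h1 := Scheme.IdealSheafData.support_antitone hm
      have h2 : P ∈ ((Scheme.IdealSheafData.vanishingIdeal ⟨{P}, hP⟩ ^ m).support : Set S) := by
        rw [Scheme.IdealSheafData.support_pow _ _ hm0]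
        simp
      have h3 : P ∈ (j.ker.support : Set S) := h1 h2
      rw [(Scheme.Hom.support_ker j).trans j.isClosedEmbedding.isClosed_range.closure_eq] at h3
      exact hPr h3
  obtain ⟨Q', hQ'ne, hQ'c⟩ : ∃ Q' : C, Q' ∈ ({Q} : Set C)ᶜ ∧ IsClosed ({Q'} : Set C) := by
    refine hcl _ hQc.isOpen_compl ⟨genericPoint C, fun h => ?_⟩
    exact Groth.L22.CurveDeg.generic_not_isClosed hdimC (by rw [Set.mem_singleton_iff.1 h]; exact hQc)
  have hover : g ≫ Groth.L18.PUP.pr n ℂ = C ↘ Spec (CommRingCat.of ℂ) := by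
    show (j ≫ ι) ≫ CohB1.ProjSpace.toSpec n ℂ = _
    rw [Category.assoc, hι, hj]
  let a : Spec (CommRingCat.of ℂ) ⟶ Groth.L18.PUP.P n ℂ := pointOfClosedPoint (C ↘ Spec (CommRingCat.of ℂ)) Q hQc ≫ g
  let b : Spec (CommRingCat.of ℂ) ⟶ Groth.L18.PUP.P n ℂ := pointOfClosedPoint (C ↘ Spec (CommRingCat.of ℂ)) Q' hQ'c ≫ g
  have hapt : a (IsLocalRing.closedPoint ℂ) = g Q := by
    rw [Scheme.Hom.comp_apply, pointOfClosedPoint_apply]
  have hbpt : b (IsLocalRing.closedPoint ℂ) = g Q' := by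
    rw [Scheme.Hom.comp_apply, pointOfClosedPoint_apply]
  obtain ⟨s, hs0, hs1⟩ := Groth.L03.LinForm.exists_section_sep a b
    (by rw [Category.assoc, hover, pointOfClosedPoint_comp]) (by rw [Category.assoc, hover, pointOfClosedPoint_comp])
    (fun hab => hQ'ne (g.isClosedEmbedding.injective
      (by rw [← hapt, ← hbpt, hab])))
  rw [hapt] at hs0
  rw [hbpt] at hs1
  have hO1 : PicF.IsInvertible (Twist.twistProjSpace n ℂ 1) := Groth.L16.ProjTwist.isInvertible_twistProjSpace n ℂ 1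
  have hL := Groth.L18.Ample.isInvertible_pullback g hO1
  let φ : Coh.structureModule C ⟶ (Scheme.Modules.pullback g).obj (Twist.twistProjSpace n ℂ 1) :=
    (Groth.L29.LocFree.pullbackUnitIso g).symm.hom ≫ (Scheme.Modules.pullback g).map s
  have hgen : ∀ z : C, z ∈ CohB1.genLocus _ φ ↔ g z ∈ CohB1.genLocus (Twist.twistProjSpace n ℂ 1) s := fun z => by
    rw [Groth.L18.Ample.genLocus_iso_pullback (u := g) hO1 s (Groth.L29.LocFree.pullbackUnitIso g).symm]
    rfl
  have hφ : φ ≠ 0 := fun h => by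
    have h1 := (Groth.L21.RR.mem_genLocus_iff hL φ Q').1 ((hgen Q').2 hs1)
    rw [h] at h1
    obtain ⟨e, he⟩ := Groth.L21.RR.exists_frame_stalk hL Q'
    obtain ⟨u, hu⟩ := h1 e
    have h2 : (1 : C.presheaf.stalk Q') • e = (0 : C.presheaf.stalk Q') • e := by
      rw [one_smul, zero_smul, ← hu]
      simp [Groth.L21.RR.st]
      rfl
    exact one_ne_zero (he.1 h2)
  have hφQ : ¬ Function.Surjective (Groth.L21.RR.st φ Q) := fun h =>
    hs0 ((hgen Q).1 ((Groth.L21.RR.mem_genLocus_iff hL φ Q).2 h))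
  have hjQ : IsClosed ({j Q} : Set S) := by
    rw [← Set.image_singleton]
    exact j.isClosedEmbedding.isClosedMap _ hQc
  haveI : IsNoetherianRing (S.presheaf.stalk (j Q)) := Groth.L14.RegImmStalk.isNoetherianRing_stalk' (X := S) (j Q)
  have hker : RingHom.ker (j.stalkMap Q).hom ≤ IsLocalRing.maximalIdeal (S.presheaf.stalk (j Q)) ^ m := by
    rcases hQ with rfl | rfl
    · rw [pow_zero, Ideal.one_eq_top]; exact le_top
    obtain ⟨U, hU, hQU, -⟩ := exists_isAffineOpen_mem_and_subset (x := j Q) (U := (⊤ : S.Opens)) trivial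
    rw [Groth.L14.RegImmStalk.ker_stalkMap j hU inferInstance Q hQU]
    have h1 : RingHom.ker (j.app U).hom = j.ker.ideal ⟨U, hU⟩ := (j.ker_apply ⟨U, hU⟩).symm
    rw [h1]
    refine (Ideal.map_mono (hm ⟨U, hU⟩)).trans (le_of_eq ?_)
    rw [Scheme.IdealSheafData.ideal_pow, Pi.pow_apply, Ideal.map_pow,
      Groth.L03.BlowPt.ideal_ptI hP ⟨U, hU⟩ hQU]
    congr 1
    letI : Algebra Γ(S, U) (S.presheaf.stalk (j Q)) := (S.presheaf.germ U (j Q) hQU).hom.toAlgebra
    haveI := hU.isLocalization_stalk ⟨j Q, hQU⟩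
    exact IsLocalization.AtPrime.map_eq_maximalIdeal (hU.primeIdealOf ⟨j Q, hQU⟩).asIdeal _
  have key := Groth.L03.MultDeg.le_h0_cokernel ℂ hdimC.le hL hφ Q hφQ
    (R := S.presheaf.stalk (j Q)) (by rw [Groth.L03.BlowPt.ringKrullDim_stalk_closed ℂ hd hjQ]; norm_num)
    (j.stalkMap Q).hom (j.stalkMap_surjective Q) m hker
  refine le_of_le_of_eq ?_ (Groth.L21.RR.deg_congr ℂ ((Scheme.Modules.pullbackComp j ι).app (Twist.twistProjSpace n ℂ 1)) 1).symm
  refine le_of_le_of_eq ?_ (Groth.L21.RR.deg_eq_h0_cokernel ℂ hdimC.le hL hφ).symm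
  exact_mod_cast key

end Groth.Agent.S15866
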