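import Groth.Statements.S15867
import Groth.Agent.L13.PairBlow.EndSheaf
import Groth.Agent.L05.InterPair.Length
import Groth.Agent.L16.ProjSpace.Basic

set_option autoImplicit false
open CategoryTheory CategoryTheory.Limits AlgebraicGeometry
open SurfBl

namespace Groth.Agent.S15867

/-- Let S be a smooth projective surface over the complex numbers (integral, smooth of relative
dimension 2 over C, admitting a closed immersion over C into some P^n), P_1, …, P_s distinct closed
points, σ : S' ⟶ S the blow-up of S at the reduced finite set {P_1, …, P_s} (universal property) and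
E ⊆ S' the exceptional divisor, the closed subscheme of the inverse image ideal of the ideal of
{P_1, …, P_s}. Let F be a finite locally free O_{S'}-module with F|_E ≅ O_E^r. Then H^i(S', End(F))
≅ H^i(S, End(σ_*F)) for every i, where End denotes the sheaf of endomorphisms (the internal Hom of
O-modules applied to the module itself; the instance hypotheses say that these internal Hom functors
exist, which is always the case). The isomorphism is one of vector spaces over C, the structure of
scheme over C on S' being the composite through σ; existence of C-linear isomorphisms only (i.e.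
equality of dimensions). -/
theorem result
    (S : Scheme.{0}) [S.Over (Spec (CommRingCat.of ℂ))] [IsIntegral S]
    [SmoothOfRelativeDimension 2 (S ↘ Spec (CommRingCat.of ℂ))]
    (hproj : ∃ (n : ℕ) (ι : S ⟶ CohB1.ProjSpace n ℂ), IsClosedImmersion ι ∧
      ι ≫ CohB1.ProjSpace.toSpec n ℂ = S ↘ Spec (CommRingCat.of ℂ))
    (s : ℕ) (P : Fin s → ↥S) (hP : Function.Injective P) (hPc : ∀ i, IsClosed ({P i} : Set ↥S))
    (hZ : IsClosed (Set.range P))
    {S' : Scheme.{0}} [S'.Over (Spec (CommRingCat.of ℂ))] (σ : S' ⟶ S)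
    (hσk : σ ≫ (S ↘ Spec (CommRingCat.of ℂ)) = S' ↘ Spec (CommRingCat.of ℂ))
    (hσ : BlowUp.IsBlowUp σ (Scheme.IdealSheafData.vanishingIdeal ⟨Set.range P, hZ⟩))
    (F : S'.Modules) (hF : FlatMod.IsFinLocFree F) (r : ℕ)
    (hE : Nonempty ((Scheme.Modules.pullback (BlowUp.exceptional σ (Scheme.IdealSheafData.vanishingIdeal ⟨Set.range P, hZ⟩)).subschemeι).obj F ≅
      FlatMod.freeMod (BlowUp.exceptional σ (Scheme.IdealSheafData.vanishingIdeal ⟨Set.range P, hZ⟩)).subscheme r))
    [ModSite.HasSheafHom (O := S'.sheaf) F]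
    [ModSite.HasSheafHom (O := S.sheaf) ((Scheme.Modules.pushforward σ).obj F)] (i : ℕ) :
    Nonempty (Coh.HH S' ((ModSite.sheafHom (O := S'.sheaf) F).obj F) i ≃ₗ[ℂ]
      Coh.HH S ((ModSite.sheafHom (O := S.sheaf) ((Scheme.Modules.pushforward σ).obj F)).obj
        ((Scheme.Modules.pushforward σ).obj F)) i) := by
  haveI : Smooth (S ↘ Spec (CommRingCat.of ℂ)) := SmoothOfRelativeDimension.smooth 2 _
  haveI : IsLocallyNoetherian S := Groth.L13.PairBlow.isLocallyNoetherian_over (k := ℂ) S
  have hfin : (Set.range P).Finite := Set.finite_range P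
  have hpt : ∀ x ∈ Set.range P, IsClosed ({x} : Set ↥S) := by rintro _ ⟨i, rfl⟩; exact hPc i
  have hreg : ∀ x ∈ Set.range P, IsRegularLocalRing (S.presheaf.stalk x) :=
    fun x _ => Groth.L21.Smooth.regular_stalk (S ↘ Spec (CommRingCat.of ℂ)) x
  have hdim : ∀ x ∈ Set.range P, ringKrullDim (S.presheaf.stalk x) = (2 : ℕ) :=
    fun x hx => Groth.L13.PairBlow.ringKrullDim_stalk_smooth (k := ℂ) S x (hpt x hx)
  have hc := Groth.L13.PairBlow.goodCentre_vanishingIdeal hZ hfin hpt hreg hdim
  haveI := Groth.L13.PairBlow.isProper_of_locallyPair hσ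
  haveI : IsProper (S ↘ Spec (CommRingCat.of ℂ)) := by
    obtain ⟨n, ι, hι, he⟩ := hproj
    haveI : IsProper (CohB1.ProjSpace.toSpec n ℂ) := Groth.L16.ProjSpace.isProper_toSpec n ℂ
    rw [← he]; infer_instance
  haveI : S.IsSeparated := ⟨by
    rw [← terminal.comp_from (S ↘ Spec (CommRingCat.of ℂ))]
    infer_instance⟩
  have hne : ∃ x : ↥S, x ∉ Set.range P := by
    refine ⟨genericPoint ↥S, fun h => ?_⟩
    have hd := hdim _ h
    have h0 : ringKrullDim S.functionField = 0 := ringKrullDim_eq_zero_of_field _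
    rw [show ringKrullDim (S.presheaf.stalk (genericPoint ↥S)) = 0 from h0] at hd
    exact absurd hd (by norm_num)
  obtain ⟨hP', hiso⟩ := Groth.L13.PairBlow.isIso_counit_of_free hZ hfin hpt hreg hdim hσ hF hE
  haveI := hiso
  have happ := Groth.L13.PairBlow.isIso_app_blowUp hZ hfin hpt hreg hdim hne hσ
  let P' := (Scheme.Modules.pushforward σ).obj F
  let E := (ModSite.sheafHom (O := S.sheaf) P').obj P'
  have hE' : FlatMod.IsFinLocFree E := Groth.L29.LocFree.of_iso (Groth.L13.PairBlow.endIso P').symm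
    (Groth.L16.HomSh.isFinLocFree_homMod hP' hP')
  haveI := Groth.L16.HomSh.isIso_pullHomMap σ hP' hP'
  let e : (ModSite.sheafHom (O := S'.sheaf) F).obj F ≅ (Scheme.Modules.pullback σ).obj E :=
    Groth.L13.PairBlow.endIso F ≪≫
      Groth.L13.PairBlow.homModIso (asIso ((Scheme.Modules.pullbackPushforwardAdjunction σ).counit.app F)).symm ≪≫
      (asIso (Groth.L16.HomSh.pullHomMap σ P' P')).symm ≪≫
      (Scheme.Modules.pullback σ).mapIso (Groth.L13.PairBlow.endIso P').symm
  haveI := Groth.L20.DescLocus.isIso_unit_of_isFinLocFree σ happ hE'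
  haveI := Groth.L17.PushQCoh.hasInjectiveResolutions S'
  haveI : Coh.IsQCoh E := Groth.L29.DC.PCQCoh.isQCoh_of_isFinLocFree hE'
  haveI := Groth.L16.AffineBC.isQCoh_pullback σ E
  obtain ⟨φ⟩ := Groth.L13.PairBlow.nonempty_HH_linearEquiv ℂ σ hσk ((Scheme.Modules.pullback σ).obj E)
    (fun q => Groth.L13.PairBlow.isZero_Rpush_pullback hσ hc.locallyPair hE' (q + 1) (Nat.succ_pos q)) i
  exact ⟨(Groth.L05.InterPair.hhIso e i).trans (φ.trans (Groth.L05.InterPair.hhIso
    (asIso ((Scheme.Modules.pullbackPushforwardAdjunction σ).unit.app E)).symm i))⟩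

end Groth.Agent.S15867
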