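import Groth.Statements.S15868
import Groth.Agent.L03.BlowPt.MultiThick
import Groth.Agent.L03.BlowPt.MultiAmple
import Mathlib.Analysis.Complex.Polynomial.Basic
-- import your own Groth.Agent.* helpers here

set_option autoImplicit false
open CategoryTheory CategoryTheory.Limits AlgebraicGeometry
open SurfBl

namespace Groth.Agent.S15868

open Groth.L22.Inter Groth.L22.Big Groth.L03.BlowPt

/-- Let S be a smooth projective surface over the complex numbers (integral, smooth of relative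
dimension 2 over C, admitting a closed immersion over C into some P^n), P_1, …, P_s distinct closed
points, σ : S' ⟶ S the blow-up of S at the reduced finite set {P_1, …, P_s} (universal property; S'
is viewed over C through σ) and I the inverse image ideal of the ideal of {P_1, …, P_s}, so that the
closed subscheme E(n) of I^n is the (n−1)-st infinitesimal thickening of the exceptional divisor E =
E(1). Let L be an invertible O_{S'}-module and write L_n = L|_{E(n)}. Then for every n ≥ 1 the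
connecting map H^0(E(n), L_n) ⟶ H^1(E, L|_E(n)) of the exact sequence 0 ⟶ L|_E(n) ⟶ L_{n+1} ⟶ L_n ⟶
0, where L|_E(n) = (L ⊗ I^n)|_E, vanishes; equivalently the restriction H^0(E(n+1), L_{n+1}) ⟶
H^0(E(n), L_n) is surjective. Stated here as the equivalent identity of (finite) dimensions dim
H^0(S', L ⊗ O/I^{n+1}) = dim H^0(S', (L ⊗ I^n) ⊗ O/I) + dim H^0(S', L ⊗ O/I^n). -/
theorem result
    (S : Scheme.{0}) [S.Over (Spec (CommRingCat.of ℂ))] [IsIntegral S]
    [SmoothOfRelativeDimension 2 (S ↘ Spec (CommRingCat.of ℂ))]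
    (hproj : ∃ (n : ℕ) (ι : S ⟶ CohB1.ProjSpace n ℂ), IsClosedImmersion ι ∧
      ι ≫ CohB1.ProjSpace.toSpec n ℂ = S ↘ Spec (CommRingCat.of ℂ))
    (s : ℕ) (P : Fin s → ↥S) (hP : Function.Injective P) (hPc : ∀ i, IsClosed ({P i} : Set ↥S))
    (hZ : IsClosed (Set.range P))
    {S' : Scheme.{0}} [S'.Over (Spec (CommRingCat.of ℂ))] (σ : S' ⟶ S)
    (hσk : σ ≫ (S ↘ Spec (CommRingCat.of ℂ)) = S' ↘ Spec (CommRingCat.of ℂ))
    (hσ : BlowUp.IsBlowUp σ (Scheme.IdealSheafData.vanishingIdeal ⟨Set.range P, hZ⟩))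
    (L : S'.Modules) (hL : PicF.IsInvertible L) (n : ℕ) (hn : 1 ≤ n) :
    Module.finrank ℂ (Coh.HH S' (CohB1.tensorMod L (ClSub.quotMod ((BlowUp.exceptional σ (Scheme.IdealSheafData.vanishingIdeal ⟨Set.range P, hZ⟩)) ^ (n + 1)))) 0) =
      Module.finrank ℂ (Coh.HH S' (CohB1.tensorMod (CohB1.tensorMod L (ClSub.idealMod ((BlowUp.exceptional σ (Scheme.IdealSheafData.vanishingIdeal ⟨Set.range P, hZ⟩)) ^ n))) (ClSub.quotMod (BlowUp.exceptional σ (Scheme.IdealSheafData.vanishingIdeal ⟨Set.range P, hZ⟩)))) 0) +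
      Module.finrank ℂ (Coh.HH S' (CohB1.tensorMod L (ClSub.quotMod ((BlowUp.exceptional σ (Scheme.IdealSheafData.vanishingIdeal ⟨Set.range P, hZ⟩)) ^ n))) 0) := by
  obtain ⟨m, ι, hι1, hι⟩ := hproj
  haveI := hι1
  haveI : Smooth (S ↘ Spec (CommRingCat.of ℂ)) := SmoothOfRelativeDimension.smooth 2 _
  haveI : IsProper (S ↘ Spec (CommRingCat.of ℂ)) :=
    Groth.L03.BlowPt.isProper_of_projective ℂ _ ⟨m, ι, inferInstance, hι⟩
  have hd : topologicalKrullDim S = (2 : ℕ) := Groth.L03.SurfAdj.dim_of_relDim (S ↘ Spec (CommRingCat.of ℂ)) 2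
  have hreg := Groth.L03.SurfAdj.reg_of_smooth ℂ (X := S)
  obtain ⟨hS', hσp⟩ := Groth.L03.BlowPt.MultiExc.integral_proper ℂ hd hPc hσ
  haveI := hS'
  haveI := hσp
  haveI : IsProper (S' ↘ Spec (CommRingCat.of ℂ)) := by
    rw [← hσk]; infer_instance
  haveI := Groth.L21.RR.isNoetherian_of_proper (X := S') ℂ
  have hd' := Groth.L03.BlowPt.MultiExc.dim_up ℂ hd hPc hσ
  have hreg' := Groth.L03.BlowPt.MultiExc.regular_up ℂ hd hreg hP hPc hσ
  have hE : ∀ l, BlowUp.IsEffCartierIdeal (Groth.L03.BlowPt.exc (hPc l) σ) := fun l =>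
    (Groth.Agent.L19.IdealInvertible.isEffCartier_iff _).1
      (Groth.L03.BlowPt.MultiExc.nonempty_echart ℂ hd hreg hP hPc hσ l).2
  obtain ⟨hD, hDii⟩ := Groth.L03.BlowPt.MultiExc.ii_prod_exc ℂ hd hreg hP hPc hσ hσk (fun _ => n)
  have hLn : PicF.IsInvertible (CohB1.tensorMod L (ClSub.idealMod (∏ l, Groth.L03.BlowPt.exc (hPc l) σ ^ n))) :=
    Groth.L18.GenLoc.isInvertible_tensor hL ((Groth.Agent.L19.IdealInvertible.isEffCartier_iff _).2 hD)
  have hdeg : ∀ l, degOn ℂ (Groth.L03.BlowPt.exc (hPc l) σ)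
      (CohB1.tensorMod L (ClSub.idealMod (∏ j, Groth.L03.BlowPt.exc (hPc j) σ ^ n))) =
      degOn ℂ (Groth.L03.BlowPt.exc (hPc l) σ) L + n := fun l => by
    have h := Groth.L03.BlowPt.Rational.degOn_eq ℂ hd' hreg' (hE l) hL hD
    rw [ii_comm, hDii l, sub_neg_eq_add] at h
    exact_mod_cast h
  have h1 := Groth.L03.BlowPt.MultiExc.h0_thick ℂ hd hreg hP hPc hσ hσk hL (fun _ => n + 1)
  have h2 := Groth.L03.BlowPt.MultiExc.h0_thick ℂ hd hreg hP hPc hσ hσk hLn (fun _ => 1)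
  have h3 := Groth.L03.BlowPt.MultiExc.h0_thick ℂ hd hreg hP hPc hσ hσk hL (fun _ => n)
  beta_reduce at h2
  rw [Finset.prod_congr rfl fun (l : Fin s) _ => pow_one (Groth.L03.BlowPt.exc (hPc l) σ)] at h2
  rw [Groth.L03.BlowPt.MultiExc.exceptional_eq_prod ℂ hd hreg hP hPc, ← Finset.prod_pow, ← Finset.prod_pow,
    h1, h2, h3, ← Finset.sum_add_distrib]
  refine Finset.sum_congr rfl fun l _ => ?_
  rw [Finset.sum_range_succ, Finset.sum_range_one, hdeg l]
  omega

end Groth.Agent.S15868
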