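import Groth.Statements.S15869
import Groth.Agent.L03.BlowPt.MultiR1
import Groth.Agent.L03.BlowPt.MultiAmple
import Groth.Agent.L05.InterPair.Twist
import Groth.Agent.L05.InterPair.Classes
import Mathlib.Analysis.Complex.Polynomial.Basic
-- import your own Groth.Agent.* helpers here

set_option autoImplicit false
open CategoryTheory CategoryTheory.Limits AlgebraicGeometry
open SurfBl

namespace Groth.Agent.S15869

open Groth.L00.Tensor (tensorIso tensorUnitRight tensorAssoc)

/-- The first higher direct image, in dimension form, for non-negative multiples of the exceptional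
curves. Let S be a smooth projective surface over the complex numbers (integral, smooth of relative
dimension 2 over C, admitting a closed immersion over C into some P^n), P_1, …, P_s distinct closed
points, σ : S' ⟶ S the blow-up of S at the reduced finite set {P_1, …, P_s} (universal property) and
I_{E_i} the inverse image ideal of the ideal of P_i (the ideal of the exceptional curve E_i). Let M
be an invertible O_S-module (a divisor D on S), L_i an O_{S'}-module with L_i ⊗ I_{E_i} ≅ O_{S'} (so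
L_i = O(E_i)), b_1, …, b_s natural numbers, and L = σ^*M ⊗ L_1^{⊗ b_1} ⊗ ⋯ ⊗ L_s^{⊗ b_s}, the line
bundle σ^*D + Σ b_i E_i. Then R¹σ_*L is supported at the points P_i with b_i ≥ 2, where its stalk
has length C(b_i, 2) = b_i(b_i − 1)/2; consequently dim_C H^0(S, R¹σ_*L) = Σ_i C(b_i, 2), the
binomial coefficient being 0 when b_i < 2. Only this dimension formula is stated (R¹σ_* of
O-modules, with the existence of injective resolutions as instance hypothesis). (The published
statement gives the stalk as O_S/m_{P_i}^{b_i − 2}, of length C(b_i − 1, 2), and only for b_i > 2;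
the correct length is C(b_i, 2), that of O_S/m_{P_i}^{b_i − 1}, already non-zero for b_i = 2: on the
blown-up plane h¹(O(2E)) = 1 and h¹(O(3E)) = 3. Only the length is asserted; for b_i ≥ 3 the stalk
maps onto H¹(E_i, O(−b_i)), of dimension b_i − 1, so it is not a cyclic module.) -/
theorem result
    (S : Scheme.{0}) [S.Over (Spec (CommRingCat.of ℂ))] [IsIntegral S]
    [SmoothOfRelativeDimension 2 (S ↘ Spec (CommRingCat.of ℂ))]
    (hproj : ∃ (n : ℕ) (ι : S ⟶ CohB1.ProjSpace n ℂ), IsClosedImmersion ι ∧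
      ι ≫ CohB1.ProjSpace.toSpec n ℂ = S ↘ Spec (CommRingCat.of ℂ))
    (s : ℕ) (P : Fin s → ↥S) (hP : Function.Injective P) (hPc : ∀ i, IsClosed ({P i} : Set ↥S))
    (hZ : IsClosed (Set.range P))
    {S' : Scheme.{0}} (σ : S' ⟶ S) (hσ : BlowUp.IsBlowUp σ (Scheme.IdealSheafData.vanishingIdeal ⟨Set.range P, hZ⟩))
    (M : S.Modules) (hM : PicF.IsInvertible M)
    (L : Fin s → S'.Modules)
    (hL : ∀ i, ClSub.IsInverseOf (L i) (ClSub.idealMod ((Scheme.IdealSheafData.vanishingIdeal ⟨{P i}, hPc i⟩).comap σ)))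
    (b : Fin s → ℕ) [HasInjectiveResolutions S'.Modules] :
    Module.finrank ℂ (Coh.HH S ((Coh.Rpush σ 1).obj
      (CohB1.tensorMod ((Scheme.Modules.pullback σ).obj M) (FGA.multiTwist L b))) 0) =
      ∑ i, (b i).choose 2 := by
  obtain ⟨m, ι, hι1, hι⟩ := hproj
  haveI := hι1
  haveI : Smooth (S ↘ Spec (CommRingCat.of ℂ)) := SmoothOfRelativeDimension.smooth 2 _
  haveI : IsProper (S ↘ Spec (CommRingCat.of ℂ)) :=
    Groth.L03.BlowPt.isProper_of_projective ℂ _ ⟨m, ι, inferInstance, hι⟩
  have hd : topologicalKrullDim S = (2 : ℕ) := Groth.L03.SurfAdj.dim_of_relDim (S ↘ Spec (CommRingCat.of ℂ)) 2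
  have hreg := Groth.L03.SurfAdj.reg_of_smooth ℂ (X := S)
  obtain ⟨hS', hσp⟩ := Groth.L03.BlowPt.MultiExc.integral_proper ℂ hd hPc hσ
  haveI := hS'
  haveI := hσp
  letI : S'.Over (Spec (CommRingCat.of ℂ)) := ⟨σ ≫ (S ↘ Spec (CommRingCat.of ℂ))⟩
  haveI : IsProper (S' ↘ Spec (CommRingCat.of ℂ)) :=
    inferInstanceAs (IsProper (σ ≫ (S ↘ Spec (CommRingCat.of ℂ))))
  haveI := Groth.L21.RR.isNoetherian_of_proper (X := S') ℂ
  have hE : ∀ i, PicF.IsInvertible (ClSub.idealMod (Groth.L03.BlowPt.exc (hPc i) σ)) := fun i =>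
    (Groth.L03.BlowPt.MultiExc.nonempty_echart ℂ hd hreg hP hPc hσ i).2
  have hLi : ∀ i, PicF.IsInvertible (L i) := fun i =>
    Groth.L13.PointBlow.isInvertible_of_isInverseOf (hE i) (hL i)
  obtain ⟨ψ⟩ := Groth.L05.InterPair.isInverseOf_multiTwist
    (fun i => (Groth.Agent.L19.IdealInvertible.isEffCartier_iff _).1 (hE i)) hL b
  exact Groth.L03.BlowPt.MultiExc.h0_R1 ℂ hd hreg hP hPc hσ rfl hM
    (Groth.L18.GenLoc.isInvertible_tensor (Groth.L18.Ample.isInvertible_pullback σ hM)
      (Groth.L05.InterPair.isInvertible_multiTwist hLi b)) b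
    (tensorAssoc _ _ _ ≪≫ tensorIso (Iso.refl _) ψ ≪≫ tensorUnitRight _)

end Groth.Agent.S15869
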