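import Groth.Statements.S15873
import Groth.Agent.L09.EtaleSection

set_option autoImplicit false
universe u
open CategoryTheory MonoidalCategory CartesianMonoidalCategory MonObj GrpObj AlgebraicGeometry
open NonAbH1

open MonoidalCategory CartesianMonoidalCategory Groth.L09

set_option linter.style.haveILetI false
set_option backward.isDefEq.respectTransparency.types false

namespace Groth.Agent.S15873

lemma isDominant_genResidue (S : Scheme.{u}) [IsIntegral S] :
    IsDominant (S.fromSpecResidueField (genericPoint S)) := ⟨fun z => by
  have h : genericPoint S ∈ Set.range (S.fromSpecResidueField (genericPoint S)) := by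
    rw [Scheme.range_fromSpecResidueField]; rfl
  refine closure_mono (Set.singleton_subset_iff.2 h) ?_
  rw [genericPoint_spec S]
  trivial⟩

/-- Let G be an étale k-group scheme, S a normal integral k-scheme with generic point η and E an fppf
torsor over S under G. Then every point of E over S with values in Spec κ(η) extends to a unique
section of E over S: E(S) → E(κ(η)) is bijective. (The published statement takes S merely integral;
for the nodal cubic over an algebraically closed field and the connected étale double cover, a
torsor under the constant group of order 2, the generic fibre has rational points while there is no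
section, and the published proof extends generic points of finite étale schemes, which requires
normality, so S is taken normal here.) -/
theorem result (k : Type u) [Field k]
    (G : Over (Spec (CommRingCat.of k))) [GrpObj G] [Etale G.hom]
    (S : Scheme.{u}) [IsIntegral S] (hS : Pi1.IsNormalScheme S) (s : S ⟶ Spec (CommRingCat.of k))
    (E : NonAbH1.TorsorSch (Red.bc s G) Scheme.fppfPrecoverage) :
    (∀ σ₁ σ₂ : S ⟶ E.X.left, σ₁ ≫ E.X.hom = 𝟙 S → σ₂ ≫ E.X.hom = 𝟙 S →
        S.fromSpecResidueField (genericPoint S) ≫ σ₁ = S.fromSpecResidueField (genericPoint S) ≫ σ₂ → σ₁ = σ₂) ∧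
    (∀ x : Spec (S.residueField (genericPoint S)) ⟶ E.X.left,
        x ≫ E.X.hom = S.fromSpecResidueField (genericPoint S) →
        ∃ σ : S ⟶ E.X.left, σ ≫ E.X.hom = 𝟙 S ∧ S.fromSpecResidueField (genericPoint S) ≫ σ = x) := by
  haveI := EtaleSection.isSeparated_torsor E
  haveI := isDominant_genResidue S
  refine ⟨fun σ₁ σ₂ h₁ h₂ h => ?_, fun x hx => EtaleSection.exists_section hS E x hx⟩
  exact ext_of_isDominant_of_isSeparated E.X.hom (h₁.trans h₂.symm)
    (S.fromSpecResidueField (genericPoint S)) h

end Groth.Agent.S15873
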