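import Groth.Statements.S15874
import Groth.Agent.L09.EtaleSection
import Groth.Agent.L09.TorsorPts

set_option autoImplicit false
universe u
open CategoryTheory MonoidalCategory CartesianMonoidalCategory MonObj GrpObj AlgebraicGeometry
open NonAbH1

open MonoidalCategory CartesianMonoidalCategory Groth.L09

set_option linter.style.haveILetI false
set_option backward.isDefEq.respectTransparency.types false

namespace Groth.Agent.S15874

lemma equivalence_equivIso {S : Scheme.{u}} (G : Over S) [GrpObj G] (K : Precoverage Scheme.{u}) :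
    Equivalence (fun P Q : TorsorSch G K => Nonempty (EquivIso P.act Q.act)) where
  refl P := ⟨⟨Iso.refl _, by simp⟩⟩
  symm := by
    rintro P Q ⟨e⟩
    refine ⟨⟨e.iso.symm, ?_⟩⟩
    show Q.act.act ≫ e.iso.inv = (G ◁ e.iso.inv) ≫ P.act.act
    rw [Iso.comp_inv_eq, Category.assoc, e.comm, ← Category.assoc, ← MonoidalCategory.whiskerLeft_comp,
      Iso.inv_hom_id, MonoidalCategory.whiskerLeft_id, Category.id_comp]
  trans := by
    rintro P Q T ⟨e⟩ ⟨e'⟩
    refine ⟨⟨e.iso ≪≫ e'.iso, ?_⟩⟩
    rw [Iso.trans_hom, reassoc_of% e.comm, e'.comm, MonoidalCategory.whiskerLeft_comp,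
      Category.assoc]

lemma exists_of_section {S : Scheme.{u}} {H X : Over S} [GrpObj H] (a : AlgGrp.Action H X)
    (σ : 𝟙_ (Over S) ⟶ X) :
    ∃ f : H ⟶ X, (trivialAction H).act ≫ f = (H ◁ f) ≫ a.act := by
  refine ⟨lift (𝟙 H) (toUnit H ≫ σ) ≫ a.act, ?_⟩
  have h : (H ◁ (lift (𝟙 H) (toUnit H ≫ σ) ≫ a.act)) =
      lift (fst H H) (TorsorPts.sm a (snd H H) (toUnit _ ≫ σ)) := by
    apply CartesianMonoidalCategory.hom_ext
    · simp
    · simp [TorsorPts.sm, comp_lift_assoc]
  rw [h]
  refine Eq.trans ?_ (TorsorPts.sm_mul a (fst H H) (snd H H) (toUnit _ ≫ σ))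
  show μ[H] ≫ _ = _
  rw [Hom.mul_def, lift_fst_snd, Category.id_comp, ← Category.assoc, comp_lift,
    Category.comp_id, ← Category.assoc, toUnit_unique (μ[H] ≫ toUnit H) (toUnit _)]

lemma hasSection_of_bcMap_eq_one {S S' : Scheme.{u}} {j : S' ⟶ S} {H : Over S} [GrpObj H]
    {K : Precoverage Scheme.{u}} [K.IsStableUnderBaseChange] [K.HasIsos] (P : TorsorSch H K)
    (hc : NonAbH1.H1Sch.bcMap j H K P.cl = 1) : HasSectionOver P.X j := by
  obtain ⟨e⟩ : Nonempty (EquivIso (P.act.bc j) (trivialAction (Red.bc j H))) :=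
    ((equivalence_equivIso _ _).eqvGen_iff).mp (Quot.eqvGen_exact hc)
  let r := η[Red.bc j H] ≫ e.iso.inv
  refine ⟨r.left ≫ Limits.pullback.fst P.X.hom j, ?_⟩
  rw [Category.assoc, Limits.pullback.condition, ← Category.assoc,
    show r.left ≫ Limits.pullback.snd P.X.hom j = 𝟙 _ from Over.w r]
  exact Category.id_comp _

lemma cl_eq_one {S : Scheme.{u}} {H : Over S} [GrpObj H]
    {K : Precoverage Scheme.{u}} [K.HasIsos] (P : TorsorSch H K) (f : H ⟶ P.X) [IsIso f]
    (hf : (trivialAction H).act ≫ f = (H ◁ f) ≫ P.act.act) : P.cl = 1 :=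
  (Quot.sound (r := fun P Q : TorsorSch H K => Nonempty (EquivIso P.act Q.act))
    (a := ⟨H, trivialAction H, isTorsorFor_trivialAction H K⟩) (b := P)
    ⟨⟨asIso f, hf⟩⟩).symm

/-- Let G be an étale k-group scheme and S a normal integral k-scheme with generic point η. Then an fppf
torsor over S under G whose base change to Spec κ(η) is trivial is itself trivial: the kernel of
H¹(S, G) → H¹(κ(η), G) on classes of torsors that are schemes is the base point. (The published
statement takes S merely integral; the connected étale double cover of a nodal cubic over an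
algebraically closed field is a non-trivial torsor under the constant group of order 2 that is
trivial at the generic point, so S is taken normal here, which is what the published proof uses.) -/
theorem result (k : Type u) [Field k]
    (G : Over (Spec (CommRingCat.of k))) [GrpObj G] [Etale G.hom]
    (S : Scheme.{u}) [IsIntegral S] (hS : Pi1.IsNormalScheme S) (s : S ⟶ Spec (CommRingCat.of k))
    (c : NonAbH1.H1Sch (Red.bc s G) Scheme.fppfPrecoverage)
    (hc : NonAbH1.H1Sch.bcMap (S.fromSpecResidueField (genericPoint S)) (Red.bc s G) Scheme.fppfPrecoverage c = 1) :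
    c = 1 := by
  induction c using Quot.ind with | _ P => ?_
  obtain ⟨x, hx⟩ := hasSection_of_bcMap_eq_one P hc
  obtain ⟨σ, hσ, -⟩ := EtaleSection.exists_section hS P x hx
  let σ' : 𝟙_ (Over S) ⟶ P.X := Over.homMk σ hσ
  obtain ⟨f, hf⟩ := exists_of_section P.act σ'
  have h1 : NonAbH1.IsTorsorFor Scheme.fppfPrecoverage (trivialAction (Red.bc s G)) :=
    isTorsorFor_trivialAction _ _
  have h2 : NonAbH1.IsTorsorFor Scheme.fpqcPrecoverage (trivialAction (Red.bc s G)) :=
    ⟨h1.1, h1.2.imp fun R hR => ⟨Scheme.fppfPrecoverage_le_fpqcPrecoverage _ hR.1, hR.2⟩⟩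
  haveI : IsIso f := Groth.L09.TorsorSch.isIso_of_isEquivariant _ P.act h2 P.isTorsor.1 f hf
  exact cl_eq_one P f hf

end Groth.Agent.S15874
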