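import Groth.Statements.S15875
import Groth.Agent.L08.AbelianGrp
import Groth.Agent.L23.Descent
import Groth.Agent.L15.KerFlat.Basic
import Groth.Agent.L08.SmallNorm.GaffSep
-- import your own Groth.Agent.* helpers here

set_option autoImplicit false
set_option backward.isDefEq.respectTransparency.types false
set_option linter.style.haveILetI false
universe u
open CategoryTheory MonoidalCategory CartesianMonoidalCategory MonObj GrpObj AlgebraicGeometry
open AGF

namespace Groth.Agent.S15875

/-- Let k'/k be a finite purely inseparable field extension, G a k-group locally of finite type, q :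
G_{k'} → Ḡ a faithfully flat homomorphism onto a k'-group Ḡ locally of finite type with
quasi-compact kernel N, and (R, q_R) a Weil restriction of Ḡ to k carrying a group structure for
which q_R is a homomorphism. Then the comparison morphism i : G → R corresponding to q is
quasi-compact. (The published statement allows any finite extension k'/k and adds that the kernel of
i is quasi-compact as well; the published proof goes through the purely inseparable case of the
kernel of the counit of Weil restriction, so k'/k is taken purely inseparable here.) -/
theorem result (k k' : Type u) [Field k] [Field k'] [Algebra k k']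
    [Module.Finite k k'] [IsPurelyInseparable k k']
    (G : Over (Spec (CommRingCat.of k))) [GrpObj G] [LocallyOfFiniteType G.hom]
    (Gbar : Over (Spec (CommRingCat.of k'))) [GrpObj Gbar] [LocallyOfFiniteType Gbar.hom]
    (q : Red.bc (Spec.map (CommRingCat.ofHom (algebraMap k k'))) G ⟶ Gbar) [IsMonHom q] [Surjective q.left] [Flat q.left]
    (N : Over (Spec (CommRingCat.of k'))) (iN : N ⟶ Red.bc (Spec.map (CommRingCat.ofHom (algebraMap k k'))) G) (hN : AlgGrp.IsKernel iN q) [CompactSpace N.left]
    (R : Over (Spec (CommRingCat.of k))) [GrpObj R] (qR : Red.bc (Spec.map (CommRingCat.ofHom (algebraMap k k'))) R ⟶ Gbar) [IsMonHom qR]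
    (hR : WeilRes.IsWeilRes (Spec.map (CommRingCat.ofHom (algebraMap k k'))) Gbar R qR) :
    QuasiCompact (hR.lift G q).left := by
  haveI : LocallyOfFiniteType (Red.bc (Spec.map (CommRingCat.ofHom (algebraMap k k'))) G).hom :=
    inferInstanceAs (LocallyOfFiniteType (Limits.pullback.snd G.hom _))
  haveI : LocallyOfFiniteType (q.left ≫ Gbar.hom) := by rw [Over.w q]; infer_instance
  haveI := locallyOfFiniteType_of_comp q.left Gbar.hom
  haveI : IsLocallyNoetherian Gbar.left := LocallyOfFiniteType.isLocallyNoetherian Gbar.hom
  haveI : LocallyOfFinitePresentation q.left := inferInstance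
  haveI : QuasiCompact N.hom := quasiCompact_of_compactSpace N.hom
  have sq := (Groth.L15.KerFlat.isPullback_kernelPair hN).map (Over.forget _)
  haveI hq : QuasiCompact q.left :=
    MorphismProperty.of_isPullback_of_descendsAlong (P := @QuasiCompact)
      (Q := @Surjective ⊓ @Flat ⊓ @LocallyOfFinitePresentation) sq ⟨⟨‹_›, ‹_›⟩, ‹_›⟩
      (inferInstanceAs (QuasiCompact (Limits.pullback.fst (Red.bc (Spec.map (CommRingCat.ofHom (algebraMap k k'))) G).hom N.hom)))
  set i := hR.lift G q
  let t := Spec.map (CommRingCat.ofHom (algebraMap k k'))
  have e : (Over.pullback t).map i ≫ qR = q := hR.restr_lift G q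
  haveI := Groth.L08.AbelianGrp.isSeparated (Red.bc t R)
  haveI : IsSeparated (qR.left ≫ Gbar.hom) := by rw [Over.w qR]; infer_instance
  haveI : IsSeparated qR.left := IsSeparated.of_comp qR.left Gbar.hom
  haveI : QuasiCompact (((Over.pullback t).map i).left ≫ qR.left) := by
    rw [← Over.comp_left, e]; exact hq
  have h2 : QuasiCompact ((Over.pullback t).map i).left := QuasiCompact.of_comp _ qR.left
  haveI : Surjective t := ⟨fun x => ⟨default, Subsingleton.elim _ _⟩⟩
  exact MorphismProperty.of_isPullback_of_descendsAlong (P := @QuasiCompact)
    (Q := @Surjective ⊓ @QuasiCompact) (Groth.L08.SmallNorm.isPullback_map_gen t i)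
    ⟨inferInstanceAs (Surjective (Limits.pullback.fst R.hom t)), inferInstanceAs (QuasiCompact (Limits.pullback.fst R.hom t))⟩ h2

end Groth.Agent.S15875
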