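import Groth.Statements.S15876
import Groth.Agent.L08.WeilInsep.Props
-- import your own Groth.Agent.* helpers here

set_option autoImplicit false
set_option backward.isDefEq.respectTransparency.types false
set_option linter.style.haveILetI false
universe u
open CategoryTheory MonoidalCategory CartesianMonoidalCategory MonObj GrpObj AlgebraicGeometry
open AGF

namespace Groth.Agent.S15876

/-- Let k'/k be a finite purely inseparable extension, G' a k'-group locally of finite type, (R, q) a
Weil restriction of G' to k with a group structure making q : R_{k'} → G' a homomorphism, and K the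
kernel of q. Then K is affine and quasi-compact with no non-trivial subtorus in its geometric fibre,
and when G' is smooth K is moreover smooth and connected. (The published statement says that K is
unipotent, and split unipotent when G' is smooth; unipotent k'-groups are affine of finite type with
no geometric subtori and split ones are in addition smooth and connected, which is what this row
records, a weaker conclusion.) -/
theorem result (k k' : Type u) [Field k] [Field k']
    [Algebra k k'] [Module.Finite k k'] [IsPurelyInseparable k k']
    (G' : Over (Spec (CommRingCat.of k'))) [GrpObj G'] [LocallyOfFiniteType G'.hom]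
    (R : Over (Spec (CommRingCat.of k))) [GrpObj R] (q : Red.bc (Spec.map (CommRingCat.ofHom (algebraMap k k'))) R ⟶ G') [IsMonHom q]
    (hR : WeilRes.IsWeilRes (Spec.map (CommRingCat.ofHom (algebraMap k k'))) G' R q)
    (K : Over (Spec (CommRingCat.of k'))) [GrpObj K] (iK : K ⟶ Red.bc (Spec.map (CommRingCat.ofHom (algebraMap k k'))) R) [IsMonHom iK]
    (hK : AlgGrp.IsKernel iK q) :
    (IsAffine K.left ∧ CompactSpace ↥K.left ∧ (∀ s : ↥(Spec (CommRingCat.of k')), Red.HasNoSubtorus (AlgebraicClosure ((Spec (CommRingCat.of k')).residueField s)) (Red.geomFibre s K))) ∧
    (Smooth G'.hom → Smooth K.hom ∧ ConnectedSpace ↥K.left) := by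
  obtain ⟨ha, hl⟩ := Groth.L08.WeilInsep.isAffine_kernel hR iK hK
  refine ⟨⟨ha, ?_, fun s => Groth.L08.WeilInsep.hasNoSubtorus_kernel hR iK hK _⟩, fun _ =>
    Groth.L08.WeilInsep.smooth_connected_kernel hR iK hK⟩
  infer_instance

end Groth.Agent.S15876
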