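import Groth.Statements.S1588
import Groth.Agent.L21.Nodal.NodeClosed

set_option autoImplicit false
universe u
open CategoryTheory CategoryTheory.Limits AlgebraicGeometry
open Curves

namespace Groth.Agent.S1588

/-- Let K be a field extension of k, X locally of finite type over k of dimension one, and y a point of
X_K with image x in X. Then x is a node of X (in particular closed) if and only if y is a node of
X_K. -/
theorem result (k : Type u) [Field k] (X : Scheme.{u}) [X.Over (Spec (CommRingCat.of k))] [LocallyOfFiniteType (X ↘ (Spec (CommRingCat.of k)))]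
    (hdim : topologicalKrullDim X = 1) (K : Type u) [Field K] [Algebra k K] (y : Curv2.bc k X K) :
    Curv2.IsNode k X (Curv2.bcFst k X K y) ↔ @Curv2.IsNode K _ (Curv2.bc k X K) ⟨Curv2.bcSnd k X K⟩ y := by
  letI : (Curv2.bc k X K).Over (Spec (CommRingCat.of K)) := ⟨Curv2.bcSnd k X K⟩
  have hY : IsPullback (Curv2.bcFst k X K) (Curv2.bc k X K ↘ Spec (CommRingCat.of K)) (X ↘ Spec (CommRingCat.of k))
      (Spec.map (CommRingCat.ofHom (algebraMap k K))) := IsPullback.of_hasPullback _ _
  exact ⟨fun hn => (Groth.L21.Nodal.isNode_iff_of_isPullback (Curv2.bcFst k X K) hY y hn.1).1 hn,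
    fun hn => (Groth.L21.Nodal.isNode_iff_of_isPullback (Curv2.bcFst k X K) hY y
      (Groth.L21.Nodal.isClosed_image_of_isNode (Curv2.bcFst k X K) hY hdim.le y hn)).2 hn⟩

end Groth.Agent.S1588
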