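import Groth.Statements.S15881
import Groth.Agent.L09.GlueMor
import Groth.Agent.L09.GlueAgree
import Groth.Agent.L09.QuillenCover
import Groth.Agent.L09.TorsorSch
import Groth.Agent.L23.Descent

set_option autoImplicit false
universe u
open CategoryTheory MonoidalCategory CartesianMonoidalCategory MonObj GrpObj AlgebraicGeometry
open NonAbH1

open Groth.L09 Groth.L09.TorsorPts Groth.L09.Patch Limits

set_option linter.style.haveILetI false
set_option backward.isDefEq.respectTransparency.types false
set_option backward.isDefEq.respectTransparency false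

namespace Groth.Agent.S15881

lemma bc_iso_iff {S U : Scheme.{u}} {d : U ⟶ S} {P Q : Over S} (f : P ⟶ Q)
    (α : Red.bc d P ⟶ Red.bc d Q) :
    (Over.pullback d).map f = α ↔ fst P (Over.mk d) ≫ f = OverS.overS α := by
  constructor
  · rintro rfl
    ext1
    exact (ActBC.pullback_map_left_fst d f).symm
  · intro h
    ext1
    refine pullback.hom_ext ?_ ?_
    · rw [ActBC.pullback_map_left_fst]
      exact congrArg Over.Hom.left h
    · exact (Over.w ((Over.pullback d).map f)).trans (Over.w α).symm


/-- With φ : A → A' and t as in the glueing set-up (A/t^m → A'/t^m bijective for all m, φ bijective on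
t-power torsion), G a flat A-group scheme with quasi-affine underlying scheme, and P, P' fppf
G-torsors over A: an equivariant isomorphism of the base changes to A[1/t] and one of the base
changes to A', which agree over A'[1/t] under the canonical identifications of iterated base
changes, are the base changes of a unique equivariant isomorphism P ≅ P' over A. (The hypothesis h
is the evident commutativity of the square of base rings.) -/
theorem result (A A' : Type u) [CommRing A] [CommRing A']
    (φ : A →+* A') (t : A)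
    (hq : ∀ m : ℕ, Function.Bijective (Ideal.quotientMap (Ideal.map φ (Ideal.span {t} ^ m)) φ Ideal.le_comap_map))
    (htor : ∀ a' : A', (∃ m : ℕ, φ t ^ m * a' = 0) → ∃! a : A, (∃ m : ℕ, t ^ m * a = 0) ∧ φ a = a')
    (h : Spec.map (CommRingCat.ofHom (Localization.awayMap φ t)) ≫
        Spec.map (CommRingCat.ofHom (algebraMap A (Localization.Away t))) =
      Spec.map (CommRingCat.ofHom (algebraMap A' (Localization.Away (φ t)))) ≫ Spec.map (CommRingCat.ofHom φ))
    (G : Over (Spec (CommRingCat.of A))) [GrpObj G] [Flat G.hom] [G.left.IsQuasiAffine]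
    (P P' : NonAbH1.TorsorSch G Scheme.fppfPrecoverage)
    (αU : NonAbH1.EquivIso (P.act.bc (Spec.map (CommRingCat.ofHom (algebraMap A (Localization.Away t))))) (P'.act.bc (Spec.map (CommRingCat.ofHom (algebraMap A (Localization.Away t))))))
    (α' : NonAbH1.EquivIso (P.act.bc (Spec.map (CommRingCat.ofHom φ))) (P'.act.bc (Spec.map (CommRingCat.ofHom φ))))
    (hagree : (NonAbH1.EquivIso.bc (Spec.map (CommRingCat.ofHom (Localization.awayMap φ t))) αU).iso.hom ≫ (ActBC.bcCompIso (Spec.map (CommRingCat.ofHom (Localization.awayMap φ t))) (Spec.map (CommRingCat.ofHom (algebraMap A (Localization.Away t)))) P'.X h).hom =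
      (ActBC.bcCompIso (Spec.map (CommRingCat.ofHom (Localization.awayMap φ t))) (Spec.map (CommRingCat.ofHom (algebraMap A (Localization.Away t)))) P.X h).hom ≫ (ActBC.bcCompIso (Spec.map (CommRingCat.ofHom (algebraMap A' (Localization.Away (φ t))))) (Spec.map (CommRingCat.ofHom φ)) P.X rfl).inv ≫
        (NonAbH1.EquivIso.bc (Spec.map (CommRingCat.ofHom (algebraMap A' (Localization.Away (φ t))))) α').iso.hom ≫ (ActBC.bcCompIso (Spec.map (CommRingCat.ofHom (algebraMap A' (Localization.Away (φ t))))) (Spec.map (CommRingCat.ofHom φ)) P'.X rfl).hom) :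
    ∃! α : NonAbH1.EquivIso P.act P'.act,
      (NonAbH1.EquivIso.bc (Spec.map (CommRingCat.ofHom (algebraMap A (Localization.Away t)))) α).iso = αU.iso ∧ (NonAbH1.EquivIso.bc (Spec.map (CommRingCat.ofHom φ)) α).iso = α'.iso := by
  letI : Algebra A A' := φ.toAlgebra
  have hc : GlueRing.Cond (algebraMap A A') t := ⟨hq, htor⟩
  obtain ⟨W₁, _, _, s₁, hW₁⟩ := Quillen.exists_affine_cover P.isTorsor.2
  obtain ⟨W₂, _, _, s₂, hW₂⟩ := Quillen.exists_affine_cover P'.isTorsor.2
  let B := TensorProduct A W₁ W₂
  let p₁ : spO A B ⟶ spO A W₁ := pm Algebra.TensorProduct.includeLeft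
  let p₂ : spO A B ⟶ spO A W₂ := pm Algebra.TensorProduct.includeRight
  have hW : Groth.L25.Covers.Cov (toUnit (spO A B)) := by
    have hfst : Groth.L25.Covers.Cov (fst (spO A W₁) (spO A W₂)) :=
      TorsorPts.cov_fst hW₂ (spO A W₁)
    have := (hfst.comp hW₁)
    have hiso : Groth.L25.Covers.Cov (GlueMor.prodMap (A := A) (B := W₁) (D := W₂)) := by
      refine ⟨⟨?_, ?_⟩, ?_⟩ <;> (rw [GlueMor.prodMap_left]; infer_instance)
    rw [toUnit_unique (toUnit (spO A B))
      (GlueMor.prodMap ≫ fst (spO A W₁) (spO A W₂) ≫ toUnit _)]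
    exact hiso.comp this
  haveI : Module.Flat A B := by
    have : Flat (spO A B).hom := hW.1.2
    have : Flat (Spec.map (CommRingCat.ofHom (algebraMap A B))) := this
    rw [HasRingHomProperty.Spec_iff (P := @Flat)] at this
    exact RingHom.flat_algebraMap_iff.mp this
  have hPt : NonAbH1.IsTorsorFor Scheme.fpqcPrecoverage P.act :=
    ⟨P.isTorsor.1, P.isTorsor.2.imp fun R hR =>
      ⟨Scheme.fppfPrecoverage_le_fpqcPrecoverage _ hR.1, hR.2⟩⟩
  haveI := Groth.L25.Actions.descendsAlong_flat_fpqc.{u}
  haveI : Flat P.X.hom := Groth.L09.TorsorSch.of_grp @Flat P.act hPt inferInstance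
  obtain ⟨f, hf, hf₁, hf₂, huniq⟩ := GlueMor.existsUnique_equivariant hc (B := B)
    (GenericTorsor.relPseudo_of_isPseudo P.isTorsor.1) (GenericTorsor.relPseudo_of_isPseudo P'.isTorsor.1)
    hW (p₁ ≫ s₁) (p₂ ≫ s₂) (OverS.overS αU.iso.hom) (OverS.overS α'.iso.hom)
    (fun g x k => OverS.overS_equiv αU.iso.hom αU.comm g x k)
    (fun g x k => OverS.overS_equiv α'.iso.hom α'.comm g x k)
    (fun {Z} x k₁ k₂ => by
      let e₂ := Spec.map (CommRingCat.ofHom (algebraMap A' (Localization.Away (φ t))))
      let e₁ := Spec.map (CommRingCat.ofHom (Localization.awayMap φ t))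
      have hr : Set.range k₂.left ⊆ Set.range e₂ := by
        rintro _ ⟨z, rfl⟩
        show k₂.left z ∈ Set.range (PrimeSpectrum.comap (algebraMap A' (Localization.Away (φ t))))
        rw [PrimeSpectrum.localization_away_comap_range (Localization.Away (φ t)) (φ t)]
        have h1 : (Spec.map (CommRingCat.ofHom φ)) (k₂.left z) =
            (Spec.map (CommRingCat.ofHom (algebraMap A (Localization.Away t)))) (k₁.left z) := by
          exact congrArg (fun m : Z.left ⟶ _ => m z) ((Over.w k₂).trans (Over.w k₁).symm)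
        have h2 : (Spec.map (CommRingCat.ofHom (algebraMap A (Localization.Away t)))) (k₁.left z) ∈
            Set.range (PrimeSpectrum.comap (algebraMap A (Localization.Away t))) := ⟨k₁.left z, rfl⟩
        rw [← h1, PrimeSpectrum.localization_away_comap_range (Localization.Away t) t] at h2
        exact h2
      haveI : IsOpenImmersion e₂ := inferInstanceAs (IsOpenImmersion
        (Spec.map (CommRingCat.ofHom (algebraMap A' (Localization.Away (φ t))))))
      let l := IsOpenImmersion.lift e₂ k₂.left hr
      have hl₂ : l ≫ e₂ = k₂.left := IsOpenImmersion.lift_fac _ _ _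
      have hl₁ : l ≫ e₁ = k₁.left := by
        rw [← cancel_mono (Spec.map (CommRingCat.ofHom (algebraMap A (Localization.Away t)))),
          Category.assoc, h, reassoc_of% hl₂]
        exact (Over.w k₂).trans (Over.w k₁).symm
      exact OverS.agree h αU.iso.hom α'.iso.hom hagree x k₁ k₂ l hl₁ hl₂)
  haveI : IsIso f :=
    Groth.L09.TorsorSch.isIso_of_isEquivariant P.act P'.act hPt P'.isTorsor.1 f hf
  refine ⟨⟨asIso f, hf⟩, ⟨Iso.ext ((bc_iso_iff f _).mpr hf₁), Iso.ext ((bc_iso_iff f _).mpr hf₂)⟩,
    ?_⟩
  rintro ⟨iso, comm⟩ ⟨e1, e2⟩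
  have : iso = asIso f := Iso.ext (huniq iso.hom
    ((bc_iso_iff iso.hom _).mp (congrArg Iso.hom e1))
    ((bc_iso_iff iso.hom _).mp (congrArg Iso.hom e2)))
  subst this
  rfl

end Groth.Agent.S15881
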