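import Groth.Statements.S15892
import Groth.Agent.L15.Galois.Hom
import Mathlib.RingTheory.RingHom.FaithfullyFlat
import Mathlib.RingTheory.Noetherian.Basic
import Mathlib.RingTheory.Flat.EquationalCriterion

set_option autoImplicit false
universe u
open CartDual

namespace Groth.Agent.S15892

open TensorProduct Groth.L15.Galois

theorem exists_section {R A A'' : Type*} [CommRing R] [CommRing A] [Algebra R A] [CommRing A''] [Algebra R A'']
    [IsNoetherianRing A''] (f : A'' →ₐ[R] A) (hfin : f.Finite) (hf : f.toRingHom.FaithfullyFlat) :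
    ∃ r : A →ₗ[R] A'', ∀ b, r (f b) = b := by
  letI : Algebra A'' A := f.toRingHom.toAlgebra
  haveI : Module.FaithfullyFlat A'' A := hf
  haveI : Module.Finite A'' A := hfin
  haveI : Module.FinitePresentation A'' A := Module.finitePresentation_of_finite A'' A
  haveI : Module.Projective A'' A := Module.Flat.projective_of_finitePresentation
  obtain ⟨r, hr⟩ := exists_retraction (C := A'') (A := A)
  haveI : IsScalarTower R A'' A := IsScalarTower.of_algebraMap_eq fun x => (f.commutes x).symm
  refine ⟨r.restrictScalars R, fun b => ?_⟩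
  show r (algebraMap A'' A b) = b
  rw [Algebra.algebraMap_eq_smul_one, map_smul, hr, smul_eq_mul, _root_.mul_one]

theorem ext_dual {R A C : Type*} [CommRing R] [CommRing A] [Bialgebra R A] [Module.Finite R A] [Module.Projective R A]
    [CommRing C] [Bialgebra R C] [Module.Finite R C] [Module.Projective R C] (w w' : D R A ⊗[R] D R C)
    (h : ∀ a c, dualTensorEquiv R A C (TensorProduct.congr (toDual R A) (toDual R C) w) (a ⊗ₜ c) =
      dualTensorEquiv R A C (TensorProduct.congr (toDual R A) (toDual R C) w') (a ⊗ₜ c)) : w = w' :=
  (TensorProduct.congr (toDual R A) (toDual R C)).injective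
    ((dualTensorEquiv R A C).injective (TensorProduct.ext' h))

/-- Let R be a Noetherian ring and A', A, A'' commutative and cocommutative Hopf algebras over R, each
finitely generated and projective as an R-module (finite flat commutative R-groups G' = Spec A', G =
Spec A, G'' = Spec A''). Let f : A'' → A be a bialgebra homomorphism which is faithfully flat as a
ring map (the comorphism of a faithfully flat homomorphism π : G → G'') and g : A → A' a surjective
bialgebra homomorphism whose kernel is the ideal of A generated by the image under f of the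
augmentation ideal of A'' (the comorphism of a closed immersion ι : G' → G identifying G' with the
kernel of π), so that 1 → G' → G → G'' → 1 is a short exact sequence of finite flat R-groups. Then
the Cartier dual sequence 1 → G''^D → G^D → G'^D → 1 is again short exact: the transpose Hom_R(A',
R) → Hom_R(A, R) of g is a faithfully flat ring map between the dual Hopf algebras, and the
transpose Hom_R(A, R) → Hom_R(A'', R) of f is surjective with kernel the ideal generated by the
image, under the transpose of g, of the augmentation ideal of Hom_R(A', R). -/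
theorem result (R : Type u) [CommRing R] [IsNoetherianRing R]
    (A' A A'' : Type u) [CommRing A'] [HopfAlgebra R A'] [Coalgebra.IsCocomm R A'] [Module.Finite R A']
    [Module.Projective R A'] [CommRing A] [HopfAlgebra R A] [Coalgebra.IsCocomm R A] [Module.Finite R A]
    [Module.Projective R A] [CommRing A''] [HopfAlgebra R A''] [Coalgebra.IsCocomm R A''] [Module.Finite R A'']
    [Module.Projective R A''] (f : A'' →ₐc[R] A) (hf : (f : A'' →ₐ[R] A).toRingHom.FaithfullyFlat)
    (g : A →ₐc[R] A') (hg : Function.Surjective g)
    (hker : RingHom.ker (g : A →ₐ[R] A') = Ideal.map (f : A'' →ₐ[R] A) (RingHom.ker (Bialgebra.counitAlgHom R A''))) :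
    (CartDual.transpose R g : CartDual.D R A' →ₐ[R] CartDual.D R A).toRingHom.FaithfullyFlat ∧
      Function.Surjective (CartDual.transpose R f) ∧
      RingHom.ker (CartDual.transpose R f : CartDual.D R A →ₐ[R] CartDual.D R A'') =
        Ideal.map (CartDual.transpose R g : CartDual.D R A' →ₐ[R] CartDual.D R A)
          (RingHom.ker (Bialgebra.counitAlgHom R (CartDual.D R A'))) := by
  haveI : IsNoetherianRing A'' := IsNoetherianRing.of_finite R A''
  have hfin : (f : A'' →ₐ[R] A).Finite := AlgHom.Finite.of_comp_finite (f := Algebra.ofId R A'') (by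
    show ((f : A'' →ₐ[R] A).toRingHom.comp (algebraMap R A'')).Finite
    rw [show (f : A'' →ₐ[R] A).toRingHom.comp (algebraMap R A'') = algebraMap R A from
      RingHom.ext (AlgHomClass.commutes f)]
    exact RingHom.finite_algebraMap.mpr inferInstance)
  obtain ⟨r, hr⟩ := exists_section (f : A'' →ₐ[R] A) hfin hf
  have hFsurj : Function.Surjective (CartDual.transpose R f) := fun y =>
    ⟨(toDual R A).symm (y.ofConv ∘ₗ r), by
      apply WithConv.ext
      apply LinearMap.ext
      intro b
      show y (r (f b)) = y b
      exact congrArg y.ofConv (hr b)⟩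
  obtain ⟨hB, hK⟩ := main_hom (CartDual.transpose R f) hFsurj
  have hpair : ∀ (φ : D R A) (a : A) (b : A''),
      dualTensorEquiv R A A'' (TensorProduct.congr (toDual R A) (toDual R A'') (coactHom (CartDual.transpose R f) φ))
        (a ⊗ₜ b) = φ (a * f b) := by
    intro φ a b
    have key : ∀ z : D R A ⊗[R] D R A, dualTensorEquiv R A A'' (TensorProduct.congr (toDual R A) (toDual R A'')
        (Algebra.TensorProduct.map (AlgHom.id R (D R A)) (CartDual.transpose R f : D R A →ₐ[R] D R A'') z))
        (a ⊗ₜ b) = ev₂ R A z (a ⊗ₜ f b) := fun z => by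
      induction z using TensorProduct.induction_on with
      | zero => simp
      | add p q hp hq => simp only [map_add, LinearMap.add_apply, hp, hq]
      | tmul p q =>
        rw [Algebra.TensorProduct.map_tmul, ev₂_tmul]
        show dualTensorEquiv R A A'' ((toDual R A p) ⊗ₜ (toDual R A'' (CartDual.transpose R f q))) (a ⊗ₜ b) = _
        rw [dualTensorEquiv_tmul]
        rfl
    show dualTensorEquiv R A A'' (TensorProduct.congr (toDual R A) (toDual R A'')
        (Algebra.TensorProduct.map (AlgHom.id R (D R A)) (CartDual.transpose R f : D R A →ₐ[R] D R A'')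
          (Coalgebra.comul (R := R) φ))) (a ⊗ₜ b) = _
    rw [key, ev₂_coalgebra_comul_tmul]
  have hone : ∀ (φ : D R A) (a : A) (b : A''),
      dualTensorEquiv R A A'' (TensorProduct.congr (toDual R A) (toDual R A'')
        ((Algebra.TensorProduct.includeLeft : D R A →ₐ[R] D R A ⊗[R] D R A'') φ)) (a ⊗ₜ b) =
        φ a * Coalgebra.counit (R := R) b := by
    intro φ a b
    show dualTensorEquiv R A A'' ((toDual R A φ) ⊗ₜ (toDual R A'' 1)) (a ⊗ₜ b) = _
    rw [dualTensorEquiv_tmul]
    simp [LinearMap.convOne_apply, coe_apply]
  have hmem : ∀ φ : D R A, φ ∈ coinv (coactHom (CartDual.transpose R f)) ↔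
      ∀ a b, φ (a * f b) = φ a * Coalgebra.counit (R := R) b := by
    intro φ
    rw [AlgHom.mem_equalizer]
    refine ⟨fun h a b => ?_, fun h => ext_dual _ _ fun a b => ?_⟩
    · rw [← hpair, h, hone]
    · rw [hpair, hone, h]
  have hgf : ∀ b, g (f b) = algebraMap R A' (Coalgebra.counit (R := R) b) := by
    intro b
    have h1 : b - algebraMap R A'' (Coalgebra.counit (R := R) b) ∈ RingHom.ker (Bialgebra.counitAlgHom R A'') := by
      rw [RingHom.mem_ker, map_sub, AlgHom.commutes]
      exact sub_self _
    have h2 := hker.ge (Ideal.mem_map_of_mem (f : A'' →ₐ[R] A) h1)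
    have h3 : g (f b - f (algebraMap R A'' (Coalgebra.counit (R := R) b))) = 0 := by
      rw [← map_sub f]
      exact h2
    rw [map_sub, sub_eq_zero] at h3
    rw [h3, AlgHomClass.commutes f, AlgHomClass.commutes g]
  obtain ⟨sec, hsec⟩ := Module.projective_lifting_property (g : A →ₗ[R] A') LinearMap.id hg
  have hsec' : ∀ y, g (sec y) = y := LinearMap.congr_fun hsec
  have hrange : (CartDual.transpose R g : CartDual.D R A' →ₐ[R] CartDual.D R A).range =
      coinv (coactHom (CartDual.transpose R f)) := by
    ext φ
    rw [hmem, AlgHom.mem_range]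
    constructor
    · rintro ⟨x, rfl⟩ a b
      show x (g (a * f b)) = x (g a) * _
      rw [map_mul, hgf, ← Algebra.commutes, ← Algebra.smul_def]
      exact (map_smul x.ofConv _ _).trans (mul_comm _ _)
    · intro h
      refine ⟨(toDual R A').symm (φ.ofConv ∘ₗ sec), WithConv.ext (LinearMap.ext fun a => ?_)⟩
      show φ (sec (g a)) = φ a
      have h1 : sec (g a) - a ∈ Ideal.map (f : A'' →ₐ[R] A) (RingHom.ker (Bialgebra.counitAlgHom R A'')) := by
        rw [← hker, RingHom.mem_ker]
        show g (sec (g a) - a) = 0
        rw [map_sub, hsec', sub_self]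
      suffices H : ∀ z ∈ Ideal.map (f : A'' →ₐ[R] A) (RingHom.ker (Bialgebra.counitAlgHom R A'')), ∀ c, φ.ofConv (c * z) = 0 by
        have h2 := H _ h1 1
        rw [_root_.one_mul, map_sub] at h2
        exact sub_eq_zero.mp h2
      intro z hz
      refine Submodule.span_induction ?_ ?_ ?_ ?_ hz
      · rintro _ ⟨b, hb, rfl⟩ c
        refine (h c b).trans ?_
        rw [show Coalgebra.counit (R := R) b = 0 from hb, mul_zero]
      · intro c; rw [mul_zero, map_zero]
      · intro p q _ _ hp hq c; rw [mul_add, map_add, hp, hq, add_zero]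
      · intro t p _ hp c; rw [smul_eq_mul, ← mul_assoc]; exact hp _
  have hinj : Function.Injective (CartDual.transpose R g : CartDual.D R A' →ₐ[R] CartDual.D R A) := by
    intro x y h
    refine WithConv.ext (LinearMap.ext fun b => ?_)
    obtain ⟨a, rfl⟩ := hg b
    exact congrArg (fun z : D R A => z a) h
  refine ⟨?_, hFsurj, ?_⟩
  · let T : CartDual.D R A' →ₐ[R] CartDual.D R A := CartDual.transpose R g
    let e : CartDual.D R A' ≃ₐ[R] ↥(coinv (coactHom (CartDual.transpose R f))) :=
      (AlgEquiv.ofInjective T hinj).trans (Subalgebra.equivOfEq _ _ hrange)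
    have he : T.toRingHom = (algebraMap ↥(coinv (coactHom (CartDual.transpose R f))) (D R A)).comp
        (e : D R A' →+* ↥(coinv (coactHom (CartDual.transpose R f)))) := RingHom.ext fun x => rfl
    show T.toRingHom.FaithfullyFlat
    rw [he]
    exact RingHom.FaithfullyFlat.stableUnderComposition _ _ (RingHom.FaithfullyFlat.of_bijective e.bijective)
      ((RingHom.faithfullyFlat_algebraMap_iff).mpr hB)
  · rw [hK, Ideal.map]
    refine congrArg Ideal.span (Set.ext fun φ => ?_)
    rw [← hrange]
    constructor
    · rintro ⟨⟨x, rfl⟩, hx⟩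
      exact ⟨x, (CoalgHomClass.counit_comp_apply (CartDual.transpose R g) x).symm.trans hx, rfl⟩
    · rintro ⟨x, hx, rfl⟩
      exact ⟨⟨x, rfl⟩, (CoalgHomClass.counit_comp_apply (CartDual.transpose R g) x).trans hx⟩

end Groth.Agent.S15892
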