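import Groth.Statements.S15893
import Groth.Agent.L08.DualSep
import Mathlib.LinearAlgebra.Dual.Lemmas


set_option autoImplicit false
universe u v w
open CartDual

namespace Groth.Agent.S15893
open TensorProduct

/-- Let R be a commutative ring and A, B commutative and cocommutative Hopf algebras over R, each
finitely generated and projective as an R-module (finite locally free commutative group schemes G =
Spec A, H = Spec B over Spec R). Then Cartier duality is a fully faithful contravariant functor: the
map sending a bialgebra homomorphism f : A → B (a homomorphism of group schemes H → G) to its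
transpose between the dual Hopf algebras, Hom_R(B, R) → Hom_R(A, R) (the dual homomorphism G^D →
H^D), is a bijection between bialgebra homomorphisms A → B and bialgebra homomorphisms Hom_R(B, R) →
Hom_R(A, R). (The published statement also asserts that the canonical map to the double dual is an
isomorphism, which makes duality an involutory anti-equivalence; that part is not restated here. The
published notes work over a Noetherian base ring; the row allows any commutative base ring.) -/
theorem result (R : Type u) [CommRing R] (A : Type v) (B : Type w)
    [CommRing A] [HopfAlgebra R A] [Coalgebra.IsCocomm R A] [Module.Finite R A] [Module.Projective R A]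
    [CommRing B] [HopfAlgebra R B] [Coalgebra.IsCocomm R B] [Module.Finite R B] [Module.Projective R B] :
    Function.Bijective (fun f : A →ₐc[R] B => CartDual.transpose R f) := by
  refine ⟨fun f₁ f₂ h => ?_, fun ψ => ?_⟩
  · refine BialgHom.ext fun a => ?_
    refine (Module.eval_apply_injective R (V := B)) (LinearMap.ext fun x => ?_)
    have := congrArg (fun F : CartDual.D R B →ₐc[R] CartDual.D R A => F (WithConv.toConv x) a) h
    exact this
  let E : B ≃ₗ[R] Module.Dual R (Module.Dual R B) := Module.evalEquiv R B
  let f₀ : A →ₗ[R] B := E.symm.toLinearMap ∘ₗ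
    ((CartDual.toDual R A).toLinearMap ∘ₗ (ψ : CartDual.D R B →ₗ[R] CartDual.D R A) ∘ₗ
      (CartDual.toDual R B).symm.toLinearMap).flip
  have hf : ∀ (x : CartDual.D R B) (a : A), x (f₀ a) = ψ x a := fun x a => by
    simp only [f₀, E, LinearMap.comp_apply, CartDual.coe_apply, LinearEquiv.coe_coe,
      Module.apply_evalEquiv_symm_apply, LinearMap.flip_apply]
    rfl
  have hsep : ∀ b b' : B, (∀ x : CartDual.D R B, x b = x b') → b = b' := fun b b' h =>
    Module.eval_apply_injective R (LinearMap.ext fun x => h (WithConv.toConv x))
  have hev : ∀ (t : CartDual.D R B ⊗[R] CartDual.D R B) (a b : A),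
      CartDual.ev₂ R A (TensorProduct.map (ψ : CartDual.D R B →ₗ[R] CartDual.D R A)
        (ψ : CartDual.D R B →ₗ[R] CartDual.D R A) t) (a ⊗ₜ b) = CartDual.ev₂ R B t (f₀ a ⊗ₜ f₀ b) := by
    intro t a b
    induction t using TensorProduct.induction_on with
    | zero => simp
    | tmul x z => simp [hf]
    | add t t' ht ht' => simp [map_add, ht, ht']
  have h1 : f₀ 1 = 1 := hsep _ _ fun x => by
    rw [hf, ← CartDual.coalgebra_counit_apply, CoalgHomClass.counit_comp_apply,
      CartDual.coalgebra_counit_apply]
  have hmul : ∀ a b, f₀ (a * b) = f₀ a * f₀ b := fun a b => hsep _ _ fun x => by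
    rw [hf, ← CartDual.ev₂_coalgebra_comul_tmul, ← CoalgHomClass.map_comp_comul_apply]
    exact (hev _ a b).trans (CartDual.ev₂_coalgebra_comul_tmul R B x _ _)
  refine ⟨BialgHom.ofAlgHom (AlgHom.ofLinearMap f₀ h1 hmul) ?_ ?_, ?_⟩
  · refine AlgHom.ext fun a => ?_
    simp only [AlgHom.comp_apply, Bialgebra.counitAlgHom_apply, AlgHom.ofLinearMap_apply]
    have h := hf 1 a
    rw [map_one] at h
    simpa [CartDual.coe_apply, LinearMap.convOne_def] using h
  · refine AlgHom.ext fun a => ?_
    simp only [AlgHom.comp_apply, Bialgebra.comulAlgHom_apply, AlgHom.ofLinearMap_apply]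
    refine Groth.L08.DualSep.eq_of_forall_map fun x y => ?_
    have h := hf (WithConv.toConv x * WithConv.toConv y) a
    rw [map_mul] at h
    simp only [CartDual.coe_apply, LinearMap.convMul_def, WithConv.ofConv_toConv, LinearMap.comp_apply] at h
    rw [h]
    generalize Coalgebra.comul (R := R) a = t
    induction t using TensorProduct.induction_on with
    | zero => simp
    | add t t' ht ht' => simp only [map_add, ht, ht']
    | tmul b c =>
      have hb : x (f₀ b) = (ψ (WithConv.toConv x)).ofConv b := hf (WithConv.toConv x) b
      have hc : y (f₀ c) = (ψ (WithConv.toConv y)).ofConv c := hf (WithConv.toConv y) c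
      simp [hb, hc]
  · refine BialgHom.ext fun x => WithConv.ext (LinearMap.ext fun a => ?_)
    exact hf x a

end Groth.Agent.S15893
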