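import Groth.Statements.S15895
import Groth.Agent.L28.Versch.Basic
import Mathlib.Data.ZMod.Basic
import Mathlib.GroupTheory.OrderOfElement

set_option autoImplicit false
universe u
open scoped TensorProduct
open Versch

namespace Groth.Agent.S15895

/-- Let p be a prime, R a commutative ring of characteristic p and B = Hom_R(R[ℤ/p], R) the dual Hopf
algebra of the group algebra of the cyclic group of order p: the Hopf algebra of the constant group
scheme ℤ/p over Spec R (the Cartier dual of μ_p). Let v : B → B ⊗_R R^(Frob) be the comorphism of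
the Verschiebung V : (ℤ/p)^(p) → ℤ/p (the ring map whose transpose under the canonical pairing is
the relative Frobenius of the dual Hopf algebra of B). Then V is the trivial homomorphism: v is the
composite of the counit ε : B → R, the identity of underlying rings R → R^(Frob) and the inclusion
of the twisted factor R^(Frob) → B ⊗_R R^(Frob), i.e. v(b) = 1 ⊗ ε(b). -/
theorem result (p : ℕ) [Fact p.Prime] (R : Type u) [CommRing R]
    [CharP R p] (v : CartDual.D R (MonoidAlgebra R (Multiplicative (ZMod p))) →+* FrobAlg.BaseChange p R (CartDual.D R (MonoidAlgebra R (Multiplicative (ZMod p)))))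
    (hv : Versch.IsVerschiebung p R (CartDual.D R (MonoidAlgebra R (Multiplicative (ZMod p)))) v) :
    v = ((Algebra.TensorProduct.includeRight (R := R) (A := CartDual.D R (MonoidAlgebra R (Multiplicative (ZMod p))))
            (B := FrobAlg.Twist p R)).toRingHom.comp (FrobAlg.toTwist p R).toRingHom).comp
          (Bialgebra.counitAlgHom R (CartDual.D R (MonoidAlgebra R (Multiplicative (ZMod p))))).toRingHom := by
  classical
  let G := Multiplicative (ZMod p)
  let A := MonoidAlgebra R G
  rw [isVerschiebung_iff] at hv
  let ev : A →ₗ[R] CartDual.D R (CartDual.D R A) :=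
    (CartDual.toDual R (CartDual.D R A)).symm.toLinearMap ∘ₗ (CartDual.toDual R A).toLinearMap.flip
  have hev : ∀ (a : A) (b : CartDual.D R A), ev a b = b a := fun _ _ => rfl
  have hmul : ∀ a a', ev a * ev a' = ev (a * a') := fun a a' => WithConv.ext (LinearMap.ext fun b => by
    have key : ∀ t : CartDual.D R A ⊗[R] CartDual.D R A,
        LinearMap.mul' R R (TensorProduct.map (ev a).ofConv (ev a').ofConv t) = CartDual.ev₂ R A t (a ⊗ₜ a') := by
      intro t
      induction t using TensorProduct.induction_on with
      | zero => simp
      | tmul y z => rw [CartDual.ev₂_tmul]; rfl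
      | add y z hy hz => simp only [map_add, hy, hz, LinearMap.add_apply]
    rw [LinearMap.convMul_def, WithConv.ofConv_toConv, LinearMap.comp_apply, LinearMap.comp_apply, key]
    exact CartDual.ev₂_coalgebra_comul_tmul R A b a a')
  have hone : ev 1 = 1 := WithConv.ext (LinearMap.ext fun b => by
    simp [LinearMap.convOne_def, CartDual.coalgebra_counit_apply, ev, CartDual.coe_apply])
  let e : G → A := fun g => MonoidAlgebra.single g 1
  have hpow : ∀ g, ev (e g) ^ p = 1 := fun g => by
    have hn : ∀ n : ℕ, ev (e g) ^ n = ev (e g ^ n) := fun n => by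
      induction n with
      | zero => rw [pow_zero, pow_zero, hone]
      | succ n ih => rw [pow_succ, ih, hmul, pow_succ]
    have hg : g ^ p = 1 := by
      have := pow_card_eq_one' (x := g)
      simpa [G, Nat.card_zmod] using this
    rw [hn, MonoidAlgebra.single_pow, hg, one_pow, ← MonoidAlgebra.one_def, hone]
  let δ : G → CartDual.D R A := fun g => WithConv.toConv ((MonoidAlgebra.basis G R).coord g)
  have hexp : ∀ y : CartDual.D R (CartDual.D R A), y = ∑ g, y (δ g) • ev (e g) := fun y =>
    WithConv.ext (LinearMap.ext fun b => by
      have hb : b = ∑ g, b (e g) • δ g := WithConv.ext ((MonoidAlgebra.basis G R).ext fun h => by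
        simp [δ, e, CartDual.coe_apply, WithConv.ofConv_sum, ← MonoidAlgebra.basis_apply])
      conv_lhs => rw [hb]
      simp only [map_sum, map_smul, WithConv.ofConv_sum, WithConv.ofConv_smul, LinearMap.sum_apply,
        LinearMap.smul_apply, smul_eq_mul]
      exact Finset.sum_congr rfl fun g _ => mul_comm _ _)
  refine RingHom.ext fun b => ?_
  apply evTw_injective p R (CartDual.D R (MonoidAlgebra R (Multiplicative (ZMod p))))
  intro y
  show evTw p R (CartDual.D R A) y (v b) = evTw p R (CartDual.D R A) y
    (1 ⊗ₜ FrobAlg.toTwist p R (Coalgebra.counit (R := R) b))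
  rw [hv, Groth.L28.Versch.evTw_tmul_toTwist]
  refine congrArg _ ?_
  have h1 : ∑ g, y (δ g) = y (1 : CartDual.D R A) := by
    conv_rhs => rw [hexp y]
    simp only [CartDual.coe_apply, WithConv.ofConv_sum, WithConv.ofConv_smul, LinearMap.sum_apply,
      LinearMap.smul_apply, smul_eq_mul]
    refine Finset.sum_congr rfl fun g _ => ?_
    rw [← CartDual.coe_apply (A := CartDual.D R A) (x := ev (e g)), hev]
    simp [e, LinearMap.convOne_def]
    rw [show Coalgebra.counit (R := R) (MonoidAlgebra.single g (1 : R) : A) = 1 from by simp, mul_one]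
  rw [← h1]
  conv_lhs => rw [hexp y]
  rw [sum_pow_char, sum_pow_char, Finset.sum_mul, CartDual.coe_apply, WithConv.ofConv_sum, LinearMap.sum_apply]
  refine Finset.sum_congr rfl fun g _ => ?_
  rw [smul_pow, hpow, WithConv.ofConv_smul, LinearMap.smul_apply, smul_eq_mul]
  simp [LinearMap.convOne_def]

end Groth.Agent.S15895
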