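import Groth.Statements.S15896
import Groth.Agent.S15068
import Mathlib.RingTheory.Idempotents
import Mathlib.RingTheory.HopfAlgebra.Quotient
import Mathlib.RingTheory.Ideal.IdempotentFG
import Mathlib.LinearAlgebra.Dual.Lemmas

set_option autoImplicit false
universe u
open scoped TensorProduct
open Hopf

namespace Groth.Agent.S15896

open TensorProduct

theorem idem_eq_zero {R L : Type*} [CommRing R] [Nontrivial R] [CommRing L] [Algebra R L] [IsLocalRing L]
    (ψ : L →ₐ[R] R) {f : L} (hf : IsIdempotentElem f) (hψ : ψ f = 0) : f = 0 := by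
  rcases IsLocalRing.isUnit_or_isUnit_one_sub_self f with hu | hu
  · exfalso
    have h := (hu.map ψ)
    rw [hψ] at h
    exact not_isUnit_zero h
  · exact hu.mul_right_eq_zero.mp (by rw [sub_mul, _root_.one_mul, hf.eq, sub_self])

/-- an étale augmented algebra maps trivially to the local component `S ⧸ (1 - e')` -/
theorem mul_map_eq {R : Type u} {S C : Type u} [CommRing R] [Nontrivial R] [IsNoetherianRing R] [CommRing S] [Algebra R S]
    [CommRing C] [Algebra R C] [Module.Finite R C] [Algebra.FormallyUnramified R C]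
    (εS : S →ₐ[R] R) {e' : S} (he' : IsIdempotentElem e') (hε' : εS e' = 1)
    [IsLocalRing (S ⧸ Ideal.span ({1 - e'} : Set S))] (φ : C →ₐ[R] S) (εC : C →ₐ[R] R)
    (hφ : ∀ y, εS (φ y) = εC y) (y : C) : e' * φ y = εC y • e' := by
  let E : Ideal S := Ideal.span {1 - e'}
  let εL : (S ⧸ E) →ₐ[R] R := Ideal.Quotient.liftₐ E εS fun x hx => by
    obtain ⟨c, rfl⟩ := Ideal.mem_span_singleton'.mp hx
    rw [map_mul, map_sub, map_one, hε', sub_self, mul_zero]
  haveI : IsNoetherianRing C := IsNoetherianRing.of_finite R C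
  obtain ⟨f, hf, hfK⟩ := (Ideal.isIdempotentElem_iff_of_fg (RingHom.ker εC) (IsNoetherian.noetherian _)).mp
    (le_antisymm Ideal.mul_le_left (by rw [← smul_eq_mul]; exact Groth.Agent.S15068.ker_le_sq _))
  have hfE : Ideal.Quotient.mk E (φ f) = 0 := by
    refine idem_eq_zero εL ((hf.map φ).map (Ideal.Quotient.mk E)) ?_
    show εS (φ f) = 0
    rw [hφ]
    exact (RingHom.mem_ker).mp (show f ∈ RingHom.ker εC by rw [hfK]; exact Ideal.mem_span_singleton_self f)
  obtain ⟨d, hd⟩ := Ideal.mem_span_singleton'.mp (Ideal.Quotient.eq_zero_iff_mem.mp hfE)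
  have h0 : e' * φ f = 0 := by rw [← hd, mul_left_comm, mul_sub, _root_.mul_one, he'.eq, sub_self, mul_zero]
  have h1 : y - algebraMap R C (εC y) ∈ RingHom.ker εC := by
    rw [RingHom.mem_ker, map_sub, AlgHom.commutes]
    exact sub_self _
  rw [hfK] at h1
  obtain ⟨c, hc⟩ := Ideal.mem_span_singleton'.mp h1
  have h3 : e' * φ (y - algebraMap R C (εC y)) = 0 := by rw [← hc, map_mul, mul_left_comm, h0, mul_zero]
  rw [map_sub, AlgHom.commutes, mul_sub, sub_eq_zero] at h3
  rw [h3, Algebra.smul_def, mul_comm]

/-- Let R be a henselian Noetherian local ring and A a commutative and cocommutative Hopf algebra over R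
which is finitely generated and projective as an R-module (a finite flat commutative R-group G =
Spec A). Let e ∈ A be an idempotent with ε(e) = 1 such that the ideal (1 − e) is a Hopf ideal and A⁰
= A/(1 − e) is a local ring, projective over R, with cocommutative quotient structure (G⁰ = Spec A⁰
is the connected component of the unit section). Let B = Hom_R(A⁰, R) be the dual Hopf algebra (the
Cartier dual (G⁰)^D) and e' ∈ B an idempotent with ε(e') = 1 and B/(1 − e') local (the unit
component of (G⁰)^D). Say that x ∈ B is invariant when (id ⊗ (multiplication by e'))(Δ x) = x ⊗ e',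
i.e. x is invariant under translation by the unit component of (G⁰)^D, so that the invariant
elements form the Hopf algebra of the maximal étale quotient of (G⁰)^D; the ideal in A⁰ of the
closed subgroup G_μ ⊆ G⁰ ⊆ G consists of the elements annihilated by every invariant x (G_μ is the
Cartier dual of the étale quotient of (G⁰)^D, a connected multiplicative subgroup of G). Then G_μ is
the largest connected multiplicative closed subgroup of G: for every Hopf ideal J of A such that A/J
is a local ring, projective over R, cocommutative, and has étale dual Hopf algebra Hom_R(A/J, R) (H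
= Spec A/J a connected closed subgroup with étale Cartier dual), every a ∈ A whose image in A⁰ is
annihilated by all invariant x lies in J, i.e. H ⊆ G_μ. -/
theorem result (R : Type u) [CommRing R]
    [HenselianLocalRing R] [IsNoetherianRing R] (A : Type u) [CommRing A] [HopfAlgebra R A] [Coalgebra.IsCocomm R A]
    [Module.Finite R A] [Module.Projective R A] (e : A) (he : IsIdempotentElem e)
    (hε : Bialgebra.counitAlgHom R A e = 1) [(Ideal.span ({1 - e} : Set A)).IsHopfIdeal R] [IsLocalRing (A ⧸ Ideal.span ({1 - e} : Set A))]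
    [Module.Projective R (A ⧸ Ideal.span ({1 - e} : Set A))] [Coalgebra.IsCocomm R (A ⧸ Ideal.span ({1 - e} : Set A))]
    (e' : CartDual.D R (A ⧸ Ideal.span ({1 - e} : Set A))) (he' : IsIdempotentElem e')
    (hε' : Bialgebra.counitAlgHom R (CartDual.D R (A ⧸ Ideal.span ({1 - e} : Set A))) e' = 1)
    [IsLocalRing (CartDual.D R (A ⧸ Ideal.span ({1 - e} : Set A)) ⧸ Ideal.span ({1 - e'} : Set (CartDual.D R (A ⧸ Ideal.span ({1 - e} : Set A)))))]
    (J : Ideal A) [J.IsHopfIdeal R] [IsLocalRing (A ⧸ J)] [Module.Projective R (A ⧸ J)]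
    [Coalgebra.IsCocomm R (A ⧸ J)] [Algebra.Etale R (CartDual.D R (A ⧸ J))]
    (a : A) (ha : ∀ x : CartDual.D R (A ⧸ Ideal.span ({1 - e} : Set A)), LinearMap.lTensor (CartDual.D R (A ⧸ Ideal.span ({1 - e} : Set A))) (LinearMap.mulLeft R e') (Coalgebra.comul (R := R) x) = x ⊗ₜ[R] e' → x (Ideal.Quotient.mk (Ideal.span ({1 - e} : Set A)) a) = 0) :
    a ∈ J := by
  let I : Ideal A := Ideal.span ({1 - e} : Set A)
  haveI : Module.Finite R (A ⧸ I) := Module.Finite.quotient R I
  haveI : Module.Finite R (A ⧸ J) := Module.Finite.quotient R J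
  have hIJ : I ≤ J := by
    rw [Ideal.span_le, Set.singleton_subset_iff, SetLike.mem_coe, ← Ideal.Quotient.eq_zero_iff_mem]
    refine idem_eq_zero (Bialgebra.counitAlgHom R (A ⧸ J)) (he.one_sub.map (Ideal.Quotient.mk J)) ?_
    show Coalgebra.counit (R := R) (Ideal.Quotient.mk J (1 - e)) = 0
    refine (CoalgHomClass.counit_comp_apply (Bialgebra.Quotient.mkBialgHom (R := R) J) (1 - e)).trans ?_
    show Bialgebra.counitAlgHom R A (1 - e) = 0
    rw [map_sub, map_one, hε, sub_self]
  let q0 : (A ⧸ I) →ₐ[R] (A ⧸ J) := Ideal.Quotient.factorₐ R hIJ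
  let q : (A ⧸ I) →ₐc[R] (A ⧸ J) := BialgHom.ofAlgHom q0
    (AlgHom.ext fun x => by
      obtain ⟨a, rfl⟩ := Ideal.Quotient.mk_surjective x
      exact (CoalgHomClass.counit_comp_apply (Bialgebra.Quotient.mkBialgHom (R := R) J) a).trans
        (CoalgHomClass.counit_comp_apply (Bialgebra.Quotient.mkBialgHom (R := R) I) a).symm)
    (AlgHom.ext fun x => by
      obtain ⟨a, rfl⟩ := Ideal.Quotient.mk_surjective x
      show Algebra.TensorProduct.map q0 q0 (Coalgebra.comul (R := R) (Bialgebra.Quotient.mkBialgHom (R := R) I a)) =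
        Coalgebra.comul (R := R) (Bialgebra.Quotient.mkBialgHom (R := R) J a)
      rw [← CoalgHomClass.map_comp_comul_apply, ← CoalgHomClass.map_comp_comul_apply]
      induction Coalgebra.comul (R := R) a using TensorProduct.induction_on with
      | zero => simp
      | add p q hp hq => simp only [map_add, hp, hq]
      | tmul p q => rfl)
  have hkey : ∀ y : CartDual.D R (A ⧸ J), e' * CartDual.transpose R q y = Coalgebra.counit (R := R) y • e' :=
    mul_map_eq (Bialgebra.counitAlgHom R (CartDual.D R (A ⧸ I))) he' hε'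
      (CartDual.transpose R q : CartDual.D R (A ⧸ J) →ₐ[R] CartDual.D R (A ⧸ I))
      (Bialgebra.counitAlgHom R (CartDual.D R (A ⧸ J))) (fun y => CoalgHomClass.counit_comp_apply (CartDual.transpose R q) y)
  have hinv : ∀ y, LinearMap.lTensor (CartDual.D R (A ⧸ I)) (LinearMap.mulLeft R e')
      (Coalgebra.comul (R := R) (CartDual.transpose R q y)) = CartDual.transpose R q y ⊗ₜ[R] e' := fun y => by
    rw [← CoalgHomClass.map_comp_comul_apply]
    have key : ∀ z : CartDual.D R (A ⧸ J) ⊗[R] CartDual.D R (A ⧸ J),
        LinearMap.lTensor (CartDual.D R (A ⧸ I)) (LinearMap.mulLeft R e')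
          (TensorProduct.map (CartDual.transpose R q : _ →ₗ[R] _) (CartDual.transpose R q : _ →ₗ[R] _) z) =
        (CartDual.transpose R q : _ →ₗ[R] _) (TensorProduct.rid R _
          ((Coalgebra.counit (R := R) (A := CartDual.D R (A ⧸ J))).lTensor _ z)) ⊗ₜ[R] e' := fun z => by
      induction z using TensorProduct.induction_on with
      | zero => simp
      | add p q hp hq => simp only [map_add, add_tmul, hp, hq]
      | tmul p r =>
        simp only [TensorProduct.map_tmul, LinearMap.lTensor_tmul, TensorProduct.rid_tmul, map_smul,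
          LinearMap.mulLeft_apply]
        show _ ⊗ₜ[R] (e' * CartDual.transpose R q r) = _
        rw [hkey, TensorProduct.tmul_smul, TensorProduct.smul_tmul']
    refine (key _).trans ?_
    rw [Coalgebra.lTensor_counit_comul]
    simp
  rw [← Ideal.Quotient.eq_zero_iff_mem]
  refine (Module.forall_dual_apply_eq_zero_iff R _).mp fun y => ?_
  exact ha _ (hinv (WithConv.toConv y))

end Groth.Agent.S15896
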