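import Groth.Statements.S15898
import Groth.Agent.L25.FinMult.Main
import Groth.Agent.L25.MultType.Isotrivial

set_option autoImplicit false
universe u
open SGA3b

namespace Groth.Agent.S15898

open Groth.L25.FinMult TensorProduct


/-- Let R be a Noetherian ring whose spectrum is connected and A a commutative and cocommutative Hopf
algebra over R which is finitely generated and projective as an R-module (a finite flat commutative
group scheme G = Spec A over the connected base S = Spec R). Then G is multiplicative, i.e. the dual
Hopf algebra Hom_R(A, R) of the Cartier dual G^D is étale over R, if and only if A is isotrivial: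
for some finite étale faithfully flat R-algebra R' the base change R' ⊗_R A is isomorphic as an
R'-bialgebra to the group algebra R'[M] of a commutative group M (G becomes a diagonalizable group
after a finite étale surjective base change). -/
theorem result (R : Type u) [CommRing R] [IsNoetherianRing R]
    [ConnectedSpace (PrimeSpectrum R)] (A : Type u) [CommRing A] [HopfAlgebra R A] [Coalgebra.IsCocomm R A]
    [Module.Finite R A] [Module.Projective R A] :
    Algebra.Etale R (CartDual.D R A) ↔ SGA3b.IsIsotrivial R A := by
  haveI : Module.Finite R (Du R A) := Module.Finite.equiv (WithConv.linearEquiv R (A →ₗ[R] R)).symm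
  haveI : Module.Projective R (Du R A) := Module.Projective.of_equiv (WithConv.linearEquiv R (A →ₗ[R] R)).symm
  haveI : Module.FinitePresentation R (Du R A) := Module.finitePresentation_of_projective R (Du R A)
  haveI : Algebra.FinitePresentation R (Du R A) := (Module.FinitePresentation.iff_finitePresentation_of_finite R (Du R A)).1 inferInstance
  constructor
  · intro hEt
    haveI : Algebra.Etale R (Du R A) := hEt
    obtain ⟨p₀⟩ : Nonempty (PrimeSpectrum R) := inferInstance
    have hn : Module.rankAtStalk (R := R) (Du R A) = Module.rankAtStalk (R := R) (Du R A) p₀ := funext fun p =>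
      Module.isLocallyConstant_rankAtStalk.apply_eq_of_preconnectedSpace p p₀
    obtain ⟨T, _, _, _, _, _, hsplit⟩ := Algebra.IsFiniteSplit.exists_tensorProduct_of_etale hn
    obtain ⟨T₁, _, _, _, _, het, hfin, hff, hnt, hidem⟩ := exists_component (R := R) T
    haveI hsp : Algebra.IsFiniteSplit T₁ (T₁ ⊗[R] Du R A) :=
      Algebra.IsFiniteSplit.of_algEquiv (Algebra.TensorProduct.cancelBaseChange R T T₁ T₁ (Du R A))
    obtain ⟨n, ⟨ε⟩⟩ := hsp.nonempty_algEquiv_fun
    exact ⟨T₁, inferInstance, inferInstance, het, hfin, hff, exists_diag hidem ε⟩
  · intro hiso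
    have hA : SGA3b.IsMultType R A := Groth.L25.MultType.isMultType_of_isIsotrivial hiso
    haveI : Algebra.FormallyUnramified R (Du R A) := ⟨subsingleton_of_forall_prime fun p _ => by
      obtain ⟨B, _, _, _, q, hq, hqp, M, _, _, ⟨e⟩⟩ := Groth.L25.Char.exists_etale_split hA p
      haveI : Nontrivial B := ⟨0, 1, fun h => hq.ne_top ((Ideal.eq_top_iff_one _).2 (h ▸ q.zero_mem))⟩
      let γ : Module.Basis M B (B ⊗[R] A) :=
        Module.Basis.ofRepr (e.toLinearEquiv.trans (MonoidAlgebra.coeffLinearEquiv B))
      have hγ : ∀ m, IsGroupLikeElem B (γ m) := fun m => by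
        have h1 : γ m = e.symm (MonoidAlgebra.single m 1) := by
          simp [γ, Module.Basis.coe_ofRepr]
          rfl
        rw [h1]
        exact (MonoidAlgebra.isGroupLikeElem_single_one m).map e.symm
      haveI : Finite M := Module.Finite.finite_basis γ
      obtain ⟨Φ⟩ := exists_dual_equiv γ hγ
      haveI : Algebra.FormallyUnramified B (B ⊗[R] Du R A) := Algebra.FormallyUnramified.of_equiv Φ.symm
      letI : Algebra (Du R A) (B ⊗[R] Du R A) := Algebra.TensorProduct.rightAlgebra
      exact ⟨B, inferInstance, inferInstance, inferInstance, q, hq, hqp,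
        (KaehlerDifferential.tensorKaehlerEquivBase R B (Du R A) (B ⊗[R] Du R A)).toEquiv.subsingleton⟩⟩
    exact Algebra.Etale.of_formallyUnramified_of_flat


end Groth.Agent.S15898
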