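import Groth.Statements.S15904
import Groth.Agent.L04.KSh.Div.LciTwist
import Groth.Agent.L04.KSh.Div.Cartesian

set_option autoImplicit false
universe u
open CategoryTheory AlgebraicGeometry Opposite
open KoszSh

namespace Groth.Agent.S15904

/-- Let k be an algebraically closed field and X a smooth variety over k (X integral, f : X → Spec k
smooth, separated and of finite type). Let Y_1, …, Y_n and D be effective Cartier divisors on X with
ideal sheaves I_1, …, I_n and I_D, and let Z = Y_1 ∩ ⋯ ∩ Y_n be the scheme-theoretic intersection,
the closed subscheme j : Z → X defined by the ideal sheaf Σ_i I_i. Assume that Z is a local complete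
intersection in X, in the sense that j is a regular immersion (around every point, on some affine
open of X the ideal of Z is generated by a regular sequence), and that D contains no irreducible
component of Z: no point z of Z whose local ring O_{Z,z} has Krull dimension 0 lies on D. Let K be a
Koszul complex of the cosection ⊕_i O(-Y_i) → O_X (sum of the inclusions), with cycle sheaves Z_q,
homology sheaves H_q (computing Tor_q(O_{Y_1}, …, O_{Y_n})) and quotient maps π_q : Z_q → H_q, and
K' a Koszul complex of ⊕_i O(-Y_i - D) → O_X (computing Tor_q(O_{Y_1+D}, …, O_{Y_n+D})); write M|_D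
= i_* i^* M along i : D → X with its canonical map M → M|_D. Then for every q ≥ 0 the q-th homology
sheaf of K' is isomorphic, as an O_X-module, to P ⊗ I_D^{⊗ q}, where P is the fibre product of
π_q|_D : Z_q|_D → H_q|_D and the canonical map H_q → H_q|_D: the cartesian square for the divisors
Y_i + D holds with no hypothesis on associated points (existence of an isomorphism with the fibre
product; the published square writes the two lower corners through the excess conormal bundle E_Z of
Z, as j_*∧^q E_Z(-qD) and h_*(∧^q E_Z|_{Z ∩ D})(-qD) with h : Z ∩ D → X, which this row does not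
restate, and the published setting also assumes characteristic zero, which the argument does not
use). -/
theorem result (k : Type u) [Field k] [IsAlgClosed k]
    {X : Scheme.{u}} (f : X ⟶ Spec (CommRingCat.of k)) [Smooth f] [IsSeparated f] [QuasiCompact f]
    [LocallyOfFiniteType f] [IsIntegral X] (n : ℕ)
    (IY : Fin n → X.IdealSheafData) (hY : ∀ i, BlowUp.IsEffCartierIdeal (IY i))
    (ID : X.IdealSheafData) (hD : BlowUp.IsEffCartierIdeal ID)
    (hZ : RegImm.IsRegularImmersion RegImm.Kind.regular (⨆ i, IY i).subschemeι)
    (hZD : ∀ z : ↥(⨆ i, IY i).subscheme, ringKrullDim ((⨆ i, IY i).subscheme.presheaf.stalk z) = 0 →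
      (⨆ i, IY i).subschemeι.base z ∉ Set.range ID.subschemeι.base)
    (C : KoszSh.Cx (∐ fun i => ClSub.idealMod (IY i)) (Limits.Sigma.desc fun i => ClSub.idealModι (IY i)))
    (C' : KoszSh.Cx (∐ fun i => ClSub.idealMod (IY i * ID)) (Limits.Sigma.desc fun i => ClSub.idealModι (IY i * ID)))
    (q : ℕ) :
    Nonempty (C'.K.homology q ≅ CohB1.tensorMod
      (Limits.pullback
        ((Scheme.Modules.pullback ID.subschemeι ⋙ Scheme.Modules.pushforward ID.subschemeι).map (C.K.homologyπ q))
        ((Scheme.Modules.pullbackPushforwardAdjunction ID.subschemeι).unit.app (C.K.homology q)))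
      (CohB1.tensorPow (ClSub.idealMod ID) q)) := by
  haveI : IsLocallyNoetherian X := LocallyOfFiniteType.isLocallyNoetherian f
  have hCM : ∀ p : X, LocCoh.IsCohenMacaulayLocalRing (X.presheaf.stalk p) := fun p => by
    haveI := Groth.L08.Cube.isRegularLocalRing_of_smooth f p
    exact Groth.L04.isCohenMacaulayLocalRing_of_regular _
  exact Groth.L04.KSh.nonempty_homology_twisted C C' hY hD q fun U x _ hx =>
    Groth.L04.KSh.isSMulRegular_homology hY hD hCM hZ hZD C q U x hx

end Groth.Agent.S15904
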