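import Groth.Statements.S15905
import Mathlib.Algebra.Order.Chebyshev
import Mathlib.Data.Fin.Tuple.Basic
import Mathlib.Tactic

set_option autoImplicit false
open Surf

namespace Groth.Agent.S15905

section
open W4c3severiratdp Finset

def box : Finset ℕ := Finset.range 23

def F : (n : ℕ) → ℤ → ℤ → Finset (Fin n → ℤ)
  | 0, s, q => if s = 0 ∧ q = 0 then {Fin.elim0} else ∅
  | n + 1, s, q => box.biUnion fun i =>
      if 0 ≤ q - ((i : ℤ) - 11) * ((i : ℤ) - 11) ∧
          (s - ((i : ℤ) - 11)) * (s - ((i : ℤ) - 11)) ≤ (n : ℤ) * (q - ((i : ℤ) - 11) * ((i : ℤ) - 11))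
        then (F n (s - ((i : ℤ) - 11)) (q - ((i : ℤ) - 11) * ((i : ℤ) - 11))).image (Fin.cons ((i : ℤ) - 11))
        else ∅

def cnt : ℕ → ℤ → ℤ → ℕ
  | 0, s, q => if s = 0 ∧ q = 0 then 1 else 0
  | n + 1, s, q => ∑ i ∈ box,
      if 0 ≤ q - ((i : ℤ) - 11) * ((i : ℤ) - 11) ∧
          (s - ((i : ℤ) - 11)) * (s - ((i : ℤ) - 11)) ≤ (n : ℤ) * (q - ((i : ℤ) - 11) * ((i : ℤ) - 11))
        then cnt n (s - ((i : ℤ) - 11)) (q - ((i : ℤ) - 11) * ((i : ℤ) - 11))
        else 0

lemma card_F : ∀ (n : ℕ) (s q : ℤ), (F n s q).card = cnt n s q := by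
  intro n
  induction n with
  | zero => intro s q; simp only [F, cnt]; split_ifs <;> rfl
  | succ n ih =>
    intro s q
    rw [F, cnt, Finset.card_biUnion]
    · refine Finset.sum_congr rfl fun i _ => ?_
      split_ifs
      · rw [Finset.card_image_of_injective _ (Fin.cons_right_injective _), ih]
      · rfl
    · intro i _ j _ hij
      simp only [Function.onFun, Finset.disjoint_left]
      intro v hv hv'
      have e : ∀ (k : ℕ) (P : Prop) [Decidable P] (T : Finset (Fin n → ℤ)),
          v ∈ (if P then T.image (Fin.cons ((k : ℤ) - 11)) else ∅) → v 0 = (k : ℤ) - 11 := by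
        intro k P _ T h
        split_ifs at h with hP
        · obtain ⟨w, -, rfl⟩ := Finset.mem_image.1 h
          simp
        · simp at h
      have := e i _ _ hv
      have := e j _ _ hv'
      omega

lemma mem_F : ∀ (n : ℕ) (s q : ℤ), q ≤ 121 → ∀ m : Fin n → ℤ,
    m ∈ F n s q ↔ ∑ i, m i = s ∧ ∑ i, m i * m i = q := by
  intro n
  induction n with
  | zero =>
    intro s q _ m
    simp only [F, Finset.univ_eq_empty, Finset.sum_empty]
    split_ifs with h
    · simp [h.1, h.2, Subsingleton.elim m Fin.elim0]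
    · simp only [Finset.notMem_empty, false_iff]
      rintro ⟨rfl, rfl⟩
      exact h ⟨rfl, rfl⟩
  | succ n ih =>
    intro s q hq m
    rw [F, Finset.mem_biUnion]
    constructor
    · rintro ⟨i, _, hm⟩
      split_ifs at hm with h
      · obtain ⟨w, hw, rfl⟩ := Finset.mem_image.1 hm
        have hh := (ih _ _ (by nlinarith) w).1 hw
        simp only [Fin.sum_univ_succ, Fin.cons_zero, Fin.cons_succ]
        constructor <;> linarith [hh.1, hh.2]
      · simp at hm
    · rintro ⟨hs, hsq⟩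
      rw [Fin.sum_univ_succ] at hs hsq
      have hnn : 0 ≤ ∑ i : Fin n, m i.succ * m i.succ :=
        Finset.sum_nonneg fun i _ => mul_self_nonneg _
      have hb : -11 ≤ m 0 ∧ m 0 ≤ 11 := by
        constructor <;> nlinarith
      obtain ⟨i, hi⟩ : ∃ i : ℕ, (i : ℤ) - 11 = m 0 := ⟨(m 0 + 11).toNat, by omega⟩
      refine ⟨i, Finset.mem_range.2 (by omega), ?_⟩
      have hcs : (∑ i : Fin n, m i.succ) ^ 2 ≤ (n : ℤ) * ∑ i : Fin n, (m i.succ) ^ 2 := by
        simpa using sq_sum_le_card_mul_sum_sq (s := (Finset.univ : Finset (Fin n))) (f := fun i => m i.succ)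
      simp only [pow_two] at hcs
      have hc : 0 ≤ q - ((i : ℤ) - 11) * ((i : ℤ) - 11) ∧
          (s - ((i : ℤ) - 11)) * (s - ((i : ℤ) - 11)) ≤ (n : ℤ) * (q - ((i : ℤ) - 11) * ((i : ℤ) - 11)) := by
        rw [hi, show s - m 0 = ∑ i : Fin n, m i.succ by linarith,
          show q - m 0 * m 0 = ∑ i : Fin n, m i.succ * m i.succ by linarith]
        exact ⟨hnn, hcs⟩
      rw [if_pos hc, Finset.mem_image]
      refine ⟨Fin.tail m, (ih _ _ (by nlinarith) _).2 ⟨?_, ?_⟩, ?_⟩
      · simp only [Fin.tail]; rw [hi]; linarith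
      · simp only [Fin.tail]; rw [hi]; linarith
      · rw [hi, Fin.cons_self_tail]

lemma ncard_conic (δ : ℕ) (h8 : δ ≤ 8) :
    {v : DP δ | IsConic v}.ncard = ∑ d ∈ Finset.range 12, cnt δ (3 * (d : ℤ) - 2) ((d : ℤ) * d) := by
  classical
  have heq : {v : DP δ | IsConic v} =
      ((((Finset.range 12).biUnion fun d : ℕ =>
        (F δ (3 * (d : ℤ) - 2) ((d : ℤ) * d)).image (Fin.cons (α := fun _ => ℤ) (d : ℤ))) : Finset (DP δ)) : Set (DP δ)) := by
    ext v
    simp only [Set.mem_ofPred_eq, Finset.coe_biUnion, Set.mem_iUnion, Finset.mem_coe, Finset.mem_image,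
      Finset.mem_range, exists_prop, IsConic, form, canon, Fin.cases_zero, Fin.cases_succ]
    constructor
    · rintro ⟨h1, h2⟩
      simp only [neg_mul, one_mul, Finset.sum_neg_distrib] at h2
      have hcs : (∑ i : Fin δ, v i.succ) ^ 2 ≤ (δ : ℤ) * ∑ i : Fin δ, (v i.succ) ^ 2 := by
        simpa using sq_sum_le_card_mul_sum_sq (s := (Finset.univ : Finset (Fin δ))) (f := fun i => v i.succ)
      simp only [pow_two] at hcs
      have hd : 0 ≤ v 0 ∧ v 0 ≤ 11 := by
        have hδ : (δ : ℤ) ≤ 8 := by exact_mod_cast h8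
        have := mul_self_nonneg (v 0)
        constructor <;> nlinarith
      obtain ⟨d, hd'⟩ : ∃ d : ℕ, (d : ℤ) = v 0 := ⟨(v 0).toNat, by omega⟩
      refine ⟨d, by omega, Fin.tail v, (mem_F _ _ _ (by nlinarith) _).2 ⟨?_, ?_⟩, ?_⟩
      · simp only [Fin.tail]; linarith
      · simp only [Fin.tail]; rw [hd']; linarith
      · rw [hd', Fin.cons_self_tail]
    · rintro ⟨d, hd, w, hw, rfl⟩
      have hd' : (d : ℤ) ≤ 11 := by omega
      obtain ⟨h1, h2⟩ := (mem_F _ _ _ (by nlinarith) _).1 hw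
      simp only [Fin.cons_zero, Fin.cons_succ, neg_mul, one_mul, Finset.sum_neg_distrib]
      constructor <;> linarith
  rw [heq, Set.ncard_coe_finset, Finset.card_biUnion]
  · refine Finset.sum_congr rfl fun d _ => ?_
    rw [Finset.card_image_of_injective _ (Fin.cons_right_injective _), card_F]
  · intro i _ j _ hij
    simp only [Function.onFun, Finset.disjoint_left, Finset.mem_image]
    rintro v ⟨w, -, rfl⟩ ⟨w', -, h⟩
    have := congrFun h 0
    simp at this
    omega

end

open W4c3severiratdp in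
/-- Work in the lattice of vectors (a; b_1, …, b_δ), standing for divisor classes a ℓ − Σ b_i e_i on the
blow-up of the projective plane at δ points written in a standard basis, with intersection form a a'
− Σ b_i b_i' and canonical class K = (−3; −1, …, −1); a conic class is a class Q with Q·Q = 0 and
K·Q = −2. Then the number of conic classes is 2160 for δ = 8, 126 for δ = 7, 27 for δ = 6, 10 for δ
= 5, 5 for δ = 4, 3 for δ = 3 and 2 for δ = 2. -/
theorem result :
    {v : DP 8 | IsConic v}.ncard = 2160 ∧ {v : DP 7 | IsConic v}.ncard = 126 ∧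
      {v : DP 6 | IsConic v}.ncard = 27 ∧ {v : DP 5 | IsConic v}.ncard = 10 ∧
      {v : DP 4 | IsConic v}.ncard = 5 ∧ {v : DP 3 | IsConic v}.ncard = 3 ∧
      {v : DP 2 | IsConic v}.ncard = 2 := by
  refine ⟨?_, ?_, ?_, ?_, ?_, ?_, ?_⟩ <;>
    (rw [Groth.Agent.S15905.ncard_conic _ (by norm_num)]; decide +kernel)

end Groth.Agent.S15905
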