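import Groth.Statements.S15906
import Groth.Agent.L16.SeveriLattice
import Mathlib.Data.Fin.Tuple.Sort

set_option autoImplicit false
open Surf

namespace Groth.Agent.S15906

open W4c3severiratdp in
/-- Work in the lattice of vectors (a; b_1, …, b_δ), standing for divisor classes a ℓ − Σ b_i e_i on the
blow-up of the projective plane at δ points written in a standard basis, with intersection form a a'
− Σ b_i b_i' and canonical class K = (−3; −1, …, −1); a conic class is a class Q with Q·Q = 0 and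
K·Q = −2, an exceptional class (the class of a (−1)-curve) is a class E with E·E = −1 and K·E = −1,
and the Weyl group W_δ is the group of additive automorphisms of the lattice preserving the form and
fixing K. For δ = 8, a class (a; b_1, …, b_8) is a conic class if and only if, up to a permutation
of b_1, …, b_8, it is one of the fifteen vectors (1; 1, 0, 0, 0, 0, 0, 0, 0), (2; 1, 1, 1, 1, 0, 0,
0, 0), (3; 2, 1, 1, 1, 1, 1, 0, 0), (4; 2, 2, 2, 1, 1, 1, 1, 0), (4; 3, 1, 1, 1, 1, 1, 1, 1), (5; 2,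
2, 2, 2, 2, 2, 1, 0), (5; 3, 2, 2, 2, 1, 1, 1, 1), (6; 3, 3, 2, 2, 2, 2, 1, 1), (7; 3, 3, 3, 3, 2,
2, 2, 1), (7; 4, 3, 2, 2, 2, 2, 2, 2), (8; 4, 3, 3, 3, 3, 2, 2, 2), (8; 3, 3, 3, 3, 3, 3, 3, 1), (9;
4, 4, 3, 3, 3, 3, 3, 2), (10; 4, 4, 4, 4, 3, 3, 3, 3), (11; 4, 4, 4, 4, 4, 4, 4, 3). (One line of
the published table is illegible in the available copy; the fifteen vectors here are the complete
solution set of the two defining equations a² = Σ b_i², 3a − Σ b_i = 2.) -/
theorem result (v : DP 8) :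
    IsConic v ↔
      ∃ t ∈ ({![1, 1, 0, 0, 0, 0, 0, 0, 0],
        ![2, 1, 1, 1, 1, 0, 0, 0, 0],
        ![3, 2, 1, 1, 1, 1, 1, 0, 0],
        ![4, 2, 2, 2, 1, 1, 1, 1, 0],
        ![4, 3, 1, 1, 1, 1, 1, 1, 1],
        ![5, 2, 2, 2, 2, 2, 2, 1, 0],
        ![5, 3, 2, 2, 2, 1, 1, 1, 1],
        ![6, 3, 3, 2, 2, 2, 2, 1, 1],
        ![7, 3, 3, 3, 3, 2, 2, 2, 1],
        ![7, 4, 3, 2, 2, 2, 2, 2, 2],
        ![8, 4, 3, 3, 3, 3, 2, 2, 2],
        ![8, 3, 3, 3, 3, 3, 3, 3, 1],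
        ![9, 4, 4, 3, 3, 3, 3, 3, 2],
        ![10, 4, 4, 4, 4, 3, 3, 3, 3],
        ![11, 4, 4, 4, 4, 4, 4, 4, 3]} : Set (DP 8)),
        ∃ σ : Equiv.Perm (Fin 8), v 0 = t 0 ∧ ∀ i : Fin 8, v (σ i).succ = t i.succ := by
  constructor
  · intro hv
    let σ : Equiv.Perm (Fin 8) := Tuple.sort (fun i => -v i.succ)
    let w : DP 8 := Fin.cons (v 0) (fun i => v (σ i).succ)
    have hsort : ∀ i : Fin 7, w i.succ.succ ≤ w i.castSucc.succ := by
      intro i
      have h := Tuple.monotone_sort (fun i => -v i.succ) (show i.castSucc ≤ i.succ from Fin.castSucc_le_succ i)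
      simp only [Function.comp] at h
      simp only [w, Fin.cons_succ]
      exact neg_le_neg_iff.1 h
    have hw : IsConic w := by
      obtain ⟨h1, h2⟩ := hv
      constructor
      · simp only [form, w, Fin.cons_zero, Fin.cons_succ] at h1 ⊢
        rw [Equiv.sum_comp σ (fun i => v i.succ * v i.succ)]; exact h1
      · simp only [form, canon, w, Fin.cons_zero, Fin.cons_succ, Fin.cases_zero, Fin.cases_succ] at h2 ⊢
        rw [Equiv.sum_comp σ (fun i => -1 * v i.succ)]; exact h2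
    let T : List (DP 8) := [![1, 1, 0, 0, 0, 0, 0, 0, 0],
        ![2, 1, 1, 1, 1, 0, 0, 0, 0],
        ![3, 2, 1, 1, 1, 1, 1, 0, 0],
        ![4, 2, 2, 2, 1, 1, 1, 1, 0],
        ![4, 3, 1, 1, 1, 1, 1, 1, 1],
        ![5, 2, 2, 2, 2, 2, 2, 1, 0],
        ![5, 3, 2, 2, 2, 1, 1, 1, 1],
        ![6, 3, 3, 2, 2, 2, 2, 1, 1],
        ![7, 3, 3, 3, 3, 2, 2, 2, 1],
        ![7, 4, 3, 2, 2, 2, 2, 2, 2],
        ![8, 4, 3, 3, 3, 3, 2, 2, 2],
        ![8, 3, 3, 3, 3, 3, 3, 3, 1],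
        ![9, 4, 4, 3, 3, 3, 3, 3, 2],
        ![10, 4, 4, 4, 4, 3, 3, 3, 3],
        ![11, 4, 4, 4, 4, 4, 4, 4, 3]]
    have hT : w ∈ T := Groth.L16.Severi.forall_cl (Or.inl ⟨rfl, rfl⟩) le_rfl
      (fun w : DP 8 => (∀ i : Fin 7, w i.succ.succ ≤ w i.castSucc.succ) → w ∈ T)
      (by decide +kernel) (Groth.L16.Severi.isCl_of_conic hw) hsort
    refine ⟨w, ?_, σ, by simp [w], fun i => by simp [w]⟩
    simpa only [T, List.mem_cons, List.not_mem_nil, or_false, Set.mem_insert_iff, Set.mem_singleton_iff] using hT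
  · rintro ⟨t, ht, σ, h0, hσ⟩
    have hc : IsConic t := by
      simp only [Set.mem_insert_iff, Set.mem_singleton_iff] at ht
      rcases ht with h | h | h | h | h | h | h | h | h | h | h | h | h | h | h <;> subst h <;>
        exact ⟨by decide +kernel, by decide +kernel⟩
    obtain ⟨h1, h2⟩ := hc
    constructor
    · simp only [form] at h1 ⊢
      rw [← Equiv.sum_comp σ (fun i => v i.succ * v i.succ)]
      simpa only [h0, hσ] using h1
    · simp only [form, canon, Fin.cases_zero, Fin.cases_succ] at h2 ⊢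
      rw [← Equiv.sum_comp σ (fun i => -1 * v i.succ)]
      simpa only [h0, hσ] using h2

end Groth.Agent.S15906
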