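import Groth.Statements.S15908
import Groth.Agent.L16.SeveriPairs

set_option autoImplicit false
open Surf

namespace Groth.Agent.S15908

open W4c3severiratdp in
/-- Work in the lattice of vectors (a; b_1, …, b_δ), standing for divisor classes a ℓ − Σ b_i e_i on the
blow-up of the projective plane at δ points written in a standard basis, with intersection form a a'
− Σ b_i b_i' and canonical class K = (−3; −1, …, −1); a conic class is a class Q with Q·Q = 0 and
K·Q = −2, an exceptional class (the class of a (−1)-curve) is a class E with E·E = −1 and K·E = −1,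
and the Weyl group W_δ is the group of additive automorphisms of the lattice preserving the form and
fixing K. For δ = 8 the ordered pairs (Q_1, Q_2) of conic classes with Q_1·Q_2 = 4 form exactly two
W_8-orbits: there are two such pairs that no element of W_8 carries one to the other, and every such
pair is carried by an element of W_8 to one of these two. -/
theorem result :
    ∃ p₁ p₂ q₁ q₂ : DP 8, IsConic p₁ ∧ IsConic p₂ ∧ IsConic q₁ ∧ IsConic q₂ ∧ form p₁ p₂ = 4 ∧ form q₁ q₂ = 4 ∧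
      (¬ ∃ g : DP 8 ≃ₗ[ℤ] DP 8, IsWeyl g ∧ g p₁ = q₁ ∧ g p₂ = q₂) ∧
      ∀ v₁ v₂ : DP 8, IsConic v₁ → IsConic v₂ → form v₁ v₂ = 4 →
        ∃ g : DP 8 ≃ₗ[ℤ] DP 8, IsWeyl g ∧ ((g v₁ = p₁ ∧ g v₂ = p₂) ∨ (g v₁ = q₁ ∧ g v₂ = q₂)) := by
  refine ⟨Groth.L16.Severi.c0 8, Groth.L16.Severi.conRep 8 4, Groth.L16.Severi.c0 8,
    Groth.L16.Severi.conRep4 8, ?_, ?_, ?_, ?_, ?_, ?_, ?_, ?_⟩
  · exact ⟨by decide +kernel, by decide +kernel⟩
  · exact ⟨by decide +kernel, by decide +kernel⟩
  · exact ⟨by decide +kernel, by decide +kernel⟩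
  · exact ⟨by decide +kernel, by decide +kernel⟩
  · decide +kernel
  · decide +kernel
  · rintro ⟨g, -, h1, h2⟩
    let w : DP 8 := Groth.L16.Severi.ofL 8 [3, 1, 1, 1, 1, 1, 1, 1, 0]
    have hw : Groth.L16.Severi.c0 8 + Groth.L16.Severi.conRep 8 4 = w + w := by decide +kernel
    have h3 : Groth.L16.Severi.c0 8 + Groth.L16.Severi.conRep4 8 = g w + g w := by
      rw [← h2]
      nth_rewrite 1 [← h1]
      rw [← map_add, hw, map_add]
    have h4 := congrFun h3 0
    simp only [Pi.add_apply] at h4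
    rw [show Groth.L16.Severi.c0 8 0 = 1 from rfl, show Groth.L16.Severi.conRep4 8 0 = 4 from rfl] at h4
    omega
  · intro v₁ v₂ hv₁ hv₂ hv
    obtain ⟨g, hg, hg1, hg2⟩ := Groth.L16.Severi.pair_normal (by norm_num) le_rfl hv₁ hv₂
    rcases hg2 with hg2 | ⟨-, -, hg2⟩
    · exact ⟨g, hg, Or.inl ⟨hg1, by rw [hg2, hv]⟩⟩
    · exact ⟨g, hg, Or.inr ⟨hg1, hg2⟩⟩

end Groth.Agent.S15908
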