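import Groth.Statements.S15909
import Groth.Agent.L16.SeveriLattice

set_option autoImplicit false
open Surf

namespace Groth.Agent.S15909

open W4c3severiratdp in
/-- Work in the lattice of vectors (a; b_1, …, b_δ), standing for divisor classes a ℓ − Σ b_i e_i on the
blow-up of the projective plane at δ points written in a standard basis, with intersection form a a'
− Σ b_i b_i' and canonical class K = (−3; −1, …, −1); a conic class is a class Q with Q·Q = 0 and
K·Q = −2, an exceptional class (the class of a (−1)-curve) is a class E with E·E = −1 and K·E = −1,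
and the Weyl group W_δ is the group of additive automorphisms of the lattice preserving the form and
fixing K. Let δ = 8 (a del Pezzo surface of degree one) and let L be an exceptional class. If L_1
and L_2 are exceptional classes with L_1·L = L_2·L, then L_1 and L_2 lie in the same orbit of the
stabilizer of L in W_8. -/
theorem result (L L₁ L₂ : DP 8) (hL : IsExc L) (hL₁ : IsExc L₁)
    (hL₂ : IsExc L₂) (h : form L₁ L = form L₂ L) :
    ∃ g : DP 8 ≃ₗ[ℤ] DP 8, IsWeyl g ∧ g L = L ∧ g L₁ = L₂ := by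
  open Groth.L16.Severi in
  obtain ⟨g₀, hg₀, hL0⟩ := exc_to_e8 hL
  have hE : ∀ {x : DP 8}, IsExc x → IsExc (g₀ x) := fun hx => isCl_map (e := 1) (l := 1) hg₀ hx
  obtain ⟨g₁, hg₁, hf₁, hr₁, -⟩ := Groth.L16.Severi.exc_fix_e8 (hE hL₁)
  obtain ⟨g₂, hg₂, hf₂, hr₂, -⟩ := Groth.L16.Severi.exc_fix_e8 (hE hL₂)
  have hk : form (g₀ L₁) Groth.L16.Severi.e8 = form (g₀ L₂) Groth.L16.Severi.e8 := by
    rw [← hL0, hg₀.1, hg₀.1, h]
  refine ⟨((g₀.trans g₁).trans g₂.symm).trans g₀.symm,
    Groth.L16.Severi.isWeyl_trans (Groth.L16.Severi.isWeyl_trans (Groth.L16.Severi.isWeyl_trans hg₀ hg₁)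
      (Groth.L16.Severi.isWeyl_symm hg₂)) (Groth.L16.Severi.isWeyl_symm hg₀), ?_, ?_⟩
  · simp only [LinearEquiv.trans_apply, LinearEquiv.symm_apply_eq]
    rw [hL0, hf₁, hf₂]
  · simp only [LinearEquiv.trans_apply, LinearEquiv.symm_apply_eq]
    rw [hr₁, hr₂, hk]

end Groth.Agent.S15909
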