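import Groth.Statements.S1591
import Groth.Agent.L21.Nodal.NodalMax

set_option autoImplicit false
universe u
open CategoryTheory CategoryTheory.Limits AlgebraicGeometry
open Curves

namespace Groth.Agent.S1591

/-- Let f : X → S be flat and locally of finite presentation. There is a largest open subscheme U of X
on which f is at-worst-nodal of relative dimension one, and its formation commutes with base change:
for every g : S' → S the preimage of U in X ×_S S' is the largest open on which the base change of f
is at-worst-nodal of relative dimension one. -/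
theorem result {X S : Scheme.{u}} (f : X ⟶ S) [Flat f] [LocallyOfFinitePresentation f] :
    ∃ U : X.Opens, (Curv2.IsNodalFamily (U.ι ≫ f) ∧ ∀ V : X.Opens, Curv2.IsNodalFamily (V.ι ≫ f) → V ≤ U) ∧
      ∀ (S' : Scheme.{u}) (g : S' ⟶ S),
        Curv2.IsNodalFamily ((pullback.fst f g ⁻¹ᵁ U).ι ≫ pullback.snd f g) ∧
        ∀ V : (pullback f g).Opens, Curv2.IsNodalFamily (V.ι ≫ pullback.snd f g) → V ≤ pullback.fst f g ⁻¹ᵁ U := by
  refine ⟨Groth.L21.Nodal.nodalLocus f, ⟨Groth.L21.Nodal.isNodalFamily_nodalLocus f,
    fun V hV => Groth.L21.Nodal.le_nodalLocus f hV⟩, fun S' g => ⟨?_, fun V hV v hv => ?_⟩⟩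
  · exact Groth.L21.Nodal.isNodalFamily_of_isPullback
      ((isPullback_morphismRestrict (pullback.fst f g) _).paste_vert (IsPullback.of_hasPullback f g))
      (Groth.L21.Nodal.isNodalFamily_nodalLocus f)
  · obtain ⟨O, hO, hn⟩ := Groth.L21.Nodal.exists_open_isNodalFamily_descend f g V hV v hv
    exact Groth.L21.Nodal.le_nodalLocus f hn hO

end Groth.Agent.S1591
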