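import Groth.Statements.S15910
import Groth.Agent.L16.SeveriLattice

set_option autoImplicit false
open Surf

namespace Groth.Agent.S15910

open W4c3severiratdp in
/-- Work in the lattice of vectors (a; b_1, …, b_δ), standing for divisor classes a ℓ − Σ b_i e_i on the
blow-up of the projective plane at δ points written in a standard basis, with intersection form a a'
− Σ b_i b_i' and canonical class K = (−3; −1, …, −1); a conic class is a class Q with Q·Q = 0 and
K·Q = −2, an exceptional class (the class of a (−1)-curve) is a class E with E·E = −1 and K·E = −1,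
and the Weyl group W_δ is the group of additive automorphisms of the lattice preserving the form and
fixing K. Let δ = 8 and let L be an exceptional class. Let B be the set of unordered triples {λ_1,
λ_2, λ_3} of exceptional classes (repetitions allowed) with λ_1 + λ_2 + λ_3 = −2K + L. Then the
stabilizer of L in W_8 has exactly four orbits on B. Triples are written as maps Fin 3 → lattice and
compared up to reordering: there are four members of B, no two of which are identified by an element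
of the stabilizer followed by a reordering, and every member of B is so identified with one of the
four. -/
theorem result (L : DP 8) (hL : IsExc L) :
    ∃ r : Fin 4 → (Fin 3 → DP 8),
      (∀ j, (∀ i, IsExc (r j i)) ∧ r j 0 + r j 1 + r j 2 = L - 2 • canon 8) ∧
      (∀ j j', (∃ g : DP 8 ≃ₗ[ℤ] DP 8, IsWeyl g ∧ g L = L ∧ ∃ σ : Equiv.Perm (Fin 3), ∀ i, g (r j (σ i)) = r j' i) → j = j') ∧
      ∀ t : Fin 3 → DP 8, (∀ i, IsExc (t i)) → t 0 + t 1 + t 2 = L - 2 • canon 8 →
        ∃ j, ∃ g : DP 8 ≃ₗ[ℤ] DP 8, IsWeyl g ∧ g L = L ∧ ∃ σ : Equiv.Perm (Fin 3), ∀ i, g (t (σ i)) = r j i := by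
  classical
  obtain ⟨g₀, hg₀, hL0⟩ := Groth.L16.Severi.exc_to_e8 hL
  have hS : g₀ (L - 2 • canon 8) = Groth.L16.Severi.e8 - 2 • canon 8 := by
    rw [map_sub, map_nsmul, hL0, hg₀.2]
  let E : DP 8 := Groth.L16.Severi.e8
  let S : DP 8 := E - 2 • canon 8
  let a : ℤ → DP 8 := Groth.L16.Severi.excRep
  let b₀ : DP 8 := Groth.L16.Severi.ofL 8 [1, 1, 0, 0, 0, 0, 0, 1, 0]
  let R : Fin 4 → Fin 3 → DP 8 :=
    ![![E, E, S - E - E], ![E, a 0, S - E - a 0], ![E, a 1, S - E - a 1], ![a 0, b₀, S - a 0 - b₀]]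
  have hR : ∀ j i, IsExc (R j i) := by
    have : ∀ j i, form (R j i) (R j i) = -1 ∧ form (canon 8) (R j i) = -1 := by decide +kernel
    exact this
  have hinv : ∀ j j', (∑ i, form (R j i) E * form (R j i) E) = (∑ i, form (R j' i) E * form (R j' i) E) →
      j = j' := by decide +kernel
  refine ⟨fun j i => g₀.symm (R j i), fun j => ⟨fun i => ?_, ?_⟩, ?_, ?_⟩
  · exact Groth.L16.Severi.isCl_map (e := 1) (l := 1) (Groth.L16.Severi.isWeyl_symm hg₀) (hR j i)
  · rw [← map_add, ← map_add, LinearEquiv.symm_apply_eq, hS]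
    fin_cases j <;> simp [R] <;> (first | rfl | (change _ = S; abel))
  · rintro j j' ⟨g, hg, hgL, σ, hσ⟩
    apply hinv
    have hkey : ∀ j i, form (g₀.symm (R j i)) L = form (R j i) E := fun j i => by
      rw [← hg₀.1, g₀.apply_symm_apply, hL0]
    rw [← Equiv.sum_comp σ]
    refine Finset.sum_congr rfl fun i _ => ?_
    beta_reduce at hσ
    rw [← hkey, ← hkey, ← hσ i]
    conv_rhs => rw [← hgL]
    rw [hg.1]
  · intro t ht htsum
    let u : Fin 3 → DP 8 := fun i => g₀ (t i)
    have hu : ∀ i, IsExc (u i) := fun i => Groth.L16.Severi.isCl_map (e := 1) (l := 1) hg₀ (ht i)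
    have husum : ∀ σ : Equiv.Perm (Fin 3), u (σ 0) + u (σ 1) + u (σ 2) = S := by
      intro σ
      have h1 : ∑ i, u (σ i) = ∑ i, u i := Equiv.sum_comp σ u
      rw [Fin.sum_univ_three, Fin.sum_univ_three] at h1
      rw [h1]
      simp only [u, ← map_add, htsum, hS, S, E]
    suffices h : ∃ j, ∃ g : DP 8 ≃ₗ[ℤ] DP 8, IsWeyl g ∧ g E = E ∧
        ∃ σ : Equiv.Perm (Fin 3), ∀ i, g (u (σ i)) = R j i by
      obtain ⟨j, g, hg, hgE, σ, hσ⟩ := h
      refine ⟨j, (g₀.trans g).trans g₀.symm, Groth.L16.Severi.isWeyl_trans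
        (Groth.L16.Severi.isWeyl_trans hg₀ hg) (Groth.L16.Severi.isWeyl_symm hg₀), ?_, σ, fun i => ?_⟩
      · simp only [LinearEquiv.trans_apply, LinearEquiv.symm_apply_eq, hL0]
        exact hgE
      · simp only [LinearEquiv.trans_apply]
        rw [← hσ i]
    have hSE : form S E = 1 := by decide +kernel
    have hSS : form S S = 7 := by decide +kernel
    have hK : form (canon 8) E = -1 := by decide +kernel
    have hex : ∀ x, IsExc x → -1 ≤ form x E ∧ form x E ≤ 3 ∧ (form x E = -1 → x = E) := by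
      intro x hx
      obtain ⟨g, hg, he, hr, h1, h2⟩ := Groth.L16.Severi.exc_fix_e8 hx
      refine ⟨h1, h2, fun h => g.injective ?_⟩
      rw [hr, he, show form x Groth.L16.Severi.e8 = -1 from h]
      rfl
    -- finishing from two of the three
    have fin : ∀ (σ : Equiv.Perm (Fin 3)) (j : Fin 4) (g : DP 8 ≃ₗ[ℤ] DP 8), IsWeyl g → g E = E →
        g (u (σ 0)) = R j 0 → g (u (σ 1)) = R j 1 →
        ∃ j, ∃ g : DP 8 ≃ₗ[ℤ] DP 8, IsWeyl g ∧ g E = E ∧
          ∃ σ : Equiv.Perm (Fin 3), ∀ i, g (u (σ i)) = R j i := by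
      intro σ j g hg hgE h0 h1
      refine ⟨j, g, hg, hgE, σ, fun i => ?_⟩
      have h2 : u (σ 2) = S - u (σ 0) - u (σ 1) := by rw [← husum σ]; abel
      have hgS : g S = S := by simp only [S, map_sub, map_nsmul, hgE, hg.2]
      fin_cases i
      · exact h0
      · exact h1
      · show g (u (σ 2)) = R j 2
        rw [h2, map_sub, map_sub, h0, h1, hgS]
        fin_cases j <;> simp [R]
    have hksum : ∀ σ : Equiv.Perm (Fin 3),
        form (u (σ 0)) E + form (u (σ 1)) E + form (u (σ 2)) E = 1 := by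
      intro σ
      rw [← Groth.L16.Severi.form_add_left, ← Groth.L16.Severi.form_add_left, husum σ, hSE]
    by_cases hneg : ∃ i, form (u i) E = -1
    · -- L is one of them
      obtain ⟨i₀, hi₀⟩ := hneg
      obtain ⟨σ, hσ0, hσ⟩ : ∃ σ : Equiv.Perm (Fin 3), σ 0 = i₀ ∧
          form (u (σ 1)) E ≤ form (u (σ 2)) E := by
        let σ₁ : Equiv.Perm (Fin 3) := Equiv.swap 0 i₀
        by_cases h : form (u (σ₁ 1)) E ≤ form (u (σ₁ 2)) E
        · exact ⟨σ₁, by simp [σ₁], h⟩
        · refine ⟨(Equiv.swap 1 2).trans σ₁, by simp [σ₁, Equiv.swap_apply_def], ?_⟩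
          simp only [Equiv.trans_apply, Equiv.swap_apply_left, Equiv.swap_apply_right]
          omega
      have hu0 : u (σ 0) = E := (hex _ (hu _)).2.2 (by rw [hσ0, hi₀])
      have hk := hksum σ
      rw [hσ0, hi₀] at hk
      obtain ⟨g, hg, he, hr, -⟩ := Groth.L16.Severi.exc_fix_e8 (hu (σ 1))
      have hlo := (hex _ (hu (σ 1))).1
      rcases (show form (u (σ 1)) E = -1 ∨ form (u (σ 1)) E = 0 ∨ form (u (σ 1)) E = 1 by omega) with
        hk1 | hk1 | hk1
      · exact fin σ 0 g hg he (by rw [hu0]; exact he) (by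
          rw [hr, show form (u (σ 1)) Groth.L16.Severi.e8 = -1 from hk1]; rfl)
      · exact fin σ 1 g hg he (by rw [hu0]; exact he) (by
          rw [hr, show form (u (σ 1)) Groth.L16.Severi.e8 = 0 from hk1]; rfl)
      · exact fin σ 2 g hg he (by rw [hu0]; exact he) (by
          rw [hr, show form (u (σ 1)) Groth.L16.Severi.e8 = 1 from hk1]; rfl)
    · push Not at hneg
      have hge : ∀ i, 0 ≤ form (u i) E := fun i => by
        have := (hex _ (hu i)).1
        have := hneg i
        omega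
      obtain ⟨σ, hσ0, hσ1⟩ : ∃ σ : Equiv.Perm (Fin 3), form (u (σ 0)) E = 0 ∧ form (u (σ 1)) E = 0 := by
        have h := hksum 1
        have h0 := hge 0
        have h1 := hge 1
        have h2 := hge 2
        simp only [Equiv.Perm.coe_one, id_eq] at h
        rcases (show (form (u 0) E = 0 ∧ form (u 1) E = 0) ∨ (form (u 0) E = 0 ∧ form (u 2) E = 0) ∨
            (form (u 2) E = 0 ∧ form (u 1) E = 0) by omega) with ⟨a, b⟩ | ⟨a, b⟩ | ⟨a, b⟩
        · exact ⟨1, a, b⟩
        · exact ⟨Equiv.swap 1 2, by simp [Equiv.swap_apply_def, a], by simp [b]⟩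
        · exact ⟨Equiv.swap 0 2, by simp [a], by simp [Equiv.swap_apply_def, b]⟩
      obtain ⟨g₁, hg₁, he₁, hr₁, -⟩ := Groth.L16.Severi.exc_fix_e8 (hu (σ 0))
      rw [show form (u (σ 0)) Groth.L16.Severi.e8 = 0 from hσ0] at hr₁
      have hab : form (u (σ 0)) (u (σ 1)) = 1 := by
        have h2 : u (σ 2) = S - u (σ 0) - u (σ 1) := by rw [← husum σ]; abel
        have hc := (hu (σ 2)).1
        rw [h2] at hc
        simp only [Groth.L16.Severi.form_sub_left, Groth.L16.Severi.form_sub_right] at hc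
        have hSa : ∀ x, IsExc x → form S x = form x E + 2 := by
          intro x hx
          have h3 := hx.2
          simp only [S, two_nsmul, Groth.L16.Severi.form_sub_left, Groth.L16.Severi.form_add_left]
          rw [Groth.L16.Severi.form_comm E x, h3]; ring
        rw [Groth.L16.Severi.form_comm (u (σ 0)) S, Groth.L16.Severi.form_comm (u (σ 1)) S,
          Groth.L16.Severi.form_comm (u (σ 1)) (u (σ 0)), hSS, hSa _ (hu _), hSa _ (hu _),
          hσ0, hσ1, (hu (σ 0)).1, (hu (σ 1)).1] at hc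
        omega
      have hb : IsExc (g₁ (u (σ 1))) := Groth.L16.Severi.isCl_map (e := 1) (l := 1) hg₁ (hu _)
      obtain ⟨g₂, hg₂, hfix, hP⟩ := Groth.L16.Severi.normalize (Or.inr ⟨rfl, rfl⟩) le_rfl
        (Groth.L16.Severi.roots 8 1 6 true) [Groth.L16.Severi.e8, Groth.L16.Severi.excRep 0]
        (by decide +kernel)
        (fun w => form w Groth.L16.Severi.e8 = 0 → form w (Groth.L16.Severi.excRep 0) = 1 →
          w = Groth.L16.Severi.ofL 8 [1, 1, 0, 0, 0, 0, 0, 1, 0])
        (by decide +kernel) (Groth.L16.Severi.isCl_of_exc hb)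
      have hf1 : g₂ Groth.L16.Severi.e8 = Groth.L16.Severi.e8 := hfix _ (by simp)
      have hf2 : g₂ (Groth.L16.Severi.excRep 0) = Groth.L16.Severi.excRep 0 := hfix _ (by simp)
      refine fin σ 3 (g₁.trans g₂) (Groth.L16.Severi.isWeyl_trans hg₁ hg₂) ?_ ?_ ?_
      · show g₂ (g₁ Groth.L16.Severi.e8) = Groth.L16.Severi.e8
        rw [he₁, hf1]
      · show g₂ (g₁ (u (σ 0))) = Groth.L16.Severi.excRep 0
        rw [hr₁, hf2]
      · show g₂ (g₁ (u (σ 1))) = b₀
        refine hP ?_ ?_
        · rw [← hf1, hg₂.1, ← he₁, hg₁.1]; exact hσ1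
        · rw [← hf2, hg₂.1, ← hr₁, hg₁.1, Groth.L16.Severi.form_comm, hab]

end Groth.Agent.S15910
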