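import Groth.Statements.S15914
import Groth.Agent.L03.SurfAdj.Tools
-- import your own Groth.Agent.* helpers here

set_option autoImplicit false
universe u
open CategoryTheory CategoryTheory.Limits AlgebraicGeometry TopologicalSpace
open Surf

namespace Groth.Agent.S15914

open Groth.L22.Inter Groth.L22.Nef Groth.L22.Big Groth.L03.Euler Groth.L03.SurfNum Groth.L03.SurfAdj
open Groth.L00.Tensor (tensorIso tensorComm tensorUnitLeft tensorUnitRight tensorAssoc)


/-- Let k be an algebraically closed field of characteristic zero and X a smooth surface over k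
(integral, proper and smooth over k of dimension 2) with canonical module W, a second exterior power
of Ω_{X/k}; intersection numbers of invertible modules are (L·M) = χ(O_X) − χ(L) − χ(M) + χ(L ⊗ M),
so that for a closed subscheme C with ideal I_C one has C·C = (I_C·I_C) and K·C = −(I_C·W). If C ⊆ X
is an integral closed one-dimensional subscheme with K·C = −1, that is (I_C·W) = 1, then C·C is odd
and C·C ≥ −1. -/
theorem result (k : Type u) [Field k] [IsAlgClosed k]
    [CharZero k] (X : Scheme.{u}) [X.Over (Spec (CommRingCat.of k))] [IsIntegral X] [IsProper (X ↘ (Spec (CommRingCat.of k)))] [Smooth (X ↘ (Spec (CommRingCat.of k)))]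
    (hdim : topologicalKrullDim X = 2)
    (W : X.Modules) (hW : ExtPow.IsExtPow 2 (Omega.sheaf (X ↘ (Spec (CommRingCat.of k)))) W)
    (C : X.IdealSheafData) (hC : IsIntegral C.subscheme) (hC1 : topologicalKrullDim (C.support : Set X) = 1)
    (hdeg : FGA.intNum k X 2 ![ClSub.idealMod C, W] (Coh.structureModule X) = 1) :
    Odd (FGA.intNum k X 2 ![ClSub.idealMod C, ClSub.idealMod C] (Coh.structureModule X)) ∧
      -1 ≤ FGA.intNum k X 2 ![ClSub.idealMod C, ClSub.idealMod C] (Coh.structureModule X) := by
  haveI := hC
  have hd2 : topologicalKrullDim X = (2 : ℕ) := hdim.trans Nat.cast_ofNat.symm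
  have hreg := reg_of_smooth k (X := X)
  have hI := isInvertible_idealMod k hd2 hreg C hC1
  have hadj := adj_num k hdim hreg hW C hI
  rw [← intNum_eq_ii k hd2.le, ← intNum_eq_ii k hd2.le, hdeg] at hadj
  have hle := (curve_euler k C hC1).1
  have h : 2 * Curv2.euler k X (ClSub.quotMod C) =
      1 - FGA.intNum k X 2 ![ClSub.idealMod C, ClSub.idealMod C] (Coh.structureModule X) := by
    exact_mod_cast hadj
  exact ⟨⟨-Curv2.euler k X (ClSub.quotMod C), by omega⟩, by omega⟩

end Groth.Agent.S15914
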