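import Groth.Statements.S15916
import Groth.Agent.L03.BlowPt.Rational
import Groth.Agent.L03.SurfNum.Decomp
import Groth.Agent.L03.SurfAmple.Exists
import Groth.Agent.L03.SurfAmple.Product
import Groth.Agent.L18.AmpleGG
-- import your own Groth.Agent.* helpers here

set_option autoImplicit false
universe u
open CategoryTheory CategoryTheory.Limits AlgebraicGeometry TopologicalSpace
open Surf

namespace Groth.Agent.S15916

open Groth.L22.Inter Groth.L22.Nef Groth.L22.Big Groth.L03.SurfNum Groth.L03.BlowPt
set_option backward.isDefEq.respectTransparency false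
set_option linter.style.haveILetI false

/-- Let k be an algebraically closed field of characteristic zero and X a smooth projective surface over
k (integral, proper and smooth over k of dimension 2, with a closed immersion over k into some
projective space); intersection numbers of invertible modules are (L·M) = χ(O_X) − χ(L) − χ(M) + χ(L
⊗ M), and for an integral closed one-dimensional subscheme C ⊆ X write (L·C) = χ(O_C ⊗ L) − χ(O_C);
an invertible module is nef when (L·C) ≥ 0 for all such C. Let D be an invertible module generated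
by its global sections, nef, with (D·D) > 0, and let N be a nef invertible module with (D·N) = 0.
Then N is numerically trivial: (N·C) = 0 for every integral curve C ⊆ X. (The published statement
concludes that N is zero in Pic X; on the product of an elliptic curve with the projective line, the
pull-back N of a non-trivial degree-zero class of the elliptic curve is nef, orthogonal to an ample
base-point-free D, and non-zero, while the printed proof establishes numerical triviality, which is
what this row states.) -/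
theorem result (k : Type u) [Field k] [IsAlgClosed k]
    [CharZero k] (X : Scheme.{u}) [X.Over (Spec (CommRingCat.of k))] [IsIntegral X] [IsProper (X ↘ (Spec (CommRingCat.of k)))] [Smooth (X ↘ (Spec (CommRingCat.of k)))]
    (hdim : topologicalKrullDim X = 2)
    (hproj : ∃ (n : ℕ) (ι : X ⟶ CohB1.ProjSpace n k), IsClosedImmersion ι ∧ ι ≫ CohB1.ProjSpace.toSpec n k = (X ↘ (Spec (CommRingCat.of k))))
    (D N : X.Modules) (hDi : PicF.IsInvertible D) (hNi : PicF.IsInvertible N)
    (hDgg : Curv2.IsGloballyGenerated D)
    (hDnef : ∀ C : X.IdealSheafData, IsIntegral C.subscheme → topologicalKrullDim (C.support : Set X) = 1 → 0 ≤ (Curv2.euler k X (CohB1.tensorMod (ClSub.quotMod C) D) - Curv2.euler k X (ClSub.quotMod C)))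
    (hD2 : 0 < FGA.intNum k X 2 ![D, D] (Coh.structureModule X))
    (hNnef : ∀ C : X.IdealSheafData, IsIntegral C.subscheme → topologicalKrullDim (C.support : Set X) = 1 → 0 ≤ (Curv2.euler k X (CohB1.tensorMod (ClSub.quotMod C) N) - Curv2.euler k X (ClSub.quotMod C)))
    (hDN : FGA.intNum k X 2 ![D, N] (Coh.structureModule X) = 0) :
    ∀ C : X.IdealSheafData, IsIntegral C.subscheme → topologicalKrullDim (C.support : Set X) = 1 → (Curv2.euler k X (CohB1.tensorMod (ClSub.quotMod C) N) - Curv2.euler k X (ClSub.quotMod C)) = 0 := by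
  haveI := Groth.L21.RR.isNoetherian_of_proper (X := X) k
  have hd : topologicalKrullDim X = (2 : ℕ) := hdim.trans Nat.cast_ofNat.symm
  have hreg : ∀ x : X, IsRegularLocalRing (X.presheaf.stalk x) := fun z =>
    Groth.L08.Cube.isRegularLocalRing_of_smooth (X ↘ Spec (CommRingCat.of k)) z
  obtain ⟨H, hH⟩ := Groth.L03.SurfAmple.exists_ample_of_smooth k X hdim
  have hDD : 0 < ii k D D := by rw [← intNum_eq_ii k hd.le]; exact_mod_cast hD2
  have hDN' : ii k D N = 0 := by rw [← intNum_eq_ii k hd.le, hDN, Int.cast_zero]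
  -- degrees of `N` on curves are nonnegative
  have hnef : ∀ z : X, topologicalKrullDim (closure ({z} : Set X)) = (1 : ℕ) →
      0 ≤ altT k (fun _ : Fin 1 => N) (ClSub.quotMod (pt z)) := by
    intro z hz
    haveI := isIntegral_pt z
    have h := hNnef (pt z) inferInstance (Ramanujam.dim_support_pt k hd hreg hz)
    rw [altT_one]
    exact_mod_cast h
  have hDH : 0 < ii k D H := by
    obtain ⟨s, hs⟩ := Groth.L18.Ample.exists_genLocus_mem_of_gg hDi hDgg (genericPoint X)
    have hs0 : s ≠ 0 := by
      intro h0
      have hb := bijective_stalk_section s hs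
      rw [h0, Functor.map_zero] at hb
      exact (Groth.L16.CohSupport.len_eq_zero_iff (genericPoint X) (Coh.structureModule X)).not.1
        (by rw [Groth.L22.Nakai.len_structure']; exact one_ne_zero) fun hsub => hsub ⟨fun a b => hb.1 rfl⟩
    rcases ii_effective k hd.le hDi hH s hs0 with h | h
    · exact h
    · exact absurd (h D hDi) hDD.ne'
  intro C hC hCd
  haveI := hC
  set z := C.subschemeι (genericPoint C.subscheme)
  have hz : topologicalKrullDim (closure ({z} : Set X)) = (1 : ℕ) :=
    (dim_support C).symm.trans (hCd.trans Nat.cast_one.symm)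
  have hCI : PicF.IsInvertible (ClSub.idealMod C) := by
    rw [eq_pt C]; exact Rational.inv_of_eff k hd hreg (Ramanujam.isEffCartier_pt k hd hreg hz)
  refine le_antisymm ?_ (hNnef C hC hCd)
  show degOn k C N ≤ 0
  -- a large multiple of `D` minus `C` is effective
  obtain ⟨m, hm1, hm2⟩ : ∃ m : ℕ, 0 < (m : ℚ) ^ 2 * ii k D D + 2 * m * ii k D (ClSub.idealMod C) +
      ii k (ClSub.idealMod C) (ClSub.idealMod C) ∧ 0 < (m : ℚ) * ii k D H + ii k (ClSub.idealMod C) H := by
    obtain ⟨m, hm⟩ := exists_nat_gt (max 1 (max (-ii k (ClSub.idealMod C) H / ii k D H)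
      ((2 * |ii k D (ClSub.idealMod C)| + |ii k (ClSub.idealMod C) (ClSub.idealMod C)|) / ii k D D)))
    rw [max_lt_iff, max_lt_iff, div_lt_iff₀ hDH, div_lt_iff₀ hDD] at hm
    obtain ⟨h1, h2, h3⟩ := hm
    refine ⟨m, ?_, by linarith⟩
    nlinarith [mul_lt_mul_of_pos_left h3 (show (0 : ℚ) < m by linarith),
      mul_le_mul_of_nonneg_left (neg_abs_le (ii k D (ClSub.idealMod C))) (show (0 : ℚ) ≤ m by linarith),
      mul_le_mul_of_nonneg_right h1.le (abs_nonneg (ii k (ClSub.idealMod C) (ClSub.idealMod C))),
      neg_abs_le (ii k (ClSub.idealMod C) (ClSub.idealMod C))]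
  have hDm := Groth.L18.Ample.isInvertible_tensorPow hDi m
  have hZ := Groth.L18.GenLoc.isInvertible_tensor hDm hCI
  have hZZ : 0 < ii k (CohB1.tensorMod (CohB1.tensorPow D m) (ClSub.idealMod C))
      (CohB1.tensorMod (CohB1.tensorPow D m) (ClSub.idealMod C)) := by
    rw [ii_tensor k hd.le hDm hCI hZ, ii_tensor_right k hd.le hDm hDm hCI, ii_tensor_right k hd.le hCI hDm hCI,
      ii_pow k hd.le hDi hDm, ii_pow k hd.le hDi hCI, ii_pow_right k hd.le hDi hDi, ii_pow_right k hd.le hCI hDi,
      ii_comm k (ClSub.idealMod C) D]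
    linarith
  have hZH : 0 < ii k (CohB1.tensorMod (CohB1.tensorPow D m) (ClSub.idealMod C)) H := by
    rw [ii_tensor k hd.le hDm hCI hH.1, ii_pow k hd.le hDi hH.1]; exact hm2
  obtain ⟨e, he, s, hs⟩ := isEff_of_pos k hd.le hZ hH hZZ hZH
  have hZe := Groth.L18.Ample.isInvertible_tensorPow hZ e
  obtain ⟨T, μ, hT, -, hsum⟩ := exists_sum_curves k hd.le hZe s (Groth.L22.CurveAmple.genericPoint_mem_genLocus hZe hs)
  have h0 : 0 ≤ ii k (CohB1.tensorPow (CohB1.tensorMod (CohB1.tensorPow D m) (ClSub.idealMod C)) e) N := by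
    rw [hsum N hNi]
    exact Finset.sum_nonneg fun y hy => mul_nonneg (Nat.cast_nonneg _) (hnef y (hT y hy).1)
  rw [ii_pow k hd.le hZ hNi, ii_tensor k hd.le hDm hCI hNi, ii_pow k hd.le hDi hNi, hDN', mul_zero, zero_add] at h0
  have h1 := (mul_nonneg_iff_of_pos_left (Nat.cast_pos.2 he)).1 h0
  have h2 : (degOn k C N : ℚ) ≤ ((0 : ℤ) : ℚ) := by rw [degOn_cast k hCI hNi, Int.cast_zero]; linarith
  exact_mod_cast h2

end Groth.Agent.S15916
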