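import Groth.Statements.S15921
import Groth.Agent.L21.CurveAdj.Delta

set_option autoImplicit false
set_option backward.isDefEq.respectTransparency false
universe u
open CategoryTheory CategoryTheory.Limits AlgebraicGeometry
attribute [local instance] HasDerivedCategory.standard
open Curves

namespace Groth.Agent.S15921

/-- Let k be an algebraically closed field and X a nodal curve over k (proper over k, of dimension one,
with H^0(X, O_X) = k and at-worst-nodal singularities), ω_X its dualizing module (the degree -1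
cohomology sheaf of f^! O for f : X → Spec k, assuming Rf_* on D_QCoh and its right adjoint exist),
and Y ⊊ X a connected reduced closed subscheme of dimension one (a connected proper subcurve). Let
δ_Y be the number of points of Y lying in the closure of X ∖ Y. Then deg(ω_X|_Y) = -2χ(Y, O_Y) +
δ_Y, that is, 2g_Y - 2 + δ_Y where g_Y = 1 - χ(Y, O_Y). -/
theorem result (k : Type u) [Field k] [IsAlgClosed k] (X : Scheme.{u}) [X.Over (Spec (CommRingCat.of k))] [IsProper (X ↘ (Spec (CommRingCat.of k)))] (hdim : topologicalKrullDim X = 1)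
    (h0 : Module.finrank k (Coh.HH X (Coh.structureModule X) 0) = 1) (hX : Curv2.AtWorstNodal k X)
    [DCoh.HasRpush (X ↘ (Spec (CommRingCat.of k)))] (h : DCoh.RpushPreservesQCoh (X ↘ (Spec (CommRingCat.of k)))) [DCoh.HasShriek (X ↘ (Spec (CommRingCat.of k))) h]
    (OY : DCoh.DQCoh (Spec (CommRingCat.of k))) (hOY : Nonempty (OY.obj ≅ DCoh.inD (Spec (CommRingCat.of k)) (Coh.structureModule (Spec (CommRingCat.of k)))))
    (J : X.IdealSheafData) [IsReduced J.subscheme] [ConnectedSpace J.subscheme]
    (hJ1 : topologicalKrullDim J.subscheme = 1) (hJne : J ≠ ⊥) :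
    @Curv2.deg k _ J.subscheme ⟨J.subschemeι ≫ (X ↘ (Spec (CommRingCat.of k)))⟩ ((Scheme.Modules.pullback J.subschemeι).obj (DCoh.dualizingMod (X ↘ (Spec (CommRingCat.of k))) h OY 1)) 1 =
      -2 * @Curv2.euler k _ J.subscheme ⟨J.subschemeι ≫ (X ↘ (Spec (CommRingCat.of k)))⟩ (Coh.structureModule J.subscheme) +
        (Nat.card ((J.support : Set X) ∩ closure ((J.support : Set X)ᶜ) : Set X) : ℤ) := by
  haveI : IsProper (X ↘ Spec (CommRingCat.of k)) := inferInstance
  obtain ⟨hconn, hred, hgen, hsetup⟩ := Groth.L21.CurveAdj.nodal_setup (k := k) hdim h0 hX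
  obtain ⟨t, ht⟩ := Groth.L21.CurveDual.exists_isRDual k hdim.le h OY hOY
  obtain ⟨S, hinv⟩ := hsetup _ t ht
  haveI := hred
  haveI := hconn
  haveI := Groth.L21.RR.isNoetherian_of_proper (X := X) k
  haveI : IsLocallyNoetherian J.subscheme := LocallyOfFiniteType.isLocallyNoetherian J.subschemeι
  have hgenJ : ∀ y ∈ (J.support : Set X), ∃ w ∈ (J.support : Set X), ¬ IsClosed ({w} : Set X) ∧ w ⤳ y := by
    intro y hy
    rw [← Scheme.IdealSheafData.range_subschemeι] at hy
    obtain ⟨z, rfl⟩ := hy
    obtain ⟨w, hw, hwz⟩ := Groth.L21.CurveDual.exists_nonclosed_gen hJ1 z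
    refine ⟨J.subschemeι w, ?_, fun hc => hw ?_, hwz.map J.subschemeι.continuous⟩
    · rw [← Scheme.IdealSheafData.range_subschemeι]; exact ⟨w, rfl⟩
    · have := hc.preimage J.subschemeι.continuous
      rwa [← Set.image_singleton (f := J.subschemeι),
        Set.preimage_image_eq _ J.subschemeι.isClosedEmbedding.injective] at this
  obtain ⟨d, a, m, ⟨-, -, he, hdeg⟩, -, -, hm, -, -, -, -, -, -⟩ :=
    Groth.L21.CurveAdj.subcurve S hgen hinv J hgenJ
  have hcard := Groth.L21.CurveAdj.h0_inter_eq_card hX hdim.le hgen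
    (Groth.L21.CurveAdj.van_of_isReduced hdim.le J hgenJ)
    (Groth.L21.CurveAdj.van_ker_compl hgen _ J.support.isClosed)
  rw [hm] at hcard
  have hs : ((J ⊔ Groth.L21.CurveAdj.compl J).support : Set X) =
      (J.support : Set X) ∩ closure ((J.support : Set X)ᶜ) := by
    rw [Scheme.IdealSheafData.support_sup, TopologicalSpace.Closeds.coe_inf, Scheme.Hom.support_ker,
      Scheme.Opens.range_ι]
    rfl
  rw [hs] at hcard
  rw [hdeg, he, hcard]
  ring

end Groth.Agent.S15921
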