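import Groth.Statements.S15922
import Groth.Agent.L21.PointIdeal

set_option autoImplicit false
set_option backward.isDefEq.respectTransparency false
universe u
open CategoryTheory CategoryTheory.Limits AlgebraicGeometry
open Curves

namespace Groth.Agent.S15922

/-- Let k be an algebraically closed field, X a curve over k (proper over k, reduced, connected, every
irreducible component of dimension one) and P a closed point of X, with m_P the ideal sheaf of the
reduced point P viewed as an O_X-module. Then m_P is a torsion-free sheaf of rank one and degree -1: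
regular elements of each local ring O_{X,x} act injectively on the stalk of m_P at x, the stalk at
every generic point of an irreducible component has dimension one over the local ring there, and
χ(X, m_P) - χ(X, O_X) = -1. -/
theorem result (k : Type u) [Field k] [IsAlgClosed k] (X : Scheme.{u}) [X.Over (Spec (CommRingCat.of k))] [IsProper (X ↘ (Spec (CommRingCat.of k)))] [IsReduced X] [ConnectedSpace X]
    (hequi : ∀ Z ∈ irreducibleComponents (X : Type u), topologicalKrullDim Z = 1)
    (P : X) (hP : IsClosed ({P} : Set X)) :
    TorSh.IsTorsionFree (ClSub.idealMod (Scheme.IdealSheafData.vanishingIdeal ⟨{P}, hP⟩)) ∧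
    (∀ η : X, closure ({η} : Set X) ∈ irreducibleComponents (X : Type u) →
      Module.finrank (X.presheaf.stalk η) ((ClSub.idealMod (Scheme.IdealSheafData.vanishingIdeal ⟨{P}, hP⟩)).presheaf.stalk η) = 1) ∧
    Curv2.deg k X (ClSub.idealMod (Scheme.IdealSheafData.vanishingIdeal ⟨{P}, hP⟩)) 1 = -1 := by
  haveI := Groth.L21.RR.isNoetherian_of_proper (X := X) k
  have hcl := (Groth.L21.Nodal.curveLike_iff X).2 hequi
  refine ⟨fun y => Groth.L21.PointIdeal.isTorsionFree hP y, fun η hη => ?_, ?_⟩
  · refine Groth.L21.PointIdeal.finrank_of_ne hP fun h => ?_
    obtain ⟨y, hy, hyP⟩ := hcl.2 P hP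
    rw [h] at hη
    have hle : closure ({P} : Set X) ⊆ closure {y} :=
      closure_minimal (Set.singleton_subset_iff.2 hyP.mem_closure) isClosed_closure
    have hmem : y ∈ closure ({P} : Set X) :=
      (hη.2 isIrreducible_singleton.closure hle) (subset_closure rfl)
    rw [hP.closure_eq] at hmem
    exact hy hmem
  · rw [Curv2.deg, show Curv2.euler k X _ = _ from Groth.L21.PointIdeal.euler_eq hP k
      (Groth.L21.Nodal.topologicalKrullDim_le_one_of_curveLike hcl)]
    push_cast
    ring

end Groth.Agent.S15922
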