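import Groth.Statements.S15923
import Groth.Agent.L21.PointIdeal

set_option autoImplicit false
set_option backward.isDefEq.respectTransparency false
set_option linter.style.haveILetI false
universe u
open CategoryTheory CategoryTheory.Limits AlgebraicGeometry
open Curves

namespace Groth.Agent.S15923

attribute [local instance] Curv2.resAlgebra

/-- Let k be an algebraically closed field, X a curve over k (proper over k, reduced, connected, every
irreducible component of dimension one) and P a closed point of X, with m_P the ideal sheaf of the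
reduced point P as an O_X-module. Then m_P is invertible (locally on X isomorphic to the structure
sheaf) exactly when some open neighbourhood of P is smooth over k. -/
theorem result (k : Type u) [Field k] [IsAlgClosed k] (X : Scheme.{u}) [X.Over (Spec (CommRingCat.of k))] [IsProper (X ↘ (Spec (CommRingCat.of k)))] [IsReduced X] [ConnectedSpace X]
    (hequi : ∀ Z ∈ irreducibleComponents (X : Type u), topologicalKrullDim Z = 1)
    (P : X) (hP : IsClosed ({P} : Set X)) :
    PicF.IsInvertible (ClSub.idealMod (Scheme.IdealSheafData.vanishingIdeal ⟨{P}, hP⟩)) ↔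
      ∃ U : X.Opens, P ∈ U ∧ Smooth (U.ι ≫ (X ↘ (Spec (CommRingCat.of k)))) := by
  haveI := Groth.L21.RR.isNoetherian_of_proper (X := X) k
  have hcl := (Groth.L21.Nodal.curveLike_iff X).2 hequi
  rw [Groth.L21.PointIdeal.isInvertible_iff hP]
  obtain ⟨y, hy, hyP⟩ := hcl.2 P hP
  have hge : (1 : WithBot ℕ∞) ≤ ringKrullDim (X.presheaf.stalk P) :=
    (Groth.L18.CurveDim.one_le_dim_stalk_iff P).2 ⟨y, hyP, hy⟩
  have hle : ringKrullDim (X.presheaf.stalk P) ≤ 1 := Groth.L21.Nodal.ringKrullDim_stalk_le_one hcl P
  constructor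
  · rintro ⟨θ⟩
    have hprin : (IsLocalRing.maximalIdeal (X.presheaf.stalk P)).IsPrincipal := by
      refine ⟨⟨(θ.symm 1 : X.presheaf.stalk P), le_antisymm (fun r hr => ?_)
        ((Submodule.span_singleton_le_iff_mem _ _).2 (θ.symm 1).2)⟩⟩
      refine Submodule.mem_span_singleton.2 ⟨θ ⟨r, hr⟩, ?_⟩
      have h := θ.symm.map_smul (θ ⟨r, hr⟩) 1
      rw [smul_eq_mul, mul_one, LinearEquiv.symm_apply_apply] at h
      exact (congrArg Subtype.val h).symm
    haveI : IsRegularLocalRing (X.presheaf.stalk P) := by
      refine IsRegularLocalRing.of_spanFinrank_maximalIdeal_le _ (le_trans ?_ hge)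
      rw [IsLocalRing.spanFinrank_maximalIdeal_eq_finrank_cotangentSpace]
      exact_mod_cast IsLocalRing.finrank_cotangentSpace_le_one_iff.2 hprin
    haveI := Groth.L21.Disc.finite_residueField_of_isClosed k hP
    have hs : Algebra.IsSeparable k (X.residueField P) := inferInstance
    refine ⟨_, Groth.L21.Nodal.mem_smoothLocus_of_regular P hP hs, ?_⟩
    rw [← Scheme.Hom.smoothLocus_eq_top_iff, ← Scheme.Hom.preimage_smoothLocus_eq]
    exact top_le_iff.1 fun w _ => w.2
  · rintro ⟨U, hU, hsm⟩
    haveI := hsm
    haveI := Groth.L21.Nodal.regular_of_mem_smoothLocus (k := k) P hU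
    haveI := Groth.L01.isDomain_of_regular (X.presheaf.stalk P)
    have hprin : (IsLocalRing.maximalIdeal (X.presheaf.stalk P)).IsPrincipal :=
      Groth.L21.SmoothDescent.isPrincipal_of_dim_le_one hle
    obtain ⟨π, hπ⟩ := hprin.principal
    have hπ0 : π ≠ 0 := fun h0 => by
      have hf : IsField (X.presheaf.stalk P) :=
        IsLocalRing.isField_iff_maximalIdeal_eq.2 (by rw [hπ, h0, Submodule.span_singleton_eq_bot.2 rfl])
      rw [ringKrullDim_eq_zero_of_isField hf] at hge
      exact absurd hge (by norm_num)
    exact ⟨(LinearEquiv.ofEq _ _ hπ).trans (LinearEquiv.toSpanNonzeroSingleton _ _ π hπ0).symm⟩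

end Groth.Agent.S15923
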