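import Groth.Statements.S15925
import Groth.Agent.L21.TFNodal.LocalType
import Groth.Agent.L21.TFNodal.GlueIdeal
import Groth.Agent.L21.CurveAdj.Marked
import Groth.Agent.L21.RedCurve.Points
import Groth.Agent.L21.CurveDual.Twist

set_option autoImplicit false
set_option backward.isDefEq.respectTransparency false
set_option linter.style.haveILetI false
universe u
open CategoryTheory CategoryTheory.Limits AlgebraicGeometry
open Curves

namespace Groth.Agent.S15925

open Groth.L10.RelCan (stk)
open Groth.L21.CurveAdj (stI stI_eq_map)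

/-- Off the cosupport the inclusion of the ideal is bijective on stalks. -/
theorem surjective_ι {X : Scheme.{u}} (Z : TopologicalSpace.Closeds X) {x : X} (hx : x ∉ (Z : Set X)) :
    Function.Surjective (stk (ClSub.idealModι (Scheme.IdealSheafData.vanishingIdeal Z)) x) := fun v => by
  obtain ⟨V, hV, hxV, hVZ⟩ := exists_isAffineOpen_mem_and_subset (x := x) (U := ⟨_, Z.isClosed.isOpen_compl⟩) hx
  obtain ⟨r, rfl⟩ := (Groth.L21.RR.bijective_smul_one x).2 v
  refine (Groth.L21.RR.range_st_idealModι _ hV hxV _).2 ⟨r, ?_, rfl⟩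
  have htop : (Scheme.IdealSheafData.vanishingIdeal Z).ideal ⟨V, hV⟩ = ⊤ := by
    rw [Scheme.IdealSheafData.vanishingIdeal_ideal]
    show PrimeSpectrum.vanishingIdeal (hV.fromSpec ⁻¹' (Z : Set X)) = ⊤
    rw [show hV.fromSpec ⁻¹' (Z : Set X) = ∅ from Set.eq_empty_iff_forall_notMem.2 fun q hq => by
      have h1 : hV.fromSpec q ∈ V := by
        have := Set.mem_range_self (f := hV.fromSpec) q
        rwa [hV.range_fromSpec] at this
      exact hVZ h1 hq]
    exact PrimeSpectrum.vanishingIdeal_empty
  rw [htop, Ideal.map_top]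
  exact Submodule.mem_top



/-- Let k be an algebraically closed field, X a nodal curve over k (proper over k, connected, every
irreducible component of dimension one, at-worst-nodal singularities) and L a coherent torsion-free
O_X-module of rank one (regular elements of each local ring act injectively on the stalk; the stalk
at each generic point of an irreducible component has dimension one). Let S be the set of points of
X at which L is not invertible, i.e. which have no open neighbourhood on which L is isomorphic to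
the structure sheaf. Then there is an invertible O_X-module M with L ≅ I_S ⊗ M, where I_S is the
ideal sheaf of the reduced closed subscheme on the closure of S, viewed as an O_X-module. (S is a
finite set of nodes P_1, …, P_m, so I_S ⊗ M is the tensor product m_{P_1} ⊗ ⋯ ⊗ m_{P_m} ⊗ M of the
ideal sheaves of these points with M, which is the published form; existence of an isomorphism
only.) -/
theorem result (k : Type u) [Field k] [IsAlgClosed k] (X : Scheme.{u}) [X.Over (Spec (CommRingCat.of k))] [IsProper (X ↘ (Spec (CommRingCat.of k)))] [ConnectedSpace X]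
    (hequi : ∀ Z ∈ irreducibleComponents (X : Type u), topologicalKrullDim Z = 1) (hX : Curv2.AtWorstNodal k X)
    (L : X.Modules) (hLc : Coh.IsCoh L) (hLt : TorSh.IsTorsionFree L)
    (hrk : ∀ η : X, closure ({η} : Set X) ∈ irreducibleComponents (X : Type u) → Module.finrank (X.presheaf.stalk η) (L.presheaf.stalk η) = 1) :
    ∃ M : X.Modules, PicF.IsInvertible M ∧
      Nonempty (L ≅ CohB1.tensorMod (ClSub.idealMod (Scheme.IdealSheafData.vanishingIdeal
        ⟨closure {P : X | ¬ ∃ U : X.Opens, P ∈ U ∧ Nonempty (L.restrict U.ι ≅ Coh.structureModule (↑U : Scheme.{u}))}, isClosed_closure⟩)) M) := by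
  classical
  haveI := Groth.L21.RR.isNoetherian_of_proper (X := X) k
  haveI := Groth.L21.NormRed.isReduced_of_atWorstNodal k hequi hX
  have hcl : Groth.L21.Nodal.CurveLike X := (Groth.L21.Nodal.curveLike_iff X).2 hequi
  have hd := Groth.L21.Nodal.topologicalKrullDim_le_one_of_curveLike hcl
  obtain ⟨P, -⟩ := Groth.L21.CurveDual.nonempty_pol (k := k) hd ∅ Set.finite_empty
  have hgen : ∀ y : X, ¬ IsClosed ({y} : Set X) →
      Nonempty (L.presheaf.stalk y ≃ₗ[X.presheaf.stalk y] X.presheaf.stalk y) := fun y hy => by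
    have hf := Groth.L21.TFNodal.isField_of_not_isClosed hcl hy
    have hmem : y ∈ genericPoints X := Groth.L15.TFCurve.mem_genericPoints_of_forall fun z hz => by
      obtain ⟨w, hw, hne⟩ : ∃ w, y ⤳ w ∧ y ≠ w := by
        by_contra hh
        push Not at hh
        exact hy (isClosed_of_closure_subset fun w hw => (hh w (specializes_iff_mem_closure.2 hw)).symm)
      exact (hcl.1 z y w hz hw).resolve_right hne
    have h1 := hrk y hmem
    letI := hf.toField
    haveI : Module.Finite (X.presheaf.stalk y) (L.presheaf.stalk y) := Groth.L19.SupportPullback.finite_stalk L hLc y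
    exact ⟨(Module.finBasisOfFinrankEq _ _ h1).equivFun.trans (LinearEquiv.funUnique (Fin 1) _ _)⟩
  set S : Set X := {P : X | ¬ ∃ U : X.Opens, P ∈ U ∧
    Nonempty (L.restrict U.ι ≅ Coh.structureModule (↑U : Scheme.{u}))}
  have hO := Groth.L16.CohClosedPush.isCoh_structure (X := X)
  have hfree : ∀ x : X, Nonempty (L.presheaf.stalk x ≃ₗ[X.presheaf.stalk x] X.presheaf.stalk x) → x ∉ S :=
    fun x ⟨e⟩ h => by
      obtain ⟨V, hxV, -, ⟨i⟩⟩ := Groth.L21.Mod.exists_iso_restrict_of_stalk hLc hO
        (e.trans (Groth.L15.Ref.strE x)) (U₀ := ⊤) trivial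
      exact h ⟨V, hxV, ⟨i ≪≫ (Scheme.Modules.restrictFunctorIsoPullback V.ι).app _ ≪≫
        Groth.L29.LocFree.pullbackUnitIso V.ι⟩⟩
  have hSc : IsClosed S := by
    rw [← isOpen_compl_iff, isOpen_iff_forall_mem_open]
    intro x hx
    obtain ⟨U, hxU, hU⟩ := not_not.1 hx
    exact ⟨U, fun y hy h => h ⟨U, hy, hU⟩, U.2, hxU⟩
  have hSpts : ∀ x ∈ S, IsClosed ({x} : Set X) := fun x hx => by
    by_contra h
    exact hfree x (hgen x h) hx
  have hSfin : S.Finite := Groth.L21.TFNodal.Lat.finite_of_closed_points hSc hSpts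
  obtain ⟨m, φ, hφ, hφb⟩ := Groth.L21.TFNodal.exists_mono_avoid k hcl P.ample hLc hLt hgen ∅ Set.finite_empty
    fun y hy => absurd hy id
  let Z : TopologicalSpace.Closeds X := ⟨closure S, isClosed_closure⟩
  have hZ : (Z : Set X) = S := hSc.closure_eq
  let J := Scheme.IdealSheafData.vanishingIdeal Z
  have hI : Coh.IsCoh (ClSub.idealMod J) := Groth.L21.RR.isCoh_idealMod J
  have hloc : ∀ x ∈ S, Nonempty ((ClSub.idealMod J).presheaf.stalk x ≃ₗ[X.presheaf.stalk x] L.presheaf.stalk x) :=
    fun x hx => by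
      obtain ⟨M, a, ha, haz, ⟨e⟩⟩ := Groth.L21.TFNodal.exists_ideal_equiv hLc
        (Groth.L18.Ample.isInvertible_tensorPow P.ample.1 m) φ (fun y hy => hφb y (Or.inl fun hc => by
          obtain ⟨r, hrm, hr⟩ := Groth.L21.TFNodal.exists_regular hcl hc
          letI := hy.toField
          exact hrm (isUnit_iff_ne_zero.2 (nonZeroDivisors.ne_zero hr)))) x
      rcases Groth.L21.TFNodal.free_or_equiv_maximalIdeal k hequi hX (hSpts x hx) M ha haz with hθ | hθ
      · exact absurd hx (hfree x ⟨e.trans hθ.some⟩)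
      · obtain ⟨η⟩ := Groth.L21.RedCurve.Pts.nonempty_idealMod_stalk_equiv J x
        have hst : stI J x = IsLocalRing.maximalIdeal (X.presheaf.stalk x) := by
          have h := Groth.L21.CurveAdj.stI_vanishingIdeal_finite (D := closure S) isClosed_closure
            (by rw [hSc.closure_eq]; exact hSfin) (fun y hy => hSpts y (hSc.closure_eq ▸ hy))
            (x := x) (subset_closure hx)
          exact h
        exact ⟨(η.trans (LinearEquiv.ofEq _ _ hst)).trans (hθ.some.symm.trans e.symm)⟩
  have hsep : ∀ x : S, IsClosed (S \ {x.1}) := fun x => by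
    rw [show S \ {x.1} = ⋃ y ∈ S \ {x.1}, ({y} : Set X) from (Set.biUnion_of_singleton _).symm]
    exact hSfin.sdiff.isClosed_biUnion fun y hy => hSpts y hy.1
  choose V hxV hVsub f f' hf hf' using fun x : S => Groth.L21.Mod.exists_sec_of_stalk hI hLc
    (hloc x.1 x.2).some (U₀ := ⟨_, (hsep x).isOpen_compl⟩) (fun h => h.2 rfl)
  refine Groth.L21.TFNodal.Glue.exists_iso_tensor (ClSub.idealModι J) (U := ⟨Sᶜ, hSc.isOpen_compl⟩) ?_ ?_ V
    (fun x hx => ⟨⟨x, not_not.1 hx⟩, hxV _⟩) (fun s t hst y hy => ?_) f fun s W h => ?_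
  · intro W hW
    haveI : Mono (ClSub.idealModι J) := inferInstanceAs (Mono (kernel.ι _))
    exact Groth.L15.Ref.app_bijective_of_stalk _ fun y hy =>
      ⟨(Groth.L21.Mod.mono_iff_stalk_injective (ClSub.idealModι J)).1 inferInstance y,
        surjective_ι Z fun h => hW hy (hZ ▸ h)⟩
  · intro y hy
    obtain ⟨W, hyW, ⟨i⟩⟩ := not_not.1 hy
    obtain ⟨e, he⟩ := Groth.L21.Extend.exists_gen_of_iso L i
    exact ⟨W, hyW, fun z hz h => h ⟨W, hz, ⟨i⟩⟩, e, he⟩
  · intro hyS
    exact hVsub s hy.1 ⟨hyS, fun h => hVsub t hy.2 ⟨hyS, fun h' => hst (Subtype.ext (h.symm.trans h'))⟩⟩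
  · exact ⟨fun a b hab => by rw [← hf s W h a, hab, hf s W h b], fun b => ⟨_, hf' s W h b⟩⟩

end Groth.Agent.S15925
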