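import Groth.Statements.S15926
import Groth.Agent.L21.TFNodal.RankOne
import Groth.Agent.L21.NormRed.Nodal
import Groth.Agent.L21.CurveDual.Twist
import Groth.Agent.L15.TFCurve.Basic

set_option autoImplicit false
set_option backward.isDefEq.respectTransparency false
set_option linter.style.haveILetI false
universe u
open CategoryTheory CategoryTheory.Limits AlgebraicGeometry
open Curves

namespace Groth.Agent.S15926

/-- Let k be an algebraically closed field, X a nodal curve over k (proper over k, connected, every
irreducible component of dimension one, at-worst-nodal singularities), and L, M coherent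
torsion-free O_X-modules of rank one (regular elements of each local ring act injectively on the
stalk; the stalk at each generic point of an irreducible component has dimension one) such that
every point of X has an open neighbourhood on which L or M is isomorphic to the structure sheaf (M
is invertible wherever L is not). Then deg(L ⊗ M) = deg(L) + deg(M), degrees of rank-one sheaves
being χ(X, −) − χ(X, O_X). (L ⊗ M is again torsion-free of rank one; that clause is not part of this
statement.) -/
theorem result (k : Type u) [Field k] [IsAlgClosed k] (X : Scheme.{u}) [X.Over (Spec (CommRingCat.of k))] [IsProper (X ↘ (Spec (CommRingCat.of k)))] [ConnectedSpace X]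
    (hequi : ∀ Z ∈ irreducibleComponents (X : Type u), topologicalKrullDim Z = 1) (hX : Curv2.AtWorstNodal k X)
    (L M : X.Modules) (hLc : Coh.IsCoh L) (hMc : Coh.IsCoh M) (hLt : TorSh.IsTorsionFree L) (hMt : TorSh.IsTorsionFree M)
    (hLr : ∀ η : X, closure ({η} : Set X) ∈ irreducibleComponents (X : Type u) → Module.finrank (X.presheaf.stalk η) (L.presheaf.stalk η) = 1)
    (hMr : ∀ η : X, closure ({η} : Set X) ∈ irreducibleComponents (X : Type u) → Module.finrank (X.presheaf.stalk η) (M.presheaf.stalk η) = 1)
    (hLM : ∀ P : X, (∃ U : X.Opens, P ∈ U ∧ Nonempty (L.restrict U.ι ≅ Coh.structureModule (↑U : Scheme.{u}))) ∨ (∃ U : X.Opens, P ∈ U ∧ Nonempty (M.restrict U.ι ≅ Coh.structureModule (↑U : Scheme.{u})))) :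
    Curv2.deg k X (CohB1.tensorMod L M) 1 = Curv2.deg k X L 1 + Curv2.deg k X M 1 := by
  classical
  haveI := Groth.L21.RR.isNoetherian_of_proper (X := X) k
  haveI := Groth.L21.NormRed.isReduced_of_atWorstNodal k hequi hX
  have hcl : Groth.L21.Nodal.CurveLike X := (Groth.L21.Nodal.curveLike_iff X).2 hequi
  have hd := Groth.L21.Nodal.topologicalKrullDim_le_one_of_curveLike hcl
  obtain ⟨P, -⟩ := Groth.L21.CurveDual.nonempty_pol (k := k) hd ∅ Set.finite_empty
  have hgen : ∀ (N : X.Modules), Coh.IsCoh N →
      (∀ η : X, closure ({η} : Set X) ∈ irreducibleComponents (X : Type u) →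
        Module.finrank (X.presheaf.stalk η) (N.presheaf.stalk η) = 1) →
      ∀ y : X, ¬ IsClosed ({y} : Set X) →
        Nonempty (N.presheaf.stalk y ≃ₗ[X.presheaf.stalk y] X.presheaf.stalk y) := fun N hN hr y hy => by
    have hf := Groth.L21.TFNodal.isField_of_not_isClosed hcl hy
    have hmem : y ∈ genericPoints X := Groth.L15.TFCurve.mem_genericPoints_of_forall fun z hz => by
      obtain ⟨w, hw, hne⟩ : ∃ w, y ⤳ w ∧ y ≠ w := by
        by_contra hh
        push Not at hh
        exact hy (isClosed_of_closure_subset fun w hw => (hh w (specializes_iff_mem_closure.2 hw)).symm)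
      exact (hcl.1 z y w hz hw).resolve_right hne
    have h1 := hr y hmem
    letI := hf.toField
    haveI : Module.Finite (X.presheaf.stalk y) (N.presheaf.stalk y) := Groth.L19.SupportPullback.finite_stalk N hN y
    exact ⟨(Module.finBasisOfFinrankEq _ _ h1).equivFun.trans (LinearEquiv.funUnique (Fin 1) _ _)⟩
  have key := Groth.L21.TFNodal.euler_tensor_add k hcl P.ample hLc hMc hLt hMt (hgen L hLc hLr) (hgen M hMc hMr)
    fun y => (hLM y).imp (fun ⟨U, hy, ⟨i⟩⟩ => Groth.L21.TFNodal.exists_stalk_equiv_of_restrict i hy) id
  simp only [Curv2.deg]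
  push_cast
  linarith

end Groth.Agent.S15926
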