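
import Groth.Statements.S15928
import Groth.Agent.L22.BM.Exact

set_option autoImplicit false
universe u
open CategoryTheory AlgebraicGeometry Opposite
open BMCoh

namespace Groth.Agent.S15928

/-- Let T be a twisted Borel–Moore cohomology theory with coefficients in A (a full subcategory of
R-modules containing R) on a constructible class V of Noetherian schemes, X an object of V, M a
coefficient module, j a natural number and i, n, i', n' integers with i' = i + 1 − 2(j + 1) and n' =
n − (j + 1), equivalently i + 1 = i' + 2(j + 1) and n = n' + (j + 1) (both forms are carried as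
hypotheses); H^i(F_kX, M(n)) denotes the colimit of H^i(U, M(n)) over the open subschemes U of X
containing every point of codimension at most k (codimension of a point = dim X minus the dimension
of its closure), and H^i(x, M(n)) the group of a point x (colimit over the nonempty opens of its
reduced closure). Let Q be residue data for X at level j (maps ∂_x : H^i(F_jX, M(n)) → H^{i'}(x,
M(n')) for the points x of codimension j + 1, agreeing with the residue maps of the Gysin sequences
of decompositions, with finitely supported values) and P push-forward data for X at level j + 1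
(maps ι_x : H^{i'}(x, M(n')) → H^{i+1}(F_{j+1}X, M(n)) for the same points, agreeing with proper
push-forward along pieces of the closure of x). Then the sequence H^i(F_jX, M(n)) → ⊕_x H^{i'}(x,
M(n')) → H^{i+1}(F_{j+1}X, M(n)), the total residue map ∂ followed by the total push-forward ι_*, is
exact: the image of ∂ is the kernel of ι_*. -/
theorem result (V : ObjectProperty Scheme.{u}) [BMCoh.IsConstructible V] (R : Type u) [CommRing R] (A : BMCoh.Coefs R) (T : BMCoh.TheoryOn V R A) (X : BMCoh.Obj V) (j : ℕ) (Q : T.ResData X j) (P : T.PushData X (j + 1)) (M : A.Cat) (i n i' n' : ℤ) (hi : i' = i + 1 - 2 * ((j : ℤ) + 1)) (hn : n' = n - ((j : ℤ) + 1)) (hi2 : i + 1 = i' + 2 * ((j + 1 : ℕ) : ℤ)) (hn2 : n = n' + ((j + 1 : ℕ) : ℤ)) : Function.Exact (Q.tot M i n i' n' hi hn).hom (P.tot M i' n' (i + 1) n hi2 hn2).hom := by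
  exact Groth.L22.BM.exact_resTot_pushTot Q P hi hn hi2 hn2

end Groth.Agent.S15928
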