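
import Groth.Statements.S15929
import Groth.Agent.L22.BM.Exact

set_option autoImplicit false
universe u
open CategoryTheory AlgebraicGeometry Opposite
open BMCoh

namespace Groth.Agent.S15929

/-- Let T be a twisted Borel–Moore cohomology theory with coefficients in A (a full subcategory of
R-modules containing R) on a constructible class V of Noetherian schemes, X an object of V, M a
coefficient module, j a natural number and i, n, i', n' integers with i' = i + 2(j + 1) and n' = n +
(j + 1); H^i(F_kX, M(n)) denotes the colimit of H^i(U, M(n)) over the open subschemes U of X
containing every point of codimension at most k (codimension of a point = dim X minus the dimension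
of its closure), and H^i(x, M(n)) the group of a point x (colimit over the nonempty opens of its
reduced closure). Let P be push-forward data for X at level j + 1: for every point x of codimension
j + 1 a map ι_x : H^i(x, M(n)) → H^{i'}(F_{j+1}X, M(n')), agreeing with proper push-forward along
every piece of the closure of x that is closed in an open containing the points of codimension at
most j + 1. Then the sequence ⊕_x H^i(x, M(n)) → H^{i'}(F_{j+1}X, M(n')) → H^{i'}(F_jX, M(n')), the
total push-forward ι_* over the points of codimension j + 1 followed by restriction, is exact: the
image of ι_* is the kernel of the restriction map. -/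
theorem result (V : ObjectProperty Scheme.{u}) [BMCoh.IsConstructible V] (R : Type u) [CommRing R] (A : BMCoh.Coefs R) (T : BMCoh.TheoryOn V R A) (X : BMCoh.Obj V) (j : ℕ) (P : T.PushData X (j + 1)) (M : A.Cat) (i n i' n' : ℤ) (hi : i' = i + 2 * ((j + 1 : ℕ) : ℤ)) (hn : n' = n + ((j + 1 : ℕ) : ℤ)) : Function.Exact (P.tot M i n i' n' hi hn).hom ((T.fjRes X (Nat.le_succ j) i' n').app M).hom := by
  exact Groth.L22.BM.exact_pushTot_fjRes P hi hn

end Groth.Agent.S15929
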