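import Groth.Statements.S1593
import Groth.Agent.L21.Nodal.EtaleLocal

set_option autoImplicit false
universe u
open CategoryTheory CategoryTheory.Limits AlgebraicGeometry
open Curves

namespace Groth.Agent.S1593

/-- Being an at-worst-nodal family of curves is étale local on the source: let f : X → S be a morphism
and g_i : U_i → X a jointly surjective family of étale morphisms. If every composite g_i ≫ f is
at-worst-nodal of relative dimension one, then so is f. -/
theorem result {X S : Scheme.{u}} (f : X ⟶ S) (ι : Type u) (U : ι → Scheme.{u})
    (g : ∀ i, U i ⟶ X) [∀ i, Etale (g i)] (hsurj : ∀ x : X, ∃ i, x ∈ Set.range (g i).base)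
    (h : ∀ i, Curv2.IsNodalFamily (g i ≫ f)) : Curv2.IsNodalFamily f := by
  exact Groth.L21.Nodal.of_etale_cover f U g hsurj h

end Groth.Agent.S1593
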