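import Groth.Prelude.Def_Canon
import Groth.Prelude.Def_RedSub
import Groth.Prelude.Def_FlatMod2
import Groth.Prelude.Def_CohB1
import Mathlib.AlgebraicGeometry.Morphisms.Smooth
import Mathlib.AlgebraicGeometry.Geometrically.Connected
import Mathlib.AlgebraicGeometry.Noetherian
import Mathlib.AlgebraicGeometry.Modules.Sheaf
import Mathlib.AlgebraicGeometry.Pullbacks
import Groth.Agent.L02.Canon.Pushforward

set_option autoImplicit false
namespace Canon
end Canon
universe u
open CategoryTheory CategoryTheory.Limits AlgebraicGeometry
open Canon

namespace Groth.Agent.S15938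

/-- Let S be a locally Noetherian scheme, f : X ⟶ S locally projective and smooth of relative dimension
n with non-empty geometrically connected fibres, ω an n-th exterior power of the relative
differentials (the relative canonical sheaf K_{X/S}), and m ≥ 1 such that the evaluation map f^* f_*
K^{⊗m} ⟶ K^{⊗m} is an isomorphism. Then the formation of f_* K^{⊗m} commutes with base change: for
every morphism g : S′ ⟶ S with S′ locally Noetherian, writing f′ : X ×_S S′ ⟶ S′ and g′ : X ×_S S′ ⟶
X for the projections, the base-change morphism g^* f_* K^{⊗m} ⟶ f′_* g′^* K^{⊗m} (adjoint to g′^*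
of the evaluation map, through the canonical identifications of iterated pullbacks) is an
isomorphism. (The published statement has f projective and smooth, of possibly varying relative
dimension; this row takes f locally projective of constant relative dimension n and base changes by
locally Noetherian schemes.) -/
theorem result
    {X S : Scheme.{u}} [IsLocallyNoetherian S] (f : X ⟶ S)
    (hproj : RedSub.IsLocallyProjective (Over.mk f))
    (n : ℕ) [SmoothOfRelativeDimension n f] [GeometricallyConnected f]
    (ω : X.Modules) (hω : Canon.IsTopDiff f n ω) (m : ℕ) (hm : 1 ≤ m)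
    (hev : IsIso ((Scheme.Modules.pullbackPushforwardAdjunction f).counit.app (CohB1.tensorPow ω m)))
    {S' : Scheme.{u}} [IsLocallyNoetherian S'] (g : S' ⟶ S) :
    IsIso (((Scheme.Modules.pullbackPushforwardAdjunction (pullback.snd f g)).homEquiv _ _)
      ((Scheme.Modules.pullbackComp (pullback.snd f g) g).hom.app _ ≫
        (Scheme.Modules.pullbackCongr (pullback.condition (f := f) (g := g))).inv.app _ ≫
        (Scheme.Modules.pullbackComp (pullback.fst f g) f).inv.app _ ≫
        (Scheme.Modules.pullback (pullback.fst f g)).map
          ((Scheme.Modules.pullbackPushforwardAdjunction f).counit.app (CohB1.tensorPow ω m)))) := by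
  haveI := Groth.L02.Canon.isProper_of_isLocallyProjective hproj
  haveI : Smooth f := SmoothOfRelativeDimension.smooth (n := n) f
  haveI := Groth.Agent.AV.geometricallyReduced_of_smooth f
  have hL := Groth.L02.Canon.isInvertible_pluri hω m
  haveI := hev
  have hF : PicF.IsInvertible ((Scheme.Modules.pushforward f).obj (CohB1.tensorPow ω m)) := fun s => by
    obtain ⟨U, hs, ⟨i⟩⟩ := Groth.L02.Canon.isFinLocFreeOfRank_one_pushforward f _ hL s
    exact ⟨U, hs, ⟨i ≪≫ coproductUniqueIso _⟩⟩
  haveI := Groth.L02.Canon.isIso_unit_of_isInvertible (pullback.snd f g)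
    (Groth.L02.Canon.bijective_app _) _ (Groth.L18.Ample.isInvertible_pullback g hF)
  rw [Adjunction.homEquiv_unit]
  infer_instance

end Groth.Agent.S15938
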