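import Groth.Statements.S15939
import Mathlib.Algebra.DualNumber
import Mathlib.FieldTheory.KummerPolynomial
import Mathlib.FieldTheory.PurelyInseparable.Basic
import Mathlib.FieldTheory.SeparableClosure
import Mathlib.RingTheory.Artinian.Module
import Mathlib.RingTheory.SimpleModule.Basic
import Mathlib.RingTheory.AdjoinRoot
import Mathlib.RingTheory.Algebraic.Integral

set_option autoImplicit false
universe u
open CAlg

namespace Groth.Agent.S15939

open Polynomial in
/-- Let κ be a field and A a commutative κ-algebra whose only κ-subalgebras are the image of κ and A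
itself, these two being different. Then A is finite-dimensional over κ, and A is isomorphic as a
κ-algebra to the dual numbers over κ, or to κ × κ, or A is a field which is either separable over κ
or isomorphic to κ[X]/(X^p - a) with p the (positive) characteristic of κ and a an element of κ that
is not a p-th power. (The published statement also records that these four cases exclude one
another; that part is not restated.) -/
theorem result (κ A : Type u) [Field κ] [CommRing A] [Algebra κ A]
    (h : IsSimpleOrder (Subalgebra κ A)) :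
    FiniteDimensional κ A ∧
    (Nonempty (A ≃ₐ[κ] DualNumber κ) ∨ Nonempty (A ≃ₐ[κ] (κ × κ)) ∨
      (IsField A ∧ (Algebra.IsSeparable κ A ∨
        ∃ (p : ℕ) (a : κ), p.Prime ∧ CharP κ p ∧ (∀ b : κ, b ^ p ≠ a) ∧
          Nonempty (A ≃ₐ[κ] AdjoinRoot (X ^ p - C a))))) := by
  classical
  have hgen : ∀ a : A, a ∉ (⊥ : Subalgebra κ A) → Algebra.adjoin κ ({a} : Set A) = ⊤ := fun a ha =>
    (h.eq_bot_or_eq_top _).resolve_left fun e => ha (e ▸ Algebra.self_mem_adjoin_singleton κ a)
  obtain ⟨a, ha⟩ : ∃ a : A, a ∉ (⊥ : Subalgebra κ A) := by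
    by_contra hc
    push Not at hc
    exact h.bot_ne_top (top_unique fun x _ => hc x)
  haveI : Nontrivial A := by
    rcases subsingleton_or_nontrivial A with hs | hs
    · exact absurd (Subsingleton.elim a 0 ▸ zero_mem (⊥ : Subalgebra κ A)) ha
    · exact hs
  have hinj : Function.Injective (algebraMap κ A) := (algebraMap κ A).injective
  have halg : IsAlgebraic κ a := by
    by_contra htr
    have htr' : Transcendental κ a := htr
    rw [transcendental_iff] at htr'
    have ha2 : a ^ 2 ∉ (⊥ : Subalgebra κ A) := fun hm => by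
      obtain ⟨c, hc⟩ := Algebra.mem_bot.1 hm
      have := htr' (X ^ 2 - C c) (by simp [hc])
      exact X_pow_sub_C_ne_zero (by norm_num) c this
    have hmem : a ∈ Algebra.adjoin κ ({a ^ 2} : Set A) := by rw [hgen _ ha2]; trivial
    rw [Algebra.adjoin_singleton_eq_range_aeval] at hmem
    obtain ⟨q, hq⟩ := hmem
    have h1 := htr' (q.comp (X ^ 2) - X) (by simpa [aeval_comp] using sub_eq_zero.2 hq)
    have h2 := congrArg natDegree (sub_eq_zero.1 h1)
    rw [natDegree_comp, natDegree_X_pow, natDegree_X] at h2
    omega
  haveI hfin : FiniteDimensional κ A := by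
    have := halg.isIntegral.fg_adjoin_singleton
    rw [hgen a ha] at this
    exact ⟨by simpa using this⟩
  refine ⟨hfin, ?_⟩
  by_cases hred : IsReduced A
  · haveI : IsArtinianRing A := IsArtinianRing.of_finite κ A
    by_cases hfld : IsField A
    · refine Or.inr (Or.inr ⟨hfld, ?_⟩)
      by_cases hsep : Algebra.IsSeparable κ A
      · exact Or.inl hsep
      right
      letI := hfld.toField
      obtain ⟨p, hchar⟩ := CharP.exists κ
      haveI := hchar
      have hp : p.Prime := by
        rcases CharP.char_is_prime_or_zero κ p with hp | rfl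
        · exact hp
        · haveI := CharP.charP_to_charZero κ
          exact absurd (inferInstance : Algebra.IsSeparable κ A) hsep
      haveI : Fact p.Prime := ⟨hp⟩
      haveI : ExpChar κ p := ExpChar.prime hp
      have hS : separableClosure κ A = ⊥ := by
        rcases h.eq_bot_or_eq_top (separableClosure κ A).toSubalgebra with e | e
        · exact IntermediateField.toSubalgebra_injective (e.trans IntermediateField.bot_toSubalgebra.symm)
        · exfalso
          refine hsep ⟨fun x => ?_⟩
          have hx : x ∈ (separableClosure κ A).toSubalgebra := by rw [e]; trivial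
          exact mem_separableClosure_iff.1 hx
      haveI : IsPurelyInseparable κ A := separableClosure.eq_bot_iff.1 hS
      obtain ⟨m, hm⟩ := IsPurelyInseparable.pow_mem κ p a
      have hex : ∃ b : A, b ∉ (⊥ : Subalgebra κ A) ∧ b ^ p ∈ (⊥ : Subalgebra κ A) := by
        clear hgen halg
        induction m generalizing a with
        | zero => exact absurd (Algebra.mem_bot.2 (by simpa using hm)) ha
        | succ m ih =>
          by_cases hap : a ^ p ∈ (⊥ : Subalgebra κ A)
          · exact ⟨a, ha, hap⟩
          · exact ih (a ^ p) hap (by rwa [← pow_mul, ← pow_succ'])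
      obtain ⟨b, hb, hbp⟩ := hex
      obtain ⟨c, hc⟩ := Algebra.mem_bot.1 hbp
      haveI : ExpChar A p := expChar_of_injective_algebraMap hinj p
      have hcp : ∀ d : κ, d ^ p ≠ c := fun d hd => by
        refine hb (Algebra.mem_bot.2 ⟨d, ?_⟩)
        apply frobenius_inj A p
        rw [frobenius_def, frobenius_def, ← map_pow, hd, hc]
      refine ⟨p, c, hp, hchar, hcp, ?_⟩
      haveI : Fact (Irreducible (X ^ p - C c : κ[X])) := ⟨X_pow_sub_C_irreducible_of_prime hp hcp⟩
      let φ : AdjoinRoot (X ^ p - C c) →ₐ[κ] A :=
        AdjoinRoot.liftAlgHom (X ^ p - C c) (Algebra.ofId κ A) b (by simp [Algebra.ofId_apply, hc])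
      refine ⟨(AlgEquiv.ofBijective φ ⟨φ.toRingHom.injective, ?_⟩).symm⟩
      rw [← AlgHom.range_eq_top, eq_top_iff, ← hgen b hb, Algebra.adjoin_le_iff, Set.singleton_subset_iff]
      exact ⟨AdjoinRoot.root _, by simp [φ]⟩
    · refine Or.inr (Or.inl ?_)
      haveI : IsSemisimpleRing A := IsArtinianRing.isSemisimpleRing_of_isReduced A
      obtain ⟨I, hI0, hI1⟩ := Ring.not_isField_iff_exists_ideal_bot_lt_and_lt_top.1 hfld
      obtain ⟨e, he, rfl⟩ := IsSemisimpleRing.ideal_eq_span_idempotent I
      have he0 : e ≠ 0 := fun e0 => hI0.ne' (by simp [e0])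
      have he1 : e ≠ 1 := fun e1 => hI1.ne (by simp [e1])
      have heb : e ∉ (⊥ : Subalgebra κ A) := fun hm => by
        obtain ⟨c, hc⟩ := Algebra.mem_bot.1 hm
        have hcc : IsIdempotentElem c := hinj (by rw [map_mul, hc]; exact he)
        rcases IsIdempotentElem.iff_eq_zero_or_one.1 hcc with rfl | rfl
        · exact he0 (by rw [← hc, map_zero])
        · exact he1 (by rw [← hc, map_one])
      have hee : e * e = e := he
      let φ : κ × κ →ₐ[κ] A :=
        { toFun := fun x => algebraMap κ A x.1 * e + algebraMap κ A x.2 * (1 - e)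
          map_one' := by simp
          map_mul' := fun x y => by
            simp only [Prod.fst_mul, Prod.snd_mul, map_mul]
            linear_combination (algebraMap κ A x.1 * algebraMap κ A y.2 + algebraMap κ A x.2 * algebraMap κ A y.1
              - algebraMap κ A x.1 * algebraMap κ A y.1 - algebraMap κ A x.2 * algebraMap κ A y.2) * hee
          map_zero' := by simp
          map_add' := fun x y => by simp only [Prod.fst_add, Prod.snd_add, map_add]; ring
          commutes' := fun r => by simp only [Prod.algebraMap_apply, Algebra.algebraMap_self, RingHom.id_apply]; ring }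
      refine ⟨(AlgEquiv.ofBijective φ ⟨?_, ?_⟩).symm⟩
      · rw [injective_iff_map_eq_zero]
        intro x hx
        have hx' : algebraMap κ A x.1 * e + algebraMap κ A x.2 * (1 - e) = 0 := hx
        have h1 : algebraMap κ A x.1 * e = 0 := by linear_combination e * hx' - (algebraMap κ A x.1 - algebraMap κ A x.2) * hee
        have h2 : algebraMap κ A x.2 * (1 - e) = 0 := by linear_combination hx' - h1
        have k1 : x.1 = 0 := by
          by_contra hne
          exact he0 ((((isUnit_iff_ne_zero.2 hne).map (algebraMap κ A)).mul_right_eq_zero).1 h1)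
        have k2 : x.2 = 0 := by
          by_contra hne
          exact he1 (sub_eq_zero.1 ((((isUnit_iff_ne_zero.2 hne).map (algebraMap κ A)).mul_right_eq_zero).1 h2)).symm
        exact Prod.ext k1 k2
      · rw [← AlgHom.range_eq_top, eq_top_iff, ← hgen e heb, Algebra.adjoin_le_iff, Set.singleton_subset_iff]
        exact ⟨(1, 0), by simp [φ]⟩
  · left
    obtain ⟨ε, hnil, hε0⟩ : ∃ ε : A, IsNilpotent ε ∧ ε ≠ 0 := by
      rw [isReduced_iff] at hred
      push Not at hred
      exact hred
    have hnb : ∀ x : A, IsNilpotent x → x ∈ (⊥ : Subalgebra κ A) → x = 0 := fun x hx hm => by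
      obtain ⟨c, rfl⟩ := Algebra.mem_bot.1 hm
      rw [IsNilpotent.map_iff hinj] at hx
      rw [hx.eq_zero, map_zero]
    have hεb : ε ∉ (⊥ : Subalgebra κ A) := fun hm => hε0 (hnb ε hnil hm)
    have hsq : ε * ε = 0 := by
      by_contra hsq
      have hsqb : ε * ε ∉ (⊥ : Subalgebra κ A) := fun hm => hsq (hnb _ ((Commute.all ε ε).isNilpotent_mul_right hnil) hm)
      have hmem : ε ∈ Algebra.adjoin κ ({ε * ε} : Set A) := by rw [hgen _ hsqb]; trivial
      rw [Algebra.adjoin_singleton_eq_range_aeval] at hmem
      obtain ⟨q, hq⟩ := hmem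
      have hq' : aeval (ε * ε) q = ε := hq
      rw [← X_mul_divX_add q, map_add, map_mul, aeval_X, aeval_C] at hq'
      have hc0 : algebraMap κ A (q.coeff 0) = 0 := hnb _ (by
        rw [show algebraMap κ A (q.coeff 0) = ε * (1 - ε * aeval (ε * ε) q.divX) by linear_combination hq']
        exact (Commute.all _ _).isNilpotent_mul_right hnil) (Algebra.mem_bot.2 ⟨_, rfl⟩)
      have hu : IsUnit (1 - ε * aeval (ε * ε) q.divX) :=
        ((Commute.all _ _).isNilpotent_mul_right hnil).isUnit_one_sub
      exact hε0 ((hu.mul_left_eq_zero).1 (by linear_combination -hq' + hc0))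
    let φ : DualNumber κ →ₐ[κ] A := DualNumber.lift ⟨(Algebra.ofId κ A, ε), hsq, fun _ => Commute.all _ _⟩
    refine ⟨(AlgEquiv.ofBijective φ ⟨?_, ?_⟩).symm⟩
    · rw [injective_iff_map_eq_zero]
      intro x hx
      have hx' : algebraMap κ A x.fst + algebraMap κ A x.snd * ε = 0 := by
        simpa [φ, DualNumber.lift_apply_apply, Algebra.ofId_apply] using hx
      have hf : x.fst = 0 := hinj (by
        rw [map_zero]
        refine hnb _ ?_ (Algebra.mem_bot.2 ⟨_, rfl⟩)
        rw [show algebraMap κ A x.fst = ε * -algebraMap κ A x.snd by linear_combination hx']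
        exact (Commute.all _ _).isNilpotent_mul_right hnil)
      rw [hf, map_zero, zero_add] at hx'
      have hs : x.snd = 0 := by
        by_contra hne
        exact hε0 ((((isUnit_iff_ne_zero.2 hne).map (algebraMap κ A)).mul_right_eq_zero).1 hx')
      exact TrivSqZeroExt.ext hf hs
    · rw [← AlgHom.range_eq_top, eq_top_iff, ← hgen ε hεb, Algebra.adjoin_le_iff, Set.singleton_subset_iff]
      exact ⟨DualNumber.eps, by simp [φ]⟩


end Groth.Agent.S15939
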