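import Groth.Statements.S15941
import Groth.Agent.L28.AWN.Key

set_option autoImplicit false
universe u
open HTop

namespace Groth.Agent.S15941

/-- An integrally closed integral domain is a seminormal ring, that is, whenever x^3 = y^2 there is
exactly one element a with x = a^2 and y = a^3. (The published statement is for a normal Noetherian
scheme and reduces at once to this affine integral case; the Noetherian hypothesis plays no role.) -/
theorem result (A : Type u) [CommRing A] [IsDomain A]
    [IsIntegrallyClosed A] : HTop.IsSeminormalRing A := by
  intro x y hxy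
  obtain ⟨a, ha2, ha3⟩ := Groth.L28.AWN.exists_sq_cube_field
    (x := algebraMap A (FractionRing A) x) (y := algebraMap A (FractionRing A) y)
    (by rw [← map_pow, hxy, map_pow])
  obtain ⟨c, rfl⟩ := IsIntegrallyClosed.algebraMap_eq_of_integral
    (IsIntegral.of_pow two_pos (ha2 ▸ isIntegral_algebraMap : IsIntegral A (a ^ 2)))
  have h2 : x = c ^ 2 := IsFractionRing.injective A (FractionRing A) (by rw [ha2, map_pow])
  have h3 : y = c ^ 3 := IsFractionRing.injective A (FractionRing A) (by rw [ha3, map_pow])
  exact ⟨c, ⟨h2, h3⟩,
    fun b hb => Groth.L28.AWN.eq_of_sq_cube (hb.1.symm.trans h2) (hb.2.symm.trans h3)⟩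

end Groth.Agent.S15941
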