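import Groth.Statements.S15942
import Groth.Agent.L26.Neron.Basic
import Groth.Agent.L26.Neron.RegularBase
import Groth.Agent.L07.RatSection
import Groth.Agent.L23.FppfSmooth
import Groth.Agent.L26.AV.SmoothField
import Mathlib.AlgebraicGeometry.SpreadingOut
import Mathlib.AlgebraicGeometry.FunctionField

set_option autoImplicit false
universe u
open Neron

namespace Groth.Agent.S15942

open CategoryTheory CategoryTheory.Limits AlgebraicGeometry

/-- Uniqueness on the generic fibre. -/
theorem ext_gen {S : Scheme.{u}} [IsIntegral S] [IsNoetherian S]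
    (hreg : ∀ s : S, IsRegularLocalRing (S.presheaf.stalk s))
    {G : Over S} [IsSeparated G.hom] {Q : Scheme.{u}} (q : Q ⟶ S) [Smooth q]
    (a b : Q ⟶ G.left) (ha : a ≫ G.hom = q) (hb : b ≫ G.hom = q)
    (h : pullback.fst q (S.fromSpecStalk (genericPoint S)) ≫ a =
      pullback.fst q (S.fromSpecStalk (genericPoint S)) ≫ b) : a = b := by
  haveI : IsReduced Q := by
    haveI : ∀ y : Q, _root_.IsReduced (Q.presheaf.stalk y) := fun y => by
      haveI := Groth.Agent.NeronL.RegularBase.isDomain_stalk q hreg y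
      infer_instance
    exact isReduced_of_isReduced_stalk Q
  haveI : IsDominant (pullback.fst q (S.fromSpecStalk (genericPoint S))) := ⟨by
    rw [DenseRange, Scheme.Pullback.range_fst]
    refine Dense.preimage (Dense.mono ?_ (dense_iff_closure_eq.2 (genericPoint_spec S))) q.isOpenMap
    rintro _ rfl
    rw [Scheme.range_fromSpecStalk]
    exact specializes_rfl⟩
  exact ext_of_isDominant_of_isSeparated G.hom (ha.trans hb.symm) _ h

set_option backward.isDefEq.respectTransparency.types false in
/-- Existence near a point. -/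
theorem exists_near {S : Scheme.{u}} [IsIntegral S] [IsNoetherian S]
    (hreg : ∀ s : S, IsRegularLocalRing (S.presheaf.stalk s))
    (G : Over S) [LocallyOfFiniteType G.hom] [IsSeparated G.hom]
    (hloc : ∀ p : S, IsClosed ({p} : Set S) →
      ∀ Y : Over (Spec (S.presheaf.stalk p)), Smooth Y.hom →
        Function.Bijective (fun g : Y ⟶ (Over.pullback (S.fromSpecStalk p)).obj G =>
          (Over.pullback (Spec.map (S.presheaf.stalkSpecializes (genericPoint_specializes p)))).map g))
    (Y : Over S) [Smooth Y.hom] (v : pullback Y.hom (S.fromSpecStalk (genericPoint S)) ⟶ G.left)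
    (hv : v ≫ G.hom = pullback.fst Y.hom (S.fromSpecStalk (genericPoint S)) ≫ Y.hom) (y : Y.left) :
    ∃ (V : Y.left.Opens) (g : (V : Scheme.{u}) ⟶ G.left), y ∈ V ∧ g ≫ G.hom = V.ι ≫ Y.hom ∧
      pullback.fst (V.ι ≫ Y.hom) (S.fromSpecStalk (genericPoint S)) ≫ g =
        pullback.lift (pullback.fst _ _ ≫ V.ι) (pullback.snd _ _)
          (by rw [Category.assoc, pullback.condition]) ≫ v := by
  let jη := S.fromSpecStalk (genericPoint S)
  obtain ⟨p, hp1, hp2⟩ :=
    (isClosed_closure (s := ({Y.hom y} : Set S))).exists_closed_singleton ⟨_, subset_closure rfl⟩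
  let jp := S.fromSpecStalk p
  let ip := Spec.map (S.presheaf.stalkSpecializes (genericPoint_specializes p))
  have hip : ip ≫ jp = jη := Scheme.SpecMap_stalkSpecializes_fromSpecStalk _
  let Yp := (Over.pullback jp).obj Y
  haveI : Smooth Yp.hom := inferInstanceAs (Smooth (pullback.snd Y.hom jp))
  have hb := hloc p hp2 Yp inferInstance
  rw [Groth.Agent.NeronL.map_bijective_iff] at hb
  let P' := pullback (pullback.snd Y.hom jp) ip
  let m : P' ⟶ pullback Y.hom jη := pullback.lift (pullback.fst _ _ ≫ pullback.fst _ _) (pullback.snd _ _) (by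
    rw [Category.assoc, pullback.condition, pullback.condition_assoc, hip])
  let v' : P' ⟶ pullback G.hom jp := pullback.lift (m ≫ v) (pullback.fst _ _ ≫ pullback.snd Y.hom jp) (by
    rw [Category.assoc, hv, pullback.lift_fst_assoc, Category.assoc, Category.assoc, pullback.condition])
  obtain ⟨F, hF, -⟩ := hb v' (pullback.lift_snd _ _ _)
  let F' : pullback Y.hom jp ⟶ pullback G.hom jp := F.left
  have hF' : F' ≫ pullback.snd G.hom jp = pullback.snd Y.hom jp := Over.w F
  have hsp : Y.hom y ⤳ p := specializes_iff_mem_closure.2 hp1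
  let l : Spec (Y.left.presheaf.stalk y) ⟶ pullback Y.hom jp :=
    pullback.lift (Y.left.fromSpecStalk y) (Spec.map (S.presheaf.stalkSpecializes hsp ≫ Y.hom.stalkMap y)) (by
      rw [Spec.map_comp, Category.assoc, Scheme.SpecMap_stalkSpecializes_fromSpecStalk,
        Scheme.SpecMap_stalkMap_fromSpecStalk])
  haveI : IsLocallyNoetherian Y.left := LocallyOfFiniteType.isLocallyNoetherian Y.hom
  obtain ⟨V₀, hyV₀, g₀, hg₀, hg₀'⟩ := spread_out_of_isGermInjective' Y.hom G.hom
    (l ≫ F' ≫ pullback.fst G.hom jp) (by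
      rw [Category.assoc, Category.assoc, pullback.condition, reassoc_of% hF', ← pullback.condition,
        pullback.lift_fst_assoc])
  haveI := Groth.Agent.NeronL.RegularBase.isDomain_stalk Y.hom hreg y
  obtain ⟨W, hyW, -, hWint⟩ := Groth.L07.RatSection.exists_integral_nhd y
  haveI := hWint
  let V := V₀ ⊓ W
  haveI : Nonempty (V : Scheme.{u}) := ⟨⟨y, hyV₀, hyW⟩⟩
  haveI : IsIntegral (V : Scheme.{u}) := isIntegral_of_isOpenImmersion (Y.left.homOfLE (inf_le_right : V ≤ W))
  have hyV : y ∈ V := ⟨hyV₀, hyW⟩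
  let g : (V : Scheme.{u}) ⟶ G.left := Y.left.homOfLE (inf_le_left : V ≤ V₀) ≫ g₀
  have hg : g ≫ G.hom = V.ι ≫ Y.hom := by
    rw [Category.assoc, hg₀', Scheme.homOfLE_ι_assoc]
  refine ⟨V, g, hyV, hg, ?_⟩
  -- both agree at the generic point of `V`
  let ξ : Y.left := V.ι (genericPoint (V : Scheme.{u}))
  have hξV : ∀ w : (V : Scheme.{u}), ξ ⤳ V.ι w := fun w =>
    ((genericPoint_spec (V : Scheme.{u})).specializes (Set.mem_univ w)).map V.ι.continuous
  have hξy : ξ ⤳ y := hξV ⟨y, hyV⟩
  have hξη : Y.hom ξ ⤳ genericPoint S := by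
    obtain ⟨w, hwV, hw⟩ := ((genericPoint_spec S).mem_open_set_iff (Y.hom.isOpenMap _ V.isOpen)).2
      ⟨Y.hom y, trivial, y, hyV, rfl⟩
    rw [← hw]
    exact (hξV ⟨w, hwV⟩).map Y.hom.continuous
  let E := Spec (Y.left.presheaf.stalk ξ)
  let s : E ⟶ Spec (Y.left.presheaf.stalk y) := Spec.map (Y.left.presheaf.stalkSpecializes hξy)
  let u₁ : E ⟶ Spec (S.presheaf.stalk (genericPoint S)) :=
    Spec.map (S.presheaf.stalkSpecializes hξη ≫ Y.hom.stalkMap ξ)
  have hu₁ : u₁ ≫ jη = Y.left.fromSpecStalk ξ ≫ Y.hom := by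
    simp only [u₁, jη]
    rw [Spec.map_comp, Category.assoc, Scheme.SpecMap_stalkSpecializes_fromSpecStalk,
      Scheme.SpecMap_stalkMap_fromSpecStalk]
  have hs : s ≫ Y.left.fromSpecStalk y = Y.left.fromSpecStalk ξ := Scheme.SpecMap_stalkSpecializes_fromSpecStalk _
  let e₀ : E ⟶ (V : Scheme.{u}) := s ≫ V.fromSpecStalkOfMem y hyV
  have he₀ : e₀ ≫ V.ι = Y.left.fromSpecStalk ξ := by
    simp only [e₀, Category.assoc]
    rw [Scheme.Opens.fromSpecStalkOfMem_ι, hs]
  let e : E ⟶ pullback (V.ι ≫ Y.hom) jη := pullback.lift e₀ u₁ (by rw [reassoc_of% he₀, hu₁])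
  haveI : IsReduced (pullback (V.ι ≫ Y.hom) jη) :=
    Groth.Agent.AV.isReduced_of_smooth_field (k := S.functionField) (pullback.snd (V.ι ≫ Y.hom) jη)
  haveI : IsDominant e := ⟨fun q => by
    have h1 : e (IsLocalRing.closedPoint _) ⤳ q := by
      refine (pullback.fst (V.ι ≫ Y.hom) jη).isEmbedding.isInducing.specializes_iff.1 ?_
      have h2 : pullback.fst (V.ι ≫ Y.hom) jη (e (IsLocalRing.closedPoint _)) = genericPoint (V : Scheme.{u}) := by
        refine V.ι.isOpenEmbedding.injective ?_
        show (e ≫ pullback.fst _ _ ≫ V.ι) _ = ξ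
        rw [pullback.lift_fst_assoc, he₀, Scheme.fromSpecStalk_closedPoint]
      rw [h2]
      exact (genericPoint_spec _).specializes trivial
    exact h1.mem_closed isClosed_closure (subset_closure ⟨_, rfl⟩)⟩
  refine ext_of_isDominant_of_isSeparated G.hom ?_ e ?_
  · refine ((Category.assoc _ g G.hom).trans (congrArg (_ ≫ ·) hg)).trans
      (Eq.trans ?_ ((Category.assoc _ v G.hom).trans (congrArg (_ ≫ ·) hv)).symm)
    simp only [jη, pullback.lift_fst_assoc, Category.assoc]
  · let z : E ⟶ P' := pullback.lift (s ≫ l) u₁ (by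
      rw [← cancel_mono jp]
      simp only [Category.assoc, hip]
      rw [← pullback.condition, pullback.lift_fst_assoc, reassoc_of% hs, hu₁])
    have hleft : e ≫ pullback.fst _ _ ≫ g = z ≫ m ≫ v := by
      have h1 : e₀ ≫ g = s ≫ l ≫ F' ≫ pullback.fst G.hom jp := by
        rw [hg₀, ← Category.assoc, ← Category.assoc]
        congr 1
        rw [← cancel_mono V₀.ι]
        simp only [e₀, Category.assoc, Scheme.homOfLE_ι, Scheme.Opens.fromSpecStalkOfMem_ι]
      have h2 : pullback.fst (pullback.snd Y.hom jp) ip ≫ F' = v' := hF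
      have h3 : z ≫ pullback.fst (pullback.snd Y.hom jp) ip = s ≫ l := pullback.lift_fst _ _ _
      have h4 : v' ≫ pullback.fst G.hom jp = m ≫ v := pullback.lift_fst _ _ _
      rw [pullback.lift_fst_assoc, h1, ← reassoc_of% h3, reassoc_of% h2, h4]
    rw [hleft, ← Category.assoc, ← Category.assoc]
    congr 1
    apply pullback.hom_ext
    · simp only [m, z, e, l, jη, Category.assoc, pullback.lift_fst, pullback.lift_fst_assoc, he₀, hs]
    · simp only [m, z, e, jη, Category.assoc, pullback.lift_snd]

open CategoryTheory AlgebraicGeometry in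
/-- Let S be a Dedekind scheme (integral, Noetherian, separated, of dimension one, with regular local
rings), K its function field with generic point η : Spec K → S, and G → S a smooth separated
S-scheme. Suppose that for every closed point p of S the base change G_p = G ×_S Spec O_{S,p} is a
Néron lft-model of its generic fibre over Spec O_{S,p}: for every smooth scheme Y over Spec O_{S,p},
restricting to generic fibres is a bijection from morphisms Y → G_p over Spec O_{S,p} onto morphisms
of generic fibres over K. Then G is a Néron lft-model of its generic fibre over S: for every smooth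
S-scheme Y, restriction along η is a bijection from S-morphisms Y → G onto K-morphisms Y_η → G_η.
(The published statement is for a smooth separated group scheme; the group structure plays no part
in the property or in its proof and is not assumed here.) -/
theorem result
    {S : Scheme.{u}} [IsIntegral S] [IsNoetherian S] [S.IsSeparated]
    (hreg : ∀ s : S, IsRegularLocalRing (S.presheaf.stalk s)) (hdim : topologicalKrullDim S = 1)
    (G : Over S) [Smooth G.hom] [IsSeparated G.hom]
    (hloc : ∀ p : S, IsClosed ({p} : Set S) →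
      ∀ Y : Over (Spec (S.presheaf.stalk p)), Smooth Y.hom →
        Function.Bijective (fun g : Y ⟶ (Over.pullback (S.fromSpecStalk p)).obj G =>
          (Over.pullback (Spec.map (S.presheaf.stalkSpecializes (genericPoint_specializes p)))).map g)) :
    ∀ Y : Over S, Smooth Y.hom →
      Function.Bijective (fun g : Y ⟶ G => (Over.pullback (S.fromSpecStalk (genericPoint S))).map g) := by
  intro Y hY
  haveI := hY
  rw [Groth.Agent.NeronL.map_bijective_iff]
  intro v hv
  let jη := S.fromSpecStalk (genericPoint S)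
  choose V g hmem hg hgv using exists_near hreg G hloc Y v hv
  let 𝒰 := Y.left.openCoverOfIsOpenCover V
    (.mk (top_unique fun y _ => TopologicalSpace.Opens.mem_iSup.2 ⟨y, hmem y⟩))
  have hcompat : ∀ i j, pullback.fst (V i).ι (V j).ι ≫ g i = pullback.snd (V i).ι (V j).ι ≫ g j := by
    intro i j
    let q := pullback.fst (V i).ι (V j).ι ≫ (V i).ι ≫ Y.hom
    have hq : pullback.snd (V i).ι (V j).ι ≫ (V j).ι ≫ Y.hom = q := by rw [← pullback.condition_assoc]
    refine ext_gen hreg (G := G) q _ _ (by rw [Category.assoc, hg]) (by rw [Category.assoc, hg, hq]) ?_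
    let a : pullback q jη ⟶ pullback ((V i).ι ≫ Y.hom) jη :=
      pullback.lift (pullback.fst _ _ ≫ pullback.fst (V i).ι (V j).ι) (pullback.snd _ _)
        (by rw [Category.assoc]; exact pullback.condition)
    let b : pullback q jη ⟶ pullback ((V j).ι ≫ Y.hom) jη :=
      pullback.lift (pullback.fst _ _ ≫ pullback.snd (V i).ι (V j).ι) (pullback.snd _ _)
        (by rw [Category.assoc, hq]; exact pullback.condition)
    have ha : pullback.fst q jη ≫ pullback.fst (V i).ι (V j).ι = a ≫ pullback.fst _ _ := (pullback.lift_fst _ _ _).symm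
    have hb : pullback.fst q jη ≫ pullback.snd (V i).ι (V j).ι = b ≫ pullback.fst _ _ := (pullback.lift_fst _ _ _).symm
    rw [reassoc_of% ha, reassoc_of% hb, hgv, hgv]
    refine (Category.assoc _ _ v).symm.trans (Eq.trans ?_ (Category.assoc _ _ v))
    congr 1
    apply pullback.hom_ext
    · simp only [a, b, jη, Category.assoc, pullback.lift_fst, pullback.lift_fst_assoc, pullback.condition]
    · simp only [a, b, jη, Category.assoc, pullback.lift_snd]
  let f₀ : Y.left ⟶ G.left := 𝒰.glueMorphisms g hcompat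
  have hf₀ : ∀ i, (V i).ι ≫ f₀ = g i := fun i => 𝒰.ι_glueMorphisms g hcompat i
  have hw : f₀ ≫ G.hom = Y.hom := 𝒰.hom_ext _ _ fun i => by
    show (V i).ι ≫ f₀ ≫ G.hom = (V i).ι ≫ Y.hom
    rw [reassoc_of% (hf₀ i), hg]
  have key : pullback.fst Y.hom jη ≫ f₀ = v := by
    let P := pullback Y.hom jη
    let π₁ : P ⟶ Y.left := pullback.fst Y.hom jη
    refine (P.openCoverOfIsOpenCover (fun i => π₁ ⁻¹ᵁ V i)
      (.mk (top_unique fun x _ => TopologicalSpace.Opens.mem_iSup.2 ⟨π₁ x, hmem (π₁ x)⟩))).hom_ext _ _ fun i => ?_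
    show (π₁ ⁻¹ᵁ V i).ι ≫ π₁ ≫ f₀ = (π₁ ⁻¹ᵁ V i).ι ≫ v
    let c : (π₁ ⁻¹ᵁ V i : Scheme.{u}) ⟶ pullback ((V i).ι ≫ Y.hom) jη :=
      pullback.lift (π₁ ∣_ V i) ((π₁ ⁻¹ᵁ V i).ι ≫ pullback.snd Y.hom jη) (by
        rw [morphismRestrict_ι_assoc, Category.assoc]
        exact congrArg ((π₁ ⁻¹ᵁ V i).ι ≫ ·) pullback.condition)
    have hc : π₁ ∣_ V i = c ≫ pullback.fst _ _ := (pullback.lift_fst _ _ _).symm
    rw [← morphismRestrict_ι_assoc, hf₀, hc, Category.assoc, hgv, ← Category.assoc]
    congr 1
    apply pullback.hom_ext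
    · simp only [c, Category.assoc, pullback.lift_fst, pullback.lift_fst_assoc, morphismRestrict_ι, jη, π₁]
    · simp only [c, Category.assoc, pullback.lift_snd, jη, π₁]
  exact ⟨Over.homMk f₀ hw, key, fun f' hf' =>
    Over.OverMorphism.ext (ext_gen hreg (G := G) Y.hom f'.left f₀ (Over.w f') hw (hf'.trans key.symm))⟩

end Groth.Agent.S15942
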