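import Groth.Statements.S15947
import Groth.Agent.L21.PrimeChain.Chain
import Groth.Agent.L21.PrimeChain.Sn

set_option autoImplicit false
set_option backward.isDefEq.respectTransparency false
set_option linter.style.haveILetI false
universe u
open Curves

namespace Groth.Agent.S15947

open CategoryTheory AlgebraicGeometry in
/-- Let κ be a field, C a reduced scheme of finite type over κ whose irreducible components all have
dimension one, and ς : C' → C a seminormalization of C: C' is seminormal and ς is a universal
homeomorphism inducing isomorphisms on residue fields, initial among such morphisms to C. If C is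
not seminormal, then ς is a finite composite C' = C_0 → C_1 → ⋯ → C_n = C in which each step C_i →
C_{i+1} is the push-out, in the category of schemes, of C_i and Spec κ(x) along a closed immersion
of the dual numbers Spec κ(x)[ε]/(ε²) into C_i, for some closed point x of C_{i+1}. -/
theorem result {κ : Type u} [Field κ] {C C' : Scheme.{u}}
    (g : C ⟶ Spec (CommRingCat.of κ)) [LocallyOfFiniteType g] [QuasiCompact g] [IsReduced C]
    (hdimC : ∀ W ∈ irreducibleComponents (C : Type u), topologicalKrullDim W = 1)
    (hC : ¬ HTop.IsSeminormal C) (ς : C' ⟶ C) (hς : HTop.IsSeminormalization ς) (hC' : HTop.IsSeminormal C') :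
    ∃ (n : ℕ) (F : ComposableArrows Scheme.{u} n) (e : F.left ≅ C') (e' : F.right ≅ C),
      e.inv ≫ F.hom ≫ e'.hom = ς ∧
      ∀ i : Fin n, ∃ (x : F.obj i.succ) (_ : IsClosed ({x} : Set (F.obj i.succ)))
        (j : Spec (CommRingCat.of (DualNumber ((F.obj i.succ).residueField x))) ⟶ F.obj i.castSucc),
        IsClosedImmersion j ∧
        IsPushout j (Spec.map (CommRingCat.ofHom (algebraMap ((F.obj i.succ).residueField x) (DualNumber ((F.obj i.succ).residueField x)))))
          (F.map (homOfLE (Fin.castSucc_lt_succ (i := i)).le)) ((F.obj i.succ).fromSpecResidueField x) := by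
  haveI : IsLocallyNoetherian C := LocallyOfFiniteType.isLocallyNoetherian g
  haveI : JacobsonSpace C := LocallyOfFiniteType.jacobsonSpace g
  haveI : CompactSpace C := QuasiCompact.compactSpace_of_compactSpace g
  haveI : IsReduced C' := Groth.L28.AWN.isReduced_of_isSeminormal hC'
  have hhom := Groth.L20.isHomeomorph_of_isUnivHomeo hς.1.1
  obtain ⟨hfin, U, hU, hUiso⟩ := Groth.L21.PrimeChain.finite_birational g
    (Groth.L22.ExtSh.topologicalKrullDim_le_of_components fun Z hZ => (hdimC Z hZ).le) ς hς.1.1 hς.1.2
  haveI := hfin; haveI := hUiso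
  haveI : Surjective ς := ⟨hhom.surjective⟩
  obtain ⟨Y, b, r, hb, hbr, n, F, hA, hB, hF, hP⟩ := Groth.L21.PrimeChain.exists_chain ς U hU
    (fun A B c => ∃ (x : B) (_ : IsClosed ({x} : Set B))
        (j : Spec (CommRingCat.of (DualNumber (B.residueField x))) ⟶ A),
        IsClosedImmersion j ∧
        IsPushout j (Spec.map (CommRingCat.ofHom (algebraMap (B.residueField x) (DualNumber (B.residueField x)))))
          c (B.fromSpecResidueField x))
    (fun {Y₁ Y₂} b c r x hfac hbsurj hstep => by
      haveI := hbsurj
      have hinj : Function.Injective c := fun p q e => by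
        obtain ⟨p, rfl⟩ := b.surjective p
        obtain ⟨q, rfl⟩ := b.surjective q
        refine congrArg b (hhom.injective ?_)
        show ς p = ς q
        rw [← hfac]
        simp only [Scheme.Hom.comp_apply, e]
      have hres : HTop.ResidueFieldsIso c := fun y => by
        haveI : IsIso ((c ≫ r).residueFieldMap y) := Groth.L28.AWN.residueFieldsIso_of_comp_surjective b (c ≫ r)
            (Groth.L28.AWN.residueFieldsIso_congr hfac.symm hς.1.2) y
        have h1 := ConcreteCategory.bijective_of_isIso ((c ≫ r).residueFieldMap y)
        rw [Scheme.residueFieldMap_comp] at h1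
        rw [ConcreteCategory.isIso_iff_bijective]
        refine ⟨RingHom.injective _, fun z => ?_⟩
        obtain ⟨w, hw⟩ := h1.2 z
        rw [CategoryTheory.comp_apply] at hw
        exact ⟨_, hw⟩
      obtain ⟨j, hj⟩ := hstep.dualNumber hinj hres
      exact ⟨x, hstep.closed, j, hj⟩)
  refine ⟨n, F, eqToIso hA ≪≫ (asIso b).symm, eqToIso hB, ?_, hP⟩
  rw [← hbr, ← hF]
  simp

end Groth.Agent.S15947
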