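import Groth.Statements.S15949
import Groth.Agent.L08.P1Hom.Main
import Groth.Agent.L08.AbelianGrp
-- import your own Groth.Agent.* helpers here

set_option autoImplicit false
set_option backward.isDefEq.respectTransparency.types false
set_option linter.style.haveILetI false
universe u
open AlgGrp

namespace Groth.Agent.S15949

open CategoryTheory AlgebraicGeometry in
/-- Auxiliary step: let κ be an arbitrary field, G a group scheme over κ which is smooth over κ, and φ :
P¹_κ → G a morphism over κ. Then φ is constant: there is a κ-rational point g of G such that φ is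
the structure morphism P¹_κ → Spec κ followed by g. (The published proof states this step for any
smooth group scheme over a field in the course of proving the main proposition.) -/
theorem result (κ : Type u) [Field κ]
    (G : Over (Spec (CommRingCat.of κ))) [GrpObj G] [Smooth G.hom]
    (φ : CohB1.ProjSpaceOver 1 (Spec (CommRingCat.of κ)) ⟶ G.left)
    (hφ : φ ≫ G.hom = CohB1.ProjSpaceOver.toBase 1 (Spec (CommRingCat.of κ))) :
    ∃ g : Spec (CommRingCat.of κ) ⟶ G.left, g ≫ G.hom = 𝟙 _ ∧
      φ = CohB1.ProjSpaceOver.toBase 1 (Spec (CommRingCat.of κ)) ≫ g := by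
  haveI := Groth.L08.AbelianGrp.isSeparated G
  obtain ⟨g, hg, h⟩ := Groth.L08.P1Hom.const_of_projLine
    ((Groth.L16.ProjSpace.isoOver 1 κ).hom ≫ φ)
    (by rw [Category.assoc, hφ, Groth.L16.ProjSpace.isoOver_hom_toBase])
  refine ⟨g, hg, ?_⟩
  rw [← cancel_epi (Groth.L16.ProjSpace.isoOver 1 κ).hom, h,
    Groth.L16.ProjSpace.isoOver_hom_toBase_assoc]

end Groth.Agent.S15949
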