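import Groth.Statements.S15954
import Groth.Agent.L24.PinchBC.CokerChart
import Groth.Agent.L24.PinchBC.Std

set_option autoImplicit false
set_option backward.isDefEq.respectTransparency.types false
universe u
open Pinch

namespace Groth.Agent.S15954

open CategoryTheory AlgebraicGeometry in
/-- Let Y be a scheme, f : X → Y a morphism, t : T → Y a scheme affine over Y, ξ : Z → T a morphism with
Z affine over Y via ξ followed by t, and ι : Z → X a closed immersion over Y; assume every point of
Y has an affine open neighbourhood U together with an affine open V of X inside the preimage of U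
containing the image under ι of the part of Z over U; assume moreover that Y is locally Noetherian,
f and t are of finite type and ξ is finite, and let X → P ← T be a push-out of ι and ξ in the
category of schemes; assume finally that ξ is faithfully flat and that over every affine open U of Y
the cokernel of the map from functions on t⁻¹(U) to functions on the part of Z over U is a
projective module over the functions on U. Let p : P → Y be the induced morphism. Then the push-out
commutes with every base change: for every morphism Y' → Y the square obtained by pulling back Z →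
X, Z → T, X → P and T → P along Y' → Y is a push-out square in the category of schemes. -/
theorem result {X Y T Z : Scheme.{u}} (f : X ⟶ Y) (t : T ⟶ Y) (ξ : Z ⟶ T) (ι : Z ⟶ X)
    [IsAffineHom t] [IsAffineHom (ξ ≫ t)] [IsClosedImmersion ι] (hsq : ι ≫ f = ξ ≫ t)
    (hstd : ∀ y : Y, ∃ U : Y.Opens, IsAffineOpen U ∧ y ∈ U ∧ ∃ V : X.Opens, IsAffineOpen V ∧
      V ≤ f ⁻¹ᵁ U ∧ ∀ z : Z, (ξ ≫ t).base z ∈ U → ι.base z ∈ V)
    [IsLocallyNoetherian Y] [LocallyOfFiniteType f] [QuasiCompact f] [LocallyOfFiniteType t] [QuasiCompact t]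
    [IsFinite ξ] {P : Scheme.{u}} (a : X ⟶ P) (b : T ⟶ P) (hP : IsPushout ι ξ a b)
    [Flat ξ] [Surjective ξ]
    (hv : ∀ U : Y.affineOpens, @Pinch.CokerProjective Γ(Y, U) Γ(Z, (ξ ≫ t) ⁻¹ᵁ U) Γ(T, t ⁻¹ᵁ U) _ _ _
      ((ξ ≫ t).app U).hom.toAlgebra (ξ.app (t ⁻¹ᵁ U)).hom)
    (p : P ⟶ Y) (hap : a ≫ p = f) (hbp : b ≫ p = t) {Y' : Scheme.{u}} (g : Y' ⟶ Y) :
    IsPushout ((Over.pullback g).map (Over.homMk ι hsq : Over.mk (ξ ≫ t) ⟶ Over.mk f)).left
      ((Over.pullback g).map (Over.homMk ξ rfl : Over.mk (ξ ≫ t) ⟶ Over.mk t)).left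
      ((Over.pullback g).map (Over.homMk a hap : Over.mk f ⟶ Over.mk p)).left
      ((Over.pullback g).map (Over.homMk b hbp : Over.mk t ⟶ Over.mk p)).left := by
  open CategoryTheory CategoryTheory.Limits AlgebraicGeometry in
  exact by
    have hp : Groth.L20.Pinch.IsPinch ι ξ a b :=
      Groth.L20.Pinch.IsPinch.of_isPushout (Groth.L20.Pinch.std_of_over f t hsq hstd) hP
    let mι : Over.mk (ξ ≫ t) ⟶ Over.mk f := Over.homMk ι hsq
    let mξ : Over.mk (ξ ≫ t) ⟶ Over.mk t := Over.homMk ξ rfl
    let ma : Over.mk f ⟶ Over.mk p := Over.homMk a hap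
    let mb : Over.mk t ⟶ Over.mk p := Over.homMk b hbp
    have hw : mι ≫ ma = mξ ≫ mb := Over.OverMorphism.ext hP.w
    have hwl : ((Over.pullback g).map mι).left ≫ ((Over.pullback g).map ma).left =
        ((Over.pullback g).map mξ).left ≫ ((Over.pullback g).map mb).left := by
      rw [← Over.comp_left, ← Over.comp_left, ← Functor.map_comp, ← Functor.map_comp, hw]
    have hc := Groth.L24.PinchBC.isPullback_overMap g (mι ≫ ma)
    rw [Functor.map_comp, Over.comp_left, Over.comp_left] at hc
    exact Groth.L24.PinchBC.isPushout_baseChange (q := p) hp (IsPullback.of_hasPullback p g)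
      (fun k u _ _ hY _ _ W hW ρ hρ =>
        Groth.L24.PinchBC.baseStable_of_coker t p hbp hv k u hY W hW ρ hρ)
      (Groth.L24.PinchBC.isPullback_overMap g mb) (Groth.L24.PinchBC.isPullback_overMap g ma) hc hwl
      (Groth.L24.PinchBC.isPullback_overMap g mξ).w (Groth.L24.PinchBC.isPullback_overMap g mι).w

end Groth.Agent.S15954
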