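import Groth.Statements.S15958
import Groth.Agent.L08.MulEtaleBC
import Groth.Agent.L20.FibreScheme
import Groth.Agent.L15.KerFlat.Basic
import Groth.Agent.L23.Descent
import Mathlib.AlgebraicGeometry.Morphisms.LocalFlatDescent
import Mathlib.AlgebraicGeometry.Sites.Fpqc

set_option autoImplicit false
universe u
open Neron

namespace Groth.Agent.S15958

open CategoryTheory CategoryTheory.Limits MonoidalCategory CartesianMonoidalCategory MonObj GrpObj AlgebraicGeometry

open CategoryTheory AlgebraicGeometry MonObj in
/-- Let S be a Dedekind scheme (integral, Noetherian, separated, of dimension one, with regular local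
rings) with generic point η : Spec K → S, and let G', G and G'' be smooth separated group schemes
over S sitting in a short exact sequence 0 → G' → G → G'' → 0: i : G' → G and q : G → G'' are
homomorphisms, i identifies G' with the kernel of q, and q is flat and surjective. If G' and G'' are
Néron lft-models of their generic fibres (for every smooth S-scheme Y, restriction to η is a
bijection from S-morphisms into them onto K-morphisms of generic fibres), then so is G. -/
theorem result
    {S : Scheme.{u}} [IsIntegral S] [IsNoetherian S] [S.IsSeparated]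
    (hreg : ∀ s : S, IsRegularLocalRing (S.presheaf.stalk s)) (hdim : topologicalKrullDim S = 1)
    (G' G G'' : Over S) [GrpObj G'] [GrpObj G] [GrpObj G'']
    [Smooth G'.hom] [IsSeparated G'.hom] [Smooth G.hom] [IsSeparated G.hom] [Smooth G''.hom] [IsSeparated G''.hom]
    (i : G' ⟶ G) (q : G ⟶ G'') [IsMonHom i] [IsMonHom q]
    (hker : AlgGrp.IsKernel i q) [Flat q.left] [Surjective q.left]
    (hG' : ∀ Y : Over S, Smooth Y.hom →
        Function.Bijective (fun g : Y ⟶ G' => (Over.pullback (S.fromSpecStalk (genericPoint S))).map g))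
    (hG'' : ∀ Y : Over S, Smooth Y.hom →
        Function.Bijective (fun g : Y ⟶ G'' => (Over.pullback (S.fromSpecStalk (genericPoint S))).map g)) :
    ∀ Y : Over S, Smooth Y.hom →
        Function.Bijective (fun g : Y ⟶ G => (Over.pullback (S.fromSpecStalk (genericPoint S))).map g) := by
  intro Y hY
  haveI := hY
  let j := S.fromSpecStalk (genericPoint S)
  let F := Over.pullback j
  haveI := Over.mapPullbackAdj j |>.isRightAdjoint
  letI : GrpObj (F.obj G) := Functor.grpObjObj
  letI : GrpObj (F.obj G') := Functor.grpObjObj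
  letI : GrpObj (F.obj G'') := Functor.grpObjObj
  haveI : IsMonHom (F.map q) := inferInstanceAs (IsMonHom ((Over.pullback j).map q))
  haveI : IsMonHom (F.map i) := inferInstanceAs (IsMonHom ((Over.pullback j).map i))
  -- `q` is smooth
  have hpair : IsPullback (fst G G').left (fst G G' * (snd G G' ≫ i)).left q.left q.left :=
    (Groth.L15.KerFlat.isPullback_kernelPair hker).map (Over.forget _)
  haveI : LocallyOfFinitePresentation (q.left ≫ G''.hom) := by rw [Over.w]; infer_instance
  haveI : LocallyOfFinitePresentation q.left := Groth.L20.locallyOfFinitePresentation_of_comp q.left G''.hom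
  haveI : Smooth q.left := MorphismProperty.of_isPullback_of_descendsAlong (P := @Smooth)
    (Q := @Surjective ⊓ @Flat ⊓ @LocallyOfFinitePresentation) hpair
    ⟨⟨inferInstance, inferInstance⟩, inferInstance⟩
    (MorphismProperty.pullback_fst (P := @Smooth) G.hom G'.hom inferInstance)
  have hsq : IsPullback i (toUnit G') q η[G''] := hker
  haveI : IsSplitMono η[G''] := ⟨⟨⟨toUnit G'', toUnit_unique _ _⟩⟩⟩
  haveI : Mono i := MorphismProperty.of_isPullback (P := MorphismProperty.monomorphisms (Over S)) hsq.flip
    (show Mono η[G''] from inferInstance)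
  have hinj : ∀ (W : Over S), Smooth W.hom → Function.Injective (fun g : W ⟶ G => F.map g) := by
    intro W hW f₁ f₂ h
    replace h : F.map f₁ = F.map f₂ := h
    have hq : f₁ ≫ q = f₂ ≫ q := (hG'' W hW).1 (by
      show F.map _ = F.map _
      rw [F.map_comp, F.map_comp, h])
    have hd : (f₁⁻¹ * f₂) ≫ q = toUnit W ≫ η[G''] := by
      rw [← Hom.one_def, MonObj.mul_comp, GrpObj.inv_comp, hq, inv_mul_cancel]
    let e := hsq.lift (f₁⁻¹ * f₂) (toUnit W) hd
    have he : e ≫ i = f₁⁻¹ * f₂ := hsq.lift_fst _ _ _
    have he1 : e = 1 := (hG' W hW).1 (by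
      show F.map e = F.map 1
      rw [← cancel_mono (F.map i), ← F.map_comp, ← F.map_comp, he, MonObj.one_comp i]
      show F.homMonoidHom (f₁⁻¹ * f₂) = F.homMonoidHom 1
      rw [map_mul, map_inv, map_one, show F.homMonoidHom f₁ = F.homMonoidHom f₂ from h, inv_mul_cancel])
    rw [he1, MonObj.one_comp i] at he
    exact (inv_mul_eq_one.1 he.symm)
  refine ⟨hinj Y hY, fun h => ?_⟩
  obtain ⟨g'', hg''⟩ := (hG'' Y hY).2 (h ≫ F.map q)
  replace hg'' : F.map g'' = h ≫ F.map q := hg''
  let W : Over S := Over.mk (pullback.fst g''.left q.left ≫ Y.hom)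
  let a : W ⟶ Y := Over.homMk (pullback.fst g''.left q.left) rfl
  let b : W ⟶ G := Over.homMk (pullback.snd g''.left q.left) (by
    show pullback.snd g''.left q.left ≫ G.hom = pullback.fst g''.left q.left ≫ Y.hom
    rw [← Over.w q, ← pullback.condition_assoc, Over.w g''])
  have hab : a ≫ g'' = b ≫ q := Over.OverMorphism.ext pullback.condition
  haveI : Smooth a.left := inferInstanceAs (Smooth (pullback.fst g''.left q.left))
  haveI : Surjective a.left := inferInstanceAs (Surjective (pullback.fst g''.left q.left))
  haveI : Smooth W.hom := inferInstanceAs (Smooth (pullback.fst g''.left q.left ≫ Y.hom))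
  let δ : F.obj W ⟶ F.obj G := (F.map b)⁻¹ * (F.map a ≫ h)
  have hδ : δ ≫ F.map q = F.map (toUnit W) ≫ F.map η[G''] := by
    rw [← F.map_comp, ← Hom.one_def, show F.map (1 : W ⟶ G'') = 1 from map_one F.homMonoidHom]
    rw [MonObj.mul_comp, GrpObj.inv_comp, Category.assoc, ← hg'', ← F.map_comp, ← F.map_comp, hab, inv_mul_cancel]
  have hFsq := hsq.map F
  obtain ⟨e, he⟩ := (hG' W inferInstance).2 (hFsq.lift δ (F.map (toUnit W)) hδ)
  replace he : F.map e = hFsq.lift δ (F.map (toUnit W)) hδ := he
  let c : W ⟶ G := b * (e ≫ i)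
  have hc : F.map c = F.map a ≫ h := by
    show F.homMonoidHom (b * (e ≫ i)) = _
    rw [map_mul]
    show F.map b * F.map (e ≫ i) = _
    rw [F.map_comp, he, hFsq.lift_fst, mul_inv_cancel_left]
  -- descend along `a`
  let Q : Over S := Over.mk (pullback.fst a.left a.left ≫ W.hom)
  let p₁ : Q ⟶ W := Over.homMk (pullback.fst a.left a.left) rfl
  let p₂ : Q ⟶ W := Over.homMk (pullback.snd a.left a.left) (by
    show pullback.snd a.left a.left ≫ W.hom = pullback.fst a.left a.left ≫ W.hom
    rw [← Over.w a, pullback.condition_assoc])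
  haveI : Smooth Q.hom := inferInstanceAs (Smooth (pullback.fst a.left a.left ≫ W.hom))
  have hpa : p₁ ≫ a = p₂ ≫ a := Over.OverMorphism.ext pullback.condition
  have hpc : p₁ ≫ c = p₂ ≫ c := hinj Q inferInstance (by
    show F.map _ = F.map _
    rw [F.map_comp, F.map_comp, hc, ← Category.assoc, ← Category.assoc, ← F.map_comp, ← F.map_comp, hpa])
  let r : Y.left ⟶ G.left := EffectiveEpi.desc a.left c.left fun {Z} g₁ g₂ hg => by
    rw [← pullback.lift_fst g₁ g₂ hg, Category.assoc]
    conv_rhs => rw [← pullback.lift_snd g₁ g₂ hg, Category.assoc]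
    exact congrArg (_ ≫ ·) (congrArg CommaMorphism.left hpc)
  have hr : a.left ≫ r = c.left := EffectiveEpi.fac _ _ _
  haveI : Epi a.left := inferInstance
  let g : Y ⟶ G := Over.homMk r (by rw [← cancel_epi a.left, reassoc_of% hr, Over.w c, Over.w a])
  refine ⟨g, ?_⟩
  show F.map g = h
  haveI : Smooth (F.map a).left :=
    MorphismProperty.of_isPullback (P := @Smooth) (Groth.L08.MulEtale.isPullback_map j a).flip inferInstance
  haveI : Surjective (F.map a).left :=
    MorphismProperty.of_isPullback (P := @Surjective) (Groth.L08.MulEtale.isPullback_map j a).flip inferInstance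
  haveI : Epi (F.map a).left := inferInstance
  haveI : Epi (F.map a) := Over.epi_of_epi_left _
  rw [← cancel_epi (F.map a), ← F.map_comp, show a ≫ g = c from Over.OverMorphism.ext hr, hc]

end Groth.Agent.S15958
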