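import Groth.Statements.S1596
import Groth.Agent.L12.CurveFam.R1
import Groth.Agent.L21.Nodal.Gorenstein
import Groth.Agent.L21.RR.Twist
import Groth.Agent.L29.DCoh.RelTor

set_option autoImplicit false
universe u
open CategoryTheory CategoryTheory.Limits AlgebraicGeometry
open Curves

namespace Groth.Agent.S1596

/-- Let f : X → S be a proper morphism of schemes that is at-worst-nodal of relative dimension one with
geometrically connected fibres. Then R¹f_*O_X is a finite locally free O_S-module and R^q f_*O_X = 0
for every q ≥ 2. The published statement also includes the compatibility of these direct images with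
base change, which is not asserted here. (Existence of injective resolutions in the category of
O_X-modules is carried as an instance binder.) -/
theorem result {X S : Scheme.{u}} (f : X ⟶ S) [IsProper f] (hf : Curv2.IsNodalFamily f)
    [GeometricallyConnected f] [HasInjectiveResolutions X.Modules] :
    FlatMod.IsFinLocFree ((Coh.Rpush f 1).obj (Coh.structureModule X)) ∧
      ∀ q : ℕ, 2 ≤ q → IsZero ((Coh.Rpush f q).obj (Coh.structureModule X)) := by
  obtain ⟨hflat, hlfp, hfib⟩ := hf
  haveI := hflat
  haveI := hlfp
  haveI hred : ∀ s : S, GeometricallyReduced (f.fiberToSpecResidueField s) := fun s => by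
    letI : (f.fiber s).Over (Spec (CommRingCat.of (S.residueField s))) := ⟨f.fiberToSpecResidueField s⟩
    haveI : LocallyOfFiniteType (f.fiber s ↘ Spec (CommRingCat.of (S.residueField s))) :=
      inferInstanceAs (LocallyOfFiniteType (pullback.snd f _))
    exact Groth.L21.Nodal.geometricallyReduced_of_atWorstNodal
      ((Groth.L21.Nodal.curveLike_iff _).2 (hfib s).1) (hfib s).2
  have hd : ∀ s : S, topologicalKrullDim ↥(f.fiber s) ≤ 1 := fun s =>
    Groth.L21.Nodal.topologicalKrullDim_le_one_of_curveLike ((Groth.L21.Nodal.curveLike_iff _).2 (hfib s).1)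
  have hE : FlatMod.IsFinLocFree (Coh.structureModule X) :=
    Groth.L16.Existence.isFinLocFree_of_isInvertible (Groth.L18.Ample.isInvertible_structureModule _)
  haveI : Coh.IsQCoh (Coh.structureModule X) := Groth.L29.DC.PCQCoh.isQCoh_of_isFinLocFree hE
  refine ⟨fun y => ?_, fun q hq => Groth.L12.CurveFam.isZero_Rpush_of_dim f _
    (Groth.L18.LFP.isFP_of_isFinLocFree _ hE)
    (Groth.L29.DC.RelTor.isFlatOver_of_isFlat f
      (Groth.L21.RR.isFlat_of_isInvertible (Groth.L18.Ample.isInvertible_structureModule X))) hd hq⟩
  obtain ⟨U, n, hy, i, -⟩ := Groth.L12.CurveFam.exists_free_Rpush_one f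
    (fun s U => Groth.L12.CurveFam.isIso_fiber_app_of_reduced f s U) hd y
  exact ⟨U, n, hy, i⟩

end Groth.Agent.S1596
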