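import Groth.Statements.S15963
import Groth.Agent.L28.AWN.Local
import Mathlib.AlgebraicGeometry.Morphisms.SchemeTheoreticallyDominant
import Mathlib.AlgebraicGeometry.Morphisms.Finite

set_option linter.style.haveILetI false


set_option autoImplicit false
universe u
open HTop

namespace Groth.Agent.S15963

open CategoryTheory AlgebraicGeometry in
/-- Let S be a reduced Noetherian scheme, π : S̃ → S its normalisation (S̃ has integrally closed local
domains, π is integral and an isomorphism over a dense open subset of S with dense preimage), ν : X'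
→ S a seminormalization of S (X' seminormal, ν a universal homeomorphism with residue-field
isomorphisms, initial among such) and g : S̃ → X' a morphism with g followed by ν equal to π. Then ν
and g are scheme-theoretically dominant (the structure sheaf maps injectively into the direct
image), and if π is finite then so are ν and g. -/
theorem result {S Sn X' : Scheme.{u}}
    [IsNoetherian S] [IsReduced S]
    (π : Sn ⟶ S) [IsIntegralHom π] (hn : Pi1.IsNormalScheme Sn)
    (hbir : ∃ U : S.Opens, Dense (U : Set S) ∧ Dense ((π ⁻¹ᵁ U : Sn.Opens) : Set Sn) ∧ IsIso (π ∣_ U))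
    (ν : X' ⟶ S) (hν : HTop.IsSeminormalization ν) (hX' : HTop.IsSeminormal X')
    (g : Sn ⟶ X') (hg : g ≫ ν = π) :
    (IsSchemeTheoreticallyDominant ν ∧ IsSchemeTheoreticallyDominant g) ∧
      (IsFinite π → IsFinite ν ∧ IsFinite g) := by

  have hh : IsHomeomorph ν.base :=
    MorphismProperty.universally_le (topologically fun f => IsHomeomorph f) _ hν.1.1
  haveI : IsReduced X' := Groth.L28.AWN.isReduced_of_isSeminormal hX'
  haveI : Surjective ν := ⟨hh.surjective⟩
  haveI : IsDominant ν := ⟨hh.surjective.denseRange⟩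
  haveI : IsSchemeTheoreticallyDominant ν := IsSchemeTheoreticallyDominant.of_isDominant ν
  have hπd : DenseRange π := by
    obtain ⟨U, hU, -, hiso⟩ := hbir
    refine Dense.mono ?_ hU
    intro s hs
    haveI := hiso
    obtain ⟨t, ht⟩ := (π ∣_ U).homeomorph.surjective ⟨s, hs⟩
    refine ⟨t.1, ?_⟩
    have h' : (π ∣_ U) t = ⟨s, hs⟩ := ht
    have := congrArg U.ι h'
    rw [← Scheme.Hom.comp_apply, morphismRestrict_ι, Scheme.Hom.comp_apply] at this
    exact this
  have hgd : DenseRange g := by
    have h : Set.range g = ν.base ⁻¹' Set.range π := by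
      ext y
      constructor
      · rintro ⟨z, rfl⟩
        exact ⟨z, by rw [← hg, Scheme.Hom.comp_apply]⟩
      · rintro ⟨z, hz⟩
        exact ⟨z, hh.injective (by rw [← hz, ← hg, Scheme.Hom.comp_apply])⟩
    rw [DenseRange, h]
    exact Dense.preimage hπd hh.isOpenMap
  haveI : IsDominant g := ⟨hgd⟩
  haveI : IsSchemeTheoreticallyDominant g := IsSchemeTheoreticallyDominant.of_isDominant g
  refine ⟨⟨inferInstance, inferInstance⟩, fun hπ => ?_⟩
  haveI := hπ
  haveI : IsAffineHom ν := isAffineHom_of_isInducing ν hh.isClosedEmbedding.isInducing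
    hh.isClosedEmbedding.isClosed_range
  haveI : IsIntegralHom (g ≫ ν) := by rw [hg]; infer_instance
  haveI : IsAffineHom g := by
    haveI : IsAffineHom (g ≫ ν) := inferInstance
    exact IsAffineHom.of_comp g ν
  haveI : IsFinite ν := by
    refine ⟨fun U hU => ?_⟩
    have hinj := Scheme.Hom.app_injective g (ν ⁻¹ᵁ U)
    have hfin : ((g ≫ ν).app U).hom.Finite := by rw [hg]; exact π.finite_app U hU
    rw [Scheme.Hom.comp_app] at hfin
    replace hfin : ((g.app (ν ⁻¹ᵁ U)).hom.comp (ν.app U).hom).Finite := hfin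
    letI := (ν.app U).hom.toAlgebra
    letI := ((g.app (ν ⁻¹ᵁ U)).hom.comp (ν.app U).hom).toAlgebra
    haveI : IsNoetherianRing Γ(S, U) := IsLocallyNoetherian.component_noetherian ⟨U, hU⟩
    haveI : Module.Finite Γ(S, U) Γ(Sn, g ⁻¹ᵁ ν ⁻¹ᵁ U) := hfin
    let l : Γ(X', ν ⁻¹ᵁ U) →ₐ[Γ(S, U)] Γ(Sn, g ⁻¹ᵁ ν ⁻¹ᵁ U) :=
      { (g.app (ν ⁻¹ᵁ U)).hom with commutes' := fun _ => rfl }
    exact (Module.Finite.of_injective l.toLinearMap hinj : Module.Finite Γ(S, U) Γ(X', ν ⁻¹ᵁ U))
  haveI : IsFinite (g ≫ ν) := by rw [hg]; infer_instance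
  exact ⟨inferInstance, IsFinite.of_comp g ν⟩


end Groth.Agent.S15963
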