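import Groth.Statements.S15979
import Groth.Agent.L11.QFacDesc.Glue
-- import your own Groth.Agent.* helpers here

set_option autoImplicit false
universe u
open IntSh

namespace Groth.Agent.S15979

open CategoryTheory CategoryTheory.Limits AlgebraicGeometry in
/-- Let π : X → Y be a surjective locally projective morphism between normal separated Noetherian
integral schemes which is equidimensional in the sense that all fibres π⁻¹(y), y ∈ Y, have the same
Krull dimension d. If X is ℚ-factorial, so is Y. Here a normal Noetherian integral scheme is called
ℚ-factorial when for every point ξ whose local ring has dimension one the prime divisor given by the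
closure of ξ is, as a set, the support of some effective Cartier divisor (equivalently: some
positive multiple of every Weil divisor is Cartier). -/
theorem result
    {X Y : Scheme.{u}} [IsNoetherian X] [IsNoetherian Y] [IsIntegral X] [IsIntegral Y]
    [X.IsSeparated] [Y.IsSeparated]
    (hXn : Pi1.IsNormalScheme X) (hYn : Pi1.IsNormalScheme Y)
    (π : X ⟶ Y) (hπ : RelProj.IsLocallyProjective π) [Surjective π]
    (d : ℕ) (hd : ∀ y : Y, topologicalKrullDim (↥(π.fiber y) : Type u) = d)
    (hX : ∀ ξ : X, ringKrullDim (X.presheaf.stalk ξ) = 1 →
      ∃ I : X.IdealSheafData, FGA.IsEffCartier I ∧ (I.support : Set X) = closure {ξ}) :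
    ∀ η : Y, ringKrullDim (Y.presheaf.stalk η) = 1 →
      ∃ J : Y.IdealSheafData, FGA.IsEffCartier J ∧ (J.support : Set Y) = closure {η} := by
  intro η h1
  haveI : IsProper π := Groth.L11.QFac.isProper_of_isLocallyProjective π hπ
  exact Groth.L11.QFac.exists_effCartier hYn h1 fun y hy =>
    Groth.L11.QFac.exists_equation hYn π hπ d hd hX h1 hy

end Groth.Agent.S15979
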