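import Groth.Statements.S1598
import Groth.Agent.L13.CplRegular

set_option autoImplicit false
universe u
open CategoryTheory CategoryTheory.Limits AlgebraicGeometry
open Resolve

namespace Groth.Agent.S1598

/-- Let A be a Noetherian local ring with completion A^, X locally of finite type over Spec A, Y its
base change to Spec A^, and y a point of Y lying over the closed point of Spec A^ with image x in X.
Then the local ring of Y at y is regular if and only if the local ring of X at x is regular. -/
theorem result (A : Type u) [CommRing A] [IsLocalRing A] [IsNoetherianRing A]
    (X : Scheme.{u}) (f : X ⟶ Spec (CommRingCat.of A)) [LocallyOfFiniteType f]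
    (y : Curv2.bcCpl A f) (hy : (Curv2.bcCplSnd A f).base y = IsLocalRing.closedPoint (Curv2.cpl A)) :
    IsRegularLocalRing ((Curv2.bcCpl A f).presheaf.stalk y) ↔
      IsRegularLocalRing (X.presheaf.stalk ((Curv2.bcCplFst A f).base y)) := by
  exact Groth.L13.CplRegular.regular_iff f y (Groth.L13.CplRegular.apply_fst_eq_closedPoint f hy)

end Groth.Agent.S1598
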