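import Groth.Statements.S15987


set_option autoImplicit false
universe u v
open Deform

namespace Groth.Agent.S15987

open TrivSqZeroExt in
/-- Let k be a field, A a commutative k-algebra and q_i : A → k (i ∈ ι) k-algebra maps (marked k-points
of Spec A). The k-algebra automorphisms φ of the ring of dual numbers A[ε] that fix ε (so are
k[ε]-linear), are the identity modulo ε, and satisfy q_i((φ x)_ε) = q_i(x_ε) for all i and x
(compatibility with the trivial lifts A[ε] → k[ε] of the marked points) are in bijection with the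
k-derivations D : A → A such that q_i ∘ D = 0 for every i, the bijection sending φ to a ↦ (φ(a))_ε.
(The source identifies the right-hand side with the global vector fields vanishing at the marked
points; the condition the computation yields is q_i ∘ D = 0, which is the same for Spec A smooth
over k but is weaker in general, e.g. for A = k[x]/(x^2) with 2 invertible in k.) -/
theorem result
    (k : Type u) [Field k] (A : Type u) [CommRing A] [Algebra k A] {ι : Type v} (q : ι → (A →ₐ[k] k)) :
    ∃ e : {φ : DualNumber A ≃ₐ[k] DualNumber A //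
            φ DualNumber.eps = DualNumber.eps ∧ (∀ x, (φ x).fst = x.fst) ∧
              ∀ i x, q i (φ x).snd = q i x.snd} ≃
          {D : Derivation k A A // ∀ i a, q i (D a) = 0},
      ∀ φ (a : A), (e φ).1 a = (φ.1 (inl a : DualNumber A)).snd := by
  have hinr : ∀ (φ : {φ : DualNumber A ≃ₐ[k] DualNumber A //
      φ DualNumber.eps = DualNumber.eps ∧ (∀ x, (φ x).fst = x.fst) ∧ ∀ i x, q i (φ x).snd = q i x.snd}) (b : A),
      φ.1 (inr b) = inr b := fun φ b => by
    have e : (inr b : DualNumber A) = DualNumber.eps * inl b := by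
      refine TrivSqZeroExt.ext ?_ ?_ <;> simp
    rw [e, map_mul, φ.2.1]
    refine TrivSqZeroExt.ext ?_ ?_ <;> simp [φ.2.2.1]
  have happ : ∀ (φ : {φ : DualNumber A ≃ₐ[k] DualNumber A //
      φ DualNumber.eps = DualNumber.eps ∧ (∀ x, (φ x).fst = x.fst) ∧ ∀ i x, q i (φ x).snd = q i x.snd}) (x : DualNumber A),
      φ.1 x = inl x.fst + inr (x.snd + (φ.1 (inl x.fst)).snd) := fun φ x => by
    conv_lhs => rw [← inl_fst_add_inr_snd_eq x, map_add, hinr]
    refine TrivSqZeroExt.ext ?_ ?_
    · simp [φ.2.2.1]
    · simp [add_comm]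
  have hk : ∀ c : k, (inl (algebraMap k A c) : DualNumber A) = algebraMap k (DualNumber A) c := fun c => rfl
  let toD : {φ : DualNumber A ≃ₐ[k] DualNumber A //
      φ DualNumber.eps = DualNumber.eps ∧ (∀ x, (φ x).fst = x.fst) ∧ ∀ i x, q i (φ x).snd = q i x.snd} →
      {D : Derivation k A A // ∀ i a, q i (D a) = 0} := fun φ =>
    ⟨Derivation.mk'
      { toFun := fun a => (φ.1 (inl a)).snd
        map_add' := fun a b => by rw [inl_add, map_add]; rfl
        map_smul' := fun c a => by
          rw [Algebra.smul_def, inl_mul, map_mul, hk, AlgEquiv.commutes]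
          simp [TrivSqZeroExt.algebraMap_eq_inl', Algebra.smul_def] }
      (fun a b => by
        change (φ.1 (inl (a * b))).snd = a • (φ.1 (inl b)).snd + b • (φ.1 (inl a)).snd
        rw [inl_mul, map_mul, snd_mul, φ.2.2.1, φ.2.2.1]
        simp [mul_comm]), fun i a => by
      change q i (φ.1 (inl a)).snd = 0
      rw [φ.2.2.2 i (inl a), snd_inl, map_zero]⟩
  let g : Derivation k A A → (DualNumber A →ₐ[k] DualNumber A) := fun D =>
    { toFun := fun x => inl x.fst + inr (x.snd + D x.fst)
      map_one' := by refine TrivSqZeroExt.ext ?_ ?_ <;> simp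
      map_mul' := fun x y => by
        refine TrivSqZeroExt.ext ?_ ?_
        · simp
        · simp [D.leibniz]
          ring
      map_zero' := by refine TrivSqZeroExt.ext ?_ ?_ <;> simp
      map_add' := fun x y => by
        refine TrivSqZeroExt.ext ?_ ?_
        · simp
        · simp
          ring
      commutes' := fun c => by
        refine TrivSqZeroExt.ext ?_ ?_ <;> simp [TrivSqZeroExt.algebraMap_eq_inl'] }
  have hg : ∀ (D : Derivation k A A) (x : DualNumber A), g D x = inl x.fst + inr (x.snd + D x.fst) := fun D x => rfl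
  have hgg : ∀ D : Derivation k A A, (g D).comp (g (-D)) = AlgHom.id k _ := fun D => AlgHom.ext fun x => by
    simp only [AlgHom.comp_apply, AlgHom.id_apply, hg]
    refine TrivSqZeroExt.ext ?_ ?_ <;> simp
  let ofD : {D : Derivation k A A // ∀ i a, q i (D a) = 0} → {φ : DualNumber A ≃ₐ[k] DualNumber A //
      φ DualNumber.eps = DualNumber.eps ∧ (∀ x, (φ x).fst = x.fst) ∧ ∀ i x, q i (φ x).snd = q i x.snd} := fun D =>
    ⟨AlgEquiv.ofAlgHom (g D.1) (g (-D.1)) (hgg _) (by simpa using hgg (-D.1)), by
      refine ⟨?_, fun x => ?_, fun i x => ?_⟩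
      · rw [AlgEquiv.ofAlgHom_apply, hg]
        refine TrivSqZeroExt.ext ?_ ?_ <;> simp
      · rw [AlgEquiv.ofAlgHom_apply, hg]
        simp
      · rw [AlgEquiv.ofAlgHom_apply, hg]
        simp [D.2 i]⟩
  refine ⟨⟨toD, ofD, fun φ => ?_, fun D => ?_⟩, fun φ a => rfl⟩
  · refine Subtype.ext (AlgEquiv.ext fun x => ?_)
    exact (happ φ x).symm
  · refine Subtype.ext (Derivation.ext fun a => ?_)
    change (inl (inl a : DualNumber A).fst + inr ((inl a : DualNumber A).snd + D.1 (inl a : DualNumber A).fst) : DualNumber A).snd = D.1 a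
    simp
end Groth.Agent.S15987
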