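import Groth.Statements.S15988


set_option autoImplicit false
universe u v
open Deform

namespace Groth.Agent.S15988

open TrivSqZeroExt in
/-- Let k be a field, A a smooth commutative k-algebra, q_i : A → k (i ∈ ι, ι finite) pairwise distinct
k-algebra maps, and q'_i : A[ε] → k[ε] k-algebra maps with q'_i(ε) = ε which reduce to q_i modulo ε
(marked points of a first-order deformation with underlying trivial deformation). Then some
k-algebra automorphism φ of A[ε] with φ(ε) = ε and φ = id modulo ε carries every q'_i to the trivial
lift of q_i: q'_i(φ x) = (q_i(x_0), q_i(x_ε)) for all i and x. Together with the triviality of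
first-order deformations of a smooth affine scheme this gives the source's statement that
first-order deformations of a smooth affine scheme with marked points are trivial. (The published
statement does not say that the finitely many marked points are distinct; for two coincident points
with different lifts no such automorphism exists, so the points are taken pairwise distinct here,
and the source's non-singular is read as smooth over k.) -/
theorem result
    (k : Type u) [Field k] (A : Type u) [CommRing A] [Algebra k A] [Algebra.Smooth k A]
    {ι : Type v} [Finite ι] (q : ι → (A →ₐ[k] k)) (hq : Function.Injective q)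
    (q' : ι → (DualNumber A →ₐ[k] DualNumber k))
    (hε : ∀ i, q' i DualNumber.eps = DualNumber.eps) (hq' : ∀ i x, (q' i x).fst = q i x.fst) :
    ∃ φ : DualNumber A ≃ₐ[k] DualNumber A,
      φ DualNumber.eps = DualNumber.eps ∧ (∀ x, (φ x).fst = x.fst) ∧
        ∀ i x, (q' i (φ x)).fst = q i x.fst ∧ (q' i (φ x)).snd = q i x.snd := by
  classical
  cases nonempty_fintype ι
  let Q : A →ₐ[k] (ι → k) := Pi.algHom k _ q
  have hQs : Function.Surjective Q := by
    have hmax : ∀ i, (RingHom.ker (q i)).IsMaximal := fun i =>
      RingHom.ker_isMaximal_of_surjective _ fun c => ⟨algebraMap k A c, (q i).commutes c⟩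
    have hne : Pairwise fun i j => IsCoprime (RingHom.ker (q i)) (RingHom.ker (q j)) := fun i j hij => by
      refine Ideal.isCoprime_iff_sup_eq.2 (Ideal.IsMaximal.coprime_of_ne (hmax i) (hmax j) fun h => hij (hq ?_))
      refine AlgHom.ext fun a => ?_
      have h1 : a - algebraMap k A (q i a) ∈ RingHom.ker (q i) := by
        rw [RingHom.mem_ker, map_sub, AlgHom.commutes, Algebra.algebraMap_self_apply, sub_self]
      rw [h, RingHom.mem_ker, map_sub, AlgHom.commutes, Algebra.algebraMap_self_apply, sub_eq_zero] at h1
      exact h1.symm
    intro c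
    obtain ⟨a, ha⟩ := Ideal.exists_forall_sub_mem_ideal hne fun i => algebraMap k A (c i)
    refine ⟨a, funext fun i => ?_⟩
    have := RingHom.mem_ker.1 (ha i)
    rw [map_sub, AlgHom.commutes, Algebra.algebraMap_self_apply, sub_eq_zero] at this
    exact this
  letI : Algebra A (ι → k) := Q.toRingHom.toAlgebra
  haveI : IsScalarTower k A (ι → k) := IsScalarTower.of_algebraMap_eq fun c => (Q.commutes c).symm
  let d : A → ι → k := fun a i => (q' i (TrivSqZeroExt.inl a)).snd
  have hfst : ∀ i a, (q' i (TrivSqZeroExt.inl a)).fst = q i a := fun i a => hq' i _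
  have hmul : ∀ a b, d (a * b) = a • d b + b • d a := fun a b => funext fun i => by
    change (q' i (TrivSqZeroExt.inl (a * b))).snd = q i a * d b i + q i b * d a i
    rw [TrivSqZeroExt.inl_mul, map_mul, TrivSqZeroExt.snd_mul, hfst, hfst, op_smul_eq_smul, smul_eq_mul, smul_eq_mul]
  let dl : A →ₗ[k] (ι → k) :=
    { toFun := d
      map_add' := fun a b => funext fun i => by
        change (q' i (TrivSqZeroExt.inl (a + b))).snd = d a i + d b i
        rw [TrivSqZeroExt.inl_add, map_add, TrivSqZeroExt.snd_add]
      map_smul' := fun c a => funext fun i => by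
        change (q' i (TrivSqZeroExt.inl (c • a))).snd = c • d a i
        rw [TrivSqZeroExt.inl_smul, map_smul, TrivSqZeroExt.snd_smul] }
  let δ : Derivation k A (ι → k) := Derivation.mk' dl hmul
  obtain ⟨L, hL⟩ := Module.projective_lifting_property (Algebra.linearMap A (ι → k))
    (-δ.liftKaehlerDifferential) hQs
  let D : Derivation k A A := L.compDer (KaehlerDifferential.D k A)
  have hD : ∀ a i, q i (D a) = -d a i := fun a i => by
    have h1 := DFunLike.congr_fun hL (KaehlerDifferential.D k A a)
    rw [LinearMap.comp_apply, LinearMap.neg_apply, Derivation.liftKaehlerDifferential_comp_D] at h1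
    exact congrFun h1 i
  have hshift : ∀ (E : Derivation k A A), ∃ φ : DualNumber A →ₐ[k] DualNumber A,
      ∀ x, (φ x).fst = x.fst ∧ (φ x).snd = x.snd + E x.fst := fun E => by
    refine ⟨{ toFun := fun x => TrivSqZeroExt.inl x.fst + TrivSqZeroExt.inr (x.snd + E x.fst)
              map_one' := by ext <;> simp
              map_mul' := fun x y => by
                ext
                · simp
                · simp [Derivation.leibniz, mul_add]; ring
              map_zero' := by ext <;> simp
              map_add' := fun x y => by
                ext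
                · simp
                · simp; ring
              commutes' := fun c => by
                ext <;> simp [TrivSqZeroExt.algebraMap_eq_inl'] }, fun x => ⟨?_, ?_⟩⟩ <;> simp
  obtain ⟨f, hf⟩ := hshift D
  obtain ⟨g, hg⟩ := hshift (-D)
  refine ⟨AlgEquiv.ofAlgHom f g (AlgHom.ext fun x => TrivSqZeroExt.ext ?_ ?_)
    (AlgHom.ext fun x => TrivSqZeroExt.ext ?_ ?_), TrivSqZeroExt.ext ?_ ?_, fun x => (hf x).1, fun i x => ⟨?_, ?_⟩⟩
  · simp [(hf _).1, (hg _).1]
  · simp [(hf _).2, (hg _).1, (hg _).2]
  · simp [(hf _).1, (hg _).1]
  · simp [(hg _).2, (hf _).1, (hf _).2]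
  · exact (hf _).1
  · exact (hf _).2.trans (by simp)
  · exact (hq' i _).trans (congrArg (q i) (hf x).1)
  · change (q' i (f x)).snd = q i x.snd
    have h1 : f x = TrivSqZeroExt.inl x.fst + DualNumber.eps * TrivSqZeroExt.inl (x.snd + D x.fst) :=
      TrivSqZeroExt.ext (by simp [(hf x).1]) (by simp [(hf x).2])
    rw [h1, map_add, map_mul, hε, TrivSqZeroExt.snd_add, TrivSqZeroExt.snd_mul, DualNumber.fst_eps,
      DualNumber.snd_eps, hfst, zero_smul, zero_add, op_smul_eq_smul, smul_eq_mul, mul_one, map_add, hD]
    change d x.fst i + (q i x.snd + -d x.fst i) = q i x.snd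
    ring
end Groth.Agent.S15988
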