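import Groth.Statements.S15989
import Groth.Agent.L13.Isotrivial.Cubic

set_option autoImplicit false
universe u
open ModFun

namespace Groth.Agent.S15989

open AlgebraicGeometry CategoryTheory in
/-- Over an algebraically closed field k, the moduli problem of curves of genus 1 (proper smooth
geometrically irreducible C → T with one-dimensional geometric fibres of genus 1, modulo isomorphism
over T, on all k-schemes T) is not representable: no k-scheme M carries a universal family. (The
published statement asserts non-representability for every genus g and every number n of marked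
points, which fails for g = 0 and n = 3: three disjoint sections identify every family with the
projective line over the base marked at 0, 1 and ∞, so that functor is represented by a point; its
argument is carried out in genus 1 with one marked point, and the unpointed genus-1 case stated here
is what that argument, with the same isotrivial family, proves.) -/
theorem result (k : Type u) [Field k] [IsAlgClosed k]
    (M : Over (Spec (CommRingCat.of k))) :
    ¬ ModFun.IsFineModuli ⊤ (ModFun.Mg (Spec (CommRingCat.of k)) 1) M := by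
  rintro ⟨ξ, -, huniv⟩
  obtain ⟨a0, ha0⟩ := Groth.Agent.L13.Isotrivial.exists_adm k
  let K := FractionRing (Polynomial k)
  let t : K := algebraMap (Polynomial k) K Polynomial.X
  let a : K := algebraMap (Polynomial k) K (Polynomial.C a0)
  have hinj : Function.Injective (algebraMap (Polynomial k) K) := IsFractionRing.injective _ _
  have ht : t ≠ 0 := fun h => Polynomial.X_ne_zero (hinj (h.trans (map_zero _).symm))
  have ha : Groth.Agent.L13.Isotrivial.Adm a :=
    ha0.map ((algebraMap (Polynomial k) K).comp Polynomial.C)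
  let Ω := AlgebraicClosure K
  let φ : K →+* Ω := algebraMap K Ω
  let j : CommRingCat.of K ⟶ CommRingCat.of Ω := CommRingCat.ofHom φ
  let TK : Over (Spec (CommRingCat.of k)) :=
    Over.mk (Spec.map (CommRingCat.ofHom ((algebraMap (Polynomial k) K).comp Polynomial.C)))
  let TΩ : Over (Spec (CommRingCat.of k)) := Over.mk (Spec.map j ≫ TK.hom)
  let f : TΩ ⟶ TK := Over.homMk (Spec.map j) rfl
  let E : K → Over TK.left := fun c => Over.mk (Groth.Agent.L13.Isotrivial.hypHom (Groth.Agent.L13.Isotrivial.cubic c a))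
  let x : Over TΩ.left := Over.mk (Groth.Agent.L13.Isotrivial.hypHom (Groth.Agent.L13.Isotrivial.cubic (1 : Ω) (φ a)))
  have hok : ∀ c : K, c ≠ 0 → (Mg (Spec (CommRingCat.of k)) 1).ok TK (E c) := fun c hc =>
    ⟨trivial, Groth.Agent.L13.Isotrivial.isCurveOfGenus_cubic hc ha⟩
  have hx : (Mg (Spec (CommRingCat.of k)) 1).ok TΩ x :=
    ⟨trivial, Groth.Agent.L13.Isotrivial.isCurveOfGenus_cubic one_ne_zero (ha.map φ)⟩
  -- both cubics become `x` over `Ω`
  have hpull : ∀ (c : K) (w : Fin (2 + 1) → Ω), (∀ i, w i ≠ 0) →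
      Groth.Agent.L13.Isotrivial.scForm φ w (Groth.Agent.L13.Isotrivial.cubic c a) =
        Groth.Agent.L13.Isotrivial.cubic 1 (φ a) →
      Nonempty ((Over.pullback f.left).obj (E c) ≅ x) := by
    intro c w hw e
    obtain ⟨g, hg⟩ := Groth.Agent.L13.Isotrivial.exists_isPullback_hyp φ w hw (Groth.Agent.L13.Isotrivial.cubic c a)
    obtain ⟨g', hg'⟩ : ∃ g', IsPullback g' x.hom (E c).hom f.left := by
      show ∃ g', IsPullback g' (Groth.Agent.L13.Isotrivial.hypHom (Groth.Agent.L13.Isotrivial.cubic (1 : Ω) (φ a))) _ _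
      rw [← e]; exact ⟨g, hg⟩
    exact ⟨(Over.isoMk hg'.isoPullback hg'.isoPullback_hom_snd).symm⟩
  obtain ⟨s, hs⟩ := IsAlgClosed.exists_pow_nat_eq (φ t) (n := 3) (by norm_num)
  have hs0 : s ≠ 0 := by
    rintro rfl
    exact (map_ne_zero φ).mpr ht (by simpa using hs.symm)
  obtain ⟨e1⟩ := hpull 1 (fun _ => 1) (fun _ => one_ne_zero)
    (Groth.Agent.L13.Isotrivial.scForm_cubic φ _ _ _ _ _ rfl (by simp) (by simp) (by simp))
  obtain ⟨et⟩ := hpull t ![1, s⁻¹, s⁻¹ ^ 2] (fun i => by fin_cases i <;> simp [hs0])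
    (Groth.Agent.L13.Isotrivial.scForm_cubic φ _ _ _ _ _ rfl
      (by rw [← hs]; simp [hs0])
      (by rw [map_pow, ← hs]; simp [← pow_mul, hs0])
      (by rw [map_mul, ← hs]; simp only [Matrix.cons_val_one, Matrix.cons_val, Matrix.cons_val_zero]; rw [mul_assoc, show s ^ 3 * (s⁻¹ * s⁻¹ ^ 2) = 1 by rw [← pow_succ', ← mul_pow, mul_inv_cancel₀ hs0, one_pow]]))
  obtain ⟨g1, ⟨i1⟩, -⟩ := huniv TK (E 1) trivial (hok 1 one_ne_zero)
  obtain ⟨gt, ⟨it⟩, -⟩ := huniv TK (E t) trivial (hok t ht)
  have hcl : ∀ (g : TK ⟶ M) (c : K), ((Over.pullback g.left).obj ξ ≅ E c) →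
      ((Over.pullback f.left).obj (E c) ≅ x) →
      Nonempty ((Over.pullback (f ≫ g).left).obj ξ ≅ x) := fun g c i e =>
    ⟨(Over.pullbackComp f.left g.left).app ξ ≪≫ (Over.pullback f.left).mapIso i ≪≫ e⟩
  have hfg : f ≫ gt = f ≫ g1 := (huniv TΩ x trivial hx).unique (hcl gt t it et) (hcl g1 1 i1 e1)
  haveI : Flat (Spec.map j) := HasRingHomProperty.Spec_iff.mpr (by
    show (algebraMap K Ω).Flat
    rw [RingHom.flat_algebraMap_iff]; infer_instance)
  haveI : Surjective (Spec.map j) := ⟨fun y => ⟨IsLocalRing.closedPoint Ω, Subsingleton.elim (α := PrimeSpectrum K) _ _⟩⟩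
  haveI := Flat.epi_of_flat_of_surjective (Spec.map j)
  have hg : gt = g1 := Over.OverMorphism.ext ((cancel_epi (Spec.map j)).mp congr($(hfg).left))
  subst hg
  let i : E 1 ≅ E t := i1.symm ≪≫ it
  obtain ⟨σ, hσ⟩ := Groth.Agent.L13.Isotrivial.zero_gives_section (Groth.Agent.L13.Isotrivial.cubic (1 : K) a)
    ![1, -1, 0] 0 (by simp) (by simp [Groth.Agent.L13.Isotrivial.eval_cubic]; ring)
  obtain ⟨b, ⟨m, hm⟩, hb⟩ := Groth.Agent.L13.Isotrivial.section_gives_zero (Groth.Agent.L13.Isotrivial.cubic t a)
    (σ ≫ i.hom.left) (by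
      rw [Category.assoc]
      exact (congrArg (σ ≫ ·) (Over.w i.hom)).trans hσ)
  have := Groth.Agent.L13.Isotrivial.no_zero a0 b hb
  rw [this] at hm
  exact one_ne_zero hm.symm

end Groth.Agent.S15989
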