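import Groth.Statements.S15991
import Groth.Agent.L15.RigidAffine
import Mathlib.RingTheory.Kaehler.Basic
import Mathlib.RingTheory.DualNumber
-- import your own Groth.Agent.* helpers here

set_option autoImplicit false
universe u v
open Deform

namespace Groth.Agent.S15991

/-- Finitely many tangent vectors at distinct rational points are values of a derivation. -/
theorem exists_derivation (k B : Type u) [Field k] [CommRing B] [Algebra k B] [Algebra.FormallySmooth k B]
    {ι : Type v} [Finite ι] (q : ι → B →ₐ[k] k) (hq : Function.Injective q) (D : ι → B →ₗ[k] k)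
    (hD : ∀ j a b, D j (a * b) = q j a * D j b + q j b * D j a) :
    ∃ δ : Derivation k B B, ∀ j b, q j (δ b) = D j b := by
  let I : ι → Ideal B := fun j => RingHom.ker (q j).toRingHom
  have hmax : ∀ j, (I j).IsMaximal := fun j =>
    RingHom.ker_isMaximal_of_surjective _ fun c => ⟨algebraMap k B c, (q j).commutes c⟩
  have hI : Pairwise (Function.onFun IsCoprime I) := by
    intro a b hab
    show IsCoprime (I a) (I b)
    rw [Ideal.isCoprime_iff_sup_eq]
    refine Ideal.IsMaximal.coprime_of_ne (hmax a) (hmax b) fun e => hab (hq (AlgHom.ext fun x => ?_))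
    have h1 : x - algebraMap k B (q a x) ∈ I a := by simp [I]
    rw [e] at h1
    have h2 : q b x - q a x = 0 := by simpa [I] using h1
    exact (sub_eq_zero.mp h2).symm
  have hex : ∀ b, ∃ y : B, ∀ j, q j y = D j b := fun b => by
    obtain ⟨y, hy⟩ := Ideal.exists_forall_sub_mem_ideal hI (fun j => algebraMap k B (D j b))
    exact ⟨y, fun j => sub_eq_zero.mp (by simpa [I] using hy j)⟩
  choose y hy using hex
  let K : Ideal B := ⨅ j, I j
  have hK : ∀ x z : B, Ideal.Quotient.mk K x = Ideal.Quotient.mk K z ↔ ∀ j, q j x = q j z := fun x z => by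
    rw [Ideal.Quotient.eq, Ideal.mem_iInf]
    simp [I, sub_eq_zero]
  let L : B →ₗ[k] B ⧸ K :=
    { toFun := fun b => Ideal.Quotient.mk K (y b)
      map_add' := fun a b => by rw [← map_add, hK]; intro j; simp [hy]
      map_smul' := fun c b => by
        rw [RingHom.id_apply, show c • Ideal.Quotient.mk K (y b) = Ideal.Quotient.mk K (c • y b) from rfl, hK]
        intro j
        simp [hy] }
  let E : Derivation k B (B ⧸ K) := Derivation.mk' L fun a b => by
    show Ideal.Quotient.mk K (y (a * b)) = Ideal.Quotient.mk K (a * y b) + Ideal.Quotient.mk K (b * y a)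
    rw [← map_add, hK]
    intro j
    simp [hy, hD]
  obtain ⟨h, hh⟩ := Module.projective_lifting_property (Submodule.mkQ K) E.liftKaehlerDifferential
    (Submodule.mkQ_surjective K)
  refine ⟨h.compDer (KaehlerDifferential.D k B), fun j b => ?_⟩
  have h1 := LinearMap.congr_fun hh (KaehlerDifferential.D k B b)
  rw [LinearMap.comp_apply, Derivation.liftKaehlerDifferential_comp_D] at h1
  exact ((hK _ _).mp h1 j).trans (hy b j)

/-- A section of the reduction which is constant on prescribed points. -/
theorem exists_section (k B R : Type u) [Field k] [CommRing B] [Algebra k B] [Algebra.FormallySmooth k B]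
    [CommRing R] [Algebra k R] [Algebra (DualNumber k) R] [IsScalarTower k (DualNumber k) R]
    (β : R →ₐ[k] B) (hβs : Function.Surjective β) (hnil : IsNilpotent (RingHom.ker β.toRingHom))
    (hβε : β (algebraMap (DualNumber k) R DualNumber.eps) = 0)
    {ι : Type v} [Finite ι] (q : ι → B →ₐ[k] k) (hq : Function.Injective q) (P : ι → R →ₐ[DualNumber k] DualNumber k)
    (hP : ∀ j r, TrivSqZeroExt.fst (P j r) = q j (β r)) :
    ∃ s : B →ₐ[k] R, (∀ b, β (s b) = b) ∧ ∀ j b, P j (s b) = algebraMap k (DualNumber k) (q j b) := by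
  let s₀ := Algebra.FormallySmooth.liftOfSurjective (AlgHom.id k B) β hβs hnil
  have hs₀ : ∀ b, β (s₀ b) = b := Algebra.FormallySmooth.liftOfSurjective_apply _ β hβs hnil
  have hfst : ∀ j b, TrivSqZeroExt.fst (P j (s₀ b)) = q j b := fun j b => by rw [hP, hs₀]
  let D : ι → B →ₗ[k] k := fun j =>
    (TrivSqZeroExt.sndHom k k).comp (((P j).restrictScalars k).comp s₀).toLinearMap
  have hD : ∀ j a b, D j (a * b) = q j a * D j b + q j b * D j a := fun j a b => by
    show TrivSqZeroExt.snd (P j (s₀ (a * b))) = _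
    rw [map_mul, map_mul, DualNumber.snd_mul, hfst, hfst]
    show _ = q j a * TrivSqZeroExt.snd (P j (s₀ b)) + q j b * TrivSqZeroExt.snd (P j (s₀ a))
    ring
  obtain ⟨δ, hδ⟩ := exists_derivation k B q hq D hD
  let ε : R := algebraMap (DualNumber k) R DualNumber.eps
  have hε : ε * ε = 0 := by rw [← map_mul, DualNumber.eps_mul_eps, map_zero]
  let s : B →ₐ[k] R :=
    { toFun := fun b => s₀ b - ε * s₀ (δ b)
      map_one' := by simp
      map_mul' := fun a b => by
        rw [Derivation.leibniz, smul_eq_mul, smul_eq_mul, map_add, map_mul, map_mul, map_mul]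
        linear_combination (- s₀ (δ a) * s₀ (δ b)) * hε
      map_zero' := by simp
      map_add' := fun a b => by simp only [map_add]; ring
      commutes' := fun c => by
        rw [Derivation.map_algebraMap, map_zero, mul_zero, sub_zero, AlgHom.commutes] }
  refine ⟨s, fun b => ?_, fun j b => ?_⟩
  · show β (s₀ b - ε * s₀ (δ b)) = b
    rw [map_sub, map_mul, hβε, zero_mul, sub_zero, hs₀]
  · show P j (s₀ b - ε * s₀ (δ b)) = _
    rw [map_sub, map_mul, show P j ε = DualNumber.eps from (P j).commutes _]
    refine TrivSqZeroExt.ext ?_ ?_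
    · simp [hfst, TrivSqZeroExt.algebraMap_eq_inl]
    · simp [hfst, hδ, DualNumber.snd_mul, TrivSqZeroExt.algebraMap_eq_inl]
      exact sub_self _

open AlgebraicGeometry CategoryTheory in
/-- Let k be a field and X an affine scheme smooth over k, with finitely many pairwise distinct
k-rational points p_j (j ∈ ι). Let X' → Spec k[ε] be flat, i : X → X' a morphism making X the fibre
over the closed point Spec k → Spec k[ε] (cartesian square), and p'_j : Spec k[ε] → X' sections
restricting to the p_j. Then there is an isomorphism φ : X' ≅ X ×_{Spec k} Spec k[ε] over Spec k[ε]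
such that i followed by φ is the inclusion of X at the closed point (its first component is the
identity of X) and each p'_j followed by φ is the constant section through p_j: every first-order
deformation of a smooth affine scheme with marked points is trivial. (The source says non-singular;
smooth over k is assumed here, and the marked points are taken pairwise distinct and finite in
number.) -/
theorem result
    (k : Type u) [Field k] (X : Scheme.{u}) (hX : X ⟶ Spec (CommRingCat.of k)) [IsAffine X] [Smooth hX]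
    {ι : Type v} [Finite ι] (p : ι → (Spec (CommRingCat.of k) ⟶ X)) (hp : ∀ j, p j ≫ hX = 𝟙 _)
    (hinj : Function.Injective p)
    (X' : Scheme.{u}) (g : X' ⟶ Spec (CommRingCat.of (DualNumber k))) [Flat g] (i : X ⟶ X')
    (hsq : IsPullback i hX g
      (Spec.map (CommRingCat.ofHom (TrivSqZeroExt.fstHom k k k).toRingHom)))
    (p' : ι → (Spec (CommRingCat.of (DualNumber k)) ⟶ X')) (hp' : ∀ j, p' j ≫ g = 𝟙 _)
    (hpp' : ∀ j, p j ≫ i = Spec.map (CommRingCat.ofHom (TrivSqZeroExt.fstHom k k k).toRingHom) ≫ p' j) :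
    ∃ φ : X' ≅ Limits.pullback hX (Spec.map (CommRingCat.ofHom (algebraMap k (DualNumber k)))),
      φ.hom ≫ Limits.pullback.snd hX (Spec.map (CommRingCat.ofHom (algebraMap k (DualNumber k)))) = g ∧
        i ≫ φ.hom ≫ Limits.pullback.fst hX (Spec.map (CommRingCat.ofHom (algebraMap k (DualNumber k)))) = 𝟙 X ∧
          ∀ j, p' j ≫ φ.hom ≫
              Limits.pullback.fst hX (Spec.map (CommRingCat.ofHom (algebraMap k (DualNumber k)))) =
            Spec.map (CommRingCat.ofHom (algebraMap k (DualNumber k))) ≫ p j := by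
  let e : DualNumber k →ₐ[k] k := TrivSqZeroExt.fstHom k k k
  haveI : IsLocalRing (DualNumber k) := inferInstance
  haveI : Module.Finite k (DualNumber k) := inferInstanceAs (Module.Finite k (k × k))
  haveI : IsArtinianRing (DualNumber k) := IsArtinianRing.of_finite k (DualNumber k)
  let c : CommRingCat.of k ⟶ Γ(X, ⊤) := Spec.preimage (X.isoSpec.inv ≫ hX)
  have hc : Spec.map c = X.isoSpec.inv ≫ hX := Spec.map_preimage _
  have hsq' : IsPullback (X.isoSpec.inv ≫ i) (Spec.map c) g (Spec.map (CommRingCat.ofHom e.toRingHom)) :=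
    hsq.of_iso X.isoSpec (Iso.refl _) (Iso.refl _) (Iso.refl _) (by simp) (by simp [hc]) (by simp) (by simp [e])
  obtain ⟨R, φ, β, E, hflat, hβs, hker, hw, hE, hiE⟩ := Groth.L15.RigidAffine.exists_model
    (CommRingCat.ofHom e.toRingHom) (fun a => ⟨algebraMap k _ a, e.commutes a⟩) c g (X.isoSpec.inv ≫ i) hsq'
  letI : Algebra k Γ(X, ⊤) := c.hom.toAlgebra
  letI : Algebra (DualNumber k) R := φ.hom.toAlgebra
  letI : Algebra k R := (φ.hom.comp (algebraMap k (DualNumber k))).toAlgebra
  haveI : IsScalarTower k (DualNumber k) R := ⟨fun x a r => by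
    show φ.hom (x • a) * r = φ.hom (algebraMap k (DualNumber k) x) * (φ.hom a * r)
    rw [← mul_assoc, ← map_mul, ← Algebra.smul_def]⟩
  haveI : Module.Flat (DualNumber k) R := hflat
  have hβe : ∀ a : DualNumber k, β.hom (φ.hom a) = c.hom (e a) := fun a => ConcreteCategory.congr_hom hw a
  let β' : R →ₐ[k] Γ(X, ⊤) :=
    { β.hom with commutes' := fun x => (hβe (algebraMap k (DualNumber k) x)).trans (congrArg c.hom (e.commutes x)) }
  haveI : Algebra.Smooth k Γ(X, ⊤) := by
    haveI : Smooth (Spec.map c) := by rw [hc]; infer_instance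
    exact RingHom.smooth_algebraMap.mp (HasRingHomProperty.Spec_iff.mp ‹Smooth (Spec.map c)›)
  have hnil : IsNilpotent (RingHom.ker β'.toRingHom) := by
    obtain ⟨n, hn⟩ := (isArtinianRing_iff_isNilpotent_maximalIdeal (DualNumber k)).mp inferInstance
    refine ⟨n, ?_⟩
    show RingHom.ker β.hom ^ n = 0
    rw [hker, ← Ideal.map_pow]
    refine le_bot_iff.mp ((Ideal.map_mono (Ideal.pow_right_mono (IsLocalRing.le_maximalIdeal
      (RingHom.ker_ne_top _)) n)).trans ?_)
    rw [hn]
    exact Ideal.map_bot.le
  have hQ : ∀ j, c ≫ Spec.preimage (p j ≫ X.isoSpec.hom) = 𝟙 (CommRingCat.of k) := fun j => by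
    apply Spec.map_injective
    rw [Spec.map_comp, Spec.map_preimage, hc, Category.assoc, X.isoSpec.hom_inv_id_assoc, hp, Spec.map_id]
  let q : ι → Γ(X, ⊤) →ₐ[k] k := fun j =>
    { (Spec.preimage (p j ≫ X.isoSpec.hom)).hom with commutes' := fun x => ConcreteCategory.congr_hom (hQ j) x }
  have hqS : ∀ j, Spec.map (CommRingCat.ofHom (q j).toRingHom) = p j ≫ X.isoSpec.hom := fun j =>
    Spec.map_preimage (p j ≫ X.isoSpec.hom)
  have hq : Function.Injective q := fun a b h => hinj (by
    rw [← cancel_mono X.isoSpec.hom, ← hqS, ← hqS, h])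
  have hPφ : ∀ j, φ ≫ Spec.preimage (p' j ≫ E.hom) = 𝟙 (CommRingCat.of (DualNumber k)) := fun j => by
    apply Spec.map_injective
    rw [Spec.map_comp, Spec.map_preimage, Category.assoc, hE, hp', Spec.map_id]
  let P : ι → R →ₐ[DualNumber k] DualNumber k := fun j =>
    { (Spec.preimage (p' j ≫ E.hom)).hom with commutes' := fun x => ConcreteCategory.congr_hom (hPφ j) x }
  have hP : ∀ j r, TrivSqZeroExt.fst (P j r) = q j (β' r) := fun j r => by
    have h : Spec.preimage (p' j ≫ E.hom) ≫ CommRingCat.ofHom e.toRingHom =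
        β ≫ Spec.preimage (p j ≫ X.isoSpec.hom) := by
      apply Spec.map_injective
      rw [Spec.map_comp, Spec.map_comp, Spec.map_preimage, Spec.map_preimage, ← hiE]
      simp only [Category.assoc, Iso.hom_inv_id_assoc]
      exact ((reassoc_of% (hpp' j)) E.hom).symm
    exact ConcreteCategory.congr_hom h r
  obtain ⟨s, hs, hPs⟩ := exists_section k Γ(X, ⊤) R β' hβs hnil
    ((hβe DualNumber.eps).trans (by simp [e, DualNumber.fst_eps])) q hq P hP
  obtain ⟨ψ, hψ, hψ'⟩ := Groth.L15.RigidAffine.exists_iso hX hc.symm g E hE e β' hβe hker s hs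
  refine ⟨ψ, hψ, ?_, fun j => ?_⟩
  · rw [hψ', show i ≫ E.hom ≫ _ = X.isoSpec.hom ≫ ((X.isoSpec.inv ≫ i) ≫ E.hom) ≫
      Spec.map (CommRingCat.ofHom s.toRingHom) ≫ X.isoSpec.inv from by simp, hiE, ← Spec.map_comp_assoc,
      show CommRingCat.ofHom s.toRingHom ≫ β = 𝟙 _ from CommRingCat.hom_ext (RingHom.ext hs), Spec.map_id]
    exact (congrArg (X.isoSpec.hom ≫ ·) (Category.id_comp _)).trans X.isoSpec.hom_inv_id
  · have h : CommRingCat.ofHom s.toRingHom ≫ Spec.preimage (p' j ≫ E.hom) =
        Spec.preimage (p j ≫ X.isoSpec.hom) ≫ CommRingCat.ofHom (algebraMap k (DualNumber k)) :=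
      CommRingCat.hom_ext (RingHom.ext (hPs j))
    have h' := congrArg Spec.map h
    simp only [Spec.map_comp, Spec.map_preimage, Category.assoc] at h'
    rw [hψ', reassoc_of% h', Iso.hom_inv_id, Category.comp_id]

end Groth.Agent.S15991
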