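import Groth.Statements.S15993
import Groth.Agent.L23.SchKer
import Groth.Agent.L26.Neron.SchDense
import Mathlib.AlgebraicGeometry.Morphisms.FlatDescent

set_option autoImplicit false
open CategoryTheory AlgebraicGeometry
universe u
open EtHull

namespace Groth.Agent.S15993

open CategoryTheory.Limits Groth.L23

set_option linter.style.haveILetI false
set_option backward.isDefEq.respectTransparency.types false

theorem isSchematicallyDense_preimage_of_flat {A B : Scheme.{u}} (k : A ⟶ B) [Flat k] (V : B.Opens)
    [QuasiCompact V.ι] (hV : CInt.IsSchematicallyDense V) : CInt.IsSchematicallyDense (k ⁻¹ᵁ V) := by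
  have sq := isPullback_morphismRestrict k V
  haveI : QuasiCompact (k ⁻¹ᵁ V).ι := MorphismProperty.of_isPullback (P := @QuasiCompact) sq ‹_›
  refine SchKer.isSchematicallyDense_of_ker_eq_bot _ ?_
  rw [← sq.flip.isoPullback_hom_fst, Scheme.Hom.ker_comp_of_isIso, ← SchKer.comap_ker_of_quasiCompact,
    SchKer.ker_ι_eq_bot_of_isSchematicallyDense V hV, Scheme.IdealSheafData.comap_bot]

/-- Let f : X → S be a morphism of schemes which is faithfully flat (flat and surjective), quasi-compact
and separated, and schematically birational in the following sense: there are schematically dense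
opens U of S and V of X, with the inclusion V → X quasi-compact, such that f maps V into U and the
induced morphism V → U is an isomorphism. Then f is an isomorphism. (The source states this for
algebraic spaces and puts no quasi-compactness condition on the dense opens. Its proof base-changes
along f and uses that the inverse image of V in X ×_S X is again schematically dense, which holds
when V → X is quasi-compact, for instance when X is locally Noetherian, and fails in general: over
the Boolean ring of eventually constant sequences of elements of the field with two elements, the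
spectrum of the ring of eventually two-periodic sequences is faithfully flat and affine, and it is
an isomorphism above the open set of principal points, which is schematically dense on both sides,
yet it is not an isomorphism, the point at infinity being doubled. So V is taken retrocompact in X
here, and X, S are schemes.) -/
theorem result {X S : Scheme.{u}} (f : X ⟶ S)
    [Flat f] [Surjective f] [QuasiCompact f] [IsSeparated f]
    (U : S.Opens) (V : X.Opens) [QuasiCompact V.ι]
    (hU : CInt.IsSchematicallyDense U) (hV : CInt.IsSchematicallyDense V)
    (hle : V ≤ f ⁻¹ᵁ U) (hiso : IsIso (f.resLE U V hle)) : IsIso f := by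
  let p : pullback f f ⟶ X := pullback.fst f f
  let q : pullback f f ⟶ X := pullback.snd f f
  let W : (pullback f f).Opens := p ⁻¹ᵁ V ⊓ q ⁻¹ᵁ V
  have hW : CInt.IsSchematicallyDense W :=
    isSchematicallyDense_inf (isSchematicallyDense_preimage_of_flat p V hV)
      (isSchematicallyDense_preimage_of_flat q V hV)
  have hp : W ≤ p ⁻¹ᵁ V := inf_le_left
  have hq : W ≤ q ⁻¹ᵁ V := inf_le_right
  have hpq : p.resLE V W hp = q.resLE V W hq := by
    haveI := hiso
    rw [← cancel_mono (f.resLE U V hle), ← cancel_mono U.ι]
    simp only [Category.assoc, Scheme.Hom.resLE_comp_ι, Scheme.Hom.resLE_comp_ι_assoc]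
    rw [show p ≫ f = q ≫ f from pullback.condition]
  have hl : (W.ι ≫ p) ≫ pullback.diagonal f = W.ι := by
    refine pullback.hom_ext ?_ ?_
    · simp [p]
    · have h1 := congrArg (fun m => m ≫ V.ι) hpq
      simp only [Scheme.Hom.resLE_comp_ι] at h1
      simpa [q] using h1
  haveI : IsIso (pullback.diagonal f) :=
    IsClosedImmersion.isIso_iff_ker_eq_bot.mpr
      (Groth.Agent.NeronL.ker_eq_bot_of_schDense hW (pullback.diagonal f) (W.ι ≫ p) hl)
  have h2 : pullback.fst f f = inv (pullback.diagonal f) := by
    rw [← cancel_epi (pullback.diagonal f)]; simp
  have h3 : MorphismProperty.isomorphisms Scheme.{u} (pullback.fst f f) := by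
    show IsIso _
    rw [h2]; infer_instance
  exact MorphismProperty.of_pullback_fst_of_descendsAlong (P := MorphismProperty.isomorphisms Scheme.{u})
    (Q := @Surjective ⊓ @Flat ⊓ @QuasiCompact) ⟨⟨inferInstance, inferInstance⟩, inferInstance⟩ h3

end Groth.Agent.S15993
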