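import Groth.Statements.S15996
import Groth.Agent.L12.EtHullReg
import Mathlib.RingTheory.Unramified.LocalStructure

set_option autoImplicit false
set_option backward.isDefEq.respectTransparency.types false
-- import your own Groth.Agent.* helpers here

set_option autoImplicit false
open CategoryTheory AlgebraicGeometry
universe u
open EtHull

namespace Groth.Agent.S15996

/-- Let R be a Noetherian ring whose localizations at all prime ideals are regular local rings, S = Spec
R, and q : U → S an étale, separated and quasi-compact morphism of schemes. The following are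
equivalent: (1) there is an open immersion of U into a scheme E which is étale and affine over S,
compatible with q; (2) the affine hull Spec Γ(U, O_U) → S of U over S is étale. (The source states
this for a locally Noetherian algebraic space S all of whose étale atlases are locally ℚ-factorial;
this row is the case of an affine regular Noetherian base, a regular scheme being locally
ℚ-factorial.) -/
theorem result {R : Type u} [CommRing R]
    [IsNoetherianRing R] (hreg : ∀ (P : Ideal R) [P.IsPrime], IsRegularLocalRing (Localization.AtPrime P))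
    {U : Scheme.{u}} (q : U ⟶ Spec (CommRingCat.of R)) [Etale q] [IsSeparated q] [QuasiCompact q] :
    (∃ (E : Scheme.{u}) (j : U ⟶ E) (g : E ⟶ Spec (CommRingCat.of R)),
        IsOpenImmersion j ∧ Etale g ∧ IsAffineHom g ∧ j ≫ g = q) ↔
      Etale (Spec.map q.appTop ≫ (Spec (CommRingCat.of R)).isoSpec.inv) := by
  haveI : CompactSpace U := HasAffineProperty.iff_of_isAffine (P := @QuasiCompact).mp ‹QuasiCompact q›
  constructor
  · rintro ⟨E, j, g, hj, hg, hga, hjg⟩
    haveI := hga
    haveI : IsAffine E := isAffine_of_isAffineHom g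
    haveI : IsLocallyNoetherian E := LocallyOfFiniteType.isLocallyNoetherian g
    haveI : IsNoetherianRing Γ(E, ⊤) := IsLocallyNoetherian.component_noetherian ⟨⊤, isAffineOpen_top E⟩
    have hregR : ∀ x : Spec (CommRingCat.of R), IsRegularLocalRing ((Spec (CommRingCat.of R)).presheaf.stalk x) :=
      fun x => by
        haveI : IsRegularLocalRing (Localization.AtPrime x.asIdeal) := hreg x.asIdeal
        let e : Localization.AtPrime x.asIdeal ≃+* (Spec (CommRingCat.of R)).presheaf.stalk x :=
          (StructureSheaf.stalkIso R x).toCommRingCatIso.commRingCatIsoToRingEquiv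
        exact IsRegularLocalRing.of_ringEquiv e
    let g' : Spec Γ(E, ⊤) ⟶ Spec (CommRingCat.of R) := E.isoSpec.inv ≫ g
    let j' : U ⟶ Spec Γ(E, ⊤) := j ≫ E.isoSpec.hom
    have hjg' : j' ≫ g' = q := by simp [j', g', hjg]
    obtain ⟨V, hV, hle, hbij⟩ := Groth.L12.EtHullReg.exists_affine_open Γ(E, ⊤)
      (fun x => (Groth.Agent.S0065.result g' x).2 (hregR _)) j'.opensRange
    let k : U ⟶ V.toScheme := j'.isoOpensRange.hom ≫ (Spec Γ(E, ⊤)).homOfLE hle
    haveI : IsAffine V.toScheme := hV
    haveI : IsIso k.appTop := by
      haveI : IsIso ((Spec Γ(E, ⊤)).presheaf.map (homOfLE hle).op) :=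
        (ConcreteCategory.isIso_iff_bijective _).2 hbij
      haveI : IsIso ((Spec Γ(E, ⊤)).homOfLE hle).appTop := by
        rw [Scheme.homOfLE_appTop]
        have key : ∀ (A A' : (Spec Γ(E, ⊤)).Opens) (h : A ≤ A'), A = j'.opensRange → A' = V →
            IsIso ((Spec Γ(E, ⊤)).presheaf.map (homOfLE h).op) := by
          intro A A' h hA hA'
          subst hA hA'
          assumption
        exact key _ _ _ (Scheme.Opens.ι_image_top _) (Scheme.Opens.ι_image_top _)
      haveI : IsIso j'.isoOpensRange.hom.appTop := inferInstanceAs (IsIso (Scheme.Γ.map j'.isoOpensRange.hom.op))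
      rw [Scheme.Hom.comp_appTop]
      exact IsIso.comp_isIso' inferInstance inferInstance
    have hk : k ≫ V.ι ≫ g' = q := by
      rw [Category.assoc, Scheme.homOfLE_ι_assoc, Scheme.Hom.isoOpensRange_hom_ι_assoc, hjg']
    have key : Spec.map q.appTop ≫ (Spec (CommRingCat.of R)).isoSpec.inv =
        Spec.map k.appTop ≫ V.toScheme.isoSpec.inv ≫ V.ι ≫ g' := by
      rw [← hk, Scheme.Hom.comp_appTop, Spec.map_comp, Category.assoc, Scheme.isoSpec_inv_naturality]
    rw [key]
    infer_instance
  · intro he
    haveI : LocallyQuasiFinite q := by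
      rw [HasRingHomProperty.iff_appLE (P := @LocallyQuasiFinite)]
      intro W V e
      letI := (q.appLE W.1 V.1 e).hom.toAlgebra
      haveI : Algebra.Etale Γ(Spec (CommRingCat.of R), W.1) Γ(U, V.1) :=
        RingHom.etale_algebraMap.1 (HasRingHomProperty.appLE (P := @Etale) q inferInstance W V e)
      show Algebra.QuasiFinite Γ(Spec (CommRingCat.of R), W.1) Γ(U, V.1)
      infer_instance
    haveI : CompactSpace (q ⁻¹ᵁ (⊤ : (Spec (CommRingCat.of R)).Opens)).toScheme :=
      isCompact_iff_compactSpace.mp (show IsCompact (Set.univ : Set U) from isCompact_univ)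
    have h := Groth.Agent.S1402.result q ⊤ (isAffineOpen_top _) ⊤ isCompact_univ
    haveI : U.IsQuasiAffine := by
      haveI : Scheme.IsQuasiAffine ((⊤ : (q ⁻¹ᵁ ⊤).toScheme.Opens) : Scheme.{u}) := h
      exact Scheme.IsQuasiAffine.of_isImmersion (U.topIso.inv ≫ (q ⁻¹ᵁ ⊤).toScheme.topIso.inv)
    refine ⟨Spec Γ(U, ⊤), U.toSpecΓ, Spec.map q.appTop ≫ (Spec (CommRingCat.of R)).isoSpec.inv,
      inferInstance, he, inferInstance, ?_⟩
    rw [← Category.assoc, ← Scheme.toSpecΓ_naturality, Category.assoc, ← Scheme.isoSpec_hom, Iso.hom_inv_id,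
      Category.comp_id]

end Groth.Agent.S15996
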