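import Groth.Statements.S16001
import Groth.Agent.L15.Frob.EtaleIff
-- import your own Groth.Agent.* helpers here

set_option autoImplicit false
universe u
open FrobAlg

namespace Groth.Agent.S16001

/-- Let A be a commutative ring of prime characteristic p and B a commutative A-algebra of
characteristic p such that the relative Frobenius B ⊗_{A,Frob} A → B, b ⊗ a ↦ b^p a, is bijective
(that is, Spec B → Spec A is relatively perfect; no finiteness condition is imposed). Then B is
formally étale over A. (The source proves that every perfect algebraic stack over an algebraic space
of characteristic p is formally étale over it; this is the case of an affine scheme over an affine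
base.) -/
theorem result (p : ℕ) [Fact p.Prime] (A : Type u) [CommRing A] [CharP A p]
    (B : Type u) [CommRing B] [Algebra A B] [CharP B p]
    (h : Function.Bijective (FrobAlg.relFrob p A B)) : Algebra.FormallyEtale A B := by
  exact Groth.L15.Frob.formallyEtale_of_bijective (p := p) (A := A) (B := B) (h := h)

end Groth.Agent.S16001
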