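import Groth.Statements.S16002
import Groth.Agent.L21.Bundle.HiggsPair

set_option autoImplicit false
set_option backward.isDefEq.respectTransparency false
open CategoryTheory AlgebraicGeometry CategoryTheory.Limits
open VBCurve

namespace Groth.Agent.S16002

/-- Let X be a smooth proper integral curve over the complex numbers and (L_i)_{i ∈ ι} a family of
invertible O_X-modules. A tuple is a finite locally free O_X-module E of rank r ≥ 1 with maps φ_i :
E → E ⊗ L_i; a submodule j : G → E (a monomorphism) is invariant when for every i some χ : G → G ⊗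
L_i followed by j ⊗ L_i equals j followed by φ_i; the tuple is semistable when deg G · r ≤ deg E · n
for every invariant finite locally free submodule G of rank n ≥ 1, degrees being χ − rank · χ(O_X).
If (E, φ) and (F, ψ) are semistable tuples of ranks r ≥ 1 and s ≥ 1 over the same family (L_i) and f
: E → F is a nonzero module map with f followed by ψ_i equal to φ_i followed by f ⊗ L_i for every i,
then the slope of E is at most that of F: deg E · s ≤ deg F · r. (The published lemma has finitely
many pairwise commuting twisting maps and morphisms compatible up to one nonzero scalar; the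
commutation is not used, the index set is arbitrary here, and the scalar case reduces to this one by
rescaling the ψ_i.) -/
theorem result
    (X : Scheme.{0}) [X.Over (Spec (CommRingCat.of ℂ))] [IsIntegral X]
    [IsProper (X ↘ Spec (CommRingCat.of ℂ))] [Smooth (X ↘ Spec (CommRingCat.of ℂ))]
    (hdim : topologicalKrullDim X = 1)
    (ι : Type) (L : ι → X.Modules) (hL : ∀ i, PicF.IsInvertible (L i))
    (r s : ℕ) (hr : 0 < r) (hs : 0 < s)
    (E F : X.Modules) (hE : FlatMod.IsFinLocFreeOfRank r E) (hF : FlatMod.IsFinLocFreeOfRank s F)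
    (φ : ∀ i, E ⟶ CohB1.tensorMod E (L i)) (ψ : ∀ i, F ⟶ CohB1.tensorMod F (L i))
    (hEss : (∀ (G : X.Modules) (n : ℕ) (j : G ⟶ E), Mono j → 0 < n → FlatMod.IsFinLocFreeOfRank n G →
      (∀ i, ∃ χ : G ⟶ CohB1.tensorMod G (L i), χ ≫ (CohB1.sheafifyMod X).map (MonoidalCategoryStruct.whiskerRight (C := CohB1.PMod X) j.val (CohB1.toPMod (L i))) = j ≫ φ i) →
      Curv2.deg ℂ X G n * (r : ℤ) ≤ Curv2.deg ℂ X E r * (n : ℤ)))
    (hFss : (∀ (G : X.Modules) (n : ℕ) (j : G ⟶ F), Mono j → 0 < n → FlatMod.IsFinLocFreeOfRank n G →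
      (∀ i, ∃ χ : G ⟶ CohB1.tensorMod G (L i), χ ≫ (CohB1.sheafifyMod X).map (MonoidalCategoryStruct.whiskerRight (C := CohB1.PMod X) j.val (CohB1.toPMod (L i))) = j ≫ ψ i) →
      Curv2.deg ℂ X G n * (s : ℤ) ≤ Curv2.deg ℂ X F s * (n : ℤ)))
    (f : E ⟶ F) (hf : ∀ i, f ≫ ψ i = φ i ≫ (CohB1.sheafifyMod X).map (MonoidalCategoryStruct.whiskerRight (C := CohB1.PMod X) f.val (CohB1.toPMod (L i)))) (hne : f ≠ 0) :
    Curv2.deg ℂ X E r * (s : ℤ) ≤ Curv2.deg ℂ X F s * (r : ℤ) := by
  haveI := Groth.L21.RR.isNoetherian_of_proper (X := X) ℂ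
  open Groth.L21.Bundle Groth.L21.Bundle.Higgs in
  exact (by
    have hreg := Groth.L21.Smooth.regular_stalk (k := ℂ) (X ↘ Spec (CommRingCat.of ℂ))
    simp only [Higgs.map_eq] at hEss hFss hf
    rw [dg_eq ℂ hE, dg_eq ℂ hF]
    exact slope_le_of_hom ℂ hreg hdim.le hL hE hF φ ψ
      (pbd_of ℂ hreg hdim.le hE φ fun G n i hi hn hG hinv => by
        rw [← dg_eq ℂ hE]; exact hEss G n i hi hn hG hinv)
      (pbd_of ℂ hreg hdim.le hF ψ fun G n i hi hn hG hinv => by
        rw [← dg_eq ℂ hF]; exact hFss G n i hi hn hG hinv) f hf hne)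

end Groth.Agent.S16002
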