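import Groth.Statements.S16003
import Groth.Agent.L21.Bundle.HiggsPair

set_option autoImplicit false
set_option backward.isDefEq.respectTransparency false
open CategoryTheory AlgebraicGeometry CategoryTheory.Limits
open VBCurve

namespace Groth.Agent.S16003

/-- Let X be a smooth proper integral curve over the complex numbers and L an invertible O_X-module; an
L-valued pair is a finite locally free O_X-module E of rank r ≥ 1 with a map φ : E → E ⊗ L; a
submodule j : G → E (a monomorphism) is φ-invariant when some χ : G → G ⊗ L followed by j ⊗ L equals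
j followed by φ; the pair is semistable when deg G · r ≤ deg E · n for every φ-invariant finite
locally free submodule G of rank n ≥ 1, degrees being χ − rank · χ(O_X). If (E, φ) is a semistable
pair and φ is not zero, then L has non-negative degree. (The published statement is for tuples of
finitely many commuting twisting maps; this is the assertion for the one map φ.) -/
theorem result
    (X : Scheme.{0}) [X.Over (Spec (CommRingCat.of ℂ))] [IsIntegral X]
    [IsProper (X ↘ Spec (CommRingCat.of ℂ))] [Smooth (X ↘ Spec (CommRingCat.of ℂ))]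
    (hdim : topologicalKrullDim X = 1)
    (L : X.Modules) (hL : PicF.IsInvertible L)
    (r : ℕ) (hr : 0 < r) (E : X.Modules) (hE : FlatMod.IsFinLocFreeOfRank r E)
    (φ : E ⟶ CohB1.tensorMod E L)
    (hss : (∀ (G : X.Modules) (n : ℕ) (j : G ⟶ E) (χ : G ⟶ CohB1.tensorMod G L), Mono j → 0 < n →
      FlatMod.IsFinLocFreeOfRank n G →
      χ ≫ (CohB1.sheafifyMod X).map (MonoidalCategoryStruct.whiskerRight (C := CohB1.PMod X) j.val (CohB1.toPMod L)) = j ≫ φ →
      Curv2.deg ℂ X G n * (r : ℤ) ≤ Curv2.deg ℂ X E r * (n : ℤ)))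
    (hφ : φ ≠ 0) :
    0 ≤ Curv2.deg ℂ X L 1 := by
  haveI := Groth.L21.RR.isNoetherian_of_proper (X := X) ℂ
  have hreg := Groth.L21.Smooth.regular_stalk (k := ℂ) (X ↘ Spec (CommRingCat.of ℂ))
  simp only [Groth.L21.Bundle.Higgs.map_eq] at hss
  exact Groth.L21.Bundle.Higgs.deg_nonneg ℂ hreg hdim hL hE φ
    (Groth.L21.Bundle.Higgs.pbd_of ℂ hreg hdim.le hE _ fun G n i hi hn hG hinv => by
      obtain ⟨χ, hχ⟩ := hinv PUnit.unit
      rw [← Groth.L21.Bundle.dg_eq ℂ hE]; exact hss G n i χ hi hn hG hχ) hφ

end Groth.Agent.S16003
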