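import Groth.Statements.S16005
import Groth.Agent.L21.Bundle.HiggsPair

set_option autoImplicit false
set_option backward.isDefEq.respectTransparency false
open CategoryTheory AlgebraicGeometry CategoryTheory.Limits
open VBCurve

namespace Groth.Agent.S16005

/-- Let X be a smooth proper integral curve over the complex numbers and L an invertible O_X-module; an
L-valued pair is a finite locally free O_X-module E of rank r ≥ 1 with a map φ : E → E ⊗ L; a
submodule j : G → E (a monomorphism) is φ-invariant when some χ : G → G ⊗ L followed by j ⊗ L equals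
j followed by φ; the pair is semistable when deg G · r ≤ deg E · n for every φ-invariant finite
locally free submodule G of rank n ≥ 1, degrees being χ − rank · χ(O_X). Let (E, φ) be a pair and ψ
: E → E an endomorphism commuting with φ (ψ followed by φ equals φ followed by ψ ⊗ L); a submodule
is ψ-invariant when ψ restricts to an endomorphism of it. Then (E, φ, ψ) is semistable, meaning deg
G · r ≤ deg E · n for every finite locally free submodule G of rank n ≥ 1 that is both φ-invariant
and ψ-invariant, if and only if the pair (E, φ) is semistable. (The published statement takes L to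
be the canonical sheaf; the row allows any invertible L.) -/
theorem result
    (X : Scheme.{0}) [X.Over (Spec (CommRingCat.of ℂ))] [IsIntegral X]
    [IsProper (X ↘ Spec (CommRingCat.of ℂ))] [Smooth (X ↘ Spec (CommRingCat.of ℂ))]
    (hdim : topologicalKrullDim X = 1)
    (L : X.Modules) (hL : PicF.IsInvertible L)
    (r : ℕ) (hr : 0 < r) (E : X.Modules) (hE : FlatMod.IsFinLocFreeOfRank r E)
    (φ : E ⟶ CohB1.tensorMod E L) (ψ : E ⟶ E)
    (hcomm : ψ ≫ φ = φ ≫ (CohB1.sheafifyMod X).map (MonoidalCategoryStruct.whiskerRight (C := CohB1.PMod X) ψ.val (CohB1.toPMod L))) :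
    (∀ (G : X.Modules) (n : ℕ) (j : G ⟶ E) (χ : G ⟶ CohB1.tensorMod G L) (ψ' : G ⟶ G), Mono j → 0 < n →
      FlatMod.IsFinLocFreeOfRank n G →
      χ ≫ (CohB1.sheafifyMod X).map (MonoidalCategoryStruct.whiskerRight (C := CohB1.PMod X) j.val (CohB1.toPMod L)) = j ≫ φ → ψ' ≫ j = j ≫ ψ →
      Curv2.deg ℂ X G n * (r : ℤ) ≤ Curv2.deg ℂ X E r * (n : ℤ)) ↔
    (∀ (G : X.Modules) (n : ℕ) (j : G ⟶ E) (χ : G ⟶ CohB1.tensorMod G L), Mono j → 0 < n →
      FlatMod.IsFinLocFreeOfRank n G →
      χ ≫ (CohB1.sheafifyMod X).map (MonoidalCategoryStruct.whiskerRight (C := CohB1.PMod X) j.val (CohB1.toPMod L)) = j ≫ φ →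
      Curv2.deg ℂ X G n * (r : ℤ) ≤ Curv2.deg ℂ X E r * (n : ℤ)) := by
  haveI := Groth.L21.RR.isNoetherian_of_proper (X := X) ℂ
  have hreg := Groth.L21.Smooth.regular_stalk (k := ℂ) (X ↘ Spec (CommRingCat.of ℂ))
  simp only [Groth.L21.Bundle.Higgs.map_eq] at hcomm ⊢
  refine ⟨fun h => ?_, fun h G n j χ ψ' hj hn hG hχ _ => h G n j χ hj hn hG hχ⟩
  have hb := Groth.L21.Bundle.Higgs.pbd_of_commuting ℂ hreg hdim.le (fun _ : PUnit => hL) hr hE
    (fun _ => φ) ψ (fun _ => hcomm) (c := Curv2.deg ℂ X E r) fun G i hi hG hinv hψ' => by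
      haveI := hi
      obtain ⟨χ, hχ⟩ := hinv PUnit.unit
      obtain ⟨ψ', hψ'⟩ := hψ'
      have hl := Groth.L21.Bundle.locFree_of_mono hreg hdim.le i hG hE
      rcases Nat.eq_zero_or_pos (Groth.L21.Bundle.rk G) with h0 | h0
      · rw [h0] at hl ⊢
        rw [(Groth.L21.Bundle.zero_facts ℂ hdim.le (Groth.L21.Bundle.isZero_of_rank_zero hl)).2]
        simp
      · have := h G _ i χ ψ' hi h0 hl hχ hψ'
        rwa [Groth.L21.Bundle.dg_eq ℂ hl] at this
  exact fun G n j χ hj _ hG hχ => Groth.L21.Bundle.Higgs.of_pbd ℂ hb j hj hG (fun _ => ⟨χ, hχ⟩)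

end Groth.Agent.S16005
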