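import Groth.Statements.S16006
import Groth.Agent.L21.Bundle.HiggsPair
import Mathlib.Analysis.Complex.Polynomial.Basic

set_option autoImplicit false
set_option backward.isDefEq.respectTransparency false
open CategoryTheory AlgebraicGeometry CategoryTheory.Limits
open VBCurve

namespace Groth.Agent.S16006

/-- Let X be a smooth proper integral curve of genus 1 over the complex numbers (genus = dim H¹(O_X))
and L an invertible O_X-module of degree 0 such that L ⊗ L is not isomorphic to O_X; an L-valued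
pair is a finite locally free O_X-module E of rank r ≥ 1 with a map φ : E → E ⊗ L; a submodule j : G
→ E (a monomorphism) is φ-invariant when some χ : G → G ⊗ L followed by j ⊗ L equals j followed by
φ; the pair is semistable when deg G · r ≤ deg E · n for every φ-invariant finite locally free
submodule G of rank n ≥ 1, degrees being χ − rank · χ(O_X), and it is stable when deg G · r < deg E
· n for every φ-invariant finite locally free submodule G of rank n with 1 ≤ n < r. If (E, φ) is a
stable pair of rank 2, then E is slope-stable as a module of rank 2: deg G · 2 < deg E · n for every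
finite locally free submodule G of rank n with 1 ≤ n < 2, φ-invariant or not. (The published
statement assumes only that L is not isomorphic to O_X. For L of order two and E = O_X ⊕ L, the
isomorphism φ : E → E ⊗ L = (O_X ⊗ L) ⊕ (L ⊗ L) that maps the summand O_X of E onto the summand L ⊗
L ≅ O_X and the summand L onto O_X ⊗ L ≅ L leaves no rank-one submodule of degree 0 invariant, so
(E, φ) is a stable pair while E is not stable; the published argument derives L ⊗ L ≅ O_X in the
split case, so the row assumes L ⊗ L ≄ O_X.) -/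
theorem result
    (X : Scheme.{0}) [X.Over (Spec (CommRingCat.of ℂ))] [IsIntegral X]
    [IsProper (X ↘ Spec (CommRingCat.of ℂ))] [Smooth (X ↘ Spec (CommRingCat.of ℂ))]
    (hdim : topologicalKrullDim X = 1)
    (hg : Curv2.genus ℂ X = 1)
    (L : X.Modules) (hL : PicF.IsInvertible L) (hL0 : Curv2.deg ℂ X L 1 = 0)
    (hL2 : ¬ Nonempty (CohB1.tensorMod L L ≅ Coh.structureModule X))
    (E : X.Modules) (hE : FlatMod.IsFinLocFreeOfRank 2 E)
    (φ : E ⟶ CohB1.tensorMod E L)
    (hst : (∀ (G : X.Modules) (n : ℕ) (j : G ⟶ E) (χ : G ⟶ CohB1.tensorMod G L), Mono j → 0 < n → n < 2 →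
      FlatMod.IsFinLocFreeOfRank n G →
      χ ≫ (CohB1.sheafifyMod X).map (MonoidalCategoryStruct.whiskerRight (C := CohB1.PMod X) j.val (CohB1.toPMod L)) = j ≫ φ →
      Curv2.deg ℂ X G n * (2 : ℤ) < Curv2.deg ℂ X E 2 * (n : ℤ))) :
    ∀ (G : X.Modules) (n : ℕ) (j : G ⟶ E), Mono j → 0 < n → n < 2 → FlatMod.IsFinLocFreeOfRank n G →
      Curv2.deg ℂ X G n * (2 : ℤ) < Curv2.deg ℂ X E 2 * (n : ℤ) := by
  haveI := Groth.L21.RR.isNoetherian_of_proper (X := X) ℂ
  have hreg := Groth.L21.Smooth.regular_stalk (k := ℂ) (X ↘ Spec (CommRingCat.of ℂ))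
  simp only [Groth.L21.Bundle.Higgs.map_eq] at hst
  have hd := Groth.L21.Bundle.dg_eq ℂ hE
  have hst' : ∀ (G : X.Modules) (j : G ⟶ E), Mono j → FlatMod.IsFinLocFreeOfRank 1 G →
      Groth.L21.Bundle.Higgs.Inv φ j → Groth.L21.Bundle.dg ℂ G * 2 < Groth.L21.Bundle.dg ℂ E := by
    intro G j hj hG ⟨χ, hχ⟩
    have := hst G 1 j χ hj Nat.one_pos (by norm_num) hG hχ
    rwa [hd, Groth.L21.Bundle.dg_eq ℂ hG, Nat.cast_one, mul_one] at this
  have hss : Groth.L21.Bundle.Higgs.PBd ℂ (Groth.L21.Bundle.Higgs.one E φ) (Groth.L21.Bundle.dg ℂ E) 2 :=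
    Groth.L21.Bundle.Higgs.pbd_of ℂ hreg hdim.le hE _ fun G n i hi hn hG hinv => by
      haveI := hi
      obtain ⟨χ, hχ⟩ := hinv PUnit.unit
      rw [← hd]
      rcases Nat.lt_or_ge n 2 with h | h
      · exact le_of_lt (hst G n i χ hi hn h hG hχ)
      · have hcG := Groth.L21.Bundle.isCoh_of_rank hG
        have hcE := Groth.L21.Bundle.isCoh_of_rank hE
        have hle := Groth.L21.Bundle.rk_le_of_mono i hcG hcE
        rw [Groth.L21.Bundle.rk_eq hG, Groth.L21.Bundle.rk_eq hE] at hle
        obtain rfl : n = 2 := by omega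
        obtain ⟨a1, a2⟩ := Groth.L21.Bundle.add_cokernel ℂ hdim.le i hcG hcE
        rw [Groth.L21.Bundle.rk_eq hG, Groth.L21.Bundle.rk_eq hE] at a1
        obtain ⟨g, -⟩ := Groth.L21.Bundle.dg_nonneg_of_rk_eq_zero hdim.le ℂ
          (Groth.L21.Bundle.coh_cokernel hcG hcE i) (by omega)
        rw [hd, Groth.L21.Bundle.dg_eq ℂ hG]
        omega
  have key := Groth.L21.Bundle.Higgs.stable_of_genus_one ℂ hreg hdim hL
    (Groth.L21.RR.h0_eq_one_of_isAlgClosed ℂ) hg hL0 hL2 hE φ hst' hss
  intro G n j hj hn hn2 hG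
  obtain rfl : n = 1 := by omega
  rw [hd, Groth.L21.Bundle.dg_eq ℂ hG, Nat.cast_one, mul_one]
  exact key G j hj hG

end Groth.Agent.S16006
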