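import Groth.Statements.S16008
import Groth.Agent.L21.Bundle.DualityApps
import Groth.Agent.L21.Bundle.Twist
import Mathlib.Analysis.Complex.Polynomial.Basic

set_option autoImplicit false
set_option backward.isDefEq.respectTransparency false
open CategoryTheory AlgebraicGeometry CategoryTheory.Limits
open VBCurve

namespace Groth.Agent.S16008

/-- Let X be a smooth proper integral curve over the complex numbers, of genus g = dim H¹(O_X), E a
finite locally free O_X-module of rank r ≥ 1 and C an integer such that every finite locally free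
submodule G of E of rank n ≥ 1 satisfies deg G · r ≤ (deg E + r·C) · n, that is, μ(G) ≤ μ(E) + C
(degrees being χ − rank · χ(O_X)). Then H¹(X, E ⊗ N) vanishes for every invertible module N with deg
E + r · deg N > r(r − 1)·C + r(2g − 2), that is, whenever μ(E) + deg N > (r − 1)C + 2g − 2. (Only
the degree of the twisting line bundle enters, so any invertible N replaces the twist O_X(m). The
published argument, written for the twists E(m) by a degree-one polarisation, prints the threshold
as m ≥ μ(E) + (r − 1)C + 2g − 1; for E = O(−1) on the projective line and m = −2 that threshold is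
met while H¹(O(−3)) ≠ 0. The degree count in the argument gives the threshold −μ(E) + (r − 1)C + 2g
− 2 < m stated here.) -/
theorem result
    (X : Scheme.{0}) [X.Over (Spec (CommRingCat.of ℂ))] [IsIntegral X]
    [IsProper (X ↘ Spec (CommRingCat.of ℂ))] [Smooth (X ↘ Spec (CommRingCat.of ℂ))]
    (hdim : topologicalKrullDim X = 1)
    (r : ℕ) (hr : 0 < r) (E : X.Modules) (hE : FlatMod.IsFinLocFreeOfRank r E) (C : ℤ)
    (hC : ∀ (G : X.Modules) (n : ℕ) (j : G ⟶ E), Mono j → 0 < n → FlatMod.IsFinLocFreeOfRank n G →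
      Curv2.deg ℂ X G n * (r : ℤ) ≤ (Curv2.deg ℂ X E r + (r : ℤ) * C) * (n : ℤ))
    (N : X.Modules) (hN : PicF.IsInvertible N)
    (hbig : (r : ℤ) * ((r : ℤ) - 1) * C + (r : ℤ) * (2 * (Curv2.genus ℂ X : ℤ) - 2) <
      Curv2.deg ℂ X E r + (r : ℤ) * Curv2.deg ℂ X N 1) :
    Subsingleton (Coh.HH X (CohB1.tensorMod E N) 1) := by
  haveI := Groth.L21.RR.isNoetherian_of_proper (X := X) ℂ
  have hreg := Groth.L21.Smooth.regular_stalk (k := ℂ) (X ↘ Spec (CommRingCat.of ℂ))
  have h0 : Groth.L21.RR.h ℂ 0 (Coh.structureModule X) = 1 := Groth.L21.RR.h0_eq_one_of_isAlgClosed ℂ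
  have hT := Groth.L21.Bundle.locFree_twist hdim hreg hN hE
  refine Groth.L21.Bundle.subsingleton_h1_of_sub_bound ℂ hdim h0 hT fun K i hi hK hr => ?_
  have hb := Groth.L21.Bundle.bd_twist ℂ hdim hN
    (Groth.L21.Bundle.bd_of ℂ hreg hdim.le hE (a := Curv2.deg ℂ X E r + (r : ℤ) * C) (b := r) hC) K i hi hK
  have hrz : (Groth.L21.Bundle.rk K : ℤ) = (r : ℤ) - 1 := by omega
  rw [Groth.L21.Bundle.dg_twist ℂ hdim hN (Groth.L21.Bundle.isCoh_of_rank hE), ← Groth.L21.Bundle.dg_eq ℂ hE,
    Groth.L21.Bundle.rk_eq hE]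
  rw [hrz] at hb
  nlinarith [hbig]

end Groth.Agent.S16008
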