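import Groth.Statements.S16009
import Groth.Agent.L03.VBPn.Isotyp.Main
import Groth.Agent.L03.VBPn.Isotyp.P1
import Groth.Agent.L18.Grass.MapEpi
import Mathlib.Analysis.Complex.Polynomial.Basic
-- import your own Groth.Agent.* helpers here

set_option autoImplicit false
open CategoryTheory AlgebraicGeometry CategoryTheory.Limits
open VBPn

namespace Groth.Agent.S16009

/-- Let X be a proper integral scheme over the complex numbers such that, for every n, a finite locally
free O_X-module of rank n whose pull-back along every morphism of complex schemes from the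
projective line to X is free of rank n is itself free of rank n. Let E be finite locally free of
rank r ≥ 1 such that its pull-back along every such morphism from the projective line is
slope-semistable of rank r (degrees on the line being χ − rank · χ(O)). Then E is isomorphic to the
direct sum of r copies of one invertible module L. (The published statement assumes X rationally
connected and takes the triviality criterion for bundles trivial on all rational curves from the
literature; the row carries that criterion as the hypothesis on X instead, and asks X to be proper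
rather than projective, since the argument uses only that the global functions of X are the
constants.) -/
theorem result
    (X : Scheme.{0}) [X.Over (Spec (CommRingCat.of ℂ))] [IsIntegral X]
    [IsProper (X ↘ Spec (CommRingCat.of ℂ))]
    (htriv : ∀ (n : ℕ) (F : X.Modules), FlatMod.IsFinLocFreeOfRank n F →
      (∀ (f : CohB1.ProjSpace 1 ℂ ⟶ X), f ≫ (X ↘ Spec (CommRingCat.of ℂ)) = CohB1.ProjSpace.toSpec 1 ℂ →
        Nonempty ((Scheme.Modules.pullback f).obj F ≅ FlatMod.freeMod (CohB1.ProjSpace 1 ℂ) n)) →
      Nonempty (F ≅ FlatMod.freeMod X n))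
    (r : ℕ) (hr : 0 < r) (E : X.Modules) (hE : FlatMod.IsFinLocFreeOfRank r E)
    (hss : ∀ (f : CohB1.ProjSpace 1 ℂ ⟶ X), f ≫ (X ↘ Spec (CommRingCat.of ℂ)) = CohB1.ProjSpace.toSpec 1 ℂ →
      ModFun.IsSlopeSemistable ℂ (CohB1.ProjSpace 1 ℂ) ((Scheme.Modules.pullback f).obj E) r) :
    ∃ L : X.Modules, PicF.IsInvertible L ∧ Nonempty (E ≅ ∐ fun _ : Fin r => L) := by
  have hF : FlatMod.IsFinLocFreeOfRank (r * r) (Groth.L16.HomSh.homMod E E) :=
    Groth.L12.FinCov.isFinLocFreeOfRank_of_bases fun x => by
      obtain ⟨W, b, -, hxW, -, hb⟩ := Groth.L12.FinCov.exists_basisOn_of_rank hE x ⊤ trivial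
      exact ⟨W, _, hxW, Groth.L16.HomSh.isBasisOn_homMod hb hb⟩
  have hlf := Groth.L22.CurveDeg.isFinLocFree_of_rank hE
  obtain ⟨ψ⟩ := htriv (r * r) _ hF fun f hf => by
    obtain ⟨L, hL, ⟨e⟩⟩ := Groth.L03.VBPn.Isotyp.exists_iso_sum_of_semistable
      (Groth.L18.MapEpi.isFinLocFreeOfRank_pullback f hE) (hss f hf)
    haveI := Groth.L16.HomSh.isIso_pullHomMap f hlf hlf
    obtain ⟨e'⟩ := Groth.L03.VBPn.Isotyp.nonempty_end_free
      (Groth.L12.FinCov.isFinLocFreeOfRank_one_of_isInvertible hL) e
    exact ⟨CategoryTheory.asIso (Groth.L16.HomSh.pullHomMap f E E) ≪≫ e'⟩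
  exact Groth.L03.VBPn.Isotyp.exists_lineBundle (X ↘ Spec (CommRingCat.of ℂ)) hr hE ψ

end Groth.Agent.S16009
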