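import Groth.Statements.S1601
import Groth.Agent.L01.ConicSquare

set_option autoImplicit false
universe u
open Resolve

namespace Groth.Agent.S1601

/-- Let κ be a field and I an ideal of κ[x, y] whose colength is greater than one (the quotient is not
of dimension at most one over κ). If a nonzero polynomial a + bx + cy + dx^2 + exy + fy^2 lies in
I^2, then it equals j (g + hx + iy)^2 for some scalars j, g, h, i. -/
theorem result (κ : Type u) [Field κ] (I : Ideal (MvPolynomial (Fin 2) κ))
    (hI : ¬ (Module.Finite κ (MvPolynomial (Fin 2) κ ⧸ I) ∧ Module.finrank κ (MvPolynomial (Fin 2) κ ⧸ I) ≤ 1))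
    (a b c d e f : κ) (hne : (a, b, c, d, e, f) ≠ (0, 0, 0, 0, 0, 0))
    (hmem : (MvPolynomial.C a + MvPolynomial.C b * MvPolynomial.X 0 + MvPolynomial.C c * MvPolynomial.X 1 +
      MvPolynomial.C d * MvPolynomial.X 0 ^ 2 + MvPolynomial.C e * MvPolynomial.X 0 * MvPolynomial.X 1 +
      MvPolynomial.C f * MvPolynomial.X 1 ^ 2 : MvPolynomial (Fin 2) κ) ∈ I ^ 2) :
    ∃ j g h i : κ, (MvPolynomial.C a + MvPolynomial.C b * MvPolynomial.X 0 + MvPolynomial.C c * MvPolynomial.X 1 +
      MvPolynomial.C d * MvPolynomial.X 0 ^ 2 + MvPolynomial.C e * MvPolynomial.X 0 * MvPolynomial.X 1 +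
      MvPolynomial.C f * MvPolynomial.X 1 ^ 2 : MvPolynomial (Fin 2) κ) =
      MvPolynomial.C j * (MvPolynomial.C g + MvPolynomial.C h * MvPolynomial.X 0 + MvPolynomial.C i * MvPolynomial.X 1) ^ 2 := Groth.L01.ConicSquare.isSq_of_mem_sq I hI a b c d e f hne hmem

end Groth.Agent.S1601
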