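import Groth.Statements.S16014
import Mathlib.Algebra.BigOperators.Group.Finset.Sigma
import Mathlib.Data.Int.Interval
import Mathlib.Algebra.BigOperators.Ring.Finset
import Mathlib.Tactic.Ring
import Mathlib.Tactic.Ring
import Mathlib.Tactic.LinearCombination
import Mathlib.Tactic.FieldSimp
import Mathlib.Algebra.BigOperators.Ring.Finset

set_option autoImplicit false
universe u
open W4c3ghconstell

namespace Groth.Agent.S16014

/-- Let B = ⊕_{n ∈ ℤ} ⊕_τ B^n_τ be a bigraded finite-dimensional vector space, τ running over a finite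
index set, with B^n = 0 for n < −N and for n > M (N, M integers); put d(n, τ) = dim B^n_τ. For
rational numbers φ_τ write φ(C) = Σ_τ φ_τ dim C_τ for a τ-graded piece C, and let B^{≥n} = ⊕_{m ≥ n}
B^m, so that dim B^{≥n}_τ = Σ_{n ≤ m ≤ M} d(m, τ). Then Σ_{−N ≤ n ≤ M} n · φ(B^n) = Σ_{−N+1 ≤ n ≤ M}
φ(B^{≥n}) − N · φ(B). (Stated directly on the dimension function d.) -/
theorem result {τ : Type u} [Fintype τ] (d : ℤ → τ → ℕ) (φ : τ → ℚ) (N M : ℤ)
    (hN : ∀ n, n < -N → d n = 0) (hM : ∀ n, M < n → d n = 0) :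
    ∑ n ∈ Finset.Icc (-N) M, (n : ℚ) * (∑ t, φ t * (d n t : ℚ)) =
      ∑ n ∈ Finset.Icc (-N + 1) M, (∑ t, φ t * (∑ m ∈ Finset.Icc n M, (d m t : ℚ))) -
        (N : ℚ) * (∑ t, φ t * (∑ m ∈ Finset.Icc (-N) M, (d m t : ℚ))) := by
  set w : ℤ → ℚ := fun m => ∑ t, φ t * (d m t : ℚ) with hw
  have e1 : ∀ n, ∑ t, φ t * (∑ m ∈ Finset.Icc n M, (d m t : ℚ)) = ∑ m ∈ Finset.Icc n M, w m := by
    intro n; simp only [hw, Finset.mul_sum]; exact Finset.sum_comm
  simp only [e1]
  rw [Finset.sum_comm' (s' := fun m => Finset.Icc (-N + 1) m) (t' := Finset.Icc (-N) M)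
    (fun n m => by simp only [Finset.mem_Icc]; omega), Finset.mul_sum, ← Finset.sum_sub_distrib]
  refine Finset.sum_congr rfl fun m hm => ?_
  rw [Finset.mem_Icc] at hm
  rw [Finset.sum_const, nsmul_eq_mul, Int.card_Icc]
  have : ((((m + 1 - (-N + 1)).toNat : ℕ) : ℤ) : ℚ) = ((m + N : ℤ) : ℚ) := by congr 1; omega
  push_cast at this
  rw [this]; ring

end Groth.Agent.S16014
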