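import Groth.Statements.S16015
import Mathlib.RingTheory.Finiteness.Projective
import Mathlib.LinearAlgebra.TensorProduct.Tower
import Mathlib.LinearAlgebra.Dual.Defs
import Mathlib.RingTheory.Ideal.Quotient.Operations
import Mathlib.Tactic.Ring
import Mathlib.Tactic.LinearCombination
import Mathlib.Tactic.FieldSimp
import Mathlib.Algebra.BigOperators.Ring.Finset

set_option autoImplicit false
universe u v w
open W4c3ghconstell

namespace Groth.Agent.S16015

/-- Let B be a commutative ring, E a B-module, F a finitely generated projective B-module and β : E → F
a B-linear map. Then there is a unique ideal I of B such that for every commutative B-algebra C the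
base change β_C : C ⊗ E → C ⊗ F is zero if and only if the structure map B → C kills I. (The
published statement is for a homomorphism of modules on a scheme T into a locally free module and
produces a closed subscheme T₀ through which a morphism factors exactly when the pulled-back
homomorphism vanishes; this row is the case of an affine T with affine test schemes and F of finite
rank, to which it reduces.) -/
theorem result {B : Type u} [CommRing B]
    {E : Type v} [AddCommGroup E] [Module B E]
    {F : Type w} [AddCommGroup F] [Module B F] [Module.Finite B F] [Module.Projective B F]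
    (β : E →ₗ[B] F) :
    ∃! I : Ideal B, ∀ (C : Type u) [CommRing C] [Algebra B C],
      LinearMap.baseChange C β = 0 ↔ I ≤ RingHom.ker (algebraMap B C) := by
  classical
  let I : Ideal B := Ideal.span (Set.range fun q : Module.Dual B F × E => q.1 (β q.2))
  have key : ∀ (C : Type u) [CommRing C] [Algebra B C],
      LinearMap.baseChange C β = 0 ↔ I ≤ RingHom.ker (algebraMap B C) := by
    intro C _ _
    constructor
    · intro h
      rw [Ideal.span_le]
      rintro _ ⟨⟨φ, e⟩, rfl⟩
      have h1 := congrArg (fun g => (LinearMap.baseChange C φ) (g ((1 : C) ⊗ₜ[B] e))) h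
      simp only [LinearMap.baseChange_tmul, LinearMap.zero_apply, map_zero] at h1
      have h2 := congrArg (TensorProduct.rid B C) h1
      simpa [RingHom.mem_ker, Algebra.algebraMap_eq_smul_one] using h2
    · intro h
      obtain ⟨m, f, g, -, -, hfg⟩ := Module.Finite.exists_comp_eq_id_of_projective B F
      have hkey : ∀ (c : C) (e : E), c ⊗ₜ[B] β e = 0 := by
        intro c e
        have e1 : β e = ∑ i, (g (β e)) i • f (Pi.single i 1) := by
          conv_lhs => rw [← LinearMap.id_apply (R := B) (β e), ← hfg, LinearMap.comp_apply,
            pi_eq_sum_univ' (g (β e))]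
          rw [map_sum]
          exact Finset.sum_congr rfl fun i _ => by rw [map_smul]
        rw [e1, TensorProduct.tmul_sum]
        refine Finset.sum_eq_zero fun i _ => ?_
        have hmem : (g (β e)) i ∈ I := Ideal.subset_span ⟨((LinearMap.proj i).comp g, e), rfl⟩
        have h0 : algebraMap B C ((g (β e)) i) = 0 := h hmem
        rw [TensorProduct.tmul_smul, TensorProduct.smul_tmul', Algebra.smul_def, h0, zero_mul,
          TensorProduct.zero_tmul]
      apply LinearMap.ext
      intro z
      induction z with
      | zero => simp
      | add a b ha hb => rw [map_add, ha, hb]; simp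
      | tmul c e => rw [LinearMap.baseChange_tmul, hkey]; simp
  refine ⟨I, key, fun J hJ => le_antisymm ?_ ?_⟩
  · have h1 : LinearMap.baseChange (B ⧸ I) β = 0 := (key (B ⧸ I)).2 (by
      rw [Ideal.Quotient.algebraMap_eq, Ideal.mk_ker])
    have h2 := (hJ (B ⧸ I)).1 h1
    rwa [Ideal.Quotient.algebraMap_eq, Ideal.mk_ker] at h2
  · have h1 : LinearMap.baseChange (B ⧸ J) β = 0 := (hJ (B ⧸ J)).2 (by
      rw [Ideal.Quotient.algebraMap_eq, Ideal.mk_ker])
    have h2 := (key (B ⧸ J)).1 h1
    rwa [Ideal.Quotient.algebraMap_eq, Ideal.mk_ker] at h2

end Groth.Agent.S16015
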