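import Mathlib.Data.Matrix.Basis
import Mathlib.Data.Matrix.Block
import Mathlib.LinearAlgebra.Matrix.ToLin
import Mathlib.Tactic.LinearCombination
import Mathlib.Tactic.FinCases
import Mathlib.LinearAlgebra.Span.Defs
import Mathlib.Algebra.Field.Defs
import Mathlib.Data.Matrix.Basis
import Mathlib.LinearAlgebra.Matrix.ToLin
import Mathlib.Tactic.LinearCombination
import Mathlib.Tactic.FinCases

set_option autoImplicit false
namespace W4c3ghconstell
end W4c3ghconstell
universe u
open W4c3ghconstell

namespace Groth.Agent.S16016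

/-- Let k be a field with 2 ≠ 0, index k⁶ by two copies of {0,1,2} (basis vectors p₁, p₂, p₃ in the
first copy and p₄, p₅, p₆ in the second), let Q be the symmetric matrix with blocks ((0, 1), (1,
0)), so that the form it defines pairs pᵢ with pᵢ₊₃, and let W₀ be the span of p₁ and p₂. Then a 6 ×
6 matrix A satisfies AᵀQ + QA = 0 (A lies in the orthogonal Lie algebra of Q) and has the image of
Aᵀ contained in W₀ if and only if A = a · (E₄₂ − E₅₁) for some scalar a, where Eᵢⱼ is the matrix
unit. (The lemma in the source concludes that the set of such A inside a certain nilpotent orbit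
closure of this Lie algebra is one-dimensional; this row is the computation its proof performs,
which determines all such A in the Lie algebra. Characteristic 2 is excluded: there E₁₄ᵀ also
qualifies.) -/
theorem result (k : Type u) [Field k] (h2 : (2 : k) ≠ 0)
    (A : Matrix (Fin 3 ⊕ Fin 3) (Fin 3 ⊕ Fin 3) k) :
    (A.transpose * Matrix.fromBlocks (0 : Matrix (Fin 3) (Fin 3) k) 1 1 0 +
        Matrix.fromBlocks (0 : Matrix (Fin 3) (Fin 3) k) 1 1 0 * A = 0 ∧
      LinearMap.range (Matrix.mulVecLin A.transpose) ≤
        Submodule.span k {Pi.single (Sum.inl 0 : Fin 3 ⊕ Fin 3) (1 : k), Pi.single (Sum.inl 1 : Fin 3 ⊕ Fin 3) (1 : k)}) ↔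
    ∃ a : k, A = a • (Matrix.single (Sum.inr 0) (Sum.inl 1) (1 : k) - Matrix.single (Sum.inr 1) (Sum.inl 0) (1 : k)) := by
  constructor
  · rintro ⟨hskew, hrange⟩
    have h0 : ∀ i j, j ≠ Sum.inl 0 → j ≠ Sum.inl 1 → A i j = 0 := fun i j h1 h2 => by
      have hmem := hrange ⟨Pi.single i 1, rfl⟩
      rw [Matrix.mulVecLin_apply, Matrix.mulVec_single_one, Submodule.mem_span_pair] at hmem
      obtain ⟨a, b, hab⟩ := hmem
      have := congrFun hab j
      simpa [h1, h2] using this.symm
    have hsw : ∀ i j, (A.transpose * Matrix.fromBlocks (0 : Matrix (Fin 3) (Fin 3) k) 1 1 0 +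
        Matrix.fromBlocks (0 : Matrix (Fin 3) (Fin 3) k) 1 1 0 * A : Matrix (Fin 3 ⊕ Fin 3) (Fin 3 ⊕ Fin 3) k) i j = 0 :=
      fun i j => by rw [hskew]; rfl
    have e1 : ∀ i j, A (Sum.inr j) (Sum.inl i) + A (Sum.inr i) (Sum.inl j) = 0 := fun i j => by
      simpa [Matrix.mul_apply, Fintype.sum_sum_type, Matrix.one_apply] using hsw (Sum.inl i) (Sum.inl j)
    have e2 : ∀ i j, A (Sum.inl j) (Sum.inl i) + A (Sum.inr i) (Sum.inr j) = 0 := fun i j => by
      simpa [Matrix.mul_apply, Fintype.sum_sum_type, Matrix.one_apply] using hsw (Sum.inl i) (Sum.inr j)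
    refine ⟨A (Sum.inr 0) (Sum.inl 1), ?_⟩
    have d0 : ∀ i, A (Sum.inr i) (Sum.inl i) = 0 := fun i => by
      have := e1 i i
      rw [← two_mul] at this
      exact (mul_eq_zero.1 this).resolve_left h2
    ext i j
    rcases i with i | i <;> rcases j with j | j
    · have := e2 j i
      rw [h0 (Sum.inr j) (Sum.inr i) (by simp) (by simp), add_zero] at this
      simp [this]
    · simp [h0 (Sum.inl i) (Sum.inr j) (by simp) (by simp)]
    · have h10 := e1 0 1
      fin_cases i <;> fin_cases j <;> simp [d0] <;>
        first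
          | (refine h0 _ _ ?_ ?_ <;> decide)
          | (have := e1 2 0; rw [h0 _ (Sum.inl 2) (by decide) (by decide)] at this; simpa using this)
          | (have := e1 2 1; rw [h0 _ (Sum.inl 2) (by decide) (by decide)] at this; simpa using this)
          | linear_combination h10
    · simp [h0 (Sum.inr i) (Sum.inr j) (by simp) (by simp)]
  · rintro ⟨a, rfl⟩
    refine ⟨?_, ?_⟩
    · ext i j
      rcases i with i | i <;> rcases j with j | j <;>
        simp [Matrix.mul_apply, Fintype.sum_sum_type, Matrix.one_apply, Matrix.single_apply]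
      fin_cases i <;> fin_cases j <;> simp
    · rintro _ ⟨v, rfl⟩
      rw [Submodule.mem_span_pair]
      refine ⟨-(a * v (Sum.inr 1)), a * v (Sum.inr 0), ?_⟩
      ext j
      rcases j with j | j <;>
        simp [Matrix.mulVec, dotProduct, Fintype.sum_sum_type, Fin.sum_univ_three, Matrix.single_apply]
      fin_cases j <;> simp

end Groth.Agent.S16016
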