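import Groth.Statements.S16017
import Mathlib.Analysis.Normed.Group.InfiniteSum
import Mathlib.Analysis.Normed.Group.Real
import Mathlib.Topology.Algebra.InfiniteSum.Order
import Mathlib.Analysis.SpecificLimits.Basic
import Mathlib.Analysis.RCLike.Basic
import Mathlib.Tactic.Positivity

set_option autoImplicit false
universe u
open W4c3ghconstell

namespace Groth.Agent.S16017

/-- Let ι index the irreducible representations, θ : ι → ℚ a weight negative at only finitely many
indices (the finite set D₋), h h' : ι → ℕ with h' ≤ h pointwise (the isotypic dimensions of an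
object and of a sub-object) and Σ_i θ_i h_i summable. For a finite set D of indices put S_D = Σ_{i ∉
D} θ_i h_i, d = #(D ∖ D₋), and θ̃_D = Σ_{i ∈ D} θ_i h'_i + (S_D / d) · Σ_{i ∈ D ∖ D₋} h'_i / h_i,
the modified weight attached to the parameters chosen for D (for D ⊇ D₋ the first sum is the
negative part plus the part over D ∖ D₋). Then θ̃_D tends to Σ_i θ_i h'_i as D grows through the
finite subsets of ι. (Here D runs over all finite sets of indices and a quotient by zero is zero;
the source lets D run over the finite subsets of the locus θ ≠ 0 containing D₋, and the same tail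
estimate gives both.) -/
theorem result {ι : Type u} [DecidableEq ι] (θ : ι → ℚ) (h h' : ι → ℕ)
    (hle : ∀ i, h' i ≤ h i) (hfin : {i | θ i < 0}.Finite)
    (hsum : Summable (fun i => (θ i : ℝ) * (h i : ℝ))) :
    Filter.Tendsto
      (fun D : Finset ι =>
        (∑ i ∈ D, (θ i : ℝ) * (h' i : ℝ)) +
          ((∑' i, if i ∈ D then (0 : ℝ) else (θ i : ℝ) * (h i : ℝ)) / ((D \ hfin.toFinset).card : ℝ)) *
            ∑ i ∈ D \ hfin.toFinset, ((h' i : ℝ) / (h i : ℝ)))
      Filter.atTop (nhds (∑' i, (θ i : ℝ) * (h' i : ℝ))) := by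
  set a : ι → ℝ := fun i => (θ i : ℝ) * (h i : ℝ) with ha
  set a' : ι → ℝ := fun i => (θ i : ℝ) * (h' i : ℝ) with ha'
  have habs : Summable fun i => |a i| := hsum.abs
  have ha's : Summable a' := Summable.of_norm_bounded habs fun i => by
    rw [Real.norm_eq_abs, ha, ha', abs_mul, abs_mul, Nat.abs_cast, Nat.abs_cast]
    exact mul_le_mul_of_nonneg_left (by exact_mod_cast hle i) (abs_nonneg _)
  have h1 : Filter.Tendsto (fun D : Finset ι => ∑ i ∈ D, a' i) Filter.atTop (nhds (∑' i, a' i)) :=
    ha's.hasSum
  have h2 : Filter.Tendsto (fun D : Finset ι => ∑' i, if i ∈ D then (0 : ℝ) else a i) Filter.atTop (nhds 0) := by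
    have hS : Filter.Tendsto (fun D : Finset ι => (∑' i, a i) - ∑ i ∈ D, a i) Filter.atTop (nhds 0) := by
      have := hsum.hasSum.const_sub (∑' i, a i)
      rwa [sub_self] at this
    refine hS.congr fun D => ?_
    have e1 : HasSum (fun i => if i ∈ D then a i else 0) (∑ i ∈ D, a i) := by
      have := hasSum_sum_of_ne_finset_zero (f := fun i => if i ∈ D then a i else 0) (s := D)
        (L := SummationFilter.unconditional ι) fun i hi => if_neg hi
      rwa [Finset.sum_congr rfl fun i hi => if_pos hi] at this
    have e2 := hsum.hasSum.sub e1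
    rw [← e2.tsum_eq]
    refine tsum_congr fun i => ?_
    split_ifs with hi <;> simp [ha]
  have h3 : Filter.Tendsto (fun D : Finset ι =>
      ((∑' i, if i ∈ D then (0 : ℝ) else a i) / ((D \ hfin.toFinset).card : ℝ)) *
        ∑ i ∈ D \ hfin.toFinset, ((h' i : ℝ) / (h i : ℝ))) Filter.atTop (nhds 0) := by
    refine squeeze_zero_norm (fun D => ?_) (tendsto_zero_iff_norm_tendsto_zero.1 h2)
    set E := D \ hfin.toFinset
    have hnn : 0 ≤ ∑ i ∈ E, ((h' i : ℝ) / (h i : ℝ)) := Finset.sum_nonneg fun i _ => by positivity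
    have hle' : ∑ i ∈ E, ((h' i : ℝ) / (h i : ℝ)) ≤ (E.card : ℝ) := by
      refine (Finset.sum_le_sum fun i _ => div_le_one_of_le₀ (by exact_mod_cast hle i) (by positivity)).trans ?_
      simp
    rw [norm_mul, norm_div, Real.norm_eq_abs (∑ i ∈ E, _), abs_of_nonneg hnn, RCLike.norm_natCast,
      div_mul_eq_mul_div, mul_div_assoc]
    exact mul_le_of_le_one_right (norm_nonneg _) (div_le_one_of_le₀ hle' (by positivity))
  simpa using h1.add h3


end Groth.Agent.S16017
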