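import Groth.Statements.S16018
import Groth.Agent.L28.GhConst.Basic

set_option autoImplicit false
universe u v w x
open W4c3ghconstell

namespace Groth.Agent.S16018

/-- Let k be an algebraically closed field of characteristic zero, A a commutative Hopf algebra over k
which is a finitely generated domain and linearly reductive (the coordinate ring of a connected
reductive group G; irreducible representations of G are indexed by the simple subcoalgebras D of A),
R a Noetherian commutative k-algebra with a multiplicative A-coaction (an affine G-scheme X = Spec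
R), and M an R-module with a compatible A-coaction (a G-equivariant quasi-coherent module on X)
which is finite over R, is the sum of its isotypic components M_D, and has dim_k M_D = h(D) < ∞ for
every simple subcoalgebra D. Fix a weight θ from simple subcoalgebras to ℚ, negative at only
finitely many D, with Σ_D θ(D) h(D) = 0 (a convergent real series) and with θ(D) ≠ 0, h(D) ≠ 0 for
some D; the weight of a k-subspace N of M is the real series Σ_D θ(D) · dim_k (N ∩ M_D). Assume
moreover that θ(D) ≠ 0 for every simple subcoalgebra D. If M is θ-semistable, i.e. M has weight 0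
and every R-submodule of M stable under the coaction has weight ≥ 0, then M is generated as an
R-module by its isotypic components M_D with θ(D) < 0 (the generation property of θ-stable objects
thus extends to θ-semistable ones when θ vanishes nowhere). (Multiplicities are recorded as
dimensions of isotypic components, a rescaling of θ.) -/
theorem result (k : Type u) [Field k] [IsAlgClosed k] [CharZero k]
    (A : Type v) [CommRing A] [IsDomain A] [HopfAlgebra k A] [Algebra.FiniteType k A]
    (hred : HopfRep.IsLinearlyReductive k A)
    (R : Type w) [CommRing R] [Algebra k R] [IsNoetherianRing R] [HopfRep.Comod k A R] [GLin.IsCoactAlg k A R]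
    (M : Type x) [AddCommGroup M] [Module k M] [Module R M] [IsScalarTower k R M]
    [HopfRep.Comod k A M] [TameAct.IsHopfMod k A R M]
    (h : W4c3ghconstell.SimpSub k A → ℕ) (θ : W4c3ghconstell.SimpSub k A → ℚ)
    (hfin : {D | θ D < 0}.Finite) (hsum : HasSum (fun D => (θ D : ℝ) * (h D : ℝ)) 0)
    (hne : ∃ D, θ D ≠ 0 ∧ h D ≠ 0)
    (hM : W4c3ghconstell.IsConstellation k A R M h)
    (hθ : ∀ D, θ D ≠ 0)
    (hss : W4c3ghconstell.IsThetaSemistable k A R M θ) :
    W4c3ghconstell.genIn k A R M {D | θ D < 0} ⊤ = ⊤ := by
  classical
  have hs : Summable fun D => (θ D : ℝ) * (h D : ℝ) := hsum.summable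
  let G := genIn k A R M {D | θ D < 0}
  obtain ⟨h1, h2⟩ := Groth.L28.GhConst.genIn_facts k A R M hM hs ⊤
  have hsub := Groth.L28.GhConst.isSubcomod_genIn k A R M {D | θ D < 0} ⊤
    (by simpa using Groth.L08.isSubcomod_top (k := k) (A := A) (V := M))
  rw [Submodule.restrictScalars_top] at h1 h2
  have he : theta M θ ((G ⊤).restrictScalars k) = theta M θ ⊤ := le_antisymm h2 (by rw [hss.1]; exact hss.2 _ hsub)
  refine (Submodule.restrictScalars_eq_top_iff k R M).1 ?_
  rw [_root_.eq_top_iff, ← hM.2.1]
  refine iSup_le fun D => Groth.L28.GhConst.isoComp_le_of_hilbAt hM.2.2 ?_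
  rw [Groth.L28.GhConst.hilbAt_eq_of_theta_eq hM.2.2 hs le_top h1 he (hθ D),
    Groth.L28.GhConst.hilbAt_top hM.2.2]

end Groth.Agent.S16018
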