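import Groth.Statements.S16021
import Groth.Agent.L10.CechEdge

set_option autoImplicit false
universe u
open CategoryTheory CategoryTheory.Limits Opposite
open CechEdge

namespace Groth.Agent.S16021

/-- On a small site with fibre products, with coverings given as indexed families of objects over their
target, an abelian presheaf is a sheaf if and only if, for every object U and every family of
objects over U whose generated sieve is covering, the canonical map from the sections over U to the
degree-0 Cech cohomology with respect to the family is bijective. -/
theorem result {C : Type u} [SmallCategory C] [HasPullbacks C]
    (J : GrothendieckTopology C) (P : Cᵒᵖ ⥤ AddCommGrpCat.{u}) :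
    Presheaf.IsSheaf J P ↔ ∀ (U : C) (ι : Type u) (Y : ι → Over U),
      Sieve.ofArrows (fun i => (Y i).left) (fun i => (Y i).hom) ∈ J U →
        Function.Bijective (CechEdge.toCech Y P) := by
  exact Groth.L10.CechEdge.isSheaf_iff P

end Groth.Agent.S16021
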