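import Groth.Statements.S16030
import Mathlib.RingTheory.Ideal.Operations
import Mathlib.RingTheory.Spectrum.Prime.Topology

set_option autoImplicit false
universe u
open CAlg

namespace Groth.Agent.S16030

/-- For a finite set F of points of the spectrum of a commutative ring A and an open subset U containing
F, some basic open D(a) contains F and is contained in U. -/
theorem result
    (A : Type u) [CommRing A] (F : Set (PrimeSpectrum A)) (hF : F.Finite)
    (U : TopologicalSpace.Opens (PrimeSpectrum A)) (hFU : F ⊆ (U : Set (PrimeSpectrum A))) :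
    ∃ a : A, F ⊆ (PrimeSpectrum.basicOpen a : Set (PrimeSpectrum A)) ∧ PrimeSpectrum.basicOpen a ≤ U := by
  classical
  obtain ⟨I, hI⟩ := (PrimeSpectrum.isClosed_iff_zeroLocus_ideal _).mp U.isOpen.isClosed_compl
  have hnot : ¬ (I : Set A) ⊆ ⋃ p ∈ (↑hF.toFinset : Set (PrimeSpectrum A)), (p.asIdeal : Set A) := by
    intro hsub
    rcases hF.toFinset.eq_empty_or_nonempty with he | ⟨q, hq⟩
    · rw [he] at hsub
      simpa using hsub (zero_mem I)
    obtain ⟨p, hp, hle⟩ := (Ideal.subset_union_prime (f := PrimeSpectrum.asIdeal) q q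
      (fun i _ _ _ => i.isPrime)).mp hsub
    have : p ∈ (U : Set (PrimeSpectrum A))ᶜ := hI ▸ hle
    exact this (hFU (hF.mem_toFinset.mp hp))
  obtain ⟨a, haI, ha⟩ := Set.not_subset.mp hnot
  refine ⟨a, fun p hp => ?_, fun p hp => ?_⟩
  · intro hap
    exact ha (Set.mem_biUnion (hF.mem_toFinset.mpr hp) hap)
  · by_contra hpU
    have : p ∈ PrimeSpectrum.zeroLocus (I : Set A) := hI ▸ hpU
    exact hp (this haI)

end Groth.Agent.S16030
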