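import Groth.Statements.S16031
import Groth.Agent.L24.PinchFinite.Basic

set_option autoImplicit false
universe u
open CategoryTheory CategoryTheory.Limits AlgebraicGeometry
open FlatMor

namespace Groth.Agent.S16031

/-- Let θ₁ : Y ⟶ X₁ and θ₂ : Y ⟶ X₂ be closed immersions of schemes and let X, with φ₁ : X₁ ⟶ X and φ₂ :
X₂ ⟶ X, be their pushout in the category of schemes. If a finite set E of points of X has each
preimage φᵢ⁻¹(E) contained in an affine open of Xᵢ, then E is contained in an affine open of X. -/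
theorem result
    {Y X₁ X₂ X : Scheme.{u}} (θ₁ : Y ⟶ X₁) (θ₂ : Y ⟶ X₂) [IsClosedImmersion θ₁] [IsClosedImmersion θ₂]
    (φ₁ : X₁ ⟶ X) (φ₂ : X₂ ⟶ X) (hX : IsPushout θ₁ θ₂ φ₁ φ₂)
    (E : Set ↥X) (hE : E.Finite)
    (h₁ : ∃ U₁ : X₁.Opens, IsAffineOpen U₁ ∧ φ₁ ⁻¹' E ⊆ (U₁ : Set ↥X₁))
    (h₂ : ∃ U₂ : X₂.Opens, IsAffineOpen U₂ ∧ φ₂ ⁻¹' E ⊆ (U₂ : Set ↥X₂)) :
    ∃ U : X.Opens, IsAffineOpen U ∧ E ⊆ (U : Set ↥X) := by
  classical
  have hs : Groth.L20.Pinch.Std θ₁ θ₂ :=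
    Groth.L20.Pinch.std_of_isIntegralHom fun y => Groth.L20.Pinch.exists_affine_of_isClosedImmersion y
  have hs' : Groth.L20.Pinch.Std θ₂ θ₁ :=
    Groth.L20.Pinch.std_of_isIntegralHom fun y => Groth.L20.Pinch.exists_affine_of_isClosedImmersion y
  haveI : IsClosedImmersion φ₂ := (Groth.L20.Pinch.IsPinch.of_isPushout hs hX).isClosedImmersion_b
  haveI : IsClosedImmersion φ₁ := (Groth.L20.Pinch.IsPinch.of_isPushout hs' hX.flip).isClosedImmersion_b
  obtain ⟨U₁, hU₁, h₁⟩ := h₁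
  obtain ⟨U₂, hU₂, h₂⟩ := h₂
  have f₁ : (φ₁ ⁻¹' E).Finite := hE.preimage φ₁.isClosedEmbedding.injective.injOn
  have f₂ : (φ₂ ⁻¹' E).Finite := hE.preimage φ₂.isClosedEmbedding.injective.injOn
  obtain ⟨k, hkU, hkV⟩ := Groth.Agent.L24.PinchFinite.exists_pair (i := θ₁) (j := θ₂) hU₁ hU₂
    f₁.toFinset f₂.toFinset (fun x hx => h₁ (by simpa using hx)) (fun x hx => h₂ (by simpa using hx))
    (fun z => by
      simp only [Set.Finite.mem_toFinset, Set.mem_preimage]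
      rw [← Scheme.Hom.comp_apply, ← Scheme.Hom.comp_apply, hX.w])
  obtain ⟨P, a, b, hP, hch⟩ := Groth.Agent.L24.PinchFinite.exists_all_charts hs
  obtain ⟨u, hu, hua, hub⟩ := hch k
  let e := hP.isPushout.isoIsPushout _ _ hX
  haveI := hu
  haveI : IsAffine k.spec := inferInstanceAs (IsAffine (Spec _))
  refine ⟨(u ≫ e.hom).opensRange, isAffineOpen_opensRange _, fun p hp => ?_⟩
  obtain ⟨q, rfl⟩ : ∃ q, e.hom q = p := ⟨e.inv p, by rw [← Scheme.Hom.comp_apply, e.inv_hom_id]; rfl⟩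
  rcases hP.exists_preimage q with ⟨x, rfl⟩ | ⟨x, rfl⟩
  · have hx : x ∈ b ⁻¹' Set.range u := by
      rw [hub]
      refine hkV x ?_
      simp only [Set.Finite.mem_toFinset, Set.mem_preimage]
      rwa [← Scheme.Hom.comp_apply, IsPushout.inr_isoIsPushout_hom] at hp
    obtain ⟨w, hw⟩ := hx
    exact ⟨w, by rw [Scheme.Hom.comp_apply, hw]⟩
  · have hx : x ∈ a ⁻¹' Set.range u := by
      rw [hua]
      refine hkU x ?_
      simp only [Set.Finite.mem_toFinset, Set.mem_preimage]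
      rwa [← Scheme.Hom.comp_apply, IsPushout.inl_isoIsPushout_hom] at hp
    obtain ⟨w, hw⟩ := hx
    exact ⟨w, by rw [Scheme.Hom.comp_apply, hw]⟩

end Groth.Agent.S16031
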