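import Groth.Statements.S18067
import Groth.Agent.L08.SmallNorm.AntiAffIsog
-- import your own Groth.Agent.* helpers here

set_option autoImplicit false
set_option backward.isDefEq.respectTransparency.types false
set_option linter.style.haveILetI false
universe u
open CategoryTheory MonoidalCategory CartesianMonoidalCategory MonObj GrpObj AlgebraicGeometry CategoryTheory.Limits
open AlgGrp

namespace Groth.Agent.S18067

/-- Let k be a field and G an anti-affine algebraic group over k, i.e. a smooth k-group scheme of finite
type with O(G) = k (hence connected and commutative). Then for every non-zero integer n the n-th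
power map G → G, x ↦ x^n, is an isogeny: surjective and finite. -/
theorem result (k : Type u) [Field k]
    (G : Over (Spec (CommRingCat.of k))) [GrpObj G] [Smooth G.hom] [QuasiCompact G.hom]
    (hG : Function.Bijective ((Scheme.ΓSpecIso (CommRingCat.of k)).inv ≫ G.hom.appTop).hom) (n : ℤ) (hn : n ≠ 0) :
    Surjective ((𝟙 G) ^ n).left ∧ IsFinite ((𝟙 G) ^ n).left := by
  haveI : IsIso G.hom.appTop := (ConcreteCategory.isIso_iff_bijective _).2
    ((Function.Bijective.of_comp_iff _ (ConcreteCategory.bijective_of_isIso (Scheme.ΓSpecIso (CommRingCat.of k)).inv)).1
      (by rw [CommRingCat.hom_comp] at hG; exact hG))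
  exact Groth.L08.SmallNorm.antiAff_zpow_isogeny G ‹_› n hn

end Groth.Agent.S18067
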