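import Groth.Statements.S16033
import Groth.Agent.S18067
import Groth.Agent.L08.AffHull.AntiAffine
import Groth.Agent.L08.Albanese.Isogeny

set_option backward.isDefEq.respectTransparency.types false
set_option backward.isDefEq.respectTransparency false

set_option autoImplicit false
universe u
open CategoryTheory CategoryTheory.Limits AlgebraicGeometry MonoidalCategory CartesianMonoidalCategory MonObj
open GrpSch

namespace Groth.Agent.S16033

/-- A homomorphism with affine kernel is affine. -/
theorem isAffineHom_of_kernel {k : Type u} [Field k] {Y A E : Over (Spec (CommRingCat.of k))} [GrpObj Y] [GrpObj A]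
    [LocallyOfFiniteType Y.hom] [LocallyOfFiniteType A.hom] [QuasiCompact Y.hom]
    (φ : Y ⟶ A) [IsMonHom φ] (κ : E ⟶ Y) (sq : AlgGrp.IsKernel κ φ) [IsAffineHom E.hom] :
    IsAffineHom φ.left := by
  obtain ⟨C, gC, p, iC, _, _, hpi, _, _, _, _⟩ := Groth.L08.AbelianGrp.exists_image φ
  haveI : Mono iC := Over.mono_of_mono_left iC
  have sqp : AlgGrp.IsKernel κ p := by
    refine IsPullback.mk' ?_ (fun T a b h h' => sq.hom_ext h h') (fun T a b h => ?_)
    · rw [← cancel_mono iC, Category.assoc, hpi, sq.w, Category.assoc, IsMonHom.one_hom]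
    · obtain ⟨d, hd, -⟩ := sq.exists_lift a b (by
        rw [← hpi, ← Category.assoc, h, Category.assoc, IsMonHom.one_hom])
      exact ⟨d, hd, toUnit_unique _ _⟩
  haveI : QuasiCompact p.left := Groth.L08.AbelianGrp.quasiCompact_left p
  have h2 := (Groth.L15.KerFlat.isPullback_kernelPair sqp).map (Over.forget _)
  have h3 : IsAffineHom (fst Y E).left := MorphismProperty.pullback_fst Y.hom E.hom ‹IsAffineHom E.hom›
  haveI : IsAffineHom p.left :=
    MorphismProperty.of_isPullback_of_descendsAlong (P := @IsAffineHom)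
      (Q := @Surjective ⊓ @Flat ⊓ @QuasiCompact) h2
      ⟨⟨‹Surjective p.left›, ‹Flat p.left›⟩, ‹QuasiCompact p.left›⟩ h3
  rw [← hpi, Over.comp_left]
  infer_instance

/-- For a commutative group scheme G of finite type over a field and an integer n > 0, the n-th power
homomorphism n_G : G ⟶ G is an affine morphism. -/
theorem result
    (k : Type u) [Field k] (G : Over (Spec (CommRingCat.of k))) [GrpObj G] [IsCommMonObj G]
    [LocallyOfFiniteType G.hom] [QuasiCompact G.hom] (n : ℕ) (hn : 0 < n) :
    IsAffineHom ((𝟙 G ^ n : G ⟶ G).left) := by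
  haveI : IsMonHom (𝟙 G ^ n : G ⟶ G) := by
    clear hn
    induction n with
    | zero => rw [pow_zero, Hom.one_def]; infer_instance
    | succ m ih => rw [pow_succ, Hom.mul_def]; infer_instance
  obtain ⟨E, gE, i, _, _, -, sq⟩ := Groth.L08.AbelianGrp.exists_kernel (𝟙 G ^ n : G ⟶ G)
  haveI : Mono i := Over.mono_of_mono_left i
  haveI : LocallyOfFiniteType E.hom := by rw [← Over.w i]; infer_instance
  haveI : QuasiCompact E.hom := by rw [← Over.w i]; infer_instance
  haveI := Groth.L08.AffHull.compactSpace (G := E)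
  haveI := Groth.L08.AffHull.quasiSeparatedSpace (G := E)
  obtain ⟨_, _, _, _⟩ := Groth.L08.AffHull.hull_props (G := E)
  obtain ⟨C, gC, i₁, _, _, -, sq₁⟩ := Groth.L08.AbelianGrp.exists_kernel (Groth.L08.AffHull.rho E)
  haveI : Mono i₁ := Over.mono_of_mono_left i₁
  haveI : LocallyOfFiniteType C.hom := by rw [← Over.w i₁]; infer_instance
  haveI : QuasiCompact C.hom := by rw [← Over.w i₁]; infer_instance
  have hO := Groth.L08.AffHull.isIso_appTop_kernel i₁ sq₁
  haveI : Smooth C.hom := Groth.L08.AffHull.smooth_of_antiAffine C hO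
  have hbij : Function.Bijective ((Scheme.ΓSpecIso (CommRingCat.of k)).inv ≫ C.hom.appTop).hom :=
    ConcreteCategory.bijective_of_isIso _
  obtain ⟨-, hfin⟩ := Groth.Agent.S18067.result k C hbij (n : ℤ) (by exact_mod_cast hn.ne')
  have hn1 : ((𝟙 C) ^ (n : ℤ) : C ⟶ C) = 1 := by
    rw [zpow_natCast]
    haveI : Mono (i₁ ≫ i) := mono_comp _ _
    have h1 : (i₁ ≫ i) ≫ (𝟙 G ^ n : G ⟶ G) = 1 := by
      rw [Category.assoc, show i ≫ (𝟙 G ^ n : G ⟶ G) = 1 from sq.w.trans (Hom.one_def).symm, MonObj.comp_one]
    rw [← cancel_mono (i₁ ≫ i), MonObj.pow_comp, Category.id_comp, MonObj.one_comp]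
    rwa [MonObj.comp_pow, Category.comp_id] at h1
  rw [hn1, Hom.one_def, Over.comp_left] at hfin
  haveI := hfin
  have hC : (toUnit C).left = C.hom := (Category.comp_id _).symm.trans (Over.w (toUnit C))
  haveI : IsSeparated C.hom := Groth.L08.AbelianGrp.isSeparated C
  haveI : IsClosedImmersion η[C].left := Groth.L08.AbelianGrp.isClosedImmersion_one _
  haveI : IsFinite (toUnit C).left := IsFinite.of_comp (toUnit C).left η[C].left
  haveI : IsFinite C.hom := by rw [← hC]; infer_instance
  haveI : IsAffineHom (Groth.L08.AffHull.rho E).left := isAffineHom_of_kernel _ i₁ sq₁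
  haveI : IsAffine E.left := isAffine_of_isAffineHom (Groth.L08.AffHull.rho E).left
  exact isAffineHom_of_kernel _ i sq

end Groth.Agent.S16033
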