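import Groth.Statements.S16037
import Groth.Agent.L19.SchDomLimitGroup

set_option autoImplicit false
set_option backward.isDefEq.respectTransparency.types false
set_option backward.isDefEq.respectTransparency false
set_option linter.style.haveILetI false
universe u
open CategoryTheory CategoryTheory.Limits AlgebraicGeometry MonoidalCategory MonObj
open GrpSch

namespace Groth.Agent.S16037

/-- Over a field k, let G be a group scheme of finite type, G' a group scheme which is a cofiltered
limit of group schemes of finite type (limit cone of homomorphisms), and u : G ⟶ G' a quasi-compact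
homomorphism which is schematically dominant. Then u is faithfully flat and G' is of finite type. -/
theorem result
    (k : Type u) [Field k] (G : Over (Spec (CommRingCat.of k))) [GrpObj G]
    [LocallyOfFiniteType G.hom] [QuasiCompact G.hom]
    (J : Type u) [SmallCategory J] [IsCofiltered J] (D : J ⥤ Over (Spec (CommRingCat.of k)))
    [∀ j, GrpObj (D.obj j)] [∀ (j j' : J) (φ : j ⟶ j'), IsMonHom (D.map φ)]
    (hD : ∀ j, LocallyOfFiniteType (D.obj j).hom ∧ QuasiCompact (D.obj j).hom)
    (c : Cone D) (hc : IsLimit c) [GrpObj c.pt] [∀ j, IsMonHom (M := c.pt) (N := D.obj j) (c.π.app j)]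
    (u : G ⟶ c.pt) [IsMonHom u] [QuasiCompact u.left] (hdom : u.left.ker = ⊥) :
    Flat u.left ∧ Surjective u.left ∧ LocallyOfFiniteType c.pt.hom ∧ QuasiCompact c.pt.hom := by
  exact Groth.L19.SchDomLimitGroup.main hD c hc u hdom

end Groth.Agent.S16037
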