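import Groth.Statements.S16044
import Groth.Agent.L01.FlatCx.Seq
import Mathlib.AlgebraicGeometry.Morphisms.Flat
import Mathlib.RingTheory.Flat.TorsionFree
import Mathlib.RingTheory.PrincipalIdealDomain
import Mathlib.AlgebraicGeometry.Limits
import Mathlib.AlgebraicGeometry.IdealSheaf.Basic
-- import your own Groth.Agent.* helpers here

set_option autoImplicit false
set_option backward.isDefEq.respectTransparency.types false
set_option linter.style.haveILetI false
universe u
open CategoryTheory CategoryTheory.Limits AlgebraicGeometry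
open GrpSch

namespace Groth.Agent.S16044

/-- Let S be the spectrum of a discrete valuation ring and X a quasi-compact quasi-separated flat
S-scheme, with canonical morphism c : X ⟶ Spec Γ(X, O_X) over S. Then on each fibre over a point of
S the base change of c is schematically dominant (its kernel ideal sheaf vanishes). -/
theorem result
    (A : Type u) [CommRing A] [IsDomain A] [IsDiscreteValuationRing A]
    (X : Scheme.{u}) (f : X ⟶ Spec (CommRingCat.of A)) [Flat f] [QuasiCompact f] [QuasiSeparated f]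
    (g : Spec Γ(X, ⊤) ⟶ Spec (CommRingCat.of A)) (hg : X.toSpecΓ ≫ g = f) (s : ↥(Spec (CommRingCat.of A))) :
    (pullback.map f ((Spec (CommRingCat.of A)).fromSpecResidueField s) g ((Spec (CommRingCat.of A)).fromSpecResidueField s)
        X.toSpecΓ (𝟙 _) (𝟙 _) ((Category.comp_id f).trans hg.symm)
        ((Category.comp_id _).trans (Category.id_comp _).symm)).ker = ⊥ := by
  classical
  haveI : CompactSpace X := QuasiCompact.compactSpace_of_compactSpace f
  let φ : CommRingCat.of A ⟶ Γ(X, ⊤) := Spec.preimage g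
  have hφ : Spec.map φ = g := Spec.map_preimage g
  let res : ∀ W : X.Opens, Γ(X, ⊤) ⟶ Γ(X, W) := fun W => X.presheaf.map (homOfLE le_top).op
  have hres : ∀ {V W : X.Opens} (e : V ≤ W) (r : Γ(X, ⊤)),
      (X.presheaf.map (homOfLE e).op).hom ((res W).hom r) = (res V).hom r := by
    intro V W e r
    simp only [res, ← CommRingCat.comp_apply, ← Functor.map_comp]
    rfl
  have haff : ∀ {V : X.Opens} (hV : IsAffineOpen V), (φ ≫ res V).hom.Flat := by
    intro V hV
    have : Spec.map (φ ≫ res V) = hV.fromSpec ≫ f := by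
      rw [Spec.map_comp, hφ, ← hg, ← Category.assoc, hV.fromSpec_toSpecΓ]
    haveI hfl : Flat (Spec.map (φ ≫ res V)) := by rw [this]; infer_instance
    exact Flat.SpecMap_iff.mp hfl
  have hnzd : ∀ (W : X.Opens) (x : Γ(X, W)) (a : A), a ≠ 0 →
      (φ ≫ res W).hom a * x = 0 → x = 0 := by
    intro W x a ha h0
    refine X.sheaf.eq_of_locally_eq' (fun V : {V : X.affineOpens // V.1 ≤ W} => V.1.1) W
      (fun V => homOfLE V.2) (fun z hz => ?_) x 0 (fun V => ?_)
    · obtain ⟨_, ⟨V, hV, rfl⟩, hzV, hVW⟩ :=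
        X.isBasis_affineOpens.exists_subset_of_mem_open hz W.2
      exact TopologicalSpace.Opens.mem_iSup.mpr ⟨⟨⟨V, hV⟩, hVW⟩, hzV⟩
    · letI := (φ ≫ res V.1.1).hom.toAlgebra
      haveI : Module.Flat A Γ(X, V.1.1) := haff V.1.2
      haveI : Module.IsTorsionFree A Γ(X, V.1.1) := inferInstance
      show (X.presheaf.map (homOfLE V.2).op).hom x = (X.presheaf.map (homOfLE V.2).op).hom 0
      rw [map_zero]
      refine (smul_eq_zero.mp (?_ : a • (X.presheaf.map (homOfLE V.2).op).hom x = 0)).resolve_left ha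
      rw [Algebra.smul_def]
      show (res V.1.1).hom (φ.hom a) * _ = 0
      rw [← hres V.2, ← map_mul]
      rw [show (res W).hom (φ.hom a) * x = 0 from h0, map_zero]
  obtain ⟨t, ht⟩ := isCompact_univ.elim_finite_subcover (fun U : X.affineOpens => ((U : X.Opens) : Set X))
    (fun U => U.1.2) (fun x _ => by
      obtain ⟨_, ⟨U, hU, rfl⟩, hxU, -⟩ :=
        X.isBasis_affineOpens.exists_subset_of_mem_open (Set.mem_univ x) isOpen_univ
      exact Set.mem_iUnion.mpr ⟨⟨U, hU⟩, hxU⟩)
  have hcov : (⊤ : X.Opens) ≤ ⨆ U : t, U.1.1 := fun x _ => by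
    obtain ⟨U, hU, hxU⟩ := Set.mem_iUnion₂.mp (ht (Set.mem_univ x))
    exact TopologicalSpace.Opens.mem_iSup.mpr ⟨⟨U, hU⟩, hxU⟩
  let R : t → CommRingCat.{u} := fun U => Γ(X, U.1.1)
  let B : CommRingCat.{u} := CommRingCat.of (Π U, R U)
  let ρ : Γ(X, ⊤) ⟶ B := CommRingCat.ofHom (RingHom.pi fun U => (res U.1.1).hom)
  let h : Spec B ⟶ X := inv (sigmaSpec R) ≫ Sigma.desc fun U => U.1.2.fromSpec
  have hh : h ≫ X.toSpecΓ = Spec.map ρ := by
    rw [← cancel_epi (sigmaSpec R)]
    refine Sigma.hom_ext _ _ fun U => ?_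
    show Sigma.ι _ U ≫ sigmaSpec R ≫ (inv (sigmaSpec R) ≫ _) ≫ X.toSpecΓ = _
    rw [Category.assoc, IsIso.hom_inv_id_assoc, Sigma.ι_desc_assoc, U.1.2.fromSpec_toSpecΓ,
      reassoc_of% ι_sigmaSpec R U, ← Spec.map_comp]
    rfl
  let j : CommRingCat.of A ⟶ (Spec (CommRingCat.of A)).residueField s :=
    Spec.preimage ((Spec (CommRingCat.of A)).fromSpecResidueField s)
  have hj : Spec.map j = (Spec (CommRingCat.of A)).fromSpecResidueField s := Spec.map_preimage _
  letI algR : Algebra A Γ(X, ⊤) := φ.hom.toAlgebra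
  letI algB : Algebra A B := (φ ≫ ρ).hom.toAlgebra
  letI algK : Algebra A ((Spec (CommRingCat.of A)).residueField s) := j.hom.toAlgebra
  let ρa : Γ(X, ⊤) →ₐ[A] B := { ρ.hom with commutes' := fun a => rfl }
  have hinj : Function.Injective ρa := fun a b hab =>
    X.sheaf.eq_of_locally_eq' (fun U : t => U.1.1) ⊤ (fun U => homOfLE le_top) hcov a b
      fun U => congr_fun hab U
  let L : Submodule A B := LinearMap.range ρa.toLinearMap
  haveI : Module.Flat A (B ⧸ L) := by
    rw [Module.Flat.flat_iff_torsion_eq_bot_of_isBezout, eq_bot_iff]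
    rintro x ⟨⟨a, ha⟩, hax⟩
    obtain ⟨b, rfl⟩ := Submodule.Quotient.mk_surjective L x
    rw [Submodule.mem_bot, Submodule.Quotient.mk_eq_zero]
    have hax' : a • b ∈ L := (Submodule.Quotient.mk_eq_zero L).mp hax
    obtain ⟨r, hr⟩ := hax'
    have hrU : ∀ U : t, (φ ≫ res U.1.1).hom a * b U = (res U.1.1).hom r := fun U => by
      have := congr_fun hr U
      exact (Eq.symm this : _)
    have hcomp : TopCat.Presheaf.IsCompatible X.sheaf.1 (fun U : t => U.1.1) b := by
      intro U V
      refine sub_eq_zero.mp (hnzd (U.1.1 ⊓ V.1.1) _ a (nonZeroDivisors.ne_zero ha) ?_)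
      have e : ∀ (W : t) (le : U.1.1 ⊓ V.1.1 ≤ W.1.1),
          (φ ≫ res (U.1.1 ⊓ V.1.1)).hom a * (X.presheaf.map (homOfLE le).op).hom (b W) =
            (res (U.1.1 ⊓ V.1.1)).hom r := fun W le => by
        show (res _).hom (φ.hom a) * _ = _
        rw [← hres le, ← map_mul, ← hres le r]
        exact congrArg _ (hrU W)
      refine (mul_sub _ _ _).trans ?_
      exact sub_eq_zero.mpr ((e U inf_le_left).trans (e V inf_le_right).symm)
    obtain ⟨c, hc, -⟩ := X.sheaf.existsUnique_gluing' (fun U : t => U.1.1) ⊤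
      (fun U => homOfLE le_top) hcov b hcomp
    exact ⟨c, funext hc⟩
  have hinjK : Function.Injective
      (Algebra.TensorProduct.map ρa (AlgHom.id A ((Spec (CommRingCat.of A)).residueField s))) := by
    have := Groth.L01.FlatCx.rTensor_injective_of_flat_quot (f := ρa.toLinearMap) (g := L.mkQ) hinj
      (Submodule.mkQ_surjective L)
      (LinearMap.exact_iff.mpr (Submodule.ker_mkQ L))
      ((Spec (CommRingCat.of A)).residueField s)
    exact this
  set K := (Spec (CommRingCat.of A)).residueField s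
  let ι := (Spec (CommRingCat.of A)).fromSpecResidueField s
  let c := pullback.map f ι g ι X.toSpecΓ (𝟙 _) (𝟙 _) ((Category.comp_id f).trans hg.symm)
    ((Category.comp_id _).trans (Category.id_comp _).symm)
  let m : pullback (Spec.map (CommRingCat.ofHom (algebraMap A B))) (Spec.map (CommRingCat.ofHom (algebraMap A K))) ⟶
      pullback f ι :=
    pullback.map _ _ _ _ h (𝟙 _) (𝟙 _)
      (by
        show Spec.map (φ ≫ ρ) ≫ 𝟙 _ = h ≫ f
        rw [Category.comp_id, Spec.map_comp, hφ, ← hh, Category.assoc, hg])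
      (by rw [Category.comp_id, Category.id_comp]; exact hj)
  have hgA : g = Spec.map (CommRingCat.ofHom (algebraMap A Γ(X, ⊤))) := hφ.symm
  have hιA : ι = Spec.map (CommRingCat.ofHom (algebraMap A K)) := hj.symm
  let E := pullback.congrHom hgA hιA ≪≫ pullbackSpecIso A Γ(X, ⊤) K
  let D := pullbackSpecIso A B K
  let τ := CommRingCat.ofHom (Algebra.TensorProduct.map ρa (AlgHom.id A K)).toRingHom
  have hτ : (D.inv ≫ m) ≫ c = Spec.map τ ≫ E.inv := by
    apply pullback.hom_ext
    · simp only [Category.assoc, c, m, E, D, τ, pullback.lift_fst, pullback.lift_fst_assoc,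
        Iso.trans_inv, pullback.congrHom_inv, pullback.map, Category.comp_id,
        pullbackSpecIso_inv_fst, pullbackSpecIso_inv_fst_assoc, ← Spec.map_comp]
      rw [hh, ← Spec.map_comp]
      congr 1
    · simp only [Category.assoc, c, m, E, D, τ, pullback.lift_snd,
        Iso.trans_inv, pullback.congrHom_inv, pullback.map, Category.comp_id,
        pullbackSpecIso_inv_snd, ← Spec.map_comp]
      congr 1
      ext r
      show (1 : B) ⊗ₜ[A] r = Algebra.TensorProduct.map ρa (AlgHom.id A K) (1 ⊗ₜ r)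
      simp
  have hker : (Spec.map τ ≫ E.inv).ker = ⊥ := by
    have h1 : (Spec.map τ).ker = ⊥ := by
      refine Scheme.IdealSheafData.ext_of_isAffine ?_
      rw [Scheme.Hom.ker_apply, Scheme.IdealSheafData.ideal_bot]
      show RingHom.ker (Scheme.Hom.app (Spec.map τ) ⊤).hom = ⊥
      rw [← RingHom.injective_iff_ker_eq_bot]
      have := congrArg (fun k => k.hom) (Scheme.ΓSpecIso_naturality τ)
      intro a b hab
      apply (Scheme.ΓSpecIso _).commRingCatIsoToRingEquiv.injective
      apply hinjK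
      have ea := RingHom.congr_fun this a
      have eb := RingHom.congr_fun this b
      exact ea.symm.trans ((congrArg _ hab).trans eb)
    rw [Scheme.Hom.ker_comp, h1, Scheme.IdealSheafData.map_bot]
    exact E.inv.ker_eq_bot_of_isIso
  exact le_bot_iff.mp (((D.inv ≫ m).le_ker_comp c).trans (hτ ▸ hker).le)

end Groth.Agent.S16044
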