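import Groth.Statements.S16045
import Groth.Agent.L20.Pinch.Cases
import Groth.Agent.L23.PinchFlat
import Groth.Agent.L24.PinchBC.Std

set_option autoImplicit false
set_option backward.isDefEq.respectTransparency.types false
universe u
open CategoryTheory CategoryTheory.Limits AlgebraicGeometry
open FlatMor

namespace Groth.Agent.S16045

/-- Let θ₁ : Y ⟶ X₁ and θ₂ : Y ⟶ X₂ be closed immersions of schemes over S and X their pushout in
schemes over S. For a flat morphism g : S' ⟶ S, the square obtained by base change along g is a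
pushout in schemes over S': pinching along a closed subscheme commutes with flat base change. -/
theorem result
    {S S' : Scheme.{u}} (g : S' ⟶ S) [Flat g]
    {Y X₁ X₂ X : Over S} (θ₁ : Y ⟶ X₁) (θ₂ : Y ⟶ X₂) [IsClosedImmersion θ₁.left] [IsClosedImmersion θ₂.left]
    (φ₁ : X₁ ⟶ X) (φ₂ : X₂ ⟶ X) (hX : IsPushout θ₁ θ₂ φ₁ φ₂) :
    IsPushout ((Over.pullback g).map θ₁) ((Over.pullback g).map θ₂)
      ((Over.pullback g).map φ₁) ((Over.pullback g).map φ₂) := by
  have h1 : IsPushout θ₁.left θ₂.left φ₁.left φ₂.left := hX.map (Over.forget S)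
  have hP : Groth.L20.Pinch.IsPinch θ₁.left θ₂.left φ₁.left φ₂.left :=
    Groth.L20.Pinch.IsPinch.of_isPushout
      (Groth.L20.Pinch.std_of_isIntegralHom Groth.L20.Pinch.exists_affine_of_isClosedImmersion) h1
  have hY := Groth.L24.PinchBC.isPullback_overMap g (θ₁ ≫ φ₁)
  rw [Functor.map_comp, Over.comp_left, Over.comp_left] at hY
  have hflat : ∀ {A : Scheme.{u}} (x : A ⟶ S), Flat (pullback.fst x g) := fun x =>
    MorphismProperty.of_isPullback (IsPullback.of_hasPullback x g).flip inferInstance
  refine IsPushout.of_map (Over.forget S') ?_ ?_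
  · rw [← Functor.map_comp, ← Functor.map_comp, hX.w]
  · exact @Groth.L23.PinchFlat.isPushout_of_flat _ _ _ _ _ _ _ _ _ _ _ _ _ _ _ _ _ _ _ _ inferInstance hP (hflat X.hom) (Groth.L24.PinchBC.isPullback_overMap g φ₂)
      (Groth.L24.PinchBC.isPullback_overMap g φ₁) hY
      (congrArg CommaMorphism.left (show (Over.pullback g).map θ₁ ≫ (Over.pullback g).map φ₁ = (Over.pullback g).map θ₂ ≫ (Over.pullback g).map φ₂ by rw [← Functor.map_comp, ← Functor.map_comp, hX.w]))
      (Groth.L24.PinchBC.isPullback_overMap g θ₂).w (Groth.L24.PinchBC.isPullback_overMap g θ₁).w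

end Groth.Agent.S16045
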