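import Groth.Statements.S16048
import Groth.Agent.L12.PSSmooth


set_option autoImplicit false
universe u v
open CategoryTheory
open ArtFun

namespace Groth.Agent.S16048

/-- Let Λ be a complete local Noetherian ring with residue field k and F a functor on Artinian local
Λ-algebras with residue field k which admits a hull. A family ξ of F over a complete local
Noetherian Λ-algebra R with residue field k such that R is isomorphic over Λ to a power series ring
Λ[[t_1, …, t_n]] and the induced map on tangent spaces h_R(k[ε]) → F(k[ε]) is bijective is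
miniversal. (The source states this for the deformation functor of a rational double point over the
Witt vectors of an algebraically closed field, with the Kodaira–Spencer map as the tangent map and
the existence of a hull taken from Schlessinger's criteria; the argument uses only the existence of
a hull, so the hull is carried as a hypothesis and Λ is any complete local Noetherian ring with
residue field k.) -/
theorem result {Λ : Type u} {k : Type u}
    [CommRing Λ] [Field k] [Algebra Λ k] [IsNoetherianRing Λ] [Module.Finite Λ k]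
    [IsLocalRing Λ] [IsAdicComplete (IsLocalRing.maximalIdeal Λ) Λ]
    (hk : Function.Surjective (algebraMap Λ k))
    {F : ArtFun.Art Λ k ⥤ Type v} (hF : ArtFun.HasHull F)
    (R : ArtFun.CRing Λ k) (n : ℕ) (e : R.carrier ≃ₐ[Λ] MvPowerSeries (Fin n) Λ)
    (ξ : ArtFun.Family R.carrier R.res F)
    (hξ : Function.Bijective (ArtFun.TangentSpace.ofFamily ξ)) :
    ArtFun.IsMiniversal ξ := by
  obtain ⟨H⟩ := hF
  have h0 := Groth.L12.miniversal_h0 H.family H.miniversal
  obtain ⟨g, hg, hgu⟩ := Groth.L12.exists_along_eq h0 H.family H.miniversal.1 R ξ.toFormalElt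
  have hfam : H.family.along g hg = ξ := Groth.L12.family_eq_of_toFormalElt hgu
  subst hfam
  have hgs : Function.Surjective g := Groth.L12.surjective_of_tangent_injective H.ring R g hg fun φ ψ he =>
    hξ.1 (congrArg (H.family.app _) (Subtype.ext (AlgHom.ext he)))
  let L : ArtFun.CRing Λ k := { carrier := Λ, res := Algebra.ofId Λ k, res_surjective := hk, isAdicComplete := inferInstance }
  choose u₀ hu₀ using fun i : Fin n => hgs (e.symm (MvPowerSeries.X i))
  have hXm : ∀ i : Fin n, u₀ i ∈ IsLocalRing.maximalIdeal H.ring.carrier := fun i => by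
    rw [ArtFun.CRing.mem_maximalIdeal_iff, ← hg, AlgHom.comp_apply, hu₀, ← ArtFun.CRing.mem_maximalIdeal_iff,
      IsLocalRing.mem_maximalIdeal, mem_nonunits_iff]
    refine fun hu => (IsLocalRing.mem_maximalIdeal _).1 (Groth.L12.X_mem_maximalIdeal (R := Λ) i) ?_
    exact (e.apply_symm_apply (MvPowerSeries.X i)) ▸ hu.map e
  obtain ⟨u, huC, huX⟩ := Groth.L12.exists_psLift L (Algebra.ofId Λ H.ring.carrier) u₀ hXm
  let v : R.carrier →ₐ[Λ] H.ring.carrier := u.comp (e.toAlgHom : R.carrier →ₐ[Λ] (Groth.L12.psRing L (Fin n)).carrier)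
  have hgu : g.comp u = (e.symm.toAlgHom : (Groth.L12.psRing L (Fin n)).carrier →ₐ[Λ] R.carrier) := by
    refine Groth.L12.psHom_ext L (fun i => ?_) (AlgHom.ext fun l => ?_) fun i => ?_
    · change g (u _) ∈ _
      rw [huX, ArtFun.CRing.mem_maximalIdeal_iff, ← AlgHom.comp_apply R.res g,
        hg, ← ArtFun.CRing.mem_maximalIdeal_iff]
      exact hXm i
    · exact ((g.comp u).commutes l).trans (e.symm.commutes l).symm
    · change g (u _) = _
      rw [huX, hu₀]
      rfl
  have hgv : ∀ r, g (v r) = r := fun r =>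
    (DFunLike.congr_fun hgu (e r)).trans (e.symm_apply_apply r)
  have hvres : H.ring.res.comp v = R.res := AlgHom.ext fun r => by
    rw [AlgHom.comp_apply, ← hg, AlgHom.comp_apply, hgv]
  have hvs : Function.Surjective v := Groth.L12.surjective_of_tangent_injective R H.ring v hvres fun φ ψ he => by
    obtain ⟨φ', hφ'⟩ := hξ.2 (H.family.app _ φ)
    obtain ⟨ψ', hψ'⟩ := hξ.2 (H.family.app _ ψ)
    have h1 : (⟨φ'.1.comp g, by rw [← AlgHom.comp_assoc, φ'.2, hg]⟩ : ArtFun.HomSet _ _ _) = φ := H.miniversal.2.1 hφ'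
    have h2 : (⟨ψ'.1.comp g, by rw [← AlgHom.comp_assoc, ψ'.2, hg]⟩ : ArtFun.HomSet _ _ _) = ψ := H.miniversal.2.1 hψ'
    have h3 : φ' = ψ' := Subtype.ext (AlgHom.ext fun r => by
      have a1 := DFunLike.congr_fun (congrArg Subtype.val h1) (v r)
      have a2 := DFunLike.congr_fun (congrArg Subtype.val h2) (v r)
      rw [AlgHom.comp_apply, hgv] at a1 a2
      rw [a1, a2, he r])
    rw [← h1, ← h2, h3]
  refine ⟨?_, hξ⟩
  intro B A μ hμ φ y hy
  obtain ⟨ψ, h₁, h₂⟩ := H.miniversal.1 μ hμ ⟨φ.1.comp g, by rw [← AlgHom.comp_assoc, φ.2, hg]⟩ y hy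
  refine ⟨⟨ψ.1.comp v, by rw [← AlgHom.comp_assoc, ψ.2, hvres]⟩, Subtype.ext (AlgHom.ext fun r => ?_),
    (congrArg (H.family.app B) (Subtype.ext (AlgHom.ext fun a => ?_))).trans h₂⟩
  · exact (DFunLike.congr_fun (congrArg Subtype.val h₁) (v r)).trans (congrArg φ.1 (hgv r))
  · obtain ⟨r, rfl⟩ := hvs a
    exact congrArg ψ.1 (congrArg v (hgv r))
end Groth.Agent.S16048
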