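import Groth.Statements.S16050
import Groth.Agent.L07.KaehlerHypersurface
import Groth.Agent.L07.ExtCyclicRel

set_option autoImplicit false
set_option linter.style.haveILetI false
universe u
open CategoryTheory
open LCI

namespace Groth.Agent.S16050

/-- Let k be an algebraically closed field of characteristic p > 0, P = k[[x, y, z]] the power series
ring in three variables, f a non-unit of P defining an isolated singularity — some power of the
maximal ideal of P is contained in (f) + J, where J is the ideal generated by the values D(f) of all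
k-derivations D of P (the Jacobian ideal (f_x, f_y, f_z)) — and R₀ = P/(f). Then Ext²_{R₀}(Ω_{R₀/k},
R₀) = 0 and Ext¹_{R₀}(Ω_{R₀/k}, R₀) is isomorphic as an R₀-module to R₀/J R₀, the Tjurina algebra
(existence of an R₀-linear isomorphism only; the source obtains it from the boundary map of the
dualized conormal sequence). The source states this for the normal form of a rational double point;
the hypotheses used are those given here. Here Ω is the module of Kähler differentials of the
k-algebra R₀. (The lemma also identifies first-order deformations of R₀ with this Ext¹ group; that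
identification is quoted there from another work and is not part of this row.) -/
theorem result (k : Type u) [Field k] [IsAlgClosed k]
    (p : ℕ) [Fact p.Prime] [CharP k p]
    (f : MvPowerSeries (Fin 3) k) (hf : f ∈ IsLocalRing.maximalIdeal (MvPowerSeries (Fin 3) k))
    (hiso : ∃ N : ℕ, IsLocalRing.maximalIdeal (MvPowerSeries (Fin 3) k) ^ N ≤
      Ideal.span {f} ⊔ Ideal.span {g | ∃ D : Derivation k (MvPowerSeries (Fin 3) k) (MvPowerSeries (Fin 3) k), g = D f}) :
    Subsingleton (Abelian.Ext
        (ModuleCat.of (MvPowerSeries (Fin 3) k ⧸ Ideal.span {f})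
          (KaehlerDifferential k (MvPowerSeries (Fin 3) k ⧸ Ideal.span {f})))
        (ModuleCat.of (MvPowerSeries (Fin 3) k ⧸ Ideal.span {f}) (MvPowerSeries (Fin 3) k ⧸ Ideal.span {f})) 2) ∧
      Nonempty (Abelian.Ext
        (ModuleCat.of (MvPowerSeries (Fin 3) k ⧸ Ideal.span {f})
          (KaehlerDifferential k (MvPowerSeries (Fin 3) k ⧸ Ideal.span {f})))
        (ModuleCat.of (MvPowerSeries (Fin 3) k ⧸ Ideal.span {f}) (MvPowerSeries (Fin 3) k ⧸ Ideal.span {f})) 1 ≃ₗ[MvPowerSeries (Fin 3) k ⧸ Ideal.span {f}]
        ((MvPowerSeries (Fin 3) k ⧸ Ideal.span {f}) ⧸ Ideal.map (Ideal.Quotient.mk (Ideal.span {f}))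
          (Ideal.span {g | ∃ D : Derivation k (MvPowerSeries (Fin 3) k) (MvPowerSeries (Fin 3) k), g = D f}))) := by
  classical
  obtain ⟨l, hl, hker⟩ := Groth.L07.KHyp.exists_presentation p f
  obtain ⟨N, hN⟩ := hiso
  rw [Groth.L07.KHyp.span_derivations p f] at hN ⊢
  have hc : ∀ a : MvPowerSeries (Fin 3) k ⧸ Ideal.span {f},
      (∀ i, a * Groth.L07.KHyp.gradVec f i = 0) → a = 0 := by
    intro a ha
    obtain ⟨a, rfl⟩ := Ideal.Quotient.mk_surjective a
    have hle : Ideal.span {f} ⊔ Ideal.span (Set.range fun i => MvPowerSeries.pderiv k i f) ≤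
        Submodule.comap (LinearMap.mulLeft (MvPowerSeries (Fin 3) k) a) (Ideal.span {f}) := by
      refine sup_le (fun g hg => Ideal.mul_mem_left _ a hg) (Ideal.span_le.mpr ?_)
      rintro _ ⟨i, rfl⟩
      show a * _ ∈ Ideal.span {f}
      rw [← Ideal.Quotient.eq_zero_iff_mem, map_mul]
      exact ha i
    have hX : ∀ i, f ∣ a * (MvPowerSeries.X i : MvPowerSeries (Fin 3) k) ^ N := fun i =>
      Ideal.mem_span_singleton.mp (hle (hN (Ideal.pow_mem_pow (by
        rw [IsLocalRing.mem_maximalIdeal, mem_nonunits_iff,
          MvPowerSeries.isUnit_iff_constantCoeff, MvPowerSeries.constantCoeff_X]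
        exact not_isUnit_zero) N)))
    rw [Ideal.Quotient.eq_zero_iff_mem, Ideal.mem_span_singleton]
    exact Groth.L07.KHyp.dvd_of_dvd_mul_X_pow (i := 0) (j := 1) (by decide) (hX 0) (hX 1)
  obtain ⟨h2, ⟨e⟩⟩ := Groth.L07.ExtRel.ext_of_relation _ (Groth.L07.KHyp.gradVec f) hc l hl hker
  refine ⟨h2, ⟨e.trans (Submodule.quotEquivOfEq _ _ ?_)⟩⟩
  rw [Ideal.map_span, ← Set.range_comp]
  rfl

end Groth.Agent.S16050
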