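import Groth.Statements.S16051
import Mathlib.Algebra.Lie.Classical
import Mathlib.RingTheory.DiscreteValuationRing.Basic
import Mathlib.LinearAlgebra.Dimension.Constructions
import Mathlib.RingTheory.LocalRing.ResidueField.Basic
import Mathlib.Algebra.CharP.Basic

set_option autoImplicit false
universe u
open LieAlg

namespace Groth.Agent.S16051

open Finset Matrix

variable {R : Type u} [CommRing R] {n : ℕ}

/-- Entries of a matrix, extended by zero. -/
def entry (M : Matrix (Fin (n + 1)) (Fin (n + 1)) R) (i j : ℕ) : R :=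
  if h : i < n + 1 ∧ j < n + 1 then M ⟨i, h.1⟩ ⟨j, h.2⟩ else 0

theorem entry_fin (M : Matrix (Fin (n + 1)) (Fin (n + 1)) R) (i j : Fin (n + 1)) : entry M i.val j.val = M i j := by
  simp [entry, i.2, j.2]

theorem entry_comm (x B : Matrix (Fin (n + 1)) (Fin (n + 1)) R)
    (hx : ∀ i j : Fin (n + 1), x i j = if j.val = i.val + 1 ∧ j.val < n then 1 else 0)
    (i j : ℕ) (hi : i < n + 1) (hj : j < n + 1) :
    entry (x * B - B * x) i j =
      (if i + 1 < n then entry B (i + 1) j else 0) - (if 1 ≤ j ∧ j < n then entry B i (j - 1) else 0) := by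
  rw [entry, dif_pos ⟨hi, hj⟩, Matrix.sub_apply, Matrix.mul_apply, Matrix.mul_apply]
  congr 1
  · split_ifs with h
    · rw [Finset.sum_eq_single (⟨i + 1, by omega⟩ : Fin (n + 1))]
      · rw [hx, if_pos ⟨rfl, h⟩, one_mul, entry, dif_pos ⟨by omega, hj⟩]
      · intro l _ hl
        rw [hx, if_neg (fun e => hl (Fin.ext e.1)), zero_mul]
      · exact fun e => absurd (Finset.mem_univ _) e
    · refine Finset.sum_eq_zero fun l _ => ?_
      rw [hx, if_neg (fun e => h (by simp only at e; omega)), zero_mul]
  · split_ifs with h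
    · rw [Finset.sum_eq_single (⟨j - 1, by omega⟩ : Fin (n + 1))]
      · rw [hx, if_pos ⟨by simp only; omega, h.2⟩, mul_one, entry, dif_pos ⟨hi, by omega⟩]
      · intro l _ hl
        rw [hx, if_neg (fun e => hl (Fin.ext (by simp only at e ⊢; omega))), mul_zero]
      · exact fun e => absurd (Finset.mem_univ _) e
    · refine Finset.sum_eq_zero fun l _ => ?_
      rw [hx, if_neg (fun e => h (by simp only at e; omega)), mul_zero]

/-- The sum over the `k`-th lower diagonal of the large block. -/
def diagSum (M : Matrix (Fin (n + 1)) (Fin (n + 1)) R) (k : ℕ) : R :=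
  ∑ i ∈ Finset.range (n - k), entry M (i + k) i

theorem diagSum_comm (x B : Matrix (Fin (n + 1)) (Fin (n + 1)) R)
    (hx : ∀ i j : Fin (n + 1), x i j = if j.val = i.val + 1 ∧ j.val < n then 1 else 0) (k : ℕ) :
    diagSum (x * B - B * x) k = 0 := by
  let f : ℕ → R := fun i => if 1 ≤ i ∧ i + k < n then entry B (i + k) (i - 1) else 0
  have h : ∀ i ∈ Finset.range (n - k), entry (x * B - B * x) (i + k) i = f (i + 1) - f i := by
    intro i hi
    rw [Finset.mem_range] at hi
    rw [entry_comm x B hx _ _ (by omega) (by omega)]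
    congr 1
    · simp only [f]
      by_cases h : i + k + 1 < n
      · rw [if_pos h, if_pos ⟨by omega, by omega⟩, Nat.add_sub_cancel]
        congr 1; omega
      · rw [if_neg h, if_neg (by omega)]
    · simp only [f]
      by_cases h : 1 ≤ i ∧ i + k < n
      · rw [if_pos h, if_pos ⟨h.1, by omega⟩]
      · rw [if_neg h, if_neg (by omega)]
  rw [diagSum, Finset.sum_congr rfl h, Finset.sum_range_sub]
  simp only [f]
  rw [if_neg (by omega), if_neg (by omega), sub_zero]

/-- A candidate preimage under `ad x`. -/
def pre (A : Matrix (Fin (n + 1)) (Fin (n + 1)) R) : Matrix (Fin (n + 1)) (Fin (n + 1)) R :=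
  Matrix.of fun i j =>
    if i.val < n ∧ j.val < n then ∑ t ∈ Finset.range (min i.val (j.val + 1)), entry A (i.val - 1 - t) (j.val - t)
    else if i.val < n ∧ 1 ≤ i.val then entry A (i.val - 1) n
    else if i.val = n ∧ j.val + 1 < n then -entry A n (j.val + 1)
    else 0

theorem comm_pre (x A : Matrix (Fin (n + 1)) (Fin (n + 1)) R)
    (hx : ∀ i j : Fin (n + 1), x i j = if j.val = i.val + 1 ∧ j.val < n then 1 else 0) (hn : 1 ≤ n)
    (hs : ∀ k, k < n → diagSum A k = 0) (h1 : entry A (n - 1) n = 0) (h2 : entry A n 0 = 0)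
    (h3 : entry A n n = 0) : x * pre A - pre A * x = A := by
  refine Matrix.ext fun i j => ?_
  rw [← entry_fin (x * pre A - pre A * x) i j, entry_comm x _ hx _ _ i.2 j.2, ← entry_fin A i j]
  obtain ⟨i, hi⟩ := i
  obtain ⟨j, hj⟩ := j
  simp only
  have ep : ∀ a b (ha : a < n + 1) (hb : b < n + 1), entry (pre A) a b =
      if a < n ∧ b < n then ∑ t ∈ Finset.range (min a (b + 1)), entry A (a - 1 - t) (b - t)
      else if a < n ∧ 1 ≤ a then entry A (a - 1) n
      else if a = n ∧ b + 1 < n then -entry A n (b + 1)
      else 0 := fun a b ha hb => by rw [entry, dif_pos ⟨ha, hb⟩]; rfl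
  rcases Nat.lt_or_ge i n with hin | hin
  · rcases Nat.lt_or_ge j n with hjn | hjn
    · by_cases hi1 : i + 1 < n
      · rw [if_pos hi1, ep _ _ (by omega) hj, if_pos ⟨hi1, hjn⟩]
        by_cases hj1 : 1 ≤ j
        · rw [if_pos ⟨hj1, hjn⟩, ep _ _ hi (by omega), if_pos ⟨hin, by omega⟩,
            show min (i + 1) (j + 1) = min i (j - 1 + 1) + 1 by omega, Finset.sum_range_succ']
          rw [sub_eq_iff_eq_add']
          refine congrArg₂ (· + ·) (Finset.sum_congr rfl fun t _ => ?_) (by simp)
          congr 1 <;> omega
        · rw [if_neg (by omega), sub_zero, show min (i + 1) (j + 1) = 1 by omega, Finset.sum_range_one]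
          congr 1
      · rw [if_neg hi1, zero_sub]
        have hS := hs (n - 1 - j) (by omega)
        rw [diagSum, show n - (n - 1 - j) = j + 1 by omega, ← Finset.sum_range_reflect, Finset.sum_range_succ'] at hS
        by_cases hj1 : 1 ≤ j
        · rw [if_pos ⟨hj1, hjn⟩, ep _ _ hi (by omega), if_pos ⟨hin, by omega⟩,
            show min i (j - 1 + 1) = j by omega]
          have e : ∑ t ∈ Finset.range j, entry A (i - 1 - t) (j - 1 - t) =
              ∑ t ∈ Finset.range j, entry A (j + 1 - 1 - (t + 1) + (n - 1 - j)) (j + 1 - 1 - (t + 1)) := by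
            refine Finset.sum_congr rfl fun t ht => ?_
            rw [Finset.mem_range] at ht
            congr 1 <;> omega
          rw [e, neg_eq_iff_add_eq_zero]
          refine Eq.trans ?_ hS
          refine congrArg₂ (· + ·) rfl ?_
          congr 1 <;> omega
        · obtain rfl : j = 0 := by omega
          rw [if_neg (by omega), neg_zero]
          rw [Finset.sum_range_zero, zero_add] at hS
          refine Eq.trans hS.symm ?_
          congr 1; omega
    · obtain rfl : j = n := by omega
      rw [if_neg (show ¬ (1 ≤ j ∧ j < j) by omega), sub_zero]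
      by_cases hi1 : i + 1 < j
      · rw [if_pos hi1, ep _ _ (by omega) hj, if_neg (by omega), if_pos ⟨hi1, by omega⟩, Nat.add_sub_cancel]
      · rw [if_neg hi1, show i = j - 1 by omega, h1]
  · obtain rfl : i = n := by omega
    rw [if_neg (by omega), zero_sub]
    by_cases hj1 : 1 ≤ j ∧ j < i
    · rw [if_pos hj1, ep _ _ hi (by omega), if_neg (by omega), if_neg (by omega), if_pos ⟨rfl, by omega⟩,
        neg_neg]
      congr 1; omega
    · rw [if_neg hj1, neg_zero]
      rcases Nat.lt_or_ge j i with h | h
      · rw [show j = 0 by omega, h2]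
      · rw [show j = i by omega, h3]

/-- Let O be a discrete valuation ring of characteristic zero with residue field of characteristic p,
let 1 ≤ n with n + 1 < p (type A_n with p above the Coxeter number), and let x ∈ sl_{n+1}(O) be the
standard subregular nilpotent element, the matrix with entries x_{i,i+1} = 1 for i + 1 < n and 0
elsewhere (one Jordan block of size n and one of size 1; in the source this is the sum of the root
vectors of the first n − 1 simple roots, completed there to an sl₂-triple). Then the quotient of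
sl_{n+1}(O) by the image of ad_x is a free O-module of rank n + 2. (The source works over a complete
such ring with algebraically closed residue field; completeness and algebraic closedness are not
used for this statement.) -/
theorem result (O : Type u) [CommRing O] [IsDomain O] [IsDiscreteValuationRing O]
    [CharZero O] (p : ℕ) [Fact p.Prime] [CharP (IsLocalRing.ResidueField O) p]
    (n : ℕ) (hn : 1 ≤ n) (hp : n + 1 < p)
    (x : LieAlgebra.SpecialLinear.sl (Fin (n + 1)) O)
    (hx : ∀ i j : Fin (n + 1), (x : Matrix (Fin (n + 1)) (Fin (n + 1)) O) i j =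
      if j.val = i.val + 1 ∧ j.val < n then 1 else 0) :
    Module.Free O (LieAlgebra.SpecialLinear.sl (Fin (n + 1)) O ⧸
        LinearMap.range (LieAlgebra.ad O (LieAlgebra.SpecialLinear.sl (Fin (n + 1)) O) x)) ∧
      Module.finrank O (LieAlgebra.SpecialLinear.sl (Fin (n + 1)) O ⧸
        LinearMap.range (LieAlgebra.ad O (LieAlgebra.SpecialLinear.sl (Fin (n + 1)) O) x)) = n + 2 := by
  classical
  let M := fun A : LieAlgebra.SpecialLinear.sl (Fin (n + 1)) O => (A : Matrix (Fin (n + 1)) (Fin (n + 1)) O)
  have hunit : IsUnit ((n + 1 : ℕ) : O) := by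
    rw [← IsLocalRing.residue_ne_zero_iff_isUnit, map_natCast]
    intro h
    exact absurd (Nat.le_of_dvd (by omega) ((CharP.cast_eq_zero_iff _ p _).1 h)) (by omega)
  have entry_add : ∀ (A B : Matrix (Fin (n + 1)) (Fin (n + 1)) O) i j,
      entry (A + B) i j = entry A i j + entry B i j := fun A B i j => by
    unfold entry; split_ifs with h <;> simp
  have entry_smul : ∀ (c : O) (A : Matrix (Fin (n + 1)) (Fin (n + 1)) O) i j,
      entry (c • A) i j = c * entry A i j := fun c A i j => by
    unfold entry; split_ifs with h <;> simp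
  let φ : LieAlgebra.SpecialLinear.sl (Fin (n + 1)) O →ₗ[O] (Fin n → O) × O × O :=
    { toFun := fun A => (fun k => diagSum (M A) k.val, entry (M A) (n - 1) n, entry (M A) n 0)
      map_add' := fun A B => by
        simp only [show M (A + B) = M A + M B from rfl, diagSum, entry_add, Finset.sum_add_distrib]
        rfl
      map_smul' := fun c A => by
        simp only [show M (c • A) = c • M A from rfl, diagSum, entry_smul, ← Finset.mul_sum, RingHom.id_apply]
        rfl }
  have hφ : LinearMap.range (LieAlgebra.ad O (LieAlgebra.SpecialLinear.sl (Fin (n + 1)) O) x) = LinearMap.ker φ := by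
    refine le_antisymm ?_ fun A hA => ?_
    · rintro _ ⟨B, rfl⟩
      have e : M (LieAlgebra.ad O _ x B) = M x * M B - M B * M x := LieAlgebra.SpecialLinear.sl_bracket _ _ x B
      refine LinearMap.mem_ker.2 (Prod.ext (funext fun k => ?_) (Prod.ext ?_ ?_))
      · change diagSum (M (LieAlgebra.ad O _ x B)) k.val = 0
        rw [e]; exact diagSum_comm _ _ hx _
      · change entry (M (LieAlgebra.ad O _ x B)) (n - 1) n = 0
        rw [e, entry_comm _ _ hx _ _ (by omega) (by omega), if_neg (by omega), if_neg (by omega), sub_zero]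
      · change entry (M (LieAlgebra.ad O _ x B)) n 0 = 0
        rw [e, entry_comm _ _ hx _ _ (by omega) (by omega), if_neg (by omega), if_neg (by omega), sub_zero]
    · obtain ⟨hs, h1, h2⟩ : (fun k : Fin n => diagSum (M A) k.val) = 0 ∧ entry (M A) (n - 1) n = 0 ∧
          entry (M A) n 0 = 0 := ⟨congrArg (·.1) hA, congrArg (·.2.1) hA, congrArg (·.2.2) hA⟩
      have htr : ∑ i : Fin (n + 1), (M A) i i = 0 := A.2
      have h3 : entry (M A) n n = 0 := by
        have h0 := congrFun hs ⟨0, hn⟩
        rw [Fin.sum_univ_eq_sum_range (fun i => entry (M A) i i) (n + 1) |> fun e =>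
          (Finset.sum_congr rfl fun i _ => (entry_fin (M A) i i).symm).trans e, Finset.sum_range_succ] at htr
        simp only [diagSum, Nat.sub_zero, Nat.add_zero, Pi.zero_apply] at h0
        rw [h0, zero_add] at htr
        exact htr
      let B₀ := pre (M A)
      obtain ⟨v, hv⟩ := hunit
      let B : LieAlgebra.SpecialLinear.sl (Fin (n + 1)) O :=
        ⟨B₀ - (↑v⁻¹ * B₀.trace) • 1, by
          change (B₀ - (↑v⁻¹ * B₀.trace) • (1 : Matrix (Fin (n + 1)) (Fin (n + 1)) O)).trace = 0
          rw [Matrix.trace_sub, Matrix.trace_smul, Matrix.trace_one, Fintype.card_fin, ← hv, smul_eq_mul,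
            mul_right_comm, Units.inv_mul, one_mul, sub_self]⟩
      refine ⟨B, Subtype.ext ?_⟩
      refine (LieAlgebra.SpecialLinear.sl_bracket _ _ x B).trans ?_
      change M x * (B₀ - _ • 1) - (B₀ - _ • 1) * M x = M A
      rw [mul_sub, sub_mul, Matrix.mul_smul, Matrix.smul_mul, mul_one, one_mul, sub_sub_sub_cancel_right]
      exact comm_pre _ _ hx hn (fun k hk => congrFun hs ⟨k, hk⟩) h1 h2 h3
  have hsurj : Function.Surjective φ := by
    rintro ⟨s, a, b⟩
    let s' : ℕ → O := fun k => if h : k < n then s ⟨k, h⟩ else 0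
    let A : Matrix (Fin (n + 1)) (Fin (n + 1)) O := Matrix.of fun i j =>
      if i.val = n - 1 ∧ j.val = n then a else if i.val = n ∧ j.val = 0 then b
      else if j.val = 0 then s' i.val else if i.val = n ∧ j.val = n then -s' 0 else 0
    have eA : ∀ i j (hi : i < n + 1) (hj : j < n + 1), entry A i j =
        if i = n - 1 ∧ j = n then a else if i = n ∧ j = 0 then b
        else if j = 0 then s' i else if i = n ∧ j = n then -s' 0 else 0 := fun i j hi hj => by
      rw [entry, dif_pos ⟨hi, hj⟩]; rfl
    have hA : A ∈ LieAlgebra.SpecialLinear.sl (Fin (n + 1)) O := by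
      change ∑ i : Fin (n + 1), A i i = 0
      rw [(Finset.sum_congr rfl fun i _ => (entry_fin A i i).symm).trans
        (Fin.sum_univ_eq_sum_range (fun i => entry A i i) (n + 1)), Finset.sum_range_succ,
        Finset.sum_eq_single 0]
      · rw [eA 0 0 (by omega) (by omega), eA n n (by omega) (by omega), if_neg (by omega), if_neg (by omega),
          if_pos rfl, if_neg (by omega), if_neg (by omega), if_neg (by omega), if_pos ⟨rfl, rfl⟩, add_neg_cancel]
      · intro i hi hi0
        rw [Finset.mem_range] at hi
        rw [eA i i (by omega) (by omega), if_neg (by omega), if_neg (by omega), if_neg hi0, if_neg (by omega)]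
      · exact fun h => absurd (Finset.mem_range.2 hn) h
    refine ⟨⟨A, hA⟩, Prod.ext (funext fun k => ?_) (Prod.ext ?_ ?_)⟩
    · change diagSum A k.val = s k
      rw [diagSum, Finset.sum_eq_single 0]
      · rw [eA _ _ (by omega) (by omega), if_neg (by omega), if_neg (by omega), if_pos rfl]
        simp [s', k.2]
      · intro i hi hi0
        rw [Finset.mem_range] at hi
        rw [eA _ _ (by omega) (by omega), if_neg (by omega), if_neg (by omega), if_neg hi0, if_neg (by omega)]
      · exact fun h => absurd (Finset.mem_range.2 (by omega)) h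
    · change entry A (n - 1) n = a
      rw [eA _ _ (by omega) (by omega), if_pos ⟨rfl, rfl⟩]
    · change entry A n 0 = b
      rw [eA _ _ (by omega) (by omega), if_neg (by omega), if_pos ⟨rfl, rfl⟩]
  let e := (Submodule.quotEquivOfEq _ _ hφ).trans (φ.quotKerEquivOfSurjective hsurj)
  refine ⟨Module.Free.of_equiv e.symm, ?_⟩
  rw [e.finrank_eq, Module.finrank_prod, Module.finrank_prod, Module.finrank_pi, Fintype.card_fin, Module.finrank_self]

end Groth.Agent.S16051
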