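import Groth.Statements.S16052
import Groth.Agent.L01.TameKummer
import Mathlib.Algebra.GCDMonoid.Finset
import Mathlib.RingTheory.Int.Basic

set_option autoImplicit false
universe u
open Polynomial
open CAlg

namespace Groth.Agent.S16052

/-- Let O be a henselian discrete valuation ring of characteristic zero with algebraically closed
residue field of characteristic p, ϖ a uniformizer and K the fraction field. Let r_1, …, r_m ≥ 1 and
b_1, …, b_m ≥ 1 be integers with gcd(r_i, b_i) = 1 for each i and r_1 + ⋯ + r_m < p, and let v_1, …,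
v_m be units of O. Then the splitting field over K of the polynomial ∏_i (y^{r_i} − v_i ϖ^{b_i}) has
degree lcm(r_1, …, r_m) over K. (In the source O is complete and this polynomial is the y-part of a
deformation y ↦ x² + z² + f(y) of an A_n-singularity with n + 1 = Σ r_i; the proposition goes on to
identify the monodromy element, which is not stated here.) -/
theorem result (O : Type u) [CommRing O] [IsDomain O]
    [IsDiscreteValuationRing O] [HenselianLocalRing O] [CharZero O] [IsAlgClosed (IsLocalRing.ResidueField O)]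
    (p : ℕ) [Fact p.Prime] [CharP (IsLocalRing.ResidueField O) p]
    (ϖ : O) (hϖ : Irreducible ϖ) (m : ℕ) (r b : Fin m → ℕ) (v : Fin m → Oˣ)
    (hr : ∀ i, 1 ≤ r i) (hb : ∀ i, 1 ≤ b i) (hrb : ∀ i, Nat.Coprime (r i) (b i)) (hp : ∑ i, r i < p) :
    Module.finrank (FractionRing O)
        (∏ i, (X ^ (r i) - C (algebraMap O (FractionRing O) ((v i : O) * ϖ ^ (b i))))).SplittingField =
      Finset.univ.lcm r := by
  classical
  let K := FractionRing O
  let g : K[X] := ∏ i, (X ^ (r i) - C (algebraMap O K ((v i : O) * ϖ ^ (b i))))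
  let F := g.SplittingField
  let N := Finset.univ.lcm r
  have hN0 : N ≠ 0 := fun h => by
    obtain ⟨i, -, hi⟩ := Finset.lcm_eq_zero_iff.mp h
    have := hr i; omega
  have hrN : ∀ i, r i ∣ N := fun i => Finset.dvd_lcm (Finset.mem_univ i)
  have hpr : ∀ i, ¬ p ∣ r i := fun i h => by
    have h1 : r i ≤ ∑ j, r j := Finset.single_le_sum (fun j _ => Nat.zero_le _) (Finset.mem_univ i)
    have h2 := Nat.le_of_dvd (hr i) h
    omega
  have hpN : ¬ p ∣ N := fun h => by
    have h1 : N ∣ ∏ i, r i := Finset.lcm_dvd fun i _ => Finset.dvd_prod_of_mem r (Finset.mem_univ i)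
    obtain ⟨i, -, hi⟩ := ((Fact.out : p.Prime).prime.dvd_finsetProd_iff r).mp (h.trans h1)
    exact hpr i hi
  have hNk := Groth.L01.TameKummer.natCast_residue_ne_zero O p N hpN
  have hμ := Groth.L01.TameKummer.primitiveRoots_nonempty O N hNk
  have hw : ∀ i, ∃ w : O, w ^ (r i) = (v i : O) := fun i =>
    Groth.L01.TameKummer.exists_pow_eq (r i) (Groth.L01.TameKummer.natCast_residue_ne_zero O p _ (hpr i)) _ (v i).isUnit
  choose w hw using hw
  have hw0 : ∀ i, algebraMap K F (algebraMap O K (w i)) ≠ 0 := fun i => by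
    rw [ne_eq, map_eq_zero, map_eq_zero_iff _ (IsFractionRing.injective O K)]
    intro h
    have := hw i
    rw [h, zero_pow (show r i ≠ 0 by have := hr i; omega)] at this
    exact (v i).isUnit.ne_zero this.symm
  have hgne : ∀ i, (X ^ (r i) - C (algebraMap O K ((v i : O) * ϖ ^ (b i))) : K[X]) ≠ 0 := fun i =>
    X_pow_sub_C_ne_zero (hr i) _
  have hg0 : g ≠ 0 := Finset.prod_ne_zero_iff.mpr fun i _ => hgne i
  let a : F := algebraMap K F (algebraMap O K ϖ)
  have ha0 : a ≠ 0 := by
    rw [ne_eq, map_eq_zero, map_eq_zero_iff _ (IsFractionRing.injective O K)]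
    exact hϖ.ne_zero
  -- roots of the factors give roots of ϖ
  have hroots : ∀ i, ∃ z : F, z ^ (r i) = a := by
    intro i
    have hs : ((X ^ (r i) - C (algebraMap O K ((v i : O) * ϖ ^ (b i))) : K[X]).map (algebraMap K F)).Splits :=
      (SplittingField.splits g).of_dvd ((Polynomial.map_ne_zero_iff (algebraMap K F).injective).mpr hg0)
        (Polynomial.map_dvd _ (Finset.dvd_prod_of_mem _ (Finset.mem_univ i)))
    obtain ⟨y, hy⟩ := hs.exists_eval_eq_zero (by
      rw [degree_map, degree_X_pow_sub_C (hr i)]; exact_mod_cast (show r i ≠ 0 by have := hr i; omega))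
    rw [Polynomial.eval_map_algebraMap, map_sub, map_pow, aeval_X, aeval_C, sub_eq_zero, ← hw i, map_mul, map_mul,
      map_pow, map_pow, map_pow, map_pow] at hy
    let y' : F := y / algebraMap K F (algebraMap O K (w i))
    have hy' : y' ^ (r i) = a ^ (b i) := by
      rw [div_pow, hy, mul_div_cancel_left₀ _ (pow_ne_zero _ (hw0 i))]
    have hy0 : y' ≠ 0 := fun h => by
      rw [h, zero_pow (show r i ≠ 0 by have := hr i; omega)] at hy'
      exact pow_ne_zero _ ha0 hy'.symm
    have hg : ((b i : ℤ) * Nat.gcdA (b i) (r i) + (r i : ℤ) * Nat.gcdB (b i) (r i)) = 1 := by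
      rw [← Nat.gcd_eq_gcd_ab, Nat.coprime_comm.mp (hrb i)]; rfl
    refine ⟨y' ^ Nat.gcdA (b i) (r i) * a ^ Nat.gcdB (b i) (r i), ?_⟩
    have hy'' : y' ^ (r i : ℤ) = a ^ (b i : ℤ) := by simpa using hy'
    rw [← zpow_natCast, mul_zpow, ← zpow_mul, ← zpow_mul, mul_comm (Nat.gcdA (b i) (r i)), zpow_mul, hy'', ← zpow_mul,
      ← zpow_add₀ ha0, mul_comm (Nat.gcdB (b i) (r i)), hg, zpow_one]
  choose z hz using hroots
  have hz0 : ∀ i, z i ≠ 0 := fun i h => by
    have := hz i
    rw [h, zero_pow (show r i ≠ 0 by have := hr i; omega)] at this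
    exact ha0 this.symm
  -- a root of X ^ N - ϖ
  obtain ⟨Z, hZ⟩ : ∃ Z : F, Z ^ N = a := by
    have key : ∀ S : Finset (Fin m), ∃ Z : F, Z ^ (S.lcm r) = a := by
      intro S
      induction S using Finset.induction_on with
      | empty => exact ⟨a, by rw [Finset.lcm_empty, pow_one]⟩
      | @insert i S _ ih =>
        obtain ⟨Z, hZ⟩ := ih
        rw [Finset.lcm_insert]
        set L := S.lcm r
        have hL0 : L ≠ 0 := fun h => ha0 (by
          obtain ⟨j, -, hj⟩ := Finset.lcm_eq_zero_iff.mp h
          have := hr j; omega)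
        have hZ0 : Z ≠ 0 := fun h => by rw [h, zero_pow hL0] at hZ; exact ha0 hZ.symm
        set G := Nat.gcd (r i) L with hG
        have hl : (lcm (r i) L : ℕ) * G = r i * L := by
          rw [hG, mul_comm]; exact Nat.gcd_mul_lcm _ _
        refine ⟨z i ^ Nat.gcdB (r i) L * Z ^ Nat.gcdA (r i) L, ?_⟩
        have hGpos : 0 < G := Nat.gcd_pos_of_pos_left _ (hr i)
        obtain ⟨r', hr'⟩ := Nat.gcd_dvd_left (r i) L
        obtain ⟨L', hL'⟩ := Nat.gcd_dvd_right (r i) L
        have hl' : (lcm (r i) L : ℕ) = r i * L' ∧ (lcm (r i) L : ℕ) = L * r' := by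
          constructor <;> refine Nat.eq_of_mul_eq_mul_right hGpos ?_ <;> rw [hl]
          · conv_lhs => rw [hL', ← hG]
            ring
          · conv_lhs => rw [hr', ← hG]
            ring
        have hbez : (L' : ℤ) * Nat.gcdB (r i) L + (r' : ℤ) * Nat.gcdA (r i) L = 1 := by
          have := Nat.gcd_eq_gcd_ab (r i) L
          have e1 : (r i : ℤ) = (G : ℤ) * r' := by exact_mod_cast hr'
          have e2 : (L : ℤ) = (G : ℤ) * L' := by exact_mod_cast hL'
          rw [← hG, e1, e2] at this
          have hG' : (G : ℤ) ≠ 0 := by exact_mod_cast hGpos.ne'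
          refine mul_left_cancel₀ hG' ?_
          rw [← hG] at *
          linear_combination -this
        have h1 : z i ^ (r i : ℤ) = a := by simpa using hz i
        have h2 : Z ^ (L : ℤ) = a := by simpa using hZ
        rw [← zpow_natCast, mul_zpow, ← zpow_mul, ← zpow_mul]
        rw [show Nat.gcdB (r i) L * ((lcm (r i) L : ℕ) : ℤ) = (r i : ℤ) * ((L' : ℤ) * Nat.gcdB (r i) L) by
            rw [hl'.1]; push_cast; ring,
          show Nat.gcdA (r i) L * ((lcm (r i) L : ℕ) : ℤ) = (L : ℤ) * ((r' : ℤ) * Nat.gcdA (r i) L) by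
            rw [hl'.2]; push_cast; ring,
          zpow_mul, zpow_mul Z (L : ℤ), h1, h2, ← zpow_add₀ ha0, hbez, zpow_one]
    exact key Finset.univ
  have hZ0 : Z ≠ 0 := fun h => by rw [h, zero_pow hN0] at hZ; exact ha0 hZ.symm
  have htop : IntermediateField.adjoin K {Z} = ⊤ := by
    refine eq_top_iff.mpr ?_
    rw [← (isSplittingField_iff_intermediateField.mp (inferInstance : Polynomial.IsSplittingField K F g)).2, IntermediateField.adjoin_le_iff]
    intro y hy
    have h0 := (Polynomial.mem_rootSet.mp hy).2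
    rw [map_prod, Finset.prod_eq_zero_iff] at h0
    obtain ⟨i, -, h0⟩ := h0
    rw [map_sub, map_pow, aeval_X, aeval_C, sub_eq_zero, ← hw i, map_mul, map_mul,
      map_pow, map_pow, map_pow, map_pow] at h0
    obtain ⟨q, hq⟩ := hrN i
    have hpow : (y / algebraMap K F (algebraMap O K (w i))) ^ N = (Z ^ (q * b i)) ^ N := by
      have e1 : (Z ^ (q * b i)) ^ N = a ^ (q * b i) := by rw [← pow_mul, mul_comm, pow_mul, hZ]
      rw [e1, hq, pow_mul, div_pow, h0, mul_div_cancel_left₀ _ (pow_ne_zero _ (hw0 i)), ← pow_mul, mul_comm (b i) q]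
    have hmem : y / algebraMap K F (algebraMap O K (w i)) ∈ IntermediateField.adjoin K {Z} := by
      refine IntermediateField.adjoin_simple_le_iff.mpr ?_
        (Groth.L01.TameKummer.mem_adjoin_of_pow_eq O (Nat.pos_of_ne_zero hN0) hμ (Z ^ (q * b i)) _ (pow_ne_zero _ hZ0) hpow)
      exact pow_mem (IntermediateField.mem_adjoin_simple_self K Z) _
    have := mul_mem hmem ((IntermediateField.adjoin K {Z}).algebraMap_mem (algebraMap O K (w i)))
    rwa [div_mul_cancel₀ _ (hw0 i)] at this
  show Module.finrank K F = N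
  rw [← IntermediateField.finrank_top', ← htop]
  exact Groth.L01.TameKummer.finrank_adjoin O hϖ (Nat.pos_of_ne_zero hN0) Z hZ

end Groth.Agent.S16052
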