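import Groth.Statements.S16053
import Groth.Agent.L01.TameKummer

set_option autoImplicit false
universe u
open Polynomial
open CAlg

namespace Groth.Agent.S16053

/-- Let O be a henselian discrete valuation ring of characteristic zero with algebraically closed
residue field of characteristic p and fraction field K, and let f ∈ O[y] be a monic polynomial of
degree e with 1 ≤ e < p which is Eisenstein at the maximal ideal of O. Then the splitting field of f
over K has degree e over K and the Galois group of f over K is cyclic. (In the source O is complete,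
e = n + 1 and f is the y-part y^{n+1} + u_n ϖ^{a_n} y^{n−1} + ⋯ + u_1 ϖ of an A_n-degeneration
meeting the discriminant transversally; the corollary's conclusion that monodromy acts through a
Coxeter element is not stated here.) -/
theorem result (O : Type u) [CommRing O] [IsDomain O]
    [IsDiscreteValuationRing O] [HenselianLocalRing O] [CharZero O] [IsAlgClosed (IsLocalRing.ResidueField O)]
    (p : ℕ) [Fact p.Prime] [CharP (IsLocalRing.ResidueField O) p]
    (f : O[X]) (hmon : f.Monic) (e : ℕ) (hdeg : f.natDegree = e) (he : 1 ≤ e) (hep : e < p)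
    (hf : f.IsEisensteinAt (IsLocalRing.maximalIdeal O)) :
    Module.finrank (FractionRing O) (f.map (algebraMap O (FractionRing O))).SplittingField = e ∧
      IsCyclic (f.map (algebraMap O (FractionRing O))).Gal := by
  classical
  let K := FractionRing O
  let g := f.map (algebraMap O K)
  let F := g.SplittingField
  have hek : (e : IsLocalRing.ResidueField O) ≠ 0 :=
    Groth.L01.TameKummer.natCast_residue_ne_zero O p e (Nat.not_dvd_of_pos_of_lt he hep)
  have hμ := Groth.L01.TameKummer.primitiveRoots_nonempty O e hek
  have hgd : g.natDegree = e := by rw [← hdeg]; exact hmon.natDegree_map _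
  have hgm : g.Monic := hmon.map _
  have hroot : ∀ β ∈ g.rootSet F, Polynomial.aeval β g = 0 := fun β hβ => (Polynomial.mem_rootSet.mp hβ).2
  obtain ⟨β₀, hβ₀⟩ : (g.rootSet F).Nonempty := by
    obtain ⟨β, hβ⟩ := (Polynomial.SplittingField.splits g).exists_eval_eq_zero (by
      rw [Polynomial.degree_map, Polynomial.degree_eq_natDegree hgm.ne_zero, hgd]
      exact_mod_cast (show e ≠ 0 by omega))
    refine ⟨β, Polynomial.mem_rootSet.mpr ⟨hgm.ne_zero, ?_⟩⟩
    rwa [Polynomial.eval_map_algebraMap] at hβ
  obtain ⟨ha0, z, hz, hzad⟩ := Groth.L01.TameKummer.exists_pow_eq_of_root O hmon hdeg he hf hek β₀ (hroot β₀ hβ₀)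
  have hz0 : z ≠ 0 := by
    rintro rfl
    rw [zero_pow (show e ≠ 0 by omega), eq_comm, map_eq_zero, map_eq_zero_iff _ (IsFractionRing.injective O K)] at hz
    exact ha0.ne_zero hz
  have htop : IntermediateField.adjoin K {z} = ⊤ := by
    refine eq_top_iff.mpr ?_
    rw [← (isSplittingField_iff_intermediateField.mp (inferInstance : Polynomial.IsSplittingField K F g)).2, IntermediateField.adjoin_le_iff]
    intro β hβ
    obtain ⟨-, y, hy, hyad⟩ := Groth.L01.TameKummer.exists_pow_eq_of_root O hmon hdeg he hf hek β (hroot β hβ)
    have h1 : IntermediateField.adjoin K {y} ≤ IntermediateField.adjoin K {z} := by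
      rw [IntermediateField.adjoin_simple_le_iff]
      exact Groth.L01.TameKummer.mem_adjoin_of_pow_eq O he hμ z y hz0 (hy.trans hz.symm)
    exact h1 (hyad ▸ IntermediateField.mem_adjoin_simple_self K β)
  have hfin : Module.finrank K F = e := by
    rw [← IntermediateField.finrank_top', ← htop]
    exact Groth.L01.TameKummer.finrank_adjoin O ha0 he z hz
  refine ⟨hfin, ?_⟩
  haveI : Polynomial.IsSplittingField K F (Polynomial.X ^ e - Polynomial.C (algebraMap O K (f.coeff 0))) := by
    subst hfin
    exact isSplittingField_X_pow_sub_C_of_root_adjoin_eq_top hμ hz htop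
  haveI : NeZero e := ⟨by omega⟩
  exact isCyclic_of_isSplittingField_X_pow_sub_C hμ (Groth.L01.TameKummer.X_pow_sub_irreducible O ha0 he) F

end Groth.Agent.S16053
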