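import Groth.Statements.S16057
import Groth.Agent.L04.Graded.ReesSerre
import Groth.Agent.L04.Graded.SerreShift
import Mathlib.RingTheory.Ideal.KrullsHeightTheorem


set_option autoImplicit false
set_option maxHeartbeats 1600000
universe u
open GrLC

namespace Groth.Agent.S16057

open DirectSum Groth.L12.GrLCLib Groth.L12.GrLCLib.Asub Groth.L04.Graded Groth.L04.Graded.ReesS Polynomial

section

variable {A : Type u} [CommRing A] [IsNoetherianRing A] [IsLocalRing A] (I : Ideal A)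
  (hI : I.radical = IsLocalRing.maximalIdeal A) (M : Type u) [AddCommGroup M] [Module A M] [Module.Finite A M]

include hI in
theorem fl_quot (n : ℕ) : IsFiniteLength A (M ⧸ (I ^ n • (⊤ : Submodule A M))) := by
  rcases n with _ | n
  · haveI : Subsingleton (M ⧸ (I ^ 0 • (⊤ : Submodule A M))) := by
      rw [pow_zero, Submodule.one_smul]
      infer_instance
    exact IsFiniteLength.of_subsingleton
  haveI : IsArtinianRing (A ⧸ I ^ (n + 1)) := by
    refine IsLocalRing.quotient_artinian_of_mem_minimalPrimes_of_isLocalRing (I ^ (n + 1)) ⟨⟨inferInstance, ?_⟩, fun q hq _ => ?_⟩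
    · exact (Ideal.pow_le_self n.succ_ne_zero).trans (hI ▸ Ideal.le_radical)
    · rw [← hI, hq.1.radical_le_iff]
      exact hq.1.le_of_pow_le hq.2
  haveI : IsArtinian A (A ⧸ I ^ (n + 1)) :=
    isArtinian_of_surjective_algebraMap (R := A ⧸ I ^ (n + 1)) Ideal.Quotient.mk_surjective
  obtain ⟨k, y, hy⟩ := Submodule.fg_iff_exists_fin_generating_family.1
    (IsNoetherian.noetherian (⊤ : Submodule A (M ⧸ (I ^ (n + 1) • (⊤ : Submodule A M)))))
  have hk : ∀ (l : Fin k), ∀ c ∈ I ^ (n + 1), c • y l = 0 := fun l c hc => by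
    obtain ⟨m, hm⟩ := Submodule.Quotient.mk_surjective _ (y l)
    rw [← hm, ← Submodule.Quotient.mk_smul, Submodule.Quotient.mk_eq_zero]
    exact Submodule.smul_mem_smul hc Submodule.mem_top
  let L : (Fin k → A ⧸ I ^ (n + 1)) →ₗ[A] M ⧸ (I ^ (n + 1) • (⊤ : Submodule A M)) :=
    ∑ l, (Submodule.liftQ (I ^ (n + 1)) (LinearMap.toSpanSingleton _ _ (y l))
      (fun c hc => LinearMap.mem_ker.2 (hk l c hc))) ∘ₗ LinearMap.proj l
  haveI : IsArtinian A (M ⧸ (I ^ (n + 1) • (⊤ : Submodule A M))) := isArtinian_of_surjective _ L fun z => by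
    obtain ⟨r, hr⟩ := (Submodule.mem_span_range_iff_exists_fun _).1 (hy ▸ Submodule.mem_top (x := z))
    exact ⟨fun l => Submodule.Quotient.mk (r l), (LinearMap.sum_apply _ _ _).trans hr⟩
  exact isFiniteLength_iff_isNoetherian_isArtinian.2 ⟨inferInstance, inferInstance⟩

include hI in
theorem gr_piece (n : ℕ) :
    IsFiniteLength (GrLC.deg0 (𝒮 I)) (GrLC.comp (𝒮 I) (GG I M).gr n) ∧
    len (GrLC.deg0 (𝒮 I)) (GrLC.comp (𝒮 I) (GG I M).gr n) =
      len A (M ⧸ (I ^ (n + 1) • (⊤ : Submodule A M))) - len A (M ⧸ (I ^ n • (⊤ : Submodule A M))) := by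
  let π : (M ⧸ (I ^ (n + 1) • (⊤ : Submodule A M))) →ₗ[A] M ⧸ (I ^ n • (⊤ : Submodule A M)) :=
    Submodule.factor (filt_mono n)
  have hπ : Function.Surjective π := Submodule.factor_surjective (filt_mono n)
  let ι₀ : (I ^ n • ⊤ : Submodule A M) →ₗ[A] LinearMap.ker π :=
    LinearMap.codRestrict _ ((I ^ (n + 1) • (⊤ : Submodule A M)).mkQ ∘ₗ (I ^ n • (⊤ : Submodule A M)).subtype) fun v =>
      LinearMap.mem_ker.2 ((Submodule.Quotient.mk_eq_zero _).2 v.2)
  have hιs : Function.Surjective ι₀ := fun z => by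
    obtain ⟨m, hm⟩ := Submodule.Quotient.mk_surjective _ z.1
    have h0 : π z.1 = 0 := z.2
    rw [← hm] at h0
    exact ⟨⟨m, (Submodule.Quotient.mk_eq_zero _).1 h0⟩, Subtype.ext hm⟩
  have hιk : ∀ v, ι₀ v = 0 ↔ theta n v = 0 := fun v => by
    rw [theta_eq_zero_iff, Subtype.ext_iff]
    exact Submodule.Quotient.mk_eq_zero _
  let s : LinearMap.ker π → (I ^ n • ⊤ : Submodule A M) := fun z => (hιs z).choose
  have hs : ∀ z, ι₀ (s z) = z := fun z => (hιs z).choose_spec
  have hwd : ∀ v w, ι₀ v = ι₀ w → theta n v = theta n w := fun v w e => by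
    rw [← sub_eq_zero, ← map_sub, ← hιk, map_sub, e, sub_self]
  let ψ : LinearMap.ker π →ₛₗ[toDeg0 I] GrLC.comp (𝒮 I) (GG I M).gr n :=
    { toFun := fun z => theta n (s z)
      map_add' := fun z w => (hwd _ (s z + s w) (by rw [map_add, hs, hs, hs])).trans (map_add _ _ _)
      map_smul' := fun c z => (hwd _ (c • s z) (by rw [map_smul, hs, hs])).trans (map_smulₛₗ _ _ _) }
  have hψ : Function.Bijective ψ := by
    refine ⟨(injective_iff_map_eq_zero ψ).2 fun z hz => ?_, fun y => ?_⟩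
    · rw [← hs z]
      exact (hιk _).2 hz
    · obtain ⟨v, rfl⟩ := theta_surjective n y
      exact ⟨ι₀ v, hwd _ _ (hs _)⟩
  have hfl := fl_quot I hI M (n + 1)
  refine ⟨fl_of_semilinear ψ hψ (fl_ker hfl), ?_⟩
  have h1 := lenF_ker_add_range hfl π
  have h2 : len A (LinearMap.range π) = len A (M ⧸ (I ^ n • (⊤ : Submodule A M))) := by
    rw [len, len, (LinearEquiv.ofTop _ (LinearMap.range_eq_top.2 hπ)).length_eq]
  have h3 : len (GrLC.deg0 (𝒮 I)) (GrLC.comp (𝒮 I) (GG I M).gr n) = len A (LinearMap.ker π) := by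
    rw [len, len, length_eq_of_semilinear ψ hψ]
  linarith

/-- The identification of the degree zero subrings of the two gradings. -/
noncomputable def idDeg0 : GrLC.deg0 (Rees.degZ (reesAlgebra I)) →+* GrLC.deg0 (𝒮 I) :=
  (GrLC.deg0 (Rees.degZ (reesAlgebra I))).subtype.codRestrict (GrLC.deg0 (𝒮 I)) fun r => r.2

instance : RingHomSurjective (idDeg0 I) := ⟨fun r => ⟨⟨r.1, r.2⟩, rfl⟩⟩

end


/-- Let A be a Noetherian local ring with maximal ideal m, and I an ideal of A whose radical is m (an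
m-primary ideal), and M a finitely generated A-module; let R(I) = ⊕_{n ≥ 0} Iⁿ Xⁿ ⊆ A[X] be the Rees
algebra, graded by the powers of X, with irrelevant ideal R(I)_+ = ⊕_{n ≥ 1} Iⁿ Xⁿ, and M* = ⊕_{n ≥
0} IⁿM Xⁿ the Rees module of M, a graded R(I)-module; let P ∈ ℚ[t] be the Hilbert–Samuel polynomial
of M with respect to I, that is, P(n) = ℓ_A(M/IⁿM) for all sufficiently large n. Then for every
integer n ≥ 0, writing H^i_{R(I)_+}(M*)_n for the degree-n homogeneous piece of the i-th graded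
local cohomology module of M* with support in R(I)_+ (computed from any *injective resolution of M*
in the category of graded R(I)-modules), a module over R(I)_0 = A: each H^i_{R(I)_+}(M*)_n has
finite length, only finitely many of them are nonzero, and P(n) − ℓ_A(M/IⁿM) = Σ_{i ≥ 0} (−1)^i
ℓ(H^i_{R(I)_+}(M*)_n). -/
theorem result (A : Type u) [CommRing A]
    [IsNoetherianRing A] [IsLocalRing A] (I : Ideal A) (hI : I.radical = IsLocalRing.maximalIdeal A)
    (M : Type u) [AddCommGroup M] [Module A M] [Module.Finite A M] (P : Polynomial ℚ)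
    (hP : ∃ N : ℕ, ∀ n : ℕ, N ≤ n →
      P.eval (n : ℚ) = ((Module.length A (M ⧸ (I ^ n • (⊤ : Submodule A M)))).toNat : ℚ))
    (E : GrLC.StarInjRes (Rees.degZ (reesAlgebra I)) (Rees.mdegZ (Rees.powFilt I M))) (n : ℕ) :
    (∀ i : ℕ, IsFiniteLength (GrLC.deg0 (Rees.degZ (reesAlgebra I))) (E.Hcomp (GrSyz.irrel (Rees.degZ (reesAlgebra I))) i (n : ℤ))) ∧
      Set.Finite {i : ℕ | E.Hcomp (GrSyz.irrel (Rees.degZ (reesAlgebra I))) i (n : ℤ) ≠ ⊥} ∧
      P.eval (n : ℚ) - ((Module.length A (M ⧸ (I ^ n • (⊤ : Submodule A M)))).toNat : ℚ) =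
        finsum (fun i : ℕ => (-1 : ℚ) ^ i *
          ((Module.length (GrLC.deg0 (Rees.degZ (reesAlgebra I))) (E.Hcomp (GrSyz.irrel (Rees.degZ (reesAlgebra I))) i (n : ℤ))).toNat : ℚ)) := by
  let a : HomogeneousIdeal (𝒮 I) := hid (GrSyz.irrel (Rees.degZ (reesAlgebra I)))
  have ha : a.toIdeal = Ideal.span (⋃ g ∈ Set.Ioi (0 : ℤ), (𝒮 I g : Set (reesAlgebra I))) := by
    refine congrArg Ideal.span (Set.ext fun r => ?_)
    simp only [Set.mem_iUnion, Set.mem_Ioi, SetLike.mem_coe]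
    exact ⟨fun ⟨g, hg, hr⟩ => ⟨g, hg, hr⟩, fun ⟨g, hg, hr⟩ => ⟨g, hg, hr⟩⟩
  obtain ⟨D, hD⟩ := exists_van_above_gens a
  haveI := finite_MS (I := I) (M := M)
  haveI : Module.Finite (reesAlgebra I) (PG I M).carrier :=
    inferInstanceAs (Module.Finite (reesAlgebra I) (posSub (I := I) (M := M)))
  haveI hGfin : Module.Finite (reesAlgebra I) (GG I M).carrier :=
    inferInstanceAs (Module.Finite (reesAlgebra I) (_ ⧸ succSub (I := I) (M := M)))
  let E0 : GrLC.StarInjRes (𝒮 I) (MS I M).gr := (Asub.res E :)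
  obtain ⟨N, hN⟩ := hP
  have flG : ∀ g, IsFiniteLength (GrLC.deg0 (𝒮 I)) (GrLC.comp (𝒮 I) (GG I M).gr g) := fun g => by
    rcases lt_or_ge g 0 with hg | hg
    · haveI := subsingleton_GG_neg (M := M) (I := I) hg
      exact IsFiniteLength.of_subsingleton
    · obtain ⟨j, rfl⟩ := Int.eq_ofNat_of_zero_le hg
      exact (gr_piece I hI M j).1
  obtain ⟨hfl, heq⟩ := serre_shift a ha hD (MM := MS I M) (PM := PG I M) (ZM := ZG I M) (SM := SG I M) (GM := GG I M)
    inferInstance (posSub (I := I) (M := M)).subtype (posSub (I := I) (M := M)).mkQ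
    (Submodule.injective_subtype _) (Submodule.mkQ_surjective _)
    ((Submodule.range_subtype _).trans (Submodule.ker_mkQ _).symm) (fun g x hx => hx) (fun g x hx => ⟨x, hx, rfl⟩)
    (gam_ZG ha) (fun g hg z hz => ZG_piece_eq_zero hg hz) mulX mulX_bijective mulX_grHom
    (succSub (I := I) (M := M)).subtype (succSub (I := I) (M := M)).mkQ
    (Submodule.injective_subtype _) (Submodule.mkQ_surjective _)
    ((Submodule.range_subtype _).trans (Submodule.ker_mkQ _).symm) (fun g x hx => hx) (fun g x hx => ⟨x, hx, rfl⟩)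
    hGfin flG (fun j => len A (M ⧸ (I ^ j • (⊤ : Submodule A M)))) (fun j => (gr_piece I hI M j).2) P N hN E0 n
  -- back to the given grading
  let ρ : ∀ i, E.Hcomp (GrSyz.irrel (Rees.degZ (reesAlgebra I))) i (n : ℤ) →ₛₗ[idDeg0 I] E0.Hcomp a i (n : ℤ) :=
    fun i =>
      { toFun := fun x => ⟨x.1, x.2⟩
        map_add' := fun _ _ => rfl
        map_smul' := fun _ _ => rfl }
  have hρ : ∀ i, Function.Bijective (ρ i) := fun i =>
    ⟨fun x y hxy => Subtype.ext (congrArg (fun z => z.1) hxy :), fun y => ⟨⟨y.1, y.2⟩, rfl⟩⟩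
  have hzero : ∀ i, D < i → Subsingleton (E.Hcomp (GrSyz.irrel (Rees.degZ (reesAlgebra I))) i (n : ℤ)) := fun i hi => by
    haveI : Subsingleton (E0.Hcomp a i (n : ℤ)) := subsingleton_of_forall_eq 0 fun x => Subtype.ext
      ((AddSubgroup.mem_bot).1 ((hD _ _ i _ hi E0 :) ▸ (x.2 : x.1 ∈ E0.Hgr a i (n : ℤ))))
    exact (hρ i).1.subsingleton
  refine ⟨fun i => fl_of_semilinear' (ρ i) (hρ i) (hfl i), (Set.finite_Iic D).subset fun i hi => ?_, ?_⟩
  · by_contra hle
    haveI := hzero i (not_le.1 hle)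
    exact hi (Submodule.eq_bot_of_subsingleton)
  · rw [finsum_eq_sum_of_support_subset _ (s := Finset.range (D + 1)) fun i hi => ?_]
    · have hsum : ∑ i ∈ Finset.range (D + 1), (-1 : ℚ) ^ i * len (GrLC.deg0 (𝒮 I)) (E0.Hcomp a i (n : ℤ)) =
          ∑ i ∈ Finset.range (D + 1), (-1 : ℚ) ^ i *
          ((Module.length (GrLC.deg0 (Rees.degZ (reesAlgebra I)))
            (E.Hcomp (GrSyz.irrel (Rees.degZ (reesAlgebra I))) i (n : ℤ))).toNat : ℚ) :=
        Finset.sum_congr rfl fun i _ => congrArg (fun k : ℕ∞ => (-1 : ℚ) ^ i * (k.toNat : ℚ)) (length_eq_of_semilinear (ρ i) (hρ i)).symm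
      rw [← hsum]
      exact heq
    · rw [Finset.coe_range, Set.mem_Iio]
      by_contra hle
      haveI := hzero i (by omega)
      exact hi (by simp [Module.length_eq_zero])

end Groth.Agent.S16057
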