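import Groth.Statements.S16058
import Groth.Agent.L14.FiltS2.Main

set_option autoImplicit false
universe u
open FiltBl

namespace Groth.Agent.S16058

/-- Let A be a Noetherian local ring that is a quotient of a Gorenstein ring, and F a filtration of
ideals on A (F^0 = A ⊇ F^1 ⊇ ⋯, F^i F^j ⊆ F^{i+j}) with every F^n nonzero and ⋂ F^n = 0, whose Rees
algebra R = ⊕_{n ≥ 0} F^n T^n ⊆ A[T] is finitely generated over A and with F^1 of height at least 2.
If the extended Rees algebra R' = ⊕_{n ∈ ℤ} F^n T^n ⊆ A[T, T⁻¹] (F^n = A for n < 0) satisfies
Serre's condition (S_2), then R satisfies (S_2) as well. (The converse fails. The published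
statement is made under the further standing assumption that no nonzero element of R is annihilated
by a power of the ideal generated by its homogeneous elements of positive degree; under the present
hypothesis that assumption holds automatically, since (S_2) for R' forces (S_2) for A, so that F^1,
of height at least 2, contains a nonzerodivisor of A.) -/
theorem result (A : Type u) [CommRing A] [IsNoetherianRing A] [IsLocalRing A]
    (S : Type u) [CommRing S] [LocCoh.IsGorensteinRing S] (π : S →+* A) (hπ : Function.Surjective π)
    (𝓕 : FiltBl.IdealFiltration A) (hne : ∀ n, 𝓕.F n ≠ ⊥) (hsep : ⨅ n, 𝓕.F n = ⊥)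
    (hfg : Algebra.FiniteType A 𝓕.rees) (hht : 2 ≤ (𝓕.F 1).height)
    (h : LocCoh.HasSk 2 𝓕.extRees 𝓕.extRees) : LocCoh.HasSk 2 𝓕.rees 𝓕.rees := by
  exact Groth.L14.FiltS2.hasS2_rees 𝓕 hfg hht h

end Groth.Agent.S16058
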