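
import Groth.Statements.S1607
import Groth.Agent.L22.LocalDim

set_option autoImplicit false
universe u
open CategoryTheory CategoryTheory.Limits AlgebraicGeometry
open Variety

namespace Groth.Agent.S1607

theorem exists_spread {A : Type u} [CommRing A] (p : Ideal A) [p.IsPrime] (L : Type u) [CommRing L]
    [Algebra A L] [IsLocalization.AtPrime L p] [IsNoetherianRing L] [IsLocalRing L]
    (hdim : ringKrullDim L ≤ 1) (T : Finset A) (hTp : ∀ a ∈ T, a ∈ p) :
    ∃ f g : A, g ∉ p ∧ ∀ q : Ideal A, q.IsPrime → g ∉ q → ((∀ a ∈ T, a ∈ q) ↔ f ∈ q) := by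
  classical
  let J : Ideal L := (Ideal.span (T : Set A)).map (algebraMap A L)
  have hJm : J ≤ IsLocalRing.maximalIdeal L := by
    refine Ideal.map_le_iff_le_comap.2 ?_
    rw [← Ideal.under_def, IsLocalization.AtPrime.under_maximalIdeal L p, Ideal.span_le]
    exact hTp
  have hfin : {P ∈ minimalPrimes L | ¬ J ≤ P}.Finite :=
    (minimalPrimes.finite_of_isNoetherianRing L).subset fun P hP => hP.1
  obtain ⟨f', hf'J, hf'⟩ : ∃ f' ∈ J, ∀ P ∈ minimalPrimes L, f' ∈ P → J ≤ P := by
    by_contra hcon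
    push Not at hcon
    have hsub : (J : Set L) ⊆ ⋃ P ∈ (hfin.toFinset : Set (Ideal L)), ((id P : Ideal L) : Set L) :=
      fun z hz => by
        obtain ⟨P, hP, hzP, hnot⟩ := hcon z hz
        exact Set.mem_biUnion (hfin.mem_toFinset.2 ⟨hP, hnot⟩) hzP
    obtain ⟨P, hP, hJP⟩ := (Ideal.subset_union_prime ⊥ ⊥
      (fun P hP _ _ => (hfin.mem_toFinset.1 hP).1.1.1)).1 hsub
    exact (hfin.mem_toFinset.1 hP).2 hJP
  obtain ⟨⟨⟨i, hi⟩, s⟩, his⟩ := (IsLocalization.mem_map_algebraMap_iff p.primeCompl L).1 hf'J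
  have hrad : ∀ a ∈ T, ∃ u : A, u ∉ p ∧ ∃ n : ℕ, u * a ^ n ∈ Ideal.span {i} := by
    intro a ha
    have hmem : algebraMap A L a ∈ (Ideal.span {algebraMap A L i}).radical := by
      rw [Ideal.radical_eq_sInf, Submodule.mem_sInf]
      rintro P ⟨hle, hP⟩
      have hf'P : f' ∈ P := by
        have h := hle (Ideal.mem_span_singleton_self (algebraMap A L i))
        rw [← his] at h
        exact (hP.mem_or_mem h).resolve_right fun hs =>
          hP.ne_top (Ideal.eq_top_of_isUnit_mem P hs (IsLocalization.map_units L s))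
      have haJ : algebraMap A L a ∈ J := Ideal.mem_map_of_mem _ (Ideal.subset_span ha)
      obtain ⟨Q, hQ, hQP⟩ := Ideal.exists_minimalPrimes_le (bot_le : (⊥ : Ideal L) ≤ P)
      rcases eq_or_lt_of_le hQP with rfl | hlt
      · exact hf' _ hQ hf'P haJ
      · haveI := hQ.1.1
        rw [Groth.L22.Punctured.eq_maximal_of_dim_le_one hdim hlt]
        exact hJm haJ
    obtain ⟨n, hn⟩ := hmem
    obtain ⟨z, hz⟩ := Ideal.mem_span_singleton'.1 hn
    obtain ⟨⟨c, t⟩, rfl⟩ := IsLocalization.mk'_surjective p.primeCompl z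
    rw [← map_pow] at hz
    have hz' : algebraMap A L (c * i) = algebraMap A L (t * a ^ n) := by
      rw [map_mul, map_mul, ← hz, ← IsLocalization.mk'_spec' L c t]
      ring
    obtain ⟨v, hv⟩ := (IsLocalization.eq_iff_exists p.primeCompl L).1 hz'
    refine ⟨v * t, p.primeCompl.mul_mem v.2 t.2, n, Ideal.mem_span_singleton'.2 ⟨v * c, ?_⟩⟩
    rw [mul_assoc, hv, mul_assoc]
  choose! u hu n hn using hrad
  refine ⟨i, ∏ a ∈ T, u a, ?_, fun q hq hg => ⟨fun h => (Ideal.span_le.2 h) hi, fun hiq a ha => ?_⟩⟩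
  · intro h
    obtain ⟨a, ha, hua⟩ := Ideal.IsPrime.prod_mem_iff.1 h
    exact hu a ha hua
  · have h1 : u a * a ^ n a ∈ q := (Ideal.span_singleton_le_iff_mem q).2 hiq (hn a ha)
    refine hq.mem_of_pow_mem (n a) ((hq.mem_or_mem h1).resolve_left fun h => ?_)
    exact hg (Ideal.prod_mem q ha h)


/-- If X is affine and each of its local rings is Noetherian of dimension at most one, then every
quasi-compact open subscheme of X is affine. -/
theorem result (X : Scheme.{u}) [IsAffine X]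
    (hX : ∀ x : X, IsNoetherianRing (X.presheaf.stalk x) ∧ ringKrullDim (X.presheaf.stalk x) ≤ 1)
    (U : X.Opens) (hU : IsCompact (U : Set X)) : IsAffineOpen U := by
  classical
  have hT : IsAffineOpen (⊤ : X.Opens) := isAffineOpen_top X
  obtain ⟨T, hfin, hUeq⟩ := isCompact_and_isOpen_iff_finite_and_eq_biUnion_basicOpen.1 ⟨hU, U.isOpen⟩
  have hmemU : ∀ z : X, z ∈ U ↔ ∃ a ∈ T,
      a ∉ (hT.primeIdealOf ⟨z, trivial⟩).asIdeal := by
    intro z
    rw [← SetLike.mem_coe, hUeq]
    simp only [Set.mem_iUnion, SetLike.mem_coe, exists_prop]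
    exact exists_congr fun a => and_congr_right fun _ =>
      Groth.L22.LocalDim.mem_basicOpen_iff hT trivial a
  have key : ∀ z : X, ∃ g : Γ(X, (⊤ : X.Opens)), z ∈ X.basicOpen g ∧
      IsAffineOpen (U ⊓ X.basicOpen g) := by
    intro z
    by_cases hzU : z ∈ U
    · obtain ⟨g, hgU, hzg⟩ := hT.exists_basicOpen_le ⟨z, hzU⟩ trivial
      exact ⟨g, hzg, by rw [inf_eq_right.2 hgU]; exact hT.basicOpen g⟩
    · letI : Algebra Γ(X, (⊤ : X.Opens)) (X.presheaf.stalk z) :=
        TopCat.Presheaf.algebra_section_stalk X.presheaf (U := (⊤ : X.Opens)) ⟨z, trivial⟩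
      haveI : IsLocalization.AtPrime (X.presheaf.stalk z)
          (hT.primeIdealOf ⟨z, trivial⟩).asIdeal := hT.isLocalization_stalk ⟨z, trivial⟩
      haveI := (hX z).1
      obtain ⟨f, g, hg, hfg⟩ := exists_spread (hT.primeIdealOf ⟨z, trivial⟩).asIdeal
        (X.presheaf.stalk z) (hX z).2 hfin.toFinset fun a ha => by
          by_contra hnot
          exact hzU ((hmemU z).2 ⟨a, hfin.mem_toFinset.1 ha, hnot⟩)
      refine ⟨g, (Groth.L22.LocalDim.mem_basicOpen_iff hT trivial g).2 hg, ?_⟩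
      suffices e : U ⊓ X.basicOpen g = X.basicOpen (f * g) by rw [e]; exact hT.basicOpen _
      refine TopologicalSpace.Opens.ext (Set.ext fun w => ?_)
      rw [Scheme.basicOpen_mul]
      change w ∈ U ∧ w ∈ X.basicOpen g ↔ w ∈ X.basicOpen f ∧ w ∈ X.basicOpen g
      refine and_congr_left fun hwg => ?_
      have h := hfg (hT.primeIdealOf ⟨w, trivial⟩).asIdeal (hT.primeIdealOf ⟨w, trivial⟩).2
        ((Groth.L22.LocalDim.mem_basicOpen_iff hT trivial g).1 hwg)
      rw [hmemU, Groth.L22.LocalDim.mem_basicOpen_iff hT trivial f, ← not_congr h]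
      simp only [hfin.mem_toFinset, not_forall, exists_prop]
  choose g hg hgU using key
  refine isAffineOpen_of_isAffineOpen_basicOpen U
    (X.presheaf.map (homOfLE le_top).op '' Set.range g) ?_ ?_
  · have : Ideal.span (Set.range g) = ⊤ := by
      rw [← hT.iSup_basicOpen_eq_self_iff]
      refine eq_top_iff.2 fun z _ => ?_
      rw [TopologicalSpace.Opens.mem_iSup]
      exact ⟨⟨g z, z, rfl⟩, hg z⟩
    exact (Ideal.map_span (X.presheaf.map (homOfLE (le_top : U ≤ ⊤)).op).hom _).symm.trans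
      (by rw [this, Ideal.map_top])
  · rintro _ ⟨_, ⟨z, rfl⟩, rfl⟩
    rw [Scheme.basicOpen_res]
    exact hgU z

end Groth.Agent.S1607
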