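import Groth.Statements.S16071
import Groth.Agent.L08.AlphaPBasic

set_option autoImplicit false
universe u
open CartDual

namespace Groth.Agent.S16071
open Groth.L08.AlphaPBasic TensorProduct

/-- Let p be a prime, R a commutative ring of characteristic p and A = R[X]/(X^p) the Hopf algebra of
α_p over Spec R, with X primitive. Then the Cartier dual of α_p is again α_p: there is a bialgebra
isomorphism e from the dual Hopf algebra Hom_R(A, R), with the transposed structure maps, to A,
whose inverse sends X to the linear form dual to X with respect to the basis 1, X, …, X^{p-1} of A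
(so e⁻¹(X) takes the value 1 on X and 0 on the other powers X^i, i < p). (Any commutative base ring
of characteristic p is allowed.) -/
theorem result (p : ℕ) [Fact p.Prime] (R : Type u) [CommRing R] [CharP R p] :
    ∃ e : CartDual.D R (AlphaP.A p R) ≃ₐc[R] AlphaP.A p R,
      ∀ i : ℕ, i < p → (e.symm (AlphaP.x p R)) (AlphaP.x p R ^ i) = if i = 1 then 1 else 0 := by
  haveI : Nontrivial R := CharP.nontrivial_of_char_ne_one (Fact.out : p.Prime).one_lt.ne'
  let d : CartDual.D R (AlphaP.A p R) := WithConv.toConv (δ p R)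
  have hmul : ∀ (g : CartDual.D R (AlphaP.A p R)) (a : AlphaP.A p R), (d * g) a = g (L p R a) := by
    intro g a
    simp only [CartDual.coe_apply, L, LinearMap.comp_apply, LinearMap.convMul_def, WithConv.ofConv_toConv]
    generalize Coalgebra.comul (R := R) a = t
    induction t using TensorProduct.induction_on with
    | zero => simp
    | tmul b c => simp [d, smul_eq_mul]
    | add t t' ht ht' => simp only [map_add, ht, ht']
  have hpow : ∀ (j : ℕ) (a : AlphaP.A p R), (d ^ j) a = Coalgebra.counit (R := R) ((L p R ^ j) a) := by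
    intro j
    induction j with
    | zero => intro a; simp [CartDual.coe_apply, LinearMap.convOne_def]
    | succ j ih => intro a; rw [pow_succ', hmul, ih, pow_succ, Module.End.mul_apply]
  have hdp : ∀ n, p ≤ n → d ^ n = 0 := by
    intro n hn
    obtain ⟨m, rfl⟩ := Nat.exists_eq_add_of_le' hn
    rw [pow_add]
    convert mul_zero (d ^ m)
    exact WithConv.ext (LinearMap.ext fun a => by simpa [CartDual.coe_apply, L_pow_p] using hpow p a)
  let φ₀ : AlphaP.A p R →ₗ[R] CartDual.D R (AlphaP.A p R) :=
    (AlphaP.basis p R).constr R fun i => d ^ (i : ℕ)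
  have hφ : ∀ n, φ₀ (AlphaP.x p R ^ n) = d ^ n := by
    intro n
    rcases lt_or_ge n p with hn | hn
    · rw [show AlphaP.x p R ^ n = AlphaP.basis p R ⟨n, hn⟩ by rw [AlphaP.basis_apply],
        Module.Basis.constr_basis]
    · rw [AlphaP.x_pow_of_le p R hn, map_zero, hdp n hn]
  let φ : AlphaP.A p R →ₐ[R] CartDual.D R (AlphaP.A p R) :=
    AlgHom.ofLinearMap φ₀ (by simpa using hφ 0) (by
      intro a b
      have key : (LinearMap.mul R (AlphaP.A p R)).compr₂ φ₀ =
          (LinearMap.mul R (CartDual.D R (AlphaP.A p R))).compl₁₂ φ₀ φ₀ := by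
        refine (AlphaP.basis p R).ext fun i => (AlphaP.basis p R).ext fun j => ?_
        simp only [LinearMap.compr₂_apply, LinearMap.compl₁₂_apply, LinearMap.mul_apply',
          AlphaP.basis_apply, ← pow_add, hφ]
      exact LinearMap.congr_fun (LinearMap.congr_fun key a) b)
  have hφx : φ (AlphaP.x p R) = d := by simpa [φ] using hφ 1
  have heval : ∀ i j : Fin p, φ₀ (AlphaP.x p R ^ (i : ℕ)) (AlphaP.x p R ^ (j : ℕ)) =
      if i = j then ((i : ℕ).factorial : R) else 0 := by
    intro i j
    rw [hφ, hpow, L_pow_x_pow, map_smul, Bialgebra.counit_pow, AlphaP.counit_x, smul_eq_mul]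
    rcases lt_trichotomy (i : ℕ) j with h | h | h
    · rw [if_neg (fun hh => h.ne (congrArg Fin.val hh)), zero_pow (by omega), mul_zero]
    · rw [if_pos (Fin.ext h), ← h]; simp [Nat.descFactorial_self]
    · rw [if_neg (fun hh => h.ne' (congrArg Fin.val hh)), Nat.descFactorial_eq_zero_iff_lt.2 h]; simp
  have hu : ∀ i : Fin p, IsUnit ((i : ℕ).factorial : R) := by
    intro i
    have : ∀ n, n < p → IsUnit (n.factorial : R) := by
      intro n
      induction n with
      | zero => simp
      | succ n ih =>
        intro hn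
        rw [Nat.factorial_succ, Nat.cast_mul]
        exact (isUnit_natCast p R (Nat.succ_pos n) hn).mul (ih (by omega))
    exact this i i.2
  have hev : ∀ (c : Fin p → R) (j : Fin p),
      φ₀ (∑ i, c i • AlphaP.x p R ^ (i : ℕ)) (AlphaP.x p R ^ (j : ℕ)) = c j * ((j : ℕ).factorial : R) := by
    intro c j
    simp only [map_sum, map_smul, CartDual.coe_apply, WithConv.ofConv_sum, WithConv.ofConv_smul,
      LinearMap.sum_apply, LinearMap.smul_apply, smul_eq_mul]
    rw [Finset.sum_eq_single j]
    · rw [← CartDual.coe_apply, heval, if_pos rfl]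
    · intro i _ hi; rw [← CartDual.coe_apply, heval, if_neg hi, mul_zero]
    · intro h; exact absurd (Finset.mem_univ j) h
  have hbij : Function.Bijective φ := by
    refine ⟨(injective_iff_map_eq_zero _).2 fun a ha => ?_, fun g => ?_⟩
    · have hs := (AlphaP.basis p R).sum_repr a
      simp only [AlphaP.basis_apply] at hs
      rw [← hs]
      refine Finset.sum_eq_zero fun j _ => ?_
      have h := hev (fun i => (AlphaP.basis p R).repr a i) j
      rw [hs, show φ₀ a = 0 from ha] at h
      have h0 : (AlphaP.basis p R).repr a j = 0 := (hu j).mul_left_eq_zero.1 (by simpa [CartDual.coe_apply] using h.symm)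
      rw [h0, zero_smul]
    · refine ⟨∑ i : Fin p, (g (AlphaP.x p R ^ (i : ℕ)) * ((hu i).unit⁻¹ : Rˣ)) • AlphaP.x p R ^ (i : ℕ),
        WithConv.ext ((AlphaP.basis p R).ext fun j => ?_)⟩
      rw [AlphaP.basis_apply]
      refine (hev _ j).trans ?_
      rw [mul_assoc, IsUnit.val_inv_mul, mul_one]
  have hder : Coalgebra.comul (R := R) d = d ⊗ₜ[R] 1 + 1 ⊗ₜ[R] d := by
    apply (CartDual.ev₂ R (AlphaP.A p R)).injective
    refine ((AlphaP.basis p R).tensorProduct (AlphaP.basis p R)).ext fun ⟨i, j⟩ => ?_
    simp only [Module.Basis.tensorProduct_apply, AlphaP.basis_apply, CartDual.ev₂_coalgebra_comul_tmul,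
      map_add, LinearMap.add_apply, CartDual.ev₂_tmul]
    rw [← pow_add]
    simp only [d, CartDual.coe_apply, WithConv.ofConv_toConv, δ_x_pow, LinearMap.convOne_def,
      LinearMap.comp_apply, Algebra.linearMap_apply, Algebra.algebraMap_self, RingHom.id_apply,
      Bialgebra.counit_pow, AlphaP.counit_x, zero_pow_eq]
    split_ifs <;> (try omega) <;> simp
  let e₀ : AlphaP.A p R ≃ₐc[R] CartDual.D R (AlphaP.A p R) :=
    BialgEquiv.ofAlgEquiv (AlgEquiv.ofBijective φ hbij)
      (by
        apply AlphaP.algHom_ext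
        simp [hφx, d, CartDual.coe_apply, δ_one, AlphaP.counitAlgHom_eq])
      (by
        apply AlphaP.algHom_ext
        simp [hφx, hder, AlphaP.comulAlgHom_eq])
  refine ⟨e₀.symm, fun i _ => ?_⟩
  have : e₀ (AlphaP.x p R) = d := hφx
  show (e₀ (AlphaP.x p R)) (AlphaP.x p R ^ i) = _
  rw [this]
  exact δ_x_pow p R i

end Groth.Agent.S16071
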