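import Groth.Statements.S16073
import Groth.Agent.L08.AlphaPBasic

set_option autoImplicit false
universe u
open Hopf

namespace Groth.Agent.S16073
open Groth.L08.AlphaPBasic

/-- Let p be a prime and R a commutative ring of characteristic p (p = 0 in R, R nonzero). Then the
constant group scheme ℤ/p and α_p over Spec R are not isomorphic: there is no R-bialgebra
isomorphism between the Hopf algebra Maps(ℤ/p, R) of functions on the cyclic group of order p and
the Hopf algebra R[X]/(X^p) of α_p (X primitive). (Any nonzero commutative base ring of
characteristic p is allowed. The published statement allows any ring R with p·R = 0; over the zero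
ring both Hopf algebras are the zero ring and hence isomorphic, so R is assumed nonzero here.) -/
theorem result (p : ℕ) [Fact p.Prime] (R : Type u) [CommRing R] [CharP R p] :
    IsEmpty (ConstGrp.F R (Multiplicative (ZMod p)) ≃ₐc[R] AlphaP.A p R) := by
  haveI : Nontrivial R := CharP.nontrivial_of_char_ne_one (Fact.out : p.Prime).one_lt.ne'
  refine ⟨fun e => ?_⟩
  obtain ⟨g, hg⟩ : ∃ g : Multiplicative (ZMod p), g ≠ 1 := exists_ne 1
  have h := pow_eq p R (e (ConstGrp.e R g))
  rw [CoalgHomClass.counit_comp_apply, ConstGrp.counit_e, if_neg (Ne.symm hg),
    zero_pow (Fact.out : p.Prime).ne_zero, map_zero, ← map_pow, map_eq_zero_iff _ (EquivLike.injective e)] at h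
  have h1 := congr_fun h g
  have h2 : ∀ n : ℕ, (ConstGrp.e R g ^ n) g = 1 := fun n => by
    induction n with
    | zero => simp
    | succ n ih => rw [pow_succ, ConstGrp.mul_apply, ih, ConstGrp.e_apply_self, one_mul]
  rw [h2] at h1
  exact one_ne_zero h1

end Groth.Agent.S16073
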