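import Groth.Statements.S16076
import Groth.Agent.L28.Versch.Basic

set_option autoImplicit false
universe u
open scoped TensorProduct
open Versch

namespace Groth.Agent.S16076

/-- Let p be a prime, R a commutative ring of characteristic p and A = R[X]/(X^p) the Hopf algebra of
α_p over Spec R, with X primitive. Let v : A → A ⊗_R R^(Frob) be the comorphism of the Verschiebung
V : α_p^(p) → α_p (the ring map whose transpose under the canonical pairing is the relative
Frobenius of the dual Hopf algebra Hom_R(A, R)). Then V is the trivial homomorphism: v is the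
composite of the counit ε : A → R, the identity of underlying rings R → R^(Frob) and the inclusion
of the twisted factor R^(Frob) → A ⊗_R R^(Frob), i.e. v(a) = 1 ⊗ ε(a). (Any commutative base ring of
characteristic p is allowed.) -/
theorem result (p : ℕ) [Fact p.Prime] (R : Type u) [CommRing R] [CharP R p]
    (v : AlphaP.A p R →+* FrobAlg.BaseChange p R (AlphaP.A p R))
    (hv : Versch.IsVerschiebung p R (AlphaP.A p R) v) :
    v = ((Algebra.TensorProduct.includeRight (R := R) (A := AlphaP.A p R) (B := FrobAlg.Twist p R)).toRingHom.comp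
          (FrobAlg.toTwist p R).toRingHom).comp (Bialgebra.counitAlgHom R (AlphaP.A p R)).toRingHom := by
  rw [isVerschiebung_iff] at hv
  have hs : Function.Surjective (AlphaP.mk p R).toRingHom := AlphaP.mk_surjective p R
  rw [← RingHom.cancel_right hs]
  refine Polynomial.ringHom_ext (fun c => ?_) ?_
  · refine evTw_injective p R _ fun x => ?_
    show evTw p R (AlphaP.A p R) x (v (AlphaP.mk p R (Polynomial.C c))) = evTw p R (AlphaP.A p R) x
      (1 ⊗ₜ FrobAlg.toTwist p R (Coalgebra.counit (R := R) (AlphaP.mk p R (Polynomial.C c))))
    rw [hv, Groth.L28.Versch.evTw_tmul_toTwist, show AlphaP.mk p R (Polynomial.C c) = c • 1 from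
      (AlgHom.commutes _ c).trans (Algebra.algebraMap_eq_smul_one c), map_smul Coalgebra.counit, Bialgebra.counit_one, smul_eq_mul c 1,
      mul_one, CartDual.coe_apply, map_smul, ← CartDual.coe_apply, Groth.L28.Versch.pow_apply_one, smul_eq_mul,
      mul_comm]
  · refine evTw_injective p R _ fun x => ?_
    show evTw p R (AlphaP.A p R) x (v (AlphaP.x p R)) = evTw p R (AlphaP.A p R) x
      (1 ⊗ₜ FrobAlg.toTwist p R (Coalgebra.counit (R := R) (AlphaP.x p R)))
    rw [hv, Groth.L28.Versch.evTw_tmul_toTwist, AlphaP.counit_x,
      Groth.L28.Versch.pow_apply_primitive R _ (AlphaP.comul_x p R) (AlphaP.counit_x p R), CharP.cast_eq_zero,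
      zero_mul, mul_zero]

end Groth.Agent.S16076
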