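import Groth.Statements.S16078
import Mathlib.RingTheory.RingHom.FaithfullyFlat
import Mathlib.RingTheory.Flat.FaithfullyFlat.Algebra
import Mathlib.LinearAlgebra.TensorProduct.Associator
import Mathlib.RingTheory.Flat.Stability
import Mathlib.RingTheory.IntegralClosure.GoingDown
import Mathlib.RingTheory.FiniteStability
import Mathlib.RingTheory.Idempotents
import Groth.Agent.S13404

set_option autoImplicit false
universe u
open scoped TensorProduct
open Hopf

namespace Groth.Agent.S16078

open TensorProduct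

theorem flat_of_surjective {S S' M : Type u} [CommRing S] [CommRing S'] [Algebra S S'] [AddCommGroup M] [Module S M]
    [Module S' M] [IsScalarTower S S' M] [Module.Flat S M] (h : Function.Surjective (algebraMap S S')) :
    Module.Flat S' M := by
  haveI : TensorProduct.CompatibleSMul S S' S' M := .of_algebraMap_surjective _ _ h
  exact Module.Flat.of_linearEquiv (TensorProduct.lidOfCompatibleSMul S S' M).symm

theorem mk_eq_of {R A : Type u} [CommRing R] [Nontrivial R] [CommRing A] [Algebra R A] (J : Ideal A)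
    (εA : A →ₐ[R] R) (hJ : ∀ x ∈ J, εA x = 0) {e e' : A}
    (he : IsIdempotentElem (Ideal.Quotient.mk J e)) (he' : IsIdempotentElem (Ideal.Quotient.mk J e')) (hε : εA e = 1) (hε' : εA e' = 1)
    [IsLocalRing (A ⧸ (J ⊔ Ideal.span ({1 - e'} : Set A)))] :
    Ideal.Quotient.mk J e * Ideal.Quotient.mk J e' = Ideal.Quotient.mk J e' := by
  let K : Ideal A := J ⊔ Ideal.span {1 - e'}
  let εK : (A ⧸ K) →ₐ[R] R := Ideal.Quotient.liftₐ K εA fun x hx => by
    obtain ⟨j, hj, y, hy, rfl⟩ := Submodule.mem_sup.mp hx
    obtain ⟨c, rfl⟩ := Ideal.mem_span_singleton'.mp hy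
    rw [map_add, hJ j hj, map_mul, map_sub, map_one, hε', sub_self, mul_zero, add_zero]
  have h1 : Ideal.Quotient.mk K e = 1 :=
    Groth.Agent.S13404.idem_eq_one εK (show Ideal.Quotient.mk K e * Ideal.Quotient.mk K e = Ideal.Quotient.mk K e by
      rw [← map_mul, Ideal.Quotient.eq]
      exact Ideal.mem_sup_left (Ideal.Quotient.eq.mp (by rw [map_mul]; exact he))) hε
  rw [← map_one (Ideal.Quotient.mk K), eq_comm, Ideal.Quotient.eq] at h1
  obtain ⟨j, hj, y, hy, hjy⟩ := Submodule.mem_sup.mp h1
  obtain ⟨c, rfl⟩ := Ideal.mem_span_singleton'.mp hy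
  have h2 : Ideal.Quotient.mk J (1 - e) = Ideal.Quotient.mk J c * (1 - Ideal.Quotient.mk J e') := by
    rw [← hjy, map_add, Ideal.Quotient.eq_zero_iff_mem.mpr hj, zero_add, map_mul, map_sub, map_one]
  rw [map_sub, map_one] at h2
  rw [show Ideal.Quotient.mk J e = 1 - (1 - Ideal.Quotient.mk J e) by ring, h2, sub_mul, _root_.one_mul, sub_eq_self,
    mul_assoc, sub_mul, _root_.one_mul, he'.eq, sub_self, mul_zero]

/-- Let R be a henselian Noetherian local ring, A and A'' commutative Hopf algebras over R which are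
finite and flat as R-modules, and A'' → A an R-algebra homomorphism compatible with
comultiplications and counits making A faithfully flat over A'' (a faithfully flat homomorphism π :
G → G'' of finite flat R-groups); let J ⊆ A be the ideal generated by the image of the augmentation
ideal of A'' (G' = Spec A/J = ker π, so that 1 → G' → G → G'' → 1 is exact). Let e ∈ A and e'' ∈ A''
be idempotents with ε(e) = 1, ε(e'') = 1 and A/(1 − e), A''/(1 − e'') local rings (the unit
components G⁰ and G''⁰), and let e' ∈ A be an element whose image in A/J is an idempotent, with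
ε(e') = 1 and A/(J + (1 − e')) local (so G'⁰ = Spec (A/J)/(1 − e') is the unit component of G').
Suppose g : A''/(1 − e'') → A/(1 − e) is the ring homomorphism induced by A'' → A (the restriction
π⁰ : G⁰ → G''⁰ of π, which exists because G⁰ is connected). Then g is faithfully flat, and e ≡ e'
modulo J, i.e. J + (1 − e) = J + (1 − e') and the kernel of π⁰, which is cut out in G⁰ by J, is
exactly G'⁰: the sequence 1 → G'⁰ → G⁰ → G''⁰ → 1 is exact. (The published statement also asserts
exactness of the maximal étale quotient G ↦ G^ét, not stated here.) -/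
theorem result (R : Type u) [CommRing R] [HenselianLocalRing R]
    [IsNoetherianRing R] (A A'' : Type u) [CommRing A] [HopfAlgebra R A] [Module.Finite R A] [Module.Flat R A]
    [CommRing A''] [HopfAlgebra R A''] [Module.Finite R A''] [Module.Flat R A'']
    [Algebra A'' A] [IsScalarTower R A'' A] [Module.FaithfullyFlat A'' A]
    (hΔ : (Bialgebra.comulAlgHom R A).comp (IsScalarTower.toAlgHom R A'' A) =
      (Algebra.TensorProduct.map (IsScalarTower.toAlgHom R A'' A) (IsScalarTower.toAlgHom R A'' A)).comp
        (Bialgebra.comulAlgHom R A''))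
    (hε : (Bialgebra.counitAlgHom R A).comp (IsScalarTower.toAlgHom R A'' A) = Bialgebra.counitAlgHom R A'')
    (e : A) (he : IsIdempotentElem e) (heε : Bialgebra.counitAlgHom R A e = 1)
    [IsLocalRing (A ⧸ Ideal.span ({1 - e} : Set A))]
    (e'' : A'') (he'' : IsIdempotentElem e'') (he''ε : Bialgebra.counitAlgHom R A'' e'' = 1)
    [IsLocalRing (A'' ⧸ Ideal.span ({1 - e''} : Set A''))]
    (e' : A) (he' : IsIdempotentElem (Ideal.Quotient.mk ((RingHom.ker (Bialgebra.counitAlgHom R A'')).map (algebraMap A'' A)) e'))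
    (he'ε : Bialgebra.counitAlgHom R A e' = 1)
    [IsLocalRing (A ⧸ (((RingHom.ker (Bialgebra.counitAlgHom R A'')).map (algebraMap A'' A)) ⊔ Ideal.span ({1 - e'} : Set A)))]
    (g : (A'' ⧸ Ideal.span ({1 - e''} : Set A'')) →+* (A ⧸ Ideal.span ({1 - e} : Set A)))
    (hg : g.comp (Ideal.Quotient.mk (Ideal.span ({1 - e''} : Set A''))) =
      (Ideal.Quotient.mk (Ideal.span ({1 - e} : Set A))).comp (algebraMap A'' A)) :
    g.FaithfullyFlat ∧
      Ideal.Quotient.mk ((RingHom.ker (Bialgebra.counitAlgHom R A'')).map (algebraMap A'' A)) e = Ideal.Quotient.mk ((RingHom.ker (Bialgebra.counitAlgHom R A'')).map (algebraMap A'' A)) e' := by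
  let J : Ideal A := (RingHom.ker (Bialgebra.counitAlgHom R A'')).map (algebraMap A'' A)
  let I : Ideal A := Ideal.span ({1 - e} : Set A)
  let I'' : Ideal A'' := Ideal.span ({1 - e''} : Set A'')
  refine ⟨?_, ?_⟩
  · letI : Algebra (A'' ⧸ I'') (A ⧸ I) := g.toAlgebra
    haveI : IsScalarTower A'' (A'' ⧸ I'') (A ⧸ I) := IsScalarTower.of_algebraMap_eq fun x => (RingHom.congr_fun hg x).symm
    haveI : Module.Flat A (A ⧸ I) := by
      let i : (A ⧸ I) →ₗ[A] A := Submodule.liftQ _ (LinearMap.mulRight A e) (by
        refine Submodule.span_le.mpr ?_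
        rintro _ rfl
        show (1 - e) * e = 0
        rw [sub_mul, _root_.one_mul, he.eq, sub_self])
      refine Module.Flat.of_retract i (Submodule.mkQ _) (LinearMap.ext fun z => ?_)
      obtain ⟨x, rfl⟩ := Ideal.Quotient.mk_surjective z
      show Ideal.Quotient.mk _ (x * e) = Ideal.Quotient.mk _ x
      rw [Ideal.Quotient.eq, Ideal.mem_span_singleton]
      exact ⟨-x, by ring⟩
    haveI : Module.Flat A'' (A ⧸ I) := Module.Flat.trans A'' A (A ⧸ I)
    haveI : Module.Flat (A'' ⧸ I'') (A ⧸ I) := flat_of_surjective (S := A'') (by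
      rw [Ideal.Quotient.algebraMap_eq]; exact Ideal.Quotient.mk_surjective)
    haveI : Module.Finite A'' A := Module.Finite.of_restrictScalars_finite R A'' A
    haveI : Module.Finite A'' (A ⧸ I) := Module.Finite.quotient A'' I
    haveI : Module.Finite (A'' ⧸ I'') (A ⧸ I) := Module.Finite.of_restrictScalars_finite A'' (A'' ⧸ I'') (A ⧸ I)
    haveI : IsLocalHom (algebraMap (A'' ⧸ I'') (A ⧸ I)) := by
      refine ((IsLocalRing.local_hom_TFAE (algebraMap (A'' ⧸ I'') (A ⧸ I))).out 0 4).mpr ?_
      haveI : Algebra.IsIntegral (A'' ⧸ I'') (A ⧸ I) := Algebra.IsIntegral.of_finite _ _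
      haveI := Ideal.isMaximal_comap_of_isIntegral_of_isMaximal (R := A'' ⧸ I'') (IsLocalRing.maximalIdeal (A ⧸ I))
      exact IsLocalRing.eq_maximalIdeal ‹_›
    exact RingHom.faithfullyFlat_algebraMap_iff.mpr (Module.FaithfullyFlat.of_flat_of_isLocalHom (A := A'' ⧸ I'') (B := A ⧸ I))
  · have hJ : ∀ x ∈ J, Bialgebra.counitAlgHom R A x = 0 := fun x hx => by
      have h : J ≤ RingHom.ker (Bialgebra.counitAlgHom R A) := by
        rw [Ideal.map_le_iff_le_comap]
        intro y hy
        rw [Ideal.mem_comap, RingHom.mem_ker]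
        exact (AlgHom.congr_fun hε y).trans hy
      exact h hx
    haveI : IsLocalRing (A ⧸ (J ⊔ I)) := by
      haveI : Nontrivial (A ⧸ (J ⊔ I)) := Ideal.Quotient.nontrivial_iff.mpr (ne_top_of_le_ne_top
        (RingHom.ker_ne_top (Bialgebra.counitAlgHom R A)) (sup_le (fun x hx => hJ x hx) (by
          rw [Ideal.span_le, Set.singleton_subset_iff]
          show Bialgebra.counitAlgHom R A (1 - e) = 0
          rw [map_sub, map_one, heε, sub_self])))
      exact IsLocalRing.of_surjective' (Ideal.Quotient.factor (le_sup_right : I ≤ J ⊔ I))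
        (Ideal.Quotient.factor_surjective _)
    have h1 := mk_eq_of J (Bialgebra.counitAlgHom R A) hJ (he.map (Ideal.Quotient.mk J)) he' heε he'ε
    have h2 := mk_eq_of J (Bialgebra.counitAlgHom R A) hJ he' (he.map (Ideal.Quotient.mk J)) he'ε heε
    exact (h2.symm.trans (mul_comm _ _)).trans h1

end Groth.Agent.S16078
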