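import Groth.Statements.S16082
import Groth.Agent.L20.ModStalk
import Mathlib.AlgebraicGeometry.FunctionField

set_option autoImplicit false
universe u
open CategoryTheory CategoryTheory.Limits AlgebraicGeometry TopologicalSpace
open SDiv

namespace Groth.Agent.S16082

/-- Let X be an integral scheme and F, G quasi-coherent O_X-modules with F of finite presentation and G
torsion free (every stalk G_x is a torsion-free module over the domain O_{X,x}). Then every stalk of
the sheaf Hom 𝓗om_{O_X}(F, G) is torsion free as well. -/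
theorem result (X : Scheme.{u}) [IsIntegral X] (F G : X.Modules) (hF : Coh.IsQCoh F)
    (hFp : CohB1.IsFP F) (hG : Coh.IsQCoh G) (hGt : TorSh.IsTorsionFree G) :
    TorSh.IsTorsionFree (RefHull.homSh F G) := by
  intro x
  haveI := hGt x
  refine ⟨fun r hr a b hab => ?_⟩
  suffices h : ∀ m : (RefHull.homSh F G).presheaf.stalk x, r • m = 0 → m = 0 by
    exact sub_eq_zero.1 (h _ (by rw [smul_sub, sub_eq_zero]; exact hab))
  intro m hm
  obtain ⟨U, hU, g, rfl⟩ := TopCat.Presheaf.exists_germ_eq (F := (RefHull.homSh F G).presheaf) (x := x) m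
  obtain ⟨U', hU', r', rfl⟩ := TopCat.Presheaf.exists_germ_eq (F := X.presheaf) (x := x) r
  have hx : x ∈ U' ⊓ U := ⟨hU', hU⟩
  let r₀ : Γ(X, U' ⊓ U) := X.presheaf.map (homOfLE (inf_le_left : U' ⊓ U ≤ U')).op r'
  let g₀ : Γ(RefHull.homSh F G, U' ⊓ U) := Groth.L18.Frame.rs _ (inf_le_right : U' ⊓ U ≤ U) g
  have hg₀ : (RefHull.homSh F G).presheaf.germ (U' ⊓ U) x hx g₀ =
      (RefHull.homSh F G).presheaf.germ U x hU g := Groth.L20.ModStalk.germ_rs _ _ hx g
  have hr₀ : X.presheaf.germ (U' ⊓ U) x hx r₀ = X.presheaf.germ U' x hU' r' :=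
    TopCat.Presheaf.germ_res_apply X.presheaf (homOfLE inf_le_left) x hx r'
  rw [← hg₀, ← hr₀, ← Groth.L20.ModStalk.germ_smul,
    ← map_zero ((RefHull.homSh F G).presheaf.germ (U' ⊓ U) x hx).hom] at hm
  obtain ⟨W, hxW, i₁, i₂, hW⟩ := TopCat.Presheaf.germ_eq (RefHull.homSh F G).presheaf x hx hx _ _ hm
  rw [← hg₀]
  rw [← Groth.L20.ModStalk.germ_rs _ i₁.le hxW g₀]
  have h0 : Groth.L18.Frame.rs (RefHull.homSh F G) i₁.le g₀ = 0 := by
    refine Subtype.ext (funext fun y => ?_)
    have h1 : Groth.L18.Frame.rs (RefHull.homSh F G) i₁.le (r₀ • g₀) = 0 :=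
      hW.trans (map_zero _)
    rw [Groth.L18.Frame.rs_smul] at h1
    have h2 : X.presheaf.germ W y.1 y.2 (X.presheaf.map (homOfLE i₁.le).op r₀) •
        (Groth.L18.Frame.rs (RefHull.homSh F G) i₁.le g₀).1 y = 0 :=
      congrFun (congrArg Subtype.val h1) y
    haveI := hGt y.1
    refine LinearMap.ext fun v => ?_
    have h3 := LinearMap.congr_fun h2 v
    rw [LinearMap.smul_apply, LinearMap.zero_apply] at h3
    have h4 : X.presheaf.germ W y.1 y.2 (X.presheaf.map (homOfLE i₁.le).op r₀) ≠ 0 := by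
      intro h
      haveI : Nonempty W := ⟨y⟩
      have h5 := germ_injective_of_isIntegral X y.1 y.2 (h.trans (map_zero _).symm)
      refine hr.ne_zero ?_
      show X.presheaf.germ U' x hU' r' = 0
      rw [← hr₀, ← TopCat.Presheaf.germ_res_apply X.presheaf (homOfLE i₁.le) x hxW r₀, h5, map_zero]
    exact (isRegular_of_ne_zero h4).isSMulRegular (h3.trans (smul_zero _).symm)
  rw [h0, map_zero]

end Groth.Agent.S16082
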