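import Groth.Statements.S16083
import Groth.Agent.L15.Ref.Normal
-- import your own Groth.Agent.* helpers here

set_option autoImplicit false
universe u
open CategoryTheory CategoryTheory.Limits AlgebraicGeometry TopologicalSpace
open SDiv

namespace Groth.Agent.S16083

/-- Suppose X is a normal scheme that is integral and locally Noetherian, write η for its generic point,
let F and G be coherent O_X-modules, and let T : G_η → F_η be an O_{X,η}-linear map of generic
stalks. Then T extends to a morphism G ⟶ F^** — there is a morphism ψ whose stalk map at η is T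
followed by the stalk map at η of the canonical map F ⟶ F^** — if and only if for every point x with
dim O_{X,x} = 1 the map T sends the image of G_x in G_η into the image of F_x in F_η. -/
theorem result (X : Scheme.{u}) [IsIntegral X] [IsLocallyNoetherian X]
    (hX : Pi1.IsNormalScheme X) (F G : X.Modules) (hF : Coh.IsCoh F) (hG : Coh.IsCoh G)
    (T : ↑(G.presheaf.stalk (genericPoint ↥X)) →ₗ[↑(X.presheaf.stalk (genericPoint ↥X))]
      ↑(F.presheaf.stalk (genericPoint ↥X))) :
    (∃ ψ : G ⟶ RefHull.ddual F, RefHull.stalkMapₗ ψ (genericPoint ↥X) =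
        (RefHull.stalkMapₗ (RefHull.bidualMap F) (genericPoint ↥X)).comp T) ↔
      ∀ x : ↥X, ringKrullDim ↑(X.presheaf.stalk x) = 1 →
        Set.MapsTo ⇑T
          (Set.range ⇑(G.presheaf.stalkSpecializes ((genericPoint_spec ↥X).specializes (Set.mem_univ x))).hom)
          (Set.range ⇑(F.presheaf.stalkSpecializes ((genericPoint_spec ↥X).specializes (Set.mem_univ x))).hom) := by
  constructor
  · rintro ⟨ψ, hψ⟩ x hx _ ⟨g, rfl⟩
    haveI := Groth.L15.CDivLib.isDVR_of_coheight hX ((Groth.L15.Ref.coheight_eq_one_iff x).1 hx)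
    obtain ⟨u, hu⟩ := Groth.L15.Ref.bidual_surjective_of_dvr hF x (RefHull.stalkMapₗ ψ x g)
    refine ⟨u, Groth.L15.Ref.bidual_eta_injective hF ?_⟩
    have h1 := Groth.L15.Ref.toEta_stalkMapₗ (RefHull.bidualMap F) x u
    rw [hu, Groth.L15.Ref.toEta_stalkMapₗ ψ x g, hψ] at h1
    exact h1.symm
  · intro h
    refine Groth.L15.Ref.exists_hom hX (Groth.L15.Ref.isCoh_dual (Groth.L15.Ref.isCoh_dual hF))
      (Groth.L15.Ref.isReflexive_ddual hF) _ fun z hz g => ?_
    obtain ⟨u, hu⟩ := h z ((Groth.L15.Ref.coheight_eq_one_iff z).2 hz) ⟨g, rfl⟩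
    exact ⟨RefHull.stalkMapₗ (RefHull.bidualMap F) z u,
      (Groth.L15.Ref.toEta_stalkMapₗ _ z u).trans (congrArg (RefHull.stalkMapₗ (RefHull.bidualMap F) _) hu)⟩

end Groth.Agent.S16083
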