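import Groth.Statements.S16084
import Groth.Agent.L15.Ref.Rank1
-- import your own Groth.Agent.* helpers here

set_option autoImplicit false
universe u
open CategoryTheory CategoryTheory.Limits AlgebraicGeometry TopologicalSpace
open SDiv

namespace Groth.Agent.S16084

/-- Let X be an integral locally Noetherian normal scheme, F a rank one coherent reflexive O_X-module
and s a nonzero global section of F. Let Z be the set of points x at which multiplication by the
germ of s, O_{X,x} → F_x, fails to be bijective (the complement of the open where s generates F).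
Then every irreducible component of Z has codimension 1 in X: at each point z of Z to which no other
point of Z specializes, the local ring O_{X,z} has dimension 1. -/
theorem result (X : Scheme.{u}) [IsIntegral X] [IsLocallyNoetherian X]
    (hX : Pi1.IsNormalScheme X) (F : X.Modules) (hF : RefHull.IsRef1 F) (s : Γ(F, ⊤)) (hs : s ≠ 0) (z : ↥X)
    (hz : ¬ Function.Bijective fun a : ↑(X.presheaf.stalk z) => a • F.presheaf.germ ⊤ z trivial s)
    (hmax : ∀ y : ↥X, ¬ Function.Bijective (fun a : ↑(X.presheaf.stalk y) => a • F.presheaf.germ ⊤ y trivial s) →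
      y ⤳ z → y = z) :
    ringKrullDim ↑(X.presheaf.stalk z) = 1 := by
  haveI : Coh.IsQCoh F := hF.1.1
  haveI := fun y => Groth.L15.Ref.isTorsionFree_stalk hF.1 hF.2.1 y
  have hsη : F.presheaf.germ ⊤ (genericPoint ↥X) trivial s ≠ 0 := fun h => hs
    (Groth.L15.Ref.germ_eta_injective (fun y => Groth.L15.Ref.isTorsionFree_stalk hF.1 hF.2.1 y) fun _ => h.trans (map_zero _).symm)
  have bη := Groth.L15.Ref.bijective_smul_of_ne_zero hF.2.2 hsη
  have htg : ∀ y : X, Groth.L15.Ref.toEta F y (F.presheaf.germ ⊤ y trivial s) = F.presheaf.germ ⊤ _ trivial s :=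
    fun y => Groth.L15.Ref.toEta_germ F (x := y) (U := ⊤) trivial s
  have hinj : ∀ y : X, Function.Injective fun a : ↑(X.presheaf.stalk y) => a • F.presheaf.germ ⊤ y trivial s := by
    intro y a b h
    have h1 := congrArg (Groth.L15.Ref.toEta F y) h
    simp only [Groth.L15.Ref.toEta_smul, htg] at h1
    exact Groth.L15.CDivLib.am_injective y (bη.1 h1)
  have hne : z ≠ genericPoint ↥X := fun h => hz (h ▸ bη)
  by_contra hdim
  refine hz ⟨hinj z, fun v => ?_⟩
  obtain ⟨k, hk⟩ := bη.2 (Groth.L15.Ref.toEta F z v)
  haveI := (hX z).2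
  have hdepth : (2 : ℕ∞) ≤ LocCoh.depth (X.presheaf.stalk z) (X.presheaf.stalk z) := by
    by_contra hd
    obtain ⟨-, hc⟩ := Groth.L15.CDivLib.isDVR_and_coheight_of_depth_eq_one hX
      (Groth.L15.CDivLib.depth_eq_one_of_not_two_le hne hd)
    exact hdim ((Groth.L15.Ref.coheight_eq_one_iff z).2 hc)
  obtain ⟨a, ha⟩ := Groth.L15.CDivLib.mem_range_of_depth_two hdepth hne (k : X.functionField) fun y hy hyz => by
    obtain ⟨c, hc⟩ := (show Function.Bijective fun a : ↑(X.presheaf.stalk y) => a • F.presheaf.germ ⊤ y trivial s from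
      by_contra fun hb => hyz (hmax y hb hy)).2 (F.presheaf.stalkSpecializes hy v)
    refine ⟨c, bη.1 ?_⟩
    have h1 := congrArg (Groth.L15.Ref.toEta F y) hc
    simp only [Groth.L15.Ref.toEta_smul, htg, Groth.L15.Ref.toEta_specializes] at h1
    exact h1.trans hk.symm
  refine ⟨a, Groth.L15.Ref.toEta_injective z ?_⟩
  show Groth.L15.Ref.toEta F z (a • _) = _
  rw [Groth.L15.Ref.toEta_smul, htg, ← hk]
  exact congrArg (fun c : X.presheaf.stalk (genericPoint ↥X) => c • F.presheaf.germ ⊤ (genericPoint ↥X) trivial s) ha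

end Groth.Agent.S16084
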