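import Groth.Statements.S16085
import Groth.Agent.L15.Ref.Divisor
import Groth.Prelude.Def_PicGrp
-- import your own Groth.Agent.* helpers here

set_option autoImplicit false
universe u
open CategoryTheory CategoryTheory.Limits AlgebraicGeometry TopologicalSpace
open SDiv

namespace Groth.Agent.S16085

/-- Let X be an integral locally Noetherian normal scheme. Sending (F, G) to the reflexive hull (F
⊗_{O_X} G)^** makes the isomorphism classes of rank one coherent reflexive O_X-modules into an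
abelian group: on that set there are a commutative and associative composition law, a neutral
element and inverses, such that the product of the classes of F and G is the class of the reflexive
hull of F ⊗_{O_X} G, the neutral element is the class of O_X, and the inverse of the class of F is
the class of its dual 𝓗om_{O_X}(F, O_X). -/
theorem result (X : Scheme.{u}) [IsIntegral X] [IsLocallyNoetherian X] (hX : Pi1.IsNormalScheme X) :
    ∃ (mul : {c : PicF.Cl X // ∃ F : X.Modules, PicF.cl F = c ∧ RefHull.IsRef1 F} →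
          {c : PicF.Cl X // ∃ F : X.Modules, PicF.cl F = c ∧ RefHull.IsRef1 F} →
            {c : PicF.Cl X // ∃ F : X.Modules, PicF.cl F = c ∧ RefHull.IsRef1 F})
      (one : {c : PicF.Cl X // ∃ F : X.Modules, PicF.cl F = c ∧ RefHull.IsRef1 F})
      (inv : {c : PicF.Cl X // ∃ F : X.Modules, PicF.cl F = c ∧ RefHull.IsRef1 F} →
          {c : PicF.Cl X // ∃ F : X.Modules, PicF.cl F = c ∧ RefHull.IsRef1 F}),
      (∀ a b, mul a b = mul b a) ∧ (∀ a b c, mul (mul a b) c = mul a (mul b c)) ∧ (∀ a, mul one a = a) ∧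
        (∀ a, mul (inv a) a = one) ∧
        (∀ (F G : X.Modules) (hF : RefHull.IsRef1 F) (hG : RefHull.IsRef1 G),
          (mul ⟨PicF.cl F, F, rfl, hF⟩ ⟨PicF.cl G, G, rfl, hG⟩).1 = PicF.cl (RefHull.ddual (CohB1.tensorMod F G))) ∧
        one.1 = PicF.cl (Coh.structureModule X) ∧
        (∀ (F : X.Modules) (hF : RefHull.IsRef1 F), (inv ⟨PicF.cl F, F, rfl, hF⟩).1 = PicF.cl (RefHull.dual F)) := by
  classical
  let S := {c : PicF.Cl X // ∃ F : X.Modules, PicF.cl F = c ∧ RefHull.IsRef1 F}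
  let rep : S → X.Modules := fun c => c.2.choose
  have hrep : ∀ c : S, RefHull.IsRef1 (rep c) := fun c => c.2.choose_spec.2
  have hcl : ∀ c : S, PicF.cl (rep c) = c.1 := fun c => c.2.choose_spec.1
  have hiso : ∀ (F : X.Modules) (hF : RefHull.IsRef1 F), Nonempty (rep ⟨PicF.cl F, F, rfl, hF⟩ ≅ F) := fun F hF =>
    (PicGrp.cl_eq_cl_iff _ _).1 (hcl _)
  let mk : ∀ F : X.Modules, RefHull.IsRef1 F → S := fun F hF => ⟨PicF.cl F, F, rfl, hF⟩
  let mul : S → S → S := fun a b => mk _ (Groth.L15.Ref.isRef1_refTensor (hrep a) (hrep b))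
  let one : S := mk _ Groth.L15.Ref.isRef1_structureModule
  let inv : S → S := fun a => mk _ (Groth.L15.Ref.isRef1_dual (hrep a))
  let Div : S → (↥X → ℤ) → Prop := fun a d => Groth.L15.Ref.HasDiv (rep a) d
  have hmk : ∀ (F : X.Modules) (hF : RefHull.IsRef1 F) (d : ↥X → ℤ), Groth.L15.Ref.HasDiv F d → Div (mk F hF) d :=
    fun F hF d h => Groth.L15.Ref.hasDiv_of_iso hX hF (hrep _) ((hiso F hF).map Iso.symm) h
  have heq : ∀ (a : S) (F : X.Modules) (hF : RefHull.IsRef1 F) (d : ↥X → ℤ),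
      Div a d → Groth.L15.Ref.HasDiv F d → a.1 = PicF.cl F := fun a F hF d h h' => by
    rw [← hcl a]
    exact (PicGrp.cl_eq_cl_iff _ _).2 (Groth.L15.Ref.iso_of_hasDiv hX (hrep a) hF h h')
  have hext : ∀ (a b : S) (d : ↥X → ℤ), Div a d → Div b d → a = b := fun a b d h h' =>
    Subtype.ext ((heq a (rep b) (hrep b) d h h').trans (hcl b))
  have hmul : ∀ a b d e, Div a d → Div b e → Div (mul a b) (d + e) := fun a b d e h h' =>
    hmk _ (Groth.L15.Ref.isRef1_refTensor (hrep a) (hrep b)) _ (Groth.L15.Ref.hasDiv_refTensor hX (hrep a) (hrep b) h h')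
  have hone : Div one 0 := hmk _ Groth.L15.Ref.isRef1_structureModule _ Groth.L15.Ref.hasDiv_structureModule
  have hinv : ∀ a d, Div a d → Div (inv a) (-d) := fun a d h =>
    hmk _ (Groth.L15.Ref.isRef1_dual (hrep a)) _ (Groth.L15.Ref.hasDiv_dual hX (hrep a) h)
  refine ⟨mul, one, inv, fun a b => ?_, fun a b c => ?_, fun a => ?_, fun a => ?_, fun F G hF hG => ?_, rfl, fun F hF => ?_⟩
  · obtain ⟨d, hd⟩ := Groth.L15.Ref.exists_hasDiv (hrep a)
    obtain ⟨e, he⟩ := Groth.L15.Ref.exists_hasDiv (hrep b)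
    exact hext _ _ (d + e) (hmul a b d e hd he) (add_comm d e ▸ hmul b a e d he hd)
  · obtain ⟨d, hd⟩ := Groth.L15.Ref.exists_hasDiv (hrep a)
    obtain ⟨e, he⟩ := Groth.L15.Ref.exists_hasDiv (hrep b)
    obtain ⟨g, hg⟩ := Groth.L15.Ref.exists_hasDiv (hrep c)
    exact hext _ _ (d + e + g) (hmul _ c _ g (hmul a b d e hd he) hg)
      (add_assoc d e g ▸ hmul a _ d _ hd (hmul b c e g he hg))
  · obtain ⟨d, hd⟩ := Groth.L15.Ref.exists_hasDiv (hrep a)
    exact hext _ _ d (zero_add d ▸ hmul one a 0 d hone hd) hd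
  · obtain ⟨d, hd⟩ := Groth.L15.Ref.exists_hasDiv (hrep a)
    exact hext _ _ 0 (neg_add_cancel d ▸ hmul (inv a) a _ d (hinv a d hd) hd) hone
  · obtain ⟨d, hd⟩ := Groth.L15.Ref.exists_hasDiv hF
    obtain ⟨e, he⟩ := Groth.L15.Ref.exists_hasDiv hG
    exact heq _ _ (Groth.L15.Ref.isRef1_refTensor hF hG) (d + e)
      (hmul _ _ d e (hmk F hF d hd) (hmk G hG e he)) (Groth.L15.Ref.hasDiv_refTensor hX hF hG hd he)
  · obtain ⟨d, hd⟩ := Groth.L15.Ref.exists_hasDiv hF
    exact heq _ _ (Groth.L15.Ref.isRef1_dual hF) (-d) (hinv _ d (hmk F hF d hd)) (Groth.L15.Ref.hasDiv_dual hX hF hd)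

end Groth.Agent.S16085
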