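import Groth.Statements.S16089
import Groth.Agent.L15.Ref.InvDiv
import Groth.Agent.L03.RefRegSch
import Groth.Agent.L03.RegularNormal
import Groth.Agent.L17.ClosedPush
import Groth.Agent.L21.Mod.Stalks
-- import your own Groth.Agent.* helpers here

set_option autoImplicit false
universe u
open CategoryTheory CategoryTheory.Limits AlgebraicGeometry TopologicalSpace
open SDiv

namespace Groth.Agent.S16089

open Groth.L15.Ref
open Groth.L15.CDivLib (am am_injective)

/-- Suppose X is an integral regular scheme (locally Noetherian, with every local ring regular) whose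
dimension is at most 2. Consider an effective Cartier divisor D ⊆ X with ideal sheaf 𝓓, whose
associated closed subscheme is integral, and write i : D ⟶ X for the closed immersion. Take G to be
a finite locally free O_D-module of rank s, and assume F ⟶ F' ⟶ i_*G ⟶ 0 is exact, where F and F'
are coherent O_X-modules that are both locally free of rank r on some common nonempty open subset.
Then, for any r-th exterior power L of F and L' of F', the reflexive hulls L^** and L'^** are
invertible O_X-modules, and there is an integer k with 0 ≤ k ≤ min(s, r) such that L'^** ≅ L^** ⊗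
O_X(D)^{⊗ k}, where O_X(D) = 𝓗om(𝓓, O_X). Although the published version assumes X has dimension
exactly 2, the proof only needs dimension at most 2. -/
theorem result (X : Scheme.{u}) [IsIntegral X] [IsLocallyNoetherian X]
    (hreg : ∀ x : ↥X, IsRegularLocalRing ↑(X.presheaf.stalk x)) (hdim : topologicalKrullDim ↥X ≤ 2)
    (𝓓 : X.IdealSheafData) (hD : BlowUp.IsEffCartierIdeal 𝓓) (hDi : IsIntegral 𝓓.subscheme) (s : ℕ)
    (G : (𝓓.subscheme).Modules) (hG : FlatMod.IsFinLocFreeOfRank s G) (F F' : X.Modules) (hF : Coh.IsCoh F)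
    (hF' : Coh.IsCoh F') (a : F ⟶ F') (b : F' ⟶ (Scheme.Modules.pushforward 𝓓.subschemeι).obj G) (w : a ≫ b = 0)
    (hex : (ShortComplex.mk a b w).Exact) (hb : Epi b) (r : ℕ)
    (hU : ∃ U : X.Opens, (U : Set ↥X).Nonempty ∧ FlatMod.IsFinLocFreeOfRank r (F.restrict U.ι) ∧
      FlatMod.IsFinLocFreeOfRank r (F'.restrict U.ι))
    (L L' : X.Modules) (hL : ExtPow.IsExtPow r F L) (hL' : ExtPow.IsExtPow r F' L') :
    PicF.IsInvertible (RefHull.ddual L) ∧ PicF.IsInvertible (RefHull.ddual L') ∧
      ∃ k : ℕ, k ≤ min s r ∧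
        Nonempty (RefHull.ddual L' ≅
          CohB1.tensorMod (RefHull.ddual L) (CohB1.tensorPow (RefHull.dual (ClSub.idealMod 𝓓)) k)) := by
  classical
  obtain ⟨φ, hφ⟩ := hL
  obtain ⟨φ', hφ'⟩ := hL'
  have hX : Pi1.IsNormalScheme X := fun x => ⟨inferInstance, by
    haveI := hreg x
    exact Groth.L03.RegularNormal.isIntegrallyClosed _⟩
  haveI : Coh.IsQCoh F := hF.1
  haveI : Coh.IsQCoh F' := hF'.1
  have hLc : Coh.IsCoh L := isCoh_extPow hF ⟨φ, hφ⟩
  have hLc' : Coh.IsCoh L' := isCoh_extPow hF' ⟨φ', hφ'⟩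
  haveI : Coh.IsQCoh L := hLc.1
  haveI : Coh.IsQCoh L' := hLc'.1
  obtain ⟨U, ⟨x₀, hx₀⟩, hUF, hUF'⟩ := hU
  have hηU : genericPoint ↥X ∈ U := eta_mem hx₀
  obtain ⟨bF⟩ := exists_basis_stalk hUF hηU
  obtain ⟨bF'⟩ := exists_basis_stalk hUF' hηU
  let P : X.Modules := (Scheme.Modules.pushforward 𝓓.subschemeι).obj G
  have hexz : ∀ (z : X) (v : F'.presheaf.stalk z), RefHull.stalkMapₗ b z v = 0 →
      ∃ u, RefHull.stalkMapₗ a z u = v := fun z v hv =>
    (ShortComplex.ab_exact_iff _).1 ((Groth.L21.Mod.exact_iff_stalk _).1 hex z) v hv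
  have hsurj : ∀ z : X, Function.Surjective (RefHull.stalkMapₗ b z) :=
    (Groth.L21.Mod.epi_iff_stalk_surjective b).1 hb
  have haη : Function.Bijective (RefHull.stalkMapₗ a (genericPoint ↥X)) := by
    haveI : Subsingleton (P.presheaf.stalk (genericPoint ↥X)) :=
      Groth.L17.ClosedPush.subsingleton_stalk_push 𝓓.subschemeι G (genericPoint_not_mem_range hD)
    have hs : Function.Surjective (RefHull.stalkMapₗ a (genericPoint ↥X)) :=
      fun v => hexz _ v (Subsingleton.elim _ _)
    refine ⟨?_, hs⟩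
    let eb := bF'.equiv bF (Equiv.refl (Fin r))
    haveI : Module.Finite (X.presheaf.stalk (genericPoint ↥X)) (F.presheaf.stalk (genericPoint ↥X)) :=
      Module.Finite.of_basis bF
    have h1 := OrzechProperty.injective_of_surjective_endomorphism
      (eb.toLinearMap.comp (RefHull.stalkMapₗ a (genericPoint ↥X))) (eb.surjective.comp hs)
    exact Function.Injective.of_comp (f := eb) h1
  let ea := LinearEquiv.ofBijective (RefHull.stalkMapₗ a (genericPoint ↥X)) haη
  let bb := bF.map ea
  obtain ⟨V₀, h₀, e, he⟩ := exists_affine_germs (F := F) (x := genericPoint ↥X) fun i => bF i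
  have he' : ∀ i, bb i = F'.presheaf.germ V₀.1 _ h₀ (a.app V₀.1 (e i)) := fun i => by
    show RefHull.stalkMapₗ a (genericPoint ↥X) (bF i) = _
    rw [← he i, RefHull.stalkMapₗ_germ]
  have hω := bijective_smul_omega φ hφ h₀ e bF (fun i => (he i).symm)
  have hω' := bijective_smul_omega φ' hφ' h₀ (fun i => a.app V₀.1 (e i)) bb he'
  generalize hωdef : L.presheaf.germ V₀.1 _ h₀ (Groth.L22.CurveDeg.Det.wedge φ V₀ e) = ω at hω
  generalize hωdef' : L'.presheaf.germ V₀.1 _ h₀ (Groth.L22.CurveDeg.Det.wedge φ' V₀ fun i => a.app V₀.1 (e i)) = ω' at hω'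
  -- the local computation
  have hloc : ∀ z : X, Order.coheight z = 1 → ∃ (l l' : X.functionField) (k : ℕ), l ≠ 0 ∧ l' ≠ 0 ∧
      k ≤ min s r ∧ (z ∉ Set.range 𝓓.subschemeι → k = 0) ∧ Scheme.ord l z = Scheme.ord l' z + k ∧
      ((∃ g : L.presheaf.stalk z, toEta L z g = (l : X.presheaf.stalk (genericPoint ↥X)) • ω) ∧
        ∀ w : L.presheaf.stalk z, ∃ p : X.presheaf.stalk z, toEta L z w =
          (am z p : X.presheaf.stalk (genericPoint ↥X)) • (l : X.presheaf.stalk (genericPoint ↥X)) • ω) ∧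
      ((∃ g : L'.presheaf.stalk z, toEta L' z g = (l' : X.presheaf.stalk (genericPoint ↥X)) • ω') ∧
        ∀ w : L'.presheaf.stalk z, ∃ p : X.presheaf.stalk z, toEta L' z w =
          (am z p : X.presheaf.stalk (genericPoint ↥X)) • (l' : X.presheaf.stalk (genericPoint ↥X)) • ω') := by
    intro z hz
    haveI := Groth.L15.CDivLib.isDVR_of_coheight hX hz
    haveI : Ring.KrullDimLE 1 (X.presheaf.stalk z) := krullDimLE_of_coheight_le hz.le
    obtain ⟨π, hπ⟩ := IsDiscreteValuationRing.exists_irreducible (X.presheaf.stalk z)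
    haveI := finite_stalk hF' z
    letI : Module X.functionField (F'.presheaf.stalk (genericPoint ↥X)) :=
      inferInstanceAs (Module (X.presheaf.stalk (genericPoint ↥X)) (F'.presheaf.stalk (genericPoint ↥X)))
    letI : Module (X.presheaf.stalk z) (F'.presheaf.stalk (genericPoint ↥X)) :=
      Module.compHom (F'.presheaf.stalk (genericPoint ↥X)) (am z)
    haveI : IsScalarTower (X.presheaf.stalk z) X.functionField (F'.presheaf.stalk (genericPoint ↥X)) :=
      IsScalarTower.of_algebraMap_smul fun _ _ => rfl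
    let T : F'.presheaf.stalk z →ₗ[X.presheaf.stalk z] F'.presheaf.stalk (genericPoint ↥X) :=
      { toFun := toEta F' z
        map_add' := map_add _
        map_smul' := fun t v => toEta_smul F' z t v }
    let bK : Module.Basis (Fin r) X.functionField (F'.presheaf.stalk (genericPoint ↥X)) := bb
    let N' := LinearMap.range T
    let N := LinearMap.range (T.comp (RefHull.stalkMapₗ a z))
    have hle : N ≤ N' := LinearMap.range_comp_le_range _ _
    have hfg : N'.FG := by
      rw [show N' = Submodule.map T ⊤ from (Submodule.map_top _).symm]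
      exact Submodule.FG.map T Module.Finite.fg_top
    have hspan : Submodule.span X.functionField (N' : Set (F'.presheaf.stalk (genericPoint ↥X))) = ⊤ := by
      refine Submodule.eq_top_iff'.2 fun v => ?_
      obtain ⟨c, u, hc, hu⟩ := exists_smul_mem_range (F := F') z v
      have hu' : (am z c) • v ∈ Submodule.span X.functionField (N' : Set (F'.presheaf.stalk (genericPoint ↥X))) :=
        Submodule.subset_span ⟨u, hu.symm⟩
      have h1 := Submodule.smul_mem _ (am z c)⁻¹ hu'
      rwa [smul_smul, inv_mul_cancel₀ ((map_ne_zero_iff _ (am_injective z)).2 hc), one_smul] at h1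
    -- the cokernel is killed by the uniformizer and generated by at most `s` elements
    have hker : ∃ (s' : ℕ) (g : Fin s' → F'.presheaf.stalk (genericPoint ↥X)), s' ≤ s ∧
        (z ∉ Set.range 𝓓.subschemeι → s' = 0) ∧ (∀ v ∈ N', π • v ∈ N) ∧
        (∀ i, g i ∈ N') ∧ N' ≤ N ⊔ Submodule.span (X.presheaf.stalk z) (Set.range g) := by
      by_cases hzD : z ∈ Set.range 𝓓.subschemeι
      swap
      · haveI : Subsingleton (P.presheaf.stalk z) :=
          Groth.L17.ClosedPush.subsingleton_stalk_push 𝓓.subschemeι G hzD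
        have hN : N' ≤ N := by
          rintro _ ⟨v, rfl⟩
          obtain ⟨u, hu⟩ := hexz z v (Subsingleton.elim _ _)
          exact ⟨u, congrArg T hu⟩
        exact ⟨0, Fin.elim0, Nat.zero_le _, fun _ => rfl, fun v hv => N.smul_mem _ (hN hv), fun i => i.elim0,
          hN.trans le_sup_left⟩
      obtain rfl := eq_zeta hD hz hzD
      let y := genericPoint ↥𝓓.subscheme
      let c₀ : P.presheaf.stalk (zeta 𝓓) →+ G.presheaf.stalk y := Groth.L17.ClosedPush.c₀ 𝓓.subschemeι G y
      have hcb : Function.Bijective c₀ := Groth.L17.ClosedPush.c₀_bijective 𝓓.subschemeι G y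
      let f : X.presheaf.stalk (zeta 𝓓) →+* 𝓓.subscheme.presheaf.stalk y := Groth.L00.PullStalk.φ 𝓓.subschemeι y
      have hcs : ∀ (t : X.presheaf.stalk (zeta 𝓓)) (p : P.presheaf.stalk (zeta 𝓓)), c₀ (t • p) = f t • c₀ p :=
        Groth.L17.ClosedPush.c₀_smul 𝓓.subschemeι G y
      have hf : Function.Surjective f := Groth.L17.ClosedPush.φ_surjective 𝓓.subschemeι y
      have hf0 : ∀ t, ¬ IsUnit t → f t = 0 := fun t ht => by
        by_contra h
        have hloc : IsLocalHom (𝓓.subschemeι.stalkMap y).hom := 𝓓.subschemeι.toLRSHom.prop y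
        exact ht (hloc.map_nonunit t (IsUnit.mk0 (G₀ := 𝓓.subscheme.functionField) (f t) h))
      obtain ⟨U₁, hyU₁, ⟨i₁⟩⟩ := hG y
      obtain ⟨bG⟩ : Nonempty (Module.Basis (Fin s) (𝓓.subscheme.presheaf.stalk y) (G.presheaf.stalk y)) :=
        exists_basis_stalk_of_iso U₁.ι i₁ (⟨y, hyU₁⟩ : U₁)
      choose v hv using fun i => hsurj (zeta 𝓓) (Function.surjInv hcb.2 (bG i))
      refine ⟨s, fun i => T (v i), le_rfl, fun h => absurd hzD h, ?_, fun i => ⟨_, rfl⟩, ?_⟩
      · rintro _ ⟨w, rfl⟩
        obtain ⟨u, hu⟩ := hexz _ (π • w) (hcb.1 (by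
          rw [map_smul, hcs, hf0 π hπ.not_isUnit, zero_smul]
          exact (map_zero c₀).symm))
        refine ⟨u, ?_⟩
        rw [LinearMap.comp_apply, hu, map_smul]
      · rintro _ ⟨w, rfl⟩
        choose t ht using fun i => hf (bG.repr (c₀ (RefHull.stalkMapₗ b (zeta 𝓓) w)) i)
        obtain ⟨u, hu⟩ := hexz _ (w - ∑ i, t i • v i) (hcb.1 (by
          rw [map_sub, map_sum, map_sub, map_sum, map_zero, sub_eq_zero]
          conv_lhs => rw [← bG.sum_repr (c₀ (RefHull.stalkMapₗ b (zeta 𝓓) w))]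
          refine Finset.sum_congr rfl fun i _ => ?_
          rw [map_smul, hcs, hv i, Function.surjInv_eq hcb.2, ht i]))
        refine Submodule.mem_sup.2 ⟨T (RefHull.stalkMapₗ a (zeta 𝓓) u), ⟨u, rfl⟩, ∑ i, t i • T (v i), ?_, ?_⟩
        · exact Submodule.sum_mem _ fun i _ => Submodule.smul_mem _ _ (Submodule.subset_span ⟨i, rfl⟩)
        · rw [hu, map_sub, map_sum]
          simp only [map_smul]
          exact sub_add_cancel _ _
    obtain ⟨s', g, hs', hs0, hπN, hgN, hg⟩ := hker
    obtain ⟨c, t, k, hc, hcall, htc, htall, hdet, hk, hassoc⟩ :=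
      exists_adapted (R := X.presheaf.stalk z) (K := X.functionField) bK N N' hle hfg hspan hπ hπN g hgN hg
    let D' : X.functionField := (Matrix.of fun i j => bb.repr (c i) j).det
    have hD' : D' ≠ 0 := hdet
    let Dt : X.functionField := am z (∏ i, t i) * D'
    have h2' := exists_gen_image φ' hφ' h₀ (fun i => a.app V₀.1 (e i)) bb he' z c
      (fun j => hc j) (fun w => by
        obtain ⟨m, hm⟩ := hcall (T w) ⟨w, rfl⟩
        exact ⟨m, hm⟩)
    have htc' : ∀ i, ∃ u : F.presheaf.stalk z,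
        ea (toEta F z u) = (am z (t i) : X.presheaf.stalk (genericPoint ↥X)) • c i := fun i => by
      obtain ⟨u, hu⟩ := htc i
      exact ⟨u, (toEta_stalkMapₗ a z u).symm.trans hu⟩
    choose u hu using htc'
    have h2 := exists_gen_image φ hφ h₀ e bF (fun i => (he i).symm) z (fun i => toEta F z (u i))
      (fun j => ⟨_, rfl⟩) (fun w => by
        obtain ⟨m, hm⟩ := htall (T (RefHull.stalkMapₗ a z w)) ⟨w, rfl⟩
        refine ⟨m, ea.injective ?_⟩
        rw [map_sum]
        show RefHull.stalkMapₗ a _ (toEta F z w) = _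
        rw [← toEta_stalkMapₗ]
        refine (hm : toEta F' z (RefHull.stalkMapₗ a z w) = _).trans (Finset.sum_congr rfl fun i _ => ?_)
        rw [map_smul, hu i]
        rfl)
    have hdetF : (Matrix.of fun i j => bF.repr (toEta F z (u i)) j).det =
        (Dt : X.presheaf.stalk (genericPoint ↥X)) := by
      show _ = (am z (∏ i, t i) : X.presheaf.stalk (genericPoint ↥X)) * (Matrix.of fun i j => bb.repr (c i) j).det
      rw [show (am z (∏ i, t i) : X.presheaf.stalk (genericPoint ↥X)) =
        ∏ i, (am z (t i) : X.presheaf.stalk (genericPoint ↥X)) from map_prod _ _ _, ← Matrix.det_mul_column]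
      refine congrArg Matrix.det (Matrix.ext fun i j => ?_)
      simp only [Matrix.of_apply]
      have h5 : bb.repr (ea (toEta F z (u i))) j = bF.repr (toEta F z (u i)) j := by
        simp [bb]
      rw [← h5, hu i, map_smul, Finsupp.smul_apply, smul_eq_mul]
    rw [hdetF, hωdef] at h2
    rw [hωdef'] at h2'
    obtain ⟨uu, huu⟩ := hassoc.symm
    have ht0 : ∏ i, t i ≠ 0 := by
      rw [← huu]
      exact mul_ne_zero (pow_ne_zero _ hπ.ne_zero) uu.ne_zero
    have hamt : am z (∏ i, t i) ≠ 0 := (map_ne_zero_iff _ (am_injective z)).2 ht0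
    refine ⟨Dt, D', k, mul_ne_zero hamt hD', hD', hk.trans (min_le_min hs' le_rfl),
      fun h => Nat.le_zero.1 ((hk.trans (min_le_left _ _)).trans (hs0 h).le), ?_, h2, h2'⟩
    rw [Scheme.ord_mul hamt hD', add_comm]
    refine congrArg (Scheme.ord D' z + ·) ?_
    rw [← huu, map_mul, Scheme.ord_mul ((map_ne_zero_iff _ (am_injective z)).2 (pow_ne_zero _ hπ.ne_zero))
      ((map_ne_zero_iff _ (am_injective z)).2 uu.ne_zero)]
    show Scheme.ord _ z + Scheme.ord _ z = _
    rw [Groth.L15.CDivLib.ord_eq_zero_of_isUnit uu.isUnit, add_zero, Groth.L15.SecOrd.ord_am hz (pow_ne_zero _ hπ.ne_zero),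
      Ring.ord_pow (mem_nonZeroDivisors_of_ne_zero hπ.ne_zero), Ring.ord_of_irreducible hπ, nsmul_one, ENat.toNat_coe]
  choose! l l' k hl0 hl0' hk hk0 hord hlat hlat' using hloc
  let k₀ : ℕ := if Order.coheight (zeta 𝓓) = 1 then k (zeta 𝓓) else 0
  have hd := hasDiv_ddual hX hLc hω l fun z hz => ⟨hl0 z hz, hlat z hz⟩
  have hd' := hasDiv_ddual hX hLc' hω' l' fun z hz => ⟨hl0' z hz, hlat' z hz⟩
  have hR := isRef1_ddual hLc hω
  have hR' := isRef1_ddual hLc' hω'
  have hI : PicF.IsInvertible (RefHull.ddual L) := Groth.L03.RefRegSch.isInvertible_of_rank_one hreg hR.1 hR.2.1 hR.2.2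
  have hI' : PicF.IsInvertible (RefHull.ddual L') :=
    Groth.L03.RefRegSch.isInvertible_of_rank_one hreg hR'.1 hR'.2.1 hR'.2.2
  obtain ⟨hJ, hdJ⟩ := hasDiv_dual_ideal hX hD
  have hJd := isRef1_dual (isRef1_of_isInvertible hJ)
  have hJ' : PicF.IsInvertible (RefHull.dual (ClSub.idealMod 𝓓)) :=
    Groth.L03.RefRegSch.isInvertible_of_rank_one hreg hJd.1 hJd.2.1 hJd.2.2
  have hk₀ : k₀ ≤ min s r := by
    simp only [k₀]
    split_ifs with h
    · exact hk _ h
    · exact Nat.zero_le _
  refine ⟨hI, hI', k₀, hk₀, iso_of_hasDiv hX hR' (isRef1_of_isInvertible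
    (Groth.L18.GenLoc.isInvertible_tensor hI (Groth.L18.Ample.isInvertible_tensorPow hJ' k₀))) hd' ?_⟩
  obtain ⟨σ, hσ, hσd⟩ := hasDiv_tensor hX hI (Groth.L18.Ample.isInvertible_tensorPow hJ' k₀) hd
    (hasDiv_tensorPow hX hJ' hdJ k₀)
  refine ⟨σ, hσ, fun z hz => (hσd z hz).trans ?_⟩
  show -Scheme.ord (l z) z + k₀ • (if z = zeta 𝓓 then (1 : ℤ) else 0) = -Scheme.ord (l' z) z
  rw [nsmul_eq_mul]
  by_cases hzz : z = zeta 𝓓
  · rw [if_pos hzz, hord z hz]
    subst hzz
    simp only [k₀, if_pos hz]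
    ring
  · have h0 : k z = 0 := hk0 z hz fun h => hzz (eq_zeta hD hz h)
    rw [if_neg hzz, hord z hz, h0]
    simp

end Groth.Agent.S16089
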