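
import Groth.Statements.S1609
import Groth.Agent.L22.GeomConn.Irred

set_option autoImplicit false
universe u
open CategoryTheory CategoryTheory.Limits AlgebraicGeometry
open Variety

namespace Groth.Agent.S1609

/-- Geometric irreducibility of a k-scheme can be checked after an arbitrary extension of the base
field. -/
theorem result (k : Type u) [Field k] (X : Scheme.{u}) [X.Over (Spec (CommRingCat.of k))] (k' : Type u) [Field k'] [Algebra k k']
    [GeometricallyIrreducible (Curv2.bcSnd k X k')] : GeometricallyIrreducible (X ↘ (Spec (CommRingCat.of k))) := by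
  let f := X ↘ Spec (CommRingCat.of k)
  obtain ⟨_, _⟩ := Groth.L22.GeomConn.exists_closure (k := k) k'
  haveI h1 : IrreducibleSpace ↥(Limits.pullback (Curv2.bcSnd k X k')
      (Groth.L22.GeomConn.specMap k' (AlgebraicClosure k'))) :=
    AlgebraicGeometry.geometrically_iff_of_isClosedUnderIsomorphisms.mp
      GeometricallyIrreducible.geometrically_irreducibleSpace _ _
  haveI : IrreducibleSpace ↥(FBase.bc f (AlgebraicClosure k')) :=
    (Groth.L22.GeomConn.isPullback_bcMap f k' (AlgebraicClosure k')).isoPullback.hom.homeomorph.irreducibleSpace_iff.mpr h1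
  haveI : IrreducibleSpace ↥(FBase.bc f (AlgebraicClosure k)) :=
    Function.Surjective.irreducibleSpace (f := Groth.L22.GeomConn.bcMap f (AlgebraicClosure k) (AlgebraicClosure k'))
      (Scheme.Hom.continuous _) (Scheme.Hom.surjective _)
  exact Groth.L22.GeomConn.geometricallyIrreducible_of_sepClosed f (AlgebraicClosure k)

end Groth.Agent.S1609
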