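import Groth.Statements.S16092
import Groth.Agent.L15.Ref.Tensor
import Groth.Agent.L18.AmpleOps
-- import your own Groth.Agent.* helpers here

set_option autoImplicit false
universe u
open CategoryTheory CategoryTheory.Limits AlgebraicGeometry TopologicalSpace
open SDiv

namespace Groth.Agent.S16092

/-- Let X be an integral scheme that is locally Noetherian, with generic point η, let L and N be
invertible O_X-modules and s ∈ L_η, t ∈ N_η nonzero rational sections, with orders ord_{x,L}(s),
ord_{x,N}(t) along the prime divisors, i.e. at the points x with dim O_{X,x} = 1, taken with respect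
to generators of the stalks. Then L ⊗_{O_X} N has a nonzero rational section w with ord_{x,L ⊗ N}(w)
= ord_{x,L}(s) + ord_{x,N}(t) at every such x; hence the Weil divisor class of L ⊗ N is the sum of
the classes of L and N. The published statement names w as the product s·t; here only the existence
of such a w is asserted. -/
theorem result (X : Scheme.{u}) [IsIntegral X] [IsLocallyNoetherian X] (L N : X.Modules)
    (hL : PicF.IsInvertible L) (hN : PicF.IsInvertible N) (s : Cyc.secFibre L (genericPoint ↥X)) (hs : s ≠ 0)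
    (t : Cyc.secFibre N (genericPoint ↥X)) (ht : t ≠ 0) :
    ∃ w : Cyc.secFibre (CohB1.tensorMod L N) (genericPoint ↥X), w ≠ 0 ∧
      ∀ (x : ↥X), ringKrullDim ↑(X.presheaf.stalk x) = 1 →
        Cyc.secOrdAt (CohB1.tensorMod L N) (genericPoint ↥X) x ((genericPoint_spec ↥X).specializes (Set.mem_univ x)) w =
          Cyc.secOrdAt L (genericPoint ↥X) x ((genericPoint_spec ↥X).specializes (Set.mem_univ x)) s +
            Cyc.secOrdAt N (genericPoint ↥X) x ((genericPoint_spec ↥X).specializes (Set.mem_univ x)) t := by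
  classical
  have hT : PicF.IsInvertible (CohB1.tensorMod L N) := Groth.L18.GenLoc.isInvertible_of_frames fun x => by
    obtain ⟨W, e, hxW, he⟩ := Groth.L18.Frame.exists_frame hL x
    obtain ⟨W', e', hxW', he'⟩ := Groth.L18.Frame.exists_frame hN x
    exact ⟨W ⊓ W', _, ⟨hxW, hxW'⟩, Groth.L18.GenLoc.isFrame_tens (he.mono inf_le_left) (he'.mono inf_le_right)⟩
  have hgen : ∀ {F : X.Modules}, PicF.IsInvertible F → RefHull.GenInvertible F := fun hF =>
    ⟨⊤, by simp, Groth.L18.Ample.isInvertible_restrict hF ⊤⟩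
  have gL := hgen hL
  have gN := hgen hN
  have gT := hgen hT
  obtain ⟨s', rfl⟩ := Submodule.mkQ_surjective _ s
  obtain ⟨t', rfl⟩ := Submodule.mkQ_surjective _ t
  have hs' : s' ≠ 0 := fun h => hs (by rw [h, map_zero])
  have ht' : t' ≠ 0 := fun h => ht (by rw [h, map_zero])
  have bst := Groth.L15.Ref.bijective_smul_tst (Groth.L15.Ref.bijective_smul_of_ne_zero gL hs')
    (Groth.L15.Ref.bijective_smul_of_ne_zero gN ht')
  have hw : Groth.L15.Ref.tst L N (genericPoint ↥X) s' t' ≠ 0 := fun h => by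
    have h1 := bst.1 (show (fun r => r • Groth.L15.Ref.tst L N (genericPoint ↥X) s' t') (1 : X.presheaf.stalk (genericPoint ↥X)) =
      (fun r => r • Groth.L15.Ref.tst L N (genericPoint ↥X) s' t') 0 by simp only [h, smul_zero])
    exact one_ne_zero (α := X.functionField) h1
  refine ⟨Submodule.Quotient.mk (Groth.L15.Ref.tst L N (genericPoint ↥X) s' t'),
    fun h => hw ((Groth.L15.SecOrd.mk_bijective _).1 (h.trans (Submodule.Quotient.mk_zero _).symm)), fun x hx => ?_⟩
  rw [Groth.L15.Ref.coheight_eq_one_iff] at hx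
  have gen : ∀ {F : X.Modules}, PicF.IsInvertible F → ∃ a : F.presheaf.stalk x,
      Submodule.span (X.presheaf.stalk x) {a} = ⊤ ∧ Groth.L15.Ref.toEta F x a ≠ 0 := fun {F} hF => by
    obtain ⟨W, e, hxW, he⟩ := Groth.L18.Frame.exists_frame hF x
    refine ⟨F.presheaf.germ W x hxW e, Submodule.eq_top_iff'.2 fun v => ?_, fun h => ?_⟩
    · obtain ⟨r, hr⟩ := Groth.L15.SecOrd.exists_smul_germ he hxW v
      exact Submodule.mem_span_singleton.2 ⟨r, hr⟩
    · rw [Groth.L15.Ref.toEta_germ] at h
      exact one_ne_zero (α := X.functionField) (Groth.L15.SecOrd.smul_germ_injective he (Groth.L15.Ref.eta_mem hxW)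
        ((congrArg ((1 : X.presheaf.stalk (genericPoint ↥X)) • ·) h).trans
          ((smul_zero _).trans ((congrArg ((0 : X.presheaf.stalk (genericPoint ↥X)) • ·) h).trans (smul_zero _)).symm)))
  obtain ⟨a, ha, ha0⟩ := gen hL
  obtain ⟨b, hb, hb0⟩ := gen hN
  obtain ⟨φ, hφ⟩ := Groth.L15.Ref.exists_coeff gL ha0 s'
  obtain ⟨ρ, hρ⟩ := Groth.L15.Ref.exists_coeff gN hb0 t'
  have hφ0 : φ ≠ 0 := fun h => hs' (by rw [hφ, h]; exact zero_smul _ _)
  have hρ0 : ρ ≠ 0 := fun h => ht' (by rw [hρ, h]; exact zero_smul _ _)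
  have hwg : Groth.L15.Ref.tst L N (genericPoint ↥X) s' t' =
      ((φ * ρ : X.functionField) : X.presheaf.stalk (genericPoint ↥X)) •
        Groth.L15.Ref.toEta (CohB1.tensorMod L N) x (Groth.L15.Ref.tst L N x a b) := by
    rw [Groth.L15.Ref.toEta_tst, hφ, hρ, map_smul, map_smul, LinearMap.smul_apply, smul_smul]
    exact congrArg (fun c : X.presheaf.stalk (genericPoint ↥X) => c • _) (mul_comm (ρ : X.functionField) φ)
  have hg0 : Groth.L15.Ref.toEta (CohB1.tensorMod L N) x (Groth.L15.Ref.tst L N x a b) ≠ 0 := fun h =>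
    hw (by rw [hwg, h, smul_zero])
  rw [hwg, Groth.L15.Ref.secOrdAt_eq gT hx _ (Groth.L15.Ref.span_tst ha hb) hg0 (mul_ne_zero hφ0 hρ0),
    Scheme.ord_mul hφ0 hρ0, hφ, hρ]
  show Scheme.ord φ x + Scheme.ord ρ x = Cyc.secOrdAt L _ x _ (Submodule.Quotient.mk _) + Cyc.secOrdAt N _ x _ (Submodule.Quotient.mk _)
  rw [Groth.L15.Ref.secOrdAt_eq gL hx _ ha ha0 hφ0, Groth.L15.Ref.secOrdAt_eq gN hx _ hb hb0 hρ0]

end Groth.Agent.S16092
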