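
import Groth.Statements.S16097
import Groth.Agent.L22.BM.Diff

set_option autoImplicit false
universe u
open CategoryTheory AlgebraicGeometry Opposite
open BMCoh

namespace Groth.Agent.S16097

/-- Let T be a pre-theory (the groups, proper push-forwards and residue maps of a twisted Borel–Moore
cohomology theory, with their conditions) with coefficients in A on a constructible class V of
Noetherian schemes. Assume moreover that the residue maps of T are compatible with replacing the
closed part of a decomposition by a closed subscheme with the same support: whenever D and D'' are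
decompositions of one object whose open parts are identified over it (gU) and k is a surjective
closed immersion from the closed part of D'' to that of D over it, the residue map of D'' followed
by push-forward along k is the residue map of D (hypothesis hred. The published lemma states neither
this hypothesis nor the properness of φ below, that is the finiteness of the normalisation map,
which it uses through the push-forward along that map; it reads the functoriality of the Gysin
sequences under a proper morphism f, asked of such a theory with closed part Z' = f⁻¹(Z), as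
including this case, while the conditions of a pre-theory here ask that functoriality only when the
closed parts form a cartesian square). Let X be an object, w a point of X of codimension q, Y an
integral object identified by e with the normalisation of the reduced closure of w, φ : Y → X the
normalisation map followed by the inclusion of that closure, assumed proper, and η the generic point
of Y, of codimension 0. Let P be push-forward data for X at level q (maps ι_x : H^i(x, M(n)) →
H^{i+2q}(F_qX, M(n+q)) for the points x of codimension q, agreeing with proper push-forward), Q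
residue data for X at level q (maps ∂_x : H^{i₁}(F_qX, M(n₁)) → H^{i₂}(x, M(n₂)) for the points x of
codimension q + 1, agreeing with the residue maps of decompositions, finitely supported values), L a
push-forward datum of groups of points along φ from η to w, P' and Q' the corresponding data for Y
at level 0, t a map from the points of codimension 1 of Y to the points of codimension q + 1 of X,
and F y, for each point y of codimension 1 of Y, a push-forward datum of groups of points along φ
from y to t y (in particular t y = φ(y)). The bidegrees (i₁, n₁) = (i + 2q, n + q), (i₂, n₂) = (i₁ +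
1 − 2(q+1), n₁ − (q+1)) = (i₃ + 1 − 2, n₃ − 1) and (i₃, n₃) = (i, n) are integer variables carried
with these equations. Then for every a ∈ H^i(η, M(n)), applying L, then ι_w, then the total residue
map ∂ of X at level q gives the same element of ⊕_x H^{i₂}(x, M(n₂)) (x of codimension q + 1 in X)
as applying ι'_η, then the total residue map ∂' of Y at level 0, then the sum map ⊕_y H^{i₂}(y,
M(n₂)) → ⊕_x H^{i₂}(x, M(n₂)) that sends the summand of y into the summand of t y by F y. (Stated
for a pre-theory: only push-forwards and residue maps with their conditions enter.) -/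
theorem result
    (V : ObjectProperty Scheme.{u}) [BMCoh.IsConstructible V] (R : Type u) [CommRing R]
    (A : BMCoh.Coefs R) (T : BMCoh.PreTheory V R A)
    (hred : ∀ (S : BMCoh.Obj V) (D D'' : BMCoh.Decomp S) (gU : D''.U ⟶ D.U)
      (k : D''.Z.scheme ⟶ D.Z.scheme) [IsClosedImmersion k] [AlgebraicGeometry.Surjective k],
      gU ≫ D.j = D''.j → k ≫ D.i = D''.i →
      ∀ (M : A.Cat) (i n i' n' : ℤ) (hi : i' = i + 1 - 2 * D.codim) (hn : n' = n - D.codim)
        (hi'' : i' = i + 1 - 2 * D''.codim) (hn'' : n' = n - D''.codim)
        (hk : i' = i' + 2 * BMCoh.relCodim D''.Z.scheme D.Z.scheme)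
        (hk' : n' = n' + BMCoh.relCodim D''.Z.scheme D.Z.scheme),
      T.pull gU M i n ≫ T.res D'' M i n i' n' hi'' hn'' ≫ T.push k M i' n' i' n' hk hk' =
        T.res D M i n i' n' hi hn)
    (X : BMCoh.Obj V) (q : ℕ) (w : X.cdPt q)
    [IsIntegral (X.ptSub w.1).scheme]
    [QuasiCompact ((X.ptSub w.1).scheme.fromSpecStalk (genericPoint (X.ptSub w.1).scheme))]
    [QuasiSeparated ((X.ptSub w.1).scheme.fromSpecStalk (genericPoint (X.ptSub w.1).scheme))]
    (Y : BMCoh.Obj V) [IsIntegral Y.scheme] (e : Y.scheme ≅ Curv2.normalization (X.ptSub w.1).scheme)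
    (φ : Y.scheme ⟶ X.scheme) [IsProper φ]
    (hφ : φ = e.hom ≫ Curv2.normalizationι (X.ptSub w.1).scheme ≫ X.ptSubι w.1)
    (hη : WeilCoh.codim Y.scheme (genericPoint Y.scheme) = 0)
    (P : T.PushData X q) (Q : T.ResData X q) (L : T.PtPush φ (genericPoint Y.scheme) w.1)
    (P' : T.PushData Y 0) (Q' : T.ResData Y 0) (t : Y.cdPt 1 → X.cdPt (q + 1))
    (F : ∀ y : Y.cdPt 1, T.PtPush φ y.1 (t y).1)
    (M : A.Cat) (i n i₁ n₁ i₂ n₂ i₃ n₃ : ℤ)
    (h1 : i₁ = i + 2 * (q : ℤ)) (h1' : n₁ = n + (q : ℤ))
    (h2 : i₂ = i₁ + 1 - 2 * ((q : ℤ) + 1)) (h2' : n₂ = n₁ - ((q : ℤ) + 1))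
    (h3 : i₃ = i + 2 * ((0 : ℕ) : ℤ)) (h3' : n₃ = n + ((0 : ℕ) : ℤ))
    (h4 : i₂ = i₃ + 1 - 2 * (((0 : ℕ) : ℤ) + 1)) (h4' : n₂ = n₃ - (((0 : ℕ) : ℤ) + 1))
    (a : T.ptGp Y (genericPoint Y.scheme) M i n) :
    (Q.tot M i₁ n₁ i₂ n₂ h2 h2').hom ((P.cpt w M i n i₁ n₁ h1 h1').hom ((L.cpt M i n).hom a)) =
      (BMCoh.PreTheory.PtPush.famTot t F M i₂ n₂).hom
        ((Q'.tot M i₃ n₃ i₂ n₂ h4 h4').hom
          ((P'.cpt ⟨genericPoint Y.scheme, hη⟩ M i n i₃ n₃ h3 h3').hom a)) := by
  exact Groth.L22.BM.first_differential (fun S D D'' gU k => hred S D D'' gU k) w φ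
    (fun y => (genericPoint_spec Y.scheme).specializes trivial) hη P Q L P' Q' t F
    i₁ n₁ i₂ n₂ i₃ n₃ h1 h1' h2 h2' h3 h3' h4 h4' a

end Groth.Agent.S16097
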