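import Groth.Statements.S16098
import Groth.Agent.L26.FF.RR

set_option autoImplicit false
universe u
open AdFn

namespace Groth.Agent.S16098

example : True := trivial

theorem exists_sub_mem_Ov {k K : Type u} [Field k] [Field K] [Algebra k K] (v : FunFld.Place k K) (x : AdFn.Kv v) :
    ∃ y : K, x - AdFn.toKv v y ∈ AdFn.Ov v := by
  have ho : IsOpen ((fun z : AdFn.Kv v => x - z) ⁻¹' (AdFn.Ov v : Set (AdFn.Kv v))) :=
    (AdFn.isOpen_Ov v).preimage (continuous_const.sub continuous_id)
  obtain ⟨z, hz⟩ := UniformSpace.Completion.denseRange_coe.exists_mem_open ho ⟨x, by simp [AdFn.mem_Ov]⟩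
  refine ⟨z.ofVal, ?_⟩
  rw [AdFn.toKv_apply]
  exact hz


/-- Let `K/k` be a function field of one variable (every element having finitely many poles, so that the
diagonal `K → A_K` exists), `A_K = ∏'_v (K_v, O_v)` its adele ring over all places, and `S` a
nonempty set of places. (1) For every adele `a` some `f ∈ K` has `a_v - f ∈ O_v` at every place `v ∉
S`: `A_K` is the sum of the principal adeles and the adeles integral outside `S`. (2) An adele `b`
with `b_v = 0` for `v ∉ S` is a principal adele plus an everywhere-integral adele exactly when some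
`S`-integer `f ∈ K` has `b_v - f ∈ O_v` for every `v ∈ S`. (The published statement is for a curve
over an algebraically closed field, possibly singular; here it is stated for the places of a
function field `K/k` of one variable over any field `k` algebraically closed in `K`.) -/
theorem result (k K : Type u) [Field k] [Field K]
    [Algebra k K] (hK : FunFld.IsFunctionField k K) [AdFn.HasFinitePoles k K]
    (S : Set (FunFld.Place k K)) (hS : S.Nonempty) :
    (∀ a : AdFn.AdeleRing k K, ∃ f : K, ∀ v : FunFld.Place k K, v ∉ S →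
        AdFn.AdeleRing.proj v (a - AdFn.AdeleRing.diag f) ∈ AdFn.Ov v) ∧
    (∀ b : AdFn.AdeleRing k K, (∀ v : FunFld.Place k K, v ∉ S → AdFn.AdeleRing.proj v b = 0) →
        ((∃ f : K, ∀ v : FunFld.Place k K, AdFn.AdeleRing.proj v (b - AdFn.AdeleRing.diag f) ∈ AdFn.Ov v) ↔
          ∃ f ∈ AdFn.SInt S, ∀ v ∈ S, AdFn.AdeleRing.proj v b - AdFn.toKv v f ∈ AdFn.Ov v)) := by
  classical
  constructor
  · intro a
    obtain ⟨P, hP⟩ := hS
    choose y hy using fun v => exists_sub_mem_Ov v (AdFn.AdeleRing.proj v a)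
    have ha : {v : FunFld.Place k K | ¬ AdFn.AdeleRing.proj v a ∈ AdFn.Ov v}.Finite :=
      Filter.eventually_cofinite.1 a.2
    obtain ⟨f, hf1, hf2⟩ := Groth.Agent.FF.strong_approximation hK P (ha.toFinset.erase P)
      (Finset.notMem_erase P _) y 0
    refine ⟨f, fun v hv => ?_⟩
    have hvP : v ≠ P := fun h => hv (h ▸ hP)
    rw [map_sub, AdFn.AdeleRing.proj_diag]
    by_cases h : AdFn.AdeleRing.proj v a ∈ AdFn.Ov v
    · refine sub_mem h ((AdFn.toKv_mem_Ov v f).2 (hf2 v hvP fun h' => ?_))
      exact (ha.mem_toFinset.1 (Finset.mem_of_mem_erase h')) h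
    · have h1 := hf1 v (Finset.mem_erase.2 ⟨hvP, ha.mem_toFinset.2 h⟩)
      have h2 : AdFn.toKv v (f - y v) ∈ AdFn.Ov v := (AdFn.toKv_mem_Ov v _).2 (by rw [h1]; simp)
      have h3 := sub_mem (hy v) h2
      rwa [map_sub, sub_sub, add_sub_cancel] at h3
  · intro b hb
    constructor
    · rintro ⟨f, hf⟩
      refine ⟨f, fun v hv => (AdFn.toKv_mem_Ov v f).1 ?_, fun v _ => ?_⟩
      · have h := hf v
        rw [map_sub, AdFn.AdeleRing.proj_diag, hb v hv, zero_sub] at h
        simpa using neg_mem h
      · have h := hf v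
        rwa [map_sub, AdFn.AdeleRing.proj_diag] at h
    · rintro ⟨f, hf, hfS⟩
      refine ⟨f, fun v => ?_⟩
      rw [map_sub, AdFn.AdeleRing.proj_diag]
      by_cases hv : v ∈ S
      · exact hfS v hv
      · rw [hb v hv, zero_sub]
        exact neg_mem ((AdFn.toKv_mem_Ov v f).2 (hf v hv))


end Groth.Agent.S16098
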