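import Groth.Statements.S16099
import Groth.Agent.L26.FF.RR

set_option autoImplicit false
universe u
open FunFld

namespace Groth.Agent.S16099

open WithZero Groth.Agent.FF

/-- For a function field `K/k` of one variable of genus `g` and any place `P`, the `k`-space `K /
(O_{\{P\}} + O_P)` is finite-dimensional of dimension `g` (the number of Weierstrass gaps when `P`
is rational), where `O_{\{P\}}` is the ring of elements of `K` integral at every place other than
`P` and `O_P` is the valuation ring of `P` (written as the elements integral at every place outside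
the complement of `\{P\}`). (The published example is for a curve over an algebraically closed field
and is stated with completions at `P`; this is the equivalent form inside `K`, over any field `k`
algebraically closed in `K`.) -/
theorem result (k K : Type u) [Field k] [Field K]
    [Algebra k K] (hK : FunFld.IsFunctionField k K) (P : FunFld.Place k K) :
    FiniteDimensional k (K ⧸ (Subalgebra.toSubmodule (AdFn.SInt ({P} : Set (FunFld.Place k K))) ⊔
        Subalgebra.toSubmodule (AdFn.SInt (({P} : Set (FunFld.Place k K))ᶜ)))) ∧
    Module.finrank k (K ⧸ (Subalgebra.toSubmodule (AdFn.SInt ({P} : Set (FunFld.Place k K))) ⊔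
        Subalgebra.toSubmodule (AdFn.SInt (({P} : Set (FunFld.Place k K))ᶜ)))) = FunFld.genus k K := by
  classical
  obtain ⟨hfin, hrank⟩ := adele_quotient hK (0 : FunFld.Divisor k K)
  rw [delta_zero hK, sub_zero] at hrank
  have hsingle : ∀ x : K, (fun Q => if Q = P then x else 0 : FunFld.Place k K → K) ∈ FunFld.adele k K := fun x =>
    Filter.eventually_cofinite.2 ((Set.finite_singleton P).subset fun Q hQ => by
      by_contra h
      exact hQ (by simp [show ¬ Q = P from h]))
  let ι : K →ₗ[k] FunFld.adele k K :=
    { toFun := fun x => ⟨fun Q => if Q = P then x else 0, hsingle x⟩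
      map_add' := fun x y => Subtype.ext (funext fun Q => by
        show (if Q = P then x + y else 0) = (if Q = P then x else 0) + (if Q = P then y else 0)
        split_ifs <;> simp)
      map_smul' := fun c x => Subtype.ext (funext fun Q => by
        show (if Q = P then c • x else 0) = c • (if Q = P then x else 0)
        split_ifs <;> simp) }
  let f := (FunFld.ADK (0 : FunFld.Divisor k K)).mkQ.comp ι
  set W := Subalgebra.toSubmodule (AdFn.SInt ({P} : Set (FunFld.Place k K))) ⊔
    Subalgebra.toSubmodule (AdFn.SInt (({P} : Set (FunFld.Place k K))ᶜ)) with hW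
  have hker : LinearMap.ker f = W := by
    ext x
    rw [LinearMap.mem_ker, LinearMap.comp_apply, Submodule.mkQ_apply, Submodule.Quotient.mk_eq_zero,
      FunFld.ADK, Submodule.mem_comap, Submodule.coe_subtype, hW, Submodule.mem_sup, Submodule.mem_sup]
    constructor
    · rintro ⟨a, ha, _, ⟨z, rfl⟩, haz⟩
      refine ⟨z, fun Q hQ => ?_, x - z, fun Q hQ => ?_, by ring⟩
      · have h1 := congrFun haz Q
        simp only [Pi.add_apply, diag_apply, ι, LinearMap.coe_mk, AddHom.coe_mk, if_neg (show ¬ Q = P from hQ)] at h1
        have h2 := ha Q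
        rw [eq_neg_of_add_eq_zero_left h1, Valuation.map_neg, Finsupp.zero_apply, exp_zero] at h2
        exact h2
      · obtain rfl : Q = P := by simpa using hQ
        have h1 := congrFun haz Q
        simp only [Pi.add_apply, diag_apply, ι, LinearMap.coe_mk, AddHom.coe_mk, if_true] at h1
        have h2 := ha Q
        rw [eq_sub_of_add_eq h1, Finsupp.zero_apply, exp_zero] at h2
        exact h2
    · rintro ⟨z, hz, w, hw, rfl⟩
      refine ⟨fun Q => (if Q = P then w else -z), fun Q => ?_, _, ⟨z, rfl⟩, funext fun Q => ?_⟩
      · rw [Finsupp.zero_apply, exp_zero]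
        show Q.1 (if Q = P then w else -z) ≤ 1
        split_ifs with h
        · exact hw Q (by simp [h])
        · rw [Valuation.map_neg]; exact hz Q (by simp [h])
      · simp only [Pi.add_apply, diag_apply, ι, LinearMap.coe_mk, AddHom.coe_mk]
        split_ifs <;> ring
  have hsurj : LinearMap.range f = ⊤ := by
    refine LinearMap.range_eq_top.2 fun q => ?_
    obtain ⟨a, rfl⟩ := Submodule.mkQ_surjective _ q
    have ha : {Q : FunFld.Place k K | ¬ Q.1 ((a : FunFld.Place k K → K) Q) ≤ 1}.Finite := Filter.eventually_cofinite.1 a.2
    obtain ⟨y, hy1, hy2⟩ := strong_approximation hK P (ha.toFinset.erase P) (Finset.notMem_erase P _)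
      (a : FunFld.Place k K → K) 0
    refine ⟨(a : FunFld.Place k K → K) P - y, ?_⟩
    rw [LinearMap.comp_apply, Submodule.mkQ_apply, Submodule.mkQ_apply, Submodule.Quotient.eq, FunFld.ADK,
      Submodule.mem_comap, Submodule.coe_subtype, Submodule.mem_sup]
    refine ⟨fun Q => (if Q = P then 0 else y - (a : FunFld.Place k K → K) Q), fun Q => ?_, _, ⟨-y, rfl⟩, funext fun Q => ?_⟩
    · rw [Finsupp.zero_apply, exp_zero]
      show Q.1 (if Q = P then 0 else y - (a : FunFld.Place k K → K) Q) ≤ 1
      split_ifs with h
      · simp
      by_cases hQ : Q ∈ ha.toFinset.erase P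
      · exact (hy1 Q hQ).le.trans (by simp)
      · have h2 := hy2 Q h hQ
        simp only [Finset.mem_erase, Set.Finite.mem_toFinset, Set.mem_ofPred_eq, not_and, not_not] at hQ
        exact Q.1.map_sub_le h2 (hQ h)
    · simp only [Pi.add_apply, diag_apply, Submodule.coe_sub, Pi.sub_apply, ι, LinearMap.coe_mk, AddHom.coe_mk]
      split_ifs with h
      · subst h; ring
      · ring
  let e : (K ⧸ W) ≃ₗ[k] (FunFld.adele k K ⧸ FunFld.ADK (0 : FunFld.Divisor k K)) :=
    (Submodule.quotEquivOfEq _ _ hker.symm).trans (f.quotKerEquivOfSurjective (LinearMap.range_eq_top.1 hsurj))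
  refine ⟨Module.Finite.equiv e.symm, ?_⟩
  have h := e.finrank_eq
  omega

end Groth.Agent.S16099
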