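import Groth.Statements.S9634
import Groth.Agent.L03.GeomReduced2
import Mathlib.Tactic.TFAE

set_option autoImplicit false
universe u
open CAlg

namespace Groth.Agent.S9634

open TensorProduct in
/-- (1) ⇔ (4) ⇔ (5): for a field k and a k-algebra S the following are equivalent: (1) the ring k' ⊗_k S
is reduced whenever k'/k is a finite purely inseparable field extension; (4) S is geometrically
reduced in Mathlib's sense, which over a field amounts to k̄ ⊗_k S being reduced for an algebraic
closure k̄; (5) K ⊗_k S is reduced for all field extensions K/k. In (1) and (5) the test fields
range over field extensions in the universe of k; this is equivalent to the unrestricted notion,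
since an algebraic closure of k suffices as a test. -/
theorem result {k S : Type u} [Field k] [CommRing S] [Algebra k S] :
    [∀ (k' : Type u) [Field k'] [Algebra k k'] [Module.Finite k k'] [IsPurelyInseparable k k'], IsReduced (k' ⊗[k] S),
      Algebra.IsGeometricallyReduced k S,
      ∀ (K : Type u) [Field K] [Algebra k K], IsReduced (K ⊗[k] S)].TFAE := by
  tfae_have 1 → 2 := fun h => Groth.L03.GeomReduced2.isGeometricallyReduced_of_purelyInseparable k S h
  tfae_have 2 → 3 := fun h K _ _ => Groth.L03.GeomReduced2.isReduced_of_isGeometricallyReduced K
  tfae_have 3 → 1 := fun h k' _ _ _ _ => h k'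
  tfae_finish

end Groth.Agent.S9634
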