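import Groth.Statements.S1610
import Groth.Agent.L07.FieldStalk
import Groth.Agent.S9634
import Mathlib.RingTheory.LocalProperties.Reduced

set_option autoImplicit false
set_option maxSynthPendingDepth 3
set_option synthInstance.maxHeartbeats 400000
set_option backward.isDefEq.respectTransparency false
set_option backward.isDefEq.respectTransparency.types false
set_option linter.style.haveILetI false
universe u
open CategoryTheory CategoryTheory.Limits AlgebraicGeometry
open Variety

open scoped TensorProduct
attribute [local instance] Curv2.stalkAlgebra
namespace Groth.Agent.S1610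

/-- Let k have characteristic p > 0, X a scheme over k and x a point. Then X is geometrically reduced at
x if and only if for every finite purely inseparable extension k' of k and every point x' of X_{k'}
over x, the local ring of X_{k'} at x' is reduced. -/
theorem result (k : Type u) [Field k] (p : ℕ) [Fact p.Prime] [CharP k p]
    (X : Scheme.{u}) [X.Over (Spec (CommRingCat.of k))] (x : X) :
    Curv2.IsGeomReducedAt k X x ↔
      ∀ (k' : Type u) [Field k'] [Algebra k k'] [FiniteDimensional k k'] [IsPurelyInseparable k k']
        (x' : Curv2.bc k X k'), Curv2.bcFst k X k' x' = x → IsReduced ((Curv2.bc k X k').presheaf.stalk x') := by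
  constructor
  · intro h k' _ _ _ _
    exact h k'
  · intro h K _ _ x' hx'
    let O := X.presheaf.stalk x
    have h0 : ∀ (k' : Type u) [Field k'] [Algebra k k'] [Module.Finite k k'] [IsPurelyInseparable k k'],
        _root_.IsReduced (k' ⊗[k] O) := by
      intro k' _ _ _ _
      haveI : Algebra.IsIntegral k k' := Algebra.IsIntegral.of_finite k k'
      refine isReduced_ofLocalizationMaximal (k' ⊗[k] O) fun M hM => ?_
      obtain ⟨z, hz, ⟨e⟩⟩ := Groth.L07.FieldStalk.exists_point_of_prime k X x k' ⟨M, hM.isPrime⟩
        (Groth.L07.FieldStalk.comap_eq_of_isMaximal k k' M)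
      haveI := h k' z hz
      exact isReduced_of_injective e.toRingHom e.injective
    have hallK : ∀ (K : Type u) [Field K] [Algebra k K], _root_.IsReduced (K ⊗[k] O) :=
      (List.TFAE.out (Groth.Agent.S9634.result (k := k) (S := O)) 0 2 rfl rfl).mp h0
    haveI := hallK K
    obtain ⟨Q, -, ⟨e⟩⟩ := Groth.L07.FieldStalk.exists_point_over k X x K x' hx'
    exact isReduced_of_injective e.symm.toRingHom e.symm.injective

end Groth.Agent.S1610
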