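import Groth.Statements.S16100
import Groth.Agent.S16099

set_option autoImplicit false
universe u
open AdFn

namespace Groth.Agent.S16100

example : True := trivial

theorem exists_sub_mem_Ov {k K : Type u} [Field k] [Field K] [Algebra k K] (v : FunFld.Place k K) (x : AdFn.Kv v) :
    ∃ y : K, x - AdFn.toKv v y ∈ AdFn.Ov v := by
  have ho : IsOpen ((fun z : AdFn.Kv v => x - z) ⁻¹' (AdFn.Ov v : Set (AdFn.Kv v))) :=
    (AdFn.isOpen_Ov v).preimage (continuous_const.sub continuous_id)
  obtain ⟨z, hz⟩ := UniformSpace.Completion.denseRange_coe.exists_mem_open ho ⟨x, by simp [AdFn.mem_Ov]⟩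
  refine ⟨z.ofVal, ?_⟩
  rw [AdFn.toKv_apply]
  exact hz


/-- For a function field `K/k` of one variable of genus `g` and any place `P` with completion `K_P` and
valuation ring `O_P ⊆ K_P`, the `k`-space `K_P / (O_{\{P\}} + O_P)`, where `O_{\{P\}} ⊆ K ⊆ K_P` is
the ring of elements of `K` integral at every place other than `P`, is finite-dimensional of
dimension `g` (the number of Weierstrass gaps when `P` is rational). (The published example is for a
curve over an algebraically closed field; here any field `k` algebraically closed in `K` and any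
place `P` are allowed.) -/
theorem result (k K : Type u) [Field k] [Field K]
    [Algebra k K] (hK : FunFld.IsFunctionField k K) (P : FunFld.Place k K) :
    FiniteDimensional k (AdFn.Kv P ⧸
        (Subalgebra.toSubmodule ((AdFn.SInt ({P} : Set (FunFld.Place k K))).map
            (IsScalarTower.toAlgHom k K (AdFn.Kv P))) ⊔
          Submodule.span k (AdFn.Ov P : Set (AdFn.Kv P)))) ∧
    Module.finrank k (AdFn.Kv P ⧸
        (Subalgebra.toSubmodule ((AdFn.SInt ({P} : Set (FunFld.Place k K))).map
            (IsScalarTower.toAlgHom k K (AdFn.Kv P))) ⊔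
          Submodule.span k (AdFn.Ov P : Set (AdFn.Kv P)))) = FunFld.genus k K := by
  classical
  obtain ⟨h1, h2⟩ := Groth.Agent.S16099.result k K hK P
  set W := Subalgebra.toSubmodule (AdFn.SInt ({P} : Set (FunFld.Place k K))) ⊔
    Subalgebra.toSubmodule (AdFn.SInt (({P} : Set (FunFld.Place k K))ᶜ)) with hW
  set W' := Subalgebra.toSubmodule ((AdFn.SInt ({P} : Set (FunFld.Place k K))).map
      (IsScalarTower.toAlgHom k K (AdFn.Kv P))) ⊔ Submodule.span k (AdFn.Ov P : Set (AdFn.Kv P)) with hW'
  have hspan : ∀ w ∈ Submodule.span k (AdFn.Ov P : Set (AdFn.Kv P)), w ∈ AdFn.Ov P := by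
    intro w hw
    induction hw using Submodule.span_induction with
    | mem z hz => exact hz
    | zero => exact zero_mem _
    | add a b _ _ ha hb => exact add_mem ha hb
    | smul c a _ ha =>
      rw [Algebra.smul_def, IsScalarTower.algebraMap_apply k K (AdFn.Kv P)]
      exact mul_mem ((AdFn.toKv_mem_Ov P _).2 (P.2.1 c)) ha
  let φ : K →ₗ[k] (AdFn.Kv P ⧸ W') := W'.mkQ ∘ₗ (IsScalarTower.toAlgHom k K (AdFn.Kv P)).toLinearMap
  have hsurj : Function.Surjective φ := fun q => by
    obtain ⟨x, rfl⟩ := Submodule.mkQ_surjective _ q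
    obtain ⟨y, hy⟩ := exists_sub_mem_Ov P x
    refine ⟨y, ((Submodule.Quotient.eq W').2 (?_ : x - AdFn.toKv P y ∈ W')).symm⟩
    exact Submodule.mem_sup_right (Submodule.subset_span hy)
  have hker : LinearMap.ker φ = W := by
    ext x
    rw [LinearMap.mem_ker]
    show Submodule.Quotient.mk (AdFn.toKv P x) = 0 ↔ _
    rw [Submodule.Quotient.mk_eq_zero, hW', hW, Submodule.mem_sup, Submodule.mem_sup]
    constructor
    · rintro ⟨_, ⟨z, hz, rfl⟩, w, hw, hzw⟩
      refine ⟨z, hz, x - z, fun Q hQ => ?_, by abel⟩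
      obtain rfl : Q = P := by simpa using hQ
      refine (AdFn.toKv_mem_Ov Q _).1 ?_
      rw [map_sub, ← hzw]
      convert hspan w hw using 1
      exact add_sub_cancel_left _ _
    · rintro ⟨z, hz, w, hw, rfl⟩
      exact ⟨AdFn.toKv P z, ⟨z, hz, rfl⟩, AdFn.toKv P w,
        Submodule.subset_span ((AdFn.toKv_mem_Ov P w).2 (hw P (by simp))), (map_add _ _ _).symm⟩
  let e : (K ⧸ W) ≃ₗ[k] (AdFn.Kv P ⧸ W') :=
    (Submodule.quotEquivOfEq _ _ hker.symm).trans (φ.quotKerEquivOfSurjective hsurj)
  haveI := h1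
  exact ⟨Module.Finite.equiv e, by rw [← e.finrank_eq, h2]⟩


end Groth.Agent.S16100
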