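import Groth.Statements.S16101
import Groth.Agent.L14.DefLift.LocTriv.PtFirstOrder

set_option autoImplicit false
universe u
open CategoryTheory CategoryTheory.Limits AlgebraicGeometry
attribute [local instance] HasDerivedCategory.standard
open PtDefo

namespace Groth.Agent.S16101

/-- Let k be a field, X a scheme which is separated, of finite type and smooth over k, and p_j (j in a
finite index set) pairwise distinct k-rational points of X. Let T_X(-p_1 - ... - p_n) denote the
sheaf Hom from the sheaf of differentials of X over k to the ideal sheaf of the marked points (the
twisted tangent sheaf; the sheaf Hom is assumed to exist). Give the set of isomorphism classes of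
first-order deformations of X with marked points — schemes flat over the dual numbers k[ε] with X as
closed fibre and with one section through each p_j, up to isomorphism over k[ε], under X and
respecting the sections — its k-vector-space structure in which scalars act through ε ↦ cε and
addition comes from k[ε] ×_k k[ε] → k[ε]. Then this space is k-linearly isomorphic to H^1(X,
T_X(-p_1 - ... - p_n)). (Existence of a linear isomorphism only. The published statement is a
natural bijection of sets for a smooth variety with n marked points; here the intrinsic vector-space
structure just described is used and the comparison is asserted to be k-linear, and the marked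
points, which must be rational for a deformation to exist, are taken pairwise distinct, without
which the comparison fails.) -/
theorem result
    {k : Type u} [Field k] (X : Scheme.{u}) [X.Over (Spec (CommRingCat.of k))]
    [LocallyOfFiniteType (X ↘ Spec (CommRingCat.of k))] [QuasiCompact (X ↘ Spec (CommRingCat.of k))]
    [IsSeparated (X ↘ Spec (CommRingCat.of k))] [Smooth (X ↘ Spec (CommRingCat.of k))]
    {ι : Type u} [Finite ι] (p : ι → (Spec (CommRingCat.of k) ⟶ X))
    (hp : ∀ j, p j ≫ (X ↘ Spec (CommRingCat.of k)) = 𝟙 _) (hinj : Function.Injective p)
    [DCoh.HasSheafHom (Omega.sheaf (X ↘ Spec (CommRingCat.of k)))]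
    [ArtFun.TangentStr (PtDefo.defFunctor (Λ := k) X (X ↘ Spec (CommRingCat.of k)) p)] :
    Nonempty (ArtFun.TangentSpace (PtDefo.defFunctor (Λ := k) X (X ↘ Spec (CommRingCat.of k)) p) ≃ₗ[k]
      Coh.HH X (TanTw.tanTw (X ↘ Spec (CommRingCat.of k)) (PtDefo.ptIdeal p)) 1) := by
  exact Groth.L14.LocTriv.nonempty_ptTangent_equiv hp hinj

end Groth.Agent.S16101
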