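import Groth.Statements.S16104
import Mathlib.RingTheory.Length
import Groth.Agent.L04.MatlisEnd
-- import your own Groth.Agent.* helpers here

set_option autoImplicit false
universe u v
open LunaSt

namespace Groth.Agent.S16104

/-- Case of local rings. Let φ : A → B be a local homomorphism of Noetherian local rings whose composite
A → B/m_B² is surjective (the first infinitesimal neighbourhoods give a closed immersion), and
assume that A/m_A^(n+1) and B/m_B^(n+1) have the same length for every n (the associated graded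
modules of the two maximal ideals have pieces of the same dimension over the common residue field).
Then for every n the composite A → B/m_B^(n+1) is surjective with kernel m_A^(n+1): φ identifies all
infinitesimal neighbourhoods. (The published statement is for a pointed morphism of Noetherian local
algebraic stacks; its proof reduces to this case of local rings.) -/
theorem result
    (A : Type u) (B : Type v) [CommRing A] [CommRing B] [IsLocalRing A] [IsLocalRing B]
    [IsNoetherianRing A] [IsNoetherianRing B] (φ : A →+* B) [IsLocalHom φ]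
    (h1 : Function.Surjective ((Ideal.Quotient.mk (IsLocalRing.maximalIdeal B ^ 2)).comp φ))
    (hlen : ∀ n : ℕ, Module.length A (A ⧸ IsLocalRing.maximalIdeal A ^ (n + 1)) =
      Module.length B (B ⧸ IsLocalRing.maximalIdeal B ^ (n + 1))) (n : ℕ) :
    Function.Surjective ((Ideal.Quotient.mk (IsLocalRing.maximalIdeal B ^ (n + 1))).comp φ) ∧
      RingHom.ker ((Ideal.Quotient.mk (IsLocalRing.maximalIdeal B ^ (n + 1))).comp φ) =
        IsLocalRing.maximalIdeal A ^ (n + 1) := by
  letI := φ.toAlgebra
  let mA := IsLocalRing.maximalIdeal A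
  let mB := IsLocalRing.maximalIdeal B
  have h1' : ∀ b : B, ∃ a : A, b - φ a ∈ mB ^ 2 := fun b => by
    obtain ⟨a, ha⟩ := h1 (Ideal.Quotient.mk _ b)
    exact ⟨a, Ideal.Quotient.eq.1 ha.symm⟩
  have hs : ∀ n : ℕ, ∀ b : B, ∃ a : A, b - φ a ∈ mB ^ (n + 1) := by
    intro n
    induction n with
    | zero => exact fun b => (h1' b).imp fun a ha => Ideal.pow_le_pow_right (by norm_num) ha
    | succ n ih =>
      have hstep : ∀ x ∈ mB ^ (n + 1), ∃ a : A, x - φ a ∈ mB ^ (n + 2) := by
        intro x hx
        rw [pow_succ] at hx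
        induction hx using Submodule.mul_induction_on' with
        | mem_mul_mem p hp q hq =>
          obtain ⟨a, ha⟩ := ih p
          obtain ⟨c, hc⟩ := h1' q
          refine ⟨a * c, ?_⟩
          have hpa : φ a ∈ mB ^ n := by
            have := Submodule.sub_mem _ hp (Ideal.pow_le_pow_right (Nat.le_succ n) ha)
            simpa using this
          have e : p * q - φ (a * c) = (p - φ a) * q + φ a * (q - φ c) := by rw [map_mul]; ring
          rw [e]
          refine Ideal.add_mem _ ?_ ?_
          · rw [pow_succ _ (n + 1)]; exact Ideal.mul_mem_mul ha hq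
          · rw [pow_add]; exact Ideal.mul_mem_mul hpa hc
        | add x _ y _ hx hy =>
          obtain ⟨a, ha⟩ := hx
          obtain ⟨c, hc⟩ := hy
          refine ⟨a + c, ?_⟩
          have e : x + y - φ (a + c) = (x - φ a) + (y - φ c) := by rw [map_add]; ring
          rw [e]; exact Ideal.add_mem _ ha hc
      intro b
      obtain ⟨a, ha⟩ := ih b
      obtain ⟨c, hc⟩ := hstep _ ha
      exact ⟨a + c, by rw [map_add, ← sub_sub]; exact hc⟩
  have hsurj : Function.Surjective ((Ideal.Quotient.mk (mB ^ (n + 1))).comp φ) := by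
    intro y
    obtain ⟨b, rfl⟩ := Ideal.Quotient.mk_surjective y
    obtain ⟨a, ha⟩ := hs n b
    exact ⟨a, (Ideal.Quotient.eq.2 ha).symm⟩
  refine ⟨hsurj, ?_⟩
  have hle : mA ^ (n + 1) ≤ RingHom.ker ((Ideal.Quotient.mk (mB ^ (n + 1))).comp φ) := by
    intro a ha
    rw [RingHom.mem_ker, RingHom.comp_apply, Ideal.Quotient.eq_zero_iff_mem]
    have hmap : mA.map φ ≤ mB := ((IsLocalRing.local_hom_TFAE φ).out 0 2 : IsLocalHom φ ↔ mA.map φ ≤ mB).1 inferInstance
    exact Ideal.pow_right_mono hmap (n + 1) (Ideal.map_pow φ mA (n + 1) ▸ Ideal.mem_map_of_mem φ ha)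
  refine le_antisymm ?_ hle
  let g : (A ⧸ mA ^ (n + 1)) →ₗ[A] (B ⧸ mB ^ (n + 1)) :=
    Submodule.liftQ (mA ^ (n + 1)) (Algebra.linearMap A (B ⧸ mB ^ (n + 1))) (fun a ha => hle ha)
  have hg : Function.Surjective g := fun y => by
    obtain ⟨a, ha⟩ := hsurj y
    exact ⟨Submodule.Quotient.mk a, ha⟩
  have hAB : Module.length A (B ⧸ mB ^ (n + 1)) = Module.length B (B ⧸ mB ^ (n + 1)) := by
    rw [Module.length_eq_of_surjective (S := A) (R := B ⧸ mB ^ (n + 1)) (M := B ⧸ mB ^ (n + 1)) hsurj,
      Module.length_eq_of_surjective (S := B) (R := B ⧸ mB ^ (n + 1)) (M := B ⧸ mB ^ (n + 1))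
        Ideal.Quotient.mk_surjective]
  have hfin : Module.length A (A ⧸ mA ^ (n + 1)) ≠ ⊤ :=
    Module.length_ne_top_iff.2 (Groth.L04.isFiniteLength_quotient_pow (n + 1))
  have hexact := Module.length_eq_add_of_exact (LinearMap.ker g).subtype g
    (Submodule.subtype_injective _) hg (LinearMap.exact_subtype_ker_map g)
  rw [hAB, ← hlen n] at hexact
  have hker : Module.length A (LinearMap.ker g) = 0 := by
    by_contra hne
    have hlt : Module.length A (A ⧸ mA ^ (n + 1)) <
        Module.length A (LinearMap.ker g) + Module.length A (A ⧸ mA ^ (n + 1)) :=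
      ENat.lt_add_left hfin (pos_iff_ne_zero.2 hne)
    exact (ne_of_lt hlt) hexact
  intro a ha
  haveI := Module.length_eq_zero_iff.1 hker
  have hz : g (Submodule.Quotient.mk a) = 0 := ha
  have := Subsingleton.elim (⟨Submodule.Quotient.mk a, hz⟩ : LinearMap.ker g) 0
  exact (Submodule.Quotient.mk_eq_zero _).1 (congrArg Subtype.val this)

end Groth.Agent.S16104
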