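import Groth.Statements.S16105
import Groth.Agent.Lead.ChevalleyModule
import Groth.Agent.L08.InvFinite
-- import your own Groth.Agent.* helpers here

set_option autoImplicit false
universe u v w w'
open LunaSt

namespace Groth.Agent.S16105
open TensorProduct

/-- The key claim of its proof. Let k be a field and H a commutative Hopf algebra of finite type over k
all of whose finite-dimensional comodules are semisimple (a linearly reductive affine group G = Spec
H). Let A be a Noetherian commutative k-algebra with a coaction of H that is an algebra map (an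
action of G on Spec A), let m be a maximal ideal of A stable under the coaction (for instance the
ideal of a closed point fixed by G), and assume that the ring of invariants A^G is a Noetherian
local ring, complete with respect to its maximal ideal. Let M be a finite A-module with a compatible
H-coaction (a coherent G-module on Spec A). Then (i) an invariant element of M which lies in m^n M
for every n is zero, and (ii) for every sequence of invariants x_0, x_1, … with x_(n+1) − x_n ∈ m^n
M there is an invariant x with x − x_n ∈ m^n M for all n. In other words M^G → lim_n M^G/(m^n M)^G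
is bijective: the m-adic filtration and the filtration by powers of the maximal ideal of A^G induce
the same topology on M^G. (The ring of invariants is assumed Noetherian here; this also follows from
linear reductivity.) -/
theorem result
    (k : Type u) [Field k] (H : Type v) [CommRing H] [HopfAlgebra k H] [Algebra.FiniteType k H]
    (hG : HopfRep.IsLinearlyReductive k H)
    (A : Type w) [CommRing A] [Algebra k A] [IsNoetherianRing A]
    [HopfRep.Comod k H A] [GLin.IsCoactAlg k H A]
    (m : Ideal A) [m.IsMaximal] (hm : HopfRep.IsSubcomod (k := k) (A := H) (m.restrictScalars k))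
    [IsLocalRing ↥(GLin.invariants k H A)] [IsNoetherianRing ↥(GLin.invariants k H A)]
    [IsAdicComplete (IsLocalRing.maximalIdeal ↥(GLin.invariants k H A)) ↥(GLin.invariants k H A)]
    (M : Type w') [AddCommGroup M] [Module k M] [Module A M] [IsScalarTower k A M] [Module.Finite A M]
    [HopfRep.Comod k H M] [TameAct.IsHopfMod k H A M] :
    (∀ x ∈ HopfRep.fixedPts k H M, (∀ n : ℕ, x ∈ (m ^ n • ⊤ : Submodule A M)) → x = 0) ∧
      ∀ x : ℕ → M, (∀ n, x n ∈ HopfRep.fixedPts k H M) →
        (∀ n, x (n + 1) - x n ∈ (m ^ n • ⊤ : Submodule A M)) →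
          ∃ y ∈ HopfRep.fixedPts k H M, ∀ n, y - x n ∈ (m ^ n • ⊤ : Submodule A M) := by
  classical
  obtain ⟨α, hα⟩ := Groth.L08.exists_isIntegral hG
  let S := ↥(GLin.invariants k H A)
  let N : Submodule S M :=
    { carrier := {v | v ∈ HopfRep.fixedPts k H M}
      add_mem' := fun {a b} ha hb => Submodule.add_mem (HopfRep.fixedPts k H M) ha hb
      zero_mem' := Submodule.zero_mem (HopfRep.fixedPts k H M)
      smul_mem' := fun c v hv => by
        have hc : HopfRep.Comod.coact (k := k) (A := H) (c : A) = (c : A) ⊗ₜ[k] (1 : H) := c.2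
        have hv' : HopfRep.Comod.coact (k := k) (A := H) v = v ⊗ₜ[k] (1 : H) := hv
        change HopfRep.Comod.coact (k := k) (A := H) ((c : A) • v) = ((c : A) • v) ⊗ₜ[k] (1 : H)
        rw [TameAct.IsHopfMod.coact_smul (k := k) (A := H) (B := A), hc, hv']
        simp }
  haveI : IsNoetherian A M := isNoetherian_of_isNoetherianRing_of_finite A M
  haveI : Module.Finite S N := by
    obtain ⟨s, hs, hsp⟩ := Groth.L08.exists_finset_fixedPts (R := A) (M := M) hG
    let v : s → N := fun y => ⟨y.1, hs y.2⟩
    refine Module.Finite.of_surjective (Fintype.linearCombination S v) fun m => ?_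
    obtain ⟨c, hc, he⟩ := hsp m.1 m.2
    refine ⟨fun y => ⟨c y.1, hc _ y.2⟩, Subtype.ext ?_⟩
    rw [Fintype.linearCombination_apply, he, Submodule.coe_sum, ← Finset.sum_coe_sort s]
    rfl
  let m₀ := IsLocalRing.maximalIdeal S
  have hunit : ∀ c : S, (c : A) ∈ m → c ∈ m₀ := fun c hc hu =>
    (‹m.IsMaximal›).ne_top (Ideal.eq_top_of_isUnit_mem _ hc
      (hu.map (GLin.invariants k H A).val))
  have hm₀ : ∀ c : S, c ∈ m₀ → (c : A) ∈ m := by
    intro c hc
    by_contra hne
    obtain ⟨b, i, hi, hbi⟩ := (‹m.IsMaximal›).exists_inv hne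
    have hbm : Groth.L08.rey A α i ∈ m := Groth.L08.rey_mem_of_isSubcomod hm α hi
    have h1 : Groth.L08.rey A α (1 : A) = 1 := hα.rey_eq (GLin.invariants k H A).one_mem
    have e : Groth.L08.rey A α b * (c : A) + Groth.L08.rey A α i = 1 := by
      rw [← Groth.L08.rey_mul_fixed α b (show (c : A) ∈ HopfRep.fixedPts k H A from c.2), ← map_add, hbi, h1]
    let b' : S := ⟨_, hα.rey_mem b⟩
    let i' : S := ⟨_, hα.rey_mem i⟩
    have e' : b' * c + i' = 1 := Subtype.ext e
    have hmem : (1 : S) ∈ m₀ := e' ▸ Ideal.add_mem _ (Ideal.mul_mem_left _ b' hc) (hunit i' hbm)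
    exact (IsLocalRing.maximalIdeal.isMaximal S).ne_top ((Ideal.eq_top_iff_one _).2 hmem)
  have hzero : ∀ x ∈ HopfRep.fixedPts k H M, (∀ n : ℕ, x ∈ (m ^ n • ⊤ : Submodule A M)) → x = 0 := by
    intro x hx hxn
    obtain ⟨⟨r, hr⟩, hrx⟩ := (Ideal.mem_iInf_smul_pow_eq_bot_iff m x).1 ((Submodule.mem_iInf _).2 hxn)
    have e : Groth.L08.rey A α r • x = x := by
      rw [← Groth.L08.rey_smul_fixed α r hx, show r • x = x from hrx, hα.rey_eq hx]
    let r' : S := ⟨_, hα.rey_mem r⟩
    have hu : IsUnit (1 - r') := IsLocalRing.isUnit_one_sub_self_of_mem_nonunits r'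
      (hunit r' (Groth.L08.rey_mem_of_isSubcomod hm α hr))
    obtain ⟨u, hu⟩ := hu
    have h0 : (1 - r') • x = 0 := by
      rw [sub_smul, one_smul, show r' • x = x from e, sub_self]
    rw [← hu] at h0
    have := congrArg (fun z => (↑u⁻¹ : S) • z) h0
    simpa [smul_smul] using this
  refine ⟨hzero, fun x hx hx' => ?_⟩
  let F : ℕ → Submodule S N := fun n => ((m ^ n • ⊤ : Submodule A M).restrictScalars S).comap N.subtype
  have hF : Antitone F := fun a b h v hv => Submodule.smul_mono_left (Ideal.pow_le_pow_right h) hv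
  have hinf : (⨅ i, F i) = ⊥ := by
    refine (Submodule.eq_bot_iff _).2 fun v hv => Subtype.ext ?_
    exact hzero v.1 v.2 fun n => (Submodule.mem_iInf _).1 hv n
  have hpow : ∀ n, m₀ ^ n • (⊤ : Submodule S N) ≤ F n := by
    intro n
    refine Submodule.smul_le.2 fun c hc v _ => ?_
    change ((c : A) • (v : M)) ∈ (m ^ n • ⊤ : Submodule A M)
    refine Submodule.smul_mem_smul ?_ trivial
    have : m₀.map (GLin.invariants k H A).val ≤ m := Ideal.map_le_iff_le_comap.2 hm₀
    exact Ideal.pow_right_mono this n (Ideal.map_pow (GLin.invariants k H A).val m₀ n ▸ Ideal.mem_map_of_mem _ hc)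
  have hchev : ∀ j, ∃ n, F n ≤ m₀ ^ j • ⊤ := fun j => by
    obtain ⟨n, hn⟩ := Groth.Lead.ChevalleyModule.exists_le_iInf_sup_pow F hF j
    exact ⟨n, by simpa [hinf] using hn⟩
  choose ν hν using hchev
  let ν' : ℕ → ℕ := fun j => j + ∑ i ∈ Finset.range (j + 1), ν i
  have hνmono : Monotone ν' := fun a b h => Nat.add_le_add h
    (Finset.sum_le_sum_of_subset (Finset.range_mono (Nat.succ_le_succ h)))
  have hν' : ∀ j, F (ν' j) ≤ m₀ ^ j • ⊤ := fun j =>
    le_trans (hF ((Finset.single_le_sum (fun i _ => Nat.zero_le (ν i))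
      (Finset.self_mem_range_succ j)).trans (Nat.le_add_left _ j))) (hν j)
  let X : ℕ → N := fun n => ⟨x n, hx n⟩
  have hdiff : ∀ a b, a ≤ b → X b - X a ∈ F a := fun a b hab => by
    induction b, hab using Nat.le_induction with
    | base => simp
    | succ b hb ih =>
      rw [show X (b + 1) - X a = (X (b + 1) - X b) + (X b - X a) by abel]
      exact add_mem (hF hb (hx' b)) ih
  haveI := Groth.Lead.ChevalleyModule.isPrecomplete_of_finite (N := N) m₀
  obtain ⟨y, hy⟩ := IsPrecomplete.prec' (I := m₀) (fun j => X (ν' j)) (fun {a b} hab => by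
    rw [SModEq.sub_mem, ← neg_sub, neg_mem_iff]
    exact hν' a (hdiff _ _ (hνmono hab)))
  refine ⟨y.1, y.2, fun n => ?_⟩
  have h1 : X (ν' n) - y ∈ F n := hpow n (SModEq.sub_mem.1 (hy n))
  have h2 : X (ν' n) - X n ∈ F n := hdiff n (ν' n) (Nat.le_add_right n _)
  exact (show y - X n ∈ F n by rw [show y - X n = (X (ν' n) - X n) - (X (ν' n) - y) by abel]; exact sub_mem h2 h1)

end Groth.Agent.S16105
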