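import Groth.Statements.S16110
import Groth.Agent.L10.FMBC.ProjNat
import Groth.Agent.L29.DCoh.QCohTensor

set_option autoImplicit false
set_option backward.defeqAttrib.useBackward true
set_option backward.isDefEq.respectTransparency false
set_option backward.isDefEq.respectTransparency.types false
universe u
open CategoryTheory CategoryTheory.Limits
attribute [local instance] HasDerivedCategory.standard
open DCoh

namespace Groth.Agent.S16110

open Groth.L00 Groth.L29.DC Groth.L29.BC in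
/-- two representing objects of the same functor -/
theorem exists_iso_of_equiv {C : Type*} [Category C] (A B : C) (e : ∀ Z, (Z ⟶ A) ≃ (Z ⟶ B))
    (h : ∀ {Z Z' : C} (a : Z ⟶ Z') (g : Z' ⟶ A), e Z (a ≫ g) = a ≫ e Z' g) : Nonempty (A ≅ B) :=
  ⟨Yoneda.ext A B (fun {Z} g => e Z g) (fun {Z} g => (e Z).symm g) (fun {Z} g => (e Z).symm_apply_apply g)
    (fun {Z} g => (e Z).apply_symm_apply g) (fun {Z Z'} a g => h a g)⟩

/-- transporting an internal hom along a right adjoint satisfying the projection formula -/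
theorem nonempty_iso_ihom {C D A B : Type*} [Category C] [Category D] [Category A] [Category B]
    (ι : C ⥤ A) [ι.Full] [ι.Faithful] (κ : D ⥤ B) [κ.Full] [κ.Faithful] {F : C ⥤ D} {G : D ⥤ C} (adj : F ⊣ G)
    {T U : B ⥤ B} (a : T ⊣ U) {T' U' : A ⥤ A} (a' : T' ⊣ U') (Tq : C ⥤ C) (i : Tq ⋙ ι ≅ ι ⋙ T')
    (σ : F ⋙ κ ⋙ T ≅ Tq ⋙ F ⋙ κ) (G₂ R : D) (r : κ.obj R ≅ U.obj (κ.obj G₂)) (S : C)
    (s : ι.obj S ≅ U'.obj (ι.obj (G.obj G₂))) : Nonempty (G.obj R ≅ S) := by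
  refine exists_iso_of_equiv _ _ (fun Z => (adj.homEquiv Z R).symm.trans <|
    (Functor.FullyFaithful.ofFullyFaithful κ).homEquiv.trans <| r.homToEquiv.trans <| (a.homEquiv _ _).symm.trans <|
    (σ.app Z).homFromEquiv.trans <| (Functor.FullyFaithful.ofFullyFaithful κ).homEquiv.symm.trans <|
    (adj.homEquiv (Tq.obj Z) G₂).trans <| (Functor.FullyFaithful.ofFullyFaithful ι).homEquiv.trans <|
    (i.app Z).homFromEquiv.trans <| (a'.homEquiv _ _).trans <| s.symm.homToEquiv.trans <|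
    (Functor.FullyFaithful.ofFullyFaithful ι).homEquiv.symm) fun {Z Z'} b g => ?_
  apply ι.map_injective
  have h1 : ∀ {X₁ X₂ : C} (x : ι.obj X₁ ⟶ ι.obj X₂),
      ι.map ((Functor.FullyFaithful.ofFullyFaithful ι).homEquiv.symm x) = x := fun x => ι.map_preimage x
  have h2 : ∀ {X₁ X₂ : D} (x : κ.obj X₁ ⟶ κ.obj X₂),
      κ.map ((Functor.FullyFaithful.ofFullyFaithful κ).homEquiv.symm x) = x := fun x => κ.map_preimage x
  have h3 : ∀ (x : κ.obj (F.obj (Tq.obj Z')) ⟶ κ.obj G₂),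
      (Functor.FullyFaithful.ofFullyFaithful κ).homEquiv.symm (κ.map (F.map (Tq.map b)) ≫ x) =
        F.map (Tq.map b) ≫ (Functor.FullyFaithful.ofFullyFaithful κ).homEquiv.symm x := fun x =>
    κ.map_injective (by rw [h2, κ.map_comp, h2])
  have hσ : σ.inv.app Z ≫ T.map (κ.map (F.map b)) = κ.map (F.map (Tq.map b)) ≫ σ.inv.app Z' :=
    (σ.inv.naturality b).symm
  have hi : i.inv.app Z ≫ ι.map (Tq.map b) = T'.map (ι.map b) ≫ i.inv.app Z' := (i.inv.naturality b).symm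
  simp [Iso.homToEquiv, Iso.homFromEquiv, Adjunction.homEquiv_naturality_left_symm, h1,
    reassoc_of% hσ, h3, Adjunction.homEquiv_naturality_left, reassoc_of% hi]


open AlgebraicGeometry in
/-- Let f : X ⟶ Y be a proper morphism of finite Tor-dimension between separated Noetherian schemes
(finite Tor-dimension: for some integer m, H^i(Lf^*M) = 0 for all i < m and all quasi-coherent
O_Y-modules M), let f^! be the right adjoint of Rf_* : D_qc(X) → D_qc(Y) (f is proper) and let G₁,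
G₂ be objects of D_qc(Y), G₁ given by a cochain complex P of O_Y-modules and Lf^*G₁ by a cochain
complex P' of O_X-modules. Assume that RHom(G₁, G₂) and RHom(Lf^*G₁, f^!G₂) have quasi-coherent
cohomology sheaves. Then f^! RHom(G₁, G₂) ≅ RHom(Lf^*G₁, f^!G₂) in D(O_X). The derived functors
Rf_*, Lf^*, ⊗^L and the internal RHom (right adjoint of ⊗^L) are taken under their existence
binders. (The published statement uses the internal Hom of D_qc and a canonical isomorphism; here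
RHom is the internal Hom of D(O_X), the two quasi-coherence assumptions replace the passage to D_qc,
and only the existence of an isomorphism is asserted.) -/
theorem result
    {X Y : Scheme.{u}} [X.IsSeparated] [IsNoetherian X] [Y.IsSeparated] [IsNoetherian Y]
    (f : X ⟶ Y) [IsProper f] [DCoh.HasRpush f] [DCoh.HasLpull f]
    (hfTor : ∃ m : ℤ, ∀ (M : Y.Modules), Coh.IsQCoh M →
      ∀ i : ℤ, i < m → IsZero (DCoh.HD ((DCoh.Lpull f).obj (DCoh.inD Y M)) i))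
    (h : DCoh.RpushPreservesQCoh f) [DCoh.HasShriek f h]
    (P : CochainComplex Y.Modules ℤ) [DCoh.HasLTensorCx P] [DCoh.HasRSheafHom P]
    (hP : DCoh.IsQCohD (DCoh.toD Y P)) (G₂ : DCoh.DQCoh Y)
    (hq : DCoh.IsQCohD ((DCoh.RSheafHom P).obj G₂.obj))
    (P' : CochainComplex X.Modules ℤ) [DCoh.HasLTensorCx P'] [DCoh.HasRSheafHom P']
    (hP' : Nonempty (DCoh.toD X P' ≅ (DCoh.Lpull f).obj (DCoh.toD Y P)))
    (hq' : DCoh.IsQCohD ((DCoh.RSheafHom P').obj ((DCoh.shriek f h).obj G₂).obj)) :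
    Nonempty (((DCoh.shriek f h).obj ⟨(DCoh.RSheafHom P).obj G₂.obj, hq⟩).obj ≅
      (DCoh.RSheafHom P').obj ((DCoh.shriek f h).obj G₂).obj) := by
  haveI : QuasiCompact f := inferInstance
  haveI : QuasiSeparated f := inferInstance
  obtain ⟨P₀, q, hP₀, -, hq₀, -⟩ := Groth.L00.KFlat.exists_resolution P
  haveI := (DerivedCategory.isIso_Q_map_iff_quasiIso _ q).2 hq₀
  haveI : DCoh.HasLTensorCx P₀ := Groth.L00.KFlat.hasLTensorCx P₀
  haveI : DCoh.HasLTensorCx ((Groth.L29.DC.Proj.pullCx f).obj P₀) := Groth.L00.KFlat.hasLTensorCx _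
  let eq : DerivedCategory.Q.obj P₀ ≅ DerivedCategory.Q.obj P := asIso (DerivedCategory.Q.map q)
  obtain ⟨eP⟩ := hP'
  obtain ⟨c₁⟩ := Groth.L29.BC.ProjQC.nonempty_LTensorCx_congr eq
  obtain ⟨c₂⟩ := Groth.L29.BC.ProjQC.nonempty_LTensorCx_congr
    ((Groth.L00.DerivedApi.objIso (Groth.L00.DerivedApi.acyclicKFlat_pullback f) P₀ hP₀).symm ≪≫
      (DCoh.Lpull f).mapIso eq ≪≫ eP.symm)
  obtain ⟨τ, hτ⟩ := Groth.L10.FMBC.exists_projection f P₀ hP₀ (Groth.L29.DC.isQCohD_of_iso eq.symm hP)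
  let ι := ObjectProperty.ι (DCoh.IsQCohD (X := X))
  let κ := ObjectProperty.ι (DCoh.IsQCohD (X := Y))
  have hP'q : DCoh.IsQCohD (DCoh.toD X P') :=
    Groth.L29.DC.isQCohD_of_iso eP.symm (Groth.L29.DC.isQCohD_Lpull f hP)
  let Tq : DCoh.DQCoh X ⥤ DCoh.DQCoh X := (DCoh.IsQCohD (X := X)).lift (ι ⋙ DCoh.LTensorCx P')
    fun Z => Groth.L29.DC.isQCohD_LTensorCx P' hP'q Z.property
  let i : Tq ⋙ ι ≅ ι ⋙ DCoh.LTensorCx P' := ObjectProperty.liftCompιIso _ _ _
  let rq : DCoh.RpushQ f h ⋙ κ ≅ ι ⋙ DCoh.Rpush f := ObjectProperty.liftCompιIso _ _ _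
  haveI : ∀ Z : DCoh.DQCoh X, IsIso (τ.app Z.obj) := fun Z => hτ Z.obj Z.property
  let τq : ι ⋙ DCoh.Rpush f ⋙ DCoh.LTensorCx P₀ ≅
      ι ⋙ DCoh.LTensorCx ((Groth.L29.DC.Proj.pullCx f).obj P₀) ⋙ DCoh.Rpush f :=
    NatIso.ofComponents (fun Z => asIso (τ.app Z.obj)) fun m => τ.naturality m.hom
  let σ : DCoh.RpushQ f h ⋙ κ ⋙ DCoh.LTensorCx P ≅ Tq ⋙ DCoh.RpushQ f h ⋙ κ :=
    Functor.isoWhiskerRight rq (DCoh.LTensorCx P) ≪≫
    Functor.isoWhiskerLeft (ι ⋙ DCoh.Rpush f) c₁.symm ≪≫ τq ≪≫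
    Functor.isoWhiskerLeft ι (Functor.isoWhiskerRight c₂ (DCoh.Rpush f)) ≪≫
    Functor.isoWhiskerRight i.symm (DCoh.Rpush f) ≪≫ Functor.isoWhiskerLeft Tq rq.symm
  obtain ⟨φ⟩ := nonempty_iso_ihom ι κ (DCoh.shriekAdj f h) (DCoh.RSheafHomAdj P) (DCoh.RSheafHomAdj P') Tq i σ G₂
    ⟨(DCoh.RSheafHom P).obj G₂.obj, hq⟩ (Iso.refl _)
    ⟨(DCoh.RSheafHom P').obj ((DCoh.shriek f h).obj G₂).obj, hq'⟩ (Iso.refl _)
  exact ⟨ι.mapIso φ⟩

end Groth.Agent.S16110
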