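import Groth.Statements.S16113
import Groth.Agent.L21.Units.Scheme
import Mathlib.LinearAlgebra.FreeModule.PID
import Mathlib.FieldTheory.IsAlgClosed.Basic
import Mathlib.GroupTheory.Torsion
import Mathlib.Algebra.Module.Torsion.Free
import Mathlib.GroupTheory.Finiteness
import Mathlib.GroupTheory.FiniteAbelian.Basic
import Mathlib.GroupTheory.QuotientGroup.Defs
-- import your own Groth.Agent.* helpers here

set_option autoImplicit false
set_option backward.isDefEq.respectTransparency.types false
set_option linter.style.haveILetI false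
universe u
open CategoryTheory MonoidalCategory CartesianMonoidalCategory MonObj GrpObj AlgebraicGeometry CategoryTheory.Limits
open AlgGrp

namespace Groth.Agent.S16113

/-- Over an algebraically closed field k, let X be an irreducible variety (an integral separated
k-scheme of finite type) and R = Γ(X, O_X). Then the quotient of the unit group R^× by the subgroup
k^× of nonzero constants is a free abelian group of finite rank: for some n there is a surjective
group homomorphism from R^× onto ℤⁿ (written multiplicatively) whose kernel is exactly the image of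
k^× under the structure map k → R. -/
theorem result (k : Type u) [Field k] [IsAlgClosed k]
    (X : Over (Spec (CommRingCat.of k))) [IsIntegral X.left] [IsSeparated X.hom] [LocallyOfFiniteType X.hom] [QuasiCompact X.hom] :
    ∃ (n : ℕ) (v : (Γ(X.left, ⊤))ˣ →* Multiplicative (Fin n → ℤ)), Function.Surjective v ∧
      v.ker = (Units.map (((Scheme.ΓSpecIso (CommRingCat.of k)).inv ≫ X.hom.appTop).hom : k →* Γ(X.left, ⊤))).range := by
  classical
  let c : k →+* Γ(X.left, ⊤) := X.hom.appTop.hom.comp (Scheme.ΓSpecIso (CommRingCat.of k)).inv.hom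
  haveI : IsDomain Γ(X.left, ⊤) := by
    haveI : Nonempty (⊤ : X.left.Opens).toScheme := ⟨X.left.topIso.inv (Classical.arbitrary X.left)⟩
    infer_instance
  have hint : ∀ x : Γ(X.left, ⊤), c.IsIntegralElem x → x ∈ Set.range c := by
    intro x hx
    letI := c.toAlgebra
    obtain ⟨a, ha⟩ := minpoly.degree_eq_one_iff.1
      (IsAlgClosed.degree_eq_one_of_irreducible k (minpoly.irreducible (hx : _root_.IsIntegral k x)))
    exact ⟨a, ha⟩
  haveI : IsLocallyNoetherian X.left := LocallyOfFiniteType.isLocallyNoetherian X.hom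
  haveI : CompactSpace X.left := (quasiCompact_iff_compactSpace X.hom).1 inferInstance
  haveI : IsNoetherian X.left := ⟨⟩
  haveI : Group.FG ((Γ(X.left, ⊤))ˣ ⧸ (Units.map (c : k →* Γ(X.left, ⊤))).range) := Groth.L21.Units.fg_units_mod_constants k X.left X.hom
    (TopologicalSpace.NoetherianSpace.finite_irreducibleComponents) c rfl hint
  letI : CommGroup ((Γ(X.left, ⊤))ˣ ⧸ (Units.map (c : k →* Γ(X.left, ⊤))).range) := inferInstance
  haveI : Module.Finite ℤ (Additive ((Γ(X.left, ⊤))ˣ ⧸ (Units.map (c : k →* Γ(X.left, ⊤))).range)) := Module.Finite.iff_addGroup_fg.2 (GroupFG.iff_add_fg.1 inferInstance)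
  haveI : IsMulTorsionFree ((Γ(X.left, ⊤))ˣ ⧸ (Units.map (c : k →* Γ(X.left, ⊤))).range) := by
    refine ⟨fun n hn a b hab => ?_⟩
    obtain ⟨u, hu⟩ := QuotientGroup.mk_surjective (a / b)
    have h1 : (a / b) ^ n = 1 := by rw [div_pow, show a ^ n = b ^ n from hab, div_self']
    rw [← hu, ← QuotientGroup.mk_pow, QuotientGroup.eq_one_iff] at h1
    obtain ⟨z, hz⟩ := h1
    have hui : c.IsIntegralElem (u : Γ(X.left, ⊤)) := by
      refine ⟨Polynomial.X ^ n - Polynomial.C (z : k), Polynomial.monic_X_pow_sub_C _ hn, ?_⟩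
      rw [Polynomial.eval₂_sub, Polynomial.eval₂_X_pow, Polynomial.eval₂_C, sub_eq_zero,
        ← Units.val_pow_eq_pow_val, ← hz]
      rfl
    obtain ⟨w, hw⟩ := hint _ hui
    have hw0 : w ≠ 0 := by
      rintro rfl
      rw [map_zero] at hw
      exact u.ne_zero hw.symm
    refine div_eq_one.1 (hu.symm.trans ((QuotientGroup.eq_one_iff _).2 ⟨Units.mk0 w hw0, Units.ext hw⟩))
  haveI : Module.Free ℤ (Additive ((Γ(X.left, ⊤))ˣ ⧸ (Units.map (c : k →* Γ(X.left, ⊤))).range)) := Module.free_of_finite_type_torsion_free'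
  let b := Module.finBasis ℤ (Additive ((Γ(X.left, ⊤))ˣ ⧸ (Units.map (c : k →* Γ(X.left, ⊤))).range))
  let e : ((Γ(X.left, ⊤))ˣ ⧸ (Units.map (c : k →* Γ(X.left, ⊤))).range) ≃* Multiplicative (Fin (Module.finrank ℤ (Additive ((Γ(X.left, ⊤))ˣ ⧸ (Units.map (c : k →* Γ(X.left, ⊤))).range))) → ℤ) :=
    (MulEquiv.multiplicativeAdditive ((Γ(X.left, ⊤))ˣ ⧸ (Units.map (c : k →* Γ(X.left, ⊤))).range)).symm.trans (b.equivFun.toAddEquiv).toMultiplicative
  refine ⟨_, e.toMonoidHom.comp (QuotientGroup.mk' _), ?_, ?_⟩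
  · exact e.surjective.comp (QuotientGroup.mk'_surjective _)
  · have hk : (e.toMonoidHom.comp (QuotientGroup.mk' (Units.map (c : k →* Γ(X.left, ⊤))).range)).ker =
        (Units.map (c : k →* Γ(X.left, ⊤))).range := by
      rw [← MonoidHom.comap_ker, (MonoidHom.ker_eq_bot_iff _).2 e.injective]
      exact QuotientGroup.ker_mk' _
    exact hk

end Groth.Agent.S16113
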