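import Groth.Statements.S16117
import Groth.Agent.L08.Cube.NP.UnitConst

set_option autoImplicit false
universe u
open CategoryTheory MonoidalCategory CartesianMonoidalCategory MonObj GrpObj AlgebraicGeometry CategoryTheory.Limits
open AlgGrp

namespace Groth.Agent.S16117
set_option backward.isDefEq.respectTransparency false
set_option maxSynthPendingDepth 3
open Groth.L08.Cube Groth.L08.Cube.NP

/-- Over an algebraically closed field k, let X and Y be irreducible varieties (integral separated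
k-schemes of finite type). Then the product map on units is surjective: every unit of Γ(X × Y, O)
equals p₁^*(g) · p₂^*(h) for some units g of Γ(X, O_X) and h of Γ(Y, O_Y). -/
theorem result (k : Type u) [Field k] [IsAlgClosed k]
    (X Y : Over (Spec (CommRingCat.of k))) [IsIntegral X.left] [IsSeparated X.hom] [LocallyOfFiniteType X.hom] [QuasiCompact X.hom]
    [IsIntegral Y.left] [IsSeparated Y.hom] [LocallyOfFiniteType Y.hom] [QuasiCompact Y.hom]
    (f : Γ((X ⊗ Y).left, ⊤)) (hf : IsUnit f) :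
    ∃ (g : Γ(X.left, ⊤)) (h : Γ(Y.left, ⊤)), IsUnit g ∧ IsUnit h ∧
      f = (fst X Y).left.appTop g * (snd X Y).left.appTop h := by
  haveI : IsIntegral (X ⊗ Y).left := by
    haveI : IsLocallyNoetherian Y.left := LocallyOfFiniteType.isLocallyNoetherian Y.hom
    haveI := geometricallyIntegral_of_isAlgClosed X.hom
    haveI := geometricallyIntegral_of_isAlgClosed Y.hom
    exact inferInstanceAs (IsIntegral (Limits.pullback X.hom Y.hom))
  haveI : LocallyOfFiniteType (X ⊗ Y).hom :=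
    inferInstanceAs (LocallyOfFiniteType (Limits.pullback.fst X.hom Y.hom ≫ X.hom))
  have hpt : ∀ (Z : Over (Spec (CommRingCat.of k))) [IsIntegral Z.left] [LocallyOfFiniteType Z.hom],
      Nonempty (𝟙_ (Over (Spec (CommRingCat.of k))) ⟶ Z) := by
    intro Z _ _
    haveI : JacobsonSpace Z.left := LocallyOfFiniteType.jacobsonSpace Z.hom
    obtain ⟨z, -, hz⟩ := nonempty_inter_closedPoints (Z := (Set.univ : Set Z.left)) ⟨genericPoint Z.left, trivial⟩
      isOpen_univ.isLocallyClosed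
    exact ⟨(exists_kpt z hz).choose⟩
  obtain ⟨x₀⟩ := hpt X
  obtain ⟨y₀⟩ := hpt Y
  let i₁ : X ⟶ X ⊗ Y := lift (𝟙 X) (toUnit X ≫ y₀)
  let i₂ : Y ⟶ X ⊗ Y := lift (toUnit Y ≫ x₀) (𝟙 Y)
  let c : k := kval (X := X ⊗ Y) ⊤ (lift x₀ y₀) trivial f
  have hc : IsUnit c := hf.map _
  refine ⟨i₁.left.appTop f, i₂.left.appTop f * strMap Y ⊤ c⁻¹, hf.map _,
    (hf.map _).mul ((hc.ne_zero |> inv_ne_zero |> Ne.isUnit).map _), ?_⟩
  refine eq_of_kval fun p hp => ?_
  obtain ⟨x, y, rfl⟩ : ∃ x y, p = lift x y := ⟨p ≫ fst X Y, p ≫ snd X Y, by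
    apply CartesianMonoidalCategory.hom_ext <;> simp⟩
  have key : ∀ {Z W : Over (Spec (CommRingCat.of k))} (φ : Z ⟶ W) (q : 𝟙_ (Over (Spec (CommRingCat.of k))) ⟶ Z)
      (u : Γ(W.left, ⊤)), kval ⊤ q trivial (φ.left.appTop u) = kval ⊤ (q ≫ φ) trivial u := fun φ q u => by
    rw [Scheme.Hom.appTop, Scheme.Hom.app_eq_appLE]
    exact kval_appLE φ (V := ⊤) (fun _ _ => Set.mem_univ _) q trivial u
  simp only [map_mul, key, lift_fst, lift_snd, kval_strMap]
  have h1 : x ≫ i₁ = lift x y₀ := by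
    apply CartesianMonoidalCategory.hom_ext <;> simp [i₁]
  have h2 : y ≫ i₂ = lift x₀ y := by
    apply CartesianMonoidalCategory.hom_ext <;> simp [i₂]
  rw [h1, h2, ← _root_.mul_assoc, eq_mul_inv_iff_mul_eq₀ hc.ne_zero]
  exact kval_unit_split X Y ⊤ f hf x x₀ y y₀ trivial trivial _ _ _ _

end Groth.Agent.S16117
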