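import Groth.Statements.S16118
import Groth.Agent.L19.PicRat.Product
import Groth.Agent.L25.ConnIrred
import Groth.Agent.L25.Actions
import Groth.Agent.S16121

set_option autoImplicit false
set_option backward.isDefEq.respectTransparency.types false
universe u
open CategoryTheory MonoidalCategory CartesianMonoidalCategory MonObj GrpObj AlgebraicGeometry CategoryTheory.Limits
open AlgGrp

namespace Groth.Agent.S16118

/-- Over an algebraically closed field k, let G be a connected linear algebraic group (an affine,
smooth, connected k-group scheme) acting by σ on a normal irreducible variety X (an integral normal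
separated k-scheme of finite type), and let L be an invertible O_X-module. Then L is G-invariant:
for every k-point g of G, with translation t_g : X → X, x ↦ g · x, the inverse image t_g^*(L) is
isomorphic to L. -/
theorem result (k : Type u) [Field k] [IsAlgClosed k]
    (G X : Over (Spec (CommRingCat.of k))) [GrpObj G] [IsAffine G.left] [Smooth G.hom] [ConnectedSpace ↥G.left]
    [IsIntegral X.left] [IsSeparated X.hom] [LocallyOfFiniteType X.hom] [QuasiCompact X.hom]
    (hX : Pi1.IsNormalScheme X.left) (a : AlgGrp.Action G X)
    (g : 𝟙_ (Over (Spec (CommRingCat.of k))) ⟶ G) (L : X.left.Modules) (hL : PicF.IsInvertible L) :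
    Nonempty ((Scheme.Modules.pullback (lift (toUnit X ≫ g) (𝟙 X) ≫ a.act).left).obj L ≅ L) := by
  haveI := Groth.L25.ConnIrred.irreducibleSpace G
  haveI : IsReduced G.left := Groth.Agent.AV.isReduced_of_smooth_field G.hom
  haveI : IsIntegral G.left := isIntegral_of_irreducibleSpace_of_isReduced G.left
  have hG : Pi1.IsNormalScheme G.left := Groth.L19.PicRat.isNormalScheme_of_smooth_field
  have hrat := Groth.Agent.S16121.result k G
  letI := Groth.Agent.AV.InterPic.picLaw G.left
  letI := Groth.Agent.AV.InterPic.picLaw X.left
  letI := Groth.Agent.AV.InterPic.picLaw (G ⊗ X).left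
  let hσ := Groth.Agent.AV.InterPic.pullMul a.act.left
  have h := Groth.L19.PicRat.pullCl_section_eq hG hX hrat (Groth.Agent.AV.InterPic.pullMul (fst G X).left)
    (Groth.Agent.AV.InterPic.pullMul (snd G X).left) (PicGrp.pullHom a.act.left hσ (PicGrp.cls L hL)) g η[G]
  rw [PicGrp.pullHom_apply_val, ← PicLoc.pullCl_comp, ← PicLoc.pullCl_comp, ← Over.comp_left, ← Over.comp_left,
    show Groth.L19.PicRat.secSnd (Y := X) η[G] ≫ a.act = 𝟙 X from by
      rw [Groth.L19.PicRat.secSnd, ← Hom.one_def, Groth.L25.Actions.one_act], Over.id_left, PicLoc.pullCl_id] at h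
  exact (PicGrp.cl_eq_cl_iff _ _).1 h

end Groth.Agent.S16118
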