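import Groth.Statements.S16119
import Groth.Agent.L19.PicRat.Product
import Groth.Agent.L25.ConnIrred
import Groth.Agent.L25.Actions
import Groth.Agent.S16121

set_option autoImplicit false
set_option backward.isDefEq.respectTransparency.types false
universe u
open CategoryTheory MonoidalCategory CartesianMonoidalCategory MonObj GrpObj AlgebraicGeometry CategoryTheory.Limits
open AlgGrp

namespace Groth.Agent.S16119

/-- Over an algebraically closed field k, let G be a connected linear algebraic group (an affine,
smooth, connected k-group scheme) acting by σ on a normal irreducible variety X (an integral normal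
separated k-scheme of finite type); assume the Picard group laws on G, X and G × X, with pullback
along σ and along the projection p₂ : G × X → X multiplicative. Let n be the exponent of the group
Pic(G) (a finite group). Then for every invertible O_X-module L with class c, σ^*(L^{⊗n}) ≅
p₂^*(L^{⊗n}): σ^*(cⁿ) = p₂^*(cⁿ) in Pic(G × X). (The published statement concludes that L^{⊗n}
admits a G-linearization; its argument establishes the displayed isomorphism, which is equivalent to
G-linearizability of L^{⊗n}; that equivalence is not restated here.) -/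
theorem result (k : Type u) [Field k] [IsAlgClosed k]
    (G X : Over (Spec (CommRingCat.of k))) [GrpObj G] [IsAffine G.left] [Smooth G.hom] [ConnectedSpace ↥G.left]
    [IsIntegral X.left] [IsSeparated X.hom] [LocallyOfFiniteType X.hom] [QuasiCompact X.hom]
    (hX : Pi1.IsNormalScheme X.left) (a : AlgGrp.Action G X)
    [PicGrp.Law G.left] [PicGrp.Law X.left] [PicGrp.Law (G ⊗ X).left]
    (hσ : PicGrp.PullMul a.act.left) (hp : PicGrp.PullMul (snd G X).left) (c : PicLoc.PicSet X.left) :
    PicGrp.pullHom a.act.left hσ (c ^ Monoid.exponent (PicLoc.PicSet G.left)) =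
      PicGrp.pullHom (snd G X).left hp (c ^ Monoid.exponent (PicLoc.PicSet G.left)) := by
  haveI := Groth.L25.ConnIrred.irreducibleSpace G
  haveI : IsReduced G.left := Groth.Agent.AV.isReduced_of_smooth_field G.hom
  haveI : IsIntegral G.left := isIntegral_of_irreducibleSpace_of_isReduced G.left
  have hG : Pi1.IsNormalScheme G.left := Groth.L19.PicRat.isNormalScheme_of_smooth_field
  have hrat := Groth.Agent.S16121.result k G
  obtain ⟨b₁, b₂, hb⟩ := Groth.L19.PicRat.exists_decomp hG hX hrat (Groth.Agent.AV.InterPic.pullMul (fst G X).left) hp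
    (PicGrp.pullHom a.act.left hσ c)
  -- restrict along the identity section
  let hs := Groth.Agent.AV.InterPic.pullMul (Groth.L19.PicRat.secSnd (Y := X) η[G]).left
  have h1 : PicGrp.pullHom (Groth.L19.PicRat.secSnd (Y := X) η[G]).left hs (PicGrp.pullHom a.act.left hσ c) = c := by
    refine Subtype.ext ?_
    simp only [PicGrp.pullHom_apply_val]
    rw [← PicLoc.pullCl_comp, ← Over.comp_left, show Groth.L19.PicRat.secSnd (Y := X) η[G] ≫ a.act = 𝟙 X from by
      rw [Groth.L19.PicRat.secSnd, ← Hom.one_def, Groth.L25.Actions.one_act]]
    exact PicLoc.pullCl_id _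
  have h2 : PicGrp.pullHom (Groth.L19.PicRat.secSnd (Y := X) η[G]).left hs
      (PicGrp.pullHom (fst G X).left (Groth.Agent.AV.InterPic.pullMul _) b₁ * PicGrp.pullHom (snd G X).left hp b₂) = b₂ := by
    rw [map_mul]
    refine (congrArg₂ (fun u v : PicLoc.PicSet X.left => u * v) (Subtype.ext ?_ : _ = (1 : PicLoc.PicSet X.left)) (Subtype.ext ?_ : _ = b₂)).trans (_root_.one_mul b₂)
    · simp only [PicGrp.pullHom_apply_val]
      rw [Groth.L19.PicRat.pullCl_secSnd_fst, PicGrp.one_val]
      rfl
    · exact Groth.L19.PicRat.pullCl_secSnd_snd η[G] b₂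
  have hbc : b₂ = c := h2.symm.trans ((congrArg _ hb).trans h1)
  rw [map_pow, map_pow, ← hb, hbc, mul_pow, ← map_pow, ← map_pow, Monoid.pow_exponent_eq_one, map_one,
    _root_.one_mul]

end Groth.Agent.S16119
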