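import Groth.Statements.S16120
import Groth.Agent.L19.PicRat.Product

set_option autoImplicit false
set_option backward.isDefEq.respectTransparency.types false
universe u
open CategoryTheory MonoidalCategory CartesianMonoidalCategory MonObj GrpObj AlgebraicGeometry CategoryTheory.Limits
open PicGrp

namespace Groth.Agent.S16120

/-- Over an algebraically closed field k, let X and Y be normal irreducible varieties (integral normal
separated k-schemes of finite type) and assume X rational: some nonempty open subscheme of X is
isomorphic over k to an open subscheme of an affine space 𝔸ⁿ_k. Assume the Picard group laws on X, Y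
and X × Y, with pullback along the two projections multiplicative. Then the map Pic(X) × Pic(Y) →
Pic(X × Y), (c, d) ↦ p₁^*(c) · p₂^*(d), is bijective. (The published companion assertion on divisor
class groups is not stated here.) -/
theorem result (k : Type u) [Field k] [IsAlgClosed k]
    (X Y : Over (Spec (CommRingCat.of k))) [IsIntegral X.left] [IsSeparated X.hom] [LocallyOfFiniteType X.hom] [QuasiCompact X.hom]
    [IsIntegral Y.left] [IsSeparated Y.hom] [LocallyOfFiniteType Y.hom] [QuasiCompact Y.hom]
    (hX : Pi1.IsNormalScheme X.left) (hY : Pi1.IsNormalScheme Y.left)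
    (hrat : ∃ (U : X.left.Opens) (n : ℕ) (V : (𝔸(ULift.{u} (Fin n); Spec (CommRingCat.of k))).Opens)
      (e : (U : Scheme.{u}) ≅ (V : Scheme.{u})), (U : Set ↥X.left).Nonempty ∧
        e.hom ≫ V.ι ≫ (𝔸(ULift.{u} (Fin n); Spec (CommRingCat.of k)) ↘ Spec (CommRingCat.of k)) = U.ι ≫ X.hom)
    [PicGrp.Law X.left] [PicGrp.Law Y.left] [PicGrp.Law (X ⊗ Y).left]
    (h₁ : PicGrp.PullMul (fst X Y).left) (h₂ : PicGrp.PullMul (snd X Y).left) :
    Function.Bijective (fun cd : PicLoc.PicSet X.left × PicLoc.PicSet Y.left =>
      PicGrp.pullHom (fst X Y).left h₁ cd.1 * PicGrp.pullHom (snd X Y).left h₂ cd.2) := by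
  refine ⟨fun a b h => ?_, fun l => ?_⟩
  · obtain ⟨h1, h2⟩ := Groth.L19.PicRat.decomp_unique h₁ h₂ h
    exact Prod.ext h1 h2
  · obtain ⟨c, d, h⟩ := Groth.L19.PicRat.exists_decomp hX hY hrat h₁ h₂ l
    exact ⟨(c, d), h⟩

end Groth.Agent.S16120
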