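import Groth.Statements.S16122
import Groth.Agent.L19.PicFin.Bridge
import Groth.Agent.L19.NormalSections
import Groth.Agent.L14.FiltUFD.Basic
import Groth.Agent.L25.Bridge.Lift
import Groth.Agent.L24.TorusField.SplitTriv
import Groth.Agent.L20.Rational.Main
import Groth.Agent.L20.Rational.Away
import Groth.Agent.S16121

set_option autoImplicit false
set_option backward.isDefEq.respectTransparency.types false
universe u
open CategoryTheory MonoidalCategory CartesianMonoidalCategory MonObj GrpObj AlgebraicGeometry CategoryTheory.Limits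
open AlgGrp

namespace Groth.Agent.S16122

/-- Over an algebraically closed field k, if G is a connected linear algebraic group (an affine, smooth,
connected k-group scheme), then Pic(G) is finite: there are only finitely many isomorphism classes
of invertible O_G-modules. -/
theorem result (k : Type u) [Field k] [IsAlgClosed k]
    (G : Over (Spec (CommRingCat.of k))) [GrpObj G] [IsAffine G.left] [Smooth G.hom] [ConnectedSpace ↥G.left] :
    Finite (PicLoc.PicSet G.left) := by
  classical
  obtain ⟨A, _, _, ⟨eG⟩⟩ := Groth.L25.Bridge.exists_hopf G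
  let P := Groth.L25.Bridge.P k A
  let φ : P ⟶ G := eG.inv.hom.hom
  let ψ : G ⟶ P := eG.hom.hom.hom
  have h1 : φ ≫ ψ = 𝟙 _ := congrArg (fun f => f.hom.hom) eG.inv_hom_id
  have h2 : ψ ≫ φ = 𝟙 G := congrArg (fun f => f.hom.hom) eG.hom_inv_id
  haveI : IsIso φ := ⟨ψ, h1, h2⟩
  haveI : IsIso ψ := ⟨φ, h2, h1⟩
  haveI : IsIso ψ.left := inferInstanceAs (IsIso ((Over.forget _).map ψ))
  haveI : IsIso φ.left := inferInstanceAs (IsIso ((Over.forget _).map φ))
  haveI : Smooth P.hom := by rw [← Over.w φ]; infer_instance
  haveI : ConnectedSpace P.left := ψ.left.homeomorph.surjective.connectedSpace ψ.left.homeomorph.continuous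
  haveI : IsDomain A := Groth.L24.TorusField.isDomain_of_smooth_connected (k := k)
  haveI : Algebra.FiniteType k A := by
    have hft : LocallyOfFiniteType P.hom := inferInstance
    change LocallyOfFiniteType (Spec.map (CommRingCat.ofHom (algebraMap k A))) at hft
    rwa [HasRingHomProperty.Spec_iff (P := @LocallyOfFiniteType), CommRingCat.hom_ofHom,
      RingHom.finiteType_algebraMap] at hft
  -- normality and Noetherianity
  haveI : IsNoetherianRing A := Algebra.FiniteType.isNoetherianRing k A
  haveI : IsAffine P.left := inferInstanceAs (IsAffine (Spec (CommRingCat.of A)))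
  haveI : IsIntegrallyClosed A := by
    haveI : IsIntegral (Spec (CommRingCat.of A)) := inferInstance
    haveI : Nonempty (Spec (CommRingCat.of A)) := inferInstanceAs (Nonempty (PrimeSpectrum A))
    haveI : Nonempty (⊤ : (Spec (CommRingCat.of A)).Opens) := ⟨⟨Classical.arbitrary _, trivial⟩⟩
    have hN : Pi1.IsNormalScheme P.left := Groth.L19.PicRat.isNormalScheme_of_smooth_field
    haveI := Groth.L19.NormalSec.isIntegrallyClosed_sections (X := Spec (CommRingCat.of A)) (fun x => (hN x).2) ⊤
    exact IsIntegrallyClosed.of_equiv (Scheme.ΓSpecIso (CommRingCat.of A)).commRingCatIsoToRingEquiv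
  -- a factorial principal open
  obtain ⟨n, ⟨E⟩⟩ := Groth.L20.Rational.rat_of_isDomain (k := k) A
  let M := MvPolynomial (ULift.{u} (Fin n)) k
  let ρ : M ≃ₐ[k] MvPolynomial (Fin n) k := MvPolynomial.renameEquiv k Equiv.ulift
  obtain ⟨E'⟩ := Groth.L20.Rational.fracEquiv_congr ρ
  let iA : A →ₐ[k] FractionRing M := ((E.trans E'.symm).toAlgHom).comp (IsScalarTower.toAlgHom k A (FractionRing A))
  obtain ⟨a, b, ha, hb, ⟨ε⟩⟩ := Groth.L20.Rational.exists_away_equiv iA (IsScalarTower.toAlgHom k M (FractionRing M))
    ((E.trans E'.symm).injective.comp (IsFractionRing.injective A (FractionRing A)))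
    (IsFractionRing.injective M (FractionRing M))
    (fun z => by
      obtain ⟨x, s, hs, hz⟩ := IsFractionRing.div_surjective (A := A) ((E.trans E'.symm).symm z)
      refine ⟨x, s, nonZeroDivisors.ne_zero hs, ?_⟩
      show z * (E.trans E'.symm) (algebraMap A _ s) = (E.trans E'.symm) (algebraMap A _ x)
      conv_lhs => rw [← (E.trans E'.symm).apply_symm_apply z, ← map_mul, ← hz,
        div_mul_cancel₀ _ (IsFractionRing.to_map_ne_zero_of_mem_nonZeroDivisors hs)])
    (fun z => by
      obtain ⟨x, s, hs, rfl⟩ := IsFractionRing.div_surjective (A := M) z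
      exact ⟨x, s, nonZeroDivisors.ne_zero hs,
        div_mul_cancel₀ _ (IsFractionRing.to_map_ne_zero_of_mem_nonZeroDivisors hs)⟩)
  have hpic : Subsingleton (CommRing.Pic (Localization.Away a)) := by
    haveI : IsDomain (Localization.Away b) :=
      IsLocalization.isDomain_localization (powers_le_nonZeroDivisors_of_noZeroDivisors hb)
    haveI : IsDomain (Localization.Away a) :=
      IsLocalization.isDomain_localization (powers_le_nonZeroDivisors_of_noZeroDivisors ha)
    haveI : UniqueFactorizationMonoid (Localization.Away b) :=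
      Groth.L14.FiltUFD.ufm_localization (Submonoid.powers b) (fun h => by
        obtain ⟨m, hm⟩ := h
        exact pow_ne_zero m hb hm)
    haveI : UniqueFactorizationMonoid (Localization.Away a) :=
      MulEquiv.uniqueFactorizationMonoid ε.symm.toMulEquiv inferInstance
    infer_instance
  obtain ⟨F, hF⟩ := Groth.L19.PicFin.exists_finite_classes ha hpic
  -- the invariant
  letI : GrpObj (CoactBr.sp k A) := inferInstance
  haveI : Smooth (CoactBr.sp k A).hom := ‹Smooth P.hom›
  haveI : ConnectedSpace (CoactBr.sp k A).left := ‹ConnectedSpace P.left›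
  haveI : IsAffine (CoactBr.sp k A).left := ‹IsAffine P.left›
  have key := fun (c : PicLoc.PicSet (Spec (CommRingCat.of A))) =>
    Groth.L19.PicFin.exists_torsion_ideal A (fun K _ _ g h => CoactBr.pt_mul_pt g h)
      (Groth.Agent.S16121.result k (CoactBr.sp k A)) c.2.choose c.2.choose_spec.2
  choose φ' hφ' I hI hI0 hILP htor using key
  choose J hJF hJ using fun c => hF (I c) (hI0 c) (hILP c) (htor c)
  have hinjJ : Function.Injective fun c => (⟨J c, hJF c⟩ : F) := by
    intro c c' h
    have hlink : Groth.L19.PicFin.Linked (I c) (I c') :=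
      (hJ c).trans (by rw [show J c = J c' from congrArg Subtype.val h]; exact (hJ c').symm)
    obtain ⟨e⟩ := Groth.L19.PicFin.exists_linearEquiv_of_linked (φ' c) (φ' c') (hφ' c) (hφ' c') (hI c ▸ hI c' ▸ hlink)
    obtain ⟨i⟩ := Groth.L19.PicFin.nonempty_iso_of_linearEquiv c.2.choose_spec.2 c'.2.choose_spec.2 e
    refine Subtype.ext ?_
    rw [← c.2.choose_spec.1, ← c'.2.choose_spec.1]
    exact Quot.sound ⟨i⟩
  haveI : Finite (PicLoc.PicSet (Spec (CommRingCat.of A))) := Finite.of_injective _ hinjJ
  let F' : PicLoc.PicSet G.left → PicLoc.PicSet (Spec (CommRingCat.of A)) := fun c =>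
    ⟨PicF.pullCl φ.left c.1, PicLoc.isInvertibleCl_pullCl φ.left c.2⟩
  refine Finite.of_injective F' fun c c' h => Subtype.ext ?_
  have h3 := congrArg (fun d => PicF.pullCl ψ.left d.1) h
  have e : ∀ d : PicF.Cl G.left, PicF.pullCl ψ.left (PicF.pullCl φ.left d) = d := fun d => by
    rw [← PicLoc.pullCl_comp, ← Over.comp_left, h2, Over.id_left, PicLoc.pullCl_id]
  exact (e c.1).symm.trans (h3.trans (e c'.1))

end Groth.Agent.S16122
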