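import Groth.Statements.S16124
import Groth.Agent.L18.AmpleAvoid
import Groth.Agent.L11.GalTwist.Twist

set_option autoImplicit false
set_option backward.isDefEq.respectTransparency.types false
set_option backward.isDefEq.respectTransparency false
set_option linter.style.haveILetI false
universe u
open CategoryTheory MonoidalCategory CartesianMonoidalCategory MonObj GrpObj AlgebraicGeometry CategoryTheory.Limits
open AlgGrp

namespace Groth.Agent.S16124

/-- Over an algebraically closed field k, let X be a quasi-projective variety (a reduced separated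
k-scheme, quasi-projective over k) with an action of a finite group Γ by k-automorphisms. Then X is
covered by Γ-stable affine open subschemes: every point x of X lies in an affine open U with σ⁻¹(U)
= U for every σ in Γ. -/
theorem result (k : Type u) [Field k] [IsAlgClosed k]
    (X : Over (Spec (CommRingCat.of k))) [IsReduced X.left] [IsSeparated X.hom] (hX : RelProj.IsQuasiProjective X.hom)
    (Γgrp : Type u) [Group Γgrp] [Finite Γgrp] (ρ : Γgrp →* Aut X.left)
    (hρ : ∀ σ : Γgrp, (ρ σ).hom ≫ X.hom = X.hom) (x : ↥X.left) :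
    ∃ U : X.left.Opens, x ∈ U ∧ IsAffineOpen U ∧ ∀ σ : Γgrp, (ρ σ).hom ⁻¹ᵁ U = U := by
  obtain ⟨-, -, L, hL⟩ := hX
  obtain ⟨n, s, hs, -, hsa⟩ := Groth.L18.Ample.exists_pow_genLocus_of_isAmple
    (Groth.L18.Ample.isAmple_of_isRelAmple hL) (Set.range fun σ => (ρ σ).hom x)
    (Set.finite_range _) ⊤ fun _ _ => trivial
  haveI : X.left.IsSeparated := ⟨by
    rw [← terminal.comp_from X.hom]
    infer_instance⟩
  haveI : IsAffineHom (pullback.diagonal (terminal.from X.left)) := inferInstance
  refine ⟨⨅ σ : Γgrp, (ρ σ).hom ⁻¹ᵁ CohB1.genLocus _ s, ?_, IsAffineOpen.iInf fun σ => hsa.preimage _, fun τ => ?_⟩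
  · rw [← SetLike.mem_coe, TopologicalSpace.Opens.coe_iInf, Set.mem_iInter]
    exact fun σ => hs ⟨σ, rfl⟩
  · ext y
    show (ρ τ).hom y ∈ ((⨅ σ : Γgrp, (ρ σ).hom ⁻¹ᵁ CohB1.genLocus _ s : X.left.Opens) : Set X.left) ↔
      y ∈ ((⨅ σ : Γgrp, (ρ σ).hom ⁻¹ᵁ CohB1.genLocus _ s : X.left.Opens) : Set X.left)
    rw [TopologicalSpace.Opens.coe_iInf, Set.mem_iInter, Set.mem_iInter]
    show (∀ σ, (ρ σ).hom ((ρ τ).hom y) ∈ CohB1.genLocus _ s) ↔ (∀ σ, (ρ σ).hom y ∈ CohB1.genLocus _ s)
    constructor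
    · intro h σ
      have e := h (σ * τ⁻¹)
      rw [← Scheme.Hom.comp_apply, show (ρ τ).hom ≫ (ρ (σ * τ⁻¹)).hom = (ρ σ).hom from by
        rw [map_mul, map_inv]; simp [Aut.Aut_mul_def, Aut.Aut_inv_def]] at e
      exact e
    · intro h σ
      have e := h (σ * τ)
      rw [← Scheme.Hom.comp_apply, show (ρ τ).hom ≫ (ρ σ).hom = (ρ (σ * τ)).hom from by
        rw [map_mul]; simp [Aut.Aut_mul_def]]
      exact e

end Groth.Agent.S16124
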