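import Groth.Statements.S16127
import Groth.Agent.L19.AlgGrpBasic.Descent
import Mathlib.AlgebraicGeometry.AffineSpace

set_option autoImplicit false
set_option backward.isDefEq.respectTransparency.types false
set_option backward.isDefEq.respectTransparency false
set_option linter.style.haveILetI false
universe u
open CategoryTheory MonoidalCategory CartesianMonoidalCategory MonObj GrpObj AlgebraicGeometry CategoryTheory.Limits
open AlgGrp

namespace Groth.Agent.S16127
open Groth.L19.AlgGrpBasic

/-- Over an algebraically closed field k, let G be an algebraic group (a smooth k-group scheme of finite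
type) acting by σ on a variety X, and let f : X → Y be a principal G-bundle over a variety Y (X, Y
reduced separated k-schemes of finite type; f flat and surjective, the square σ, p₂ : G × X → X, f,
f cartesian). Then f^* identifies Γ(Y, O_Y) with the invariants Γ(X, O_X)^G: f^* on global sections
is injective and its range is the set of global functions s on X with σ^*(s) = p₂^*(s). -/
theorem result (k : Type u) [Field k] [IsAlgClosed k]
    (G X Y : Over (Spec (CommRingCat.of k))) [GrpObj G] [Smooth G.hom] [QuasiCompact G.hom]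
    [IsReduced X.left] [IsSeparated X.hom] [LocallyOfFiniteType X.hom] [QuasiCompact X.hom]
    [IsReduced Y.left] [IsSeparated Y.hom] [LocallyOfFiniteType Y.hom] [QuasiCompact Y.hom]
    (a : AlgGrp.Action G X) (f : X ⟶ Y) [Flat f.left] [Surjective f.left]
    (hsq : IsPullback a.act.left (snd G X).left f.left f.left) :
    Function.Injective (f.left.appTop) ∧
      Set.range (f.left.appTop) = {s : Γ(X.left, ⊤) | a.act.left.appTop s = (snd G X).left.appTop s} := by
  haveI : QuasiCompact f.left := qc_left_field f
  haveI : Epi f.left := inferInstance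
  let A : Scheme.{u} := Spec (CommRingCat.of (MvPolynomial PUnit.{u + 1} (ULift.{u} ℤ)))
  let E : ∀ W : Scheme.{u}, (W ⟶ A) ≃ (PUnit.{u + 1} → Γ(W, ⊤)) := fun W => AffineSpace.toSpecMvPolyIntEquiv _
  have hE : ∀ {V W : Scheme.{u}} (h : V ⟶ W) (s : Γ(W, ⊤)),
      h ≫ (E W).symm (fun _ => s) = (E V).symm (fun _ => h.appTop s) := fun {V W} h s => by
    refine (E V).injective (funext fun i => ?_)
    refine (AffineSpace.toSpecMvPolyIntEquiv_comp _ h _ i).trans ?_
    show h.appTop ((E W) ((E W).symm fun _ => s) i) = (E V) ((E V).symm fun _ => h.appTop s) i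
    simp only [Equiv.apply_symm_apply]
  refine ⟨fun r r' h => ?_, Set.ext fun s => ⟨?_, fun hs => ?_⟩⟩
  · have : (E Y.left).symm (fun _ => r) = (E Y.left).symm (fun _ => r') := by
      rw [← cancel_epi f.left, hE, hE, h]
    exact congrFun ((E Y.left).symm.injective this) PUnit.unit
  · rintro ⟨r, rfl⟩
    show a.act.left.appTop (f.left.appTop r) = (snd G X).left.appTop (f.left.appTop r)
    rw [← CommRingCat.comp_apply, ← CommRingCat.comp_apply, ← Scheme.Hom.comp_appTop, ← Scheme.Hom.comp_appTop,
      hsq.w]
  · have hc : ∀ {W : Scheme.{u}} (b₁ b₂ : W ⟶ X.left), b₁ ≫ f.left = b₂ ≫ f.left →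
        b₁ ≫ (E X.left).symm (fun _ => s) = b₂ ≫ (E X.left).symm (fun _ => s) := fun b₁ b₂ e => by
      obtain ⟨l, rfl, rfl⟩ : ∃ l, l ≫ a.act.left = b₁ ∧ l ≫ (snd G X).left = b₂ :=
        ⟨hsq.lift b₁ b₂ e, hsq.lift_fst _ _ _, hsq.lift_snd _ _ _⟩
      rw [Category.assoc, Category.assoc, hE, hE, hE, hE, show a.act.left.appTop s = _ from hs]
    obtain ⟨d, hd⟩ : ∃ d : Y.left ⟶ A, f.left ≫ d = (E X.left).symm (fun _ => s) :=
      ⟨_, EffectiveEpi.fac f.left _ hc⟩
    refine ⟨E Y.left d PUnit.unit, ?_⟩
    have h' := congrFun (congrArg (E X.left) hd) PUnit.unit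
    simp only [Equiv.apply_symm_apply] at h'
    exact (AffineSpace.toSpecMvPolyIntEquiv_comp _ f.left d PUnit.unit).symm.trans h'

end Groth.Agent.S16127
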