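import Groth.Statements.S16128
import Groth.Agent.L19.PicRat.Product
import Groth.Agent.L19.PicRat.Cocycle
import Groth.Agent.L19.PicRat.Axes
import Groth.Agent.L25.ConnIrred
import Groth.Agent.L25.Actions
import Groth.Agent.S16121

set_option autoImplicit false
set_option backward.isDefEq.respectTransparency.types false
universe u
open CategoryTheory MonoidalCategory CartesianMonoidalCategory MonObj GrpObj AlgebraicGeometry CategoryTheory.Limits
open AlgGrp

namespace Groth.Agent.S16128

/-- Over an algebraically closed field k, let G be a connected linear algebraic group (an affine,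
smooth, connected k-group scheme), and f : X → Y a principal G-bundle between normal irreducible
varieties (X, Y integral normal separated k-schemes of finite type; σ the action on X; f flat and
surjective with the square σ, p₂, f, f cartesian). Let x be a k-point of X with orbit map α_x : G →
X, g ↦ g · x, and assume the Picard group laws on G, X and Y with pullback along f and along α_x
multiplicative. Then the sequence Pic(Y) → Pic(X) → Pic(G) is exact at Pic(X): a class c satisfies
α_x^*(c) = 1 if and only if c lies in the image of f^*. -/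
theorem result (k : Type u) [Field k] [IsAlgClosed k]
    (G X Y : Over (Spec (CommRingCat.of k))) [GrpObj G] [IsAffine G.left] [Smooth G.hom] [ConnectedSpace ↥G.left]
    [IsIntegral X.left] [IsSeparated X.hom] [LocallyOfFiniteType X.hom] [QuasiCompact X.hom] (hX : Pi1.IsNormalScheme X.left)
    [IsIntegral Y.left] [IsSeparated Y.hom] [LocallyOfFiniteType Y.hom] [QuasiCompact Y.hom] (hY : Pi1.IsNormalScheme Y.left)
    (a : AlgGrp.Action G X) (f : X ⟶ Y) [Flat f.left] [Surjective f.left]
    (hsq : IsPullback a.act.left (snd G X).left f.left f.left)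
    (x : 𝟙_ (Over (Spec (CommRingCat.of k))) ⟶ X)
    [PicGrp.Law G.left] [PicGrp.Law X.left] [PicGrp.Law Y.left]
    (hf : PicGrp.PullMul f.left) (hα : PicGrp.PullMul (a.orbitMap x).left) (c : PicLoc.PicSet X.left) :
    PicGrp.pullHom (a.orbitMap x).left hα c = 1 ↔ c ∈ (PicGrp.pullHom f.left hf).range := by
  haveI := Groth.L25.ConnIrred.irreducibleSpace G
  haveI : IsReduced G.left := Groth.Agent.AV.isReduced_of_smooth_field G.hom
  haveI : IsIntegral G.left := isIntegral_of_irreducibleSpace_of_isReduced G.left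
  have hG : Pi1.IsNormalScheme G.left := Groth.L19.PicRat.isNormalScheme_of_smooth_field
  haveI : IsSeparated G.hom := inferInstance
  letI := Groth.Agent.AV.InterPic.picLaw (G ⊗ X).left
  have hcomm : a.act ≫ f = snd G X ≫ f := Over.OverMorphism.ext hsq.w
  constructor
  swap
  · rintro ⟨d, rfl⟩
    refine Subtype.ext ?_
    rw [PicGrp.pullHom_apply_val, PicGrp.pullHom_apply_val, ← PicLoc.pullCl_comp, ← Over.comp_left,
      show a.orbitMap x ≫ f = toUnit G ≫ x ≫ f from by
        rw [AlgGrp.Action.orbitMap, Category.assoc, hcomm, lift_snd_assoc, Category.assoc],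
      Over.comp_left, PicGrp.one_val]
    exact Groth.L19.PicRat.pullCl_through_point _ _ d
  intro hc
  obtain ⟨L, hLc, hL⟩ := c.2
  let hσ := Groth.Agent.AV.InterPic.pullMul a.act.left
  let hp := Groth.Agent.AV.InterPic.pullMul (snd G X).left
  obtain ⟨b₁, b₂, hb⟩ := Groth.L19.PicRat.exists_decomp hG hX (Groth.Agent.S16121.result k G)
    (Groth.Agent.AV.InterPic.pullMul (fst G X).left) hp (PicGrp.pullHom a.act.left hσ c)
  have e₁ : Groth.L19.PicRat.secSnd (Y := X) η[G] ≫ a.act = 𝟙 X := by
    rw [Groth.L19.PicRat.secSnd, ← Hom.one_def, Groth.L25.Actions.one_act]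
  -- the first component is the restriction to the orbit
  have hb₁ : b₁ = 1 := by
    let hs := Groth.Agent.AV.InterPic.pullMul (Groth.L19.PicRat.secFst (X := G) x).left
    have h1 := congrArg (fun m => (PicGrp.pullHom (Groth.L19.PicRat.secFst (X := G) x).left hs m)) hb
    simp only [map_mul] at h1
    have h2 : PicGrp.pullHom (Groth.L19.PicRat.secFst (X := G) x).left hs (PicGrp.pullHom a.act.left hσ c) = 1 := by
      refine Eq.trans (Subtype.ext ?_) hc
      rw [PicGrp.pullHom_apply_val, PicGrp.pullHom_apply_val, PicGrp.pullHom_apply_val, ← PicLoc.pullCl_comp,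
        ← Over.comp_left]
      rfl
    have h3 : PicGrp.pullHom (Groth.L19.PicRat.secFst (X := G) x).left hs (PicGrp.pullHom (snd G X).left hp b₂) = 1 :=
      Subtype.ext (by
        simp only [PicGrp.pullHom_apply_val]
        rw [Groth.L19.PicRat.pullCl_secFst_snd, PicGrp.one_val]
        rfl)
    rw [h2, h3, _root_.mul_one] at h1
    exact (Subtype.ext (Groth.L19.PicRat.pullCl_secFst_fst x b₁).symm).trans h1
  rw [hb₁, map_one, _root_.one_mul] at hb
  have hb₂ : b₂ = c := by
    have h1 := congrArg (fun m : PicLoc.PicSet (G ⊗ X).left =>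
      PicF.pullCl (Groth.L19.PicRat.secSnd (Y := X) η[G]).left m.1) hb
    simp only [PicGrp.pullHom_apply_val] at h1
    rw [Groth.L19.PicRat.pullCl_secSnd_snd, ← PicLoc.pullCl_comp, ← Over.comp_left, e₁] at h1
    exact Subtype.ext (h1.trans (PicLoc.pullCl_id _))
  rw [hb₂] at hb
  obtain ⟨φ₀⟩ : Nonempty ((Scheme.Modules.pullback a.act.left).obj L ≅
      (Scheme.Modules.pullback (snd G X).left).obj L) := by
    refine (PicGrp.cl_eq_cl_iff _ _).1 ?_
    have h1 := congrArg Subtype.val hb.symm
    rw [PicGrp.pullHom_apply_val, PicGrp.pullHom_apply_val, ← hLc] at h1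
    exact h1
  -- descend
  haveI : QuasiCompact f.left := by
    haveI : QuasiCompact (f.left ≫ Y.hom) := by rw [Over.w f]; infer_instance
    exact QuasiCompact.of_comp f.left Y.hom
  haveI := Groth.L08.Cube.geometricallyIntegral_of_isAlgClosed G.hom
  haveI := Groth.L08.Cube.geometricallyIntegral_of_isAlgClosed X.hom
  haveI : IsLocallyNoetherian X.left := LocallyOfFiniteType.isLocallyNoetherian X.hom
  haveI : IsIntegral (G ⊗ X).left := inferInstanceAs (IsIntegral (pullback G.hom X.hom))
  haveI : IsSeparated (G ⊗ X).hom := inferInstanceAs (IsSeparated (pullback.fst G.hom X.hom ≫ G.hom))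
  haveI : LocallyOfFiniteType (G ⊗ X).hom := inferInstanceAs (LocallyOfFiniteType (pullback.fst G.hom X.hom ≫ G.hom))
  let r₁ := (G ◁ a.act) ≫ a.act
  let r₂ := snd G (G ⊗ X) ≫ a.act
  let r₃ := snd G (G ⊗ X) ≫ snd G X
  let y₀ : 𝟙_ (Over (Spec (CommRingCat.of k))) ⟶ G ⊗ X := lift η[G] x
  let sZ : G ⊗ X ⟶ G ⊗ (G ⊗ X) := lift (toUnit (G ⊗ X) ≫ η[G]) (𝟙 _)
  let sW : G ⟶ G ⊗ (G ⊗ X) := lift (𝟙 G) (toUnit G ≫ y₀)
  have w₁₂ : r₁ ≫ f = r₂ ≫ f := by
    simp only [r₁, r₂, Category.assoc, hcomm, whiskerLeft_snd_assoc]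
  have w₂₃ : r₂ ≫ f = r₃ ≫ f := by simp only [r₂, r₃, Category.assoc, hcomm]
  have hZ : sZ ≫ r₁ = sZ ≫ r₂ := by
    simp only [sZ, r₁, r₂, lift_whiskerLeft_assoc, lift_snd_assoc, Category.id_comp]
    rw [← Hom.one_def, Groth.L25.Actions.one_act]
  have hW : sW ≫ r₂ = sW ≫ r₃ := by
    simp only [sW, r₂, r₃, y₀, lift_snd_assoc, Category.assoc, lift_snd]
    rw [show η[G] = (1 : 𝟙_ (Over (Spec (CommRingCat.of k))) ⟶ G) from by
      rw [Hom.one_def, toUnit_unique (toUnit _) (𝟙 _), Category.id_comp], Groth.L25.Actions.one_act]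
  obtain ⟨M, hM, ⟨eM⟩⟩ := Groth.L19.PicRat.exists_descended_of_axes hsq hL φ₀ r₁.left r₂.left r₃.left
    (congrArg CommaMorphism.left w₁₂) (congrArg CommaMorphism.left w₂₃) (fun {T} a' b' c' h h' => by
      let T' : Over (Spec (CommRingCat.of k)) := Over.mk (c' ≫ X.hom)
      have hb' : b' ≫ X.hom = c' ≫ X.hom := by rw [← Over.w f, reassoc_of% h']
      have ha' : a' ≫ X.hom = c' ≫ X.hom := by rw [← Over.w f, reassoc_of% h, reassoc_of% h']
      let ℓ₁ : T' ⟶ G ⊗ X := Over.homMk (hsq.lift a' b' h) (by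
        rw [← Over.w (snd G X)]; exact (hsq.lift_snd_assoc _ _ _ _).trans hb')
      let ℓ₂ : T' ⟶ G ⊗ X := Over.homMk (hsq.lift b' c' h') (by
        rw [← Over.w (snd G X)]; exact hsq.lift_snd_assoc _ _ _ _)
      let A : T' ⟶ X := Over.homMk a' ha'
      let B : T' ⟶ X := Over.homMk b' hb'
      let C : T' ⟶ X := Over.homMk c' rfl
      have l1 : ℓ₁ ≫ a.act = A := Over.OverMorphism.ext (hsq.lift_fst _ _ _)
      have l1' : ℓ₁ ≫ snd G X = B := Over.OverMorphism.ext (hsq.lift_snd _ _ _)
      have l2 : ℓ₂ ≫ a.act = B := Over.OverMorphism.ext (hsq.lift_fst _ _ _)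
      have l2' : ℓ₂ ≫ snd G X = C := Over.OverMorphism.ext (hsq.lift_snd _ _ _)
      let q : T' ⟶ G ⊗ (G ⊗ X) := lift (ℓ₁ ≫ fst G X) ℓ₂
      have q1 : q ≫ r₁ = A := by
        simp only [q, r₁, lift_whiskerLeft_assoc]
        rw [l2, ← l1', ← comp_lift_assoc, lift_fst_snd, Category.id_comp, l1]
      have q2 : q ≫ r₂ = B := by simp only [q, r₂, lift_snd_assoc, l2]
      have q3 : q ≫ r₃ = C := by simp only [q, r₃, lift_snd_assoc, l2']
      exact ⟨q.left, congrArg CommaMorphism.left q1, congrArg CommaMorphism.left q2, congrArg CommaMorphism.left q3⟩)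
    sZ.left (congrArg CommaMorphism.left hZ) sW.left (congrArg CommaMorphism.left hW)
    (fun v h h' => Groth.L19.PicRat.units_eq_one_of_axes η[G] y₀ v h h')
  exact ⟨PicGrp.cls M hM, Subtype.ext (by
    rw [PicGrp.pullHom_apply_val, ← hLc]
    exact Quot.sound ⟨eM⟩)⟩

end Groth.Agent.S16128
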