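import Groth.Statements.S16132
import Groth.Agent.L08.TorusQuot.Main
-- import your own Groth.Agent.* helpers here

set_option autoImplicit false
set_option backward.isDefEq.respectTransparency.types false
set_option linter.style.haveILetI false
universe u
open CategoryTheory MonoidalCategory CartesianMonoidalCategory MonObj GrpObj AlgebraicGeometry CategoryTheory.Limits
open AlgGrp

namespace Groth.Agent.S16132

/-- Over an algebraically closed field k, let G be a connected algebraic group (a smooth connected
k-group scheme of finite type, not necessarily affine). Then G has a largest torus quotient through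
which all characters factor: there are a torus T (isomorphic to the diagonalizable group of ℤ^r for
some r), a flat surjective homomorphism q : G → T such that every character χ : G → 𝔾_m is χ' ∘ q
for some character χ' of T, and a kernel h : H → G of q (a homomorphism from a k-group scheme H
making the square against the unit section of T cartesian) with H connected and every character of H
trivial. (So H is the smallest closed normal subgroup scheme of G with G/H a torus, and restriction
identifies the characters of G/H with those of G.) -/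
theorem result (k : Type u) [Field k] [IsAlgClosed k]
    (G : Over (Spec (CommRingCat.of k))) [GrpObj G] [Smooth G.hom] [QuasiCompact G.hom] [ConnectedSpace ↥G.left] :
    ∃ (r : ℕ) (T : Over (Spec (CommRingCat.of k))) (_ : GrpObj T) (_ : Red.IsSplitTorusWith (Fin r → ℤ) T)
      (q : G ⟶ T) (_ : IsMonHom q) (H : Over (Spec (CommRingCat.of k))) (_ : GrpObj H) (h : H ⟶ G) (_ : IsMonHom h),
      Flat q.left ∧ Surjective q.left ∧ AlgGrp.IsKernel h q ∧ ConnectedSpace ↥H.left ∧
      (∀ χ : G ⟶ Red.Gm (Spec (CommRingCat.of k)), IsMonHom χ → ∃ χ' : T ⟶ Red.Gm (Spec (CommRingCat.of k)), IsMonHom χ' ∧ q ≫ χ' = χ) ∧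
      (∀ ψ : H ⟶ Red.Gm (Spec (CommRingCat.of k)), IsMonHom ψ → ψ = 1) := by
  obtain ⟨r, q, hq, H, gH, h, hh, hflat, hsurj, hker, hconn, hchar, hno⟩ :=
    Groth.L08.TorusQuot.exists_quotient k G
  let dT := Groth.L25.Bridge.dsIso.{u} k (Fin r → ℤ)
  let dG := Groth.L25.Bridge.dsIso.{u} k ℤ
  haveI hdG1 : IsMonHom dG.hom.hom.hom := dG.hom.hom.isMonHom_hom
  haveI hdG2 : IsMonHom dG.inv.hom.hom := dG.inv.hom.isMonHom_hom
  refine ⟨r, Groth.L25.Bridge.P k (Groth.L08.TorusQuot.Laur k r), inferInstance, ⟨dT.symm⟩, q, hq, H, gH, h, hh,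
    hflat, hsurj, hker, hconn, fun χ hχ => ?_, fun ψ hψ => ?_⟩
  · obtain ⟨χ', h1, h2⟩ := hchar (χ ≫ dG.hom.hom.hom) inferInstance
    refine ⟨χ' ≫ dG.inv.hom.hom, inferInstance, ?_⟩
    rw [← Category.assoc, h2, Category.assoc]
    have e : dG.hom.hom.hom ≫ dG.inv.hom.hom = 𝟙 _ := congrArg (fun m => m.hom.hom) dG.hom_inv_id
    rw [e, Category.comp_id]
  · have h2 := hno (ψ ≫ dG.hom.hom.hom) inferInstance
    have e : dG.hom.hom.hom ≫ dG.inv.hom.hom = 𝟙 _ := congrArg (fun m => m.hom.hom) dG.hom_inv_id
    have h3 := congrArg (· ≫ dG.inv.hom.hom) h2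
    simp only [Category.assoc, e, Category.comp_id] at h3
    rw [h3]
    exact MonObj.one_comp _

end Groth.Agent.S16132
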