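import Groth.Statements.S16133
import Groth.Agent.L19.AlgGrpBasic.AssocBundle
import Groth.Agent.S0082
import Groth.Agent.L08.Chev.Orbit
import Groth.Agent.L00.ReducedProd
import Groth.Agent.L20.GeomFibre

set_option autoImplicit false
set_option backward.isDefEq.respectTransparency.types false
set_option backward.isDefEq.respectTransparency false
set_option linter.style.haveILetI false
universe u
open CategoryTheory MonoidalCategory CartesianMonoidalCategory MonObj GrpObj AlgebraicGeometry CategoryTheory.Limits
open AlgGrp

namespace Groth.Agent.S16133

/-- Over an algebraically closed field k, let G be an algebraic group (a smooth k-group scheme of finite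
type), f : X → Y a principal G-bundle between varieties (X, Y reduced separated k-schemes of finite
type; σ the action on X; f flat and surjective with the square σ, p₂, f, f cartesian), and Z an
affine variety with an action τ of G. Then the associated fibre bundle X ×^G Z → Y exists: there are
a variety W (reduced, separated, of finite type over k), a morphism φ : X × Z → W which is invariant
for the diagonal action g · (x, z) = (g · x, g · z), and a morphism ψ : W → Y such that the square
formed by p₁ : X × Z → X, φ, f and ψ is cartesian. (The published statement covers every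
G-quasi-projective Z; affine G-varieties are G-quasi-projective, and only that case is stated here.) -/
theorem result (k : Type u) [Field k] [IsAlgClosed k]
    (G X Y Z : Over (Spec (CommRingCat.of k))) [GrpObj G] [Smooth G.hom] [QuasiCompact G.hom]
    [IsReduced X.left] [IsSeparated X.hom] [LocallyOfFiniteType X.hom] [QuasiCompact X.hom]
    [IsReduced Y.left] [IsSeparated Y.hom] [LocallyOfFiniteType Y.hom] [QuasiCompact Y.hom]
    [IsReduced Z.left] [IsAffine Z.left] [LocallyOfFiniteType Z.hom]
    (a : AlgGrp.Action G X) (f : X ⟶ Y) [Flat f.left] [Surjective f.left]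
    (hsq : IsPullback a.act.left (snd G X).left f.left f.left) (b : AlgGrp.Action G Z) :
    ∃ (W : Over (Spec (CommRingCat.of k))) (φ : X ⊗ Z ⟶ W) (ψ : W ⟶ Y),
      IsReduced W.left ∧ IsSeparated W.hom ∧ LocallyOfFiniteType W.hom ∧ QuasiCompact W.hom ∧
      lift ((G ◁ fst X Z) ≫ a.act) ((G ◁ snd X Z) ≫ b.act) ≫ φ = snd G (X ⊗ Z) ≫ φ ∧
      IsPullback (fst X Z).left φ.left f.left ψ.left := by
  haveI : QuasiCompact f.left := by
    haveI : QuasiCompact (f.left ≫ Y.hom) := by rw [Over.w f]; infer_instance
    exact QuasiCompact.of_comp f.left Y.hom
  haveI : IsAffineHom Z.hom := inferInstance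
  obtain ⟨W, φ, ψ, hinv, hpb⟩ := Groth.L19.AlgGrpBasic.Assoc.exists_bundle a b hsq
  let P : MorphismProperty Scheme.{u} := @Surjective ⊓ @Flat ⊓ @QuasiCompact
  have hP : P f.left := ⟨⟨inferInstance, inferInstance⟩, inferInstance⟩
  haveI := Groth.Agent.S0082.result.{u}
  haveI : IsAffineHom (fst X Z).left := by
    have e : (fst X Z).left = pullback.fst X.hom Z.hom := by simp
    rw [e]
    exact MorphismProperty.pullback_fst _ _ inferInstance
  haveI : LocallyOfFiniteType (fst X Z).left := by
    have e : (fst X Z).left = pullback.fst X.hom Z.hom := by simp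
    rw [e]
    exact MorphismProperty.pullback_fst _ _ inferInstance
  haveI : IsAffineHom ψ.left :=
    MorphismProperty.of_isPullback_of_descendsAlong (P := @IsAffineHom) (Q := P) hpb hP inferInstance
  haveI : LocallyOfFiniteType ψ.left :=
    MorphismProperty.of_isPullback_of_descendsAlong (P := @LocallyOfFiniteType) (Q := P) hpb hP inferInstance
  have e : W.hom = ψ.left ≫ Y.hom := (Over.w ψ).symm
  haveI : Surjective φ.left := MorphismProperty.of_isPullback (P := @Surjective) hpb inferInstance
  haveI : Flat φ.left := MorphismProperty.of_isPullback (P := @Flat) hpb inferInstance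
  haveI : GeometricallyReduced Z.hom := Groth.L08.Chev.geometricallyReduced_of_reduced Z
  haveI : IsReduced (X ⊗ Z).left := by
    show IsReduced (pullback X.hom Z.hom)
    exact Groth.L00.ReducedProd.isReduced_pullback X.hom Z.hom
  refine ⟨W, φ, ψ, Groth.L20.isReduced_of_surjective_of_flat φ.left, ?_, ?_, ?_, hinv, hpb⟩ <;>
    rw [e] <;> infer_instance

end Groth.Agent.S16133
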