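import Groth.Statements.S16141
import Groth.Agent.L21.Bundle.ThetaTwo
import Groth.Agent.L21.Disc.SimplyConn
import Groth.Agent.S7638
import Groth.Agent.S11828

set_option autoImplicit false
set_option backward.isDefEq.respectTransparency false
set_option linter.style.haveILetI false
universe u
open CategoryTheory CategoryTheory.Limits AlgebraicGeometry
open VBCurve

namespace Groth.Agent.S16141

/-- Let k be an algebraically closed field of characteristic zero and X a smooth proper geometrically
connected curve over k (topological dimension one) of genus g ≥ 2 (the text's standing setting: a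
smooth projective complex curve of genus at least 2). Let E be a slope-semistable finite locally
free O_X-module of rank 2 with trivial determinant: some second exterior power of E is isomorphic to
O_X. Then there is an invertible O_X-module L of degree g − 1 (degree χ(L) − χ(O_X)) with H^0(X, E ⊗
L) = 0. (The published statement says that the determinant linear series on the moduli space of
rank-2 bundles with trivial determinant has no base points; this row states the equivalent vanishing
for every semistable bundle that its proof establishes.) -/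
theorem result
    (k : Type u) [Field k] [IsAlgClosed k] [CharZero k]
    (X : Scheme.{u}) [X.Over (Spec (CommRingCat.of k))]
    [IsProper (X ↘ Spec (CommRingCat.of k))] [Smooth (X ↘ Spec (CommRingCat.of k))]
    [GeometricallyConnected (X ↘ Spec (CommRingCat.of k))] (hdim : topologicalKrullDim ↥X = 1)
    (g : ℕ) (hg : Curv2.genus k X = g) (hg2 : 2 ≤ g)
    (E : X.Modules) (hE : FlatMod.IsFinLocFreeOfRank 2 E) (hEss : ModFun.IsSlopeSemistable k X E 2)
    (hdet : ∃ D : X.Modules, ExtPow.IsExtPow 2 E D ∧ Nonempty (D ≅ Coh.structureModule X)) :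
    ∃ L : X.Modules, PicF.IsInvertible L ∧ Curv2.deg k X L 1 = (g : ℤ) - 1 ∧
      Subsingleton (Coh.HH X (CohB1.tensorMod E L) 0) := by
  haveI : GeometricallyIntegral (X ↘ Spec (CommRingCat.of k)) :=
    Groth.L21.Disc.geometricallyIntegral_of_smooth (X ↘ Spec (CommRingCat.of k))
  haveI : IsIntegral X := GeometricallyIntegral.isIntegral_of_subsingleton (X ↘ Spec (CommRingCat.of k))
  haveI := Groth.L21.RR.isNoetherian_of_proper (X := X) k
  have h0 : Groth.L21.RR.h k 0 (Coh.structureModule X) = 1 := Groth.L21.RR.h0_eq_one_of_geometricallyIntegral k hdim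
  obtain ⟨D, hD, ⟨eD⟩⟩ := hdet
  have hdeg : Curv2.deg k X E 2 = 0 := by
    rw [Groth.Agent.S7638.result k X hdim.le 2 E hE D hD, Curv2.deg, Groth.L03.Euler.euler_iso eD]
    simp
  have hdE : Groth.L21.Bundle.dg k E = 0 := by rw [← Groth.L21.Bundle.dg_eq k hE]; exact hdeg
  have hbd : Groth.L21.Bundle.Bd k E 0 2 := by
    have := Groth.L21.Bundle.bd_of_ss k (Groth.L21.Smooth.regular_stalk (k := k) (X ↘ Spec (CommRingCat.of k))) hdim.le hE hEss
    rwa [hdE] at this
  obtain ⟨L₀, hL₀, hd₀, -⟩ := Groth.Agent.S11828.result k X hdim
  obtain ⟨L, hL, hdL, h⟩ := Groth.L21.Bundle.ThetaTwo.exists_h0_zero k hdim h0 hE hdE hbd hL₀ hd₀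
  exact ⟨L, hL, hdL.trans (by rw [hg]), h⟩

end Groth.Agent.S16141
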