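import Groth.Statements.S16142
import Groth.Agent.L29.BiReg.Basic
-- import your own Groth.Agent.* helpers here

set_option autoImplicit false
universe u
open CategoryTheory CategoryTheory.Limits AlgebraicGeometry
open Variety

namespace Groth.Agent.S16142

/-- Let k be an algebraically closed field of characteristic zero and let G₁, G₂ be finite locally free
O-modules on P¹ ×_k P¹. Suppose G₁ is (p, q)-regular and G₂ is (m, n)-regular, regularity being the
bigraded one: F is (p, q)-regular when H^{u₁+u₂}(P¹ × P¹, F(p - u₁, q - u₂)) = 0 for all natural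
numbers u₁, u₂ with u₁ + u₂ > 0. Suppose moreover that G₁(p, q) and G₂(m, n) are globally generated.
Then G₁ ⊗ G₂ is (p + m, q + n)-regular. (The published lemma does not list the global generation of
G₁(p, q) and G₂(m, n) among its hypotheses: it obtains it from the bigraded form of Mumford's
regularity criterion, which the source quotes without proof; here it is carried as a hypothesis. The
source works over the complex numbers.) -/
theorem result (k : Type u) [Field k] [IsAlgClosed k] [CharZero k]
    (G₁ G₂ : (W4c3multigrregular.biProj 1 1 k).Modules)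
    (hG₁ : FlatMod.IsFinLocFree G₁) (hG₂ : FlatMod.IsFinLocFree G₂) (p q m n : ℤ)
    (hreg₁ : W4c3multigrregular.IsBiReg 1 1 k G₁ p q) (hreg₂ : W4c3multigrregular.IsBiReg 1 1 k G₂ m n)
    (hgg₁ : Curv2.IsGloballyGenerated (W4c3multigrregular.twistBi 1 1 k G₁ p q))
    (hgg₂ : Curv2.IsGloballyGenerated (W4c3multigrregular.twistBi 1 1 k G₂ m n)) :
    W4c3multigrregular.IsBiReg 1 1 k (CohB1.tensorMod G₁ G₂) (p + m) (q + n) :=
  Groth.L29.BiReg.isBiReg_tensor hG₁ hG₂ p q m n hreg₁ hreg₂ hgg₁ hgg₂

end Groth.Agent.S16142
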