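import Groth.Statements.S16148
import Groth.Agent.L22.PDual.EnriquesSeveri
import Groth.Agent.L22.FibreDim
import Groth.Agent.L22.SchemeDim
import Groth.Agent.L03.Euler.Dim
import Groth.Agent.L16.CohSupport
-- import your own Groth.Agent.* helpers here

set_option autoImplicit false
universe u
open CategoryTheory CategoryTheory.Limits AlgebraicGeometry
open Variety

namespace Groth.Agent.S16148

/-- Let k be a characteristic-zero algebraically closed field and G a coherent O-module (quasi-coherent
of finite type) on projective n-space P^n_k whose support, as a subspace of P^n_k, has Krull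
dimension a with a ≥ 1. Then there is an integer m such that H^a(P^n_k, G(m)) ≠ 0, where G(m) = G ⊗
O(m). (The source works over the complex numbers.) -/
theorem result (k : Type u) [Field k] [IsAlgClosed k] [CharZero k]
    (n : ℕ) (G : (CohB1.ProjSpace n k).Modules) (hG : Coh.IsCoh G) (a : ℕ) (ha : 1 ≤ a)
    (hdim : topologicalKrullDim ↥(CohB1.support G) = a) :
    ∃ m : ℤ, Nontrivial (Coh.HH (CohB1.ProjSpace n k) (CohB1.tensorMod G (Twist.twistProjSpace n k m)) a) := by
  classical
  let P := CohB1.ProjSpace n k
  haveI := Groth.L22.PDual.proper n k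
  haveI := Groth.L21.RR.isNoetherian_of_proper (X := P) k
  haveI : Coh.IsQCoh G := hG.1
  haveI : LocallyOfFiniteType (P ↘ Spec (CommRingCat.of k)) :=
    (inferInstance : LocallyOfFiniteType (CohB1.ProjSpace.toSpec n k))
  have hcl : IsClosed (CohB1.support G) := Groth.L16.CohSupport.isClosed_support G hG.2
  -- a point whose closure is a component of top dimension
  obtain ⟨η, hη, hηdim⟩ : ∃ η ∈ CohB1.support G,
      topologicalKrullDim (closure ({η} : Set P)) = (a : WithBot ℕ∞) := by
    haveI : QuasiSober ↥(CohB1.support G) := hcl.isClosedEmbedding_subtypeVal.quasiSober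
    obtain ⟨y, hy⟩ := Groth.L22.FibreDim.exists_le_dim_closure (T := ↥(CohB1.support G)) (r := a) hdim.ge
    have himg : Subtype.val '' closure ({y} : Set ↥(CohB1.support G)) = closure ({(y : P)} : Set P) := by
      rw [← hcl.isClosedEmbedding_subtypeVal.closure_image_eq, Set.image_singleton]
    have e : topologicalKrullDim (closure ({y} : Set ↥(CohB1.support G))) =
        topologicalKrullDim (closure ({(y : P)} : Set P)) := by
      rw [← himg]
      exact IsHomeomorph.topologicalKrullDim_eq _
        (Topology.IsEmbedding.subtypeVal.homeomorphImage (closure ({y} : Set _))).isHomeomorph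
    refine ⟨y, y.2, le_antisymm ?_ (e ▸ hy)⟩
    rw [← e, ← hdim]
    exact topologicalKrullDim_subspace_le _ _
  -- it is maximal in the support
  have hmax : ∀ z ∈ CohB1.support G, z ⤳ η → z = η := by
    intro z hz hzη
    by_contra hne
    have hsub : closure ({η} : Set P) ⊆ closure ({z} : Set P) :=
      closure_minimal (Set.singleton_subset_iff.2 (specializes_iff_mem_closure.1 hzη)) isClosed_closure
    have hne' : closure ({η} : Set P) ≠ closure ({z} : Set P) := fun h =>
      hne (hzη.antisymm (specializes_iff_mem_closure.2 (h ▸ subset_closure rfl))).eq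
    have h1 := Groth.L03.Euler.topologicalKrullDim_add_one_le isClosed_closure
      isIrreducible_singleton.closure hsub hne'
    have hzS : closure ({z} : Set P) ⊆ CohB1.support G := closure_minimal (Set.singleton_subset_iff.2 hz) hcl
    have h2 : topologicalKrullDim (closure ({z} : Set P)) ≤ (a : WithBot ℕ∞) := by
      rw [← hdim]
      exact (Topology.IsEmbedding.inclusion hzS).isInducing.topologicalKrullDim_le
    rw [hηdim] at h1
    have h3 : (a : ℕ∞) + 1 ≤ (a : ℕ∞) := WithBot.coe_le_coe.1 (h1.trans h2)
    have h4 : a + 1 ≤ a := by exact_mod_cast h3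
    omega
  -- the local ring there is regular of dimension `n - a`
  haveI := Groth.L22.PDual.regular_stalk (n := n) (k := k) η
  haveI : IrreducibleSpace P := inferInstance
  obtain ⟨a', b, ha', hb, hloc⟩ := Groth.L22.SchemeDim.exists_localDim k P η
  obtain rfl : a' = a := by
    obtain ⟨m, hm, htr⟩ := Groth.L22.SchemeDim.exists_dim_closure_eq_trdeg k P η
    have h1 : (m : ℕ∞) = a := WithBot.coe_injective (hm.symm.trans hηdim)
    have h2 : (a' : Cardinal) = m := ha'.symm.trans htr
    have h3 : a' = m := by exact_mod_cast h2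
    rw [h3]; exact_mod_cast h1
  have hab : a' + b = n := by
    obtain ⟨d, hd, -, hop⟩ := Groth.L22.SchemeDim.exists_dim_eq_trdeg k P
    have hdn : (d : ℕ∞) = n :=
      WithBot.coe_injective (hd.symm.trans (Groth.L16.ProjSpace.topologicalKrullDim_eq_of_field n k))
    have h1 : FlatMor.localDim P η = (d : WithBot ℕ∞) :=
      le_antisymm (iInf_le_of_le ⟨⊤, trivial⟩ (hop ⊤ ⟨η, trivial⟩).le) (le_iInf fun V => (hop V.1 ⟨η, V.2⟩).ge)
    have h2 : ((a' + b : ℕ) : ℕ∞) = (d : ℕ∞) := WithBot.coe_injective (hloc.symm.trans h1)
    exact_mod_cast h2.trans hdn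
  by_contra hcon
  -- all twists vanish, so the top Ext at the point vanishes
  have hvan : ∃ m₀ : ℤ, ∀ m : ℤ, m₀ ≤ m →
      Subsingleton (Coh.HH P (Groth.L22.Reg.tw' G (-m)) a') :=
    ⟨0, fun m _ => not_nontrivial_iff_subsingleton.1 fun h => hcon ⟨-m, h⟩⟩
  have hext : Subsingleton (CategoryTheory.Abelian.Ext (ModuleCat.of (P.presheaf.stalk η) (G.presheaf.stalk η))
      (ModuleCat.of (P.presheaf.stalk η) (P.presheaf.stalk η)) b) :=
    (Groth.L22.PDual.cohomology_vanish_iff Groth.L22.PDual.meets_all hG hab).1 hvan η trivial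
  have hfl : IsFiniteLength (P.presheaf.stalk η) (G.presheaf.stalk η) :=
    Module.length_ne_top_iff.1 (Groth.L16.CohSupport.len_ne_top hG hmax)
  obtain ⟨-, hlen⟩ := Groth.L29.LocDual.ext_regular_finiteLength b hb (G.presheaf.stalk η) hfl
  let e := (Groth.L04.LC.extIso (P.presheaf.stalk η) b (ModuleCat.of _ (G.presheaf.stalk η))
    (ModuleCat.of (P.presheaf.stalk η) (P.presheaf.stalk η))).toLinearEquiv
  haveI := hext
  haveI := e.toEquiv.subsingleton
  rw [Module.length_eq_zero] at hlen
  exact hη (Module.length_eq_zero_iff.1 hlen.symm)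

end Groth.Agent.S16148
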