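import Groth.Statements.S16149
-- import your own Groth.Agent.* helpers here
import Groth.Agent.L16.DevissageKilled

set_option autoImplicit false
universe u
open CategoryTheory CategoryTheory.Limits AlgebraicGeometry TopologicalSpace
open SDiv

namespace Groth.Agent.S16149

/-- Let X be a locally Noetherian scheme, F a coherent O_X-module (quasi-coherent of finite type) and s
: O_X → F a global section of F. Then the set of points x of X at which the stalk map (O_X)_x → F_x
of s is bijective is open. (The published statement assumes moreover X integral and normal and F
reflexive of rank one; the openness assertion uses only that F is coherent on a locally Noetherian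
scheme, and it can fail for F quasi-coherent of finite type on a scheme that is not locally
Noetherian.) -/
theorem result (X : Scheme.{u}) [IsLocallyNoetherian X] (F : X.Modules) (hF : Coh.IsCoh F)
    (s : Coh.structureModule X ⟶ F) : IsOpen (RefPow.isoLocus s) := by
  classical
  obtain ⟨hK, hC⟩ := Groth.L16.CohKernel.isCoh_kernel_cokernel Groth.L16.CohClosedPush.isCoh_structure hF s
  have key : RefPow.isoLocus s = (CohB1.support (kernel s) ∪ CohB1.support (cokernel s))ᶜ := by
    ext x
    let S := Groth.L00.Stk.F X x
    have hmap : RefHull.stalkMapₗ s x = (S.map s).hom := LinearMap.ext fun v => rfl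
    rw [RefPow.mem_isoLocus, hmap]
    show Function.Bijective (S.map s) ↔ _
    rw [Set.mem_compl_iff, Set.mem_union, not_or]
    constructor
    · intro h
      obtain ⟨h1, h2⟩ := Groth.L16.Devissage.len_zero_of_bijective s x h
      exact ⟨(Groth.L16.CohSupport.len_eq_zero_iff x _).1 h1, (Groth.L16.CohSupport.len_eq_zero_iff x _).1 h2⟩
    · rintro ⟨h1, h2⟩
      haveI : Subsingleton (S.obj (kernel s)) := not_not.1 h1
      haveI : Subsingleton (S.obj (cokernel s)) := not_not.1 h2
      haveI : Mono (S.map s) := Preadditive.mono_of_isZero_kernel _
        ((ModuleCat.isZero_of_subsingleton (S.obj (kernel s))).of_iso (PreservesKernel.iso S s).symm)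
      haveI : Epi (S.map s) := Preadditive.epi_of_isZero_cokernel _
        ((ModuleCat.isZero_of_subsingleton (S.obj (cokernel s))).of_iso (PreservesCokernel.iso S s).symm)
      exact ⟨(ModuleCat.mono_iff_injective _).1 inferInstance, (ModuleCat.epi_iff_surjective _).1 inferInstance⟩
  rw [key, isOpen_compl_iff]
  exact (Groth.L16.CohSupport.isClosed_support _ hK.2).union (Groth.L16.CohSupport.isClosed_support _ hC.2)

end Groth.Agent.S16149
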