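import Groth.Statements.S16150
import Groth.Agent.L15.Ref.SPow
import Groth.Agent.L21.Mod.Stalks
import Mathlib.CategoryTheory.Limits.Preserves.Filtered
import Mathlib.Topology.Sheaves.Skyscraper
import Mathlib.Algebra.Category.Grp.FilteredColimits
-- import your own Groth.Agent.* helpers here

set_option autoImplicit false
universe u
open CategoryTheory CategoryTheory.Limits AlgebraicGeometry TopologicalSpace
open SDiv

namespace Groth.Agent.S16150

open Groth.L15.Ref
open Groth.L18.Frame (rs ro)

/-- Let X be an integral locally Noetherian normal scheme, F a rank one coherent reflexive O_X-module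
and s : O_X → F a global section of F. Let U be the open subscheme of X whose points are those x at
which the stalk map (O_X)_x → F_x of s is bijective, and j : U → X its inclusion. Consider the
system O_X → F → F^[2] → F^[3] → ⋯ of reflexive powers (F^[0] = O_X, F^[1] = F, F^[n+1] the
reflexive hull of F^[n] ⊗ F), each map being multiplication by s. Then j_*(O_X|_U) is the colimit of
this system in the category of O_X-modules; precisely, there is a cocone from the system to
j_*(O_X|_U) whose leg in degree 0 is the restriction map O_X → j_*(O_X|_U) (the unit of the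
adjunction between restriction to U and direct image along j) and which is a colimit cocone. -/
theorem result (X : Scheme.{u}) [IsIntegral X] [IsLocallyNoetherian X]
    (hX : Pi1.IsNormalScheme X) (F : X.Modules) (hF : RefHull.IsRef1 F) (s : Coh.structureModule X ⟶ F)
    (U : X.Opens) (hU : (U : Set X) = RefPow.isoLocus s) :
    ∃ ι : RefPow.diagram F s ⟶ (Functor.const ℕ).obj ((Scheme.Modules.pushforward U.ι).obj ((Coh.structureModule X).restrict U.ι)),
      ι.app 0 = (Scheme.Modules.restrictAdjunction U.ι).unit.app (Coh.structureModule X) ∧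
        Nonempty (IsColimit (Cocone.mk _ ι)) := by
  classical
  have hiso : ∀ {x : X}, x ∈ RefPow.isoLocus s ↔ x ∈ U := fun {x} => (Set.ext_iff.1 hU x).symm
  have himg : ∀ W : U.toScheme.Opens, U.ι ''ᵁ W ≤ U := fun W =>
    le_of_le_of_eq (U.ι.image_le_opensRange W) U.opensRange_ι
  have hφ : ∀ n, IsIso ((Scheme.Modules.restrictFunctor U.ι).map (RefPow.sPow s n)) := fun n => by
    rw [Scheme.Modules.Hom.isIso_iff_isIso_app]
    intro W
    rw [ConcreteCategory.isIso_iff_bijective]
    exact sPow_app_bijective hF (fun z hz => hiso.2 (himg W hz)) n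
  let P : X.Modules := (Scheme.Modules.pushforward U.ι).obj ((Coh.structureModule X).restrict U.ι)
  let adj := Scheme.Modules.restrictAdjunction U.ι
  let ι₀ : ∀ n, RefPow.refPow F n ⟶ P := fun n =>
    adj.homEquiv _ _ (@inv _ _ _ _ ((Scheme.Modules.restrictFunctor U.ι).map (RefPow.sPow s n)) (hφ n))
  have hnat : ∀ n, RefPow.mulBy s n ≫ ι₀ (n + 1) = ι₀ n := fun n => by
    haveI := hφ n
    haveI := hφ (n + 1)
    simp only [ι₀]
    rw [← Adjunction.homEquiv_naturality_left]
    congr 1
    rw [IsIso.comp_inv_eq, IsIso.eq_inv_comp, ← Functor.map_comp, ← RefPow.sPow_succ]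
  let ι : RefPow.diagram F s ⟶ (Functor.const ℕ).obj P := NatTrans.ofSequence ι₀ fun n => by
    rw [RefPow.diagram_map, Functor.const_obj_map]
    exact (hnat n).trans (Category.comp_id _).symm
  refine ⟨ι, ?_, ?_⟩
  · haveI := hφ 0
    show adj.homEquiv _ _ (inv ((Scheme.Modules.restrictFunctor U.ι).map (RefPow.sPow s 0))) = _
    have h0 : inv ((Scheme.Modules.restrictFunctor U.ι).map (RefPow.sPow s 0)) = 𝟙 _ := by
      refine IsIso.inv_eq_of_hom_inv_id ?_
      exact (Category.comp_id _).trans ((Scheme.Modules.restrictFunctor U.ι).map_id _)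
    rw [h0]
    exact Adjunction.homEquiv_id _ _
  have hchar : ∀ (n : ℕ) (V : X.Opens) (t : Γ(RefPow.refPow F n, V)),
      (RefPow.sPow s n).app (U.ι ''ᵁ U.ι ⁻¹ᵁ V) ((ι₀ n).app V t) =
        rs (RefPow.refPow F n) (U.ι.image_preimage_le V) t := fun n V t => by
    haveI := hφ n
    have h1 : (inv ((Scheme.Modules.restrictFunctor U.ι).map (RefPow.sPow s n)) ≫
        (Scheme.Modules.restrictFunctor U.ι).map (RefPow.sPow s n)).app (U.ι ⁻¹ᵁ V)
          (rs (RefPow.refPow F n) (U.ι.image_preimage_le V) t) = rs (RefPow.refPow F n) (U.ι.image_preimage_le V) t := by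
      rw [IsIso.inv_hom_id]
      rfl
    refine Eq.trans ?_ h1
    simp only [ι₀, Adjunction.homEquiv_unit]
    rw [Scheme.Modules.Hom.comp_app, Scheme.Modules.restrictAdjunction_unit_app_app]
    rfl
  have htf : ∀ n x, Module.IsTorsionFree (X.presheaf.stalk x) ((RefPow.refPow F n).presheaf.stalk x) := fun n =>
    isTorsionFree_stalk (isRef1_refPow hF n).1 (isRef1_refPow hF n).2.1
  haveI hqc : ∀ n, Coh.IsQCoh (RefPow.refPow F n) := fun n => (isRef1_refPow hF n).1.1
  have hWη : ∀ {V : X.Opens}, genericPoint ↥X ∈ U → genericPoint ↥X ∈ V →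
      genericPoint ↥X ∈ U.ι ''ᵁ U.ι ⁻¹ᵁ V := fun {V} h h' => by
    rw [Scheme.Hom.image_preimage_eq_opensRange_inf, Scheme.Opens.opensRange_ι]
    exact ⟨h, h'⟩
  let c : Cocone (RefPow.diagram F s) := colimit.cocone _
  let hc : IsColimit c := colimit.isColimit _
  haveI : IsIso (hc.desc (Cocone.mk _ ι)) := by
    rw [Groth.L21.Mod.isIso_iff_stalk_bijective]
    intro x
    haveI : PreservesColimitsOfSize.{0, 0} (TopCat.Sheaf.forget AddCommGrpCat.{u} X.toTopCat ⋙
        TopCat.Presheaf.stalkFunctor AddCommGrpCat.{u} x) :=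
      (Adjunction.ofIsLeftAdjoint _).leftAdjoint_preservesColimits
    haveI : PreservesColimitsOfShape ℕ (Groth.L21.Mod.toAbSh X) := by
      haveI : PreservesColimitsOfSize.{u, u} (Groth.L21.Mod.toAbSh X) := Groth.L21.Mod.preservesColimitsOfSize_toAbSh
      haveI : PreservesColimitsOfSize.{0, 0} (Groth.L21.Mod.toAbSh X) := preservesSmallestColimits_of_preservesColimits _
      infer_instance
    haveI : PreservesFilteredColimitsOfSize.{0, 0} (forget AddCommGrpCat.{u}) :=
      preservesSmallestFilteredColimits_of_preservesFilteredColimits _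
    haveI : PreservesColimitsOfShape ℕ (Groth.L21.Mod.stalkF X x) :=
      preservesColimitsOfShape_of_natIso (Groth.L21.Mod.stalkFIso x)
    have hrep : ∀ v : (Groth.L21.Mod.stalkF X x).obj c.pt, ∃ (n : ℕ) (w : (RefPow.refPow F n).presheaf.stalk x),
        (Groth.L21.Mod.stalkF X x).map (c.ι.app n) w = v := fun v =>
      Concrete.isColimit_exists_rep _ (isColimitOfPreserves (Groth.L21.Mod.stalkF X x) hc) v
    have hfac : ∀ (n : ℕ) (w : (RefPow.refPow F n).presheaf.stalk x),
        (Groth.L21.Mod.stalkF X x).map (hc.desc (Cocone.mk _ ι)) ((Groth.L21.Mod.stalkF X x).map (c.ι.app n) w) =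
          (Groth.L21.Mod.stalkF X x).map (ι₀ n) w := fun n w => by
      rw [← ConcreteCategory.comp_apply, ← Functor.map_comp, hc.fac]
      rfl
    constructor
    · rw [injective_iff_map_eq_zero]
      intro v hv
      obtain ⟨n, w, rfl⟩ := hrep v
      rw [hfac] at hv
      by_cases hηU : genericPoint ↥X ∈ U
      · suffices w = 0 from (congrArg _ this).trans (map_zero _)
        obtain ⟨V, hxV, t, rfl⟩ := TopCat.Presheaf.exists_germ_eq (F := (RefPow.refPow F n).presheaf) (x := x) w
        rw [Groth.L21.Mod.stalkF_map_germ] at hv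
        obtain ⟨W, hxW, i, i', e⟩ := TopCat.Presheaf.germ_eq P.presheaf x hxV hxV ((ι₀ n).app V t) 0
          (hv.trans (map_zero (P.presheaf.germ V x hxV).hom).symm)
        have e' : (ι₀ n).app W (rs (RefPow.refPow F n) i.le t) = 0 :=
          (congr($((ι₀ n).mapPresheaf.naturality i.op) t)).trans (e.trans (map_zero _))
        have e'' := hchar n W (rs (RefPow.refPow F n) i.le t)
        have e3 := ((congrArg ((RefPow.sPow s n).app (U.ι ''ᵁ U.ι ⁻¹ᵁ W)) e').trans (map_zero _)).symm.trans e''
        haveI := htf n x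
        refine toEta_injective x ?_
        rw [toEta_germ _ hxV, map_zero,
          ← Groth.L20.ModStalk.germ_rs (RefPow.refPow F n) i.le (eta_mem hxW) t,
          ← Groth.L20.ModStalk.germ_rs (RefPow.refPow F n) (U.ι.image_preimage_le W) (hWη hηU (eta_mem hxW)),
          ← e3, map_zero]
      · have hs : secSt s x = 0 := by
          haveI : Coh.IsQCoh F := hF.1.1
          haveI := isTorsionFree_stalk hF.1 hF.2.1 x
          refine toEta_injective (F := F) x ?_
          rw [toEta_secSt, map_zero]
          by_contra h0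
          exact hηU (hiso.1 ((bijective_iff_secSt s _).2 (bijective_smul_of_ne_zero hF.2.2 h0)))
        have hw : (RefPow.diagram F s).map (homOfLE (Nat.le_succ n)) ≫ c.ι.app (n + 1) = c.ι.app n := c.w _
        rw [← hw, Functor.map_comp, ConcreteCategory.comp_apply, RefPow.diagram_map]
        show (Groth.L21.Mod.stalkF X x).map (c.ι.app (n + 1)) (RefHull.stalkMapₗ (RefPow.mulBy s n) x w) = 0
        rw [mulBy_eq_zero s hs n w]
        exact map_zero _
    · intro v
      obtain ⟨V₀, hxV₀, h₀, rfl⟩ := TopCat.Presheaf.exists_germ_eq (F := P.presheaf) (x := x) v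
      obtain ⟨V, hV, hxV, hVV₀⟩ := exists_isAffineOpen_mem_and_subset (x := x) (U := V₀) hxV₀
      have hgerm : P.presheaf.germ V₀ x hxV₀ h₀ = P.presheaf.germ V x hxV (rs P hVV₀ h₀) :=
        (Groth.L20.ModStalk.germ_rs P hVV₀ hxV h₀).symm
      by_cases hηU : genericPoint ↥X ∈ U
      · have hηV := eta_mem hxV
        have hle : U ⊓ V ≤ U.ι ''ᵁ U.ι ⁻¹ᵁ V := by
          rw [Scheme.Hom.image_preimage_eq_opensRange_inf, Scheme.Opens.opensRange_ι]
        let a : Γ(X, U.ι ''ᵁ U.ι ⁻¹ᵁ V) := rs P hVV₀ h₀
        obtain ⟨n, hn⟩ := exists_lift hX hF hU hV hηU hηV (ro hle a)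
        obtain ⟨t, ht⟩ := hn n le_rfl
        refine ⟨(Groth.L21.Mod.stalkF X x).map (c.ι.app n) ((RefPow.refPow F n).presheaf.germ V x hxV t), ?_⟩
        rw [hfac, Groth.L21.Mod.stalkF_map_germ]
        refine (congrArg (P.presheaf.germ V x hxV) ?_).trans hgerm.symm
        refine (sPow_app_bijective hF (W := U.ι ''ᵁ U.ι ⁻¹ᵁ V) (fun z hz => hiso.2 (himg _ hz)) n).1 ?_
        rw [hchar]
        refine germ_eta_injective (htf n) fun hη => ?_
        rw [Groth.L20.ModStalk.germ_rs, ht]
        refine Eq.trans ?_ (germ_sPow_app n hη a).symm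
        exact congrArg (· • secSt (RefPow.sPow s n) (genericPoint ↥X))
          (TopCat.Presheaf.germ_res_apply X.presheaf (homOfLE hle) _ _ a)
      · refine ⟨0, (map_zero _).trans ?_⟩
        rw [hgerm]
        refine ((congrArg (P.presheaf.germ V x hxV) ?_).trans (map_zero _)).symm
        refine sec_ext (N := Coh.structureModule X) fun z hz => ?_
        exact absurd (eta_mem (himg _ hz)) hηU
  exact ⟨IsColimit.ofPointIso hc⟩

end Groth.Agent.S16150
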