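import Groth.Statements.S16151
import Groth.Agent.L15.Ref.SPow
-- import your own Groth.Agent.* helpers here

set_option autoImplicit false
universe u
open CategoryTheory CategoryTheory.Limits AlgebraicGeometry TopologicalSpace
open SDiv

namespace Groth.Agent.S16151

open Groth.L15.Ref
open Groth.L18.Frame (rs ro)

/-- Let X be an integral locally Noetherian normal scheme, F a rank one coherent reflexive O_X-module
and s : O_X → F a global section of F; let U be the open subscheme of X whose points are those x at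
which the stalk map (O_X)_x → F_x of s is bijective, and let F^[n] denote the reflexive powers of F
(F^[0] = O_X, F^[1] = F, F^[n+1] the reflexive hull of F^[n] ⊗ F) with s^n ∈ Γ(X, F^[n]) the n-th
power of s. Then the following are equivalent: (1) the inclusion morphism U → X is affine; (2) for
every point x of X not in U there is an integer n > 0 such that the germ of s^n at x lies in m_x ·
(F^[n])_x, where m_x is the maximal ideal of the local ring at x. -/
theorem result (X : Scheme.{u}) [IsIntegral X] [IsLocallyNoetherian X]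
    (hX : Pi1.IsNormalScheme X) (F : X.Modules) (hF : RefHull.IsRef1 F) (s : Coh.structureModule X ⟶ F)
    (U : X.Opens) (hU : (U : Set X) = RefPow.isoLocus s) :
    IsAffineHom U.ι ↔
      ∀ x : X, x ∉ U → ∃ n : ℕ, 0 < n ∧
        RefPow.sPowGerm s n x ∈ IsLocalRing.maximalIdeal (X.presheaf.stalk x) •
          (⊤ : Submodule (X.presheaf.stalk x) ((RefPow.refPow F n).presheaf.stalk x)) := by
  classical
  have hiso : ∀ {x : X}, x ∈ RefPow.isoLocus s ↔ x ∈ U := fun {x} => (Set.ext_iff.1 hU x).symm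
  constructor
  · intro h x hxU
    by_cases h0 : secSt s (genericPoint ↥X) = 0
    · refine ⟨1, one_pos, ?_⟩
      haveI : Coh.IsQCoh F := hF.1.1
      haveI := isTorsionFree_stalk hF.1 hF.2.1 x
      have h1 : secSt s x = 0 := toEta_injective (F := F) x (by rw [toEta_secSt, h0, map_zero])
      rw [sPowGerm_eq]
      show secSt (𝟙 (Coh.structureModule X) ≫ s) x ∈ _
      rw [Category.id_comp]
      exact h1 ▸ zero_mem _
    have hηU : genericPoint ↥X ∈ U := hiso.1 ((bijective_iff_secSt s _).2 (bijective_smul_of_ne_zero hF.2.2 h0))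
    obtain ⟨V, hV, hxV, -⟩ := exists_isAffineOpen_mem_and_subset (x := x) (U := ⊤) trivial
    have hηV := eta_mem hxV
    have hUV : IsAffineOpen (U ⊓ V) := by
      have h1 := (hV.preimage U.ι).image_of_isOpenImmersion U.ι
      rwa [Scheme.Hom.image_preimage_eq_opensRange_inf, Scheme.Opens.opensRange_ι] at h1
    have hspan : Ideal.span (ro (inf_le_right : U ⊓ V ≤ V) '' {f : Γ(X, V) | X.basicOpen f ≤ U}) = ⊤ := by
      refine hUV.iSup_basicOpen_eq_self_iff.1 (le_antisymm (iSup_le fun _ => X.basicOpen_le _) fun y hy => ?_)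
      obtain ⟨f, hfU, hyf⟩ := hV.exists_basicOpen_le (V := U ⊓ V) ⟨y, hy⟩ hy.2
      refine Opens.mem_iSup.2 ⟨⟨_, f, hfU.trans inf_le_left, rfl⟩, ?_⟩
      show y ∈ X.basicOpen ((X.presheaf.map (homOfLE (inf_le_right : U ⊓ V ≤ V)).op) f)
      rw [Scheme.basicOpen_res]
      exact ⟨hy, hyf⟩
    have key : ∀ b ∈ Ideal.span (ro (inf_le_right : U ⊓ V ≤ V) '' {f : Γ(X, V) | X.basicOpen f ≤ U}),
        ∀ c : Γ(X, U ⊓ V), ∃ N : ℕ, ∀ n ≥ N, ∃ t : Γ(RefPow.refPow F n, V),
          (RefPow.refPow F n).presheaf.germ V _ hηV t =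
            X.presheaf.germ (U ⊓ V) (genericPoint ↥X) ⟨hηU, hηV⟩ (c * b) • secSt (RefPow.sPow s n) (genericPoint ↥X) ∧
          (RefPow.refPow F n).presheaf.germ V x hxV t ∈ IsLocalRing.maximalIdeal (X.presheaf.stalk x) •
            (⊤ : Submodule (X.presheaf.stalk x) ((RefPow.refPow F n).presheaf.stalk x)) := by
      intro b hb
      induction hb using Submodule.span_induction with
      | mem b hb =>
        obtain ⟨f, hf, rfl⟩ := hb
        intro c
        obtain ⟨N, hN⟩ := exists_lift hX hF hU hV hηU hηV c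
        refine ⟨N, fun n hn => ?_⟩
        obtain ⟨t, ht⟩ := hN n hn
        refine ⟨f • t, ?_, ?_⟩
        · rw [Groth.L20.ModStalk.germ_smul, ht, smul_smul, map_mul, mul_comm]
          refine congrArg (· • secSt (RefPow.sPow s n) (genericPoint ↥X)) (congrArg (_ * ·) ?_)
          exact (TopCat.Presheaf.germ_res_apply X.presheaf (homOfLE (inf_le_right : U ⊓ V ≤ V)) _ _ f).symm
        · rw [Groth.L20.ModStalk.germ_smul]
          refine Submodule.smul_mem_smul ((IsLocalRing.mem_maximalIdeal _).2 fun hu => hxU ?_) trivial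
          exact hf ((X.mem_basicOpen f x hxV).2 hu)
      | zero =>
        exact fun c => ⟨0, fun n _ => ⟨0, by rw [map_zero, mul_zero, map_zero, zero_smul], by rw [map_zero]; exact zero_mem _⟩⟩
      | add b b' _ _ ih ih' =>
        intro c
        obtain ⟨N, hN⟩ := ih c
        obtain ⟨N', hN'⟩ := ih' c
        refine ⟨max N N', fun n hn => ?_⟩
        obtain ⟨t, ht, htx⟩ := hN n (le_of_max_le_left hn)
        obtain ⟨t', ht', htx'⟩ := hN' n (le_of_max_le_right hn)
        refine ⟨t + t', ?_, ?_⟩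
        · rw [map_add, ht, ht', mul_add, map_add, add_smul]
        · rw [map_add]; exact add_mem htx htx'
      | smul d b _ ih =>
        intro c
        rw [smul_eq_mul, ← mul_assoc]
        exact ih (c * d)
    obtain ⟨N, hN⟩ := key 1 (hspan.ge trivial) 1
    refine ⟨max N 1, lt_of_lt_of_le one_pos (le_max_right _ _), ?_⟩
    obtain ⟨t, ht, htx⟩ := hN (max N 1) (le_max_left _ _)
    haveI : Coh.IsQCoh (RefPow.refPow F (max N 1)) := (isRef1_refPow hF _).1.1
    have htV : t = SecTwist.val (RefPow.sPow s (max N 1)) V :=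
      germ_eta_injective (isTorsionFree_stalk (isRef1_refPow hF _).1 (isRef1_refPow hF _).2.1) fun hη => by
        rw [germ_val, ht, mul_one, map_one, one_smul]
    rw [sPowGerm_eq, ← germ_val (RefPow.sPow s (max N 1)) hxV, ← htV]
    exact htx
  · intro h
    refine ⟨fun V hV => ?_⟩
    rw [← U.ι.isAffineOpen_iff_of_isOpenImmersion, Scheme.Hom.image_preimage_eq_opensRange_inf,
      Scheme.Opens.opensRange_ι]
    refine isAffineOpen_of_isAffineOpen_basicOpen (U ⊓ V)
      (ro (inf_le_right : U ⊓ V ≤ V) '' {f : Γ(X, V) | X.basicOpen f ≤ U}) ?_ ?_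
    swap
    · rintro _ ⟨f, hf, rfl⟩
      show IsAffineOpen (X.basicOpen ((X.presheaf.map (homOfLE (inf_le_right : U ⊓ V ≤ V)).op) f))
      rw [Scheme.basicOpen_res, inf_eq_right.2 (le_inf (Set.mem_ofPred.1 hf) (X.basicOpen_le f))]
      exact hV.basicOpen f
    by_contra hne
    obtain ⟨P, hP, hPle⟩ := Ideal.exists_le_maximal _ hne
    let ρ : Γ(X, V) →+* Γ(X, U ⊓ V) := (X.presheaf.map (homOfLE (inf_le_right : U ⊓ V ≤ V)).op).hom
    haveI := hP.isPrime
    let p : PrimeSpectrum Γ(X, V) := ⟨P.comap ρ, inferInstance⟩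
    have hyV : hV.fromSpec p ∈ V := hV.range_fromSpec.le ⟨p, rfl⟩
    generalize hy : hV.fromSpec p = y at hyV
    have hp : hV.primeIdealOf ⟨y, hyV⟩ = p :=
      hV.fromSpec.isOpenEmbedding.injective ((hV.fromSpec_primeIdealOf ⟨y, hyV⟩).trans hy.symm)
    letI := X.presheaf.algebra_section_stalk (⟨y, hyV⟩ : V)
    haveI := hV.isLocalization_stalk ⟨y, hyV⟩
    have hyU : y ∉ U := by
      intro hyU
      obtain ⟨f, hf, hyf⟩ := hV.exists_basicOpen_le (V := U) ⟨y, hyU⟩ hyV
      have hfp : f ∈ (hV.primeIdealOf ⟨y, hyV⟩).asIdeal := by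
        rw [hp]
        exact hPle (Ideal.subset_span ⟨f, hf, rfl⟩)
      exact (IsLocalization.AtPrime.isUnit_to_map_iff (X.presheaf.stalk y) (hV.primeIdealOf ⟨y, hyV⟩).asIdeal f).1
        ((X.mem_basicOpen f y hyV).1 hyf) hfp
    obtain ⟨n, -, hn⟩ := h y hyU
    rw [sPowGerm_eq] at hn
    haveI : Coh.IsQCoh (RefPow.refPow F n) := (isRef1_refPow hF n).1.1
    letI := Groth.L20.ModStalk.stalkModule (RefPow.refPow F n) hyV
    haveI := Groth.L20.ModStalk.isLocalizedModule_germ (RefPow.refPow F n) hV hyV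
    have hclear : ∀ v ∈ IsLocalRing.maximalIdeal (X.presheaf.stalk y) •
        (⊤ : Submodule (X.presheaf.stalk y) ((RefPow.refPow F n).presheaf.stalk y)),
        ∃ q ∈ (hV.primeIdealOf ⟨y, hyV⟩).asIdeal.primeCompl, ∃ t ∈ (hV.primeIdealOf ⟨y, hyV⟩).asIdeal •
          (⊤ : Submodule Γ(X, V) Γ(RefPow.refPow F n, V)),
          (RefPow.refPow F n).presheaf.germ V y hyV t = X.presheaf.germ V y hyV q • v := by
      intro v hv
      induction hv using Submodule.smul_induction_on' with
      | smul r hr w _ =>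
        obtain ⟨⟨a, q⟩, haq⟩ := IsLocalization.surj (M := (hV.primeIdealOf ⟨y, hyV⟩).asIdeal.primeCompl) r
        obtain ⟨⟨m, q'⟩, hmq⟩ := IsLocalizedModule.surj (hV.primeIdealOf ⟨y, hyV⟩).asIdeal.primeCompl
          (Groth.L20.ModStalk.germₗ (RefPow.refPow F n) hyV) w
        have haq' : r * X.presheaf.germ V y hyV (q : Γ(X, V)) = X.presheaf.germ V y hyV a := haq
        have hmq' : X.presheaf.germ V y hyV (q' : Γ(X, V)) • w = (RefPow.refPow F n).presheaf.germ V y hyV m := hmq
        have ha : a ∈ (hV.primeIdealOf ⟨y, hyV⟩).asIdeal :=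
          (IsLocalization.AtPrime.to_map_mem_maximal_iff (X.presheaf.stalk y) _ a).1
            (haq' ▸ Ideal.mul_mem_right _ _ hr)
        refine ⟨_, mul_mem q.2 q'.2, a • m, Submodule.smul_mem_smul ha trivial, ?_⟩
        rw [Groth.L20.ModStalk.germ_smul, ← hmq', ← haq', map_mul, smul_smul, smul_smul]
        exact congrArg (· • w) (by ring)
      | add v _ v' _ ih ih' =>
        obtain ⟨q, hq, t, ht, htv⟩ := ih
        obtain ⟨q', hq', t', ht', htv'⟩ := ih'
        refine ⟨q * q', mul_mem hq hq', q' • t + q • t', add_mem (Submodule.smul_mem _ _ ht) (Submodule.smul_mem _ _ ht'), ?_⟩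
        rw [map_add, Groth.L20.ModStalk.germ_smul, Groth.L20.ModStalk.germ_smul, htv, htv', map_mul, smul_add,
          smul_smul, smul_smul, mul_comm (X.presheaf.germ V y hyV q') (X.presheaf.germ V y hyV q)]
    obtain ⟨q, hq, t, ht, htv⟩ := hclear _ hn
    obtain ⟨⟨c, hc⟩, hct⟩ : ∃ c : (hV.primeIdealOf ⟨y, hyV⟩).asIdeal.primeCompl,
        c • (q • (show Γ(RefPow.refPow F n, V) from SecTwist.val (RefPow.sPow s n) V)) = c • t :=
      (IsLocalizedModule.eq_iff_exists (hV.primeIdealOf ⟨y, hyV⟩).asIdeal.primeCompl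
        (Groth.L20.ModStalk.germₗ (RefPow.refPow F n) hyV)).1 (by
          show (RefPow.refPow F n).presheaf.germ V y hyV (q • (show Γ(RefPow.refPow F n, V) from SecTwist.val (RefPow.sPow s n) V)) =
            (RefPow.refPow F n).presheaf.germ V y hyV t
          rw [Groth.L20.ModStalk.germ_smul, htv, germ_val])
    have hcoef : ∀ t ∈ (hV.primeIdealOf ⟨y, hyV⟩).asIdeal • (⊤ : Submodule Γ(X, V) Γ(RefPow.refPow F n, V)),
        ∃ b ∈ P, ∀ (z : X) (hz : z ∈ U ⊓ V), (RefPow.refPow F n).presheaf.germ V z hz.2 t =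
          X.presheaf.germ (U ⊓ V) z hz b • secSt (RefPow.sPow s n) z := by
      intro t ht
      induction ht using Submodule.smul_induction_on' with
      | smul a ha m _ =>
        obtain ⟨e, he⟩ := exists_coeff_sec hF (W := U ⊓ V) (fun z hz => hiso.2 hz.1) n
          (rs (RefPow.refPow F n) inf_le_right m)
        rw [hp] at ha
        refine ⟨ρ a * e, P.mul_mem_right _ ha, fun z hz => ?_⟩
        rw [Groth.L20.ModStalk.germ_smul, ← Groth.L20.ModStalk.germ_rs (RefPow.refPow F n) (inf_le_right : U ⊓ V ≤ V) hz m,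
          he z hz, smul_smul, map_mul]
        refine congrArg (· • secSt (RefPow.sPow s n) z) (congrArg (· * _) ?_)
        exact (TopCat.Presheaf.germ_res_apply X.presheaf (homOfLE (inf_le_right : U ⊓ V ≤ V)) z hz a).symm
      | add t _ t' _ ih ih' =>
        obtain ⟨b, hb, hbt⟩ := ih
        obtain ⟨b', hb', hbt'⟩ := ih'
        exact ⟨b + b', add_mem hb hb', fun z hz => by rw [map_add, hbt z hz, hbt' z hz, map_add, add_smul]⟩
    obtain ⟨b, hb, hbt⟩ := hcoef (c • t) (Submodule.smul_mem _ _ ht)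
    have hcq : c * q ∈ (hV.primeIdealOf ⟨y, hyV⟩).asIdeal.primeCompl := mul_mem hc hq
    apply hcq
    rw [hp]
    show ρ (c * q) ∈ P
    refine (?_ : ρ (c * q) = b) ▸ hb
    refine TopCat.Presheaf.section_ext X.sheaf (U ⊓ V) _ _ fun z hz => ((bijective_iff_secSt (RefPow.sPow s n) z).1
      (sPow_bijective hF (hiso.2 hz.1) n)).1 ?_
    show X.presheaf.germ (U ⊓ V) z hz (ρ (c * q)) • secSt (RefPow.sPow s n) z = X.presheaf.germ (U ⊓ V) z hz b • secSt (RefPow.sPow s n) z
    rw [← hbt z hz, show c • t = c • (q • (show Γ(RefPow.refPow F n, V) from SecTwist.val (RefPow.sPow s n) V)) from hct.symm,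
      Groth.L20.ModStalk.germ_smul, Groth.L20.ModStalk.germ_smul, germ_val, smul_smul, ← map_mul]
    exact congrArg (· • secSt (RefPow.sPow s n) z)
      (TopCat.Presheaf.germ_res_apply X.presheaf (homOfLE (inf_le_right : U ⊓ V ≤ V)) z hz (c * q))

end Groth.Agent.S16151
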