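import Groth.Statements.S16152
import Groth.Agent.L15.EulerKer
import Mathlib.Tactic.Ring
import Mathlib.Tactic.LinearCombination
import Mathlib.Tactic.FieldSimp
import Mathlib.Algebra.BigOperators.Ring.Finset

set_option autoImplicit false
universe u
open WGauss

namespace Groth.Agent.S16152

open MvPolynomial in
/-- Over a field k of characteristic zero, for e, a, b positive integers with a < b, the weighted
Gaussian map of the line bundle O(e) on projective n-space is surjective. Concretely, identifying
global sections of O(m) with homogeneous polynomials of degree m in X_0, ..., X_n and global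
sections of the twisted cotangent sheaf Omega^1(t) with the (n+1)-tuples of homogeneous polynomials
of degree t - 1 killed by the Euler map (f_i) to sum_i X_i f_i, every such tuple with t = (a+b)e is
a k-linear combination of the tuples (b tau (d sigma / d X_i) - a sigma (d tau / d X_i))_i with
sigma homogeneous of degree ae and tau homogeneous of degree be. (The source works over the complex
numbers; the statement is one of linear algebra and is given here over any field of characteristic
zero.) -/
theorem result
    (k : Type u) [Field k] [CharZero k] (n e a b : ℕ) (he : 0 < e) (ha : 0 < a) (hab : a < b)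
    (f : Fin (n + 1) → MvPolynomial (Fin (n + 1)) k)
    (hf : ∀ i, (f i).IsHomogeneous ((a + b) * e - 1))
    (hEuler : ∑ i, X i * f i = 0) :
    f ∈ Submodule.span k
      {g : Fin (n + 1) → MvPolynomial (Fin (n + 1)) k |
        ∃ σ τ : MvPolynomial (Fin (n + 1)) k, σ.IsHomogeneous (a * e) ∧ τ.IsHomogeneous (b * e) ∧
          g = fun i => (b : k) • (τ * pderiv i σ) - (a : k) • (σ * pderiv i τ)} := by
  refine Groth.L15.EulerKer.mem_span_of_euler ((a + b) * e) (Nat.one_le_iff_ne_zero.2 (Nat.mul_pos (by omega) he).ne')
    f hf hEuler _ fun u i j hu hij => ?_
  exact Groth.L15.EulerKer.kos_mem e a b he ha hab u i j hu hij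

end Groth.Agent.S16152
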