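import Groth.Statements.S16153
import Mathlib.RingTheory.MvPolynomial.WeightedHomogeneous
import Mathlib.Algebra.Polynomial.Derivative
import Mathlib.Tactic

set_option autoImplicit false
universe u
open SpinRat

namespace Groth.Agent.S16153

open MvPolynomial in
section
open MvPolynomial
variable {k : Type u} [Field k]

/-- the monomials of bidegree (3,3) -/
private noncomputable def s53e (p : Fin 4 × Fin 4) : Fin 4 →₀ ℕ :=
  Finsupp.equivFunOnFinite.symm ![p.1.val, 3 - p.1.val, p.2.val, 3 - p.2.val]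

private lemma s53_decomp (f : MvPolynomial (Fin 4) k)
    (hx : f.IsWeightedHomogeneous (![1, 1, 0, 0] : Fin 4 → ℕ) 3)
    (hy : f.IsWeightedHomogeneous (![0, 0, 1, 1] : Fin 4 → ℕ) 3) :
    f = ∑ i : Fin 4, ∑ j : Fin 4, C (coeff (s53e (i, j)) f) *
      (X 0 ^ i.val * X 1 ^ (3 - i.val) * (X 2 ^ j.val * X 3 ^ (3 - j.val))) := by
  classical
  have hinj : Function.Injective s53e := fun p q e => by
    have e0 := DFunLike.congr_fun e 0
    have e2 := DFunLike.congr_fun e 2
    simp [s53e] at e0 e2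
    exact Prod.ext (Fin.ext e0) (Fin.ext e2)
  have hsupp : f.support ⊆ Finset.univ.image s53e := fun m hm => by
    have h1 := hx (mem_support_iff.mp hm)
    have h2 := hy (mem_support_iff.mp hm)
    simp [Finsupp.weight_apply, Finsupp.sum_fintype, Fin.sum_univ_four] at h1 h2
    refine Finset.mem_image.mpr ⟨(⟨m 0, by omega⟩, ⟨m 2, by omega⟩), Finset.mem_univ _, ?_⟩
    ext l
    fin_cases l <;> simp [s53e] <;> omega
  conv_lhs => rw [as_sum f, Finset.sum_subset hsupp (fun m _ hm => by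
    rw [notMem_support_iff.mp hm, monomial_zero]), Finset.sum_image hinj.injOn, Fintype.sum_prod_type]
  refine Finset.sum_congr rfl fun i _ => Finset.sum_congr rfl fun j _ => ?_
  rw [monomial_eq, Finsupp.prod_fintype _ _ (fun l => pow_zero _)]
  simp [Fin.prod_univ_four, s53e, mul_assoc]

private lemma s53_swap (f : MvPolynomial (Fin 4) k) (i j : Fin 4) :
    coeff (s53e (j, i)) (rename (![2, 3, 0, 1] : Fin 4 → Fin 4) f) = coeff (s53e (i, j)) f := by
  have hinj : Function.Injective (![2, 3, 0, 1] : Fin 4 → Fin 4) := by decide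
  rw [show s53e (j, i) = Finsupp.mapDomain (![2, 3, 0, 1] : Fin 4 → Fin 4) (s53e (i, j)) from ?_,
    coeff_rename_mapDomain _ hinj]
  ext l
  rw [show l = (![2, 3, 0, 1] : Fin 4 → Fin 4) ((![2, 3, 0, 1] : Fin 4 → Fin 4) l) from by fin_cases l <;> rfl,
    Finsupp.mapDomain_apply hinj]
  fin_cases l <;> simp [s53e]

end
open MvPolynomial


/-- In the bigraded polynomial ring k[x0, x1, y0, y1] of the quadric surface (variables X 0, X 1, X 2, X
3 in this order), over a field k of characteristic zero, let iota exchange x_i with y_i, let l = x0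
y1 - x1 y0 be the diagonal, h1 = x0 (y1 - y0) + y0 (x1 - x0), h2 = x1 (y0 - y1) + y1 (x0 - x1), h3 =
x0 y1 + x1 y0, h = h1 + h2 + h3, h13 = h1 - h3, h23 = h2 - h3, and let c = x0 x1 (x0 - x1) y0 y1 (y0
- y1) be the product of the six rulings through the three diagonal points (1:0)x(1:0), (0:1)x(0:1),
(1:1)x(1:1). Let I be the space of forms of bidegree (3,3) whose restriction to the diagonal is
divisible by (x0 x1 (x0 - x1))^2, that is, the bidegree-(3,3) forms through the length-six subscheme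
of the diagonal doubled at those three points. Then the iota-invariant forms in I are exactly the
span of c, l^2 h, l^2 h13, l^2 h23; the iota-anti-invariant forms in I are exactly the span of l
h^2, l h h13, l h h23, l h13^2, l h23^2, l h13 h23; and these ten forms are linearly independent.
(The source works over the complex numbers and writes the two eigenspaces as direct sums of the
displayed pieces; the six-line form c is read as the product of the two cubic factors.) -/
theorem result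
    (k : Type u) [Field k] [CharZero k]
    (l h1 h2 h3 h h13 h23 c : MvPolynomial (Fin 4) k)
    (hl : l = X 0 * X 3 - X 1 * X 2)
    (hh1 : h1 = X 0 * (X 3 - X 2) + X 2 * (X 1 - X 0))
    (hh2 : h2 = X 1 * (X 2 - X 3) + X 3 * (X 0 - X 1))
    (hh3 : h3 = X 0 * X 3 + X 1 * X 2)
    (hh : h = h1 + h2 + h3) (hh13 : h13 = h1 - h3) (hh23 : h23 = h2 - h3)
    (hc : c = X 0 * X 1 * (X 0 - X 1) * (X 2 * X 3 * (X 2 - X 3)))
    (I : Submodule k (MvPolynomial (Fin 4) k))
    (hI : ∀ f, f ∈ I ↔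
      (f.IsWeightedHomogeneous (![1, 1, 0, 0] : Fin 4 → ℕ) 3 ∧
       f.IsWeightedHomogeneous (![0, 0, 1, 1] : Fin 4 → ℕ) 3 ∧
       (X 0 * X 1 * (X 0 - X 1)) ^ 2 ∣ rename (![0, 1, 0, 1] : Fin 4 → Fin 2) f)) :
    (∀ f, (f ∈ I ∧ rename (![2, 3, 0, 1] : Fin 4 → Fin 4) f = f) ↔
        f ∈ Submodule.span k ({c, l ^ 2 * h, l ^ 2 * h13, l ^ 2 * h23} : Set (MvPolynomial (Fin 4) k))) ∧
    (∀ f, (f ∈ I ∧ rename (![2, 3, 0, 1] : Fin 4 → Fin 4) f = -f) ↔
        f ∈ Submodule.span k ({l * h ^ 2, l * h * h13, l * h * h23, l * h13 ^ 2, l * h23 ^ 2, l * h13 * h23} :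
          Set (MvPolynomial (Fin 4) k))) ∧
    LinearIndependent k
      ![c, l ^ 2 * h, l ^ 2 * h13, l ^ 2 * h23, l * h ^ 2, l * h * h13, l * h * h23, l * h13 ^ 2, l * h23 ^ 2,
        l * h13 * h23] := by
  classical
  let u : MvPolynomial (Fin 4) k := X 0 * X 2
  let v : MvPolynomial (Fin 4) k := X 1 * X 3
  let w : MvPolynomial (Fin 4) k := X 0 * X 3 + X 1 * X 2
  have e13 : h13 = C (-2) * u := by rw [hh13, hh1, hh3, map_neg, map_ofNat]; ring
  have e23 : h23 = C (-2) * v := by rw [hh23, hh2, hh3, map_neg, map_ofNat]; ring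
  have eh : h = C 3 * w + C (-2) * u + C (-2) * v := by
    rw [hh, hh1, hh2, hh3, map_neg, map_ofNat, map_ofNat]; ring
  have h30 : (3 : k) ≠ 0 := by norm_num
  have uS : u = C (-1 / 2) * h13 := by
    rw [e13, ← mul_assoc, ← map_mul]; norm_num
  have vS : v = C (-1 / 2) * h23 := by
    rw [e23, ← mul_assoc, ← map_mul]; norm_num
  have h3w : C 3 * w = h - h13 - h23 := by rw [eh, e13, e23]; ring
  have wS : w = C (1 / 3) * h + C (-1 / 3) * h13 + C (-1 / 3) * h23 := by
    calc w = C (1 / 3) * (C 3 * w) := by rw [← mul_assoc, ← map_mul]; norm_num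
      _ = _ := by rw [h3w, neg_div, map_neg]; ring
  let ι := rename (R := k) (![2, 3, 0, 1] : Fin 4 → Fin 4)
  let ρ := rename (R := k) (![0, 1, 0, 1] : Fin 4 → Fin 2)
  have w1 : ∀ a, (X a : MvPolynomial (Fin 4) k).IsWeightedHomogeneous (![1, 1, 0, 0] : Fin 4 → ℕ) ((![1, 1, 0, 0] : Fin 4 → ℕ) a) :=
    fun a => isWeightedHomogeneous_X _ _ a
  have w2 : ∀ a, (X a : MvPolynomial (Fin 4) k).IsWeightedHomogeneous (![0, 0, 1, 1] : Fin 4 → ℕ) ((![0, 0, 1, 1] : Fin 4 → ℕ) a) :=
    fun a => isWeightedHomogeneous_X _ _ a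
  have bil : ∀ W : Fin 4 → ℕ, (∀ a, (X a : MvPolynomial (Fin 4) k).IsWeightedHomogeneous W (W a)) →
      W 0 = W 1 → W 2 = W 3 → W 0 + W 2 = 1 →
      l.IsWeightedHomogeneous W 1 ∧ h.IsWeightedHomogeneous W 1 ∧ h13.IsWeightedHomogeneous W 1 ∧
        h23.IsWeightedHomogeneous W 1 ∧ c.IsWeightedHomogeneous W 3 := by
    intro W hX h01 h23' hs
    have P : ∀ a b, W a + W b = 1 → (X a * X b : MvPolynomial (Fin 4) k).IsWeightedHomogeneous W 1 :=
      fun a b e => e ▸ (hX a).mul (hX b)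
    have hw : w.IsWeightedHomogeneous W 1 := (P 0 3 (by omega)).add (P 1 2 (by omega))
    have hu : u.IsWeightedHomogeneous W 1 := P 0 2 hs
    have hv : v.IsWeightedHomogeneous W 1 := P 1 3 (by omega)
    refine ⟨hl ▸ (P 0 3 (by omega)).sub (P 1 2 (by omega)), ?_, e13 ▸ hu.C_mul _, e23 ▸ hv.C_mul _, ?_⟩
    · rw [eh]; exact ((hw.C_mul _).add (hu.C_mul _)).add (hv.C_mul _)
    · rw [hc]
      have d1 : (X 0 - X 1 : MvPolynomial (Fin 4) k).IsWeightedHomogeneous W (W 0) := (hX 0).sub (h01 ▸ hX 1)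
      have d2 : (X 2 - X 3 : MvPolynomial (Fin 4) k).IsWeightedHomogeneous W (W 2) := (hX 2).sub (h23' ▸ hX 3)
      have := (((hX 0).mul (hX 1)).mul d1).mul (((hX 2).mul (hX 3)).mul d2)
      convert this using 1
      omega
  obtain ⟨l1, h1', a1, b1, c1⟩ := bil _ w1 rfl rfl rfl
  obtain ⟨l2, h2', a2, b2, c2⟩ := bil _ w2 rfl rfl rfl
  have el : ι l = -l := by rw [hl]; simp [ι]; ring
  have e1 : ι h = h := by rw [eh]; simp [ι, u, v, w]; ring
  have e2 : ι h13 = h13 := by rw [e13]; simp [ι, u]; ring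
  have e3 : ι h23 = h23 := by rw [e23]; simp [ι, v]; ring
  have ec : ι c = c := by rw [hc]; simp [ι]; ring
  have rl : ρ l = 0 := by rw [hl]; simp [ρ]; ring
  have rc : ρ c = (X 0 * X 1 * (X 0 - X 1)) ^ 2 := by rw [hc]; simp [ρ]; ring
  have inI : ∀ f, f.IsWeightedHomogeneous (![1, 1, 0, 0] : Fin 4 → ℕ) 3 →
      f.IsWeightedHomogeneous (![0, 0, 1, 1] : Fin 4 → ℕ) 3 → ρ f = 0 → f ∈ I := fun f a b e =>
    (hI f).mpr ⟨a, b, (show ρ f = 0 from e).symm ▸ dvd_zero _⟩
  refine ⟨fun f => ⟨fun ⟨hf, hs⟩ => ?_, fun hf => ?_⟩, fun f => ⟨fun ⟨hf, hs⟩ => ?_, fun hf => ?_⟩, ?_⟩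
  · obtain ⟨hx, hy, hd⟩ := (hI f).mp hf
    set a : Fin 4 → Fin 4 → k := fun i j => coeff (s53e (i, j)) f with ha
    have hsym : ∀ i j, a j i = a i j := fun i j => by
      show coeff _ f = coeff _ f
      conv_lhs => rw [← hs]
      exact s53_swap f i j
    have hdec := s53_decomp f hx hy
    simp only [Fin.sum_univ_four, show ∀ i j, coeff (s53e (i, j)) f = a i j from fun i j => rfl,
      hsym 0 1, hsym 0 2, hsym 0 3, hsym 1 2, hsym 1 3, hsym 2 3] at hdec
    let σ0 : MvPolynomial (Fin 2) k →ₐ[k] Polynomial k := aeval ![Polynomial.X, 1]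
    let σ1 : MvPolynomial (Fin 2) k →ₐ[k] Polynomial k := aeval ![1, Polynomial.X]
    obtain ⟨q, hq⟩ := hd
    have d0 : Polynomial.X ^ 2 ∣ σ0 (ρ f) := ⟨(Polynomial.X - 1) ^ 2 * σ0 q, by
      show σ0 (rename _ f) = _; rw [hq]; simp [σ0]; ring⟩
    have d1 : Polynomial.X ^ 2 ∣ σ1 (ρ f) := ⟨(1 - Polynomial.X) ^ 2 * σ1 q, by
      show σ1 (rename _ f) = _; rw [hq]; simp [σ1]; ring⟩
    have d2 : σ0 (ρ f) = (Polynomial.X - 1) ^ 2 * (Polynomial.X ^ 2 * σ0 q) := by
      show σ0 (rename _ f) = _; rw [hq]; simp [σ0]; ring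
    have r00 := Polynomial.X_pow_dvd_iff.mp d0 0 (by norm_num)
    have r01 := Polynomial.X_pow_dvd_iff.mp d0 1 (by norm_num)
    have r10 := Polynomial.X_pow_dvd_iff.mp d1 0 (by norm_num)
    have r11 := Polynomial.X_pow_dvd_iff.mp d1 1 (by norm_num)
    have r20 := congrArg (Polynomial.eval (1 : k)) d2
    have r21 := congrArg (fun p => Polynomial.eval (1 : k) (Polynomial.derivative p)) d2
    rw [hdec] at r00 r01 r10 r11 r20 r21
    simp [σ0, σ1, ρ, Polynomial.coeff_C, Polynomial.coeff_X_pow, Polynomial.coeff_X,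
      Polynomial.derivative_pow, ← pow_add] at r00 r01 r10 r11 r20 r21
    have z01 : a 0 1 = 0 := by linear_combination r01
    have z23 : a 2 3 = 0 := by linear_combination r11
    rw [r00, r10, z01, z23] at hdec
    simp [r00, r10, z01, z23] at r20 r21
    set R := 2 * a 0 2 + a 1 1 with hR
    have eR : a 1 1 = R - 2 * a 0 2 := by rw [hR]; ring
    have eR4 : a 2 2 = R - 2 * a 1 3 := by rw [hR]; linear_combination r21 - (3 : k) * r20
    have eR3 : a 1 2 = -R - a 0 3 := by
      rw [hR]; linear_combination (2 : k) * r20 - (1 / 2 : k) * r21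
    have : f = C R * c + C (a 0 2) * (l ^ 2 * v) + C (a 1 3) * (l ^ 2 * u) + C (a 0 3) * (l ^ 2 * w) := by
      rw [hdec, eR, eR4, eR3, hc, hl]
      simp [u, v, w, map_ofNat]
      ring
    set S := Submodule.span k ({c, l ^ 2 * h, l ^ 2 * h13, l ^ 2 * h23} : Set (MvPolynomial (Fin 4) k)) with hS
    have mS : ∀ a b, a ∈ S → C b * a ∈ S := fun a b ha => by rw [C_mul']; exact Submodule.smul_mem _ b ha
    have s0 : c ∈ S := Submodule.subset_span (Set.mem_insert _ _)
    have s1 : l ^ 2 * h ∈ S := Submodule.subset_span (Set.mem_insert_of_mem _ (Set.mem_insert _ _))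
    have s2 : l ^ 2 * h13 ∈ S := Submodule.subset_span
      (Set.mem_insert_of_mem _ (Set.mem_insert_of_mem _ (Set.mem_insert _ _)))
    have s3 : l ^ 2 * h23 ∈ S := Submodule.subset_span
      (Set.mem_insert_of_mem _ (Set.mem_insert_of_mem _ (Set.mem_insert_of_mem _ rfl)))
    have mu : l ^ 2 * u ∈ S := by rw [uS, mul_left_comm]; exact mS _ _ s2
    have mv : l ^ 2 * v ∈ S := by rw [vS, mul_left_comm]; exact mS _ _ s3
    have mw : l ^ 2 * w ∈ S := by
      rw [wS, mul_add, mul_add, mul_left_comm, mul_left_comm (l ^ 2) (C _) h13, mul_left_comm (l ^ 2) (C _) h23]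
      exact S.add_mem (S.add_mem (mS _ _ s1) (mS _ _ s2)) (mS _ _ s3)
    rw [this]
    exact S.add_mem (S.add_mem (S.add_mem (mS _ _ s0) (mS _ _ mv)) (mS _ _ mu)) (mS _ _ mw)
  · refine Submodule.span_induction ?_ ⟨I.zero_mem, map_zero _⟩
      (fun x y _ _ hx hy => ⟨I.add_mem hx.1 hy.1, by rw [map_add, hx.2, hy.2]⟩)
      (fun r x _ hx => ⟨I.smul_mem r hx.1, by rw [map_smul, hx.2]⟩) hf
    rintro x (rfl | rfl | rfl | rfl)
    · exact ⟨(hI _).mpr ⟨c1, c2, rc.symm.dvd⟩, ec⟩
    · exact ⟨inI _ ((l1.pow 2).mul h1') ((l2.pow 2).mul h2') (by simp [rl]),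
        show ι _ = _ by rw [map_mul, map_pow, el, e1]; ring⟩
    · exact ⟨inI _ ((l1.pow 2).mul a1) ((l2.pow 2).mul a2) (by simp [rl]),
        show ι _ = _ by rw [map_mul, map_pow, el, e2]; ring⟩
    · exact ⟨inI _ ((l1.pow 2).mul b1) ((l2.pow 2).mul b2) (by simp [rl]),
        show ι _ = _ by rw [map_mul, map_pow, el, e3]; ring⟩
  · obtain ⟨hx, hy, -⟩ := (hI f).mp hf
    set a : Fin 4 → Fin 4 → k := fun i j => coeff (s53e (i, j)) f with ha
    have hsym : ∀ i j, a j i = -a i j := fun i j => by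
      show coeff _ f = -coeff _ f
      rw [← s53_swap f i j, hs, coeff_neg, neg_neg]
    have hd0 : ∀ i, a i i = 0 := fun i => by linear_combination (1 / 2 : k) * hsym i i
    have hdec := s53_decomp f hx hy
    simp only [Fin.sum_univ_four, show ∀ i j, coeff (s53e (i, j)) f = a i j from fun i j => rfl,
      hsym 0 1, hsym 0 2, hsym 0 3, hsym 1 2, hsym 1 3, hsym 2 3, hd0] at hdec
    have : f = C (-a 0 1) * (l * (v * v)) + C (-(a 1 2 - a 0 3)) * (l * (u * v)) + C (-a 2 3) * (l * (u * u)) +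
        C (-a 0 2) * (l * (v * w)) + C (-a 1 3) * (l * (u * w)) + C (-a 0 3) * (l * (w * w)) := by
      rw [hdec, hl]
      simp [u, v, w]
      ring
    set S := Submodule.span k ({l * h ^ 2, l * h * h13, l * h * h23, l * h13 ^ 2, l * h23 ^ 2, l * h13 * h23} :
          Set (MvPolynomial (Fin 4) k)) with hS
    have mS : ∀ a b, a ∈ S → C b * a ∈ S := fun a b ha => by rw [C_mul']; exact Submodule.smul_mem _ b ha
    let T := Submodule.span k ({h, h13, h23} : Set (MvPolynomial (Fin 4) k))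
    have tS : ∀ a b, a ∈ T → C b * a ∈ T := fun a b ha => by rw [C_mul']; exact Submodule.smul_mem _ b ha
    have t1 : h ∈ T := Submodule.subset_span (Set.mem_insert _ _)
    have t2 : h13 ∈ T := Submodule.subset_span (Set.mem_insert_of_mem _ (Set.mem_insert _ _))
    have t3 : h23 ∈ T := Submodule.subset_span (Set.mem_insert_of_mem _ (Set.mem_insert_of_mem _ rfl))
    have prodS : ∀ p ∈ T, ∀ q ∈ T, l * (p * q) ∈ S := by
      intro p hp
      induction hp using Submodule.span_induction with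
      | mem p hp =>
        intro q hq
        induction hq using Submodule.span_induction with
        | mem q hq =>
          rcases hp with rfl | rfl | rfl <;> rcases hq with rfl | rfl | rfl <;>
            exact Submodule.subset_span (by simp [sq, mul_assoc, mul_comm, mul_left_comm])
        | zero => simp
        | add x y _ _ hx hy => rw [mul_add, mul_add]; exact S.add_mem hx hy
        | smul r x _ hx => rw [mul_smul_comm, mul_smul_comm]; exact S.smul_mem r hx
      | zero => intro q _; simp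
      | add x y _ _ hx hy => intro q hq; rw [add_mul, mul_add]; exact S.add_mem (hx q hq) (hy q hq)
      | smul r x _ hx => intro q hq; rw [smul_mul_assoc, mul_smul_comm]; exact S.smul_mem r (hx q hq)
    have tu : u ∈ T := uS ▸ tS _ _ t2
    have tv : v ∈ T := vS ▸ tS _ _ t3
    have tw : w ∈ T := wS ▸ T.add_mem (T.add_mem (tS _ _ t1) (tS _ _ t2)) (tS _ _ t3)
    rw [this]
    exact S.add_mem (S.add_mem (S.add_mem (S.add_mem (S.add_mem (mS _ _ (prodS _ tv _ tv)) (mS _ _ (prodS _ tu _ tv)))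
      (mS _ _ (prodS _ tu _ tu))) (mS _ _ (prodS _ tv _ tw))) (mS _ _ (prodS _ tu _ tw))) (mS _ _ (prodS _ tw _ tw))
  · refine Submodule.span_induction ?_ ⟨I.zero_mem, by simp⟩
      (fun x y _ _ hx hy => ⟨I.add_mem hx.1 hy.1, by rw [map_add, hx.2, hy.2, neg_add]⟩)
      (fun r x _ hx => ⟨I.smul_mem r hx.1, by rw [map_smul, hx.2, smul_neg]⟩) hf
    rintro x (rfl | rfl | rfl | rfl | rfl | rfl)
    · exact ⟨inI _ (l1.mul (h1'.pow 2)) (l2.mul (h2'.pow 2)) (by simp [rl]),
        show ι _ = _ by rw [map_mul, map_pow, el, e1]; ring⟩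
    · exact ⟨inI _ ((l1.mul h1').mul a1) ((l2.mul h2').mul a2) (by simp [rl]),
        show ι _ = _ by rw [map_mul, map_mul, el, e1, e2]; ring⟩
    · exact ⟨inI _ ((l1.mul h1').mul b1) ((l2.mul h2').mul b2) (by simp [rl]),
        show ι _ = _ by rw [map_mul, map_mul, el, e1, e3]; ring⟩
    · exact ⟨inI _ (l1.mul (a1.pow 2)) (l2.mul (a2.pow 2)) (by simp [rl]),
        show ι _ = _ by rw [map_mul, map_pow, el, e2]; ring⟩
    · exact ⟨inI _ (l1.mul (b1.pow 2)) (l2.mul (b2.pow 2)) (by simp [rl]),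
        show ι _ = _ by rw [map_mul, map_pow, el, e3]; ring⟩
    · exact ⟨inI _ ((l1.mul a1).mul b1) ((l2.mul a2).mul b2) (by simp [rl]),
        show ι _ = _ by rw [map_mul, map_mul, el, e2, e3]; ring⟩
  · rw [Fintype.linearIndependent_iff]
    intro g hg
    simp [Fin.sum_univ_succ, smul_eq_C_mul] at hg
    have hgi := congrArg ι hg
    simp only [map_add, map_mul, map_pow, map_zero, el, e1, e2, e3, ec, ι, rename_C] at hgi
    have hA : C (g 0) * c + l ^ 2 * (C (g 1) * h + C (g 2) * h13 + C (g 3) * h23) = 0 := by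
      refine mul_left_cancel₀ (two_ne_zero : (2 : MvPolynomial (Fin 4) k) ≠ 0) ?_
      linear_combination hg + hgi
    have hB : l * (C (g 4) * h ^ 2 + C (g 5) * (h * h13) + C (g 6) * (h * h23) + C (g 7) * h13 ^ 2 +
        C (g 8) * h23 ^ 2 + C (g 9) * (h13 * h23)) = 0 := by
      refine mul_left_cancel₀ (two_ne_zero : (2 : MvPolynomial (Fin 4) k) ≠ 0) ?_
      linear_combination hg - hgi
    have hl0 : l ≠ 0 := fun e => by
      have := congrArg (eval ![1, 0, 0, (1 : k)]) e
      simp [hl] at this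
    have g0 : g 0 = 0 := by
      have := congrArg (eval ![2, 1, 2, (1 : k)]) hA
      simp [hl, hc] at this
      norm_num at this
      exact this
    rw [g0, map_zero, zero_mul, zero_add] at hA
    have hL := (mul_eq_zero.mp hA).resolve_left (pow_ne_zero 2 hl0)
    have hQ := (mul_eq_zero.mp hB).resolve_left hl0
    rw [eh, e13, e23] at hL hQ
    have p1 := congrArg (eval ![1, 0, 0, (1 : k)]) hL
    have p2 := congrArg (eval ![1, 0, 1, (0 : k)]) hL
    have p3 := congrArg (eval ![0, 1, 0, (1 : k)]) hL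
    have q1 := congrArg (eval ![1, 0, 0, (1 : k)]) hQ
    have q2 := congrArg (eval ![1, 0, 1, (0 : k)]) hQ
    have q3 := congrArg (eval ![0, 1, 0, (1 : k)]) hQ
    have q4 := congrArg (eval ![1, 0, 1, (1 : k)]) hQ
    have q5 := congrArg (eval ![0, 1, 1, (1 : k)]) hQ
    have q6 := congrArg (eval ![1, 1, 1, (1 : k)]) hQ
    simp [u, v, w] at p1 p2 p3 q1 q2 q3 q4 q5 q6
    have g1 : g 1 = 0 := p1
    have g4 : g 4 = 0 := q1
    simp [g1, g4] at p2 p3 q2 q3 q4 q5 q6
    have g5 : g 5 = 0 := by linear_combination (1/6 : k) * q2 - (1/6 : k) * q4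
    have g6 : g 6 = 0 := by linear_combination (1/6 : k) * q3 - (1/6 : k) * q5
    have g7 : g 7 = 0 := by linear_combination (1/12 : k) * q2 + (1/6 : k) * q4
    have g8 : g 8 = 0 := by linear_combination (1/12 : k) * q3 + (1/6 : k) * q5
    have g9 : g 9 = 0 := by linear_combination (1/4 : k) * q6 + g5 + g6 - g7 - g8
    intro i
    fin_cases i
    exacts [g0, g1, p2, p3, g4, g5, g6, g7, g8, g9]

end Groth.Agent.S16153
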