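import Groth.Statements.S16154
import Groth.Agent.L13.CITwist.Top
import Groth.Agent.L22.Adjunction.SmoothClosed
-- import your own Groth.Agent.* helpers here

set_option autoImplicit false
set_option backward.isDefEq.respectTransparency false
set_option linter.style.haveILetI false
set_option backward.isDefEq.respectTransparency.types false
universe u
open CategoryTheory CategoryTheory.Limits AlgebraicGeometry
open WGauss

namespace Groth.Agent.S16154

/-- Let k be a field and X in projective n-space over k the common zero scheme of m forms G_j of degrees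
d_1 >= d_2 >= ... >= d_m >= 2 (m >= 1), smooth over k of relative dimension kk >= 1 with kk + m = n,
so that X is a smooth complete intersection of dimension kk whose twisted conormal bundle N_X^*(t)
is the direct sum of the O_X(t - d_j). Then, for an integer t, H^1(X, O_X(t - d_j)) = 0 for every j
(that is, H^1(X, N_X^*(t)) = 0) if and only if either kk >= 2, or kk = 1 and t > 2 d_1 + d_2 + ... +
d_m - n - 1. Here O_X(c) is the pullback of O(c) from projective space along the inclusion of X.
(The source works over the complex numbers with X smooth projective; the statement is given over any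
field.) -/
theorem result
    (k : Type u) [Field k] (n kk m : ℕ) (hkk : 1 ≤ kk) (hm : 1 ≤ m) (hn : kk + m = n)
    (d : Fin m → ℕ) (hd2 : ∀ j, 2 ≤ d j) (hanti : Antitone d)
    (G : ∀ j : Fin m, LefPen.Form n k (d j))
    [SmoothOfRelativeDimension kk ((LefPen.ciIdeal G).subschemeι ≫ CohB1.ProjSpace.toSpec n k)]
    (t : ℤ) :
    (∀ j : Fin m, Subsingleton (Coh.HH (LefPen.ciIdeal G).subscheme
        ((Scheme.Modules.pullback (LefPen.ciIdeal G).subschemeι).obj
          (Twist.twistProjSpace n k (t - (d j : ℤ)))) 1)) ↔
      (2 ≤ kk ∨ (kk = 1 ∧ ((d ⟨0, hm⟩ : ℤ) + ∑ j : Fin m, (d j : ℤ)) - (n : ℤ) - 1 < t)) := by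
  let I := LefPen.ciIdeal G
  have ha : ∀ j, 1 ≤ d j := fun j => (show 1 ≤ 2 by norm_num).trans (hd2 j)
  have hdim : topologicalKrullDim ↥I.subscheme ≤ ((n - m : ℕ) : WithBot ℕ∞) :=
    (Groth.L22.Adjunction.topologicalKrullDim_le_relDim (I.subschemeι ≫ CohB1.ProjSpace.toSpec n k) kk).trans
      (le_of_eq (by exact_mod_cast (show kk = n - m by omega)))
  have hci := Groth.L18.CIProj.isCI_pols (by omega) ha G hdim
  rcases (show 2 ≤ kk ∨ kk = 1 by omega) with h2 | rfl
  · exact iff_of_true
      (fun j => (Groth.L18.CIProj.vanishing_surjective m d ha G hci).1 _ 1 (by omega) (by omega)) (Or.inl h2)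
  · refine (forall_congr' fun j =>
      Groth.L13.CITwist.subsingleton_top_iff m d ha G hci 1 le_rfl hn (t - (d j : ℤ))).trans
      ⟨fun h => Or.inr ⟨rfl, by have := h ⟨0, hm⟩; omega⟩, ?_⟩
    rintro (h | ⟨-, h⟩) j
    · omega
    · have : d j ≤ d ⟨0, hm⟩ := hanti (Fin.le_def.2 (Nat.zero_le _))
      omega

end Groth.Agent.S16154
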