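import Groth.Statements.S16156
import Mathlib.Tactic.Linarith
import Mathlib.Tactic.Positivity
import Mathlib.Tactic.Ring
import Mathlib.Data.Int.Lemmas
import Mathlib.Algebra.Order.Ring.Abs

set_option autoImplicit false
universe u
open MukaiVec

namespace Groth.Agent.S16156

/-- Let N be an abelian group with a symmetric integer-valued bilinear form and H an element with H·H =
2n for some n > 0 such that every x with x·H = 0 satisfies x·x ≤ 0 (the Hodge index inequality). Fix
integers r ≥ 2, d > 0 and χ < 0 (a Mukai vector v = (r, dH, χ)) and an isotropic Mukai vector u =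
(p, η, q), p ≥ 0, η ∈ N, η·η = 2pq, whose pairing ⟨v, u⟩ = d(H·η) − rq − χp has absolute value 1 or
2. Exclude the case d = 1, χ = −1, H·η = 1, η·η = 0, and when r = 2 also the case p = 0, H·η = 0.
Then the pairings of u∨ = (p, −η, q) with w₀ = (0, rH, −2nd) and with w₁ = (2nd, −χH, 0) are both
non-negative or both negative: 2ndp − r(H·η) ≥ 0 holds if and only if χ(H·η) − 2ndq ≥ 0 holds. -/
theorem result
    (N : Type u) [AddCommGroup N] (B : LinearMap.BilinForm ℤ N) (hB : ∀ x y : N, B x y = B y x)
    (H : N) (n : ℤ) (hn : 0 < n) (hH : B H H = 2 * n) (hodge : ∀ x : N, B x H = 0 → B x x ≤ 0)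
    (r d χ p q : ℤ) (η : N) (hr : 2 ≤ r) (hd : 0 < d) (hχ : χ < 0) (hp : 0 ≤ p)
    (hiso : B η η = 2 * p * q)
    (hvu : 1 ≤ |d * B H η - r * q - χ * p| ∧ |d * B H η - r * q - χ * p| ≤ 2)
    (hexc : ¬ (d = 1 ∧ χ = -1 ∧ B H η = 1 ∧ B η η = 0))
    (hr2 : r = 2 → ¬ (p = 0 ∧ B H η = 0)) :
    (0 ≤ 2 * n * d * p - r * B H η ↔ 0 ≤ χ * B H η - 2 * n * d * q) := by
  set a := B H η with ha
  set s := d * a - r * q - χ * p with hs
  obtain ⟨c, hc, rfl⟩ : ∃ c : ℤ, 0 < c ∧ χ = -c := ⟨-χ, by omega, by ring⟩
  have hodge' : 4 * n * p * q ≤ a * a := by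
    have h0 : B ((2 * n) • η - a • H) H = 0 := by
      simp only [map_sub, map_smul, LinearMap.sub_apply, LinearMap.smul_apply, hH, hB η H, ← ha, smul_eq_mul]
      ring
    have h1 := hodge _ h0
    simp only [map_sub, map_smul, LinearMap.sub_apply, LinearMap.smul_apply, hH, hB η H, ← ha, hiso,
      smul_eq_mul] at h1
    by_contra hcon
    have h2 : 0 < n * (4 * n * p * q - a * a) := mul_pos hn (by omega)
    linarith
  clear_value a
  clear ha
  obtain ⟨hvu1, hvu2⟩ := hvu
  obtain ⟨hsl, hsu⟩ := abs_le.mp hvu2
  have hs0 : s ≠ 0 := fun h => by rw [h] at hvu1; simp at hvu1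
  have hnd : 0 < n * d := mul_pos hn hd
  have hK : 0 < r * c := mul_pos (by omega) hc
  set X := 2 * n * d * p - r * a with hX
  set Y := -c * a - 2 * n * d * q with hY
  have hlow : a * ((n * d ^ 2 + r * c) * a - 2 * n * d * s) ≤ X * Y := by
    have hid : X * Y - a * ((n * d ^ 2 + r * c) * a - 2 * n * d * s) =
        n * d ^ 2 * (a * a - 4 * n * p * q) := by
      simp only [hX, hY, hs]; ring
    have : 0 ≤ n * d ^ 2 * (a * a - 4 * n * p * q) :=
      mul_nonneg (mul_nonneg hn.le (sq_nonneg d)) (by omega)
    linarith
  by_cases hpos : 0 < X * Y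
  · rcases pos_and_pos_or_neg_and_neg_of_mul_pos hpos with ⟨h1, h2⟩ | ⟨h1, h2⟩
    · exact ⟨fun _ => h2.le, fun _ => h1.le⟩
    · exact ⟨fun h => absurd h (not_le.mpr h1), fun h => absurd h (not_le.mpr h2)⟩
  push Not at hpos
  rcases lt_trichotomy a 0 with han | ha0 | hap
  · -- `a < 0`: both are nonnegative
    have hda : d * (-a) < -2 * s := by
      have h1 : 0 ≤ (n * d ^ 2 + r * c) * a - 2 * n * d * s := by
        by_contra hcon
        push Not at hcon
        linarith [mul_pos_of_neg_of_neg han hcon]
      by_contra hcon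
      push Not at hcon
      have h3 : 0 < r * c * (-a) := mul_pos hK (neg_pos.mpr han)
      have h4 : 0 ≤ n * d * (d * (-a) + 2 * s) := mul_nonneg hnd.le (by linarith)
      linarith [show n * d * (d * (-a) + 2 * s) = -(n * d ^ 2 * a) + 2 * n * d * s by ring,
        show r * c * (-a) = -(r * c * a) by ring]
    have ha3 : -3 ≤ a := by
      have := le_mul_of_one_le_left (show (0 : ℤ) ≤ -a by omega) (show 1 ≤ d by omega)
      omega
    have hX0 : 0 ≤ X := by
      have h1 := mul_nonneg (mul_nonneg (mul_nonneg (zero_le_two (α := ℤ)) hn.le) hd.le) hp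
      have h2 := mul_pos (show (0 : ℤ) < r by omega) (neg_pos.mpr han)
      simp only [hX]; linarith
    have hY0 : 0 ≤ Y := by
      have hca : 0 < c * (-a) := mul_pos hc (neg_pos.mpr han)
      rcases le_or_gt q 0 with hq | hq
      · have h1 := mul_nonneg (mul_nonneg (mul_nonneg (zero_le_two (α := ℤ)) hn.le) hd.le) (neg_nonneg.mpr hq)
        simp only [hY]; linarith
      · have hrq : 2 ≤ r * q := le_trans (by omega) (le_mul_of_one_le_right (by omega) hq)
        have hdaneg : d * a ≤ -1 := by
          have := mul_pos hd (neg_pos.mpr han)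
          linarith [show d * (-a) = -(d * a) by ring]
        rcases hp.eq_or_lt with hp0 | hp0
        · exfalso
          rw [← hp0] at hs
          simp only [mul_zero, sub_zero] at hs
          omega
        have hnpq : 1 ≤ n * p * q := mul_pos (mul_pos hn hp0) hq
        have ha2 : a ≤ -2 := by
          by_contra hcon
          obtain rfl : a = -1 := by omega
          linarith
        have hd1 : d = 1 := by
          by_contra hcon
          have := mul_le_mul (show 2 ≤ d by omega) (show 2 ≤ -a by omega) (by omega) hd.le
          omega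
        subst hd1
        have hn1 : n ≤ 2 ∧ p ≤ 2 ∧ q ≤ 2 ∧ (a = -2 → n = 1 ∧ p = 1 ∧ q = 1) := by
          have e1 : a * a ≤ 9 := by nlinarith
          have b1 : n ≤ n * p * q := by
            rw [mul_assoc]; exact le_mul_of_one_le_right hn.le (mul_pos hp0 hq)
          have b2 : p ≤ n * p * q := by
            rw [mul_comm n p, mul_assoc]; exact le_mul_of_one_le_right hp0.le (mul_pos hn hq)
          have b3 : q ≤ n * p * q := le_mul_of_one_le_left hq.le (mul_pos hn hp0)
          have h4 : 4 * (n * p * q) ≤ a * a := by linarith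
          refine ⟨by omega, by omega, by omega, fun h => ?_⟩
          subst h
          norm_num at h4
          omega
        have e : r * q = a + c * p - s := by simp only [hs]; ring
        rcases (show a = -2 ∨ a = -3 by omega) with h | h
        · obtain ⟨rfl, rfl, rfl⟩ := hn1.2.2.2 h
          simp only [hY, h]; omega
        · have hcp : 3 ≤ c * p := by omega
          have hc2 : 2 ≤ c := by
            by_contra hcon
            obtain rfl : c = 1 := by omega
            omega
          have hnq : n * q ≤ 2 := by
            by_contra hcon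
            push Not at hcon
            have h4 : 4 * (n * p * q) ≤ a * a := by linarith
            have : n * q ≤ n * p * q := by
              rw [mul_assoc]; exact mul_le_mul_of_nonneg_left (le_mul_of_one_le_left hq.le hp0) hn.le
            rw [h] at h4
            omega
          simp only [hY, h]; linarith
    exact ⟨fun _ => hY0, fun _ => hX0⟩
  · -- `a = 0`
    have hpq : n * (p * q) ≤ 0 := by rw [ha0] at hodge'; linarith
    have hX0 : 0 ≤ X := by
      have h1 := mul_nonneg (mul_nonneg (mul_nonneg (zero_le_two (α := ℤ)) hn.le) hd.le) hp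
      simp only [hX, ha0]; linarith
    have hq : q ≤ 0 := by
      rcases hp.eq_or_lt with h0 | h0
      · exfalso
        simp only [hs, ha0, ← h0, mul_zero, sub_zero, zero_sub] at hsl hsu hs0
        have hq0 : q ≠ 0 := fun h => hs0 (by rw [h]; ring)
        have hr' : r = 2 := by
          rcases lt_or_gt_of_ne hq0 with h | h
          · have := le_mul_of_one_le_right (show (0 : ℤ) ≤ r by omega) (show 1 ≤ -q by omega)
            linarith
          · have := le_mul_of_one_le_right (show (0 : ℤ) ≤ r by omega) h
            linarith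
        exact hr2 hr' ⟨h0.symm, ha0⟩
      · by_contra hcon
        push Not at hcon
        linarith [mul_pos hn (mul_pos h0 hcon)]
    have hY0 : 0 ≤ Y := by
      have h1 := mul_nonneg (mul_nonneg (mul_nonneg (zero_le_two (α := ℤ)) hn.le) hd.le) (neg_nonneg.mpr hq)
      simp only [hY, ha0]; linarith
    exact ⟨fun _ => hY0, fun _ => hX0⟩
  · -- `a > 0`: both are negative
    have hda : d * a < 2 * s := by
      have h1 : (n * d ^ 2 + r * c) * a - 2 * n * d * s ≤ 0 := by
        by_contra hcon
        push Not at hcon
        linarith [mul_pos hap hcon]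
      by_contra hcon
      push Not at hcon
      have h3 : 0 < r * c * a := mul_pos hK hap
      have h4 : 0 ≤ n * d * (d * a - 2 * s) := mul_nonneg hnd.le (by linarith)
      linarith [show n * d * (d * a - 2 * s) = n * d ^ 2 * a - 2 * n * d * s by ring]
    have hda1 : 1 ≤ d * a := mul_pos hd hap
    have ha3 : a ≤ 3 := by
      have := le_mul_of_one_le_left hap.le (show 1 ≤ d by omega)
      omega
    have e : r * q = d * a + c * p - s := by simp only [hs]; ring
    have hcp0 : 0 ≤ c * p := mul_nonneg hc.le hp
    have hq : 0 ≤ q := by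
      by_contra hcon
      have := mul_le_mul_of_nonneg_left (show q ≤ -1 by omega) (show (0 : ℤ) ≤ r by omega)
      omega
    have hY0 : Y < 0 := by
      have h1 := mul_pos hc hap
      have h2 := mul_nonneg (mul_nonneg (mul_nonneg (zero_le_two (α := ℤ)) hn.le) hd.le) hq
      simp only [hY]; linarith
    rcases hp.eq_or_lt with hp0 | hp0
    · have hX0 : X < 0 := by
        have := mul_pos (show (0 : ℤ) < r by omega) hap
        simp only [hX, ← hp0]; linarith
      exact ⟨fun h => absurd h (not_le.mpr hX0), fun h => absurd h (not_le.mpr hY0)⟩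
    have hcp : 1 ≤ c * p := mul_pos hc hp0
    rcases hq.eq_or_lt with hq0 | hq0
    · exfalso
      rw [← hq0] at e hiso
      simp only [mul_zero] at e hiso
      have e2 : c * p = 1 := by omega
      have e3 : d * a = 1 := by omega
      obtain ⟨hd1, -⟩ := Int.eq_one_or_neg_one_of_mul_eq_one e3 |>.resolve_right (by omega) |> fun h => (⟨h, trivial⟩ : d = 1 ∧ True)
      subst hd1
      have hc1 : c = 1 := (Int.eq_one_or_neg_one_of_mul_eq_one e2).resolve_right (by omega)
      exact hexc ⟨rfl, by omega, by omega, hiso⟩
    · have hnpq : 1 ≤ n * p * q := mul_pos (mul_pos hn hp0) hq0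
      have ha2 : 2 ≤ a := by
        by_contra hcon
        obtain rfl : a = 1 := by omega
        linarith
      have hd1 : d = 1 := by
        by_contra hcon
        have := mul_le_mul (show 2 ≤ d by omega) ha2 (by omega) hd.le
        omega
      subst hd1
      have hnp : 4 * (n * p) ≤ a * a := by
        have := le_mul_of_one_le_right (mul_pos hn hp0).le hq0
        linarith
      have hra : 2 * a ≤ r * a := mul_le_mul_of_nonneg_right hr hap.le
      have hX0 : X < 0 := by
        rcases (show a = 2 ∨ a = 3 by omega) with h | h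
        · rw [h] at hnp hra
          have h1 : n * p ≤ 1 := by omega
          simp only [hX, h]; linarith
        · rw [h] at hnp hra
          have h1 : n * p ≤ 2 := by omega
          simp only [hX, h]; linarith
      exact ⟨fun h => absurd h (not_le.mpr hX0), fun h => absurd h (not_le.mpr hY0)⟩

end Groth.Agent.S16156
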