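import Groth.Statements.S16157
import Groth.Agent.L26.Mumford.IndexChi

set_option autoImplicit false
universe u
open CategoryTheory CategoryTheory.Limits MonoidalCategory CartesianMonoidalCategory MonObj GrpObj AlgebraicGeometry
attribute [local instance] HasDerivedCategory.standard
open AbVar

namespace Groth.Agent.S16157

attribute [local instance] HasDerivedCategory.standard

/-- Let k be an algebraically closed field, A an abelian variety over k (a proper smooth k-group scheme
with geometrically connected fibres), (A^t, φ) a given dual abelian variety of A for the fppf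
topology with A^t itself an abelian variety, P an invertible module on A ×_k A^t whose class is a
Poincaré class, and Φ_P = Rpr_{2,*}(Lpr_1^*(−) ⊗^L P) the Fourier–Mukai functor D(O_A) → D(O_{A^t})
(the derived functors are assumed to exist). Let F be a coherent O_A-module satisfying the index
condition with index i: the cohomology sheaves of Φ_P(F) vanish in every degree other than i, and
the one in degree i (the transform of F) is finite locally free of rank n. Then the Euler
characteristic χ(A, F) = Σ_j (−1)^j dim_k H^j(A, F) equals (−1)^i · n. (The rank here is that of the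
transform of F, which is what the last step of the published proof computes; reading it as the rank
of F itself is wrong already for an invertible sheaf of degree two on an elliptic curve, whose Euler
characteristic is 2.) -/
theorem result (k : Type u) [Field k] [IsAlgClosed k]
    (A At : Over (Spec (CommRingCat.of k))) [GrpObj A] [IsProper A.hom] [Smooth A.hom] [GeometricallyConnected A.hom]
    [GrpObj At] [IsProper At.hom] [Smooth At.hom] [GeometricallyConnected At.hom]
    (φ : ∀ T : Over (Spec (CommRingCat.of k)), PicF.Cl (PicF.XT A.hom T) → (T ⟶ At))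
    (hφ : AbDual.IsDualAV Scheme.fppfPrecoverage A At φ)
    (P : (pullback A.hom At.hom).Modules) (hP : PicF.IsInvertible P)
    (hPξ : AbDual.IsPoincareCl A At φ (PicF.cl P))
    [DCoh.HasLpull (pullback.fst A.hom At.hom)] [DCoh.HasLTensorMod P] [DCoh.HasRpush (pullback.snd A.hom At.hom)]
    (F : A.left.Modules) (hF : Coh.IsCoh F) (i n : ℕ)
    (hvan : ∀ j : ℤ, j ≠ (i : ℤ) →
      IsZero (DCoh.HD ((DCoh.Lpull (pullback.fst A.hom At.hom) ⋙ DCoh.LTensorMod P ⋙
        DCoh.Rpush (pullback.snd A.hom At.hom)).obj (DCoh.inD A.left F)) j))
    (hfree : FlatMod.IsFinLocFreeOfRank n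
      (DCoh.HD ((DCoh.Lpull (pullback.fst A.hom At.hom) ⋙ DCoh.LTensorMod P ⋙
        DCoh.Rpush (pullback.snd A.hom At.hom)).obj (DCoh.inD A.left F)) (i : ℤ))) :
    @Curv2.euler k _ A.left ⟨A.hom⟩ F = (-1 : ℤ) ^ i * (n : ℤ) := by
  haveI : Coh.IsQCoh F := hF.1
  letI : A.left.Over (Spec (CommRingCat.of k)) := ⟨A.hom⟩
  unfold Curv2.euler
  have h := fun p => Groth.Agent.L26.Mumford.finrank_HH_of_index hφ P hP hPξ F i n hvan hfree p
  rw [finsum_eq_single _ i fun p hp => by rw [h p, if_neg hp]; simp, h i, if_pos rfl]

end Groth.Agent.S16157
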