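import Groth.Statements.S16158
import Mathlib.RingTheory.Ideal.AssociatedPrime.Basic
import Mathlib.LinearAlgebra.DFinsupp
import Mathlib.Tactic.Module

set_option autoImplicit false
universe u v w
open MadRed

namespace Groth.Agent.S16158

theorem exists_bound_step {R : Type u} [CommRing R] {M : Type v} [AddCommGroup M] [Module R M]
    (L : Submodule R M) (x : M) (p : Ideal R) [p.IsPrime] (hp : ∀ r : R, r • x ∈ L ↔ r ∈ p) (n : ℕ)
    (hL : ∀ (ι : Type w) (s : Finset ι) (N : ι → Submodule R M), iSupIndep N →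
      (∀ i ∈ s, N i ≠ ⊥ ∧ N i ≤ L) → s.card ≤ n) :
    ∀ (ι : Type w) (s : Finset ι) (N : ι → Submodule R M), iSupIndep N →
      (∀ i ∈ s, N i ≠ ⊥ ∧ N i ≤ L ⊔ R ∙ x) → s.card ≤ n + 1 := by
  classical
  intro ι s N hind hN
  by_cases hB : ∀ i ∈ s, N i ⊓ L ≠ ⊥
  · exact (hL ι s (fun i => N i ⊓ L) (hind.mono fun i => inf_le_left)
      fun i hi => ⟨hB i hi, inf_le_right⟩).trans (Nat.le_succ n)
  · push Not at hB
    obtain ⟨i₀, hi₀, hB₀⟩ := hB
    have hdata : ∀ i ∈ s, N i ⊓ L = ⊥ → ∃ y ∈ N i, y ≠ 0 ∧ ∃ b ∉ p, y - b • x ∈ L ∧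
        ∀ r : R, r • y = 0 ↔ r ∈ p := by
      intro i hi hiL
      obtain ⟨y, hy, hy0⟩ := (N i).exists_mem_ne_zero_of_ne_bot (hN i hi).1
      obtain ⟨l, hl, z, hz, hlz⟩ := Submodule.mem_sup.mp ((hN i hi).2 hy)
      obtain ⟨b, rfl⟩ := Submodule.mem_span_singleton.mp hz
      have hyL : y - b • x ∈ L := by rw [← hlz, add_sub_cancel_right]; exact hl
      have hmem : ∀ r : R, r • y ∈ L ↔ r * b ∈ p := fun r => by
        rw [← hp, mul_smul, ← hlz, smul_add]
        exact Submodule.add_mem_iff_right _ (L.smul_mem r hl)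
      have hzero : ∀ r : R, r • y ∈ L → r • y = 0 := fun r hr =>
        (Submodule.mem_bot R).mp (hiL ▸ ⟨(N i).smul_mem r hy, hr⟩)
      have hb : b ∉ p := fun h => hy0 (by
        simpa using hzero 1 ((hmem 1).mpr (by simpa using h)))
      refine ⟨y, hy, hy0, b, hb, hyL, fun r => ⟨fun h => ?_, fun h => hzero r ((hmem r).mpr (p.mul_mem_right b h))⟩⟩
      exact (Ideal.IsPrime.mem_or_mem ‹_› ((hmem r).mp (by rw [h]; exact L.zero_mem))).resolve_right hb
    obtain ⟨y₀, hy₀, hy₀0, b₀, hb₀, hy₀L, hann₀⟩ := hdata i₀ hi₀ hB₀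
    choose! y hy hy0 b hb hyL hann using hdata
    let t := s.erase i₀
    let z : ι → M := fun j => b j • y₀ - b₀ • y j
    let N' : {j // j ∈ t} → Submodule R M := fun j => if N j.1 ⊓ L = ⊥ then R ∙ z j.1 else N j.1 ⊓ L
    let e : {j // j ∈ t} ↪ ι := Function.Embedding.subtype _
    have hts : ∀ {j}, j ∈ t → j ∈ s ∧ j ≠ i₀ := fun hj => ⟨Finset.mem_of_mem_erase hj, Finset.ne_of_mem_erase hj⟩
    have hind' : iSupIndep N' := by
      rw [iSupIndep_iff_finsetSum_eq_zero_imp_eq_zero] at hind ⊢
      intro u v hv hsum j hj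
      -- decompose every term into its components at `i₀` and at its own index
      have hdec : ∀ k ∈ u, ∃ (w : M) (w₀ : M), v k = w + w₀ ∧ w ∈ N k.1 ∧ w₀ ∈ N i₀ ∧
          (w = 0 → v k = 0) := by
        intro k hk
        have hvk : v k ∈ N' k := hv k hk
        simp only [N'] at hvk
        split_ifs at hvk with hkL
        · obtain ⟨r, hr⟩ := Submodule.mem_span_singleton.mp hvk
          obtain ⟨hks, -⟩ := hts k.2
          refine ⟨r • -(b₀ • y k.1), r • b k.1 • y₀, by rw [← hr]; simp only [z]; module,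
            Submodule.smul_mem _ _ (neg_mem (Submodule.smul_mem _ _ (hy k.1 hks hkL))),
            Submodule.smul_mem _ _ (Submodule.smul_mem _ _ hy₀), fun hw => ?_⟩
          rw [smul_neg, neg_eq_zero, smul_smul, hann k.1 hks hkL] at hw
          have hrp : r ∈ p := ((Ideal.IsPrime.mem_or_mem ‹_› hw).resolve_right hb₀)
          rw [← hr]
          simp only [z, smul_sub, smul_smul]
          rw [(hann₀ _).mpr (p.mul_mem_right _ hrp), (hann k.1 hks hkL _).mpr (p.mul_mem_right _ hrp),
            sub_zero]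
        · exact ⟨v k, 0, (add_zero _).symm, hvk.1, zero_mem _, id⟩
      choose! w w₀ hvw hw hw₀ hwv using hdec
      let W : ι → M := fun i => if i = i₀ then ∑ k ∈ u, w₀ k else
        if h : i ∈ t then w ⟨i, h⟩ else 0
      have hjne : j.1 ≠ i₀ := (hts j.2).2
      have hnot : i₀ ∉ u.map e := by
        simp only [Finset.mem_map, not_exists, not_and]
        exact fun k _ h => (hts k.2).2 h
      have hWk : ∀ k : {j // j ∈ t}, W k.1 = w k := fun k => by
        simp [W, (hts k.2).2, k.2]
      have h0 := hind (insert i₀ (u.map e)) W ?_ ?_ j.1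
        (Finset.mem_insert_of_mem (Finset.mem_map_of_mem e hj))
      · rw [hWk] at h0
        exact hwv j hj h0
      · intro i hi
        rcases Finset.mem_insert.mp hi with rfl | hi
        · simp only [W, if_pos rfl]
          exact Submodule.sum_mem _ fun k hk => hw₀ k hk
        · obtain ⟨k, hk, rfl⟩ := Finset.mem_map.mp hi
          show W k.1 ∈ N k.1
          rw [hWk]
          exact hw k hk
      · rw [Finset.sum_insert hnot, Finset.sum_map]
        calc _ = (∑ k ∈ u, w₀ k) + ∑ k ∈ u, w k := by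
              refine congr_arg₂ _ (by simp [W]) (Finset.sum_congr rfl fun k _ => hWk k)
          _ = ∑ k ∈ u, v k := by
              rw [← Finset.sum_add_distrib]
              exact Finset.sum_congr rfl fun k hk => by rw [hvw k hk, add_comm]
          _ = 0 := hsum
    have hcard := hL _ (Finset.univ : Finset {j // j ∈ t}) N' hind' fun j _ => by
      obtain ⟨hjs, hji⟩ := hts j.2
      simp only [N']
      split_ifs with hjL
      · refine ⟨fun h => ?_, ?_⟩
        · rw [Submodule.span_singleton_eq_bot, sub_eq_zero] at h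
          have hdis : Disjoint (N j.1) (N i₀) := hind.pairwiseDisjoint hji
          have hmem : b₀ • y j.1 ∈ N i₀ := h ▸ Submodule.smul_mem _ _ hy₀
          exact hb₀ ((hann j.1 hjs hjL b₀).mp
            (Submodule.disjoint_def.mp hdis _ (Submodule.smul_mem _ _ (hy j.1 hjs hjL)) hmem))
        · rw [Submodule.span_singleton_le_iff_mem]
          have : z j.1 = b j.1 • (y₀ - b₀ • x) - b₀ • (y j.1 - b j.1 • x) := by
            simp only [z]; module
          rw [this]
          exact L.sub_mem (L.smul_mem _ hy₀L) (L.smul_mem _ (hyL j.1 hjs hjL))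
      · exact ⟨hjL, inf_le_right⟩
    rw [Finset.card_univ, Fintype.card_coe, Finset.card_erase_of_mem hi₀] at hcard
    omega


/-- Let R be a commutative Noetherian ring and M a finitely generated R-module. Then there is a natural
number n such that in every decomposition of M as an internal direct sum of a family of submodules,
at most n of the summands are nonzero (the nonzero summands are indexed by a finite set of size at
most n). -/
theorem result (R : Type u) [CommRing R] [IsNoetherianRing R]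
    (M : Type v) [AddCommGroup M] [Module R M] [Module.Finite R M] :
    ∃ n : ℕ, ∀ (ι : Type w) [DecidableEq ι] (N : ι → Submodule R M), DirectSum.IsInternal N →
      ∃ s : Finset ι, s.card ≤ n ∧ ∀ i, N i ≠ ⊥ → i ∈ s := by
  classical
  let P : Submodule R M → Prop := fun L => ∃ n : ℕ, ∀ (ι : Type w) (s : Finset ι)
    (N : ι → Submodule R M), iSupIndep N → (∀ i ∈ s, N i ≠ ⊥ ∧ N i ≤ L) → s.card ≤ n
  have hbot : P ⊥ := ⟨0, fun ι s N _ hN => le_of_eq (Finset.card_eq_zero.mpr
    (Finset.eq_empty_iff_forall_notMem.mpr fun i hi => (hN i hi).1 (le_bot_iff.mp (hN i hi).2)))⟩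
  obtain ⟨L, ⟨n, hn⟩, hmax⟩ := set_has_maximal_iff_noetherian.mpr
    (inferInstance : IsNoetherian R M) {L | P L} ⟨⊥, hbot⟩
  have hL : L = ⊤ := by
    by_contra hne
    have : Nontrivial (M ⧸ L) := Submodule.Quotient.nontrivial_iff.mpr hne
    obtain ⟨p, hp⟩ := associatedPrimes.nonempty R (M ⧸ L)
    obtain ⟨hpp, x', hx'⟩ := isAssociatedPrime_iff.mp (show IsAssociatedPrime p (M ⧸ L) from hp)
    obtain ⟨x, rfl⟩ := L.mkQ_surjective x'
    have hpx : ∀ r : R, r • x ∈ L ↔ r ∈ p := fun r => by
      rw [hx', Submodule.mem_colon_singleton, Submodule.mem_bot, ← map_smul]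
      exact (Submodule.Quotient.mk_eq_zero L).symm
    have hlt : L < L ⊔ R ∙ x := by
      refine lt_of_le_of_ne le_sup_left fun h => hpp.ne_top ?_
      rw [Ideal.eq_top_iff_one, ← hpx, one_smul, h]
      exact Submodule.mem_sup_right (Submodule.mem_span_singleton_self x)
    exact hmax (L ⊔ R ∙ x) ⟨n + 1, exists_bound_step L x p hpx n hn⟩ hlt
  subst hL
  refine ⟨n, fun ι _ N hN => ?_⟩
  have hind := hN.submodule_iSupIndep
  have hfin : {i | N i ≠ ⊥}.Finite := by
    by_contra hinf
    obtain ⟨t, ht, htc⟩ := Set.Infinite.exists_subset_card_eq hinf (n + 1)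
    have := hn ι t N hind fun i hi => ⟨ht hi, le_top⟩
    omega
  exact ⟨hfin.toFinset, hn ι _ N hind fun i hi => ⟨hfin.mem_toFinset.mp hi, le_top⟩,
    fun i hi => hfin.mem_toFinset.mpr hi⟩

end Groth.Agent.S16158
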