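import Groth.Statements.S16159
import Groth.Agent.L13.Simul.Basic

set_option autoImplicit false
universe u v w x
open MadRed

namespace Groth.Agent.S16159

/-- Let k be a field, R a commutative Noetherian k-algebra and V an R-module, viewed also as a k-vector
space through k → R. Let (f_i) be a family of pairwise commuting R-linear endomorphisms of V such
that each f_i, as a k-linear map, is diagonalizable over k (its eigenspaces span V), and such that
every vector of V lies in a finitely generated R-submodule stable under every f_i. Then the family
is simultaneously diagonalizable over k: the common eigenspaces ⨅_i Eig(f_i, χ(i)), over all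
assignments χ of eigenvalues in k, span V. The source states this for the endomorphisms given by an
abelian group acting R-linearly; the row takes any commuting family, which is what the argument
uses, and neither k algebraically closed nor of characteristic zero is needed. -/
theorem result
    (k : Type u) [Field k] (R : Type v) [CommRing R] [Algebra k R] [IsNoetherianRing R]
    (V : Type w) [AddCommGroup V] [Module R V] [Module k V] [IsScalarTower k R V]
    (ι : Type x) (f : ι → Module.End R V)
    (hcomm : ∀ i j, Commute (f i) (f j))
    (hdiag : ∀ i, ⨆ μ : k, Module.End.eigenspace ((f i).restrictScalars k) μ = ⊤)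
    (hfin : ∀ v : V, ∃ W : Submodule R V, v ∈ W ∧ W.FG ∧ ∀ i, ∀ w ∈ W, f i w ∈ W) :
    ⨆ χ : ι → k, ⨅ i, Module.End.eigenspace ((f i).restrictScalars k) (χ i) = ⊤ := by
  exact Groth.Agent.L13.Simul.iSup_iInf_eigenspace_eq_top hcomm hdiag hfin

end Groth.Agent.S16159
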