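import Groth.Statements.S16160
import Groth.Agent.L13.Simul.Basic
import Mathlib.RingTheory.Bialgebra.Convolution
import Mathlib.RingTheory.Coalgebra.Basic
import Mathlib.Tactic.Ring

set_option autoImplicit false
universe u v w
open scoped TensorProduct
open MadRed

namespace Groth.Agent.S16160

open TensorProduct Coalgebra MadRed

section Helpers

variable {k : Type u} [Field k] {A : Type v} [CommRing A] [HopfAlgebra k A] {R : Type w} [CommRing R]
  [Algebra k R]

theorem ptAct_tmul {σ : Type*} (g : A →ₐ[k] R) (r : R) {a : A} (𝓡 : Coalgebra.Repr k a σ) :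
    ptAct k A R g (r ⊗ₜ a) = ∑ i ∈ 𝓡.index, (r * g (𝓡.right i)) ⊗ₜ 𝓡.left i := by
  have h : translAux k A R g a = ∑ i ∈ 𝓡.index, g (𝓡.right i) ⊗ₜ 𝓡.left i := by
    simp only [translAux, AlgHom.comp_apply, Bialgebra.comulAlgHom_apply, ← 𝓡.eq, map_sum]
    rfl
  rw [ptAct, Algebra.TensorProduct.lift_tmul, h, Finset.mul_sum]
  exact Finset.sum_congr rfl fun i _ => by
    rw [Algebra.TensorProduct.includeLeft_apply, Algebra.TensorProduct.tmul_mul_tmul, one_mul]

theorem ptAct_comp (g h : A →ₐ[k] R) (v : R ⊗[k] A) :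
    ptAct k A R g (ptAct k A R h v) =
      ptAct k A R (WithConv.toConv g * WithConv.toConv h).ofConv v := by
  induction v using TensorProduct.induction_on with
  | zero => simp
  | add x y hx hy => simp [map_add, hx, hy]
  | tmul r a =>
    let 𝓡 := Coalgebra.Repr.arbitrary k a
    let a₁ := fun i : A × A => Coalgebra.Repr.arbitrary k (𝓡.left i)
    let a₂ := fun i : A × A => Coalgebra.Repr.arbitrary k (𝓡.right i)
    let Φ : A ⊗[k] (A ⊗[k] A) →ₗ[k] R ⊗[k] A :=
      (TensorProduct.comm k A R).toLinearMap ∘ₗ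
        LinearMap.lTensor A ((LinearMap.mulLeft k r) ∘ₗ (LinearMap.mul' k R) ∘ₗ
          TensorProduct.map g.toLinearMap h.toLinearMap)
    have key := congr_arg Φ (Coalgebra.sum_tmul_tmul_eq 𝓡 a₁ a₂)
    simp only [map_sum] at key
    have hΦ : ∀ x y z : A, Φ (x ⊗ₜ (y ⊗ₜ z)) = (r * (g y * h z)) ⊗ₜ x := fun _ _ _ => rfl
    simp only [hΦ] at key
    rw [ptAct_tmul h r 𝓡, map_sum, ptAct_tmul _ r 𝓡]
    calc _ = ∑ i ∈ 𝓡.index, ∑ j ∈ (a₁ i).index,
          (r * (g ((a₁ i).right j) * h (𝓡.right i))) ⊗ₜ (a₁ i).left j := by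
          refine Finset.sum_congr rfl fun i _ => ?_
          rw [ptAct_tmul g _ (a₁ i)]
          exact Finset.sum_congr rfl fun j _ => by
            rw [show r * h (𝓡.right i) * g ((a₁ i).right j) =
              r * (g ((a₁ i).right j) * h (𝓡.right i)) by ring]
      _ = _ := by
          rw [key]
          refine Finset.sum_congr rfl fun i _ => ?_
          rw [← TensorProduct.sum_tmul, ← Finset.mul_sum]
          congr 2
          show _ = (WithConv.toConv g * WithConv.toConv h) (𝓡.right i)
          rw [AlgHom.convMul_apply, ← (a₂ i).eq, map_sum]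
          exact Finset.sum_congr rfl fun j _ => by rw [Algebra.TensorProduct.lift_tmul]

theorem exists_finset_orbit (v : R ⊗[k] A) :
    ∃ T : Finset A, ∀ g : A →ₐ[k] R,
      ptAct k A R g v ∈ Submodule.span R ((fun x => (1 : R) ⊗ₜ[k] x) '' (T : Set A)) := by
  classical
  induction v using TensorProduct.induction_on with
  | zero => exact ⟨∅, by simp⟩
  | add x y hx hy =>
    obtain ⟨T₁, h₁⟩ := hx
    obtain ⟨T₂, h₂⟩ := hy
    refine ⟨T₁ ∪ T₂, fun g => ?_⟩
    rw [map_add, Finset.coe_union, Set.image_union, Submodule.span_union]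
    exact add_mem (Submodule.mem_sup_left (h₁ g)) (Submodule.mem_sup_right (h₂ g))
  | tmul r a =>
    let 𝓡 := Coalgebra.Repr.arbitrary k a
    refine ⟨𝓡.index.image 𝓡.left, fun g => ?_⟩
    rw [ptAct_tmul g r 𝓡]
    refine Submodule.sum_mem _ fun i hi => ?_
    rw [show (r * g (𝓡.right i)) ⊗ₜ[k] 𝓡.left i = (r * g (𝓡.right i)) • ((1 : R) ⊗ₜ[k] 𝓡.left i) by
      rw [TensorProduct.smul_tmul', smul_eq_mul, mul_one]]
    exact Submodule.smul_mem _ _ (Submodule.subset_span
      ⟨_, Finset.mem_coe.mpr (Finset.mem_image_of_mem _ hi), rfl⟩)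

theorem ptAct_one (v : R ⊗[k] A) :
    ptAct k A R (1 : WithConv (A →ₐ[k] R)).ofConv v = v := by
  induction v using TensorProduct.induction_on with
  | zero => simp
  | add x y hx hy => simp [map_add, hx, hy]
  | tmul r a =>
    let 𝓡 := Coalgebra.Repr.arbitrary k a
    have h := congr_arg (fun t => (TensorProduct.comm k A R).toLinearMap
      (LinearMap.lTensor A ((LinearMap.mulLeft k r) ∘ₗ Algebra.linearMap k R) t))
        (Coalgebra.sum_tmul_counit_eq 𝓡)
    simp only [map_sum] at h
    rw [ptAct_tmul _ r 𝓡]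
    refine (Finset.sum_congr rfl fun i _ => ?_).trans (h.trans ?_)
    · show (r * (1 : WithConv (A →ₐ[k] R)) (𝓡.right i)) ⊗ₜ 𝓡.left i = _
      rw [AlgHom.convOne_apply]
      rfl
    · show (r * algebraMap k R 1) ⊗ₜ a = _
      rw [map_one, mul_one]

end Helpers


/-- Let k be a field, G = Spec A an affine k-group with A a commutative Hopf algebra over k, and R a
commutative Noetherian k-algebra, so that R ⊗ A is the coordinate ring of the base change G_R and
the k-algebra maps A → R are its R-valued points. Let H be a set of R-valued points which pairwise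
commute for the convolution product of G(R) (the case of an abelian subgroup of G(R)). If every g in
H is diagonalizable over k on R ⊗ A, meaning that the eigenspaces of right translation by g, for
eigenvalues in k, span R ⊗ A, then H is simultaneously diagonalizable over k on R ⊗ A: the common
eigenspaces of the right translations by all g in H span R ⊗ A. The standing assumptions of the
source at this point (k algebraically closed of characteristic zero, G reductive) are not used. -/
theorem result (k : Type u) [Field k]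
    (A : Type v) [CommRing A] [HopfAlgebra k A] (R : Type w) [CommRing R] [Algebra k R]
    [IsNoetherianRing R] (H : Set (A →ₐ[k] R))
    (hcomm : ∀ g ∈ H, ∀ h ∈ H,
      WithConv.toConv g * WithConv.toConv h = WithConv.toConv h * WithConv.toConv g)
    (hdiag : ∀ g ∈ H, ⨆ μ : k,
      Module.End.eigenspace (((MadRed.ptAct k A R g).toLinearMap).restrictScalars k) μ = ⊤) :
    ⨆ χ : H → k, ⨅ g : H,
      Module.End.eigenspace (((MadRed.ptAct k A R g.1).toLinearMap).restrictScalars k) (χ g) = ⊤ := by
  classical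
  refine Groth.Agent.L13.Simul.iSup_iInf_eigenspace_eq_top
    (f := fun g : H => (ptAct k A R g.1).toLinearMap) (fun g h => ?_) (fun g => hdiag g.1 g.2) fun v => ?_
  · refine LinearMap.ext fun x => ?_
    show ptAct k A R g.1 (ptAct k A R h.1 x) = ptAct k A R h.1 (ptAct k A R g.1 x)
    rw [ptAct_comp, ptAct_comp, hcomm g.1 g.2 h.1 h.2]
  · obtain ⟨T, hT⟩ := exists_finset_orbit (k := k) v
    let W : Submodule R (R ⊗[k] A) := Submodule.span R (Set.range fun g => ptAct k A R g v)
    let W₀ : Submodule R (R ⊗[k] A) :=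
      Submodule.span R ((fun x => (1 : R) ⊗ₜ[k] x) '' (T : Set A))
    have hle : W ≤ W₀ := Submodule.span_le.mpr (by rintro _ ⟨g, rfl⟩; exact hT g)
    have hfg₀ : W₀.FG := Submodule.fg_span (T.finite_toSet.image _)
    have : IsNoetherian R W₀ := isNoetherian_of_fg_of_noetherian W₀ hfg₀
    refine ⟨W, Submodule.subset_span ⟨_, ptAct_one v⟩, ?_, fun g w hw => ?_⟩
    · have h := (IsNoetherian.noetherian (W.comap W₀.subtype)).map W₀.subtype
      rwa [Submodule.map_comap_subtype, inf_eq_right.mpr hle] at h
    · refine (show W ≤ W.comap (ptAct k A R g.1).toLinearMap from Submodule.span_le.mpr ?_) hw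
      rintro _ ⟨h, rfl⟩
      exact Submodule.subset_span ⟨_, (ptAct_comp g.1 h v).symm⟩

end Groth.Agent.S16160
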