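import Groth.Statements.S16161
import Mathlib.LinearAlgebra.Eigenspace.Basic
import Mathlib.RingTheory.RootsOfUnity.AlgebraicallyClosed
import Mathlib.RingTheory.Polynomial.Cyclotomic.Basic

set_option autoImplicit false
universe u v
open MadRed

namespace Groth.Agent.S16161

open Polynomial

/-- Let k be an algebraically closed field of characteristic zero and R a reduced finitely generated
commutative k-algebra whose spectrum is connected (R has no idempotents besides 0 and 1); let W =
R^n be a free R-module of finite rank and g an R-linear endomorphism of W of finite order, g^m = 1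
with m > 0 (an element of finite order of GL(W)(R)). Then the action of g on W is diagonalizable
over k: viewing g as a k-linear map, its eigenspaces for eigenvalues in k span W. The source also
assumes that g is diagonalizable over k on every fibre W ⊗ k(x), x a point of Spec R; for g of
finite order this holds automatically (k is algebraically closed of characteristic zero), as the
source itself notes, so that hypothesis is omitted. -/
theorem result
    (k : Type u) [Field k] [IsAlgClosed k] [CharZero k]
    (R : Type v) [CommRing R] [Algebra k R] [IsReduced R] [Algebra.FiniteType k R]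
    (hconn : ∀ e : R, IsIdempotentElem e → e = 0 ∨ e = 1)
    (n : ℕ) (g : Module.End R (Fin n → R)) (m : ℕ) (hm : 0 < m) (hg : g ^ m = 1) :
    ⨆ μ : k, Module.End.eigenspace (g.restrictScalars k) μ = ⊤ := by
  classical
  let f : Module.End k (Fin n → R) := g.restrictScalars k
  have hfm : f ^ m = 1 := by
    refine LinearMap.ext fun v => ?_
    have e : ∀ j, (f ^ j) v = (g ^ j) v := by
      intro j
      induction j generalizing v with
      | zero => rfl
      | succ j ih => rw [pow_succ, pow_succ, Module.End.mul_apply, Module.End.mul_apply]; exact ih _
    rw [e, hg]
    rfl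
  have key : ∀ s : Finset k,
      LinearMap.ker (Polynomial.aeval f (∏ μ ∈ s, (Polynomial.X - Polynomial.C μ))) ≤
        ⨆ μ : k, Module.End.eigenspace f μ := by
    intro s
    induction s using Finset.induction_on with
    | empty =>
      intro v hv
      simp at hv
      simp [hv]
    | @insert a s ha ih =>
      rw [Finset.prod_insert ha, ← Polynomial.sup_ker_aeval_eq_ker_aeval_mul_of_coprime f]
      · refine sup_le (le_trans ?_ (le_iSup (fun μ => Module.End.eigenspace f μ) a)) ih
        intro v hv
        simp only [LinearMap.mem_ker, map_sub, Polynomial.aeval_X, Polynomial.aeval_C,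
          LinearMap.sub_apply, Module.algebraMap_end_apply, sub_eq_zero] at hv
        exact Module.End.mem_eigenspace_iff.mpr hv
      · exact IsCoprime.prod_right fun μ hμ =>
          Polynomial.isCoprime_X_sub_C_of_isUnit_sub
            (isUnit_iff_ne_zero.mpr (sub_ne_zero.mpr fun h => ha (h ▸ hμ)))
  have : NeZero (m : k) := ⟨Nat.cast_ne_zero.mpr hm.ne'⟩
  obtain ⟨ζ, hζ⟩ := HasEnoughRootsOfUnity.exists_primitiveRoot k m
  have hprod := Polynomial.X_pow_sub_one_eq_prod hm hζ
  refine eq_top_iff.mpr fun v _ => key (Polynomial.nthRootsFinset m (1 : k)) ?_
  rw [← hprod, LinearMap.mem_ker, map_sub, map_pow, Polynomial.aeval_X, map_one, hfm, sub_self]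
  rfl

end Groth.Agent.S16161
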