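import Groth.Statements.S16162
import Mathlib.AlgebraicGeometry.Morphisms.FlatMono

set_option autoImplicit false
open CategoryTheory MonoidalCategory CartesianMonoidalCategory MonObj GrpObj AlgebraicGeometry
universe u
open MadRed

namespace Groth.Agent.S16162

/-- Let S be a scheme, G a group scheme over S, and X an S-scheme with an action of G making X → S a
principal G-bundle (a torsor in the representable fppf sense: X → S surjective, flat and locally of
finite presentation, and G ×_S X → X ×_S X, (g, x) ↦ (g·x, x), an isomorphism). Let P be a closed
subset of X stable under the action: the action map sends into P every point of G ×_S X whose second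
projection lies in P. Then the image of P in S is closed, and P is the full preimage of its image.
(The source works with varieties over the complex numbers and an affine algebraic group; the
assertion holds over any base. Its second assertion, that P → image is again a principal bundle for
the induced reduced structures, then comes from base change and is not part of this row.) -/
theorem result {S : Scheme.{u}}
    {G X : Over S} [GrpObj G] (a : AlgGrp.Action G X) (ha : RedSub.IsTorsor a)
    (P : Set X.left) (hP : IsClosed P)
    (hstab : ∀ w : (G ⊗ X).left, (snd G X).left.base w ∈ P → a.act.left.base w ∈ P) :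
    IsClosed (X.hom.base '' P) ∧ X.hom.base ⁻¹' (X.hom.base '' P) = P := by
  obtain ⟨hsurj, hflat, hlfp, hiso⟩ := ha
  have hsat : X.hom.base ⁻¹' (X.hom.base '' P) = P := by
    refine Set.Subset.antisymm ?_ (Set.subset_preimage_image _ _)
    rintro x ⟨p, hp, hpx⟩
    obtain ⟨w, hw1, hw2⟩ := Scheme.Pullback.exists_preimage_pullback (f := X.hom) (g := X.hom) x p hpx.symm
    set θ := lift a.act (snd G X) with hθ
    have h1 : θ ≫ fst X X = a.act := lift_fst _ _
    have h2 : θ ≫ snd X X = snd G X := lift_snd _ _
    obtain ⟨v, hv⟩ : ∃ v : (G ⊗ X).left, θ.left.base v = w :=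
      ⟨(inv θ).left.base w, by rw [← Scheme.Hom.comp_apply, ← Over.comp_left, IsIso.inv_hom_id]; rfl⟩
    have e1 : a.act.left.base v = x := by
      rw [← h1, Over.comp_left, Scheme.Hom.comp_apply, hv, ← hw1]; rfl
    have e2 : (snd G X).left.base v = p := by
      rw [← h2, Over.comp_left, Scheme.Hom.comp_apply, hv, ← hw2]; rfl
    exact e1 ▸ hstab v (e2.symm ▸ hp)
  refine ⟨?_, hsat⟩
  have hopen : IsOpenMap X.hom.base := X.hom.isOpenMap
  have : X.hom.base '' P = (X.hom.base '' Pᶜ)ᶜ := by
    ext s
    constructor
    · rintro hs ⟨y, hy, rfl⟩
      exact hy (hsat ▸ hs)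
    · intro hs
      obtain ⟨y, rfl⟩ := X.hom.surjective s
      by_contra h
      exact hs ⟨y, fun hy => h ⟨y, hy, rfl⟩, rfl⟩
  rw [this]
  exact (hopen _ hP.isOpen_compl).isClosed_compl

end Groth.Agent.S16162
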