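import Groth.Statements.S16170
import Mathlib.Data.Matrix.Mul
import Mathlib.Tactic.Linarith
import Mathlib.Tactic.Ring
import Mathlib.Tactic.NoncommRing

set_option autoImplicit false
open Neron

namespace Groth.Agent.S16170

/-- Let M and N be symmetric positive-semidefinite integer matrices on the same finite index set whose
sum M + N is positive definite, and let χ₁, χ₂ be integer matrices with χ₁ + χ₂ = 1 and M χ₂ = N χ₁.
Then χ₁ and χ₂ are idempotent. (In the intended application M = Pᵀ Ψ₁ P and N = Qᵀ Ψ₂ Q for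
surjective integer matrices P, Q and positive-definite Ψ₁, Ψ₂.) -/
theorem result
    {ι : Type} [Fintype ι] [DecidableEq ι]
    (M N χ₁ χ₂ : Matrix ι ι ℤ) (hM : M.IsSymm) (hN : N.IsSymm)
    (hMpos : ∀ v : ι → ℤ, 0 ≤ v ⬝ᵥ M.mulVec v) (hNpos : ∀ v : ι → ℤ, 0 ≤ v ⬝ᵥ N.mulVec v)
    (hpos : ∀ v : ι → ℤ, v ≠ 0 → 0 < v ⬝ᵥ (M + N).mulVec v)
    (hsum : χ₁ + χ₂ = 1) (hrel : M * χ₂ = N * χ₁) :
    χ₁ * χ₁ = χ₁ ∧ χ₂ * χ₂ = χ₂ := by
  obtain ⟨K, hK⟩ : ∃ K, K = χ₁ * χ₂ := ⟨_, rfl⟩
  have hcomm : χ₁ * χ₂ = χ₂ * χ₁ := by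
    have e : χ₂ = 1 - χ₁ := by rw [← hsum]; abel
    rw [e, mul_sub, sub_mul, mul_one, one_mul]
  obtain ⟨S, hS⟩ : ∃ S, S = M + N := ⟨_, rfl⟩
  have hN2 : S * χ₂ = N := by
    rw [hS, add_mul, hrel, ← mul_add, hsum, mul_one]
  have hM1 : S * χ₁ = M := by
    rw [hS, add_mul, ← hrel, ← mul_add, hsum, mul_one]
  have hSs : S.transpose = S := by rw [hS, Matrix.transpose_add, hM, hN]
  have hM1' : χ₁.transpose * S = M := by
    rw [← hSs, ← Matrix.transpose_mul, hM1, hM]
  have hN2' : χ₂.transpose * S = N := by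
    rw [← hSs, ← Matrix.transpose_mul, hN2, hN]
  let q : (ι → ℤ) → ℤ := fun v => dotProduct v (S.mulVec v)
  have hq0 : ∀ v, 0 ≤ q v := fun v => by
    by_cases hv : v = 0
    · simp [q, hv]
    · simp only [q, hS]; exact (hpos v hv).le
  have hqpos : ∀ v, v ≠ 0 → 0 < q v := fun v hv => by simp only [q, hS]; exact hpos v hv
  have cross : ∀ (A : Matrix ι ι ℤ) (u v : ι → ℤ), A.IsSymm →
      dotProduct v (A.mulVec u) = dotProduct u (A.mulVec v) := by
    intro A u v hA
    rw [Matrix.dotProduct_mulVec, ← Matrix.mulVec_transpose, hA, dotProduct_comm]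
  -- `q (χ u) ≤ uᵀ P u` for a semidefinite `P ≤ S` with `P = S χ`
  have bound : ∀ (P χ : Matrix ι ι ℤ), P.IsSymm → (∀ v, 0 ≤ dotProduct v (P.mulVec v)) →
      (∀ v, dotProduct v (P.mulVec v) ≤ q v) → S * χ = P →
      ∀ u, q (χ.mulVec u) ≤ dotProduct u (P.mulVec u) := by
    intro P χ hP hP0 hPq hSχ u
    let w := χ.mulVec u
    have hw : q w = dotProduct w (P.mulVec u) := by
      simp only [q, w, Matrix.mulVec_mulVec, hSχ]
    have h0 := hP0 (u - w)
    rw [Matrix.mulVec_sub, sub_dotProduct, dotProduct_sub, dotProduct_sub, cross P w u hP] at h0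
    have := hPq w
    linarith
  have hMq : ∀ v, dotProduct v (M.mulVec v) ≤ q v := fun v => by
    simp only [q, hS, Matrix.add_mulVec, dotProduct_add]; linarith [hNpos v]
  have hNq : ∀ v, dotProduct v (N.mulVec v) ≤ q v := fun v => by
    simp only [q, hS, Matrix.add_mulVec, dotProduct_add]; linarith [hMpos v]
  have b1 := bound M χ₁ hM hMpos hMq hM1
  have b2 := bound N χ₂ hN hNpos hNq hN2
  have hsplit : ∀ u, dotProduct u (M.mulVec u) + dotProduct u (N.mulVec u) = q u := fun u => by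
    simp only [q, hS, Matrix.add_mulVec, dotProduct_add]
  have hhalf : ∀ u, 2 * q (K.mulVec u) ≤ q u := by
    intro u
    have e1 : K.mulVec u = χ₁.mulVec (χ₂.mulVec u) := by rw [hK, Matrix.mulVec_mulVec]
    have e2 : K.mulVec u = χ₂.mulVec (χ₁.mulVec u) := by rw [hK, hcomm, Matrix.mulVec_mulVec]
    have t1 := (b1 (χ₂.mulVec u)).trans (hMq _)
    have t2 := (b2 (χ₁.mulVec u)).trans (hNq _)
    rw [← e1] at t1; rw [← e2] at t2
    linarith [b1 u, b2 u, hsplit u]
  have hself : K.transpose * S = S * K := by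
    rw [hK, Matrix.transpose_mul, Matrix.mul_assoc, hM1', ← Matrix.mul_assoc S, hM1]
    calc χ₂.transpose * M = χ₂.transpose * (S * χ₁) := by rw [hM1]
      _ = N * χ₁ := by rw [← Matrix.mul_assoc, hN2']
      _ = M * χ₂ := hrel.symm
  have hiter : ∀ m : ℕ, ∀ u, q ((K ^ m).mulVec u) * 2 ^ m ≤ q u := by
    intro m
    induction m with
    | zero => intro u; simp
    | succ m ih =>
      intro u
      rw [pow_succ', ← Matrix.mulVec_mulVec, pow_succ]
      have := hhalf ((K ^ m).mulVec u)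
      have := ih u
      have : (0:ℤ) ≤ 2 ^ m := by positivity
      nlinarith
  have hstep : ∀ v, K.mulVec (K.mulVec v) = 0 → K.mulVec v = 0 := by
    intro v hv
    by_contra hne
    have h1 := hqpos _ hne
    have : q (K.mulVec v) = 0 := by
      simp only [q]
      rw [dotProduct_comm, Matrix.dotProduct_mulVec, ← Matrix.mulVec_transpose,
        Matrix.mulVec_mulVec, hself, ← Matrix.mulVec_mulVec, hv, Matrix.mulVec_zero, zero_dotProduct]
    omega
  have hnil : ∀ m : ℕ, ∀ u, (K ^ (m + 1)).mulVec u = 0 → K.mulVec u = 0 := by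
    intro m
    induction m with
    | zero => intro u hu; simpa using hu
    | succ m ih =>
      intro u hu
      rw [pow_succ, ← Matrix.mulVec_mulVec] at hu
      exact hstep u (ih _ hu)
  have hK0 : K = 0 := by
    apply Matrix.ext_iff_mulVec.2
    intro u
    rw [Matrix.zero_mulVec]
    refine hnil (q u).toNat u ?_
    by_contra hne
    have h1 := hqpos _ hne
    have h2 := hiter ((q u).toNat + 1) u
    have h3 : ((q u).toNat : ℤ) + 1 ≤ 2 ^ ((q u).toNat + 1) := by
      exact_mod_cast (Nat.lt_two_pow_self).le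
    have h5 := le_mul_of_one_le_left (le_trans (by positivity) h3 : (0:ℤ) ≤ 2 ^ ((q u).toNat + 1))
      (show (1:ℤ) ≤ q ((K ^ ((q u).toNat + 1)).mulVec u) by omega)
    have := hq0 u
    omega
  constructor
  · calc χ₁ * χ₁ = χ₁ * χ₁ + χ₁ * χ₂ := by rw [← hK, hK0, add_zero]
      _ = χ₁ := by rw [← mul_add, hsum, mul_one]
  · calc χ₂ * χ₂ = χ₂ * χ₁ + χ₂ * χ₂ := by rw [← hcomm, ← hK, hK0, zero_add]
      _ = χ₂ := by rw [← mul_add, hsum, mul_one]

end Groth.Agent.S16170
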