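import Groth.Statements.S16164
import Groth.Agent.S16170
import Mathlib.Data.Matrix.ColumnRowPartitioned

set_option autoImplicit false
open Neron

namespace Groth.Agent.S16164

/-- Let X, Y₁, Y₂ be finitely generated free abelian groups with chosen bases, so that homomorphisms are
integer matrices acting on column vectors and each group is identified with its dual; let P : X → Y₁
and Q : X → Y₂ be surjective with A = (P over Q) : X → Y₁ ⊕ Y₂ injective, and let Ψ₁, Ψ₂ be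
symmetric positive-definite integer matrices on Y₁ and Y₂, Ψ their block-diagonal sum. If the image
of Aᵀ Ψ : Y₁ ⊕ Y₂ → X coincides with the image of Aᵀ Ψ A : X → X (the reverse inclusion always
holds), then A is bijective. (In the source X, Y₁, Y₂ are character groups of maximal tori, P and Q
specialization maps, Ψ₁ and Ψ₂ monodromy pairings, and the hypothesis expresses that two groups of
components coincide.) -/
theorem result
    {ι κ₁ κ₂ : Type} [Fintype ι] [Fintype κ₁] [Fintype κ₂]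
    (P : Matrix κ₁ ι ℤ) (Q : Matrix κ₂ ι ℤ)
    (hP : Function.Surjective P.mulVec) (hQ : Function.Surjective Q.mulVec)
    (hA : Function.Injective (Matrix.fromRows P Q).mulVec)
    (Ψ₁ : Matrix κ₁ κ₁ ℤ) (Ψ₂ : Matrix κ₂ κ₂ ℤ) (hΨ₁ : Ψ₁.IsSymm) (hΨ₂ : Ψ₂.IsSymm)
    (hΨ₁pos : ∀ y : κ₁ → ℤ, y ≠ 0 → 0 < y ⬝ᵥ Ψ₁.mulVec y)
    (hΨ₂pos : ∀ y : κ₂ → ℤ, y ≠ 0 → 0 < y ⬝ᵥ Ψ₂.mulVec y)
    (himage : LinearMap.range ((Matrix.fromRows P Q).transpose * Matrix.fromBlocks Ψ₁ 0 0 Ψ₂).mulVecLin =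
      LinearMap.range ((Matrix.fromRows P Q).transpose * Matrix.fromBlocks Ψ₁ 0 0 Ψ₂ * Matrix.fromRows P Q).mulVecLin) :
    Function.Bijective (Matrix.fromRows P Q).mulVec := by
  classical
  obtain ⟨M, hM⟩ : ∃ M, M = P.transpose * Ψ₁ * P := ⟨_, rfl⟩
  obtain ⟨N, hN⟩ : ∃ N, N = Q.transpose * Ψ₂ * Q := ⟨_, rfl⟩
  have hMs : M.IsSymm := by
    unfold Matrix.IsSymm
    rw [hM, Matrix.transpose_mul, Matrix.transpose_mul, hΨ₁, Matrix.transpose_transpose, Matrix.mul_assoc]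
  have hNs : N.IsSymm := by
    unfold Matrix.IsSymm
    rw [hN, Matrix.transpose_mul, Matrix.transpose_mul, hΨ₂, Matrix.transpose_transpose, Matrix.mul_assoc]
  have hMv : ∀ v, v ⬝ᵥ M.mulVec v = P.mulVec v ⬝ᵥ Ψ₁.mulVec (P.mulVec v) := fun v => by
    rw [hM, ← Matrix.mulVec_mulVec, ← Matrix.mulVec_mulVec, Matrix.dotProduct_mulVec,
      Matrix.vecMul_transpose]
  have hNv : ∀ v, v ⬝ᵥ N.mulVec v = Q.mulVec v ⬝ᵥ Ψ₂.mulVec (Q.mulVec v) := fun v => by
    rw [hN, ← Matrix.mulVec_mulVec, ← Matrix.mulVec_mulVec, Matrix.dotProduct_mulVec,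
      Matrix.vecMul_transpose]
  have hM0 : ∀ v, 0 ≤ v ⬝ᵥ M.mulVec v := fun v => by
    rw [hMv]
    by_cases h : P.mulVec v = 0
    · simp [h]
    · exact (hΨ₁pos _ h).le
  have hN0 : ∀ v, 0 ≤ v ⬝ᵥ N.mulVec v := fun v => by
    rw [hNv]
    by_cases h : Q.mulVec v = 0
    · simp [h]
    · exact (hΨ₂pos _ h).le
  have hMz : ∀ v, M.mulVec v = 0 → P.mulVec v = 0 := fun v h => by
    by_contra hne
    have h2 := hΨ₁pos _ hne
    rw [← hMv, h] at h2
    simp at h2
  have hNz : ∀ v, N.mulVec v = 0 → Q.mulVec v = 0 := fun v h => by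
    by_contra hne
    have h2 := hΨ₂pos _ hne
    rw [← hNv, h] at h2
    simp at h2
  have hpos : ∀ v, v ≠ 0 → 0 < v ⬝ᵥ (M + N).mulVec v := fun v hv => by
    rw [Matrix.add_mulVec, dotProduct_add]
    rcases lt_or_eq_of_le (hM0 v) with h1 | h1
    · linarith [hN0 v]
    rcases lt_or_eq_of_le (hN0 v) with h2 | h2
    · linarith
    exfalso
    apply hv
    apply hA
    have hP0 : P.mulVec v = 0 := by
      by_contra hne
      have := hΨ₁pos _ hne
      rw [← hMv] at this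
      omega
    have hQ0 : Q.mulVec v = 0 := by
      by_contra hne
      have := hΨ₂pos _ hne
      rw [← hNv] at this
      omega
    rw [Matrix.mulVec_zero, Matrix.fromRows_mulVec, hP0, hQ0]
    ext (i | i) <;> rfl
  -- the image hypothesis splits `M` through `M + N`
  have hblock : ∀ y : κ₁ ⊕ κ₂ → ℤ,
      ((Matrix.fromRows P Q).transpose * Matrix.fromBlocks Ψ₁ 0 0 Ψ₂).mulVec y
      = (P.transpose * Ψ₁).mulVec (y ∘ Sum.inl) + (Q.transpose * Ψ₂).mulVec (y ∘ Sum.inr) := fun y => by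
    rw [← Matrix.mulVec_mulVec, Matrix.fromBlocks_mulVec, Matrix.transpose_fromRows,
      Matrix.fromCols_mulVec]
    simp
  have hS : (Matrix.fromRows P Q).transpose * Matrix.fromBlocks Ψ₁ 0 0 Ψ₂ * Matrix.fromRows P Q = M + N := by
    refine Matrix.ext_iff_mulVec.2 fun v => ?_
    rw [← Matrix.mulVec_mulVec, hblock, Matrix.fromRows_mulVec, Matrix.add_mulVec, hM, hN,
      ← Matrix.mulVec_mulVec v (P.transpose * Ψ₁) P, ← Matrix.mulVec_mulVec v (Q.transpose * Ψ₂) Q]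
    rfl
  have hcol : ∀ v, ∃ x, (M + N).mulVec x = M.mulVec v := fun v => by
    have hmem : M.mulVec v ∈ LinearMap.range
        ((Matrix.fromRows P Q).transpose * Matrix.fromBlocks Ψ₁ 0 0 Ψ₂).mulVecLin := by
      refine ⟨Sum.elim (P.mulVec v) 0, ?_⟩
      rw [Matrix.mulVecLin_apply, hblock, hM, ← Matrix.mulVec_mulVec v (P.transpose * Ψ₁) P]
      simp
    rw [himage, hS] at hmem
    exact hmem
  choose f hf using hcol
  obtain ⟨χ, hχdef⟩ : ∃ χ : Matrix ι ι ℤ, χ = Matrix.of fun i j => f (Pi.single j 1) i := ⟨_, rfl⟩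
  have hχ : (M + N) * χ = M := by
    ext i j
    have := congrFun (hf (Pi.single j 1)) i
    simp only [Matrix.mulVec_single_one, Matrix.col_apply] at this
    rw [← this, Matrix.mul_apply]
    simp [Matrix.mulVec, dotProduct, hχdef]
  have hrel : M * (1 - χ) = N * χ := by
    have : M * χ + N * χ = M := by rw [← add_mul, hχ]
    rw [mul_sub, mul_one]
    exact sub_eq_iff_eq_add.2 (by rw [add_comm, this])
  obtain ⟨hi, -⟩ := Groth.Agent.S16170.result M N χ (1 - χ) hMs hNs hM0 hN0 hpos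
    (add_sub_cancel χ 1) hrel
  have hM2 : M * (1 - χ) = 0 := by
    calc M * (1 - χ) = (M + N) * χ * (1 - χ) := by rw [hχ]
      _ = 0 := by rw [Matrix.mul_assoc, mul_sub, mul_one, hi, sub_self, mul_zero]
  have hN1 : N * χ = 0 := hrel ▸ hM2
  refine ⟨hA, fun y => ?_⟩
  obtain ⟨a, ha⟩ := hP (y ∘ Sum.inl)
  obtain ⟨b, hb⟩ := hQ (y ∘ Sum.inr)
  have p1 : ∀ v, P.mulVec ((1 - χ).mulVec v) = 0 := fun v =>
    hMz _ (by rw [Matrix.mulVec_mulVec, hM2, Matrix.zero_mulVec])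
  have q1 : ∀ v, Q.mulVec (χ.mulVec v) = 0 := fun v =>
    hNz _ (by rw [Matrix.mulVec_mulVec, hN1, Matrix.zero_mulVec])
  refine ⟨χ.mulVec a + (1 - χ).mulVec b, ?_⟩
  rw [Matrix.fromRows_mulVec, Matrix.mulVec_add, Matrix.mulVec_add, p1, q1, zero_add, add_zero]
  have ea : P.mulVec (χ.mulVec a) = y ∘ Sum.inl := by
    have := p1 a
    rw [Matrix.sub_mulVec, Matrix.one_mulVec, Matrix.mulVec_sub, sub_eq_zero] at this
    rw [← this, ha]
  have eb : Q.mulVec ((1 - χ).mulVec b) = y ∘ Sum.inr := by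
    rw [Matrix.sub_mulVec, Matrix.one_mulVec, Matrix.mulVec_sub, q1, sub_zero, hb]
  rw [ea, eb, Sum.elim_comp_inl_inr]

end Groth.Agent.S16164
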