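import Groth.Statements.S16174
import Mathlib.RingTheory.Henselian
import Mathlib.RingTheory.Valuation.ValuationRing
import Mathlib.RingTheory.Localization.AtPrime.Basic
import Mathlib.Algebra.Polynomial.Taylor
import Mathlib.Algebra.Polynomial.Lifts

set_option autoImplicit false
universe u
open Hensel

namespace Groth.Agent.S16174

/-- Let V be a Henselian valuation ring and p a prime ideal of V. Then the local rings V_p (localisation
at p) and V/p are Henselian. (Both are again valuation rings, which is elementary and not restated.) -/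
theorem result (V : Type u) [CommRing V]
    [IsDomain V] [ValuationRing V] [HenselianLocalRing V] (p : Ideal V) [p.IsPrime] :
    HenselianLocalRing (Localization.AtPrime p) ∧ HenselianLocalRing (V ⧸ p) := by
  classical
  open IsLocalRing Polynomial in
  refine ⟨?_, ?_⟩
  · let L := Localization.AtPrime p
    have hpL : ∀ x ∈ maximalIdeal L, ∃ y ∈ p, algebraMap V L y = x := by
      intro x hx
      obtain ⟨a, s, rfl⟩ := IsLocalization.exists_mk'_eq p.primeCompl x
      have ha : a ∈ p := (IsLocalization.AtPrime.mk'_mem_maximal_iff _ p a s).mp hx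
      rcases ValuationRing.dvd_total (s : V) a with ⟨y, hy⟩ | ⟨y, hy⟩
      · refine ⟨y, ((‹p.IsPrime›).mem_or_mem (hy ▸ ha)).resolve_left s.2, ?_⟩
        rw [eq_comm, IsLocalization.mk'_eq_iff_eq_mul, ← map_mul, hy, mul_comm]
      · exact absurd (hy ▸ p.mul_mem_right y ha) s.2
    refine ⟨fun f hf a₀ h₁ h₂ => ?_⟩
    let g := taylor a₀ f
    have hg0 : g.coeff 0 = f.eval a₀ := taylor_coeff_zero a₀ f
    have hg1 : g.coeff 1 = f.derivative.eval a₀ := taylor_coeff_one a₀ f
    obtain ⟨m, hm⟩ : ∃ m, g.natDegree = m + 1 := by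
      refine Nat.exists_eq_succ_of_ne_zero fun h0 => ?_
      rw [natDegree_taylor] at h0
      rw [(hf.natDegree_eq_zero).mp h0, eval_one] at h₁
      exact (maximalIdeal L).ne_top_iff_one.mp (maximalIdeal.isMaximal L).ne_top h₁
    obtain ⟨b, hb⟩ := h₂.exists_right_inv
    let q := f.eval a₀ * b
    have hq : q ∈ maximalIdeal L := Ideal.mul_mem_right _ _ h₁
    choose d hd hdeq using fun j : ℕ =>
      hpL (g.coeff (j + 2) * b * q ^ (j + 1)) (Ideal.mul_mem_left _ _ (Ideal.pow_mem_of_mem _ hq _ (Nat.succ_pos j)))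
    have hdm : ∀ j, d j ∈ maximalIdeal V := fun j => IsLocalRing.le_maximalIdeal (‹p.IsPrime›).ne_top (hd j)
    let h : V[X] := X ^ (m + 1) + (X ^ m + ∑ j ∈ Finset.range m, C (d j) * X ^ (m - 1 - j))
    have hmon : h.Monic := by
      refine monic_X_pow_add (lt_of_le_of_lt (degree_add_le _ _) (max_lt ?_ ?_))
      · exact lt_of_le_of_lt (degree_X_pow_le m) (WithBot.coe_lt_coe.mpr (Nat.lt_succ_self m))
      · refine lt_of_le_of_lt (degree_sum_le _ _) ((Finset.sup_lt_iff (WithBot.bot_lt_coe _)).mpr fun j _ => ?_)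
        exact lt_of_le_of_lt (degree_C_mul_X_pow_le _ _) (WithBot.coe_lt_coe.mpr (Nat.lt_succ_of_le ((Nat.sub_le _ _).trans (Nat.sub_le _ _))))
    let ρ := Ideal.Quotient.mk (maximalIdeal V)
    have hρ : h.map ρ = X ^ (m + 1) + X ^ m := by
      simp only [h, Polynomial.map_add, Polynomial.map_pow, map_X, Polynomial.map_sum, Polynomial.map_mul, map_C]
      rw [Finset.sum_eq_zero (fun j _ => by rw [Ideal.Quotient.eq_zero_iff_mem.mpr (hdm j), map_zero, zero_mul]), add_zero]
    obtain ⟨w, hw, hw1⟩ := HenselianLocalRing.is_henselian h hmon (-1) (by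
        rw [← Ideal.Quotient.eq_zero_iff_mem, ← eval_map_apply, hρ]
        simp only [map_neg, map_one, eval_add, eval_pow, eval_X]
        ring) (by
        rw [← IsLocalRing.notMem_maximalIdeal]
        intro hc
        rw [← Ideal.Quotient.eq_zero_iff_mem, ← eval_map_apply, ← derivative_map, hρ] at hc
        simp only [map_neg, map_one, derivative_add, derivative_X_pow, eval_add, eval_mul, eval_C, eval_pow, eval_X,
          Nat.add_sub_cancel] at hc
        rcases Nat.eq_zero_or_pos m with rfl | hm0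
        · simp at hc
        · obtain ⟨k, rfl⟩ := Nat.exists_eq_succ_of_ne_zero hm0.ne'
          refine (IsUnit.pow (k + 1) (isUnit_one (M := V ⧸ maximalIdeal V)).neg).ne_zero ?_
          rw [← hc]
          push_cast [Nat.succ_eq_add_one, Nat.add_sub_cancel]
          ring)
    have hwu : IsUnit w := by
      rw [← IsLocalRing.notMem_maximalIdeal]
      intro hw'
      exact (maximalIdeal V).ne_top_iff_one.mp (maximalIdeal.isMaximal V).ne_top (by
        simpa using sub_mem hw1 hw')
    obtain ⟨z, hz⟩ := hwu.exists_right_inv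
    let zL := algebraMap V L z
    have hzero : 1 + zL + ∑ j ∈ Finset.range m, g.coeff (j + 2) * b * q ^ (j + 1) * zL ^ (j + 2) = 0 := by
      have := congrArg (fun t => algebraMap V L (t * z ^ (m + 1))) hw
      simp only [h, IsRoot.def, eval_add, eval_pow, eval_X, eval_finsetSum, eval_mul, eval_C, zero_mul, map_zero] at this
      rw [← this]
      have e0 : ∀ i, i ≤ m + 1 → algebraMap V L (w ^ i * z ^ (m + 1)) = zL ^ (m + 1 - i) := fun i hi => by
        rw [← Nat.add_sub_cancel' hi, pow_add z, ← mul_assoc, ← mul_pow, hz, one_pow, one_mul, map_pow, Nat.add_sub_cancel_left]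
      simp only [add_mul, Finset.sum_mul, map_add, map_sum, mul_assoc (d _), map_mul (algebraMap V L) (d _), hdeq]
      rw [e0 (m + 1) le_rfl, e0 m (Nat.le_succ m), Nat.sub_self, pow_zero, show m + 1 - m = 1 by omega, pow_one, add_assoc]
      congr 2
      refine Finset.sum_congr rfl fun j hj => ?_
      have := Finset.mem_range.mp hj
      rw [e0 _ (by omega), show m + 1 - (m - 1 - j) = j + 2 by omega]
    refine ⟨a₀ + q * zL, ?_, by rw [add_sub_cancel_left]; exact Ideal.mul_mem_right _ _ hq⟩
    show f.eval (a₀ + q * zL) = 0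
    rw [add_comm, ← taylor_eval, show taylor a₀ f = g from rfl, eval_eq_sum_range, hm, Finset.sum_range_succ', Finset.sum_range_succ']
    have key : g.coeff 1 * q * (1 + zL + ∑ j ∈ Finset.range m, g.coeff (j + 2) * b * q ^ (j + 1) * zL ^ (j + 2)) = 0 := by
      rw [hzero, mul_zero]
    rw [← key, hg1]
    simp only [mul_add, Finset.mul_sum, zero_add, hg0, hg1]
    have e1 : f.derivative.eval a₀ * q = f.eval a₀ := by
      show f.derivative.eval a₀ * (f.eval a₀ * b) = f.eval a₀
      linear_combination f.eval a₀ * hb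
    have e2 : ∀ j : ℕ, f.derivative.eval a₀ * q * (g.coeff (j + 2) * b * q ^ (j + 1) * zL ^ (j + 2)) =
        g.coeff (j + 1 + 1) * (q * zL) ^ (j + 1 + 1) := fun j => by
      rw [show j + 1 + 1 = j + 2 from rfl, mul_pow]
      linear_combination g.coeff (j + 2) * q ^ (j + 2) * zL ^ (j + 2) * hb
    rw [Finset.sum_congr rfl fun j _ => e2 j, pow_one, pow_zero, mul_one, mul_one, mul_assoc]
    linear_combination -e1
  · haveI : IsLocalRing (V ⧸ p) := IsLocalRing.of_surjective' (Ideal.Quotient.mk p) Ideal.Quotient.mk_surjective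
    refine ⟨fun f hf a₀ h₁ h₂ => ?_⟩
    obtain ⟨F, hF, -, hFm⟩ := Polynomial.lifts_and_degree_eq_and_monic (f := Ideal.Quotient.mk p) (p := f)
      ((Polynomial.mem_lifts f).mpr (Polynomial.map_surjective _ Ideal.Quotient.mk_surjective f)) hf
    obtain ⟨A₀, rfl⟩ := Ideal.Quotient.mk_surjective a₀
    subst hF
    haveI : IsLocalHom (Ideal.Quotient.mk p) := IsLocalHom.of_surjective _ Ideal.Quotient.mk_surjective
    rw [eval_map_apply] at h₁
    rw [derivative_map, eval_map_apply] at h₂
    obtain ⟨a, ha, hdiff⟩ := HenselianLocalRing.is_henselian F hFm A₀ (fun hu => h₁ (hu.map _)) (isUnit_of_map_unit (Ideal.Quotient.mk p) _ h₂)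
    refine ⟨Ideal.Quotient.mk p a, ?_, ?_⟩
    · rw [IsRoot.def, eval_map_apply, show F.eval a = 0 from ha, map_zero]
    · rw [← map_sub]
      exact fun hu => hdiff (isUnit_of_map_unit (Ideal.Quotient.mk p) _ hu)

end Groth.Agent.S16174
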