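import Groth.Statements.S16180
import Groth.Agent.L01.ValFibre

set_option autoImplicit false
universe u
open CategoryTheory
open CAlg

namespace Groth.Agent.S16180

/-- Let V be a valuation ring, B a flat V-algebra of finite presentation, q a prime ideal of B lying
over the prime p of V, A = B_q the local ring of Spec B at q, and suppose that the local ring A/pA
of the fibre over p at q is a regular local ring of dimension n. Then every finitely presented
A-module M which is reflexive (the evaluation map into its double A-dual is bijective) has
projective dimension at most max(0, n - 1) over A (written with truncated subtraction of natural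
numbers). -/
theorem result (V : Type u) [CommRing V] [IsDomain V] [ValuationRing V]
    (B : Type u) [CommRing B] [Algebra V B] [Module.Flat V B] [Algebra.FinitePresentation V B]
    (q : Ideal B) [q.IsPrime] (n : ℕ)
    (hreg : IsRegularLocalRing (Localization.AtPrime q ⧸ Ideal.map (algebraMap V (Localization.AtPrime q)) (Ideal.comap (algebraMap V B) q)))
    (hn : ringKrullDim (Localization.AtPrime q ⧸ Ideal.map (algebraMap V (Localization.AtPrime q)) (Ideal.comap (algebraMap V B) q)) = n)
    (M : Type u) [AddCommGroup M] [Module (Localization.AtPrime q) M] [Module.FinitePresentation (Localization.AtPrime q) M]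
    [Module.IsReflexive (Localization.AtPrime q) M] :
    HasProjectiveDimensionLE (ModuleCat.of (Localization.AtPrime q) M) (n - 1) := by
  have hmap : Ideal.map (algebraMap V (Localization.AtPrime q)) (Ideal.comap (algebraMap V B) q) ≤
      IsLocalRing.maximalIdeal (Localization.AtPrime q) := Groth.L01.ValFibre.map_le_maximalIdeal q
  exact Groth.L01.ValFibre.pd_reflexive _ (Groth.L01.ValFibre.coherent_atPrime q) hmap hreg hn M

end Groth.Agent.S16180
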