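import Groth.Statements.S16183
import Groth.Agent.L25.RedField.DerivedTorus
-- import your own Groth.Agent.* helpers here

set_option autoImplicit false
universe u
open CategoryTheory MonoidalCategory CartesianMonoidalCategory MonObj GrpObj AlgebraicGeometry
open AGF

set_option backward.isDefEq.respectTransparency.types false
set_option linter.style.haveILetI false

namespace Groth.Agent.S16183

set_option maxHeartbeats 400000 in
/-- Let G be a reductive group over an algebraically closed field k and T ⊆ G a maximal torus. A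
character χ : T → 𝔾_m which is Weyl-invariant — χ ∘ φ = χ whenever φ : T → T is induced by
conjugation by a k-point of G carrying T into itself — is the restriction to T of one and only one
character of G. (The source phrases this as: restriction along T → G → G/[G,G] is an isomorphism
from the character group of the abelianisation onto the Weyl-invariant characters of T; since every
character of G factors through the abelianisation, this is the same statement with characters of G.) -/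
theorem result (k : Type u) [Field k] [IsAlgClosed k]
    (G : Over (Spec (CommRingCat.of k))) [GrpObj G] (hG : Red.IsReductive G)
    (T : Over (Spec (CommRingCat.of k))) [GrpObj T] (iT : T ⟶ G) (hT : Red.IsMaximalTorus iT)
    (χ : T ⟶ Red.Gm (Spec (CommRingCat.of k))) [IsMonHom χ]
    (hχ : ∀ (n : 𝟙_ (Over (Spec (CommRingCat.of k))) ⟶ G) (φ : T ⟶ T), φ ≫ iT = AGF.conjBy n iT → φ ≫ χ = χ) :
    ∃! ψ : G ⟶ Red.Gm (Spec (CommRingCat.of k)), IsMonHom ψ ∧ iT ≫ ψ = χ := by
  have hGo := Groth.L25.RedField.isReductiveOver_of_isReductive hG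
  haveI := hGo.1; haveI := hGo.2.1; haveI := hGo.2.2.1
  haveI : LocallyOfFiniteType G.hom := inferInstance
  haveI : QuasiCompact G.hom := quasiCompact_of_compactSpace _
  have hTm := Groth.L08.Borel.isMaximalTorus_iff_isMaxTorus.1 hT
  haveI := hTm.1; haveI := hTm.2.1
  haveI : IsSeparated (Red.Gm (Spec (CommRingCat.of k))).hom := Groth.L08.AbelianGrp.isSeparated _
  have hcomm : ∀ {Z : Over (Spec (CommRingCat.of k))} (x y : Z ⟶ Red.Gm (Spec (CommRingCat.of k))), x * y = y * x :=
    fun {Z} a b => (GmPts.equiv Z).injective (by rw [map_mul, map_mul, mul_comm])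
  obtain ⟨D, gD, d, Q, gQ, q, hd, hdc, hDs, hDcon, hn, hq, hQa, hQl, hQr, hqf, hqs, hQc, hker, hkill⟩ :=
    Groth.L25.RedField.exists_derived_smooth G
  haveI := hd; haveI := hdc; haveI := hDs; haveI := hDcon; haveI := hq; haveI := hQa; haveI := hQl; haveI := hQr
  haveI := hqf; haveI := hqs; haveI := hQc
  haveI : Mono d := Over.mono_of_mono_left d
  obtain ⟨S, gS, j, hj, hmem⟩ := Groth.L19.SpecSub.exists_torus_inter G T iT hTm D d fun X t n => hn X (t ≫ iT) n
  haveI := hj.1; haveI := hj.2.1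
  obtain ⟨w, hw⟩ := (hmem S j).1 ⟨𝟙 S, Category.id_comp j⟩
  haveI : IsMonHom w := Groth.L08.Borel.isMonHom_of_comp_mono w iT (j ≫ d) hw
  haveI : IsMonHom (j ≫ d) := inferInstance
  -- invariance under the normalizer of the torus of the derived group
  have hinv : ∀ (n : 𝟙_ (Over (Spec (CommRingCat.of k))) ⟶ D) (φ : S ⟶ S), φ ≫ j = AGF.conjBy n j →
      φ ≫ w ≫ χ = w ≫ χ := by
    intro n φ hφ
    let g := n ≫ d
    have hφd : φ ≫ j ≫ d = AGF.conjBy g (j ≫ d) := by
      rw [← Category.assoc, hφ]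
      simp only [AGF.conjBy, MonObj.mul_comp, GrpObj.inv_comp, Category.assoc, g]
    haveI : IsSeparated G.hom := Groth.L08.AbelianGrp.isSeparated G
    obtain ⟨C, gC, c, hc, hcc, hCs⟩ := Groth.L25.Locus.exists_smooth_centralizer
      (Groth.L25.Locus.locally_of_multTypeFT (Groth.L25.Locus.isMultTypeFT_of_isTorus hj.2.2.1)) (j ≫ d)
    haveI := hc.1; haveI := hc.2.1; haveI := hcc; haveI := hCs
    haveI := Groth.L08.Borel.isMonHom_conjBy g iT
    haveI := Groth.L08.Borel.mono_conjBy g iT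
    have hTg := Groth.L08.Borel.isMaxTorus_conjBy hTm g
    have hTc : ∀ {X : Over (Spec (CommRingCat.of k))} (a b : X ⟶ T), a * b = b * a := fun a b =>
      Groth.L08.TorusWeights.torus_comm hTm.2.2.1 a b
    haveI : IsAffine C.left := isAffine_of_isAffineHom c.left
    haveI : QuasiCompact C.hom := quasiCompact_of_compactSpace _
    obtain ⟨a₁, ha₁⟩ := (hc.2.2 T iT).2 fun X x s => by
      rw [← hw, ← Category.assoc s w iT, ← MonObj.mul_comp, ← MonObj.mul_comp, hTc]
    obtain ⟨a₂, ha₂⟩ := (hc.2.2 T (AGF.conjBy g iT)).2 fun X x s => by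
      obtain ⟨s', hs'⟩ : ∃ s' : X ⟶ S, AGF.conjBy g (s' ≫ j ≫ d) = s ≫ j ≫ d := by
        obtain ⟨ψ, hψ⟩ : ∃ ψ : S ⟶ S, ψ ≫ φ = 𝟙 S := by
          haveI := Groth.L08.Borel.isMonHom_conjBy n⁻¹ j
          haveI := Groth.L08.Borel.mono_conjBy n⁻¹ j
          haveI : IsIso φ := hj.2.2.2 S (AGF.conjBy n⁻¹ j) φ hj.2.2.1 (by
            rw [Groth.L08.Borel.comp_conjBy, hφ, Groth.L08.Borel.conjBy_conjBy, inv_mul_cancel, Groth.L08.Borel.conjBy_one])
          exact ⟨inv φ, IsIso.inv_hom_id φ⟩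
        refine ⟨s ≫ ψ, ?_⟩
        rw [← Groth.L08.Borel.comp_conjBy g (s ≫ ψ) (j ≫ d), ← hφd, Category.assoc, reassoc_of% hψ]
      rw [← hs', Groth.L08.Borel.comp_conjBy g x iT]
      have e : AGF.conjBy g (x ≫ iT) * AGF.conjBy g (s' ≫ j ≫ d) = AGF.conjBy g ((x ≫ iT) * (s' ≫ j ≫ d)) := by
        simp only [AGF.conjBy]; group
      have e' : AGF.conjBy g (s' ≫ j ≫ d) * AGF.conjBy g (x ≫ iT) = AGF.conjBy g ((s' ≫ j ≫ d) * (x ≫ iT)) := by
        simp only [AGF.conjBy]; group
      rw [e, e', ← hw, ← Category.assoc s' w iT, ← MonObj.mul_comp, ← MonObj.mul_comp, hTc]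
    have hmax : ∀ {a : T ⟶ C} {i : T ⟶ G}, AGF.IsMaxTorus i → a ≫ c = i → AGF.IsMaxTorus a := by
      intro a i hi ha
      haveI := hi.1; haveI := hi.2.1
      haveI : Mono (a ≫ c) := ha.symm ▸ hi.2.1
      haveI : IsMonHom a := Groth.L08.Borel.isMonHom_of_comp_mono a c i ha
      refine ⟨inferInstance, mono_of_mono a c, hi.2.2.1, fun T' _ b _ _ f hT' hf => ?_⟩
      haveI : Mono (b ≫ c) := mono_comp b c
      exact hi.2.2.2 T' (b ≫ c) f hT' (by rw [← Category.assoc, hf, ha])
    obtain ⟨y, f, hf⟩ := Groth.L08.Borel.exists_maxTorus_conj_any (hmax hTg ha₂) (hmax hTm ha₁)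
    have hτ : f.hom ≫ iT = AGF.conjBy ((y ≫ c) * g) iT := by
      rw [← ha₁, ← Category.assoc, hf, ha₁, ← Groth.L08.Borel.conjBy_conjBy, ← ha₂]
      simp only [AGF.conjBy, MonObj.mul_comp, GrpObj.inv_comp, Category.assoc]
    have hyc : AGF.conjBy (y ≫ c) (φ ≫ j ≫ d) = φ ≫ j ≫ d := by
      have := (hc.2.2 _ (y ≫ c)).1 ⟨y, rfl⟩ S (toUnit S) φ
      simp only [AGF.conjBy]
      rw [this, mul_inv_cancel_right]
    have hwf : w ≫ f.hom = φ ≫ w := by
      rw [← cancel_mono iT, Category.assoc, hτ, Groth.L08.Borel.comp_conjBy, hw, ← Groth.L08.Borel.conjBy_conjBy,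
        ← hφd, hyc, Category.assoc, hw]
    rw [← Category.assoc, ← hwf, Category.assoc, hχ _ f.hom hτ]
  haveI : IsMonHom (w ≫ χ) := inferInstance
  have hw1 : w ≫ χ = 1 := Groth.L25.RedField.char_torus_eq_one_of_invariant
    (Groth.L25.RedField.isReductiveOver_normal hGo d hn) hj (w ≫ χ) hinv fun C _ c hc hcm hC hcen => by
      haveI := hc; haveI := hcm
      exact Groth.L25.RedField.centralTorus_derived_eq_one hG d hn (fun ψ hψ => hkill _ ψ hcomm) c hC hcen
  -- the torus covers the abelianisation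
  have hQcomm : ∀ {Z : Over (Spec (CommRingCat.of k))} (x y : Z ⟶ Q), x * y = y * x := fun x y => mul_comm x y
  haveI : Surjective (iT ≫ q).left := Groth.L25.RedField.surjective_maxTorus_comp hG hTm q hQcomm
  haveI : Flat (iT ≫ q).left := Groth.L08.FlatHom.flat_of_surjective T Q (iT ≫ q)
  haveI : Smooth T.hom := (Groth.L25.Locus.smooth_connected_torus hTm.2.2.1).1
  haveI : LocallyOfFinitePresentation (iT ≫ q).left := by
    haveI : LocallyOfFiniteType ((iT ≫ q).left ≫ Q.hom) := by rw [Over.w (iT ≫ q)]; infer_instance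
    haveI : LocallyOfFiniteType (iT ≫ q).left := locallyOfFiniteType_of_comp (iT ≫ q).left Q.hom
    haveI : IsLocallyNoetherian Q.left := LocallyOfFiniteType.isLocallyNoetherian Q.hom
    infer_instance
  obtain ⟨K, gK, iK, hiK, hiKc, -, hK⟩ := Groth.L08.AbelianGrp.exists_kernel (iT ≫ q)
  haveI := hiK; haveI := hiKc
  haveI : Mono iK := Over.mono_of_mono_left iK
  have hKχ : iK ≫ χ = 1 := by
    obtain ⟨z, hz, -⟩ := hker.exists_lift (iK ≫ iT) (toUnit K) (by rw [Category.assoc, hK.w])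
    obtain ⟨s, hs⟩ := (hmem K z).2 ⟨iK, hz.symm⟩
    have : iK = s ≫ w := by rw [← cancel_mono iT, Category.assoc, hw, ← Category.assoc, hs, hz]
    rw [this, Category.assoc, hw1, MonObj.comp_one]
  obtain ⟨ψQ, ⟨hψ, hψm⟩, -⟩ := Groth.Agent.S5237.result iK (Groth.L25.RedField.isNormalHom_of_isKernel hK) (iT ≫ q)
    (Groth.L24.TorusField.isQuotient_of_isKernel iK (iT ≫ q) hK) χ hKχ
  haveI := hψm
  have key := Groth.L25.RedField.hom_ext_maxTorus (H := Red.Gm (Spec (CommRingCat.of k))) hG hTm (fun {Z} x y => hcomm x y)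
  haveI i1 : IsMonHom (q ≫ ψQ) := inferInstance
  refine ⟨q ≫ ψQ, ⟨i1, by rw [← Category.assoc, hψ]⟩, fun ψ ⟨hψ', hψr⟩ => ?_⟩
  have k1 := @key ψ (q ≫ ψQ) hψ'
  exact k1 (by rw [hψr, ← Category.assoc, hψ])

end Groth.Agent.S16183
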