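import Groth.Statements.S16184
import Groth.Agent.L25.RedField.WeylInvariant
import Groth.Agent.L25.RedField.SemisimpleCrit

set_option autoImplicit false
universe u
open CategoryTheory MonoidalCategory CartesianMonoidalCategory MonObj GrpObj AlgebraicGeometry
open AGF

set_option backward.isDefEq.respectTransparency.types false
set_option linter.style.haveILetI false

namespace Groth.Agent.S16184

/-- Let G be a semisimple group over an algebraically closed field k and T ⊆ G a maximal torus. A
character χ : T → 𝔾_m which is Weyl-invariant — χ ∘ φ = χ whenever φ : T → T is induced by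
conjugation by a k-point of G carrying T into itself — is the trivial character. (In the source this
is the vanishing of the Weyl-invariants of the character lattice of the maximal torus of the derived
subgroup.) -/
theorem result (k : Type u) [Field k] [IsAlgClosed k]
    (G : Over (Spec (CommRingCat.of k))) [GrpObj G] (hG : Red.IsSemisimple G)
    (T : Over (Spec (CommRingCat.of k))) [GrpObj T] (iT : T ⟶ G) (hT : Red.IsMaximalTorus iT)
    (χ : T ⟶ Red.Gm (Spec (CommRingCat.of k))) [IsMonHom χ]
    (hχ : ∀ (n : 𝟙_ (Over (Spec (CommRingCat.of k))) ⟶ G) (φ : T ⟶ T), φ ≫ iT = AGF.conjBy n iT → φ ≫ χ = χ) :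
    χ = 1 := by
  have hGr : Red.IsReductive G := ⟨hG.1, hG.2.1, fun s => (hG.2.2 s).1⟩
  have hGo := Groth.L25.RedField.isReductiveOver_of_isReductive hGr
  haveI := hGo.1; haveI := hGo.2.1
  haveI : QuasiCompact G.hom := quasiCompact_of_compactSpace _
  refine Groth.L25.RedField.char_torus_eq_one_of_invariant hGo
    (Groth.L08.Borel.isMaximalTorus_iff_isMaxTorus.1 hT) χ hχ fun C _ c hc hcm hC hcen => ?_
  haveI := hc; haveI := hcm
  haveI : Smooth C.hom := (Groth.L25.Locus.smooth_connected_torus hC).1
  haveI : IsClosedImmersion c.left :=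
    Groth.L25.MonoClosed.isClosedImmersion_of_mono (Groth.L25.Locus.isMultTypeFT_of_isTorus hC) c
  obtain ⟨s⟩ : Nonempty ↥(Spec (CommRingCat.of k)) := inferInstance
  haveI : IsMonHom ((Over.pullback (Red.geomPt s)).map c) := Groth.L25.MonoClosed.isMonHom_pullbackMap _ _
  haveI := Groth.L08.Borel.isClosedImmersion_map (Red.geomPt s) c
  have htriv : Red.IsTrivialGrp C := Groth.L25.RedField.isTrivialGrp_of_geomFibre s
    ((hG.2.2 s).2 _ _ inferInstance
      (Groth.L25.GenWords.isNormalHom_bc (Red.geomPt s) c fun X g x => ⟨x, by rw [← hcen, mul_inv_cancel_right]⟩)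
      (Groth.L25.Locus.isTorus_bc hC (Red.geomPt s)))
  rw [← Category.id_comp c, Groth.L14.Luna.id_eq_one_of_isTrivialGrp htriv, MonObj.one_comp]

end Groth.Agent.S16184
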