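import Groth.Statements.S16185
import Groth.Agent.L21.GorensteinScheme

set_option autoImplicit false
universe u
open CategoryTheory CategoryTheory.Limits AlgebraicGeometry
open Dual3

namespace Groth.Agent.S16185

/-- Let A be an Artinian local ring with maximal ideal m and let f : P → Spec A be a flat morphism of
schemes whose closed fibre X = P ×_{Spec A} Spec (A/m) is a Gorenstein scheme (locally Noetherian,
all local rings Gorenstein). Then f is a Gorenstein morphism: flat at every point with Gorenstein
local rings on its fibres. (The source takes A to be a local Artinian algebra over a field k with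
residue field k and X a k-scheme deformed flatly over A; the k-algebra structure plays no role, so
the residue field of A is used directly.) -/
theorem result
    {A : Type u} [CommRing A] [IsArtinianRing A] [IsLocalRing A]
    {P X : Scheme.{u}} (f : P ⟶ Spec (CommRingCat.of A)) [Flat f]
    (i : X ⟶ P) (q : X ⟶ Spec (CommRingCat.of (IsLocalRing.ResidueField A)))
    (hsq : IsPullback i q f (Spec.map (CommRingCat.ofHom (IsLocalRing.residue A))))
    (hX : Dual3.IsGorenstein X) : Dual3.IsGorensteinMor f := by
  intro p
  let g := Spec.map (CommRingCat.ofHom (IsLocalRing.residue A))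
  haveI : Subsingleton (PrimeSpectrum A) := by
    refine ⟨fun a b => PrimeSpectrum.ext ?_⟩
    rw [Ring.KrullDimLE.eq_maximalIdeal_of_isPrime a.asIdeal, Ring.KrullDimLE.eq_maximalIdeal_of_isPrime b.asIdeal]
  let c : ↥(Spec (CommRingCat.of A)) := f p
  have hc : g (IsLocalRing.closedPoint (IsLocalRing.ResidueField A)) = c :=
    (Subsingleton.elim (α := PrimeSpectrum A) _ _)
  let d := Scheme.descResidueField (Scheme.stalkClosedPointTo g)
  have hd : Spec.map d ≫ (Spec (CommRingCat.of A)).fromSpecResidueField _ = g :=
    Scheme.descResidueField_stalkClosedPointTo_fromSpecResidueField _ _ g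
  let m := Spec.preimage ((Spec (CommRingCat.of A)).fromSpecResidueField
    (g (IsLocalRing.closedPoint (IsLocalRing.ResidueField A))))
  have hmd : m ≫ d = CommRingCat.ofHom (IsLocalRing.residue A) := by
    apply Spec.map_injective
    rw [Spec.map_comp, Spec.map_preimage, hd]
  have hbij : Function.Bijective d.hom := ⟨d.hom.injective, fun r => by
    obtain ⟨a, rfl⟩ := IsLocalRing.residue_surjective r
    exact ⟨m.hom a, congrArg (fun t : CommRingCat.of A ⟶ _ => t.hom a) hmd⟩⟩
  haveI : IsIso d := (ConcreteCategory.isIso_iff_bijective d).2 hbij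
  have hpb : IsPullback i (q ≫ Spec.map d) f ((Spec (CommRingCat.of A)).fromSpecResidueField
      (g (IsLocalRing.closedPoint (IsLocalRing.ResidueField A)))) :=
    hsq.of_iso (Iso.refl _) (Iso.refl _) (asIso (Spec.map d)) (Iso.refl _) (by simp) (by simp) (by simp)
      (by simpa using hd.symm)
  let e : X ≅ f.fiber (g (IsLocalRing.closedPoint (IsLocalRing.ResidueField A))) := hpb.isoPullback
  have hG : ∀ z : ↥(f.fiber (g (IsLocalRing.closedPoint (IsLocalRing.ResidueField A)))),
      LocCoh.IsGorensteinLocalRing ((f.fiber _).presheaf.stalk z) := fun z => by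
    haveI := hX.2 (e.inv z)
    exact Groth.L21.GorensteinAscend.isGorensteinLocalRing_of_ringEquiv
      (asIso (e.inv.stalkMap z)).commRingCatIsoToRingEquiv inferInstance
  refine ⟨Flat.stalkMap f p, ?_⟩
  rw [hc] at hG
  exact hG _

end Groth.Agent.S16185
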