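import Groth.Statements.S16186
import Groth.Agent.S3218
import Groth.Agent.S5934
import Groth.Agent.L14.GeomSmoothing.Basic
import Groth.Agent.L14.GeomSmoothing.Curve
import Groth.Agent.L16.ProjSpace.BaseChange

set_option autoImplicit false
set_option linter.style.haveILetI false
set_option backward.isDefEq.respectTransparency false
universe u
open CategoryTheory CategoryTheory.Limits AlgebraicGeometry
open Deform

namespace Groth.Agent.S16186

/-- Let k be an algebraically closed field and let p : P → Spec k[[t]] be flat and projective, i.e. P is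
a closed subscheme of a projective space over k[[t]] compatibly with p; let X be its closed fibre
over k and suppose the generic fibre P ⊗ Frac k[[t]] is smooth. Then X is geometrically smoothable:
there exist an affine integral curve C, smooth of dimension one over k, a k-rational point c of C
and a flat proper morphism Y → C whose fibre over c is isomorphic to X over k and whose fibre over
the generic point of C is smooth. (The source's statement is the equivalence, for X reduced
projective and equidimensional over an algebraically closed field of characteristic zero with H^2(X,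
O_X) = 0 or with X Gorenstein and its dualizing sheaf or the dual of it ample, between the existence
of a formal smoothing and of a geometric smoothing; its proof first turns a formal smoothing into a
smoothing over Spec k[[t]] and then runs the argument stated here, which uses neither characteristic
zero nor the hypotheses on X.) -/
theorem result
    (k : Type u) [Field k] [IsAlgClosed k]
    (X : Scheme.{u}) (pX : X ⟶ Spec (CommRingCat.of k))
    (P : Scheme.{u}) (p : P ⟶ Spec (CommRingCat.of (PowerSeries k))) [Flat p]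
    (hproj : ∃ (d : ℕ) (ι : P ⟶ CohB1.ProjSpace d (PowerSeries k)), IsClosedImmersion ι ∧
      ι ≫ CohB1.ProjSpace.toSpec d (PowerSeries k) = p)
    (i : X ⟶ P)
    (hX : IsPullback i pX p (Spec.map (CommRingCat.ofHom (PowerSeries.constantCoeff (R := k)))))
    (hgen : Smooth (pullback.snd p
      (Spec.map (CommRingCat.ofHom (algebraMap (PowerSeries k) (FractionRing (PowerSeries k)))))))
    : ∃ (C : Scheme.{u}) (qC : C ⟶ Spec (CommRingCat.of k)) (c : Spec (CommRingCat.of k) ⟶ C)
      (_ : c ≫ qC = 𝟙 (Spec (CommRingCat.of k))) (_ : IsIntegral C) (_ : IsAffine C) (_ : Smooth qC)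
      (_ : topologicalKrullDim C = 1)
      (Y : Scheme.{u}) (π : Y ⟶ C) (_ : Flat π) (_ : IsProper π) (j : X ⟶ Y)
      (η : C) (_ : closure ({η} : Set C) = Set.univ),
      IsPullback j pX π c ∧ Smooth (π.fiberToSpecResidueField η) := by
  obtain ⟨d, ι, hι, hιp⟩ := hproj
  haveI := hι
  haveI : IsProper p := by rw [← hιp]; infer_instance
  let S : Scheme.{u} := Spec (CommRingCat.of k)
  let y : CohB1.ProjSpaceOver d S ⟶ S := 𝟙 _ ≫ CohB1.ProjSpaceOver.toBase d S
  obtain ⟨H, Z, hH, κ, Pc, e, r, cc, hcc⟩ := Groth.Agent.S3218.result S d (CohB1.ProjSpaceOver d S) (𝟙 _)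
  haveI : IsLocallyNoetherian H.left := hH.1
  haveI : LocallyOfFiniteType H.hom := by
    have h1 : LocallyOfFiniteType (Limits.Sigma.desc fun a => cc a ≫ CohB1.ProjSpaceOver.toBase (r a) S) :=
      IsZariskiLocalAtSource.sigmaDesc fun a => by
        haveI := (hcc a).1
        infer_instance
    have h2 : Limits.Sigma.desc (fun a => cc a ≫ CohB1.ProjSpaceOver.toBase (r a) S) = e.hom ≫ H.hom :=
      Limits.Sigma.hom_ext _ _ fun a => by rw [Limits.Sigma.ι_desc]; exact (hcc a).2
    rw [h2] at h1
    exact (MorphismProperty.cancel_left_of_respectsIso @LocallyOfFiniteType e.hom H.hom).1 h1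
  -- the classifying morphism of the family over `k⟦t⟧`
  let T : Over S := Over.mk (Spec.map (CommRingCat.ofHom (algebraMap k (PowerSeries k))))
  haveI : IsLocallyNoetherian T.left :=
    inferInstanceAs (IsLocallyNoetherian (Spec (CommRingCat.of (PowerSeries k))))
  have sqP : IsPullback (Groth.L16.ProjSpace.overMap d T.hom) (CohB1.ProjSpaceOver.toBase d T.left) y T.hom := by
    simpa [y] using Groth.L16.ProjSpace.isPullback_overMap d T.hom
  let e₀ : P ⟶ PicF.XT y T := (ι ≫ (Groth.L16.ProjSpace.isoOver d (PowerSeries k)).hom) ≫ sqP.isoPullback.hom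
  haveI : IsClosedImmersion e₀ := inferInstance
  have he₀ : e₀ ≫ PicF.XTproj y T = p := by
    rw [Category.assoc, IsPullback.isoPullback_hom_snd, Category.assoc, ← hιp]
    exact congrArg (ι ≫ ·) (Groth.L16.ProjSpace.isoOver_hom_toBase d (R := PowerSeries k))
  obtain ⟨g, a, sq⟩ := Groth.L14.GeomSmoothing.exists_classifying y Z hH T e₀ p he₀
  let π₀ : Z.1.subscheme ⟶ H.left := Z.1.subschemeι ≫ PicF.XTproj y H
  haveI : IsProper π₀ := Z.2.1
  haveI : Flat π₀ := Z.2.2
  haveI : LocallyOfFinitePresentation π₀ := inferInstance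
  let U : Set H.left := {h | Smooth (π₀.fiberToSpecResidueField h)}
  have hU : IsOpen U := Groth.Agent.S5934.result π₀
  -- the generic point goes to `U`
  let K := FractionRing (PowerSeries k)
  let xK : Spec (CommRingCat.of K) ⟶ T.left := Spec.map (CommRingCat.ofHom (algebraMap (PowerSeries k) K))
  have hηU : g.left (xK (IsLocalRing.closedPoint K)) ∈ U := by
    refine (Groth.L14.GeomSmoothing.smooth_fiber_iff π₀ (xK ≫ g.left)).1 ?_
    have sqK := (IsPullback.of_hasPullback p xK).paste_horiz sq
    rw [← sqK.isoPullback_inv_snd]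
    exact (MorphismProperty.cancel_left_of_respectsIso @Smooth _ _).2 hgen
  -- restrict to an affine neighbourhood of the closed point
  let t₀ : T.left := IsLocalRing.closedPoint (PowerSeries k)
  obtain ⟨_, ⟨V, hV, rfl⟩, ht₀V, -⟩ :=
    H.left.isBasis_affineOpens.exists_subset_of_mem_open (Set.mem_univ (g.left t₀)) isOpen_univ
  have hrange : Set.range g.left ⊆ Set.range hV.fromSpec := by
    rw [hV.range_fromSpec]
    rintro _ ⟨t, rfl⟩
    have hsp : t ⤳ t₀ := IsLocalRing.specializes_closedPoint (R := PowerSeries k) t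
    exact (hsp.map g.left.continuous).mem_open V.2 ht₀V
  haveI := hV.isOpenImmersion_fromSpec
  let g' := IsOpenImmersion.lift hV.fromSpec g.left hrange
  have hg' : g' ≫ hV.fromSpec = g.left := IsOpenImmersion.lift_fac _ _ _
  let A : Type u := Γ(H.left, V)
  let αh : CommRingCat.of k ⟶ Γ(H.left, V) := Spec.preimage (hV.fromSpec ≫ H.hom)
  have hαh : Spec.map αh = hV.fromSpec ≫ H.hom := Spec.map_preimage _
  letI : Algebra k A := αh.hom.toAlgebra
  haveI : Algebra.FiniteType k A := by
    have h1 : LocallyOfFiniteType (Spec.map αh) := by rw [hαh]; infer_instance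
    exact (HasRingHomProperty.Spec_iff (P := @LocallyOfFiniteType)).1 h1
  let γh : Γ(H.left, V) ⟶ CommRingCat.of (PowerSeries k) := Spec.preimage g'
  have hγh : Spec.map γh = g' := Spec.map_preimage _
  have hαγ : αh ≫ γh = CommRingCat.ofHom (algebraMap k (PowerSeries k)) := by
    apply Spec.map_injective
    rw [Spec.map_comp, hγh, hαh, reassoc_of% hg']
    exact Over.w g
  let γ : A →ₐ[k] PowerSeries k :=
    ⟨γh.hom, fun x => congr($(hαγ).hom x)⟩
  let ev : A →ₐ[k] k :=
    ⟨(PowerSeries.constantCoeff (R := k)).comp γh.hom, fun x => by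
      show PowerSeries.constantCoeff (γ (algebraMap k A x)) = x
      rw [γ.commutes, PowerSeries.algebraMap_apply, PowerSeries.constantCoeff_C]
      rfl⟩
  have hηγ : hV.fromSpec ⟨RingHom.ker γ.toRingHom, RingHom.ker_isPrime _⟩ ∈ U := by
    convert hηU using 1
    rw [← hg', Scheme.Hom.comp_apply, ← hγh]
    refine congrArg hV.fromSpec (PrimeSpectrum.ext ?_)
    show RingHom.ker γh.hom = Ideal.comap γh.hom
      (Ideal.comap (algebraMap (PowerSeries k) K) (IsLocalRing.maximalIdeal K))
    rw [IsLocalRing.maximalIdeal_eq_bot, ← RingHom.ker_eq_comap_bot,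
      (RingHom.injective_iff_ker_eq_bot _).1 (IsFractionRing.injective (PowerSeries k) K),
      ← RingHom.ker_eq_comap_bot]
  obtain ⟨C, _, _, _, _, φ, ρ, hdim, hρ, hφU⟩ := Groth.L14.GeomSmoothing.exists_curve_through γ ev
    (fun _ => rfl) (hV.fromSpec ⁻¹' U) (hU.preimage hV.fromSpec.continuous) hηγ
  -- the family over the curve
  let qC : Spec (CommRingCat.of C) ⟶ Spec (CommRingCat.of k) := Spec.map (CommRingCat.ofHom (algebraMap k C))
  let c : Spec (CommRingCat.of k) ⟶ Spec (CommRingCat.of C) := Spec.map (CommRingCat.ofHom ρ.toRingHom)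
  let φC : Spec (CommRingCat.of C) ⟶ H.left :=
    Spec.map (CommRingCat.ofHom φ.toRingHom : Γ(H.left, V) ⟶ CommRingCat.of C) ≫ hV.fromSpec
  have hc : c ≫ qC = 𝟙 _ := by
    rw [← Spec.map_comp, ← CommRingCat.ofHom_comp, ← Spec.map_id]
    exact congrArg (fun f => Spec.map (CommRingCat.ofHom f)) (RingHom.ext fun x => ρ.commutes x)
  have hcφ : c ≫ φC = Spec.map (CommRingCat.ofHom (PowerSeries.constantCoeff (R := k))) ≫ g.left := by
    rw [← hg', ← hγh, ← Category.assoc, ← Category.assoc, ← Spec.map_comp, ← Spec.map_comp]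
    exact congrArg (fun f => Spec.map f ≫ hV.fromSpec) (CommRingCat.hom_ext
      (RingHom.ext fun x => DFunLike.congr_fun hρ x))
  haveI : Smooth qC := by
    rw [HasRingHomProperty.Spec_iff (P := @Smooth)]
    exact RingHom.smooth_algebraMap.2 inferInstance
  let Y := pullback π₀ φC
  let π : Y ⟶ Spec (CommRingCat.of C) := pullback.snd π₀ φC
  have sqX : IsPullback (i ≫ a) pX π₀ (c ≫ φC) := by
    rw [hcφ]; exact hX.paste_horiz sq
  let j : X ⟶ Y := pullback.lift (i ≫ a) (pX ≫ c) (by rw [Category.assoc]; exact sqX.w.trans rfl)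
  let η : Spec (CommRingCat.of C) := (⊥ : PrimeSpectrum C)
  let L := FractionRing C
  let xL : Spec (CommRingCat.of L) ⟶ Spec (CommRingCat.of C) :=
    Spec.map (CommRingCat.ofHom (algebraMap C L))
  have hxL : xL (IsLocalRing.closedPoint L) = η := PrimeSpectrum.ext (by
    show Ideal.comap (algebraMap C L) (IsLocalRing.maximalIdeal L) = ⊥
    rw [IsLocalRing.maximalIdeal_eq_bot, ← RingHom.ker_eq_comap_bot]
    exact (RingHom.injective_iff_ker_eq_bot _).1 (IsFractionRing.injective C L))
  refine ⟨Spec (CommRingCat.of C), qC, c, hc, inferInstance, inferInstance, inferInstance, ?_, Y, π,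
    inferInstance, inferInstance, j, η, ?_, ?_, ?_⟩
  · exact (PrimeSpectrum.topologicalKrullDim_eq_ringKrullDim C).trans hdim
  · refine (PrimeSpectrum.closure_singleton _).trans ?_
    exact PrimeSpectrum.zeroLocus_bot
  · exact IsPullback.of_right (by rw [pullback.lift_fst]; exact sqX) (pullback.lift_snd _ _ _)
      (IsPullback.of_hasPullback π₀ φC)
  · rw [← hxL]
    refine (Groth.L14.GeomSmoothing.smooth_fiber_iff π xL).1 ?_
    rw [← pullbackLeftPullbackSndIso_hom_snd π₀ φC xL]
    refine (MorphismProperty.cancel_left_of_respectsIso @Smooth _ _).2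
      ((Groth.L14.GeomSmoothing.smooth_fiber_iff π₀ (xL ≫ φC)).2 ?_)
    show (xL ≫ φC) (IsLocalRing.closedPoint L) ∈ U
    have hpt : (Spec.map (CommRingCat.ofHom φ.toRingHom : Γ(H.left, V) ⟶ CommRingCat.of C)) η =
        (⟨RingHom.ker φ.toRingHom, RingHom.ker_isPrime _⟩ : PrimeSpectrum A) :=
      PrimeSpectrum.ext (RingHom.ker_eq_comap_bot _).symm
    rw [Scheme.Hom.comp_apply, hxL, Scheme.Hom.comp_apply, hpt]
    exact hφU

end Groth.Agent.S16186
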