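import Groth.Statements.S16187
import Groth.Agent.L14.GenSm.CIFitt

set_option autoImplicit false
universe u
open CategoryTheory
open Fitt

namespace Groth.Agent.S16187

/-- Let k be an algebraically closed field and let B be a reduced k-algebra presented as k[T_1, …,
T_r]/(a_1, …, a_c) with a_1, …, a_c a regular sequence in the polynomial ring, so that Spec B is a
reduced complete intersection of dimension d = r - c. Then the d-th Fitting ideal of Ω_{B/k} equals
the 0-th Fitting ideal of the B-module T^1 = Ext^1_B(Ω_{B/k}, B). (The source states the equality
Fitt_d of the formal sheaf of differentials = Fitt_0 of T^1 for a flat morphism 𝔛 → Spf k[[t]] of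
locally Noetherian formal schemes that is a local complete intersection of relative dimension d and
has reduced closed fibre, and obtains it on affine charts from a two-term free resolution of the
differentials given by the conormal sequence; stated here is that chart computation on the closed
fibre, for a global complete intersection in affine r-space.) -/
theorem result
    (k : Type u) [Field k] [IsAlgClosed k] (r c : ℕ)
    (B : Type u) [CommRing B] [Algebra k B] [IsReduced B]
    (φ : MvPolynomial (Fin r) k →ₐ[k] B) (hφ : Function.Surjective φ)
    (a : Fin c → MvPolynomial (Fin r) k)
    (ha : RingTheory.Sequence.IsRegular (MvPolynomial (Fin r) k) (List.ofFn a))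
    (hker : RingHom.ker φ.toRingHom = Ideal.span (Set.range a)) :
    Fitt.ideal B (KaehlerDifferential k B) (r - c) =
      Fitt.ideal B (Abelian.Ext.{u} (ModuleCat.of B (KaehlerDifferential k B)) (ModuleCat.of B B) 1) 0 := by
  exact Groth.L14.GenSm.fitt_omega_eq_fitt_t1 φ hφ a ha.toIsWeaklyRegular hker

end Groth.Agent.S16187
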