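import Groth.Agent.L18.KerReduced
import Mathlib.Topology.Irreducible
import Groth.Statements.S16188
-- import your own Groth.Agent.* helpers here

set_option autoImplicit false
universe u
open CategoryTheory AlgebraicGeometry TopologicalSpace
open SchMor

namespace Groth.Agent.S16188

/-- Let f : X → Y be a morphism of schemes with X reduced and irreducible. Then f factors through an
irreducible component of Y carrying its reduced closed-subscheme structure: there are an irreducible
component Z of Y and a morphism g from X to the closed subscheme of Y cut out by the vanishing ideal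
sheaf of Z with g followed by the inclusion equal to f; that closed subscheme is integral. -/
theorem result
    {X Y : Scheme.{u}} (f : X ⟶ Y) [IsReduced X] [IrreducibleSpace X] :
    ∃ (Z : Closeds Y) (_ : (Z : Set Y) ∈ irreducibleComponents Y)
      (_ : IsIntegral (Scheme.IdealSheafData.vanishingIdeal Z).subscheme)
      (g : X ⟶ (Scheme.IdealSheafData.vanishingIdeal Z).subscheme),
      g ≫ (Scheme.IdealSheafData.vanishingIdeal Z).subschemeι = f := by
  set η := genericPoint X
  let Z : Closeds Y := ⟨irreducibleComponent (f η), isClosed_irreducibleComponent⟩
  have hZ : (Z : Set Y) ∈ irreducibleComponents Y := irreducibleComponent_mem_irreducibleComponents _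
  set I := Scheme.IdealSheafData.vanishingIdeal Z
  have hr : Set.range f ⊆ (Z : Set Y) := by
    rintro _ ⟨x, rfl⟩
    exact ((genericPoint_specializes x).map f.continuous).mem_closed Z.isClosed mem_irreducibleComponent
  haveI : IsReduced I.subscheme := Groth.L18.isReduced_vanishingIdeal_subscheme Z
  let e := I.subschemeι.isEmbedding.toHomeomorph
  have hir : IsIrreducible (Set.range I.subschemeι) := by
    rw [Scheme.IdealSheafData.range_subschemeι, Groth.L18.support_vanishingIdeal]
    exact hZ.1
  haveI : IrreducibleSpace (Set.range I.subschemeι) := Subtype.irreducibleSpace hir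
  haveI : IrreducibleSpace I.subscheme := by
    rw [irreducibleSpace_def, Set.top_eq_univ, ← Set.image_univ_of_surjective e.symm.surjective]
    exact ((irreducibleSpace_def _).mp inferInstance).image e.symm e.symm.continuous.continuousOn
  refine ⟨Z, hZ, isIntegral_of_irreducibleSpace_of_isReduced _, IsClosedImmersion.lift I.subschemeι f ?_,
    IsClosedImmersion.lift_fac _ _ _⟩
  rw [Scheme.IdealSheafData.ker_subschemeι]
  exact Groth.L18.vanishingIdeal_le_ker f Z hr

end Groth.Agent.S16188
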