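import Groth.Statements.S16189
import Groth.Agent.L10.DeformDual.Trans
import Groth.Agent.L10.DeformDual.Fibre
import Mathlib.RingTheory.PowerSeries.Inverse

set_option autoImplicit false
set_option linter.style.haveILetI false
set_option maxHeartbeats 1600000
set_option maxSynthPendingDepth 4
set_option backward.isDefEq.respectTransparency.types false
universe u
open CategoryTheory CategoryTheory.Limits AlgebraicGeometry
attribute [local instance] HasDerivedCategory.standard
open Deform

namespace Groth.Agent.S16189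

variable (k : Type u) [Field k]


theorem le_ker (m : ℕ) (a : PowerSeries k) (ha : a ∈ (Ideal.span {PowerSeries.X (R := k)}) ^ (m + 1)) : PowerSeries.constantCoeff a = 0 :=
  PowerSeries.X_dvd_iff.1 (Ideal.mem_span_singleton.1 (Ideal.pow_le_self (by omega) ha))

/-- the closed point -/
noncomputable def φ (m : ℕ) : PowerSeries k ⧸ (Ideal.span {PowerSeries.X (R := k)}) ^ (m + 1) →+* k :=
  Ideal.Quotient.lift _ PowerSeries.constantCoeff (le_ker k m)

theorem φ_surjective (m : ℕ) : Function.Surjective (φ k m) := fun c =>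
  ⟨Ideal.Quotient.mk _ (PowerSeries.C c), by simp [φ]⟩

instance isLocalRing_quot (m : ℕ) : IsLocalRing (PowerSeries k ⧸ (Ideal.span {PowerSeries.X (R := k)}) ^ (m + 1)) :=
  haveI : Nontrivial (PowerSeries k ⧸ (Ideal.span {PowerSeries.X (R := k)}) ^ (m + 1)) := (φ k m).domain_nontrivial
  IsLocalRing.of_surjective' (Ideal.Quotient.mk _) Ideal.Quotient.mk_surjective

instance isArtinianRing_quot (m : ℕ) : IsArtinianRing (PowerSeries k ⧸ (Ideal.span {PowerSeries.X (R := k)}) ^ (m + 1)) := by
  refine isArtinianRing_iff_isNoetherianRing_krullDimLE_zero.2 ⟨inferInstance, ?_⟩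
  refine Ring.krullDimLE_zero_iff.2 fun P hP => ?_
  haveI := hP
  let Q := P.comap (Ideal.Quotient.mk ((Ideal.span {PowerSeries.X (R := k)}) ^ (m + 1)))
  have h1 : (Ideal.span {PowerSeries.X (R := k)}) ≤ Q := (Ideal.IsPrime.pow_le_iff (n := m + 1) (Nat.succ_ne_zero m)).1 fun a ha => by
    rw [Ideal.mem_comap, Ideal.Quotient.eq_zero_iff_mem.2 ha]; exact P.zero_mem
  rw [← PowerSeries.maximalIdeal_eq_span_X] at h1
  haveI : Q.IsMaximal := (IsLocalRing.maximalIdeal.isMaximal _).eq_of_le
    (Ideal.IsPrime.ne_top inferInstance) h1 ▸ IsLocalRing.maximalIdeal.isMaximal _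
  rw [← Ideal.map_comap_of_surjective _ Ideal.Quotient.mk_surjective P]
  exact (Ideal.map_eq_top_or_isMaximal_of_surjective _ Ideal.Quotient.mk_surjective
    (inferInstance : Q.IsMaximal)).resolve_left
      (by rw [Ideal.map_comap_of_surjective _ Ideal.Quotient.mk_surjective P]; exact hP.ne_top)

/-- Let k be a field and X a projective Gorenstein k-scheme, equidimensional of dimension n, and let ω_X
be its dualizing module, the cohomology sheaf in degree -n of f^! O for f : X → Spec k (computed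
through an assumed right adjoint of Rf_* on D_QCoh, as the shared prelude presents f^!). Let 𝔛 → Spf
k[[t]] be a formal deformation of X: an adic morphism of systems of thickenings to the system (Spec
k[[t]]/(t^{m+1}))_m whose levels X_m → Spec k[[t]]/(t^{m+1}) are all flat and proper, together with
an isomorphism of X with the level-0 scheme compatible with the structure maps to Spec k. Then ω_X
extends to an invertible formal sheaf on 𝔛: there is a system (L_m)_m of invertible O_{X_m}-modules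
with transition isomorphisms L_{m+1}|_{X_m} ≅ L_m whose level-0 term pulls back to a module
isomorphic to ω_X (existence of an isomorphism only). (The published statement adds that this
invertible formal sheaf is unique; the proof gives existence only, and uniqueness fails already for
the constant deformation of an elliptic curve, whose trivial dualizing module extends both
constantly and along a non-constant formal family of degree-zero invertible sheaves. The published
setting is an algebraically closed field of characteristic zero and a Gorenstein X with locally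
constant dimension; the proof uses neither property of k, and a single dimension n is fixed here.) -/
theorem result
    (k : Type u) [Field k] (X : Scheme.{u}) [X.Over (Spec (CommRingCat.of k))]
    (hproj : ∃ (d : ℕ) (ι : X ⟶ CohB1.ProjSpace d k), IsClosedImmersion ι ∧
      ι ≫ CohB1.ProjSpace.toSpec d k = X ↘ Spec (CommRingCat.of k))
    (hG : Dual3.IsGorenstein X) (n : ℕ)
    (hequi : ∀ Z ∈ irreducibleComponents (X : Type u), topologicalKrullDim Z = n)
    [DCoh.HasRpush (X ↘ Spec (CommRingCat.of k))] (h : DCoh.RpushPreservesQCoh (X ↘ Spec (CommRingCat.of k)))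
    [DCoh.HasShriek (X ↘ Spec (CommRingCat.of k)) h]
    (OY : DCoh.DQCoh (Spec (CommRingCat.of k)))
    (hOY : Nonempty (OY.obj ≅ DCoh.inD (Spec (CommRingCat.of k)) (Coh.structureModule (Spec (CommRingCat.of k)))))
    (𝔛 : FSch.Sys.{u}) (𝔣 : 𝔛 ⟶ FSch.spf (PowerSeries k) (Ideal.span {PowerSeries.X (R := k)}))
    (hadic : FSch.IsAdicHom 𝔣)
    (hflat : ∀ m : ℕ, Flat (FSch.Hom.app 𝔣 m)) (hprop : ∀ m : ℕ, IsProper (FSch.Hom.app 𝔣 m))
    (e : X ≅ 𝔛.X 0)
    (he : e.hom ≫ FSch.Hom.app 𝔣 0 ≫ Spec.map (CommRingCat.ofHom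
      ((Ideal.Quotient.mk (Ideal.span {PowerSeries.X (R := k)} ^ (0 + 1))).comp (algebraMap k (PowerSeries k)))) =
      X ↘ Spec (CommRingCat.of k)) :
    ∃ 𝔏 : FSch.ModSys 𝔛, (∀ m : ℕ, PicF.IsInvertible (𝔏.F m)) ∧
      Nonempty ((Scheme.Modules.pullback e.hom).obj (𝔏.F 0) ≅
        DCoh.dualizingMod (X ↘ Spec (CommRingCat.of k)) h OY n) := by
  haveI := fun {A B : Scheme.{u}} (j : A ⟶ B) => Groth.L29.DC.RpushQC.hasRpush j
  let S := FSch.spf (PowerSeries k) (Ideal.span {PowerSeries.X (R := k)})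
  let app := fun m => FSch.Hom.app 𝔣 m
  haveI : ∀ m, Flat (app m) := hflat
  haveI : ∀ m, IsProper (app m) := hprop
  let g : ∀ m, Spec (CommRingCat.of k) ⟶ S.X m := fun m => Spec.map (CommRingCat.ofHom (φ k m))
  haveI hgc : ∀ m, IsClosedImmersion (g m) := fun m => IsClosedImmersion.spec_of_surjective _ (φ_surjective k m)
  have hgι : ∀ m, g m ≫ S.ι m = g (m + 1) := fun m => by
    change Spec.map _ ≫ Spec.map _ = Spec.map _
    rw [← Spec.map_comp]
    congr 1
    ext1
    exact Ideal.Quotient.ringHom_ext (RingHom.ext fun a => rfl)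
  let c : CommRingCat.of k ⟶ CommRingCat.of (PowerSeries k ⧸ (Ideal.span {PowerSeries.X (R := k)}) ^ (0 + 1)) :=
    CommRingCat.ofHom ((Ideal.Quotient.mk ((Ideal.span {PowerSeries.X (R := k)}) ^ (0 + 1))).comp (algebraMap k (PowerSeries k)))
  have hgc0 : g 0 ≫ Spec.map c = 𝟙 _ := by
    change Spec.map (CommRingCat.ofHom (φ k 0)) ≫ Spec.map c = 𝟙 (Spec (CommRingCat.of k))
    rw [← Spec.map_comp, ← Spec.map_id]
    congr 1
  have hcg0 : Spec.map c ≫ g 0 = 𝟙 _ := by
    change Spec.map c ≫ Spec.map _ = 𝟙 _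
    rw [← Spec.map_comp, ← Spec.map_id]
    congr 1
    ext1
    refine Ideal.Quotient.ringHom_ext (RingHom.ext fun a => ?_)
    change Ideal.Quotient.mk _ (PowerSeries.C (PowerSeries.constantCoeff a)) = Ideal.Quotient.mk _ a
    rw [Ideal.Quotient.mk_eq_mk_iff_sub_mem, zero_add, pow_one, Ideal.mem_span_singleton,
      PowerSeries.X_dvd_iff]
    simp
  let π := X ↘ Spec (CommRingCat.of k)
  haveI : IsIso (g 0) := ⟨⟨Spec.map c, hgc0, hcg0⟩⟩
  have hsq0 : IsPullback e.hom π (app 0) (g 0) :=
    IsPullback.of_horiz_isIso ⟨by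
      change e.hom ≫ app 0 = (X ↘ Spec (CommRingCat.of k)) ≫ g 0
      rw [← he]
      simp only [Category.assoc]
      erw [hcg0]
      erw [Category.comp_id]⟩
  have hsqm : ∀ m, ∃ i : X ⟶ 𝔛.X m, IsPullback i π (app m) (g m) := by
    intro m
    induction m with
    | zero => exact ⟨e.hom, hsq0⟩
    | succ m ih =>
      obtain ⟨i, hi⟩ := ih
      exact ⟨i ≫ 𝔛.ι m, hgι m ▸ hi.paste_horiz (hadic m)⟩
  haveI : IsProper π := MorphismProperty.of_isPullback hsq0 inferInstance
  haveI : Flat π := MorphismProperty.of_isPullback hsq0 inferInstance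
  -- level `m`
  have hL : ∀ m : ℕ, ∃ (a : DCoh.DQCoh (S.X m) ⥤ DCoh.DQCoh (𝔛.X m))
      (_ : DCoh.RpushQ (app m) (Groth.L10.ShriekLoc.isQCohD_push (app m)) ⊣ a)
      (O : DCoh.DQCoh (S.X m)) (_ : Nonempty (O.obj ≅ DCoh.inD (S.X m) (Coh.structureModule (S.X m))))
      (L : (𝔛.X m).Modules), PicF.IsInvertible L ∧ Nonempty ((a.obj O).obj ≅ (DCoh.inD _ L)⟦(n : ℤ)⟧) := by
    intro m
    haveI : IsNoetherian (S.X m) := inferInstanceAs (IsNoetherian (Spec _))
    haveI : CompactSpace (𝔛.X m) := QuasiCompact.compactSpace_of_compactSpace (app m)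
    haveI : QuasiSeparatedSpace (𝔛.X m) := quasiSeparatedSpace_of_quasiSeparated (app m)
    obtain ⟨a, ⟨adj⟩⟩ := Groth.L10.ShriekLoc.exists_adjoint (app m)
    obtain ⟨i, hi⟩ := hsqm m
    haveI : @Flat (𝔛.X m) (Spec (CommRingCat.of (PowerSeries k ⧸ (Ideal.span {PowerSeries.X (R := k)}) ^ (m + 1)))) (app m) := hflat m
    obtain ⟨hGm, hd⟩ := Groth.L10.DeformDual.props (φ k m) (φ_surjective k m) (app m) i π hi hG n hequi
    exact ⟨a, adj, ⟨_, Groth.L29.RelPC.isQCohD_unit _⟩, ⟨Iso.refl _⟩,
      Groth.L10.DeformDual.exists_invertible_single (app m) adj _ ⟨Iso.refl _⟩ hGm n hd⟩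
  choose a adj O hO L hLi hLe using hL
  have htrans : ∀ m, Nonempty ((Scheme.Modules.pullback (𝔛.ι m)).obj (L (m + 1)) ≅ L m) := fun m => by
    haveI : IsNoetherian (S.X (m + 1)) := inferInstanceAs (IsNoetherian (Spec _))
    haveI : IsClosedImmersion (S.ι m) :=
      IsClosedImmersion.spec_of_surjective _ (Ideal.Quotient.factor_surjective (Ideal.pow_le_pow_right (Nat.le_succ (m + 1))))
    exact Groth.L10.DeformDual.nonempty_trans (app (m + 1)) (S.ι m) (app m) (𝔛.ι m) (hadic m) (adj (m + 1)) (adj m)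
      (O (m + 1)) (hO (m + 1)) (O m) (hO m) (hLi (m + 1)) (hLi m) n (hLe (m + 1)) (hLe m)
  -- level `0` against `X`
  haveI : IsNoetherian (S.X 0) := inferInstanceAs (IsNoetherian (Spec _))
  have hsqid : IsPullback (𝟙 X) π π (Spec.map (CommRingCat.ofHom (RingHom.id k))) := by
    rw [CommRingCat.ofHom_id, Spec.map_id]; exact IsPullback.of_horiz_isIso ⟨by simp⟩
  obtain ⟨hGX, hdX⟩ := Groth.L10.DeformDual.props (RingHom.id k) Function.surjective_id π (𝟙 X) π hsqid hG n hequi
  obtain ⟨L', hL', ⟨eL'⟩⟩ := Groth.L10.DeformDual.exists_invertible_single π (DCoh.shriekAdj π h) OY hOY hGX n hdX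
  obtain ⟨t⟩ := Groth.L10.DeformDual.nonempty_trans (app 0) (g 0) π e.hom hsq0 (adj 0) (DCoh.shriekAdj π h)
    (O 0) (hO 0) OY hOY (hLi 0) hL' n (hLe 0) ⟨eL'⟩
  obtain ⟨u⟩ := Groth.L10.DeformDual.nonempty_hd_neg L' (n : ℤ)
  refine ⟨⟨L, fun m => (htrans m).some⟩, hLi, ⟨?_⟩⟩
  exact t ≪≫ u.symm ≪≫ (DerivedCategory.homologyFunctor X.Modules (-(n : ℤ))).mapIso eL'.symm

end Groth.Agent.S16189
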