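import Groth.Statements.S16190
import Groth.Agent.L14.GeomSmoothing.Basic
import Groth.Agent.L14.GeomSmoothing.Series
import Groth.Agent.L22.SchemeDim

set_option autoImplicit false
set_option linter.style.haveILetI false
set_option backward.isDefEq.respectTransparency false
universe u
open CategoryTheory CategoryTheory.Limits AlgebraicGeometry
open Deform

namespace Groth.Agent.S16190

/-- Let k be an algebraically closed field and let X have a geometric smoothing, i.e. there are an
integral k-scheme C smooth of dimension one over k, a k-rational point c of C and a flat proper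
morphism π : Y → C whose fibre over c is X (as a k-scheme) and whose fibre over the generic point of
C is smooth. Then X has a smoothing over Spec k[[t]]: a flat proper morphism P → Spec k[[t]] with
closed fibre X over k and smooth generic fibre P ⊗ Frac k[[t]]. (The published lemma concludes that
X, assumed projective and equidimensional, is formally smoothable; its proof builds exactly this
family over the completed local ring of C at c, identified with k[[t]], and then appeals to a
criterion equating smoothings over a discrete valuation ring with formal smoothings, which is not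
restated; the hypotheses on X are not used in the step stated.) -/
theorem result
    (k : Type u) [Field k] [IsAlgClosed k]
    (X : Scheme.{u}) (pX : X ⟶ Spec (CommRingCat.of k))
    (C : Scheme.{u}) (qC : C ⟶ Spec (CommRingCat.of k)) (c : Spec (CommRingCat.of k) ⟶ C)
    (hc : c ≫ qC = 𝟙 (Spec (CommRingCat.of k))) [IsIntegral C] [Smooth qC]
    (hC : topologicalKrullDim C = 1)
    (Y : Scheme.{u}) (π : Y ⟶ C) [Flat π] [IsProper π] (j : X ⟶ Y) (hsq : IsPullback j pX π c)
    (hgen : Smooth (π.fiberToSpecResidueField (genericPoint C))) :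
    ∃ (P : Scheme.{u}) (p : P ⟶ Spec (CommRingCat.of (PowerSeries k))) (_ : Flat p) (_ : IsProper p)
      (i : X ⟶ P),
      IsPullback i pX p (Spec.map (CommRingCat.ofHom (PowerSeries.constantCoeff (R := k)))) ∧
      Smooth (pullback.snd p
        (Spec.map (CommRingCat.ofHom (algebraMap (PowerSeries k) (FractionRing (PowerSeries k)))))) := by
  obtain ⟨_, ⟨V, hV, rfl⟩, hcV, -⟩ :=
    C.isBasis_affineOpens.exists_subset_of_mem_open (Set.mem_univ (c (IsLocalRing.closedPoint k))) isOpen_univ
  haveI : Nonempty V := ⟨⟨_, hcV⟩⟩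
  haveI := hV.isOpenImmersion_fromSpec
  let A : Type u := Γ(C, V)
  haveI : IsDomain A := inferInstanceAs (IsDomain Γ(C, V))
  let αh : CommRingCat.of k ⟶ Γ(C, V) := Spec.preimage (hV.fromSpec ≫ qC)
  have hαh : Spec.map αh = hV.fromSpec ≫ qC := Spec.map_preimage _
  letI : Algebra k A := αh.hom.toAlgebra
  haveI : Algebra.Smooth k A := by
    have h1 : Smooth (Spec.map αh) := by rw [hαh]; infer_instance
    exact RingHom.smooth_algebraMap.1 ((HasRingHomProperty.Spec_iff (P := @Smooth)).1 h1)
  have hdim : ringKrullDim A = 1 := by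
    letI : C.Over (Spec (CommRingCat.of k)) := ⟨qC⟩
    haveI : LocallyOfFiniteType (C ↘ Spec (CommRingCat.of k)) := inferInstanceAs (LocallyOfFiniteType qC)
    obtain ⟨n, hn, -, hnU⟩ := Groth.L22.SchemeDim.exists_dim_eq_trdeg k C
    show ringKrullDim Γ(C, V) = 1
    rw [← Groth.L22.SchemeDim.topologicalKrullDim_affineOpen hV]
    exact (hnU V ⟨_, hcV⟩).trans (hn.symm.trans hC)
  have hrange : Set.range c ⊆ Set.range hV.fromSpec := by
    rw [hV.range_fromSpec]
    rintro _ ⟨t, rfl⟩
    rwa [Subsingleton.elim (α := PrimeSpectrum k) t (IsLocalRing.closedPoint k)]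
  let ρh : Γ(C, V) ⟶ CommRingCat.of k := Spec.preimage (IsOpenImmersion.lift hV.fromSpec c hrange)
  have hρh : Spec.map ρh ≫ hV.fromSpec = c := by
    rw [Spec.map_preimage, IsOpenImmersion.lift_fac]
  have hαρ : αh ≫ ρh = 𝟙 _ := by
    apply Spec.map_injective
    rw [Spec.map_comp, hαh, reassoc_of% hρh, hc, Spec.map_id]
  let ρ : A →ₐ[k] k := ⟨ρh.hom, fun x => congr($(hαρ).hom x)⟩
  obtain ⟨γ, hγ, hγρ⟩ := Groth.L14.GeomSmoothing.exists_series hdim ρ
  let g : Spec (CommRingCat.of (PowerSeries k)) ⟶ C :=
    Spec.map (CommRingCat.ofHom γ.toRingHom : Γ(C, V) ⟶ CommRingCat.of (PowerSeries k)) ≫ hV.fromSpec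
  have hg : Spec.map (CommRingCat.ofHom (PowerSeries.constantCoeff (R := k))) ≫ g = c := by
    rw [← hρh, ← Category.assoc, ← Spec.map_comp]
    exact congrArg (fun f => Spec.map f ≫ hV.fromSpec) (CommRingCat.hom_ext (RingHom.ext hγρ))
  refine ⟨pullback π g, pullback.snd π g, inferInstance, inferInstance,
    pullback.lift j (pX ≫ Spec.map (CommRingCat.ofHom (PowerSeries.constantCoeff (R := k))))
      (by rw [Category.assoc, hg]; exact hsq.w), ?_, ?_⟩
  · exact IsPullback.of_right (by rw [pullback.lift_fst, hg]; exact hsq) (pullback.lift_snd _ _ _)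
      (IsPullback.of_hasPullback π g)
  · let xK : Spec (CommRingCat.of (FractionRing (PowerSeries k))) ⟶ Spec (CommRingCat.of (PowerSeries k)) :=
      Spec.map (CommRingCat.ofHom (algebraMap (PowerSeries k) (FractionRing (PowerSeries k))))
    show Smooth (pullback.snd (pullback.snd π g) xK)
    rw [← pullbackLeftPullbackSndIso_hom_snd π g xK]
    refine (MorphismProperty.cancel_left_of_respectsIso @Smooth _ _).2
      ((Groth.L14.GeomSmoothing.smooth_fiber_iff π (xK ≫ g)).2 ?_)
    have hpt : (xK ≫ Spec.map (CommRingCat.ofHom γ.toRingHom : Γ(C, V) ⟶ CommRingCat.of (PowerSeries k)))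
        (IsLocalRing.closedPoint (FractionRing (PowerSeries k))) = (⊥ : PrimeSpectrum A) := by
      refine PrimeSpectrum.ext ?_
      show Ideal.comap γ.toRingHom (Ideal.comap (algebraMap (PowerSeries k) (FractionRing (PowerSeries k)))
        (IsLocalRing.maximalIdeal (FractionRing (PowerSeries k)))) = ⊥
      rw [IsLocalRing.maximalIdeal_eq_bot, ← RingHom.ker_eq_comap_bot,
        (RingHom.injective_iff_ker_eq_bot _).1 (IsFractionRing.injective (PowerSeries k) _),
        ← RingHom.ker_eq_comap_bot]
      exact (RingHom.injective_iff_ker_eq_bot _).1 hγ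
    have hgen' : (xK ≫ g) (IsLocalRing.closedPoint (FractionRing (PowerSeries k))) = genericPoint C := by
      rw [← Category.assoc, Scheme.Hom.comp_apply, hpt, ← genericPoint_eq_bot_of_affine Γ(C, V)]
      exact genericPoint_eq_of_isOpenImmersion hV.fromSpec
    rw [hgen']
    exact hgen

end Groth.Agent.S16190
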