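import Groth.Statements.S16192
import Groth.Agent.L14.FormalCI.Main

set_option autoImplicit false
universe u
open CategoryTheory
open Fitt

namespace Groth.Agent.S16192

/-- Let k be an algebraically closed field, R = k[[t]], and B a quotient of the t-adic completion Ã of
R[T_1, …, T_r] by (a_1, …, a_c) with B Noetherian, t-adically complete and flat over R, the images
of a_1, …, a_c in Ã/t^{n+1}Ã a regular sequence for every n, and B/tB reduced. Put Ω̂ = the t-adic
completion of Ω_{B/R}, T^1 = Ext^1_B(Ω̂, B), B_n = B/t^{n+1}B and T^1_n = Ext^1_{B_n}(Ω_{B_n/R},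
B_n) (the first cotangent module of the n-th level over R/t^{n+1}). Then for every n the B_n-modules
T^1 ⊗_B B_n and T^1_n are isomorphic. (The source asserts that the natural restriction map from the
formal T^1 to the level T^1 sheaf is an isomorphism, for a flat local complete intersection morphism
of locally Noetherian formal schemes over Spf k[[t]] with reduced closed fibre; only the existence
of an isomorphism on the affine chart is stated, the natural map not being available as a named map
here. The published lemma allows an arbitrary field k; here k is algebraically closed, the standing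
convention of the text, because the computation rests on the exactness on the left of the conormal
sequence of the reduced closed fibre, which needs that fibre to be generically smooth over k and can
fail for a reduced complete intersection over an imperfect field.) -/
theorem result
    (k : Type u) [Field k] [IsAlgClosed k] (r c : ℕ)
    (a : Fin c → AdicCompletion (Ideal.span {MvPolynomial.C (σ := Fin r) (PowerSeries.X (R := k))}) (MvPolynomial (Fin r) (PowerSeries k)))
    (B : Type u) [CommRing B] [Algebra (PowerSeries k) B] [IsNoetherianRing B]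
    [IsAdicComplete (Ideal.span {algebraMap (PowerSeries k) B PowerSeries.X}) B]
    [Module.Flat (PowerSeries k) B]
    (ψ : AdicCompletion (Ideal.span {MvPolynomial.C (σ := Fin r) (PowerSeries.X (R := k))}) (MvPolynomial (Fin r) (PowerSeries k)) →ₐ[PowerSeries k] B)
    (hψ : Function.Surjective ψ) (hker : RingHom.ker ψ.toRingHom = Ideal.span (Set.range a))
    (hreg : ∀ n : ℕ, RingTheory.Sequence.IsRegular
      (AdicCompletion (Ideal.span {MvPolynomial.C (σ := Fin r) (PowerSeries.X (R := k))}) (MvPolynomial (Fin r) (PowerSeries k)) ⧸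
        Ideal.span {algebraMap (PowerSeries k) (AdicCompletion (Ideal.span {MvPolynomial.C (σ := Fin r) (PowerSeries.X (R := k))}) (MvPolynomial (Fin r) (PowerSeries k))) PowerSeries.X ^ (n + 1)})
      ((List.ofFn a).map (Ideal.Quotient.mk (Ideal.span {algebraMap (PowerSeries k)
        (AdicCompletion (Ideal.span {MvPolynomial.C (σ := Fin r) (PowerSeries.X (R := k))}) (MvPolynomial (Fin r) (PowerSeries k))) PowerSeries.X ^ (n + 1)}))))
    [IsReduced (B ⧸ Ideal.span {algebraMap (PowerSeries k) B PowerSeries.X})] (n : ℕ) :
    Nonempty (TensorProduct B (B ⧸ Ideal.span {algebraMap (PowerSeries k) B PowerSeries.X ^ (n + 1)})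
        (Abelian.Ext.{u} (ModuleCat.of B (AdicCompletion
          (Ideal.span {algebraMap (PowerSeries k) B PowerSeries.X}) (KaehlerDifferential (PowerSeries k) B)))
          (ModuleCat.of B B) 1) ≃ₗ[B ⧸ Ideal.span {algebraMap (PowerSeries k) B PowerSeries.X ^ (n + 1)}]
      Abelian.Ext.{u}
        (ModuleCat.of (B ⧸ Ideal.span {algebraMap (PowerSeries k) B PowerSeries.X ^ (n + 1)})
          (KaehlerDifferential (PowerSeries k) (B ⧸ Ideal.span {algebraMap (PowerSeries k) B PowerSeries.X ^ (n + 1)})))
        (ModuleCat.of (B ⧸ Ideal.span {algebraMap (PowerSeries k) B PowerSeries.X ^ (n + 1)})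
          (B ⧸ Ideal.span {algebraMap (PowerSeries k) B PowerSeries.X ^ (n + 1)})) 1) := by
  classical
  obtain ⟨J, hJ⟩ := Groth.L14.FormalCI.exists_jac PowerSeries.X ψ a
  have hinj := Groth.L14.FormalCI.injective_levels ψ a hψ hker (hreg 0).toIsWeaklyRegular hJ
  obtain ⟨hx, hrel⟩ := Groth.L14.FormalCI.completed_presentation hψ hker hJ
  obtain ⟨e₁⟩ := Groth.L14.FormalCI.exists_ext_equiv _ J hx hrel
    fun v hv => Groth.L14.FormalCI.injective_completed hinj v hv
  obtain ⟨hx', hrel'⟩ := Groth.L14.FormalCI.level_presentation hψ hker hJ (n + 1)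
    (Ideal.Quotient.mkₐ (PowerSeries k) (Ideal.span {algebraMap (PowerSeries k) B PowerSeries.X ^ (n + 1)}))
    Ideal.Quotient.mk_surjective (Ideal.Quotient.mkₐ_ker (PowerSeries k) _)
  obtain ⟨e₂⟩ := Groth.L14.FormalCI.exists_ext_equiv _ _ hx' hrel' fun v' hv' => by
    choose v hv using fun i => Ideal.Quotient.mk_surjective (v' i)
    funext i
    rw [← hv i, Pi.zero_apply, Ideal.Quotient.eq_zero_iff_mem, Ideal.mem_span_singleton]
    refine hinj (n + 1) v (fun j => ?_) i
    rw [← Ideal.mem_span_singleton, ← Ideal.Quotient.eq_zero_iff_mem]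
    refine Eq.trans ?_ (congrFun hv' j)
    simp [Matrix.vecMul, dotProduct, hv]
  obtain ⟨e₃⟩ := Groth.L14.FormalCI.nonempty_coker_baseChange
    (Ideal.span {algebraMap (PowerSeries k) B PowerSeries.X ^ (n + 1)}) J
  exact ⟨(e₁.baseChange B (B ⧸ Ideal.span {algebraMap (PowerSeries k) B PowerSeries.X ^ (n + 1)}) _ _).trans
    (e₃.trans e₂.symm)⟩

end Groth.Agent.S16192
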