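import Groth.Statements.S16193
import Groth.Agent.L14.FormalCI.Main
import Groth.Agent.S6891
import Mathlib.RingTheory.Support


set_option autoImplicit false
universe u
open CategoryTheory
open Fitt

namespace Groth.Agent.S16193

/-- (2) ⇔ (5): let k be an algebraically closed field, R = k[[t]], and B a quotient of the t-adic
completion Ã of R[T_1, …, T_r] by (a_1, …, a_c) with B Noetherian, t-adically complete and flat over
R, the images of a_1, …, a_c in Ã/t^{n+1}Ã a regular sequence for every n, and B/tB reduced; let Ω̂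
be the t-adic completion of Ω_{B/R} and T^1 = Ext^1_B(Ω̂, B). Then some power of t lies in the (r -
c)-th Fitting ideal of Ω̂ if and only if some power of t annihilates T^1. (For a flat local complete
intersection formal family 𝔛 → Spf k[[t]] with reduced, proper closed fibre, the first condition for
every chart says that 𝔛 is a formal smoothing of its closed fibre.) -/
theorem result
    (k : Type u) [Field k] [IsAlgClosed k] (r c : ℕ)
    (a : Fin c → AdicCompletion (Ideal.span {MvPolynomial.C (σ := Fin r) (PowerSeries.X (R := k))}) (MvPolynomial (Fin r) (PowerSeries k)))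
    (B : Type u) [CommRing B] [Algebra (PowerSeries k) B] [IsNoetherianRing B]
    [IsAdicComplete (Ideal.span {algebraMap (PowerSeries k) B PowerSeries.X}) B]
    [Module.Flat (PowerSeries k) B]
    (ψ : AdicCompletion (Ideal.span {MvPolynomial.C (σ := Fin r) (PowerSeries.X (R := k))}) (MvPolynomial (Fin r) (PowerSeries k)) →ₐ[PowerSeries k] B)
    (hψ : Function.Surjective ψ) (hker : RingHom.ker ψ.toRingHom = Ideal.span (Set.range a))
    (hreg : ∀ n : ℕ, RingTheory.Sequence.IsRegular
      (AdicCompletion (Ideal.span {MvPolynomial.C (σ := Fin r) (PowerSeries.X (R := k))}) (MvPolynomial (Fin r) (PowerSeries k)) ⧸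
        Ideal.span {algebraMap (PowerSeries k) (AdicCompletion (Ideal.span {MvPolynomial.C (σ := Fin r) (PowerSeries.X (R := k))}) (MvPolynomial (Fin r) (PowerSeries k))) PowerSeries.X ^ (n + 1)})
      ((List.ofFn a).map (Ideal.Quotient.mk (Ideal.span {algebraMap (PowerSeries k)
        (AdicCompletion (Ideal.span {MvPolynomial.C (σ := Fin r) (PowerSeries.X (R := k))}) (MvPolynomial (Fin r) (PowerSeries k))) PowerSeries.X ^ (n + 1)}))))
    [IsReduced (B ⧸ Ideal.span {algebraMap (PowerSeries k) B PowerSeries.X})] :
    (∃ κ : ℕ, algebraMap (PowerSeries k) B PowerSeries.X ^ κ ∈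
        Fitt.ideal B (AdicCompletion (Ideal.span {algebraMap (PowerSeries k) B PowerSeries.X})
          (KaehlerDifferential (PowerSeries k) B)) (r - c)) ↔
      (∃ m : ℕ, ∀ x : Abelian.Ext.{u} (ModuleCat.of B (AdicCompletion
          (Ideal.span {algebraMap (PowerSeries k) B PowerSeries.X}) (KaehlerDifferential (PowerSeries k) B)))
          (ModuleCat.of B B) 1,
        (algebraMap (PowerSeries k) B PowerSeries.X ^ m) • x = 0) := by
  classical
  obtain ⟨J, hJ⟩ := Groth.L14.FormalCI.exists_jac PowerSeries.X ψ a
  obtain ⟨hx, hrel⟩ := Groth.L14.FormalCI.completed_presentation hψ hker hJ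
  have hinj := fun v hv => Groth.L14.FormalCI.injective_completed
    (Groth.L14.FormalCI.injective_levels ψ a hψ hker (hreg 0).toIsWeaklyRegular hJ) v hv
  rw [Groth.L14.FormalCI.fitt_eq_fitt_ext _ J hx hrel hinj]
  obtain ⟨e⟩ := Groth.L14.FormalCI.exists_ext_equiv _ J hx hrel hinj
  haveI : Module.Finite B (Abelian.Ext.{u} (ModuleCat.of B (AdicCompletion
      (Ideal.span {algebraMap (PowerSeries k) B PowerSeries.X}) (KaehlerDifferential (PowerSeries k) B)))
      (ModuleCat.of B B) 1) := Module.Finite.equiv e.symm
  obtain ⟨hle, hV, -⟩ := Groth.Agent.S6891.result (R := B) (Abelian.Ext.{u} (ModuleCat.of B (AdicCompletion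
      (Ideal.span {algebraMap (PowerSeries k) B PowerSeries.X}) (KaehlerDifferential (PowerSeries k) B)))
      (ModuleCat.of B B) 1) ⊤
  rw [Module.support_eq_zeroLocus] at hV
  constructor
  · rintro ⟨κ, hκ⟩
    exact ⟨κ, Module.mem_annihilator.1 (hle hκ)⟩
  · rintro ⟨m, hm⟩
    exact ((PrimeSpectrum.zeroLocus_eq_iff).1 hV).ge ⟨m, Module.mem_annihilator.2 hm⟩

end Groth.Agent.S16193
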