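import Groth.Statements.S16194

set_option autoImplicit false
universe u
open DivAlg

namespace Groth.Agent.S16194

/-- In an associative unital ring R, not necessarily commutative, every element r of the Jacobson
radical (the set of elements lying in every maximal left ideal) is quasiregular, i.e. 1 - r is a
two-sided unit. -/
theorem result {R : Type u} [Ring R] (r : R)
    (hr : r ∈ Ring.jacobson R) : IsUnit (1 - r) := by
  have key : ∀ y ∈ Ring.jacobson R, ∃ s, s * (1 + y) = 1 := by
    intro y hy
    rw [Ring.jacobson_eq_sInf_isMaximal] at hy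
    by_contra hc
    push_neg at hc
    have hne : Ideal.span {1 + y} ≠ ⊤ := by
      intro ht
      obtain ⟨s, hs⟩ := Ideal.mem_span_singleton'.1 ((Ideal.eq_top_iff_one _).1 ht)
      exact hc s hs
    obtain ⟨m, hm, hle⟩ := Ideal.exists_le_maximal _ hne
    refine hm.ne_top ((Ideal.eq_top_iff_one _).2 ?_)
    simpa using m.sub_mem (hle (Ideal.mem_span_singleton_self _)) (Submodule.mem_sInf.1 hy m hm)
  obtain ⟨s, hs⟩ := key (-r) (neg_mem hr)
  rw [← sub_eq_add_neg] at hs
  have hs' : s - 1 ∈ Ring.jacobson R := by
    have : s - 1 = s * r := by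
      rw [mul_sub, mul_one] at hs
      rw [← hs]; abel
    rw [this]; exact Ideal.mul_mem_left _ s hr
  obtain ⟨t, ht⟩ := key (s - 1) hs'
  rw [add_sub_cancel] at ht
  have : t = 1 - r := by
    calc t = t * (s * (1 - r)) := by rw [hs, mul_one]
      _ = 1 - r := by rw [← mul_assoc, ht, one_mul]
  exact ⟨⟨1 - r, s, this ▸ ht, hs⟩, rfl⟩

end Groth.Agent.S16194
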