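import Groth.Statements.S16195
import Mathlib.Tactic.Ring
import Mathlib.Tactic.LinearCombination
import Mathlib.Tactic.FieldSimp
import Mathlib.Algebra.BigOperators.Ring.Finset

set_option autoImplicit false
universe u v w
open DivAlg

namespace Groth.Agent.S16195

/-- Let R be a ring (associative, unital, not necessarily commutative) and M, N left R-modules. For an
R-module P write BiEnd_R(P) for the ring of endomorphisms of P that are linear over the ring
End_R(P), which acts on P through evaluation. Then every T in BiEnd_R(M × N) preserves the two
summands and is induced by a pair (T₁, T₂) with T₁ in BiEnd_R(M) and T₂ in BiEnd_R(N). -/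
theorem result {R : Type u} [Ring R] (M : Type v) (N : Type w)
    [AddCommGroup M] [Module R M] [AddCommGroup N] [Module R N]
    (T : Module.End (Module.End R (M × N)) (M × N)) :
    ∃ (T₁ : Module.End (Module.End R M) M) (T₂ : Module.End (Module.End R N) N),
      ∀ (m : M) (n : N), T (m, n) = (T₁ m, T₂ n) := by
  let p1 : Module.End R (M × N) := (LinearMap.inl R M N).comp (LinearMap.fst R M N)
  let p2 : Module.End R (M × N) := (LinearMap.inr R M N).comp (LinearMap.snd R M N)
  have hc : ∀ (g : Module.End R (M × N)) x, T (g x) = g (T x) := fun g x => map_smul T g x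
  refine ⟨{ toFun := fun m => (T (m, 0)).1, map_add' := ?_, map_smul' := ?_ },
    { toFun := fun n => (T (0, n)).2, map_add' := ?_, map_smul' := ?_ }, fun m n => ?_⟩
  · intro a b; rw [← Prod.fst_add, ← map_add]; simp
  · intro f m
    have := congrArg Prod.fst (hc (LinearMap.prodMap f LinearMap.id) (m, 0))
    simpa using this
  · intro a b; rw [← Prod.snd_add, ← map_add]; simp
  · intro f n
    have := congrArg Prod.snd (hc (LinearMap.prodMap LinearMap.id f) (0, n))
    simpa using this
  · show T (m, n) = ((T (m, 0)).1, (T (0, n)).2)
    have h1 := hc p1 (m, n)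
    have h2 := hc p2 (m, n)
    simp [p1, p2] at h1 h2
    rw [h1, h2]

end Groth.Agent.S16195
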