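import Groth.Statements.S16196
import Mathlib.Algebra.Module.BigOperators
import Mathlib.Tactic.Ring
import Mathlib.Tactic.LinearCombination
import Mathlib.Tactic.FieldSimp
import Mathlib.Algebra.BigOperators.Ring.Finset

set_option autoImplicit false
universe u v
open DivAlg

namespace Groth.Agent.S16196

/-- Let R be a ring (associative, unital, not necessarily commutative) and M a left R-module which is a
generator, in the form: for some n there is an R-linear surjection from M^n onto R. Then the natural
ring homomorphism from R to the double endomorphism ring BiEnd_R(M) = End_{End_R(M)}(M)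
(endomorphisms of M commuting with every R-linear endomorphism), r ↦ multiplication by r, is
bijective. (The printed form takes R an algebra over a commutative ring k, embeds R in E = End_k(M)
and asserts R = C_E(C_E(R)); the double centralizer there is BiEnd_R(M).) -/
theorem result {R : Type u} [Ring R] (M : Type v)
    [AddCommGroup M] [Module R M]
    (hgen : ∃ (n : ℕ) (f : (Fin n → M) →ₗ[R] R), Function.Surjective f) :
    Function.Bijective (Module.toModuleEnd (Module.End R M) (S := R) M) := by
  obtain ⟨n, f, hf⟩ := hgen
  obtain ⟨v, hv⟩ := hf 1
  constructor
  · intro r s hrs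
    have h : ∀ x : M, r • x = s • x := fun x => DFunLike.congr_fun hrs x
    have h2 : r • v = s • v := funext fun i => h (v i)
    simpa [hv] using congrArg f h2
  · intro T
    refine ⟨f (fun i => T (v i)), LinearMap.ext fun x => ?_⟩
    show f (fun i => T (v i)) • x = T x
    let ψ : Fin n → Module.End R M := fun i =>
      ((LinearMap.toSpanSingleton R M x).comp (f.comp (LinearMap.single R (fun _ => M) i)))
    have hsum : ∀ w : Fin n → M, ∑ i, ψ i (w i) = f w • x := by
      intro w
      show ∑ i, f (Pi.single i (w i)) • x = f w • x
      rw [← Finset.sum_smul, ← map_sum, Finset.univ_sum_single]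
    conv_rhs => rw [← one_smul R x, ← hv, ← hsum, map_sum]
    rw [← hsum]
    exact Finset.sum_congr rfl fun i _ => (map_smul T (ψ i) (v i)).symm

end Groth.Agent.S16196
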