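import Groth.Statements.S16197
import Mathlib.Algebra.Module.Projective
import Mathlib.LinearAlgebra.Projection
import Mathlib.Tactic.Ring
import Mathlib.Tactic.LinearCombination
import Mathlib.Tactic.FieldSimp
import Mathlib.Algebra.BigOperators.Ring.Finset

set_option autoImplicit false
universe u v w
open DivAlg

namespace Groth.Agent.S16197

/-- Let R be a ring (associative, unital, not necessarily commutative) and M a left R-module which is a
generator, used here only through the existence of an R-linear surjection from a direct sum of
copies of M, indexed by an arbitrary type, onto R. Then some finite power M^n decomposes as R × Q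
for a submodule Q of M^n. (The published statement is an equivalence; this row states only the
implication from the existence of such a surjection to the splitting.) -/
theorem result {R : Type u} [Ring R] (M : Type v)
    [AddCommGroup M] [Module R M]
    (hgen : ∃ (ι : Type w) (f : (ι →₀ M) →ₗ[R] R), Function.Surjective f) :
    ∃ (n : ℕ) (Q : Submodule R (Fin n → M)), Nonempty ((Fin n → M) ≃ₗ[R] (R × Q)) := by
  classical
  obtain ⟨ι, f, hf⟩ := hgen
  obtain ⟨v, hv⟩ := hf 1
  let e := v.support.equivFin
  let g : (Fin v.support.card → M) →ₗ[R] R :=
    ∑ j, (f.comp (Finsupp.lsingle (e.symm j : ι))).comp (LinearMap.proj j)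
  let w : Fin v.support.card → M := fun j => v (e.symm j : ι)
  have hw : g w = 1 := by
    have : g w = ∑ j, f (Finsupp.single (e.symm j : ι) (v (e.symm j : ι))) := by simp [g, w]
    rw [this, Equiv.sum_comp e.symm (fun i : v.support => f (Finsupp.single (i : ι) (v i))),
      Finset.sum_coe_sort v.support (fun i => f (Finsupp.single i (v i))), ← map_sum]
    show f (v.sum Finsupp.single) = 1
    rw [Finsupp.sum_single, hv]
  let s : R →ₗ[R] (Fin v.support.card → M) := LinearMap.toSpanSingleton R _ w
  let pr := LinearMap.id - s.comp g
  refine ⟨_, LinearMap.ker g, ⟨LinearEquiv.ofLinear (g.prod (LinearMap.codRestrict _ pr ?_))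
    (LinearMap.coprod s (LinearMap.ker g).subtype) ?_ ?_⟩⟩
  · intro c; simp [pr, s, hw]
  · refine LinearMap.ext fun ⟨a, b⟩ => ?_
    have hb : g (b : Fin v.support.card → M) = 0 := b.2
    ext : 1
    · simp [s, hw, hb]
    · ext : 1; simp [s, pr, hw, hb]
  · refine LinearMap.ext fun x => ?_
    simp [s, pr]

end Groth.Agent.S16197
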