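import Groth.Statements.S16198
import Mathlib.RingTheory.PicardGroup
import Mathlib.LinearAlgebra.TensorPower.Basic
import Mathlib.LinearAlgebra.Matrix.Determinant.Basic
import Mathlib.LinearAlgebra.PiTensorProduct.Basic
-- import your own Groth.Agent.* helpers here

set_option autoImplicit false
universe u v
open DivAlg

namespace Groth.Agent.S16198
open scoped TensorProduct

lemma mk_tensorPower {R : Type u} [CommRing R] (N : Type v) [AddCommGroup N] [Module R N]
    [Module.Invertible R N] : ∀ n : ℕ, ∃ _ : Module.Invertible R (⨂[R]^n N),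
      CommRing.Pic.mk R (⨂[R]^n N) = CommRing.Pic.mk R N ^ n
  | 0 => by
    let e : (⨂[R]^0 N) ≃ₗ[R] R := PiTensorProduct.isEmptyEquiv (Fin 0)
    haveI : Module.Invertible R (⨂[R]^0 N) := .congr e.symm
    exact ⟨this, by rw [pow_zero, CommRing.Pic.mk_eq_one_iff]; exact ⟨e⟩⟩
  | n + 1 => by
    obtain ⟨_, h⟩ := mk_tensorPower (R := R) N n
    let e : ((⨂[R]^n N) ⊗[R] N) ≃ₗ[R] ⨂[R]^(n + 1) N :=
      (TensorProduct.congr (LinearEquiv.refl R _)
        (PiTensorProduct.subsingletonEquiv (R := R) (s := fun _ : Fin 1 => N) 0).symm).trans TensorPower.mulEquiv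
    haveI : Module.Invertible R (⨂[R]^(n + 1) N) := .congr e
    exact ⟨this, by rw [pow_succ, ← h, ← CommRing.Pic.mk_tensor (R := R) (M := ⨂[R]^n N) (N := N), CommRing.Pic.mk_eq_mk_iff]; exact ⟨e.symm⟩⟩

/-- An invertible module is generated by one element modulo a maximal ideal. -/
lemma exists_gen {R : Type u} [CommRing R] (N : Type v) [AddCommGroup N] [Module R N]
    [Module.Invertible R N] (m : Ideal R) [m.IsMaximal] :
    ∃ x : N, ∀ y : N, ∃ r : R, y - r • x ∈ m • (⊤ : Submodule R N) := by
  let := Ideal.Quotient.field m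
  obtain ⟨e⟩ := (Module.Invertible.free_iff_linearEquiv (R := R ⧸ m) (M := (R ⧸ m) ⊗[R] N)).1 inferInstance
  let q := TensorProduct.quotTensorEquivQuotSMul N m
  obtain ⟨x, hx⟩ := Submodule.Quotient.mk_surjective _ (q (e.symm 1))
  refine ⟨x, fun y => ?_⟩
  obtain ⟨r, hr⟩ := Ideal.Quotient.mk_surjective (e (q.symm (Submodule.Quotient.mk y)))
  refine ⟨r, (Submodule.Quotient.eq _).1 ?_⟩
  apply q.symm.injective
  rw [Submodule.Quotient.mk_smul, map_smul, hx, q.symm_apply_apply]
  apply e.injective
  rw [← hr, show r • e.symm 1 = (Ideal.Quotient.mk m r) • e.symm 1 from (algebraMap_smul (R ⧸ m) r _).symm,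
    map_smul, e.apply_symm_apply, smul_eq_mul, mul_one]

/-- In the case of a commutative ring R, let N be an invertible R-module such that the direct sum N^n is
isomorphic to R^n for some natural number n. Then the class of N in Pic(R) satisfies [N]^n = 1. (The
published statement is for invertible modules on an arbitrary ringed site; this row states the case
of a commutative ring.) -/
theorem result {R : Type u} [CommRing R] (N : Type v)
    [AddCommGroup N] [Module R N] [Module.Invertible R N] (n : ℕ)
    (e : (Fin n → N) ≃ₗ[R] (Fin n → R)) :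
    CommRing.Pic.mk R N ^ n = 1 := by
  classical
  let φ₀ : MultilinearMap R (fun _ : Fin n => N) R :=
    (Matrix.detRowAlternating (n := Fin n) (R := R)).toMultilinearMap.compLinearMap
      fun i => e.toLinearMap ∘ₗ LinearMap.single R (fun _ : Fin n => N) i
  let φ : (⨂[R]^n N) →ₗ[R] R := PiTensorProduct.lift φ₀
  have hφ : Function.Surjective φ := by
    rw [← LinearMap.range_eq_top]
    by_contra hne
    obtain ⟨m, hm, hle⟩ := Ideal.exists_le_maximal (LinearMap.range φ : Ideal R) hne
    obtain ⟨x, hx⟩ := exists_gen N m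
    let M : Matrix (Fin n) (Fin n) R := Matrix.of fun i => e (Pi.single i x)
    have hdet : M.det ∈ m := hle ⟨PiTensorProduct.tprod R fun _ => x, by
      show φ _ = _
      rw [PiTensorProduct.lift.tprod]; rfl⟩
    choose r hr using fun (k i : Fin n) => hx (e.symm (Pi.single k 1) i)
    let A : Matrix (Fin n) (Fin n) R := Matrix.of r
    have hAM : (Ideal.Quotient.mk m).mapMatrix (A * M) = 1 := by
      rw [← (Ideal.Quotient.mk m).mapMatrix.map_one]
      ext k j
      simp only [RingHom.mapMatrix_apply, Matrix.map_apply]
      rw [Ideal.Quotient.eq]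
      let y : Fin n → N := fun i => r k i • x
      have h1 : (A * M) k j = e y j := by
        rw [← Finset.univ_sum_single y, map_sum, Finset.sum_apply, Matrix.mul_apply]
        refine Finset.sum_congr rfl fun i _ => ?_
        show r k i * e (Pi.single i x) j = e (Pi.single i (r k i • x)) j
        rw [show (Pi.single i (r k i • x) : Fin n → N) = r k i • Pi.single i x from (LinearMap.single R (fun _ => N) i).map_smul (r k i) x, map_smul]
        rfl
      have h2 : (1 : Matrix (Fin n) (Fin n) R) k j = e (e.symm (Pi.single k 1)) j := by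
        rw [e.apply_symm_apply, Matrix.one_apply, Pi.single_apply]
        simp [eq_comm]
      rw [h1, h2, ← Pi.sub_apply, ← map_sub, ← Finset.univ_sum_single (y - e.symm (Pi.single k 1)),
        map_sum, Finset.sum_apply]
      refine sum_mem fun i _ => ?_
      have hi : (y - e.symm (Pi.single k 1)) i ∈ m • (⊤ : Submodule R N) := by
        have := neg_mem (hr k i)
        rwa [neg_sub] at this
      generalize (y - e.symm (Pi.single k 1)) i = z at hi ⊢
      refine Submodule.smul_induction_on hi (fun a ha w _ => ?_) (fun a b ha hb => ?_)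
      · rw [show (Pi.single i (a • w) : Fin n → N) = a • Pi.single i w from (LinearMap.single R (fun _ => N) i).map_smul a w, map_smul]
        exact m.mul_mem_right _ ha
      · rw [show (Pi.single i (a + b) : Fin n → N) = Pi.single i a + Pi.single i b from (LinearMap.single R (fun _ => N) i).map_add a b, map_add]
        exact m.add_mem ha hb
    have h3 := congrArg Matrix.det hAM
    rw [← RingHom.map_det, Matrix.det_one, Matrix.det_mul, map_mul,
      Ideal.Quotient.eq_zero_iff_mem.2 hdet, mul_zero] at h3
    have : Nontrivial (R ⧸ m) := Ideal.Quotient.nontrivial_iff.2 hm.ne_top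
    exact zero_ne_one h3
  obtain ⟨_, h⟩ := mk_tensorPower (R := R) N n
  rw [← h, CommRing.Pic.mk_eq_one_iff]
  exact ⟨LinearEquiv.ofBijective φ (Module.Invertible.bijective_of_surjective hφ)⟩

end Groth.Agent.S16198
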