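import Groth.Statements.S16200
import Groth.Agent.L15.Steinitz
import Mathlib.Tactic.Ring
import Mathlib.Tactic.LinearCombination
import Mathlib.Tactic.FieldSimp
import Mathlib.Algebra.BigOperators.Ring.Finset

set_option autoImplicit false
universe u v
open DivAlg

namespace Groth.Agent.S16200

/-- Let R be a Dedekind domain, N an invertible R-module and n a natural number with [N]^n = 1 in
Pic(R). Then the direct sum N^n is isomorphic to R^n; thus over a Dedekind domain the invertible
modules N with N^n ≅ R^n are exactly the n-torsion classes of Pic(R), the other inclusion holding
over any commutative ring. -/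
theorem result {R : Type u} [CommRing R]
    [IsDedekindDomain R] (N : Type v) [AddCommGroup N] [Module R N] [Module.Invertible R N]
    (n : ℕ) (h : CommRing.Pic.mk R N ^ n = 1) :
    Nonempty ((Fin n → N) ≃ₗ[R] (Fin n → R)) := by
  exact Groth.L15.Steinitz.nonempty_pi_linearEquiv N n h

end Groth.Agent.S16200
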