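import Groth.Statements.S16201
import Groth.Agent.L06.Constr
import Groth.Agent.L22.FibreDim
import Mathlib.AlgebraicGeometry.Morphisms.Finite
import Mathlib.AlgebraicGeometry.Morphisms.FinitePresentation
-- import your own Groth.Agent.* helpers here

set_option autoImplicit false
open CategoryTheory AlgebraicGeometry
open Variety

namespace Groth.Agent.S16201

/-- Let f : Y → Z be a morphism of schemes of finite type over ℂ, with Z irreducible. Suppose that the
general fibre of f is irreducible, in the sense that there is a nonempty open subset V of Z such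
that the fibre of f over every closed point of V is an irreducible topological space, and that each
irreducible component of Y has dense image in Z. Then Y is irreducible. (The published statement is
for a morphism of projective varieties; only finiteness of type over the field is used, and the row
is stated in that generality.) -/
theorem result
    (Y Z : Scheme.{0}) (g : Z ⟶ Spec (CommRingCat.of ℂ)) (f : Y ⟶ Z)
    [LocallyOfFiniteType g] [QuasiCompact g] [LocallyOfFiniteType f] [QuasiCompact f]
    [IrreducibleSpace Z]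
    (hgen : ∃ V : Z.Opens, (V : Set Z).Nonempty ∧
      ∀ z ∈ V, IsClosed ({z} : Set Z) → IsIrreducible (f.base ⁻¹' {z}))
    (hdom : ∀ W ∈ irreducibleComponents Y, Dense (f.base '' W)) :
    IrreducibleSpace Y := by
  classical
  obtain ⟨V, hVne, hV⟩ := hgen
  haveI : LocallyOfFiniteType (f ≫ g) := inferInstance
  haveI : QuasiCompact (f ≫ g) := inferInstance
  haveI : IsLocallyNoetherian Z := LocallyOfFiniteType.isLocallyNoetherian g
  haveI : IsLocallyNoetherian Y := LocallyOfFiniteType.isLocallyNoetherian (f ≫ g)
  haveI : CompactSpace Z := QuasiCompact.compactSpace_of_compactSpace g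
  haveI : CompactSpace Y := QuasiCompact.compactSpace_of_compactSpace (f ≫ g)
  haveI : AlgebraicGeometry.IsNoetherian Z := ⟨⟩
  haveI : AlgebraicGeometry.IsNoetherian Y := ⟨⟩
  haveI : JacobsonSpace Z := LocallyOfFiniteType.jacobsonSpace g
  let C := irreducibleComponents Y
  -- the part of a component outside all the others
  let O : Set Y → Set Y := fun W => (⋃ W' ∈ C \ {W}, W')ᶜ
  have hO : ∀ W, IsOpen (O W) := fun W =>
    ((TopologicalSpace.NoetherianSpace.finite_irreducibleComponents (α := Y)).subset Set.sdiff_subset).isClosed_biUnion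
      (fun W' hW' => isClosed_of_mem_irreducibleComponents W' hW'.1) |>.isOpen_compl
  have hOW : ∀ W y, y ∈ O W → y ∈ W := fun W y hy => by
    by_contra hyW
    exact hy (Set.mem_iUnion₂.2 ⟨irreducibleComponent y, ⟨irreducibleComponent_mem_irreducibleComponents y,
      fun e => hyW (e ▸ mem_irreducibleComponent)⟩, mem_irreducibleComponent⟩)
  have hη : IsGenericPoint (genericPoint Z) (Set.univ : Set Z) := genericPoint_spec Z
  have himg : ∀ W ∈ C, ∃ U : Set Z, IsOpen U ∧ U.Nonempty ∧ U ⊆ f.base '' O W := fun W hW => by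
    obtain ⟨ξ, hξ⟩ := QuasiSober.sober hW.1 (isClosed_of_mem_irreducibleComponents W hW)
    have hξO : ξ ∈ O W := by
      intro h
      obtain ⟨W', ⟨hW', hne⟩, hξW'⟩ := Set.mem_iUnion₂.1 h
      exact hne (hW.eq_of_le hW'.1 (hξ.def ▸ closure_minimal (Set.singleton_subset_iff.2 hξW')
        (isClosed_of_mem_irreducibleComponents W' hW'))).symm
    have hfξ : f.base ξ = genericPoint Z := by
      refine IsGenericPoint.eq (S := (Set.univ : Set Z)) ?_ hη
      refine Set.eq_univ_of_univ_subset ?_
      rw [← (hdom W hW).closure_eq]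
      refine closure_minimal ?_ isClosed_closure
      rw [← hξ.def]
      exact (image_closure_subset_closure_image f.continuous).trans (by rw [Set.image_singleton])
    obtain ⟨U, hU, hUne, hUsub⟩ := Groth.L06.Constr.exists_open_inter_subset'
      (f.isConstructible_image (Groth.L06.Constr.isConstructible_of_isOpen (hO W))) (Z := Set.univ)
      (IrreducibleSpace.isIrreducible_univ Z)
      (Groth.L06.Constr.subset_closure_of_generic (η := genericPoint Z) hη.def.ge ⟨ξ, hξO, hfξ⟩ trivial)
    exact ⟨U, hU, by simpa using hUne, by simpa using hUsub⟩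
  have huniq : ∀ W ∈ C, ∀ W' ∈ C, W = W' := by
    intro W hW W' hW'
    by_contra hne
    obtain ⟨U, hU, hUne, hUsub⟩ := himg W hW
    obtain ⟨U', hU', hUne', hUsub'⟩ := himg W' hW'
    have h3 : ((V : Set Z) ∩ (U ∩ U')).Nonempty :=
      nonempty_preirreducible_inter V.2 (hU.inter hU') hVne
        (nonempty_preirreducible_inter hU hU' hUne hUne')
    obtain ⟨z, ⟨hzV, hzU, hzU'⟩, hzc⟩ :=
      nonempty_inter_closedPoints h3 (V.2.inter (hU.inter hU')).isLocallyClosed
    obtain ⟨y, hy, hyz⟩ := hUsub hzU
    obtain ⟨y', hy', hyz'⟩ := hUsub' hzU'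
    obtain ⟨x, -, hxW, hxW'⟩ := (hV z hzV hzc).2 (O W) (O W') (hO W) (hO W') ⟨y, hyz, hy⟩ ⟨y', hyz', hy'⟩
    exact hxW' (Set.mem_iUnion₂.2 ⟨W, ⟨hW, hne⟩, hOW W x hxW⟩)
  obtain ⟨y0, -, -⟩ : ∃ y : Y, f.base y ∈ V ∧ True := by
    obtain ⟨z, hz, hzc⟩ := nonempty_inter_closedPoints hVne V.2.isLocallyClosed
    obtain ⟨y, hy⟩ := (hV z hz hzc).nonempty
    exact ⟨y, (show f.base y = z from hy).symm ▸ hz, trivial⟩
  refine { toPreirreducibleSpace := ⟨?_⟩, toNonempty := ⟨y0⟩ }
  have h : irreducibleComponent y0 = Set.univ := Set.eq_univ_of_forall fun y =>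
    huniq _ (irreducibleComponent_mem_irreducibleComponents y0) _ (irreducibleComponent_mem_irreducibleComponents y) ▸
      mem_irreducibleComponent
  exact h ▸ isIrreducible_irreducibleComponent.2

end Groth.Agent.S16201
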