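import Groth.Statements.S16202
import Groth.Agent.S15551
import Groth.Agent.L22.PDual.Pairing
import Groth.Agent.S1585
import Groth.Agent.S7681
import Groth.Agent.L22.CurveAmple.Section
import Groth.Agent.L22.PDual.Hn
import Groth.Agent.L26.Poincare.RosatiPos
-- import your own Groth.Agent.* helpers here

set_option autoImplicit false
open CategoryTheory CategoryTheory.Limits AlgebraicGeometry
open Variety

namespace Groth.Agent.S16202

/-- Let X be an integral projective scheme over ℂ of dimension at least 2 and D an effective ample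
divisor on X. Then the support of D is connected. Here D is given by an ample invertible module L
together with a nonzero global section s (a monomorphism O_X → L), and its support is the zero
scheme Z(s), which is asserted to be a connected (in particular nonempty) topological space. -/
theorem result
    (X : Scheme.{0}) (f : X ⟶ Spec (CommRingCat.of ℂ)) [IsIntegral X]
    (hproj : (∃ (n : ℕ) (ι : X ⟶ CohB1.ProjSpace n ℂ), IsClosedImmersion ι ∧ ι ≫ CohB1.ProjSpace.toSpec n ℂ = f))
    (hdim : (2 : WithBot ℕ∞) ≤ topologicalKrullDim X)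
    (L : X.Modules) (hL : CohB1.IsAmple L) (s : Coh.structureModule X ⟶ L) (hs : Mono s) :
    ConnectedSpace ↥(PicF2.zeroScheme L s).subscheme := by
  haveI : IsProper f := by
    obtain ⟨n, ι, hι, rfl⟩ := hproj
    haveI := hι
    haveI : IsProper (CohB1.ProjSpace.toSpec n ℂ) := Groth.L22.PDual.proper n ℂ
    infer_instance
  letI : X.Over (Spec (CommRingCat.of ℂ)) := ⟨f⟩
  haveI : IsProper (X ↘ Spec (CommRingCat.of ℂ)) := ‹IsProper f›
  haveI : IsLocallyNoetherian X := LocallyOfFiniteType.isLocallyNoetherian (X ↘ Spec (CommRingCat.of ℂ))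
  haveI : QuasiCompact (X.fromSpecStalk (genericPoint X)) := inferInstance
  haveI : QuasiSeparated (X.fromSpecStalk (genericPoint X)) := inferInstance
  obtain ⟨hfin, hdomi, -, hint, hYn⟩ := Groth.Agent.S1585.result ℂ X
  let ν := Curv2.normalizationι X
  haveI : IsFinite ν := hfin
  haveI : IsDominant ν := hdomi
  haveI : IsIntegral (Curv2.normalization X) := hint
  let Y := Curv2.normalization X
  letI : Y.Over (Spec (CommRingCat.of ℂ)) := ⟨ν ≫ f⟩
  haveI : IsProper (Y ↘ Spec (CommRingCat.of ℂ)) := inferInstanceAs (IsProper (ν ≫ f))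
  haveI : IsLocallyNoetherian Y := LocallyOfFiniteType.isLocallyNoetherian (Y ↘ Spec (CommRingCat.of ℂ))
  haveI := Groth.L21.RR.isNoetherian_of_proper (X := Y) ℂ
  have hsurj : Function.Surjective ν := by
    rw [← Set.range_eq_univ, ← ν.isClosedMap.isClosed_range.closure_eq, ν.denseRange.closure_range]
  obtain ⟨n, hn, -, hall⟩ := Groth.L22.SchemeDim.exists_dim_eq_trdeg ℂ Y
  have hn2 : (2 : WithBot ℕ∞) ≤ (n : WithBot ℕ∞) :=
    hdim.trans (hn ▸ Groth.L23.IntDim.topologicalKrullDim_le_of_specializing hsurj ν.isClosedMap.specializingMap)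
  have hdepth : ∀ y : Y, IsClosed ({y} : Set Y) → 2 ≤ LocCoh.depth (Y.presheaf.stalk y) (Y.presheaf.stalk y) := by
    intro y hy
    haveI := (hYn y).2
    have hloc : FlatMor.localDim Y y = (n : WithBot ℕ∞) :=
      le_antisymm ((iInf_le (fun U : {U : TopologicalSpace.Opens Y // y ∈ U} =>
        topologicalKrullDim (U.1 : Set Y)) ⟨⊤, trivial⟩).trans (hall ⊤ ⟨y, trivial⟩).le)
        (le_iInf fun U => (hall U.1 ⟨y, U.2⟩).ge)
    have hst := (Groth.Agent.S1617.result ℂ Y y hy).symm.trans hloc
    refine Groth.L06.NormalAscent.two_le_depth_of_normal fun h => ?_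
    rw [hst] at h
    exact absurd (hn2.trans h) (by norm_num)
  let e : Coh.structureModule Y ≅ (Scheme.Modules.pullback ν).obj (Coh.structureModule X) :=
    (Groth.L29.LocFree.pullbackUnitIso ν).symm
  let L' := (Scheme.Modules.pullback ν).obj L
  let s' : Coh.structureModule Y ⟶ L' := e.hom ≫ (Scheme.Modules.pullback ν).map s
  have hL' : CohB1.IsAmple L' := Groth.L18.Ample.isAmple_pullback_of_isAffineHom ν hL
  have hs0 : s ≠ 0 := fun h => by
    have h1 := hs
    rw [h] at h1
    have h2 : CategoryTheory.Limits.IsZero (Coh.structureModule X) :=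
      CategoryTheory.Limits.IsZero.of_mono_zero _ L
    exact one_ne_zero (α := X.presheaf.stalk (genericPoint X)) (by
      have h3 := h2.eq_of_src (𝟙 (Coh.structureModule X)) 0
      have h4 := congr($(congrArg (fun g : Coh.structureModule X ⟶ Coh.structureModule X =>
        Scheme.Modules.Hom.app g ⊤) h3) (1 : Γ(X, ⊤)))
      have h5 : (1 : Γ(X, ⊤)) = 0 := h4
      rw [← map_one (X.presheaf.germ ⊤ (genericPoint X) trivial).hom, h5, map_zero])
  have hη := Groth.L22.CurveAmple.genericPoint_mem_genLocus hL.1 hs0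
  obtain ⟨y₀, hy₀⟩ := hsurj (genericPoint X)
  have hy : y₀ ∈ CohB1.genLocus L' s' := by
    rw [Groth.Agent.S4413.result ν L hL.1 s e]
    show ν y₀ ∈ CohB1.genLocus L s
    rw [hy₀]; exact hη
  have hs' : Mono s' := Groth.L22.PDual.mono_of_ne_zero (Groth.L18.Ample.isInvertible_structureModule Y) hL'.1
    (Groth.Agent.Poincare.RosatiPos.ne_zero_of_mem_genLocus hL'.1 hy)
  have hconn := Groth.L22.EnrSev.isConnected_compl_genLocus (X := Y) ℂ hL' s' hs' hdepth
  have hc2 := hconn.image ν ν.continuous.continuousOn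
  rw [Groth.Agent.S4413.result ν L hL.1 s e] at hc2
  have hrange : Set.range (PicF2.zeroScheme L s).subschemeι =
      ν '' ((ν ⁻¹ᵁ CohB1.genLocus L s : Y.Opens) : Set Y)ᶜ := by
    rw [Scheme.IdealSheafData.range_subschemeι, Groth.L22.ZeroScheme.support_zeroScheme hL.1 s]
    show _ = ν '' (ν ⁻¹' (CohB1.genLocus L s : Set X))ᶜ
    rw [← Set.preimage_compl, Set.image_preimage_eq _ hsurj]
  rw [← hrange, ← Set.image_univ] at hc2
  have hemb := (PicF2.zeroScheme L s).subschemeι.isEmbedding
  exact connectedSpace_iff_univ.2 ⟨Set.image_nonempty.1 hc2.1, hemb.isInducing.isPreconnected_image.1 hc2.2⟩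

end Groth.Agent.S16202
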