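import Groth.Statements.S16203
import Groth.Agent.L22.CurveThrough
-- import your own Groth.Agent.* helpers here

set_option autoImplicit false
open CategoryTheory CategoryTheory.Limits AlgebraicGeometry
open Variety

namespace Groth.Agent.S16203

/-- Let f : Y → Z be a flat dominant morphism of integral projective schemes over ℂ, let B be an
irreducible closed curve in Z (an irreducible closed subset of dimension 1), p a closed point of B
and q a closed point of Y lying over p. Then there is an irreducible closed curve B' in Y passing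
through q which is a finite cover of B: an irreducible closed subset B' of Y containing q whose
image is B and which meets every fibre of f in a finite set. -/
theorem result
    (Y Z : Scheme.{0}) (g : Z ⟶ Spec (CommRingCat.of ℂ)) (f : Y ⟶ Z) [IsIntegral Y] [IsIntegral Z]
    (hZ : (∃ (m : ℕ) (ι : Z ⟶ CohB1.ProjSpace m ℂ), IsClosedImmersion ι ∧ ι ≫ CohB1.ProjSpace.toSpec m ℂ = g))
    (hY : (∃ (n : ℕ) (ι' : Y ⟶ CohB1.ProjSpace n ℂ), IsClosedImmersion ι' ∧ ι' ≫ CohB1.ProjSpace.toSpec n ℂ = f ≫ g))
    [Flat f] (hdomi : DenseRange f.base)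
    (B : Set Z) (hBc : IsClosed B) (hBi : IsIrreducible B) (hBd : topologicalKrullDim ↥B = 1)
    (p : Z) (hp : p ∈ B) (hpc : IsClosed ({p} : Set Z))
    (q : Y) (hqc : IsClosed ({q} : Set Y)) (hq : f.base q = p) :
    ∃ B' : Set Y, IsClosed B' ∧ IsIrreducible B' ∧ q ∈ B' ∧ f.base '' B' = B ∧
      ∀ z : Z, (B' ∩ f.base ⁻¹' {z}).Finite := by
  exact Groth.L22.CurveThrough.main Y Z g f hZ hY B hBc hBi hBd p hp hpc q hqc hq

end Groth.Agent.S16203
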