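import Groth.Agent.L18.RatPoint.VarietyExtend
import Mathlib.Analysis.Complex.Polynomial.Basic
import Groth.Agent.L08.Cube.SliceFibre
import Groth.Statements.S16205
-- import your own Groth.Agent.* helpers here

set_option autoImplicit false
open CategoryTheory MonoidalCategory CartesianMonoidalCategory AlgebraicGeometry
open RatCurv

namespace Groth.Agent.S16205

/-- Let X be a projective variety over ℂ and let C and B be smooth integral curves over ℂ (separated, of
finite type, not necessarily complete). If a rational map from the surface C × B to X, that is a
ℂ-morphism φ defined on a nonempty open subset U of C × B, does not extend to a morphism defined on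
all of C × B, then X contains a rational curve: there is a nonconstant ℂ-morphism from the
projective line to X. The product is taken in the cartesian monoidal category of ℂ-schemes. (The
published statement allows C and B singular, C even reducible, and X any variety; for C an elliptic
curve with two points glued to a node, B a curve and X that elliptic curve, the rational map induced
by the normalisation coordinate does not extend although X has no rational curve, and for smooth C,
B the open immersion of the punctured affine plane into itself does not extend to the product of two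
projective lines although the punctured plane has no complete or affine rational curves; so C and B
are taken smooth and X projective, the case the argument treats.) -/
theorem result
    (X C B : Over (Spec (CommRingCat.of ℂ))) [IsIntegral X.left]
    (hX : (∃ (n : ℕ) (ι : X.left ⟶ CohB1.ProjSpace n ℂ), IsClosedImmersion ι ∧ ι ≫ CohB1.ProjSpace.toSpec n ℂ = X.hom))
    [IsIntegral C.left] [Smooth C.hom] [IsSeparated C.hom] [QuasiCompact C.hom]
    (hC : topologicalKrullDim C.left = 1)
    [IsIntegral B.left] [Smooth B.hom] [IsSeparated B.hom] [QuasiCompact B.hom]
    (hB : topologicalKrullDim B.left = 1)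
    (U : (C ⊗ B).left.Opens) (hU : (U : Set (C ⊗ B).left).Nonempty)
    (φ : (U : Scheme.{0}) ⟶ X.left) (hφ : φ ≫ X.hom = U.ι ≫ (C ⊗ B).hom)
    (hne : ¬ ∃ ψ : (C ⊗ B).left ⟶ X.left, U.ι ≫ ψ = φ) :
    ∃ g : Over.mk (CohB1.ProjSpace.toSpec 1 ℂ) ⟶ X, ¬ ∃ x : X.left, Set.range g.left.base ⊆ {x} := by
  by_contra hall
  push Not at hall
  haveI := Groth.L18.RatPoint.isProper_of_closedImmersion_projSpace X.hom hX
  haveI : GeometricallyIntegral C.hom := Groth.L08.Cube.geometricallyIntegral_of_isAlgClosed C.hom
  haveI : IsLocallyNoetherian B.left := LocallyOfFiniteType.isLocallyNoetherian B.hom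
  haveI : Smooth (C ⊗ B).hom := inferInstanceAs (Smooth (Limits.pullback.fst C.hom B.hom ≫ C.hom))
  haveI : IsLocallyNoetherian (C ⊗ B).left := LocallyOfFiniteType.isLocallyNoetherian (C ⊗ B).hom
  haveI : IsLocallyNoetherian (Limits.pullback C.hom B.hom) := ‹IsLocallyNoetherian (C ⊗ B).left›
  haveI : IsIntegral (C ⊗ B).left :=
    GeometricallyIntegral.isIntegral_of_isLocallyNoetherian (Limits.pullback.snd C.hom B.hom)
  obtain ⟨ψ, hψ, -⟩ := Groth.L18.RatPoint.exists_extend_variety (C ⊗ B).hom X.hom (fun g hg => by
    obtain ⟨x, hx⟩ := hall (Over.homMk g hg)
    exact ⟨x, hx⟩) U hU φ hφ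
  exact hne ⟨ψ, hψ⟩

end Groth.Agent.S16205
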