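import Groth.Statements.S16207
import Groth.Agent.L21.CurveAdj.Pointed

set_option autoImplicit false
set_option backward.isDefEq.respectTransparency false
universe u
open CategoryTheory CategoryTheory.Limits AlgebraicGeometry
attribute [local instance] HasDerivedCategory.standard
open Curves

namespace Groth.Agent.S16207

/-- Let k be an algebraically closed field and X a proper reduced connected scheme of dimension 1 over k
with at-worst-nodal singularities, of genus g = dim_k H^1(X, O_X), and let p_1, …, p_n be n distinct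
closed points at which X is smooth over k, with 2g − 2 + n > 0, making X an n-pointed semistable
curve: every irreducible component E of X whose reduced structure has vanishing H^1 of the structure
sheaf (a smooth rational component) carries at least 2 special points, counting the points of E
lying on other components and the marked points on E. Let ω_X be the dualizing module of X (degree
−1 cohomology sheaf of f^! O for the structure morphism f, for any choice of the data Rf_* on D_QCoh
with its right adjoint), N an inverse for the tensor product of the ideal sheaf of the reduced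
closed subscheme {p_1, …, p_n} (so N plays the role of O_X(p_1 + ⋯ + p_n)), and M any module
isomorphic to ω_X ⊗ N. Then for every m ≥ 2 the tensor power M^{⊗ m} has H^1(X, M^{⊗ m}) = 0. -/
theorem result (k : Type u) [Field k] [IsAlgClosed k] (X : Scheme.{u}) [X.Over (Spec (CommRingCat.of k))]
    [IsProper (X ↘ (Spec (CommRingCat.of k)))] [IsReduced X] [ConnectedSpace X]
    (hdim : topologicalKrullDim X = 1) (hX : Curv2.AtWorstNodal k X)
    (n : ℕ) (p : Fin n → X) (hpinj : Function.Injective p) (hpcl : ∀ i, IsClosed ({p i} : Set X))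
    (hpsm : ∀ i, ∃ U : X.Opens, p i ∈ U ∧ Smooth (U.ι ≫ (X ↘ (Spec (CommRingCat.of k)))))
    (hss : ∀ (E : Set X) (hE : E ∈ irreducibleComponents (X : Type u)),
      Subsingleton (Coh.HH (Scheme.IdealSheafData.vanishingIdeal ⟨E, isClosed_of_mem_irreducibleComponents E hE⟩).subscheme (Coh.structureModule (Scheme.IdealSheafData.vanishingIdeal ⟨E, isClosed_of_mem_irreducibleComponents E hE⟩).subscheme) 1) →
        2 ≤ (E ∩ closure Eᶜ).ncard + (p ⁻¹' E).ncard)
    (hgn : 0 < 2 * (Curv2.genus k X : ℤ) - 2 + n)
    (N : X.Modules) (hN : ClSub.IsInverseOf N (ClSub.idealMod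
      (Scheme.IdealSheafData.vanishingIdeal ⟨⋃ i, ({p i} : Set X), isClosed_iUnion_of_finite hpcl⟩)))
    [DCoh.HasRpush (X ↘ (Spec (CommRingCat.of k)))] (h : DCoh.RpushPreservesQCoh (X ↘ (Spec (CommRingCat.of k)))) [DCoh.HasShriek (X ↘ (Spec (CommRingCat.of k))) h]
    (OY : DCoh.DQCoh (Spec (CommRingCat.of k)))
    (hOY : Nonempty (OY.obj ≅ DCoh.inD (Spec (CommRingCat.of k)) (Coh.structureModule (Spec (CommRingCat.of k)))))
    (M : X.Modules) (hM : Nonempty (M ≅ CohB1.tensorMod (DCoh.dualizingMod (X ↘ (Spec (CommRingCat.of k))) h OY 1) N)) (m : ℕ) (hm : 2 ≤ m) :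
    Subsingleton (Coh.HH X (CohB1.tensorPow M m) 1) := by
  haveI : IsProper (X ↘ Spec (CommRingCat.of k)) := inferInstance
  haveI := Groth.L21.RR.isNoetherian_of_proper (X := X) k
  obtain ⟨t, ht⟩ := Groth.L21.CurveDual.exists_isRDual k hdim.le h OY hOY
  obtain ⟨hconn, hred, hgen, hsetup⟩ := Groth.L21.CurveAdj.nodal_setup (k := k) hdim
    (haveI := (Groth.L21.CurveAdj.nodal_reduced (k := k) hdim hX).1; Groth.L21.CurveAdj.h0_eq_one_of_connected) hX
  haveI := hred
  obtain ⟨S, hinv⟩ := hsetup _ t ht
  have hDfin : (⋃ i, ({p i} : Set X)).Finite := Set.finite_iUnion fun i => Set.finite_singleton _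
  have hpts : ∀ x ∈ (⋃ i, ({p i} : Set X)), IsClosed ({x} : Set X) := fun x hx => by
    obtain ⟨i, rfl⟩ := Set.mem_iUnion.1 hx
    exact hpcl i
  have hcardD : Nat.card ↥(⋃ i, ({p i} : Set X)) = n := by
    rw [Set.iUnion_singleton_eq_range, Nat.card_coe_set_eq, Set.ncard_range_of_injective hpinj, Nat.card_fin]
  have hcardE : ∀ E : Set X, Nat.card ↥((⋃ i, ({p i} : Set X)) ∩ E) = (p ⁻¹' E).ncard := fun E => by
    rw [Set.iUnion_singleton_eq_range, Nat.card_coe_set_eq, ← Set.image_univ, ← Set.image_inter_preimage,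
      Set.univ_inter, Set.ncard_image_of_injective _ hpinj]
  have hDcl := isClosed_iUnion_of_finite hpcl
  obtain ⟨hMinv, hMdeg, hdata⟩ :=
    Groth.L21.CurveAdj.pointed_data hX S hgen hinv hDcl hDfin hpts hN hM
  have hcomp : ∀ (C : Set X) (hC : C ∈ irreducibleComponents (X : Type u)),
      0 ≤ Groth.L21.CurveAdj.degOn k M (Groth.L21.CurveAdj.IC C hC) := by
    intro C hC
    obtain ⟨h1, h2, -⟩ := Groth.L21.CurveAdj.component hgen C hC
    haveI := h1
    obtain ⟨a, c, e, ha, hc, he, hw, -⟩ :=
      hdata _ h1 h2 (Groth.L21.CurveAdj.dim_component hdim.le hgen C hC).1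
    rw [hw]
    rcases Nat.eq_zero_or_pos a with rfl | hpos
    · letI : (Groth.L21.CurveAdj.IC C hC).subscheme.Over (Spec (CommRingCat.of k)) :=
        ⟨(Groth.L21.CurveAdj.IC C hC).subschemeι ≫ (X ↘ (Spec (CommRingCat.of k)))⟩
      haveI : IsProper ((Groth.L21.CurveAdj.IC C hC).subscheme ↘ Spec (CommRingCat.of k)) :=
        inferInstanceAs (IsProper ((Groth.L21.CurveAdj.IC C hC).subschemeι ≫ (X ↘ (Spec (CommRingCat.of k)))))
      haveI := Groth.L21.RR.isNoetherian_of_proper (X := (Groth.L21.CurveAdj.IC C hC).subscheme) k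
      haveI : Module.Finite k (Coh.HH (Groth.L21.CurveAdj.IC C hC).subscheme
          (Coh.structureModule (Groth.L21.CurveAdj.IC C hC).subscheme) 1) :=
        Groth.L21.RR.finite_HH' (X := (Groth.L21.CurveAdj.IC C hC).subscheme) k Groth.L16.CohClosedPush.isCoh_structure 1
      have h3 := hss C hC (Module.finrank_zero_iff.1 ha)
      rw [← Groth.L21.CurveAdj.coe_support_IC C hC] at h3
      rw [hc, ← hcardE, he] at h3
      omega
    · omega
  exact (Groth.L21.CurveAdj.pointed_powers hX S hgen hinv hDcl hDfin hpts hN hM hcomp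
    (by rw [hcardD]; exact hgn) m hm).1

end Groth.Agent.S16207
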