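import Groth.Statements.S16210
import Groth.Agent.L21.CurveAdj.Pointed

set_option autoImplicit false
set_option backward.isDefEq.respectTransparency false
universe u
open CategoryTheory CategoryTheory.Limits AlgebraicGeometry
attribute [local instance] HasDerivedCategory.standard
open Curves

namespace Groth.Agent.S16210

/-- Let k be an algebraically closed field and X a proper reduced connected scheme of dimension 1 over k
with at-worst-nodal singularities and H^1(X, O_X) = 0, and let p_1, …, p_n (n ≥ 3) be distinct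
closed points at which X is smooth over k. Let ω_X be the dualizing module of X (degree −1
cohomology sheaf of f^! O for the structure morphism f, for any choice of the data Rf_* on D_QCoh
with its right adjoint), N an inverse for the tensor product of the ideal sheaf of the reduced
closed subscheme {p_1, …, p_n}, and M any module isomorphic to ω_X ⊗ N (the dualizing module twisted
by the marked points). Then the n-pointed curve is semistable, i.e. every irreducible component E of
X has at least 2 special points (points of E on other components plus marked points on E), if and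
only if M is globally generated. -/
theorem result (k : Type u) [Field k] [IsAlgClosed k] (X : Scheme.{u}) [X.Over (Spec (CommRingCat.of k))]
    [IsProper (X ↘ (Spec (CommRingCat.of k)))] [IsReduced X] [ConnectedSpace X]
    (hdim : topologicalKrullDim X = 1) (hX : Curv2.AtWorstNodal k X)
    (hg : Subsingleton (Coh.HH X (Coh.structureModule X) 1))
    (n : ℕ) (p : Fin n → X) (hpinj : Function.Injective p) (hpcl : ∀ i, IsClosed ({p i} : Set X))
    (hpsm : ∀ i, ∃ U : X.Opens, p i ∈ U ∧ Smooth (U.ι ≫ (X ↘ (Spec (CommRingCat.of k))))) (hn : 3 ≤ n)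
    (N : X.Modules) (hN : ClSub.IsInverseOf N (ClSub.idealMod
      (Scheme.IdealSheafData.vanishingIdeal ⟨⋃ i, ({p i} : Set X), isClosed_iUnion_of_finite hpcl⟩)))
    [DCoh.HasRpush (X ↘ (Spec (CommRingCat.of k)))] (h : DCoh.RpushPreservesQCoh (X ↘ (Spec (CommRingCat.of k)))) [DCoh.HasShriek (X ↘ (Spec (CommRingCat.of k))) h]
    (OY : DCoh.DQCoh (Spec (CommRingCat.of k)))
    (hOY : Nonempty (OY.obj ≅ DCoh.inD (Spec (CommRingCat.of k)) (Coh.structureModule (Spec (CommRingCat.of k)))))
    (M : X.Modules) (hM : Nonempty (M ≅ CohB1.tensorMod (DCoh.dualizingMod (X ↘ (Spec (CommRingCat.of k))) h OY 1) N)) :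
    (∀ (E : Set X), E ∈ irreducibleComponents (X : Type u) → 2 ≤ (E ∩ closure Eᶜ).ncard + (p ⁻¹' E).ncard) ↔
      Curv2.IsGloballyGenerated M := by
  haveI : IsProper (X ↘ Spec (CommRingCat.of k)) := inferInstance
  haveI := Groth.L21.RR.isNoetherian_of_proper (X := X) k
  obtain ⟨t, ht⟩ := Groth.L21.CurveDual.exists_isRDual k hdim.le h OY hOY
  obtain ⟨hconn, hred, hgen, hsetup⟩ := Groth.L21.CurveAdj.nodal_setup (k := k) hdim
    (haveI := (Groth.L21.CurveAdj.nodal_reduced (k := k) hdim hX).1; Groth.L21.CurveAdj.h0_eq_one_of_connected) hX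
  haveI := hred
  obtain ⟨S, hinv⟩ := hsetup _ t ht
  have hDfin : (⋃ i, ({p i} : Set X)).Finite := Set.finite_iUnion fun i => Set.finite_singleton _
  have hpts : ∀ x ∈ (⋃ i, ({p i} : Set X)), IsClosed ({x} : Set X) := fun x hx => by
    obtain ⟨i, rfl⟩ := Set.mem_iUnion.1 hx
    exact hpcl i
  have hcardD : Nat.card ↥(⋃ i, ({p i} : Set X)) = n := by
    rw [Set.iUnion_singleton_eq_range, Nat.card_coe_set_eq, Set.ncard_range_of_injective hpinj, Nat.card_fin]
  have hcardE : ∀ E : Set X, Nat.card ↥((⋃ i, ({p i} : Set X)) ∩ E) = (p ⁻¹' E).ncard := fun E => by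
    rw [Set.iUnion_singleton_eq_range, Nat.card_coe_set_eq, ← Set.image_univ, ← Set.image_inter_preimage,
      Set.univ_inter, Set.ncard_image_of_injective _ hpinj]
  have hDcl := isClosed_iUnion_of_finite hpcl
  obtain ⟨hMinv, hMdeg, hdata⟩ :=
    Groth.L21.CurveAdj.pointed_data hX S hgen hinv hDcl hDfin hpts hN hM
  have ha0 : ∀ J : X.IdealSheafData, @Groth.L21.RR.h J.subscheme k _
      ⟨J.subschemeι ≫ (X ↘ (Spec (CommRingCat.of k)))⟩ 1 (Coh.structureModule J.subscheme) = 0 := by
    intro J
    letI : J.subscheme.Over (Spec (CommRingCat.of k)) := ⟨J.subschemeι ≫ (X ↘ (Spec (CommRingCat.of k)))⟩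
    haveI : IsLocallyNoetherian J.subscheme := LocallyOfFiniteType.isLocallyNoetherian J.subschemeι
    haveI : X.IsSeparated := ⟨by rw [← Limits.terminal.comp_from (X ↘ Spec (CommRingCat.of k))]; infer_instance⟩
    obtain ⟨e⟩ := Groth.L03.Euler.exists_HH_push_linearEquiv (k := k) J.subschemeι (Coh.structureModule J.subscheme)
      Groth.L16.CohClosedPush.isCoh_structure.1 rfl 1
    haveI := Groth.L21.RR.epi_toSubscheme J
    haveI := hg
    haveI : Subsingleton (Coh.HH X (ClSub.quotMod J) 1) :=
      (Groth.L21.RedCurve.surjective_hmap_one_of_epi hdim.le (ClSub.toSubscheme J)).subsingleton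
    exact e.finrank_eq.trans (Groth.L21.RR.h_eq_zero_of_subsingleton k this)
  constructor
  · intro hss
    refine Groth.L21.RedCurve.isGloballyGenerated_of_deg_subcurves k hdim.le hMinv fun J h1 h2 h3 => ?_
    rw [ha0 J]
    haveI := h1
    haveI := h2
    refine le_trans (by simp) (Groth.L21.CurveAdj.degOn_nonneg_of_components hdim.le hgen hMinv (fun C hC => ?_) J h3)
    obtain ⟨h4, h5, -⟩ := Groth.L21.CurveAdj.component hgen C hC
    obtain ⟨a, c, e, -, hc, he, hw, -⟩ := hdata _ h4 h5 (Groth.L21.CurveAdj.dim_component hdim.le hgen C hC).1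
    have h6 := hss C hC
    rw [← Groth.L21.CurveAdj.coe_support_IC C hC, hc, ← hcardE, he] at h6
    rw [hw]; omega
  · intro hgg E hE
    obtain ⟨h4, h5, -⟩ := Groth.L21.CurveAdj.component hgen E hE
    obtain ⟨a, c, e, ha, hc, he, hw, -⟩ := hdata _ h4 h5 (Groth.L21.CurveAdj.dim_component hdim.le hgen E hE).1
    have h7 := Groth.L21.CurveAdj.degOn_nonneg_of_gg (k := k) hdim.le hMinv hgg E hE
    rw [hw] at h7
    rw [ha0] at ha
    rw [← hcardE, ← Groth.L21.CurveAdj.coe_support_IC E hE, hc, he]
    omega

end Groth.Agent.S16210
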