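import Groth.Statements.S16211
import Mathlib.RingTheory.Smooth.Basic
import Mathlib.RingTheory.Ideal.Quotient.Operations

set_option autoImplicit false
universe u v
open InvTh

namespace Groth.Agent.S16211

/-- Let R be a commutative ring, O a formally smooth R-algebra and G a finite group whose order is
invertible in R, acting on O by R-algebra automorphisms. Then the largest quotient algebra of O on
which G acts trivially, namely the quotient of O by the ideal generated by all g • f - f (the
coordinate ring of the subscheme of G-fixed points of Spec O), is again formally smooth over R: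
invariant homomorphisms lift along square-zero extensions. The published statement is about a scheme
X smooth and of finite presentation over the base and concludes that its fixed-point scheme is
smooth; this row, the affine step of its proof, assumes only that O is formally smooth over R and
concludes only formal smoothness. -/
theorem result (R : Type u) [CommRing R]
    (O : Type u) [CommRing O] [Algebra R O] [Algebra.FormallySmooth R O]
    (G : Type v) [Group G] [Finite G] [MulSemiringAction G O] [SMulCommClass G R O]
    (hG : IsUnit (Nat.card G : R)) :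
    Algebra.FormallySmooth R (O ⧸ Ideal.span {x : O | ∃ (g : G) (f : O), x = g • f - f}) := by
  classical
  letI := Fintype.ofFinite G
  let J : Ideal O := Ideal.span {x : O | ∃ (g : G) (f : O), x = g • f - f}
  refine Algebra.FormallySmooth.of_comp_surjective fun B _ _ I hI f => ?_
  obtain ⟨h, hh⟩ := Algebra.FormallySmooth.exists_lift I ⟨2, hI⟩ (f.comp (Ideal.Quotient.mkₐ R J))
  let c : R := ((hG.unit⁻¹ : Rˣ) : R)
  have hc : c * (Fintype.card G : R) = 1 := by
    rw [← Nat.card_eq_fintype_card]; exact hG.val_inv_mul
  have hsub : ∀ (g : G) (a : O), h (g • a) - h a ∈ I := by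
    intro g a
    have e : ∀ a, Ideal.Quotient.mk I (h a) = f (Ideal.Quotient.mk J a) := fun a => AlgHom.congr_fun hh a
    rw [← Ideal.Quotient.eq, e, e]
    exact congrArg f (Ideal.Quotient.eq.2 (Ideal.subset_span ⟨g, a, rfl⟩))
  have hI2 : ∀ x ∈ I, ∀ y ∈ I, x * y = 0 := fun x hx y hy => by
    have : x * y ∈ I ^ 2 := by rw [pow_two]; exact Ideal.mul_mem_mul hx hy
    rw [hI] at this
    exact (Submodule.mem_bot _).1 this
  let D : O →ₗ[R] B := c • ∑ g : G, (h.toLinearMap ∘ₗ (MulSemiringAction.toAlgHom R O g).toLinearMap - h.toLinearMap)
  have hD : ∀ a, D a = c • ∑ g : G, (h (g • a) - h a) := fun a => by simp [D, LinearMap.sum_apply]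
  have hDI : ∀ a, D a ∈ I := fun a => by
    rw [hD]
    exact Submodule.smul_of_tower_mem I c (sum_mem fun g _ => hsub g a)
  have hDmul : ∀ a b, D (a * b) = h a * D b + h b * D a := by
    intro a b
    simp only [hD, mul_smul_comm, Finset.mul_sum, ← smul_add, ← Finset.sum_add_distrib]
    congr 1
    refine Finset.sum_congr rfl fun g _ => ?_
    rw [smul_mul', map_mul, map_mul]
    linear_combination hI2 _ (hsub g a) _ (hsub g b)
  let h' : O →ₐ[R] B := AlgHom.ofLinearMap (h.toLinearMap + D) (by simp [hD, smul_one]) fun a b => by
    simp only [LinearMap.add_apply, AlgHom.toLinearMap_apply, map_mul, hDmul]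
    linear_combination -(hI2 _ (hDI a) _ (hDI b))
  have hinv : ∀ (γ : G) a, h' (γ • a) = h' a := by
    intro γ a
    have e : ∀ a, h' a = c • ∑ g : G, h (g • a) := by
      intro a
      change h a + D a = _
      rw [hD, Finset.sum_sub_distrib, Finset.sum_const, Finset.card_univ, smul_sub,
        ← Nat.cast_smul_eq_nsmul R, smul_smul, hc, one_smul, add_sub_cancel]
    rw [e, e]
    congr 1
    exact Fintype.sum_equiv (Equiv.mulRight γ) _ _ fun g => by simp [mul_smul]
  have hker : ∀ x ∈ J, h' x = 0 := by
    intro x hx
    refine (Ideal.span_le (I := RingHom.ker h')).2 ?_ hx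
    rintro _ ⟨g, a, rfl⟩
    simp [RingHom.mem_ker, hinv]
  refine ⟨Ideal.Quotient.liftₐ J h' hker, AlgHom.ext fun q => ?_⟩
  obtain ⟨a, rfl⟩ := Ideal.Quotient.mk_surjective q
  change Ideal.Quotient.mk I (h a + D a) = f (Ideal.Quotient.mk J a)
  rw [map_add, Ideal.Quotient.eq_zero_iff_mem.2 (hDI a), add_zero]
  exact AlgHom.congr_fun hh a

end Groth.Agent.S16211
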