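import Groth.Statements.S16212
import Groth.Agent.L19.AlgGrpBasic.FixedSmooth

set_option autoImplicit false
set_option backward.isDefEq.respectTransparency.types false
set_option backward.isDefEq.respectTransparency false
set_option linter.style.haveILetI false
universe u v
open CategoryTheory AlgebraicGeometry
open AlgGrp

namespace Groth.Agent.S16212

/-- Let S be a scheme, X an S-scheme that is smooth, separated and of finite presentation over S, and G
a finite group whose order is invertible on S (a unit among the global functions of S) acting on X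
by S-automorphisms. Then the scheme of G-fixed points of X, namely any S-scheme Z with an S-morphism
ι to X that is itself fixed by every element of G (ι followed by the automorphism of each g equals
ι) and such that an S-morphism T → X is fixed by every element of G exactly when it factors through
ι, and then uniquely, is a closed subscheme of X (ι is a closed immersion) which is smooth and of
finite presentation over S (smooth, quasi-compact and quasi-separated). The published statement
assumes X only smooth and of finite presentation over S; this row also assumes X separated over S. -/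
theorem result (S : Scheme.{u})
    (X : Over S) [Smooth X.hom] [QuasiCompact X.hom] [IsSeparated X.hom]
    (G : Type v) [Group G] [Finite G] (ρ : G →* Aut X)
    (hG : IsUnit (Nat.card G : Γ(S, ⊤)))
    (Z : Over S) (ι : Z ⟶ X) (hι : ∀ g : G, ι ≫ (ρ g).hom = ι)
    (hZ : ∀ (T : Over S) (t : T ⟶ X), (∀ g : G, t ≫ (ρ g).hom = t) ↔ ∃! t' : T ⟶ Z, t' ≫ ι = t) :
    IsClosedImmersion ι.left ∧ Smooth Z.hom ∧ QuasiCompact Z.hom ∧ QuasiSeparated Z.hom := by
  have hσ : ∀ g h : G, (ρ (g * h)).hom.left = (ρ h).hom.left ≫ (ρ g).hom.left := fun g h => by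
    rw [map_mul]; rfl
  have hσ1 : (ρ 1).hom.left = 𝟙 X.left := by rw [map_one]; rfl
  have hσp : ∀ g, (ρ g).hom.left ≫ X.hom = X.hom := fun g => Over.w (ρ g).hom
  obtain ⟨Z', i, hicl, hi, huniv⟩ := Groth.L19.AlgGrpBasic.exists_fixed X.hom (fun g => (ρ g).hom.left) hσp
  obtain ⟨w, hw, -⟩ := huniv Z.left ι.left fun g => congrArg CommaMorphism.left (hι g)
  have hfix' : ∀ g, (Over.homMk i rfl : Over.mk (i ≫ X.hom) ⟶ X) ≫ (ρ g).hom = Over.homMk i rfl :=
    fun g => Over.OverMorphism.ext (hi g)
  obtain ⟨t', ht', -⟩ := (hZ _ (Over.homMk i rfl : Over.mk (i ≫ X.hom) ⟶ X)).1 hfix'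
  have ht'l : t'.left ≫ ι.left = i := congrArg CommaMorphism.left ht'
  have h1 : t'.left ≫ w = 𝟙 Z' := by rw [← cancel_mono i, Category.assoc, hw, ht'l]; exact (Category.id_comp i).symm
  have hwp : w ≫ i ≫ X.hom = Z.hom := by rw [← Category.assoc, hw, Over.w]
  have h2 : w ≫ t'.left = 𝟙 Z.left := by
    let w' : Z ⟶ Over.mk (i ≫ X.hom) := Over.homMk w hwp
    obtain ⟨u, -, hu⟩ := (hZ Z ι).1 hι
    have e : w' ≫ t' = 𝟙 Z := (hu _ (by
      show (w' ≫ t') ≫ ι = ι
      rw [Category.assoc, ht']
      exact Over.OverMorphism.ext hw)).trans (hu _ (Category.id_comp ι)).symm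
    exact congrArg CommaMorphism.left e
  haveI : IsIso w := ⟨t'.left, h2, h1⟩
  haveI hcl : IsClosedImmersion ι.left := by rw [← hw]; infer_instance
  haveI : Smooth (i ≫ X.hom) := Groth.L19.FixedSmooth.smooth_fixed X.hom (fun g => (ρ g).hom.left) hσ1 hσ hσp
    hG i hi fun T x hx => (huniv T x hx).exists
  refine ⟨hcl, ?_, ?_, ?_⟩
  · rw [← hwp]; infer_instance
  · rw [← Over.w ι]; infer_instance
  · rw [← Over.w ι]; infer_instance

end Groth.Agent.S16212
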