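import Groth.Statements.S16213
import Groth.Agent.L24.St.Bootstrap2

set_option autoImplicit false
open CategoryTheory AlgebraicGeometry
universe u
open AlgSt

namespace Groth.Agent.S16213

/-- Let S be a scheme, let 𝒳 and 𝒴 be stacks in groupoids over (Sch/S) for the fppf topology with 𝒴 an
algebraic stack, and let f : 𝒳 ⟶ 𝒴 be a functor over (Sch/S). Suppose there are an algebraic space Z
over S and a functor z : Z ⟶ 𝒴 over (Sch/S) which is representable by algebraic spaces, smooth and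
surjective, such that the 2-fibre product Z ×_𝒴 𝒳 is an algebraic stack. Then 𝒳 is an algebraic
stack over S. -/
theorem result {S : Scheme.{u}} {𝒳 𝒴 : AlgSt.Cat S}
    (h𝒳 : Stk.IsStack (QuotSh.J Scheme.fppfPrecoverage S) 𝒳)
    (h𝒴 : AlgSt.IsAlgStack Scheme.fppfPrecoverage 𝒴) (f : 𝒳 ⥤ᵇ 𝒴)
    (Z : AlgSp.Space S) (z : AlgSt.ofSp Z.obj ⥤ᵇ 𝒴)
    (hsm : AlgSt.RepByAlgSpWith (AlgSp.LocP @Smooth) z)
    (hsurj : AlgSt.RepByAlgSpWith AlgSp.IsSurjectiveMor z)
    (hfp : AlgSt.IsAlgStack Scheme.fppfPrecoverage (FibCat.fp z f)) :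
    AlgSt.IsAlgStack Scheme.fppfPrecoverage 𝒳 := by
  obtain ⟨W, w, hw, hws⟩ := hfp.atlas
  have hg := Groth.L24.St.repWith_fpSnd f hsm
  refine Groth.L24.St.isAlgStack_of_atlas h𝒳 ⟨W, BasedFunctor.comp w (FibCat.fpSnd z f),
    Groth.L24.St.repWith_comp_locP Groth.L23.etLocal_smooth (Groth.L24.St.overCat_isFibGrpd W) hfp.isStack.1 hw hg, ?_⟩
  refine Groth.L24.St.repWith_surjective_of_isSurjective (Groth.L24.St.overCat_isFibGrpd W) h𝒳.1
    (Groth.L24.St.repWith_rep1 (Groth.L24.St.repWith_comp_locP Groth.L23.etLocal_smooth (Groth.L24.St.overCat_isFibGrpd W) hfp.isStack.1 hw hg)) ?_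
  exact Groth.L24.St.isSurjective_comp (Groth.L24.St.isSurjective_of_repWith (Groth.L24.St.overCat_isFibGrpd W) hfp.isStack.1 hws)
    (Groth.L24.St.isSurjective_of_repWith hfp.isStack.1 h𝒳.1 (Groth.L24.St.repWith_fpSnd f hsurj))

end Groth.Agent.S16213
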