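import Groth.Statements.S16215
import Groth.Agent.L26.Elliptic.Deform
import Groth.Agent.L24.Hensel.Lift
import Mathlib.RingTheory.Henselian

set_option autoImplicit false
universe u
open CategoryTheory CategoryTheory.Limits AlgebraicGeometry
open PtDefo

namespace Groth.Agent.S16215

set_option backward.isDefEq.respectTransparency false
open Groth.Agent.Elliptic

theorem isAdicComplete_maximalIdeal {R : Type u} [CommRing R] [IsLocalRing R]
    (hn : IsNilpotent (IsLocalRing.maximalIdeal R)) : IsAdicComplete (IsLocalRing.maximalIdeal R) R := by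
  obtain ⟨n, hn⟩ := hn
  refine { haus' := fun a ha => ?_, prec' := fun a ha => ⟨a n, fun m => ?_⟩ }
  · have h := ha n
    rwa [hn, Ideal.zero_eq_bot, Submodule.bot_smul, SModEq.bot] at h
  · rcases le_total m n with h | h
    · exact ha h
    · have h' := ha h
      rw [hn, Ideal.zero_eq_bot, Submodule.bot_smul, SModEq.bot] at h'
      rw [h']

/-- Let k be an algebraically closed field of characteristic neither 2 nor 3, C a smooth proper integral
curve of genus one over k and P a rational point of C. For every local Artinian k-algebra A with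
residue field k the forgetful map, from isomorphism classes of deformations of the pointed curve (C,
P) over A (deformations of C over A with a section through P) to isomorphism classes of deformations
of C over A, is surjective. (The characteristic assumption is the standing one of the source's
section and plays no role.) -/
theorem result
    {k : Type u} [Field k] [IsAlgClosed k] (h2 : (2 : k) ≠ 0) (h3 : (3 : k) ≠ 0)
    (X : Scheme.{u}) [X.Over (Spec (CommRingCat.of k))]
    (hX : Curve.IsSmoothProperCurve k X (X ↘ Spec (CommRingCat.of k))) (hg : Curv2.genus k X = 1)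
    (P : Spec (CommRingCat.of k) ⟶ X) (hP : P ≫ (X ↘ Spec (CommRingCat.of k)) = 𝟙 _)
    (A : ArtFun.Art k k) :
    Function.Surjective ((PtDefo.forgetPts (Λ := k) X (X ↘ Spec (CommRingCat.of k)) (fun _ : PUnit.{u + 1} => P)).app A) := by
  have key : ∀ (x : X ⟶ ArtFun.Art.specPt k), P ≫ x = 𝟙 _ → IsProper x → Smooth x →
      Function.Surjective ((PtDefo.forgetPts (Λ := k) X x (fun _ : PUnit.{u + 1} => P)).app A) := by
    intro x hPx _ _ b
    induction b using Quotient.inductionOn with
    | h ξ =>
    haveI := smooth_f ξ
    haveI := isAdicComplete_maximalIdeal (Groth.L12.isNilpotent_maximalIdeal A)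
    haveI : HenselianRing A (IsLocalRing.maximalIdeal A) := IsAdicComplete.henselianRing _ _
    have hker : IsLocalRing.maximalIdeal A = RingHom.ker A.res.toRingHom :=
      Ideal.ext fun a => (A.mem_maximalIdeal_iff a).trans RingHom.mem_ker.symm
    let e : (A ⧸ IsLocalRing.maximalIdeal A) ≃+* k :=
      (Ideal.quotEquivOfEq hker).trans (RingHom.quotientKerEquivOfSurjective A.res_surjective)
    let ε : Spec (CommRingCat.of k) ≅ Spec (CommRingCat.of (A ⧸ IsLocalRing.maximalIdeal A)) :=
      Scheme.Spec.mapIso e.toCommRingCatIso.op
    have hε : ε.hom ≫ Spec.map (CommRingCat.ofHom (Ideal.Quotient.mk (IsLocalRing.maximalIdeal A))) =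
        ArtFun.Art.specRes A := by
      show Spec.map _ ≫ _ = _
      rw [← Spec.map_comp]
      rfl
    obtain ⟨s, hs₁, hs₂⟩ := Groth.L24.Hensel.exists_section_of_smooth (IsLocalRing.maximalIdeal.isMaximal A).ne_top
      ξ.f (ε.inv ≫ P ≫ ξ.i) (by
        rw [Category.assoc, Category.assoc, ξ.isPullback.w, ← Category.assoc P, hPx, Category.id_comp, ← hε,
          Iso.inv_hom_id_assoc])
    refine ⟨DefSch.cl { toDefSch := ξ, sect := fun _ => s, sect_f := fun _ => hs₁, pt_sect := fun _ => ?_ }, rfl⟩
    rw [← hε, Category.assoc, hs₂, Iso.hom_inv_id_assoc]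
  exact key _ hP hX.1 hX.2.1

end Groth.Agent.S16215
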