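import Groth.Statements.S16216
import Groth.Agent.L26.Elliptic.Deform
import Groth.Agent.L26.Elliptic.FieldCase
import Groth.Agent.L26.AbDual.Primitive
import Groth.Agent.L14.DefLift.SchGlue

set_option autoImplicit false
universe u
open CategoryTheory CategoryTheory.Limits AlgebraicGeometry
open PtDefo

namespace Groth.Agent.S16216

set_option backward.isDefEq.respectTransparency false
open Groth.Agent.Elliptic CartesianMonoidalCategory MonoidalCategory MonObj

/-- Two sections are exchanged by a translation fixing the points where they agree. -/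
theorem exists_translation {E S : Scheme.{u}} (f : E ⟶ S) [IsProper f] [SmoothOfRelativeDimension 1 f]
    [GeometricallyConnected f] (hg : Genus1 f) (σ τ : S ⟶ E) (hσ : σ ≫ f = 𝟙 S) (hτ : τ ≫ f = 𝟙 S) :
    ∃ t : E ⟶ E, t ≫ f = f ∧ σ ≫ t = τ ∧
      ∀ {W : Scheme.{u}} (a : W ⟶ E), (a ≫ f) ≫ σ = (a ≫ f) ≫ τ → a ≫ t = a := by
  letI := (commGrp σ hσ hg).toGrpObj
  let c : 𝟙_ (Over S) ⟶ Over.mk f := Over.homMk τ hτ
  let φ : Over.mk f ⟶ Over.mk f := 𝟙 _ * (toUnit _ ≫ c)
  have hone : ∀ T : Over S, (1 : T ⟶ Over.mk f) = toUnit T ≫ origin (𝟙_ (Over S)) σ hσ := fun T => by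
    rw [← one_eq σ hσ hg]
    rfl
  refine ⟨φ.left, Over.w φ, ?_, fun {W} a ha => ?_⟩
  · have h : origin (𝟙_ (Over S)) σ hσ ≫ φ = c := by
      rw [MonObj.comp_mul, Category.comp_id, ← Category.assoc, toUnit_unique (origin _ σ hσ ≫ toUnit _) (𝟙 _),
        Category.id_comp]
      have h1 := hone (𝟙_ (Over S))
      rw [toUnit_unique (toUnit (𝟙_ (Over S))) (𝟙 _), Category.id_comp] at h1
      rw [← h1, _root_.one_mul]
    have h' := congrArg CommaMorphism.left h
    simpa [c, origin] using h'
  · let a' : Over.mk (a ≫ f) ⟶ Over.mk f := Over.homMk a rfl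
    have h : a' ≫ φ = a' := by
      rw [MonObj.comp_mul, Category.comp_id, ← Category.assoc, toUnit_unique (a' ≫ toUnit _) (toUnit _)]
      rw [show toUnit (Over.mk (a ≫ f)) ≫ c = (1 : Over.mk (a ≫ f) ⟶ Over.mk f) from ?_, _root_.mul_one]
      rw [hone]
      apply Over.OverMorphism.ext
      simpa [c, origin] using ha.symm
    exact congrArg CommaMorphism.left h

/-- Let k be an algebraically closed field of characteristic neither 2 nor 3, C a smooth proper integral
curve of genus one over k and P a rational point of C. For every local Artinian k-algebra A with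
residue field k the forgetful map, from isomorphism classes of deformations of the pointed curve (C,
P) over A (deformations of C over A with a section through P) to isomorphism classes of deformations
of C over A, is injective: two sections through P of one deformation of C over A are exchanged by an
automorphism of that deformation inducing the identity on C. Genus one is essential here; for genus
at least two it fails. (The characteristic assumption is the standing one of the source's section
and plays no role.) -/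
theorem result
    {k : Type u} [Field k] [IsAlgClosed k] (h2 : (2 : k) ≠ 0) (h3 : (3 : k) ≠ 0)
    (X : Scheme.{u}) [X.Over (Spec (CommRingCat.of k))]
    (hX : Curve.IsSmoothProperCurve k X (X ↘ Spec (CommRingCat.of k))) (hg : Curv2.genus k X = 1)
    (P : Spec (CommRingCat.of k) ⟶ X) (hP : P ≫ (X ↘ Spec (CommRingCat.of k)) = 𝟙 _)
    (A : ArtFun.Art k k) :
    Function.Injective ((PtDefo.forgetPts (Λ := k) X (X ↘ Spec (CommRingCat.of k)) (fun _ : PUnit.{u + 1} => P)).app A) := by
  have key : ∀ (x : X ⟶ ArtFun.Art.specPt k), IsProper x → Smooth x → IsIntegral X → topologicalKrullDim X = 1 →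
      @Curv2.genus k _ X ⟨x⟩ = 1 → Function.Injective ((PtDefo.forgetPts (Λ := k) X x (fun _ : PUnit.{u + 1} => P)).app A) := by
    intro x _ _ _ hdim hgen
    haveI := Groth.Agent.AbDualLib.geometricallyConnected_of_algClosed x
    obtain ⟨hsm, hg₀⟩ := relDim_one_and_genus1 x hdim hgen
    haveI := hsm
    intro a b hab
    induction a using Quotient.inductionOn with
    | h ξ =>
    induction b using Quotient.inductionOn with
    | h ξ' =>
    obtain ⟨e⟩ := Quotient.exact hab
    haveI := isProper_f ξ'.toDefSch
    haveI := smoothOfRelativeDimension_f ξ'.toDefSch hdim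
    haveI := geometricallyConnected_f ξ'.toDefSch
    let σ := ξ.sect PUnit.unit ≫ e.iso.hom
    have hσ : σ ≫ ξ'.f = 𝟙 _ := by
      simp only [σ, Category.assoc, e.hom_f, ξ.sect_f]
    obtain ⟨t, ht₁, ht₂, ht₃⟩ := exists_translation ξ'.f (genus1_f ξ'.toDefSch hdim hg₀) σ
      (ξ'.sect PUnit.unit) hσ (ξ'.sect_f PUnit.unit)
    have hti : ξ'.i ≫ t = ξ'.i := ht₃ _ (by
      rw [ξ'.isPullback.w, Category.assoc, Category.assoc, ← ξ'.pt_sect]
      simp only [σ]
      rw [← Category.assoc (ArtFun.Art.specRes A), ← ξ.pt_sect, Category.assoc, e.i_hom])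
    haveI := Groth.L14.DefLift.isIso_of_hom t ht₁ hti
    refine Quotient.sound ⟨⟨e.trans ⟨asIso t, ht₁, hti⟩, fun j => ?_⟩⟩
    show ξ.sect j ≫ (e.iso ≪≫ asIso t).hom = ξ'.sect j
    rw [Iso.trans_hom, asIso_hom, ← Category.assoc]
    exact ht₂
  exact key _ hX.1 hX.2.1 hX.2.2.1 hX.2.2.2 hg

end Groth.Agent.S16216
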