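import Groth.Statements.S16218
import Groth.Agent.L21.P1Fam.Moduli

set_option autoImplicit false
set_option backward.isDefEq.respectTransparency false
set_option linter.style.haveILetI false
universe u
open CategoryTheory CategoryTheory.Limits AlgebraicGeometry
open Curves

namespace Groth.Agent.S16218

/-- Let k be an algebraically closed field. For the moduli problem of curves of genus 0 over k-schemes
(smooth proper geometrically irreducible morphisms whose geometric fibres are one-dimensional of
genus 0, up to isomorphism over the base), the point M = Spec k with the morphism φ sending each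
family over T to the structure morphism of T satisfies: (b) every morphism ψ from the problem to a
functor of points h_N, both taken on test schemes of finite type over k, factors as φ followed by a
unique k-morphism Spec k → N; and (a) φ is bijective on geometric points: over every algebraically
closed field Ω over k there is a family of genus-0 curves over Spec Ω and any two are isomorphic. In
particular Spec k is a coarse moduli scheme for curves of genus 0 in this sense (universal property
for test schemes of finite type over k), and the family over Spec k in (a) is a tautological family.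
(The published statement asserts the universal property (b) for all k-schemes as test schemes and
for families projective over the base; its proof treats test schemes of finite type over k,
indicating the general case only in outline, so (b) is stated for finite-type test schemes here, and
properness replaces projectivity, which changes nothing in the argument. Since Spec k is terminal
among k-schemes, φ is unique and is quantified existentially.) -/
theorem result
    {k : Type u} [Field k] [IsAlgClosed k] :
    ∃ φ : (ModFun.Mg (Spec (CommRingCat.of k)) 0).Hom ⊤ (Over.mk (𝟙 (Spec (CommRingCat.of k)))),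
      ModFun.IsBestApprox
          (fun T : Over (Spec (CommRingCat.of k)) => LocallyOfFiniteType T.hom ∧ QuasiCompact T.hom)
          (ModFun.Mg (Spec (CommRingCat.of k)) 0) (Over.mk (𝟙 (Spec (CommRingCat.of k)))) (φ.ofLE le_top) ∧
        ModFun.GeomBij (ModFun.Mg (Spec (CommRingCat.of k)) 0) (Over.mk (𝟙 (Spec (CommRingCat.of k)))) φ := by
  let pt : Over (Spec (CommRingCat.of k)) := Over.mk (𝟙 _)
  let line : Over pt.left := Over.mk (CohB1.ProjSpace.toSpec 1 k)
  have hline : (ModFun.Mg (Spec (CommRingCat.of k)) 0).ok pt line :=
    ⟨trivial, Groth.L21.P1Fam.isCurveOfGenus_projSpace k⟩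
  have hterm : ∀ (T : Over (Spec (CommRingCat.of k))) (a b : T ⟶ pt), a = b := fun T a b =>
    Over.OverMorphism.ext (by
      have h1 := Over.w a
      have h2 := Over.w b
      simp only [pt, Over.mk_hom] at h1 h2
      erw [Category.comp_id] at h1 h2
      exact h1.trans h2.symm)
  refine ⟨{ app := fun T _ _ _ => Over.homMk T.hom (Category.comp_id _)
            natural := fun g x _ _ _ _ => hterm _ _ _
            resp := fun _ _ _ _ _ _ => hterm _ _ _ }, fun N ψ => ?_, fun Ω _ _ t hP => ⟨fun g => ?_, ?_⟩⟩
  · have hpt : LocallyOfFiniteType pt.hom ∧ QuasiCompact pt.hom :=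
      ⟨inferInstanceAs (LocallyOfFiniteType (𝟙 _)), inferInstanceAs (QuasiCompact (𝟙 _))⟩
    refine ⟨ψ.app pt line hpt hline, fun T x hT hx => ?_, fun f hf => ?_⟩
    · apply Over.OverMorphism.ext
      haveI : Smooth x.hom := hx.2.1
      haveI : IsProper x.hom := hx.2.2.1
      haveI := Groth.L21.P1Fam.geometricallyConnected_of_irreducible x.hom (h := hx.2.2.2.1)
      haveI : Surjective x.hom := inferInstance
      haveI : Epi x.hom := Flat.epi_of_flat_of_surjective x.hom
      rw [← cancel_epi x.hom]
      choose V hV hc e he using Groth.L21.P1Fam.exists_local_line x.hom hx.2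
      refine (Scheme.openCoverOfIsOpenCover _ V (top_le_iff.1 fun c _ =>
        TopologicalSpace.Opens.mem_iSup.2 ⟨c, hc c⟩)).hom_ext _ _ fun c => ?_
      show (V c).ι ≫ _ = (V c).ι ≫ _
      rw [← cancel_epi (hV c).isoSpec.inv, IsAffineOpen.isoSpec_inv_ι_assoc, IsAffineOpen.isoSpec_inv_ι_assoc]
      let a := (hV c).fromSpec ≫ x.hom
      let T' : Over (Spec (CommRingCat.of k)) := Over.mk (a ≫ T.hom)
      let g : T' ⟶ T := Over.homMk a rfl
      haveI : LocallyOfFiniteType T.hom := hT.1
      haveI : QuasiCompact T.hom := hT.2
      haveI : QuasiCompact a := by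
        haveI : IsAffine (V c).toScheme := hV c
        haveI : QuasiCompact (V c).ι := by
          haveI : IsLocallyNoetherian T.left := LocallyOfFiniteType.isLocallyNoetherian T.hom
          haveI : IsLocallyNoetherian x.left := LocallyOfFiniteType.isLocallyNoetherian x.hom
          infer_instance
        show QuasiCompact ((hV c).fromSpec ≫ x.hom)
        rw [← (hV c).isoSpec_inv_ι]
        infer_instance
      have hT' : LocallyOfFiniteType T'.hom ∧ QuasiCompact T'.hom :=
        ⟨inferInstanceAs (LocallyOfFiniteType (a ≫ T.hom)), inferInstanceAs (QuasiCompact (a ≫ T.hom))⟩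
      let h : T' ⟶ pt := Over.homMk T'.hom (Category.comp_id _)
      have hok : (ModFun.Mg (Spec (CommRingCat.of k)) 0).ok T' ((ModFun.Mg (Spec (CommRingCat.of k)) 0).pull g x) :=
        ⟨trivial, Groth.L21.P1Fam.isCurveOfGenus_baseChange hx.2 (IsPullback.of_hasPullback x.hom g.left)⟩
      have hok' : (ModFun.Mg (Spec (CommRingCat.of k)) 0).ok T' ((ModFun.Mg (Spec (CommRingCat.of k)) 0).pull h line) :=
        ⟨trivial, Groth.L21.P1Fam.isCurveOfGenus_baseChange hline.2 (IsPullback.of_hasPullback line.hom h.left)⟩
      have sq := Groth.L16.ProjSpace.isPullback_map 1 (Spec.preimage T'.hom).hom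
      rw [show CommRingCat.ofHom (Spec.preimage T'.hom).hom = Spec.preimage T'.hom from rfl, Spec.map_preimage] at sq
      let x' : Over T.left := x
      have sq' : IsPullback (Limits.pullback.fst line.hom h.left) (Limits.pullback.snd line.hom h.left)
          (CohB1.ProjSpace.toSpec 1 ↑(CommRingCat.of k)) T'.hom := IsPullback.of_hasPullback line.hom h.left
      let i₀ := e c ≪≫ sq.isoIsPullback _ _ sq'
      have hi₀ : i₀.hom ≫ Limits.pullback.snd line.hom h.left = Limits.pullback.snd x'.hom g.left := by
        refine (Category.assoc _ _ _).trans ?_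
        exact (congrArg ((e c).hom ≫ ·) (IsPullback.isoIsPullback_hom_snd _ _ sq sq')).trans (he c)
      have hr : Nonempty ((Over.pullback g.left).obj x' ≅ (Over.pullback h.left).obj line) :=
        ⟨Over.isoMk i₀ hi₀⟩
      have key := ψ.resp _ _ hT' hok hok' hr
      rw [ψ.natural g x hT hT' hx hok, ψ.natural h line hpt hT' hline hok'] at key
      have key' := congrArg CommaMorphism.left key
      simp only [Over.comp_left] at key' ⊢
      exact (Category.assoc _ _ _).symm.trans (key'.trans (by simp [h, T', a, Category.assoc]; rfl))
    · have h := hf pt line hpt hline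
      refine Eq.trans ?_ h.symm
      exact ((congrArg (· ≫ f) (hterm pt _ (𝟙 pt))).trans (Category.id_comp f)).symm
  · exact ⟨Over.mk (CohB1.ProjSpace.toSpec 1 Ω), ⟨trivial, Groth.L21.P1Fam.isCurveOfGenus_projSpace Ω⟩, hterm _ _ _⟩
  · intro x y hx hy _
    obtain ⟨e, he⟩ := Groth.L21.P1Fam.exists_iso_line Ω x.hom hx.2
    obtain ⟨e', he'⟩ := Groth.L21.P1Fam.exists_iso_line Ω y.hom hy.2
    exact ⟨Over.isoMk (e ≪≫ e'.symm) (by rw [Iso.trans_hom, Category.assoc, ← he', Iso.symm_hom, Iso.inv_hom_id_assoc, he])⟩

end Groth.Agent.S16218
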