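import Groth.Statements.S16219
import Mathlib.AlgebraicGeometry.Morphisms.UnderlyingMap
import Mathlib.AlgebraicGeometry.Morphisms.FiniteType
import Mathlib.AlgebraicGeometry.Morphisms.Separated
import Mathlib.RingTheory.Localization.Away.Basic

set_option autoImplicit false
universe u
open Lim

namespace Groth.Agent.S16219

section Helpers

open AlgebraicGeometry CategoryTheory TopologicalSpace

variable {A C : Type u} [CommRing A] [CommRing C] [Algebra A C]

/-- The projection to the spectrum of a subalgebra. -/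
noncomputable abbrev proj (B : Subalgebra A C) : Spec (CommRingCat.of C) ⟶ Spec (CommRingCat.of B) :=
  Spec.map (CommRingCat.ofHom B.val.toRingHom)

/-- The transition map. -/
noncomputable abbrev trans {B B' : Subalgebra A C} (h : B ≤ B') :
    Spec (CommRingCat.of B') ⟶ Spec (CommRingCat.of B) :=
  Spec.map (CommRingCat.ofHom (Subalgebra.inclusion h).toRingHom)

theorem proj_trans {B B' : Subalgebra A C} (h : B ≤ B') : proj B' ≫ trans h = proj B := by
  rw [← Spec.map_comp]; rfl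

variable {ι : Type u} (S : ι → Subalgebra A C) (hdir : Directed (· ≤ ·) S)

theorem mem_map_inclusion {B B₁ B₂ : Subalgebra A C} (I : Ideal B) (h₁ : B ≤ B₁) (h₂ : B₁ ≤ B₂) {x : B₁}
    (hx : x ∈ I.map (Subalgebra.inclusion h₁)) :
    Subalgebra.inclusion h₂ x ∈ I.map (Subalgebra.inclusion (h₁.trans h₂)) :=
  (Ideal.map_le_iff_le_comap.2 fun y hy => Ideal.mem_map_of_mem (Subalgebra.inclusion (h₁.trans h₂)) hy :
    I.map (Subalgebra.inclusion h₁) ≤ (I.map (Subalgebra.inclusion (h₁.trans h₂))).comap (Subalgebra.inclusion h₂)) hx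

include hdir in
theorem exists_stage_subset (hcov : ∀ c : C, ∃ i, c ∈ S i) {i : ι} (Z O : (Spec (CommRingCat.of (S i))).Opens)
    (hZ : IsCompact (Z : Set (Spec (CommRingCat.of (S i))))) (h : proj (S i) ⁻¹ᵁ Z ≤ proj (S i) ⁻¹ᵁ O) :
    ∃ (i' : ι) (hi : S i ≤ S i'), trans hi ⁻¹ᵁ Z ≤ trans hi ⁻¹ᵁ O := by
  classical
  obtain ⟨Ic, hIc⟩ := (PrimeSpectrum.isClosed_iff_zeroLocus_ideal _).1 (O.isOpen.isClosed_compl)
  obtain ⟨s, hs'⟩ := PrimeSpectrum.isCompact_isOpen_iff.1 (And.intro hZ Z.isOpen)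
  have hsZ : (Z : Set (Spec (CommRingCat.of (S i)))) = (PrimeSpectrum.zeroLocus (s : Set (S i)))ᶜ := hs'.symm
  have hpow : ∀ c ∈ s, ∃ (i' : ι) (hi : S i ≤ S i'), Subalgebra.inclusion hi c ∈
      (Ic.map (Subalgebra.inclusion hi)).radical := by
    intro c hc
    have hmem : (S i).val c ∈ (Ic.map (S i).val).radical := by
      rw [Ideal.radical_eq_sInf, Ideal.mem_sInf]
      rintro P ⟨hP, hPp⟩
      by_contra hcP
      let p : PrimeSpectrum C := ⟨P, hPp⟩
      have hpZ : p ∈ proj (S i) ⁻¹ᵁ Z := by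
        show PrimeSpectrum.comap (S i).val.toRingHom p ∈ (Z : Set (Spec (CommRingCat.of (S i))))
        rw [hsZ]
        exact fun hh => hcP (hh hc)
      have hpO : PrimeSpectrum.comap (S i).val.toRingHom p ∉ PrimeSpectrum.zeroLocus (Ic : Set (S i)) := by
        rw [← hIc]; exact fun hh => hh (h hpZ)
      exact hpO fun x hx => hP (Ideal.mem_map_of_mem _ hx)
    obtain ⟨n, hn⟩ := hmem
    suffices ∀ z ∈ Ic.map (S i).val, ∃ (i' : ι) (hi : S i ≤ S i') (z' : S i'),
        z' ∈ Ic.map (Subalgebra.inclusion hi) ∧ (z' : C) = z by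
      obtain ⟨i', hi, z', hz', hzz⟩ := this _ hn
      refine ⟨i', hi, n, ?_⟩
      rwa [show (Subalgebra.inclusion hi c) ^ n = z' from Subtype.ext (by simpa using hzz.symm)]
    intro z hz
    refine Submodule.span_induction ?_ ?_ ?_ ?_ hz
    · rintro _ ⟨x, hx, rfl⟩
      exact ⟨i, le_rfl, x, Ideal.mem_map_of_mem (Subalgebra.inclusion (le_refl (S i))) hx, rfl⟩
    · exact ⟨i, le_rfl, 0, Ideal.zero_mem _, rfl⟩
    · rintro x y - - ⟨a, ha, x', hx', rfl⟩ ⟨b, hb, y', hy', rfl⟩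
      obtain ⟨d, hd, hd'⟩ := hdir a b
      refine ⟨d, ha.trans hd, Subalgebra.inclusion hd x' + Subalgebra.inclusion hd' y', Ideal.add_mem _ ?_ ?_, rfl⟩
      · exact mem_map_inclusion Ic ha hd hx'
      · exact mem_map_inclusion Ic hb hd' hy'
    · rintro r x - ⟨a, ha, x', hx', rfl⟩
      obtain ⟨b, hb⟩ := hcov r
      obtain ⟨d, hd, hd'⟩ := hdir a b
      refine ⟨d, ha.trans hd, (⟨r, hd' hb⟩ : S d) * Subalgebra.inclusion hd x', Ideal.mul_mem_left _ _ ?_, rfl⟩
      exact mem_map_inclusion Ic ha hd hx'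
  choose st hst hrad using hpow
  haveI : Nonempty ι := ⟨i⟩
  haveI : IsTrans ι (fun a b => S a ≤ S b) := ⟨fun _ _ _ => le_trans⟩
  let T : Finset ι := insert i (s.attach.image fun c => st c.1 c.2)
  obtain ⟨i', hi'⟩ := Directed.finset_le (r := fun a b => S a ≤ S b) (f := id) (fun a b => hdir a b) T
  have hi : S i ≤ S i' := hi' i (Finset.mem_insert_self _ _)
  refine ⟨i', hi, fun q hq => ?_⟩
  change PrimeSpectrum.comap (Subalgebra.inclusion hi).toRingHom q ∈ (Z : Set (Spec (CommRingCat.of (S i)))) at hq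
  rw [hsZ] at hq
  by_contra hqO
  have hqI : PrimeSpectrum.comap (Subalgebra.inclusion hi).toRingHom q ∈ PrimeSpectrum.zeroLocus (Ic : Set (S i)) := by
    rw [← hIc]; exact hqO
  refine hq fun c hc => ?_
  have hci : S (st c hc) ≤ S i' :=
    hi' _ (Finset.mem_insert_of_mem (Finset.mem_image.2 ⟨⟨c, hc⟩, Finset.mem_attach _ _, rfl⟩))
  obtain ⟨n, hn⟩ := hrad c hc
  have h1 := mem_map_inclusion Ic (hst c hc) hci hn
  rw [map_pow] at h1
  have h2 : (Subalgebra.inclusion hi c) ^ n ∈ q.asIdeal :=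
    (Ideal.map_le_iff_le_comap.2 fun x hx => hqI hx) h1
  exact q.isPrime.mem_of_pow_mem n h2

variable [IsDomain C]

theorem isDominant_proj (B : Subalgebra A C) : IsDominant (proj B) :=
  ⟨PrimeSpectrum.denseRange_comap_iff_ker_le_nilRadical B.val.toRingHom |>.2
    (by rw [(RingHom.injective_iff_ker_eq_bot _).1 Subtype.val_injective]; exact bot_le)⟩

variable {S}

include hdir in
theorem exists_local (hcov : ∀ c : C, ∃ i, c ∈ S i) {X : Scheme.{u}} (f : X ⟶ Spec (CommRingCat.of A))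
    [LocallyOfFiniteType f] (g : Spec (CommRingCat.of C) ⟶ X)
    (hg : g ≫ f = Spec.map (CommRingCat.ofHom (algebraMap A C))) (p : Spec (CommRingCat.of C)) :
    ∃ (Wc : (Spec (CommRingCat.of C)).Opens) (i : ι), p ∈ Wc ∧ ∀ j, S i ≤ S j →
      ∃ (V : (Spec (CommRingCat.of (S j))).Opens) (h : (V : Scheme.{u}) ⟶ X),
        proj (S j) ⁻¹ᵁ V = Wc ∧ IsCompact (V : Set (Spec (CommRingCat.of (S j)))) ∧
        h ≫ f = V.ι ≫ Spec.map (CommRingCat.ofHom (algebraMap A (S j))) ∧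
        (proj (S j) ∣_ V) ≫ h = (proj (S j) ⁻¹ᵁ V).ι ≫ g := by
  classical
  obtain ⟨U, hU, hpU, -⟩ := exists_isAffineOpen_mem_and_subset (x := g p) (U := ⊤) trivial
  obtain ⟨_, ⟨e, rfl⟩, hpe, heU⟩ := PrimeSpectrum.isBasis_basic_opens.exists_subset_of_mem_open
    (show p ∈ ((g ⁻¹ᵁ U : (Spec (CommRingCat.of C)).Opens) : Set _) from hpU) (g ⁻¹ᵁ U).isOpen
    |> fun ⟨v, hv, h1, h2⟩ => (by obtain ⟨_, ⟨e, rfl⟩, rfl⟩ := hv; exact ⟨_, ⟨e, rfl⟩, h1, h2⟩ :
      ∃ v ∈ Set.range (fun e : C => (PrimeSpectrum.basicOpen e : Set (PrimeSpectrum C))), p ∈ v ∧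
        v ⊆ ((g ⁻¹ᵁ U : (Spec (CommRingCat.of C)).Opens) : Set (Spec (CommRingCat.of C))))
  have he0 : e ≠ 0 := by
    rintro rfl
    exact hpe (Ideal.zero_mem _)
  let Ce := Localization.Away e
  let Jc : Spec (CommRingCat.of Ce) ⟶ Spec (CommRingCat.of C) := Spec.map (CommRingCat.ofHom (algebraMap C Ce))
  haveI : IsOpenImmersion Jc := IsOpenImmersion.of_isLocalization e
  have hJc : Set.range Jc = (PrimeSpectrum.basicOpen e : Set (PrimeSpectrum C)) :=
    PrimeSpectrum.localization_away_comap_range Ce e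
  have hr : Set.range (Jc ≫ g) ⊆ Set.range hU.fromSpec := by
    rw [hU.range_fromSpec]
    rintro _ ⟨t, rfl⟩
    exact heU (hJc ▸ ⟨t, rfl⟩ : Jc t ∈ (PrimeSpectrum.basicOpen e : Set (PrimeSpectrum C)))
  let φ : Γ(X, U) ⟶ CommRingCat.of Ce := Spec.preimage (IsOpenImmersion.lift hU.fromSpec (Jc ≫ g) hr)
  let θ : CommRingCat.of A ⟶ Γ(X, U) := Spec.preimage (hU.fromSpec ≫ f)
  have hθ : θ.hom.FiniteType := by
    rw [← HasRingHomProperty.Spec_iff (P := @LocallyOfFiniteType), Spec.map_preimage]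
    infer_instance
  have hφθ : θ ≫ φ = CommRingCat.ofHom (algebraMap A Ce) := by
    refine Spec.map_injective ?_
    rw [Spec.map_comp, Spec.map_preimage, Spec.map_preimage, IsOpenImmersion.lift_fac_assoc, Category.assoc, hg,
      IsScalarTower.algebraMap_eq A C Ce, CommRingCat.ofHom_comp, Spec.map_comp]
  algebraize [θ.hom]
  obtain ⟨gen, hgen⟩ := Algebra.FiniteType.out (R := A) (A := Γ(X, U))
  let φA : Γ(X, U) →ₐ[A] Ce := { φ.hom with commutes' := fun a => congr($hφθ a) }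
  have hnum : ∀ b : Γ(X, U), ∃ (c : C) (n : ℕ), φA b * algebraMap C Ce e ^ n = algebraMap C Ce c := fun b => by
    obtain ⟨n, c, hc⟩ := IsLocalization.Away.surj e (φA b)
    exact ⟨c, n, hc⟩
  choose num expo hnum using hnum
  choose st hst using hcov
  haveI : Nonempty ι := ⟨st 0⟩
  haveI : IsTrans ι (fun a b => S a ≤ S b) := ⟨fun _ _ _ => le_trans⟩
  obtain ⟨i, hi⟩ := Directed.finset_le (r := fun a b => S a ≤ S b) (f := id) (fun a b => hdir a b)
    (insert (st e) (gen.image fun b => st (num b)))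
  refine ⟨PrimeSpectrum.basicOpen e, i, hpe, fun j hij => ?_⟩
  have hej : e ∈ S j := hij (hi _ (Finset.mem_insert_self _ _) (hst e))
  let ej : S j := ⟨e, hej⟩
  let Bj := Localization.Away ej
  haveI hloc' : IsLocalization.Away ((S j).val.toRingHom ej) Ce := inferInstanceAs (IsLocalization.Away e Ce)
  let Mr : Bj →+* Ce := IsLocalization.Away.map Bj Ce (S j).val.toRingHom ej
  have hMr : ∀ x, Mr (algebraMap (S j) Bj x) = algebraMap C Ce x.1 := fun x => IsLocalization.map_eq _ x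
  have hMinj : Function.Injective Mr := IsLocalization.map_injective_of_injective' _ _ _ _
    (by rintro ⟨n, hn⟩; exact pow_ne_zero n he0 hn) Subtype.val_injective
  let M : Bj →ₐ[A] Ce := { Mr with
    commutes' := fun a => by
      show Mr (algebraMap A Bj a) = _
      rw [IsScalarTower.algebraMap_apply A (S j) Bj, hMr, IsScalarTower.algebraMap_apply A C Ce]
      rfl }
  have hrange : φA.range ≤ M.range := by
    rw [← Algebra.map_top, ← hgen, AlgHom.map_adjoin, Algebra.adjoin_le_iff]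
    rintro _ ⟨b, hb, rfl⟩
    have hnj : num b ∈ S j := hij (hi _ (Finset.mem_insert_of_mem (Finset.mem_image_of_mem _ hb)) (hst _))
    obtain ⟨u, hu⟩ := IsLocalization.Away.algebraMap_isUnit ej (S := Bj)
    refine ⟨algebraMap (S j) Bj ⟨num b, hnj⟩ * (↑(u⁻¹) : Bj) ^ expo b, ?_⟩
    have hue : Mr u = algebraMap C Ce e := by rw [hu, hMr]
    show Mr _ = φA b
    rw [map_mul, map_pow, hMr, ← hnum b, mul_assoc, ← mul_pow, ← hue, ← map_mul]
    simp
  let ψ : Γ(X, U) →ₐ[A] Bj :=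
    (AlgEquiv.ofInjective M hMinj).symm.toAlgHom.comp (φA.codRestrict M.range fun b => hrange ⟨b, rfl⟩)
  have hψ : ∀ b, M (ψ b) = φA b := fun b =>
    congrArg Subtype.val ((AlgEquiv.ofInjective M hMinj).apply_symm_apply ⟨φA b, hrange ⟨b, rfl⟩⟩)
  let Jj : Spec (CommRingCat.of Bj) ⟶ Spec (CommRingCat.of (S j)) :=
    Spec.map (CommRingCat.ofHom (algebraMap (S j) Bj))
  haveI : IsOpenImmersion Jj := IsOpenImmersion.of_isLocalization ej
  let V : (Spec (CommRingCat.of (S j))).Opens := PrimeSpectrum.basicOpen ej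
  have hJj : Set.range Jj = Set.range V.ι := by
    rw [Scheme.Opens.range_ι]; exact PrimeSpectrum.localization_away_comap_range Bj ej
  let κ := IsOpenImmersion.isoOfRangeEq Jj V.ι hJj
  let hh : (V : Scheme.{u}) ⟶ X := κ.inv ≫ Spec.map (CommRingCat.ofHom ψ.toRingHom) ≫ hU.fromSpec
  refine ⟨V, hh, rfl, PrimeSpectrum.isCompact_basicOpen ej, ?_, ?_⟩
  · rw [← cancel_epi κ.hom, IsOpenImmersion.isoOfRangeEq_hom_fac_assoc]
    simp only [hh, Category.assoc, Iso.hom_inv_id_assoc]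
    rw [← Spec.map_preimage (hU.fromSpec ≫ f), ← Spec.map_comp, ← Spec.map_comp]
    congr 1
    ext a
    show ψ (algebraMap A Γ(X, U) a) = algebraMap (S j) Bj (algebraMap A (S j) a)
    rw [AlgHom.commutes, ← IsScalarTower.algebraMap_apply]
  · have hJcV : Set.range Jc = Set.range (proj (S j) ⁻¹ᵁ V).ι := by
      rw [Scheme.Opens.range_ι]; exact hJc
    let l := IsOpenImmersion.isoOfRangeEq Jc (proj (S j) ⁻¹ᵁ V).ι hJcV
    rw [← cancel_epi l.hom, IsOpenImmersion.isoOfRangeEq_hom_fac_assoc]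
    have e1 : l.hom ≫ (proj (S j) ∣_ V) = Spec.map (CommRingCat.ofHom Mr) ≫ κ.hom := by
      rw [← cancel_mono V.ι, Category.assoc, Category.assoc, morphismRestrict_ι,
        IsOpenImmersion.isoOfRangeEq_hom_fac_assoc, IsOpenImmersion.isoOfRangeEq_hom_fac, ← Spec.map_comp,
        ← Spec.map_comp]
      congr 1
      ext x
      exact (hMr x).symm
    rw [reassoc_of% e1]
    simp only [hh, Iso.hom_inv_id_assoc]
    rw [← IsOpenImmersion.lift_fac hU.fromSpec (Jc ≫ g) hr, ← Spec.map_preimage (IsOpenImmersion.lift _ _ hr),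
      ← Spec.map_comp_assoc]
    congr 2
    ext b
    exact hψ b

end Helpers

open AlgebraicGeometry CategoryTheory in
/-- Let A be a commutative ring, X a scheme of finite type over Spec A (quasi-compact and locally of
finite type), C an A-algebra that is an integral domain and the union of a directed family of
A-subalgebras C_i, and g : Spec C → X an A-morphism. Then for some index i there is an A-morphism
Spec C_i → X whose composite with the morphism Spec C → Spec C_i induced by the inclusion is g. The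
published statement asserts that the map from the colimit of the sets of A-morphisms Spec C_i → X to
the set of A-morphisms Spec C → X is bijective; this row states only that it is surjective
(injectivity holds for every filtered colimit of A-algebras). -/
theorem result
    {ι : Type u} (A C : Type u) [CommRing A] [CommRing C] [Algebra A C] [IsDomain C]
    (S : ι → Subalgebra A C) (hdir : Directed (· ≤ ·) S) (hcov : ∀ c : C, ∃ i, c ∈ S i)
    (X : Scheme.{u}) (f : X ⟶ Spec (CommRingCat.of A))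
    [LocallyOfFiniteType f] [QuasiCompact f]
    (g : Spec (CommRingCat.of C) ⟶ X)
    (hg : g ≫ f = Spec.map (CommRingCat.ofHom (algebraMap A C))) :
    ∃ (i : ι) (g' : Spec (CommRingCat.of (S i)) ⟶ X),
      g' ≫ f = Spec.map (CommRingCat.ofHom (algebraMap A (S i))) ∧
      Spec.map (CommRingCat.ofHom (S i).val.toRingHom) ≫ g' = g := by
  classical
  haveI : CompactSpace X := QuasiCompact.compactSpace_of_compactSpace f
  choose Wc st hpW hloc using exists_local hdir hcov f g hg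
  obtain ⟨P, hP⟩ := CompactSpace.elim_nhds_subcover (fun p => (Wc p : Set (Spec (CommRingCat.of C))))
    (fun p => (Wc p).isOpen.mem_nhds (hpW p))
  obtain ⟨c₀, -⟩ := hcov 0
  haveI : Nonempty ι := ⟨c₀⟩
  haveI : IsTrans ι (fun a b => S a ≤ S b) := ⟨fun _ _ _ => le_trans⟩
  obtain ⟨i, hi⟩ := Directed.finset_le (r := fun a b => S a ≤ S b) (f := id) (fun a b => hdir a b)
    (P.image st)
  have hi' : ∀ k : P, S (st k.1) ≤ S i := fun k => hi _ (Finset.mem_image_of_mem _ k.2)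
  choose V h hpre hVc hhf hhg using fun k : P => hloc k.1 i (hi' k)
  let O : P → P → (Spec (CommRingCat.of (S i))).Opens := fun k l =>
    ⨆ U : {U : X.Opens // IsAffineOpen U}, ((V k).ι ''ᵁ ((h k) ⁻¹ᵁ U.1)) ⊓ ((V l).ι ''ᵁ ((h l) ⁻¹ᵁ U.1))
  have hO : ∀ k l, proj (S i) ⁻¹ᵁ (V k ⊓ V l) ≤ proj (S i) ⁻¹ᵁ O k l := by
    intro k l q hq
    obtain ⟨U, hU, hqU, -⟩ := exists_isAffineOpen_mem_and_subset (x := g q) (U := ⊤) trivial
    refine TopologicalSpace.Opens.mem_iSup.2 ⟨⟨U, hU⟩, ?_, ?_⟩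
    · refine ⟨(proj (S i) ∣_ V k) ⟨q, hq.1⟩, ?_, congrArg (fun m => (ConcreteCategory.hom m.base) ⟨q, hq.1⟩) (morphismRestrict_ι (proj (S i)) (V k))⟩
      show h k _ ∈ U
      rw [← Scheme.Hom.comp_apply, hhg k]; exact hqU
    · refine ⟨(proj (S i) ∣_ V l) ⟨q, hq.2⟩, ?_, congrArg (fun m => (ConcreteCategory.hom m.base) ⟨q, hq.2⟩) (morphismRestrict_ι (proj (S i)) (V l))⟩
      show h l _ ∈ U
      rw [← Scheme.Hom.comp_apply, hhg l]; exact hqU
  have hcovi : proj (S i) ⁻¹ᵁ (⊤ : (Spec (CommRingCat.of (S i))).Opens) ≤ proj (S i) ⁻¹ᵁ ⨆ k, V k := by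
    intro q _
    have hq : q ∈ ⋃ p ∈ P, (Wc p : Set (Spec (CommRingCat.of C))) := hP ▸ Set.mem_univ q
    simp only [Set.mem_iUnion] at hq
    obtain ⟨p, hp, hqp⟩ := hq
    exact TopologicalSpace.Opens.mem_iSup.2 ⟨⟨p, hp⟩, ((hpre ⟨p, hp⟩).symm ▸ hqp : q ∈ proj (S i) ⁻¹ᵁ V ⟨p, hp⟩)⟩
  obtain ⟨i₁, hi₁, hcov₁⟩ := exists_stage_subset S hdir hcov ⊤ (⨆ k, V k) isCompact_univ hcovi
  choose st₂ hst₂ hO₂ using fun kl : P × P => exists_stage_subset S hdir hcov (V kl.1 ⊓ V kl.2) (O kl.1 kl.2)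
    (QuasiSeparatedSpace.inter_isCompact _ _ (V kl.1).isOpen (hVc _) (V kl.2).isOpen (hVc _)) (hO kl.1 kl.2)
  obtain ⟨j, hj⟩ := Directed.finset_le (r := fun a b => S a ≤ S b) (f := id) (fun a b => hdir a b)
    (insert i₁ (Finset.univ.image st₂))
  have hj₁ : S i₁ ≤ S j := hj _ (Finset.mem_insert_self _ _)
  have hj₂ : ∀ kl, S (st₂ kl) ≤ S j := fun kl =>
    hj _ (Finset.mem_insert_of_mem (Finset.mem_image_of_mem _ (Finset.mem_univ kl)))
  have hij : S i ≤ S j := hi₁.trans hj₁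
  have htr : ∀ {B : Subalgebra A C} (h₁ : S i ≤ B) (h₂ : B ≤ S j), trans h₂ ≫ trans h₁ = trans hij :=
    fun h₁ h₂ => (Spec.map_comp _ _).symm
  let σ := trans hij
  let V' : P → (Spec (CommRingCat.of (S j))).Opens := fun k => σ ⁻¹ᵁ V k
  have hV' : ∀ z, ∃ k, z ∈ V' k := fun z => by
    have := hcov₁ (show trans hj₁ z ∈ trans hi₁ ⁻¹ᵁ ⊤ from trivial)
    obtain ⟨k, hk⟩ := TopologicalSpace.Opens.mem_iSup.1 this
    refine ⟨k, ?_⟩
    show σ z ∈ V k
    rwa [show σ z = trans hi₁ (trans hj₁ z) from by rw [← Scheme.Hom.comp_apply, htr]]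
  have hO' : ∀ k l z, z ∈ V' k → z ∈ V' l → σ z ∈ O k l := fun k l z hk hl => by
    have e : σ z = trans (hst₂ (k, l)) (trans (hj₂ (k, l)) z) := by rw [← Scheme.Hom.comp_apply, htr]
    have hkl : σ z ∈ V k ⊓ V l := ⟨hk, hl⟩
    rw [e] at hkl
    have := hO₂ (k, l) (show trans (hj₂ (k, l)) z ∈ trans (hst₂ (k, l)) ⁻¹ᵁ (V k ⊓ V l) from hkl)
    rw [e]; exact this
  let 𝒱 : (Spec (CommRingCat.of (S j))).OpenCover := Scheme.Cover.mkOfCovers P (fun k => (V' k).toScheme)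
    (fun k => (V' k).ι) (fun z => (hV' z).imp fun k hk => ⟨⟨z, hk⟩, rfl⟩) (fun _ => inferInstance)
  let a : ∀ k : P, (V' k).toScheme ⟶ X := fun k => (σ ∣_ V k) ≫ h k
  have hpr : proj (S j) ≫ σ = proj (S i) := proj_trans hij
  have hkey : ∀ (k : P) {D : Scheme.{u}} (d : D ⟶ Spec (CommRingCat.of C)) (d' : D ⟶ V' k),
      d' ≫ (V' k).ι = d ≫ proj (S j) → d' ≫ a k = d ≫ g := by
    intro k D d d' hd
    have hr : Set.range d ⊆ Set.range (proj (S i) ⁻¹ᵁ V k).ι := by
      rintro _ ⟨t, rfl⟩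
      rw [Scheme.Opens.range_ι]
      show proj (S i) (d t) ∈ V k
      have ed : proj (S j) (d t) = (V' k).ι (d' t) := by
        rw [← Scheme.Hom.comp_apply, ← Scheme.Hom.comp_apply, hd]
      rw [← hpr, Scheme.Hom.comp_apply, ed]
      exact (d' t).2
    have e : d' ≫ (σ ∣_ V k) = IsOpenImmersion.lift _ d hr ≫ (proj (S i) ∣_ V k) := by
      rw [← cancel_mono (V k).ι, Category.assoc, Category.assoc, morphismRestrict_ι, morphismRestrict_ι,
        IsOpenImmersion.lift_fac_assoc, reassoc_of% hd, hpr]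
    show d' ≫ _ ≫ _ = _
    rw [reassoc_of% e, hhg, IsOpenImmersion.lift_fac_assoc]
  have hφ : ∀ k l : P, Limits.pullback.fst (𝒱.f k) (𝒱.f l) ≫ a k = Limits.pullback.snd (𝒱.f k) (𝒱.f l) ≫ a l := by
    intro k l
    let Pkl := Limits.pullback (𝒱.f k) (𝒱.f l)
    let p₁ : Pkl ⟶ V' k := Limits.pullback.fst (𝒱.f k) (𝒱.f l)
    let p₂ : Pkl ⟶ V' l := Limits.pullback.snd (𝒱.f k) (𝒱.f l)
    have hp : p₁ ≫ (V' k).ι = p₂ ≫ (V' l).ι := Limits.pullback.condition
    let q := p₁ ≫ (V' k).ι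
    haveI : IsOpenImmersion q := inferInstanceAs (IsOpenImmersion (_ ≫ 𝒱.f k))
    haveI : IsReduced Pkl := isReduced_of_isOpenImmersion q
    show p₁ ≫ a k = p₂ ≫ a l
    refine Scheme.hom_ext_of_forall _ _ fun z => ?_
    obtain ⟨⟨U, hU⟩, ⟨u, hu, huz⟩, ⟨v, hv, hvz⟩⟩ := TopologicalSpace.Opens.mem_iSup.1
      (hO' k l (q z) (p₁ z).2 (by rw [show q = p₂ ≫ (V' l).ι from hp]; exact (p₂ z).2))
    let W : Pkl.Opens := (p₁ ≫ a k) ⁻¹ᵁ U ⊓ (p₂ ≫ a l) ⁻¹ᵁ U
    have hqz : q z = (V' l).ι (p₂ z) := congrArg (fun m => (ConcreteCategory.hom m.base) z) hp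
    have h1 : (σ ∣_ V k) (p₁ z) = u := (V k).ι.isOpenEmbedding.injective
      ((congrArg (fun m => (ConcreteCategory.hom m.base) (p₁ z)) (morphismRestrict_ι σ (V k))).trans huz.symm)
    have h2 : (σ ∣_ V l) (p₂ z) = v := (V l).ι.isOpenEmbedding.injective
      (((congrArg (fun m => (ConcreteCategory.hom m.base) (p₂ z)) (morphismRestrict_ι σ (V l))).trans
        (congrArg σ hqz.symm)).trans hvz.symm)
    have hzW : z ∈ W := ⟨show h k ((σ ∣_ V k) (p₁ z)) ∈ U from h1 ▸ hu, show h l ((σ ∣_ V l) (p₂ z)) ∈ U from h2 ▸ hv⟩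
    refine ⟨W, hzW, ?_⟩
    haveI : IsAffine U.toScheme := hU
    have r₁ : Set.range (W.ι ≫ p₁ ≫ a k) ⊆ Set.range U.ι := by
      rintro _ ⟨w, rfl⟩; rw [Scheme.Opens.range_ι]; exact w.2.1
    have r₂ : Set.range (W.ι ≫ p₂ ≫ a l) ⊆ Set.range U.ι := by
      rintro _ ⟨w, rfl⟩; rw [Scheme.Opens.range_ι]; exact w.2.2
    rw [← IsOpenImmersion.lift_fac U.ι _ r₁, ← IsOpenImmersion.lift_fac U.ι _ r₂]
    congr 1
    haveI : IsDominant (Limits.pullback.snd (proj (S j)) (W.ι ≫ q)) := ⟨by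
      rw [DenseRange, Scheme.Pullback.range_snd]
      exact (isDominant_proj (S j)).denseRange.preimage (W.ι ≫ q).isOpenEmbedding.isOpenMap⟩
    refine ext_of_isDominant (Limits.pullback.snd (proj (S j)) (W.ι ≫ q)) ?_
    rw [← cancel_mono U.ι, Category.assoc, Category.assoc, IsOpenImmersion.lift_fac, IsOpenImmersion.lift_fac]
    have hd := Limits.pullback.condition (f := proj (S j)) (g := W.ι ≫ q)
    have ek := hkey k (Limits.pullback.fst (proj (S j)) (W.ι ≫ q))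
      (Limits.pullback.snd (proj (S j)) (W.ι ≫ q) ≫ W.ι ≫ p₁) (by rw [hd]; simp [q])
    have el := hkey l (Limits.pullback.fst (proj (S j)) (W.ι ≫ q))
      (Limits.pullback.snd (proj (S j)) (W.ι ≫ q) ≫ W.ι ≫ p₂) (by rw [hd]; simp [q, hp])
    simp only [Category.assoc] at ek el
    rw [ek, el]
  let g' := 𝒱.glueMorphisms a hφ
  have hg' : ∀ k, (V' k).ι ≫ g' = a k := 𝒱.ι_glueMorphisms a hφ
  refine ⟨j, g', 𝒱.hom_ext _ _ fun k => ?_, ?_⟩
  · show (V' k).ι ≫ g' ≫ f = (V' k).ι ≫ _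
    rw [reassoc_of% hg' k]
    show ((σ ∣_ V k) ≫ h k) ≫ f = _
    rw [Category.assoc, hhf, morphismRestrict_ι_assoc, ← Spec.map_comp]
    rfl
  · refine Scheme.Cover.hom_ext (𝒱.pullback₁ (proj (S j))) _ _ fun k => ?_
    show Limits.pullback.fst (proj (S j)) (V' k).ι ≫ proj (S j) ≫ g' = Limits.pullback.fst (proj (S j)) (V' k).ι ≫ g
    rw [Limits.pullback.condition_assoc, hg' k]
    exact hkey k _ _ Limits.pullback.condition.symm

end Groth.Agent.S16219
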