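import Groth.Statements.S1622
import Groth.Agent.L13.BlowTwo.Regular

set_option autoImplicit false
universe u
open CategoryTheory CategoryTheory.Limits AlgebraicGeometry
open Resolve

namespace Groth.Agent.S1622

/-- Let A be a regular local ring of dimension two and b : X → Spec A a blowing up of Spec A in the
maximal ideal (characterised by its universal property). Then X is irreducible and all of its local
rings are regular. -/
theorem result (A : Type u) [CommRing A] [IsRegularLocalRing A] (hA : ringKrullDim A = 2)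
    (X : Scheme.{u}) (b : X ⟶ Spec (CommRingCat.of A)) (hb : BlowUp.IsBlowUp b (Curv2.idealSheaf A (IsLocalRing.maximalIdeal A))) :
    IrreducibleSpace X ∧ ∀ x : X, IsRegularLocalRing (X.presheaf.stalk x) := by
  rw [show Curv2.idealSheaf A (IsLocalRing.maximalIdeal A) =
    Groth.L13.BU.idealOf (IsLocalRing.maximalIdeal A) from rfl] at hb
  refine ⟨?_, Groth.Agent.L13.BlowTwo.regular_blowUp b hb⟩
  haveI := Groth.L01.isDomain_of_regular A
  refine Groth.Agent.L13.BlowTwo.irreducible_blowUp b hb ⟨⟨⊥, Ideal.isPrime_bot⟩, fun hmem => ?_⟩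
  rw [SetLike.mem_coe, Scheme.IdealSheafData.mem_support_iff_of_mem (U := ⟨⊤, isAffineOpen_top _⟩) (Set.mem_univ _),
    Groth.L13.BU.idealOf_top] at hmem
  have hne : IsLocalRing.maximalIdeal A ≠ ⊥ := fun h => by
    letI := (IsLocalRing.isField_iff_maximalIdeal_eq.mpr h).toField
    rw [ringKrullDim_eq_zero_of_field A] at hA
    exact absurd hA (by decide)
  obtain ⟨a, ha, ha0⟩ := Submodule.exists_mem_ne_zero_of_ne_bot hne
  have h1 := (Scheme.mem_zeroLocus_iff _ _ _).1 hmem _ (Ideal.mem_map_of_mem _ ha)
  rw [AlgebraicGeometry.basicOpen_eq_of_affine] at h1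
  exact ha0 (not_not.1 h1)

end Groth.Agent.S1622
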