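import Groth.Statements.S16225
import Groth.Agent.L01.WittEq

set_option autoImplicit false
open scoped TensorProduct
universe u v
open CAlg

namespace Groth.Agent.S16225

/-- Let p be a prime, n a natural number and R → R' a faithfully flat homomorphism of commutative rings
in which p is nilpotent. Regard W_n(R') and W_n(R' ⊗_R R') as W_n(R)-algebras through the
componentwise maps induced by R → R' and R → R' ⊗_R R', and let ψ₁, ψ₂ : W_n(R') → W_n(R' ⊗_R R') be
the componentwise maps induced by the two inclusions of R' (these are W_n(R)-algebra maps). Then for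
every flat W_n(R)-module M the sequence 0 → M → M ⊗_{W_n(R)} W_n(R') ⇉ M ⊗_{W_n(R)} W_n(R' ⊗_R R')
is exact: m ↦ m ⊗ 1 is injective and its image is the equalizer of id ⊗ ψ₁ and id ⊗ ψ₂. (This is the
beginning, in degrees 0 and 1, of a complex continued by the higher tensor powers of R', which the
published proof asserts to be exact throughout; W_n(R) → W_n(R') is not flat in general, so this is
not faithfully flat descent.) -/
theorem result (p : ℕ) [Fact p.Prime] (n : ℕ)
    (R R' : Type u) [CommRing R] [CommRing R'] [Algebra R R'] [Module.FaithfullyFlat R R']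
    (hp : IsNilpotent (p : R))
    [Algebra (TruncatedWittVector p n R) (TruncatedWittVector p n R')]
    (h₁ : algebraMap (TruncatedWittVector p n R) (TruncatedWittVector p n R') = WittGrp.truncMap p n (algebraMap R R'))
    [Algebra (TruncatedWittVector p n R) (TruncatedWittVector p n (TensorProduct R R' R'))]
    (h₂ : algebraMap (TruncatedWittVector p n R) (TruncatedWittVector p n (TensorProduct R R' R')) =
      WittGrp.truncMap p n (algebraMap R (TensorProduct R R' R')))
    (ψ₁ ψ₂ : TruncatedWittVector p n R' →ₐ[TruncatedWittVector p n R] TruncatedWittVector p n (TensorProduct R R' R'))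
    (hψ₁ : (ψ₁ : TruncatedWittVector p n R' →+* TruncatedWittVector p n (TensorProduct R R' R')) =
      WittGrp.truncMap p n (Algebra.TensorProduct.includeLeftRingHom : R' →+* TensorProduct R R' R'))
    (hψ₂ : (ψ₂ : TruncatedWittVector p n R' →+* TruncatedWittVector p n (TensorProduct R R' R')) =
      WittGrp.truncMap p n ((Algebra.TensorProduct.includeRight : R' →ₐ[R] TensorProduct R R' R') : R' →+* TensorProduct R R' R'))
    (M : Type v) [AddCommGroup M] [Module (TruncatedWittVector p n R) M] [Module.Flat (TruncatedWittVector p n R) M] :
    Function.Injective (fun m : M => m ⊗ₜ[TruncatedWittVector p n R] (1 : TruncatedWittVector p n R')) ∧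
      ∀ x : M ⊗[TruncatedWittVector p n R] TruncatedWittVector p n R',
        LinearMap.lTensor M ψ₁.toLinearMap x = LinearMap.lTensor M ψ₂.toLinearMap x →
          x ∈ Set.range (fun m : M => m ⊗ₜ[TruncatedWittVector p n R] (1 : TruncatedWittVector p n R')) := by
  have hinj : Function.Injective (algebraMap R R') := FaithfulSMul.algebraMap_injective R R'
  have hf : Function.Injective (Algebra.linearMap (TruncatedWittVector p n R) (TruncatedWittVector p n R')) := by
    intro a b hab
    rw [Algebra.linearMap_apply, Algebra.linearMap_apply, h₁] at hab
    refine TruncatedWittVector.ext fun i => hinj ?_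
    simpa [WittGrp.coeff_truncMap] using congrArg (fun z => TruncatedWittVector.coeff i z) hab
  have h := Groth.L01.WittEq.equalizer_tensor (Algebra.linearMap (TruncatedWittVector p n R) (TruncatedWittVector p n R'))
    ψ₁.toLinearMap ψ₂.toLinearMap hf (fun a => by simp) (fun b hb => by
      have hc : ∀ i, ∃ r : R, algebraMap R R' r = b.coeff i := fun i =>
        Groth.L01.WittEq.exists_algebraMap_eq _ (by
          have e1 : ψ₁ b = WittGrp.truncMap p n (Algebra.TensorProduct.includeLeftRingHom : R' →+* TensorProduct R R' R') b :=
            RingHom.congr_fun hψ₁ b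
          have e2 : ψ₂ b = WittGrp.truncMap p n ((Algebra.TensorProduct.includeRight : R' →ₐ[R] TensorProduct R R' R') : R' →+* TensorProduct R R' R') b :=
            RingHom.congr_fun hψ₂ b
          have hb' : ψ₁ b = ψ₂ b := hb
          rw [e1, e2] at hb'
          have := congrArg (fun z => TruncatedWittVector.coeff i z) hb'
          simp only [WittGrp.coeff_truncMap] at this
          exact this)
      choose c hc using hc
      refine ⟨TruncatedWittVector.mk p c, ?_⟩
      rw [Algebra.linearMap_apply, h₁]
      refine TruncatedWittVector.ext fun i => ?_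
      rw [WittGrp.coeff_truncMap, TruncatedWittVector.coeff_mk, hc]) M
  simp only [Algebra.linearMap_apply, map_one] at h
  exact ⟨h.1, fun x hx => h.2 x hx⟩

end Groth.Agent.S16225
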