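import Groth.Statements.S16227
import Groth.Agent.L19.Reduction

set_option autoImplicit false
set_option backward.isDefEq.respectTransparency.types false
set_option backward.isDefEq.respectTransparency false
set_option linter.style.haveILetI false
universe u
open CategoryTheory MonoidalCategory CartesianMonoidalCategory MonObj AlgebraicGeometry
open PrincBund

namespace Groth.Agent.S16227

/-- Let i : G → H be a homomorphism of group schemes over a base scheme S which is a closed immersion, F
an H-torsor over S for the etale topology with action aF, and π : F → Q a morphism of S-schemes
exhibiting Q as the quotient F/G, in the sense that the square formed by the restricted action G ×_S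
F → F, the projection G ×_S F → F and π twice is cartesian and π acquires sections etale-locally on
Q. Then a reduction of the structure group of F to G, namely a G-torsor E over S for the etale
topology together with an i-equivariant morphism φ : E → F over S, determines a unique section σ of
Q over S such that the composite E → S → Q equals φ followed by π, and for this σ the square (φ, E →
S; π, σ) is cartesian, so that E is recovered as the pullback of F along σ. (Stated over an
arbitrary base scheme and for arbitrary group schemes; the quotient F/G is taken as data through its
torsor property rather than constructed.) -/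
theorem result
    {S : Scheme.{u}} {G H F Q : Over S} [GrpObj G] [GrpObj H]
    (i : G ⟶ H) [IsMonHom i] [IsClosedImmersion i.left]
    (aF : AlgGrp.Action H F) (hF : NonAbH1.IsTorsorFor Scheme.etalePrecoverage aF)
    (π : F ⟶ Q)
    (hsq : IsPullback (aF.restrict i).act (snd G F) π π)
    (hloc : NonAbH1.IsLocallyTrivialFor Scheme.etalePrecoverage (Over.mk π.left : Over Q.left))
    {E : Over S} (aE : AlgGrp.Action G E) (hE : NonAbH1.IsTorsorFor Scheme.etalePrecoverage aE)
    (φ : E ⟶ F) (hφ : AlgGrp.Action.IsEquivariant aE (aF.restrict i) φ) :
    (∃! σ : 𝟙_ (Over S) ⟶ Q, toUnit E ≫ σ = φ ≫ π) ∧
      ∀ σ : 𝟙_ (Over S) ⟶ Q, toUnit E ≫ σ = φ ≫ π → IsPullback φ (toUnit E) π σ := by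
  haveI : Mono i := Over.mono_of_mono_left i
  exact Groth.L19.Reduction.existsUnique_section aF hF.1 π hsq aE hE φ hφ

end Groth.Agent.S16227
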