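import Groth.Statements.S16229
import Groth.Agent.L21.FibSec.Det
import Groth.Agent.L21.FibSec.Chain
import Groth.Agent.L21.RR.Mul
import Groth.Agent.L21.RR.Point
import Groth.Agent.L21.Bundle.Sub
import Groth.Agent.L03.SurfNum.Fibre
import Groth.Agent.L06.FibreModel
import Groth.Agent.L12.GenusZero.Apps
import Groth.Agent.L12.KNil.Ample
import Groth.Agent.L18.AmplePull
import Groth.Agent.L18.GlobGen
import Groth.Agent.L18.PBundle.VeryAmplePair
import Groth.Agent.L19.AmpleAffineLocus
import Groth.Agent.L29.DCoh.PullTensor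
import Groth.Agent.L05.EulerDiv.PowerFibre
import Groth.Agent.S1530

set_option autoImplicit false
set_option backward.isDefEq.respectTransparency false
set_option linter.style.haveILetI false
universe u
open VBCurve

namespace Groth.Agent.S16229

open CategoryTheory CategoryTheory.Limits AlgebraicGeometry TopologicalSpace
open Groth.L12.FinCov (IsBasisOn rM rM_rM lc app_lc image_ι_top exists_basisOn_of_rank)
open Groth.L03.ShStab.GeneralSections (Adapted isBasisOn_restrict isIso_desc_of_basis)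
open Groth.L00.Tensor (tensorAssoc tensorIso tensorUnitRight)
open Groth.L21.FibSec
open Groth.L21.RR (st one)

theorem basis_iso {X : Scheme.{u}} {M N : X.Modules} (e : M ≅ N) {W : X.Opens} {n : ℕ}
    {b : Fin n → Γ(M, W)} (hb : IsBasisOn M W b) : IsBasisOn N W fun i => e.hom.app W (b i) := fun V h => by
  rw [show lc N (fun i => e.hom.app W (b i)) h = e.hom.app V ∘ lc M b h from
    funext fun c => (app_lc e.hom b h c).symm]
  exact (ConcreteCategory.bijective_of_isIso (e.hom.app V)).comp (hb V h)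

/-- A basis of the restriction over an open is a basis over its image. -/
theorem basis_image {X : Scheme.{u}} {E : X.Modules} {W : X.Opens} {A : W.toScheme.Opens} {n : ℕ}
    {c : Fin n → Γ(E.restrict W.ι, A)} (hc : IsBasisOn (E.restrict W.ι) A c) :
    IsBasisOn E (W.ι ''ᵁ A) c := by
  intro V h
  obtain ⟨B, hB, rfl⟩ : ∃ B : W.toScheme.Opens, B ≤ A ∧ W.ι ''ᵁ B = V := ⟨W.ι ⁻¹ᵁ V, fun z hz => by
      obtain ⟨w, hw, hwz⟩ := h hz
      obtain rfl : w = z := W.ι.isOpenEmbedding.injective hwz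
      exact hw, by
    rw [Scheme.Hom.image_preimage_eq_opensRange_inf, inf_eq_right]
    exact h.trans (Scheme.Hom.image_le_opensRange _ _)⟩
  let ee := (W.ι.appIso B).commRingCatIsoToRingEquiv
  refine (Function.Bijective.of_comp_iff _
    (Equiv.piCongrRight fun _ : Fin n => ee.symm.toEquiv).bijective).1 ?_
  refine Eq.mp (congrArg Function.Bijective ?_) (hc B hB)
  funext r
  refine Finset.sum_congr rfl fun i _ => ?_
  rfl

theorem free_of_basis {X : Scheme.{u}} {E : X.Modules} {W : X.Opens} {n : ℕ} {b : Fin n → Γ(E, W)}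
    (hb : IsBasisOn E W b) : Nonempty (E.restrict W.ι ≅ FlatMod.freeMod (↑W) n) := by
  haveI := isIso_desc_of_basis (isBasisOn_restrict hb)
  exact ⟨(asIso (Sigma.desc fun i => Groth.L16.homOfSection (E.restrict W.ι)
    (rM E (image_ι_top W).le (b i) : Γ(E.restrict W.ι, ⊤)))).symm⟩

/-- A bundle of rank zero has the empty basis. -/
theorem basis_zero {X : Scheme.{u}} {E : X.Modules} (hE : FlatMod.IsFinLocFreeOfRank 0 E) (W : X.Opens) :
    IsBasisOn E W (Fin.elim0 : Fin 0 → Γ(E, W)) := by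
  have hst : ∀ (y : X) (hy : y ∈ W), Function.Bijective fun c : Fin 0 → X.presheaf.stalk y =>
      ∑ i, c i • E.presheaf.germ W y hy (Fin.elim0 i : Γ(E, W)) := fun y hy => by
    obtain ⟨V, b, -, hyV, -, hb⟩ := exists_basisOn_of_rank hE y ⊤ trivial
    refine Eq.mp (congrArg Function.Bijective (funext fun c => ?_))
      (Groth.L17.PullBasis.bijective_stalk E b (fun V' g => hb V' g.le) y hyV)
    simp only [Finset.univ_eq_empty, Finset.sum_empty]
  intro U hU
  exact Groth.L17.PullBasis.isBasis_of_stalk E (Fin.elim0 : Fin 0 → Γ(E, W)) hst U (homOfLE hU)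

/-- An ample invertible module with a section vanishing exactly at the point. -/
theorem exists_ample_section {k : Type u} [Field k] [IsAlgClosed k] {X : Scheme.{u}}
    [X.Over (Spec (CommRingCat.of k))] [IsIntegral X] [IsProper (X ↘ Spec (CommRingCat.of k))]
    [Smooth (X ↘ Spec (CommRingCat.of k))] (hd : topologicalKrullDim X = 1) {x₀ : X}
    (hx₀ : IsClosed ({x₀} : Set X)) :
    ∃ (L : X.Modules) (s : Coh.structureModule X ⟶ L), CohB1.IsAmple L ∧
      CohB1.genLocus L s = ⟨({x₀} : Set X)ᶜ, hx₀.isOpen_compl⟩ := by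
  haveI := Groth.L21.RR.isNoetherian_of_proper (X := X) k
  have hne : x₀ ≠ genericPoint X := fun h =>
    Groth.L03.SurfNum.genericPoint_notMem_point k hd hx₀ (by rw [h]; rfl)
  have hreg := Groth.L21.Smooth.regular_stalk (k := k) (X ↘ Spec (CommRingCat.of k))
  haveI := Groth.L21.Bundle.isPrincipalIdealRing_stalk hreg hd.le x₀
  obtain ⟨L, s, π, e, hL, hdeg, -, hsurj, he, hπe, hπ⟩ := Groth.L21.RR.exists_deg_one_section k hd.le hx₀ hne
    (Groth.L21.RR.isRat_of_isClosed k hx₀) inferInstance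
  refine ⟨L, s, (Groth.Agent.S1530.result k X hd L hL).2 (by omega), TopologicalSpace.Opens.ext (Set.ext fun x => ?_)⟩
  show x ∈ CohB1.genLocus L s ↔ x ≠ x₀
  rw [Groth.L21.RR.mem_genLocus_iff hL]
  refine ⟨fun h hx => ?_, fun h => hsurj x h⟩
  subst hx
  obtain ⟨w, hw⟩ := h e
  obtain ⟨c, rfl⟩ := (Groth.L21.RR.bijective_smul_one x).2 w
  change st s x (c • one X x) = e at hw
  rw [map_smul, ← hπe, smul_smul] at hw
  have h1 : c * π = 1 := he.1 (show (c * π) • e = (1 : X.presheaf.stalk x) • e by rw [hw, one_smul])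
  have h2 : π ∈ IsLocalRing.maximalIdeal (X.presheaf.stalk x) := by
    rw [hπ]; exact Submodule.mem_span_singleton_self π
  exact (IsLocalRing.mem_maximalIdeal _).1 h2 (IsUnit.of_mul_eq_one_right c h1)


open CategoryTheory CategoryTheory.Limits AlgebraicGeometry TopologicalSpace in
/-- Let k be an algebraically closed field, X a smooth proper integral curve over k, x₀ a closed point
of X with open complement X* = X − x₀, U an affine k-scheme, X_U = X ×_k U with projections to X and
to U, and E a finite locally free O_{X_U}-module of rank r with trivial determinant, in the sense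
that some r-th exterior power of E is isomorphic to O_{X_U}. Then Zariski-locally on U the
restriction of E to X* ×_k U is trivial: every point u of U has an open neighbourhood V such that E
restricted to the open subscheme X* ×_k V of X_U (the intersection of the inverse images of X* and
of V) is isomorphic to the free module of rank r. -/
theorem result
    (k : Type u) [Field k] [IsAlgClosed k]
    (X : Scheme.{u}) (f : X ⟶ Spec (CommRingCat.of k)) (hX : Curve.IsSmoothProperCurve k X f)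
    (x₀ : X) (hx₀ : IsClosed ({x₀} : Set X))
    (U : Scheme.{u}) [IsAffine U] (g : U ⟶ Spec (CommRingCat.of k))
    (E : (pullback f g).Modules) (r : ℕ) (hE : FlatMod.IsFinLocFreeOfRank r E)
    (hdet : ∃ D : (pullback f g).Modules, ExtPow.IsExtPow r E D ∧ Nonempty (D ≅ Coh.structureModule (pullback f g)))
    (u : U) :
    ∃ V : U.Opens, u ∈ V ∧
      Nonempty (E.restrict ((pullback.fst f g) ⁻¹ᵁ (⟨({x₀} : Set X)ᶜ, hx₀.isOpen_compl⟩ : X.Opens) ⊓ (pullback.snd f g) ⁻¹ᵁ V).ι ≅
        FlatMod.freeMod (↑((pullback.fst f g) ⁻¹ᵁ (⟨({x₀} : Set X)ᶜ, hx₀.isOpen_compl⟩ : X.Opens) ⊓ (pullback.snd f g) ⁻¹ᵁ V)) r) := by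
  obtain ⟨hprop, hsm, hint, hdim⟩ := hX
  letI : X.Over (Spec (CommRingCat.of k)) := ⟨f⟩
  haveI : IsProper (X ↘ Spec (CommRingCat.of k)) := hprop
  haveI : Smooth (X ↘ Spec (CommRingCat.of k)) := hsm
  haveI := hprop
  haveI := hint
  let Xs : X.Opens := ⟨({x₀} : Set X)ᶜ, hx₀.isOpen_compl⟩
  let p := pullback.fst f g
  let q := pullback.snd f g
  cases r with
  | zero =>
    exact ⟨⊤, trivial, free_of_basis (basis_zero hE _)⟩
  | succ m =>
  obtain ⟨D, hD, ⟨ξ⟩⟩ := hdet
  obtain ⟨L, s, hL, hgenL⟩ := exists_ample_section (k := k) hdim hx₀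
  haveI : IsAffineHom p := MorphismProperty.pullback_fst f g (inferInstance : IsAffineHom g)
  haveI : IsProper q := MorphismProperty.pullback_snd f g hprop
  have hAmp := Groth.L18.Ample.isAmple_pullback_of_isAffineHom hL (u := p)
  let LU := (Scheme.Modules.pullback p).obj L
  obtain ⟨n₀, hn₀⟩ := Groth.L18.Ample.exists_forall_isGloballyGenerated hAmp E
    (Groth.L16.NegPow.isCoh_of_isFinLocFree fun x => by obtain ⟨V, hx, hV⟩ := hE x; exact ⟨V, m + 1, hx, hV⟩)
  have hLn := Groth.L18.Ample.isInvertible_tensorPow hAmp.1 n₀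
  let T := CohB1.tensorMod E (CohB1.tensorPow LU n₀)
  have hT : FlatMod.IsFinLocFreeOfRank (m + 1) T := by
    simpa using rank_tensor hE (Groth.L22.CurveDeg.Det.isFinLocFreeOfRank_one_of_isInvertible hLn)
  obtain ⟨N, σ, hσ⟩ := exists_finite_span hT (hn₀ n₀ le_rfl)
    (K := q ⁻¹' {u}) (q.range_fiberι u ▸ isCompact_range (q.fiberι u).continuous)
  have hfd : topologicalKrullDim ↥(q.fiber u) ≤ 1 := by
    rw [Groth.L06.FibreModel.topologicalKrullDim_fiber_eq f g q p (IsPullback.of_hasPullback f g) u]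
    exact Groth.L12.GenusZero.fiber_dim_le k hdim.le (g u)
  let ψ : k →+* Γ(U, ⊤) := (g.appTop).hom.comp (Scheme.ΓSpecIso (CommRingCat.of k)).inv.hom
  obtain ⟨τ, hτ⟩ := exists_part q ψ u hfd hT (σ := σ) (fun x hx => hσ x hx) m (by omega)
  obtain ⟨a, hua, ha⟩ := exists_nhd q u (isOpen_part τ) hτ
  let V : U.Opens := U.basicOpen a
  have hV : IsAffineOpen V := (isAffineOpen_top U).basicOpen a
  refine ⟨V, hua, ?_⟩
  let W : (pullback f g).Opens := p ⁻¹ᵁ Xs ⊓ q ⁻¹ᵁ V
  have hXs : IsAffineOpen Xs := by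
    show IsAffineOpen (⟨({x₀} : Set X)ᶜ, hx₀.isOpen_compl⟩ : X.Opens)
    rw [← hgenL]
    exact Groth.L19.AmpleAffine.isAffineOpen_genLocus f hL s
  have hW : IsAffineOpen W := Groth.L18.PBundle.isAffineOpen_pullback_inf f g hXs hV
  -- the trivialisation of the twist
  let p' : W.toScheme ⟶ Xs.toScheme := IsOpenImmersion.lift Xs.ι (W.ι ≫ p) (by
    rintro _ ⟨z, rfl⟩
    rw [Scheme.Opens.range_ι]
    exact z.2.1)
  have hp' : p' ≫ Xs.ι = W.ι ≫ p := IsOpenImmersion.lift_fac _ _ _
  obtain ⟨trivX⟩ : Nonempty ((Scheme.Modules.pullback Xs.ι).obj L ≅ Coh.structureModule Xs.toScheme) := by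
    have hfr := (Groth.L18.GenLoc.isFrame_genLocus s).mono (hgenL ▸ le_rfl : Xs ≤ CohB1.genLocus L s)
    obtain ⟨i⟩ := free_of_basis (Groth.L12.KNil.isBasisOn_of_isFrame hfr)
    exact ⟨((Scheme.Modules.restrictFunctorIsoPullback Xs.ι).app L).symm ≪≫ i ≪≫
      coproductUniqueIso (fun _ : Fin 1 => Coh.structureModule Xs.toScheme)⟩
  let trivW : (Scheme.Modules.pullback W.ι).obj LU ≅ Coh.structureModule W.toScheme :=
    (Scheme.Modules.pullbackComp W.ι p).app L ≪≫ (Scheme.Modules.pullbackCongr hp'.symm).app L ≪≫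
      ((Scheme.Modules.pullbackComp p' Xs.ι).app L).symm ≪≫ (Scheme.Modules.pullback p').mapIso trivX ≪≫
      Groth.L29.LocFree.pullbackUnitIso p'
  have hpow : ∀ n : ℕ, Nonempty (CohB1.tensorPow ((Scheme.Modules.pullback W.ι).obj LU) n ≅
      Coh.structureModule W.toScheme) := fun n => by
    induction n with
    | zero => exact ⟨Iso.refl _⟩
    | succ n ih =>
      obtain ⟨i⟩ := ih
      exact ⟨tensorIso i trivW ≪≫ tensorUnitRight _⟩
  obtain ⟨i1⟩ := Groth.L05.EulerDiv.nonempty_pullback_tensorPow W.ι LU n₀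
  obtain ⟨i2⟩ := hpow n₀
  let θ : T.restrict W.ι ≅ E.restrict W.ι :=
    (Scheme.Modules.restrictFunctorIsoPullback W.ι).app T ≪≫
      (Groth.L29.DC.PullTensor.pullTensor W.ι E (CohB1.tensorPow LU n₀)).symm ≪≫
      tensorIso (Iso.refl _) (i1 ≪≫ i2) ≪≫ tensorUnitRight _ ≪≫
      ((Scheme.Modules.restrictFunctorIsoPullback W.ι).app E).symm
  have hAd : Adapted (T.restrict W.ι) (m + 1) fun i => res T W (τ i) :=
    adapted_restrict W fun x hx => ha x hx.2
  let τW : Fin m → Γ(E, W) := fun i =>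
    rM E (image_ι_top W).ge (θ.hom.app ⊤ (res T W (τ i)) : Γ(E, W.ι ''ᵁ ⊤))
  obtain ⟨b, hb⟩ := exists_basis_of_det hW hE hD ξ τW (fun y hy => by
    obtain ⟨A, e, gg, hA, hyA, he, heg⟩ := hAd ⟨y, hy⟩
    have hle : W.ι ''ᵁ A ≤ W := (Scheme.Hom.image_le_opensRange _ _).trans_eq W.opensRange_ι
    refine ⟨W.ι ''ᵁ A, hle, fun i => θ.hom.app A (e i), gg, hA.image_of_isOpenImmersion W.ι,
      ⟨⟨y, hy⟩, hyA, rfl⟩, basis_image (basis_iso θ he), fun i => ?_⟩
    show θ.hom.app A (e (gg i)) = _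
    rw [heg, Groth.L12.FinCov.app_rM]
    show rM E (W.ι.image_mono le_top) _ = rM E hle (rM E (image_ι_top W).ge _)
    rw [rM_rM])
  exact free_of_basis hb

end Groth.Agent.S16229
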