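import Groth.Statements.S1623
import Groth.Agent.L13.BlowTwo.Charts

set_option autoImplicit false
universe u
open CategoryTheory CategoryTheory.Limits AlgebraicGeometry
open Resolve

namespace Groth.Agent.S1623

/-- Let A be a regular local ring of dimension two and b : X → Spec A a blowing up in the maximal ideal.
For every quasi-coherent O_X-module F and every p ≥ 2, H^p(X, F) = 0. -/
theorem result (A : Type u) [CommRing A] [IsRegularLocalRing A] (hA : ringKrullDim A = 2)
    (X : Scheme.{u}) (b : X ⟶ Spec (CommRingCat.of A)) (hb : BlowUp.IsBlowUp b (Curv2.idealSheaf A (IsLocalRing.maximalIdeal A)))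
    (F : X.Modules) (hF : Coh.IsQCoh F) (p : ℕ) (hp : 2 ≤ p) : Subsingleton (Coh.HH X F p) := by
  obtain ⟨f, hf⟩ := Groth.Agent.L13.BlowTwo.exists_gens hA
  rw [hf, Groth.Agent.L13.BlowTwo.curv2_idealSheaf] at hb
  obtain ⟨U, V, hcov, hU, hV, hUV, -⟩ := Groth.Agent.L13.BlowTwo.exists_two_charts f b hb
  haveI := hF
  exact Groth.Agent.L13.BlowTwo.sup_affine_data hcov hU hV hUV F p hp

end Groth.Agent.S1623
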