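import Groth.Statements.S16230
import Groth.Agent.L28.Morse
import Mathlib.RingTheory.Ideal.Quotient.Operations

set_option autoImplicit false
universe u
open VanCyc

namespace Groth.Agent.S16230

/-- Let A be a local ring, n and m natural numbers with 2 ≤ m, q an n × n coefficient table over A whose
quadratic form Q(x) = Σ_{i≤j} q_ij x_i x_j is non-degenerate (the polar bilinear form has unit Gram
determinant, i.e. is a perfect pairing — the reading of non-degeneracy over the local ring A used
here), a an element of A, and F a formal power series in x_1, …, x_n over A all of whose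
coefficients in total degree at most m agree with those of Q + a. Then there are power series h_1,
…, h_n with no terms of total degree less than m such that substituting x_i + h_i for x_i in F gives
exactly Q + a; consequently A[[x]]/(F) and A[[x]]/(Q + a) are isomorphic as A-algebras. -/
theorem result
    (A : Type u) [CommRing A] [IsLocalRing A] (n m : ℕ) (hm : 2 ≤ m)
    (q : Fin n → Fin n → A) (hq : VanCyc.QuadNondeg q) (a : A)
    (F : MvPowerSeries (Fin n) A)
    (hF : ∀ e : Fin n →₀ ℕ, e.degree ≤ m →
      MvPowerSeries.coeff e F = MvPowerSeries.coeff e ((VanCyc.quadPoly q + MvPolynomial.C a : MvPolynomial (Fin n) A) : MvPowerSeries (Fin n) A)) :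
    ∃ h : Fin n → MvPowerSeries (Fin n) A,
      (∀ (i : Fin n) (e : Fin n →₀ ℕ), e.degree < m → MvPowerSeries.coeff e (h i) = 0) ∧
      MvPowerSeries.HasSubst (fun i => MvPowerSeries.X i + h i) ∧
      MvPowerSeries.subst (fun i => MvPowerSeries.X i + h i) F = ((VanCyc.quadPoly q + MvPolynomial.C a : MvPolynomial (Fin n) A) : MvPowerSeries (Fin n) A) ∧
      Nonempty ((MvPowerSeries (Fin n) A ⧸ Ideal.span {F}) ≃ₐ[A]
        (MvPowerSeries (Fin n) A ⧸ Ideal.span {((VanCyc.quadPoly q + MvPolynomial.C a : MvPolynomial (Fin n) A) : MvPowerSeries (Fin n) A)})) := by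
  open MvPowerSeries Groth.L28.Morse in
  have hco : ((VanCyc.quadPoly q + MvPolynomial.C a : MvPolynomial (Fin n) A) :
      MvPowerSeries (Fin n) A) = Q q X + C a := by
    rw [← coe_quadPoly, MvPolynomial.coe_add, MvPolynomial.coe_C]
  set E := F - (Groth.L28.Morse.Q q MvPowerSeries.X + MvPowerSeries.C a) with hE'
  have hE : ((m + 1 : ℕ) : ℕ∞) ≤ E.order := by
    refine MvPowerSeries.nat_le_order fun d hd => ?_
    rw [hE', map_sub, hF d (by omega), hco, sub_self]
  obtain ⟨g, hg, hQ⟩ := Groth.L28.Morse.exists_Q_add q E hq hm hE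
  obtain ⟨φ, h, hh, hs, hφ, hψ⟩ := Groth.L28.Morse.exists_inverse hm hg
  have hg1 : MvPowerSeries.HasSubst (fun i => MvPowerSeries.X i + g i) :=
    MvPowerSeries.hasSubst_of_constantCoeff_zero
      (Groth.L28.Morse.constantCoeff_perturb (by omega) hg)
  have hφF : φ (Groth.L28.Morse.Q q MvPowerSeries.X + MvPowerSeries.C a) = F := by
    rw [map_add, MvPowerSeries.c_eq_algebraMap, AlgEquiv.commutes, hφ,
      ← Groth.L28.Morse.coe_quadPoly, Groth.L28.Morse.subst_quadPoly q hg1, hQ, hE',
      ← MvPowerSeries.c_eq_algebraMap]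
    ring
  have hψF : φ.symm F = Groth.L28.Morse.Q q MvPowerSeries.X + MvPowerSeries.C a := by
    rw [← hφF, AlgEquiv.symm_apply_apply]
  refine ⟨h, fun i e he => MvPowerSeries.coeff_of_lt_order (lt_of_lt_of_le (Nat.cast_lt.mpr he) (hh i)),
    hs, ?_, ⟨Ideal.quotientEquivAlg _ _ φ.symm ?_⟩⟩
  · rw [hco, ← hψ, hψF]
  · rw [Ideal.map_span, Set.image_singleton, hco]
    congr 2
    exact hψF.symm

end Groth.Agent.S16230
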