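import Groth.Statements.S16231
import Groth.Agent.L28.Translate.Main
import Groth.Agent.S16230

set_option autoImplicit false
universe u
open VanCyc

namespace Groth.Agent.S16231

/-- Let A be a local ring with maximal ideal m that is separated and complete for the m-adic topology (A
is not assumed Noetherian), n a natural number, q an n × n coefficient table over A whose quadratic
form Q(x) = Σ_{i≤j} q_ij x_i x_j is non-degenerate (unit Gram determinant of the polar bilinear
form), a and ℓ_1, …, ℓ_n elements of m, and F a formal power series in x_1, …, x_n over A whose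
coefficients in total degree at most 2 agree with those of a + Σ ℓ_i x_i + Q(x). Then there are an
element a' of m and a non-degenerate coefficient table q' such that A[[x]]/(F) and A[[x]]/(Q'(x) +
a') are isomorphic as A-algebras, Q' the quadratic form of q'. -/
theorem result
    (A : Type u) [CommRing A] [IsLocalRing A]
    [IsAdicComplete (IsLocalRing.maximalIdeal A) A] (n : ℕ)
    (q : Fin n → Fin n → A) (hq : VanCyc.QuadNondeg q)
    (a : A) (ha : a ∈ IsLocalRing.maximalIdeal A)
    (ℓ : Fin n → A) (hℓ : ∀ i, ℓ i ∈ IsLocalRing.maximalIdeal A)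
    (F : MvPowerSeries (Fin n) A)
    (hF : ∀ e : Fin n →₀ ℕ, e.degree ≤ 2 →
      MvPowerSeries.coeff e F = MvPowerSeries.coeff e ((VanCyc.quadPoly q + ∑ i, MvPolynomial.C (ℓ i) * MvPolynomial.X i + MvPolynomial.C a : MvPolynomial (Fin n) A) : MvPowerSeries (Fin n) A)) :
    ∃ (a' : A) (q' : Fin n → Fin n → A), a' ∈ IsLocalRing.maximalIdeal A ∧ VanCyc.QuadNondeg q' ∧
      Nonempty ((MvPowerSeries (Fin n) A ⧸ Ideal.span {F}) ≃ₐ[A]
        (MvPowerSeries (Fin n) A ⧸ Ideal.span {((VanCyc.quadPoly q' + MvPolynomial.C a' : MvPolynomial (Fin n) A) : MvPowerSeries (Fin n) A)})) := by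
  open MvPowerSeries Groth.L28 Groth.L28.Translate in
  classical
  have hco : ((VanCyc.quadPoly q + ∑ i, MvPolynomial.C (ℓ i) * MvPolynomial.X i + MvPolynomial.C a :
      MvPolynomial (Fin n) A) : MvPowerSeries (Fin n) A) = Morse.Q q X + ∑ i, C (ℓ i) * X i + C a := by
    rw [← Morse.coe_quadPoly]
    simp only [← MvPolynomial.coeToMvPowerSeries.ringHom_apply, map_add, map_sum, map_mul]
    simp
  rw [hco] at hF
  have hqd : ∀ e : Fin n →₀ ℕ, e.degree ≠ 2 → coeff e (Morse.Q q X) = 0 := by
    intro e he
    rw [Morse.coeff_Q_X]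
    exact Finset.sum_eq_zero fun i _ => Finset.sum_eq_zero fun j _ =>
      if_neg fun ⟨_, h⟩ => he (by simp [h])
  have hF2 : ∀ e : Fin n →₀ ℕ, e.degree = 2 → coeff e F = coeff e (Morse.Q q X) := by
    intro e he
    have he0 : e ≠ 0 := by rintro rfl; simp at he
    have he1 : ∀ i, e ≠ Finsupp.single i 1 := by rintro i rfl; simp at he
    simp [hF e he.le, coeff_C_of_ne_zero he0, coeff_X, he1]
  have hF1 : ∀ i, coeff (Finsupp.single i 1) F = ℓ i := fun i => by
    simp [hF _ (show (Finsupp.single i 1).degree ≤ 2 by simp), hqd _ (show (Finsupp.single i 1).degree ≠ 2 by simp),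
      coeff_C_of_ne_zero (show Finsupp.single i 1 ≠ 0 by simp), coeff_X, Finsupp.single_eq_single_iff]
  have hF0 : constantCoeff F = a := by
    rw [← coeff_zero_eq_constantCoeff_apply, hF 0 (by simp)]
    rw [map_add, map_add, hqd 0 (by simp), coeff_zero_eq_constantCoeff_apply]
    simp
  have hdet : IsUnit (VanCyc.polarMatrix (VanCyc.quadPart F)).det := by
    rw [polar_quadPart_eq q F hF2]; exact hq
  obtain ⟨c, hc, hlin⟩ := exists_lin_eq_zero hdet fun i => by rw [hF1]; exact hℓ i
  set G := shift hc F with hG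
  set a' := constantCoeff G with ha'
  have ha'm : a' ∈ IsLocalRing.maximalIdeal A := by
    have h := congrArg constantCoeff (red_one_shift hc F)
    rw [red, constantCoeff_map, constantCoeff_map, Ideal.Quotient.eq, pow_one, ← ha', hF0] at h
    simpa using add_mem h ha
  have hlow : VanCyc.NoLowTerms (G - C a') := ⟨by simp [ha'], fun i => by
    rw [map_sub, coeff_C_of_ne_zero (by simp), sub_zero]; exact hlin i⟩
  have h3 := Morse.order_sub_quadPart hlow
  rw [quadPart_sub_C] at h3
  have hagree : ∀ e : Fin n →₀ ℕ, e.degree ≤ 2 → coeff e G = coeff e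
      ((VanCyc.quadPoly (VanCyc.quadPart G) + MvPolynomial.C a' : MvPolynomial (Fin n) A) :
        MvPowerSeries (Fin n) A) := by
    intro e he
    have := coeff_of_lt_order (lt_of_lt_of_le (Nat.cast_lt.mpr (show e.degree < 3 by omega)) h3)
    rw [MvPolynomial.coe_add, MvPolynomial.coe_C, Morse.coe_quadPoly]
    rw [map_sub, map_sub, sub_eq_zero, sub_eq_iff_eq_add] at this
    rw [this, map_add]
  have hnd : VanCyc.QuadNondeg (VanCyc.quadPart G) := isUnit_det_shift hc hdet
  obtain ⟨h, -, -, -, ⟨iso⟩⟩ := Groth.Agent.S16230.result A n 2 le_rfl _ hnd a' G hagree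
  refine ⟨a', _, ha'm, hnd, ⟨(Ideal.quotientEquivAlg _ _ (shiftEquiv hc) ?_).trans iso⟩⟩
  rw [Ideal.map_span, Set.image_singleton]
  rfl

end Groth.Agent.S16231
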