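import Groth.Statements.S16232
import Groth.Agent.L15.TameGal.Core
import Groth.Agent.L05.Hensel.IntegralDomain
import Mathlib.RingTheory.DedekindDomain.IntegralClosure
import Mathlib.RingTheory.DedekindDomain.PID
import Mathlib.RingTheory.Valuation.ValuationRing
-- import your own Groth.Agent.* helpers here

set_option autoImplicit false
universe u v
open VanCyc

namespace Groth.Agent.S16232

/-- For a strictly henselian discrete valuation ring the integral closure in a separable closure of the
fraction field is a valuation subring on which every automorphism is inertial. -/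
theorem exists_inertial (R : Type u) [CommRing R] [IsDomain R] [IsDiscreteValuationRing R] [HenselianLocalRing R]
    [IsSepClosed (IsLocalRing.ResidueField R)]
    (K : Type u) [Field K] [Algebra R K] [IsFractionRing R K]
    (Ω : Type u) [Field Ω] [Algebra K Ω] [IsSepClosure K Ω] :
    ∃ W : ValuationSubring Ω, Groth.L15.TameGal.Inertial R K W := by
  letI : Algebra R Ω := ((algebraMap K Ω).comp (algebraMap R K)).toAlgebra
  haveI : IsScalarTower R K Ω := IsScalarTower.of_algebraMap_eq fun _ => rfl
  haveI : IsGalois K Ω := Groth.L15.TameGal.isGalois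
  have hinj : Function.Injective (algebraMap R Ω) :=
    (algebraMap K Ω).injective.comp (IsFractionRing.injective R K)
  let W : ValuationSubring Ω :=
    { toSubring := (integralClosure R Ω).toSubring
      mem_or_inv_mem' := fun x => by
        haveI : FiniteDimensional K (IntermediateField.adjoin K ({x} : Set Ω)) :=
          IntermediateField.adjoin.finiteDimensional (Algebra.IsIntegral.isIntegral x)
        generalize hF : IntermediateField.adjoin K ({x} : Set Ω) = F at *
        have hxF : x ∈ F := hF ▸ IntermediateField.mem_adjoin_simple_self K x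
        haveI : IsDedekindDomain (integralClosure R F) :=
          IsIntegralClosure.isDedekindDomain R K F (integralClosure R F)
        haveI : IsLocalRing (integralClosure R F) :=
          Groth.L05.isLocalRing_of_integral_domain (A := R) (integralClosure R F)
        haveI : IsPrincipalIdealRing (integralClosure R F) :=
          IsPrincipalIdealRing.of_finite_maximals (Set.Subsingleton.finite fun I hI J hJ =>
            (IsLocalRing.eq_maximalIdeal hI).trans (IsLocalRing.eq_maximalIdeal hJ).symm)
        haveI : IsFractionRing (integralClosure R F) F :=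
          integralClosure.isFractionRing_of_finite_extension K F
        have key : ∀ z : F, IsLocalization.IsInteger (integralClosure R F) z → IsIntegral R (z : Ω) := by
          rintro z ⟨w, rfl⟩
          exact (w.2 : IsIntegral R (w : F)).map (F.val.restrictScalars R)
        rcases ValuationRing.isInteger_or_isInteger (integralClosure R F) (⟨x, hxF⟩ : F) with h1 | h1
        · exact Or.inl (key _ h1)
        · exact Or.inr (key _ h1) }
  have hmem : ∀ a : R, algebraMap K Ω (algebraMap R K a) ∈ W := fun a =>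
    (isIntegral_algebraMap : IsIntegral R (algebraMap R Ω a))
  haveI : IsLocalRing (integralClosure R Ω) := Groth.L05.isLocalRing_of_integral_domain (A := R) (integralClosure R Ω)
  haveI : FaithfulSMul R (integralClosure R Ω) := (faithfulSMul_iff_algebraMap_injective _ _).mpr
    fun a b hab => hinj (congrArg Subtype.val hab)
  have hlt : ∀ d : integralClosure R Ω, d ∈ IsLocalRing.maximalIdeal (integralClosure R Ω) →
      W.valuation (d : Ω) < 1 := by
    intro d hd
    refine lt_of_le_of_ne ((W.valuation_le_one_iff _).mpr d.2) fun heq => ?_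
    have h0 : (d : Ω) ≠ 0 := fun h0 => by simp [h0] at heq
    have hmem' : (d : Ω)⁻¹ ∈ W := (W.valuation_le_one_iff _).mp (by rw [map_inv₀, heq, inv_one])
    exact hd (IsUnit.of_mul_eq_one ⟨(d : Ω)⁻¹, hmem'⟩ (Subtype.ext (mul_inv_cancel₀ h0)))
  refine ⟨W, hmem, fun a ha => hlt (algebraMap R (integralClosure R Ω) a) ?_, fun σ x hx => ?_⟩
  · exact ((IsLocalRing.mem_maximalIdeal _).mpr fun hu => ha (IsUnit.of_map (algebraMap R _) a hu))
  let σR : Ω →ₐ[R] Ω := σ.toAlgHom.restrictScalars R
  have hσx : IsIntegral R (σ x) := IsIntegral.map σR hx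
  refine ⟨hσx, ?_⟩
  let X : integralClosure R Ω := ⟨x, hx⟩
  let Y : integralClosure R Ω := ⟨σ x, hσx⟩
  refine hlt (Y - X) ?_
  haveI : Algebra.IsAlgebraic (IsLocalRing.ResidueField R) (IsLocalRing.ResidueField (integralClosure R Ω)) :=
    ⟨fun z => by
      obtain ⟨y, rfl⟩ := IsLocalRing.residue_surjective z
      have := (Algebra.IsIntegral.isIntegral (R := R) y).map (IsScalarTower.toAlgHom R (integralClosure R Ω)
        (IsLocalRing.ResidueField (integralClosure R Ω)))
      exact IsIntegral.isAlgebraic (this.tower_top (A := IsLocalRing.ResidueField R))⟩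
  haveI := Groth.L05.isPurelyInseparable_of_isSepClosed_base (IsLocalRing.ResidueField R)
    (IsLocalRing.ResidueField (integralClosure R Ω))
  obtain ⟨q, hq⟩ := ExpChar.exists (IsLocalRing.ResidueField R)
  haveI : ExpChar (IsLocalRing.ResidueField (integralClosure R Ω)) q :=
    expChar_of_injective_ringHom (algebraMap (IsLocalRing.ResidueField R) _).injective q
  obtain ⟨n, c, hc⟩ := IsPurelyInseparable.pow_mem (IsLocalRing.ResidueField R) q (IsLocalRing.residue _ X)
  obtain ⟨a, rfl⟩ := IsLocalRing.residue_surjective c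
  let σI : integralClosure R Ω →ₐ[R] integralClosure R Ω :=
    (σR.comp (integralClosure R Ω).val).codRestrict (integralClosure R Ω) fun z => IsIntegral.map σR z.2
  let σI' : integralClosure R Ω →ₐ[R] integralClosure R Ω :=
    ((σ.symm.toAlgHom.restrictScalars R).comp (integralClosure R Ω).val).codRestrict (integralClosure R Ω)
      fun z => IsIntegral.map (σ.symm.toAlgHom.restrictScalars R) z.2
  have hin : ∀ w : integralClosure R Ω, w ∈ IsLocalRing.maximalIdeal (integralClosure R Ω) →
      σI w ∈ IsLocalRing.maximalIdeal (integralClosure R Ω) := fun w hw hu => hw (by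
    have := hu.map σI'
    rwa [show σI' (σI w) = w from Subtype.ext (σ.symm_apply_apply (w : Ω))] at this)
  have hX : IsLocalRing.residue _ (X ^ q ^ n) = IsLocalRing.residue _ (algebraMap R (integralClosure R Ω) a) := by
    rw [map_pow]; exact hc.symm.trans (IsLocalRing.ResidueField.algebraMap_residue a).symm
  have hY : IsLocalRing.residue _ (Y ^ q ^ n) = IsLocalRing.residue _ (algebraMap R (integralClosure R Ω) a) := by
    rw [← sub_eq_zero, ← map_sub, IsLocalRing.residue_eq_zero_iff] at hX ⊢
    have := hin _ hX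
    rwa [map_sub, map_pow, AlgHom.commutes] at this
  rw [← IsLocalRing.residue_eq_zero_iff, map_sub, sub_eq_zero]
  refine iterateFrobenius_inj (IsLocalRing.ResidueField (integralClosure R Ω)) q n ?_
  rw [iterateFrobenius_def, iterateFrobenius_def, ← map_pow, ← map_pow, hX, hY]

/-- Let R be a strictly Henselian discrete valuation ring (Henselian, with separably closed residue
field), K its fraction field, Ω a separable closure of K and G the group of K-algebra automorphisms
of Ω; let r ≥ 1 be an integer invertible in the residue field of R, ϖ a uniformizer of R and ρ an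
r-th root of ϖ in Ω, so that the fundamental character χ : G → μ_r(Ω) is σ ↦ σ(ρ)/ρ. Then every
homomorphism φ of the abstract group G into an abelian group M with rM = 0 factors uniquely through
χ: there is exactly one homomorphism u : μ_r(Ω) → M with φ(σ) = u(χ(σ)) for every σ in G.
(Homomorphisms are written as maps respecting the group laws; χ(σ) is the root of unity ζ with ζρ =
σ(ρ).) -/
theorem result
    (R : Type u) [CommRing R] [IsDomain R] [IsDiscreteValuationRing R] [HenselianLocalRing R]
    [IsSepClosed (IsLocalRing.ResidueField R)]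
    (K : Type u) [Field K] [Algebra R K] [IsFractionRing R K]
    (Ω : Type u) [Field Ω] [Algebra K Ω] [IsSepClosure K Ω]
    (r : ℕ) [NeZero r] (hr : IsUnit (r : IsLocalRing.ResidueField R))
    (ϖ : R) (hϖ : Irreducible ϖ) (ρ : Ω) (hρ : ρ ^ r = algebraMap K Ω (algebraMap R K ϖ))
    (M : Type v) [AddCommGroup M] (hM : ∀ x : M, r • x = 0)
    (φ : (Ω ≃ₐ[K] Ω) → M) (hφ : ∀ σ τ : Ω ≃ₐ[K] Ω, φ (σ * τ) = φ σ + φ τ) :
    ∃! u : ↥(rootsOfUnity r Ω) → M, (∀ ζ ξ : ↥(rootsOfUnity r Ω), u (ζ * ξ) = u ζ + u ξ) ∧
      ∀ (σ : Ω ≃ₐ[K] Ω) (ζ : ↥(rootsOfUnity r Ω)), ((ζ : Ωˣ) : Ω) * ρ = σ ρ → φ σ = u ζ := by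
  obtain ⟨W, h⟩ := exists_inertial R K Ω
  haveI : IsGalois K Ω := Groth.L15.TameGal.isGalois
  have hrk : (r : IsLocalRing.ResidueField R) ≠ 0 := hr.ne_zero
  have hr0 : 0 < r := Nat.pos_of_ne_zero (NeZero.ne r)
  have hπ0 : algebraMap K Ω (algebraMap R K ϖ) ≠ 0 :=
    (_root_.map_ne_zero _).mpr ((map_ne_zero_iff _ (IsFractionRing.injective R K)).mpr hϖ.ne_zero)
  have hρ0 : ρ ≠ 0 := fun h0 => hπ0 (by rw [← hρ, h0, zero_pow hr0.ne'])
  have hφ1 : φ 1 = 0 := by simpa using hφ 1 1
  have hpow : ∀ (y : Ω ≃ₐ[K] Ω) (k : ℕ), φ (y ^ k) = k • φ y := by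
    intro y k
    induction k with
    | zero => simp [hφ1]
    | succ k ih => rw [pow_succ, hφ, ih, succ_nsmul]
  have hfix : ∀ τ : Ω ≃ₐ[K] Ω, τ ρ = ρ → φ τ = 0 := by
    intro τ hτ
    obtain ⟨y, y', rfl⟩ := Groth.L15.TameGal.eq_pow_mul_pow h hϖ hrk hρ hτ
    rw [hφ, hpow, hpow, hM, hM, add_zero]
  have hroot : ∀ ζ : ↥(rootsOfUnity r Ω), ((ζ : Ωˣ) : Ω) ^ r = 1 := fun ζ => by
    rw [← Units.val_pow_eq_pow_val, (mem_rootsOfUnity r (ζ : Ωˣ)).mp ζ.2, Units.val_one]
  have hex : ∀ ζ : ↥(rootsOfUnity r Ω), ∃ σ : Ω ≃ₐ[K] Ω, σ ρ = ((ζ : Ωˣ) : Ω) * ρ := fun ζ =>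
    Groth.L15.TameGal.exists_aut hϖ hr0 hρ (by rw [mul_pow, hroot, one_mul, hρ])
  choose s hs using hex
  have heq : ∀ σ τ : Ω ≃ₐ[K] Ω, σ ρ = τ ρ → φ σ = φ τ := by
    intro σ τ hστ
    have h1 := hfix (τ⁻¹ * σ) (by rw [AlgEquiv.mul_apply, hστ]; exact τ.symm_apply_apply ρ)
    have h2 := hφ τ (τ⁻¹ * σ)
    rw [mul_inv_cancel_left, h1, add_zero] at h2
    exact h2
  refine ⟨fun ζ => φ (s ζ), ⟨fun ζ ξ => ?_, fun σ ζ hσ => heq σ (s ζ) (by rw [hs, hσ])⟩, fun u hu => ?_⟩
  · simp only
    rw [← hφ]
    refine heq _ _ ?_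
    rw [hs, AlgEquiv.mul_apply, hs, map_mul, hs, Groth.L15.TameGal.mu_fix h hrk (s ζ) (hroot ξ)]
    push_cast
    ring
  · funext ζ
    exact (hu.2 (s ζ) ζ (hs ζ).symm).symm

end Groth.Agent.S16232
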