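import Groth.Statements.S16233
import Groth.Agent.L13.NCTr.Basic

set_option autoImplicit false
open NCTr

namespace Groth.Agent.S16233

open Groth.Agent.L13.HSTrace

/-- Let Λ be a ring, not necessarily commutative, G a finite group, P a left Λ[G]-module with a finite
Λ[G]-basis b, regarded also as a Λ-module by restriction of scalars and equipped with any finite
Λ-basis c, and u a Λ[G]-linear endomorphism of P with diagonal matrix entries u_ii = (b.repr (u (b
i))) i in Λ[G]. Then the trace of u as a Λ-linear endomorphism, taken in Λ modulo additive
commutators with respect to c, equals |G| times the class of the sum over i of the coefficients of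
the identity element of G in the u_ii (that sum of coefficients is the value at the identity class
of the Λ[G]-trace of u, the G-trace of u). The source states this for P finitely generated
projective over Λ[G]; this row is the free case. -/
theorem result
    (Λ : Type*) [Ring Λ] (G : Type*) [Group G] [Fintype G]
    (P : Type*) [AddCommGroup P] [Module Λ P] [Module (MonoidAlgebra Λ G) P]
    [IsScalarTower Λ (MonoidAlgebra Λ G) P]
    {ι κ : Type*} [Fintype ι] [Fintype κ]
    (b : Module.Basis ι (MonoidAlgebra Λ G) P) (c : Module.Basis κ Λ P)
    (u : P →ₗ[MonoidAlgebra Λ G] P) :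
    NCTr.hsTrace c (u.restrictScalars Λ) =
      Fintype.card G • ∑ i, (QuotientAddGroup.mk ((b.repr (u (b i)) i).coeff 1) : NCTr.Abel Λ) := by
  classical
  rw [hsTrace_basis_independent c (towerBasis b), NCTr.hsTrace, Fintype.sum_prod_type,
    Finset.smul_sum, Finset.sum_comm]
  refine Finset.sum_congr rfl fun i _ => ?_
  rw [← Finset.card_univ, ← Finset.sum_const]
  refine Finset.sum_congr rfl fun g _ => congr_arg QuotientAddGroup.mk ?_
  have h := towerBasis_repr_apply b u 1 g i
  rw [inv_one, mul_one, inv_mul_cancel, map_one, one_smul] at h
  exact h

end Groth.Agent.S16233
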