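import Groth.Statements.S16234
import Mathlib.RingTheory.Support
import Mathlib.RingTheory.Artinian.Module
import Mathlib.RingTheory.FiniteLength
import Mathlib.RingTheory.HopkinsLevitzki

set_option autoImplicit false
universe u v
open CAlg

namespace Groth.Agent.S16234

/-- For a finitely generated module M over a Noetherian commutative ring A, every prime ideal in the
support of M is a maximal ideal if and only if M has finite length. -/
theorem result (A : Type u) [CommRing A] [IsNoetherianRing A]
    (M : Type v) [AddCommGroup M] [Module A M] [Module.Finite A M] :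
    (∀ p ∈ Module.support A M, p.asIdeal.IsMaximal) ↔ IsFiniteLength A M := by
  have hiff : (∀ p ∈ Module.support A M, p.asIdeal.IsMaximal) ↔
      IsArtinianRing (A ⧸ Module.annihilator A M) := by
    haveI : IsNoetherianRing (A ⧸ Module.annihilator A M) :=
      isNoetherianRing_of_surjective A _ (Ideal.Quotient.mk _) Ideal.Quotient.mk_surjective
    rw [isArtinianRing_iff_krullDimLE_zero, Module.support_eq_zeroLocus]
    constructor
    · intro h
      refine Ring.KrullDimLE.mk₀ fun P hP => ?_
      have hm := h ⟨P.comap (Ideal.Quotient.mk _), inferInstance⟩ (by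
        intro x hx
        rw [SetLike.mem_coe, Ideal.mem_comap, Ideal.Quotient.eq_zero_iff_mem.mpr hx]
        exact zero_mem P)
      exact Ideal.map_comap_of_surjective _ Ideal.Quotient.mk_surjective P ▸
        Ideal.IsMaximal.map_of_surjective_of_ker_le Ideal.Quotient.mk_surjective (m := _) (by
          rw [Ideal.mk_ker]
          intro x hx
          rw [Ideal.mem_comap, Ideal.Quotient.eq_zero_iff_mem.mpr hx]
          exact zero_mem P)
    · intro _ p hp
      have : (p.asIdeal.map (Ideal.Quotient.mk (Module.annihilator A M))).IsPrime :=
        Ideal.isPrime_map_quotientMk_of_isPrime hp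
      have hm : (p.asIdeal.map (Ideal.Quotient.mk (Module.annihilator A M))).IsMaximal :=
        Ideal.IsPrime.isMaximal' ‹_›
      have := Ideal.comap_isMaximal_of_surjective (Ideal.Quotient.mk _) Ideal.Quotient.mk_surjective
        (K := p.asIdeal.map (Ideal.Quotient.mk (Module.annihilator A M)))
      rwa [Ideal.comap_map_of_surjective' _ Ideal.Quotient.mk_surjective, Ideal.mk_ker,
        sup_eq_left.mpr hp] at this
  rw [hiff, isFiniteLength_iff_isNoetherian_isArtinian]
  letI : Module (A ⧸ Module.annihilator A M) M :=
    Module.IsTorsionBySet.module (fun m a => Module.mem_annihilator.mp a.2 m)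
  haveI : IsScalarTower A (A ⧸ Module.annihilator A M) M :=
    Module.IsTorsionBySet.isScalarTower _
  constructor
  · intro _
    have : Module.Finite (A ⧸ Module.annihilator A M) M := Module.Finite.of_restrictScalars_finite A _ _
    refine ⟨inferInstance, ?_⟩
    exact isArtinian_of_surjective_algebraMap (R := A ⧸ Module.annihilator A M) Ideal.Quotient.mk_surjective
  · rintro ⟨-, _⟩
    obtain ⟨n, s, hs⟩ := Module.Finite.exists_fin (R := A) (M := M)
    let f : A →ₗ[A] (Fin n → M) := LinearMap.pi fun i => LinearMap.toSpanSingleton A M (s i)
    have hker : LinearMap.ker f = Module.annihilator A M := by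
      refine le_antisymm (fun a ha => Module.mem_annihilator.mpr fun m => ?_) fun a ha => ?_
      · have hle : Submodule.span A (Set.range s) ≤ LinearMap.ker (LinearMap.lsmul A M a) :=
          Submodule.span_le.mpr fun _ ⟨i, hi⟩ => hi ▸ congrFun ha i
        exact hle (hs ▸ Submodule.mem_top : m ∈ Submodule.span A (Set.range s))
      · exact funext fun i => Module.mem_annihilator.mp ha _
    have : IsArtinian A (A ⧸ Module.annihilator A M) := by
      rw [← hker]
      exact isArtinian_of_injective f.quotKerEquivRange.toLinearMap f.quotKerEquivRange.injective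
    exact isArtinian_of_tower A this

end Groth.Agent.S16234
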