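import Groth.Statements.S16235
import Mathlib.RingTheory.KrullDimension.Regular
import Mathlib.RingTheory.Regular.Flat
import Mathlib.RingTheory.Ideal.KrullsHeightTheorem
import Mathlib.RingTheory.Ideal.Height

set_option autoImplicit false
universe u
open CAlg

namespace Groth.Agent.S16235

/-- Let A be a Noetherian commutative ring and x_1, …, x_r a regular sequence on A (each x_i a
non-zero-divisor on A/(x_1, …, x_{i-1})) generating an ideal I ≠ A. Then the height of I, the
infimum of the heights of the minimal primes over I, equals r. -/
theorem result (A : Type u) [CommRing A] [IsNoetherianRing A]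
    (r : ℕ) (x : Fin r → A) (hx : RingTheory.Sequence.IsWeaklyRegular A (List.ofFn x))
    (hI : Ideal.span (Set.range x) ≠ ⊤) :
    (Ideal.span (Set.range x)).height = r := by
  classical
  refine le_antisymm ?_ ?_
  · refine (Ideal.height_le_spanFinrank _ hI).trans (Nat.cast_le.mpr ?_)
    refine (Submodule.spanFinrank_span_le_ncard_of_finite (Set.finite_range _)).trans ?_
    rw [← Nat.card_coe_set_eq]
    exact (Finite.card_range_le x).trans (by simp)
  · rw [Ideal.height_eq_inf_minimalPrimes]
    refine le_iInf₂ fun p hp => ?_
    haveI := hp.1.1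
    let L := Localization.AtPrime p
    have hreg := hx.isRegular_of_isLocalization_of_mem L p fun r hr => by
      obtain ⟨i, rfl⟩ := List.mem_ofFn.mp hr
      exact hp.1.2 (Ideal.subset_span ⟨i, rfl⟩)
    have h := ringKrullDim_add_length_eq_ringKrullDim_of_isRegular _ hreg
    rw [IsLocalization.AtPrime.ringKrullDim_eq_height p L, List.length_map, List.length_ofFn] at h
    haveI : Nontrivial (L ⧸ Ideal.ofList ((List.ofFn x).map (algebraMap A L))) :=
      Ideal.Quotient.nontrivial_iff.mpr (fun h' => hreg.top_ne_smul (by rw [h', smul_eq_mul, Ideal.mul_top]))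
    have h' : (r : WithBot ℕ∞) ≤ (p.height : WithBot ℕ∞) := by
      rw [← h]
      exact le_add_of_nonneg_left ringKrullDim_nonneg_of_nontrivial
    exact_mod_cast h'

end Groth.Agent.S16235
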