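import Groth.Statements.S16237
import Groth.Agent.L29.AffLine.Kill

set_option autoImplicit false
set_option backward.isDefEq.respectTransparency false
universe u
open CategoryTheory CategoryTheory.Limits AlgebraicGeometry
attribute [local instance] HasDerivedCategory.standard
open SGA6

namespace Groth.Agent.S16237

/-- Let X be a Noetherian scheme, 𝔸¹_X the affine line over X with coordinate t, and j : U ⟶ 𝔸¹_X an
open immersion whose image is the open subset D(t) where t is invertible (so U is X × Spec ℤ[t,
t⁻¹]). Restriction along j is exact and preserves coherence (instance hypothesis and hypothesis hj);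
the induced homomorphism K₀(Coh 𝔸¹_X) ⟶ K₀(Coh U) between Grothendieck groups of coherent modules is
bijective. -/
theorem result (X : Scheme.{u}) [IsNoetherian X] {U : Scheme.{u}}
    (j : U ⟶ 𝔸(ULift.{u} (Fin 1); X)) [IsOpenImmersion j]
    (hU : Set.range j = ((𝔸(ULift.{u} (Fin 1); X)).basicOpen (AffineSpace.coord X (ULift.up (0 : Fin 1))) : Set (𝔸(ULift.{u} (Fin 1); X))))
    [PreservesFiniteLimits (Scheme.Modules.restrictFunctor j)]
    (hj : ∀ M : (𝔸(ULift.{u} (Fin 1); X)).Modules, Coh.IsCoh M → Coh.IsCoh ((Scheme.Modules.restrictFunctor j).obj M)) :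
    Function.Bijective (SGA6.mapSub (Scheme.Modules.restrictFunctor j) (fun M : (𝔸(ULift.{u} (Fin 1); X)).Modules => Coh.IsCoh M)
      (fun M : (U).Modules => Coh.IsCoh M) hj) := by
  let Y := Groth.L29.AffLine.Ln X
  haveI : AlgebraicGeometry.IsNoetherian Y := inferInstance
  let s := Groth.L29.AffLine.zsec X
  haveI : IsClosedImmersion s := Groth.L29.AffLine.isClosedImmersion_zsec X
  haveI := Groth.L17.ClosedPush.preservesColimits_push s
  haveI : (Scheme.Modules.pushforward s).Additive := inferInstance
  haveI : PreservesFiniteColimits (Scheme.Modules.pushforward s) := inferInstance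
  haveI : PreservesFiniteLimits (Scheme.Modules.pushforward s) := inferInstance
  have hs : Set.range j = (Set.range s)ᶜ := by
    rw [Groth.L29.AffLine.range_zsec, compl_compl]
    exact hU
  obtain ⟨hsurj, hker⟩ := Groth.L29.KcohLoc.main j (Set.range s) hs s rfl
    (fun M hM => Groth.L16.CohClosedPush.isCoh_push s hM) hj
  refine ⟨(injective_iff_map_eq_zero _).2 fun x hx => ?_, hsurj⟩
  obtain ⟨y, rfl⟩ := hker.le hx
  exact AddMonoidHom.mem_ker.1 (Groth.L29.KcohLoc.mem_of_cl
    (AddMonoidHom.ker (SGA6.mapSub (Scheme.Modules.pushforward s) (fun M : X.Modules => Coh.IsCoh M)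
      (fun M : Y.Modules => Coh.IsCoh M) (fun M hM => Groth.L16.CohClosedPush.isCoh_push s hM)))
    (fun N hN => (Groth.L29.KcohLoc.mapSub_cl _ _ hN).trans (Groth.L29.AffLine.cl_push_zsec X N hN)) y)

end Groth.Agent.S16237
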