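import Groth.Statements.S16238
import Groth.Agent.L01.TorLES
import Groth.Agent.L28.Kun.Shift
import Groth.Agent.L28.TorFacts
import Mathlib.RingTheory.Regular.RegularSequence
import Mathlib.RingTheory.Nakayama
import Mathlib.LinearAlgebra.TensorProduct.RightExactness

set_option autoImplicit false
universe u
open CategoryTheory
open CAlg

namespace Groth.Agent.S16238

section
open scoped TensorProduct
variable {A : Type u} [CommRing A] (M : Type u) [AddCommGroup M] [Module A M]

noncomputable abbrev lift (I : Ideal A) : M ⊗[A] I →ₗ[A] M :=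
  (TensorProduct.rid A M).toLinearMap ∘ₗ LinearMap.lTensor M I.subtype

theorem lift_tmul (I : Ideal A) (m : M) (a : I) : lift M I (m ⊗ₜ[A] a) = (a : A) • m := by
  simp [lift]

theorem mem_smul_top_iff (I : Ideal A) (m : M) :
    m ∈ I • (⊤ : Submodule A M) ↔ ∃ w, lift M I w = m := by
  constructor
  · intro h
    refine Submodule.smul_induction_on h (fun r hr n _ => ⟨n ⊗ₜ[A] ⟨r, hr⟩, lift_tmul M I n _⟩) ?_
    rintro _ _ ⟨a, rfl⟩ ⟨b, rfl⟩
    exact ⟨a + b, map_add _ _ _⟩
  · rintro ⟨w, rfl⟩
    induction w with
    | zero => simp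
    | tmul n a => rw [lift_tmul]; exact Submodule.smul_mem_smul a.2 Submodule.mem_top
    | add a b ha hb => rw [map_add]; exact add_mem ha hb

variable {I I' : Ideal A} {x : A} (hI' : I' = I ⊔ Ideal.span {x})

abbrev incl : I →ₗ[A] I' := Submodule.inclusion (hI' ▸ le_sup_left)

abbrev gen : I' := ⟨x, hI' ▸ Submodule.mem_sup_right (Ideal.mem_span_singleton_self x)⟩

theorem lift_incl (w : M ⊗[A] I) : lift M I' ((incl hI').lTensor M w) = lift M I w := by
  induction w with
  | zero => simp
  | tmul n a => rw [LinearMap.lTensor_tmul, lift_tmul, lift_tmul]; rfl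
  | add a b ha hb => simp only [map_add, ha, hb]

theorem exists_decomp (z : M ⊗[A] I') :
    ∃ w m, z = (incl hI').lTensor M w + m ⊗ₜ[A] gen hI' := by
  induction z with
  | zero => exact ⟨0, 0, by simp⟩
  | tmul n a =>
    obtain ⟨b, hb, c, hc, hbc⟩ := Submodule.mem_sup.1 (hI' ▸ a.2 : (a : A) ∈ I ⊔ Ideal.span {x})
    obtain ⟨d, rfl⟩ := Ideal.mem_span_singleton'.1 hc
    refine ⟨n ⊗ₜ[A] ⟨b, hb⟩, d • n, ?_⟩
    rw [LinearMap.lTensor_tmul, TensorProduct.smul_tmul, ← TensorProduct.tmul_add]
    exact congrArg (n ⊗ₜ[A] ·) (Subtype.ext (by simp [← hbc]))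
  | add a b ha hb =>
    obtain ⟨w, m, rfl⟩ := ha
    obtain ⟨w', m', rfl⟩ := hb
    exact ⟨w + w', m + m', by rw [map_add, TensorProduct.add_tmul]; abel⟩

theorem exists_of_eq_zero (hA : ∀ b : A, x * b ∈ I → b ∈ I) (w : M ⊗[A] I) (m : M)
    (h : (incl hI').lTensor M w + m ⊗ₜ[A] gen hI' = 0) :
    ∃ u, w = -(x • u) ∧ m = lift M I u := by
  let Ψ : I × A →ₗ[A] I' := (incl hI').coprod (LinearMap.toSpanSingleton A I' (gen hI'))
  let Φ : I →ₗ[A] I × A := (-(x • LinearMap.id)).prod I.subtype
  have hΨ : Function.Surjective Ψ := by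
    rintro ⟨a, ha⟩
    obtain ⟨b, hb, c, hc, hbc⟩ := Submodule.mem_sup.1 (hI' ▸ ha : a ∈ I ⊔ Ideal.span {x})
    obtain ⟨d, rfl⟩ := Ideal.mem_span_singleton'.1 hc
    exact ⟨(⟨b, hb⟩, d), Subtype.ext (by simp [Ψ, ← hbc])⟩
  have hex : Function.Exact Φ Ψ := by
    rintro ⟨⟨a, ha⟩, b⟩
    constructor
    · intro h0
      have h1 : a + b * x = 0 := by simpa [Ψ] using congrArg Subtype.val h0
      have hb : b ∈ I := hA b (by rw [mul_comm, eq_neg_of_add_eq_zero_right h1]; exact neg_mem ha)
      exact ⟨⟨b, hb⟩, Prod.ext (Subtype.ext (by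
        simp [Φ]; linear_combination -h1)) rfl⟩
    · rintro ⟨c, hc⟩
      rw [← hc]
      exact Subtype.ext (by simp [Φ, Ψ, mul_comm])
  let z : M ⊗[A] (I × A) := (LinearMap.inl A I A).lTensor M w + m ⊗ₜ[A] ((0 : I), (1 : A))
  have hz : Ψ.lTensor M z = 0 := by
    rw [map_add, ← LinearMap.lTensor_comp_apply, LinearMap.coprod_inl, LinearMap.lTensor_tmul]
    simpa [Ψ] using h
  obtain ⟨u, hu⟩ := (lTensor_exact M hex hΨ z).1 hz
  refine ⟨u, ?_, ?_⟩
  · have h1 := congrArg ((LinearMap.fst A I A).lTensor M) hu
    rw [map_add, ← LinearMap.lTensor_comp_apply, ← LinearMap.lTensor_comp_apply,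
      LinearMap.fst_prod, LinearMap.fst_comp_inl, LinearMap.lTensor_id_apply, LinearMap.lTensor_tmul,
      LinearMap.fst_apply, TensorProduct.tmul_zero, add_zero] at h1
    rw [← h1, LinearMap.lTensor_neg, LinearMap.lTensor_smul, LinearMap.neg_apply,
      LinearMap.smul_apply, LinearMap.lTensor_id_apply]
  · have h1 := congrArg (fun t => TensorProduct.rid A M ((LinearMap.snd A I A).lTensor M t)) hu
    simp only [map_add, ← LinearMap.lTensor_comp_apply, LinearMap.snd_comp_inl, LinearMap.lTensor_zero,
      LinearMap.zero_apply, map_zero, zero_add, LinearMap.lTensor_tmul, LinearMap.snd_apply,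
      TensorProduct.rid_tmul, one_smul, z] at h1
    rw [← h1]
    rfl

include hI' in
theorem injective_succ (hA : ∀ b : A, x * b ∈ I → b ∈ I)
    (hM : ∀ m : M, x • m ∈ I • (⊤ : Submodule A M) → m ∈ I • (⊤ : Submodule A M))
    (h : Function.Injective (lift M I)) : Function.Injective (lift M I') := by
  rw [injective_iff_map_eq_zero]
  intro z hz
  obtain ⟨w, m, rfl⟩ := exists_decomp M hI' z
  rw [map_add, lift_incl, lift_tmul] at hz
  obtain ⟨u, hu⟩ := (mem_smul_top_iff M I m).1 (hM m ((mem_smul_top_iff M I _).2
    ⟨-w, by rw [map_neg, ← eq_neg_of_add_eq_zero_right hz]⟩))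
  have hw : w + x • u = 0 := (injective_iff_map_eq_zero _).1 h _ (by rw [map_add, map_smul, hu]; exact hz)
  rw [eq_neg_of_add_eq_zero_left hw, ← hu]
  clear hz hw hu
  induction u with
  | zero => simp
  | tmul n a =>
    rw [lift_tmul, map_neg, map_smul, LinearMap.lTensor_tmul, TensorProduct.smul_tmul,
      ← TensorProduct.tmul_smul, ← TensorProduct.tmul_neg, ← TensorProduct.tmul_add]
    rw [show -(x • (incl hI') a) + (a : A) • gen hI' = 0 from Subtype.ext (by simp [mul_comm]),
      TensorProduct.tmul_zero]
  | add a b ha hb =>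
    rw [smul_add, neg_add, map_add, map_add, TensorProduct.add_tmul, add_add_add_comm, ha, hb, add_zero]

include hI' in
theorem regular_of_injective (hA : ∀ b : A, x * b ∈ I → b ∈ I)
    (h : Function.Injective (lift M I')) :
    (∀ m : M, x • m ∈ I • (⊤ : Submodule A M) → m ∈ I • (⊤ : Submodule A M)) ∧
      LinearMap.ker (lift M I) ≤ Ideal.span {x} • LinearMap.ker (lift M I) := by
  constructor
  · intro m hm
    obtain ⟨w, hw⟩ := (mem_smul_top_iff M I _).1 hm
    have h0 : (incl hI').lTensor M (-w) + m ⊗ₜ[A] gen hI' = 0 :=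
      (injective_iff_map_eq_zero _).1 h _ (by
        rw [map_add, lift_incl, lift_tmul, map_neg, hw]; exact neg_add_cancel _)
    obtain ⟨u, -, hu⟩ := exists_of_eq_zero M hI' hA _ _ h0
    exact (mem_smul_top_iff M I m).2 ⟨u, hu.symm⟩
  · intro w hw
    have h0 : (incl hI').lTensor M w = 0 :=
      (injective_iff_map_eq_zero _).1 h _ (by rw [lift_incl]; exact hw)
    obtain ⟨u, hu, hu'⟩ := exists_of_eq_zero M hI' hA w 0 (by
      rw [h0, TensorProduct.zero_tmul, add_zero])
    rw [hu, ← smul_neg]
    exact Submodule.smul_mem_smul (Ideal.mem_span_singleton_self x) (neg_mem hu'.symm)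

theorem injective_bot : Function.Injective (lift M (⊥ : Ideal A)) := by
  rw [injective_iff_map_eq_zero]
  intro z hz
  clear hz
  induction z with
  | zero => rfl
  | tmul n a => rw [Subsingleton.elim a 0, TensorProduct.tmul_zero]
  | add a b ha hb => rw [ha, hb, add_zero]

open CategoryTheory in
theorem isZero_tor_one_iff (I : Ideal A) :
    Limits.IsZero (((Tor (ModuleCat.{u} A) 1).obj (ModuleCat.of A M)).obj (ModuleCat.of A (A ⧸ I))) ↔
      Function.Injective (lift M I) := by
  obtain ⟨e⟩ := Groth.L28.Kun.nonempty_tor_one (A := A) (X := M) I.subtype (Submodule.mkQ I)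
    Subtype.val_injective (LinearMap.exact_subtype_mkQ I) (Submodule.mkQ_surjective I)
  rw [ModuleCat.isZero_iff_subsingleton,
    show lift M I = (TensorProduct.rid A M).toLinearMap ∘ₗ LinearMap.lTensor M I.subtype from rfl,
    LinearMap.coe_comp, LinearEquiv.coe_coe, (TensorProduct.rid A M).injective.of_comp_iff,
    ← LinearMap.ker_eq_bot, ← Submodule.subsingleton_iff_eq_bot]
  exact ⟨fun h => @Equiv.subsingleton _ _ e.toEquiv.symm h, fun h => @Equiv.subsingleton _ _ e.toEquiv h⟩

end


/-- Let A be a Noetherian local ring, x_1, …, x_n a regular sequence on A (each x_i a non-zero-divisor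
on A/(x_1, …, x_{i-1})) generating the ideal I, and J an ideal with I + J ≠ A. Then the images of
x_1, …, x_n form a regular sequence on A/J if and only if Tor_i^A(A/I, A/J) = 0 for all i ≥ 1 (in
degree 0 the Tor is A/(I + J) in any case). (The published statement does not ask the x_i to form a
regular sequence on A itself; without this the equivalence fails, for instance for A = k[e]/(e²), n
= 1, x_1 = e and J = 0, where every higher Tor of A/(e) against the free module A vanishes although
e is a zero-divisor.) -/
theorem result (A : Type u) [CommRing A] [IsNoetherianRing A] [IsLocalRing A]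
    (n : ℕ) (x : Fin n → A) (hx : RingTheory.Sequence.IsWeaklyRegular A (List.ofFn x))
    (J : Ideal A) (hIJ : Ideal.span (Set.range x) ⊔ J ≠ ⊤) :
    RingTheory.Sequence.IsWeaklyRegular (A ⧸ J) (List.ofFn (fun i : Fin n => Ideal.Quotient.mk J (x i))) ↔
      ∀ i : ℕ, 1 ≤ i → Limits.IsZero (((Tor (ModuleCat.{u} A) i).obj
        (ModuleCat.of A (A ⧸ Ideal.span (Set.range x)))).obj (ModuleCat.of A (A ⧸ J))) := by
  classical
  set l := List.ofFn x with hl
  have hlen : l.length = n := List.length_ofFn
  let M := A ⧸ J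
  let I : ℕ → Ideal A := fun k => Ideal.ofList (l.take k)
  have hI0 : I 0 = ⊥ := by simp [I]
  have hIn : I n = Ideal.span (Set.range x) := by
    simp only [I, List.take_of_length_le hlen.le]
    exact congrArg Ideal.span (Set.ext fun a => by simp [l, List.mem_ofFn])
  have hstep : ∀ k (hk : k < l.length), I (k + 1) = I k ⊔ Ideal.span {l[k]} := fun k hk => by
    simp only [I, List.take_succ_eq_append_getElem hk, Ideal.ofList_append, Ideal.ofList_singleton]
  have hA : ∀ k (hk : k < l.length), ∀ b : A, l[k] * b ∈ I k → b ∈ I k := fun k hk => by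
    have := (isSMulRegular_quotient_iff_mem_of_smul_mem _ _).1
      ((RingTheory.Sequence.isWeaklyRegular_iff A l).1 hx k hk)
    simpa only [smul_eq_mul, Ideal.mul_top] using this
  have hflip : ∀ i, Limits.IsZero (((Tor (ModuleCat.{u} A) i).obj
        (ModuleCat.of A (A ⧸ Ideal.span (Set.range x)))).obj (ModuleCat.of A M)) ↔
      Limits.IsZero (((Tor (ModuleCat.{u} A) i).obj (ModuleCat.of A M)).obj
        (ModuleCat.of A (A ⧸ I n))) := fun i => by
    obtain ⟨e⟩ := Groth.Agent.S6316.result A i
    rw [hIn]
    exact ((e.app _).app _).isZero_iff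
  rw [show (List.ofFn fun i => Ideal.Quotient.mk J (x i)) = l.map (algebraMap A (A ⧸ J)) by
      rw [hl, List.map_ofFn]; rfl,
    RingTheory.Sequence.isWeaklyRegular_map_algebraMap_iff, RingTheory.Sequence.isWeaklyRegular_iff]
  constructor
  · intro hreg
    have key : ∀ k ≤ n, Function.Injective (lift M (I k)) ∧ ∀ i, Limits.IsZero
        (((Tor (ModuleCat.{u} A) (i + 1)).obj (ModuleCat.of A M)).obj (ModuleCat.of A (A ⧸ I k))) := by
      intro k
      induction k with
      | zero =>
        intro _
        refine ⟨hI0 ▸ injective_bot M, fun i => ?_⟩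
        haveI : Module.Flat A (A ⧸ I 0) :=
          Module.Flat.of_linearEquiv (Submodule.quotEquivOfEqBot (I 0) hI0)
        exact Groth.L28.TorFacts.isZero_of_flat_right _ (ModuleCat.of A (A ⧸ I 0)) i
      | succ k ih =>
        intro hk
        have hkl : k < l.length := by omega
        obtain ⟨hinj, hz⟩ := ih (by omega)
        have hinj' := injective_succ M (hstep k hkl) (hA k hkl)
          ((isSMulRegular_quotient_iff_mem_of_smul_mem _ _).1 (hreg k hkl)) hinj
        refine ⟨hinj', fun i => ?_⟩
        cases i with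
        | zero => exact (isZero_tor_one_iff M _).2 hinj'
        | succ j =>
          let g : (A ⧸ I k) →ₗ[A] (A ⧸ I (k + 1)) :=
            Submodule.factor (by rw [hstep k hkl]; exact le_sup_left)
          let S : ShortComplex (ModuleCat.{u} A) := ShortComplex.mk
            (ModuleCat.ofHom (l[k] • (LinearMap.id : (A ⧸ I k) →ₗ[A] _))) (ModuleCat.ofHom g)
            (by
              apply ModuleCat.hom_ext
              refine LinearMap.ext fun q => ?_
              obtain ⟨b, rfl⟩ := Submodule.Quotient.mk_surjective (I k) q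
              exact (Submodule.Quotient.mk_eq_zero _).2 (by
                rw [hstep k hkl]
                exact Submodule.mem_sup_right (Ideal.mul_mem_right _ _ (Ideal.mem_span_singleton_self _))))
          have hS : S.ShortExact :=
            { exact := (ShortComplex.ShortExact.moduleCat_exact_iff_function_exact S).2 (by
                intro q
                constructor
                · obtain ⟨b, rfl⟩ := Submodule.Quotient.mk_surjective (I k) q
                  intro hq
                  have hb : b ∈ I (k + 1) := (Submodule.Quotient.mk_eq_zero _).1 hq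
                  rw [hstep k hkl, Submodule.mem_sup] at hb
                  obtain ⟨c, hc, d, hd, rfl⟩ := hb
                  obtain ⟨e, rfl⟩ := Ideal.mem_span_singleton'.1 hd
                  exact ⟨Submodule.Quotient.mk e, (Submodule.Quotient.eq _).2
                    (by simpa [mul_comm] using neg_mem hc)⟩
                · rintro ⟨r, rfl⟩
                  exact congrArg (fun φ => φ.hom r) S.zero)
              mono_f := (ModuleCat.mono_iff_injective _).2 (by
                refine (injective_iff_map_eq_zero (l[k] • (LinearMap.id : (A ⧸ I k) →ₗ[A] _))).2 fun q hq => ?_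
                obtain ⟨b, rfl⟩ := Submodule.Quotient.mk_surjective (I k) q
                exact (Submodule.Quotient.mk_eq_zero _).2
                  (hA k hkl b ((Submodule.Quotient.mk_eq_zero _).1 hq)))
              epi_g := (ModuleCat.epi_iff_surjective _).2 (Submodule.factor_surjective (by rw [hstep k hkl]; exact le_sup_left)) }
          exact Groth.L01.TorLES.isZero_three (ModuleCat.of A M) hS (j + 1) (hz (j + 1)) (hz j)
    intro i hi
    obtain ⟨j, rfl⟩ : ∃ j, i = j + 1 := ⟨i - 1, by omega⟩
    exact (hflip _).2 ((key n le_rfl).2 j)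
  · intro h k hk
    have hn : Function.Injective (lift M (I n)) :=
      (isZero_tor_one_iff M _).1 ((hflip 1).1 (h 1 le_rfl))
    have hmem : ∀ j (hj : j < l.length), l[j] ∈ IsLocalRing.maximalIdeal A := fun j hj =>
      IsLocalRing.le_maximalIdeal hIJ (Submodule.mem_sup_left (by
        rw [← hIn]
        simp only [I, List.take_of_length_le hlen.le]
        exact Ideal.subset_span (List.getElem_mem hj)))
    have hdown : ∀ j (hj : j < l.length), Function.Injective (lift M (I (j + 1))) →
        Function.Injective (lift M (I j)) := fun j hj hinj => by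
      have h2 := (regular_of_injective M (hstep j hj) (hA j hj) hinj).2
      rw [← LinearMap.ker_eq_bot]
      haveI : Module.Finite A ↥(I j) := Module.Finite.iff_fg.2 (IsNoetherian.noetherian _)
      refine Submodule.eq_bot_of_le_smul_of_le_jacobson_bot _ _ (IsNoetherian.noetherian _) h2 ?_
      rw [IsLocalRing.jacobson_eq_maximalIdeal ⊥ bot_ne_top, Ideal.span_le]
      exact Set.singleton_subset_iff.2 (hmem j hj)
    have hall : ∀ d j, j + d = n → Function.Injective (lift M (I j)) := by
      intro d
      induction d with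
      | zero => intro j hj; rwa [show j = n by omega]
      | succ d ih => intro j hj; exact hdown j (by omega) (ih (j + 1) (by omega))
    exact (isSMulRegular_quotient_iff_mem_of_smul_mem _ _).2
      (regular_of_injective M (hstep k hk) (hA k hk) (hall (n - (k + 1)) (k + 1) (by omega))).1

end Groth.Agent.S16238
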