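import Groth.Statements.S1624
import Groth.Agent.L13.BlowTwo.Charts

set_option autoImplicit false
universe u
open CategoryTheory CategoryTheory.Limits AlgebraicGeometry
open Resolve

namespace Groth.Agent.S1624

/-- Let A be a regular local ring of dimension two and b : X → Spec A the blowing up in the maximal
ideal. If F is a quasi-coherent O_X-module which is globally generated, then H¹(X, F) = 0. -/
theorem result (A : Type u) [CommRing A] [IsRegularLocalRing A] (hA : ringKrullDim A = 2)
    (X : Scheme.{u}) (b : X ⟶ Spec (CommRingCat.of A)) (hb : BlowUp.IsBlowUp b (Curv2.idealSheaf A (IsLocalRing.maximalIdeal A)))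
    (F : X.Modules) (hF : Coh.IsQCoh F) (hgg : Curv2.IsGloballyGenerated F) : Subsingleton (Coh.HH X F 1) := by
  obtain ⟨f, hf⟩ := Groth.Agent.L13.BlowTwo.exists_gens hA
  rw [hf, Groth.Agent.L13.BlowTwo.curv2_idealSheaf] at hb
  obtain ⟨U, V, hcov, hU, hV, hUV, hsplit⟩ := Groth.Agent.L13.BlowTwo.exists_two_charts f b hb
  haveI := hF
  exact Groth.Agent.L13.BlowTwo.subsingleton_H1 hcov hU hV hUV hsplit F hgg

end Groth.Agent.S1624
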