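import Groth.Statements.S16240
import Groth.Agent.L18.SyzygyFree
import Groth.Agent.L15.CohFlat
import Groth.Agent.L18.LocFreeTilde
import Groth.Agent.L00.StalkFunctor
import Groth.Agent.S0563
import Groth.Agent.L16.CohSupport

set_option autoImplicit false
universe u
open CategoryTheory CategoryTheory.Limits AlgebraicGeometry
open Coh

namespace Groth.Agent.S16240

/-- Let X be a Noetherian scheme all of whose local rings are regular, of (topological Krull) dimension
at most m, and let S be an exact sequence of O_X-modules G ⟶ E_m ⟶ ⋯ ⟶ E_1 ⟶ F with m + 2 terms (G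
in position 0, F in position m + 1), injective at the first map and surjective at the last, in which
F is coherent and E_1, …, E_m are finite locally free. Then G is finite locally free. (The source
asks for p + 1 vector bundles with p ≥ dim X − 1, i.e. at least dim X of them, and finite dimension;
here m bounds the dimension.) -/
theorem result (X : Scheme.{u}) [IsNoetherian X]
    (hreg : ∀ x : X, IsRegularLocalRing (X.presheaf.stalk x)) (m : ℕ)
    (hdim : topologicalKrullDim ↥X ≤ (m : WithBot ℕ∞))
    (S : ComposableArrows X.Modules (m + 1)) (hS : S.Exact)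
    (hmono : Mono (S.map' 0 1 (Nat.zero_le 1) (Nat.le_add_left 1 m)))
    (hepi : Epi (S.map' m (m + 1) (Nat.le_succ m) (le_refl (m + 1))))
    (hE : ∀ i : Fin m, FlatMod.IsFinLocFree (S.obj ⟨i.1 + 1, Nat.succ_lt_succ (Nat.lt_succ_of_lt i.2)⟩))
    (hF : Coh.IsCoh (S.obj (Fin.last (m + 1)))) :
    FlatMod.IsFinLocFree (S.obj 0) := by
  have hEcoh : ∀ i (h : i < m + 2), 1 ≤ i → i ≤ m → FlatMod.IsFinLocFree (S.obj ⟨i, h⟩) := by
    intro i h h1 h2
    obtain ⟨k, rfl⟩ : ∃ k, i = k + 1 := ⟨i - 1, by omega⟩
    exact hE ⟨k, by omega⟩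
  have hcoh : ∀ {M : X.Modules}, FlatMod.IsFinLocFree M → Coh.IsCoh M := fun {M} h => by
    haveI : SheafOfModules.IsFinitePresentation (R := X.ringCatSheaf) M := Groth.L18.LFP.isFP_of_isFinLocFree M h
    exact ⟨inferInstance, inferInstance⟩
  have hG : Coh.IsCoh (S.obj 0) := by
    rcases Nat.eq_zero_or_pos m with rfl | hm
    · haveI := hmono
      haveI : Epi (S.map' 0 1) := hepi
      have hi : IsIso (S.map' 0 1) := isIso_of_mono_of_epi _
      exact Groth.L16.CohSupport.isCoh_of_iso (@asIso _ _ _ _ _ hi).symm hF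
    · haveI := hmono
      have w := hS.toIsComplex.zero 0 (by omega)
      haveI : Epi (kernel.lift (S.map' 1 2) (S.map' 0 1) w) :=
        (ShortComplex.exact_iff_epi_kernel_lift _).1 (hS.exact 0 (by omega))
      haveI : Mono (kernel.lift (S.map' 1 2) (S.map' 0 1) w) := mono_of_mono_fac (kernel.lift_ι _ _ _)
      have hi : IsIso (kernel.lift (S.map' 1 2) (S.map' 0 1) w) := isIso_of_mono_of_epi _
      have h1 : Coh.IsCoh (S.obj' 1) := hcoh (hEcoh 1 (by omega) le_rfl hm)
      have h2 : Coh.IsCoh (S.obj' 2) := by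
        rcases Nat.lt_or_ge m 2 with h | h
        · obtain rfl : m = 1 := by omega
          exact hF
        · exact hcoh (hEcoh 2 (by omega) (by omega) h)
      exact Groth.L16.CohSupport.isCoh_of_iso (@asIso _ _ _ _ _ hi).symm
        (haveI := h2.1; Groth.L16.CohSupport.isCoh_kernel h1 _)
  refine Groth.L15.CohFlat.isFinLocFree_of_isCoh_isFlat _ hG fun x => ?_
  haveI := hreg x
  let F := Groth.L00.Stk.F X x
  have hdx : ringKrullDim (X.presheaf.stalk x) ≤ (m : WithBot ℕ∞) :=
    (Groth.L15.CohFlat.ringKrullDim_stalk_le x).trans hdim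
  obtain ⟨d, hd⟩ : ∃ d : ℕ, ringKrullDim (X.presheaf.stalk x) = d := by
    obtain ⟨e, he⟩ := WithBot.ne_bot_iff_exists.1 (ringKrullDim_ne_bot (R := X.presheaf.stalk x))
    obtain ⟨d, hd⟩ := ENat.ne_top_iff_exists.1 (show e ≠ ⊤ from fun h => by
      rw [← he, h] at hdx
      exact absurd (WithBot.coe_le_coe.1 hdx) (by simp))
    exact ⟨d, by rw [← he, ← hd]; rfl⟩
  have hdm : d ≤ m := by exact_mod_cast (hd ▸ hdx)
  haveI := hmono
  haveI := hepi
  have := Groth.L18.Syzygy.projective_of_exact m (S ⋙ F) (Groth.L18.Syzygy.exact_comp F hS)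
    (inferInstanceAs (Mono (F.map (S.map' 0 1))))
    (fun i h h1 h2 => by
      haveI := Groth.L18.LFP.free_stalk _ (hEcoh i h h1 h2) x
      haveI : Module.Free (X.presheaf.stalk x) ((S ⋙ F).obj ⟨i, h⟩) := this
      exact (IsProjective.iff_projective _).mp inferInstance)
    (inferInstanceAs (Epi (F.map (S.map' m (m + 1)))))
    (by
      haveI : HasProjectiveDimensionLT (ComposableArrows.obj' (S ⋙ F) (m + 1)) (d + 1) :=
        Groth.Agent.S0563.result (X.presheaf.stalk x) d hd _
      exact hasProjectiveDimensionLT_of_ge _ (d + 1) (m + 1) (by omega))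
  haveI : Module.Projective (X.presheaf.stalk x) (F.obj (S.obj 0)) :=
    (IsProjective.iff_projective _).mpr this
  exact (Module.Flat.of_projective : Module.Flat (X.presheaf.stalk x) (F.obj (S.obj 0)))

end Groth.Agent.S16240
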