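import Groth.Statements.S16243
import Groth.Agent.L01.NodeTor
import Mathlib.RingTheory.MvPolynomial.Ideal
import Mathlib.Algebra.MvPolynomial.Division
import Mathlib.Algebra.MvPolynomial.Variables

set_option autoImplicit false
universe u
open CategoryTheory
open CAlg

namespace Groth.Agent.S16243

/-- Let k be a field, A = k[x, y]/(xy) (x = X_0, y = X_1) and κ = A/(x, y) the residue field at the
origin, viewed as an A-module. Then for every i ≥ 1 the A-module Tor_i^A(κ, κ) has length 2 (it is a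
two-dimensional κ-vector space; Tor_0 is κ), and κ admits no finite projective resolution over A:
for no n is its projective dimension less than n. -/
theorem result (k : Type u) [Field k] :
    (∀ i : ℕ, 1 ≤ i →
      Module.length (MvPolynomial (Fin 2) k ⧸ Ideal.span {(MvPolynomial.X 0 * MvPolynomial.X 1 : MvPolynomial (Fin 2) k)}) ((((Tor (ModuleCat.{u} (MvPolynomial (Fin 2) k ⧸ Ideal.span {(MvPolynomial.X 0 * MvPolynomial.X 1 : MvPolynomial (Fin 2) k)})) i).obj (ModuleCat.of (MvPolynomial (Fin 2) k ⧸ Ideal.span {(MvPolynomial.X 0 * MvPolynomial.X 1 : MvPolynomial (Fin 2) k)}) ((MvPolynomial (Fin 2) k ⧸ Ideal.span {(MvPolynomial.X 0 * MvPolynomial.X 1 : MvPolynomial (Fin 2) k)}) ⧸ Ideal.span {Ideal.Quotient.mk (Ideal.span {(MvPolynomial.X 0 * MvPolynomial.X 1 : MvPolynomial (Fin 2) k)}) (MvPolynomial.X 0), Ideal.Quotient.mk (Ideal.span {(MvPolynomial.X 0 * MvPolynomial.X 1 : MvPolynomial (Fin 2) k)}) (MvPolynomial.X 1)}))).obj (ModuleCat.of (MvPolynomial (Fin 2) k ⧸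 Ideal.span {(MvPolynomial.X 0 * MvPolynomial.X 1 : MvPolynomial (Fin 2) k)}) ((MvPolynomial (Fin 2) k ⧸ Ideal.span {(MvPolynomial.X 0 * MvPolynomial.X 1 : MvPolynomial (Fin 2) k)}) ⧸ Ideal.span {Ideal.Quotient.mk (Ideal.span {(MvPolynomial.X 0 * MvPolynomial.X 1 : MvPolynomial (Fin 2) k)}) (MvPolynomial.X 0), Ideal.Quotient.mk (Ideal.span {(MvPolynomial.X 0 * MvPolynomial.X 1 : MvPolynomial (Fin 2) k)}) (MvPolynomial.X 1)}))) : Type u) = 2) ∧
    ∀ n : ℕ, ¬ HasProjectiveDimensionLT (ModuleCat.of (MvPolynomial (Fin 2) k ⧸ Ideal.span {(MvPolynomial.X 0 * MvPolynomial.X 1 : MvPolynomial (Fin 2) k)}) ((MvPolynomial (Fin 2) k ⧸ Ideal.span {(MvPolynomial.X 0 * MvPolynomial.X 1 : MvPolynomial (Fin 2) k)}) ⧸ Ideal.span {Ideal.Quotient.mk (Ideal.span {(MvPolynomial.X 0 * MvPolynomial.X 1 : MvPolynomial (Fin 2) k)}) (MvPolynomial.X 0), Ideal.Quotient.mk (Ideal.span {(MvPolynomial.X 0 * MvPolynomial.X 1 : MvPolynomial (Fin 2) k)}) (MvPolynomial.X 1)})) n := by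
  classical
  let P := MvPolynomial (Fin 2) k
  let X : P := MvPolynomial.X 0
  let Y : P := MvPolynomial.X 1
  let A := P ⧸ Ideal.span {X * Y}
  let x : A := Ideal.Quotient.mk _ X
  let y : A := Ideal.Quotient.mk _ Y
  have hxy : x * y = 0 := by
    rw [← map_mul, Ideal.Quotient.eq_zero_iff_mem]
    exact Ideal.subset_span rfl
  have hrel : ∀ a b : A, a * x + b * y = 0 → (∃ c, a = c * y) ∧ ∃ c, b = c * x := by
    intro a b h
    obtain ⟨p, rfl⟩ := Ideal.Quotient.mk_surjective a
    obtain ⟨q, rfl⟩ := Ideal.Quotient.mk_surjective b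
    rw [← map_mul, ← map_mul, ← map_add, Ideal.Quotient.eq_zero_iff_mem, Ideal.mem_span_singleton'] at h
    obtain ⟨r, hr⟩ := h
    have hX : Prime X := MvPolynomial.X_prime
    have hY : Prime Y := MvPolynomial.X_prime
    have h1 : Y ∣ p := by
      refine (hY.dvd_or_dvd ⟨r * X - q, by linear_combination -hr⟩ : Y ∣ p ∨ Y ∣ X).resolve_right ?_
      exact fun h => absurd (MvPolynomial.X_dvd_X.mp h) (by decide)
    have h2 : X ∣ q := by
      refine (hX.dvd_or_dvd ⟨r * Y - p, by linear_combination -hr⟩ : X ∣ q ∨ X ∣ Y).resolve_right ?_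
      exact fun h => absurd (MvPolynomial.X_dvd_X.mp h) (by decide)
    obtain ⟨c, rfl⟩ := h1
    obtain ⟨d, rfl⟩ := h2
    exact ⟨⟨Ideal.Quotient.mk _ c, by rw [map_mul, mul_comm]⟩, Ideal.Quotient.mk _ d, by rw [map_mul, mul_comm]⟩
  have hmax : (Ideal.span {x, y}).IsMaximal := by
    let ev : A →+* k := Ideal.Quotient.lift _ (MvPolynomial.eval (0 : Fin 2 → k)) (fun z hz => by
      obtain ⟨r, rfl⟩ := Ideal.mem_span_singleton'.mp hz
      have h0 : MvPolynomial.eval (0 : Fin 2 → k) X = 0 := MvPolynomial.eval_X 0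
      rw [map_mul, map_mul, h0, zero_mul, mul_zero])
    have hker : RingHom.ker ev = Ideal.span {x, y} := by
      refine le_antisymm (fun z hz => ?_) (Ideal.span_le.mpr fun z hz => ?_)
      · obtain ⟨p, rfl⟩ := Ideal.Quotient.mk_surjective z
        have hz' : MvPolynomial.constantCoeff p = 0 := by
          rw [← MvPolynomial.eval_zero]; exact hz
        have hp : p ∈ Ideal.span (Set.range (MvPolynomial.X (R := k) (σ := Fin 2))) := by
          show p ∈ MvPolynomial.idealOfVars (Fin 2) k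
          rw [← pow_one (MvPolynomial.idealOfVars (Fin 2) k), MvPolynomial.mem_pow_idealOfVars_iff']
          intro d hd
          obtain rfl : d = 0 := (Finsupp.degree_eq_zero_iff d).mp (by omega)
          exact hz'
        have hmap := Ideal.mem_map_of_mem (Ideal.Quotient.mk (Ideal.span {X * Y})) hp
        rw [Ideal.map_span] at hmap
        refine (Ideal.span_le (I := Ideal.span {x, y})).mpr ?_ hmap
        rintro _ ⟨_, ⟨i, rfl⟩, rfl⟩
        fin_cases i
        · exact Ideal.subset_span (by simp [x, X])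
        · exact Ideal.subset_span (by simp [y, Y])
      · rcases hz with rfl | rfl
        · exact MvPolynomial.eval_X 0
        · exact MvPolynomial.eval_X 1
    rw [← hker]
    exact RingHom.ker_isMaximal_of_surjective ev fun c => ⟨Ideal.Quotient.mk _ (MvPolynomial.C c), MvPolynomial.eval_C c⟩
  have hlen := Groth.L01.NodeTor.length_tor hxy hrel hmax
  refine ⟨fun i hi => ?_, fun n hn => ?_⟩
  · obtain ⟨j, rfl⟩ : ∃ j, i = j + 1 := ⟨i - 1, by omega⟩
    exact hlen j
  · have h0 := Groth.L01.PdRes.tor_isZero_of_pdLT (R := A) n (ModuleCat.of A (A ⧸ Ideal.span {x, y}))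
      (A ⧸ Ideal.span {x, y}) (@hasProjectiveDimensionLT_of_ge _ _ _ _ n (n + 1) (by omega) hn) (n + 1) (by omega)
    haveI : Subsingleton (DRing.Tor A (n + 1) (A ⧸ Ideal.span {x, y}) (A ⧸ Ideal.span {x, y})) :=
      ModuleCat.subsingleton_of_isZero h0
    have := hlen n
    rw [Module.length_eq_zero] at this
    exact absurd this (by norm_num)

end Groth.Agent.S16243
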