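import Groth.Statements.S16244
import Mathlib.AlgebraicGeometry.EllipticCurve.NormalForms
import Mathlib.RingTheory.RootsOfUnity.AlgebraicallyClosed
import Mathlib.RingTheory.RootsOfUnity.EnoughRootsOfUnity

set_option autoImplicit false
universe u
open Curves

namespace Groth.Agent.S16244

/-- Let k be an algebraically closed field in which 2 and 3 are nonzero, and W a short Weierstrass
equation y² = x³ + a₄x + a₆ over k with nonzero discriminant. The admissible changes of variables
(u, r, s, t) that fix W form a cyclic group, of order 6 when a₄ = 0, of order 4 when a₆ = 0, and of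
order 2 when a₄ and a₆ are both nonzero. (The published statement says the automorphism group of the
elliptic curve is cyclic of order 2, 4 or 6; the automorphisms are rendered here as the changes of
variables preserving the equation, and the case distinction is the one the computation gives.) -/
theorem result
    (k : Type u) [Field k] [IsAlgClosed k] (h2 : (2 : k) ≠ 0) (h3 : (3 : k) ≠ 0)
    (W : WeierstrassCurve k) [W.IsShortNF] (hΔ : W.Δ ≠ 0) :
    IsCyclic ↥(MulAction.stabilizer (WeierstrassCurve.VariableChange k) W) ∧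
      (W.a₄ = 0 → Nat.card ↥(MulAction.stabilizer (WeierstrassCurve.VariableChange k) W) = 6) ∧
      (W.a₆ = 0 → Nat.card ↥(MulAction.stabilizer (WeierstrassCurve.VariableChange k) W) = 4) ∧
      (W.a₄ ≠ 0 → W.a₆ ≠ 0 → Nat.card ↥(MulAction.stabilizer (WeierstrassCurve.VariableChange k) W) = 2) := by
  have hdisc : 4 * W.a₄ ^ 3 + 27 * W.a₆ ^ 2 ≠ 0 := fun h => hΔ (by rw [W.Δ_of_isShortNF, h, mul_zero])
  let G := MulAction.stabilizer (WeierstrassCurve.VariableChange k) W
  let ψ : ↥G →* kˣ :=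
    { toFun := fun C => C.1.u, map_one' := rfl, map_mul' := fun _ _ => rfl }
  have hC : ∀ C : ↥G, C.1.r = 0 ∧ C.1.s = 0 ∧ C.1.t = 0 ∧
      (C.1.u : k) ^ 4 * W.a₄ = W.a₄ ∧ (C.1.u : k) ^ 6 * W.a₆ = W.a₆ := by
    rintro ⟨C, hC⟩
    have e1 := congrArg WeierstrassCurve.a₁ (MulAction.mem_stabilizer_iff.1 hC)
    have e2 := congrArg WeierstrassCurve.a₂ (MulAction.mem_stabilizer_iff.1 hC)
    have e3 := congrArg WeierstrassCurve.a₃ (MulAction.mem_stabilizer_iff.1 hC)
    have e4 := congrArg WeierstrassCurve.a₄ (MulAction.mem_stabilizer_iff.1 hC)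
    have e6 := congrArg WeierstrassCurve.a₆ (MulAction.mem_stabilizer_iff.1 hC)
    simp only [WeierstrassCurve.variableChange_a₁, WeierstrassCurve.variableChange_a₂,
      WeierstrassCurve.variableChange_a₃, WeierstrassCurve.variableChange_a₄, WeierstrassCurve.variableChange_a₆,
      W.a₁_of_isShortNF, W.a₂_of_isShortNF, W.a₃_of_isShortNF] at e1 e2 e3 e4 e6
    have hs : C.s = 0 := by simpa [h2] using e1
    have hr : C.r = 0 := by simpa [hs, h3] using e2
    have ht : C.t = 0 := by simpa [hr, hs, h2] using e3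
    simp only [hr, hs, ht, zero_mul, mul_zero, sub_zero, add_zero, ne_eq, OfNat.ofNat_ne_zero,
      not_false_eq_true, zero_pow] at e4 e6
    refine ⟨hr, hs, ht, ?_, ?_⟩
    · show (C.u : k) ^ 4 * W.a₄ = W.a₄
      conv_lhs => rw [← e4]
      rw [← mul_assoc, ← mul_pow, Units.mul_inv, one_pow, one_mul]
    · show (C.u : k) ^ 6 * W.a₆ = W.a₆
      conv_lhs => rw [← e6]
      rw [← mul_assoc, ← mul_pow, Units.mul_inv, one_pow, one_mul]
  have hinj : Function.Injective ψ := fun C D h => Subtype.ext (WeierstrassCurve.VariableChange.ext h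
    ((hC C).1.trans (hC D).1.symm) ((hC C).2.1.trans (hC D).2.1.symm) ((hC C).2.2.1.trans (hC D).2.2.1.symm))
  have key : ∀ n : ℕ, (n : k) ≠ 0 → n ≠ 0 →
      (∀ u : kˣ, (u : k) ^ n = 1 ↔ (u : k) ^ 4 * W.a₄ = W.a₄ ∧ (u : k) ^ 6 * W.a₆ = W.a₆) →
      Nat.card ↥G = n ∧ IsCyclic ↥G := by
    intro n hn hn0 hu
    haveI : NeZero (n : k) := ⟨hn⟩
    haveI : NeZero n := ⟨hn0⟩
    have hrange : ψ.range = rootsOfUnity n k := by
      ext u
      rw [mem_rootsOfUnity, Units.ext_iff, Units.val_pow_eq_pow_val, Units.val_one, hu]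
      refine ⟨fun ⟨C, hCu⟩ => hCu ▸ (hC C).2.2.2, fun h => ⟨⟨⟨u, 0, 0, 0⟩, MulAction.mem_stabilizer_iff.2 ?_⟩, rfl⟩⟩
      ext <;> simp only [WeierstrassCurve.variableChange_a₁, WeierstrassCurve.variableChange_a₂,
        WeierstrassCurve.variableChange_a₃, WeierstrassCurve.variableChange_a₄, WeierstrassCurve.variableChange_a₆,
        W.a₁_of_isShortNF, W.a₂_of_isShortNF, W.a₃_of_isShortNF, zero_mul, mul_zero, sub_zero, add_zero, ne_eq,
        OfNat.ofNat_ne_zero, not_false_eq_true, zero_pow]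
      · conv_lhs => rw [← h.1, ← mul_assoc, ← mul_pow, Units.inv_mul, one_pow, one_mul]
      · conv_lhs => rw [← h.2, ← mul_assoc, ← mul_pow, Units.inv_mul, one_pow, one_mul]
    let e : ↥G ≃* ↥(rootsOfUnity n k) := (MonoidHom.ofInjective hinj).trans (MulEquiv.subgroupCongr hrange)
    exact ⟨(Nat.card_congr e.toEquiv).trans (HasEnoughRootsOfUnity.natCard_rootsOfUnity k n),
      e.isCyclic.2 inferInstance⟩
  have h4k : ((4 : ℕ) : k) ≠ 0 := by
    rw [Nat.cast_ofNat, show (4 : k) = 2 * 2 by norm_num]; exact mul_ne_zero h2 h2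
  have h6k : ((6 : ℕ) : k) ≠ 0 := by
    rw [Nat.cast_ofNat, show (6 : k) = 2 * 3 by norm_num]; exact mul_ne_zero h2 h3
  have h2k : ((2 : ℕ) : k) ≠ 0 := by rw [Nat.cast_ofNat]; exact h2
  by_cases ha : W.a₄ = 0
  · have hb : W.a₆ ≠ 0 := fun h => hdisc (by rw [ha, h]; ring)
    obtain ⟨hcard, hcyc⟩ := key 6 h6k (by norm_num) fun u => by simp [ha, hb]
    exact ⟨hcyc, fun _ => hcard, fun h => absurd h hb, fun h => absurd ha h⟩
  · by_cases hb : W.a₆ = 0
    · obtain ⟨hcard, hcyc⟩ := key 4 h4k (by norm_num) fun u => by simp [ha, hb]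
      exact ⟨hcyc, fun h => absurd h ha, fun _ => hcard, fun _ h => absurd hb h⟩
    · obtain ⟨hcard, hcyc⟩ := key 2 h2k (by norm_num) fun u => by
        simp only [mul_eq_right₀ ha, mul_eq_right₀ hb]
        refine ⟨fun h => ⟨by rw [show 4 = 2 * 2 from rfl, pow_mul, h, one_pow],
          by rw [show 6 = 2 * 3 from rfl, pow_mul, h, one_pow]⟩, fun ⟨h4, h6⟩ => ?_⟩
        rw [show 6 = 4 + 2 from rfl, pow_add, h4, one_mul] at h6
        exact h6
      exact ⟨hcyc, fun h => absurd h ha, fun h => absurd h hb, fun _ _ => hcard⟩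

end Groth.Agent.S16244
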