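import Groth.Statements.S16246
import Groth.Agent.L26.Elliptic.AutFix
import Groth.Agent.L26.AV.NonNoethRigidity
import Groth.Agent.L08.Albanese.ChowImage

set_option autoImplicit false
universe u
open CategoryTheory CategoryTheory.Limits AlgebraicGeometry MonObj
open AgPol

namespace Groth.Agent.S16246

open MonoidalCategory CartesianMonoidalCategory

/-- An automorphism fixing the subgroup is trivial on every fibre. -/
theorem fibre_fix {S : Scheme.{u}} (E : Over S) [GrpObj E] (hE : AgPol.IsAbSch E 1)
    (G : Over S) (i : G ⟶ E) [IsClosedImmersion i.left]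
    [IsFinite G.hom] [Flat G.hom] [LocallyOfFinitePresentation G.hom]
    (N : ℕ) (hN : 5 ≤ N) (hrk : ∀ s : S, G.hom.finrank s = N)
    (ε : E ≅ E) [IsMonHom ε.hom] (h : i ≫ ε.hom = i) (s : S) :
    pullback.fst E.hom (S.fromSpecResidueField s) ≫ ε.hom.left = pullback.fst E.hom (S.fromSpecResidueField s) := by
  let fs := S.fromSpecResidueField s
  let F := Over.pullback fs
  haveI := hE.smooth
  haveI := hE.proper
  haveI := hE.geomConnected
  let E' : Over (Spec (CommRingCat.of (S.residueField s : Type u))) := F.obj E
  letI : GrpObj E' := Red.grpObj_bc fs E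
  haveI : IsProper E'.hom := inferInstanceAs (IsProper (pullback.snd E.hom fs))
  haveI : Smooth E'.hom := inferInstanceAs (Smooth (pullback.snd E.hom fs))
  haveI : GeometricallyConnected E'.hom :=
    inferInstanceAs (GeometricallyConnected (pullback.snd E.hom fs))
  haveI : ConnectedSpace E'.left := GeometricallyConnected.connectedSpace_of_subsingleton E'.hom
  haveI : GeometricallyIntegral E'.hom := Groth.L08.Albanese.geometricallyIntegral_of_smooth E'
  haveI : IsCommMonObj E' := isCommMonObj_of_isProper_of_geometricallyIntegral E'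
  have hdim : topologicalKrullDim E'.left = (1 : ℕ) := hE.fibreDim s
  haveI : IsMonHom (F.mapIso ε).hom := inferInstanceAs (IsMonHom (F.map ε.hom))
  haveI : IsClosedImmersion (F.map i).left :=
    MorphismProperty.baseChange_map (P := @IsClosedImmersion) fs i inferInstance
  haveI : IsFinite (F.obj G).hom := inferInstanceAs (IsFinite (pullback.snd G.hom fs))
  have hG : 5 ≤ (F.obj G).hom.finrank (IsLocalRing.closedPoint _) := by
    refine le_of_le_of_eq hN ?_
    exact ((Scheme.Hom.finrank_pullback_snd G.hom fs _).trans (hrk _)).symm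
  have key := Groth.Agent.Elliptic.AutFix.eq_id_of_fix E' hdim (F.mapIso ε) (F.obj G) (F.map i) _ hG
    (by rw [Functor.mapIso_hom, ← F.map_comp, h])
  have := congrArg (fun t : E' ⟶ E' => t.left ≫ pullback.fst E.hom fs) key
  simp [F] at this
  exact (pullback.lift_fst _ _ _).symm.trans this

/-- Let S be a connected scheme and E an S-group scheme which is smooth and proper over S with
geometrically connected fibres of dimension one (a family of elliptic curves over S with its group
law). Let G ⊆ E be a closed subgroup scheme which is finite, flat and locally of finite presentation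
over S of constant rank N with N ≥ 5, and let ε be an automorphism of the S-group scheme E. Then the
restriction of ε to G is the identity of G exactly when ε is the identity of E. -/
theorem result
    {S : Scheme.{u}} [ConnectedSpace S] (E : Over S) [GrpObj E] (hE : AgPol.IsAbSch E 1)
    (G : Over S) [GrpObj G] (i : G ⟶ E) [IsMonHom i] [IsClosedImmersion i.left]
    [IsFinite G.hom] [Flat G.hom] [LocallyOfFinitePresentation G.hom]
    (N : ℕ) (hN : 5 ≤ N) (hrk : ∀ s : S, G.hom.finrank s = N)
    (ε : E ≅ E) [IsMonHom ε.hom] :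
    i ≫ ε.hom = i ↔ ε.hom = 𝟙 E := by
  refine ⟨fun h => ?_, fun h => by rw [h, Category.comp_id]⟩
  haveI := hE.smooth
  haveI := hE.proper
  haveI := hE.geomConnected
  haveI : GeometricallyReduced E.hom := Groth.Agent.AV.geometricallyReduced_of_smooth E.hom
  let d : E ⟶ E := ε.hom * (𝟙 E)⁻¹
  suffices hd : d = 1 from mul_inv_eq_one.1 hd
  have hu : Groth.Agent.AV.collapsed E.hom d.left = Set.univ := by
    refine Set.eq_univ_of_forall fun t x x' hx hx' => ?_
    suffices key : ∀ y, E.hom y = t → d.left y = (η[E]).left t from (key x hx).trans (key x' hx').symm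
    intro y hy
    obtain ⟨z, rfl⟩ : y ∈ Set.range (E.hom.fiberι t) := by rw [Scheme.Hom.range_fiberι]; exact hy
    let T : Over S := Over.mk (pullback.fst E.hom (S.fromSpecResidueField t) ≫ E.hom)
    let q : T ⟶ E := Over.homMk (pullback.fst E.hom (S.fromSpecResidueField t)) rfl
    have hq : q ≫ d = 1 := by
      have : q ≫ ε.hom = q := Over.OverMorphism.ext (fibre_fix E hE G i N hN hrk ε h t)
      show q ≫ (ε.hom * (𝟙 E)⁻¹) = 1
      rw [MonObj.comp_mul, this, GrpObj.comp_inv, Category.comp_id, mul_inv_cancel]
    have h2 := congrArg (fun a : T ⟶ E => a.left) hq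
    have h3 := congrArg (fun a => (a : pullback E.hom (S.fromSpecResidueField t) ⟶ E.left) z) h2
    refine h3.trans ?_
    show (η[E]).left (E.hom (E.hom.fiberι t z)) = _
    rw [hy]
  obtain ⟨k, hk⟩ := Groth.Agent.AV.exists_factor_of_collapsed_univ E.hom d.left hu
  have hη : η[E] ≫ d = η[E] := by
    show η[E] ≫ (ε.hom * (𝟙 E)⁻¹) = η[E]
    rw [MonObj.comp_mul, IsMonHom.one_hom, GrpObj.comp_inv, Category.comp_id, mul_inv_cancel]
    first | exact one_eq_one.symm | (rw [one_eq_one]) | simp [one_eq_one]
  have hk' : k = (η[E]).left := by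
    have h1 := congrArg (fun a : 𝟙_ (Over S) ⟶ E => a.left) hη
    simp only [Over.comp_left] at h1
    rw [hk, reassoc_of% (Over.w η[E])] at h1
    simpa using h1
  ext1
  rw [hk, hk']
  rfl

end Groth.Agent.S16246
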