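import Groth.Statements.S16249
import Groth.Agent.L26.Elliptic.FibreDeg

set_option autoImplicit false
universe u
open CategoryTheory CategoryTheory.Limits AlgebraicGeometry
open PicF

namespace Groth.Agent.S16249

open Groth.L00.Tensor Groth.Agent.Elliptic

/-- Let f : E → S be a family of elliptic curves: f is proper and smooth of relative dimension one with
geometrically connected fibres whose structure sheaf has Euler characteristic 0 (genus one), and σ
is a section of f. Then for every invertible O_E-module L whose restriction to every fibre of f has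
degree zero (Euler characteristic equal to that of the structure sheaf of the fibre) there is
exactly one section P of f such that L ⊗ I_P ≅ I_σ ⊗ f^*M for some invertible O_S-module M, where
I_P and I_σ are the ideal sheaves of the closed subschemes P(S) and σ(S) of E. In other words P ↦
O(P − σ) is a bijection from E(S) onto the classes of fibrewise-degree-zero invertible modules
modulo modules pulled back from S. (The published statement goes on to say that E is thereby an
S-group scheme, with P + Q = R exactly when O(P) ⊗ O(Q) ⊗ O(−σ) ≅ O(R) ⊗ f^*M for some invertible M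
on the base — its printed formula has O(−R), a misprint — ; that transport of the group structure is
not part of this statement.) -/
theorem result
    {E S : Scheme.{u}} (f : E ⟶ S) [IsProper f] [SmoothOfRelativeDimension 1 f]
    (hc : GeometricallyConnected f)
    (hg : ∀ s : S, @FGA.eulerCharLE (S.residueField s) _ (f.fiber s) (f.fiberOverSpecResidueField s)
      (Coh.structureModule (f.fiber s)) 1 = 0)
    (σ : S ⟶ E) (hσ : σ ≫ f = 𝟙 S)
    (L : E.Modules) (hL : PicF.IsInvertible L)
    (hL0 : ∀ s : S, @FGA.eulerCharLE (S.residueField s) _ (f.fiber s) (f.fiberOverSpecResidueField s)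
      ((Scheme.Modules.pullback (f.fiberι s)).obj L) 1 = 0) :
    ∃! P : S ⟶ E, P ≫ f = 𝟙 S ∧ ∃ M : S.Modules, PicF.IsInvertible M ∧
      Nonempty (CohB1.tensorMod L (ClSub.idealMod P.ker) ≅
        CohB1.tensorMod (ClSub.idealMod σ.ker) ((Scheme.Modules.pullback f).obj M)) := by
  haveI := hc
  have hg' : Genus1 f := hg
  obtain ⟨D, hD, ⟨eD⟩, hdD⟩ := exists_inverse_ker hg' hσ
  have hd' : FDeg f (CohB1.tensorMod L D) 1 := by
    have h := fdeg_tensor hg' hL hD hL0 hdD
    rwa [zero_add] at h
  refine (existsUnique_congr fun P => and_congr_right fun hP => ?_).1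
    (existsUnique_section hg' (Groth.L18.GenLoc.isInvertible_tensor hL hD) hd')
  constructor
  · rintro ⟨M, hM, ⟨i⟩⟩
    exact ⟨M, hM, ⟨(tensorUnitRight _).symm ≪≫ tensorIso (Iso.refl _) eD.symm ≪≫
      tensorMiddleFour L _ (ClSub.idealMod σ.ker) D ≪≫
      tensorIso (tensorComm L _) (tensorComm _ D) ≪≫ tensorAssoc _ L _ ≪≫
      tensorIso (Iso.refl _) ((tensorAssoc L D _).symm ≪≫ i)⟩⟩
  · rintro ⟨M, hM, ⟨i⟩⟩
    exact ⟨M, hM, ⟨tensorAssoc L D _ ≪≫ tensorIso (Iso.refl L) (tensorComm D _) ≪≫
      (tensorAssoc L _ D).symm ≪≫ tensorIso i (Iso.refl D) ≪≫ tensorIso (tensorComm _ _) (Iso.refl D) ≪≫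
      tensorAssoc _ _ _ ≪≫ tensorIso (Iso.refl _) eD ≪≫ tensorUnitRight _⟩⟩

end Groth.Agent.S16249
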