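import Groth.Statements.S1625
import Groth.Agent.S1551
import Groth.Agent.L22.VeryAmple.Immersion
import Groth.Agent.L22.Completion.Basic

set_option autoImplicit false
set_option backward.isDefEq.respectTransparency false
universe u
open CategoryTheory CategoryTheory.Limits AlgebraicGeometry
open Variety

namespace Groth.Agent.S1625

/-- Let X be separated of finite type over k with dim X ≤ 1. Then there are a closed subscheme Y of some
projective space P^d_k and an open immersion j : X → Y over k whose image is dense and
scheme-theoretically dense and whose complement is a finite set of closed points. -/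
theorem result (k : Type u) [Field k] (X : Scheme.{u}) [X.Over (Spec (CommRingCat.of k))] [IsSeparated (X ↘ (Spec (CommRingCat.of k)))] [LocallyOfFiniteType (X ↘ (Spec (CommRingCat.of k)))] [QuasiCompact (X ↘ (Spec (CommRingCat.of k)))] (hdim : topologicalKrullDim X ≤ 1) :
    ∃ (d : ℕ) (Y : Scheme.{u}) (c : Y ⟶ CohB1.ProjSpace d k) (j : X ⟶ Y), IsClosedImmersion c ∧ IsOpenImmersion j ∧
      j ≫ c ≫ CohB1.ProjSpace.toSpec d k = X ↘ (Spec (CommRingCat.of k)) ∧ Dense (Set.range j.base) ∧ IsSchemeTheoreticallyDominant j ∧
      (Set.range j.base)ᶜ.Finite ∧ ∀ y ∈ (Set.range j.base)ᶜ, IsClosed ({y} : Set Y) := by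
  let q := X ↘ (Spec (CommRingCat.of k))
  haveI : IsLocallyNoetherian X := LocallyOfFiniteType.isLocallyNoetherian q
  haveI : CompactSpace X := QuasiCompact.compactSpace_of_compactSpace q
  haveI : IsNoetherian X := { }
  haveI : X.IsSeparated := ⟨by rw [← terminal.comp_from q]; infer_instance⟩
  obtain ⟨L, hL⟩ := Groth.Agent.S1551.aux X hdim
  obtain ⟨_, _, d, r', hr', hi', -⟩ := Groth.L22.VeryAmple.exists_immersion_of_isAmple q hL
  let r : X ⟶ CohB1.ProjSpace d k := r'
  have hr : r ≫ CohB1.ProjSpace.toSpec d k = q := hr'
  haveI : IsImmersion r := hi'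
  haveI : QuasiCompact r := inferInstance
  haveI : IsLocallyNoetherian r.image := by
    haveI : LocallyOfFiniteType (r.imageι ≫ CohB1.ProjSpace.toSpec d k) := inferInstance
    exact LocallyOfFiniteType.isLocallyNoetherian (r.imageι ≫ CohB1.ProjSpace.toSpec d k)
  letI : r.image.Over (Spec (CommRingCat.of k)) := ⟨r.imageι ≫ CohB1.ProjSpace.toSpec d k⟩
  haveI : LocallyOfFiniteType (r.image ↘ Spec (CommRingCat.of k)) :=
    inferInstanceAs (LocallyOfFiniteType (r.imageι ≫ CohB1.ProjSpace.toSpec d k))
  haveI : CompactSpace r.image :=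
    QuasiCompact.compactSpace_of_compactSpace (r.imageι ≫ CohB1.ProjSpace.toSpec d k)
  haveI : IsNoetherian r.image := { }
  have hsd : IsSchemeTheoreticallyDominant r.toImage :=
    Groth.L22.Completion.isSchemeTheoreticallyDominant_toImage r
  have hdense : Dense (Set.range r.toImage.base) := IsDominant.denseRange (f := r.toImage)
  have hrange : (r.toImage.opensRange : Set r.image) = Set.range r.toImage.base := rfl
  have hU : topologicalKrullDim (r.toImage.opensRange : Set r.image) ≤ 1 := by
    rw [hrange]
    exact (r.toImage.isOpenEmbedding.toIsEmbedding.toHomeomorph.isHomeomorph.topologicalKrullDim_eq).symm.trans_le hdim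
  obtain ⟨hf, hc⟩ := Groth.L22.Completion.finite_compl k r.image r.toImage.opensRange hdense hU
  exact ⟨d, r.image, r.imageι, r.toImage, inferInstance, inferInstance,
    by rw [Scheme.Hom.toImage_imageι_assoc, hr], hdense, hsd, hf, hc⟩

end Groth.Agent.S1625
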