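import Groth.Statements.S16250
import Groth.Agent.L26.Elliptic.GroupLaw

set_option autoImplicit false
universe u
open CategoryTheory CategoryTheory.Limits AlgebraicGeometry MonObj
open AgPol

namespace Groth.Agent.S16250

open Groth.Agent.Elliptic CartesianMonoidalCategory
set_option backward.isDefEq.respectTransparency false

/-- Let f : E → S be a family of elliptic curves: proper, smooth of relative dimension one, with
geometrically connected fibres whose structure sheaf has Euler characteristic 0 (genus one),
together with a section σ. Then E, regarded over S, carries one and only one structure of S-group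
scheme whose multiplication on T-valued points (T any S-scheme) is characterised by: P·Q = R if and
only if I_P ⊗ I_Q ≅ I_R ⊗ I_{σ_T} ⊗ q^*M on E_T = E ×_S T for some invertible O_T-module M, where q
: E_T → T is the projection, I_P denotes the ideal sheaf of the section of q induced by P, and σ_T
is the section induced by σ; in divisor notation O(P) ⊗ O(Q) ⊗ O(−σ) ≅ O(R) up to a module pulled
back from T. (The published display of this relation carries O(−R) instead of O(R), a misprint: the
fibre degrees would be 1 and −1.) -/
theorem result
    {E S : Scheme.{u}} (f : E ⟶ S) [IsProper f] [SmoothOfRelativeDimension 1 f]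
    (hc : GeometricallyConnected f)
    (hg : ∀ s : S, @FGA.eulerCharLE (S.residueField s) _ (f.fiber s) (f.fiberOverSpecResidueField s)
      (Coh.structureModule (f.fiber s)) 1 = 0)
    (σ : S ⟶ E) (hσ : σ ≫ f = 𝟙 S) :
    ∃! g : GrpObj (Over.mk f), ∀ (T : Over S) (P Q R : T ⟶ Over.mk f),
      P * Q = R ↔ ∃ M : T.left.Modules, PicF.IsInvertible M ∧
        Nonempty (CohB1.tensorMod
            (ClSub.idealMod (pullback.lift P.left (𝟙 T.left)
              ((Over.w P).trans (Category.id_comp T.hom).symm) : T.left ⟶ PicF.XT f T).ker)
            (ClSub.idealMod (pullback.lift Q.left (𝟙 T.left)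
              ((Over.w Q).trans (Category.id_comp T.hom).symm) : T.left ⟶ PicF.XT f T).ker) ≅
          CohB1.tensorMod (CohB1.tensorMod
            (ClSub.idealMod (pullback.lift R.left (𝟙 T.left)
              ((Over.w R).trans (Category.id_comp T.hom).symm) : T.left ⟶ PicF.XT f T).ker)
            (ClSub.idealMod (PicF.secT f σ hσ T).ker))
            ((Scheme.Modules.pullback (PicF.XTproj f T)).obj M)) := by
  haveI := hc
  have hg' : Genus1 f := hg
  refine ⟨(commGrp σ hσ hg').toGrpObj, fun T P Q R => ?_, fun g' hg₁ => ?_⟩
  · letI := (commGrp σ hσ hg').toGrpObj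
    refine Iff.trans ?_ (aMap_eq_mul_iff σ hσ P Q R)
    rw [← aMap_homMul σ hσ hg' P Q, (aMap_injective σ hσ hg').eq_iff]
    exact eq_comm
  · let g₀ := (commGrp σ hσ hg').toGrpObj
    refine GrpObj.ext _ _ (MonObj.ext _ _ ?_)
    letI := g'
    have h := (hg₁ _ (fst (Over.mk f) (Over.mk f)) (snd (Over.mk f) (Over.mk f))
      (lift (fst _ _) (snd _ _) ≫ g₀.mul)).2 ((aMap_eq_mul_iff σ hσ _ _ _).1
        (aMap_homMul σ hσ hg' (fst (Over.mk f) (Over.mk f)) (snd (Over.mk f) (Over.mk f))))
    rw [Hom.mul_def, lift_fst_snd, Category.id_comp, Category.id_comp] at h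
    exact h

end Groth.Agent.S16250
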