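import Groth.Statements.S16254
import Mathlib.LinearAlgebra.Matrix.Determinant.Basic
import Mathlib.LinearAlgebra.Matrix.Block
import Mathlib.RingTheory.MvPolynomial.Basic
import Mathlib.LinearAlgebra.Basis.Basic
import Mathlib.RingTheory.Ideal.Quotient.Operations

set_option autoImplicit false
universe u
open scoped BigOperators
open LefPen

namespace Groth.Agent.S16254

open Matrix in
lemma det_mul_rect {R : Type u} [CommRing R] {n m : Type*} [Fintype n] [DecidableEq n] [Fintype m]
    [DecidableEq m] (M : Matrix n m R) (B : Matrix m n R) :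
    (M * B).det = ∑ c : n → m, (∏ i, B (c i) i) * (M.submatrix id c).det := by
  simp only [det_apply', mul_apply, Finset.prod_univ_sum, Finset.mul_sum, Fintype.piFinset_univ,
    submatrix_apply, id, Finset.prod_mul_distrib]
  rw [Finset.sum_comm]
  exact Finset.sum_congr rfl fun c _ => Finset.sum_congr rfl fun σ _ => by ring

/-- Let A be a commutative ring and m_1, …, m_s ∈ A^(N+1) linearly independent vectors whose span M has
projective (that is, locally free) quotient A^(N+1)/M. Write a_0, …, a_N for the coordinate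
functions, so that restricting linear forms to M and expressing them in the basis dual to the m_i
gives the A-algebra map A[a_0, …, a_N] ⟶ A[y_1, …, y_s], a_j ↦ Σ_i (m_i)_j y_i (the map
Sym((A^(N+1))^∨) ⟶ Sym(M^∨)). Its kernel is the ideal generated by the (s+1) × (s+1) minors of the
(s+1) × (N+1) matrix whose first s rows are the coordinate rows of m_1, …, m_s and whose last row is
(a_0, …, a_N). The minors are indexed here by all maps c from Fin (s+1) to Fin (N+1) choosing the
columns (non-injective choices give zero). -/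
theorem result
    (A : Type u) [CommRing A] (N s : ℕ) (m : Fin s → (Fin (N + 1) → A))
    (hli : LinearIndependent A m)
    (hproj : Module.Projective A ((Fin (N + 1) → A) ⧸ Submodule.span A (Set.range m))) :
    RingHom.ker (MvPolynomial.aeval (R := A) (S₁ := MvPolynomial (Fin s) A)
        (fun j : Fin (N + 1) => ∑ i : Fin s, MvPolynomial.C (m i j) * MvPolynomial.X i)) =
      Ideal.span (Set.range fun c : Fin (s + 1) → Fin (N + 1) =>
        (Matrix.of fun (i : Fin (s + 1)) (j : Fin (s + 1)) =>
          (Fin.snoc (α := fun _ => MvPolynomial (Fin (N + 1)) A)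
            (fun i' : Fin s => MvPolynomial.C (m i' (c j))) (MvPolynomial.X (c j)) i)).det) := by
  classical
  set φ := MvPolynomial.aeval (R := A) (S₁ := MvPolynomial (Fin s) A)
      (fun j : Fin (N + 1) => ∑ i : Fin s, MvPolynomial.C (m i j) * MvPolynomial.X i) with hφ
  let M : Matrix (Fin (s + 1)) (Fin (N + 1)) (MvPolynomial (Fin (N + 1)) A) := Matrix.of fun i j =>
    Fin.snoc (α := fun _ => MvPolynomial (Fin (N + 1)) A)
      (fun i' : Fin s => MvPolynomial.C (m i' j)) (MvPolynomial.X j) i
  change _ = Ideal.span (Set.range fun c : Fin (s + 1) → Fin (N + 1) => (M.submatrix id c).det)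
  refine le_antisymm ?_ ?_
  swap
  · rw [Ideal.span_le]
    rintro _ ⟨c, rfl⟩
    rw [SetLike.mem_coe, RingHom.mem_ker]
    show φ ((M.submatrix id c).det) = 0
    rw [AlgHom.map_det]
    set N' := φ.mapMatrix (M.submatrix id c) with hN
    rw [← Matrix.det_transpose]
    let v : Fin (s + 1) → MvPolynomial (Fin s) A := Fin.snoc MvPolynomial.X (-1)
    refine Matrix.det_eq_zero_of_mulVec_eq_zero_of_mem_nonZeroDivisors (v := v) ?_ (i := Fin.last s) ?_
    · funext k
      simp only [Matrix.mulVec, dotProduct, Matrix.transpose_apply, Fin.sum_univ_castSucc, hN,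
        AlgHom.mapMatrix_apply, Matrix.map_apply, Matrix.submatrix_apply, id, M, v, Matrix.of_apply,
        Fin.snoc_castSucc, Fin.snoc_last, Pi.zero_apply, hφ, MvPolynomial.aeval_X, MvPolynomial.aeval_C,
        MvPolynomial.algebraMap_eq]
      ring
    · simp only [v, Fin.snoc_last]
      exact (isUnit_one.neg).mem_nonZeroDivisors
  -- retraction
  let S := Submodule.span A (Set.range m)
  obtain ⟨σ, hσ⟩ := Module.projective_lifting_property S.mkQ LinearMap.id S.mkQ_surjective
  let p : (Fin (N + 1) → A) →ₗ[A] S := LinearMap.codRestrict S (LinearMap.id - σ ∘ₗ S.mkQ) fun x => by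
    rw [← Submodule.Quotient.mk_eq_zero, LinearMap.sub_apply, Submodule.Quotient.mk_sub, sub_eq_zero]
    exact (LinearMap.congr_fun hσ (S.mkQ x)).symm
  have hp : ∀ i, p (m i) = ⟨m i, Submodule.subset_span ⟨i, rfl⟩⟩ := fun i => by
    apply Subtype.ext
    have h0 : S.mkQ (m i) = 0 := (Submodule.Quotient.mk_eq_zero S).2 (Submodule.subset_span ⟨i, rfl⟩)
    show m i - σ (S.mkQ (m i)) = m i
    rw [h0, map_zero, sub_zero]
  let b := Module.Basis.span hli
  let μ : (Fin (N + 1) → A) →ₗ[A] (Fin s → A) := b.equivFun.toLinearMap ∘ₗ p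
  have hμ : ∀ i i', μ (m i) i' = if i = i' then 1 else 0 := fun i i' => by
    have hb : b i = (⟨m i, Submodule.subset_span ⟨i, rfl⟩⟩ : S) := Module.Basis.span_apply hli i
    show b.equivFun (p (m i)) i' = _
    rw [hp, ← hb, b.equivFun_self]
  let U : Fin s → MvPolynomial (Fin (N + 1)) A := fun i =>
    ∑ j, MvPolynomial.C (μ (Pi.single j 1) i) * MvPolynomial.X j
  let J := Ideal.span (Set.range fun c : Fin (s + 1) → Fin (N + 1) => (M.submatrix id c).det)
  have hL : ∀ j, MvPolynomial.X j - ∑ i, MvPolynomial.C (m i j) * U i ∈ J := by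
    intro j
    let B : Matrix (Fin (N + 1)) (Fin (s + 1)) (MvPolynomial (Fin (N + 1)) A) := Matrix.of fun j' =>
      Fin.snoc (α := fun _ => MvPolynomial (Fin (N + 1)) A) (fun i => MvPolynomial.C (μ (Pi.single j' 1) i))
        ((if j' = j then 1 else 0) - ∑ i, MvPolynomial.C (m i j) * MvPolynomial.C (μ (Pi.single j' 1) i))
    have hmem : (M * B).det ∈ J := by
      rw [det_mul_rect]
      exact sum_mem fun c _ => Ideal.mul_mem_left _ _ (Ideal.subset_span ⟨c, rfl⟩)
    have hdelta : ∀ i i', ∑ x, m i x * μ (Pi.single x 1) i' = if i = i' then 1 else 0 := fun i i' => by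
      rw [← hμ]
      conv_rhs => rw [pi_eq_sum_univ' (m i), map_sum]
      simp [Finset.sum_apply]
    have h1 : ∀ (i i' : Fin s), (M * B) i.castSucc i'.castSucc = if i = i' then 1 else 0 := fun i i' => by
      simp only [Matrix.mul_apply, M, B, Matrix.of_apply, Fin.snoc_castSucc, ← map_mul, ← map_sum, hdelta]
      split_ifs <;> simp
    have h2 : ∀ i : Fin s, (M * B) i.castSucc (Fin.last s) = 0 := fun i => by
      simp only [Matrix.mul_apply, M, B, Matrix.of_apply, Fin.snoc_castSucc, Fin.snoc_last, mul_sub,
        Finset.sum_sub_distrib, mul_ite, mul_one, mul_zero, Finset.sum_ite_eq', Finset.mem_univ, if_true]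
      simp only [Finset.mul_sum]
      rw [Finset.sum_comm, sub_eq_zero]
      have : ∀ i' : Fin s, ∑ x, MvPolynomial.C (σ := Fin (N + 1)) (m i x) * (MvPolynomial.C (m i' j) *
          MvPolynomial.C (μ (Pi.single x 1) i')) = if i = i' then MvPolynomial.C (m i' j) else 0 := fun i' => by
        rw [show (∑ x, MvPolynomial.C (σ := Fin (N + 1)) (m i x) * (MvPolynomial.C (m i' j) *
            MvPolynomial.C (μ (Pi.single x 1) i'))) = MvPolynomial.C (m i' j * ∑ x, m i x * μ (Pi.single x 1) i') by
          rw [Finset.mul_sum, map_sum]; exact Finset.sum_congr rfl fun x _ => by simp only [map_mul]; ring,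
          hdelta]
        split_ifs <;> simp
      rw [Finset.sum_congr rfl fun i' _ => this i']
      simp
    have h3 : (M * B) (Fin.last s) (Fin.last s) = MvPolynomial.X j - ∑ i, MvPolynomial.C (m i j) * U i := by
      simp only [Matrix.mul_apply, M, B, Matrix.of_apply, Fin.snoc_last, mul_sub, Finset.sum_sub_distrib,
        mul_ite, mul_one, mul_zero, Finset.sum_ite_eq', Finset.mem_univ, if_true, U, Finset.mul_sum]
      rw [Finset.sum_comm]
      congr 1
      exact Finset.sum_congr rfl fun i _ => Finset.sum_congr rfl fun x _ => by ring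
    have htri : (M * B).IsLowerTriangular := by
      intro i k (hik : i < k)
      induction i using Fin.lastCases with
      | last => exact absurd hik (not_lt.2 (Fin.le_last k))
      | cast i =>
        induction k using Fin.lastCases with
        | last => exact h2 i
        | cast k => rw [h1, if_neg (ne_of_lt (Fin.castSucc_lt_castSucc_iff.1 hik))]
    rwa [Matrix.det_of_isLowerTriangular _ htri, Fin.prod_univ_castSucc, h3,
      Finset.prod_eq_one (fun i _ => by rw [h1, if_pos rfl]), one_mul] at hmem
  intro f hf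
  have key : (Ideal.Quotient.mkₐ A J).comp ((MvPolynomial.aeval U).comp φ) = Ideal.Quotient.mkₐ A J := by
    refine MvPolynomial.algHom_ext fun j => ?_
    simp only [AlgHom.comp_apply, hφ, MvPolynomial.aeval_X, map_sum, map_mul, MvPolynomial.aeval_C,
      MvPolynomial.algebraMap_eq]
    have := (Ideal.Quotient.eq_zero_iff_mem.2 (hL j))
    rw [map_sub, sub_eq_zero, map_sum] at this
    simp only [map_mul] at this
    exact this.symm
  have hf' : φ f = 0 := hf
  refine Ideal.Quotient.eq_zero_iff_mem.1 ?_
  rw [← Ideal.Quotient.mkₐ_eq_mk A, ← key, AlgHom.comp_apply, AlgHom.comp_apply, hf', map_zero, map_zero]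

end Groth.Agent.S16254
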