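import Groth.Statements.S16255
import Groth.Agent.L28.HessCrit.Point

set_option autoImplicit false
universe u
open VanCyc

namespace Groth.Agent.S16255

/-- (b) ⇔ (c): let k be an algebraically closed field, m ≥ 0, f ∈ k[x_0, …, x_m], B = k[x_0, …, x_m]/(f)
and P a maximal ideal of B (a closed point y of the hypersurface Y = V(f)) containing the classes of
all partial derivatives ∂f/∂x_j, so that y lies in the m-th Jacobian locus of Y (cut out in Y by the
m-th Fitting ideal of Ω_{Y/k}, which is generated by these classes). Then the following are
equivalent: (b) the classes of the ∂f/∂x_j generate the maximal ideal of the local ring B_P, i.e.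
near y the Jacobian locus is the reduced point y; (c) y is a non-degenerate quadratic singularity of
Y of dimension m: the completion of B_P is k-isomorphic to k[[x_0, …, x_m]]/(g) for a power series g
without constant or linear terms whose quadratic part has unit polar discriminant. (The published
statement is for Y a local complete intersection of virtual dimension m over k and a point of the
m-th but not the (m+1)-st Jacobian locus; the statement here is its affine hypersurface case, to
which its proof reduces by an étale chart. A third equivalent condition there, on the differentials
of the Jacobian scheme at y, is not stated here.) -/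
theorem result
    (k : Type u) [Field k] [IsAlgClosed k] (m : ℕ) (f : MvPolynomial (Fin (m + 1)) k)
    (P : Ideal (MvPolynomial (Fin (m + 1)) k ⧸ Ideal.span {f})) [P.IsMaximal]
    (hP : ∀ j : Fin (m + 1), Ideal.Quotient.mk (Ideal.span {f}) (MvPolynomial.pderiv j f) ∈ P) :
    Ideal.map (algebraMap (MvPolynomial (Fin (m + 1)) k ⧸ Ideal.span {f}) (Localization.AtPrime P))
        (Ideal.span (Set.range fun j : Fin (m + 1) =>
          Ideal.Quotient.mk (Ideal.span {f}) (MvPolynomial.pderiv j f))) =
      IsLocalRing.maximalIdeal (Localization.AtPrime P) ↔
    VanCyc.IsNondegQuadSing k (Localization.AtPrime P) m := by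
  exact Groth.L28.HessCrit.result_aux k m f P hP

end Groth.Agent.S16255
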