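import Groth.Statements.S16256
import Groth.Agent.L07.JacobianLocus
import Groth.Agent.L07.RegImmComp
import Groth.Agent.L19.Thick.H1Reg
import Groth.Agent.L14.RegImmStalk.Kinds
import Groth.Agent.L15.OmegaCoh
import Groth.Agent.L15.FittSheaf
import Groth.Agent.L13.Fitting.Fibre
import Groth.Agent.L20.SmoothAt.Global
import Mathlib.AlgebraicGeometry.Morphisms.Smooth
import Mathlib.RingTheory.Localization.Algebra

set_option autoImplicit false
set_option linter.style.haveILetI false
set_option backward.isDefEq.respectTransparency.types false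
set_option backward.isDefEq.respectTransparency false
set_option maxHeartbeats 1000000
universe u
open CategoryTheory CategoryTheory.Limits AlgebraicGeometry TopologicalSpace
open SDiv

namespace Groth.Agent.S16256

/-- Let f : Y ⟶ X be locally of finite presentation and quasi-separated, m ≥ 0, and y a point of Y near
which f is a local complete intersection of virtual dimension m, in the factorisation sense: some
open neighbourhood U of y admits a Koszul-regular immersion i of constant codimension c into a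
scheme P smooth of relative dimension m + c over X, compatibly with f. Then f is smooth on some open
neighbourhood of y if and only if y does not lie in the m-th Jacobian locus of Y over X, the closed
subset cut out by the m-th Fitting ideal of Ω_{Y/X}. (Quasi-separatedness of f is assumed because
the module Ω_{Y/X} used here is defined for such f.) -/
theorem result
    {Y X : Scheme.{u}} (f : Y ⟶ X) [LocallyOfFinitePresentation f] [QuasiSeparated f] (m : ℕ) (y : ↥Y)
    (hlci : ∃ (U : Y.Opens) (P : Scheme.{u}) (i : (U : Scheme.{u}) ⟶ P) (π : P ⟶ X) (c : ℕ),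
      y ∈ U ∧ RegImm.IsRegularImmersionOfCodim RegImm.Kind.koszul c i ∧
        SmoothOfRelativeDimension (m + c) π ∧ i ≫ π = U.ι ≫ f) :
    (∃ V : Y.Opens, y ∈ V ∧ Smooth (V.ι ≫ f)) ↔ y ∉ (Fitt.sheafIdeal (Omega.sheaf f) m).support := by
  classical
  obtain ⟨U, P, i, π, c, hyU, ⟨-, hcut⟩, hπ, hcomp⟩ := hlci
  obtain ⟨UP, hzUP, hcl, rs, hlen, hseq, hker⟩ := hcut ⟨y, hyU⟩
  subst hlen
  obtain ⟨V, hV, W', hW', hzW', e', hstd⟩ :=
    SmoothOfRelativeDimension.exists_isStandardSmoothOfRelativeDimension (n := m + rs.length) (f := π) (i ⟨y, hyU⟩)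
  obtain ⟨b, w, hbw, hzb⟩ := exists_basicOpen_le_affine_inter UP.2 hW' (i ⟨y, hyU⟩) ⟨hzUP, hzW'⟩
  let PB : P.Opens := P.basicOpen b
  have hPB : IsAffineOpen PB := UP.2.basicOpen b
  have hPBV : PB ≤ π ⁻¹ᵁ V := (hbw.le.trans (P.basicOpen_le w)).trans e'
  -- the affine open of `Y`
  haveI := hcl
  haveI : IsAffine (UP.1 : Scheme.{u}) := UP.2
  have hiUP : IsAffineOpen (i ⁻¹ᵁ UP.1) := isAffine_of_isAffineHom (i ∣_ UP.1)
  have hpre : i ⁻¹ᵁ PB = (U : Scheme.{u}).basicOpen (i.app UP.1 b) := Scheme.preimage_basicOpen i b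
  let W : Y.Opens := U.ι ''ᵁ (i ⁻¹ᵁ PB)
  have hW : IsAffineOpen W := (hpre ▸ hiUP.basicOpen _ : IsAffineOpen (i ⁻¹ᵁ PB)).image_of_isOpenImmersion U.ι
  have hyW : y ∈ W := ⟨⟨y, hyU⟩, hzb, rfl⟩
  have e : W ≤ f ⁻¹ᵁ V := by
    rintro _ ⟨t, ht, rfl⟩
    have h1 : π (i t) ∈ V := hPBV ht
    rwa [← Scheme.Hom.comp_apply, hcomp, Scheme.Hom.comp_apply] at h1
  -- algebra structures
  letI : Algebra Γ(P, UP.1) Γ(P, PB) := (P.presheaf.map (homOfLE (P.basicOpen_le b)).op).hom.toAlgebra
  haveI : IsLocalization.Away b Γ(P, PB) := UP.2.isLocalization_basicOpen b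
  letI : Algebra Γ(X, V) Γ(P, PB) := (π.appLE V PB hPBV).hom.toAlgebra
  letI : Algebra Γ(X, V) Γ(Y, W) := (f.appLE V W e).hom.toAlgebra
  let r : Γ(P, PB) ⟶ Γ(Y, W) := i.app PB ≫ (U.ι.appIso (i ⁻¹ᵁ PB)).inv
  letI : Algebra Γ(P, PB) Γ(Y, W) := r.hom.toAlgebra
  haveI : IsScalarTower Γ(X, V) Γ(P, PB) Γ(Y, W) := IsScalarTower.of_algebraMap_eq' (by
    show (f.appLE V W e).hom = ((π.appLE V PB hPBV) ≫ i.app PB ≫ (U.ι.appIso (i ⁻¹ᵁ PB)).inv).hom
    congr 1
    rw [← Category.assoc, Scheme.Hom.app_eq_appLE, Scheme.Hom.appLE_comp_appLE,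
      Iso.eq_comp_inv, Scheme.Hom.appIso_hom', Scheme.Hom.appLE_comp_appLE]
    congr 1
    exact hcomp.symm)
  -- standard smooth ambient ring
  haveI : Algebra.IsStandardSmoothOfRelativeDimension (m + rs.length) Γ(X, V) Γ(P, PB) := by
    letI : Algebra Γ(X, V) Γ(P, W') := (π.appLE V W' e').hom.toAlgebra
    letI : Algebra Γ(P, W') Γ(P, PB) := (P.presheaf.map (homOfLE (hbw.le.trans (P.basicOpen_le w))).op).hom.toAlgebra
    haveI : IsScalarTower Γ(X, V) Γ(P, W') Γ(P, PB) := IsScalarTower.of_algebraMap_eq' (by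
      show (π.appLE V PB hPBV).hom = ((π.appLE V W' e') ≫ P.presheaf.map _).hom
      rw [Scheme.Hom.appLE_map])
    haveI : IsLocalization.Away w Γ(P, PB) := hW'.isLocalization_of_eq_basicOpen w _ hbw
    haveI : Algebra.IsStandardSmoothOfRelativeDimension (m + rs.length) Γ(X, V) Γ(P, W') := hstd
    haveI := Algebra.IsStandardSmoothOfRelativeDimension.localization_away (S := Γ(P, PB)) w
    exact Nat.zero_add (m + rs.length) ▸
      Algebra.IsStandardSmoothOfRelativeDimension.trans (m + rs.length) 0 Γ(X, V) Γ(P, W') Γ(P, PB)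
  -- the equations on the basic open
  have hsurjUP : Function.Surjective (i.app UP.1).hom := Groth.L07.RegImmComp.app_surjective i UP.1 UP.2 hcl
  letI : Algebra Γ((U : Scheme.{u}), i ⁻¹ᵁ UP.1) Γ((U : Scheme.{u}), i ⁻¹ᵁ PB) :=
    ((U : Scheme.{u}).presheaf.map (homOfLE (i.preimage_mono (P.basicOpen_le b))).op).hom.toAlgebra
  haveI : IsLocalization.Away (i.app UP.1 b) Γ((U : Scheme.{u}), i ⁻¹ᵁ PB) :=
    hiUP.isLocalization_of_eq_basicOpen _ _ hpre
  haveI : IsLocalization ((Submonoid.powers b).map (i.app UP.1).hom) Γ((U : Scheme.{u}), i ⁻¹ᵁ PB) := by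
    rw [Submonoid.map_powers]; assumption
  have happ : (i.app PB).hom = IsLocalization.map (M := Submonoid.powers b)
      (T := (Submonoid.powers b).map (i.app UP.1).hom) Γ((U : Scheme.{u}), i ⁻¹ᵁ PB) (i.app UP.1).hom
      (Submonoid.le_comap_map _) := IsLocalization.ringHom_ext (Submonoid.powers b) (by
    rw [IsLocalization.map_comp]
    show ((P.presheaf.map (homOfLE (P.basicOpen_le b)).op) ≫ i.app PB).hom = (i.app UP.1 ≫ _).hom
    rw [i.naturality]
    rfl)
  have hsurjPB : Function.Surjective (i.app PB).hom := by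
    rw [happ]; exact IsLocalization.map_surjective_of_surjective _ _ _ hsurjUP
  have hkerPB : RingHom.ker (i.app PB).hom =
      Ideal.span (Set.range (algebraMap Γ(P, UP.1) Γ(P, PB) ∘ fun j : Fin rs.length => rs[j.1])) := by
    rw [happ, IsLocalization.ker_map Γ((U : Scheme.{u}), i ⁻¹ᵁ PB) _ rfl, hker, Ideal.ofList, Ideal.map_span,
      Set.range_comp]
    congr 1
    congr 1
    ext x
    simp [List.mem_iff_getElem, Fin.exists_iff, eq_comm]
  have hbij := ConcreteCategory.bijective_of_isIso (U.ι.appIso (i ⁻¹ᵁ PB)).inv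
  have hsurj : Function.Surjective (algebraMap Γ(P, PB) Γ(Y, W)) := hbij.2.comp hsurjPB
  have hkerW : RingHom.ker (algebraMap Γ(P, PB) Γ(Y, W)) =
      Ideal.span (Set.range (algebraMap Γ(P, UP.1) Γ(P, PB) ∘ fun j : Fin rs.length => rs[j.1])) := by
    rw [← hkerPB]
    ext a
    exact map_eq_zero_iff (U.ι.appIso (i ⁻¹ᵁ PB)).inv.hom hbij.1
  have hq := Groth.L07.JacobianLocus.linQuasi_localization (L := Γ(P, PB)) (Submonoid.powers b)
    (Groth.L07.JacobianLocus.linQuasi_of_isQuasiRegular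
      (Groth.L14.RegImmStalk.isQuasiRegular_of_h1 (Groth.L19.Thick.isH1Regular_of_koszul hseq)))
  haveI := (hW.primeIdealOf ⟨y, hyW⟩).2
  have key := Groth.L07.JacobianLocus.isSmoothAt_iff_finrank_le (A := Γ(X, V)) (m := m) hsurj _ hkerW hq
    (hW.primeIdealOf ⟨y, hyW⟩).asIdeal
  -- translate
  have hcoh := Groth.L15.OmegaCoh.isCoh_omega f
  haveI := hcoh.1
  haveI : Algebra.FiniteType Γ(X, V) Γ(Y, W) :=
    RingHom.finiteType_algebraMap.mp (f.finiteType_appLE hV hW e)
  obtain ⟨es⟩ := Groth.L15.OmegaCoh.exists_sections_equiv f hW hV e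
  rw [Groth.L15.FittSheaf.notMem_support_iff (Omega.sheaf f) hcoh.2 m (U := ⟨W, hW⟩) hyW,
    ← Groth.L13.Fitting.ideal_congr es m, Groth.L13.Fitting.not_le_iff_finrank, ← key,
    ← Groth.L20.SmoothAt.mem_smoothLocus_iff_exists, Scheme.Hom.mem_smoothLocus,
    formallySmooth_stalkMap_iff V hV W hW e hyW]
  rfl

end Groth.Agent.S16256
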