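import Groth.Statements.S16259
import Mathlib.Algebra.Polynomial.FieldDivision
import Mathlib.Tactic.Ring
import Mathlib.Tactic.LinearCombination

set_option autoImplicit false
open W4c3wronskmg

namespace Groth.Agent.S16259

open Polynomial in
variable {_unused : Unit}

section Ode

variable {k : Type*} [Field k] [CharZero k]

theorem choose_step (i r : ℕ) :
    (i.choose r : k) * ((i : k) - r) = (i.choose (r + 1) : k) * ((r : k) + 1) := by
  have h := Nat.choose_succ_right_eq i r
  have h' : ((i.choose (r + 1) * (r + 1) : ℕ) : k) = ((i.choose r * (i - r) : ℕ) : k) := by rw [h]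
  push_cast at h'
  rcases le_or_gt r i with hr | hr
  · rw [Nat.cast_sub hr] at h'
    exact h'.symm
  · rw [Nat.choose_eq_zero_of_lt hr, Nat.cast_zero, zero_mul] at h' ⊢
    exact h'.symm

theorem mult_le_one (h P Q : Polynomial k) (R : Polynomial k) (c : k)
    (hP : P.eval c ≠ 0) (hode : P * h.derivative.derivative + Q * h.derivative + R * h = 0) :
    h.rootMultiplicity c ≤ 1 := by
  by_contra hlt
  push Not at hlt
  set μ := h.rootMultiplicity c with hμ
  have h0 : h ≠ 0 := by
    intro h0
    rw [hμ, h0, Polynomial.rootMultiplicity_zero] at hlt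
    omega
  have hr : h.IsRoot c := (Polynomial.rootMultiplicity_pos h0).1 (by omega)
  have hd1 : h.derivative.rootMultiplicity c = μ - 1 := Polynomial.derivative_rootMultiplicity_of_root hr
  have hd10 : h.derivative ≠ 0 := by
    intro h1
    rw [h1, Polynomial.rootMultiplicity_zero] at hd1
    omega
  have hr1 : h.derivative.IsRoot c := (Polynomial.rootMultiplicity_pos hd10).1 (by omega)
  have hd2 : h.derivative.derivative.rootMultiplicity c = μ - 2 := by
    rw [Polynomial.derivative_rootMultiplicity_of_root hr1, hd1]
    omega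
  have hd20 : h.derivative.derivative ≠ 0 := by
    intro h2
    have hdeg := Polynomial.derivative_eq_zero.1 h2
    rw [Polynomial.eq_C_of_natDegree_eq_zero hdeg, Polynomial.rootMultiplicity_C] at hd1
    omega
  have hP0 : P ≠ 0 := fun hP0 => hP (by rw [hP0, Polynomial.eval_zero])
  have hdvd : (Polynomial.X - Polynomial.C c) ^ (μ - 1) ∣ P * h.derivative.derivative := by
    have e : P * h.derivative.derivative = -(Q * h.derivative + R * h) := by linear_combination hode
    rw [e, dvd_neg]
    refine dvd_add (dvd_mul_of_dvd_right ?_ _) (dvd_mul_of_dvd_right ?_ _)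
    · rw [← hd1]; exact Polynomial.pow_rootMultiplicity_dvd _ _
    · exact (pow_dvd_pow _ (Nat.sub_le μ 1)).trans (Polynomial.pow_rootMultiplicity_dvd _ _)
  have h1 := (Polynomial.le_rootMultiplicity_iff (mul_ne_zero hP0 hd20)).2 hdvd
  rw [Polynomial.rootMultiplicity_mul (mul_ne_zero hP0 hd20), hd2,
    Polynomial.rootMultiplicity_eq_zero (by simpa [Polynomial.IsRoot] using hP)] at h1
  omega

end Ode

open Polynomial in

/-- Over a field of characteristic zero, for positive integers `i, j` and a natural number `n`, the
polynomial `h(W) = ∑_{l=0}^{n} (i choose l) (j choose (n-l)) W^(n-l)`, the coefficient of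
`X^(i+j-n)` in `(X+1)^i (X+W)^j`, has no multiple root other than possibly `0` and `1`: every `c ≠
0, 1` has root multiplicity at most one. -/
theorem result
    (k : Type*) [Field k] [CharZero k] (i j n : ℕ) (hi : 0 < i) (hj : 0 < j) (c : k) (hc0 : c ≠ 0) (hc1 : c ≠ 1) :
    Polynomial.rootMultiplicity c
      (∑ l ∈ Finset.range (n + 1),
        Polynomial.C (((i.choose l) * (j.choose (n - l)) : ℕ) : k) * Polynomial.X ^ (n - l)) ≤ 1 := by
  classical
  set h : k[X] := ∑ l ∈ Finset.range (n + 1),
    C (((i.choose l) * (j.choose (n - l)) : ℕ) : k) * X ^ (n - l) with hh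
  have hcoeff : ∀ m, h.coeff m = if m ≤ n then (i.choose (n - m) : k) * (j.choose m : k) else 0 := by
    intro m
    rw [hh, finset_sum_coeff]
    simp only [coeff_C_mul, coeff_X_pow]
    split_ifs with hm
    · rw [Finset.sum_eq_single (n - m)]
      · rw [if_pos (by omega), mul_one, show n - (n - m) = m by omega, Nat.cast_mul]
      · intro l hl hne
        rw [Finset.mem_range] at hl
        rw [if_neg (by omega), mul_zero]
      · intro hl
        rw [Finset.mem_range] at hl
        omega
    · exact Finset.sum_eq_zero fun l hl => by rw [if_neg (by omega), mul_zero]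
  have hrec : ∀ m : ℕ, ((m : k) + 1) * ((i : k) - n + m + 1) * h.coeff (m + 1) =
      ((m : k) - n) * ((m : k) - j) * h.coeff m := by
    intro m
    rw [hcoeff, hcoeff]
    rcases lt_trichotomy m n with hm | hm | hm
    · rw [if_pos (by omega), if_pos (by omega)]
      obtain ⟨r, rfl⟩ : ∃ r, n = m + 1 + r := ⟨n - m - 1, by omega⟩
      rw [show m + 1 + r - (m + 1) = r by omega, show m + 1 + r - m = r + 1 by omega]
      have e1 := choose_step (k := k) i r
      have e2 := choose_step (k := k) j m
      push_cast
      linear_combination ((m : k) + 1) * (j.choose (m + 1) : k) * e1 - ((r : k) + 1) * (i.choose (r + 1) : k) * e2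
    · subst hm
      rw [if_neg (by omega), mul_zero, sub_self, zero_mul, zero_mul]
    · rw [if_neg (by omega), if_neg (by omega), mul_zero, mul_zero]
  refine mult_le_one h (X - X ^ 2) (C ((i : k) - n + 1) - C (1 - (n : k) - j) * X) (C (-((n : k) * j))) c ?_ ?_
  · simp only [eval_sub, eval_X, eval_pow]
    intro h0
    have h1 : c * (1 - c) = 0 := by linear_combination h0
    rcases mul_eq_zero.1 h1 with h2 | h2
    · exact hc0 h2
    · exact hc1 (sub_eq_zero.1 h2).symm
  · obtain ⟨u, hu⟩ : ∃ u : k, u = (i : k) - n + 1 := ⟨_, rfl⟩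
    obtain ⟨v, hv⟩ : ∃ v : k, v = 1 - (n : k) - j := ⟨_, rfl⟩
    obtain ⟨w, hw⟩ : ∃ w : k, w = -((n : k) * j) := ⟨_, rfl⟩
    rw [← hu, ← hv, ← hw]
    ext m
    have hm := hrec m
    rcases m with _ | _ | m
    · simp [sub_mul, pow_two, mul_assoc, coeff_derivative, coeff_X_mul_zero] at hm ⊢
      subst hu hv hw
      linear_combination hm
    · simp [sub_mul, pow_two, mul_assoc, coeff_derivative, coeff_X_mul_zero, coeff_X_mul] at hm ⊢
      subst hu hv hw
      linear_combination hm
    · simp [sub_mul, pow_two, mul_assoc, coeff_derivative, coeff_X_mul] at hm ⊢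
      subst hu hv hw
      linear_combination hm


end Groth.Agent.S16259
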