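import Groth.Statements.S7616
import Groth.Agent.L18.NormalizationField
import Groth.Agent.L01.NagataFiniteType
import Groth.Agent.L00.NagataNorm
-- import your own Groth.Agent.* helpers here

set_option autoImplicit false
universe u
open CategoryTheory CategoryTheory.Limits AlgebraicGeometry
open Variety

namespace Groth.Agent.S7616

/-- Let f : Y → X be a quasi-compact morphism of schemes locally of finite type over a field k, with Y
reduced; f is automatically quasi-separated. Then the normalization of X in Y is finite over X. -/
theorem result (k : Type u) [Field k] (X : Scheme.{u}) [X.Over (Spec (CommRingCat.of k))] [LocallyOfFiniteType (X ↘ (Spec (CommRingCat.of k)))]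
    (Y : Scheme.{u}) [Y.Over (Spec (CommRingCat.of k))] [LocallyOfFiniteType (Y ↘ (Spec (CommRingCat.of k)))] [IsReduced Y]
    (f : Y ⟶ X) [f.IsOver (Spec (CommRingCat.of k))] [QuasiCompact f] [QuasiSeparated f] :
    IsFinite f.fromNormalization := by
  haveI : LocallyOfFiniteType (f ≫ (X ↘ Spec (CommRingCat.of k))) := by
    rw [comp_over]; infer_instance
  haveI : LocallyOfFiniteType f := locallyOfFiniteType_of_comp f (X ↘ Spec (CommRingCat.of k))
  refine Groth.L00.NagataNorm.isFinite_fromNormalization_of_finiteType f fun U => ?_
  let φ := (X ↘ Spec (CommRingCat.of k)).appLE ⊤ U.1 le_top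
  let ψ := (Scheme.ΓSpecIso (CommRingCat.of k)).inv ≫ φ
  have hφ : φ.hom.FiniteType := LocallyOfFiniteType.finiteType_appLE _ (isAffineOpen_top _) U.2 _
  have hψ : ψ.hom.FiniteType := by
    rw [CommRingCat.hom_comp]
    exact hφ.comp (RingHom.FiniteType.of_surjective _ (Scheme.ΓSpecIso (CommRingCat.of k)).symm.commRingCatIsoToRingEquiv.surjective)
  letI : Algebra k Γ(X, U.1) := ψ.hom.toAlgebra
  haveI : Algebra.FiniteType k Γ(X, U.1) := hψ
  exact Groth.L01.Nagata.isNagata_of_finiteType (Groth.L18.NormField.isNagata_field k)

end Groth.Agent.S7616
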