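import Groth.Statements.S1626
import Groth.Agent.S1625
import Groth.Agent.S7616
import Groth.Agent.L22.Completion.Dim
import Groth.Agent.L22.Completion.Basic
import Groth.Agent.L16.ProjSpace.Basic
import Groth.Agent.L16.CurveBoundary.Scheme
import Mathlib.AlgebraicGeometry.ZariskisMainTheorem

set_option autoImplicit false
universe u
open CategoryTheory CategoryTheory.Limits AlgebraicGeometry
open Variety

namespace Groth.Agent.S1626

/-- Let X be reduced, separated and of finite type over k with dim X ≤ 1. Then there are a closed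
subscheme Y of some P^d_k and a dense, scheme-theoretically dense open immersion j : X → Y over k
whose complement is a finite set of closed points at each of which the local ring of Y is a discrete
valuation ring. -/
theorem result (k : Type u) [Field k] (X : Scheme.{u}) [X.Over (Spec (CommRingCat.of k))] [IsReduced X] [IsSeparated (X ↘ (Spec (CommRingCat.of k)))] [LocallyOfFiniteType (X ↘ (Spec (CommRingCat.of k)))] [QuasiCompact (X ↘ (Spec (CommRingCat.of k)))] (hdim : topologicalKrullDim X ≤ 1) :
    ∃ (d : ℕ) (Y : Scheme.{u}) (c : Y ⟶ CohB1.ProjSpace d k) (j : X ⟶ Y), IsClosedImmersion c ∧ IsOpenImmersion j ∧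
      j ≫ c ≫ CohB1.ProjSpace.toSpec d k = X ↘ (Spec (CommRingCat.of k)) ∧ Dense (Set.range j.base) ∧ IsSchemeTheoreticallyDominant j ∧
      (Set.range j.base)ᶜ.Finite ∧ ∀ y ∈ (Set.range j.base)ᶜ, IsClosed ({y} : Set Y) ∧
        ∃ _ : IsDomain (Y.presheaf.stalk y), IsDiscreteValuationRing (Y.presheaf.stalk y) := by
  let q := X ↘ (Spec (CommRingCat.of k))
  haveI : IsLocallyNoetherian X := LocallyOfFiniteType.isLocallyNoetherian q
  haveI : CompactSpace X := QuasiCompact.compactSpace_of_compactSpace q
  haveI : AlgebraicGeometry.IsNoetherian X := { }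
  obtain ⟨d, Y, c, j, hc, hj, hjc, hdense, -, -, -⟩ := Groth.Agent.S1625.result k X hdim
  haveI := hc
  haveI := hj
  haveI : IsProper (CohB1.ProjSpace.toSpec d k) := Groth.L16.ProjSpace.isProper_toSpec d k
  letI : Y.Over (Spec (CommRingCat.of k)) := ⟨c ≫ CohB1.ProjSpace.toSpec d k⟩
  haveI : IsProper (Y ↘ Spec (CommRingCat.of k)) :=
    inferInstanceAs (IsProper (c ≫ CohB1.ProjSpace.toSpec d k))
  haveI : IsLocallyNoetherian Y := LocallyOfFiniteType.isLocallyNoetherian (Y ↘ Spec (CommRingCat.of k))
  haveI : CompactSpace Y := QuasiCompact.compactSpace_of_compactSpace (Y ↘ Spec (CommRingCat.of k))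
  haveI : AlgebraicGeometry.IsNoetherian Y := { }
  haveI : j.IsOver (Spec (CommRingCat.of k)) := ⟨hjc⟩
  haveI : QuasiCompact j := inferInstance
  haveI : IsFinite j.fromNormalization := Groth.Agent.S7616.result k Y X j
  haveI : IsOpenImmersion j.toNormalization := inferInstance
  let pN : j.normalization ⟶ Spec (CommRingCat.of k) :=
    j.fromNormalization ≫ (Y ↘ Spec (CommRingCat.of k))
  letI : j.normalization.Over (Spec (CommRingCat.of k)) := ⟨pN⟩
  haveI hpr : IsProper (j.normalization ↘ Spec (CommRingCat.of k)) :=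
    inferInstanceAs (IsProper (j.fromNormalization ≫ (Y ↘ Spec (CommRingCat.of k))))
  haveI : LocallyOfFiniteType (j.normalization ↘ Spec (CommRingCat.of k)) := inferInstance
  haveI : IsLocallyNoetherian j.normalization :=
    LocallyOfFiniteType.isLocallyNoetherian (j.normalization ↘ Spec (CommRingCat.of k))
  haveI : CompactSpace j.normalization :=
    QuasiCompact.compactSpace_of_compactSpace (j.normalization ↘ Spec (CommRingCat.of k))
  haveI : AlgebraicGeometry.IsNoetherian j.normalization := { }
  let O := j.toNormalization.opensRange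
  have hdenseN : Dense (O : Set j.normalization) := j.toNormalization.denseRange
  have hO : topologicalKrullDim (O : Set j.normalization) ≤ 1 :=
    (j.toNormalization.isOpenEmbedding.toIsEmbedding.toHomeomorph.isHomeomorph.topologicalKrullDim_eq).symm.trans_le hdim
  have hdimN := Groth.L22.Completion.dim_le_one k j.normalization O hdenseN hO
  obtain ⟨hfin, hcl⟩ := Groth.L22.Completion.finite_compl k j.normalization O hdenseN hO
  obtain ⟨e, Z, cZ, jZ, hcZ, hjZ, hjcZ, -, -, -, -⟩ := Groth.Agent.S1625.result k j.normalization hdimN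
  haveI := hcZ
  haveI := hjZ
  haveI : IsProper (CohB1.ProjSpace.toSpec e k) := Groth.L16.ProjSpace.isProper_toSpec e k
  haveI : IsProper ((jZ ≫ cZ) ≫ CohB1.ProjSpace.toSpec e k) := by
    rw [Category.assoc, hjcZ]; exact hpr
  haveI : IsProper (jZ ≫ cZ) := IsProper.of_comp (jZ ≫ cZ) (CohB1.ProjSpace.toSpec e k)
  haveI : IsPreimmersion (jZ ≫ cZ) := inferInstance
  refine ⟨e, j.normalization, jZ ≫ cZ, j.toNormalization,
    (IsClosedImmersion.iff_isProper_and_mono _).mpr ⟨inferInstance, inferInstance⟩, inferInstance, ?_, hdenseN,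
    IsSchemeTheoreticallyDominant.of_isDominant _, hfin, fun y hy => ⟨hcl y hy,
      Groth.L16.CurveBoundary.isDVR_stalk_normalization j hdimN y (hcl y hy) hy⟩⟩
  rw [Category.assoc, hjcZ]
  show j.toNormalization ≫ j.fromNormalization ≫ c ≫ CohB1.ProjSpace.toSpec d k = _
  rw [Scheme.Hom.toNormalization_fromNormalization_assoc, hjc]
end Groth.Agent.S1626
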