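import Groth.Statements.S16260
import Groth.Agent.L15.Wronskian
import Mathlib.Tactic.Ring
import Mathlib.Tactic.LinearCombination
import Mathlib.Tactic.FieldSimp
import Mathlib.Algebra.BigOperators.Ring.Finset

set_option autoImplicit false
open W4c3wronskmg

namespace Groth.Agent.S16260

open Polynomial in
/-- Let `k` be a field of characteristic zero, `a, b, i` positive integers with `i ≤ a + b`, and `j = a
+ b + 2 - i`. On the projective line with three marked points `A = 0`, `B = 1`, `C = ∞`, the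
`(a+b+1)`-dimensional linear system `V = H⁰(ω((1+a)A)) ⊕ H⁰(ω((1+b)B)) ⊕ H⁰(ω(2C)) ⊆ H⁰(ω((1+a)A +
(1+b)B + 2C)) ≅ H⁰(O(a+b+2))` becomes, in the affine coordinate, the span of the multiples of
`X^(a+1)` of degree at most `a+b`, the multiples of `(X-1)^(b+1)` of degree at most `a+b`, and
`X^(a+1) (X-1)^(b+1)`; and `V(-iP-jQ)` is the subspace of members divisible by `(X-p)^i (X-q)^j`.
Then there are no points `P = p`, `Q = q` other than `A, B, C` (that is, `p, q ∉ {0, 1}`; `p = q`
allowed) with both `dim V(-iP-jQ) ≥ 1` and `dim V(-(i-1)P-(j-1)Q) ≥ 2`. (The published statement is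
over the complex numbers.) -/
theorem result
    (k : Type*) [Field k] [CharZero k] (a b i j : ℕ) (ha : 0 < a) (hb : 0 < b) (hi : 0 < i) (hiab : i ≤ a + b)
    (hj : i + j = a + b + 2)
    (V : Submodule k (Polynomial k))
    (hV : V = ((Ideal.span {(X : Polynomial k) ^ (a + 1)}).restrictScalars k ⊓ Polynomial.degreeLE k ↑(a + b)) ⊔
      ((Ideal.span {((X : Polynomial k) - 1) ^ (b + 1)}).restrictScalars k ⊓ Polynomial.degreeLE k ↑(a + b)) ⊔
      Submodule.span k {(X : Polynomial k) ^ (a + 1) * (X - 1) ^ (b + 1)})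
    (p q : k) (hp0 : p ≠ 0) (hp1 : p ≠ 1) (hq0 : q ≠ 0) (hq1 : q ≠ 1) :
    ¬ (1 ≤ Module.finrank k ↥(V ⊓ (Ideal.span {(X - C p) ^ i * (X - C q) ^ j}).restrictScalars k) ∧
       2 ≤ Module.finrank k ↥(V ⊓ (Ideal.span {(X - C p) ^ (i - 1) * (X - C q) ^ (j - 1)}).restrictScalars k)) := by
  rintro ⟨-, h2⟩
  have hle : V ≤ Groth.L15.Wronskian.Im (![0, 1] : Fin 2 → k) ![a, b] (a + b + 1) := by
    have hsum : (∑ j, (![a, b] : Fin 2 → ℕ) j) = a + b := by simp [Fin.sum_univ_two]
    have hpart : ∀ (n c : ℕ) (M : Polynomial k), M.Monic → M.natDegree = c → 1 ≤ n →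
        (Ideal.span {M}).restrictScalars k ⊓ Polynomial.degreeLE k ↑(c + n - 1) ≤
          (Polynomial.degreeLT k n).map (LinearMap.mulLeft k M) := by
      rintro n c M hM hMd hn P ⟨h1, h3⟩
      obtain ⟨Q, rfl⟩ := Ideal.mem_span_singleton.1 h1
      refine ⟨Q, ?_, rfl⟩
      rw [SetLike.mem_coe, Polynomial.mem_degreeLT]
      rcases eq_or_ne Q 0 with rfl | hQ
      · rw [Polynomial.degree_zero]; exact WithBot.bot_lt_coe _
      rw [SetLike.mem_coe, Polynomial.mem_degreeLE, Polynomial.degree_eq_natDegree (mul_ne_zero hM.ne_zero hQ),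
        Polynomial.natDegree_mul hM.ne_zero hQ, Nat.cast_le, hMd] at h3
      rw [Polynomial.degree_eq_natDegree hQ, Nat.cast_lt]
      omega
    rw [hV]
    refine sup_le (sup_le ?_ ?_) ?_
    · refine le_trans ?_ (Groth.L15.Wronskian.part_le_Im (by omega) 1)
      have e : (∏ j ∈ (Finset.univ : Finset (Fin 2)).erase 1,
          (X - C ((![0, 1] : Fin 2 → k) j)) ^ ((![a, b] : Fin 2 → ℕ) j + 1)) = X ^ (a + 1) := by
        rw [show (Finset.univ : Finset (Fin 2)).erase 1 = {0} by decide]
        simp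
      rw [e]
      have h := hpart b (a + 1) _ (Polynomial.monic_X_pow (R := k) (a + 1)) (Polynomial.natDegree_X_pow _) hb
      rw [show a + 1 + b - 1 = a + b by omega] at h
      exact h
    · refine le_trans ?_ (Groth.L15.Wronskian.part_le_Im (by omega) 0)
      have e : (∏ j ∈ (Finset.univ : Finset (Fin 2)).erase 0,
          (X - C ((![0, 1] : Fin 2 → k) j)) ^ ((![a, b] : Fin 2 → ℕ) j + 1)) = (X - 1) ^ (b + 1) := by
        rw [show (Finset.univ : Finset (Fin 2)).erase 0 = {1} by decide]
        simp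
      rw [e]
      have h := hpart a (b + 1) ((X - 1 : Polynomial k) ^ (b + 1)) (by
          rw [← Polynomial.C_1]; exact (Polynomial.monic_X_sub_C _).pow _) (by
          rw [← Polynomial.C_1, Polynomial.natDegree_pow, Polynomial.natDegree_X_sub_C, mul_one]) ha
      rw [show b + 1 + a - 1 = a + b by omega] at h
      exact h
    · rw [Submodule.span_singleton_le_iff_mem]
      refine Groth.L15.Wronskian.poly_part_le_Im (b := 1) (by omega) ⟨1, ?_, ?_⟩
      · rw [SetLike.mem_coe, Polynomial.mem_degreeLT, Polynomial.degree_one]; exact_mod_cast Nat.one_pos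
      · simp [Fin.prod_univ_two]
  have := Groth.L15.Wronskian.pair (r := (![0, 1] : Fin 2 → k)) (a := ![a, b]) (N := a + b + 1)
    (by simp [Fin.sum_univ_two]) (p := p) (q := q) (by intro j; fin_cases j <;> simp [hp0, hp1])
    (by intro j; fin_cases j <;> simp [hq0, hq1]) (i := i) (j := j) hi (by omega) (by omega) hle
  omega

end Groth.Agent.S16260
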