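import Groth.Statements.S16261
import Mathlib.RingTheory.PowerSeries.WellKnown
import Mathlib.Algebra.Polynomial.Coeff
import Mathlib.LinearAlgebra.Dimension.Finite
import Mathlib.LinearAlgebra.FiniteDimensional.Lemmas
import Mathlib.Algebra.Polynomial.Monic
import Mathlib.Data.Nat.Choose.Sum
import Mathlib.Tactic.Ring
import Mathlib.Tactic.LinearCombination

set_option autoImplicit false
open W4c3wronskmg

namespace Groth.Agent.S16261

open Polynomial in
/-- With `k` of characteristic zero, `a, b, i` positive, `i ≤ a + b`, `j = a + b + 2 - i` and `V ⊆ k[X]`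
the linear system of the first assertion (marked points `A = 0`, `B = 1`, `C = ∞`; `V` spanned by
the multiples of `X^(a+1)` of degree at most `a+b`, the multiples of `(X-1)^(b+1)` of degree at most
`a+b`, and `X^(a+1) (X-1)^(b+1)`): if the point `P` is put at `A` and `Q = q` is any point other
than `C`, and both `dim V(-iA-jQ) ≥ 1` and `dim V(-(i-1)A-(j-1)Q) ≥ 2` hold, then `i ≥ a + 1`. (The
published statement is over the complex numbers.) -/
theorem result
    (k : Type*) [Field k] [CharZero k] (a b i j : ℕ) (ha : 0 < a) (hb : 0 < b) (hi : 0 < i) (hiab : i ≤ a + b)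
    (hj : i + j = a + b + 2)
    (V : Submodule k (Polynomial k))
    (hV : V = ((Ideal.span {(X : Polynomial k) ^ (a + 1)}).restrictScalars k ⊓ Polynomial.degreeLE k ↑(a + b)) ⊔
      ((Ideal.span {((X : Polynomial k) - 1) ^ (b + 1)}).restrictScalars k ⊓ Polynomial.degreeLE k ↑(a + b)) ⊔
      Submodule.span k {(X : Polynomial k) ^ (a + 1) * (X - 1) ^ (b + 1)})
    (q : k)
    (h1 : 1 ≤ Module.finrank k ↥(V ⊓ (Ideal.span {(X : Polynomial k) ^ i * (X - C q) ^ j}).restrictScalars k))
    (h2 : 2 ≤ Module.finrank k ↥(V ⊓ (Ideal.span {(X : Polynomial k) ^ (i - 1) * (X - C q) ^ (j - 1)}).restrictScalars k)) :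
    a + 1 ≤ i := by
  classical
  by_contra hlt
  set S : PowerSeries k := (PowerSeries.invOneSubPow k (b + 1) : (PowerSeries k)ˣ).val with hS
  let Φ : Polynomial k →ₗ[k] k :=
    (PowerSeries.coeff a) ∘ₗ (LinearMap.mulRight k S) ∘ₗ (Polynomial.coeToPowerSeries.algHom k : Polynomial k →ₐ[k] PowerSeries k).toLinearMap
  let Ψ : Polynomial k →ₗ[k] k := Polynomial.lcoeff k (a + b + 1) + ((b + 1 : ℕ) : k) • Polynomial.lcoeff k (a + b + 2)
  have hΦ : ∀ g : Polynomial k, Φ g = PowerSeries.coeff a ((g : PowerSeries k) * S) := fun g => by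
    simp [Φ, Polynomial.coeToPowerSeries.algHom_apply, Algebra.algebraMap_self]
  have hone : ((1 - Polynomial.X : Polynomial k) : PowerSeries k) ^ (b + 1) * S = 1 := by
    rw [hS, Polynomial.coe_sub, Polynomial.coe_one, Polynomial.coe_X]
    exact (PowerSeries.invOneSubPow k (b + 1)).inv_val
  have hlow : ∀ r : Polynomial k, Φ (Polynomial.X ^ (a + 1) * r) = 0 := fun r => by
    rw [hΦ, Polynomial.coe_mul, Polynomial.coe_pow, Polynomial.coe_X, mul_assoc, PowerSeries.coeff_X_pow_mul',
      if_neg (by omega)]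
  have hVle : ∀ g ∈ V, Φ g = 0 ∧ Ψ g = 0 ∧ g.natDegree ≤ a + b + 2 := by
    intro g hg
    rw [hV] at hg
    obtain ⟨g12, h12, g3, hg3, rfl⟩ := Submodule.mem_sup.1 hg
    obtain ⟨g1, hg1, g2, hg2, rfl⟩ := Submodule.mem_sup.1 h12
    obtain ⟨c, rfl⟩ := Submodule.mem_span_singleton.1 hg3
    obtain ⟨hg1d, hg1e⟩ := hg1
    obtain ⟨hg2d, hg2e⟩ := hg2
    obtain ⟨u, rfl⟩ := Ideal.mem_span_singleton.1 hg1d
    obtain ⟨v, rfl⟩ := Ideal.mem_span_singleton.1 hg2d
    have n1 : ((Polynomial.X : Polynomial k) ^ (a + 1) * u).natDegree ≤ a + b :=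
      Polynomial.natDegree_le_iff_degree_le.2 (Polynomial.mem_degreeLE.1 hg1e)
    have n2 : (((Polynomial.X : Polynomial k) - 1) ^ (b + 1) * v).natDegree ≤ a + b :=
      Polynomial.natDegree_le_iff_degree_le.2 (Polynomial.mem_degreeLE.1 hg2e)
    have hX1 : ((Polynomial.X : Polynomial k) - 1) = Polynomial.X + Polynomial.C (-1) := by simp [sub_eq_add_neg]
    have hP : ((Polynomial.X : Polynomial k) ^ (a + 1) * (Polynomial.X - 1) ^ (b + 1)).natDegree ≤ a + b + 2 := by
      refine Polynomial.natDegree_mul_le.trans ?_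
      rw [Polynomial.natDegree_X_pow, hX1, Polynomial.natDegree_pow, Polynomial.natDegree_X_add_C]
      omega
    refine ⟨?_, ?_, ?_⟩
    · have hv : Φ (((Polynomial.X : Polynomial k) - 1) ^ (b + 1) * v) = 0 := by
        by_cases hv0 : v = 0
        · rw [hv0, mul_zero, map_zero]
        have hvd : v.natDegree < a := by
          rw [Polynomial.natDegree_mul (pow_ne_zero _ (by rw [hX1]; exact Polynomial.X_add_C_ne_zero _)) hv0,
            hX1, Polynomial.natDegree_pow, Polynomial.natDegree_X_add_C] at n2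
          omega
        rw [show ((Polynomial.X : Polynomial k) - 1) ^ (b + 1) * v =
          (-1 : k) ^ (b + 1) • ((1 - Polynomial.X) ^ (b + 1) * v) by
            rw [Polynomial.smul_eq_C_mul, ← mul_assoc, map_pow, ← mul_pow, map_neg, map_one, neg_one_mul, neg_sub],
          map_smul, hΦ, Polynomial.coe_mul, Polynomial.coe_pow, mul_comm _ ((v : Polynomial k) : PowerSeries k),
          mul_assoc, hone, mul_one, Polynomial.coeff_coe, Polynomial.coeff_eq_zero_of_natDegree_lt hvd, smul_zero]
      rw [map_add, map_add, map_smul, hlow, hv, hlow, smul_zero, add_zero, add_zero]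
    · have hz : ∀ r : Polynomial k, r.natDegree ≤ a + b → Ψ r = 0 := fun r hr => by
        simp [Ψ, Polynomial.coeff_eq_zero_of_natDegree_lt (show r.natDegree < a + b + 1 by omega),
          Polynomial.coeff_eq_zero_of_natDegree_lt (show r.natDegree < a + b + 2 by omega)]
      have hp : Ψ ((Polynomial.X : Polynomial k) ^ (a + 1) * (Polynomial.X - 1) ^ (b + 1)) = 0 := by
        simp only [Ψ, LinearMap.add_apply, LinearMap.smul_apply, Polynomial.lcoeff_apply, hX1,
          show a + b + 2 = b + 1 + (a + 1) by omega, show a + b + 1 = b + (a + 1) by omega,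
          Polynomial.coeff_X_pow_mul, Polynomial.coeff_X_add_C_pow]
        simp
      rw [map_add, map_add, map_smul, hz _ n1, hz _ n2, hp, smul_zero, add_zero, add_zero]
    · exact (Polynomial.natDegree_add_le _ _).trans (max_le ((Polynomial.natDegree_add_le _ _).trans
        (max_le (n1.trans (by omega)) (n2.trans (by omega)))) ((Polynomial.natDegree_smul_le _ _).trans hP))
  -- the first point
  have hne : ∀ (e f : ℕ), ((Polynomial.X : Polynomial k) ^ e * (Polynomial.X - Polynomial.C q) ^ f) ≠ 0 := fun e f =>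
    mul_ne_zero (pow_ne_zero _ Polynomial.X_ne_zero) (pow_ne_zero _ (Polynomial.X_sub_C_ne_zero q))
  have hdeg : ∀ (e f : ℕ) (g w : Polynomial k), g = Polynomial.X ^ e * (Polynomial.X - Polynomial.C q) ^ f * w →
      g.natDegree ≤ e + f → ∃ c, w = Polynomial.C c := by
    intro e f g w hg hle
    by_cases hw : w = 0
    · exact ⟨0, by simp [hw]⟩
    refine ⟨w.coeff 0, Polynomial.eq_C_of_natDegree_eq_zero ?_⟩
    rw [hg, Polynomial.natDegree_mul (hne e f) hw, Polynomial.natDegree_mul (pow_ne_zero _ Polynomial.X_ne_zero)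
      (pow_ne_zero _ (Polynomial.X_sub_C_ne_zero q)), Polynomial.natDegree_X_pow, Polynomial.natDegree_pow,
      Polynomial.natDegree_X_sub_C] at hle
    omega
  obtain ⟨g, hgV, hg0⟩ := Submodule.exists_mem_ne_zero_of_ne_bot
    (p := V ⊓ (Ideal.span {(Polynomial.X : Polynomial k) ^ i * (Polynomial.X - Polynomial.C q) ^ j}).restrictScalars k)
    (fun h => by rw [h, finrank_bot] at h1; omega)
  obtain ⟨hgV, hgI⟩ := hgV
  obtain ⟨w, hw⟩ := Ideal.mem_span_singleton.1 hgI
  obtain ⟨c, rfl⟩ := hdeg i j g w hw (by have := (hVle g hgV).2.2; omega)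
  have hc : c ≠ 0 := fun h => hg0 (by simp [hw, h])
  have hq : ((b + 1 : ℕ) : k) = (j : k) * q := by
    have := (hVle g hgV).2.1
    rw [hw, sub_eq_add_neg, ← map_neg] at this
    simp only [Ψ, LinearMap.add_apply, LinearMap.smul_apply, Polynomial.lcoeff_apply, Polynomial.coeff_mul_C] at this
    rw [show a + b + 1 = (j - 1) + i by omega, show a + b + 2 = j + i by omega] at this
    simp only [Polynomial.coeff_X_pow_mul, Polynomial.coeff_X_add_C_pow, Nat.sub_self, pow_zero, Nat.choose_self,
      Nat.cast_one, mul_one, show j - (j - 1) = 1 by omega, pow_one, smul_eq_mul,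
      show j.choose (j - 1) = j by rw [Nat.choose_symm (show 1 ≤ j by omega), Nat.choose_one_right]] at this
    refine mul_right_cancel₀ hc ?_
    linear_combination this
  have hjb : b + 1 < j := by omega
  have hq0 : q ≠ 0 := fun h => by
    rw [h, mul_zero, Nat.cast_eq_zero] at hq; omega
  have hq1 : q ≠ 1 := fun h => by
    rw [h, mul_one] at hq
    have := Nat.cast_injective hq; omega
  -- the second point
  set U := V ⊓ (Ideal.span {(Polynomial.X : Polynomial k) ^ (i - 1) * (Polynomial.X - Polynomial.C q) ^ (j - 1)}).restrictScalars k with hU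
  haveI : Module.Finite k U := Module.finite_of_finrank_pos (by omega)
  have hkne : LinearMap.ker ((Polynomial.lcoeff k (a + b + 2)).comp U.subtype) ≠ ⊥ := by
    intro hbot
    have := LinearMap.finrank_le_finrank_of_injective (LinearMap.ker_eq_bot.1 hbot)
    rw [Module.finrank_self] at this
    omega
  obtain ⟨⟨g', hg'V, hg'I⟩, hg'k, hg'0⟩ := Submodule.exists_mem_ne_zero_of_ne_bot hkne
  have htop : g'.coeff (a + b + 2) = 0 := hg'k
  obtain ⟨hΦg, hΨg, hdg⟩ := hVle g' hg'V
  have htop1 : g'.coeff (a + b + 1) = 0 := by simpa [Ψ, htop] using hΨg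
  have hd' : g'.natDegree ≤ a + b := by
    rw [Polynomial.natDegree_le_iff_coeff_eq_zero]
    intro N hN
    rcases (show N = a + b + 1 ∨ N = a + b + 2 ∨ a + b + 2 < N by omega) with rfl | rfl | h
    · exact htop1
    · exact htop
    · exact Polynomial.coeff_eq_zero_of_natDegree_lt (by omega)
  obtain ⟨w', hw'⟩ := Ideal.mem_span_singleton.1 hg'I
  obtain ⟨c', rfl⟩ := hdeg (i - 1) (j - 1) g' w' hw' (by omega)
  have hc' : c' ≠ 0 := fun h => hg'0 (Subtype.ext (by simp [hw', h]))
  obtain ⟨n, hn⟩ : ∃ n, a = i - 1 + n := ⟨a - (i - 1), by omega⟩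
  rw [hw', mul_comm, Polynomial.C_mul', map_smul, smul_eq_mul, mul_eq_zero, hΦ] at hΦg
  replace hΦg := hΦg.resolve_left hc'
  rw [Polynomial.coe_mul, Polynomial.coe_pow, Polynomial.coe_X, mul_assoc, PowerSeries.coeff_X_pow_mul',
    if_pos (by omega), show a - (i - 1) = n by omega, PowerSeries.coeff_mul,
    Finset.Nat.sum_antidiagonal_eq_sum_range_succ_mk] at hΦg
  have key : ∀ u ∈ Finset.range (n + 1),
      PowerSeries.coeff u (((Polynomial.X - Polynomial.C q) ^ (j - 1) : Polynomial k) : PowerSeries k) *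
        PowerSeries.coeff (n - u) S = ((b + n).choose b : k) * (-q) ^ b * ((1 : k) ^ u * (-q) ^ (n - u) * (n.choose u : k)) := by
    intro u hu
    rw [Finset.mem_range] at hu
    rw [Polynomial.coeff_coe, sub_eq_add_neg, ← map_neg, Polynomial.coeff_X_add_C_pow, show j - 1 = b + n by omega,
      hS, PowerSeries.invOneSubPow_val_succ_eq_mk_add_choose, PowerSeries.coeff_mk, one_pow, one_mul,
      show b + n - u = b + (n - u) by omega, pow_add]
    have : (b + n).choose u * (b + (n - u)).choose b = (b + n).choose b * n.choose u := by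
      have h3 := Nat.choose_mul (n := b + n) (show u ≤ n by omega)
      rw [Nat.choose_symm_of_eq_add (show b + n = n + b by omega)] at h3
      rw [show b + n - u = b + (n - u) by omega] at h3
      rw [Nat.choose_symm_of_eq_add (show b + (n - u) = b + (n - u) from rfl)]
      linarith [h3]
    have h' : ((b + n).choose u : k) * ((b + (n - u)).choose b : k) = ((b + n).choose b : k) * (n.choose u : k) := by
      exact_mod_cast this
    linear_combination ((-q) ^ b * (-q) ^ (n - u)) * h'
  simp only at hΦg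
  rw [Finset.sum_congr rfl key, ← Finset.mul_sum, ← add_pow] at hΦg
  refine mul_ne_zero (mul_ne_zero ?_ (pow_ne_zero _ (neg_ne_zero.2 hq0))) (pow_ne_zero _ ?_) hΦg
  · exact Nat.cast_ne_zero.2 (Nat.choose_pos (by omega)).ne'
  · rw [← sub_eq_add_neg, sub_ne_zero]; exact Ne.symm hq1

end Groth.Agent.S16261
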