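import Groth.Statements.S16262
import Mathlib.Tactic.LinearCombination
import Mathlib.Algebra.Polynomial.Derivative
import Mathlib.Algebra.Polynomial.RingDivision
import Mathlib.LinearAlgebra.FiniteDimensional.Lemmas
-- import your own Groth.Agent.* helpers here

set_option autoImplicit false
open W4c3wronskmg

namespace Groth.Agent.S16262

open Polynomial in
/-- Let `k` be a field of characteristic zero and `a, b, i` positive integers with `i < a + b`. On the
projective line with `A = 0`, `B = ∞`, `P = -1`, the system `V_{a,b} = H⁰(ω((1+a)A)) ⊕ H⁰(ω((1+b)B))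
⊆ H⁰(O(a+b))` is the space of polynomials of degree at most `a+b` with vanishing coefficient of
`X^a`, and `V = V_{a,b}(-iP)` (divided by `(X+1)^i`) is the space of `G` of degree at most `a+b-i`
such that the coefficient of `X^a` in `(X+1)^i G` vanishes; it is a linear system of dimension and
degree `a+b-i`. Then no point of the projective line other than `A` and `B` is a special
ramification point of `V` (a point of weight at least two); for such a system a point `q` of the
affine line is special exactly when two independent members are divisible by `(X-q)^(a+b-i-1)`, so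
the statement is that this fails for every `q ≠ 0`. (The published statement does not except `A` and
`B`, but `A` has weight `max(b-i, 0)` in `V`, which is `2` for `a = 1, b = 3, i = 1`: there `X^3`
and `X^2` both lie in `V`. It is stated over the complex numbers.) -/
theorem result
    (k : Type*) [Field k] [CharZero k] (a b i : ℕ) (ha : 0 < a) (hb : 0 < b) (hi : 0 < i) (hiab : i < a + b)
    (V : Submodule k (Polynomial k))
    (hV : V = Polynomial.degreeLE k ↑(a + b - i) ⊓
      LinearMap.ker ((Polynomial.lcoeff k a).comp (LinearMap.mulLeft k (((X : Polynomial k) + 1) ^ i))))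
    (q : k) (hq : q ≠ 0) :
    Module.finrank k ↥(V ⊓ (Ideal.span {(X - C q) ^ (a + b - i - 1)}).restrictScalars k) ≤ 1 := by
  classical
  obtain ⟨m, hm⟩ : ∃ m, a + b - i = m + 1 := ⟨a + b - i - 1, by omega⟩
  rw [show a + b - i - 1 = m by omega]
  rw [hm] at hV
  obtain ⟨a, rfl⟩ : ∃ a', a = a' + 1 := ⟨a - 1, by omega⟩
  let P : Polynomial k := (X + 1) ^ i * (X - C q) ^ m
  have hid : (X + 1) * (X - C q) * derivative P = (C (i : k) * (X - C q) + C (m : k) * (X + 1)) * P := by
    obtain ⟨i, rfl⟩ : ∃ i', i = i' + 1 := ⟨i - 1, by omega⟩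
    have h1 : derivative ((X - C q) ^ m) * (X - C q) = C (m : k) * (X - C q) ^ m := by
      cases m with
      | zero => simp
      | succ m => rw [derivative_X_sub_C_pow, Nat.add_sub_cancel, pow_succ]; ring
    have h2 : derivative ((X + 1 : Polynomial k) ^ (i + 1)) = C ((i + 1 : ℕ) : k) * (X + 1) ^ i := by
      rw [derivative_pow, Nat.add_sub_cancel, derivative_add, derivative_X, derivative_one]; simp
    simp only [P, derivative_mul, h2]
    linear_combination (X + 1) * (X + 1) ^ (i + 1) * h1
  have hrec : ∀ n, P.coeff n = 0 → P.coeff (n + 1) = 0 → P.coeff (n + 2) = 0 := fun n h0 h1 => by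
    have h := congrArg (fun Q => Polynomial.coeff Q (n + 1)) hid
    have e1 : (X + 1) * (X - C q) * derivative P =
        X * (X * derivative P) + C (1 - q) * (X * derivative P) - C q * derivative P := by
      simp only [map_sub, map_one]; ring
    have e2 : (C (i : k) * (X - C q) + C (m : k) * (X + 1)) * P = C ((i : k) + m) * (X * P) + C ((m : k) - i * q) * P := by
      simp only [map_add, map_sub, map_mul]; ring
    have hXD : (X * derivative P).coeff n = (n : k) * P.coeff n := by
      cases n with
      | zero => simp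
      | succ n => rw [coeff_X_mul, coeff_derivative]; push_cast; ring
    simp only [e1, e2, coeff_add, coeff_sub, coeff_C_mul, coeff_X_mul, coeff_derivative, hXD, h0, h1, mul_zero,
      zero_mul, add_zero, zero_sub, neg_eq_zero, mul_eq_zero, hq, false_or] at h
    exact h.resolve_right (by norm_cast)
  have hdeg : P.natDegree = i + m := by
    simp only [P]
    rw [natDegree_mul (pow_ne_zero _ (map_one (C : k →+* Polynomial k) ▸ X_add_C_ne_zero 1))
      (pow_ne_zero _ (X_sub_C_ne_zero q)), natDegree_pow, natDegree_pow, natDegree_X_sub_C,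
      ← map_one (C : k →+* Polynomial k), natDegree_X_add_C, mul_one, mul_one]
  have hP : P ≠ 0 := mul_ne_zero (pow_ne_zero _ (map_one (C : k →+* Polynomial k) ▸ X_add_C_ne_zero 1))
    (pow_ne_zero _ (X_sub_C_ne_zero q))
  have hne : ¬ (P.coeff a = 0 ∧ P.coeff (a + 1) = 0) := by
    rintro ⟨h0, h1⟩
    have hall : ∀ n, a ≤ n → P.coeff n = 0 ∧ P.coeff (n + 1) = 0 := by
      intro n hn
      induction n, hn using Nat.le_induction with
      | base => exact ⟨h0, h1⟩
      | succ n _ ih => exact ⟨ih.2, hrec n ih.1 ih.2⟩
    have := (hall P.natDegree (by omega)).1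
    rw [coeff_natDegree, leadingCoeff_eq_zero] at this
    exact hP this
  let Φ : (k × k) →ₗ[k] Polynomial k :=
    { toFun := fun c => (X - C q) ^ m * (C c.1 + C c.2 * X)
      map_add' := fun c d => by simp only [Prod.fst_add, Prod.snd_add, map_add]; ring
      map_smul' := fun r c => by simp only [Prod.smul_fst, Prod.smul_snd, smul_eq_mul, map_mul, RingHom.id_apply, smul_eq_C_mul]; ring }
  let ψ : (k × k) →ₗ[k] k := P.coeff (a + 1) • LinearMap.fst k k k + P.coeff a • LinearMap.snd k k k
  have hle : V ⊓ (Ideal.span {(X - C q) ^ m}).restrictScalars k ≤ (LinearMap.ker ψ).map Φ := by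
    rintro G ⟨hG, hGd⟩
    rw [hV] at hG
    obtain ⟨hGdeg, hGa⟩ := hG
    obtain ⟨L, rfl⟩ := Ideal.mem_span_singleton'.1 hGd
    have hLdeg : L.natDegree ≤ 1 := by
      rcases eq_or_ne L 0 with rfl | hL
      · simp
      have h := natDegree_le_of_degree_le (mem_degreeLE.1 hGdeg)
      rw [natDegree_mul hL (pow_ne_zero _ (X_sub_C_ne_zero q)), natDegree_pow, natDegree_X_sub_C] at h
      omega
    obtain ⟨c₁, c₀, rfl⟩ := exists_eq_X_add_C_of_natDegree_le_one hLdeg
    refine ⟨(c₀, c₁), ?_, by simp only [Φ, LinearMap.coe_mk, AddHom.coe_mk]; ring⟩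
    rw [SetLike.mem_coe, LinearMap.mem_ker] at hGa ⊢
    simp only [LinearMap.comp_apply, LinearMap.mulLeft_apply, lcoeff_apply] at hGa
    have e : (X + 1) ^ i * ((C c₁ * X + C c₀) * (X - C q) ^ m) = C c₁ * (X * P) + C c₀ * P := by
      simp only [P]; ring
    rw [e, coeff_add, coeff_C_mul, coeff_C_mul, coeff_X_mul] at hGa
    simp only [ψ, LinearMap.add_apply, LinearMap.smul_apply, LinearMap.fst_apply, LinearMap.snd_apply, smul_eq_mul]
    linear_combination hGa
  refine (Submodule.finrank_mono hle).trans ((Submodule.finrank_map_le _ _).trans ?_)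
  have hker : LinearMap.ker ψ ≠ ⊤ := fun h => hne <| by
    have h1 : ψ ((0 : k), (1 : k)) = 0 := LinearMap.mem_ker.1 (h ▸ Submodule.mem_top)
    have h2 : ψ ((1 : k), (0 : k)) = 0 := LinearMap.mem_ker.1 (h ▸ Submodule.mem_top)
    simp [ψ] at h1 h2
    exact ⟨h1, h2⟩
  have := Submodule.finrank_lt hker
  rw [Module.finrank_prod, Module.finrank_self] at this
  omega

end Groth.Agent.S16262
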