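import Groth.Statements.S16263
import Mathlib.Algebra.Polynomial.Div
import Mathlib.LinearAlgebra.Dimension.Finite
import Mathlib.LinearAlgebra.FiniteDimensional.Basic
import Mathlib.RingTheory.Polynomial.Basic
import Mathlib.Tactic.Ring
import Mathlib.Tactic.FieldSimp
import Mathlib.Tactic.LinearCombination

set_option autoImplicit false
open W4c3wronskmg

namespace Groth.Agent.S16263

open Polynomial in
/-- Let `k` be a field of characteristic zero and `a` a positive integer. On the projective line with `A
= 0`, `B = -1`, `C = ∞`, the `(a+1)`-dimensional system `V = H⁰(ω((1+a)C)) ⊕ H⁰(ω(A+B)) ⊆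
H⁰(ω((1+a)C + A + B)) ≅ H⁰(O(a+1))` is, in the affine coordinate, the space of polynomials `c + X
(X+1) F` with `c` a constant and `deg F ≤ a - 1`. Then `V` has no special ramification point (no
point of weight at least two): since the members have degree at most `a + 1`, this says that for
every point `p` of the affine line at most a one-dimensional subspace of `V` is divisible by
`(X-p)^a`, and at `C` that at most a one-dimensional subspace has degree at most one (degree less
than two). (The published statement carries two further positive integers `i, j` with `i + j = a -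
1`, used only in its second assertion, and is over the complex numbers.) -/
theorem result
    (k : Type*) [Field k] [CharZero k] (a : ℕ) (ha : 0 < a)
    (V : Submodule k (Polynomial k))
    (hV : V = Submodule.span k {(1 : Polynomial k)} ⊔
      ((Ideal.span {(X : Polynomial k) * (X + 1)}).restrictScalars k ⊓ Polynomial.degreeLE k ↑(a + 1))) :
    (∀ p : k, Module.finrank k ↥(V ⊓ (Ideal.span {(X - C p) ^ a}).restrictScalars k) ≤ 1) ∧
      Module.finrank k ↥(V ⊓ Polynomial.degreeLT k 2) ≤ 1 := by
  classical
  have hVe : ∀ P ∈ V, P.eval 0 = P.eval (-1) := by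
    intro P hP
    rw [hV, Submodule.mem_sup] at hP
    obtain ⟨c, hc, q, hq, rfl⟩ := hP
    obtain ⟨r, rfl⟩ := Submodule.mem_span_singleton.1 hc
    obtain ⟨t, ht⟩ := Ideal.mem_span_singleton.1 (show q ∈ Ideal.span {(X : Polynomial k) * (X + 1)} from hq.1)
    simp [ht, smul_eq_C_mul]
  have hVd : ∀ P ∈ V, P.natDegree ≤ a + 1 := by
    intro P hP
    rw [hV, Submodule.mem_sup] at hP
    obtain ⟨c, hc, q, hq, rfl⟩ := hP
    obtain ⟨r, rfl⟩ := Submodule.mem_span_singleton.1 hc
    refine (natDegree_add_le _ _).trans (max_le ?_ ?_)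
    · exact (natDegree_smul_le _ _).trans (by simp)
    · exact natDegree_le_iff_degree_le.2 (Polynomial.mem_degreeLE.1 hq.2)
  have hle : ∀ (W : Submodule k (Polynomial k)) (w : Polynomial k), W ≤ Submodule.span k {w} →
      Module.finrank k ↥W ≤ 1 := fun W w h => by
    refine (Submodule.finrank_mono h).trans ((finrank_span_le_card _).trans ?_)
    simp
  refine ⟨fun p => ?_, hle _ 1 ?_⟩
  · set u := (-1 - p) ^ a with hu
    set v := (-p) ^ a with hv
    refine hle _ ((X - C p) ^ a * (C (u - v) * X + C u)) ?_
    rintro P ⟨hP, hdiv⟩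
    obtain ⟨L, rfl⟩ := Ideal.mem_span_singleton.1 (show P ∈ Ideal.span {(X - C p) ^ a} from hdiv)
    obtain ⟨α, β, rfl⟩ : ∃ α β, L = C α * X + C β := by
      by_cases hL : L = 0
      · exact ⟨0, 0, by simp [hL]⟩
      refine ⟨L.coeff 1, L.coeff 0, eq_X_add_C_of_natDegree_le_one ?_⟩
      have := hVd _ hP
      rw [natDegree_mul (pow_ne_zero _ (X_sub_C_ne_zero p)) hL, natDegree_pow, natDegree_X_sub_C, mul_one] at this
      omega
    have he := hVe _ hP
    simp only [eval_mul, eval_pow, eval_sub, eval_X, eval_C, eval_add, zero_sub, mul_zero, zero_add,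
      mul_neg, mul_one] at he
    rw [← hu, ← hv] at he
    rw [Submodule.mem_span_singleton]
    by_cases hu0 : u = 0
    · have hv0 : v ≠ 0 := by
        intro hv0
        have h1 : -1 - p = 0 := (pow_eq_zero_iff ha.ne').1 hu0
        have h2 : -p = 0 := (pow_eq_zero_iff ha.ne').1 hv0
        exact one_ne_zero (show (1 : k) = 0 by linear_combination h2 - h1)
      rw [hu0, zero_mul] at he
      have hb : β = 0 := (mul_eq_zero.1 he).resolve_left hv0
      refine ⟨-α / v, ?_⟩
      rw [hu0, hb, zero_sub, smul_eq_C_mul]
      have hA : (-α / v) * (-v) = α := by field_simp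
      calc C (-α / v) * ((X - C p) ^ a * (C (-v) * X + C 0))
          = (X - C p) ^ a * (C ((-α / v) * (-v)) * X + C 0) := by
            rw [C_mul, C_0]; ring
        _ = (X - C p) ^ a * (C α * X + C 0) := by rw [hA]
    · refine ⟨β / u, ?_⟩
      rw [smul_eq_C_mul]
      have hA : (β / u) * (u - v) = α := by
        rw [div_mul_eq_mul_div, div_eq_iff hu0]
        linear_combination -he
      have hB : (β / u) * u = β := div_mul_cancel₀ β hu0
      calc C (β / u) * ((X - C p) ^ a * (C (u - v) * X + C u))
          = (X - C p) ^ a * (C ((β / u) * (u - v)) * X + C ((β / u) * u)) := by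
            rw [C_mul, C_mul]; ring
        _ = (X - C p) ^ a * (C α * X + C β) := by rw [hA, hB]
  · rintro P ⟨hP, hdeg⟩
    by_cases hP0 : P = 0
    · rw [hP0]; exact zero_mem _
    have h1 : P = C (P.coeff 1) * X + C (P.coeff 0) := by
      refine eq_X_add_C_of_natDegree_le_one (Nat.lt_succ_iff.1 ?_)
      exact (natDegree_lt_iff_degree_lt hP0).2 (Polynomial.mem_degreeLT.1 hdeg)
    have he := hVe _ hP
    rw [h1] at he
    simp at he
    rw [h1, he, C_0, zero_mul, zero_add, Submodule.mem_span_singleton]
    exact ⟨P.coeff 0, by rw [smul_eq_C_mul, mul_one]⟩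


end Groth.Agent.S16263
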