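import Groth.Statements.S16264
import Mathlib.Tactic.LinearCombination
import Mathlib.Algebra.Polynomial.RingDivision
import Mathlib.LinearAlgebra.FiniteDimensional.Lemmas
import Mathlib.RingTheory.Coprime.Lemmas
-- import your own Groth.Agent.* helpers here

set_option autoImplicit false
open W4c3wronskmg

namespace Groth.Agent.S16264

open Polynomial in
/-- Let `k` be a field of characteristic zero and `a, i, j` positive integers with `i + j = a - 1`. With
`A = 0`, `B = -1`, `C = ∞` on the projective line and `V` the `(a+1)`-dimensional system of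
polynomials `c + X (X+1) F`, `deg F ≤ a - 1` (that is, `H⁰(ω((1+a)C)) ⊕ H⁰(ω(A+B)) ⊆ H⁰(O(a+1))`),
the pairs of points `(P, Q) = (p, q)` of the affine line with `dim V(-iP-jQ) ≥ 3`, i.e. with at
least a three-dimensional subspace of `V` divisible by `(X-p)^i (X-q)^j`, are exactly `(A, B)` and
`(B, A)`. (Here `P, Q` range over the points other than `C`; when one of them is `C` the dimension
is at most two for degree reasons. The published statement is over the complex numbers.) -/
theorem result
    (k : Type*) [Field k] [CharZero k] (a i j : ℕ) (hi : 0 < i) (hj : 0 < j) (hij : i + j + 1 = a)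
    (V : Submodule k (Polynomial k))
    (hV : V = Submodule.span k {(1 : Polynomial k)} ⊔
      ((Ideal.span {(X : Polynomial k) * (X + 1)}).restrictScalars k ⊓ Polynomial.degreeLE k ↑(a + 1)))
    (p q : k) :
    3 ≤ Module.finrank k ↥(V ⊓ (Ideal.span {(X - C p) ^ i * (X - C q) ^ j}).restrictScalars k) ↔
      (p = 0 ∧ q = -1) ∨ (p = -1 ∧ q = 0) := by
  classical
  let g : Polynomial k := (X - C p) ^ i * (X - C q) ^ j
  have hg : g ≠ 0 := mul_ne_zero (pow_ne_zero _ (X_sub_C_ne_zero p)) (pow_ne_zero _ (X_sub_C_ne_zero q))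
  have hgdeg : g.natDegree = i + j := by
    simp only [g]
    rw [natDegree_mul (pow_ne_zero _ (X_sub_C_ne_zero p)) (pow_ne_zero _ (X_sub_C_ne_zero q)), natDegree_pow,
      natDegree_pow, natDegree_X_sub_C, natDegree_X_sub_C, mul_one, mul_one]
  have hmem : ∀ G : Polynomial k, G ∈ V ↔ G.natDegree ≤ a + 1 ∧ G.eval 0 = G.eval (-1) := by
    intro G
    rw [hV, Submodule.mem_sup]
    constructor
    · rintro ⟨y, hy, z, ⟨hz, hzd⟩, rfl⟩
      obtain ⟨c, rfl⟩ := Submodule.mem_span_singleton.1 hy
      obtain ⟨F, rfl⟩ := Ideal.mem_span_singleton'.1 hz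
      refine ⟨(natDegree_add_le _ _).trans (max_le ?_ (natDegree_le_of_degree_le (mem_degreeLE.1 hzd))), by simp [smul_eq_C_mul]⟩
      rw [smul_eq_C_mul, mul_one, natDegree_C]
      omega
    · rintro ⟨hd, he⟩
      refine ⟨G.eval 0 • 1, Submodule.mem_span_singleton.2 ⟨_, rfl⟩, G - C (G.eval 0), ⟨?_, ?_⟩, by rw [smul_eq_C_mul, mul_one]; ring⟩
      · have h0 : (X - C (0 : k)) ∣ G - C (G.eval 0) := dvd_iff_isRoot.2 (by simp)
        have h1 : (X - C (-1 : k)) ∣ G - C (G.eval 0) := dvd_iff_isRoot.2 (by simp [he])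
        have h := (isCoprime_X_sub_C_of_isUnit_sub (a := (0 : k)) (b := -1) (by simp)).mul_dvd h0 h1
        simp only [map_zero, sub_zero, map_neg, map_one, sub_neg_eq_add] at h
        exact Ideal.mem_span_singleton.2 h
      · exact mem_degreeLE.2 (degree_le_of_natDegree_le (by rw [natDegree_sub_C]; exact hd))
  let Φ : (k × k × k) →ₗ[k] Polynomial k :=
    { toFun := fun c => g * (C c.1 + C c.2.1 * X + C c.2.2 * X ^ 2)
      map_add' := fun c d => by simp only [Prod.fst_add, Prod.snd_add, map_add]; ring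
      map_smul' := fun r c => by simp only [Prod.smul_fst, Prod.smul_snd, smul_eq_mul, map_mul, RingHom.id_apply, smul_eq_C_mul]; ring }
  have hΦ : Function.Injective Φ := by
    rw [← LinearMap.ker_eq_bot, LinearMap.ker_eq_bot']
    rintro ⟨c0, c1, c2⟩ hc
    have h := (mul_eq_zero.1 hc).resolve_left hg
    have e : ∀ n, coeff (C c0 + C c1 * X + C c2 * X ^ 2) n = 0 := fun n => by rw [h, coeff_zero]
    have e0 := e 0
    have e1 := e 1
    have e2 := e 2
    simp [coeff_X] at e0 e1 e2
    simp [e0, e1, e2]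
  let ψ : (k × k × k) →ₗ[k] k := ((Polynomial.aeval (0 : k)).toLinearMap - (Polynomial.aeval (-1 : k)).toLinearMap).comp Φ
  have hW : V ⊓ (Ideal.span {g}).restrictScalars k = (LinearMap.ker ψ).map Φ := by
    apply le_antisymm
    · rintro G ⟨hG, hGd⟩
      obtain ⟨H, rfl⟩ := Ideal.mem_span_singleton'.1 hGd
      obtain ⟨hd, he⟩ := (hmem _).1 hG
      have hH : H.natDegree ≤ 2 := by
        rcases eq_or_ne H 0 with rfl | hH0
        · simp
        rw [natDegree_mul hH0 hg, hgdeg] at hd
        omega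
      have hH' : H = C (H.coeff 0) + C (H.coeff 1) * X + C (H.coeff 2) * X ^ 2 := by
        refine (ext fun n => ?_)
        rcases n with _ | _ | _ | n
        · simp
        · simp
        · simp [coeff_X]
        · rw [coeff_eq_zero_of_natDegree_lt (by omega : H.natDegree < n + 3)]
          simp [coeff_X]
      have hΦH : Φ (H.coeff 0, H.coeff 1, H.coeff 2) = H * g := by
        show g * _ = H * g
        rw [← hH', mul_comm]
      refine ⟨(H.coeff 0, H.coeff 1, H.coeff 2), ?_, hΦH⟩
      rw [SetLike.mem_coe, LinearMap.mem_ker]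
      simp only [ψ, LinearMap.comp_apply, hΦH, LinearMap.sub_apply, AlgHom.toLinearMap_apply, coe_aeval_eq_eval, he, sub_self]
    · rintro _ ⟨c, hc, rfl⟩
      rw [SetLike.mem_coe, LinearMap.mem_ker] at hc
      simp only [ψ, LinearMap.comp_apply, LinearMap.sub_apply, AlgHom.toLinearMap_apply, coe_aeval_eq_eval, sub_eq_zero] at hc
      refine ⟨(hmem _).2 ⟨?_, hc⟩, Ideal.mem_span_singleton.2 (dvd_mul_right _ _)⟩
      refine natDegree_mul_le.trans ?_
      have : (C c.1 + C c.2.1 * X + C c.2.2 * X ^ 2).natDegree ≤ 2 := by compute_degree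
      rw [hgdeg]
      omega
  have hrank : Module.finrank k ↥(V ⊓ (Ideal.span {g}).restrictScalars k) = Module.finrank k (LinearMap.ker ψ) := by
    rw [hW]
    exact (Submodule.equivMapOfInjective Φ hΦ _).finrank_eq.symm
  change 3 ≤ Module.finrank k ↥(V ⊓ (Ideal.span {g}).restrictScalars k) ↔ _
  rw [hrank]
  have h3 : Module.finrank k (k × k × k) = 3 := by simp
  have hiff : 3 ≤ Module.finrank k (LinearMap.ker ψ) ↔ (g.eval 0 = 0 ∧ g.eval (-1) = 0) := by
    constructor
    · intro h
      have hle := Submodule.finrank_le (LinearMap.ker ψ)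
      have htop : LinearMap.ker ψ = ⊤ := Submodule.eq_top_of_finrank_eq (by omega)
      have hz : ∀ c, ψ c = 0 := fun c => LinearMap.mem_ker.1 (htop ▸ Submodule.mem_top)
      have a1 := hz (1, 1, 0)
      have a2 := hz (0, 1, 0)
      simp [ψ, Φ] at a1 a2
      exact ⟨a1, a2⟩
    · rintro ⟨a1, a2⟩
      have htop : LinearMap.ker ψ = ⊤ := LinearMap.ker_eq_top.2 (LinearMap.ext fun c => by simp [ψ, Φ, a1, a2])
      rw [htop, finrank_top, h3]
  rw [hiff]
  simp only [g, eval_mul, eval_pow, eval_sub, eval_X, eval_C, mul_eq_zero, pow_eq_zero_iff hi.ne', pow_eq_zero_iff hj.ne',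
    sub_eq_zero]
  constructor
  · rintro ⟨h1 | h1, h2 | h2⟩
    · exact absurd (h1.trans h2.symm) (by norm_num)
    · exact Or.inl ⟨h1.symm, h2.symm⟩
    · exact Or.inr ⟨h2.symm, h1.symm⟩
    · exact absurd (h1.trans h2.symm) (by norm_num)
  · rintro (⟨rfl, rfl⟩ | ⟨rfl, rfl⟩)
    · exact ⟨Or.inl rfl, Or.inr rfl⟩
    · exact ⟨Or.inr rfl, Or.inl rfl⟩

end Groth.Agent.S16264
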