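import Groth.Statements.S16265
import Groth.Agent.L26.FF.Criterion

set_option autoImplicit false
open FunFld

namespace Groth.Agent.S16265

open Groth.Agent.FF

/-- Let `K/k` be a function field of one variable over an algebraically closed field `k` of
characteristic zero (the function field of a smooth projective curve), `D` a divisor and `V ⊆ L(D)`
a linear system of dimension `r + 1`; write `V(-mP-nQ) = V ∩ L(D - mP - nQ)` for the members
vanishing to the indicated orders. Assume `V` has no special ramification point, i.e. no place of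
weight at least two: for every place `R`, `dim V(-rR) ≤ 1` and `V(-(r+2)R) = 0`. Let `P ≠ Q` be
places and `a, b ≥ 1` with `a + b = r + 1` (so that `V(-aP)` and `V(-bQ)` have dimensions `b` and
`a`). Then the following are equivalent: (1) the system `V(-aP)` has weight at least two at `Q`,
that is `dim V(-aP-(b-1)Q) ≥ 2` or `dim V(-aP-(b+1)Q) ≥ 1`, and the system `V(-bQ)` has weight at
least two at `P`, that is `dim V(-(a-1)P-bQ) ≥ 2` or `dim V(-(a+1)P-bQ) ≥ 1`; (2) one of (a) `dim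
V(-(a+1)P-(b+1)Q) ≥ 1`, (b) `dim V(-(a-1)P-(b-1)Q) ≥ 3`, (c) `dim V(-aP-(b+1)Q) ≥ 1` and `dim
V(-(a-1)P-bQ) ≥ 2`, (d) `dim V(-(a+1)P-bQ) ≥ 1` and `dim V(-aP-(b-1)Q) ≥ 2`. (The published
statement is for a smooth curve over the complex numbers.) -/
theorem result
    (k K : Type*) [Field k] [IsAlgClosed k] [CharZero k] [Field K] [Algebra k K]
    (hK : FunFld.IsFunctionField k K) (D : FunFld.Divisor k K)
    (V : Submodule k K) (hVD : V ≤ FunFld.L D) (r : ℕ) (hr : Module.finrank k ↥V = r + 1)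
    (hns : ∀ R : FunFld.Place k K,
      Module.finrank k ↥(V ⊓ FunFld.L (D - Finsupp.single R (r : ℤ))) ≤ 1 ∧
        V ⊓ FunFld.L (D - Finsupp.single R ((r : ℤ) + 2)) = ⊥)
    (P Q : FunFld.Place k K) (hPQ : P ≠ Q) (a b : ℕ) (ha : 1 ≤ a) (hb : 1 ≤ b) (hab : a + b = r + 1) :
    ((2 ≤ Module.finrank k ↥(V ⊓ FunFld.L (D - Finsupp.single P (a : ℤ) - Finsupp.single Q ((b : ℤ) - 1 : ℤ))) ∨
        1 ≤ Module.finrank k ↥(V ⊓ FunFld.L (D - Finsupp.single P (a : ℤ) - Finsupp.single Q ((b : ℤ) + 1 : ℤ)))) ∧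
      (2 ≤ Module.finrank k ↥(V ⊓ FunFld.L (D - Finsupp.single P ((a : ℤ) - 1 : ℤ) - Finsupp.single Q (b : ℤ))) ∨
        1 ≤ Module.finrank k ↥(V ⊓ FunFld.L (D - Finsupp.single P ((a : ℤ) + 1 : ℤ) - Finsupp.single Q (b : ℤ))))) ↔
    (1 ≤ Module.finrank k ↥(V ⊓ FunFld.L (D - Finsupp.single P ((a : ℤ) + 1 : ℤ) - Finsupp.single Q ((b : ℤ) + 1 : ℤ))) ∨
      3 ≤ Module.finrank k ↥(V ⊓ FunFld.L (D - Finsupp.single P ((a : ℤ) - 1 : ℤ) - Finsupp.single Q ((b : ℤ) - 1 : ℤ))) ∨
      (1 ≤ Module.finrank k ↥(V ⊓ FunFld.L (D - Finsupp.single P (a : ℤ) - Finsupp.single Q ((b : ℤ) + 1 : ℤ))) ∧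
        2 ≤ Module.finrank k ↥(V ⊓ FunFld.L (D - Finsupp.single P ((a : ℤ) - 1 : ℤ) - Finsupp.single Q (b : ℤ)))) ∨
      (1 ≤ Module.finrank k ↥(V ⊓ FunFld.L (D - Finsupp.single P ((a : ℤ) + 1 : ℤ) - Finsupp.single Q (b : ℤ))) ∧
        2 ≤ Module.finrank k ↥(V ⊓ FunFld.L (D - Finsupp.single P (a : ℤ) - Finsupp.single Q ((b : ℤ) - 1 : ℤ))))) := by
  classical
  let W : ℤ → ℤ → Submodule k K := fun i j =>
    V ⊓ FunFld.L (D - Finsupp.single P i - Finsupp.single Q j)
  let F : ℤ → ℤ → ℕ := fun i j => Module.finrank k ↥(W i j)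
  have hfin : ∀ i j, Module.Finite k (W i j) := fun i j => by
    have := finite_L hK.1 (D - Finsupp.single P i - Finsupp.single Q j)
    exact Submodule.finiteDimensional_of_le (inf_le_right : W i j ≤ _)
  have hle : ∀ i i' j j', i' ≤ i → j' ≤ j → W i j ≤ W i' j' := fun i i' j j' hi hj =>
    inf_le_inf_left _ (L_mono fun R => by
      simp only [Finsupp.sub_apply, Finsupp.single_apply]
      split_ifs <;> omega)
  have hmono : ∀ i i' j j', i' ≤ i → j' ≤ j → F i j ≤ F i' j' := fun i i' j j' hi hj =>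
    Submodule.finrank_mono (hle i i' j j' hi hj)
  have hstep : ∀ (E : FunFld.Divisor k K) (R : FunFld.Place k K), Module.finrank k ↥(V ⊓ FunFld.L E) ≤
      Module.finrank k ↥(V ⊓ FunFld.L (E - Finsupp.single R 1)) + 1 := fun E R => by
    have : Module.Finite k ↥(V ⊓ FunFld.L E) := by
      have := finite_L hK.1 E
      exact Submodule.finiteDimensional_of_le (inf_le_right : V ⊓ FunFld.L E ≤ _)
    have hle' : FunFld.L (E - Finsupp.single R 1) ≤ FunFld.L E := L_mono fun R' => by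
      simp only [Finsupp.sub_apply, Finsupp.single_apply]
      split_ifs <;> omega
    rw [show V ⊓ FunFld.L (E - Finsupp.single R 1) = (V ⊓ FunFld.L E) ⊓ FunFld.L (E - Finsupp.single R 1) by
      rw [inf_assoc, inf_eq_right.2 hle']]
    by_cases h : ∃ w ∈ V ⊓ FunFld.L E, w ∉ FunFld.L (E - Finsupp.single R 1)
    · exact ((finrank_sub_single hK _ E inf_le_right R).1 h).ge
    · push Not at h
      rw [inf_eq_left.2 (show V ⊓ FunFld.L E ≤ _ from h)]
      omega
  have hP : ∀ i j, F i j ≤ F (i + 1) j + 1 := fun i j => by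
    have h := hstep (D - Finsupp.single P i - Finsupp.single Q j) P
    rwa [show D - Finsupp.single P i - Finsupp.single Q j - Finsupp.single P 1 =
      D - Finsupp.single P (i + 1) - Finsupp.single Q j by rw [Finsupp.single_add]; abel] at h
  have hQ : ∀ i j, F i j ≤ F i (j + 1) + 1 := fun i j => by
    have h := hstep (D - Finsupp.single P i - Finsupp.single Q j) Q
    rwa [show D - Finsupp.single P i - Finsupp.single Q j - Finsupp.single Q 1 =
      D - Finsupp.single P i - Finsupp.single Q (j + 1) by rw [Finsupp.single_add]; abel] at h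
  have hinf : ∀ i i' j j', i' ≤ i → j' ≤ j → W i j' ⊓ W i' j ≤ W i j := fun i i' j j' _ _ z hz => by
    refine ⟨hz.1.1, fun R => ?_⟩
    by_cases hR : R = P
    · subst hR
      simpa [Finsupp.single_apply, hPQ, Ne.symm hPQ] using hz.1.2 R
    · simpa [Finsupp.single_apply, Ne.symm hR] using hz.2.2 R
  show ((2 ≤ F a (b - 1) ∨ 1 ≤ F a (b + 1)) ∧ (2 ≤ F (a - 1) b ∨ 1 ≤ F (a + 1) b)) ↔
    (1 ≤ F (a + 1) (b + 1) ∨ 3 ≤ F (a - 1) (b - 1) ∨ (1 ≤ F a (b + 1) ∧ 2 ≤ F (a - 1) b) ∨
      (1 ≤ F (a + 1) b ∧ 2 ≤ F a (b - 1)))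
  generalize hA : (a : ℤ) = A
  generalize hB : (b : ℤ) = B
  constructor
  · rintro ⟨h1 | h1, h2 | h2⟩
    · by_cases h3 : 3 ≤ F (A - 1) (B - 1)
      · exact .inr (.inl h3)
      · refine .inr (.inr (.inr ⟨?_, h1⟩))
        have e1 : W A (B - 1) = W (A - 1) (B - 1) :=
          Submodule.eq_of_le_of_finrank_le (hle _ _ _ _ (by omega) le_rfl) (by
            show F _ _ ≤ F _ _
            omega)
        have h4 : W (A - 1) B ≤ W A B := fun z hz =>
          hinf A (A - 1) B (B - 1) (by omega) (by omega) ⟨e1 ▸ hle _ _ _ _ le_rfl (by omega) hz, hz⟩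
        have h5 : F (A - 1) B ≤ F A B := Submodule.finrank_mono h4
        have := hP A B
        omega
    · exact .inr (.inr (.inr ⟨h2, h1⟩))
    · exact .inr (.inr (.inl ⟨h1, h2⟩))
    · by_cases h3 : 2 ≤ F A B
      · exact .inr (.inr (.inr ⟨h2, h3.trans (hmono _ _ _ _ le_rfl (by omega))⟩))
      · refine .inl ?_
        have m1 := hmono A A (B + 1) B le_rfl (by omega)
        have m2 := hmono (A + 1) A B B (by omega) le_rfl
        have e1 : W A (B + 1) = W A B :=
          Submodule.eq_of_le_of_finrank_le (hle _ _ _ _ le_rfl (by omega)) (by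
            show F _ _ ≤ F _ _
            omega)
        have h4 : W (A + 1) B ≤ W (A + 1) (B + 1) := fun z hz =>
          hinf (A + 1) A (B + 1) B (by omega) (by omega) ⟨hz, e1 ▸ hle _ _ _ _ (by omega) le_rfl hz⟩
        exact h2.trans (Submodule.finrank_mono h4)
  · rintro (h | h | h | h)
    · exact ⟨.inr (h.trans (hmono _ _ _ _ (by omega) le_rfl)), .inr (h.trans (hmono _ _ _ _ le_rfl (by omega)))⟩
    · have h1 := hP (A - 1) (B - 1)
      have h2 := hQ (A - 1) (B - 1)
      rw [sub_add_cancel] at h1 h2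
      exact ⟨.inl (by omega), .inl (by omega)⟩
    · exact ⟨.inr h.1, .inl h.2⟩
    · exact ⟨.inl h.2, .inr h.1⟩

end Groth.Agent.S16265
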