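import Groth.Statements.S16266
import Groth.Agent.L26.FF.Criterion

set_option autoImplicit false
open FunFld

namespace Groth.Agent.S16266

open Groth.Agent.FF

/-- Let `K/k` be a function field of one variable over an algebraically closed field `k` of
characteristic zero, `D` a divisor, `V ⊆ L(D)` a linear system of dimension `r + 1` with `r ≥ 1`,
and `P` a place with `V' = V(-P) = V ∩ L(D - P) ≠ V`, an `r`-dimensional system in `L(D - P)`.
Assume that neither `V` nor `V'` has a special ramification point (a place of weight at least two):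
for every place `R`, `dim V ∩ L(D - rR) ≤ 1`, `V ∩ L(D - (r+2)R) = 0`, `dim V' ∩ L(D - P - (r-1)R) ≤
1` and `V' ∩ L(D - P - (r+1)R) = 0`. Then no place `Q ≠ P` is a ramification point of both `V` and
`V'`: for no such `Q` are both `V ∩ L(D - (r+1)Q)` and `V' ∩ L(D - P - rQ)` nonzero. (The published
statement is for a smooth curve over the complex numbers.) -/
theorem result
    (k K : Type*) [Field k] [IsAlgClosed k] [CharZero k] [Field K] [Algebra k K]
    (hK : FunFld.IsFunctionField k K) (D : FunFld.Divisor k K)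
    (V : Submodule k K) (hVD : V ≤ FunFld.L D) (r : ℕ) (hr : Module.finrank k ↥V = r + 1) (hr1 : 1 ≤ r)
    (P : FunFld.Place k K) (hP : V ⊓ FunFld.L (D - Finsupp.single P 1) ≠ V)
    (hns : ∀ R : FunFld.Place k K,
      Module.finrank k ↥(V ⊓ FunFld.L (D - Finsupp.single R (r : ℤ))) ≤ 1 ∧
        V ⊓ FunFld.L (D - Finsupp.single R ((r : ℤ) + 2)) = ⊥)
    (hns' : ∀ R : FunFld.Place k K,
      Module.finrank k ↥(V ⊓ FunFld.L (D - Finsupp.single P 1 - Finsupp.single R ((r : ℤ) - 1))) ≤ 1 ∧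
        V ⊓ FunFld.L (D - Finsupp.single P 1 - Finsupp.single R ((r : ℤ) + 1)) = ⊥)
    (Q : FunFld.Place k K) (hQP : Q ≠ P) :
    ¬ (V ⊓ FunFld.L (D - Finsupp.single Q ((r : ℤ) + 1)) ≠ ⊥ ∧
       V ⊓ FunFld.L (D - Finsupp.single P 1 - Finsupp.single Q (r : ℤ)) ≠ ⊥) := by
  classical
  rintro ⟨hf, hh⟩
  obtain ⟨f, ⟨hfV, hfL⟩, hf0⟩ := Submodule.exists_mem_ne_zero_of_ne_bot hf
  obtain ⟨h, ⟨hhV, hhL⟩, hh0⟩ := Submodule.exists_mem_ne_zero_of_ne_bot hh
  have hP1 : ∀ n : ℤ, D - Finsupp.single P 1 - Finsupp.single Q n ≤ D - Finsupp.single Q n := fun n R => by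
    simp only [Finsupp.sub_apply, Finsupp.single_apply]
    split_ifs <;> omega
  have hmono : (D - Finsupp.single Q ((r : ℤ) + 1)) ≤ D - Finsupp.single Q (r : ℤ) := fun R => by
    simp only [Finsupp.sub_apply, Finsupp.single_apply]
    split_ifs <;> omega
  let W := V ⊓ FunFld.L (D - Finsupp.single Q (r : ℤ))
  have hf' : f ∈ W := ⟨hfV, L_mono hmono hfL⟩
  have hh' : h ∈ W := ⟨hhV, L_mono (hP1 _) hhL⟩
  have hfin : Module.Finite k W := by
    have := finite_L hK.1 (D - Finsupp.single Q (r : ℤ))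
    exact Submodule.finiteDimensional_of_le (inf_le_right : W ≤ _)
  have h1 : Module.finrank k W = 1 := le_antisymm (hns Q).1
    (Nat.one_le_iff_ne_zero.2 fun h0 => hf0 (by
      have := Submodule.finrank_eq_zero.1 h0
      rw [this] at hf'
      exact (Submodule.mem_bot k).1 hf'))
  obtain ⟨c, hc⟩ := exists_smul_eq_of_finrank_eq_one h1 (x := (⟨h, hh'⟩ : W))
    (fun h0 => hh0 (congrArg Subtype.val h0)) ⟨f, hf'⟩
  have hfP : f ∈ FunFld.L (D - Finsupp.single P 1 - Finsupp.single Q (r : ℤ)) := by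
    rw [← show c • h = f from congrArg Subtype.val hc]
    exact Submodule.smul_mem _ _ hhL
  refine hf0 ((Submodule.mem_bot k).1 ((hns' Q).2 ▸ ⟨hfV, fun R => ?_⟩))
  by_cases hR : R = Q
  · subst hR
    simpa [Finsupp.single_apply, Ne.symm hQP] using hfL R
  · simpa [Finsupp.single_apply, Ne.symm hR] using hfP R

end Groth.Agent.S16266
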