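import Groth.Statements.S16268
import Groth.Agent.L28.EtTrace.GalSheaf

set_option autoImplicit false
universe u w
open CategoryTheory CategoryTheory.Limits AlgebraicGeometry Opposite
open EtCore

namespace Groth.Agent.S16268

/-- Let X be a scheme, Y an etale X-scheme with Y -> X surjective, and G a finite group acting on Y by
X-automorphisms such that the morphisms (id, g) : Y -> Y x_X Y exhibit Y x_X Y as the coproduct of
copies of Y indexed by G (Y -> X is a Galois covering with group G). Let P be a presheaf of sets on
the small etale site of X which takes this coproduct to a product: s |-> (g |-> (id, g)^* s) is a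
bijection from P(Y x_X Y) onto the G-indexed families in P(Y). Then P satisfies the sheaf condition
for the covering consisting of the single morphism Y -> X if and only if the restriction P(X) ->
P(Y) is injective and its image is the set of G-invariant elements of P(Y). -/
theorem result (X : Scheme.{u})
    (Y : X.Etale) (hY : Function.Surjective Y.hom.base)
    {G : Type u} [Group G] [Finite G] (σ : G →* Aut Y)
    (hgal : Nonempty (IsColimit (Cofan.mk (Y ⨯ Y) (fun g : G => prod.lift (𝟙 Y) (σ g).hom))))
    (P : X.Etaleᵒᵖ ⥤ Type w)
    (hP : Function.Bijective (fun s : P.obj (op (Y ⨯ Y)) => fun g : G => P.map (prod.lift (𝟙 Y) (σ g).hom).op s)) :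
    Presieve.IsSheafFor P (Presieve.singleton ((EtCore.topIsTerminal X).from Y)) ↔
      (Function.Injective (P.map ((EtCore.topIsTerminal X).from Y).op) ∧
        Set.range (P.map ((EtCore.topIsTerminal X).from Y).op) = {s | ∀ g : G, P.map (σ g).hom.op s = s}) := by
  exact Groth.L28.EtTrace.isSheafFor_galois_iff Y σ P hP

end Groth.Agent.S16268
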