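import Groth.Statements.S16269
import Groth.Agent.L28.EtTrace.GalSheaf

set_option autoImplicit false
universe u w
open CategoryTheory CategoryTheory.Limits AlgebraicGeometry Opposite
open EtCore

namespace Groth.Agent.S16269

/-- Let X be a scheme, Y an etale X-scheme with Y -> X surjective, and G a finite group acting on Y by
X-automorphisms such that the morphisms (id, g) : Y -> Y x_X Y exhibit Y x_X Y as the coproduct of
copies of Y indexed by G (a Galois covering with group G). For an abelian sheaf F on the small etale
site of X, the restriction map F(X) -> F(Y) is injective and its image is the set of sections of F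
over Y fixed by every element of G. -/
theorem result (X : Scheme.{u})
    (Y : X.Etale) (hY : Function.Surjective Y.hom.base)
    {G : Type u} [Group G] [Finite G] (σ : G →* Aut Y)
    (hgal : Nonempty (IsColimit (Cofan.mk (Y ⨯ Y) (fun g : G => prod.lift (𝟙 Y) (σ g).hom))))
    (F : EtCoh.Ab X) :
    Function.Injective (F.obj.map ((EtCore.topIsTerminal X).from Y).op) ∧
      Set.range (F.obj.map ((EtCore.topIsTerminal X).from Y).op) =
        {s : EtCoh.sect F Y | ∀ g : G, F.obj.map (σ g).hom.op s = s} := by
  exact Groth.L28.EtTrace.injective_and_range_eq Y σ hY hgal F

end Groth.Agent.S16269
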