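import Groth.Statements.S16275
import Groth.Agent.L13.HdgDiv.Bounds
import Groth.Agent.L03.Euler.Push
import Groth.Agent.L22.EnrSev.Basic
-- import your own Groth.Agent.* helpers here

set_option autoImplicit false
set_option backward.isDefEq.respectTransparency false
set_option linter.style.haveILetI false
set_option backward.isDefEq.respectTransparency.types false
universe u
open CategoryTheory CategoryTheory.Limits AlgebraicGeometry
open HodgeNum

namespace Groth.Agent.S16275

/-- Let k be an algebraically closed field of characteristic p > 0 and X a smooth projective k-variety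
of dimension n + 1 (an integral k-scheme, smooth of relative dimension n + 1 over k, with a closed
immersion into some P^N_k over k). Let L be an invertible O_X-module and d₀ ≥ 1 an integer such that
H^q(X, Ω^p_{X/k} ⊗ L^{-d}) = 0 for all d ≥ d₀ and all p, q with p + q ≤ n; here Ω^p_{X/k} ⊗ L^{-d}
is any module E ⊗ M with E a p-th exterior power of the sheaf of differentials and M a tensor
inverse of L^{⊗d}. Let d ≥ d₀ and let Y ⊆ X be a closed subscheme, smooth of relative dimension n
over k, whose ideal sheaf is isomorphic to such an M (a smooth divisor in the linear system of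
L^{⊗d}). Then h^{p,q}(Y) = h^{p,q}(X) for all p, q with p + q ≤ n - 1: for F a p-th exterior power
of Ω_{Y/k} and E a p-th exterior power of Ω_{X/k}, the k-vector spaces H^q(Y, F) and H^q(X, E) have
the same dimension. (The source takes L very ample; that hypothesis is not used by its argument and
is dropped here.) -/
theorem result (k : Type u) [Field k] [IsAlgClosed k]
    (pc : ℕ) [Fact pc.Prime] [CharP k pc] (n N : ℕ)
    (X : Scheme.{u}) [X.Over (Spec (CommRingCat.of k))] [IsIntegral X]
    [SmoothOfRelativeDimension (n + 1) (X ↘ Spec (CommRingCat.of k))]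
    (ι : X ⟶ CohB1.ProjSpace N k) [IsClosedImmersion ι] (hι : ι ≫ CohB1.ProjSpace.toSpec N k = X ↘ Spec (CommRingCat.of k))
    (L : X.Modules) (hL : PicF.IsInvertible L) (d₀ : ℕ) (hd₀ : 1 ≤ d₀)
    (hvan : ∀ d : ℕ, d₀ ≤ d → ∀ M : X.Modules, ClSub.IsInverseOf M (CohB1.tensorPow L d) →
      ∀ p q : ℕ, p + q ≤ n → ∀ E : X.Modules, ExtPow.IsExtPow p (Omega.sheaf (X ↘ Spec (CommRingCat.of k))) E →
        Subsingleton (Coh.HH X (CohB1.tensorMod E M) q))
    (d : ℕ) (hd : d₀ ≤ d) (M : X.Modules) (hM : ClSub.IsInverseOf M (CohB1.tensorPow L d))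
    (I : X.IdealSheafData) (hI : Nonempty (ClSub.idealMod I ≅ M))
    [I.subscheme.Over (Spec (CommRingCat.of k))] (hover : I.subscheme ↘ Spec (CommRingCat.of k) = I.subschemeι ≫ X ↘ Spec (CommRingCat.of k))
    [SmoothOfRelativeDimension n (I.subscheme ↘ Spec (CommRingCat.of k))]
    (p q : ℕ) (hpq : p + q + 1 ≤ n)
    (F : I.subscheme.Modules) (hF : ExtPow.IsExtPow p (Omega.sheaf (I.subscheme ↘ Spec (CommRingCat.of k))) F)
    (E : X.Modules) (hE : ExtPow.IsExtPow p (Omega.sheaf (X ↘ Spec (CommRingCat.of k))) E) :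
    Module.finrank k (Coh.HH I.subscheme F q) = Module.finrank k (Coh.HH X E q) := by
  haveI : IsProper (X ↘ Spec (CommRingCat.of k)) := Groth.L22.Adjunction.isProper_of_closed k X ι hι
  haveI : Smooth (X ↘ Spec (CommRingCat.of k)) := SmoothOfRelativeDimension.smooth (n + 1) _
  haveI : Smooth (I.subschemeι ≫ X ↘ Spec (CommRingCat.of k)) := by
    rw [← hover]; exact SmoothOfRelativeDimension.smooth n _
  haveI : IsLocallyNoetherian X := LocallyOfFiniteType.isLocallyNoetherian (X ↘ Spec (CommRingCat.of k))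
  haveI : X.IsSeparated := ⟨by
    rw [show terminal.from X = (X ↘ Spec (CommRingCat.of k)) ≫ terminal.from _ from terminal.hom_ext _ _]
    infer_instance⟩
  obtain ⟨eI⟩ := hI
  obtain ⟨eM⟩ := hM
  have hJ : PicF.IsInvertible (ClSub.idealMod I) := Groth.L22.EnrSev.isInvertible_of_inverse
    (Groth.L18.Ample.isInvertible_tensorPow hL d)
    (Groth.L00.Tensor.tensorComm _ _ ≪≫ Groth.L00.Tensor.tensorIso eI (Iso.refl _) ≪≫ eM)
  let D := Groth.L13.HdgDiv.relData (X ↘ Spec (CommRingCat.of k)) I hJ
  have hE' : ∀ p q j, p + q < n + 1 → 1 ≤ j →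
      Subsingleton (Coh.HH X (CohB1.tensorMod (D.E p) (CohB1.tensorPow (ClSub.idealMod I) j)) q) := by
    intro p q j hpq hj
    refine hvan (d * j) (hd.trans (Nat.le_mul_of_pos_right d hj)) _ ⟨?_⟩ p q (by omega) _ (D.isE p)
    exact Groth.L00.Tensor.tensorIso (Iso.refl _) (Groth.L00.Tensor.tensorPowMul L d j).symm ≪≫
      Groth.L16.NegPow.powInvIso (Groth.L00.Tensor.tensorIso eI (Iso.refl _) ≪≫ eM) j
  rw [hover] at hF
  haveI : Coh.IsQCoh F := by
    haveI := Groth.L15.PnHodge.isQCoh_of_locFree D.free'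
    exact Groth.L15.PnHodge.isQCoh_of_locFree (Groth.L12.ExtSh.isFinLocFree_of_isExtPow D.free' hF)
  obtain ⟨e⟩ := Groth.L03.Euler.exists_HH_push_linearEquiv (k := k) I.subschemeι F inferInstance hover.symm q
  rw [e.finrank_eq]
  exact ((D.neg_finrank k hE' hE hF (q := q)).1 (by omega)).symm

end Groth.Agent.S16275
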