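import Groth.Statements.S16277
import Groth.Agent.L13.HdgDiv.Bounds
import Groth.Agent.S16275
-- import your own Groth.Agent.* helpers here

set_option autoImplicit false
set_option backward.isDefEq.respectTransparency false
set_option linter.style.haveILetI false
set_option backward.isDefEq.respectTransparency.types false
universe u
open CategoryTheory CategoryTheory.Limits AlgebraicGeometry
open HodgeNum

namespace Groth.Agent.S16277

/-- Let k be an algebraically closed field of characteristic p > 0, X a smooth projective k-variety of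
dimension n + 1 (an integral k-scheme, smooth of relative dimension n + 1 over k, with a closed
immersion into some P^N_k over k) and L an ample invertible O_X-module. Then for d large enough
every smooth divisor Y in the linear system of L^{⊗d} satisfies h^{p,q}(Y) = h^{p,q}(X) for p + q ≤
n - 1: there is d₀ such that for all d ≥ d₀, every M with M ⊗ L^{⊗d} ≅ O_X, every closed subscheme Y
of X which is smooth of relative dimension n over k and whose ideal sheaf is isomorphic to M, all p,
q with p + q ≤ n - 1, every p-th exterior power F of Ω_{Y/k} and every p-th exterior power E of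
Ω_{X/k}, the k-vector spaces H^q(Y, F) and H^q(X, E) have the same dimension. (The published
statement assumes L very ample; its argument only uses that L is ample, which is what is assumed
here.) -/
theorem result (k : Type u) [Field k] [IsAlgClosed k]
    (pc : ℕ) [Fact pc.Prime] [CharP k pc] (n N : ℕ)
    (X : Scheme.{u}) [X.Over (Spec (CommRingCat.of k))] [IsIntegral X]
    [SmoothOfRelativeDimension (n + 1) (X ↘ Spec (CommRingCat.of k))]
    (ι : X ⟶ CohB1.ProjSpace N k) [IsClosedImmersion ι] (hι : ι ≫ CohB1.ProjSpace.toSpec N k = X ↘ Spec (CommRingCat.of k))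
    (L : X.Modules) (hL : CohB1.IsAmple L) :
    ∃ d₀ : ℕ, ∀ d : ℕ, d₀ ≤ d → ∀ M : X.Modules, ClSub.IsInverseOf M (CohB1.tensorPow L d) →
      ∀ (I : X.IdealSheafData) [I.subscheme.Over (Spec (CommRingCat.of k))],
        I.subscheme ↘ Spec (CommRingCat.of k) = I.subschemeι ≫ X ↘ Spec (CommRingCat.of k) → Nonempty (ClSub.idealMod I ≅ M) →
        SmoothOfRelativeDimension n (I.subscheme ↘ Spec (CommRingCat.of k)) →
        ∀ p q : ℕ, p + q + 1 ≤ n →
          ∀ F : I.subscheme.Modules, ExtPow.IsExtPow p (Omega.sheaf (I.subscheme ↘ Spec (CommRingCat.of k))) F →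
          ∀ E : X.Modules, ExtPow.IsExtPow p (Omega.sheaf (X ↘ Spec (CommRingCat.of k))) E →
            Module.finrank k (Coh.HH I.subscheme F q) = Module.finrank k (Coh.HH X E q) := by
  haveI : IsProper (X ↘ Spec (CommRingCat.of k)) := Groth.L22.Adjunction.isProper_of_closed k X ι hι
  haveI : Smooth (X ↘ Spec (CommRingCat.of k)) := SmoothOfRelativeDimension.smooth (n + 1) _
  obtain ⟨m₀, h⟩ := Groth.L13.HdgDiv.exists_neg_bound k
    (Groth.L22.Adjunction.topologicalKrullDim_eq_relDim k (n + 1) X) hL
  refine ⟨max 1 m₀, fun d hd M hM I _ hover hI hsm p q hpq F hF E hE => ?_⟩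
  haveI := hsm
  refine Groth.Agent.S16275.result k pc n N X ι hι L hL.1 (max 1 m₀) (le_max_left _ _) ?_ d hd M hM I hI hover
    p q hpq F hF E hE
  intro d' hd' M' hM' p' q' hpq' E' hE'
  obtain ⟨e⟩ := hM'
  exact Groth.L22.EnrSev.subsingleton_of_iso
    (Groth.L00.Tensor.tensorIso (Iso.refl E') (Groth.L00.Tensor.tensorPowOne M')) q'
    (h d' ((le_max_right _ _).trans hd') M' ⟨e⟩ p' q' 1 E' hE' (by omega) le_rfl)

end Groth.Agent.S16277
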