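import Groth.Statements.S16281
import Groth.Agent.L16.RelExt.Restrict

set_option autoImplicit false
universe u
open CategoryTheory CategoryTheory.Limits AlgebraicGeometry
open Coherent

namespace Groth.Agent.S16281

/-- Let f : X → Y be a morphism of schemes, F and G O_X-modules, W ⊆ Y an open subscheme and p ≥ 0.
Write Ext^p_f(F, -) for the p-th right derived functor of the left exact functor G ↦ f_*
Hom_{O_X}(F, G) from O_X-modules to O_Y-modules (the relative Ext sheaves). Then the restriction of
Ext^p_f(F, G) to W is isomorphic to Ext^p_{f'}(F|_{f⁻¹W}, G|_{f⁻¹W}), where f' : f⁻¹W → W is the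
restricted morphism. (Stated for schemes, the published statement being for ringed spaces; existence
of an isomorphism of O_W-modules only. The internal Hom functors, injective resolutions and
additivity of the composite functors on X and on f⁻¹W are the stated instance hypotheses, all true.) -/
theorem result (X Y : Scheme.{u}) (f : X ⟶ Y) (W : Y.Opens)
    (F G : X.Modules) (p : ℕ)
    [ModSite.HasSheafHom (O := X.sheaf) F] [HasInjectiveResolutions (ModSite.Mod X.sheaf)]
    [(ModSite.sheafHom (O := X.sheaf) F ⋙ Scheme.Modules.pushforward f).Additive]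
    [ModSite.HasSheafHom (O := (↑(f ⁻¹ᵁ W) : Scheme.{u}).sheaf) (F.restrict (f ⁻¹ᵁ W).ι)]
    [HasInjectiveResolutions (ModSite.Mod (↑(f ⁻¹ᵁ W) : Scheme.{u}).sheaf)]
    [(ModSite.sheafHom (O := (↑(f ⁻¹ᵁ W) : Scheme.{u}).sheaf) (F.restrict (f ⁻¹ᵁ W).ι) ⋙ Scheme.Modules.pushforward (f ∣_ W)).Additive] :
    Nonempty ((Scheme.Modules.restrictFunctor W.ι).obj (((ModSite.sheafHom (O := X.sheaf) F ⋙ Scheme.Modules.pushforward f).rightDerived p).obj G) ≅
      ((ModSite.sheafHom (O := (↑(f ⁻¹ᵁ W) : Scheme.{u}).sheaf) (F.restrict (f ⁻¹ᵁ W).ι) ⋙ Scheme.Modules.pushforward (f ∣_ W)).rightDerived p).obj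
        (G.restrict (f ⁻¹ᵁ W).ι)) := by
  exact Groth.L16.RelExt.nonempty_restrict f W F G p
end Groth.Agent.S16281
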