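import Groth.Statements.S16282
import Groth.Agent.L16.RelExt.LocFree

set_option autoImplicit false
universe u
open CategoryTheory CategoryTheory.Limits AlgebraicGeometry
open Coherent

namespace Groth.Agent.S16282

/-- Let f : X → Y be a morphism of schemes, F and G O_X-modules, L a finite locally free O_X-module with
dual L^∨ = Hom_{O_X}(L, O_X), N a finite locally free O_Y-module and p ≥ 0. Write Ext^p_f(M, -) for
the p-th right derived functor of the left exact functor G ↦ f_* Hom_{O_X}(M, G) from O_X-modules to
O_Y-modules. Then Ext^p_f(F ⊗ L, G ⊗ f^*N) is isomorphic to Ext^p_f(F, G ⊗ L^∨) ⊗ N. (Stated for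
schemes, the published statement being for ringed spaces and a chain of two functorial isomorphisms;
existence of an isomorphism of O_Y-modules only. The internal Hom functors, injective resolutions
and additivity of the composite functors are the stated instance hypotheses, all true.) -/
theorem result (X Y : Scheme.{u}) (f : X ⟶ Y) (F G L : X.Modules) (N : Y.Modules)
    (hL : FlatMod.IsFinLocFree L) (hN : FlatMod.IsFinLocFree N) (p : ℕ)
    [ModSite.HasSheafHom (O := X.sheaf) F] [ModSite.HasSheafHom (O := X.sheaf) L]
    [ModSite.HasSheafHom (O := X.sheaf) (CohB1.tensorMod F L)] [HasInjectiveResolutions (ModSite.Mod X.sheaf)]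
    [(ModSite.sheafHom (O := X.sheaf) F ⋙ Scheme.Modules.pushforward f).Additive]
    [(ModSite.sheafHom (O := X.sheaf) (CohB1.tensorMod F L) ⋙ Scheme.Modules.pushforward f).Additive] :
    Nonempty (((ModSite.sheafHom (O := X.sheaf) (CohB1.tensorMod F L) ⋙ Scheme.Modules.pushforward f).rightDerived p).obj
        (CohB1.tensorMod G ((Scheme.Modules.pullback f).obj N)) ≅
      CohB1.tensorMod (((ModSite.sheafHom (O := X.sheaf) F ⋙ Scheme.Modules.pushforward f).rightDerived p).obj
        (CohB1.tensorMod G ((ModSite.sheafHom (O := X.sheaf) L).obj (Coh.structureModule X)))) N) := by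
  exact Groth.L16.RelExt.nonempty_tensor_locFree f F G L N hL hN p
end Groth.Agent.S16282
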