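import Groth.Statements.S16284
import Groth.Agent.L16.RelExt.TwistIso

set_option autoImplicit false
universe u
open CategoryTheory CategoryTheory.Limits AlgebraicGeometry
open Coherent

namespace Groth.Agent.S16284

/-- Let Z be a Noetherian scheme, g : Y → Z a morphism factoring through a closed immersion e' : Y →
P^m_Z followed by the projection, O_Y(l) = e'^*O(l), f : X → Y a morphism factoring through a closed
immersion X → P^n_Y followed by the projection, h = g ∘ f, and F, G coherent O_X-modules. For a
morphism u out of X write Ext^p_u(F, -) for the p-th right derived functor of the left exact functor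
G ↦ u_* Hom_{O_X}(F, G). Then for every p ≥ 0 there is l₀ such that for all l ≥ l₀ the O_Z-module
g_* Ext^p_f(F, G ⊗ f^*O_Y(l)) is isomorphic to Ext^p_h(F, G ⊗ f^*O_Y(l)). (Existence of an
isomorphism of O_Z-modules only. The internal Hom functor of F, injective resolutions and additivity
of the composite functors are the stated instance hypotheses, all true.) -/
theorem result (Z : Scheme.{u}) [IsNoetherian Z] (m : ℕ)
    (Y : Scheme.{u}) (g : Y ⟶ Z) (e' : Y ⟶ CohB1.ProjSpaceOver m Z) [IsClosedImmersion e']
    (he' : e' ≫ CohB1.ProjSpaceOver.toBase m Z = g)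
    (n : ℕ) (X : Scheme.{u}) (f : X ⟶ Y) (e : X ⟶ CohB1.ProjSpaceOver n Y) [IsClosedImmersion e]
    (he : e ≫ CohB1.ProjSpaceOver.toBase n Y = f)
    (F G : X.Modules) (hF : Coh.IsCoh F) (hG : Coh.IsCoh G) (p : ℕ)
    [ModSite.HasSheafHom (O := X.sheaf) F] [HasInjectiveResolutions (ModSite.Mod X.sheaf)]
    [(ModSite.sheafHom (O := X.sheaf) F ⋙ Scheme.Modules.pushforward f).Additive]
    [(ModSite.sheafHom (O := X.sheaf) F ⋙ Scheme.Modules.pushforward (f ≫ g)).Additive] :
    ∃ l₀ : ℕ, ∀ l : ℕ, l₀ ≤ l →
      Nonempty ((Scheme.Modules.pushforward g).obj (((ModSite.sheafHom (O := X.sheaf) F ⋙ Scheme.Modules.pushforward f).rightDerived p).obj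
          (CohB1.tensorMod G ((Scheme.Modules.pullback f).obj
            ((Scheme.Modules.pullback e').obj (Twist.twistOver m Z (l : ℤ)))))) ≅
        ((ModSite.sheafHom (O := X.sheaf) F ⋙ Scheme.Modules.pushforward (f ≫ g)).rightDerived p).obj
          (CohB1.tensorMod G ((Scheme.Modules.pullback f).obj
            ((Scheme.Modules.pullback e').obj (Twist.twistOver m Z (l : ℤ)))))) := by
  haveI : IsProper g := by
    rw [← he']
    haveI := Groth.L16.ProjSpace.isProper_toBase (n := m) (S := Z)
    infer_instance
  haveI : IsProper f := by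
    rw [← he]
    haveI := Groth.L16.ProjSpace.isProper_toBase (n := n) (S := Y)
    infer_instance
  exact Groth.L16.RelExt.exists_twist_iso Z m Y g e' he' X f F G hF hG p
end Groth.Agent.S16284
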