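import Groth.Statements.S16287
import Mathlib.CategoryTheory.Abelian.Refinements
import Mathlib.Topology.Sheaves.MayerVietoris

set_option autoImplicit false
universe u
open CategoryTheory CategoryTheory.Limits TopologicalSpace
open LocCohZ

set_option backward.isDefEq.respectTransparency false
set_option backward.isDefEq.respectTransparency.types false

namespace Groth.Agent.S16287

open Abelian

universe v w

section

variable {C : Type w} [Category.{v} C] [Abelian C]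
  {Z₁ Z₂ Z₃ Z₄ T : C} (m₁ : Z₁ ⟶ T) (m₂ : Z₂ ⟶ T) (m₃ : Z₃ ⟶ T) (m₄ : Z₄ ⟶ T)
  (l₂ : Z₁ ⟶ Z₂) (l₃ : Z₁ ⟶ Z₃) (r₂ : Z₂ ⟶ Z₄) (r₃ : Z₃ ⟶ Z₄)
  (a₂ : cokernel m₁ ⟶ cokernel m₂) (a₃ : cokernel m₁ ⟶ cokernel m₃)
  (b₂ : cokernel m₂ ⟶ cokernel m₄) (b₃ : cokernel m₃ ⟶ cokernel m₄)

theorem cokernel_shortExact [Mono m₄]
    (hl₂ : l₂ ≫ m₂ = m₁) (hr₂ : r₂ ≫ m₄ = m₂) (hr₃ : r₃ ≫ m₄ = m₃)
    (w : biprod.lift l₂ (-l₃) ≫ biprod.desc r₂ r₃ = 0)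
    (hZ : (ShortComplex.mk (biprod.lift l₂ (-l₃)) (biprod.desc r₂ r₃) w).ShortExact)
    (ha₂ : cokernel.π m₁ ≫ a₂ = cokernel.π m₂) (ha₃ : cokernel.π m₁ ≫ a₃ = cokernel.π m₃)
    (hb₂ : cokernel.π m₂ ≫ b₂ = cokernel.π m₄) (hb₃ : cokernel.π m₃ ≫ b₃ = cokernel.π m₄) :
    ∃ w', (ShortComplex.mk (biprod.lift a₂ (-a₃)) (biprod.desc b₂ b₃) w').ShortExact := by
  have w' : biprod.lift a₂ (-a₃) ≫ biprod.desc b₂ b₃ = 0 := by
    rw [← cancel_epi (cokernel.π m₁), biprod.lift_desc, Preadditive.comp_add, Preadditive.neg_comp,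
      Preadditive.comp_neg, reassoc_of% ha₂, reassoc_of% ha₃, hb₂, hb₃, add_neg_cancel, comp_zero]
  have hex : (ShortComplex.mk _ _ w').Exact := by
    rw [ShortComplex.exact_iff_exact_up_to_refinements]
    intro A (x : A ⟶ cokernel m₂ ⊞ cokernel m₃) (hx : x ≫ biprod.desc b₂ b₃ = 0)
    obtain ⟨A₁, e₁, _, t₂, ht₂⟩ := surjective_up_to_refinements_of_epi (cokernel.π m₂) (x ≫ biprod.fst)
    obtain ⟨A₂, e₂, _, t₃, ht₃⟩ := surjective_up_to_refinements_of_epi (cokernel.π m₃) (e₁ ≫ x ≫ biprod.snd)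
    have q₂ : t₂ ≫ cokernel.π m₄ = e₁ ≫ x ≫ biprod.fst ≫ b₂ := by rw [← hb₂, ← reassoc_of% ht₂]
    have q₃ : t₃ ≫ cokernel.π m₄ = e₂ ≫ e₁ ≫ x ≫ biprod.snd ≫ b₃ := by rw [← hb₃, ← reassoc_of% ht₃]
    have h0 : (e₂ ≫ t₂ + t₃) ≫ cokernel.π m₄ = 0 := by
      rw [biprod.desc_eq] at hx
      rw [Preadditive.add_comp, Category.assoc, q₂, q₃, ← Preadditive.comp_add,
        ← Preadditive.comp_add, ← Preadditive.comp_add, hx, comp_zero, comp_zero]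
    obtain ⟨A₃, e₃, _, z₄, hz₄⟩ := (CokernelCofork.IsColimit.comp_π_eq_zero_iff_up_to_refinements
      (cokernelIsCokernel m₄) (e₂ ≫ t₂ + t₃)).1 h0
    have : Epi (biprod.desc r₂ r₃) := hZ.epi_g
    obtain ⟨A₄, e₄, _, z, hz⟩ := surjective_up_to_refinements_of_epi (biprod.desc r₂ r₃) z₄
    let s₂ := e₄ ≫ e₃ ≫ e₂ ≫ t₂ - z ≫ biprod.fst ≫ m₂
    let s₃ := e₄ ≫ e₃ ≫ t₃ - z ≫ biprod.snd ≫ m₃
    have hs : s₂ + s₃ = 0 := by
      have h1 : e₄ ≫ e₃ ≫ (e₂ ≫ t₂ + t₃) = z ≫ biprod.desc r₂ r₃ ≫ m₄ := by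
        rw [hz₄, reassoc_of% hz]
      rw [biprod.desc_eq, Preadditive.add_comp, Category.assoc, Category.assoc, hr₂, hr₃] at h1
      simp only [s₂, s₃]
      simp only [Preadditive.comp_add] at h1
      rw [sub_add_sub_comm, h1, sub_self]
    refine ⟨A₄, e₄ ≫ e₃ ≫ e₂ ≫ e₁, inferInstance, s₂ ≫ cokernel.π m₁, ?_⟩
    apply biprod.hom_ext
    · simp [s₂, ha₂, ht₂]
    · have e : s₂ = -s₃ := eq_neg_of_add_eq_zero_left hs
      simp only [Category.assoc, biprod.lift_snd, Preadditive.comp_neg, reassoc_of% ha₃, ha₃]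
      rw [e]
      simp [s₃, ht₃]
  have : Epi b₂ := epi_of_epi_fac hb₂
  have : Epi (biprod.desc b₂ b₃) := epi_of_epi_fac (biprod.inl_desc b₂ b₃)
  have : Mono (biprod.lift a₂ (-a₃)) := by
    refine Preadditive.mono_of_cancel_zero _ fun {A} y hy => ?_
    obtain ⟨A₁, e₁, _, t, ht⟩ := surjective_up_to_refinements_of_epi (cokernel.π m₁) y
    have h2 : t ≫ cokernel.π m₂ = 0 := by
      rw [← ha₂, ← reassoc_of% ht]
      simpa using e₁ ≫= (hy =≫ biprod.fst)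
    have h3 : t ≫ cokernel.π m₃ = 0 := by
      rw [← ha₃, ← reassoc_of% ht]
      simpa using e₁ ≫= (hy =≫ biprod.snd)
    obtain ⟨A₂, e₂, _, z₂, hz₂⟩ := (CokernelCofork.IsColimit.comp_π_eq_zero_iff_up_to_refinements
      (cokernelIsCokernel m₂) t).1 h2
    obtain ⟨A₃, e₃, _, z₃, hz₃⟩ := (CokernelCofork.IsColimit.comp_π_eq_zero_iff_up_to_refinements
      (cokernelIsCokernel m₃) (e₂ ≫ t)).1 (show (e₂ ≫ t) ≫ cokernel.π m₃ = 0 by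
        rw [Category.assoc, h3, comp_zero])
    have hk : biprod.lift (e₃ ≫ z₂) (-z₃) ≫ biprod.desc r₂ r₃ = 0 := by
      rw [← cancel_mono m₄, biprod.lift_desc, Preadditive.add_comp, Preadditive.neg_comp,
        Preadditive.neg_comp, Category.assoc, Category.assoc, Category.assoc, hr₂, hr₃, zero_comp,
        ← hz₂, ← hz₃]
      simp
    obtain ⟨A₄, e₄, _, z₁, hz₁⟩ := hZ.exact.exact_up_to_refinements (biprod.lift (e₃ ≫ z₂) (-z₃)) hk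
    have h4 : e₄ ≫ e₃ ≫ z₂ = z₁ ≫ l₂ := by simpa using hz₁ =≫ biprod.fst
    rw [← cancel_epi e₁, ← cancel_epi e₂, ← cancel_epi e₃, ← cancel_epi e₄, ht, reassoc_of% hz₂,
      reassoc_of% h4, reassoc_of% hl₂, cokernel.condition]
    simp
  exact ⟨w', ⟨hex⟩⟩

variable [HasExt.{u} C] {A B Q₁ Q₄ : C} (F : C)

theorem ext_decomp {i : ℕ} (Y : Ext.{u} (A ⊞ B) F i) :
    Y = (Ext.mk₀ biprod.fst).comp ((Ext.mk₀ biprod.inl).comp Y (zero_add i)) (zero_add i) +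
      (Ext.mk₀ biprod.snd).comp ((Ext.mk₀ biprod.inr).comp Y (zero_add i)) (zero_add i) := by
  rw [Ext.mk₀_comp_mk₀_assoc, Ext.mk₀_comp_mk₀_assoc, ← Ext.add_comp, ← Ext.mk₀_add, biprod.total,
    Ext.mk₀_id_comp]

theorem ext_sequence {a₂' : Q₁ ⟶ A} {a₃' : Q₁ ⟶ B} {b₂' : A ⟶ Q₄} {b₃' : B ⟶ Q₄}
    (w : biprod.lift a₂' (-a₃') ≫ biprod.desc b₂' b₃' = 0)
    (h : (ShortComplex.mk (biprod.lift a₂' (-a₃')) (biprod.desc b₂' b₃') w).ShortExact) :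
    Function.Injective (fun x : Ext.{u} Q₄ F 0 =>
      ((Ext.mk₀ b₂').precomp F (zero_add 0) x, (Ext.mk₀ b₃').precomp F (zero_add 0) x)) ∧
    ∃ δ : ∀ i : ℕ, Ext.{u} Q₁ F i →+ Ext.{u} Q₄ F (i + 1), ∀ i : ℕ,
      (∀ y : Ext.{u} A F i × Ext.{u} B F i,
        (Ext.mk₀ a₂').precomp F (zero_add i) y.1 - (Ext.mk₀ a₃').precomp F (zero_add i) y.2 = 0 ↔
          ∃ x, (Ext.mk₀ b₂').precomp F (zero_add i) x = y.1 ∧ (Ext.mk₀ b₃').precomp F (zero_add i) x = y.2) ∧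
      (∀ c : Ext.{u} Q₁ F i, δ i c = 0 ↔ ∃ y : Ext.{u} A F i × Ext.{u} B F i,
        (Ext.mk₀ a₂').precomp F (zero_add i) y.1 - (Ext.mk₀ a₃').precomp F (zero_add i) y.2 = c) ∧
      (∀ x : Ext.{u} Q₄ F (i + 1),
        ((Ext.mk₀ b₂').precomp F (zero_add (i + 1)) x = 0 ∧
          (Ext.mk₀ b₃').precomp F (zero_add (i + 1)) x = 0) ↔ ∃ c, δ i c = x) := by
  have hg₂ : ∀ (n : ℕ) (x : Ext.{u} Q₄ F n), (Ext.mk₀ biprod.inl).comp
      ((Ext.mk₀ (biprod.desc b₂' b₃')).comp x (zero_add n)) (zero_add n) = (Ext.mk₀ b₂').comp x (zero_add n) :=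
    fun n x => by rw [Ext.mk₀_comp_mk₀_assoc, biprod.inl_desc]
  have hg₃ : ∀ (n : ℕ) (x : Ext.{u} Q₄ F n), (Ext.mk₀ biprod.inr).comp
      ((Ext.mk₀ (biprod.desc b₂' b₃')).comp x (zero_add n)) (zero_add n) = (Ext.mk₀ b₃').comp x (zero_add n) :=
    fun n x => by rw [Ext.mk₀_comp_mk₀_assoc, biprod.inr_desc]
  have hf : ∀ (n : ℕ) (y₁ : Ext.{u} A F n) (y₂ : Ext.{u} B F n),
      (Ext.mk₀ (biprod.lift a₂' (-a₃'))).comp ((Ext.mk₀ biprod.fst).comp y₁ (zero_add n) +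
        (Ext.mk₀ biprod.snd).comp y₂ (zero_add n)) (zero_add n) =
      (Ext.mk₀ a₂').comp y₁ (zero_add n) - (Ext.mk₀ a₃').comp y₂ (zero_add n) := fun n y₁ y₂ => by
    rw [Ext.comp_add, Ext.mk₀_comp_mk₀_assoc, Ext.mk₀_comp_mk₀_assoc, biprod.lift_fst, biprod.lift_snd,
      Ext.mk₀_neg, Ext.neg_comp, sub_eq_add_neg]
  refine ⟨fun x x' e => ?_, fun i => h.extClass.precomp F (add_comm 1 i), fun i => ⟨fun y => ⟨fun hy => ?_, ?_⟩,
    fun c => ⟨fun hc => ?_, ?_⟩, fun x => ⟨fun hx => ?_, ?_⟩⟩⟩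
  · have : Epi (biprod.desc b₂' b₃') := h.epi_g
    refine Ext.precomp_mk₀_injective_of_epi F (biprod.desc b₂' b₃') ?_
    show (Ext.mk₀ (biprod.desc b₂' b₃')).comp x (zero_add 0) = (Ext.mk₀ (biprod.desc b₂' b₃')).comp x' (zero_add 0)
    rw [ext_decomp F ((Ext.mk₀ (biprod.desc b₂' b₃')).comp x _), hg₂, hg₃,
      ext_decomp F ((Ext.mk₀ (biprod.desc b₂' b₃')).comp x' _), hg₂, hg₃]
    exact congrArg₂ (fun p q => (Ext.mk₀ biprod.fst).comp p (zero_add 0) + (Ext.mk₀ biprod.snd).comp q (zero_add 0))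
      (congrArg Prod.fst e) (congrArg Prod.snd e)
  · obtain ⟨x, hx⟩ := Ext.contravariant_sequence_exact₂ h F
      ((Ext.mk₀ biprod.fst).comp y.1 (zero_add i) + (Ext.mk₀ biprod.snd).comp y.2 (zero_add i))
      ((hf i y.1 y.2).trans hy)
    refine ⟨x, (hg₂ i x).symm.trans ?_, (hg₃ i x).symm.trans ?_⟩
    · erw [hx]; simp [Ext.comp_add]
    · erw [hx]; simp [Ext.comp_add]
  · rintro ⟨x, h₂, h₃⟩
    rw [← h₂, ← h₃]
    show (Ext.mk₀ a₂').comp ((Ext.mk₀ b₂').comp x (zero_add i)) (zero_add i) -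
      (Ext.mk₀ a₃').comp ((Ext.mk₀ b₃').comp x (zero_add i)) (zero_add i) = 0
    rw [← hf i, ← hg₂ i x, ← hg₃ i x, ← ext_decomp, Ext.mk₀_comp_mk₀_assoc, w, Ext.mk₀_zero, Ext.zero_comp]
  · obtain ⟨Y, hY⟩ := Ext.contravariant_sequence_exact₁ h F c (add_comm 1 i) hc
    refine ⟨((Ext.mk₀ biprod.inl).comp Y (zero_add i), (Ext.mk₀ biprod.inr).comp Y (zero_add i)),
      (hf i _ _).symm.trans ?_⟩
    rw [← ext_decomp]
    exact hY
  · rintro ⟨y, rfl⟩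
    exact (congrArg (h.extClass.precomp F (add_comm 1 i)) (hf i y.1 y.2).symm).trans
      (h.extClass_comp_assoc _ (h := add_comm 1 i))
  · refine Ext.contravariant_sequence_exact₃ h F x ?_ (add_comm 1 i)
    show (Ext.mk₀ (biprod.desc b₂' b₃')).comp x _ = 0
    rw [ext_decomp F ((Ext.mk₀ (biprod.desc b₂' b₃')).comp x _), hg₂, hg₃]
    rw [show (Ext.mk₀ b₂').comp x (zero_add (i + 1)) = 0 from hx.1,
      show (Ext.mk₀ b₃').comp x (zero_add (i + 1)) = 0 from hx.2]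
    simp
  · rintro ⟨c, rfl⟩
    refine ⟨(hg₂ _ _).symm.trans ?_, (hg₃ _ _).symm.trans ?_⟩
    · erw [h.comp_extClass_assoc c (h := add_comm 1 i)]; exact Ext.comp_zero _ _ _ _ _
    · erw [h.comp_extClass_assoc c (h := add_comm 1 i)]; exact Ext.comp_zero _ _ _ _ _

end

theorem zqMap_π {X : TopCat.{u}} {W W' : Opens X} (h : W ≤ ⊤) (h' : W' ≤ ⊤) (hW : W' ≤ W) :
    cokernel.π (CohCx.freeSheafMap (Opens.grothendieckTopology X) (homOfLE h')) ≫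
      zqMap h h' hW le_rfl = cokernel.π (CohCx.freeSheafMap (Opens.grothendieckTopology X) (homOfLE h)) := by
  simp [zqMap, homOfLE_refl, CohCx.freeSheafMap]

/-- Let X be a topological space, F an abelian sheaf on X, and U, U' open subsets with closed
complements Z = X ∖ U and Z' = X ∖ U' (so Z ∩ Z' = X ∖ (U ∪ U') and Z ∪ Z' = X ∖ (U ∩ U')). With
H^i_{X∖W}(X, F) = Ext^i(Z_X/Z_W, F) and the enlargement-of-support maps r : H^i_{Z∩Z'} → H^i_Z, r' :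
H^i_{Z∩Z'} → H^i_{Z'}, s : H^i_Z → H^i_{Z∪Z'}, s' : H^i_{Z'} → H^i_{Z∪Z'}: the map H^0_{Z∩Z'} →
H^0_Z ⊕ H^0_{Z'}, x ↦ (r x, r' x), is injective, and there are connecting homomorphisms δ_i :
H^i_{Z∪Z'}(X, F) → H^{i+1}_{Z∩Z'}(X, F) such that for every i the sequence H^i_{Z∩Z'} → H^i_Z ⊕
H^i_{Z'} → H^i_{Z∪Z'} → H^{i+1}_{Z∩Z'} → H^{i+1}_Z ⊕ H^{i+1}_{Z'} is exact, the middle map being (y,
y') ↦ s y − s' y'. -/
theorem result {X : TopCat.{u}} (F : CohTop.Ab X) (U U' : Opens X) :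
    Function.Injective (fun x : LocCohZ.HZc F 0 (U ⊔ U') =>
      (LocCohZ.resZ F 0 (le_top : U ⊔ U' ≤ ⊤) (le_top : U ≤ ⊤) le_sup_left le_rfl x,
       LocCohZ.resZ F 0 (le_top : U ⊔ U' ≤ ⊤) (le_top : U' ≤ ⊤) le_sup_right le_rfl x)) ∧
    ∃ δ : ∀ i : ℕ, LocCohZ.HZc F i (U ⊓ U') →+ LocCohZ.HZc F (i + 1) (U ⊔ U'),
      ∀ i : ℕ,
        (∀ y : LocCohZ.HZc F i U × LocCohZ.HZc F i U',
          LocCohZ.resZ F i (le_top : U ≤ ⊤) (le_top : U ⊓ U' ≤ ⊤) inf_le_left le_rfl y.1 -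
              LocCohZ.resZ F i (le_top : U' ≤ ⊤) (le_top : U ⊓ U' ≤ ⊤) inf_le_right le_rfl y.2 = 0 ↔
            ∃ x : LocCohZ.HZc F i (U ⊔ U'),
              LocCohZ.resZ F i (le_top : U ⊔ U' ≤ ⊤) (le_top : U ≤ ⊤) le_sup_left le_rfl x = y.1 ∧
              LocCohZ.resZ F i (le_top : U ⊔ U' ≤ ⊤) (le_top : U' ≤ ⊤) le_sup_right le_rfl x = y.2) ∧
        (∀ w : LocCohZ.HZc F i (U ⊓ U'),
          δ i w = 0 ↔ ∃ y : LocCohZ.HZc F i U × LocCohZ.HZc F i U',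
            LocCohZ.resZ F i (le_top : U ≤ ⊤) (le_top : U ⊓ U' ≤ ⊤) inf_le_left le_rfl y.1 -
              LocCohZ.resZ F i (le_top : U' ≤ ⊤) (le_top : U ⊓ U' ≤ ⊤) inf_le_right le_rfl y.2 = w) ∧
        (∀ x : LocCohZ.HZc F (i + 1) (U ⊔ U'),
          (LocCohZ.resZ F (i + 1) (le_top : U ⊔ U' ≤ ⊤) (le_top : U ≤ ⊤) le_sup_left le_rfl x = 0 ∧
            LocCohZ.resZ F (i + 1) (le_top : U ⊔ U' ≤ ⊤) (le_top : U' ≤ ⊤) le_sup_right le_rfl x = 0) ↔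
            ∃ w : LocCohZ.HZc F i (U ⊓ U'), δ i w = x) := by
  let S := Opens.mayerVietorisSquare U U'
  have hZ := S.shortComplex_shortExact
  have : Mono (CohCx.freeSheafMap (Opens.grothendieckTopology X) (homOfLE (le_top : U ⊔ U' ≤ ⊤))) :=
    (zqSeq_shortExact (le_top : U ⊔ U' ≤ ⊤)).mono_f
  obtain ⟨w, h⟩ := cokernel_shortExact
    (CohCx.freeSheafMap (Opens.grothendieckTopology X) (homOfLE (le_top : U ⊓ U' ≤ ⊤)))
    (CohCx.freeSheafMap (Opens.grothendieckTopology X) (homOfLE (le_top : U ≤ ⊤)))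
    (CohCx.freeSheafMap (Opens.grothendieckTopology X) (homOfLE (le_top : U' ≤ ⊤)))
    (CohCx.freeSheafMap (Opens.grothendieckTopology X) (homOfLE (le_top : U ⊔ U' ≤ ⊤)))
    (CohCx.freeSheafMap (Opens.grothendieckTopology X) (homOfLE (inf_le_left : U ⊓ U' ≤ U)))
    (CohCx.freeSheafMap (Opens.grothendieckTopology X) (homOfLE (inf_le_right : U ⊓ U' ≤ U')))
    (CohCx.freeSheafMap (Opens.grothendieckTopology X) (homOfLE (le_sup_left : U ≤ U ⊔ U')))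
    (CohCx.freeSheafMap (Opens.grothendieckTopology X) (homOfLE (le_sup_right : U' ≤ U ⊔ U')))
    (zqMap (le_top : U ≤ ⊤) (le_top : U ⊓ U' ≤ ⊤) inf_le_left le_rfl)
    (zqMap (le_top : U' ≤ ⊤) (le_top : U ⊓ U' ≤ ⊤) inf_le_right le_rfl)
    (zqMap (le_top : U ⊔ U' ≤ ⊤) (le_top : U ≤ ⊤) le_sup_left le_rfl)
    (zqMap (le_top : U ⊔ U' ≤ ⊤) (le_top : U' ≤ ⊤) le_sup_right le_rfl)
    (CohFree.freeSheafMap_comp _ _ _).symm (CohFree.freeSheafMap_comp _ _ _).symm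
    (CohFree.freeSheafMap_comp _ _ _).symm S.shortComplex.zero hZ
    (zqMap_π _ _ _) (zqMap_π _ _ _) (zqMap_π _ _ _) (zqMap_π _ _ _)
  exact ext_sequence F w h

end Groth.Agent.S16287
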