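import Groth.Statements.S16288
import Groth.Agent.L01.FlatCx.Rank

set_option autoImplicit false
universe u
open CategoryTheory
open FlatCx

namespace Groth.Agent.S16288

open CategoryTheory CategoryTheory.Limits
open scoped TensorProduct
open Groth.L01.FlatCx

lemma hi' (j : ℤ) : (ComplexShape.down ℤ).prev j = j + 1 := (ComplexShape.down ℤ).prev_eq' rfl
lemma hk' (j : ℤ) : (ComplexShape.down ℤ).next j = j - 1 := (ComplexShape.down ℤ).next_eq' (by simp)
lemma hkj' (j : ℤ) : (ComplexShape.down ℤ).prev (j - 1) = j := (ComplexShape.down ℤ).prev_eq' (by simp)


/-- Let A be a Noetherian ring and P a chain complex of finitely generated flat A-modules, and for p and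
a point x of Spec A let d_p(x) = dim_{k(x)} H_p(P ⊗_A k(x)). Fix p and a point z. If d_{p-1} and
d_{p+1} are constant on some neighbourhood of z, then d_p is constant on some neighbourhood of z.
(The published assertion concerns the function y ↦ dim H^p(X_y, F_y) for a coherent sheaf F flat
over a projective morphism of Noetherian schemes X → Y: if it is not constant near a point, then the
functions for p - 1 and p + 1 are not both constant near that point. Stated here is the
corresponding property for any chain complex of finitely generated flat modules over a Noetherian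
ring, from which the published form follows by applying it to a finite complex of such modules
computing the cohomology of the fibres.) -/
theorem result {A : Type u} [CommRing A] [IsNoetherianRing A]
    (P : ChainComplex (ModuleCat.{u} A) ℤ) (hP : ∀ i, Module.Finite A (P.X i) ∧ Module.Flat A (P.X i))
    (p : ℤ) (z : PrimeSpectrum A)
    (hlo : ∀ᶠ x in nhds z, CohIII.dRank P (p - 1) x = CohIII.dRank P (p - 1) z)
    (hhi : ∀ᶠ x in nhds z, CohIII.dRank P (p + 1) x = CohIII.dRank P (p + 1) z) :
    ∀ᶠ x in nhds z, CohIII.dRank P p x = CohIII.dRank P p z := by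
  have := fun i => (hP i).1
  have hP' := fun i => (hP i).2
  have hfp : ∀ i, Module.FinitePresentation A (P.X i) := fun i => Module.finitePresentation_of_finite A _
  have key : ∀ q x, CohIII.dRank P q x + mu (P.X (q - 1)) x =
      mu (Coker P (q + 1) q) x + mu (Coker P q (q - 1)) x := fun q x =>
    dRank_add_mu P (hi' q) (hk' q) x
  have hr : ∀ q, ∀ᶠ x in nhds z, mu (P.X q) x = mu (P.X q) z := fun q => by
    have := hP' q
    exact (IsLocallyConstant.iff_eventually_eq _).mp (isLocallyConstant_mu _) z
  have h : ∀ q, (∀ᶠ x in nhds z, CohIII.dRank P q x = CohIII.dRank P q z) →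
      (∀ᶠ x in nhds z, mu (Coker P (q + 1) q) x = mu (Coker P (q + 1) q) z) ∧
      ∀ᶠ x in nhds z, mu (Coker P q (q - 1)) x = mu (Coker P q (q - 1)) z := by
    intro q hq
    refine eventually_eq_of_add (mu_eventually_le _ z) (mu_eventually_le _ z) ?_
    filter_upwards [hq, hr (q - 1)] with x e1 e2
    have := key q x; have := key q z
    omega
  have h1 := (h _ hhi).2
  have h2 := (h _ hlo).1
  rw [add_sub_cancel_right] at h1
  rw [sub_add_cancel] at h2
  filter_upwards [h1, h2, hr (p - 1)] with x e1 e2 e3
  have := key p x; have := key p z
  omega

end Groth.Agent.S16288
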