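import Groth.Statements.S16290
import Groth.Agent.L21.Nodal.DeformFibre

set_option autoImplicit false
universe u
open CategoryTheory CategoryTheory.Limits AlgebraicGeometry
open Curves

namespace Groth.Agent.S16290

/-- Let f : T → S be a morphism of schemes, locally of finite type, t ∈ T a point with image s such that
f is flat at t and O_{S,s} is Noetherian. Suppose t is a node of the fibre T_s with residue field
κ(s), taken in the form: t is a closed point of T_s and the completion of O_{T_s,t} is isomorphic,
compatibly with κ(s), to κ(s)[[u,v]]/(q) for a binary quadratic form q = a u^2 + b uv + c v^2 over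
κ(s) with b^2 - 4ac ≠ 0 (q need not split). Then there are a binary quadratic form Q = a u^2 + b uv
+ c v^2 over the completion Â of O_{S,s} whose discriminant b^2 - 4ac is a unit of Â, an element h
of the maximal ideal of Â, and an isomorphism of the completion of O_{T,t} with Â[[u,v]]/(Q - h)
compatible with the maps from O_{S,s}. (The published statement assumes f is a nodal relative curve,
i.e. flat, of finite presentation and of relative dimension one with nodal geometric fibres, over a
Noetherian base; here only f locally of finite type and flat at t with O_{S,s} Noetherian is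
assumed, and the node is taken in completed form, which is what the argument uses.) -/
theorem result {T S : Scheme.{u}} (f : T ⟶ S) [LocallyOfFiniteType f] (t : T)
    [IsNoetherianRing (S.presheaf.stalk (f t))] (hfl : (f.stalkMap t).hom.Flat)
    (ht : letI : (f.fiber (f t)).Over (Spec (CommRingCat.of (S.residueField (f t)))) := ⟨f.fiberToSpecResidueField (f t)⟩
      letI := Curv2.stalkAlgebra (S.residueField (f t)) (f.fiber (f t)) (f.asFiber t)
      IsClosed ({f.asFiber t} : Set (f.fiber (f t))) ∧
        ∃ a b c : S.residueField (f t), b ^ 2 - 4 * a * c ≠ 0 ∧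
          ∃ e : Curv2.cpl ((f.fiber (f t)).presheaf.stalk (f.asFiber t)) ≃+*
              (MvPowerSeries (Fin 2) (S.residueField (f t)) ⧸ Ideal.span
                {(MvPowerSeries.C a * MvPowerSeries.X 0 ^ 2 + MvPowerSeries.C b * MvPowerSeries.X 0 * MvPowerSeries.X 1 +
                  MvPowerSeries.C c * MvPowerSeries.X 1 ^ 2 : MvPowerSeries (Fin 2) (S.residueField (f t)))}),
            ∀ r : S.residueField (f t),
              e (algebraMap ((f.fiber (f t)).presheaf.stalk (f.asFiber t)) _
                  (algebraMap (S.residueField (f t)) ((f.fiber (f t)).presheaf.stalk (f.asFiber t)) r)) =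
                Ideal.Quotient.mk _ (MvPowerSeries.C r)) :
    ∃ a b c : Curv2.cpl (S.presheaf.stalk (f t)), IsUnit (b ^ 2 - 4 * a * c) ∧
      ∃ h ∈ IsLocalRing.maximalIdeal (Curv2.cpl (S.presheaf.stalk (f t))),
        ∃ e : Curv2.cpl (T.presheaf.stalk t) ≃+*
            (MvPowerSeries (Fin 2) (Curv2.cpl (S.presheaf.stalk (f t))) ⧸ Ideal.span
              {(MvPowerSeries.C a * MvPowerSeries.X 0 ^ 2 + MvPowerSeries.C b * MvPowerSeries.X 0 * MvPowerSeries.X 1 +
                MvPowerSeries.C c * MvPowerSeries.X 1 ^ 2 - MvPowerSeries.C h : MvPowerSeries (Fin 2) (Curv2.cpl (S.presheaf.stalk (f t))))}),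
          ∀ r : S.presheaf.stalk (f t),
            e (algebraMap (T.presheaf.stalk t) (Curv2.cpl (T.presheaf.stalk t)) ((f.stalkMap t).hom r)) =
              Ideal.Quotient.mk _ (MvPowerSeries.C (algebraMap (S.presheaf.stalk (f t)) (Curv2.cpl (S.presheaf.stalk (f t))) r)) := by
  letI : (f.fiber (f t)).Over (Spec (CommRingCat.of (S.residueField (f t)))) := ⟨f.fiberToSpecResidueField (f t)⟩
  obtain ⟨-, a₀, b₀, c₀, hd, e, he⟩ := ht
  obtain ⟨a, rfl⟩ : ∃ a, S.residue (f t) a = a₀ := IsLocalRing.residue_surjective a₀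
  obtain ⟨b, rfl⟩ : ∃ b, S.residue (f t) b = b₀ := IsLocalRing.residue_surjective b₀
  obtain ⟨c, rfl⟩ : ∃ c, S.residue (f t) c = c₀ := IsLocalRing.residue_surjective c₀
  have hD : IsUnit (4 * a * c - b ^ 2) := by
    refine (IsLocalRing.residue_ne_zero_iff_isUnit _).1 fun h => hd ?_
    have h1 : IsLocalRing.residue (S.presheaf.stalk (f t)) (b ^ 2 - 4 * a * c) = 0 := by
      rw [← neg_sub, map_neg, h, neg_zero]
    simp only [map_sub, map_mul, map_pow, map_ofNat] at h1
    exact h1
  obtain ⟨π, hπ, hker, hπA⟩ := Groth.L21.Nodal.exists_fibre_stalk_hom f t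
  letI : Algebra (S.presheaf.stalk (f t)) (T.presheaf.stalk t) := (f.stalkMap t).hom.toAlgebra
  haveI : IsLocalHom (algebraMap (S.presheaf.stalk (f t)) (T.presheaf.stalk t)) :=
    inferInstanceAs (IsLocalHom (f.stalkMap t).hom)
  haveI : Module.Flat (S.presheaf.stalk (f t)) (T.presheaf.stalk t) := hfl
  haveI : Algebra.EssFiniteType (S.presheaf.stalk (f t)) (T.presheaf.stalk t) := LocallyOfFiniteType.stalkMap f t
  haveI : IsNoetherianRing (T.presheaf.stalk t) := Algebra.EssFiniteType.isNoetherianRing (S.presheaf.stalk (f t)) _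
  haveI : IsNoetherianRing ((f.fiber (f t)).presheaf.stalk (f.asFiber t)) := isNoetherianRing_of_surjective _ _ π hπ
  have hspan : Ideal.span {(MvPowerSeries.C (S.residue (f t) a) * MvPowerSeries.X 0 ^ 2 +
      MvPowerSeries.C (S.residue (f t) b) * MvPowerSeries.X 0 * MvPowerSeries.X 1 +
      MvPowerSeries.C (S.residue (f t) c) * MvPowerSeries.X 1 ^ 2 : MvPowerSeries (Fin 2) (S.residueField (f t)))} =
      Ideal.span {Groth.L21.Nodal.qf (MvPowerSeries.C (IsLocalRing.residue (S.presheaf.stalk (f t)) a))
        (MvPowerSeries.C (IsLocalRing.residue (S.presheaf.stalk (f t)) b))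
        (MvPowerSeries.C (IsLocalRing.residue (S.presheaf.stalk (f t)) c)) (MvPowerSeries.X 0)
        (MvPowerSeries.X 1 : MvPowerSeries (Fin 2) (IsLocalRing.ResidueField (S.presheaf.stalk (f t))))} := by
    simp only [Groth.L21.Nodal.qf, mul_assoc]
    rfl
  obtain ⟨α, hα, ⟨ψ⟩⟩ := Groth.L21.Nodal.exists_deform_of_fibre π hπ hker a b c hD
    (e.trans (Ideal.quotEquivOfEq hspan)) (fun r => by
      show Ideal.quotEquivOfEq hspan (e _) = _
      rw [show π (algebraMap _ (T.presheaf.stalk t) r) = _ from hπA r]
      exact congrArg (Ideal.quotEquivOfEq hspan) (he (S.residue (f t) r)))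
  let Ah := Curv2.cpl (S.presheaf.stalk (f t))
  let m := algebraMap (S.presheaf.stalk (f t)) Ah
  have h2 : Ideal.span {(MvPowerSeries.C (m a) * MvPowerSeries.X 0 ^ 2 +
      MvPowerSeries.C (m b) * MvPowerSeries.X 0 * MvPowerSeries.X 1 + MvPowerSeries.C (m c) * MvPowerSeries.X 1 ^ 2 -
      MvPowerSeries.C α : MvPowerSeries (Fin 2) Ah)} =
      Ideal.span {Groth.L21.Nodal.qf (MvPowerSeries.C (m a)) (MvPowerSeries.C (m b)) (MvPowerSeries.C (m c))
        (MvPowerSeries.X 0) (MvPowerSeries.X 1) - MvPowerSeries.C α} := by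
    simp only [Groth.L21.Nodal.qf, mul_assoc]
  let E := ((Ideal.quotientEquivAlgOfEq (S.presheaf.stalk (f t)) h2).trans ψ).symm
  refine ⟨m a, m b, m c, ?_, α, hα, E.toRingEquiv, fun r => ?_⟩
  · have := (hD.map m).neg
    simpa only [map_sub, map_mul, map_pow, map_ofNat, neg_sub] using this
  · show E (algebraMap (T.presheaf.stalk t) (Curv2.cpl (T.presheaf.stalk t)) (algebraMap (S.presheaf.stalk (f t)) (T.presheaf.stalk t) r)) = _
    rw [← IsScalarTower.algebraMap_apply, E.commutes]
    show Ideal.Quotient.mk _ (algebraMap (S.presheaf.stalk (f t)) (MvPowerSeries (Fin 2) Ah) r) = _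
    rw [MvPowerSeries.algebraMap_apply]

end Groth.Agent.S16290
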