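import Groth.Statements.S16291
import Groth.Agent.L21.CurveAdj.Pointed

set_option autoImplicit false
set_option backward.isDefEq.respectTransparency false
universe u
open CategoryTheory CategoryTheory.Limits AlgebraicGeometry
attribute [local instance] HasDerivedCategory.standard
open Curves

namespace Groth.Agent.S16291

/-- Let k be an algebraically closed field and (X, D) a stable n-pointed curve over k, taken in the
form: X is proper and connected over k, of dimension 1, with at-worst-nodal singularities; D ⊆ X is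
a finite closed set of points each having an open neighbourhood smooth over k (the marked points);
ω_X is the dualizing module of X (degree -1 cohomology sheaf of f^! O for the structure morphism f,
for any choice of the data Rf_* on D_QCoh with its right adjoint); L_D is an invertible module with
L_D ⊗ I_D ≅ O_X, where I_D is the ideal sheaf of D with its reduced structure (so L_D plays the role
of O_X(D)); and the invertible module ω_X(D) := ω_X ⊗ L_D is ample (stability). Then H^1(X,
ω_X(D)^{⊗m}) = 0 for every m ≥ 2. -/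
theorem result (k : Type u) [Field k] [IsAlgClosed k] (X : Scheme.{u}) [X.Over (Spec (CommRingCat.of k))]
    [IsProper (X ↘ (Spec (CommRingCat.of k)))] [ConnectedSpace X] (hdim : topologicalKrullDim X = 1) (hX : Curv2.AtWorstNodal k X)
    [DCoh.HasRpush (X ↘ (Spec (CommRingCat.of k)))] (h : DCoh.RpushPreservesQCoh (X ↘ (Spec (CommRingCat.of k)))) [DCoh.HasShriek (X ↘ (Spec (CommRingCat.of k))) h]
    (OY : DCoh.DQCoh (Spec (CommRingCat.of k))) (hOY : Nonempty (OY.obj ≅ DCoh.inD (Spec (CommRingCat.of k)) (Coh.structureModule (Spec (CommRingCat.of k)))))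
    (D : Set X) (hDfin : D.Finite) (hDcl : IsClosed D) (hDsm : ∀ x ∈ D, ∃ U : X.Opens, x ∈ U ∧ Smooth (U.ι ≫ (X ↘ (Spec (CommRingCat.of k)))))
    (LD : X.Modules) (hLD : PicF.IsInvertible LD)
    (hinv : ClSub.IsInverseOf LD (ClSub.idealMod (Scheme.IdealSheafData.vanishingIdeal (⟨D, hDcl⟩ : TopologicalSpace.Closeds X))))
    (hst : CohB1.IsAmple (CohB1.tensorMod (DCoh.dualizingMod (X ↘ (Spec (CommRingCat.of k))) h OY 1) LD))
    (m : ℕ) (hm : 2 ≤ m) :
    Subsingleton (Coh.HH X (CohB1.tensorPow (CohB1.tensorMod (DCoh.dualizingMod (X ↘ (Spec (CommRingCat.of k))) h OY 1) LD) m) 1) := by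
  have hinv' := hinv; clear hinv
  haveI : IsProper (X ↘ Spec (CommRingCat.of k)) := inferInstance
  haveI := Groth.L21.RR.isNoetherian_of_proper (X := X) k
  obtain ⟨t, ht⟩ := Groth.L21.CurveDual.exists_isRDual k hdim.le h OY hOY
  obtain ⟨hconn, hred, hgen, hsetup⟩ := Groth.L21.CurveAdj.nodal_setup (k := k) hdim
    (haveI := (Groth.L21.CurveAdj.nodal_reduced (k := k) hdim hX).1; Groth.L21.CurveAdj.h0_eq_one_of_connected) hX
  haveI := hred
  obtain ⟨S, hinv⟩ := hsetup _ t ht
  haveI : JacobsonSpace X := LocallyOfFiniteType.jacobsonSpace (X ↘ Spec (CommRingCat.of k))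
  have hpts : ∀ x ∈ D, IsClosed ({x} : Set X) := fun x hx => by
    have hfin : (D ∩ closedPoints X).Finite := hDfin.subset Set.inter_subset_left
    have hcl : IsClosed (D ∩ closedPoints X) := by
      rw [← Set.biUnion_of_singleton (D ∩ closedPoints X)]
      exact hfin.isClosed_biUnion fun y hy => hy.2
    have h1 : closure (D ∩ closedPoints X) = D := JacobsonSpace.closure_inter_closedPoints hDcl
    rw [hcl.closure_eq] at h1
    exact (h1.ge hx).2
  obtain ⟨hMinv, hMdeg, hdata⟩ :=
    Groth.L21.CurveAdj.pointed_data (M := CohB1.tensorMod (DCoh.dualizingMod (X ↘ (Spec (CommRingCat.of k))) h OY 1) LD)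
      hX S hgen hinv hDcl hDfin hpts hinv' ⟨Iso.refl _⟩
  have hpos : 0 < 2 * (Curv2.genus k X : ℤ) - 2 + Nat.card D := by
    rw [← hMdeg]
    classical
    have hfin := (Groth.L22.CurveDeg.finite_nonclosed (X := X) hdim.le)
    rw [Groth.L21.CurveAdj.deg_eq_sum hdim.le hgen hMinv hfin.toFinset fun x => Set.Finite.mem_toFinset _]
    obtain ⟨z⟩ := (inferInstance : Nonempty X)
    obtain ⟨w, hw, -⟩ := hgen z
    refine Finset.sum_pos (fun y hy => ?_) ⟨w, hfin.mem_toFinset.2 hw⟩
    exact (Groth.L21.CurveAdj.isAmple_iff_degOn hdim.le hgen hMinv).1 hst (closure {y})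
      (Groth.L21.CurveAdj.closure_mem_components hdim.le (hfin.mem_toFinset.1 hy))
  have hpw := fun l hl => Groth.L21.CurveAdj.pointed_powers
    (M := CohB1.tensorMod (DCoh.dualizingMod (X ↘ (Spec (CommRingCat.of k))) h OY 1) LD)
    hX S hgen hinv hDcl hDfin hpts hinv' ⟨Iso.refl _⟩
    (fun C hC => ((Groth.L21.CurveAdj.isAmple_iff_degOn hdim.le hgen hMinv).1 hst C hC).le) hpos l hl
  exact (hpw m hm).1

end Groth.Agent.S16291
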