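import Groth.Statements.S16292
import Groth.Agent.L21.CurveAdj.PointedVA

set_option autoImplicit false
set_option backward.isDefEq.respectTransparency false
universe u
open CategoryTheory CategoryTheory.Limits AlgebraicGeometry
attribute [local instance] HasDerivedCategory.standard
open Curves

namespace Groth.Agent.S16292

/-- Let k be an algebraically closed field and (X, D) a stable n-pointed curve over k, taken in the
form: X is proper and connected over k, of dimension 1, with at-worst-nodal singularities; D ⊆ X is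
a finite closed set of points each having an open neighbourhood smooth over k (the marked points);
ω_X is the dualizing module of X (degree -1 cohomology sheaf of f^! O for the structure morphism f,
for any choice of the data Rf_* on D_QCoh with its right adjoint); L_D is an invertible module with
L_D ⊗ I_D ≅ O_X, where I_D is the ideal sheaf of D with its reduced structure (so L_D plays the role
of O_X(D)); and the invertible module ω_X(D) := ω_X ⊗ L_D is ample (stability). Then for every m ≥ 5
the module ω_X(D)^{⊗m} is very ample: some closed immersion i : X → P^N_k over k has i^* O(1) ≅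
ω_X(D)^{⊗m}. (The published assertion is for all m ≥ 3; the published argument addresses only m ≥ 5
and defers m = 3, 4 to the literature, so m ≥ 5 is what is stated here.) -/
theorem result (k : Type u) [Field k] [IsAlgClosed k] (X : Scheme.{u}) [X.Over (Spec (CommRingCat.of k))]
    [IsProper (X ↘ (Spec (CommRingCat.of k)))] [ConnectedSpace X] (hdim : topologicalKrullDim X = 1) (hX : Curv2.AtWorstNodal k X)
    [DCoh.HasRpush (X ↘ (Spec (CommRingCat.of k)))] (h : DCoh.RpushPreservesQCoh (X ↘ (Spec (CommRingCat.of k)))) [DCoh.HasShriek (X ↘ (Spec (CommRingCat.of k))) h]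
    (OY : DCoh.DQCoh (Spec (CommRingCat.of k))) (hOY : Nonempty (OY.obj ≅ DCoh.inD (Spec (CommRingCat.of k)) (Coh.structureModule (Spec (CommRingCat.of k)))))
    (D : Set X) (hDfin : D.Finite) (hDcl : IsClosed D) (hDsm : ∀ x ∈ D, ∃ U : X.Opens, x ∈ U ∧ Smooth (U.ι ≫ (X ↘ (Spec (CommRingCat.of k)))))
    (LD : X.Modules) (hLD : PicF.IsInvertible LD)
    (hinv : ClSub.IsInverseOf LD (ClSub.idealMod (Scheme.IdealSheafData.vanishingIdeal (⟨D, hDcl⟩ : TopologicalSpace.Closeds X))))
    (hst : CohB1.IsAmple (CohB1.tensorMod (DCoh.dualizingMod (X ↘ (Spec (CommRingCat.of k))) h OY 1) LD))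
    (m : ℕ) (hm : 5 ≤ m) :
    ∃ (N : ℕ) (i : X ⟶ CohB1.ProjSpace N k), IsClosedImmersion i ∧ i ≫ CohB1.ProjSpace.toSpec N k = (X ↘ (Spec (CommRingCat.of k))) ∧
      Nonempty ((Scheme.Modules.pullback i).obj (Twist.twistProjSpace N k 1) ≅ CohB1.tensorPow (CohB1.tensorMod (DCoh.dualizingMod (X ↘ (Spec (CommRingCat.of k))) h OY 1) LD) m) := by
  have hinv' := hinv; clear hinv
  haveI : IsProper (X ↘ Spec (CommRingCat.of k)) := inferInstance
  haveI := Groth.L21.RR.isNoetherian_of_proper (X := X) k
  obtain ⟨t, ht⟩ := Groth.L21.CurveDual.exists_isRDual k hdim.le h OY hOY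
  obtain ⟨hconn, hred, hgen, hsetup⟩ := Groth.L21.CurveAdj.nodal_setup (k := k) hdim
    (haveI := (Groth.L21.CurveAdj.nodal_reduced (k := k) hdim hX).1; Groth.L21.CurveAdj.h0_eq_one_of_connected) hX
  haveI := hred
  obtain ⟨S, hinv⟩ := hsetup _ t ht
  haveI : JacobsonSpace X := LocallyOfFiniteType.jacobsonSpace (X ↘ Spec (CommRingCat.of k))
  have hpts : ∀ x ∈ D, IsClosed ({x} : Set X) := fun x hx => by
    have hfin : (D ∩ closedPoints X).Finite := hDfin.subset Set.inter_subset_left
    have hcl : IsClosed (D ∩ closedPoints X) := by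
      rw [← Set.biUnion_of_singleton (D ∩ closedPoints X)]
      exact hfin.isClosed_biUnion fun y hy => hy.2
    have h1 : closure (D ∩ closedPoints X) = D := JacobsonSpace.closure_inter_closedPoints hDcl
    rw [hcl.closure_eq] at h1
    exact (h1.ge hx).2
  obtain ⟨hMinv, hMdeg, hdata⟩ :=
    Groth.L21.CurveAdj.pointed_data (M := CohB1.tensorMod (DCoh.dualizingMod (X ↘ (Spec (CommRingCat.of k))) h OY 1) LD)
      hX S hgen hinv hDcl hDfin hpts hinv' ⟨Iso.refl _⟩
  haveI : Nonempty X := inferInstance
  exact Groth.L21.RedCurve.VA.exists_closedImmersion_of_big k hdim.le (Groth.L18.Ample.isInvertible_tensorPow hMinv m)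
    (Groth.L21.CurveAdj.pointed_big (M := CohB1.tensorMod (DCoh.dualizingMod (X ↘ (Spec (CommRingCat.of k))) h OY 1) LD)
      hX S hgen hinv hDcl hDfin hpts hinv' ⟨Iso.refl _⟩ hst m hm)

end Groth.Agent.S16292
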