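import Groth.Statements.S16294
import Groth.Agent.L21.CurveAdj.Pointed

set_option autoImplicit false
set_option backward.isDefEq.respectTransparency false
universe u
open CategoryTheory CategoryTheory.Limits AlgebraicGeometry
attribute [local instance] HasDerivedCategory.standard
open Curves

namespace Groth.Agent.S16294

/-- Let k be an algebraically closed field and (X, D) a semi-stable n-pointed curve over k, taken in the
form: X is proper and connected over k, of dimension 1, with at-worst-nodal singularities; D ⊆ X is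
a finite closed set of points each having an open neighbourhood smooth over k; ω_X is the dualizing
module of X (degree -1 cohomology sheaf of f^! O for the structure morphism f, for any choice of the
data Rf_* on D_QCoh with its right adjoint); L_D is an invertible module with L_D ⊗ I_D ≅ O_X for
the ideal sheaf I_D of D with its reduced structure. Let (V, E, ends) be the dual graph of X over k
(vertices = irreducible components C_v, edges = singular points, each edge joining the components
through its node). Then (X, D) is stable, i.e. ω_X ⊗ L_D is ample, if and only if for every vertex v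
one has 2 p_a(C_v) - 2 + e_v + d_v > 0, where p_a(C_v) = dim_k H^1(C_v, O) for the reduced component
C_v, e_v is the number of nodes of X lying on C_v and on another component (non-loop edges at v) and
d_v is the number of marked points on C_v. (The published criterion is stated per component C̃_v of
the normalisation as 2 g(C̃_v) - 2 + n(C̃_v) > 0, n(C̃_v) counting its points over D and over the
nodes of X; since p_a(C_v) = g(C̃_v) + (number of nodes of X lying on C_v alone) and each such node
has two preimages in C̃_v, the two counts agree.) -/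
theorem result (k : Type u) [Field k] [IsAlgClosed k] (X : Scheme.{u}) [X.Over (Spec (CommRingCat.of k))]
    [IsProper (X ↘ (Spec (CommRingCat.of k)))] [ConnectedSpace X] (hdim : topologicalKrullDim X = 1) (hX : Curv2.AtWorstNodal k X)
    [DCoh.HasRpush (X ↘ (Spec (CommRingCat.of k)))] (h : DCoh.RpushPreservesQCoh (X ↘ (Spec (CommRingCat.of k)))) [DCoh.HasShriek (X ↘ (Spec (CommRingCat.of k))) h]
    (OY : DCoh.DQCoh (Spec (CommRingCat.of k))) (hOY : Nonempty (OY.obj ≅ DCoh.inD (Spec (CommRingCat.of k)) (Coh.structureModule (Spec (CommRingCat.of k)))))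
    (D : Set X) (hDfin : D.Finite) (hDcl : IsClosed D) (hDsm : ∀ x ∈ D, ∃ U : X.Opens, x ∈ U ∧ Smooth (U.ι ≫ (X ↘ (Spec (CommRingCat.of k)))))
    (LD : X.Modules) (hLD : PicF.IsInvertible LD)
    (hinv : ClSub.IsInverseOf LD (ClSub.idealMod (Scheme.IdealSheafData.vanishingIdeal (⟨D, hDcl⟩ : TopologicalSpace.Closeds X))))
    (V E : Type u) [Finite E] (cv : V → Set X) (ce : E → X) (ends : E → V × V)
    (hΓ : DualGr.IsDualGraph (X ↘ (Spec (CommRingCat.of k))) cv ce ends) :
    CohB1.IsAmple (CohB1.tensorMod (DCoh.dualizingMod (X ↘ (Spec (CommRingCat.of k))) h OY 1) LD) ↔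
      ∀ v : V, 0 < 2 * (@Curv2.genus k _ (Scheme.IdealSheafData.vanishingIdeal (⟨cv v, isClosed_of_mem_irreducibleComponents (cv v) (hΓ.comp_mem v)⟩ : TopologicalSpace.Closeds X)).subscheme ⟨(Scheme.IdealSheafData.vanishingIdeal (⟨cv v, isClosed_of_mem_irreducibleComponents (cv v) (hΓ.comp_mem v)⟩ : TopologicalSpace.Closeds X)).subschemeι ≫ (X ↘ (Spec (CommRingCat.of k)))⟩ : ℤ) - 2 +
        (Nat.card {e : E // (ends e).1 ≠ (ends e).2 ∧ ((ends e).1 = v ∨ (ends e).2 = v)} : ℤ) +
        (Nat.card ↥(D ∩ cv v) : ℤ) := by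
  have hinv' := hinv; clear hinv
  haveI : IsProper (X ↘ Spec (CommRingCat.of k)) := inferInstance
  haveI := Groth.L21.RR.isNoetherian_of_proper (X := X) k
  obtain ⟨t, ht⟩ := Groth.L21.CurveDual.exists_isRDual k hdim.le h OY hOY
  obtain ⟨hconn, hred, hgen, hsetup⟩ := Groth.L21.CurveAdj.nodal_setup (k := k) hdim
    (haveI := (Groth.L21.CurveAdj.nodal_reduced (k := k) hdim hX).1; Groth.L21.CurveAdj.h0_eq_one_of_connected) hX
  haveI := hred
  obtain ⟨S, hinv⟩ := hsetup _ t ht
  haveI : JacobsonSpace X := LocallyOfFiniteType.jacobsonSpace (X ↘ Spec (CommRingCat.of k))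
  have hpts : ∀ x ∈ D, IsClosed ({x} : Set X) := fun x hx => by
    have hfin : (D ∩ closedPoints X).Finite := hDfin.subset Set.inter_subset_left
    have hcl : IsClosed (D ∩ closedPoints X) := by
      rw [← Set.biUnion_of_singleton (D ∩ closedPoints X)]
      exact hfin.isClosed_biUnion fun y hy => hy.2
    have h1 : closure (D ∩ closedPoints X) = D := JacobsonSpace.closure_inter_closedPoints hDcl
    rw [hcl.closure_eq] at h1
    exact (h1.ge hx).2
  obtain ⟨hMinv, hMdeg, hdata⟩ :=
    Groth.L21.CurveAdj.pointed_data (M := CohB1.tensorMod (DCoh.dualizingMod (X ↘ (Spec (CommRingCat.of k))) h OY 1) LD)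
      hX S hgen hinv hDcl hDfin hpts hinv' ⟨Iso.refl _⟩
  have hedge : ∀ v : V, Nat.card {e : E // (ends e).1 ≠ (ends e).2 ∧ ((ends e).1 = v ∨ (ends e).2 = v)} =
      (cv v ∩ closure (cv v)ᶜ).ncard := by
    intro v
    obtain ⟨hr, hcn, hgC⟩ := Groth.L21.CurveAdj.component hgen (cv v) (hΓ.comp_mem v)
    haveI := hr
    have hVJ := Groth.L21.CurveAdj.van_of_isReduced hdim.le _ hgC
    have hsuppC := Groth.L21.CurveAdj.coe_support_IC (cv v) (hΓ.comp_mem v)
    have hmem : ∀ e : E, (ends e).1 ≠ (ends e).2 ∧ ((ends e).1 = v ∨ (ends e).2 = v) →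
        ce e ∈ cv v ∩ closure (cv v)ᶜ := by
      rintro e ⟨hne, hv⟩
      refine ⟨(hΓ.incidence e v).1 hv, ?_⟩
      obtain ⟨v', hv', hne'⟩ : ∃ v', ((ends e).1 = v' ∨ (ends e).2 = v') ∧ v' ≠ v := by
        rcases hv with hv | hv
        · exact ⟨_, Or.inr rfl, fun e' => hne (hv.trans e'.symm)⟩
        · exact ⟨_, Or.inl rfl, fun e' => hne (e'.trans hv.symm)⟩
      obtain ⟨η, hη⟩ := QuasiSober.sober (hΓ.comp_mem v').1
        (isClosed_of_mem_irreducibleComponents _ (hΓ.comp_mem v'))
      have hηv : η ∉ cv v := fun hη' => by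
        have hle : cv v' ⊆ cv v := hη.def.symm.le.trans
          (closure_minimal (Set.singleton_subset_iff.2 hη') (isClosed_of_mem_irreducibleComponents _ (hΓ.comp_mem v)))
        exact hne' (hΓ.comp_injective (subset_antisymm hle ((hΓ.comp_mem v').2 (hΓ.comp_mem v).1 hle)))
      exact closure_mono (Set.singleton_subset_iff.2 hηv) (hη.def.ge ((hΓ.incidence e v').1 hv'))
    rw [← Nat.card_coe_set_eq]
    refine Nat.card_congr (Equiv.ofBijective (fun e => ⟨ce e.1, hmem e.1 e.2⟩)
      ⟨fun e e' he => Subtype.ext (hΓ.pt_injective (congrArg Subtype.val he)), ?_⟩)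
    rintro ⟨x, hxv, hxc⟩
    have hns : x ∈ DualGr.nonsmoothPts (X ↘ Spec (CommRingCat.of k)) := fun hfs => by
      let U := (X ↘ Spec (CommRingCat.of k)).smoothLocus
      have hU : Smooth (U.ι ≫ (X ↘ Spec (CommRingCat.of k))) := by
        rw [← Scheme.Hom.smoothLocus_eq_top_iff, ← Scheme.Hom.preimage_smoothLocus_eq]
        exact Scheme.Opens.ι_preimage_self U
      exact Groth.L21.CurveAdj.notMem_smooth_of_inter (k := k) hgen hdim.le hVJ (hsuppC.ge hxv)
        (by rw [hsuppC]; exact hxc) U (show x ∈ U from hfs) hU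
    obtain ⟨e, rfl⟩ := hΓ.pt_surjective x hns
    have hv := (hΓ.incidence e v).2 hxv
    refine ⟨⟨e, fun heq => ?_, hv⟩, rfl⟩
    let T : Set X := {w | ¬ IsClosed ({w} : Set X) ∧ w ∉ cv v}
    have hT : T.Finite := (Groth.L22.CurveDeg.finite_nonclosed hdim.le).subset fun w hw => hw.1
    have hsub : closure (cv v)ᶜ ⊆ ⋃ w ∈ T, closure {w} := by
      refine closure_minimal (fun z hz => ?_) (hT.isClosed_biUnion fun w _ => isClosed_closure)
      obtain ⟨w, hw, hwz⟩ := hgen z
      exact Set.mem_biUnion (show w ∈ T from ⟨hw, fun h => hz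
        (hwz.mem_closed (isClosed_of_mem_irreducibleComponents _ (hΓ.comp_mem v)) h)⟩) (specializes_iff_mem_closure.1 hwz)
    obtain ⟨w, hw, hxw⟩ := Set.mem_iUnion₂.1 (hsub hxc)
    obtain ⟨v', hv'⟩ := hΓ.comp_surjective (closure {w})
      (Groth.L21.CurveAdj.closure_mem_components hdim.le hw.1)
    have hv'' := (hΓ.incidence e v').2 (hv'.symm ▸ hxw)
    have hvv : v' = v := by
      rcases hv with hv | hv <;> rcases hv'' with hv'' | hv''
      · exact hv''.symm.trans hv
      · exact (hv''.symm.trans heq.symm).trans hv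
      · exact (hv''.symm.trans heq).trans hv
      · exact hv''.symm.trans hv
    exact hw.2 (hvv ▸ hv' ▸ subset_closure rfl)
  have hterm : ∀ (v : V),
      Groth.L21.CurveAdj.degOn k (CohB1.tensorMod (DCoh.dualizingMod (X ↘ (Spec (CommRingCat.of k))) h OY 1) LD)
        (Groth.L21.CurveAdj.IC (cv v) (hΓ.comp_mem v)) =
      2 * (@Curv2.genus k _ (Groth.L21.CurveAdj.IC (cv v) (hΓ.comp_mem v)).subscheme ⟨(Groth.L21.CurveAdj.IC (cv v) (hΓ.comp_mem v)).subschemeι ≫ (X ↘ (Spec (CommRingCat.of k)))⟩ : ℤ) - 2 +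
        (Nat.card {e : E // (ends e).1 ≠ (ends e).2 ∧ ((ends e).1 = v ∨ (ends e).2 = v)} : ℤ) +
        (Nat.card ↥(D ∩ cv v) : ℤ) := by
    intro v
    obtain ⟨h1, h2, -⟩ := Groth.L21.CurveAdj.component hgen (cv v) (hΓ.comp_mem v)
    obtain ⟨a, c, e, ha, hc, he, hw, -⟩ :=
      hdata _ h1 h2 (Groth.L21.CurveAdj.dim_component hdim.le hgen (cv v) (hΓ.comp_mem v)).1
    rw [Groth.L21.CurveAdj.coe_support_IC] at hc he
    rw [hw, hedge v, hc, he]
    simp only [Groth.L21.RR.h] at ha
    rw [Curv2.genus, ha]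
  rw [Groth.L21.CurveAdj.isAmple_iff_degOn (k := k) hdim.le hgen hMinv]
  constructor
  · intro hA v
    have := hA (cv v) (hΓ.comp_mem v)
    rw [hterm] at this
    exact this
  · intro hA C hC
    obtain ⟨v, rfl⟩ := hΓ.comp_surjective C hC
    rw [hterm v]
    exact hA v

end Groth.Agent.S16294
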