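import Groth.Statements.S16298
import Groth.Agent.L21.RR.BirationalGenus
import Groth.Agent.L22.BM.NormIso
import Groth.Agent.L18.NormalizationGeneric

set_option autoImplicit false
set_option backward.isDefEq.respectTransparency false
set_option backward.isDefEq.respectTransparency.types false
universe u
open CategoryTheory CategoryTheory.Limits AlgebraicGeometry
open Curves

namespace Groth.Agent.S16298

/-- Let k be a field and X a genus-zero curve over k, that is, an integral scheme proper over k of
dimension one with H^1(X, O_X) = 0. Then the normalization Y of X again satisfies H^1(Y, O_Y) = 0,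
so Y is again a genus-zero curve. (The two instance binders on the morphism from the generic point
always hold; they are only needed to form the normalization.) -/
theorem result (k : Type u) [Field k] (X : Scheme.{u}) [X.Over (Spec (CommRingCat.of k))]
    [IsIntegral X] [IsProper (X ↘ (Spec (CommRingCat.of k)))] (hdim : topologicalKrullDim X = 1)
    (h1 : Subsingleton (Coh.HH X (Coh.structureModule X) 1))
    [QuasiCompact (X.fromSpecStalk (genericPoint X))] [QuasiSeparated (X.fromSpecStalk (genericPoint X))] :
    Subsingleton (Coh.HH (Curv2.normalization X) (Coh.structureModule (Curv2.normalization X)) 1) := by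
  have hgX : X.fromSpecStalk (genericPoint X) =
      Spec.map (CommRingCat.ofHom (RingHom.id X.functionField)) ≫ X.fromSpecStalk (genericPoint X) := by simp
  haveI : IsFinite (Curv2.normalizationι X) :=
    Groth.L18.NormField.isFinite_fromNormalization (K := X.functionField) (φ := RingHom.id X.functionField)
      (X ↘ (Spec (CommRingCat.of k))) (RingHom.Finite.id _) hgX
  haveI := Groth.L21.RR.isNoetherian_of_proper (X := X) k
  letI : (Curv2.normalization X).Over (Spec (CommRingCat.of k)) :=
    ⟨Curv2.normalizationι X ≫ X ↘ Spec (CommRingCat.of k)⟩
  obtain ⟨W, hW, hiso⟩ := Groth.L22.BM.exists_isIso_normalizationι X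
  haveI := hiso
  have hle := Groth.L21.RR.genus_le_of_closedImmersion_over_dense (Curv2.normalizationι X) k hdim.le rfl
    (U := W) (W.isOpen.dense hW)
  have hz : Curv2.genus k X = 0 := Groth.L21.RR.h_eq_zero_of_subsingleton k h1
  haveI : IsProper ((Curv2.normalization X) ↘ Spec (CommRingCat.of k)) :=
    inferInstanceAs (IsProper (Curv2.normalizationι X ≫ X ↘ Spec (CommRingCat.of k)))
  haveI := Groth.L21.RR.isNoetherian_of_proper (X := Curv2.normalization X) k
  haveI := Groth.L21.RR.finite_HH' k (Groth.L16.CohClosedPush.isCoh_structure (X := Curv2.normalization X)) 1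
  have hr : Module.finrank k (Coh.HH (Curv2.normalization X) (Coh.structureModule (Curv2.normalization X)) 1) = 0 := by
    have : Curv2.genus k (Curv2.normalization X) = 0 := by omega
    exact this
  exact Module.finrank_zero_iff.1 hr

end Groth.Agent.S16298
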