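import Groth.Statements.S16299
import Groth.Agent.L21.GenusOne.GlobGen

set_option autoImplicit false
set_option backward.isDefEq.respectTransparency false
universe u
open CategoryTheory CategoryTheory.Limits AlgebraicGeometry
open Curves

namespace Groth.Agent.S16299

/-- Let k be a field and X a Gorenstein genus-one curve over k: an integral scheme, proper over k, of
dimension one, all of whose local rings are Gorenstein, with dim_k H^1(X, O_X) = 1. Let L be an
invertible O_X-module of degree at least 2 over k. Then the base locus of L is contained in the
non-regular locus of X: for every point x of X whose local ring is regular there is a global section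
s : O_X → L with x in the open X_s where s generates L. -/
theorem result (k : Type u) [Field k] (X : Scheme.{u}) [X.Over (Spec (CommRingCat.of k))]
    [IsIntegral X] [IsProper (X ↘ (Spec (CommRingCat.of k)))] (hdim : topologicalKrullDim X = 1)
    (hgor : ∀ x : X, LocCoh.IsGorensteinLocalRing (X.presheaf.stalk x)) (hg : Curv2.genus k X = 1)
    (L : X.Modules) (hL : PicF.IsInvertible L) (hdeg : 2 ≤ Curv2.deg k X L 1)
    (x : X) (hx : IsRegularLocalRing (X.presheaf.stalk x)) :
    ∃ s : Coh.structureModule X ⟶ L, x ∈ CohB1.genLocus L s := by
  haveI : IsProper (X ↘ Spec (CommRingCat.of k)) := inferInstance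
  haveI := Groth.L21.RR.isNoetherian_of_proper (X := X) k
  obtain ⟨z, hz, hxz⟩ := Groth.L21.RR.exists_closed_specialization x
  obtain ⟨φ, hφ⟩ := Groth.L21.GenusOne.GG.exists_surjective_st k hdim.le hg hL hdeg hz
  exact ⟨φ, (Groth.L21.CurveAdj.mem_genLocus_iff' hL φ x).2 (Groth.L21.RR.surjective_st_of_specializes hL hxz hφ)⟩

end Groth.Agent.S16299
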