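
import Groth.Statements.S1630
import Groth.Agent.L22.GeomConn.Irred

set_option autoImplicit false
universe u
open CategoryTheory CategoryTheory.Limits AlgebraicGeometry
open Variety

namespace Groth.Agent.S1630

/-- Let X be a scheme over k. If X has a cover by a nonempty family of open subschemes, each
geometrically irreducible over k and any two of which meet, then X is geometrically irreducible over
k. -/
theorem result (k : Type u) [Field k] (X : Scheme.{u}) [X.Over (Spec (CommRingCat.of k))]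
    (ι : Type u) (U : ι → X.Opens) (hne : Nonempty ι) (hcov : (⨆ i, U i) = ⊤)
    (hmeet : ∀ i j, ((U i : Set X) ∩ (U j : Set X)).Nonempty)
    (hU : ∀ i, GeometricallyIrreducible ((U i).ι ≫ (X ↘ (Spec (CommRingCat.of k))))) : GeometricallyIrreducible (X ↘ (Spec (CommRingCat.of k))) := by
  let f := X ↘ Spec (CommRingCat.of k)
  let kb := AlgebraicClosure k
  have hirr : ∀ i, IsIrreducible (FBase.bcπ f kb ⁻¹' (U i : Set X)) := fun i => by
    haveI := hU i
    haveI : IrreducibleSpace ↥(Limits.pullback ((U i).ι ≫ f) (Spec.map (CommRingCat.ofHom (algebraMap k kb)))) :=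
      AlgebraicGeometry.geometrically_iff_of_isClosedUnderIsomorphisms.mp
        GeometricallyIrreducible.geometrically_irreducibleSpace _ _
    let m := Limits.pullback.map ((U i).ι ≫ f) (Spec.map (CommRingCat.ofHom (algebraMap k kb))) f
      (Spec.map (CommRingCat.ofHom (algebraMap k kb))) (U i).ι (𝟙 _) (𝟙 _)
      (by rw [Category.comp_id]) (by rw [Category.comp_id, Category.id_comp])
    have e : Set.range m = FBase.bcπ f kb ⁻¹' (U i : Set X) := by
      refine (Scheme.Pullback.range_map _ _ _ _ _ _ _ _ _).trans ?_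
      rw [Scheme.Opens.range_ι]
      exact Set.inter_eq_left.2 fun v _ => ⟨(FBase.bcStr f kb).base v, rfl⟩
    rw [← e, ← Set.image_univ]
    exact (IrreducibleSpace.isIrreducible_univ _).image m m.continuous.continuousOn
  obtain ⟨i₀⟩ := hne
  haveI : IrreducibleSpace ↥(FBase.bc f kb) := by
    obtain ⟨a, ha⟩ := (hirr i₀).nonempty
    have hcov' : ∀ z : ↥(FBase.bc f kb), ∃ i, FBase.bcπ f kb z ∈ U i := fun z =>
      TopologicalSpace.Opens.mem_iSup.1 (hcov ▸ (trivial : FBase.bcπ f kb z ∈ (⊤ : X.Opens)))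
    refine { toPreirreducibleSpace := ⟨fun V W hV hW ⟨v, _, hv⟩ ⟨w, _, hw⟩ => ?_⟩, toNonempty := ⟨a⟩ }
    obtain ⟨i, hi⟩ := hcov' v
    obtain ⟨j, hj⟩ := hcov' w
    obtain ⟨x, hxi, hxj⟩ := hmeet i j
    obtain ⟨z, rfl⟩ := (FBase.bcπ f kb).surjective x
    have hopen := fun i => (U i).isOpen.preimage (FBase.bcπ f kb).continuous
    obtain ⟨b, hb, hbV, hbj⟩ := (hirr i).2 V _ hV (hopen j) ⟨v, hi, hv⟩ ⟨z, hxi, hxj⟩
    obtain ⟨c, -, ⟨-, hcV⟩, hcW⟩ := (hirr j).2 _ W ((hopen i).inter hV) hW ⟨b, hbj, hb, hbV⟩ ⟨w, hj, hw⟩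
    exact ⟨c, trivial, hcV, hcW⟩
  exact Groth.L22.GeomConn.geometricallyIrreducible_of_sepClosed f kb

end Groth.Agent.S1630
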