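import Groth.Statements.S16301
import Groth.Agent.L05.GenusZeroGen.Basic

set_option autoImplicit false
universe u
open CategoryTheory CategoryTheory.Limits AlgebraicGeometry
open Curves

namespace Groth.Agent.S16301
set_option backward.isDefEq.respectTransparency false
set_option backward.isDefEq.respectTransparency.types false
set_option linter.style.haveILetI false

/-- Let k be an infinite field and X a genus-zero curve over k, that is, an integral scheme proper over
k of dimension one with H^1(X, O_X) = 0. Let P be a closed point of X whose local ring is regular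
and whose degree deg_k P = dim_k H^0(P, O_P) is least among all closed points of X with regular
local ring, and let I_P be the ideal sheaf of the reduced point P (an invertible module, P being a
regular point of a curve; this is carried as a hypothesis). Then the Picard group of X is generated
by the class of I_P, equivalently by O_X(P): every class of an invertible O_X-module is an integer
power of the class of I_P (the group law on the Picard group is the tensor product, supplied by the
binder). (The published statement is for an arbitrary base field; this row assumes k infinite, the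
case in which the published argument applies: it twice replaces an ample divisor by a member of its
base-point-free complete linear system whose support avoids the finitely many non-regular points of
X, and over a finite field such a member need not exist.) -/
theorem result (k : Type u) [Field k] [Infinite k] (X : Scheme.{u}) [X.Over (Spec (CommRingCat.of k))]
    [IsIntegral X] [IsProper (X ↘ (Spec (CommRingCat.of k)))] (hdim : topologicalKrullDim X = 1)
    (h1 : Subsingleton (Coh.HH X (Coh.structureModule X) 1))
    (P : X) (hPc : IsClosed ({P} : Set X)) (hPreg : IsRegularLocalRing (X.presheaf.stalk P))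
    (hmin : ∀ (Q : X) (hQc : IsClosed ({Q} : Set X)), IsRegularLocalRing (X.presheaf.stalk Q) →
      Module.finrank k (Coh.HH X (ClSub.quotMod (Scheme.IdealSheafData.vanishingIdeal ⟨{P}, hPc⟩)) 0) ≤ Module.finrank k (Coh.HH X (ClSub.quotMod (Scheme.IdealSheafData.vanishingIdeal ⟨{Q}, hQc⟩)) 0))
    (hI : PicF.IsInvertible (ClSub.idealMod (Scheme.IdealSheafData.vanishingIdeal ⟨{P}, hPc⟩))) [PicGrp.Law X]
    (c : PicLoc.PicSet X) :
    c ∈ Subgroup.zpowers (PicGrp.cls (ClSub.idealMod (Scheme.IdealSheafData.vanishingIdeal ⟨{P}, hPc⟩)) hI) := by
  haveI := Groth.L21.RR.isNoetherian_of_proper (X := X) k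
  letI : Algebra k (X.residueField P) := Curv2.resAlgebra k X P
  set g := PicGrp.cls (ClSub.idealMod (Scheme.IdealSheafData.vanishingIdeal ⟨{P}, hPc⟩)) hI with hg
  set d : ℤ := (Module.finrank k (X.residueField P) : ℤ) with hd
  have hgd : Groth.L05.GenusZeroGen.degCls k g = -d := by
    rw [hg, Groth.L05.GenusZeroGen.degCls_cls, Groth.L05.GenusZeroGen.deg_pointIdeal k hdim hPc hI]
  have hdpos : 0 < d := by
    haveI := Groth.L21.Disc.finite_residueField_of_isClosed k hPc
    rw [hd]
    exact_mod_cast (Module.finrank_pos (R := k) (M := X.residueField P))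
  set n : ℤ := Groth.L05.GenusZeroGen.degCls k c / d
  obtain ⟨M, hM, hcM⟩ := PicGrp.exists_eq_cls (c * g ^ n)
  have hdeg : Curv2.deg k X M 1 = Groth.L05.GenusZeroGen.degCls k c % d := by
    rw [← Groth.L05.GenusZeroGen.degCls_cls k hM, ← hcM, Groth.L05.GenusZeroGen.degCls_mul_zpow k hdim, hgd,
      Int.emod_def]
    show _ + Groth.L05.GenusZeroGen.degCls k c / d * -d = _
    rw [mul_neg, mul_comm d, sub_eq_add_neg]
  have h0 : Curv2.deg k X M 1 = 0 := by
    by_contra hne
    have hge : 0 ≤ Curv2.deg k X M 1 := hdeg ▸ Int.emod_nonneg _ hdpos.ne'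
    obtain ⟨x, hxc, hxF, hxle⟩ := Groth.L05.GenusZeroGen.exists_point_le (k := k) hdim.le h1 hM
      (lt_of_le_of_ne hge (Ne.symm hne)) (Groth.L05.GenusZeroGen.finite_singular k hdim.le).1
    simp only [Set.mem_ofPred_eq, not_not] at hxF
    have hmin' := hmin x hxc hxF
    have e1 := Groth.L05.GenusZeroGen.h0_pointQuot k hdim hPc
    have e2 := Groth.L05.GenusZeroGen.h0_pointQuot k hdim hxc
    simp only [Groth.L21.RR.h] at e1 e2
    rw [e1, e2] at hmin'
    have hlt : Curv2.deg k X M 1 < d := hdeg ▸ Int.emod_lt_of_pos _ hdpos
    have hmin'' : (Module.finrank k (X.residueField P) : ℤ) ≤ _ := Int.ofNat_le.2 hmin'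
    linarith
  obtain ⟨e⟩ := Groth.L05.GenusZeroGen.trivial_of_deg_zero (k := k) hdim.le h1 hM h0
  have hone : c * g ^ n = 1 := by
    rw [hcM, ← PicGrp.cls_structureModule_eq_one, PicGrp.cls_eq_cls_iff]
    exact ⟨e.symm⟩
  exact Subgroup.mem_zpowers_iff.2 ⟨-n, by rw [zpow_neg, eq_inv_of_mul_eq_one_left hone]⟩

end Groth.Agent.S16301
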