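import Groth.Statements.S16302
import Groth.Agent.L05.GenusZeroGen.Basic

set_option autoImplicit false
universe u
open CategoryTheory CategoryTheory.Limits AlgebraicGeometry
open Curves

namespace Groth.Agent.S16302
set_option backward.isDefEq.respectTransparency false
set_option backward.isDefEq.respectTransparency.types false
set_option linter.style.haveILetI false

/-- Let k be an infinite field and X a genus-zero curve over k, that is, an integral scheme proper over
k of dimension one with H^1(X, O_X) = 0. Then the set of closed points P of X whose local ring is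
regular and whose degree deg_k P = dim_k H^0(P, O_P) is least among all closed points with regular
local ring is infinite. -/
theorem result (k : Type u) [Field k] (X : Scheme.{u}) [X.Over (Spec (CommRingCat.of k))] [Infinite k]
    [IsIntegral X] [IsProper (X ↘ (Spec (CommRingCat.of k)))] (hdim : topologicalKrullDim X = 1)
    (h1 : Subsingleton (Coh.HH X (Coh.structureModule X) 1)) :
    {P : X | ∃ hPc : IsClosed ({P} : Set X), IsRegularLocalRing (X.presheaf.stalk P) ∧
      ∀ (Q : X) (hQc : IsClosed ({Q} : Set X)), IsRegularLocalRing (X.presheaf.stalk Q) →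
        Module.finrank k (Coh.HH X (ClSub.quotMod (Scheme.IdealSheafData.vanishingIdeal ⟨{P}, hPc⟩)) 0) ≤ Module.finrank k (Coh.HH X (ClSub.quotMod (Scheme.IdealSheafData.vanishingIdeal ⟨{Q}, hQc⟩)) 0)}.Infinite := by
  classical
  haveI := Groth.L21.RR.isNoetherian_of_proper (X := X) k
  letI : ∀ x : X, Algebra k (X.residueField x) := fun x => Curv2.resAlgebra k X x
  have hdeg : ∀ (x : X) (hx : IsClosed ({x} : Set X)),
      Module.finrank k (Coh.HH X (ClSub.quotMod (Scheme.IdealSheafData.vanishingIdeal ⟨{x}, hx⟩)) 0) =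
        Module.finrank k (X.residueField x) :=
    fun x hx => Groth.L05.GenusZeroGen.h0_pointQuot k hdim hx
  have hex : ∃ d : ℕ, ∃ x : X, IsClosed ({x} : Set X) ∧ IsRegularLocalRing (X.presheaf.stalk x) ∧
      Module.finrank k (X.residueField x) = d := by
    obtain ⟨x, hxc, hxr⟩ := Groth.L05.GenusZeroGen.exists_regular_closed (X := X) k
    exact ⟨_, x, hxc, hxr, rfl⟩
  obtain ⟨P, hPc, hPr, hPd⟩ := Nat.find_spec hex
  have hI := Groth.L05.GenusZeroGen.isInvertible_pointIdeal k hdim hPc hPr
  obtain ⟨M, hM, ⟨e⟩⟩ := Groth.L08.Cube.exists_inverse hI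
  have hMd : Curv2.deg k X M 1 = (Nat.find hex : ℤ) := by
    rw [Groth.L21.Bundle.deg_inverse k hdim hI hM e, Groth.L05.GenusZeroGen.deg_pointIdeal k hdim hPc hI,
      neg_neg, hPd]
  have hpos : 0 < Curv2.deg k X M 1 := by
    haveI := Groth.L21.Disc.finite_residueField_of_isClosed k hPc
    rw [hMd, ← hPd]
    exact_mod_cast (Module.finrank_pos (R := k) (M := X.residueField P))
  intro hfin
  obtain ⟨x, hxc, hxF, hxle⟩ := Groth.L05.GenusZeroGen.exists_point_le (k := k) hdim.le h1 hM hpos
    ((Groth.L05.GenusZeroGen.finite_singular k hdim.le).1.union hfin)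
  rw [Set.mem_union, not_or] at hxF
  have hxr : IsRegularLocalRing (X.presheaf.stalk x) := not_not.1 hxF.1
  rw [hMd] at hxle
  refine hxF.2 ⟨hxc, hxr, fun Q hQc hQr => ?_⟩
  rw [hdeg x hxc, hdeg Q hQc]
  exact (Int.ofNat_le.1 hxle).trans (Nat.find_min' hex ⟨Q, hQc, hQr, rfl⟩)

end Groth.Agent.S16302
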