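import Groth.Statements.S16304
import Groth.Agent.L18.CounitGen
import Groth.Agent.L13.RatSing.Birat
import Groth.Agent.L04.KSh.Div.Twisted
import Groth.Agent.L20.SeeNormal.Sheaf
import Groth.Agent.L20.FlatClosed.Basic
import Groth.Agent.L22.CartierDecomp

set_option autoImplicit false
universe u
open CategoryTheory CategoryTheory.Limits AlgebraicGeometry
open Resolve

namespace Groth.Agent.S16304
set_option backward.isDefEq.respectTransparency false
set_option backward.isDefEq.respectTransparency.types false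
set_option linter.style.haveILetI false

/-- Let k be a field and X a normal surface over k (an integral normal scheme, separated and of finite
type over k, of dimension two) whose only non-regular point is the closed point P, and f : Y → X a
resolution: a proper morphism from an integral scheme Y of dimension two with all local rings
regular, restricting to an isomorphism over the complement of P. Let V be an effective Cartier
divisor on Y, given by a quasi-coherent ideal sheaf O_Y(-V) that is an invertible module, such that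
P lies in f(Supp V) and O_Y(-V) is f-free, that is, the counit f^* f_* O_Y(-V) → O_Y(-V) is an
epimorphism. Then O_Y(-V) is contained in m_P O_Y, the inverse image ideal sheaf of the ideal of the
reduced point P. -/
theorem result (k : Type u) [Field k] (X : Scheme.{u}) [X.Over (Spec (CommRingCat.of k))]
    [IsIntegral X] [IsSeparated (X ↘ (Spec (CommRingCat.of k)))] [LocallyOfFiniteType (X ↘ (Spec (CommRingCat.of k)))]
    [CompactSpace X] (hdim : topologicalKrullDim X = 2) (hnorm : Pi1.IsNormalScheme X)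
    (P : X) (hPc : IsClosed ({P} : Set X)) (hP : ¬ IsRegularLocalRing (X.presheaf.stalk P))
    (hreg : ∀ x : X, x ≠ P → IsRegularLocalRing (X.presheaf.stalk x))
    (Y : Scheme.{u}) (f : Y ⟶ X) [IsIntegral Y] (hdimY : topologicalKrullDim Y = 2)
    (hregY : ∀ y : Y, IsRegularLocalRing (Y.presheaf.stalk y)) [IsProper f]
    (hiso : IsIso (f ∣_ ⟨({P} : Set X)ᶜ, hPc.isOpen_compl⟩))
    (V : Y.IdealSheafData) (hV : PicF.IsInvertible (ClSub.idealMod V)) (hPV : P ∈ f.base '' (V.support : Set Y))
    (hfree : Epi ((Scheme.Modules.pullbackPushforwardAdjunction f).counit.app (ClSub.idealMod V))) :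
    V ≤ (Scheme.IdealSheafData.vanishingIdeal ⟨{P}, hPc⟩).comap f := by
  classical
  haveI : IsLocallyNoetherian X := LocallyOfFiniteType.isLocallyNoetherian (X ↘ Spec (CommRingCat.of k))
  let O : X.Opens := ⟨({P} : Set X)ᶜ, hPc.isOpen_compl⟩
  have hOne : (O : Set X).Nonempty := by
    by_contra h
    haveI : Subsingleton X := ⟨fun a b => by
      have ha : a = P := by by_contra ha; exact h ⟨a, ha⟩
      have hb : b = P := by by_contra hb; exact h ⟨b, hb⟩
      rw [ha, hb]⟩
    have h2 : topologicalKrullDim X ≤ 0 :=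
      Groth.L19.topologicalKrullDim_eq_krullDim X ▸ (Order.krullDim_nonpos_iff_forall_isMax.2 fun a b _ => le_of_eq (Subsingleton.elim b a))
    rw [hdim] at h2
    exact absurd h2 (by decide)
  haveI := hiso
  haveI happ := Groth.L13.RatSing.isIso_app_of_isIso_restrict f hnorm O hOne
  set M := Scheme.IdealSheafData.vanishingIdeal (⟨{P}, hPc⟩ : TopologicalSpace.Closeds X)
  have key : ∀ y : Y, Groth.L20.SeeNormal.sI V y ≤ Groth.L20.SeeNormal.sI (M.comap f) y := by
    intro y
    by_cases hy : f y = P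
    swap
    · refine le_of_le_of_eq le_top (Groth.L20.FlatClosed.sI_eq_top fun h => hy ?_).symm
      have h' : y ∈ ((M.comap f).support : Set Y) := h
      rw [Scheme.IdealSheafData.support_comap] at h'
      have h'' : f y ∈ (M.support : Set X) := h'
      rw [Scheme.IdealSheafData.coe_support_vanishingIdeal] at h''
      exact h''
    obtain ⟨V₀, m, W, hW, hyW, hfr⟩ := Groth.L18.Ample.exists_section_of_counit_epi f hV hfree y
    obtain ⟨B, hB, hyB, hBW⟩ := exists_isAffineOpen_mem_and_subset (x := y) (U := W) hyW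
    have hBW' : B ≤ W := hBW
    have hframe := hfr.mono hBW'
    rw [Groth.L18.Frame.rs_rs] at hframe
    have hspan := Groth.L04.KSh.ideal_eq_span V (U := ⟨B, hB⟩) hframe
    obtain ⟨g, hg⟩ := (ConcreteCategory.bijective_of_isIso (f.app V₀)).2 (Groth.Agent.L19.IdealInvertible.io V _ m)
    have hPV₀ : P ∈ V₀ := hy ▸ hW hyW
    -- the section vanishes at `P`
    have hvan : P ∉ X.basicOpen g := by
      intro hgu
      obtain ⟨y₀, hy₀, hy₀P⟩ := hPV
      have hy₀U : y₀ ∈ f ⁻¹ᵁ V₀ := show f y₀ ∈ V₀ from hy₀P ▸ hPV₀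
      obtain ⟨B₀, hB₀, hyB₀, hB₀U⟩ := exists_isAffineOpen_mem_and_subset (x := y₀) (U := f ⁻¹ᵁ V₀) hy₀U
      have hmem := Groth.L04.KSh.io_mem_ideal V (U := ⟨B₀, hB₀⟩) (Groth.L18.Frame.rs _ (hB₀U : B₀ ≤ f ⁻¹ᵁ V₀) m)
      rw [Groth.Agent.L19.IdealInvertible.io_rs] at hmem
      have hnot := (Groth.L22.LocalDim.mem_basicOpen_iff hB₀ hyB₀ _).not.2
        (not_not.2 ((Groth.L22.CartierDecomp.mem_support_iff (U := ⟨B₀, hB₀⟩) hyB₀).1 hy₀ hmem))
      rw [← hg] at hnot
      refine hnot ?_
      refine Eq.ge (Scheme.basicOpen_res Y _ (homOfLE hB₀U).op) ?_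
      exact ⟨hyB₀, by rw [← Scheme.preimage_basicOpen]; exact show f y₀ ∈ X.basicOpen g from hy₀P ▸ hgu⟩
    obtain ⟨A, hA, hPA, hAV⟩ := exists_isAffineOpen_mem_and_subset (x := P) (U := V₀) hPV₀
    subst hy
    have hgM : (X.presheaf.map (homOfLE (hAV : A ≤ V₀)).op).hom g ∈ M.ideal ⟨A, hA⟩ := by
      rw [Scheme.IdealSheafData.vanishingIdeal_ideal, PrimeSpectrum.mem_vanishingIdeal]
      intro z hz
      by_contra hzg
      have h1 : hA.fromSpec z ∈ X.basicOpen ((X.presheaf.map (homOfLE (hAV : A ≤ V₀)).op).hom g) := by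
        have h2 : z ∈ PrimeSpectrum.basicOpen ((X.presheaf.map (homOfLE (hAV : A ≤ V₀)).op).hom g) := hzg
        rw [← hA.fromSpec_preimage_basicOpen] at h2
        exact h2
      rw [show hA.fromSpec z = f y from hz] at h1
      exact hvan ((Scheme.basicOpen_res X g (homOfLE (hAV : A ≤ V₀)).op).le h1).2
    have h1 : X.presheaf.germ V₀ (f y) hPV₀ g ∈ Groth.L20.SeeNormal.sI M (f y) := by
      rw [Groth.L20.SeeNormal.sI_eq M ⟨A, hA⟩ hPA, ← X.presheaf.germ_res_apply (homOfLE (hAV : A ≤ V₀)) (f y) hPA g]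
      exact Ideal.mem_map_of_mem _ hgM
    rw [Groth.L20.SeeNormal.sI_eq V ⟨B, hB⟩ hyB, hspan, Ideal.map_span, Set.image_singleton,
      Ideal.span_singleton_le_iff_mem, Groth.L20.SeeNormal.sI_comap]
    have h2 := Ideal.mem_map_of_mem (f.stalkMap y).hom h1
    rw [Scheme.Hom.germ_stalkMap_apply] at h2
    rw [Groth.Agent.L19.IdealInvertible.io_rs, ← hg]
    refine Eq.mpr (congrArg (· ∈ _) ?_) h2
    exact Y.presheaf.germ_res_apply (homOfLE (hBW'.trans hW)) y hyB _
  exact fun U => Groth.L20.SeeNormal.ideal_le_of_sI_le U fun y _ => key y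

end Groth.Agent.S16304
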