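import Groth.Statements.S16305
import Groth.Agent.L16.ZeroDim.Main
import Groth.Agent.L18.ZeroDim
import Groth.Agent.L06.Dim

set_option autoImplicit false
universe u
open CategoryTheory CategoryTheory.Limits AlgebraicGeometry
open ProjSp

namespace Groth.Agent.S16305

/-- Let k be a field and Z a zero-dimensional closed subscheme of projective N-space P^N_k, with closed
immersion i : Z → P^N_k. For an integer n write ρ_n : H^0(P^N_k, O(n)) → H^0(P^N_k, i_* i^* O(n)) =
H^0(Z, O(n)|_Z) for the map induced on global sections by the unit O(n) → i_* i^* O(n) (restriction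
of sections to Z). If the image of ρ_1 has codimension at most one in H^0(Z, O(1)|_Z), in the sense
that for some v every element is of the form ρ_1(s) + c v with c in k, then ρ_2 is surjective. -/
theorem result (k : Type u) [Field k] (N : ℕ)
    (Z : (CohB1.ProjSpace N k).IdealSheafData)
    (hZ : topologicalKrullDim (Z.support : Set (CohB1.ProjSpace N k)) ≤ 0) :
    letI : (CohB1.ProjSpace N k).Over (Spec (CommRingCat.of k)) := ⟨CohB1.ProjSpace.toSpec N k⟩
    (∃ v : (Coh.HH (CohB1.ProjSpace N k) ((Scheme.Modules.pushforward Z.subschemeι).obj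
        ((Scheme.Modules.pullback Z.subschemeι).obj (Twist.twistProjSpace N k 1))) 0),
      ∀ t : (Coh.HH (CohB1.ProjSpace N k) ((Scheme.Modules.pushforward Z.subschemeι).obj
        ((Scheme.Modules.pullback Z.subschemeι).obj (Twist.twistProjSpace N k 1))) 0),
        ∃ (s : Coh.HH (CohB1.ProjSpace N k) (Twist.twistProjSpace N k 1) 0) (c : k),
        t = @id (Coh.HH (CohB1.ProjSpace N k) ((Scheme.Modules.pushforward Z.subschemeι).obj
        ((Scheme.Modules.pullback Z.subschemeι).obj (Twist.twistProjSpace N k 1))) 0)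
          (Sheaf.H.map ((SheafOfModules.toSheaf (CohB1.ProjSpace N k).ringCatSheaf).map
            ((Scheme.Modules.pullbackPushforwardAdjunction Z.subschemeι).unit.app (Twist.twistProjSpace N k 1))) 0 s) + c • v) →
    Function.Surjective (fun s : Coh.HH (CohB1.ProjSpace N k) (Twist.twistProjSpace N k 2) 0 =>
      @id (Coh.HH (CohB1.ProjSpace N k) ((Scheme.Modules.pushforward Z.subschemeι).obj
        ((Scheme.Modules.pullback Z.subschemeι).obj (Twist.twistProjSpace N k 2))) 0)
          (Sheaf.H.map ((SheafOfModules.toSheaf (CohB1.ProjSpace N k).ringCatSheaf).map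
            ((Scheme.Modules.pullbackPushforwardAdjunction Z.subschemeι).unit.app (Twist.twistProjSpace N k 2))) 0 s)) := by
  letI : (CohB1.ProjSpace N k).Over (Spec (CommRingCat.of k)) := ⟨CohB1.ProjSpace.toSpec N k⟩
  intro hv
  obtain ⟨v, hv⟩ := hv
  let P := CohB1.ProjSpace N k
  let ι := Z.subschemeι
  haveI : IsProper (CohB1.ProjSpace.toSpec N k) := inferInstance
  haveI : LocallyOfFiniteType (ι ≫ CohB1.ProjSpace.toSpec N k) := inferInstance
  haveI : IsLocallyNoetherian Z.subscheme := LocallyOfFiniteType.isLocallyNoetherian (ι ≫ CohB1.ProjSpace.toSpec N k)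
  haveI : CompactSpace Z.subscheme := QuasiCompact.compactSpace_of_compactSpace (ι ≫ CohB1.ProjSpace.toSpec N k)
  haveI : IsNoetherian Z.subscheme := ⟨⟩
  have hdim : topologicalKrullDim Z.subscheme ≤ 0 := by
    have hmem : ∀ x, ι x ∈ (Z.support : Set P) := fun x => by
      rw [← Scheme.IdealSheafData.range_subschemeι Z]; exact ⟨x, rfl⟩
    exact ((ι.isEmbedding.isInducing.codRestrict hmem).topologicalKrullDim_le).trans hZ
  haveI := (Groth.L06.Dim.discreteTopology_of_dim_le_zero hdim).2
  haveI : IsAffine (⊤ : Z.subscheme.Opens).toScheme := Groth.L18.ZeroDim.isAffineOpen hdim ⊤ isCompact_univ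
  haveI : IsAffine Z.subscheme := IsAffine.of_isIso Z.subscheme.topIso.inv
  let hT : Limits.IsTerminal (⊤ : TopologicalSpace.Opens P) :=
    Limits.IsTerminal.ofUniqueHom (fun U => homOfLE le_top) (fun _ _ => Subsingleton.elim _ _)
  have hmap : ∀ {M M' : P.Modules} (φ : M ⟶ M') (x : Coh.HH P M 0),
      Sheaf.H.equiv₀ (Coh.toAb M') hT (Sheaf.H.map ((SheafOfModules.toSheaf P.ringCatSheaf).map φ) 0 x) =
        φ.app ⊤ (Sheaf.H.equiv₀ (Coh.toAb M) hT x) := fun φ x =>
    (Sheaf.H.equiv₀_naturality hT ((SheafOfModules.toSheaf P.ringCatSheaf).map φ) x).symm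
  have hsurj := Groth.L16.ZeroDim.res_two_surjective ι (by
    refine ⟨Sheaf.H.equiv₀ (Coh.toAb ((Scheme.Modules.pushforward ι).obj ((Scheme.Modules.pullback ι).obj
      (Twist.twistProjSpace N k 1)))) hT v, fun t => ?_⟩
    obtain ⟨s, c, hs⟩ := hv ((Sheaf.H.equiv₀ (Coh.toAb ((Scheme.Modules.pushforward ι).obj
      ((Scheme.Modules.pullback ι).obj (Twist.twistProjSpace N k 1)))) hT).symm t)
    refine ⟨Sheaf.H.equiv₀ (Coh.toAb (Twist.twistProjSpace N k 1)) hT s, c, ?_⟩
    have h2 := congrArg (Sheaf.H.equiv₀ (Coh.toAb ((Scheme.Modules.pushforward ι).obj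
      ((Scheme.Modules.pullback ι).obj (Twist.twistProjSpace N k 1)))) hT) hs
    rw [AddEquiv.apply_symm_apply, map_add] at h2
    refine h2.trans ?_
    refine congrArg₂ (· + ·) (hmap _ s) ?_
    exact (Sheaf.H.equiv₀_naturality hT (Coh.smulAb _ (Coh.toGlobal (CohB1.ProjSpace.toSpec N k) c)) v).symm.trans
      (Coh.smulAb_app _ _ _ _))
  intro y
  obtain ⟨s, hs⟩ := hsurj (Sheaf.H.equiv₀ (Coh.toAb ((Scheme.Modules.pushforward ι).obj
    ((Scheme.Modules.pullback ι).obj (Twist.twistProjSpace N k 2)))) hT y)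
  refine ⟨(Sheaf.H.equiv₀ (Coh.toAb (Twist.twistProjSpace N k 2)) hT).symm s, ?_⟩
  refine (Sheaf.H.equiv₀ (Coh.toAb ((Scheme.Modules.pushforward ι).obj
    ((Scheme.Modules.pullback ι).obj (Twist.twistProjSpace N k 2)))) hT).injective ((hmap _ _).trans ?_)
  exact (congrArg _ (AddEquiv.apply_symm_apply _ _)).trans hs
end Groth.Agent.S16305
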