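import Groth.Statements.S16307
import Groth.Agent.L21.GenusOne.NormGen
import Groth.Agent.L24.Multi.SepPoint

set_option autoImplicit false
set_option backward.isDefEq.respectTransparency false
universe u
open CategoryTheory CategoryTheory.Limits AlgebraicGeometry
open Curves

namespace Groth.Agent.S16307

/-- In the case of a separably closed base field and a curve that is not geometrically integral (the
case proved in the text), let k be a separably closed field and X a Gorenstein genus-one curve over
k: an integral scheme, proper over k, of dimension one, all of whose local rings are Gorenstein,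
with dim_k H^1(X, O_X) = 1 (so H^0(X, O_X) = k). Assume that X is not geometrically integral over k.
Let L be an invertible O_X-module of degree at least 3 over k. Then the section ring ⊕_{m ≥ 0}
H^0(X, L^{⊗ m}) is generated in degree one: for every m, the global sections of L^{⊗ m} ⊗ L = L^{⊗
(m+1)} are spanned over H^0(X, O_X) by the sections a ⊗ b with a a global section of L^{⊗ m} and b a
global section of L; and L is very ample: for some n there is a closed immersion i : X → P^n_k over
k with i^*O(1) isomorphic to L (existence of an isomorphism only). (The published statement is for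
an arbitrary base field and any Gorenstein genus-one curve; the text reduces to a separably closed
field, cites the literature for the geometrically integral case, and proves the remaining case,
which is the one stated here.) -/
theorem result (k : Type u) [Field k] (X : Scheme.{u}) [X.Over (Spec (CommRingCat.of k))] [IsSepClosed k]
    [IsIntegral X] [IsProper (X ↘ (Spec (CommRingCat.of k)))] (hdim : topologicalKrullDim X = 1)
    (hgor : ∀ x : X, LocCoh.IsGorensteinLocalRing (X.presheaf.stalk x)) (hg : Curv2.genus k X = 1)
    (hngi : ¬ GeometricallyIntegral (X ↘ (Spec (CommRingCat.of k))))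
    (L : X.Modules) (hL : PicF.IsInvertible L) (hdeg : 3 ≤ Curv2.deg k X L 1) :
    (∀ m : ℕ, Submodule.span (X.ringCatSheaf.obj.obj (Opposite.op ⊤))
        (Set.range (fun p : (CohB1.tensorPow L m).val.obj (Opposite.op ⊤) × L.val.obj (Opposite.op ⊤) =>
          SecTwist.tmul (CohB1.tensorPow L m) L ⊤ p.1 p.2)) = ⊤) ∧
    ∃ (n : ℕ) (i : X ⟶ CohB1.ProjSpace n k), IsClosedImmersion i ∧
      i ≫ CohB1.ProjSpace.toSpec n k = X ↘ (Spec (CommRingCat.of k)) ∧
      Nonempty ((Scheme.Modules.pullback i).obj (Twist.twistProjSpace n k 1) ≅ L) := by
  haveI : IsProper (X ↘ Spec (CommRingCat.of k)) := inferInstance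
  haveI := Groth.L21.RR.isNoetherian_of_proper (X := X) k
  haveI : Infinite k := Groth.L24.Multi.infinite_sepClosed k
  have hng : ∀ n : ℕ, 1 ≤ n → _ := fun n hn =>
    Groth.L21.GenusOne.NG.normallyGenerated (k := k) hdim hgor hg hL hdeg n hn
  refine ⟨fun m => ?_, ?_⟩
  · rcases m with _ | m
    · refine eq_top_iff.2 fun w _ => ?_
      obtain ⟨ψ, hψ⟩ := Groth.L21.RR.exists_mulS_one hL w
      refine Submodule.subset_span ⟨(Groth.L21.RR.oneSec X, Groth.L18.GenLoc.secOf ψ), ?_⟩
      rw [← hψ, Groth.L21.RR.mulS_app, Groth.L18.Frame.rs_self]
      rfl
    · exact Groth.L12.GenusZero.span_eq_top_of_closure (hng (m + 1) (by omega))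
  · have hA : CohB1.IsAmple L := (Groth.Agent.S1530.result k X hdim L hL).2 (by omega)
    exact Groth.L12.GenusZero.exists_closedImmersion_projSpace
      (Groth.L12.CurveFam.isRelVeryAmplePn_of_normallyGenerated (X ↘ Spec (CommRingCat.of k)) hA hng)

end Groth.Agent.S16307
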