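import Groth.Statements.S16308
import Groth.Agent.L12.GenusZero.Apps

set_option autoImplicit false
universe u
open CategoryTheory CategoryTheory.Limits AlgebraicGeometry
open Curves

namespace Groth.Agent.S16308

/-- Let k be a field and X a proper scheme over k of dimension one (a one-dimensional projective scheme)
with H^0(X, O_X) = k. Let A be a globally generated ample invertible O_X-module and m ≥ 0 an integer
with H^1(X, A^{⊗ m}) = 0. Then for every n ≥ m + 1 the global sections of A^{⊗ n} ⊗ A = A^{⊗ (n+1)}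
are spanned over H^0(X, O_X) = k by the sections a ⊗ b with a a global section of A^{⊗ n} and b a
global section of A; consequently the section ring ⊕_{n ≥ 0} H^0(X, A^{⊗ n}) is generated as a
k-algebra by its homogeneous pieces of degrees 1, …, m + 1. -/
theorem result (k : Type u) [Field k] (X : Scheme.{u}) [X.Over (Spec (CommRingCat.of k))]
    [IsProper (X ↘ (Spec (CommRingCat.of k)))] (hdim : topologicalKrullDim X = 1)
    (h0 : Module.finrank k (Coh.HH X (Coh.structureModule X) 0) = 1)
    (A : X.Modules) (hA : CohB1.IsAmple A) (hgg : Curv2.IsGloballyGenerated A)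
    (m : ℕ) (hm : Subsingleton (Coh.HH X (CohB1.tensorPow A m) 1))
    (n : ℕ) (hn : m + 1 ≤ n) :
    Submodule.span (X.ringCatSheaf.obj.obj (Opposite.op ⊤))
        (Set.range (fun p : (CohB1.tensorPow A n).val.obj (Opposite.op ⊤) × A.val.obj (Opposite.op ⊤) =>
          SecTwist.tmul (CohB1.tensorPow A n) A ⊤ p.1 p.2)) = ⊤ := by
  haveI := Groth.L21.RR.isNoetherian_of_proper (X := X) k
  have h2 := Groth.L12.GenusZero.rightExact_of_dim (X := X) k hdim.le
  have hgen : ∀ x : X, ∃ φ : Coh.structureModule X ⟶ A, Function.Surjective (Groth.L21.RR.st φ x) := fun x => by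
    obtain ⟨z, hz, hxz⟩ := Groth.L21.RR.exists_closed_specialization x
    obtain ⟨φ, hφ⟩ := Groth.L21.RR.exists_gen_of_globallyGenerated hA.1 hgg hz
    exact ⟨φ, Groth.L21.RR.surjective_st_of_specializes hA.1 hxz hφ⟩
  obtain ⟨r, φ, hφ⟩ := Groth.L12.GenusZero.exists_fin_generators hA.1 hgen
  obtain ⟨l, rfl⟩ : ∃ l, n = l + 1 := ⟨n - 1, by omega⟩
  exact Groth.L12.GenusZero.span_eq_top_of_closure
    (Groth.L12.GenusZero.span_tmul h2 hA.1 φ hφ (Groth.L18.Ample.isInvertible_tensorPow hA.1 l)
      (Groth.L12.GenusZero.subsingleton_h1_pow h2 hA.1 φ hφ hm l (by omega)) (Iso.refl _))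

end Groth.Agent.S16308
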