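import Groth.Statements.S16309
import Groth.Agent.L12.GenusZero.Apps

set_option autoImplicit false
universe u
open CategoryTheory CategoryTheory.Limits AlgebraicGeometry
open Curves

namespace Groth.Agent.S16309

/-- Let k be a field and X a proper scheme over k of dimension one (not assumed reduced or irreducible)
with H^1(X, O_X) = 0 and H^0(X, O_X) = k, and let L be an ample invertible O_X-module. Then the
section ring ⊕_{n ≥ 0} H^0(X, L^{⊗ n}) is generated by H^0(X, L) as a k-algebra: for every n, the
global sections of L^{⊗ n} ⊗ L = L^{⊗ (n+1)} are spanned over H^0(X, O_X) = k by the sections a ⊗ b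
with a a global section of L^{⊗ n} and b a global section of L. -/
theorem result (k : Type u) [Field k] (X : Scheme.{u}) [X.Over (Spec (CommRingCat.of k))]
    [IsProper (X ↘ (Spec (CommRingCat.of k)))] (hdim : topologicalKrullDim X = 1)
    (h1 : Subsingleton (Coh.HH X (Coh.structureModule X) 1))
    (h0 : Module.finrank k (Coh.HH X (Coh.structureModule X) 0) = 1)
    (L : X.Modules) (hA : CohB1.IsAmple L) (n : ℕ) :
    Submodule.span (X.ringCatSheaf.obj.obj (Opposite.op ⊤))
        (Set.range (fun p : (CohB1.tensorPow L n).val.obj (Opposite.op ⊤) × L.val.obj (Opposite.op ⊤) =>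
          SecTwist.tmul (CohB1.tensorPow L n) L ⊤ p.1 p.2)) = ⊤ := by
  rcases Nat.eq_zero_or_pos n with rfl | hn
  · refine eq_top_iff.2 fun w _ => ?_
    obtain ⟨σ, rfl⟩ := Groth.L12.CurveFam.exists_tens_one (L := L) ⊤ w
    exact Submodule.subset_span ⟨(_, σ), rfl⟩
  · exact Groth.L12.GenusZero.span_eq_top_of_closure
      (Groth.L12.GenusZero.span_of_isAmple (Groth.L12.GenusZero.fiber_dim_le k hdim.le) h1 hA hn)

end Groth.Agent.S16309
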