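import Groth.Statements.S16310
import Mathlib.FieldTheory.AlgebraicClosure
import Mathlib.FieldTheory.IntermediateField.Adjoin.Algebra
import Mathlib.RingTheory.Algebraic.Integral

set_option autoImplicit false
universe u
open W4c3irrattreebun

namespace Groth.Agent.S16310

variable {k K : Type u} [Field k] [Field K] [Algebra k K]

open W4c3irrattreebun

/-- A diagram over the field of constants is a diagram over `k`, with the same top field. -/
lemma down {e : ℕ} (D : CovDiag.{u} (algebraicClosure k K) K e) :
    ∃ D' : CovDiag.{u} k K e, Algebra.IsSeparable K D.KC → Algebra.IsSeparable K D'.KC := by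
  letI : Algebra k D.KB :=
    ((algebraMap (algebraicClosure k K) D.KB).comp (algebraMap k (algebraicClosure k K))).toAlgebra
  letI : Algebra k D.KC := ((algebraMap K D.KC).comp (algebraMap k K)).toAlgebra
  haveI : IsScalarTower k K D.KC := IsScalarTower.of_algebraMap_eq fun _ => rfl
  haveI : IsScalarTower k D.KB D.KC := IsScalarTower.of_algebraMap_eq fun x => by
    show algebraMap K D.KC (algebraMap k K x) =
      algebraMap D.KB D.KC (algebraMap (algebraicClosure k K) D.KB (algebraMap k _ x))
    rw [← @IsScalarTower.algebraMap_apply (algebraicClosure k K) D.KB D.KC _ _ _ _ _ D.algkC D.towerB,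
      @IsScalarTower.algebraMap_apply (algebraicClosure k K) K D.KC _ _ _ _ _ D.algkC D.towerK]
    rfl
  exact ⟨{ KC := D.KC, KB := D.KB, t := D.t, transc := D.transc, finrank_eq := D.finrank_eq },
    fun h => h⟩

/-- Enlarge the base field of a diagram by the constants; the degree does not increase. -/
lemma up {e : ℕ} (D : CovDiag.{u} k K e) :
    ∃ e' ≤ e, ∃ D' : CovDiag.{u} (algebraicClosure k K) K e',
      Algebra.IsSeparable K D.KC → Algebra.IsSeparable K D'.KC := by
  let S : Set D.KC := Set.range (algebraMap (algebraicClosure k K) D.KC)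
  let B := IntermediateField.adjoin D.KB S
  haveI : Algebra.IsAlgebraic D.KB B := by
    refine IntermediateField.isAlgebraic_adjoin ?_
    rintro _ ⟨x, rfl⟩
    have hx : IsAlgebraic k (x : K) := mem_algebraicClosure_iff.1 x.2
    exact ((hx.isIntegral).algebraMap (B := D.KC)).tower_top
  letI aB : Algebra (algebraicClosure k K) B :=
    ((algebraMap (algebraicClosure k K) D.KC).codRestrict B.toSubfield
      fun x => IntermediateField.subset_adjoin _ _ ⟨x, rfl⟩).toAlgebra
  haveI : IsScalarTower (algebraicClosure k K) B D.KC := IsScalarTower.of_algebraMap_eq fun _ => rfl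
  have ht : Transcendental B D.t := fun h => D.transc (h.restrictScalars D.KB)
  let L1 := IntermediateField.adjoin D.KB ({D.t} : Set D.KC)
  let L2 := (IntermediateField.adjoin B ({D.t} : Set D.KC)).restrictScalars D.KB
  have h12 : L1 ≤ L2 := IntermediateField.adjoin_le_iff.2
    (Set.singleton_subset_iff.2 (IntermediateField.subset_adjoin B _ (Set.mem_singleton D.t)))
  let L := IntermediateField.extendScalars h12
  have hfin : Module.Finite L D.KC := inferInstance
  have hle : Module.finrank L D.KC ≤ e := by
    have h := Module.finrank_mul_finrank L1 L D.KC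
    rw [D.finrank_eq] at h
    exact le_of_le_of_eq (Nat.le_mul_of_pos_left _ Module.finrank_pos) h
  have hfin' : Module.Finite (IntermediateField.adjoin B ({D.t} : Set D.KC)) D.KC := hfin
  refine ⟨_, hle, ⟨{ KC := D.KC, KB := B, t := D.t, transc := ht, finrank_eq := rfl, finiteT := hfin' }, fun h => h⟩⟩

lemma sInf_eq_of {A B : Set ℕ} (h1 : B ⊆ A) (h2 : ∀ a ∈ A, ∃ b ≤ a, b ∈ B) : sInf A = sInf B := by
  rcases A.eq_empty_or_nonempty with hA | hA
  · rw [hA, Set.subset_eq_empty h1 hA]
  · obtain ⟨b, hb, hbB⟩ := h2 _ (Nat.sInf_mem hA)
    exact le_antisymm (Nat.sInf_le (h1 (Nat.sInf_mem ⟨b, hbB⟩))) ((Nat.sInf_le hbB).trans hb)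

open W4c3irrattreebun in


/-- For a field extension K/k with field of constants k' (the relative algebraic closure of k in K), the
covering gonality of K over k equals the covering gonality of K over k'. (The published statement
takes K to be an algebraic function field over k; this row allows any field extension K/k.) -/
theorem result (k K : Type u) [Field k] [Field K] [Algebra k K] :
    W4c3irrattreebun.cvg k K = W4c3irrattreebun.cvg (algebraicClosure k K) K := by
  refine sInf_eq_of (fun e ⟨D⟩ => ⟨(down D).choose⟩) fun e ⟨D⟩ => ?_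
  obtain ⟨e', h, D', -⟩ := up D
  exact ⟨e', h, ⟨D'⟩⟩


end Groth.Agent.S16310
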