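import Groth.Statements.S16312
-- import your own Groth.Agent.* helpers here

set_option autoImplicit false
universe u
open W4c3irrattreebun

namespace Groth.Agent.S16312

/-- Let N be a closed cone in real n-space, f a function continuous on N, positive at the nonzero points
of N and homogeneous of degree one under scaling by nonnegative reals, and Λ a discrete additive
subgroup. Then for every real c the set of points H of Λ lying in N with f(H) ≤ c is finite. (The
published statement takes Λ to be a lattice; this row allows any discrete additive subgroup.) -/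
theorem result (n : ℕ)
    (N : Set (EuclideanSpace ℝ (Fin n))) (hN : IsClosed N)
    (hcone : ∀ x ∈ N, ∀ r : ℝ, 0 ≤ r → r • x ∈ N)
    (f : EuclideanSpace ℝ (Fin n) → ℝ) (hf : ContinuousOn f N)
    (hpos : ∀ x ∈ N, x ≠ 0 → 0 < f x)
    (hhom : ∀ x ∈ N, ∀ r : ℝ, 0 ≤ r → f (r • x) = r * f x)
    (Λ : Submodule ℤ (EuclideanSpace ℝ (Fin n))) [DiscreteTopology Λ] (c : ℝ) :
    ({x : EuclideanSpace ℝ (Fin n) | x ∈ N ∧ f x ≤ c} ∩ (Λ : Set (EuclideanSpace ℝ (Fin n)))).Finite := by
  classical
  haveI : DiscreteTopology Λ.toAddSubgroup := ‹DiscreteTopology Λ›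
  have hcl : IsClosed (Λ : Set (EuclideanSpace ℝ (Fin n))) :=
    @AddSubgroup.isClosed_of_discrete _ _ _ _ _ Λ.toAddSubgroup _
  have hd : IsDiscrete (Λ : Set (EuclideanSpace ℝ (Fin n))) := ⟨‹DiscreteTopology Λ›⟩
  refine Metric.finite_isBounded_inter_isClosed hd ?_ hcl
  let S : Set (EuclideanSpace ℝ (Fin n)) := N ∩ Metric.sphere 0 1
  rcases S.eq_empty_or_nonempty with hS | hS
  · refine (Bornology.IsBounded.subset (Bornology.isBounded_singleton (x := (0 : EuclideanSpace ℝ (Fin n)))) ?_)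
    rintro x ⟨hxN, -⟩
    by_contra hx
    have hx0 : ‖x‖ ≠ 0 := norm_ne_zero_iff.2 hx
    exact Set.eq_empty_iff_forall_notMem.1 hS (‖x‖⁻¹ • x)
      ⟨hcone x hxN _ (by positivity), by simp [norm_smul, inv_mul_cancel₀ hx0]⟩
  obtain ⟨s, hs, hmin⟩ := ((isCompact_sphere (0 : EuclideanSpace ℝ (Fin n)) 1).inter_left hN).exists_isMinOn hS
    (hf.mono Set.inter_subset_left)
  have hm : 0 < f s := hpos s hs.1 (fun h => by simpa [h] using hs.2)
  refine (Metric.isBounded_closedBall (x := (0 : EuclideanSpace ℝ (Fin n))) (r := max 0 (c / f s))).subset ?_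
  rintro x ⟨hxN, hxc⟩
  rw [Metric.mem_closedBall, dist_zero_right]
  rcases eq_or_ne x 0 with rfl | hx
  · simp
  have hx0 : 0 < ‖x‖ := norm_pos_iff.2 hx
  have h1 : f s ≤ f (‖x‖⁻¹ • x) :=
    hmin ⟨hcone x hxN _ (by positivity), by simp [norm_smul, inv_mul_cancel₀ hx0.ne']⟩
  rw [hhom x hxN _ (by positivity), inv_mul_eq_div, le_div_iff₀ hx0] at h1
  refine le_max_of_le_right ((le_div_iff₀ hm).2 ?_)
  nlinarith [h1, hxc]

end Groth.Agent.S16312
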