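import Groth.Statements.S16319
import Groth.Agent.L21.Duality.Special

set_option autoImplicit false
set_option backward.isDefEq.respectTransparency false
open CategoryTheory CategoryTheory.Limits AlgebraicGeometry
universe u
open Curves

namespace Groth.Agent.S16319

/-- Let k be an algebraically closed field of characteristic zero and X a smooth proper integral curve
over k (integral, proper and smooth over k, of dimension one) of genus 9 whose Clifford index is 3:
some invertible module M with h^0(M) ≥ 2 and h^1(M) ≥ 2 has deg M − 2(h^0(M) − 1) = 3, and every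
invertible module M with h^0(M) ≥ 2 and h^1(M) ≥ 2 has deg M − 2(h^0(M) − 1) ≥ 3 (degrees are χ(M) −
χ(O_X); in particular X is not hyperelliptic); let H be an invertible module of degree 7 with h^0(H)
= 3 (a g^2_7) and D a globally generated invertible module of degree 5 with h^0(D) = 2 (a
base-point-free complete g^1_5). Then every module N with D ⊗ N ≅ H has h^0(N) = 1: the difference
of the two series is the class of an effective divisor of degree 2 with a one-dimensional space of
sections, so the pencil is cut out by the lines through a double point of the plane model of degree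
7. -/
theorem result
    (k : Type u) [Field k] [IsAlgClosed k] [CharZero k]
    (X : Scheme.{u}) [X.Over (Spec (CommRingCat.of k))] [IsIntegral X]
    [IsProper (X ↘ Spec (CommRingCat.of k))] [Smooth (X ↘ Spec (CommRingCat.of k))]
    (hdim : topologicalKrullDim X = 1) (hg : Curv2.genus k X = 9)
    (hex : ∃ M : X.Modules, PicF.IsInvertible M ∧ 2 ≤ Module.finrank k (Coh.HH X M 0) ∧
      2 ≤ Module.finrank k (Coh.HH X M 1) ∧ Curv2.deg k X M 1 = 2 * (Module.finrank k (Coh.HH X M 0) : ℤ) + 1)
    (hmin : ∀ M : X.Modules, PicF.IsInvertible M → 2 ≤ Module.finrank k (Coh.HH X M 0) →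
      2 ≤ Module.finrank k (Coh.HH X M 1) → 2 * (Module.finrank k (Coh.HH X M 0) : ℤ) + 1 ≤ Curv2.deg k X M 1)
    (H : X.Modules) (hH : PicF.IsInvertible H) (hdH : Curv2.deg k X H 1 = 7)
    (h0H : Module.finrank k (Coh.HH X H 0) = 3)
    (D : X.Modules) (hD : PicF.IsInvertible D) (hgD : Curv2.IsGloballyGenerated D)
    (hdD : Curv2.deg k X D 1 = 5) (h0D : Module.finrank k (Coh.HH X D 0) = 2)
    (N : X.Modules) (e : CohB1.tensorMod D N ≅ H) :
    Module.finrank k (Coh.HH X N 0) = 1 := by
  haveI := Groth.L21.RR.isNoetherian_of_proper (X := X) k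
  have h1 := Groth.L21.RR.h0_eq_one_of_isAlgClosed (X := X) k
  have hN := Groth.L21.Duality.isInvertible_of_tensor_iso hD hH e
  have hdN := Groth.L21.Duality.deg_tensor (k := k) hdim hD hN
  rw [Groth.L21.Duality.deg_congr (k := k) e, hdH, hdD] at hdN
  have hHD := Groth.L18.GenLoc.isInvertible_tensor hH hD
  have hp := Groth.L21.RR.pencil_trick' k hD h0D hgD hH hN (Groth.L00.Tensor.tensorComm N D ≪≫ e)
  have hdHD := Groth.L21.Duality.deg_tensor (k := k) hdim hH hD
  rw [hdH, hdD] at hdHD
  have hrN := Groth.L21.Duality.rr_deg (k := k) hdim.le h1 N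
  have hrP := Groth.L21.Duality.rr_deg (k := k) hdim.le h1 (CohB1.tensorMod H D)
  rw [hg] at hrN hrP
  have m1 := hmin N hN
  have m2 := hmin _ hHD
  simp only [Groth.L21.RR.h] at *
  omega

end Groth.Agent.S16319
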