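import Groth.Statements.S16320
import Groth.Agent.L21.Duality.Special

set_option autoImplicit false
set_option backward.isDefEq.respectTransparency false
open CategoryTheory CategoryTheory.Limits AlgebraicGeometry
universe u
open Curves

namespace Groth.Agent.S16320

/-- Let k be an algebraically closed field of characteristic zero and X a smooth proper integral curve
over k (integral, proper and smooth over k, of dimension one) of genus 9 whose Clifford index is 3:
some invertible module M with h^0(M) ≥ 2 and h^1(M) ≥ 2 has deg M − 2(h^0(M) − 1) = 3, and every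
invertible module M with h^0(M) ≥ 2 and h^1(M) ≥ 2 has deg M − 2(h^0(M) − 1) ≥ 3 (degrees are χ(M) −
χ(O_X); in particular X is not hyperelliptic), and let D be a globally generated invertible module
of degree 5 with h^0(D) = 2 (a base-point-free complete g^1_5). Then h^0(D^{⊗2}) is 3 or 4,
h^0(D^{⊗3}) is 7 or 8, and h^0(D^{⊗3}) = 7 whenever h^0(D^{⊗2}) = 3. (The published statement says,
equivalently by Riemann–Roch applied to the numbers h^0(K − iD) − h^0(K − (i+1)D) for a canonical
module K, that the rational normal fourfold scroll formed by the linear spans of the pencil's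
divisors in the canonical embedding has type S(2,1,1,1), S(2,2,1,0) or S(3,1,1,0); the scroll itself
is not restated here.) -/
theorem result
    (k : Type u) [Field k] [IsAlgClosed k] [CharZero k]
    (X : Scheme.{u}) [X.Over (Spec (CommRingCat.of k))] [IsIntegral X]
    [IsProper (X ↘ Spec (CommRingCat.of k))] [Smooth (X ↘ Spec (CommRingCat.of k))]
    (hdim : topologicalKrullDim X = 1) (hg : Curv2.genus k X = 9)
    (hex : ∃ M : X.Modules, PicF.IsInvertible M ∧ 2 ≤ Module.finrank k (Coh.HH X M 0) ∧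
      2 ≤ Module.finrank k (Coh.HH X M 1) ∧ Curv2.deg k X M 1 = 2 * (Module.finrank k (Coh.HH X M 0) : ℤ) + 1)
    (hmin : ∀ M : X.Modules, PicF.IsInvertible M → 2 ≤ Module.finrank k (Coh.HH X M 0) →
      2 ≤ Module.finrank k (Coh.HH X M 1) → 2 * (Module.finrank k (Coh.HH X M 0) : ℤ) + 1 ≤ Curv2.deg k X M 1)
    (D : X.Modules) (hD : PicF.IsInvertible D) (hgD : Curv2.IsGloballyGenerated D)
    (hdD : Curv2.deg k X D 1 = 5) (h0D : Module.finrank k (Coh.HH X D 0) = 2) :
    (Module.finrank k (Coh.HH X (CohB1.tensorPow D 2) 0) = 3 ∨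
        Module.finrank k (Coh.HH X (CohB1.tensorPow D 2) 0) = 4) ∧
      (Module.finrank k (Coh.HH X (CohB1.tensorPow D 3) 0) = 7 ∨
        Module.finrank k (Coh.HH X (CohB1.tensorPow D 3) 0) = 8) ∧
      (Module.finrank k (Coh.HH X (CohB1.tensorPow D 2) 0) = 3 →
        Module.finrank k (Coh.HH X (CohB1.tensorPow D 3) 0) = 7) := by
  haveI := Groth.L21.RR.isNoetherian_of_proper (X := X) k
  have h1 := Groth.L21.RR.h0_eq_one_of_isAlgClosed (X := X) k
  have hO := Groth.L18.Ample.isInvertible_structureModule X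
  have hD2 := Groth.L18.Ample.isInvertible_tensorPow hD 2
  have hD3 := Groth.L18.Ample.isInvertible_tensorPow hD 3
  have hD1 := Groth.L18.Ample.isInvertible_tensorPow hD 1
  let u : CohB1.tensorPow D 1 ≅ D := Groth.L00.Tensor.tensorUnitLeft D
  have hd2 : Curv2.deg k X (CohB1.tensorPow D 2) 1 = 10 := by
    have := Groth.L21.Duality.deg_tensor (k := k) hdim hD1 hD
    rw [Groth.L21.Duality.deg_congr (k := k) u, hdD] at this
    exact this
  have hd3 : Curv2.deg k X (CohB1.tensorPow D 3) 1 = 15 := by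
    have := Groth.L21.Duality.deg_tensor (k := k) hdim hD2 hD
    rw [hd2, hdD] at this
    exact this
  have hp : 3 ≤ Groth.L21.RR.h k 0 (CohB1.tensorPow D 2) := by
    have hp := Groth.L21.RR.pencil_trick' k hD h0D hgD hD1 hO (Iso.refl _)
    have hp1 : Groth.L21.RR.h k 0 (CohB1.tensorPow D 1) = 2 := (Groth.L21.RR.h_congr k u 0).trans h0D
    change 2 * _ ≤ Groth.L21.RR.h k 0 (CohB1.tensorPow D 2) + _ at hp
    omega
  have r2 := Groth.L21.Duality.rr_deg (k := k) hdim.le h1 (CohB1.tensorPow D 2)
  have r3 := Groth.L21.Duality.rr_deg (k := k) hdim.le h1 (CohB1.tensorPow D 3)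
  rw [hg, hd2] at r2
  rw [hg, hd3] at r3
  have m2 := hmin _ hD2
  have m3 := hmin _ hD3
  obtain ⟨K, hK, ⟨e⟩, hK0, -⟩ := Groth.L21.Duality.exists_dual (k := k) hdim hD3
  obtain ⟨D', hD', ⟨i⟩⟩ := Groth.L08.Cube.exists_inverse hD
  have hKD := Groth.L18.GenLoc.isInvertible_tensor hK hD
  let e2 : CohB1.tensorMod (CohB1.tensorMod K D) (CohB1.tensorPow D 2) ≅ Omega.sheaf (X ↘ Spec (CommRingCat.of k)) :=
    Groth.L00.Tensor.tensorAssoc K D _ ≪≫
      Groth.L00.Tensor.tensorIso (Iso.refl K) (Groth.L00.Tensor.tensorComm D (CohB1.tensorPow D 2)) ≪≫ e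
  have hKD0 := (Groth.L21.Duality.duality (k := k) hdim hKD hD2 e2).1
  obtain ⟨c⟩ := Groth.L21.Duality.nonempty_cancel K D D' i
  have hKD' := Groth.L18.GenLoc.isInvertible_tensor hK hD'
  have hp3 := Groth.L21.RR.pencil_trick' k hD h0D hgD hK hKD' c
  have hdK : Curv2.deg k X (CohB1.tensorMod K D') 1 = -4 := by
    have h4 := Groth.L21.Duality.deg_tensor (k := k) hdim hK hD3
    rw [Groth.L21.Duality.deg_congr (k := k) e, hd3, (Groth.L21.Duality.omega_invariants (k := k) (X := X) hdim).2.2 h1, hg] at h4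
    have h5 := Groth.L21.Duality.deg_tensor (k := k) hdim hKD' hD
    rw [Groth.L21.Duality.deg_congr (k := k) c, hdD] at h5
    push_cast at h4
    omega
  have hN0 : Groth.L21.RR.h k 0 (CohB1.tensorMod K D') = 0 := by
    by_contra hne
    have := Groth.L21.RR.deg_nonneg k hdim.le hKD'
      (Groth.L21.Duality.nontrivial_of_h0_pos (k := k) (Nat.one_le_iff_ne_zero.2 hne))
    omega
  simp only [Groth.L21.RR.h] at *
  omega

end Groth.Agent.S16320
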