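import Groth.Statements.S16322
import Groth.Agent.L21.Duality.Special

set_option autoImplicit false
set_option backward.isDefEq.respectTransparency false
open CategoryTheory CategoryTheory.Limits AlgebraicGeometry
universe u
open Curves

namespace Groth.Agent.S16322

/-- Let k be a characteristic-zero algebraically closed field and X a smooth proper integral curve over
k (integral, proper and smooth over k, of dimension one) of genus 9 whose Clifford index is 3: some
invertible module M with h^0(M) ≥ 2 and h^1(M) ≥ 2 has deg M − 2(h^0(M) − 1) = 3, and every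
invertible module M with h^0(M) ≥ 2 and h^1(M) ≥ 2 has deg M − 2(h^0(M) − 1) ≥ 3 (degrees are χ(M) −
χ(O_X); in particular X is not hyperelliptic), and let D₁, D₂ be two non-isomorphic globally
generated invertible modules of degree 5 with h^0(D₁) = h^0(D₂) = 2 (two different base-point-free
complete pencils of degree 5). Then h^0(D₁ ⊗ D₂) = 4. (In the published statement the two pencils
are the ones cut out by the two rulings on a model of the curve in a blow-up of P^1 × P^1; the
printed argument for this equality uses only that they are different base-point-free pencils of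
degree 5 on a genus-9 curve of Clifford index 3, which is what is stated here; the further printed
assertion on a third pencil is not restated.) -/
theorem result
    (k : Type u) [Field k] [IsAlgClosed k] [CharZero k]
    (X : Scheme.{u}) [X.Over (Spec (CommRingCat.of k))] [IsIntegral X]
    [IsProper (X ↘ Spec (CommRingCat.of k))] [Smooth (X ↘ Spec (CommRingCat.of k))]
    (hdim : topologicalKrullDim X = 1) (hg : Curv2.genus k X = 9)
    (hex : ∃ M : X.Modules, PicF.IsInvertible M ∧ 2 ≤ Module.finrank k (Coh.HH X M 0) ∧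
      2 ≤ Module.finrank k (Coh.HH X M 1) ∧ Curv2.deg k X M 1 = 2 * (Module.finrank k (Coh.HH X M 0) : ℤ) + 1)
    (hmin : ∀ M : X.Modules, PicF.IsInvertible M → 2 ≤ Module.finrank k (Coh.HH X M 0) →
      2 ≤ Module.finrank k (Coh.HH X M 1) → 2 * (Module.finrank k (Coh.HH X M 0) : ℤ) + 1 ≤ Curv2.deg k X M 1)
    (D₁ D₂ : X.Modules) (h₁ : PicF.IsInvertible D₁) (h₂ : PicF.IsInvertible D₂)
    (hg₁ : Curv2.IsGloballyGenerated D₁) (hg₂ : Curv2.IsGloballyGenerated D₂)
    (hd₁ : Curv2.deg k X D₁ 1 = 5) (hd₂ : Curv2.deg k X D₂ 1 = 5)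
    (h0₁ : Module.finrank k (Coh.HH X D₁ 0) = 2) (h0₂ : Module.finrank k (Coh.HH X D₂ 0) = 2)
    (hne : IsEmpty (D₁ ≅ D₂)) :
    Module.finrank k (Coh.HH X (CohB1.tensorMod D₁ D₂) 0) = 4 := by
  haveI := Groth.L21.RR.isNoetherian_of_proper (X := X) k
  have h1 := Groth.L21.RR.h0_eq_one_of_isAlgClosed (X := X) k
  obtain ⟨D', hD', ⟨i⟩⟩ := Groth.L08.Cube.exists_inverse h₁
  obtain ⟨c⟩ := Groth.L21.Duality.nonempty_cancel D₂ D₁ D' i
  have hN := Groth.L18.GenLoc.isInvertible_tensor h₂ hD'
  have hp := Groth.L21.RR.pencil_trick' k h₁ h0₁ hg₁ h₂ hN c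
  have hdN := Groth.L21.Duality.deg_tensor (k := k) hdim hN h₁
  rw [Groth.L21.Duality.deg_congr (k := k) c, hd₁, hd₂] at hdN
  have hN0 : Groth.L21.RR.h k 0 (CohB1.tensorMod D₂ D') = 0 := by
    by_contra hne'
    obtain ⟨j⟩ := Groth.L21.Duality.nonempty_iso_of_deg_eq_zero (k := k) hdim.le hN (by omega)
      (Groth.L21.Duality.nontrivial_of_h0_pos (k := k) (Nat.one_le_iff_ne_zero.2 hne'))
    exact hne.false ((Groth.L00.Tensor.tensorUnitLeft D₁).symm ≪≫
      Groth.L00.Tensor.tensorIso j (Iso.refl D₁) ≪≫ c)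
  have hsym := Groth.L21.RR.h_congr k (Groth.L00.Tensor.tensorComm D₂ D₁) 0
  have hdP := Groth.L21.Duality.deg_tensor (k := k) hdim h₁ h₂
  have r := Groth.L21.Duality.rr_deg (k := k) hdim.le h1 (CohB1.tensorMod D₁ D₂)
  rw [hdP, hd₁, hd₂, hg] at r
  have m := hmin _ (Groth.L18.GenLoc.isInvertible_tensor h₁ h₂)
  rw [hdP, hd₁, hd₂] at m
  simp only [Groth.L21.RR.h] at *
  omega

end Groth.Agent.S16322
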