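import Groth.Statements.S16325
import Groth.Agent.L13.ChainCx.Groupoid

set_option autoImplicit false
universe u v
open CategoryTheory
open W4c3biextchow

namespace Groth.Agent.S16325

/-- Let f : C ⟶ D be a chain map of ℕ-indexed chain complexes of modules over a ring R, and consider the
functor it induces between the groupoids attached to C and D (objects: degree-0 elements; morphisms
a ⟶ b: degree-1 elements with boundary b - a, modulo boundaries of degree-2 elements). This functor
is faithful if and only if f is injective on homology in degree 1. (The published statement is for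
complexes of abelian groups; this row allows modules over any ring R.) -/
theorem result
    (R : Type u) [Ring R] (C D : ChainComplex (ModuleCat.{v} R) ℕ) (f : C ⟶ D) :
    (W4c3biextchow.cxFunctor f).Faithful ↔ Mono (HomologicalComplex.homologyMap f 1) := by
  rw [Groth.L13.ChainCx.mono_iff]
  constructor
  · intro hF z hz ⟨y, hy⟩
    have hz0 : (C.d (0 + 1) 0).hom z = 0 := hz 0
    let a : Obj C := ⟨0⟩
    let φ : a ⟶ a := Groth.L13.ChainCx.mkHom z (by rw [sub_self]; exact hz0)
    have h0 : (cxFunctor f).map φ = (cxFunctor f).map (𝟙 a) := by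
      apply Hom.ext
      rw [cxFunctor_map_cl, cxFunctor_map_cl, id_cl, map_zero]
      show q1Map f (Submodule.Quotient.mk z) = 0
      rw [q1Map_mk, Submodule.Quotient.mk_eq_zero]
      exact ⟨y, hy⟩
    have := congrArg (fun ψ : a ⟶ a => (ψ : Hom C a a).cl) (hF.map_injective h0)
    simp only [id_cl] at this
    exact (Submodule.Quotient.mk_eq_zero _).1 this
  · intro H
    refine ⟨fun {a b} φ ψ h => ?_⟩
    obtain ⟨x, hx, hφ⟩ := Groth.L13.ChainCx.exists_rep φ
    obtain ⟨x', hx', hψ⟩ := Groth.L13.ChainCx.exists_rep ψ
    have hcl := congrArg (fun χ : (cxFunctor f).obj a ⟶ (cxFunctor f).obj b => (χ : Hom D _ _).cl) h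
    simp only [cxFunctor_map_cl, hφ, hψ, q1Map_mk] at hcl
    apply Hom.ext
    rw [hφ, hψ, Submodule.Quotient.eq]
    refine H (x - x') (Groth.L13.ChainCx.isCycle_succ C ?_) ?_
    · rw [map_sub, hx, hx', sub_self]
    · obtain ⟨y, hy⟩ := (Submodule.Quotient.eq _).1 hcl
      exact ⟨y, by rw [map_sub]; exact hy⟩

end Groth.Agent.S16325
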