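import Groth.Statements.S16326
import Groth.Agent.L13.ChainCx.Groupoid

set_option autoImplicit false
universe u v
open CategoryTheory
open W4c3biextchow

namespace Groth.Agent.S16326

/-- Let f : C ⟶ D be a chain map of ℕ-indexed chain complexes of modules over a ring R, and consider the
functor it induces between the groupoids attached to C and D (objects: degree-0 elements; morphisms
a ⟶ b: degree-1 elements with boundary b - a, modulo boundaries of degree-2 elements). This functor
is full if and only if f is surjective on homology in degree 1 and injective on homology in degree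
0. (The published statement is for complexes of abelian groups; this row allows modules over any
ring R.) -/
theorem result
    (R : Type u) [Ring R] (C D : ChainComplex (ModuleCat.{v} R) ℕ) (f : C ⟶ D) :
    (W4c3biextchow.cxFunctor f).Full ↔
      Epi (HomologicalComplex.homologyMap f 1) ∧ Mono (HomologicalComplex.homologyMap f 0) := by
  rw [Groth.L13.ChainCx.mono_iff, Groth.L13.ChainCx.epi_iff]
  constructor
  · intro hF
    refine ⟨fun w hw => ?_, fun z _ ⟨y, hy⟩ => ?_⟩
    · let a : Obj C := ⟨0⟩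
      have hw0 : (D.d (0 + 1) 0).hom w = 0 := hw 0
      let ψ : (cxFunctor f).obj a ⟶ (cxFunctor f).obj a := Groth.L13.ChainCx.mkHom w (by rw [sub_self]; exact hw0)
      obtain ⟨φ, hφ⟩ := hF.map_surjective ψ
      obtain ⟨x, hx, hφx⟩ := Groth.L13.ChainCx.exists_rep φ
      refine ⟨x, Groth.L13.ChainCx.isCycle_succ C (by rw [hx, sub_self]), ?_⟩
      have hcl := congrArg (fun χ : (cxFunctor f).obj a ⟶ (cxFunctor f).obj a => (χ : Hom D _ _).cl) hφ
      simp only [cxFunctor_map_cl, hφx, q1Map_mk] at hcl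
      obtain ⟨y, hy⟩ := (Submodule.Quotient.eq _).1 hcl.symm
      exact ⟨y, hy⟩
    · let a : Obj C := ⟨0⟩
      let b : Obj C := ⟨z⟩
      let ψ : (cxFunctor f).obj a ⟶ (cxFunctor f).obj b := Groth.L13.ChainCx.mkHom y (by
        rw [cxFunctor_obj_pt, cxFunctor_obj_pt]; simpa [a, b] using hy)
      obtain ⟨φ, -⟩ := hF.map_surjective ψ
      obtain ⟨x, hx, -⟩ := Groth.L13.ChainCx.exists_rep φ
      exact ⟨x, hx.trans (sub_zero _)⟩
  · rintro ⟨He, Hm⟩
    refine ⟨fun {a b} ψ => ?_⟩
    obtain ⟨y, hy, hψ⟩ := Groth.L13.ChainCx.exists_rep ψ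
    rw [cxFunctor_obj_pt, cxFunctor_obj_pt, ← map_sub] at hy
    obtain ⟨x, hx⟩ := Hm (b.pt - a.pt) (Groth.L13.ChainCx.isCycle_zero_degree C _) ⟨y, hy⟩
    obtain ⟨z, hz, w, hw⟩ := He (y - (f.f 1).hom x) (Groth.L13.ChainCx.isCycle_succ D (by
      rw [map_sub, Groth.L13.ChainCx.comm, hy, hx, sub_self]))
    have hz0 : (C.d 1 0).hom z = 0 := hz 0
    refine ⟨Groth.L13.ChainCx.mkHom (x + z) (by rw [map_add, hz0, add_zero]; exact hx), ?_⟩
    apply Hom.ext
    rw [cxFunctor_map_cl, hψ]
    show q1Map f (Submodule.Quotient.mk (x + z)) = _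
    rw [q1Map_mk]
    refine ((Submodule.Quotient.eq _).2 (LinearMap.mem_range.2 ⟨w, ?_⟩)).symm
    rw [hw, map_add]
    abel

end Groth.Agent.S16326
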