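import Groth.Statements.S16327
import Groth.Agent.L13.ChainCx.Groupoid

set_option autoImplicit false
universe u v
open CategoryTheory
open W4c3biextchow

namespace Groth.Agent.S16327

/-- Let f : C ⟶ D be a chain map of ℕ-indexed chain complexes of modules over a ring R, and consider the
functor it induces between the groupoids attached to C and D (objects: degree-0 elements; morphisms
a ⟶ b: degree-1 elements with boundary b - a, modulo boundaries of degree-2 elements). This functor
is essentially surjective if and only if f is surjective on homology in degree 0. (The published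
statement is for complexes of abelian groups; this row allows modules over any ring R.) -/
theorem result
    (R : Type u) [Ring R] (C D : ChainComplex (ModuleCat.{v} R) ℕ) (f : C ⟶ D) :
    (W4c3biextchow.cxFunctor f).EssSurj ↔ Epi (HomologicalComplex.homologyMap f 0) := by
  rw [Groth.L13.ChainCx.epi_iff]
  constructor
  · intro hF w _
    obtain ⟨a, ⟨i⟩⟩ := hF.mem_essImage ⟨w⟩
    obtain ⟨y, hy, -⟩ := Groth.L13.ChainCx.exists_rep i.hom
    exact ⟨a.pt, Groth.L13.ChainCx.isCycle_zero_degree C _, y, hy⟩
  · intro H
    refine ⟨fun b => ?_⟩
    obtain ⟨z, -, y, hy⟩ := H b.pt (Groth.L13.ChainCx.isCycle_zero_degree D _)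
    exact ⟨⟨z⟩, ⟨Groth.L13.ChainCx.homIso (Groth.L13.ChainCx.mkHom y hy)⟩⟩

end Groth.Agent.S16327
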