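import Groth.Statements.S16331
import Groth.Agent.L13.ChainCx.Split
import Groth.Agent.L13.ChainCx.Groupoid

set_option autoImplicit false
universe v
open CategoryTheory
open W4c3biextchow

namespace Groth.Agent.S16331

/-- Let f : A' ⟶ A be a chain map of ℕ-indexed chain complexes of free abelian groups which is injective
in every degree, with free degreewise quotients A_q / f(A'_q), and a quasi-isomorphism; let h' : A'
⟶ B be a chain map to another complex of free abelian groups and g₁, g₂ : A ⟶ A' two chain maps with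
f ≫ g₁ = f ≫ g₂ = 𝟙. Consider the functors induced by g₁ ≫ h' and g₂ ≫ h' between the groupoids
attached to A and B (objects: degree-0 elements; morphisms a ⟶ b: degree-1 elements with boundary b
- a, modulo boundaries of degree-2 elements). Then there is a natural isomorphism between these two
functors whose component at every object of the form f(a'), a' a degree-0 element of A', is the zero
class, i.e. the identity morphism of h'(a'). -/
theorem result
    (A' A B : ChainComplex (ModuleCat.{v} ℤ) ℕ) (f : A' ⟶ A) (h' : A' ⟶ B)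
    [∀ q, Module.Free ℤ (A'.X q)] [∀ q, Module.Free ℤ (A.X q)] [∀ q, Module.Free ℤ (B.X q)]
    (hf : ∀ q, Function.Injective (f.f q).hom)
    (hq : ∀ q, Module.Free ℤ ((A.X q) ⧸ LinearMap.range (f.f q).hom)) [QuasiIso f]
    (g₁ g₂ : A ⟶ A') (h₁ : f ≫ g₁ = 𝟙 A') (h₂ : f ≫ g₂ = 𝟙 A') :
    ∃ N : W4c3biextchow.cxFunctor (g₁ ≫ h') ≅ W4c3biextchow.cxFunctor (g₂ ≫ h'),
      ∀ a : W4c3biextchow.Obj A',
        (N.hom.app ((W4c3biextchow.cxFunctor f).obj a) : W4c3biextchow.Hom B _ _).cl = 0 := by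
  obtain ⟨H, hH⟩ := Groth.L13.ChainCx.exists_homotopy_of_retractions f hf (fun q => by
      have hp := @Module.Projective.of_free _ _ _ _ _ (hq q)
      convert hp using 2
      all_goals first | rfl | exact Subsingleton.elim _ _ | (refine Module.ext ?_; funext z x; exact int_smul_eq_zsmul _ z x)) g₁ g₂ h₁ h₂
  let H0 : A.X 0 →ₗ[ℤ] A'.X 1 := (H.hom 0 1).hom
  have c0 : ∀ x, (g₁.f 0).hom x = (A'.d 1 0).hom (H0 x) + (g₂.f 0).hom x := fun x => by
    have e := H.comm 0
    rw [dNext_eq_zero H.hom 0 (by simp), prevD_eq H.hom (show (ComplexShape.down ℕ).Rel 1 0 by simp), zero_add] at e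
    exact LinearMap.congr_fun (congrArg ModuleCat.Hom.hom e) x
  have c1 : ∀ x, (g₁.f 1).hom x = H0 ((A.d 1 0).hom x) + (A'.d 2 1).hom ((H.hom 1 2).hom x) + (g₂.f 1).hom x := fun x => by
    have e := H.comm 1
    rw [dNext_eq H.hom (show (ComplexShape.down ℕ).Rel 1 0 by simp),
      prevD_eq H.hom (show (ComplexShape.down ℕ).Rel 2 1 by simp)] at e
    exact LinearMap.congr_fun (congrArg ModuleCat.Hom.hom e) x
  let comp : ∀ a : Obj A, (cxFunctor (g₁ ≫ h')).obj a ⟶ (cxFunctor (g₂ ≫ h')).obj a := fun a =>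
    Groth.L13.ChainCx.mkHom (-(h'.f 1).hom (H0 a.pt)) (by
      show (B.d 1 0).hom (-(h'.f 1).hom (H0 a.pt)) = (h'.f 0).hom ((g₂.f 0).hom a.pt) - (h'.f 0).hom ((g₁.f 0).hom a.pt)
      rw [map_neg, Groth.L13.ChainCx.comm, c0, map_add]
      abel)
  refine ⟨NatIso.ofComponents (fun a => Groth.L13.ChainCx.homIso (comp a)) (fun {a b} φ => ?_), fun a => ?_⟩
  · obtain ⟨x, hx, hφ⟩ := Groth.L13.ChainCx.exists_rep φ
    apply Hom.ext
    show q1Map (g₁ ≫ h') (φ : Hom A a b).cl + Submodule.Quotient.mk (-(h'.f 1).hom (H0 b.pt)) =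
      Submodule.Quotient.mk (-(h'.f 1).hom (H0 a.pt)) + q1Map (g₂ ≫ h') (φ : Hom A a b).cl
    rw [hφ, q1Map_mk, q1Map_mk, ← Submodule.Quotient.mk_add, ← Submodule.Quotient.mk_add, Submodule.Quotient.eq]
    refine ⟨(h'.f 2).hom ((H.hom 1 2).hom x), ?_⟩
    rw [Groth.L13.ChainCx.comm]
    show _ = (h'.f 1).hom ((g₁.f 1).hom x) + -(h'.f 1).hom (H0 b.pt) -
      (-(h'.f 1).hom (H0 a.pt) + (h'.f 1).hom ((g₂.f 1).hom x))
    rw [c1, hx, map_sub, map_add, map_add, map_sub]
    abel
  · show Submodule.Quotient.mk (-(h'.f 1).hom (H0 ((f.f 0).hom a.pt))) = 0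
    have e : H0 ((f.f 0).hom a.pt) = 0 := LinearMap.congr_fun (congrArg ModuleCat.Hom.hom (hH 0 1)) a.pt
    rw [e, map_zero, neg_zero, Submodule.Quotient.mk_zero]

end Groth.Agent.S16331
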