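import Groth.Statements.S16332
import Groth.Agent.L13.ChainCx.Tensor

set_option autoImplicit false
universe v
open CategoryTheory MonoidalCategory
open W4c3biextchow

namespace Groth.Agent.S16332

/-- Let R be a commutative ring, C an ℕ-indexed chain complex of R-modules whose degree-0 term C_0 is a
free R-module, G an R-module, and π : P ⟶ G[0] a quasi-isomorphism from an ℕ-indexed chain complex P
of free R-modules onto G placed in degree 0 (a free resolution of G), so that the tensor product of
complexes C ⊗ P represents the derived tensor product of C and G. Then the map induced by π on first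
homology, H_1(C ⊗ P) → H_1(C ⊗ G[0]), is an isomorphism: in degree 1 the derived and the plain
tensor product with G have the same homology. (The published statement is over the integers, for
complexes vanishing in negative degrees with C_0 free abelian; this row allows any commutative ring
R and R-modules in the same universe as R.) -/
theorem result
    (R : Type v) [CommRing R] (C P : ChainComplex (ModuleCat.{v} R) ℕ) (G : ModuleCat.{v} R)
    [Module.Free R (C.X 0)] [∀ q, Module.Free R (P.X q)]
    (π : P ⟶ (ChainComplex.single₀ (ModuleCat.{v} R)).obj G) [QuasiIso π] :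
    IsIso (HomologicalComplex.homologyMap (C ◁ π) 1) := by
  let S := (ChainComplex.single₀ (ModuleCat.{v} R)).obj G
  have hsub : ∀ j, 0 < j → ∀ y : S.X j, y = 0 := fun j hj y => by
    have hz : Limits.IsZero (S.X j) := HomologicalComplex.isZero_single_obj_X _ _ _ _ (by omega)
    have := hz.eq_of_src (𝟙 (S.X j)) 0
    exact LinearMap.congr_fun (congrArg ModuleCat.Hom.hom this) y
  have hd : ∀ i j (y : S.X i), (S.d i j).hom y = 0 := fun i j y => by
    rw [HomologicalComplex.single_obj_d]; rfl
  have hiso : ∀ i, Mono (HomologicalComplex.homologyMap π i) ∧ Epi (HomologicalComplex.homologyMap π i) := fun i =>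
    (Groth.L13.ChainCx.isIso_iff π i).1 ((quasiIsoAt_iff_isIso_homologyMap π i).1 inferInstance)
  have hsurj : Function.Surjective (π.f 0).hom := fun g => by
    obtain ⟨z, -, y, hy⟩ := (Groth.L13.ChainCx.epi_iff π 0).1 (hiso 0).2 g (Groth.L13.ChainCx.isCycle_zero_degree _ g)
    rw [hd, eq_comm, sub_eq_zero] at hy
    exact ⟨z, hy.symm⟩
  have hex0 : Function.Exact (P.d 1 0).hom (π.f 0).hom := fun z => by
    constructor
    · intro hz
      exact (Groth.L13.ChainCx.mono_iff π 0).1 (hiso 0).1 z (Groth.L13.ChainCx.isCycle_zero_degree _ z)
        ⟨0, by rw [map_zero]; exact hz.symm⟩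
    · rintro ⟨y, rfl⟩
      exact (Groth.L13.ChainCx.comm P π 1 0 y).symm.trans (hd 1 0 _)
  have hex1 : Function.Exact (P.d 2 1).hom (P.d 1 0).hom := fun z => by
    constructor
    · intro hz
      exact (Groth.L13.ChainCx.mono_iff π 1).1 (hiso 1).1 z (Groth.L13.ChainCx.isCycle_succ P hz)
        ⟨0, by rw [map_zero]; exact (hsub 1 Nat.one_pos _).symm⟩
    · rintro ⟨y, rfl⟩
      exact Groth.L13.ChainCx.dd P 2 1 0 y
  exact Groth.L13.ChainCx.isIso_homologyMap_one π hsub hsurj hex0 hex1

end Groth.Agent.S16332
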