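import Groth.Statements.S16334
import Groth.Agent.L26.Pic0.Divisible
import Groth.Agent.S4277

set_option autoImplicit false
universe u
open CategoryTheory CategoryTheory.Limits AlgebraicGeometry
open Pic13

namespace Groth.Agent.S16334

/-- Let k be an algebraically closed field, X an integral smooth projective scheme over k and L an
invertible O_X-module which is numerically equivalent to zero (degree 0 on every closed subscheme of
X that is integral of dimension one). Then the class of L is the sum of an algebraically trivial
class and a torsion class: there are invertible O_X-modules E and T with E algebraically equivalent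
to zero, some positive tensor power of T isomorphic to O_X, and L ≅ E ⊗ T. -/
theorem result (k : Type u) [Field k] [IsAlgClosed k]
    (X : Scheme.{u}) [X.Over (Spec (CommRingCat.of k))] [IsIntegral X]
    [Smooth (X ↘ Spec (CommRingCat.of k))] [IsProper (X ↘ Spec (CommRingCat.of k))]
    (hproj : Neron.IsProjectiveOver k (Over.mk (X ↘ Spec (CommRingCat.of k))))
    (L : X.Modules) (hL : PicF.IsInvertible L) (hnum : Pic13.IsNumEquivZero k X L) :
    ∃ (E T : X.Modules), PicF.IsInvertible E ∧ PicF.IsInvertible T ∧ Pic13.IsAlgEquivZero k X E ∧
      (∃ m : ℕ, 0 < m ∧ Nonempty (CohB1.tensorPow T m ≅ Coh.structureModule X)) ∧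
      Nonempty (L ≅ CohB1.tensorMod E T) := by
  let W : Over (Spec (CommRingCat.of k)) := Over.mk (X ↘ Spec (CommRingCat.of k))
  haveI : IsIntegral W.left := ‹IsIntegral X›
  haveI : IsProper W.hom := ‹IsProper (X ↘ Spec (CommRingCat.of k))›
  haveI : Smooth W.hom := ‹Smooth (X ↘ Spec (CommRingCat.of k))›
  haveI : GeometricallyIntegral W.hom := Groth.L08.Cube.geometricallyIntegral_of_isAlgClosed _
  exact Groth.Agent.Pic0.AlbCls.exists_algEquiv_tensor_torsion (W := W) L hL
    (Groth.Agent.S4277.result k X L hL hnum)

end Groth.Agent.S16334
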