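import Groth.Statements.S16335
import Groth.Agent.L08.Avg
import Mathlib.RingTheory.TensorProduct.Maps

set_option autoImplicit false
universe u v w w'
open TensorProduct
open InvTh

namespace Groth.Agent.S16335
open TensorProduct

/-- Let `R` be a commutative ring with an action of a finite group `Γ` by ring automorphisms such that
the order of `Γ` is invertible in `R`, and let `A → R` be injective with image exactly the
invariants `R^Γ`, the action being `A`-linear. Then for every commutative `A`-algebra `S`, with `Γ`
acting on `S ⊗_A R` through the factor `R`, the map `S → S ⊗_A R`, `s ↦ s ⊗ 1`, is injective and its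
image is exactly the set of `Γ`-fixed elements: `S ≅ (S ⊗_A R)^Γ`. No flatness of `S` over `A` is
assumed; the invertibility of the order of `Γ` replaces it. This is the affine statement that for a
tame quotient the coarse space commutes with arbitrary base change. (The published lemma is the
statement that the coarse moduli space of a tame Deligne–Mumford stack commutes with arbitrary base
change, whose proof reduces to this ring statement. The published lemma also asserts the analogous
statement for the reduced fibre product when the base-change scheme is reduced; that clause is not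
part of this row.) -/
theorem result
    (A : Type u) [CommRing A] (R : Type v) [CommRing R] [Algebra A R]
    (Γ : Type w) [Group Γ] [Finite Γ] [MulSemiringAction Γ R] [SMulCommClass Γ A R]
    [Algebra.IsInvariant A R Γ] (hinj : Function.Injective (algebraMap A R))
    (hΓ : IsUnit (Nat.card Γ : R))
    (S : Type w') [CommRing S] [Algebra A S] :
    Function.Injective (fun s : S => s ⊗ₜ[A] (1 : R)) ∧
      ∀ x : S ⊗[A] R,
        (∀ γ : Γ, Algebra.TensorProduct.map (AlgHom.id A S) (MulSemiringAction.toAlgHom A R γ) x = x) →
          x ∈ Set.range (fun s : S => s ⊗ₜ[A] (1 : R)) := by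
  classical
  letI := Fintype.ofFinite Γ
  obtain ⟨c, hc⟩ := isUnit_iff_exists_inv.1 hΓ
  have hfix : ∀ γ : Γ, γ • c = c := by
    intro γ
    have h := congrArg (γ • ·) hc
    simp only [smul_mul', smul_one, ← map_natCast (algebraMap A R)] at h
    rw [smul_algebraMap, map_natCast] at h
    exact left_inv_eq_right_inv ((mul_comm _ _).trans h) hc
  obtain ⟨a, ha⟩ := Algebra.IsInvariant.isInvariant (A := A) (G := Γ) c hfix
  have hA : IsUnit (Nat.card Γ : A) := IsUnit.of_mul_eq_one a (hinj (by
    rw [map_mul, map_natCast, ha, hc, map_one]))
  let σ : Γ →* Module.End A R := Groth.L08.actHom A R Γ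
  let j : A →ₗ[A] R := Algebra.linearMap A R
  let e := LinearEquiv.ofInjective j hinj
  have havg : ∀ r, Groth.L08.avg hA σ r ∈ LinearMap.range j := fun r =>
    (Algebra.IsInvariant.isInvariant (A := A) (G := Γ) _ fun γ => Groth.L08.avg_fixed hA σ γ r)
  let ψ : R →ₗ[A] A := e.symm.toLinearMap ∘ₗ (Groth.L08.avg hA σ).codRestrict _ havg
  have hψ : ∀ r, algebraMap A R (ψ r) = Groth.L08.avg hA σ r := fun r => by
    change j (e.symm _) = _
    exact congrArg Subtype.val (e.apply_symm_apply ⟨_, havg r⟩)
  have hψ1 : ψ 1 = 1 := hinj (by
    rw [map_one (algebraMap A R), hψ]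
    exact Groth.L08.avg_of_fixed hA σ fun γ => smul_one γ)
  let r : S ⊗[A] R →ₗ[A] S := (TensorProduct.rid A S).toLinearMap ∘ₗ ψ.lTensor S
  have hr : ∀ s : S, r (s ⊗ₜ[A] (1 : R)) = s := fun s => by simp [r, hψ1]
  refine ⟨fun s t h => by rw [← hr s, ← hr t]; exact congrArg r h, fun x hx => ⟨r x, ?_⟩⟩
  have hτ : ∀ γ y, Groth.L08.lTensorHom' S σ γ y =
      Algebra.TensorProduct.map (AlgHom.id A S) (MulSemiringAction.toAlgHom A R γ) y := by
    intro γ y
    induction y with
    | zero => rw [map_zero, map_zero]
    | add p q hp hq => rw [map_add, map_add, hp, hq]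
    | tmul s t => rfl
  refine Eq.trans ?_ (Groth.L08.avg_of_fixed hA (Groth.L08.lTensorHom' S σ) fun γ => (hτ γ x).trans (hx γ))
  clear hx
  induction x with
  | zero => simp
  | add p q hp hq => simp only [map_add, TensorProduct.add_tmul, hp, hq]
  | tmul s t =>
    rw [Groth.L08.avg_lTensor, ← hψ]
    simp [r, Algebra.algebraMap_eq_smul_one, TensorProduct.smul_tmul]

end Groth.Agent.S16335
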