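import Groth.Statements.S16337
import Groth.Agent.L08.Avg
import Mathlib.RingTheory.Ideal.Operations

set_option autoImplicit false
universe u v w
open InvTh

namespace Groth.Agent.S16337

/-- Let `A` be a commutative ring, `Γ` a finite group whose order is invertible in `A`, `M` an
`A`-module with an `A`-linear action of `Γ`, and `I` an ideal of `A`. Then reduction modulo `I`
induces a bijection `M^Γ / I·M^Γ ≅ (M / IM)^Γ`: (a) an element of `M` fixed by `Γ` modulo `IM` is
congruent modulo `IM` to a `Γ`-fixed element, and (b) a `Γ`-fixed element lying in `IM` lies in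
`I·M^Γ`, where `M^Γ` is the submodule of `Γ`-fixed elements. (The published lemma says that
push-forward to the coarse space of a tame stack over a complete local base commutes with reduction
modulo powers of the maximal ideal; this row is the module statement its proof establishes, for an
arbitrary ideal.) -/
theorem result
    (A : Type u) [CommRing A] (Γ : Type v) [Group Γ] [Finite Γ] (hΓ : IsUnit (Nat.card Γ : A))
    (M : Type w) [AddCommGroup M] [Module A M] [DistribMulAction Γ M] [SMulCommClass Γ A M]
    (I : Ideal A) :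
    (∀ x : M, (∀ γ : Γ, γ • x - x ∈ I • (⊤ : Submodule A M)) →
        ∃ y : M, (∀ γ : Γ, γ • y = y) ∧ x - y ∈ I • (⊤ : Submodule A M)) ∧
      ∀ y : M, (∀ γ : Γ, γ • y = y) → y ∈ I • (⊤ : Submodule A M) →
        y ∈ I • Submodule.span A {m : M | ∀ γ : Γ, γ • m = m} := by
  refine ⟨fun x hx => ⟨Groth.L08.avg hΓ (Groth.L08.actHom A M Γ) x,
    fun γ => Groth.L08.avg_fixed hΓ (Groth.L08.actHom A M Γ) γ x, ?_⟩, fun y hy hyI => ?_⟩
  · rw [← neg_sub]
    exact neg_mem (Groth.L08.avg_sub hΓ (Groth.L08.actHom A M Γ) hx)
  · have hy' := Submodule.mem_map_of_mem (f := Groth.L08.avg hΓ (Groth.L08.actHom A M Γ)) hyI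
    rw [Submodule.map_smul'', Groth.L08.avg_of_fixed hΓ (Groth.L08.actHom A M Γ) hy] at hy'
    refine Submodule.smul_mono le_rfl ?_ hy'
    rintro _ ⟨z, -, rfl⟩
    exact Submodule.subset_span fun γ => Groth.L08.avg_fixed hΓ (Groth.L08.actHom A M Γ) γ z

end Groth.Agent.S16337
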