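import Groth.Statements.S16338
import Groth.Agent.L09.GeomStab.EndTrans

set_option autoImplicit false
universe u
open CategoryTheory
open AlgSt

set_option backward.isDefEq.respectTransparency false
set_option backward.isDefEq.respectTransparency.types false

namespace Groth.Agent.S16338

open CategoryTheory.Limits AlgebraicGeometry AlgSt Groth.L24.St

set_option backward.isDefEq.respectTransparency false
set_option backward.isDefEq.respectTransparency.types false

/-- Let `S` be a scheme, `𝒳` and `𝒴` Deligne–Mumford stacks over `(Sch/S)` (fppf topology) such that the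
diagonal of `𝒴` is representable by algebraic spaces and separated (the isomorphism spaces of `𝒴`
are separated), and `F : 𝒳 → 𝒴` a functor over `(Sch/S)` representable by algebraic spaces. Suppose
`i : 𝒰 → 𝒳` and `j : 𝒱 → 𝒴` are open immersions with `𝒰`, `𝒱` representable by algebraic spaces, the
image of `|𝒰|` is dense in `|𝒳|`, and `F` maps `𝒰` into `𝒱`: there is `G : 𝒰 → 𝒱` with a
2-isomorphism `G ⋙ j ≅ i ⋙ F` over `(Sch/S)`. Then every 2-endomorphism `α : F ⇒ F` over `(Sch/S)`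
(all of which are invertible, the fibres being groupoids) equals the identity. Density is taken in
the topological space of points of `𝒳` (topological, not scheme-theoretic, density). (The published
statement works over a Noetherian base with Deligne–Mumford stacks whose isomorphism spaces are
separated and of finite type; this row keeps only the separatedness of the isomorphism spaces of
`𝒴`, which its proof uses.) -/
theorem result
    (S : AlgebraicGeometry.Scheme.{u}) (𝒳 𝒴 𝒰 𝒱 : AlgSt.Cat S)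
    (h𝒳 : AlgSt.IsDM AlgebraicGeometry.Scheme.fppfPrecoverage 𝒳)
    (h𝒴 : AlgSt.IsDM AlgebraicGeometry.Scheme.fppfPrecoverage 𝒴)
    (hΔ : AlgSt.RepByAlgSpWith AlgSp.IsSeparatedMor (FibCat.diag (FibCat.toSelf 𝒴)))
    (F : 𝒳 ⥤ᵇ 𝒴) (hF : AlgSt.RepByAlgSp1 F)
    (i : 𝒰 ⥤ᵇ 𝒳) (hi : AlgSt.IsOpenImm i) (h𝒰 : AlgSt.RepByAlgSp 𝒰)
    (hdense : Dense (Set.range (AlgSt.Points.map i)))
    (j : 𝒱 ⥤ᵇ 𝒴) (hj : AlgSt.IsOpenImm j) (h𝒱 : AlgSt.RepByAlgSp 𝒱)
    (G : 𝒰 ⥤ᵇ 𝒱) (e : BasedFunctor.comp G j ≅ BasedFunctor.comp i F)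
    (α : F ⟶ F) : α = 𝟙 F := by
  have hgU : FibCat.IsFibSetoid 𝒱.p := isFibSetoid_of_repByAlgSp h𝒱
  have : j.toFunctor.Full := full_of_isMono hgU.1 h𝒴.1.isStack.1 j
    (repWith_mono (fun _ _ _ _ h => Groth.L23.mono_of_repWith (P := @IsOpenImmersion)
      (fun _ _ φ (_ : IsOpenImmersion φ) => inferInstanceAs (Mono φ)) h) hj)
  refine BasedNatTrans.ext _ _ (NatTrans.ext (funext fun ξ => ?_))
  refine Groth.L09.EndTrans.app_eq_id h𝒳.1.isStack.1 h𝒴 hΔ α hdense ?_ ξ
  rintro _ ⟨q, rfl⟩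
  obtain ⟨r, rfl⟩ := Points.mk_surjective q
  refine ⟨r.map i, rfl, ?_⟩
  let c : j.obj (G.obj r.obj) ≅ F.obj (i.obj r.obj) := appIso e r.obj
  have hc : OverId c.hom := overId_app e.hom r.obj
  let β : j.obj (G.obj r.obj) ⟶ j.obj (G.obj r.obj) := c.hom ≫ α.toNatTrans.app (i.obj r.obj) ≫ c.inv
  have hβ : OverId β := hc.comp ((overId_app α _).comp hc.inv)
  obtain ⟨γ, hγ⟩ := j.toFunctor.map_surjective β
  have hγ' : OverId γ := overId_of_lift ((BasedFunctor.isHomLift_iff j (𝟙 (𝒱.p.obj (G.obj r.obj))) γ).1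
    (hγ ▸ hβ.lift (j.w_obj _)))
  have := hγ'.lift rfl
  have := hgU.2 (𝒱.p.obj (G.obj r.obj)) (Functor.Fiber.mk rfl) (Functor.Fiber.mk rfl)
  have h1 : γ = 𝟙 _ := congrArg Subtype.val (Subsingleton.elim
    (Functor.Fiber.homMk 𝒱.p (𝒱.p.obj (G.obj r.obj)) γ) (𝟙 _))
  subst h1
  rw [j.toFunctor.map_id] at hγ
  have h2 : α.toNatTrans.app (i.obj r.obj) = 𝟙 _ := by
    have := congrArg (fun m => c.inv ≫ m ≫ c.hom) hγ
    simp only [β, Category.assoc, Iso.inv_hom_id, Category.comp_id, Category.id_comp] at this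
    rw [Iso.inv_hom_id_assoc] at this
    exact this.symm
  exact h2

end Groth.Agent.S16338
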