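import Groth.Statements.S16339
import Groth.Agent.L24.InertiaGen.Diag
import Groth.Agent.L24.St.Bootstrap
import Groth.Agent.L24.TrivStab.Rigid


set_option autoImplicit false
set_option backward.isDefEq.respectTransparency.types false
universe u
open CategoryTheory
open AlgSt

namespace Groth.Agent.S16339

/-- Let `S` be a scheme and `g : 𝒢 → ℱ` a functor over `(Sch/S)` between Deligne–Mumford stacks (fppf
topology). Suppose that for every algebraically closed field `k` and every object `ξ` of `𝒢` lying
over `Spec k → S`, the homomorphism `Aut(ξ) → Aut(g(ξ))` of automorphism groups over the identity is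
injective, stated here as: every endomorphism `a` of `ξ` over the identity of `Spec k` with `g(a) =
𝟙` is `𝟙` (such `a` are automorphisms, the fibres being groupoids). Then `g` is representable by
algebraic spaces. (The published statement is the equivalence of the two conditions. The converse
implication — a functor representable by algebraic spaces is injective on automorphism groups over
identities — holds for every morphism of algebraic stacks and every object, and is not part of this
row. The published statement works under the convention that Deligne–Mumford stacks have isomorphism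
spaces of finite type and separated over a Noetherian base; this row assumes only that both stacks
are Deligne–Mumford.) -/
theorem result
    (S : AlgebraicGeometry.Scheme.{u}) (𝒢 ℱ : AlgSt.Cat S)
    (h𝒢 : AlgSt.IsDM AlgebraicGeometry.Scheme.fppfPrecoverage 𝒢)
    (hℱ : AlgSt.IsDM AlgebraicGeometry.Scheme.fppfPrecoverage ℱ)
    (g : 𝒢 ⥤ᵇ ℱ)
    (hinj : ∀ (k : Type u) [Field k] [IsAlgClosed k] (s : AlgebraicGeometry.Spec (CommRingCat.of k) ⟶ S)
        (ξ : 𝒢.obj) (hξ : 𝒢.p.obj ξ = Over.mk s) (a : ξ ⟶ ξ),
        𝒢.p.IsHomLift (𝟙 (𝒢.p.obj ξ)) a → g.map a = 𝟙 (g.obj ξ) → a = 𝟙 ξ) :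
    AlgSt.RepByAlgSp1 g := by
  have hg := h𝒢.1.isStack.1
  have hgℱ := hℱ.1.isStack.1
  have hI := Groth.L24.InertiaGen.inertia_repWith_of_diag hg
    (Groth.L24.InertiaGen.diag_unramified hg h𝒢.1.diag h𝒢.2)
  refine (Groth.L24.St.rep1_iff_trivialKernel h𝒢.1 hℱ.1 g).2 fun a φ hp hf => ?_
  refine Groth.L24.TrivStab.eq_id_of_geometric hg hI a φ
    (Groth.L24.St.OverId.of_eq rfl hp) fun Ω _ _ s b hb m ψ hψ hψc => hinj Ω s b hb ψ hψ ?_
  have := hgℱ.isStronglyCartesian (g.map m)
  have : ℱ.p.IsHomLift (𝟙 (ℱ.p.obj (g.obj b))) (g.map ψ) := hψ.map g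
  have : ℱ.p.IsHomLift (𝟙 (ℱ.p.obj (g.obj b))) (𝟙 (g.obj b)) := Groth.L24.St.overId_id _
  refine Functor.IsStronglyCartesian.ext ℱ.p (ℱ.p.map (g.map m)) (g.map m) (𝟙 (ℱ.p.obj (g.obj b))) ?_
  rw [Category.id_comp, ← g.toFunctor.map_comp, hψc, g.toFunctor.map_comp, hf, Category.comp_id]

end Groth.Agent.S16339
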