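import Groth.Statements.S1634
import Groth.Agent.L05.PtChain.Geo.Complete

set_option autoImplicit false
universe u
open CategoryTheory CategoryTheory.Limits AlgebraicGeometry
open Resolve

namespace Groth.Agent.S1634
set_option backward.isDefEq.respectTransparency false
set_option backward.isDefEq.respectTransparency.types false
set_option linter.style.haveILetI false

/-- Let A be a Noetherian local ring which is complete, a normal domain, and of dimension two. Then Spec
A has a resolution of singularities: a proper morphism from an integral scheme all of whose local
rings are regular, which is an isomorphism over some nonempty open of Spec A. -/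
theorem result (A : Type u) [CommRing A] [IsDomain A] [IsLocalRing A] [IsNoetherianRing A]
    [IsAdicComplete (IsLocalRing.maximalIdeal A) A] [IsIntegrallyClosed A] (hdim : ringKrullDim A = 2) :
    ∃ (X : Scheme.{u}) (f : X ⟶ Spec (CommRingCat.of A)), IsProper f ∧ IsIntegral X ∧
      (∀ x : X, IsRegularLocalRing (X.presheaf.stalk x)) ∧
      ∃ U : (Spec (CommRingCat.of A)).Opens, (U : Set (Spec (CommRingCat.of A))).Nonempty ∧ IsIso (f ∣_ U) := by
  obtain ⟨X, f, hR, hreg⟩ := Groth.L05.PtChain.exists_resolution_complete A hdim
  exact ⟨X, f, hR.proper, hR.integral, hreg, hR.bir⟩

end Groth.Agent.S1634
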