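import Groth.Statements.S16340
import Groth.Agent.L03.ShStab.Trunc

set_option autoImplicit false
open CategoryTheory CategoryTheory.Limits AlgebraicGeometry Polynomial
universe u
open ShStab

namespace Groth.Agent.S16340

/-- Let X be a scheme proper over a field k carrying an ample invertible sheaf L, Hilbert polynomials
being taken with respect to L, and let ι : E → E' be a monomorphism of coherent O_X-modules with
Hilbert polynomials P_E and P_E'. Then P_E(m) ≤ P_E'(m) for all large m; and if the cokernel of ι
has support of topological Krull dimension less than d (for example, if the cokernel is zero), then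
the multiplicities in dimension d agree: α_d(P_E) = α_d(P_E'), where α_d(P) is d! times the
coefficient of degree d. (The published statement is the case where E' is the saturation of E inside
a coherent sheaf of dimension d, over an algebraically closed field; the argument is unchanged for
any field.) -/
theorem result (k : Type u) [Field k] (X : Scheme.{u})
    [X.Over (Spec (CommRingCat.of k))] [IsProper (X ↘ Spec (CommRingCat.of k))]
    (L : X.Modules) (hL : CohB1.IsAmple L) (d : ℕ) (E E' : X.Modules)
    (hE : Coh.IsCoh E) (hE' : Coh.IsCoh E') (ι : E ⟶ E') [Mono ι]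
    (pE pE' : ℚ[X]) (hpE : ShStab.IsHilbPoly k X L E pE) (hpE' : ShStab.IsHilbPoly k X L E' pE') :
    StabCat.PolyLE pE pE' ∧
      (topologicalKrullDim (CohB1.support (cokernel ι)) < (d : WithBot ℕ∞) →
        StabCat.alpha d pE = StabCat.alpha d pE') := by
  haveI : IsLocallyNoetherian X := Groth.L03.ShStab.Basic.locallyNoetherian (k := k)
  obtain ⟨-, -, hC⟩ := Groth.L03.ShStab.Basic.coh_parts k hE hE' ι
  have hfin : ∀ M : X.Modules, Coh.IsCoh M → ∃ e : ℕ, topologicalKrullDim (CohB1.support M) ≤ (e : WithBot ℕ∞) := by
    intro M hM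
    obtain ⟨e, he⟩ := Groth.L03.Euler.exists_dim_bound k X
    exact ⟨e, (topologicalKrullDim_subspace_le X _).trans he⟩
  obtain ⟨e, he⟩ := hfin _ hC
  obtain ⟨pQ, hpQ⟩ := Groth.L03.ShStab.Basic.exists_hilb (k := k) hL.1 hC he
  have hsum := Groth.L03.ShStab.Basic.hilb_cokernel hL hE hE' ι hpE hpE' hpQ
  subst hsum
  refine ⟨?_, fun hlt => ?_⟩
  · rw [Groth.L03.ShStab.PolyOrd.polyLE_iff, add_sub_cancel_left]
    exact Groth.L03.ShStab.Basic.nonneg_leadingCoeff hL hC he hpQ
  · rw [Groth.L03.ShStab.PolyOrd.alpha_add, Groth.L03.ShStab.PolyOrd.alpha_eq_zero_iff.2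
      (Groth.L03.Euler.coeff_eq_zero_of_dim_lt hL.1 hC (Groth.L03.Euler.add_one_le_of_lt hlt) hpQ), add_zero]

end Groth.Agent.S16340
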