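import Groth.Statements.S16341
import Groth.Agent.L21.TFNodal.NormQuot
import Groth.Agent.L12.KRes.Regular
import Groth.Agent.L20.RG.FibreFreeFlat
import Groth.Agent.L06.SupportStalk
import Groth.Agent.L16.Exist.PushPull
import Groth.Agent.L16.Existence.Lemmas
import Groth.Agent.L18.CurveDimension
import Groth.Agent.L16.AffineBC.Pullback

set_option autoImplicit false
set_option backward.isDefEq.respectTransparency false
set_option linter.style.haveILetI false
universe u
open CategoryTheory CategoryTheory.Limits AlgebraicGeometry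
open Curves

namespace Groth.Agent.S16341

/-- Let C be a proper scheme over an algebraically closed field k, all of whose irreducible components
have dimension one and whose singularities are at worst nodal. Let π : C' → C be a finite morphism
from a normal scheme which is an isomorphism over a dense open subset of C whose preimage is dense
in C' (so C' is the normalisation of C). Then for every coherent O_C-module F which is pure of
dimension one there are a coherent, finite locally free O_{C'}-module F' and a monomorphism f : F →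
π_*F' whose cokernel has support inside the node set of C. (The published statement is for a stable
curve of genus at least two and phrases the middle term as a direct sum over the irreducible
components; the argument uses only that the curve is nodal and produces the push-forward from the
normalisation.) -/
theorem result (k : Type u) [Field k] [IsAlgClosed k]
    (C : Scheme.{u}) [C.Over (Spec (CommRingCat.of k))] [IsProper (C ↘ (Spec (CommRingCat.of k)))]
    (hdim : ∀ Z ∈ irreducibleComponents (C : Type u), topologicalKrullDim Z = 1) (hC : Curv2.AtWorstNodal k C)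
    (C' : Scheme.{u}) (π : C' ⟶ C) [IsFinite π] (hC' : Pi1.IsNormalScheme C')
    (U : C.Opens) (hU : Dense (U : Set C)) (hU' : Dense ((π ⁻¹ᵁ U : C'.Opens) : Set C')) (hπU : IsIso (π ∣_ U))
    (F : C.Modules) (hF : Coh.IsCoh F) (hpure : ShStab.IsPure C F 1) :
    ∃ (F' : C'.Modules) (f : F ⟶ (Scheme.Modules.pushforward π).obj F'),
      Coh.IsCoh F' ∧ FlatMod.IsFinLocFree F' ∧ Mono f ∧
        CohB1.support (cokernel f) ⊆ {x : C | Curv2.IsNode k C x} := by
  haveI := Groth.L21.RR.isNoetherian_of_proper (X := C) k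
  haveI := Groth.L21.NormRed.isReduced_of_atWorstNodal k hdim hC
  haveI : IsLocallyNoetherian C' := LocallyOfFiniteType.isLocallyNoetherian π
  haveI := hπU
  letI : C'.Over (Spec (CommRingCat.of k)) := ⟨π ≫ (C ↘ (Spec (CommRingCat.of k)))⟩
  haveI hdom : ∀ y : C', IsDomain (C'.presheaf.stalk y) := fun y => (hC' y).1
  haveI : IsReduced C' := by
    haveI : ∀ y : C', _root_.IsReduced (C'.presheaf.stalk y) := fun y => by
      haveI := hdom y
      infer_instance
    exact isReduced_of_isReduced_stalk C'
  have hd := Groth.L21.NormRed.dim_le_one_of_components hdim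
  have hcl := (Groth.L21.Nodal.curveLike_iff C).2 hdim
  have hfinN : {x : C | Curv2.IsNode k C x}.Finite := by
    obtain ⟨Fn, -, hF0, -⟩ := Groth.L21.NormRed.euler_formula k π rfl hd hC' hU hU'
    refine Fn.finite_toSet.subset fun x hx => ?_
    by_contra hxF
    have := hF0 x hx.1 hxF
    rw [Groth.L21.NormRed.deltaInv_of_isNode k hdim hx] at this
    exact one_ne_zero this
  have hNcl : IsClosed {x : C | Curv2.IsNode k C x} := by
    rw [← Set.biUnion_of_singleton {x : C | Curv2.IsNode k C x}]
    exact hfinN.isClosed_biUnion fun x hx => hx.1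
  let U' : C.Opens := ⟨{x : C | Curv2.IsNode k C x}ᶜ, hNcl.isOpen_compl⟩
  have hU'd : Dense (U' : Set C) := fun x => by
    by_cases hx : IsClosed ({x} : Set C)
    · obtain ⟨w, hw, hwx⟩ := hcl.2 x hx
      have hwU : ¬ Curv2.IsNode k C w := fun h => hw (hwx.mem_closed h.1 rfl).symm
      exact closure_mono (Set.singleton_subset_iff.2 (show w ∈ (U' : Set C) from hwU))
        (specializes_iff_mem_closure.1 hwx)
    · exact subset_closure (show x ∈ (U' : Set C) from fun h => hx h.1)
  have hW : ∀ x ∈ U', IsDomain (C.presheaf.stalk x) ∧ IsIntegrallyClosed (C.presheaf.stalk x) := by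
    intro x hxU
    by_cases hx : IsClosed ({x} : Set C)
    · obtain ⟨V, hxV, hV⟩ := (hC x hx).resolve_right hxU
      haveI := hV
      have e := (V.stalkIso ⟨x, hxV⟩).commRingCatIsoToRingEquiv
      haveI := Groth.L21.Smooth.isDomain_stalk (V.ι ≫ (C ↘ (Spec (CommRingCat.of k)))) ⟨x, hxV⟩
      haveI := Groth.L21.Smooth.isIntegrallyClosed_stalk (V.ι ≫ (C ↘ (Spec (CommRingCat.of k)))) ⟨x, hxV⟩
      exact ⟨e.symm.toMulEquiv.isDomain _, IsIntegrallyClosed.of_equiv e⟩
    · letI := (Groth.L21.TFNodal.isField_stalk_of_nonclosed (fun a b c => hcl.1 a b c) hx).toField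
      exact ⟨inferInstance, inferInstance⟩
  haveI := Groth.L21.TFNodal.isIso_restrict_of_normal π hU hU' hW
  have hU'd' : Dense ((π ⁻¹ᵁ U' : C'.Opens) : Set C') := by
    rw [dense_iff_inter_open]
    intro O hO hne
    obtain ⟨y, hyO, hyU⟩ := hU'.inter_open_nonempty O hO hne
    let O' : C.Opens := U.ι ''ᵁ ((π ∣_ U).opensFunctor.obj ((π ⁻¹ᵁ U).ι ⁻¹ᵁ ⟨O, hO⟩))
    obtain ⟨t, ⟨t₀, ⟨q, hq, rfl⟩, rfl⟩, htU⟩ := hU'd.inter_open_nonempty _ O'.2
      ⟨U.ι ((π ∣_ U) ⟨y, hyU⟩), (π ∣_ U) ⟨y, hyU⟩, ⟨⟨y, hyU⟩, hyO, rfl⟩, rfl⟩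
    refine ⟨(π ⁻¹ᵁ U).ι q, hq, ?_⟩
    show π ((π ⁻¹ᵁ U).ι q) ∈ U'
    rw [← Scheme.Hom.comp_apply, ← morphismRestrict_ι]
    exact htU
  have h : Groth.L21.TFNodal.Setting k C C' π U' :=
    { hdim := hdim, hnorm := hC', hUd := hU'd, hUd' := hU'd', hU := fun x => Iff.rfl }
  haveI : Coh.IsQCoh F := hF.1
  have hT : Coh.IsCoh ((Scheme.Modules.pullback π).obj F) := Groth.L16.AffineBC.isCoh_pullback π hF
  let DX : C.Opens := U' ⊓ ⟨_, Groth.L12.KRes.isOpen_flatLocus hF⟩
  have hDX : ∀ x : C, ¬ IsClosed ({x} : Set C) → x ∈ DX := fun x hx => by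
    refine ⟨fun hn => hx hn.1, ?_⟩
    letI := (Groth.L21.TFNodal.isField_stalk_of_nonclosed (fun a b c => hcl.1 a b c) hx).toField
    show Module.Flat (C.presheaf.stalk x) (F.presheaf.stalk x)
    infer_instance
  obtain ⟨E, p, hp, hE, hEtf, hpinj⟩ := Groth.L21.TFNodal.exists_tf_quotient hdom (π ⁻¹ᵁ DX) hT fun z hz => by
    haveI : Module.Flat (C'.presheaf.stalk z) (((Scheme.Modules.pullback π).obj F).presheaf.stalk z) :=
      Groth.L20.RG.FibreFree.isFlatAt_pullback π F z hz.2
    haveI := hdom z
    infer_instance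
  haveI := hp
  haveI : Coh.IsQCoh E := hE.1
  haveI : Coh.IsQCoh ((Scheme.Modules.pullback π).obj F) := hT.1
  have hEfree : FlatMod.IsFinLocFree E := by
    refine Groth.L15.CohFlat.isFinLocFree_of_isCoh_isFlat E hE fun y => ?_
    haveI := hdom y
    haveI := (hC' y).2
    have hdy : ringKrullDim (C'.presheaf.stalk y) ≤ 1 :=
      (Groth.L18.CurveDim.dim_stalk_le_one_iff y).2 fun a b => Groth.L21.TFNodal.spec_cases π hd a b y
    haveI := Groth.L18.Codim1.valuationRing_of_normal (C'.presheaf.stalk y) hdy
    haveI : IsPrincipalIdealRing (C'.presheaf.stalk y) := inferInstance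
    haveI := Groth.L06.SupportStalk.finite_stalk E hE y
    haveI := hEtf y
    haveI : Module.Free (C'.presheaf.stalk y) (E.presheaf.stalk y) := Module.free_of_finite_type_torsion_free'
    exact inferInstanceAs (Module.Flat (C'.presheaf.stalk y) (E.presheaf.stalk y))
  let u := (Scheme.Modules.pullbackPushforwardAdjunction π).unit.app F
  let f : F ⟶ (Scheme.Modules.pushforward π).obj E := u ≫ (Scheme.Modules.pushforward π).map p
  have hinj : ∀ x ∈ DX, Function.Injective ((Groth.L00.Stk.F C x).map f).hom := by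
    intro x hx
    refine (injective_iff_map_eq_zero _).2 fun v hv => ?_
    obtain ⟨W, hxW, s, rfl⟩ := TopCat.Presheaf.exists_germ_eq F.presheaf v
    replace hv := (Groth.L21.Mod.stalkF_map_germ f W x hxW s).symm.trans hv
    obtain ⟨W', hxW', i₁, i₂, hW'⟩ := TopCat.Presheaf.germ_eq ((Scheme.Modules.pushforward π).obj E).presheaf x hxW hxW
      (f.app W s) 0 (hv.trans (map_zero _).symm)
    have hle : W' ⊓ DX ≤ W := inf_le_left.trans i₁.le
    have ht : f.app (W' ⊓ DX) (Groth.L18.Frame.rs F hle s) = 0 := by
      rw [Groth.L17.BC.PullSec.app_rs]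
      refine (Groth.L18.Frame.rs_rs ((Scheme.Modules.pushforward π).obj E) i₁.le inf_le_left _).symm.trans ?_
      exact (congrArg (Groth.L18.Frame.rs ((Scheme.Modules.pushforward π).obj E) inf_le_left)
        (hW'.trans (map_zero _))).trans (map_zero _)
    have hu0 : u.app (W' ⊓ DX) (Groth.L18.Frame.rs F hle s) = 0 :=
      hpinj (π ⁻¹ᵁ (W' ⊓ DX)) (π.preimage_mono inf_le_right) (ht.trans (map_zero _).symm)
    rw [← Groth.L20.ModStalk.germ_rs F hle ⟨hxW', hx⟩ s]
    refine Groth.L21.TFNodal.injective_stalk_unit h hx.1 ?_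
    rw [map_zero]
    refine (Groth.L21.Mod.stalkF_map_germ u _ x _ _).trans ?_
    exact (congrArg (((Scheme.Modules.pushforward π).obj ((Scheme.Modules.pullback π).obj F)).presheaf.germ _ x _) hu0).trans (map_zero _)
  have hgen := Groth.L21.TFNodal.generates_comp (π := π) (F := F) p
  refine ⟨E, f, hE, hEfree, ?_, fun x hx => ?_⟩
  · have hK : Coh.IsCoh (kernel f) :=
      (Groth.L16.CohKernel.isCoh_kernel_cokernel hF (Groth.L16.Exist.isCoh_pushforward π hE) f).1
    by_contra hm
    have hne : ¬ IsZero (kernel f) := fun hz => hm (Preadditive.mono_of_isZero_kernel f hz)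
    have hdK := hpure (kernel f) (kernel.ι f) inferInstance hK hne
    have hScl : IsClosed (CohB1.support (kernel f)) := Groth.L16.CohSupport.isClosed_support _ hK.2
    have hS : ∀ x ∈ CohB1.support (kernel f), IsClosed ({x} : Set C) := fun x hx => by
      by_contra hxc
      refine hx ⟨fun a b => ?_⟩
      have hz : ∀ v, ((Groth.L00.Stk.F C x).map f).hom (((Groth.L00.Stk.F C x).map (kernel.ι f)).hom v) = 0 :=
        fun v => by
          show ((Groth.L00.Stk.F C x).map (kernel.ι f) ≫ (Groth.L00.Stk.F C x).map f).hom v = 0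
          rw [← Functor.map_comp, kernel.condition, Functor.map_zero]
          rfl
      exact (Groth.L21.Mod.mono_iff_stalk_injective (kernel.ι f)).1 inferInstance x
        (hinj x (hDX x hxc) ((hz a).trans (hz b).symm))
    haveI : QuasiSober (CohB1.support (kernel f)) := hScl.isClosedEmbedding_subtypeVal.quasiSober
    rw [Groth.L19.topologicalKrullDim_eq_krullDim] at hdK
    have h0 : @Order.krullDim (CohB1.support (kernel f)) (specializationOrder _).toPreorder ≤ 0 := by
      let _ : Preorder (CohB1.support (kernel f)) := (specializationOrder _).toPreorder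
      refine iSup_le fun q => ?_
      have hq : q.length = 0 := by
        by_contra hq
        have h01 := q.strictMono (show (⟨0, by omega⟩ : Fin (q.length + 1)) < ⟨1, by omega⟩ from Fin.mk_lt_mk.2 Nat.zero_lt_one)
        have hs : (q ⟨1, by omega⟩).1 ⤳ (q ⟨0, by omega⟩).1 := h01.le.map continuous_subtype_val
        exact h01.ne (Subtype.ext (hs.mem_closed (hS _ (q ⟨1, by omega⟩).2) rfl))
      simp [hq]
    rw [hdK] at h0
    exact absurd h0 (by norm_num)
  · by_contra hxn
    exact hx (Groth.L21.TFNodal.subsingleton_coker_stalk f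
      (Groth.L21.TFNodal.surjective_stalk_of_mem h _ hgen (show x ∈ U' from hxn)))

end Groth.Agent.S16341
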