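import Groth.Statements.S16342
import Groth.Agent.L21.NormRed.Nodal

set_option autoImplicit false
universe u
open CategoryTheory CategoryTheory.Limits AlgebraicGeometry
open Curves

namespace Groth.Agent.S16342

/-- Let C be a proper scheme, not necessarily connected, over an algebraically closed field k, all of
whose irreducible components have dimension one and whose singularities are at worst nodal. Let π :
C' → C be a finite morphism from a normal scheme which is an isomorphism over a dense open subset of
C whose preimage is dense in C' (so C' is the normalisation of C, the disjoint union of the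
normalisations of its irreducible components). If δ is the number of nodes of C, and ν and μ are the
numbers of connected components of C' and of C respectively, then g(C) + ν = g(C') + δ + μ, where g
denotes the dimension of H^1 of the structure sheaf; with g(C') the sum of the genera of the
components this is g(C) = Σ_i g_i + δ − ν + μ. -/
theorem result (k : Type u) [Field k] [IsAlgClosed k]
    (C : Scheme.{u}) [C.Over (Spec (CommRingCat.of k))] [IsProper (C ↘ (Spec (CommRingCat.of k)))]
    (hdim : ∀ Z ∈ irreducibleComponents (C : Type u), topologicalKrullDim Z = 1) (hC : Curv2.AtWorstNodal k C)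
    (C' : Scheme.{u}) (π : C' ⟶ C) [IsFinite π] (hC' : Pi1.IsNormalScheme C')
    (U : C.Opens) (hU : Dense (U : Set C)) (hU' : Dense ((π ⁻¹ᵁ U : C'.Opens) : Set C')) (hπU : IsIso (π ∣_ U)) :
    letI : C'.Over (Spec (CommRingCat.of k)) := ⟨π ≫ (C ↘ (Spec (CommRingCat.of k)))⟩
    (Curv2.genus k C : ℤ) + Nat.card (_root_.ConnectedComponents C') =
      (Curv2.genus k C' : ℤ) + Nat.card {x : C // Curv2.IsNode k C x} + Nat.card (_root_.ConnectedComponents C) := by
  letI : C'.Over (Spec (CommRingCat.of k)) := ⟨π ≫ (C ↘ (Spec (CommRingCat.of k)))⟩
  haveI := hπU
  exact Groth.L21.NormRed.genus_formula k hdim π rfl hC hC' hU hU'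

end Groth.Agent.S16342
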