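import Groth.Statements.S16343
import Mathlib.Data.Nat.Factorization.Induction
import Mathlib.Order.Zorn
import Mathlib.GroupTheory.OrderOfElement
import Mathlib.Data.Int.GCD
import Mathlib.Algebra.Group.Subgroup.Map
import Mathlib.Tactic.Abel
import Mathlib.RingTheory.PrincipalIdealDomain
import Mathlib.RingTheory.Int.Basic

set_option autoImplicit false
open KatoHom

namespace Groth.Agent.S16343

/-- Let P be a set of primes and π : A → T a surjection of abelian groups whose kernel is ℓ-divisible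
for every ℓ ∈ P, with T a torsion group; let T(P) be the subgroup of elements of T killed by a
positive integer all of whose prime factors lie in P, and T' the subgroup of elements killed by a
positive integer none of whose prime factors lies in P. Then the preimage π⁻¹(T') is ℓ-divisible for
every ℓ ∈ P, and π has a section s over T(P) for which (d, t) ↦ d + s(t) is a bijection from π⁻¹(T')
× T(P) onto A, so that A is the direct sum of π⁻¹(T') and a copy of T(P). (The decomposition is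
expressed through a section of π over T(P).) -/
theorem result
    {A T : Type*} [AddCommGroup A] [AddCommGroup T] (P : Set ℕ) (hP : ∀ p ∈ P, p.Prime)
    (π : A →+ T) (hπ : Function.Surjective π) (hT : ∀ t : T, ∃ n : ℕ, 0 < n ∧ n • t = 0)
    (hD : ∀ ℓ ∈ P, ∀ x ∈ π.ker, ∃ y ∈ π.ker, ℓ • y = x)
    (TP T' : AddSubgroup T)
    (hTP : ∀ t, t ∈ TP ↔ ∃ n : ℕ, 0 < n ∧ (∀ p : ℕ, p.Prime → p ∣ n → p ∈ P) ∧ n • t = 0)
    (hT' : ∀ t, t ∈ T' ↔ ∃ n : ℕ, 0 < n ∧ (∀ p : ℕ, p.Prime → p ∣ n → p ∉ P) ∧ n • t = 0) :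
    (∀ ℓ ∈ P, ∀ x ∈ T'.comap π, ∃ y ∈ T'.comap π, ℓ • y = x) ∧
    ∃ s : TP →+ A, (∀ t : TP, π (s t) = (t : T)) ∧
      Function.Bijective (fun q : (T'.comap π) × TP => (q.1 : A) + s q.2) := by
  classical
  have hsplit : ∀ t : T, ∀ a b : ℕ, Nat.Coprime a b → (a * b) • t = 0 → ∃ u v : T, t = u + v ∧ a • u = 0 ∧ b • v = 0 := by
    intro t a b hab h
    have h1 : (1 : ℤ) = a * Nat.gcdA a b + b * Nat.gcdB a b := by
      have := Nat.gcd_eq_gcd_ab a b
      rwa [hab.gcd_eq_one, Nat.cast_one] at this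
    have h' : ((a : ℤ) * b) • t = 0 := by rw [← Nat.cast_mul, natCast_zsmul, h]
    refine ⟨((b : ℤ) * Nat.gcdB a b) • t, ((a : ℤ) * Nat.gcdA a b) • t, ?_, ?_, ?_⟩
    · rw [← add_smul, add_comm, ← h1, one_smul]
    · rw [← natCast_zsmul, smul_smul, ← mul_assoc, mul_comm _ (Nat.gcdB a b), mul_smul, h', smul_zero]
    · rw [← natCast_zsmul, smul_smul, ← mul_assoc, mul_comm (b:ℤ) a, mul_comm _ (Nat.gcdA a b), mul_smul, h', smul_zero]
  have hdec : ∀ n : ℕ, 0 < n → ∀ t : T, n • t = 0 → ∃ u ∈ T', ∃ v ∈ TP, t = u + v := by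
    intro n
    induction n using Nat.recOnPrimeCoprime with
    | zero => intro h; exact absurd h (lt_irrefl 0)
    | prime_pow q k hq =>
      intro hpos t ht
      have hdvd : ∀ r : ℕ, r.Prime → r ∣ q ^ k → r = q := fun r hr hd => (Nat.prime_dvd_prime_iff_eq hr hq).1 (hr.dvd_of_dvd_pow hd)
      by_cases hqP : q ∈ P
      · exact ⟨0, T'.zero_mem, t, (hTP t).2 ⟨_, hpos, fun r hr hd => hdvd r hr hd ▸ hqP, ht⟩, (zero_add t).symm⟩
      · exact ⟨t, (hT' t).2 ⟨_, hpos, fun r hr hd => hdvd r hr hd ▸ hqP, ht⟩, 0, TP.zero_mem, (add_zero t).symm⟩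
    | coprime a b ha hb hab iha ihb =>
      intro hpos t ht
      obtain ⟨u, v, rfl, hu, hv⟩ := hsplit t a b hab ht
      obtain ⟨u1, hu1, v1, hv1, rfl⟩ := iha (by omega) u hu
      obtain ⟨u2, hu2, v2, hv2, rfl⟩ := ihb (by omega) v hv
      exact ⟨u1 + u2, T'.add_mem hu1 hu2, v1 + v2, TP.add_mem hv1 hv2, by abel⟩
  have hdisj : ∀ t, t ∈ T' → t ∈ TP → t = 0 := by
    intro t h1 h2
    obtain ⟨a, -, ha, hat⟩ := (hT' t).1 h1
    obtain ⟨b, -, hb, hbt⟩ := (hTP t).1 h2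
    have hcop : Nat.Coprime a b := Nat.coprime_of_dvd fun r hr h h' => ha r hr h (hb r hr h')
    have := addOrderOf_dvd_of_nsmul_eq_zero hat
    have h' := addOrderOf_dvd_of_nsmul_eq_zero hbt
    have h1 := Nat.dvd_gcd this h'
    rw [hcop.gcd_eq_one, Nat.dvd_one] at h1
    exact AddMonoid.addOrderOf_eq_one_iff.1 h1
  refine ⟨fun ℓ hl x hx => ?_, ?_⟩
  · obtain ⟨n, hn, hnP, hnt⟩ := (hT' _).1 hx
    have hcop : Nat.Coprime ℓ n := (hP ℓ hl).coprime_iff_not_dvd.2 fun h => hnP ℓ (hP ℓ hl) h hl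
    obtain ⟨u, v, h, hu, hv⟩ := hsplit (π x) ℓ n hcop (by rw [mul_smul, hnt, smul_zero])
    have h1 : (1 : ℤ) = ℓ * Nat.gcdA ℓ n + n * Nat.gcdB ℓ n := by
      have := Nat.gcd_eq_gcd_ab ℓ n
      rwa [hcop.gcd_eq_one, Nat.cast_one] at this
    have hx1 : π x = (ℓ : ℤ) • (Nat.gcdA ℓ n • π x) := by
      conv_lhs => rw [← one_smul ℤ (π x), h1, add_smul, mul_comm (n:ℤ), mul_smul _ (n:ℤ), natCast_zsmul (π x) n, hnt, smul_zero, add_zero, mul_smul]
    have hk : x - ℓ • (Nat.gcdA ℓ n • x) ∈ π.ker := by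
      rw [AddMonoidHom.mem_ker, map_sub, map_nsmul, map_zsmul, ← natCast_zsmul, ← hx1, sub_self]
    obtain ⟨d, hd, hde⟩ := hD ℓ hl _ hk
    refine ⟨Nat.gcdA ℓ n • x + d, ?_, by rw [nsmul_add, hde, add_sub_cancel]⟩
    rw [AddSubgroup.mem_comap, map_add, map_zsmul, AddMonoidHom.mem_ker.1 hd, add_zero]
    exact T'.zsmul_mem hx _
  · let 𝒮 : Set (AddSubgroup A) := {S | S ≤ TP.comap π ∧ ∀ a ∈ S, π a = 0 → a = 0}
    have hbot : (⊥ : AddSubgroup A) ∈ 𝒮 := ⟨bot_le, fun a ha _ => by simpa using ha⟩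
    obtain ⟨S, -, hS⟩ := zorn_le_nonempty₀ 𝒮 (fun c hc hch y hy => by
      refine ⟨sSup c, ⟨sSup_le fun s hs => (hc hs).1, fun a ha h0 => ?_⟩, fun s hs => le_sSup hs⟩
      obtain ⟨s, hs, has⟩ := (AddSubgroup.mem_sSup_of_directedOn ⟨y, hy⟩ hch.directedOn).1 ha
      exact (hc hs).2 a has h0) ⊥ hbot
    obtain ⟨⟨hSle, hSker⟩, hmax⟩ := hS
    have hstep : ∀ ℓ ∈ P, ∀ t ∈ TP, ℓ • t ∈ S.map π → t ∈ S.map π := by
      intro ℓ hl t ht hlt
      by_contra hnot
      obtain ⟨s, hs, hst⟩ := AddSubgroup.mem_map.1 hlt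
      obtain ⟨e, rfl⟩ := hπ t
      obtain ⟨d, hd, hde⟩ := hD ℓ hl (ℓ • e - s) (by rw [AddMonoidHom.mem_ker, map_sub, map_nsmul, hst, sub_self])
      have he : ℓ • (e - d) = s := by rw [nsmul_sub, hde, sub_sub_cancel]
      have hπd : π (e - d) = π e := by rw [map_sub, AddMonoidHom.mem_ker.1 hd, sub_zero]
      have hmem : S ⊔ AddSubgroup.zmultiples (e - d) ∈ 𝒮 := by
        refine ⟨sup_le hSle (AddSubgroup.zmultiples_le.2 (by show π (e - d) ∈ TP; rw [hπd]; exact ht)), fun a ha h0 => ?_⟩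
        obtain ⟨s', hs', z, hz, rfl⟩ := AddSubgroup.mem_sup.1 ha
        obtain ⟨k, rfl⟩ := AddSubgroup.mem_zmultiples_iff.1 hz
        rw [map_add, map_zsmul, hπd] at h0
        have hk : (k • π e) ∈ S.map π := by
          rw [eq_neg_of_add_eq_zero_right h0]
          exact neg_mem (AddSubgroup.mem_map_of_mem π hs')
        have hdvd : (ℓ : ℤ) ∣ k := by
          by_contra hnd
          have hco : IsCoprime (ℓ : ℤ) k := (Prime.coprime_iff_not_dvd (Nat.prime_iff_prime_int.1 (hP ℓ hl))).2 hnd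
          obtain ⟨p', q', hpq⟩ := hco
          refine hnot ?_
          rw [← one_smul ℤ (π e), ← hpq, add_smul, mul_smul, mul_smul, natCast_zsmul (π e) ℓ]
          exact add_mem (AddSubgroup.zsmul_mem _ hlt _) (AddSubgroup.zsmul_mem _ hk _)
        obtain ⟨j, rfl⟩ := hdvd
        have hin : ((ℓ : ℤ) * j) • (e - d) ∈ S := by
          rw [mul_comm, mul_smul, natCast_zsmul, he]
          exact S.zsmul_mem hs _
        refine hSker _ (S.add_mem hs' hin) ?_
        rw [map_add, map_zsmul, hπd, h0]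
      have hle : S ⊔ AddSubgroup.zmultiples (e - d) ≤ S := hmax hmem le_sup_left
      exact hnot (hπd ▸ AddSubgroup.mem_map_of_mem π (hle (AddSubgroup.mem_sup_right (AddSubgroup.mem_zmultiples _))))
    have hall : ∀ n : ℕ, (∀ p : ℕ, p.Prime → p ∣ n → p ∈ P) → 0 < n → ∀ t ∈ TP, n • t ∈ S.map π → t ∈ S.map π := by
      intro n
      induction n using Nat.recOnMul with
      | zero => intro _ h; exact absurd h (lt_irrefl 0)
      | one => intro _ _ t _ h; rwa [one_smul] at h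
      | prime p hp => intro h _; exact hstep p (h p hp dvd_rfl)
      | mul a b ha hb =>
        intro h hpos t ht hm
        rw [mul_smul] at hm
        exact hb (fun q hq hd => h q hq (hd.mul_left a)) (pos_of_mul_pos_right hpos (Nat.zero_le a)) t ht
          (ha (fun q hq hd => h q hq (hd.mul_right b)) (pos_of_mul_pos_left hpos (Nat.zero_le b)) _ (TP.nsmul_mem ht _) hm)
    have honto : ∀ t : TP, ∃ a ∈ S, π a = (t : T) := fun t => by
      obtain ⟨n, hn, hnP, hnt⟩ := (hTP _).1 t.2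
      exact AddSubgroup.mem_map.1 (hall n hnP hn _ t.2 (by rw [hnt]; exact zero_mem _))
    choose s hsS hsπ using honto
    have huniq : ∀ a ∈ S, ∀ b ∈ S, π a = π b → a = b := fun a ha b hb h =>
      sub_eq_zero.1 (hSker _ (S.sub_mem ha hb) (by rw [map_sub, h, sub_self]))
    refine ⟨AddMonoidHom.mk' s (fun t t' => huniq _ (hsS _) _ (S.add_mem (hsS _) (hsS _)) (by simp [hsπ])), hsπ, ?_, fun a => ?_⟩
    · rintro ⟨⟨d, hd⟩, t⟩ ⟨⟨d', hd'⟩, t'⟩ h
      simp only [AddMonoidHom.mk'_apply] at h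
      have hπeq : π d + (t : T) = π d' + (t' : T) := by
        have := congrArg π h
        simpa [hsπ] using this
      have htt : (t : T) - t' = 0 := hdisj _ (by
        rw [show (t : T) - t' = π d' - π d from by rw [sub_eq_sub_iff_add_eq_add, add_comm, hπeq]]
        exact T'.sub_mem hd' hd) (TP.sub_mem t.2 t'.2)
      have : t = t' := Subtype.ext (sub_eq_zero.1 htt)
      subst this
      simpa using h
    · obtain ⟨n, hn, hnt⟩ := hT (π a)
      obtain ⟨u, hu, v, hv, huv⟩ := hdec n hn _ hnt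
      refine ⟨⟨⟨a - s ⟨v, hv⟩, ?_⟩, ⟨v, hv⟩⟩, by simp⟩
      rw [AddSubgroup.mem_comap, map_sub, hsπ, huv, add_sub_cancel_right]
      exact hu

end Groth.Agent.S16343
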