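import Groth.Statements.S16344
import Mathlib.Topology.Separation.Hausdorff
import Mathlib.Topology.Compactness.Compact
import Mathlib.Topology.Algebra.Monoid
import Mathlib.Tactic.Ring
import Mathlib.Tactic.LinearCombination
import Mathlib.Tactic.FieldSimp
import Mathlib.Algebra.BigOperators.Ring.Finset

set_option autoImplicit false
universe u v
open IdeleMod

namespace Groth.Agent.S16344

theorem exists_compatible {ι : Type u} [Preorder ι] [IsDirected ι (· ≤ ·)]
    (G : ι → Type v) [∀ i, TopologicalSpace (G i)] [∀ i, CompactSpace (G i)] [∀ i, T2Space (G i)]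
    (f : ∀ ⦃i j : ι⦄, i ≤ j → (G j → G i)) (hf : ∀ i j (h : i ≤ j), Continuous (f h))
    (hid : ∀ i (x : G i), f (le_refl i) x = x)
    (hcomp : ∀ i j k (hij : i ≤ j) (hjk : j ≤ k) (x : G k), f hij (f hjk x) = f (hij.trans hjk) x)
    (S : ∀ i, Set (G i)) (hS : ∀ i, IsClosed (S i)) (hne : ∀ i, (S i).Nonempty)
    (hmap : ∀ i j (h : i ≤ j), ∀ x ∈ S j, f h x ∈ S i) :
    ∃ z : ∀ i, G i, (∀ i j (h : i ≤ j), f h (z j) = z i) ∧ ∀ i, z i ∈ S i := by
  classical
  let C : ι × ι → Set (∀ i, G i) := fun q =>
    {z | z q.1 ∈ S q.1} ∩ ⋂ h : q.1 ≤ q.2, {z | f h (z q.2) = z q.1}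
  have hC : ∀ q, IsClosed (C q) := by
    intro q
    exact IsClosed.inter ((hS q.1).preimage (continuous_apply _))
      (isClosed_iInter fun h => isClosed_eq ((hf _ _ h).comp (continuous_apply _)) (continuous_apply _))
  choose e he using hne
  obtain ⟨z, hz⟩ : (⋂ q, C q).Nonempty := by
    apply CompactSpace.iInter_nonempty hC
    intro s
    rcases isEmpty_or_nonempty ι with hi | hi
    · exact ⟨fun i => isEmptyElim i, Set.mem_iInter₂.2 fun q _ => isEmptyElim q.1⟩
    obtain ⟨M, hM⟩ := Finset.exists_le (s.image Prod.fst ∪ s.image Prod.snd)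
    refine ⟨fun i => if h : i ≤ M then f h (e M) else e i, Set.mem_iInter₂.2 fun q hq => ?_⟩
    have h1 : q.1 ≤ M := hM _ (Finset.mem_union_left _ (Finset.mem_image_of_mem _ hq))
    have h2 : q.2 ≤ M := hM _ (Finset.mem_union_right _ (Finset.mem_image_of_mem _ hq))
    refine ⟨?_, Set.mem_iInter.2 fun h => ?_⟩
    · simp only [Set.mem_setOf_eq, dif_pos h1]; exact hmap _ _ h1 _ (he M)
    · simp only [Set.mem_setOf_eq, dif_pos h1, dif_pos h2]; exact hcomp _ _ _ h h2 _
  rw [Set.mem_iInter] at hz
  exact ⟨z, fun i j h => Set.mem_iInter.1 (hz (i, j)).2 h, fun i => (hz (i, i)).1⟩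

/-- Let (G_i) be an inverse system, indexed by a directed preorder, of compact Hausdorff topological
abelian groups with continuous surjective transition maps, let G be its limit (the group of
compatible families) and let m be a natural number. Then the canonical map G/mG → lim G_i/mG_i is
bijective: a compatible family that lies in mG_i at every index is m times a compatible family
(injectivity), and every family that is compatible modulo m agrees modulo m, index by index, with a
compatible family (surjectivity). -/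
theorem result
    {ι : Type u} [Preorder ι] [IsDirected ι (· ≤ ·)]
    (G : ι → Type v) [∀ i, AddCommGroup (G i)] [∀ i, TopologicalSpace (G i)]
    [∀ i, IsTopologicalAddGroup (G i)] [∀ i, CompactSpace (G i)] [∀ i, T2Space (G i)]
    (f : ∀ ⦃i j : ι⦄, i ≤ j → (G j →+ G i)) (hf : ∀ i j (h : i ≤ j), Continuous (f h))
    (hid : ∀ i (x : G i), f (le_refl i) x = x)
    (hcomp : ∀ i j k (hij : i ≤ j) (hjk : j ≤ k) (x : G k), f hij (f hjk x) = f (hij.trans hjk) x)
    (hsurj : ∀ i j (h : i ≤ j), Function.Surjective (f h)) (m : ℕ) :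
    (∀ x : ∀ i, G i, (∀ i j (h : i ≤ j), f h (x j) = x i) → (∀ i, ∃ y : G i, m • y = x i) →
        ∃ z : ∀ i, G i, (∀ i j (h : i ≤ j), f h (z j) = z i) ∧ ∀ i, m • z i = x i) ∧
    (∀ y : ∀ i, G i, (∀ i j (h : i ≤ j), ∃ w : G i, f h (y j) - y i = m • w) →
        ∃ x : ∀ i, G i, (∀ i j (h : i ≤ j), f h (x j) = x i) ∧ ∀ i, ∃ w : G i, x i - y i = m • w) := by
  refine ⟨fun x hx hm => ?_, fun y hy => ?_⟩
  · obtain ⟨z, hz, hz'⟩ := exists_compatible G (fun i j h => f h) hf hid hcomp
      (fun i => {t | m • t = x i}) (fun i => isClosed_eq (continuous_nsmul m) continuous_const)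
      (fun i => hm i) (fun i j h t (ht : m • t = x j) => show m • f h t = x i by
        rw [← map_nsmul, ht, hx i j h])
    exact ⟨z, hz, hz'⟩
  · obtain ⟨z, hz, hz'⟩ := exists_compatible G (fun i j h => f h) hf hid hcomp
      (fun i => Set.range fun w : G i => y i + m • w)
      (fun i => (isCompact_range (continuous_const.add (continuous_nsmul m))).isClosed)
      (fun i => Set.range_nonempty _) (fun i j h t ht => by
        obtain ⟨w, rfl⟩ := ht
        obtain ⟨w', hw'⟩ := hy i j h
        refine ⟨w' + f h w, ?_⟩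
        show y i + m • (w' + f h w) = f h (y j + m • w)
        rw [map_add, map_nsmul, smul_add, ← hw']
        abel)
    refine ⟨z, hz, fun i => ?_⟩
    obtain ⟨w, hw⟩ := hz' i
    exact ⟨w, sub_eq_of_eq_add' hw.symm⟩

end Groth.Agent.S16344
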