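import Mathlib.AlgebraicGeometry.Morphisms.Smooth
import Mathlib.AlgebraicGeometry.Morphisms.Proper
import Mathlib.AlgebraicGeometry.Morphisms.ClosedImmersion
import Groth.Agent.L01.Regular
import Groth.Agent.L21.Smooth.Scheme
import Groth.Agent.L21.Curve.NormalConnected
import Groth.Agent.L21.RR.Coh
import Groth.Agent.L22.Adjunction.SmoothDual
import Groth.Agent.L16.Hyperplane.Affine
-- import your own Groth.Agent.* helpers here

set_option autoImplicit false
universe u
namespace KatoHom
end KatoHom
open KatoHom

namespace Groth.Agent.S16345

open AlgebraicGeometry CategoryTheory in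
/-- Let X be a connected scheme, proper and smooth of relative dimension d ≥ 2 over a field L, and let D
⊆ X be a closed subscheme, smooth of relative dimension d − 1 over L (a smooth divisor), whose
complement in X is an affine open subset. Then D is connected (in particular non-empty). -/
theorem result
    {L : Type u} [Field L] {X D : Scheme.{u}} (f : X ⟶ Spec (CommRingCat.of L)) (i : D ⟶ X)
    [IsProper f] (d : ℕ) (hd : 1 < d) [SmoothOfRelativeDimension d f]
    [IsClosedImmersion i] [SmoothOfRelativeDimension (d - 1) (i ≫ f)]
    [ConnectedSpace X] (U : X.Opens) (hU : IsAffineOpen U)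
    (hDU : Set.range i.base = (U : Set X)ᶜ) : ConnectedSpace D := by
  letI : X.Over (Spec (CommRingCat.of L)) := ⟨f⟩
  haveI : SmoothOfRelativeDimension d (X ↘ Spec (CommRingCat.of L)) := ‹SmoothOfRelativeDimension d f›
  haveI : IsProper (X ↘ Spec (CommRingCat.of L)) := ‹IsProper f›
  haveI : Smooth f := SmoothOfRelativeDimension.smooth d f
  haveI : IsNoetherian X := Groth.L21.RR.isNoetherian_of_proper (X := X) L
  haveI : IsIntegral X := Groth.L21.NormalTotal.isIntegral_of_connected fun x => by
    haveI := Groth.L21.Smooth.regular_stalk f x
    exact Groth.L01.isDomain_of_regular _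
  have hdim : (2 : WithBot ℕ∞) ≤ topologicalKrullDim X := by
    rw [Groth.L22.Adjunction.topologicalKrullDim_eq_relDim L d X]
    exact_mod_cast hd
  have hconn : _root_.IsConnected (Set.range i.base) := by
    rw [hDU]
    rcases (U : Set X).eq_empty_or_nonempty with h | h
    · rw [h, Set.compl_empty]
      exact ⟨Set.univ_nonempty, PreconnectedSpace.isPreconnected_univ⟩
    · exact Groth.L16.Hyper.isConnected_compl_affineOpen f hdim U hU h
  haveI := isConnected_iff_connectedSpace.1 hconn
  exact i.isEmbedding.toHomeomorph.symm.surjective.connectedSpace i.isEmbedding.toHomeomorph.symm.continuous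

end Groth.Agent.S16345
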