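import Groth.Statements.S16346
import Mathlib.Data.Nat.Factorization.Induction
import Mathlib.Algebra.BigOperators.Pi

set_option autoImplicit false
universe u v
open KatoHom

namespace Groth.Agent.S16346

/-- Let P be a set of primes and I_P the set of positive integers all of whose prime factors lie in P.
Let A be an abelian group, (B_n)_{n ∈ I_P} an inverse system of abelian groups with transition maps
B_n → B_m for m ∣ n, and φ_n : A → B_n homomorphisms vanishing on nA and compatible with the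
transition maps, so that they induce φ̂ : Â → B̂ on the limits Â = lim A/nA and B̂ = lim B_n (limits
taken as compatible families). Suppose some N ∈ I_P kills the torsion subgroup of B̂ and kills the
kernel of φ̂ (the latter meaning: a compatible family of residues (a_n) with φ_n(a_n) = 0 for all n
has N a_n ∈ nA for all n). Then the subgroup ⋂_{n ∈ I_P} nA is ℓ-divisible for every ℓ ∈ P, and it
contains every subgroup of A that is ℓ-divisible for all ℓ ∈ P; that is, it is the largest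
P-divisible subgroup of A. -/
theorem result
    {A : Type u} [AddCommGroup A] (P : Set ℕ) (hP : ∀ p ∈ P, p.Prime)
    (IP : Set ℕ) (hIP : ∀ n, n ∈ IP ↔ 0 < n ∧ ∀ p : ℕ, p.Prime → p ∣ n → p ∈ P)
    (B : IP → Type v) [∀ n, AddCommGroup (B n)]
    (g : ∀ ⦃m n : IP⦄, (m : ℕ) ∣ (n : ℕ) → (B n →+ B m))
    (hgid : ∀ (n : IP) (b : B n), g (dvd_refl (n : ℕ)) b = b)
    (hgcomp : ∀ (k m n : IP) (hkm : (k : ℕ) ∣ (m : ℕ)) (hmn : (m : ℕ) ∣ (n : ℕ)) (b : B n),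
      g hkm (g hmn b) = g (hkm.trans hmn) b)
    (φ : ∀ n : IP, A →+ B n) (hφ : ∀ (n : IP) (a : A), φ n ((n : ℕ) • a) = 0)
    (hφg : ∀ (m n : IP) (h : (m : ℕ) ∣ (n : ℕ)) (a : A), g h (φ n a) = φ m a)
    (N : ℕ) (hN : N ∈ IP)
    (htor : ∀ b : ∀ n : IP, B n, (∀ (m n : IP) (h : (m : ℕ) ∣ (n : ℕ)), g h (b n) = b m) →
      (∃ k : ℕ, 0 < k ∧ ∀ n, k • b n = 0) → ∀ n, N • b n = 0)
    (hker : ∀ a : IP → A, (∀ m n : IP, (m : ℕ) ∣ (n : ℕ) → ∃ c : A, a n - a m = (m : ℕ) • c) →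
      (∀ n, φ n (a n) = 0) → ∀ n : IP, ∃ c : A, N • a n = (n : ℕ) • c) :
    (∀ ℓ ∈ P, ∀ x : A, (∀ n ∈ IP, ∃ y : A, x = n • y) →
        ∃ y : A, (∀ n ∈ IP, ∃ z : A, y = n • z) ∧ ℓ • y = x) ∧
    (∀ H : AddSubgroup A, (∀ ℓ ∈ P, ∀ x ∈ H, ∃ y ∈ H, ℓ • y = x) →
        ∀ x ∈ H, ∀ n ∈ IP, ∃ y : A, x = n • y) := by
  have hmul : ∀ a b, a ∈ IP → b ∈ IP → a * b ∈ IP := fun a b ha hb => by
    rw [hIP] at ha hb ⊢
    exact ⟨Nat.mul_pos ha.1 hb.1, fun p hp hd => ((hp.dvd_mul).1 hd).elim (ha.2 p hp) (hb.2 p hp)⟩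
  have hℓ : ∀ ℓ ∈ P, ℓ ∈ IP := fun ℓ hl => by
    rw [hIP]
    exact ⟨(hP ℓ hl).pos, fun p hp hd => ((Nat.prime_dvd_prime_iff_eq hp (hP ℓ hl)).1 hd) ▸ hl⟩
  constructor
  · intro ℓ hl x hx
    have hK : N * N * ℓ ∈ IP := hmul _ _ (hmul _ _ hN hN) (hℓ ℓ hl)
    obtain ⟨z, hz⟩ := hx _ hK
    have hφx : ∀ n : IP, φ n x = 0 := fun n => by
      obtain ⟨y, rfl⟩ := hx n n.2
      exact hφ n y
    have hb : ∀ n : IP, N • φ n z = 0 := by
      refine fun n => htor (fun n => φ n z) (fun m n h => hφg m n h z) ⟨N * N * ℓ, ((hIP _).1 hK).1, fun n => ?_⟩ n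
      rw [← map_nsmul, ← hz, hφx]
    refine ⟨(N * N) • z, fun n hn => ?_, by rw [smul_smul, mul_comm ℓ, ← hz]⟩
    obtain ⟨c, hc⟩ := hker (fun _ => N • z) (fun m n _ => ⟨0, by simp⟩) (fun n => by rw [map_nsmul, hb]) ⟨n, hn⟩
    exact ⟨c, by rw [mul_smul, hc]⟩
  · intro H hH x hx n hn
    suffices h : ∀ n, n ∈ IP → ∀ x ∈ H, ∃ y ∈ H, x = n • y by
      obtain ⟨y, -, hy⟩ := h n hn x hx
      exact ⟨y, hy⟩
    intro n
    induction n using Nat.recOnMul with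
    | zero => intro h; exact absurd ((hIP 0).1 h).1 (lt_irrefl 0)
    | one => intro _ x hx; exact ⟨x, hx, (one_smul ℕ x).symm⟩
    | prime p hp =>
      intro h x hx
      obtain ⟨y, hy, he⟩ := hH p (((hIP p).1 h).2 p hp dvd_rfl) x hx
      exact ⟨y, hy, he.symm⟩
    | mul a b ha hb =>
      intro h x hx
      obtain ⟨h0, hd⟩ := (hIP _).1 h
      obtain ⟨y, hy, rfl⟩ := ha ((hIP a).2 ⟨pos_of_mul_pos_left h0 (Nat.zero_le b), fun q hq hd' => hd q hq (hd'.mul_right b)⟩) x hx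
      obtain ⟨z, hz, rfl⟩ := hb ((hIP b).2 ⟨pos_of_mul_pos_right h0 (Nat.zero_le a), fun q hq hd' => hd q hq (hd'.mul_left a)⟩) y hy
      exact ⟨z, hz, (mul_smul a b z).symm⟩

end Groth.Agent.S16346
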