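import Groth.Statements.S16349
import Groth.Agent.L14.Cubic.Points
import Groth.Agent.L14.Cubic.Rep

set_option autoImplicit false
universe u
open Cubic

namespace Groth.Agent.S16349

/-- Let k be a field of characteristic zero and S = V(F) ⊂ P^3 the cubic surface of a homogeneous cubic
F ∈ k[x_0, …, x_3] which is geometrically irreducible and not a cone. If S has a k-rational point a
which is not a T-point, then S admits a linear Pfaffian representation over k itself. A linear
Pfaffian representation over k is a 6 × 6 alternating matrix M of linear forms in k[x_0, …, x_3]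
whose Pfaffian is a nonzero constant multiple of F; since the determinant of an alternating matrix
is the square of its Pfaffian and the polynomial ring is factorial with no nonconstant units, this
is the same as det M = c · F^2 for a nonzero constant c, which is how it is written here. Here ℓ =
Σ_i ∂F/∂x_i(a) · x_i is the linear form of the tangent plane at a (zero when a is singular), and a
is called a T-point when a is a smooth point of S and the plane cubic T_a S ∩ S is set-theoretically
a union of lines, i.e. when F agrees modulo ℓ with a product of three linear forms over the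
algebraic closure; the hypothesis is that a is not a T-point (automatic for a singular point, F
being irreducible). S is not a cone: no nonzero vector v has Σ_i v_i ∂F/∂x_i = 0. -/
theorem result (k : Type u) [Field k] [CharZero k]
    (F : MvPolynomial (Fin 4) k) (hF : F.IsHomogeneous 3)
    (hirr : Irreducible (MvPolynomial.map (algebraMap k (AlgebraicClosure k)) F))
    (hcone : ¬ ∃ v : Fin 4 → k, v ≠ 0 ∧ ∑ i : Fin 4, v i • MvPolynomial.pderiv i F = 0)
    (a : Fin 4 → k) (ha : a ≠ 0) (hFa : MvPolynomial.eval a F = 0)
    (ℓ : MvPolynomial (Fin 4) (AlgebraicClosure k))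
    (hℓ : ℓ = ∑ i : Fin 4, MvPolynomial.C (algebraMap k (AlgebraicClosure k) (MvPolynomial.eval a (MvPolynomial.pderiv i F))) * MvPolynomial.X i)
    (hT : ¬ ∃ L₁ L₂ L₃ : MvPolynomial (Fin 4) (AlgebraicClosure k), L₁.IsHomogeneous 1 ∧ L₂.IsHomogeneous 1 ∧ L₃.IsHomogeneous 1 ∧
      MvPolynomial.map (algebraMap k (AlgebraicClosure k)) F - L₁ * L₂ * L₃ ∈ Ideal.span {ℓ}) :
    ∃ M : Matrix (Fin 6) (Fin 6) (MvPolynomial (Fin 4) k), (∀ i j, (M i j).IsHomogeneous 1) ∧ M.transpose = -M ∧ (∀ i, M i i = 0) ∧
      ∃ c : k, c ≠ 0 ∧ M.det = MvPolynomial.C c * F ^ 2 := by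
  obtain ⟨p, -, hp, hli⟩ := Groth.L14.Cubic.five_points_of_not_TPoint F hF hirr hcone a ha hFa ℓ hℓ hT
  exact Groth.L14.Cubic.pfaffian_of_five F hF p hp hli

end Groth.Agent.S16349
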