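import Groth.Statements.S16351
import Mathlib.LinearAlgebra.FiniteDimensional.Basic
import Mathlib.Algebra.Polynomial.Roots
import Mathlib.Algebra.MvPolynomial.Rename
import Mathlib.Algebra.BigOperators.Fin
import Mathlib.LinearAlgebra.Dimension.Constructions
import Mathlib.LinearAlgebra.FiniteDimensional.Lemmas
import Mathlib.Tactic.Ring

set_option autoImplicit false
universe u
open Cubic

namespace Groth.Agent.S16351

/-- Let K be a field of characteristic zero and S = V(F) ⊂ P^3_K a cone over a plane cubic curve C,
normalised so that the vertex is [1 : 0 : 0 : 0], i.e. F is a homogeneous cubic in K[x_0, …, x_3]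
not involving x_0 and C = V(F) in the plane P^2 of the coordinates x_1, x_2, x_3. If C has five
K-rational points no three of which are collinear, then S has five K-rational points in general
position (no four coplanar: any four representing vectors linearly independent). -/
theorem result (K : Type u) [Field K] [CharZero K]
    (G : MvPolynomial (Fin 3) K) (hG : G.IsHomogeneous 3) (F : MvPolynomial (Fin 4) K)
    (hF : F = MvPolynomial.rename Fin.succ G)
    (b : Fin 5 → (Fin 3 → K)) (hb : ∀ j : Fin 5, MvPolynomial.eval (b j) G = 0)
    (h3 : ∀ i j l : Fin 5, i ≠ j → j ≠ l → i ≠ l → LinearIndependent K ![b i, b j, b l]) :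
    ∃ p : Fin 5 → (Fin 4 → K), (∀ j : Fin 5, MvPolynomial.eval (p j) F = 0) ∧
      ∀ j : Fin 5, LinearIndependent K (fun i : Fin 4 => p (j.succAbove i)) := by
  classical
  have hrel : ∀ j : Fin 5, ∃ c : Fin 4 → K, (∑ i, c i • b (j.succAbove i)) = 0 ∧ ∀ i, c i ≠ 0 := by
    intro j
    have hnot : ¬ LinearIndependent K (fun i : Fin 4 => b (j.succAbove i)) := fun h => by
      have := h.fintype_card_le_finrank
      simp at this
    obtain ⟨c, hc, i₀, hi₀⟩ := Fintype.not_linearIndependent_iff.1 hnot
    refine ⟨c, hc, fun i hi => hi₀ ?_⟩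
    have hT := h3 (j.succAbove (i.succAbove 0)) (j.succAbove (i.succAbove 1)) (j.succAbove (i.succAbove 2))
      (fun e => absurd (Fin.succAbove_right_injective (Fin.succAbove_right_injective e)) (by decide))
      (fun e => absurd (Fin.succAbove_right_injective (Fin.succAbove_right_injective e)) (by decide))
      (fun e => absurd (Fin.succAbove_right_injective (Fin.succAbove_right_injective e)) (by decide))
    have hsum : ∑ l : Fin 3, c (i.succAbove l) • ![b (j.succAbove (i.succAbove 0)),
        b (j.succAbove (i.succAbove 1)), b (j.succAbove (i.succAbove 2))] l = 0 := by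
      rw [← hc, Fin.sum_univ_succAbove _ i, hi, zero_smul, zero_add]
      exact Finset.sum_congr rfl fun l _ => by fin_cases l <;> rfl
    have h0 := Fintype.linearIndependent_iff.1 hT _ hsum
    rcases Fin.eq_self_or_eq_succAbove i i₀ with rfl | ⟨l, rfl⟩
    · exact hi
    · exact h0 l
  choose c hc hc0 using hrel
  let P : Fin 5 → Polynomial K := fun j => ∑ i : Fin 4, Polynomial.C (c j i) * Polynomial.X ^ (j.succAbove i : ℕ)
  have hP : ∀ j, P j ≠ 0 := by
    intro j h0
    have := congrArg (fun q => Polynomial.coeff q (j.succAbove 0 : ℕ)) h0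
    simp only [P, Polynomial.finsetSum_coeff, Polynomial.coeff_C_mul_X_pow, Polynomial.coeff_zero] at this
    rw [Finset.sum_eq_single 0 (fun i _ hi => if_neg fun e =>
      hi (Fin.succAbove_right_injective (Fin.ext e)).symm) (by simp), if_pos rfl] at this
    exact hc0 j 0 this
  haveI : Infinite K := Infinite.of_injective (Nat.cast : ℕ → K) Nat.cast_injective
  obtain ⟨s, hs⟩ : ∃ s : K, (∏ j, P j).eval s ≠ 0 := by
    by_contra h
    push Not at h
    exact Finset.prod_ne_zero_iff.2 (fun j _ => hP j) (Polynomial.funext fun x => by simpa using h x)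
  refine ⟨fun j => Fin.cons (s ^ (j : ℕ)) (b j), fun j => ?_, fun j => ?_⟩
  · rw [hF, MvPolynomial.eval_rename]
    exact hb j
  · rw [Fintype.linearIndependent_iff]
    intro d hd
    have hdb : ∑ i, d i • b (j.succAbove i) = 0 := by
      funext x
      have := congrFun hd x.succ
      simpa [Finset.sum_apply] using this
    have hdt : ∑ i, d i * s ^ (j.succAbove i : ℕ) = 0 := by
      have := congrFun hd 0
      simpa [Finset.sum_apply] using this
    set μ := d 0 / c j 0 with hμ
    have hdiff : ∀ i, d i = μ * c j i := by
      have hT := h3 (j.succAbove 1) (j.succAbove 2) (j.succAbove 3)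
        (fun e => absurd (Fin.succAbove_right_injective e) (by decide))
        (fun e => absurd (Fin.succAbove_right_injective e) (by decide))
        (fun e => absurd (Fin.succAbove_right_injective e) (by decide))
      have hsum : ∑ l : Fin 3, (d l.succ - μ * c j l.succ) • ![b (j.succAbove 1), b (j.succAbove 2),
          b (j.succAbove 3)] l = 0 := by
        have e0 : ∑ i, (d i - μ * c j i) • b (j.succAbove i) = 0 := by
          simp only [sub_smul, mul_smul, Finset.sum_sub_distrib, ← Finset.smul_sum, hdb, hc j, smul_zero, sub_zero]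
        rw [Fin.sum_univ_succ, hμ, div_mul_cancel₀ _ (hc0 j 0), sub_self, zero_smul, zero_add] at e0
        rw [← e0]
        exact Finset.sum_congr rfl fun l _ => by fin_cases l <;> rfl
      have h0 := Fintype.linearIndependent_iff.1 hT _ hsum
      intro i
      refine Fin.cases ?_ (fun l => sub_eq_zero.1 (h0 l)) i
      rw [hμ, div_mul_cancel₀ _ (hc0 j 0)]
    have hμ0 : μ = 0 := by
      simp only [hdiff, mul_assoc, ← Finset.mul_sum] at hdt
      refine (mul_eq_zero.1 hdt).resolve_right fun h0 => hs ?_
      rw [Polynomial.eval_prod]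
      refine Finset.prod_eq_zero (Finset.mem_univ j) ?_
      simpa [P, Polynomial.eval_finsetSum] using h0
    intro i
    rw [hdiff, hμ0, zero_mul]


end Groth.Agent.S16351
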