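import Groth.Statements.S16352
import Groth.Agent.L14.Cubic.FirstPolar

set_option autoImplicit false
universe u
open Cubic

namespace Groth.Agent.S16352

/-- Let K be an algebraically closed field of characteristic zero and S = V(F) ⊂ P^3_K a cubic surface
which is irreducible and not a cone (no nonzero vector v has Σ_i v_i ∂F/∂x_i = 0). Let a be a smooth
point of S which is not a T-point: with ℓ = Σ_i ∂F/∂x_i(a) · x_i the (nonzero) linear form of the
tangent plane T_a S, F is not congruent modulo ℓ to a product of three linear forms (i.e. T_a S ∩ S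
is not set-theoretically a union of lines). Let P = Σ_i a_i ∂F/∂x_i be the first polar of a. Then
V(P) ∩ T_a S is a union of at most two lines through a, and every line through a lying on S lies in
V(P) ∩ T_a S; lines are 2-dimensional subspaces of K^4 and T_a S is the 3-dimensional subspace where
ℓ vanishes. -/
theorem result (K : Type u) [Field K] [IsAlgClosed K] [CharZero K]
    (F : MvPolynomial (Fin 4) K) (hF : F.IsHomogeneous 3) (hirr : Irreducible F)
    (hcone : ¬ ∃ v : Fin 4 → K, v ≠ 0 ∧ ∑ i : Fin 4, v i • MvPolynomial.pderiv i F = 0)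
    (a : Fin 4 → K) (ha : a ≠ 0) (hFa : MvPolynomial.eval a F = 0)
    (hsm : ∃ i : Fin 4, MvPolynomial.eval a (MvPolynomial.pderiv i F) ≠ 0)
    (ℓ : MvPolynomial (Fin 4) K)
    (hℓ : ℓ = ∑ i : Fin 4, MvPolynomial.C (MvPolynomial.eval a (MvPolynomial.pderiv i F)) * MvPolynomial.X i)
    (hT : ¬ ∃ L₁ L₂ L₃ : MvPolynomial (Fin 4) K, L₁.IsHomogeneous 1 ∧ L₂.IsHomogeneous 1 ∧ L₃.IsHomogeneous 1 ∧
      F - L₁ * L₂ * L₃ ∈ Ideal.span {ℓ})
    (P : MvPolynomial (Fin 4) K) (hP : P = ∑ i : Fin 4, a i • MvPolynomial.pderiv i F)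
    (H : Submodule K (Fin 4 → K)) (hH : ∀ x : Fin 4 → K, x ∈ H ↔ MvPolynomial.eval x ℓ = 0) :
    (∃ U₁ U₂ : Submodule K (Fin 4 → K), Module.finrank K ↥U₁ = 2 ∧ Module.finrank K ↥U₂ = 2 ∧ a ∈ U₁ ∧ a ∈ U₂ ∧
        U₁ ≤ H ∧ U₂ ≤ H ∧ {x : Fin 4 → K | x ∈ H ∧ MvPolynomial.eval x P = 0} = (U₁ : Set (Fin 4 → K)) ∪ (U₂ : Set (Fin 4 → K))) ∧
      ∀ U : Submodule K (Fin 4 → K), a ∈ U → Module.finrank K ↥U = 2 → (∀ u ∈ U, MvPolynomial.eval u F = 0) →
        U ≤ H ∧ ∀ u ∈ U, MvPolynomial.eval u P = 0 := by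
  obtain ⟨i, hi⟩ := hsm
  have hd := Groth.L14.Cubic.deriv_eq_tri hF
  have ha3 : Groth.L14.Cubic.tri F a a a = 0 := by rw [← Groth.L14.Cubic.eval_eq_tri hF]; exact hFa
  have hz : Groth.L14.Cubic.tri F a a (Pi.single i 1) ≠ 0 := fun e => by
    have := hd a (Pi.single i 1)
    rw [e, mul_zero] at this
    exact hi (by simpa [Pi.single_apply] using this)
  have hns : ¬ Groth.L14.Cubic.SplitAt F a := fun hs => hT (by
    rw [hℓ]; exact Groth.L14.Cubic.mem_span_of_splitAt hF hz hs)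
  have hℓ' : ∀ x, MvPolynomial.eval x ℓ = 3 * Groth.L14.Cubic.tri F a a x := fun x => by
    rw [← hd, hℓ, map_sum]
    exact Finset.sum_congr rfl fun n _ => by rw [map_mul, MvPolynomial.eval_C, MvPolynomial.eval_X, mul_comm]
  have hP' : ∀ x, MvPolynomial.eval x P = 3 * Groth.L14.Cubic.tri F a x x := fun x => by
    rw [hP, map_sum]
    simp only [MvPolynomial.smul_eval]
    rw [hd, (Groth.L14.Cubic.tri_sym3 F).r1 x a]
  have hH' : ∀ x, x ∈ H ↔ Groth.L14.Cubic.tri F a a x = 0 := fun x => by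
    rw [hH, hℓ']; simp
  obtain ⟨U₁, U₂, f1, f2, m1, m2, l1, l2, hU⟩ := Groth.L14.Cubic.polar_inter_plane ha3 hz hns
  refine ⟨⟨U₁, U₂, f1, f2, m1, m2, fun x hx => (hH' x).mpr (l1 hx), fun x hx => (hH' x).mpr (l2 hx), ?_⟩, ?_⟩
  · ext x
    simp only [Set.mem_setOf_eq, Set.mem_union, SetLike.mem_coe, ← hU x, hH', hP']
    simp
  · intro U haU _ hUF
    refine ⟨fun u hu => (hH' u).mpr (Groth.L14.Cubic.line_through_mem hF haU hUF hu).1, fun u hu => ?_⟩
    rw [hP', (Groth.L14.Cubic.line_through_mem hF haU hUF hu).2.1, mul_zero]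

end Groth.Agent.S16352
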