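import Groth.Statements.S16353
import Mathlib.RingTheory.MvPolynomial.Homogeneous
import Mathlib.Tactic.LinearCombination

set_option autoImplicit false
universe u
open DegLoci

namespace Groth.Agent.S16353

/-- The falling-factorial weight of `α` in `β`. -/
noncomputable def w {m : ℕ} (α β : Fin m →₀ ℕ) : ℕ := ∏ i, Nat.descFactorial (β i) (α i)

theorem fact_mul_w {m : ℕ} (α γ : Fin m →₀ ℕ) :
    (∏ i, (γ i).factorial) * w α (α + γ) = ∏ i, ((α + γ) i).factorial := by
  rw [w, ← Finset.prod_mul_distrib]
  refine Finset.prod_congr rfl fun i _ => ?_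
  have := Nat.factorial_mul_descFactorial (show α i ≤ (α + γ) i by simp)
  simpa using this

theorem w_comm {m : ℕ} (α δ γ : Fin m →₀ ℕ) :
    w δ (δ + γ) * w α (α + (δ + γ)) = w α (α + γ) * w δ (δ + (α + γ)) := by
  have h0 : (∏ i, (γ i).factorial) ≠ 0 := Finset.prod_ne_zero_iff.mpr fun i _ => Nat.factorial_ne_zero _
  apply mul_left_cancel₀ h0
  rw [← mul_assoc, fact_mul_w, fact_mul_w, ← mul_assoc, fact_mul_w, fact_mul_w, add_left_comm]

theorem coeff_contract {k : Type u} [Field k] {m : ℕ} (D G : MvPolynomial (Fin m) k) (γ : Fin m →₀ ℕ) :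
    MvPolynomial.coeff γ (W4c3degenlocivb.contract D G) =
      ∑ α ∈ D.support, MvPolynomial.coeff α D * MvPolynomial.coeff (α + γ) G * (w α (α + γ) : k) := by
  classical
  unfold W4c3degenlocivb.contract
  rw [MvPolynomial.coeff_sum]
  refine Finset.sum_congr rfl fun α _ => ?_
  rw [MvPolynomial.coeff_sum, Finset.sum_eq_single (α + γ)]
  · rw [if_pos le_self_add, add_tsub_cancel_left, MvPolynomial.coeff_monomial, if_pos rfl]
    congr 2
    rw [w]
    refine Finset.prod_subset (Finset.subset_univ _) fun i _ hi => ?_
    have h := Finsupp.notMem_support_iff.mp hi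
    simp only [Finsupp.add_apply, add_eq_zero] at h
    simp [Finsupp.add_apply, h.1, h.2]
  · intro β _ hne
    split_ifs with h
    · rw [MvPolynomial.coeff_monomial, if_neg]
      intro h'
      exact hne (by rw [← h', add_tsub_cancel_of_le h])
    · simp
  · intro h
    have h' : MvPolynomial.coeff (α + γ) G = 0 := by simpa [MvPolynomial.mem_support_iff] using h
    rw [if_pos le_self_add, add_tsub_cancel_left, MvPolynomial.coeff_monomial, if_pos rfl, h']
    simp

theorem contract_monomial_comm {k : Type u} [Field k] {m : ℕ} (D F : MvPolynomial (Fin m) k)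
    (α γ : Fin m →₀ ℕ) :
    MvPolynomial.coeff γ (W4c3degenlocivb.contract D
        (W4c3degenlocivb.contract (MvPolynomial.monomial α 1) F)) =
      (w α (α + γ) : k) * MvPolynomial.coeff (α + γ) (W4c3degenlocivb.contract D F) := by
  classical
  rw [coeff_contract, coeff_contract, Finset.mul_sum]
  refine Finset.sum_congr rfl fun δ _ => ?_
  rw [coeff_contract, MvPolynomial.support_monomial, if_neg one_ne_zero, Finset.sum_singleton,
    MvPolynomial.coeff_monomial, if_pos rfl, one_mul, add_left_comm δ α γ]
  have h : ((w δ (δ + γ) : k)) * (w α (α + (δ + γ)) : k) = (w α (α + γ) : k) * (w δ (α + (δ + γ)) : k) := by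
    rw [← Nat.cast_mul, ← Nat.cast_mul, w_comm α δ γ, add_left_comm δ α γ]
  linear_combination (MvPolynomial.coeff δ D * MvPolynomial.coeff (α + (δ + γ)) F) * h

/-- Let k be a field of characteristic zero, R = k[y_0, …, y_{m−1}] acting on S = k[∂_0, …, ∂_{m−1}] by
apolarity (y_i acts as the derivative with respect to ∂_i), F ∈ S homogeneous of degree e and d ≤ e.
Then the degree-d part of the apolar ideal of F is the orthogonal complement of the partial
derivatives of F of order e − d: a homogeneous D ∈ R_d satisfies D(F) = 0 if and only if D(y^α(F)) =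
0 for every multi-index α with |α| = e − d (each D(y^α(F)) being a constant, the value of the
apolarity pairing of D with y^α(F)). -/
theorem result (k : Type u) [Field k] [CharZero k] (m : ℕ)
    (F : MvPolynomial (Fin m) k) (e : ℕ) (hF : F.IsHomogeneous e) (d : ℕ) (hd : d ≤ e)
    (D : MvPolynomial (Fin m) k) (hD : D.IsHomogeneous d) :
    W4c3degenlocivb.contract D F = 0 ↔
      ∀ α : Fin m →₀ ℕ, α.degree = e - d → W4c3degenlocivb.contract D (W4c3degenlocivb.contract (MvPolynomial.monomial α 1) F) = 0 := by
  classical
  constructor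
  · intro h α _
    ext γ
    rw [contract_monomial_comm, h]
    simp
  · intro h
    ext α
    rw [MvPolynomial.coeff_zero]
    by_cases hα : α.degree = e - d
    · have h1 := contract_monomial_comm D F α 0
      rw [h α hα, MvPolynomial.coeff_zero, add_zero] at h1
      have hw : (w α α : k) ≠ 0 := by
        rw [Nat.cast_ne_zero, w]
        exact Finset.prod_ne_zero_iff.mpr fun i _ => by simp [Nat.descFactorial_self, Nat.factorial_ne_zero]
      exact (mul_eq_zero.mp h1.symm).resolve_left hw
    · rw [coeff_contract]
      refine Finset.sum_eq_zero fun δ hδ => ?_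
      have hδd : δ.degree = d := by
        by_contra hne
        exact MvPolynomial.mem_support_iff.mp hδ (hD.coeff_eq_zero hne)
      have : (δ + α).degree ≠ e := by
        rw [map_add, hδd]; omega
      rw [hF.coeff_eq_zero this]
      simp

end Groth.Agent.S16353
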