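import Groth.Statements.S16354
import Groth.Agent.L14.Cubic.Select

set_option autoImplicit false
universe u
open Cubic

namespace Groth.Agent.S16354

/-- Let k be a subfield of ℝ (a field equipped with an embedding into the reals) and S = V(F) ⊂ P^3 the
cubic surface of a homogeneous cubic F ∈ k[x_0, …, x_3] which is geometrically irreducible and not a
cone (no nonzero vector v has Σ_i v_i ∂F/∂x_i = 0). Then S admits a linear Pfaffian representation
over a real intermediate field k ⊆ E ⊆ ℝ of degree [E : k] ≤ 3. A linear Pfaffian representation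
over E is a 6 × 6 alternating matrix M of linear forms in E[x_0, …, x_3] whose Pfaffian is a nonzero
constant multiple of F; since the determinant of an alternating matrix is the square of its Pfaffian
and the polynomial ring is factorial with no nonconstant units, this is the same as det M = c · F^2
for a nonzero constant c, which is how it is written here. -/
theorem result (k : Type u) [Field k] [Algebra k ℝ]
    (F : MvPolynomial (Fin 4) k) (hF : F.IsHomogeneous 3)
    (hirr : Irreducible (MvPolynomial.map (algebraMap k (AlgebraicClosure k)) F))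
    (hcone : ¬ ∃ v : Fin 4 → k, v ≠ 0 ∧ ∑ i : Fin 4, v i • MvPolynomial.pderiv i F = 0) :
    ∃ E : IntermediateField k ℝ, FiniteDimensional k ↥E ∧ Module.finrank k ↥E ≤ 3 ∧
      ∃ M : Matrix (Fin 6) (Fin 6) (MvPolynomial (Fin 4) ↥E), (∀ i j, (M i j).IsHomogeneous 1) ∧ M.transpose = -M ∧ (∀ i, M i i = 0) ∧
        ∃ c : ↥E, c ≠ 0 ∧ M.det = MvPolynomial.C c * (MvPolynomial.map (algebraMap k ↥E) F) ^ 2 := by
  haveI : CharZero k := charZero_of_inj_zero fun n hn => by
    have := congrArg (algebraMap k ℝ) hn
    rw [map_natCast, map_zero] at this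
    exact_mod_cast this
  refine Groth.L14.Cubic.exists_rep_of_root hF hirr hcone fun P hP hd => ?_
  set Q := P.map (algebraMap k ℝ) with hQ
  have hQd : Q.natDegree = 3 := by rw [hQ, hP.natDegree_map, hd]
  set A := Q.coeff 2
  set B := Q.coeff 1
  set D := Q.coeff 0
  have hev : ∀ x : ℝ, Q.eval x = D + B * x + A * x ^ 2 + x ^ 3 := fun x => by
    rw [Polynomial.eval_eq_sum_range, hQd]
    have : Q.coeff 3 = 1 := hQd ▸ (hP.map (algebraMap k ℝ)).coeff_natDegree
    simp [Finset.sum_range_succ, this, A, B, D]
  set R : ℝ := 1 + |A| + |B| + |D| with hR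
  have hR1 : 1 ≤ R := by rw [hR]; linarith [abs_nonneg A, abs_nonneg B, abs_nonneg D]
  have hlo : Q.eval (-R) ≤ 0 := by
    rw [hev]
    nlinarith [abs_nonneg A, abs_nonneg B, abs_nonneg D, le_abs_self A, neg_abs_le A, le_abs_self B, neg_abs_le B,
      le_abs_self D, neg_abs_le D, sq_nonneg R, mul_le_mul_of_nonneg_right (le_abs_self A) (sq_nonneg R),
      mul_le_mul_of_nonneg_right (neg_abs_le B) (le_trans zero_le_one hR1)]
  have hhi : 0 ≤ Q.eval R := by
    rw [hev]
    nlinarith [abs_nonneg A, abs_nonneg B, abs_nonneg D, le_abs_self A, neg_abs_le A, le_abs_self B, neg_abs_le B,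
      le_abs_self D, neg_abs_le D, sq_nonneg R, mul_le_mul_of_nonneg_right (neg_abs_le A) (sq_nonneg R),
      mul_le_mul_of_nonneg_right (neg_abs_le B) (le_trans zero_le_one hR1)]
  obtain ⟨t, -, ht⟩ := intermediate_value_Icc (by linarith) (Q.continuous.continuousOn) ⟨hlo, hhi⟩
  exact ⟨t, by rw [Polynomial.aeval_def, Polynomial.eval₂_eq_eval_map]; exact ht⟩

end Groth.Agent.S16354
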