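import Groth.Statements.S16355
import Groth.Agent.L14.Deg.Pfaff

set_option autoImplicit false
universe u
open DegLoci

namespace Groth.Agent.S16355

/-- Let k be an algebraically closed field of characteristic zero and n = 2r + 1 ≥ 3 odd. For a general
n × n alternating matrix N of linear forms in k[y_0, y_1], the n principal sub-Pfaffians of size n −
1 (delete row i and column i, take the Pfaffian) span the whole space k[y_0, y_1]_r of binary forms
of degree r. Here such matrices are parametrised by antisymmetric coefficient arrays c (entry (i, j)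
of N is Σ_l c_{i j l} y_l with c_{j i l} = −c_{i j l}), and 'general' means: outside the zero set of
some polynomial Φ in the coefficients which does not vanish at every antisymmetric array. -/
theorem result (k : Type u) [Field k] [IsAlgClosed k] [CharZero k]
    (r : ℕ) (hr : 1 ≤ r) :
    ∃ Φ : MvPolynomial (Fin (2 * r + 1) × Fin (2 * r + 1) × Fin 2) k,
      (∃ c : Fin (2 * r + 1) → Fin (2 * r + 1) → Fin 2 → k, (∀ i j l, c j i l = -c i j l) ∧
        MvPolynomial.eval (fun p => c p.1 p.2.1 p.2.2) Φ ≠ 0) ∧
      ∀ c : Fin (2 * r + 1) → Fin (2 * r + 1) → Fin 2 → k, (∀ i j l, c j i l = -c i j l) →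
        MvPolynomial.eval (fun p => c p.1 p.2.1 p.2.2) Φ ≠ 0 →
        Submodule.span k (Set.range fun i : Fin (2 * r + 1) =>
            W4c3degenlocivb.pf (2 * r) ((Matrix.of fun a b => ∑ l : Fin 2, MvPolynomial.C (c a b l) * MvPolynomial.X l).submatrix i.succAbove i.succAbove)) =
          MvPolynomial.homogeneousSubmodule (Fin 2) k r :=
  Groth.L14.Deg.main r

end Groth.Agent.S16355
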