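import Groth.Statements.S16356
import Mathlib.RingTheory.WittVector.Identities
import Mathlib.RingTheory.WittVector.Domain
import Mathlib.RingTheory.WittVector.DiscreteValuationRing
import Mathlib.GroupTheory.OrderOfElement
import Mathlib.Algebra.Ring.GeomSum
import Mathlib.Tactic.Module
import Mathlib.Tactic.Ring
import Mathlib.Tactic.LinearCombination
import Mathlib.Tactic.FieldSimp
import Mathlib.Algebra.BigOperators.Ring.Finset

set_option autoImplicit false
universe u
open OrdAV

namespace Groth.Agent.S16356

theorem dvd_sub_one_iff {p : ℕ} [Fact p.Prime] {k : Type u} [Field k] [CharP k p] [PerfectRing k p]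
    (z : WittVector p k) : (p : WittVector p k) ∣ z ↔ z.coeff 0 = 0 := by
  constructor
  · rintro ⟨y, rfl⟩
    rw [WittVector.mul_coeff_zero]
    simp
  · intro h
    by_contra hnd
    have hu : IsUnit z := by
      by_contra hu
      have hmem : z ∈ IsLocalRing.maximalIdeal (WittVector p k) := hu
      rw [(WittVector.irreducible p (k := k)).maximalIdeal_eq, Ideal.mem_span_singleton] at hmem
      exact hnd hmem
    have := hu.map (WittVector.constantCoeff : WittVector p k →+* k)
    exact this.ne_zero h

/-- For an odd prime p and a perfect field k of characteristic p, a root of unity in the ring of Witt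
vectors W(k) whose residue in k is 1 is itself 1: if x ^ n = 1 with n ≥ 1 and the zeroth Witt
component of x is 1, then x = 1. (For p = 2 this fails: -1 in W(F_2).) -/
theorem result (p : ℕ) [Fact p.Prime] (hp : p ≠ 2)
    (k : Type u) [Field k] [CharP k p] [PerfectRing k p]
    (x : WittVector p k) (n : ℕ) (hn : 0 < n) (hx : x ^ n = 1) (h0 : x.coeff 0 = 1) : x = 1 := by
  have hp' : p.Prime := Fact.out
  by_contra hne
  have hfin : IsOfFinOrder x := isOfFinOrder_iff_pow_eq_one.2 ⟨n, hn, hx⟩
  set N := orderOf x with hN
  have hN1 : N ≠ 1 := fun h => hne (orderOf_eq_one_iff.1 h)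
  set q := N.minFac with hq
  have hqp : q.Prime := Nat.minFac_prime hN1
  set y := x ^ (N / q) with hy
  have hord : orderOf y = q := orderOf_pow_orderOf_div hfin.orderOf_pos.ne' (Nat.minFac_dvd N)
  have hy1 : y ≠ 1 := fun h => by rw [h, orderOf_one] at hord; exact hqp.one_lt.ne hord
  have hyq : y ^ q = 1 := hord ▸ pow_orderOf_eq_one y
  have hy0 : y.coeff 0 = 1 := by
    show (WittVector.constantCoeff : WittVector p k →+* k) y = 1
    rw [hy, map_pow]
    show (x.coeff 0) ^ _ = 1
    rw [h0, one_pow]
  obtain ⟨a, ha⟩ := (dvd_sub_one_iff (y - 1)).2 (by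
    show (WittVector.constantCoeff : WittVector p k →+* k) (y - 1) = 0
    rw [map_sub, map_one]
    show y.coeff 0 - 1 = 0
    rw [hy0, sub_self])
  have hgeom : ∑ i ∈ Finset.range q, y ^ i = 0 := by
    have := geom_sum_mul y q
    rw [hyq, sub_self] at this
    exact (mul_eq_zero.1 this).resolve_right (sub_ne_zero.2 hy1)
  have hqeq : q = p := by
    have hzero : (∑ i ∈ Finset.range q, y ^ i).coeff 0 = (q : k) := by
      show (WittVector.constantCoeff : WittVector p k →+* k) _ = _
      rw [map_sum]
      simp only [map_pow]
      rw [show (WittVector.constantCoeff : WittVector p k →+* k) y = 1 from hy0]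
      simp
    rw [hgeom] at hzero
    have : (q : k) = 0 := by rw [← hzero]; simp
    exact ((Nat.prime_dvd_prime_iff_eq hp' hqp).1 ((CharP.cast_eq_zero_iff k p q).1 this)).symm
  rw [hqeq] at hgeom
  have hexp : ∀ i : ℕ, ∃ c, y ^ i = 1 + (i : WittVector p k) * ((p : WittVector p k) * a) + (p : WittVector p k) ^ 2 * c := by
    intro i
    induction i with
    | zero => exact ⟨0, by simp⟩
    | succ i ih =>
      obtain ⟨c, hc⟩ := ih
      refine ⟨c + (i : WittVector p k) * a * a + (p : WittVector p k) * c * a, ?_⟩
      rw [pow_succ, hc, show y = 1 + (p : WittVector p k) * a by rw [← ha]; ring]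
      push_cast
      ring
  choose c hc using hexp
  obtain ⟨j, hj⟩ := hp'.odd_of_ne_two hp
  have hsum : ((∑ i ∈ Finset.range p, i : ℕ) : WittVector p k) = (p : WittVector p k) * (j : WittVector p k) := by
    rw [← Nat.cast_mul]
    congr 1
    have := Finset.sum_range_id_mul_two p
    rw [hj] at this ⊢
    simp only [Nat.add_sub_cancel] at this
    linarith
  have htot : (p : WittVector p k) * (1 + (p : WittVector p k) * ((j : WittVector p k) * a + ∑ i ∈ Finset.range p, c i)) = 0 := by
    rw [← hgeom, Finset.sum_congr rfl fun i _ => hc i, Finset.sum_add_distrib, Finset.sum_add_distrib,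
      ← Finset.sum_mul, ← Nat.cast_sum, hsum, Finset.sum_const, Finset.card_range, nsmul_one,
      ← Finset.mul_sum]
    ring
  have h2 := (mul_eq_zero.1 htot).resolve_left (WittVector.irreducible p (k := k)).ne_zero
  have h3 := congrArg (WittVector.constantCoeff : WittVector p k →+* k) h2
  rw [map_add, map_one, map_mul, map_natCast, CharP.cast_eq_zero, zero_mul, add_zero, map_zero] at h3
  exact one_ne_zero h3

end Groth.Agent.S16356
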