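import Groth.Statements.S16357
import Mathlib.Algebra.Polynomial.Degree.Lemmas
import Mathlib.Data.Finset.NatAntidiagonal
import Mathlib.Algebra.Polynomial.Lifts
import Mathlib.Tactic.Ring
import Mathlib.Tactic.LinearCombination
import Mathlib.Tactic.FieldSimp
import Mathlib.Algebra.BigOperators.Ring.Finset

set_option autoImplicit false
universe u
open OrdAV

namespace Groth.Agent.S16357

/-- Over a field L of characteristic zero, a monic polynomial h whose square has rational coefficients
has rational coefficients itself. -/
theorem result (L : Type u) [Field L] [CharZero L]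
    (h : Polynomial L) (hm : h.Monic) (f : Polynomial ℚ)
    (hf : h ^ 2 = Polynomial.map (algebraMap ℚ L) f) :
    ∃ g : Polynomial ℚ, Polynomial.map (algebraMap ℚ L) g = h := by
  suffices h' : ∀ n, h.coeff n ∈ (algebraMap ℚ L).range by
    obtain ⟨g, hg⟩ := (Polynomial.lifts_iff_coeff_lifts _).2 (fun n => h' n)
    exact ⟨g, hg⟩
  set d := h.natDegree
  suffices h' : ∀ k, k ≤ d → h.coeff (d - k) ∈ (algebraMap ℚ L).range by
    intro n
    by_cases hn : n ≤ d
    · simpa [Nat.sub_sub_self hn] using h' (d - n) (Nat.sub_le _ _)
    · rw [Polynomial.coeff_eq_zero_of_natDegree_lt (by omega)]; exact zero_mem _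
  intro k
  induction k using Nat.strong_induction_on with
  | _ k ih =>
    intro hk
    rcases Nat.eq_zero_or_pos k with rfl | hk0
    · rw [Nat.sub_zero, hm.coeff_natDegree]; exact one_mem _
    have hc : (h ^ 2).coeff (d + (d - k)) = algebraMap ℚ L (f.coeff (d + (d - k))) := by
      rw [hf, Polynomial.coeff_map]
    rw [sq, Polynomial.coeff_mul] at hc
    set S := Finset.antidiagonal (d + (d - k))
    have h1 : (d, d - k) ∈ S := by simp [S]
    have h2 : (d - k, d) ∈ S.erase (d, d - k) := by
      simp [S, Finset.mem_erase]; omega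
    rw [← Finset.add_sum_erase _ _ h1, ← Finset.add_sum_erase _ _ h2] at hc
    simp only [hm.coeff_natDegree, one_mul, mul_one, d] at hc
    have hrest : ∀ q ∈ (S.erase (d, d - k)).erase (d - k, d),
        h.coeff q.1 * h.coeff q.2 ∈ (algebraMap ℚ L).range := by
      rintro ⟨i, j⟩ hq
      simp [S, Finset.mem_erase] at hq
      obtain ⟨hq1, hq2, hsum⟩ := hq
      by_cases hi : d < i
      · simp [Polynomial.coeff_eq_zero_of_natDegree_lt hi]
      by_cases hj : d < j
      · simp [Polynomial.coeff_eq_zero_of_natDegree_lt hj]
      have := ih (d - i) (by omega) (by omega)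
      have := ih (d - j) (by omega) (by omega)
      rw [Nat.sub_sub_self (by omega)] at *
      exact mul_mem (by assumption) (by assumption)
    obtain ⟨c, hcc⟩ := sum_mem hrest
    refine ⟨(f.coeff (d + (d - k)) - c) / 2, ?_⟩
    rw [map_div₀, map_sub, hcc, ← hc, map_ofNat]
    simp only [d]
    field_simp
    ring

end Groth.Agent.S16357
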