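import Groth.Statements.S16358
import Mathlib.RingTheory.WittVector.DiscreteValuationRing
import Mathlib.LinearAlgebra.FreeModule.PID
import Mathlib.RepresentationTheory.Invariants

set_option autoImplicit false
universe u v w
open OrdAV

namespace Groth.Agent.S16358

/-- Let k be a perfect field of characteristic p > 0 and W = W(k); let M be a finitely generated free
W-module on which a finite group G acts W-linearly, with invariant submodule M^G. Then the map
(W/pW) ⊗ M^G → (W/pW) ⊗ M induced by the inclusion is injective. Since M^G is free, this implies
rank_W M^G ≤ dim_k (M/pM)^G; the published statement is that inequality, and this row states the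
stronger injectivity. -/
theorem result (p : ℕ) [Fact p.Prime]
    (k : Type u) [Field k] [CharP k p] [PerfectRing k p]
    (M : Type v) [AddCommGroup M] [Module (WittVector p k) M]
    [Module.Free (WittVector p k) M] [Module.Finite (WittVector p k) M]
    (G : Type w) [Group G] [Finite G] (ρ : Representation (WittVector p k) G M) :
    Function.Injective
      (LinearMap.lTensor (WittVector p k ⧸ Ideal.span {(p : WittVector p k)}) ρ.invariants.subtype) := by
  haveI : IsDomain (WittVector p k) := inferInstance
  haveI : IsPrincipalIdealRing (WittVector p k) := inferInstance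
  haveI : Module.IsTorsionFree (WittVector p k) (M ⧸ ρ.invariants) := by
    rw [Module.isTorsionFree_iff_smul_eq_zero]
    intro r y
    obtain ⟨x, rfl⟩ := Submodule.Quotient.mk_surjective _ y
    intro h
    rw [← Submodule.Quotient.mk_smul, Submodule.Quotient.mk_eq_zero] at h
    by_cases hr : r = 0
    · exact Or.inl hr
    refine Or.inr ((Submodule.Quotient.mk_eq_zero _).mpr fun g => ?_)
    have := h g
    rw [map_smul] at this
    exact smul_right_injective M hr this
  haveI : Module.Free (WittVector p k) (M ⧸ ρ.invariants) := Module.free_of_finite_type_torsion_free'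
  obtain ⟨s, hs⟩ := Module.projective_lifting_property ρ.invariants.mkQ LinearMap.id ρ.invariants.mkQ_surjective
  let r : M →ₗ[WittVector p k] ρ.invariants :=
    LinearMap.codRestrict ρ.invariants (LinearMap.id - s ∘ₗ ρ.invariants.mkQ) (fun x => by
      rw [← Submodule.Quotient.mk_eq_zero]
      simp only [LinearMap.sub_apply, LinearMap.id_apply, LinearMap.comp_apply, Submodule.Quotient.mk_sub]
      have := LinearMap.congr_fun hs (ρ.invariants.mkQ x)
      simp only [LinearMap.comp_apply, LinearMap.id_apply, Submodule.mkQ_apply] at this ⊢
      rw [this, sub_self])
  have hr : r ∘ₗ ρ.invariants.subtype = LinearMap.id := by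
    refine LinearMap.ext fun x => Subtype.ext ?_
    simp [r, (Submodule.Quotient.mk_eq_zero _).mpr x.2]
  intro a b hab
  have := congrArg (LinearMap.lTensor _ r) hab
  rwa [← LinearMap.lTensor_comp_apply, ← LinearMap.lTensor_comp_apply, hr, LinearMap.lTensor_id_apply,
    LinearMap.lTensor_id_apply] at this

end Groth.Agent.S16358
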