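import Groth.Statements.S16360
import Groth.Agent.L05.PerfectResidue.Main
-- import your own Groth.Agent.* helpers here

set_option autoImplicit false
universe u
open Hensel

namespace Groth.Agent.S16360

/-- Let R be a discrete valuation ring that is Henselian and excellent, write k for its residue field
and p for the characteristic exponent of k. There is a Henselian discrete valuation ring R' and an
injective ring map R → R' such that the maximal ideal of R generates that of R' (so a uniformizer of
R is a uniformizer of R'), R' is the directed union of R-subalgebras that are finite free R-modules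
of rank a power of p, and the residue field k' of R' is a perfect closure of k: every element of k'
is a p-th power in k', and some p-power-th power of it lies in the image of k. (The published
statement also asserts that R' is excellent; that is not asserted here.) -/
theorem result (R : Type u) [CommRing R] [IsDomain R]
    [IsDiscreteValuationRing R] [HenselianLocalRing R] (hR : EGA4.IsExcellent R) :
    ∃ (R' : Type u) (_ : CommRing R') (_ : IsDomain R') (_ : IsDiscreteValuationRing R')
      (_ : HenselianLocalRing R') (_ : Algebra R R'),
      Function.Injective (algebraMap R R') ∧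
      Ideal.map (algebraMap R R') (IsLocalRing.maximalIdeal R) = IsLocalRing.maximalIdeal R' ∧
      (∀ s : Finset R', ∃ S : Subalgebra R R', (↑s : Set R') ⊆ ↑S ∧ Module.Finite R S ∧ Module.Free R S ∧
        ∃ m : ℕ, Module.finrank R S = ringExpChar (IsLocalRing.ResidueField R) ^ m) ∧
      (∀ y : R', ∃ z : R', z ^ ringExpChar (IsLocalRing.ResidueField R) - y ∈ IsLocalRing.maximalIdeal R') ∧
      (∀ y : R', ∃ (m : ℕ) (z : R),
        algebraMap R R' z - y ^ (ringExpChar (IsLocalRing.ResidueField R) ^ m) ∈ IsLocalRing.maximalIdeal R') := by
  classical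
  have hexp := ringExpChar.expChar (IsLocalRing.ResidueField R)
  rcases expChar_is_prime_or_one (IsLocalRing.ResidueField R)
      (ringExpChar (IsLocalRing.ResidueField R)) with hp | hq
  · obtain ⟨π, hπ⟩ := IsDiscreteValuationRing.exists_irreducible R
    set p := ringExpChar (IsLocalRing.ResidueField R) with hpdef
    have hpπ : π ∣ (p : R) := by
      rw [← Ideal.mem_span_singleton, ← hπ.maximalIdeal_eq, ← IsLocalRing.residue_eq_zero_iff,
        map_natCast]
      clear_value p
      rcases hexp with _ | hprime
      · exact absurd rfl hp.ne_one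
      · exact CharP.cast_eq_zero _ _
    let L := AlgebraicClosure (FractionRing R)
    have hinj : Function.Injective (algebraMap R L) := by
      rw [IsScalarTower.algebraMap_eq R (FractionRing R) L]
      exact (algebraMap (FractionRing R) L).injective.comp (IsFractionRing.injective R (FractionRing R))
    obtain ⟨S, hS⟩ := Groth.L05.PerfectResidue.exists_maximal_good (p := p) hπ hinj
    obtain ⟨hdvr, hhens, hmap, hmax⟩ := Groth.L05.PerfectResidue.structure_of_good hπ hinj hS.1
    have hinjS : Function.Injective (algebraMap R S) := fun a b h => hinj (congrArg Subtype.val h)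
    refine ⟨S, inferInstance, inferInstance, hdvr, hhens, inferInstance, hinjS, hmap,
      fun s => ?_, fun y => ?_, fun y => ?_⟩
    · obtain ⟨S₀, h0, hle, hs⟩ := hS.1 (s.image Subtype.val) (by
        intro x hx
        obtain ⟨a, -, rfl⟩ := Finset.mem_image.mp (Finset.mem_coe.mp hx)
        exact a.2)
      haveI := h0.finite
      haveI := h0.free
      let i := Subalgebra.inclusion hle
      let e : S₀ ≃ₐ[R] i.range := AlgEquiv.ofInjective i (Subalgebra.inclusion_injective hle)
      refine ⟨i.range, fun x hx => ?_, Module.Finite.equiv e.toLinearEquiv,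
        Module.Free.of_equiv e.toLinearEquiv, ?_⟩
      · exact ⟨⟨(x : L), hs (Finset.mem_coe.mpr (Finset.mem_image_of_mem _ hx))⟩, Subtype.ext rfl⟩
      · obtain ⟨m, hm⟩ := h0.rank
        exact ⟨m, by rw [← LinearEquiv.finrank_eq e.toLinearEquiv, hm]⟩
    · obtain ⟨z, hz⟩ := Groth.L05.PerfectResidue.perfect_of_maximal hπ hinj hp hpπ hS y
      exact ⟨z, by rw [hmax, Ideal.mem_span_singleton]; exact hz⟩
    · obtain ⟨S₀, h0, hle, hs⟩ := hS.1 {(y : L)} (by simp)
      obtain ⟨m, z, hz⟩ := h0.pinsep ⟨(y : L), hs (by simp)⟩
      refine ⟨m, z, ?_⟩
      rw [hmax, Ideal.mem_span_singleton, ← dvd_neg, neg_sub]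
      have := map_dvd (Subalgebra.inclusion hle) hz
      rwa [map_sub, map_pow, AlgHom.commutes, AlgHom.commutes] at this
  · refine ⟨R, inferInstance, inferInstance, inferInstance, inferInstance, Algebra.id R,
      fun _ _ h => h, by simp, fun s => ⟨⊤, by simp, ?_, ?_, 0, ?_⟩, fun y => ⟨y, ?_⟩,
      fun y => ⟨0, y, ?_⟩⟩
    · exact Module.Finite.equiv Subalgebra.topEquiv.symm.toLinearEquiv
    · exact Module.Free.of_equiv Subalgebra.topEquiv.symm.toLinearEquiv
    · rw [LinearEquiv.finrank_eq Subalgebra.topEquiv.toLinearEquiv, Module.finrank_self, pow_zero]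
    · rw [hq, pow_one, sub_self]; exact zero_mem _
    · rw [pow_zero, pow_one]; simp

end Groth.Agent.S16360
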