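import Groth.Statements.S16361
import Groth.Agent.L09.FibBasic

set_option autoImplicit false
universe v u
open CategoryTheory CategoryTheory.Limits
open FibCat

namespace Groth.Agent.S16361

universe v₂ u₂

open Functor in
lemma lift_map {A : Type u} [Category.{v} A] {B : Type u₂} [Category.{v₂} B] (p : A ⥤ B) {a b : A} {R : B}
    (f : R ⟶ p.obj b) (φ : a ⟶ b) (h : p.IsHomLift f φ) :
    ∃ e : p.obj a = R, p.map φ = eqToHom e ≫ f := by
  refine ⟨IsHomLift.domain_eq p f φ, ?_⟩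
  have := IsHomLift.fac' p f φ
  simpa using this

open Functor in
lemma fibGrpd_mk {A : Type u} [Category.{v} A] {B : Type u₂} [Category.{v₂} B] (p : A ⥤ B)
    (hl : ∀ {x : A} {V : B} (f : V ⟶ p.obj x), ∃ (y : A) (φ : y ⟶ x) (e : p.obj y = V), p.map φ = eqToHom e ≫ f)
    (hc : ∀ {y x z : A} (φ : y ⟶ x) (φ' : z ⟶ x) (g : p.obj z ⟶ p.obj y), g ≫ p.map φ = p.map φ' →
      ∃! χ : z ⟶ y, p.map χ = g ∧ χ ≫ φ = φ') : FibCat.IsFibGrpd p := by
  refine ⟨fun {x V} f => ?_, fun {y x} φ => { universal_property' := fun {z} g φ' hφ' => ?_ }⟩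
  · obtain ⟨y, φ, e, h⟩ := hl f
    refine ⟨y, φ, IsHomLift.of_fac' p f φ e rfl ?_⟩
    simpa using h
  · have h1 : g ≫ p.map φ = p.map φ' := IsHomLift.eq_of_isHomLift p (g ≫ p.map φ) φ'
    obtain ⟨χ, ⟨h2, h3⟩, hu⟩ := hc φ φ' g h1
    refine ⟨χ, ⟨?_, h3⟩, fun χ' hχ' => hu χ' ⟨?_, hχ'.2⟩⟩
    · rw [← h2]; exact IsHomLift.map p χ
    · haveI := hχ'.1
      exact (IsHomLift.eq_of_isHomLift p g χ').symm

open Functor in
lemma fibGrpd_elim {A : Type u} [Category.{v} A] {B : Type u₂} [Category.{v₂} B] {p : A ⥤ B}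
    (h : FibCat.IsFibGrpd p) {y x z : A} (φ : y ⟶ x) (φ' : z ⟶ x) (g : p.obj z ⟶ p.obj y)
    (hg : g ≫ p.map φ = p.map φ') : ∃! χ : z ⟶ y, p.map χ = g ∧ χ ≫ φ = φ' := by
  haveI := h.isStronglyCartesian φ
  haveI : p.IsHomLift (g ≫ p.map φ) φ' := by rw [hg]; exact IsHomLift.map p φ'
  obtain ⟨χ, ⟨h1, h2⟩, hu⟩ := IsStronglyCartesian.universal_property p (p.map φ) φ g (g ≫ p.map φ) rfl φ'
  refine ⟨χ, ⟨(IsHomLift.eq_of_isHomLift p g χ).symm, h2⟩, fun χ' hχ' => hu χ' ⟨?_, hχ'.2⟩⟩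
  rw [← hχ'.1]
  exact IsHomLift.map p χ'

lemma isFibGrpd_comp {A : Type u} [Category.{v} A] {B : Type u₂} [Category.{v₂} B] {C : Type u₂} [Category.{v₂} C]
    {p : A ⥤ B} {q : B ⥤ C} (hp : FibCat.IsFibGrpd p) (hq : FibCat.IsFibGrpd q) :
    FibCat.IsFibGrpd (p ⋙ q) := by
  refine fibGrpd_mk _ (fun {x V} f => ?_) (fun {y x z} φ φ' g hg => ?_)
  · obtain ⟨b, ψ, hψ⟩ := hq.exists_lift f
    obtain ⟨e, hψ⟩ := lift_map q f ψ hψ
    obtain ⟨a, φ, hφ⟩ := hp.exists_lift ψ
    obtain ⟨e', hφ⟩ := lift_map p ψ φ hφ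
    refine ⟨a, φ, (congrArg q.obj e').trans e, ?_⟩
    simp [hφ, hψ, eqToHom_map]
  · obtain ⟨h, ⟨h1, h2⟩, hu⟩ := fibGrpd_elim hq (p.map φ) (p.map φ') g hg
    obtain ⟨χ, ⟨h3, h4⟩, hv⟩ := fibGrpd_elim hp φ φ' h h2
    refine ⟨χ, ⟨(congrArg q.map h3).trans h1, h4⟩, fun χ' hχ' => hv χ' ⟨hu _ ⟨hχ'.1, ?_⟩, hχ'.2⟩⟩
    rw [← p.map_comp, hχ'.2]


/-- Let S be a category, π_X : X ⥤ S and π_Y : Y ⥤ S be fibred in groupoids, and F : Y ⥤ X a functor
with F ⋙ π_X = π_Y. Consider the category of triples (y, x, φ) with φ : F y ≅ x an arbitrary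
isomorphism of X and morphisms the compatible pairs of morphisms (the categorical pullback of F and
the identity of X; the isomorphism φ is not required to lie over an identity of S). Its projection
to X is fibred in groupoids over X, and the composite of that projection with π_X is fibred in
groupoids over S. (The published statement also asserts that y ↦ (y, F y, id) and (y, x, φ) ↦ y form
an equivalence over S; that is not asserted here.) -/
theorem result {S : Type u} [Category.{v} S] {X : Type u} [Category.{v} X]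
    {Y : Type u} [Category.{v} Y] (πX : X ⥤ S) (πY : Y ⥤ S) (hX : FibCat.IsFibGrpd πX) (hY : FibCat.IsFibGrpd πY)
    (F : Y ⥤ X) (hF : F ⋙ πX = πY) :
    FibCat.IsFibGrpd (CategoricalPullback.π₂ F (𝟭 X)) ∧
      FibCat.IsFibGrpd (CategoricalPullback.π₂ F (𝟭 X) ⋙ πX) := by
  have key : FibCat.IsFibGrpd (CategoricalPullback.π₂ F (𝟭 X)) := by
    subst hF
    refine fibGrpd_mk _ (fun {a x'} f => ?_) (fun {b a c} m n g hg => ?_)
    · let g : x' ⟶ F.obj a.fst := f ≫ a.iso.inv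
      obtain ⟨y', ψ, hψ⟩ := hY.exists_lift (x := a.fst) (πX.map g)
      obtain ⟨e, hψ⟩ := lift_map (F ⋙ πX) (πX.map g) ψ hψ
      obtain ⟨χ, ⟨h1, h2⟩, -⟩ := fibGrpd_elim hX g (F.map ψ) (eqToHom e) hψ.symm
      haveI : Functor.IsHomLift πX (eqToHom e) χ := by rw [← h1]; infer_instance
      haveI : IsIso χ := Groth.L09.Fib.isIso_of_isFibGrpd πX hX (eqToHom e) χ
      let b : CategoricalPullback F (𝟭 X) := { fst := y', snd := x', iso := asIso χ }
      let m : b ⟶ a :=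
        { fst := ψ
          snd := f
          w := by
            show F.map ψ ≫ a.iso.hom = χ ≫ f
            rw [← h2]; simp only [g, Category.assoc]; erw [Iso.inv_hom_id, Category.comp_id]
            rfl }
      exact ⟨b, m, rfl, (Category.id_comp f).symm⟩
    · have g' : c.snd ⟶ b.snd := g
      let k : F.obj c.fst ⟶ F.obj b.fst := c.iso.hom ≫ g ≫ b.iso.inv
      have hk : k ≫ F.map m.fst = F.map n.fst := by
        rw [← cancel_mono a.iso.hom]
        have e1 : F.map m.fst ≫ a.iso.hom = b.iso.hom ≫ m.snd := m.w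
        have e2 : F.map n.fst ≫ a.iso.hom = c.iso.hom ≫ n.snd := n.w
        simp only [k, Category.assoc, e1, e2]
        erw [Iso.inv_hom_id_assoc]
        exact congrArg (c.iso.hom ≫ ·) hg
      obtain ⟨χ, ⟨h1, h2⟩, hu⟩ := fibGrpd_elim hY m.fst n.fst (πX.map k)
        (by simp only [Functor.comp_map, ← Functor.map_comp, hk])
      obtain ⟨k', -, hk'⟩ := fibGrpd_elim hX (F.map m.fst) (F.map n.fst) (πX.map k)
        (by simp only [← Functor.map_comp, hk])
      have hFχ : F.map χ = k :=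
        (hk' _ ⟨h1, by rw [← F.map_comp, h2]⟩).trans (hk' _ ⟨rfl, hk⟩).symm
      let r : c ⟶ b :=
        { fst := χ
          snd := g
          w := by
            show F.map χ ≫ b.iso.hom = c.iso.hom ≫ g
            rw [hFχ]
            simp only [k, Category.assoc]
            erw [Iso.inv_hom_id, Category.comp_id]
            rfl }
      refine ⟨r, ⟨rfl, CategoricalPullback.Hom.ext h2 hg⟩, fun r' hr' => ?_⟩
      refine CategoricalPullback.Hom.ext (hu r'.fst ⟨?_, by rw [← hr'.2]; rfl⟩) hr'.1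
      have e3 : F.map r'.fst ≫ b.iso.hom = c.iso.hom ≫ r'.snd := r'.w
      have e4 : r'.snd = g := hr'.1
      rw [Functor.comp_map]
      refine congrArg πX.map ?_
      rw [← cancel_mono b.iso.hom, e3, e4]
      simp only [k, Category.assoc]
      erw [Iso.inv_hom_id, Category.comp_id]
  exact ⟨key, isFibGrpd_comp key hX⟩

end Groth.Agent.S16361
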