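import Groth.Statements.S16362
import Mathlib.Algebra.BigOperators.Field

set_option autoImplicit false
universe u
open MovLem

namespace Groth.Agent.S16362

/-- Let A be a commutative ring, p a prime ideal of A, and ζ, u elements of A with u not in p. Then the
quotient of the classes of ζ and u in the fraction field of the domain A ⧸ p is integral over A ⧸ p
if and only if there exist a natural number N and elements a_1, …, a_N of A such that ζ^N + a_1
ζ^(N-1) u + ⋯ + a_N u^N lies in p; equivalently, some binary form of degree N with coefficients in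
A, monic in the first variable, evaluated at (ζ, u), lies in p. -/
theorem result
    {A : Type u} [CommRing A] (p : Ideal A) [p.IsPrime] (ζ u : A) (hu : u ∉ p) :
    IsIntegral (A ⧸ p)
        (algebraMap (A ⧸ p) (FractionRing (A ⧸ p)) (Ideal.Quotient.mk p ζ) /
          algebraMap (A ⧸ p) (FractionRing (A ⧸ p)) (Ideal.Quotient.mk p u)) ↔
      ∃ (N : ℕ) (a : ℕ → A),
        ζ ^ N + ∑ i ∈ Finset.Icc 1 N, a i * ζ ^ (N - i) * u ^ i ∈ p := by
  classical
  set R := A ⧸ p
  set K := FractionRing (A ⧸ p)
  set z := algebraMap R K (Ideal.Quotient.mk p ζ) with hz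
  set w := algebraMap R K (Ideal.Quotient.mk p u) with hwdef
  have hw : w ≠ 0 := by
    rw [hwdef, Ne, IsFractionRing.to_map_eq_zero_iff, Ideal.Quotient.eq_zero_iff_mem]
    exact hu
  have hmem : ∀ a : A, a ∈ p ↔ algebraMap R K (Ideal.Quotient.mk p a) = 0 := fun a => by
    rw [IsFractionRing.to_map_eq_zero_iff, Ideal.Quotient.eq_zero_iff_mem]
  constructor
  · rintro ⟨q, hq, he⟩
    refine ⟨q.natDegree, fun i => Function.surjInv Ideal.Quotient.mk_surjective (q.coeff (q.natDegree - i)), ?_⟩
    rw [hmem]
    simp only [map_add, map_sum, map_mul, map_pow, ← hz, ← hwdef,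
      Function.surjInv_eq Ideal.Quotient.mk_surjective]
    have h1 : (∑ j ∈ Finset.range (q.natDegree + 1), algebraMap R K (q.coeff j) * (z / w) ^ j) * w ^ q.natDegree = 0 := by
      rw [← Polynomial.eval₂_eq_sum_range, he, zero_mul]
    rw [← Finset.sum_range_reflect (fun j => algebraMap R K (q.coeff j) * (z / w) ^ j) (q.natDegree + 1),
      Finset.sum_mul, Finset.range_eq_Ico, Finset.sum_eq_sum_Ico_succ_bot (Nat.succ_pos _)] at h1
    refine Eq.trans ?_ h1
    congr 1
    · simp [hq.coeff_natDegree, div_pow, div_mul_cancel₀ _ (pow_ne_zero q.natDegree hw)]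
    · refine Finset.sum_congr (by ext; simp) fun i hi => ?_
      rw [Finset.mem_Ico] at hi
      rw [show q.natDegree + 1 - 1 - i = q.natDegree - i by omega, mul_assoc, div_pow,
        mul_assoc _ (z ^ (q.natDegree - i) / _), eq_comm]
      congr 1
      rw [div_mul_eq_mul_div, div_eq_iff (pow_ne_zero _ hw), mul_assoc, ← pow_add,
        show i + (q.natDegree - i) = q.natDegree by omega]
  · rintro ⟨N, a, ha⟩
    rcases N with _ | N
    · exact absurd (p.eq_top_iff_one.2 (by simpa using ha)) (inferInstance : p.IsPrime).ne_top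
    rw [hmem] at ha
    simp only [map_add, map_sum, map_mul, map_pow, ← hz, ← hwdef] at ha
    let q : Polynomial R := Polynomial.X ^ (N + 1) +
      ∑ i ∈ Finset.Icc 1 (N + 1), Polynomial.C (Ideal.Quotient.mk p (a i)) * Polynomial.X ^ (N + 1 - i)
    refine ⟨q, Polynomial.monic_X_pow_add ((Polynomial.degree_sum_le _ _).trans_lt
      ((Finset.sup_lt_iff (WithBot.bot_lt_coe _)).2 fun i hi => ?_)), ?_⟩
    · refine (Polynomial.degree_C_mul_X_pow_le _ _).trans_lt (WithBot.coe_lt_coe.2 ?_)
      rw [Finset.mem_Icc] at hi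
      show N + 1 - i < N + 1
      omega
    · have h2 : (z ^ (N + 1) + ∑ x ∈ Finset.Icc 1 (N + 1),
          algebraMap R K (Ideal.Quotient.mk p (a x)) * z ^ (N + 1 - x) * w ^ x) / w ^ (N + 1) = 0 := by
        rw [ha, zero_div]
      refine Eq.trans ?_ h2
      simp only [q, Polynomial.eval₂_add, Polynomial.eval₂_finsetSum, Polynomial.eval₂_mul, Polynomial.eval₂_C,
        Polynomial.eval₂_X_pow, add_div, Finset.sum_div, div_pow]
      congr 1
      refine Finset.sum_congr rfl fun i hi => ?_
      rw [Finset.mem_Icc] at hi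
      rw [← mul_div_assoc, div_eq_div_iff (pow_ne_zero _ hw) (pow_ne_zero _ hw), mul_assoc _ (w ^ i) (w ^ _),
        ← pow_add, show i + (N + 1 - i) = N + 1 by omega]

end Groth.Agent.S16362
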