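import Groth.Statements.S16363
import Groth.Agent.L13.AlgPointsDense

set_option autoImplicit false
universe u
open CategoryTheory Limits
open MovLem

namespace Groth.Agent.S16363

open AlgebraicGeometry in
/-- Let k be a field, X a k-scheme of finite type, K an extension field of k and U' ⊆ X_K = X ×_k Spec K
a dense open subset. There exists a dense open U ⊆ X with the following property: for every
algebraic closure k̄ of k, every field Ω that is simultaneously a k̄-algebra and a K-algebra
compatibly with k, and every k-morphism x : Spec k̄ → X whose image point lies in U, every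
K-morphism y : Spec Ω → X_K whose composite with the projection X_K → X is the composite Spec Ω →
Spec k̄ → X has image point in U'. (In words: the k̄-points of U, viewed as Ω-points of X_K, lie in
U'.) -/
theorem result
    {k K : Type u} [Field k] [Field K] [Algebra k K]
    (X : Scheme.{u}) (f : X ⟶ Spec (CommRingCat.of k)) [LocallyOfFiniteType f] [QuasiCompact f]
    (U' : (pullback f (Spec.map (CommRingCat.ofHom (algebraMap k K)))).Opens)
    (hU' : Dense (U' : Set ↥(pullback f (Spec.map (CommRingCat.ofHom (algebraMap k K)))))) :
    ∃ U : X.Opens, Dense (U : Set ↥X) ∧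
      ∀ (kb Ω : Type u) [Field kb] [Algebra k kb] [IsAlgClosure k kb]
        [Field Ω] [Algebra k Ω] [Algebra kb Ω] [Algebra K Ω] [IsScalarTower k kb Ω] [IsScalarTower k K Ω]
        (x : Spec (CommRingCat.of kb) ⟶ X),
        x ≫ f = Spec.map (CommRingCat.ofHom (algebraMap k kb)) →
        (∀ t : ↥(Spec (CommRingCat.of kb)), x.base t ∈ U) →
        ∀ (y : Spec (CommRingCat.of Ω) ⟶ pullback f (Spec.map (CommRingCat.ofHom (algebraMap k K)))),
          y ≫ pullback.fst f (Spec.map (CommRingCat.ofHom (algebraMap k K))) =
              Spec.map (CommRingCat.ofHom (algebraMap kb Ω)) ≫ x →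
          y ≫ pullback.snd f (Spec.map (CommRingCat.ofHom (algebraMap k K))) =
              Spec.map (CommRingCat.ofHom (algebraMap K Ω)) →
          ∀ t : ↥(Spec (CommRingCat.of Ω)), y.base t ∈ U' := by
  exact Groth.Agent.L13.AlgPoints.exists_dense_avoids X f U' hU'

end Groth.Agent.S16363
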