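import Groth.Statements.S16365
import Groth.Agent.L12.GenericFn
import Mathlib.AlgebraicGeometry.Morphisms.Smooth
import Mathlib.AlgebraicGeometry.Noetherian
import Mathlib.Algebra.Polynomial.Laurent
import Mathlib.Algebra.MvPolynomial.Funext

set_option autoImplicit false
set_option backward.isDefEq.respectTransparency.types false
-- import your own Groth.Agent.* helpers here

set_option autoImplicit false
universe u
open CategoryTheory Limits
open MovLem

open AlgebraicGeometry in
private theorem mem_smoothLocus_SpecMap {R S : Type u} [CommRing R] [CommRing S] [Algebra R S]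
    [LocallyOfFinitePresentation (Spec.map (CommRingCat.ofHom (algebraMap R S)))]
    (p : PrimeSpectrum S) :
    (p : ↥(Spec (CommRingCat.of S))) ∈ (Spec.map (CommRingCat.ofHom (algebraMap R S))).smoothLocus ↔
      Algebra.IsSmoothAt R p.asIdeal := by
  refine Scheme.Hom.mem_smoothLocus.trans ?_
  let q := p.comap (algebraMap R S)
  haveI : p.asIdeal.LiesOver q.asIdeal := ⟨rfl⟩
  letI := Localization.AtPrime.algebraOfLiesOver q.asIdeal p.asIdeal
  trans Algebra.FormallySmooth (Localization.AtPrime q.asIdeal) (Localization.AtPrime p.asIdeal)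
  · rw [← RingHom.formallySmooth_algebraMap]
    exact RingHom.FormallySmooth.respectsIso.arrow_mk_iso_iff
      (Scheme.arrowStalkMapSpecIso (CommRingCat.ofHom (algebraMap R S)) p)
  · exact Algebra.FormallySmooth.iff_restrictScalars.symm

namespace Groth.Agent.S16365

open AlgebraicGeometry in
/-- Let k be an infinite field, X a scheme of finite type over k, U an open subscheme of X which is
smooth over k, and x a point of X. Assume that if x lies in U then x is not an isolated point of X.
Then there exist an open neighbourhood V of x in X and a k-morphism v from V to the multiplicative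
group Spec k[T, T⁻¹] whose restriction to V ∩ U is a smooth morphism. (The published statement has
no hypothesis on x; when x is an isolated point of X lying in U the conclusion fails, since a
zero-dimensional scheme admits no smooth morphism to a curve, and in every other case an isolated
point can be discarded, so that case is excluded here.) -/
theorem result
    {k : Type u} [Field k] [Infinite k]
    (X : Scheme.{u}) (f : X ⟶ Spec (CommRingCat.of k)) [LocallyOfFiniteType f] [QuasiCompact f]
    (U : X.Opens) [Smooth (U.ι ≫ f)] (x : ↥X) (hx : x ∈ U → ¬ IsOpen ({x} : Set ↥X)) :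
    ∃ (V : X.Opens) (v : (↑V : Scheme.{u}) ⟶ Spec (CommRingCat.of (LaurentPolynomial k))),
      x ∈ V ∧
      v ≫ Spec.map (CommRingCat.ofHom (algebraMap k (LaurentPolynomial k))) = V.ι ≫ f ∧
      Smooth (X.homOfLE (inf_le_left : V ⊓ U ≤ V) ≫ v) := by
  classical
  haveI : IsLocallyNoetherian X := LocallyOfFiniteType.isLocallyNoetherian f
  haveI : LocallyOfFinitePresentation f := inferInstance
  obtain ⟨V, hV, hxV, -⟩ := exists_isAffineOpen_mem_and_subset (x := x) (U := (⊤ : X.Opens)) trivial
  let c : CommRingCat.of k ⟶ Γ(X, V) :=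
    (Scheme.ΓSpecIso (CommRingCat.of k)).inv ≫ f.appLE ⊤ V le_top
  letI : Algebra k Γ(X, V) := c.hom.toAlgebra
  have hfac : hV.isoSpec.hom ≫ Spec.map c = V.ι ≫ f := by
    rw [IsAffineOpen.isoSpec_hom, Spec.map_comp, Scheme.Opens.toSpecΓ_SpecMap_appLE_assoc,
      Scheme.Hom.resLE]
    simp only [Category.assoc, Scheme.Opens.toSpecΓ_top, morphismRestrict_ι,
      Scheme.homOfLE_ι_assoc, Category.comp_id, Scheme.isoSpec_Spec_hom]
    simp
    erw [morphismRestrict_ι, Scheme.homOfLE_ι_assoc]
  haveI : Algebra.FiniteType k Γ(X, V) :=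
    RingHom.finiteType_algebraMap.mp (RingHom.FiniteType.comp
      (f.finiteType_appLE (isAffineOpen_top _) hV le_top)
      (RingHom.FiniteType.of_surjective _
        (Scheme.ΓSpecIso (CommRingCat.of k)).symm.commRingCatIsoToRingEquiv.surjective))
  haveI : Algebra.FinitePresentation k Γ(X, V) :=
    Algebra.FinitePresentation.of_finiteType.mp inferInstance
  haveI : LocallyOfFinitePresentation (Spec.map (CommRingCat.ofHom (algebraMap k Γ(X, V)))) :=
    (HasRingHomProperty.Spec_iff (P := @LocallyOfFinitePresentation)).mpr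
      (RingHom.finitePresentation_algebraMap.mpr inferInstance)
  obtain ⟨n, g0, hg0⟩ := Algebra.FiniteType.iff_quotient_mvPolynomial''.mp
    (inferInstance : Algebra.FiniteType k Γ(X, V))
  let xs : Fin n → Γ(X, V) := fun i => g0 (MvPolynomial.X i)
  have hxs : Function.Surjective (MvPolynomial.aeval xs : MvPolynomial (Fin n) k →ₐ[k] Γ(X, V)) := by
    rwa [show (MvPolynomial.aeval xs : MvPolynomial (Fin n) k →ₐ[k] Γ(X, V)) = g0 from
      (MvPolynomial.aeval_unique g0).symm]
  let q : PrimeSpectrum Γ(X, V) := hV.primeIdealOf ⟨x, hxV⟩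
  have hsm : ∀ (y : X) (hy : y ∈ V), y ∈ U → Algebra.IsSmoothAt k (hV.primeIdealOf ⟨y, hy⟩).asIdeal := by
    intro y hy hyU
    have h1 : y ∈ f.smoothLocus := by
      have : (⟨y, hyU⟩ : ↥U) ∈ U.ι ⁻¹ᵁ f.smoothLocus := by
        rw [Scheme.Hom.preimage_smoothLocus_eq, Scheme.Hom.smoothLocus_eq_top]
        trivial
      exact this
    have h2 : (⟨y, hy⟩ : ↥V) ∈
        hV.isoSpec.hom ⁻¹ᵁ (Spec.map (CommRingCat.ofHom (algebraMap k Γ(X, V)))).smoothLocus := by
      have h3 : (⟨y, hy⟩ : ↥V) ∈ V.ι ⁻¹ᵁ f.smoothLocus := h1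
      rw [Scheme.Hom.preimage_smoothLocus_eq] at h3 ⊢
      simp only [← hfac] at h3
      exact h3
    exact (mem_smoothLocus_SpecMap _).mp h2
  -- the coefficients of the linear form
  obtain ⟨hp, hp0, hK⟩ := Groth.L12.GenericFn.exists_finite_critical xs hxs
  have hL : ∃ L : MvPolynomial (Fin n) k, L ≠ 0 ∧ ∀ a : Fin n → k, MvPolynomial.eval a L ≠ 0 →
      x ∈ U → (∑ i, algebraMap k Γ(X, V) (a i) * xs i) ∉ Groth.L20.MovingUnit.vanishing (k := k) q.asIdeal := by
    by_cases hxU : x ∈ U
    · have hnot : ¬ IsOpen ({⟨q.asIdeal, q.2⟩} : Set (PrimeSpectrum Γ(X, V))) := by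
        intro ho
        refine hx hxU ?_
        have h := hV.fromSpec.isOpenEmbedding.isOpenMap _ ho
        convert h using 1
        exact ((congrArg (fun z => ({z} : Set X)) (hV.fromSpec_primeIdealOf ⟨x, hxV⟩)).symm.trans
          (Set.image_singleton (f := fun z => hV.fromSpec z) (a := q)).symm)
      obtain ⟨i₀, hi₀⟩ := Groth.L12.GenericFn.exists_generator_notMem_vanishing xs hxs q.asIdeal hnot
      obtain ⟨φ, hφ, hφ'⟩ := Submodule.exists_dual_map_eq_bot_of_notMem hi₀ inferInstance
      refine ⟨∑ i, MvPolynomial.C (φ (xs i)) * MvPolynomial.X i, fun h0 => hφ ?_, fun a ha _ hmem => ha ?_⟩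
      · have := congrArg (MvPolynomial.eval fun i => if i = i₀ then (1 : k) else 0) h0
        simpa using this
      · have h1 : φ (∑ i, algebraMap k Γ(X, V) (a i) * xs i) = 0 := by
          have := Submodule.mem_map_of_mem (f := φ) hmem
          rwa [hφ', Submodule.mem_bot] at this
        rw [map_sum] at h1 ⊢
        simpa [← Algebra.smul_def, mul_comm] using h1
    · exact ⟨1, one_ne_zero, fun _ _ h => absurd h hxU⟩
  obtain ⟨L, hL0, hL⟩ := hL
  obtain ⟨a, ha⟩ : ∃ a : Fin n → k, MvPolynomial.eval a (hp * L) ≠ 0 := by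
    by_contra hc
    push Not at hc
    exact mul_ne_zero hp0 hL0 (MvPolynomial.funext fun a => (hc a).trans (map_zero _).symm)
  rw [map_mul, mul_ne_zero_iff] at ha
  obtain ⟨K, hKfin, hKmax, hK⟩ := hK a ha.1
  let ℓ : Γ(X, V) := ∑ i, algebraMap k Γ(X, V) (a i) * xs i
  obtain ⟨t, ht⟩ : ∃ t : k, ℓ + algebraMap k Γ(X, V) t ∉ q.asIdeal := by
    by_cases h : ℓ ∈ q.asIdeal
    · refine ⟨1, fun h' => q.2.ne_top ((Ideal.eq_top_iff_one _).2 ?_)⟩
      have := q.asIdeal.sub_mem h' h
      simpa using this
    · exact ⟨0, by simpa using h⟩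
  -- an element vanishing at the critical points but not at `x`
  obtain ⟨g, hgq, hgK⟩ : ∃ g : Γ(X, V), g ∉ q.asIdeal ∧ ∀ M ∈ K, M ≠ q.asIdeal → g ∈ M := by
    have hex : ∀ M : hKfin.toFinset, ∃ g, g ∉ q.asIdeal ∧ (M.1 ≠ q.asIdeal → g ∈ M.1) := by
      rintro ⟨M, hM⟩
      by_cases h : M = q.asIdeal
      · exact ⟨1, fun h1 => q.2.ne_top ((Ideal.eq_top_iff_one _).2 h1), fun hne => absurd h hne⟩
      · have hnle : ¬ M ≤ q.asIdeal := fun hle =>
          h ((hKmax M (hKfin.mem_toFinset.1 hM)).eq_of_le q.2.ne_top hle)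
        obtain ⟨g, hg, hgq⟩ := SetLike.not_le_iff_exists.1 hnle
        exact ⟨g, hgq, fun _ => hg⟩
    choose g hg hgM using hex
    refine ⟨∏ M, g M, fun h => ?_, fun M hM hne => ?_⟩
    · obtain ⟨M, -, hM⟩ := (q.2.prod_mem_iff).1 h
      exact hg M hM
    · exact Ideal.mem_of_dvd _ (Finset.dvd_prod_of_mem g (Finset.mem_univ ⟨M, hKfin.mem_toFinset.2 hM⟩))
        (hgM ⟨M, hKfin.mem_toFinset.2 hM⟩ hne)
  let u : Γ(X, V) := ℓ + algebraMap k Γ(X, V) t
  let W : X.Opens := X.basicOpen (u * g)
  have hWV : W ≤ V := X.basicOpen_le _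
  have hmem : ∀ (y : X) (hy : y ∈ V) (z : Γ(X, V)),
      z ∉ (hV.primeIdealOf ⟨y, hy⟩).asIdeal ↔ y ∈ X.basicOpen z := fun y hy z => by
    rw [← PrimeSpectrum.mem_basicOpen, ← hV.fromSpec_preimage_basicOpen z]
    show hV.fromSpec (hV.primeIdealOf ⟨y, hy⟩) ∈ X.basicOpen z ↔ _
    rw [hV.fromSpec_primeIdealOf]
  have hxW : x ∈ W := (hmem x hxV _).1 fun h => (q.2.mem_or_mem h).elim ht hgq
  -- the map to the affine line on all of `V`
  let φ : Polynomial k →+* Γ(X, V) := (Polynomial.aeval u).toRingHom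
  let gV : (↑V : Scheme.{u}) ⟶ Spec (CommRingCat.of (Polynomial k)) :=
    hV.isoSpec.hom ≫ Spec.map (CommRingCat.ofHom φ)
  letI : Algebra (Polynomial k) Γ(X, V) := φ.toAlgebra
  haveI : IsScalarTower k (Polynomial k) Γ(X, V) :=
    IsScalarTower.of_algebraMap_eq fun a => ((Polynomial.aeval u).commutes a).symm
  haveI : Algebra.FiniteType (Polynomial k) Γ(X, V) :=
    Algebra.FiniteType.of_restrictScalars_finiteType k (Polynomial k) Γ(X, V)
  haveI : LocallyOfFinitePresentation (Spec.map (CommRingCat.ofHom φ)) :=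
    (HasRingHomProperty.Spec_iff (P := @LocallyOfFinitePresentation)).mpr
      (RingHom.finitePresentation_algebraMap.mpr
        (Algebra.FinitePresentation.of_finiteType.mp inferInstance))
  have hgV : gV ≫ Spec.map (CommRingCat.ofHom (algebraMap k (Polynomial k))) = V.ι ≫ f := by
    rw [← hfac, Category.assoc, ← Spec.map_comp]
    congr 2
    ext a
    exact (Polynomial.aeval u).commutes a
  let ι : Spec (CommRingCat.of (LaurentPolynomial k)) ⟶ Spec (CommRingCat.of (Polynomial k)) :=
    Spec.map (CommRingCat.ofHom (algebraMap (Polynomial k) (LaurentPolynomial k)))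
  haveI : IsOpenImmersion ι := IsOpenImmersion.of_isLocalization (Polynomial.X : Polynomial k)
  have hrange : Set.range (X.homOfLE hWV ≫ gV) ⊆ Set.range ι := by
    rintro _ ⟨y, rfl⟩
    have hy : y.1 ∈ X.basicOpen u := by
      have h := y.2
      simp only [W, Scheme.basicOpen_mul] at h
      exact h.1
    have h1 : φ Polynomial.X ∉ (hV.primeIdealOf ⟨y.1, hWV y.2⟩).asIdeal := by
      show Polynomial.aeval u Polynomial.X ∉ _
      rw [Polynomial.aeval_X]
      exact (hmem _ _ _).2 hy
    rw [show Set.range ι = (PrimeSpectrum.basicOpen (Polynomial.X : Polynomial k) : Set (PrimeSpectrum (Polynomial k)))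
      from PrimeSpectrum.localization_away_comap_range (LaurentPolynomial k) Polynomial.X]
    show Polynomial.X ∉ ((X.homOfLE hWV ≫ gV) y : PrimeSpectrum (Polynomial k)).asIdeal
    have e : (X.homOfLE hWV y : ↥V) = ⟨y.1, hWV y.2⟩ := Subtype.ext (X.homOfLE_apply hWV y)
    rw [Scheme.Hom.comp_apply, e]
    exact h1
  let v := IsOpenImmersion.lift ι (X.homOfLE hWV ≫ gV) hrange
  refine ⟨W, v, hxW, ?_, ?_⟩
  · rw [← Scheme.homOfLE_ι X hWV, Category.assoc, ← hgV, ← Category.assoc (X.homOfLE hWV),
      ← IsOpenImmersion.lift_fac ι (X.homOfLE hWV ≫ gV) hrange, Category.assoc, ← Spec.map_comp,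
      ← CommRingCat.ofHom_comp]
    refine congrArg (v ≫ ·) (congrArg (fun r => Spec.map (CommRingCat.ofHom r)) (RingHom.ext fun z => ?_))
    simp [LaurentPolynomial.algebraMap_apply, Polynomial.toLaurent_C]
  · let w := X.homOfLE (inf_le_left : W ⊓ U ≤ W)
    have hsmooth : Smooth ((w ≫ v) ≫ ι) := by
      rw [Category.assoc, IsOpenImmersion.lift_fac, ← Category.assoc, Scheme.homOfLE_homOfLE,
        ← Scheme.Hom.smoothLocus_eq_top_iff, ← Scheme.Hom.preimage_smoothLocus_eq, eq_top_iff]
      rintro ⟨y, hy⟩ -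
      have hyV : y ∈ V := hWV hy.1
      show X.homOfLE _ ⟨y, hy⟩ ∈ gV.smoothLocus
      rw [show X.homOfLE ((inf_le_left : W ⊓ U ≤ W).trans hWV) ⟨y, hy⟩ = (⟨y, hyV⟩ : ↥V) from
        Subtype.ext (X.homOfLE_apply _ _)]
      show (⟨y, hyV⟩ : ↥V) ∈ (hV.isoSpec.hom ≫ Spec.map (CommRingCat.ofHom φ)).smoothLocus
      rw [← Scheme.Hom.preimage_smoothLocus_eq]
      refine (mem_smoothLocus_SpecMap (hV.primeIdealOf ⟨y, hyV⟩)).mpr ?_
      let p := hV.primeIdealOf ⟨y, hyV⟩
      haveI := hsm y hyV hy.2
      haveI : Algebra.EssFiniteType Γ(X, V) (Localization.AtPrime p.asIdeal) :=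
        .of_isLocalization _ p.asIdeal.primeCompl
      haveI : Algebra.EssFiniteType k (Localization.AtPrime p.asIdeal) := .comp _ Γ(X, V) _
      apply Groth.L20.MovingUnit.formallySmooth_polynomial
      rw [IsScalarTower.algebraMap_apply (Polynomial k) Γ(X, V) (Localization.AtPrime p.asIdeal),
        show algebraMap (Polynomial k) Γ(X, V) Polynomial.X = u from Polynomial.aeval_X _,
        ← Groth.L20.MovingUnit.mem_vanishing]
      have hℓ : ℓ ∉ Groth.L20.MovingUnit.vanishing (k := k) p.asIdeal := by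
        by_cases hpq : p.asIdeal = q.asIdeal
        · have hyx : y = x := by
            have h := congrArg hV.fromSpec (PrimeSpectrum.ext hpq)
            rwa [hV.fromSpec_primeIdealOf, hV.fromSpec_primeIdealOf] at h
          subst hyx
          exact hL a ha.2 hy.2
        · refine hK p.asIdeal (hsm y hyV hy.2) fun hpK => ?_
          have hyg : y ∈ X.basicOpen g := by
            have h := hy.1
            simp only [W, Scheme.basicOpen_mul] at h
            exact h.2
          exact (hmem y hyV g).2 hyg (hgK _ hpK hpq)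
      intro hmemu
      refine hℓ ?_
      have hc : algebraMap k Γ(X, V) t ∈ Groth.L20.MovingUnit.vanishing (k := k) p.asIdeal := by
        rw [Groth.L20.MovingUnit.mem_vanishing, ← IsScalarTower.algebraMap_apply, Derivation.map_algebraMap]
        exact Submodule.zero_mem _
      have := Submodule.sub_mem _ hmemu hc
      simpa [u] using this
    haveI := hsmooth
    exact MorphismProperty.of_isPullback (P := @Smooth)
      (IsPullback.of_isLimit' ⟨Category.id_comp _⟩ (PullbackCone.IsLimit.mk _ (fun c => c.fst)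
        (fun c => Category.comp_id _)
        (fun c => (cancel_mono ι).1 ((Category.assoc _ _ _).trans c.condition))
        (fun c m h1 _ => (Category.comp_id m).symm.trans h1)) :
        IsPullback (𝟙 _) (w ≫ v) ((w ≫ v) ≫ ι) ι) hsmooth

end Groth.Agent.S16365
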