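import Groth.Statements.S16366
import Groth.Agent.L20.MovingUnit
import Mathlib.AlgebraicGeometry.Morphisms.Smooth

set_option autoImplicit false
universe u
open CategoryTheory Limits Opposite
open MovLem

set_option backward.isDefEq.respectTransparency.types false
open AlgebraicGeometry in
theorem mem_smoothLocus_SpecMap_iff {R S : Type u} [CommRing R] [CommRing S] [Algebra R S]
    [LocallyOfFinitePresentation (Spec.map (CommRingCat.ofHom (algebraMap R S)))]
    (p : PrimeSpectrum S) :
    (p : ↥(Spec (CommRingCat.of S))) ∈ (Spec.map (CommRingCat.ofHom (algebraMap R S))).smoothLocus ↔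
      Algebra.IsSmoothAt R p.asIdeal := by
  refine Scheme.Hom.mem_smoothLocus.trans ?_
  let q := p.comap (algebraMap R S)
  haveI : p.asIdeal.LiesOver q.asIdeal := ⟨rfl⟩
  letI := Localization.AtPrime.algebraOfLiesOver q.asIdeal p.asIdeal
  trans Algebra.FormallySmooth (Localization.AtPrime q.asIdeal) (Localization.AtPrime p.asIdeal)
  · rw [← RingHom.formallySmooth_algebraMap]
    exact RingHom.FormallySmooth.respectsIso.arrow_mk_iso_iff
      (Scheme.arrowStalkMapSpecIso (CommRingCat.ofHom (algebraMap R S)) p)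
  · exact Algebra.FormallySmooth.iff_restrictScalars.symm
namespace Groth.Agent.S16366

open AlgebraicGeometry in
/-- Let k be an infinite field, X a scheme of finite type over k and u a global function on X such that
the open subscheme X_u where u is invertible is smooth over k. Let x be a point of X at which u is
not invertible, and let x'_1, …, x'_n be finitely many points of X_u, each of which specializes to
x. Then there exist an open neighbourhood X' of x, a unit e among the functions on X', and the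
k-morphism g : X' → A^1_k = Spec k[T] whose pulled-back coordinate T is e·u restricted to X', such
that g is smooth on some open neighbourhood of each x'_i. (Equivalently: after shrinking X around x,
the equation u of the principal divisor D = (u) is replaced by another equation e·u of the same
divisor that is smooth at the chosen points. The published statement takes D an effective Cartier
divisor, i.e. u a non-zero-divisor; that is not assumed here, and the argument does not need it.) -/
theorem result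
    {k : Type u} [Field k] [Infinite k]
    (X : Scheme.{u}) (f : X ⟶ Spec (CommRingCat.of k)) [LocallyOfFiniteType f] [QuasiCompact f]
    (u : Γ(X, ⊤)) [Smooth ((X.basicOpen u).ι ≫ f)]
    (x : ↥X) (hx : x ∉ X.basicOpen u)
    {ι : Type} [Finite ι] (x' : ι → ↥X) (hx' : ∀ i, x' i ∈ X.basicOpen u) (hgen : ∀ i, x' i ⤳ x) :
    ∃ (X' : X.Opens) (e : Γ(X, X')) (g : (↑X' : Scheme.{u}) ⟶ Spec (CommRingCat.of (Polynomial k))),
      x ∈ X' ∧ IsUnit e ∧
      g ≫ Spec.map (CommRingCat.ofHom (Polynomial.C : k →+* Polynomial k)) = X'.ι ≫ f ∧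
      X'.topIso.hom (g.appTop ((Scheme.ΓSpecIso (CommRingCat.of (Polynomial k))).inv Polynomial.X)) =
        e * X.presheaf.map (homOfLE le_top).op u ∧
      ∀ i, ∃ (W : X.Opens) (hW : W ≤ X'), x' i ∈ W ∧ Smooth (X.homOfLE hW ≫ g) := by
  classical
  haveI : IsLocallyNoetherian X := LocallyOfFiniteType.isLocallyNoetherian f
  haveI : LocallyOfFinitePresentation f := inferInstance
  obtain ⟨V, hV, hxV⟩ : ∃ V : X.Opens, IsAffineOpen V ∧ x ∈ V := by
    obtain ⟨_, ⟨V, hV, rfl⟩, hxV, -⟩ := X.isBasis_affineOpens.exists_subset_of_mem_open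
      (Set.mem_univ x) isOpen_univ
    exact ⟨V, hV, hxV⟩
  have hx'V : ∀ i, x' i ∈ V := fun i => (hgen i).mem_open V.2 hxV
  let c : CommRingCat.of k ⟶ Γ(X, V) :=
    (Scheme.ΓSpecIso (CommRingCat.of k)).inv ≫ f.appLE ⊤ V le_top
  letI : Algebra k Γ(X, V) := c.hom.toAlgebra
  have hfac : hV.isoSpec.hom ≫ Spec.map c = V.ι ≫ f := by
    rw [IsAffineOpen.isoSpec_hom, Spec.map_comp, Scheme.Opens.toSpecΓ_SpecMap_appLE_assoc,
      Scheme.Hom.resLE]
    simp only [Category.assoc, Scheme.Opens.toSpecΓ_top, morphismRestrict_ι,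
      Scheme.homOfLE_ι_assoc, Category.comp_id, Scheme.isoSpec_Spec_hom]
    simp
    erw [morphismRestrict_ι, Scheme.homOfLE_ι_assoc]
  haveI : Algebra.FiniteType k Γ(X, V) :=
    RingHom.finiteType_algebraMap.mp (RingHom.FiniteType.comp
      (f.finiteType_appLE (isAffineOpen_top _) hV le_top)
      (RingHom.FiniteType.of_surjective _
        (Scheme.ΓSpecIso (CommRingCat.of k)).symm.commRingCatIsoToRingEquiv.surjective))
  haveI : Algebra.FinitePresentation k Γ(X, V) :=
    Algebra.FinitePresentation.of_finiteType.mp inferInstance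
  haveI : LocallyOfFinitePresentation (Spec.map (CommRingCat.ofHom (algebraMap k Γ(X, V)))) :=
    (HasRingHomProperty.Spec_iff (P := @LocallyOfFinitePresentation)).mpr
      (RingHom.finitePresentation_algebraMap.mpr inferInstance)
  let uV : Γ(X, V) := X.presheaf.map (homOfLE le_top).op u
  let p : ι → PrimeSpectrum Γ(X, V) := fun i => hV.primeIdealOf ⟨x' i, hx'V i⟩
  let q : PrimeSpectrum Γ(X, V) := hV.primeIdealOf ⟨x, hxV⟩
  have hmem : ∀ (y : X) (hy : y ∈ V) (a : Γ(X, V)),
      a ∉ (hV.primeIdealOf ⟨y, hy⟩).asIdeal ↔ y ∈ X.basicOpen a := fun y hy a => by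
    rw [← PrimeSpectrum.mem_basicOpen, ← hV.fromSpec_preimage_basicOpen a]
    show hV.fromSpec (hV.primeIdealOf ⟨y, hy⟩) ∈ X.basicOpen a ↔ _
    rw [hV.fromSpec_primeIdealOf]
  have huV : ∀ y : X, y ∈ V → (y ∈ X.basicOpen uV ↔ y ∈ X.basicOpen u) := fun y hy => by
    rw [Scheme.basicOpen_res]
    exact ⟨fun h => h.2, fun h => ⟨hy, h⟩⟩
  have hu : ∀ i, uV ∉ (p i).asIdeal := fun i =>
    (hmem _ _ _).mpr ((huV _ (hx'V i)).mpr (hx' i))
  have hp : ∀ i, ¬ (p i).asIdeal.IsMaximal := by
    intro i hmax
    have hle : (p i).asIdeal ≤ q.asIdeal :=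
      (PrimeSpectrum.le_iff_specializes _ _).mpr
        (hV.fromSpec.isOpenEmbedding.isInducing.specializes_iff.mp (by
          show hV.fromSpec (hV.primeIdealOf ⟨x' i, hx'V i⟩) ⤳
            hV.fromSpec (hV.primeIdealOf ⟨x, hxV⟩)
          rw [hV.fromSpec_primeIdealOf, hV.fromSpec_primeIdealOf]
          exact hgen i))
    have heq : (p i).asIdeal = q.asIdeal := hmax.eq_of_le q.isPrime.ne_top hle
    have := hu i
    rw [heq] at this
    exact hx ((huV x hxV).mp ((hmem x hxV uV).mp this))
  have hsm : ∀ i, Algebra.IsSmoothAt k (p i).asIdeal := by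
    intro i
    have h1 : x' i ∈ f.smoothLocus := by
      have : (⟨x' i, hx' i⟩ : ↥(X.basicOpen u)) ∈ (X.basicOpen u).ι ⁻¹ᵁ f.smoothLocus := by
        rw [Scheme.Hom.preimage_smoothLocus_eq, Scheme.Hom.smoothLocus_eq_top]
        trivial
      exact this
    have h2 : (⟨x' i, hx'V i⟩ : ↥V) ∈
        hV.isoSpec.hom ⁻¹ᵁ (Spec.map (CommRingCat.ofHom (algebraMap k Γ(X, V)))).smoothLocus := by
      have h3 : (⟨x' i, hx'V i⟩ : ↥V) ∈ V.ι ⁻¹ᵁ f.smoothLocus := h1
      rw [Scheme.Hom.preimage_smoothLocus_eq] at h3 ⊢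
      simp only [← hfac] at h3
      exact h3
    exact (mem_smoothLocus_SpecMap_iff (p i)).mp h2
  obtain ⟨e, he, hne⟩ := Groth.L20.MovingUnit.exists_unit_multiple (k := k) uV q.asIdeal
    q.isPrime.ne_top (fun i => (p i).asIdeal) hu hp
  -- the map to the affine line on all of `V`
  let φ : Polynomial k →+* Γ(X, V) := (Polynomial.aeval (e * uV)).toRingHom
  let gV : (↑V : Scheme.{u}) ⟶ Spec (CommRingCat.of (Polynomial k)) :=
    hV.isoSpec.hom ≫ Spec.map (CommRingCat.ofHom φ)
  letI : Algebra (Polynomial k) Γ(X, V) := φ.toAlgebra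
  haveI : IsScalarTower k (Polynomial k) Γ(X, V) :=
    IsScalarTower.of_algebraMap_eq fun a => ((Polynomial.aeval (e * uV)).commutes a).symm
  haveI : Algebra.FiniteType (Polynomial k) Γ(X, V) :=
    Algebra.FiniteType.of_restrictScalars_finiteType k (Polynomial k) Γ(X, V)
  haveI : LocallyOfFinitePresentation (Spec.map (CommRingCat.ofHom φ)) :=
    (HasRingHomProperty.Spec_iff (P := @LocallyOfFinitePresentation)).mpr
      (RingHom.finitePresentation_algebraMap.mpr
        (Algebra.FinitePresentation.of_finiteType.mp inferInstance))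
  have hgV : gV ≫ Spec.map (CommRingCat.ofHom (Polynomial.C : k →+* Polynomial k)) = V.ι ≫ f := by
    rw [← hfac, Category.assoc, ← Spec.map_comp]
    congr 2
    ext a
    exact (Polynomial.aeval (e * uV)).commutes a
  have hle : X.basicOpen e ≤ V := X.basicOpen_le e
  have hxX' : x ∈ X.basicOpen e := (hmem x hxV e).mp he
  refine ⟨X.basicOpen e, X.presheaf.map (homOfLE hle).op e, X.homOfLE hle ≫ gV, hxX',
    RingedSpace.isUnit_res_basicOpen _ e, ?_, ?_, ?_⟩
  · rw [Category.assoc, hgV, Scheme.homOfLE_ι_assoc]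
  · have h1 : gV.appTop ((Scheme.ΓSpecIso (CommRingCat.of (Polynomial k))).inv Polynomial.X) =
        V.topIso.inv (e * uV) := by
      have h2 : (Scheme.ΓSpecIso (CommRingCat.of (Polynomial k))).inv ≫ gV.appTop =
          CommRingCat.ofHom φ ≫ V.topIso.inv := by
        simp only [gV, Scheme.Hom.comp_appTop, IsAffineOpen.isoSpec_hom,
          Scheme.Opens.toSpecΓ_appTop]
        rw [← Scheme.ΓSpecIso_inv_naturality_assoc, Iso.inv_hom_id_assoc]
      rw [← CommRingCat.comp_apply, h2, CommRingCat.comp_apply]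
      congr 1
      exact Polynomial.aeval_X _
    rw [Scheme.Hom.comp_appTop, CommRingCat.comp_apply, h1]
    have h3 : V.topIso.inv ≫ (X.homOfLE hle).appTop ≫ (X.basicOpen e).topIso.hom =
        X.presheaf.map (homOfLE hle).op := by
      simp [Scheme.Opens.topIso]
      erw [← X.presheaf.map_comp, ← X.presheaf.map_comp]
      rfl
    rw [← CommRingCat.comp_apply, ← CommRingCat.comp_apply, h3, map_mul]
    congr 1
    show X.presheaf.map _ (X.presheaf.map _ u) = _
    rw [← CommRingCat.comp_apply, ← X.presheaf.map_comp]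
    rfl
  · intro i
    have hi : x' i ∈ X.basicOpen e := (hgen i).mem_open (X.basicOpen e).2 hxX'
    haveI : LocallyOfFinitePresentation (X.homOfLE hle ≫ gV) := inferInstance
    have hpi : (⟨x' i, hi⟩ : ↥(X.basicOpen e)) ∈ (X.homOfLE hle ≫ gV).smoothLocus := by
      rw [← Scheme.Hom.preimage_smoothLocus_eq]
      show X.homOfLE hle ⟨x' i, hi⟩ ∈ gV.smoothLocus
      have : X.homOfLE hle ⟨x' i, hi⟩ = (⟨x' i, hx'V i⟩ : ↥V) :=
        Subtype.ext (X.homOfLE_apply hle ⟨x' i, hi⟩)
      rw [this]
      show (⟨x' i, hx'V i⟩ : ↥V) ∈ (hV.isoSpec.hom ≫ Spec.map (CommRingCat.ofHom φ)).smoothLocus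
      rw [← Scheme.Hom.preimage_smoothLocus_eq]
      refine (mem_smoothLocus_SpecMap_iff (p i)).mpr ?_
      haveI := hsm i
      haveI : Algebra.EssFiniteType Γ(X, V) (Localization.AtPrime (p i).asIdeal) :=
        .of_isLocalization _ (p i).asIdeal.primeCompl
      haveI : Algebra.EssFiniteType k (Localization.AtPrime (p i).asIdeal) := .comp _ Γ(X, V) _
      apply Groth.L20.MovingUnit.formallySmooth_polynomial
      rw [IsScalarTower.algebraMap_apply (Polynomial k) Γ(X, V)
        (Localization.AtPrime (p i).asIdeal),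
        show algebraMap (Polynomial k) Γ(X, V) Polynomial.X = e * uV from Polynomial.aeval_X _]
      exact hne i
    let g := X.homOfLE hle ≫ gV
    let W : X.Opens := (X.basicOpen e).ι ''ᵁ g.smoothLocus
    have hW : W ≤ X.basicOpen e := Scheme.Opens.ι_image_le _ _
    refine ⟨W, hW, ⟨⟨x' i, hi⟩, hpi, rfl⟩, ?_⟩
    rw [← Scheme.Hom.smoothLocus_eq_top_iff, ← Scheme.Hom.preimage_smoothLocus_eq, eq_top_iff]
    rintro ⟨y, z, hz, hzy⟩ -
    show X.homOfLE hW _ ∈ g.smoothLocus
    have hy : X.homOfLE hW (⟨y, ⟨z, hz, hzy⟩⟩ : ↥W) = z :=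
      Subtype.ext ((X.homOfLE_apply hW _).trans hzy.symm)
    rw [hy]
    exact hz


end Groth.Agent.S16366
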