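import Groth.Statements.S16367
import Mathlib.RingTheory.Ideal.Quotient.Operations

set_option autoImplicit false
universe u
open MovLem

namespace Groth.Agent.S16367

/-- The chart computation of its proof: let k be a commutative ring, P = k[x_1, …, x_d, w_1, …, w_n] a
polynomial ring in two groups of variables, u a polynomial in the x-variables alone, v a vector in
k^d, J a set of indices among the w-variables with ζ = ∏_{j ∈ J} w_j, and N ≤ s natural numbers. Let
(f_λ) be a finite family of elements of P, each of total degree at most N in the x-variables, and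
assume that ζ^N + c_1 ζ^(N-1) u + ⋯ + c_N u^N lies in the ideal generated by the f_λ for some c_1,
…, c_N ∈ P. For each λ let φ_λ ∈ P[τ] be the polynomial τ^N · f_λ(x + u^s v/τ, w), written out
monomial by monomial: a monomial a·x^m·w^m' of x-degree e = |m| contributes a · τ^(N-e) · ∏_i (τ x_i
+ u^s v_i)^(m_i) · w^m'. Then there are c'_1, …, c'_N ∈ P[τ] with (τζ)^N + c'_1 (τζ)^(N-1) u + ⋯ +
c'_N u^N in the ideal of P[τ] generated by the φ_λ. (This identity is what shows that translating a
cycle by t·u^s·v preserves the modulus condition on the chart whose coordinates are the z_i and the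
1/z_j, with τ = 1/t; integrality of ζ/u, resp. τζ/u, is expressed by such monic binary forms.) -/
theorem result
    {k : Type u} [CommRing k] (d n : ℕ) (u : MvPolynomial (Fin d) k) (v : Fin d → k)
    (J : Finset (Fin n)) (N s : ℕ) (hs : N ≤ s)
    {Λ : Type u} [Fintype Λ] (f : Λ → MvPolynomial (Fin d ⊕ Fin n) k)
    (hdeg : ∀ l, ∀ m ∈ (f l).support, ∑ i : Fin d, m (Sum.inl i) ≤ N)
    (c : ℕ → MvPolynomial (Fin d ⊕ Fin n) k)
    (hE : (∏ j ∈ J, MvPolynomial.X (Sum.inr j)) ^ N +
        ∑ i ∈ Finset.Icc 1 N, c i * (∏ j ∈ J, MvPolynomial.X (Sum.inr j)) ^ (N - i) *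
          MvPolynomial.rename Sum.inl u ^ i ∈ Ideal.span (Set.range f)) :
    ∃ c' : ℕ → Polynomial (MvPolynomial (Fin d ⊕ Fin n) k),
      (Polynomial.X * Polynomial.C (∏ j ∈ J, MvPolynomial.X (Sum.inr j))) ^ N +
        ∑ i ∈ Finset.Icc 1 N, c' i *
          (Polynomial.X * Polynomial.C (∏ j ∈ J, MvPolynomial.X (Sum.inr j))) ^ (N - i) *
            Polynomial.C (MvPolynomial.rename Sum.inl u) ^ i ∈
      Ideal.span (Set.range fun l : Λ =>
        ∑ m ∈ (f l).support,
          Polynomial.C (MvPolynomial.C (MvPolynomial.coeff m (f l))) *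
            Polynomial.X ^ (N - ∑ i : Fin d, m (Sum.inl i)) *
            (∏ i : Fin d, (Polynomial.X * Polynomial.C (MvPolynomial.X (Sum.inl i)) +
                Polynomial.C (MvPolynomial.rename Sum.inl u ^ s * MvPolynomial.C (v i))) ^ m (Sum.inl i)) *
            ∏ j : Fin n, Polynomial.C (MvPolynomial.X (Sum.inr j)) ^ m (Sum.inr j)) := by
  classical
  set U : (MvPolynomial (Fin d ⊕ Fin n) k) := MvPolynomial.rename Sum.inl u with hU
  set Z : (MvPolynomial (Fin d ⊕ Fin n) k) := ∏ j ∈ J, MvPolynomial.X (Sum.inr j) with hZ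
  set φ : Λ → Polynomial (MvPolynomial (Fin d ⊕ Fin n) k) := fun l : Λ =>
        ∑ m ∈ (f l).support,
          Polynomial.C (MvPolynomial.C (MvPolynomial.coeff m (f l))) *
            Polynomial.X ^ (N - ∑ i : Fin d, m (Sum.inl i)) *
            (∏ i : Fin d, (Polynomial.X * Polynomial.C (MvPolynomial.X (Sum.inl i)) +
                Polynomial.C (U ^ s * MvPolynomial.C (v i))) ^ m (Sum.inl i)) *
            ∏ j : Fin n, Polynomial.C (MvPolynomial.X (Sum.inr j)) ^ m (Sum.inr j) with hφ
  have hmon : ∀ m : (Fin d ⊕ Fin n) →₀ ℕ, ∀ a : k, MvPolynomial.monomial m a =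
      MvPolynomial.C a * ((∏ i : Fin d, MvPolynomial.X (Sum.inl i) ^ m (Sum.inl i)) *
        ∏ j : Fin n, (MvPolynomial.X (Sum.inr j) : (MvPolynomial (Fin d ⊕ Fin n) k)) ^ m (Sum.inr j)) := by
    intro m a
    rw [MvPolynomial.monomial_eq, Finsupp.prod_fintype _ _ (by simp), Fintype.prod_sum_type]
  -- congruence modulo `u ^ N`
  have hcong : ∀ l, ∃ w, φ l - Polynomial.X ^ N * Polynomial.C (f l) = Polynomial.C U ^ N * w := by
    intro l
    rcases Nat.eq_zero_or_pos N with hN | hN
    · exact ⟨φ l - Polynomial.X ^ N * Polynomial.C (f l), by simp [hN]⟩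
    suffices hs' : Polynomial.C U ^ N ∣ φ l - Polynomial.X ^ N * Polynomial.C (f l) from hs'
    let π := Ideal.Quotient.mk (Ideal.span {Polynomial.C U ^ N})
    rw [← Ideal.mem_span_singleton, ← Ideal.Quotient.mk_eq_mk_iff_sub_mem]
    show π (φ l) = π _
    have hpi : ∀ a : (MvPolynomial (Fin d ⊕ Fin n) k), π (Polynomial.C (U ^ s * a)) = 0 := fun a => by
      rw [Ideal.Quotient.eq_zero_iff_mem, Ideal.mem_span_singleton, map_mul, map_pow]
      exact (pow_dvd_pow _ hs).mul_right _
    conv_rhs => rw [(f l).as_sum, map_sum, Finset.mul_sum]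
    simp only [hφ, map_sum]
    refine Finset.sum_congr rfl fun m hm => ?_
    rw [hmon]
    simp only [map_mul, map_prod, map_pow, map_add]
    simp only [← map_pow, ← map_mul, hpi, add_zero]
    simp only [map_pow, map_mul, mul_pow, Finset.prod_mul_distrib, Finset.prod_pow_eq_pow_sum]
    rw [show π Polynomial.X ^ N = π Polynomial.X ^ (N - ∑ i : Fin d, m (Sum.inl i)) * π Polynomial.X ^ (∑ i : Fin d, m (Sum.inl i)) by
      rw [← pow_add, Nat.sub_add_cancel (hdeg l m hm)]]
    ring
  rcases Nat.eq_zero_or_pos N with hN | hN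
  · subst hN
    have he : ∀ l, φ l = Polynomial.C (f l) := by
      intro l
      conv_rhs => rw [(f l).as_sum, map_sum]
      refine Finset.sum_congr rfl fun m hm => ?_
      have h0 : ∀ i : Fin d, m (Sum.inl i) = 0 := fun i => by
        have h1 := hdeg l m hm
        have h2 : m (Sum.inl i) ≤ ∑ i : Fin d, m (Sum.inl i) :=
          Finset.single_le_sum (f := fun i : Fin d => m (Sum.inl i)) (fun _ _ => Nat.zero_le _) (Finset.mem_univ i)
        omega
      rw [hmon]
      simp only [h0, pow_zero, Finset.prod_const_one, Finset.sum_const_zero, Nat.zero_sub, map_mul, map_prod, map_pow, map_one, mul_one, one_mul]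
    refine ⟨fun _ => 0, ?_⟩
    show _ ∈ Ideal.span (Set.range φ)
    rw [show φ = (fun l => Polynomial.C (f l)) from funext he, Set.range_comp' (g := Polynomial.C) (f := f),
      ← Ideal.map_span]
    simp only [pow_zero, Finset.Icc_eq_empty (by omega : ¬ (1 : ℕ) ≤ 0), Finset.sum_empty, add_zero] at hE ⊢
    have := Ideal.mem_map_of_mem (Polynomial.C : (MvPolynomial (Fin d ⊕ Fin n) k) →+* Polynomial (MvPolynomial (Fin d ⊕ Fin n) k)) hE
    rwa [map_one] at this
  · obtain ⟨a, ha⟩ := (Ideal.mem_span_range_iff_exists_fun (R := (MvPolynomial (Fin d ⊕ Fin n) k))).1 hE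
    choose w hw using hcong
    set W := ∑ l, Polynomial.C (a l) * w l with hW
    refine ⟨fun i => Polynomial.C (c i) * Polynomial.X ^ i + if i = N then W else 0, ?_⟩
    refine (Ideal.mem_span_range_iff_exists_fun).2 ⟨fun l => Polynomial.C (a l), ?_⟩
    show ∑ l, Polynomial.C (a l) * φ l = _
    have hφl : ∀ l, φ l = Polynomial.X ^ N * Polynomial.C (f l) + Polynomial.C U ^ N * w l := fun l => by
      rw [← hw l]; ring
    have hA : Polynomial.X ^ N * Polynomial.C (∑ l, a l * f l) + Polynomial.C U ^ N * W =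
        ∑ l, Polynomial.C (a l) * φ l := by
      simp only [hW, map_sum, Finset.mul_sum, map_mul, ← Finset.sum_add_distrib, hφl]
      exact Finset.sum_congr rfl fun l _ => by ring
    rw [← hA, ha]
    clear_value W
    clear hA hφl hW hw ha hE hφ hdeg
    clear_value φ Z U
    have h1 : (Polynomial.X : Polynomial (MvPolynomial (Fin d ⊕ Fin n) k)) ^ N * Polynomial.C (Z ^ N) =
        (Polynomial.X * Polynomial.C Z) ^ N := by rw [map_pow, mul_pow]
    have h2 : ∀ i ∈ Finset.Icc 1 N,
        (Polynomial.C (c i) * Polynomial.X ^ i + if i = N then W else 0) *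
            (Polynomial.X * Polynomial.C Z) ^ (N - i) * Polynomial.C U ^ i =
          Polynomial.X ^ N * Polynomial.C (c i * Z ^ (N - i) * U ^ i) + (if i = N then Polynomial.C U ^ N * W else 0) := by
      intro i hi
      rw [Finset.mem_Icc] at hi
      have h3 : (Polynomial.X : Polynomial (MvPolynomial (Fin d ⊕ Fin n) k)) ^ i * Polynomial.X ^ (N - i) = Polynomial.X ^ N := by
        rw [← pow_add, Nat.add_sub_cancel' hi.2]
      rcases eq_or_ne i N with rfl | h
      · simp only [if_pos, Nat.sub_self, pow_zero, mul_one, map_mul, map_pow]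
        ring
      · simp only [if_neg h, add_zero, map_mul, map_pow, mul_pow]
        rw [← h3]
        ring
    rw [Finset.sum_congr rfl h2, Finset.sum_add_distrib, Finset.sum_ite_eq', if_pos (Finset.mem_Icc.2 ⟨hN, le_rfl⟩),
      map_add, map_sum, mul_add, Finset.mul_sum, h1, add_assoc]

end Groth.Agent.S16367
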