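import Groth.Statements.S16368
import Mathlib.LinearAlgebra.TensorProduct.Pi
import Mathlib.RingTheory.Nakayama
import Mathlib.RingTheory.LocalRing.Module
import Mathlib.RingTheory.Finiteness.Nakayama
import Mathlib.Tactic

set_option autoImplicit false
universe u v
open TensorProduct
open FrobAlg

namespace Groth.Agent.S16368

/-- Let R be a local ring of prime characteristic p and M a finitely presented R-module. Write R' for R
regarded as an R-algebra through its Frobenius a ↦ a^p, so that R' ⊗_R M is the pull-back of M along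
the absolute Frobenius of Spec R, an R'-module. If this pull-back is isomorphic to M — there is a
bijective map e : R' ⊗_R M → M, additive and semilinear for the identification R' = R — then M is
free. -/
theorem result
    (p : ℕ) [Fact p.Prime] (R : Type u) [CommRing R] [IsLocalRing R] [CharP R p]
    (M : Type v) [AddCommGroup M] [Module R M] [Module.FinitePresentation R M]
    (e : (FrobAlg.Twist p R ⊗[R] M) →ₛₗ[((FrobAlg.toTwist p R).symm : FrobAlg.Twist p R →+* R)] M)
    (he : Function.Bijective e) :
    Module.Free R M := by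
  classical
  -- a minimal presentation
  obtain ⟨n, π, hπ, hmin⟩ : ∃ (n : ℕ) (π : (Fin n → R) →ₗ[R] M), Function.Surjective π ∧
      ∀ v, π v = 0 → ∀ i, v i ∈ IsLocalRing.maximalIdeal R := by
    let t : Set ℕ := {n | ∃ π : (Fin n → R) →ₗ[R] M, Function.Surjective π}
    have ht : t.Nonempty := by
      obtain ⟨n, π, hπ⟩ := Module.Finite.exists_fin' R M
      exact ⟨n, π, hπ⟩
    obtain ⟨π, hπ⟩ := Nat.sInf_mem ht
    refine ⟨sInf t, π, hπ, fun v hv i => ?_⟩
    by_contra hu
    rw [IsLocalRing.mem_maximalIdeal, mem_nonunits_iff, not_not] at hu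
    obtain ⟨m, hm⟩ : ∃ m, sInf t = m + 1 := ⟨sInf t - 1, by have := i.2; omega⟩
    generalize hs : sInf t = s at π hπ v hv i hu hm
    subst hm
    obtain ⟨b, hb⟩ := isUnit_iff_exists_inv.mp hu
    have hmem : m ∈ t := by
      refine ⟨(Fintype.linearCombination R fun j : Fin m => π (Pi.single (i.succAbove j) 1)), ?_⟩
      rw [← LinearMap.range_eq_top, Fintype.range_linearCombination, ← top_le_iff]
      have hall : ∀ j, π (Pi.single j 1) ∈
          Submodule.span R (Set.range fun j : Fin m => π (Pi.single (i.succAbove j) 1)) := by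
        intro j
        rcases eq_or_ne j i with hji | hj
        · have h0 : ∑ k, v k • π (Pi.single k 1) = 0 := by
            rw [← hv]
            conv_rhs => rw [pi_eq_sum_univ' v]
            rw [map_sum]
            exact Finset.sum_congr rfl fun k _ => (map_smul π _ _).symm
          rw [Fin.sum_univ_succAbove _ i] at h0
          have h1 : π (Pi.single i 1) = -(b • ∑ k : Fin m, v (i.succAbove k) •
              π (Pi.single (i.succAbove k) 1)) := by
            have h2 := congrArg (b • ·) h0
            simp only [smul_add, smul_zero, smul_smul] at h2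
            rw [mul_comm, hb, one_smul] at h2
            exact eq_neg_of_add_eq_zero_left h2
          rw [hji, h1]
          exact neg_mem (Submodule.smul_mem _ _ (sum_mem fun k _ =>
            Submodule.smul_mem _ _ (Submodule.subset_span ⟨k, rfl⟩)))
        · obtain ⟨k, rfl⟩ := Fin.exists_succAbove_eq hj
          exact Submodule.subset_span ⟨k, rfl⟩
      intro x _
      obtain ⟨w, rfl⟩ := hπ x
      rw [pi_eq_sum_univ' w, map_sum]
      exact sum_mem fun k _ => by rw [map_smul]; exact Submodule.smul_mem _ _ (hall k)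
    have := Nat.sInf_le hmem
    omega
  let K := LinearMap.ker π
  let I : Ideal R := ⨆ i : Fin n, K.map (LinearMap.proj i)
  have hKfg : K.FG := Module.FinitePresentation.fg_ker π hπ
  have hIfg : I.FG := Submodule.fg_iSup _ fun i => hKfg.map _
  have hImem : ∀ v ∈ K, ∀ i, v i ∈ I := fun v hv i =>
    Submodule.mem_iSup_of_mem i ⟨v, hv, rfl⟩
  have hIm : I ≤ IsLocalRing.maximalIdeal R := iSup_le fun i => by
    rintro _ ⟨v, hv, rfl⟩
    exact hmin v hv i
  let J : Ideal R := I.map (frobenius R p)
  let S := FrobAlg.Twist p R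
  let σ : S →+* R := ((FrobAlg.toTwist p R).symm : S →+* R)
  let Ψ : S ⊗[R] (Fin n → R) ≃ₗ[S] (Fin n → S) := TensorProduct.piScalarRight R S S (Fin n)
  have hJ : ∀ w : S ⊗[R] K, ∀ i, σ (Ψ (K.subtype.lTensor S w) i) ∈ J := by
    intro w i
    induction w using TensorProduct.induction_on with
    | zero => simp
    | add a c ha hc => simp only [map_add, Pi.add_apply]; exact J.add_mem ha hc
    | tmul s v =>
      rw [LinearMap.lTensor_tmul, TensorProduct.piScalarRight_apply, TensorProduct.piScalarRightHom_tmul]
      show σ ((v.1 i) • s) ∈ J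
      rw [Algebra.smul_def, map_mul, FrobAlg.algebraMap_twist]
      exact Ideal.mul_mem_right _ _ (Ideal.mem_map_of_mem (frobenius R p) (hImem v.1 v.2 i))
  -- the second presentation
  let π' : (Fin n → R) →ₗ[R] M :=
    { toFun := fun c => e (π.lTensor S (Ψ.symm fun i => FrobAlg.toTwist p R (c i)))
      map_add' := fun c d => by
        rw [← map_add e, ← map_add (π.lTensor S), ← map_add Ψ.symm]
        congr 3
      map_smul' := fun a c => by
        have h1 : (fun i => FrobAlg.toTwist p R ((a • c) i)) =
            FrobAlg.toTwist p R a • fun i => FrobAlg.toTwist p R (c i) :=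
          funext fun i => map_mul (FrobAlg.toTwist p R) a (c i)
        have h2 : ∀ (t : S) (z : S ⊗[R] (Fin n → R)), π.lTensor S (t • z) = t • π.lTensor S z := by
          intro t z
          induction z using TensorProduct.induction_on with
          | zero => simp
          | add u w hu hw => simp only [smul_add, map_add, hu, hw]
          | tmul s v => rw [TensorProduct.smul_tmul', LinearMap.lTensor_tmul, LinearMap.lTensor_tmul, TensorProduct.smul_tmul']
        rw [h1, map_smul, h2, e.map_smulₛₗ]
        rfl }
  have hπ' : Function.Surjective π' := by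
    intro m
    obtain ⟨z, rfl⟩ := he.2 m
    obtain ⟨y, rfl⟩ := LinearMap.lTensor_surjective S hπ z
    refine ⟨fun i => (FrobAlg.toTwist p R).symm (Ψ y i), ?_⟩
    show e (π.lTensor S (Ψ.symm fun i => FrobAlg.toTwist p R ((FrobAlg.toTwist p R).symm (Ψ y i)))) = _
    simp
  have hker : ∀ c, π' c = 0 → ∀ i, c i ∈ J := by
    intro c hc i
    have h1 : π.lTensor S (Ψ.symm fun i => FrobAlg.toTwist p R (c i)) = 0 :=
      he.1 (hc.trans (map_zero e).symm)
    obtain ⟨w, hw⟩ := (lTensor_exact S (LinearMap.exact_subtype_ker_map π) hπ _).mp h1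
    have h2 := hJ w i
    rw [hw, LinearEquiv.apply_symm_apply] at h2
    simpa [σ] using h2
  obtain ⟨h, hh⟩ := Module.projective_lifting_property π' π hπ'
  obtain ⟨k, hk⟩ := Module.projective_lifting_property π π' hπ
  have hkh : π ∘ₗ (k ∘ₗ h) = π := by rw [← LinearMap.comp_assoc, hk, hh]
  have hsurj : Function.Surjective (k ∘ₗ h) := by
    rw [← LinearMap.range_eq_top]
    refine Submodule.eq_top_iff'.mpr fun x => ?_
    have hle : (⊤ : Submodule R (Fin n → R)) ≤ LinearMap.range (k ∘ₗ h) := by
      refine Submodule.le_of_le_smul_of_le_jacobson_bot Module.Finite.fg_top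
        (IsLocalRing.maximalIdeal_le_jacobson _) ?_
      intro y _
      have hy : y - (k ∘ₗ h) y ∈ IsLocalRing.maximalIdeal R • (⊤ : Submodule R (Fin n → R)) := by
        have hz : π (y - (k ∘ₗ h) y) = 0 := by
          rw [map_sub, ← LinearMap.comp_apply π, hkh, sub_self]
        rw [pi_eq_sum_univ' (y - (k ∘ₗ h) y)]
        exact Submodule.sum_mem _ fun j _ =>
          Submodule.smul_mem_smul (hmin _ hz j) Submodule.mem_top
      exact Submodule.mem_sup.mpr ⟨_, LinearMap.mem_range_self _ y, _, hy, add_sub_cancel _ _⟩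
    exact hle trivial
  have hIJ : I ≤ J := iSup_le fun i => by
    rintro _ ⟨v, hv, rfl⟩
    obtain ⟨u, rfl⟩ := hsurj v
    have hu : π u = 0 := by rw [← hkh]; exact hv
    have hu' : π' (h u) = 0 := by rw [← LinearMap.comp_apply, hh, hu]
    show k (h u) i ∈ J
    rw [pi_eq_sum_univ' (h u), map_sum, Finset.sum_apply]
    refine J.sum_mem fun j _ => ?_
    rw [map_smul, Pi.smul_apply, smul_eq_mul]
    exact J.mul_mem_right _ (hker _ hu' j)
  have hJm : J ≤ IsLocalRing.maximalIdeal R • I := by
    rw [Ideal.map_le_iff_le_comap]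
    intro a ha
    show a ^ p ∈ IsLocalRing.maximalIdeal R • I
    obtain ⟨q, hq⟩ : ∃ q, p = q + 2 := ⟨p - 2, by have := (Fact.out : p.Prime).two_le; omega⟩
    rw [hq, pow_succ, smul_eq_mul]
    refine Ideal.mul_mem_mul (hIm ?_) ha
    rw [pow_succ]
    exact I.mul_mem_left _ ha
  have hI0 : I = ⊥ := Submodule.eq_bot_of_le_smul_of_le_jacobson_bot _ I hIfg (hIJ.trans hJm)
    (IsLocalRing.maximalIdeal_le_jacobson _)
  have hinj : Function.Injective π := by
    rw [← LinearMap.ker_eq_bot, eq_bot_iff]
    intro v hv
    rw [Submodule.mem_bot]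
    funext i
    have := hImem v hv i
    rwa [hI0] at this
  exact Module.Free.of_equiv (LinearEquiv.ofBijective π ⟨hinj, hπ⟩)


end Groth.Agent.S16368
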