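import Groth.Statements.S16369
import Groth.Agent.L06.FrobSplit

set_option autoImplicit false
set_option maxSynthPendingDepth 3
set_option linter.style.haveILetI false
universe u
open CategoryTheory AlgebraicGeometry Opposite
open FrobSch

namespace Groth.Agent.S16369

/-- (i) ⇒ (ii): let k be a perfect field of characteristic p and X a scheme proper over k. Let φ be the
p-th power map on the sheaf of additive groups underlying O_X and B its cokernel in abelian sheaves
(for X smooth over k this is the sheaf B¹ of locally exact one-forms, pushed down along Frobenius).
If X is Frobenius split — φ admits a retraction s, an additive endomorphism of O_X with s(t^p) = t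
and s(a^p·b) = a·s(b) on every open — then H^i(X, B) = 0 for every i. (The source states this for X
normal; normality is not used for this implication, and a split X is reduced anyway.) -/
theorem result
    (p : ℕ) [Fact p.Prime] (k : Type u) [Field k] [CharP k p] [PerfectField k]
    (X : Scheme.{u}) [X.Over (Spec (CommRingCat.of k))] [IsProper (X ↘ Spec (CommRingCat.of k))]
    (φ : Coh.toAb (Coh.structureModule X) ⟶ Coh.toAb (Coh.structureModule X))
    (hφ : ∀ (U : X.Opens) (t : Γ(X, U)), φ.hom.app (op U) t = t ^ p)
    (s : Coh.toAb (Coh.structureModule X) ⟶ Coh.toAb (Coh.structureModule X))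
    (hs : φ ≫ s = 𝟙 _)
    (hlin : ∀ (U : X.Opens) (a b : Γ(X, U)),
      s.hom.app (op U) (a ^ p * b) = a * @id Γ(X, U) (s.hom.app (op U) b))
    (i : ℕ) : Subsingleton (Sheaf.H (Limits.cokernel φ) i) := by
  exact Groth.L06.FrobSplit.subsingleton_H_cokernel_of_split p k φ hφ s hs i

end Groth.Agent.S16369
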