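import Groth.Statements.S1637
import Groth.Agent.L21.Nodal.EtaleStructure

set_option autoImplicit false
universe u
open CategoryTheory CategoryTheory.Limits AlgebraicGeometry
open Curves

namespace Groth.Agent.S1637

/-- Let f : X → S be at-worst-nodal of relative dimension one and x a point of X which is a node of its
fibre. Then there are étale morphisms U → X and V → S, a morphism U → V compatible with f, a
morphism V → Spec ℤ[a], and an étale morphism U → W over V where W → V is the base change of Spec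
ℤ[u, v, a]/(uv - a) → Spec ℤ[a] along V → Spec ℤ[a], such that x is in the image of U. -/
theorem result {X S : Scheme.{u}} (f : X ⟶ S) (hf : Curv2.IsNodalFamily f)
    (x : X) (hx : @Curv2.IsNode (S.residueField (f.base x)) _ (f.fiber (f.base x)) ⟨f.fiberToSpecResidueField (f.base x)⟩ (f.asFiber x)) :
    ∃ (U V W : Scheme.{u}) (gU : U ⟶ X) (gV : V ⟶ S) (p : U ⟶ V) (e : U ⟶ W) (q : W ⟶ V)
      (h : V ⟶ Spec (CommRingCat.of (MvPolynomial (Fin 1) (ULift.{u} ℤ)))) (r : W ⟶ Spec (CommRingCat.of (MvPolynomial (Fin 3) (ULift.{u} ℤ) ⧸ Ideal.span {(MvPolynomial.X 0 * MvPolynomial.X 1 - MvPolynomial.X 2 : MvPolynomial (Fin 3) (ULift.{u} ℤ))}))),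
      Etale gU ∧ Etale gV ∧ Etale e ∧ gU ≫ f = p ≫ gV ∧ e ≫ q = p ∧
      IsPullback r q (Spec.map (CommRingCat.ofHom ((Ideal.Quotient.mk _).comp (MvPolynomial.aeval (fun _ : Fin 1 => (MvPolynomial.X 2 : MvPolynomial (Fin 3) (ULift.{u} ℤ)))).toRingHom))) h ∧
      x ∈ Set.range gU.base := by
  haveI := hf.1
  haveI := hf.2.1
  obtain ⟨C, c, U, gU, gV, p, e, h₁, h₂, h₃, h₄, h₅, h₆⟩ := Groth.L21.Nodal.etale_local_structure f x hx
  exact ⟨U, Spec C, Spec (CommRingCat.of (Groth.L21.Nodal.NodeModel C c)), gU, gV, p, e,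
    Spec.map (CommRingCat.ofHom (algebraMap C (Groth.L21.Nodal.NodeModel C c))),
    Spec.map (CommRingCat.ofHom (Groth.L21.Nodal.baseHom C c)),
    Spec.map (CommRingCat.ofHom (Groth.L21.Nodal.univHom C c)),
    h₁, h₂, h₃, h₄, h₅, isPullback_SpecMap_of_isPushout _ _ _ _ (Groth.L21.Nodal.isPushout_nodeModel C c), h₆⟩

end Groth.Agent.S1637
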