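import Groth.Statements.S16373
import Groth.Agent.S16372
import Mathlib.RingTheory.WittVector.Identities
import Mathlib.RingTheory.WittVector.Teichmuller

set_option autoImplicit false
universe u
open FrobAlg

namespace Groth.Agent.S16373

/-- Let p be a prime, m ≥ 1, R a commutative ring with p = 0 in R and σ : W_m(R) → R a quasi-F-splitting
of level m (additive, σ(1) = 1, σ(F(x)·y) = x₀·σ(y) with F the componentwise p-th power). Let I ⊆
W_{m+1}(R) be the ideal generated by the shifts V(x) of the x with σ(x) = 0, and Q = W_{m+1}(R)/I.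
Then Q is a flat lifting of R modulo p²: an element of Q lies in pQ exactly when the first Witt
component of a representative vanishes (so Q/pQ is R through the first component), and an element of
Q is killed by p exactly when it lies in pQ. (Stated for a ring; the source has a scheme over the
prime field. For m = 1 this is the lifting attached to a Frobenius splitting.) -/
theorem result
    (p : ℕ) [Fact p.Prime] (m : ℕ) (hm : 0 < m) (R : Type u) [CommRing R] (hp : (p : R) = 0)
    (σ : TruncatedWittVector p m R →+ R) (h1 : σ 1 = 1)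
    (hF : ∀ x y : TruncatedWittVector p m R, σ (WittGrp.frob p m hp x * y) = x.coeff ⟨0, hm⟩ * σ y)
    (I : Ideal (TruncatedWittVector p (m + 1) R))
    (hI : I = Ideal.span (WittGrp.shift p (Nat.le_succ m) '' {x : TruncatedWittVector p m R | σ x = 0})) :
    (∀ w : TruncatedWittVector p (m + 1) R,
        Ideal.Quotient.mk I w ∈ Ideal.span ({(p : TruncatedWittVector p (m + 1) R ⧸ I)} : Set _) ↔
          w.coeff 0 = 0) ∧
    (∀ q : TruncatedWittVector p (m + 1) R ⧸ I,
        (p : TruncatedWittVector p (m + 1) R ⧸ I) * q = 0 ↔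
          q ∈ Ideal.span ({(p : TruncatedWittVector p (m + 1) R ⧸ I)} : Set _)) := by
  rcases subsingleton_or_nontrivial R with hR | hR
  · haveI : Subsingleton (TruncatedWittVector p (m + 1) R) := ⟨fun a b => TruncatedWittVector.ext fun i => Subsingleton.elim _ _⟩
    haveI : Subsingleton (TruncatedWittVector p (m + 1) R ⧸ I) := Ideal.Quotient.mk_surjective.subsingleton
    refine ⟨fun w => iff_of_true ?_ (Subsingleton.elim _ _), fun q => iff_of_true (Subsingleton.elim _ _) ?_⟩
    · rw [Subsingleton.elim (Ideal.Quotient.mk I w) 0]; exact zero_mem _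
    · rw [Subsingleton.elim q 0]; exact zero_mem _
  have : CharP R p := (CharP.charP_iff_prime_eq_zero (Fact.out : p.Prime)).mpr hp
  have hmem : ∀ w, w ∈ I ↔ ∃ x, σ x = 0 ∧ WittGrp.shift p (Nat.le_succ m) x = w := by
    intro w
    rw [hI]
    refine ⟨fun hw => ?_, fun ⟨x, hx, e⟩ => Ideal.subset_span ⟨x, hx, e⟩⟩
    induction hw using Submodule.span_induction with
    | mem y hy => exact hy
    | zero => exact ⟨0, map_zero _, map_zero _⟩
    | add y z _ _ hy hz =>
      obtain ⟨a, ha, rfl⟩ := hy; obtain ⟨b, hb, rfl⟩ := hz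
      exact ⟨a + b, by rw [map_add, ha, hb, add_zero], map_add _ _ _⟩
    | smul c y _ hy =>
      obtain ⟨a, ha, rfl⟩ := hy
      obtain ⟨x', hx', e⟩ := Groth.Agent.S16372.result p m hm R hp σ h1 hF c a ha
      exact ⟨x', hx', e.symm⟩
  have hinj : Function.Injective (WittGrp.shift p (R := R) (Nat.le_succ m)) := by
    intro x y h
    refine TruncatedWittVector.ext fun i => ?_
    have h' := congrArg (fun z => TruncatedWittVector.coeff (⟨(i : ℕ) + 1, by omega⟩ : Fin (m + 1)) z) h
    simp only [WittGrp.coeff_shift] at h'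
    rw [dif_pos (by omega), dif_pos (by omega)] at h'
    convert h' using 2 <;> exact Fin.ext (show (i : ℕ) = i + 1 - (m.succ - m) by omega)
  have hp_mul : ∀ X : WittVector p R, (p : TruncatedWittVector p (m + 1) R) * WittVector.truncate (m + 1) X =
      WittGrp.shift p (Nat.le_succ m) (WittGrp.frob p m hp (WittVector.truncate m X)) := by
    intro X
    rw [WittGrp.frob_truncate, WittGrp.shift_truncate, show m.succ - m = 1 by omega, Function.iterate_one,
      WittVector.verschiebung_frobenius, map_mul, map_natCast, mul_comm]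
  have hσF : ∀ x : TruncatedWittVector p m R, σ (WittGrp.frob p m hp x) = x.coeff ⟨0, hm⟩ := fun x => by
    rw [← mul_one (WittGrp.frob p m hp x), hF, h1, mul_one]
  have hzero : ∀ w : TruncatedWittVector p (m + 1) R, w.coeff 0 = 0 → ∃ z, w = WittGrp.shift p (Nat.le_succ m) z := by
    intro w hw
    refine ⟨TruncatedWittVector.mk p fun i => w.coeff ⟨(i : ℕ) + 1, by omega⟩, TruncatedWittVector.ext fun i => ?_⟩
    rw [WittGrp.coeff_shift]
    split_ifs with h
    · rw [TruncatedWittVector.coeff_mk]
      exact congrArg (fun j => w.coeff j) (Fin.ext (show (i : ℕ) = i - (m.succ - m) + 1 by omega))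
    · rw [show i = 0 from Fin.ext (show (i : ℕ) = 0 by omega), hw]
  have hpmem : ∀ w : TruncatedWittVector p (m + 1) R,
      Ideal.Quotient.mk I w ∈ Ideal.span ({(p : TruncatedWittVector p (m + 1) R ⧸ I)} : Set _) ↔ w.coeff 0 = 0 := by
    intro w
    rw [Ideal.mem_span_singleton]
    constructor
    · rintro ⟨c, hc⟩
      obtain ⟨c, rfl⟩ := Ideal.Quotient.mk_surjective c
      obtain ⟨C, rfl⟩ := WittVector.truncate_surjective p (m + 1) R c
      rw [← map_natCast (Ideal.Quotient.mk I), ← map_mul, Ideal.Quotient.eq, hmem] at hc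
      obtain ⟨x, -, hx⟩ := hc
      rw [hp_mul, eq_sub_iff_add_eq, ← map_add] at hx
      rw [← hx, WittGrp.coeff_shift, dif_neg]
      simp
    · intro hw
      obtain ⟨z, rfl⟩ := hzero w hw
      let U := WittVector.teichmuller p (σ z)
      refine ⟨Ideal.Quotient.mk I (WittVector.truncate (m + 1) U), ?_⟩
      rw [← map_natCast (Ideal.Quotient.mk I), ← map_mul, Ideal.Quotient.eq, hmem]
      refine ⟨z - WittGrp.frob p m hp (WittVector.truncate m U), ?_, by rw [map_sub, hp_mul]⟩
      rw [map_sub, hσF, WittVector.coeff_truncate]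
      show σ z - (WittVector.teichmuller p (σ z)).coeff 0 = 0
      rw [WittVector.teichmuller_coeff_zero, sub_self]
  refine ⟨hpmem, fun q => ?_⟩
  obtain ⟨w, rfl⟩ := Ideal.Quotient.mk_surjective q
  obtain ⟨W, rfl⟩ := WittVector.truncate_surjective p (m + 1) R w
  rw [hpmem, ← map_natCast (Ideal.Quotient.mk I), ← map_mul, Ideal.Quotient.eq_zero_iff_mem, hmem, hp_mul]
  constructor
  · rintro ⟨x, hx, e⟩
    rw [hinj e, hσF, WittVector.coeff_truncate] at hx
    rw [WittVector.coeff_truncate]
    exact hx
  · intro h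
    refine ⟨_, ?_, rfl⟩
    rw [hσF, WittVector.coeff_truncate]
    rw [WittVector.coeff_truncate] at h
    exact h

end Groth.Agent.S16373
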