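import Groth.Statements.S16374
import Mathlib.NumberTheory.Basic

set_option autoImplicit false
universe u v w
open FrobAlg

namespace Groth.Agent.S16374

/-- Let p be a prime, A a commutative ring, B and C commutative A-algebras with p² = 0 in B, and g : C →
B an A-algebra map such that every g(c) is congruent modulo p to an element of the A-subalgebra of B
generated by the p-th powers (g lifts a relative Frobenius). Then d(g(x)) = 0 in the module of
Kähler differentials of B over A for every x ∈ C that is congruent modulo p to an element of the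
A-subalgebra of C generated by the p-th powers. (The source works with a lifting of the relative
Frobenius of a smooth scheme over a ℤ/p²-thickening and the subsheaf of functions whose reduction
comes from the Frobenius twist; smoothness is not needed for this vanishing.) -/
theorem result
    (p : ℕ) [Fact p.Prime] (A : Type u) [CommRing A] (B : Type v) [CommRing B] [Algebra A B]
    (C : Type w) [CommRing C] [Algebra A C] (hp : (p : B) ^ 2 = 0)
    (g : C →ₐ[A] B)
    (hg : ∀ c : C, ∃ u ∈ Algebra.adjoin A (Set.range fun b : B => b ^ p),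
      g c - u ∈ Ideal.span ({(p : B)} : Set B))
    (x y : C) (hy : y ∈ Algebra.adjoin A (Set.range fun c : C => c ^ p))
    (hxy : x - y ∈ Ideal.span ({(p : C)} : Set C)) :
    KaehlerDifferential.D A B (g x) = 0 := by
  have hpow : ∀ a b : B, (p : B) ∣ a - b → a ^ p = b ^ p := by
    intro a b h
    have h1 := dvd_sub_pow_of_dvd_sub h 1
    rw [pow_one, hp, zero_dvd_iff, sub_eq_zero] at h1
    exact h1
  have hDp : ∀ b : B, KaehlerDifferential.D A B (b ^ p) = (p : B) • (b ^ (p - 1) • KaehlerDifferential.D A B b) := by
    intro b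
    rw [Derivation.leibniz_pow, Nat.cast_smul_eq_nsmul]
  have hU : ∀ u ∈ Algebra.adjoin A (Set.range fun b : B => b ^ p),
      ∃ ω, KaehlerDifferential.D A B u = (p : B) • ω := by
    intro u hu
    induction hu using Algebra.adjoin_induction with
    | mem u hu => obtain ⟨b, rfl⟩ := hu; exact ⟨_, hDp b⟩
    | algebraMap a => exact ⟨0, by simp⟩
    | add a b _ _ ha hb =>
      obtain ⟨ω, h⟩ := ha; obtain ⟨ω', h'⟩ := hb
      exact ⟨ω + ω', by rw [map_add, h, h', smul_add]⟩
    | mul a b _ _ ha hb =>
      obtain ⟨ω, h⟩ := ha; obtain ⟨ω', h'⟩ := hb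
      exact ⟨a • ω' + b • ω, by rw [Derivation.leibniz, h, h', smul_add, smul_comm a, smul_comm b]⟩
  have hpp : ∀ ω : Ω[B⁄A], (p : B) • (p : B) • ω = 0 := fun ω => by
    rw [smul_smul, ← sq, hp, zero_smul]
  have hDpz : ∀ c : C, (p : B) • KaehlerDifferential.D A B (g c) = 0 := by
    intro c
    obtain ⟨u, hu, huc⟩ := hg c
    obtain ⟨b, hb⟩ := Ideal.mem_span_singleton.1 huc
    obtain ⟨ω, hω⟩ := hU u hu
    rw [sub_eq_iff_eq_add.1 hb, map_add, Derivation.leibniz, hω, smul_add, smul_add, hpp, hpp,
      Derivation.map_natCast, smul_zero, smul_zero, add_zero, add_zero]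
  have hy' : KaehlerDifferential.D A B (g y) = 0 := by
    clear hxy
    induction hy using Algebra.adjoin_induction with
    | mem u hu =>
      obtain ⟨c, rfl⟩ := hu
      obtain ⟨u, hu, huc⟩ := hg c
      obtain ⟨ω, hω⟩ := hU u hu
      show KaehlerDifferential.D A B (g (c ^ p)) = 0
      rw [map_pow, hpow _ u (Ideal.mem_span_singleton.1 huc), hDp, hω, smul_comm (u ^ (p - 1)), hpp]
    | algebraMap a => simp
    | add a b _ _ ha hb => rw [map_add, map_add, ha, hb, add_zero]
    | mul a b _ _ ha hb => rw [map_mul, Derivation.leibniz, ha, hb, smul_zero, smul_zero, add_zero]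
  obtain ⟨z, hz⟩ := Ideal.mem_span_singleton.1 hxy
  have hx : x = y + (p : C) * z := by rw [← hz]; ring
  rw [hx, map_add, map_mul, map_natCast, map_add, hy', zero_add, Derivation.leibniz,
    Derivation.map_natCast, smul_zero, add_zero, hDpz]

end Groth.Agent.S16374
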