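import Groth.Statements.S3637
import Groth.Agent.L10.ShriekLoc.FieldSupp

set_option autoImplicit false
set_option linter.style.haveILetI false
set_option backward.isDefEq.respectTransparency.types false
set_option backward.isDefEq.respectTransparency false
set_option backward.defeqAttrib.useBackward true
set_option backward.isDefEq.respectTransparency false
universe u
open CategoryTheory CategoryTheory.Limits AlgebraicGeometry
attribute [local instance] HasDerivedCategory.standard
open Dual3

namespace Groth.Agent.S3637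

/-- Let X be proper over a field k, with all local rings of X Cohen–Macaulay and all irreducible
components of X of dimension d. Assume the derived pushforward Rf_* along the structure morphism f
exists and preserves complexes with quasi-coherent cohomology (carried as hypotheses), let a be a
right adjoint to Rf_* : D_QCoh(O_X) → D_QCoh(Spec k), and let O be an object of D_QCoh(Spec k)
isomorphic to the structure sheaf placed in degree 0. Then H^i(a(O)) = 0 for i ≠ −d, so that a(O) =
ω_X[d] with ω_X = H^{−d}(a(O)); and ω_X is a coherent O_X-module whose stalk at every point x is a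
nonzero Cohen–Macaulay module over O_{X,x} (in particular its support is all of X). -/
theorem result (k : Type u) [Field k] (X : Scheme.{u}) (f : X ⟶ Spec (CommRingCat.of k)) [IsProper f] (hCM : ∀ x : X, LocCoh.IsCohenMacaulayLocalRing (X.presheaf.stalk x)) (d : ℕ) (hd : ∀ Z : Set X, Z ∈ irreducibleComponents X → topologicalKrullDim ↥Z = (d : WithBot ℕ∞)) [DCoh.HasRpush f] (hf : DCoh.RpushPreservesQCoh f) (a : DCoh.DQCoh (Spec (CommRingCat.of k)) ⥤ DCoh.DQCoh X) (adj : DCoh.RpushQ f hf ⊣ a) (O : DCoh.DQCoh (Spec (CommRingCat.of k))) (hO : Nonempty (O.obj ≅ DCoh.inD (Spec (CommRingCat.of k)) (Coh.structureModule (Spec (CommRingCat.of k))))) : (∀ i : ℤ, i ≠ -(d : ℤ) → IsZero (DCoh.HD (a.obj O).obj i)) ∧ Coh.IsCoh (DCoh.HD (a.obj O).obj (-(d : ℤ))) ∧ ∀ x : X, Nontrivial ((DCoh.HD (a.obj O).obj (-(d : ℤ))).presheaf.stalk x) ∧ LocCoh.IsCohenMacaulayModule (X.presheaf.stalk x) ((DCoh.HD (a.obj O).obj (-(d : ℤ))).presheaf.stalk x) := by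
  open Groth.L29 Groth.L29.DC Groth.L10.ShriekLoc in
  haveI := fun (R : CommRingCat.{u}) => Groth.L18.TildeF.tilde_preservesFiniteLimits (R := R)
  haveI : IsLocallyNoetherian X := LocallyOfFiniteType.isLocallyNoetherian f
  have hdim : topologicalKrullDim X ≤ (d : WithBot ℕ∞) := dim_le_of_components d fun Z hZ => (hd Z hZ).le
  have hall : ∀ x : X, Nontrivial ((DCoh.HD (a.obj O).obj (-(d : ℤ))).presheaf.stalk x) := fun x =>
    component_subset k adj O hO d hdim _ (irreducibleComponent_mem_irreducibleComponents x)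
      (hd _ (irreducibleComponent_mem_irreducibleComponents x)).ge mem_irreducibleComponent
  have hone : ∀ (i : ℤ) (x : X), i ≠ -(d : ℤ) →
      ¬ Nontrivial ((DCoh.HD (a.obj O).obj i).presheaf.stalk x) := by
    intro i x hi hnt
    obtain ⟨A, _, _, _, jU, _, ω, ⟨q, rfl⟩, hω, -, ⟨e⟩⟩ := exists_chart_field k adj O hO x
    obtain ⟨m, -, hu⟩ := (SchLocus.cm_iff_existsUnique hω q).1
      ((SchLocus.cm_stalk_iff (A := CommRingCat.of A) jU q).1 (hCM _))
    exact hi ((hu i ((SchLocus.nontrivial_stalk_iff jU e q i).1 hnt)).trans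
      (hu _ ((SchLocus.nontrivial_stalk_iff jU e q (-(d : ℤ))).1 (hall _))).symm)
  refine ⟨fun i hi => (Groth.L21.Mod.isZero_iff_stalk_subsingleton _).2 fun x =>
      not_nontrivial_iff_subsingleton.1 (hone i x hi), isCoh_field k adj O hO _, fun x => ⟨hall x, ?_⟩⟩
  obtain ⟨A, _, _, _, jU, _, ω, ⟨q, rfl⟩, hω, -, ⟨e⟩⟩ := exists_chart_field k adj O hO x
  haveI : Module.Flat A (Localization.AtPrime q.asIdeal) := IsLocalization.flat _ q.asIdeal.primeCompl
  have hB := FlatBC.isDualizing_L_localization (B := Localization.AtPrime q.asIdeal) q.asIdeal.primeCompl hω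
  haveI := hB.isNoetherianRing
  have hz : ∀ i : ℤ, i ≠ -(d : ℤ) → Subsingleton (Dual.HD (Localization.AtPrime q.asIdeal)
      ((FlatBC.L A (Localization.AtPrime q.asIdeal)).obj ω) i) := fun i hi => by
    obtain ⟨E⟩ := nonempty_semi_HD jU e q i
    haveI := not_nontrivial_iff_subsingleton.1 (hone i (jU q) hi)
    exact E.e.toEquiv.subsingleton
  obtain ⟨-, hcm⟩ := cm_module_of_single _ hB _ hz
  obtain ⟨E⟩ := nonempty_semi_HD jU e q (-(d : ℤ))
  haveI := hB.finite_cohomology (-(d : ℤ))
  exact E.isCohenMacaulayModule_iff.1 hcm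

end Groth.Agent.S3637
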