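import Groth.Statements.S16381
import Groth.Agent.L29.Dual.PushDual
import Groth.Agent.L07.SyntOverField
import Groth.Agent.L10.DerTrunc
import Groth.Agent.S3637
-- import your own Groth.Agent.* helpers here

set_option autoImplicit false
set_option linter.style.haveILetI false
set_option backward.defeqAttrib.useBackward true
set_option backward.isDefEq.respectTransparency false
set_option backward.isDefEq.respectTransparency.types false
universe u
open CategoryTheory CategoryTheory.Limits AlgebraicGeometry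
attribute [local instance] HasDerivedCategory.standard
open FMK

namespace Groth.Agent.S16381

/-- Let k be an algebraically closed field, X and Y proper schemes over k with structure morphisms a and
b, all of whose local rings are Cohen–Macaulay, X equidimensional of dimension d. Let Ra_* on D_QCoh
have the right adjoint a^× (given as data with its adjunction), O an object of D_QCoh(Spec k)
isomorphic to the structure sheaf in degree 0, and ω_X = H^{−d}(a^×O) the dualizing module of X;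
write RΔ(E) = RHom(E, ω_X) and K^∨ = RHom(K, O). Let P be a cochain complex of modules on X ×_k Y
defining a perfect object and P' a cochain complex representing P^∨. For a kernel K write Φ_K =
Rpr_{Y,*}(Lpr_X^*(−) ⊗^L K) : D(O_X) → D(O_Y); the derived functors and internal RHom involved are
assumed to exist. Then for every cochain complex E of O_X-modules defining a perfect object and
every cochain complex K on Y representing Φ_P(E), the derived dual K^∨ = (Φ_P E)^∨ is isomorphic in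
D(O_Y) to Φ_{P'}(RΔ(E)[d]) (existence of an isomorphism only; the published formula is the
isomorphism of functors (Φ_P)^∨ ≅ Φ_{P^∨} ∘ RΔ_X[dim X]). -/
theorem result (k : Type u) [Field k] [IsAlgClosed k]
    (X Y : Scheme.{u}) (a : X ⟶ Spec (CommRingCat.of k)) (b : Y ⟶ Spec (CommRingCat.of k)) [IsProper a] [IsProper b]
    (hXcm : ∀ x : ↥X, LocCoh.IsCohenMacaulayLocalRing ↑(X.presheaf.stalk x))
    (hYcm : ∀ y : ↥Y, LocCoh.IsCohenMacaulayLocalRing ↑(Y.presheaf.stalk y))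
    (d : ℕ) (hd : topologicalKrullDim ↥X = (d : WithBot ℕ∞))
    (hXeq : ∀ Z ∈ irreducibleComponents ↥X, topologicalKrullDim ↥Z = (d : WithBot ℕ∞))
    [DCoh.HasRpush a] (ha : DCoh.RpushPreservesQCoh a)
    (adx : DCoh.DQCoh (Spec (CommRingCat.of k)) ⥤ DCoh.DQCoh X) (adj : DCoh.RpushQ a ha ⊣ adx)
    (O : DCoh.DQCoh (Spec (CommRingCat.of k)))
    (hO : Nonempty (O.obj ≅ DCoh.inD (Spec (CommRingCat.of k)) (Coh.structureModule (Spec (CommRingCat.of k)))))
    (P : CochainComplex (pullback a b).Modules ℤ) (hP : DCoh.IsPerfect (DCoh.toD (pullback a b) P))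
    [DCoh.HasLpull (pullback.fst a b)] [DCoh.HasLTensorCx P] [DCoh.HasRSheafHom P] [DCoh.HasRpush (pullback.snd a b)]
    (P' : CochainComplex (pullback a b).Modules ℤ) [DCoh.HasLTensorCx P']
    (hP' : Nonempty (DCoh.toD (pullback a b) P' ≅
      (DCoh.RSheafHom P).obj (DCoh.inD (pullback a b) (Coh.structureModule (pullback a b)))))
    (E : CochainComplex X.Modules ℤ) (hE : DCoh.IsPerfect (DCoh.toD X E)) [DCoh.HasLTensorCx E] [DCoh.HasRSheafHom E]
    (K : CochainComplex Y.Modules ℤ) [DCoh.HasLTensorCx K] [DCoh.HasRSheafHom K]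
    (hK : Nonempty (DCoh.toD Y K ≅ (FMK.phi a b P).obj (DCoh.toD X E))) :
    Nonempty ((DCoh.RSheafHom K).obj (DCoh.inD Y (Coh.structureModule Y)) ≅
      (FMK.phi a b P').obj ((shiftFunctor (DCoh.D X) (d : ℤ)).obj
        ((DCoh.RSheafHom E).obj (DCoh.inD X (DCoh.HD (adx.obj O).obj (-(d : ℤ))))))) := by
  open Groth.L00 Groth.L29.DC Groth.L29.BCAdj in
  haveI := fun {V : Scheme.{u}} (F : CochainComplex V.Modules ℤ) => KFlat.hasLTensorCx F
  haveI := fun {V : Scheme.{u}} (F : CochainComplex V.Modules ℤ) => RHom.hasRSheafHom F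
  haveI := fun {A B : Scheme.{u}} (h : A ⟶ B) => KFlat.hasLpull h
  haveI := fun {A B : Scheme.{u}} (h : A ⟶ B) => RpushQC.hasRpush h
  have hR : ∀ {A B : Scheme.{u}} (j : A ⟶ B) [QuasiCompact j] [QuasiSeparated j], DCoh.RpushPreservesQCoh j :=
    fun j _ _ K hK => RpushQC.isQCohD_Rpush j K hK
  have hL : ∀ {A B : Scheme.{u}} (j : A ⟶ B), Dual3.LpullPreservesQCoh j := fun j K hK => isQCohD_Lpull j hK
  let S := Spec (CommRingCat.of k)
  let p := pullback.fst a b
  let q := pullback.snd a b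
  haveI : Flat a := Groth.L07.SyntOverField.flat_over_field a
  haveI : LocallyOfFinitePresentation a := LocallyOfFinitePresentation.iff_locallyOfFiniteType.mpr inferInstance
  haveI : CompactSpace Y := QuasiCompact.compactSpace_of_compactSpace b
  haveI : QuasiSeparatedSpace Y := quasiSeparatedSpace_of_quasiSeparated b
  haveI : CompactSpace X := QuasiCompact.compactSpace_of_compactSpace a
  haveI : QuasiSeparatedSpace X := quasiSeparatedSpace_of_quasiSeparated a
  have hsq : IsPullback p q a b := IsPullback.of_hasPullback a b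
  haveI : IsProper q := MorphismProperty.of_isPullback hsq inferInstance
  haveI : Flat q := MorphismProperty.of_isPullback hsq inferInstance
  haveI : LocallyOfFinitePresentation q := MorphismProperty.of_isPullback hsq inferInstance
  haveI : IsProper p := MorphismProperty.of_isPullback hsq.flip inferInstance
  haveI : CompactSpace (pullback a b : Scheme.{u}) := QuasiCompact.compactSpace_of_compactSpace q
  haveI : QuasiSeparatedSpace (pullback a b : Scheme.{u}) := quasiSeparatedSpace_of_quasiSeparated q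
  haveI := Groth.Agent.S1766.result (pullback a b) Y q (hR q)
  obtain ⟨eO⟩ := hO
  -- the dualizing complex of the projection
  let adjq := DCoh.shriekAdj q (hR q)
  let Ab := adjQ b (hR b) (hL b)
  let Ap := adjQ p (hR p) (hL p)
  have hθ := isIso_bcQ (hf := ha) (hf' := hR q) Ab Ap (BC_flat_vert hsq)
  have hξ := Groth.L29.BCAdj.Mate.isIso_xi adj adjq _ Ab Ap hθ ((Dual3.LpullQ b (hL b)).obj O)
  haveI := (dualBC_general b).iso hsq adj adjq Ab Ap O 0 (eO ≪≫ ((shiftFunctorZero (DCoh.D S) ℤ).app _).symm) hξ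
  let OY : DCoh.DQCoh Y :=
    ⟨OD Y, Groth.Lead.LTMod.isQCohD_inD_of (Groth.L19.Conormal.isQCoh_structureModule Y)⟩
  obtain ⟨lb⟩ := nonempty_Lpull_OD b
  let iY : (Dual3.LpullQ b (hL b)).obj O ≅ OY :=
    ObjectProperty.isoMk _ ((DCoh.Lpull b).mapIso eO ≪≫ lb)
  let ω := DCoh.HD (adx.obj O).obj (-(d : ℤ))
  obtain ⟨hc, -, -⟩ := Groth.Agent.S3637.result k X a hXcm d hXeq ha adx adj O ⟨eO⟩
  haveI : (adx.obj O).obj.IsGE (-(d : ℤ)) :=
    (DerivedCategory.isGE_iff _ _).2 fun i hi => hc i (by omega)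
  haveI : (adx.obj O).obj.IsLE (-(d : ℤ)) :=
    (DerivedCategory.isLE_iff _ _).2 fun i hi => hc i (by omega)
  obtain ⟨eω⟩ := Groth.L10.exists_iso_single_H (adx.obj O).obj (-(d : ℤ))
  let M := (HomologicalComplex.single X.Modules (ComplexShape.up ℤ) 0).obj ω
  let eM : DCoh.toD X M ≅ DCoh.inD X ω := ((DerivedCategory.singleFunctorIsoCompQ X.Modules 0).app ω).symm
  let eωq : DCoh.dualizingCx q (hR q) OY ≅ (DCoh.Lpull p).obj (DCoh.toD X (M⟦(d : ℤ)⟧)) :=
    (DCoh.IsQCohD (X := (pullback a b : Scheme.{u}))).ι.mapIso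
      (((DCoh.shriek q (hR q)).mapIso iY).symm ≪≫
        (asIso (Dual3.bcMap adj adjq (eQ ha (hR q) (hR b) (hR p) hsq.w) Ab Ap O hξ)).symm) ≪≫
    (DCoh.Lpull p).mapIso (eω ≪≫
      (((DerivedCategory.singleFunctors X.Modules).shiftIso (d : ℤ) (-(d : ℤ)) 0 (by omega)).app ω).symm ≪≫
      (shiftFunctor (DCoh.D X) (d : ℤ)).mapIso eM.symm ≪≫ ((DerivedCategory.Q.commShiftIso (d : ℤ)).app M).symm)
  -- representatives
  obtain ⟨E₀, hE₀, ⟨e₀⟩⟩ := Groth.L07.BvdB.DualHom.exists_kflat_rep (DCoh.toD X E)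
  obtain ⟨P₀, hP₀, ⟨g₀⟩⟩ := Groth.L07.BvdB.DualHom.exists_kflat_rep (DCoh.toD (pullback a b) P)
  obtain ⟨D, hD, ⟨eD⟩⟩ := Groth.L07.BvdB.DualHom.exists_kflat_rep ((DCoh.RSheafHom E₀).obj (OD X))
  have hE₀p : DCoh.IsPerfect (DCoh.toD X E₀) := isPerfect_of_iso e₀.symm hE
  let E₁ := (Proj.pullCx p).obj E₀
  have hE₁ : DCoh.IsKFlat E₁ := KFlat.pullback_kflat p E₀ hE₀
  let oE : (DCoh.Lpull p).obj (DCoh.toD X E₀) ≅ DCoh.toD (pullback a b) E₁ :=
    DerivedApi.objIso (DerivedApi.acyclicKFlat_pullback p) E₀ hE₀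
  obtain ⟨dE⟩ := Groth.L29.PushDual.nonempty_dual_pull p E₀ D hE₀ hE₀p hD eD
  obtain ⟨-, ⟨ρ₁⟩⟩ := Groth.L10.DualNat.nonempty_RSheafHom_iso_LT E₁
    (isPerfect_of_iso oE (isPerfect_Lpull p hE₀p)) ((Proj.pullCx p).obj D) ⟨dE⟩
  obtain ⟨-, ⟨ρE⟩⟩ := Groth.L10.DualNat.nonempty_RSheafHom_iso_LT E₀ hE₀p D ⟨eD⟩
  obtain ⟨sE⟩ := EvalMain.nonempty_RSheafHom_iso e₀
  obtain ⟨-, ⟨ρP⟩⟩ := Groth.L10.DualNat.nonempty_RSheafHom_iso_LT P hP P' hP'
  obtain ⟨sP⟩ := EvalMain.nonempty_RSheafHom_iso g₀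
  -- the kernel applied to `E`
  let G := (DCoh.tensorCx.obj P₀).obj E₁
  obtain ⟨cc⟩ := Groth.Lead.FlatPerfect.nonempty_LTensorCx_comm P E₁ hE₁
  let eG : (DCoh.LTensorCx P).obj ((DCoh.Lpull p).obj (DCoh.toD X E)) ≅ DCoh.toD (pullback a b) G :=
    (DCoh.LTensorCx P).mapIso ((DCoh.Lpull p).mapIso e₀.symm ≪≫ oE) ≪≫ cc ≪≫
      (DCoh.LTensorCx E₁).mapIso g₀.symm ≪≫ (Assoc.allIso E₁ hE₁).app P₀
  have hG : DCoh.IsPerfect (DCoh.toD (pullback a b) G) :=
    isPerfect_of_iso eG (Groth.L10.FMBC.isPerfect_LT P hP (isPerfect_Lpull p hE))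
  obtain ⟨eK⟩ := hK
  obtain ⟨dual⟩ := Groth.L29.PushDual.nonempty_dual_push q (hR q) G hG K
    (eK ≪≫ (DCoh.Rpush q).mapIso eG) OY (Iso.refl _)
  obtain ⟨cG⟩ := Assoc.nonempty_RSheafHom_comp P₀ E₁ hE₁
  obtain ⟨pt⟩ := Groth.L10.FMBC.nonempty_pullTensorD p D hD
  obtain ⟨sh⟩ := Groth.Lead.FlatPerfect.nonempty_LTensorCx_shift D hD M (d : ℤ)
  let tail : (DCoh.LTensorCx D).obj (DCoh.toD X (M⟦(d : ℤ)⟧)) ≅
      ((DCoh.RSheafHom E).obj (DCoh.inD X ω))⟦(d : ℤ)⟧ :=
    sh ≪≫ (shiftFunctor (DCoh.D X) (d : ℤ)).mapIso ((DCoh.LTensorCx D).mapIso eM ≪≫ (ρE.app _).symm ≪≫ sE.app _)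
  exact ⟨dual ≪≫ (DCoh.Rpush q).mapIso (cG.app _ ≪≫ sP.app _ ≪≫ ρP.app _ ≪≫
    (DCoh.LTensorCx P').mapIso (ρ₁.app _ ≪≫ (DCoh.LTensorCx ((Proj.pullCx p).obj D)).mapIso eωq ≪≫
      (pt.app _).symm ≪≫ (DCoh.Lpull p).mapIso tail))⟩

end Groth.Agent.S16381
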