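import Groth.Statements.S16379
import Groth.Agent.L29.GV.DualBound
import Groth.Agent.L29.GV.PhiShift
import Groth.Agent.L10.FMBC.Equiv
import Groth.Agent.S16381
-- import your own Groth.Agent.* helpers here

set_option autoImplicit false
set_option linter.style.haveILetI false
set_option backward.defeqAttrib.useBackward true
set_option backward.isDefEq.respectTransparency false
set_option backward.isDefEq.respectTransparency.types false
universe u
open CategoryTheory CategoryTheory.Limits AlgebraicGeometry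
attribute [local instance] HasDerivedCategory.standard
open FMK

namespace Groth.Agent.S16379

/-- Let k be an algebraically closed field, X and Y proper schemes over k with structure morphisms a and
b, all of whose local rings are Cohen–Macaulay, X equidimensional of dimension d (every irreducible
component has dimension d). Let Ra_* on D_QCoh have the right adjoint a^× (given as data with its
adjunction), O an object of D_QCoh(Spec k) isomorphic to the structure sheaf in degree 0, and ω_X =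
H^{−d}(a^×O) the dualizing module of X; write RΔ(F) = RHom(F, ω_X). Let P be a cochain complex of
modules on X ×_k Y defining a perfect object, and P' a cochain complex representing its derived dual
RHom(P, O_{X×Y}). For a kernel K write Φ_K = Rpr_{Y,*}(Lpr_X^*(−) ⊗^L K) : D(O_X) → D(O_Y) and
R^iΦ_K = H^i ∘ Φ_K; the derived functors and internal RHom involved are assumed to exist. Let k' ≥ 0
and let F be a cochain complex of O_X-modules defining a perfect object which satisfies WIT_[d−k',d]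
with respect to P: R^iΦ_P(F) = 0 for every i outside [d − k', d]. Then RΔ(F) is a GV_{k'}-object
with respect to P': R^iΦ_{P'}(RΔ F) = 0 for i < 0, and for i ≥ 0 the support of R^iΦ_{P'}(RΔ F) has
codimension at least i − k' (the local ring of Y at each of its points has Krull dimension ≥ i −
k'). -/
theorem result (k : Type u) [Field k] [IsAlgClosed k]
    (X Y : Scheme.{u}) (a : X ⟶ Spec (CommRingCat.of k)) (b : Y ⟶ Spec (CommRingCat.of k)) [IsProper a] [IsProper b]
    (hXcm : ∀ x : ↥X, LocCoh.IsCohenMacaulayLocalRing ↑(X.presheaf.stalk x))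
    (hYcm : ∀ y : ↥Y, LocCoh.IsCohenMacaulayLocalRing ↑(Y.presheaf.stalk y))
    (d : ℕ) (hd : topologicalKrullDim ↥X = (d : WithBot ℕ∞))
    (hXeq : ∀ Z ∈ irreducibleComponents ↥X, topologicalKrullDim ↥Z = (d : WithBot ℕ∞))
    [DCoh.HasRpush a] (ha : DCoh.RpushPreservesQCoh a)
    (adx : DCoh.DQCoh (Spec (CommRingCat.of k)) ⥤ DCoh.DQCoh X) (adj : DCoh.RpushQ a ha ⊣ adx)
    (O : DCoh.DQCoh (Spec (CommRingCat.of k)))
    (hO : Nonempty (O.obj ≅ DCoh.inD (Spec (CommRingCat.of k)) (Coh.structureModule (Spec (CommRingCat.of k)))))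
    (P : CochainComplex (pullback a b).Modules ℤ) (hP : DCoh.IsPerfect (DCoh.toD (pullback a b) P))
    [DCoh.HasLpull (pullback.fst a b)] [DCoh.HasLTensorCx P] [DCoh.HasRSheafHom P] [DCoh.HasRpush (pullback.snd a b)]
    (P' : CochainComplex (pullback a b).Modules ℤ) [DCoh.HasLTensorCx P']
    (hP' : Nonempty (DCoh.toD (pullback a b) P' ≅
      (DCoh.RSheafHom P).obj (DCoh.inD (pullback a b) (Coh.structureModule (pullback a b)))))
    (k' : ℕ) (F : CochainComplex X.Modules ℤ) (hF : DCoh.IsPerfect (DCoh.toD X F)) [DCoh.HasLTensorCx F] [DCoh.HasRSheafHom F]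
    (hWIT : ∀ i : ℤ, i < (d : ℤ) - k' ∨ (d : ℤ) < i → IsZero (DCoh.HD ((FMK.phi a b P).obj (DCoh.toD X F)) i)) :
    (∀ i : ℤ, i < 0 → IsZero (DCoh.HD ((FMK.phi a b P').obj
      ((DCoh.RSheafHom F).obj (DCoh.inD X (DCoh.HD (adx.obj O).obj (-(d : ℤ)))))) i)) ∧
    (∀ (i : ℕ) (y : ↥Y), y ∈ CohB1.support (DCoh.HD ((FMK.phi a b P').obj
      ((DCoh.RSheafHom F).obj (DCoh.inD X (DCoh.HD (adx.obj O).obj (-(d : ℤ)))))) (i : ℤ)) →
      ((i - k' : ℕ) : WithBot ℕ∞) ≤ ringKrullDim ↑(Y.presheaf.stalk y)) := by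
  open Groth.L00 Groth.L29.DC Groth.L29.BCAdj Groth.L29.GV in
  haveI := fun {V : Scheme.{u}} (F : CochainComplex V.Modules ℤ) => KFlat.hasLTensorCx F
  haveI := fun {V : Scheme.{u}} (F : CochainComplex V.Modules ℤ) => RHom.hasRSheafHom F
  haveI : IsLocallyNoetherian Y := LocallyOfFiniteType.isLocallyNoetherian b
  haveI : CompactSpace Y := QuasiCompact.compactSpace_of_compactSpace b
  haveI : IsNoetherian Y := {}
  haveI : Flat a := Groth.L07.SyntOverField.flat_over_field a
  haveI : LocallyOfFinitePresentation a := LocallyOfFinitePresentation.iff_locallyOfFiniteType.mpr inferInstance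
  obtain ⟨K, -, ⟨eK⟩⟩ := Groth.L07.BvdB.DualHom.exists_kflat_rep ((FMK.phi a b P).obj (DCoh.toD X F))
  have hKp : DCoh.IsPerfect (DCoh.toD Y K) :=
    isPerfect_of_iso eK.symm (Groth.L10.FMBC.isPerfect_phi a b P hP _ hF)
  obtain ⟨e⟩ := Groth.Agent.S16381.result k X Y a b hXcm hYcm d hd hXeq ha adx adj O hO P hP P' hP' F hF K ⟨eK⟩
  obtain ⟨sh⟩ := nonempty_phi_shift a b P'
    ((DCoh.RSheafHom F).obj (DCoh.inD X (DCoh.HD (adx.obj O).obj (-(d : ℤ))))) (d : ℤ)
  have hH : ∀ i j : ℤ, (d : ℤ) + j = i → Nonempty (DCoh.HD ((FMK.phi a b P').obj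
      ((DCoh.RSheafHom F).obj (DCoh.inD X (DCoh.HD (adx.obj O).obj (-(d : ℤ)))))) i ≅
      DCoh.HD ((DCoh.RSheafHom K).obj (OD Y)) j) := fun i j h =>
    ⟨(((DerivedCategory.homologyFunctor Y.Modules 0).shiftIso (d : ℤ) j i h).app _).symm ≪≫
      (DerivedCategory.homologyFunctor Y.Modules j).mapIso (e ≪≫ sh).symm⟩
  have hz : ∀ i : ℤ, i < (d : ℤ) - k' ∨ (d : ℤ) < i → IsZero (DCoh.HD (DCoh.toD Y K) i) := fun i hi =>
    (hWIT i hi).of_iso ((DerivedCategory.homologyFunctor _ i).mapIso eK)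
  haveI hle : (DCoh.toD Y K).IsLE (d : ℤ) := (DerivedCategory.isLE_iff _ _).2 fun i hi => hz i (Or.inr hi)
  constructor
  · intro i hi
    obtain ⟨h⟩ := hH i (i - d) (by omega)
    haveI := RHom.isGE_RSheafHom K (d : ℤ) hle (OD Y) 0 inferInstance
    exact (DerivedCategory.isZero_of_isGE ((DCoh.RSheafHom K).obj (OD Y)) (0 - (d : ℤ)) (i - d) (by omega)).of_iso h
  · intro i y hy
    by_contra hlt
    obtain ⟨h⟩ := hH i ((i : ℤ) - d) (by omega)
    obtain ⟨n, hn, hni⟩ : ∃ n : ℕ, ringKrullDim ↑(Y.presheaf.stalk y) ≤ (n : WithBot ℕ∞) ∧ n < i - k' := by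
      obtain hb | ⟨m, hm⟩ : ringKrullDim ↑(Y.presheaf.stalk y) = ⊥ ∨ ∃ m : ℕ∞, ringKrullDim ↑(Y.presheaf.stalk y) = m := by
        cases ringKrullDim ↑(Y.presheaf.stalk y) with
        | bot => exact Or.inl rfl
        | coe m => exact Or.inr ⟨m, rfl⟩
      · exact absurd hb ringKrullDim_ne_bot
      · rw [hm, not_le] at hlt
        have hlt' : m < ((i - k' : ℕ) : ℕ∞) := WithBot.coe_lt_coe.1 hlt
        obtain ⟨n, rfl⟩ := WithTop.ne_top_iff_exists.1 (ne_top_of_lt hlt')
        exact ⟨n, hm.le, ENat.coe_lt_coe.1 hlt'⟩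
    refine notMem_support_dual K hKp ((d : ℤ) - k') (fun j hj => hz j (Or.inl hj)) y n hn ((i : ℤ) - d)
      (by omega) ?_
    exact (Groth.L21.Mod.support_congr h).subset hy

end Groth.Agent.S16379
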