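import Groth.Statements.S1638
import Groth.Agent.L11.CSA.Tensor

set_option autoImplicit false
universe u
open Brauer

namespace Groth.Agent.S1638

/-- Let A and A' be algebras over a field k with subalgebras B ⊆ A and B' ⊆ A' having centralizers C and
C'. Then the centralizer of the image of B ⊗ B' in A ⊗_k A' is the image of C ⊗_k C'. -/
theorem result (k : Type u) [Field k] (A A' : Type u) [Ring A] [Ring A'] [Algebra k A] [Algebra k A']
    (B : Subalgebra k A) (B' : Subalgebra k A') :
    Subalgebra.centralizer k ((Algebra.TensorProduct.map B.val B'.val).range : Set (TensorProduct k A A')) =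
      (Algebra.TensorProduct.map (Subalgebra.centralizer k (B : Set A)).val (Subalgebra.centralizer k (B' : Set A')).val).range := by
  classical
  set C := Subalgebra.centralizer k (B : Set A)
  set C' := Subalgebra.centralizer k (B' : Set A')
  refine le_antisymm (fun z hz => ?_) ?_
  · rw [Subalgebra.mem_centralizer_iff] at hz
    obtain ⟨w, rfl⟩ := Groth.L11.CSA.mem_range_map_of_commute_left (B : Set A) z
      fun s hs => hz _ ⟨(⟨s, hs⟩ : B) ⊗ₜ 1, by simp⟩
    have hinj : Function.Injective (Algebra.TensorProduct.map C.val (AlgHom.id k A')) := by
      have : ⇑(Algebra.TensorProduct.map C.val (AlgHom.id k A')) = LinearMap.rTensor A' C.val.toLinearMap := by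
        funext x
        induction x using TensorProduct.induction_on <;> simp_all
      rw [this]
      exact Module.Flat.rTensor_preserves_injective_linearMap _ Subtype.val_injective
    have hw : Algebra.TensorProduct.comm k C A' w ∈
        (Algebra.TensorProduct.map (Subalgebra.centralizer k (B' : Set A')).val (AlgHom.id k C)).range := by
      refine Groth.L11.CSA.mem_range_map_of_commute_left (B' : Set A') _ fun s hs => ?_
      apply (Algebra.TensorProduct.comm k C A').symm.injective
      apply hinj
      simpa [map_mul] using hz _ ⟨1 ⊗ₜ (⟨s, hs⟩ : B'), by simp⟩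
    obtain ⟨v, hv⟩ := hw
    refine ⟨Algebra.TensorProduct.comm k _ C v, ?_⟩
    have : w = (Algebra.TensorProduct.comm k C A').symm
        (Algebra.TensorProduct.map (Subalgebra.centralizer k (B' : Set A')).val (AlgHom.id k C) v) := by
      change Algebra.TensorProduct.map _ (AlgHom.id k C) v = _ at hv
      rw [hv, AlgEquiv.symm_apply_apply]
    rw [this]
    clear this hv
    induction v using TensorProduct.induction_on <;> simp_all [C, C']
  · rintro _ ⟨x, rfl⟩
    rw [Subalgebra.mem_centralizer_iff]
    rintro _ ⟨y, rfl⟩
    induction x using TensorProduct.induction_on with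
    | zero => simp
    | add x x' h h' => simp only [map_add, mul_add, add_mul]; exact congrArg₂ (· + ·) h h'
    | tmul c c' =>
      induction y using TensorProduct.induction_on with
      | zero => simp
      | add y y' h h' => simp only [map_add, mul_add, add_mul]; exact congrArg₂ (· + ·) h h'
      | tmul b b' =>
        simp only [RingHom.coe_coe, AlgHom.toRingHom_eq_coe, Algebra.TensorProduct.map_tmul, Algebra.TensorProduct.tmul_mul_tmul, Subalgebra.coe_val]
        rw [(Subalgebra.mem_centralizer_iff k).mp c.2 b b.2, (Subalgebra.mem_centralizer_iff k).mp c'.2 b' b'.2]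

end Groth.Agent.S1638
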