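import Groth.Statements.S16380
import Groth.Agent.S3637
import Groth.Agent.S1811
import Groth.Agent.L29.Dual.SchUnique
import Groth.Agent.L29.Dual.PushDual
import Groth.Agent.L29.GV.DualBound
import Groth.Agent.L29.GV.SerreVanish
import Groth.Agent.L29.GV.PairQC
import Groth.Agent.L10.FMK.Twist
import Groth.Agent.L10.DualNat.Main
import Groth.Agent.L10.DerTrunc
import Groth.Agent.L22.EnrSev.Basic
import Groth.Agent.L16.NegPow.Gen
import Groth.Agent.L29.DCoh.Gen.QCohTri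
-- import your own Groth.Agent.* helpers here

set_option autoImplicit false
set_option linter.style.haveILetI false
set_option backward.defeqAttrib.useBackward true
set_option backward.isDefEq.respectTransparency false
set_option backward.isDefEq.respectTransparency.types false
universe u
open CategoryTheory CategoryTheory.Limits AlgebraicGeometry
attribute [local instance] HasDerivedCategory.standard
open FMK

namespace Groth.Agent.S16380

/-- Let k be an algebraically closed field, X and Y proper schemes over k with structure morphisms a and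
b, all of whose local rings are Cohen–Macaulay, X equidimensional of dimension d and Y
equidimensional of dimension g. Let Rb_* on D_QCoh have the right adjoint b^× (given as data with
its adjunction), O an object of D_QCoh(Spec k) isomorphic to the structure sheaf in degree 0, and
ω_Y = H^{−g}(b^×O) the dualizing module of Y. Let L be an ample invertible O_Y-module with an
inverse L' (L ⊗ L' ≅ O_Y), and P a cochain complex of modules on X ×_k Y defining a perfect object.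
Write Φ_P = Rpr_{Y,*}(Lpr_X^*(−) ⊗^L P), Ψ_P = Rpr_{X,*}(Lpr_Y^*(−) ⊗^L P) and R^iΦ_P = H^i ∘ Φ_P,
the derived functors involved being assumed to exist. Let k' ≥ 0 and F a cochain complex of
O_X-modules defining a perfect object. Suppose that for every sufficiently large n (all n ≥ some n₀)
the hypercohomology H^j(X, Ψ_P(L'^{⊗ n} ⊗ ω_Y) ⊗^L F) vanishes for every integer j outside [g, g +
k']. Then F is a GV_{k'}-object with respect to P: R^iΦ_P(F) = 0 for i < 0, and for i ≥ 0 the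
support of R^iΦ_P(F) has codimension at least i − k' in Y (the local ring of Y at each of its points
has Krull dimension ≥ i − k'). (The published hypothesis is H^i(F ⊗ Ψ_{P[g]}(A^{−1} ⊗ ω_Y)) = 0 for
i outside [0, k'] and A any sufficiently positive ample line bundle; the kernel shift [g] is
absorbed into the degree, and A^{−1} is rendered as the powers of the inverse of a fixed ample L.) -/
theorem result (k : Type u) [Field k] [IsAlgClosed k]
    (X Y : Scheme.{u}) (a : X ⟶ Spec (CommRingCat.of k)) (b : Y ⟶ Spec (CommRingCat.of k)) [IsProper a] [IsProper b]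
    (hXcm : ∀ x : ↥X, LocCoh.IsCohenMacaulayLocalRing ↑(X.presheaf.stalk x))
    (hYcm : ∀ y : ↥Y, LocCoh.IsCohenMacaulayLocalRing ↑(Y.presheaf.stalk y))
    (d : ℕ) (hd : topologicalKrullDim ↥X = (d : WithBot ℕ∞))
    (hXeq : ∀ Z ∈ irreducibleComponents ↥X, topologicalKrullDim ↥Z = (d : WithBot ℕ∞))
    (g : ℕ) (hg : topologicalKrullDim ↥Y = (g : WithBot ℕ∞))
    (hYeq : ∀ Z ∈ irreducibleComponents ↥Y, topologicalKrullDim ↥Z = (g : WithBot ℕ∞))
    [DCoh.HasRpush b] (hb : DCoh.RpushPreservesQCoh b)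
    (bdx : DCoh.DQCoh (Spec (CommRingCat.of k)) ⥤ DCoh.DQCoh Y) (adj : DCoh.RpushQ b hb ⊣ bdx)
    (O : DCoh.DQCoh (Spec (CommRingCat.of k)))
    (hO : Nonempty (O.obj ≅ DCoh.inD (Spec (CommRingCat.of k)) (Coh.structureModule (Spec (CommRingCat.of k)))))
    (L L' : Y.Modules) (hL : CohB1.IsAmple L) (hLL' : Nonempty (CohB1.tensorMod L L' ≅ Coh.structureModule Y))
    (P : CochainComplex (pullback a b).Modules ℤ) (hP : DCoh.IsPerfect (DCoh.toD (pullback a b) P))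
    [DCoh.HasLpull (pullback.fst a b)] [DCoh.HasLpull (pullback.snd a b)] [DCoh.HasLTensorCx P]
    [DCoh.HasRpush (pullback.fst a b)] [DCoh.HasRpush (pullback.snd a b)] [DCoh.HasRΓ X]
    (k' : ℕ) (F : CochainComplex X.Modules ℤ) (hF : DCoh.IsPerfect (DCoh.toD X F)) [DCoh.HasLTensorCx F]
    (hvan : ∃ n₀ : ℕ, ∀ n : ℕ, n₀ ≤ n → ∀ j : ℤ, j < (g : ℤ) ∨ (g : ℤ) + k' < j →
      IsZero ((DerivedCategory.homologyFunctor AddCommGrpCat.{u} j).obj ((DCoh.RΓ X).obj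
        ((DCoh.LTensorCx F).obj ((DCoh.Lpull (pullback.snd a b) ⋙ DCoh.LTensorCx P ⋙ DCoh.Rpush (pullback.fst a b)).obj
          (DCoh.inD Y (CohB1.tensorMod (CohB1.tensorPow L' n) (DCoh.HD (bdx.obj O).obj (-(g : ℤ))))))))))
    :
    (∀ i : ℤ, i < 0 → IsZero (DCoh.HD ((FMK.phi a b P).obj (DCoh.toD X F)) i)) ∧
    (∀ (i : ℕ) (y : ↥Y), y ∈ CohB1.support (DCoh.HD ((FMK.phi a b P).obj (DCoh.toD X F)) (i : ℤ)) →
      ((i - k' : ℕ) : WithBot ℕ∞) ≤ ringKrullDim ↑(Y.presheaf.stalk y)) := by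
  open Groth.L00 Groth.L29.DC Groth.L29.BCAdj Groth.L29.GV in
  haveI := fun {V : Scheme.{u}} (F : CochainComplex V.Modules ℤ) => KFlat.hasLTensorCx F
  haveI := fun {V : Scheme.{u}} (F : CochainComplex V.Modules ℤ) => RHom.hasRSheafHom F
  haveI := QRlim.enoughKInj Y
  haveI : DCoh.HasRΓ Y := Groth.L10.KInjDerived.hasRightDerivedFunctor _
  haveI := fun (R : CommRingCat.{u}) => Groth.L18.TildeF.tilde_preservesFiniteLimits (R := R)
  haveI : IsLocallyNoetherian Y := LocallyOfFiniteType.isLocallyNoetherian b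
  haveI : CompactSpace Y := QuasiCompact.compactSpace_of_compactSpace b
  haveI : IsNoetherian Y := {}
  letI : Y.Over (Spec (CommRingCat.of k)) := ⟨b⟩
  haveI : IsProper (Y ↘ Spec (CommRingCat.of k)) := inferInstanceAs (IsProper b)
  haveI : IsProper (pullback.snd a b) :=
    MorphismProperty.of_isPullback (IsPullback.of_hasPullback a b) inferInstance
  obtain ⟨eO⟩ := hO
  let ω := DCoh.HD (bdx.obj O).obj (-(g : ℤ))
  let Φ := (FMK.phi a b P).obj (DCoh.toD X F)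
  -- the dualizing complex of `Y`
  obtain ⟨hc, hωc, -⟩ := Groth.Agent.S3637.result k Y b hYcm g hYeq hb bdx adj O ⟨eO⟩
  haveI : (bdx.obj O).obj.IsGE (-(g : ℤ)) :=
    (DerivedCategory.isGE_iff _ _).2 fun i hi => hc i (by omega)
  haveI : (bdx.obj O).obj.IsLE (-(g : ℤ)) :=
    (DerivedCategory.isLE_iff _ _).2 fun i hi => hc i (by omega)
  obtain ⟨eω⟩ := Groth.L10.exists_iso_single_H (bdx.obj O).obj (-(g : ℤ))
  let eω' : (bdx.obj O).obj ≅ (DCoh.inD Y ω)⟦(g : ℤ)⟧ :=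
    eω ≪≫ (((DerivedCategory.singleFunctors Y.Modules).shiftIso (g : ℤ) (-(g : ℤ)) 0 (by omega)).app ω).symm
  have hdual := (Groth.Agent.S1811.result k Y g hg b rfl hb bdx adj O ⟨eO⟩).1
  -- the transform and its dual
  obtain ⟨K, hK, ⟨eK⟩⟩ := Groth.L07.BvdB.DualHom.exists_kflat_rep Φ
  have hKp : DCoh.IsPerfect (DCoh.toD Y K) :=
    isPerfect_of_iso eK.symm (Groth.L10.FMBC.isPerfect_phi a b P hP _ hF)
  obtain ⟨D, hD, ⟨eD⟩⟩ := Groth.L07.BvdB.DualHom.exists_kflat_rep ((DCoh.RSheafHom K).obj (OD Y))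
  obtain ⟨hDp, ⟨ρ⟩⟩ := Groth.L10.DualNat.nonempty_RSheafHom_iso_LT K hKp D ⟨eD⟩
  obtain ⟨o⟩ := EvalMain.nonempty_O0_iso (X := Y)
  obtain ⟨n₀, hn₀⟩ := hvan
  obtain ⟨n₁, hn₁⟩ := Groth.L10.FMK.exists_twist_bound b hL (DCoh.toD Y D) hDp
  let n := max n₀ n₁
  let A := CohB1.tensorPow L' n
  let B := CohB1.tensorPow L n
  obtain ⟨iL⟩ := hLL'
  have hL' : PicF.IsInvertible L' := Groth.L22.EnrSev.isInvertible_of_inverse hL.1 iL
  have hA : PicF.IsInvertible A := Groth.L18.Ample.isInvertible_tensorPow hL' n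
  have hB : PicF.IsInvertible B := Groth.L18.Ample.isInvertible_tensorPow hL.1 n
  obtain ⟨iAB⟩ : Nonempty (CohB1.tensorMod A B ≅ Coh.structureModule Y) :=
    ⟨Groth.L16.NegPow.powInvIso (Groth.L00.Tensor.tensorComm L' L ≪≫ iL) n⟩
  let A₀ := Groth.Lead.LTMod.S0 A
  let B₀ := Groth.Lead.LTMod.S0 B
  have hA₀ : DCoh.IsKFlat A₀ := Groth.L10.FMBC.isKFlat_S0 hA
  have hB₀ : DCoh.IsKFlat B₀ := Groth.L10.FMBC.isKFlat_S0 hB
  let s0 : ∀ M : Y.Modules, DCoh.inD Y M ≅ DCoh.toD Y (Groth.Lead.LTMod.S0 M) := fun M =>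
    (DerivedCategory.singleFunctorIsoCompQ Y.Modules 0).app M
  obtain ⟨W₀, hW₀, ⟨eW₀⟩⟩ := Groth.L07.BvdB.DualHom.exists_kflat_rep (DCoh.inD Y ω)
  obtain ⟨Wn, hWn, ⟨eWn⟩⟩ := Groth.L07.BvdB.DualHom.exists_kflat_rep (DCoh.inD Y (CohB1.tensorMod A ω))
  -- the twisted dualizing module
  obtain ⟨tA⟩ := Groth.L10.FMBC.nonempty_singleTensor ω A
  let eN : DCoh.inD Y (CohB1.tensorMod A ω) ≅ (DCoh.LTensorCx A₀).obj (DCoh.toD Y W₀) :=
    s0 _ ≪≫ DerivedCategory.Q.mapIso ((HomologicalComplex.single Y.Modules (ComplexShape.up ℤ) 0).mapIso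
        (Groth.L00.Tensor.tensorComm A ω) ≪≫ tA.symm) ≪≫
      ((Assoc.allIso A₀ hA₀).app (Groth.Lead.LTMod.S0 ω)).symm ≪≫
      (DCoh.LTensorCx A₀).mapIso ((s0 ω).symm ≪≫ eW₀.symm)
  have hωq : DCoh.IsQCohD (DCoh.inD Y ω) := Groth.Lead.LTMod.isQCohD_inD_of hωc.1
  have hNq : DCoh.IsQCohD (DCoh.toD Y Wn) := isQCohD_of_iso (eWn ≪≫ eN).symm
    (isQCohD_LTensorCx A₀ (Groth.L10.FMBC.isQCohD_S0 hA) (isQCohD_of_iso eW₀.symm hωq))
  have hKq : DCoh.IsQCohD (DCoh.toD Y K) := PCQCoh.isQCohD_of_perfect hKp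
  -- the hypothesis on the side of `Y`
  have hvanY : ∀ j : ℤ, j < (g : ℤ) ∨ (g : ℤ) + k' < j →
      IsZero ((DerivedCategory.homologyFunctor AddCommGrpCat.{u} j).obj ((DCoh.RΓ Y).obj
        ((DCoh.LTensorCx W₀).obj ((DCoh.LTensorCx A₀).obj (DCoh.toD Y K))))) := by
    intro j hj
    obtain ⟨p⟩ := nonempty_psi_phi_qc a b P (PCQCoh.isQCohD_of_perfect hP) F hF Wn hNq
    obtain ⟨c₁⟩ := Groth.L10.FMK.nonempty_commD Wn K hWn hK
    obtain ⟨r⟩ := Groth.L10.FMK.nonempty_rot W₀ A₀ K hW₀ hA₀ hK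
    exact (hn₀ n (le_max_left _ _) j hj).of_iso ((DerivedCategory.homologyFunctor AddCommGrpCat.{u} j).mapIso
      ((DCoh.RΓ Y).mapIso ((DCoh.LTensorCx Wn).mapIso eK.symm ≪≫ c₁ ≪≫
          (DCoh.LTensorCx K).mapIso (eWn ≪≫ eN) ≪≫ r)).symm ≪≫
      (DerivedCategory.homologyFunctor AddCommGrpCat.{u} j).mapIso
        (p.symm ≪≫ (DCoh.RΓ X).mapIso ((DCoh.LTensorCx F).mapIso
          ((DCoh.Lpull (pullback.snd a b) ⋙ DCoh.LTensorCx P ⋙ DCoh.Rpush (pullback.fst a b)).mapIso eWn))))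
  -- the dual is concentrated in `[-k', 0]`
  have hz : ∀ l : ℤ, l < -(k' : ℤ) ∨ 0 < l → IsZero (DCoh.HD (DCoh.toD Y D) l) := by
    intro l hl
    let j : ℤ := (g : ℤ) - l
    let W' := W₀⟦j⟧
    let T := DCoh.LTensorCx B₀
    let eW' : DCoh.toD Y W' ≅ (bdx.obj O).obj⟦j - (g : ℤ)⟧ :=
      (DerivedCategory.Q.commShiftIso j).app W₀ ≪≫ (shiftFunctor (DCoh.D Y) j).mapIso eW₀ ≪≫
        (shiftFunctorAdd' (DCoh.D Y) (g : ℤ) (j - (g : ℤ)) j (by omega)).app _ ≪≫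
        (shiftFunctor (DCoh.D Y) (j - (g : ℤ))).mapIso eω'.symm
    obtain ⟨hom⟩ := Groth.L29.SchUnique.nonempty_RHom_shift hdual (j - (g : ℤ)) W' eW'
    obtain ⟨sW⟩ := nonempty_LT_shiftCx W₀ j ((DCoh.LTensorCx A₀).obj (DCoh.toD Y K))
    -- no maps out of the structure sheaf
    have h1 : ∀ φ : OD Y ⟶ (DCoh.LTensorCx W').obj ((DCoh.LTensorCx A₀).obj (DCoh.toD Y K)), φ = 0 :=
      Groth.Lead.GammaHom.hom_eq_zero _ (((isZero_H_shift_iff _ j).1 (hvanY j (by omega))).of_iso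
        ((DerivedCategory.homologyFunctor AddCommGrpCat.{u} 0).mapIso ((DCoh.RΓ Y).mapIso sW)))
    -- no maps into the dualizing complex
    have hW'q : DCoh.IsQCohD (DCoh.toD Y W') :=
      isQCohD_of_iso ((DerivedCategory.Q.commShiftIso j).app W₀).symm
        (Gen.isQCohD_shift (isQCohD_of_iso eW₀.symm hωq) j)
    have h2 := hom_dualizing_eq_zero k b hb bdx adj O eO _
      (isQCohD_LTensorCx W' hW'q (isQCohD_LTensorCx A₀ (Groth.L10.FMBC.isQCohD_S0 hA) hKq)) h1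
    haveI := FiveRight.additive_left (DCoh.RSheafHomAdj K)
    obtain ⟨cA⟩ := Groth.L10.FMK.nonempty_commD A₀ K hA₀ hK
    obtain ⟨shD⟩ := Groth.Lead.FlatPerfect.nonempty_LTensorCx_shift D hD (RHom.O0 Y) (-(j - (g : ℤ)))
    obtain ⟨uD⟩ := Groth.L29.PushDual.nonempty_LT_unit D hD
    let R : (DCoh.RSheafHom K).obj ((DCoh.inD Y (Coh.structureModule Y))⟦-(j - (g : ℤ))⟧) ≅
        DCoh.toD Y (D⟦-(j - (g : ℤ))⟧) :=
      ρ.app _ ≪≫ (DCoh.LTensorCx D).mapIso ((shiftFunctor (DCoh.D Y) _).mapIso o.symm ≪≫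
          ((DerivedCategory.Q.commShiftIso _).app (RHom.O0 Y)).symm) ≪≫ shD ≪≫
        (shiftFunctor (DCoh.D Y) _).mapIso ((DCoh.LTensorCx D).mapIso o ≪≫ uD) ≪≫
        ((DerivedCategory.Q.commShiftIso _).app D).symm
    have hs2 : Subsingleton ((DCoh.LTensorCx W').obj ((DCoh.LTensorCx A₀).obj (DCoh.toD Y K)) ⟶ (bdx.obj O).obj) :=
      ⟨fun x y => (h2 x).trans (h2 y).symm⟩
    haveI := hs2
    have hsA : Subsingleton (DCoh.toD Y A₀ ⟶ DCoh.toD Y (D⟦-(j - (g : ℤ))⟧)) :=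
      ((((DCoh.RSheafHomAdj W').homEquiv ((DCoh.LTensorCx A₀).obj (DCoh.toD Y K)) (bdx.obj O).obj).trans
        (Iso.homCongr cA hom)).trans (((DCoh.RSheafHomAdj K).homEquiv _ _).trans
          (Iso.homCongr (Iso.refl _) R))).symm.subsingleton
    -- undo the twist
    let Z := DCoh.toD Y (D⟦-(j - (g : ℤ))⟧)
    obtain ⟨ε⟩ := nonempty_twist_inverse hA hB iAB
    obtain ⟨η⟩ := nonempty_twist_inverse hB hA (Groth.L00.Tensor.tensorComm B A ≪≫ iAB)
    obtain ⟨uA⟩ := Groth.L29.PushDual.nonempty_LT_unit A₀ hA₀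
    haveI : (DCoh.LTensorCx A₀).Additive := FiveRight.additive_left (DCoh.RSheafHomAdj A₀)
    haveI : T.Additive := FiveRight.additive_left (DCoh.RSheafHomAdj B₀)
    haveI : Subsingleton ((DCoh.LTensorCx A₀).obj (OD Y) ⟶ (DCoh.LTensorCx A₀).obj (T.obj Z)) :=
      @Equiv.subsingleton _ _ (Iso.homCongr uA (η.app Z)) hsA
    have h3 : ∀ φ : OD Y ⟶ T.obj Z, φ = 0 := by
      intro φ
      have h0 : (DCoh.LTensorCx A₀).map φ = (DCoh.LTensorCx A₀).map 0 := Subsingleton.elim _ _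
      haveI : (DCoh.LTensorCx A₀ ⋙ DCoh.LTensorCx B₀).Faithful := Functor.Faithful.of_iso ε.symm
      haveI := Functor.Faithful.of_comp (DCoh.LTensorCx A₀) (DCoh.LTensorCx B₀)
      exact (DCoh.LTensorCx A₀).map_injective h0
    obtain ⟨sB⟩ := Groth.Lead.FlatPerfect.nonempty_LTensorCx_shift B₀ hB₀ D (-(j - (g : ℤ)))
    have h4 := (isZero_H_shift_iff (T.obj (DCoh.toD Y D)) (-(j - (g : ℤ)))).2
      ((isZero_H0_of_hom _ h3).of_iso ((DerivedCategory.homologyFunctor AddCommGrpCat.{u} 0).mapIso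
        ((DCoh.RΓ Y).mapIso sB)).symm)
    rw [show -(j - (g : ℤ)) = l by omega] at h4
    exact (hn₁ n (le_max_right _ _) l).2 h4
  -- biduality
  obtain ⟨σ⟩ := Groth.L10.DualNat.nonempty_LT_iso_RHom K D hK hKp
    ⟨eD ≪≫ (DCoh.RSheafHom K).mapIso o.symm⟩
  obtain ⟨u⟩ := Groth.L29.PushDual.nonempty_LT_unit K hK
  let biD : Φ ≅ (DCoh.RSheafHom D).obj (OD Y) := eK.symm ≪≫ u.symm ≪≫ σ.app _
  refine ⟨fun i hi => ?_, fun i y hy => ?_⟩
  · have hLE : (DCoh.toD Y D).IsLE 0 := (DerivedCategory.isLE_iff _ _).2 fun l hl => hz l (Or.inr hl)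
    haveI := RHom.isGE_RSheafHom D 0 hLE (OD Y) 0 inferInstance
    exact (DerivedCategory.isZero_of_isGE ((DCoh.RSheafHom D).obj (OD Y)) (0 - 0) i (by omega)).of_iso
      ((DerivedCategory.homologyFunctor _ i).mapIso biD)
  · by_contra hlt
    have hlt' : ringKrullDim ↑(Y.presheaf.stalk y) < ((i - k' : ℕ) : WithBot ℕ∞) := not_le.1 hlt
    obtain ⟨m, hm, hmi⟩ : ∃ m : ℕ, ringKrullDim ↑(Y.presheaf.stalk y) ≤ (m : WithBot ℕ∞) ∧ m + k' < i := by
      obtain hb | ⟨v, hv⟩ : ringKrullDim ↑(Y.presheaf.stalk y) = ⊥ ∨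
          ∃ v : ℕ∞, ringKrullDim ↑(Y.presheaf.stalk y) = v := by
        cases ringKrullDim ↑(Y.presheaf.stalk y) with
        | bot => exact Or.inl rfl
        | coe v => exact Or.inr ⟨v, rfl⟩
      · exact absurd hb ringKrullDim_ne_bot
      · rw [hv] at hlt'
        obtain ⟨r, rfl⟩ := WithTop.ne_top_iff_exists.1 (ne_top_of_lt (WithBot.coe_lt_coe.1 hlt'))
        refine ⟨r, hv.le, ?_⟩
        have := ENat.coe_lt_coe.1 (WithBot.coe_lt_coe.1 hlt')
        omega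
    exact notMem_support_dual D hDp (-(k' : ℤ)) (fun l hl => hz l (Or.inl hl)) y m hm (i : ℤ) (by omega)
      ((Groth.L21.Mod.support_congr ((DerivedCategory.homologyFunctor Y.Modules (i : ℤ)).mapIso biD)).subset hy)

end Groth.Agent.S16380
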