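import Groth.Statements.S16383
import Groth.Agent.S0341
import Groth.Agent.L10.FMK.Loci
import Groth.Agent.L29.GV.BettiSucc
import Groth.Agent.Lead.PCProjBasic
-- import your own Groth.Agent.* helpers here

set_option autoImplicit false
set_option linter.style.haveILetI false
set_option backward.defeqAttrib.useBackward true
set_option backward.isDefEq.respectTransparency false
set_option backward.isDefEq.respectTransparency.types false
universe u
open CategoryTheory CategoryTheory.Limits AlgebraicGeometry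
attribute [local instance] HasDerivedCategory.standard
open FMK

namespace Groth.Agent.S16383

/-- Let k be an algebraically closed field, X a proper scheme over k all of whose local rings are
Cohen–Macaulay, equidimensional of dimension d, and Y a proper scheme over k all of whose local
rings are Gorenstein (structure morphisms a and b). Let P be a finite locally free module on X ×_k
Y, viewed as a kernel in degree 0, and F a coherent O_X-module which is perfect as an object of
D(O_X). Write Φ_P(F) = Rpr_{Y,*}(Lpr_X^*F ⊗^L P), R^iΦ_P(F) = H^i(Φ_P(F)), and for a point y of Y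
let X_y = (X ×_k Y) ×_Y Spec κ(y) with first projection j_y, and V^i = {y ∈ Y : H^i(X_y,
Lj_y^*(Lpr_X^*F ⊗^L P)) ≠ 0} the i-th cohomological support locus (hypercohomology on X_y; the
derived functors involved are assumed to exist). Let k' ≥ 0 and suppose F is a GV_{k'}-sheaf with
respect to P: for every i ≥ 0 the support of R^iΦ_P(F) has codimension ≥ i − k' (the local ring of Y
at each of its points has Krull dimension ≥ i − k'). Then V^{i+1} ⊆ V^i for every i ≥ k', so that
V^d ⊆ ⋯ ⊆ V^{k'+1} ⊆ V^{k'}. -/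
theorem result (k : Type u) [Field k] [IsAlgClosed k]
    (X Y : Scheme.{u}) (a : X ⟶ Spec (CommRingCat.of k)) (b : Y ⟶ Spec (CommRingCat.of k)) [IsProper a] [IsProper b]
    (hXcm : ∀ x : ↥X, LocCoh.IsCohenMacaulayLocalRing ↑(X.presheaf.stalk x))
    (hYgor : ∀ y : ↥Y, LocCoh.IsGorensteinLocalRing ↑(Y.presheaf.stalk y))
    (d : ℕ) (hd : topologicalKrullDim ↥X = (d : WithBot ℕ∞))
    (hXeq : ∀ Z ∈ irreducibleComponents ↥X, topologicalKrullDim ↥Z = (d : WithBot ℕ∞))
    (P₀ : (pullback a b).Modules) (hP₀ : FlatMod.IsFinLocFree P₀)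
    [DCoh.HasLpull (pullback.fst a b)]
    [DCoh.HasLTensorCx ((HomologicalComplex.single (pullback a b).Modules (ComplexShape.up ℤ) 0).obj P₀)]
    [DCoh.HasRpush (pullback.snd a b)]
    [∀ y : ↥Y, DCoh.HasLpull (pullback.fst (pullback.snd a b) (Y.fromSpecResidueField y))]
    [∀ y : ↥Y, DCoh.HasRΓ (pullback (pullback.snd a b) (Y.fromSpecResidueField y))]
    (F : X.Modules) (hFc : Coh.IsCoh F) (hF : DCoh.IsPerfect (DCoh.inD X F)) (k' : ℕ)
    (hGV : ∀ (i : ℕ) (y : ↥Y), y ∈ CohB1.support (DCoh.HD ((FMK.phi a b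
        ((HomologicalComplex.single (pullback a b).Modules (ComplexShape.up ℤ) 0).obj P₀)).obj (DCoh.inD X F)) (i : ℤ)) →
      ((i - k' : ℕ) : WithBot ℕ∞) ≤ ringKrullDim ↑(Y.presheaf.stalk y))
    (i : ℕ) (hi : k' ≤ i) (y : ↥Y)
    (hy : ¬ IsZero ((DerivedCategory.homologyFunctor AddCommGrpCat.{u} ((i : ℤ) + 1)).obj
        ((DCoh.RΓ (pullback (pullback.snd a b) (Y.fromSpecResidueField y))).obj ((DCoh.Lpull (pullback.fst (pullback.snd a b) (Y.fromSpecResidueField y))).obj
          ((DCoh.LTensorCx ((HomologicalComplex.single (pullback a b).Modules (ComplexShape.up ℤ) 0).obj P₀)).obj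
            ((DCoh.Lpull (pullback.fst a b)).obj (DCoh.inD X F))))))) :
    ¬ IsZero ((DerivedCategory.homologyFunctor AddCommGrpCat.{u} (i : ℤ)).obj
        ((DCoh.RΓ (pullback (pullback.snd a b) (Y.fromSpecResidueField y))).obj ((DCoh.Lpull (pullback.fst (pullback.snd a b) (Y.fromSpecResidueField y))).obj
          ((DCoh.LTensorCx ((HomologicalComplex.single (pullback a b).Modules (ComplexShape.up ℤ) 0).obj P₀)).obj
            ((DCoh.Lpull (pullback.fst a b)).obj (DCoh.inD X F)))))) := by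
  open Groth.L29.DC Groth.L29.GV in
  haveI := fun (y : ↥Y) => Groth.L00.KFlat.hasLpull (Y.fromSpecResidueField y)
  haveI : IsLocallyNoetherian Y := LocallyOfFiniteType.isLocallyNoetherian b
  haveI : LocallyOfFinitePresentation a := Groth.L10.FMBC.lfp_of_noetherian a
  have hYcm : ∀ y : ↥Y, LocCoh.IsCohenMacaulayLocalRing ↑(Y.presheaf.stalk y) := fun y =>
    haveI := hYgor y
    Groth.Agent.S0341.result _
  let P := (HomologicalComplex.single (pullback a b).Modules (ComplexShape.up ℤ) 0).obj P₀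
  let FF := (HomologicalComplex.single X.Modules (ComplexShape.up ℤ) 0).obj F
  let eF : DCoh.inD X F ≅ DCoh.toD X FF := (DerivedCategory.singleFunctorIsoCompQ X.Modules 0).app F
  have hFF : DCoh.IsPerfect (DCoh.toD X FF) := isPerfect_of_iso eF hF
  have hP : DCoh.IsPerfect (DCoh.toD (pullback a b) P) :=
    isPerfect_of_iso ((DerivedCategory.singleFunctorIsoCompQ _ 0).app P₀) (Groth.Lead.PCProj.isPerfect_inD hP₀)
  let E := (FMK.phi a b P).obj (DCoh.toD X FF)
  have hE : DCoh.IsPerfect E := Groth.L10.FMBC.isPerfect_phi a b P hP _ hFF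
  have hsupp : ∀ (j : ℤ) (y' : ↥Y), y' ∈ CohB1.support (DCoh.HD E j) →
      ((j - (k' : ℤ)).toNat : WithBot ℕ∞) ≤ ringKrullDim ↑(Y.presheaf.stalk y') := by
    intro j y' hy'
    by_cases hj : 0 ≤ j
    · lift j to ℕ using hj
      rw [show ((j : ℤ) - (k' : ℤ)).toNat = j - k' by omega]
      exact hGV j y' ((Groth.L21.Mod.support_congr ((DerivedCategory.homologyFunctor Y.Modules (j : ℤ)).mapIso
        ((FMK.phi a b P).mapIso eF))).symm.subset hy')
    · rw [show (j - (k' : ℤ)).toNat = 0 by omega]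
      exact ringKrullDim_nonneg_of_nontrivial
  let ι := pullback.fst (pullback.snd a b) (Y.fromSpecResidueField y)
  intro hz
  apply hy
  let t : ∀ m : ℤ, (DerivedCategory.homologyFunctor AddCommGrpCat.{u} m).obj
      ((DCoh.RΓ _).obj ((DCoh.Lpull ι).obj ((DCoh.LTensorCx P).obj ((DCoh.Lpull (pullback.fst a b)).obj (DCoh.inD X F))))) ≅
      (DerivedCategory.homologyFunctor AddCommGrpCat.{u} m).obj
      ((DCoh.RΓ _).obj ((DCoh.Lpull ι).obj ((DCoh.LTensorCx P).obj ((DCoh.Lpull (pullback.fst a b)).obj (DCoh.toD X FF))))) :=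
    fun m => (DerivedCategory.homologyFunctor AddCommGrpCat.{u} m).mapIso ((DCoh.RΓ _).mapIso
      ((DCoh.Lpull ι).mapIso ((DCoh.LTensorCx P).mapIso ((DCoh.Lpull (pullback.fst a b)).mapIso eF))))
  obtain ⟨e₀⟩ := Groth.L10.FMK.nonempty_fibre_iso k X Y a b P hP y FF hFF (i : ℤ)
  obtain ⟨e₁⟩ := Groth.L10.FMK.nonempty_fibre_iso k X Y a b P hP y FF hFF ((i : ℤ) + 1)
  have hb : PerfD.betti E y (i : ℤ) = 0 :=
    (isZero_fibre_iff_betti E hE y (i : ℤ)).1 (hz.of_iso (t _ ≪≫ e₀).symm)
  exact ((isZero_fibre_iff_betti E hE y ((i : ℤ) + 1)).2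
    (betti_succ_eq_zero hYcm E hE (k' : ℤ) hsupp y (i : ℤ) (by omega) hb)).of_iso (t _ ≪≫ e₁)

end Groth.Agent.S16383
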