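import Groth.Statements.S16384
import Groth.Agent.S16381
import Groth.Agent.S3637
import Groth.Agent.L10.FMK.Loci
import Groth.Agent.L29.GV.FibreAmp
import Groth.Agent.L29.GV.FibreVanish
import Groth.Agent.L29.GV.TwistKernel
import Groth.Agent.L29.GV.DualVanishOmega
import Groth.Agent.L29.GV.DualSingle
import Groth.Agent.L29.GV.PhiShift
import Groth.Agent.L12.DualVb
-- import your own Groth.Agent.* helpers here

set_option autoImplicit false
set_option linter.style.haveILetI false
set_option backward.defeqAttrib.useBackward true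
set_option backward.isDefEq.respectTransparency false
set_option backward.isDefEq.respectTransparency.types false
universe u
open CategoryTheory CategoryTheory.Limits AlgebraicGeometry
attribute [local instance] HasDerivedCategory.standard
open FMK

namespace Groth.Agent.S16384

/-- For a sheaf F and a locally free kernel P, let k be an algebraically closed field, X and Y proper
schemes over k with structure morphisms a and b, all of whose local rings are Cohen–Macaulay, X
equidimensional of dimension d and Y equidimensional of dimension g. Let Ra_* and Rb_* on D_QCoh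
have right adjoints a^× and b^× (given as data with their adjunctions), O an object of D_QCoh(Spec
k) isomorphic to the structure sheaf in degree 0, and ω_X = H^{−d}(a^×O), ω_Y = H^{−g}(b^×O) the
dualizing modules; write RΔ(F) = RHom(F, ω_X). Let P be a finite locally free module on X ×_k Y, P^∨
= Hom(P, O) its dual (the sheaf Hom as right adjoint of P ⊗ −) and Q = P^∨ ⊗ pr_Y^*ω_Y, both used as
kernels in degree 0; for a kernel K write Φ_K = Rpr_{Y,*}(Lpr_X^*(−) ⊗^L K) and R^iΦ_K = H^i ∘ Φ_K,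
the derived functors involved being assumed to exist. Let k' ≥ 0 and F a coherent O_X-module,
perfect as an object of D(O_X), which is a GV_{k'}-sheaf with respect to P: for every i ≥ 0 the
support of R^iΦ_P(F) has codimension ≥ i − k' (the local ring of Y at each of its points has Krull
dimension ≥ i − k'). Then RΔ(F) satisfies WIT_[d−k',d] with respect to Q: R^iΦ_Q(RΔ F) = 0 for every
integer i outside [d − k', d]. (The published statement is for an arbitrary object F of D(X) and an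
arbitrary kernel P; in that generality the vanishing above degree d fails — for F = O_X[1] on an
abelian variety of dimension d ≥ 1 with the Poincaré kernel, F is GV_0 while Φ_Q(RΔF) is a
skyscraper in degree d + 1 — so the row keeps F a sheaf and P locally free, the case of the
applications.) -/
theorem result (k : Type u) [Field k] [IsAlgClosed k]
    (X Y : Scheme.{u}) (a : X ⟶ Spec (CommRingCat.of k)) (b : Y ⟶ Spec (CommRingCat.of k)) [IsProper a] [IsProper b]
    (hXcm : ∀ x : ↥X, LocCoh.IsCohenMacaulayLocalRing ↑(X.presheaf.stalk x))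
    (hYcm : ∀ y : ↥Y, LocCoh.IsCohenMacaulayLocalRing ↑(Y.presheaf.stalk y))
    (d : ℕ) (hd : topologicalKrullDim ↥X = (d : WithBot ℕ∞))
    (hXeq : ∀ Z ∈ irreducibleComponents ↥X, topologicalKrullDim ↥Z = (d : WithBot ℕ∞))
    (g : ℕ) (hg : topologicalKrullDim ↥Y = (g : WithBot ℕ∞))
    (hYeq : ∀ Z ∈ irreducibleComponents ↥Y, topologicalKrullDim ↥Z = (g : WithBot ℕ∞))
    [DCoh.HasRpush a] (ha : DCoh.RpushPreservesQCoh a)
    (adx : DCoh.DQCoh (Spec (CommRingCat.of k)) ⥤ DCoh.DQCoh X) (adja : DCoh.RpushQ a ha ⊣ adx)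
    [DCoh.HasRpush b] (hb : DCoh.RpushPreservesQCoh b)
    (bdx : DCoh.DQCoh (Spec (CommRingCat.of k)) ⥤ DCoh.DQCoh Y) (adjb : DCoh.RpushQ b hb ⊣ bdx)
    (O : DCoh.DQCoh (Spec (CommRingCat.of k)))
    (hO : Nonempty (O.obj ≅ DCoh.inD (Spec (CommRingCat.of k)) (Coh.structureModule (Spec (CommRingCat.of k)))))
    (P₀ : (pullback a b).Modules) (hP₀ : FlatMod.IsFinLocFree P₀) [DCoh.HasSheafHom P₀]
    [DCoh.HasLpull (pullback.fst a b)] [DCoh.HasRpush (pullback.snd a b)]
    [DCoh.HasLTensorCx ((HomologicalComplex.single (pullback a b).Modules (ComplexShape.up ℤ) 0).obj P₀)]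
    [DCoh.HasLTensorCx ((HomologicalComplex.single (pullback a b).Modules (ComplexShape.up ℤ) 0).obj (CohB1.tensorMod ((DCoh.sheafHom P₀).obj (Coh.structureModule (pullback a b))) ((Scheme.Modules.pullback (pullback.snd a b)).obj (DCoh.HD (bdx.obj O).obj (-(g : ℤ))))))]
    (F : X.Modules) (hFc : Coh.IsCoh F) (hF : DCoh.IsPerfect (DCoh.inD X F))
    [DCoh.HasLTensorCx ((HomologicalComplex.single X.Modules (ComplexShape.up ℤ) 0).obj F)] [DCoh.HasRSheafHom ((HomologicalComplex.single X.Modules (ComplexShape.up ℤ) 0).obj F)]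
    (k' : ℕ)
    (hGV : ∀ (i : ℕ) (y : ↥Y), y ∈ CohB1.support (DCoh.HD ((FMK.phi a b ((HomologicalComplex.single (pullback a b).Modules (ComplexShape.up ℤ) 0).obj P₀)).obj (DCoh.inD X F)) (i : ℤ)) →
      ((i - k' : ℕ) : WithBot ℕ∞) ≤ ringKrullDim ↑(Y.presheaf.stalk y))
    (i : ℤ) (hi : i < (d : ℤ) - k' ∨ (d : ℤ) < i) :
    IsZero (DCoh.HD ((FMK.phi a b ((HomologicalComplex.single (pullback a b).Modules (ComplexShape.up ℤ) 0).obj (CohB1.tensorMod ((DCoh.sheafHom P₀).obj (Coh.structureModule (pullback a b))) ((Scheme.Modules.pullback (pullback.snd a b)).obj (DCoh.HD (bdx.obj O).obj (-(g : ℤ))))))).obj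
      ((DCoh.RSheafHom ((HomologicalComplex.single X.Modules (ComplexShape.up ℤ) 0).obj F)).obj (DCoh.inD X (DCoh.HD (adx.obj O).obj (-(d : ℤ)))))) i) := by
  open Groth.L00 Groth.L29.DC Groth.L29.GV Groth.L29.BCAdj in
  haveI := fun {A B : Scheme.{u}} (f : A ⟶ B) => KFlat.hasLpull f
  haveI := fun {A B : Scheme.{u}} (f : A ⟶ B) => RpushQC.hasRpush f
  haveI := fun {V : Scheme.{u}} (E : CochainComplex V.Modules ℤ) => KFlat.hasLTensorCx E
  haveI := fun {V : Scheme.{u}} (E : CochainComplex V.Modules ℤ) => RHom.hasRSheafHom E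
  haveI : IsLocallyNoetherian X := LocallyOfFiniteType.isLocallyNoetherian a
  haveI : IsLocallyNoetherian Y := LocallyOfFiniteType.isLocallyNoetherian b
  haveI : CompactSpace Y := QuasiCompact.compactSpace_of_compactSpace b
  haveI : IsNoetherian Y := {}
  haveI : LocallyOfFinitePresentation a := Groth.L10.FMBC.lfp_of_noetherian a
  haveI : Flat a := Groth.L07.SyntOverField.flat_over_field a
  haveI : Flat (pullback.snd a b) := inferInstance
  -- the dualizing modules
  obtain ⟨-, hωXc, -⟩ := Groth.Agent.S3637.result k X a hXcm d hXeq ha adx adja O hO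
  obtain ⟨-, hωYc, hωY⟩ := Groth.Agent.S3637.result k Y b hYcm g hYeq hb bdx adjb O hO
  let ωX := DCoh.HD (adx.obj O).obj (-(d : ℤ))
  let ωY := DCoh.HD (bdx.obj O).obj (-(g : ℤ))
  haveI : Coh.IsQCoh ωY := hωYc.1
  let P := (HomologicalComplex.single (pullback a b).Modules (ComplexShape.up ℤ) 0).obj P₀
  let FF := (HomologicalComplex.single X.Modules (ComplexShape.up ℤ) 0).obj F
  let eF : DCoh.inD X F ≅ DCoh.toD X FF := (DerivedCategory.singleFunctorIsoCompQ X.Modules 0).app F
  have hFF : DCoh.IsPerfect (DCoh.toD X FF) := isPerfect_of_iso eF hF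
  have hP : DCoh.IsPerfect (DCoh.toD (pullback a b) P) :=
    isPerfect_of_iso ((DerivedCategory.singleFunctorIsoCompQ _ 0).app P₀) (Groth.Lead.PCProj.isPerfect_inD hP₀)
  let E := (FMK.phi a b P).obj (DCoh.toD X FF)
  have hE : DCoh.IsPerfect E := Groth.L10.FMBC.isPerfect_phi a b P hP _ hFF
  obtain ⟨K, hKk, ⟨eK⟩⟩ := Groth.L07.BvdB.DualHom.exists_kflat_rep E
  have hKp : DCoh.IsPerfect (DCoh.toD Y K) := isPerfect_of_iso eK.symm hE
  -- the fibres have no negative cohomology
  have hneg : ∀ (y : ↥Y) (l : ℤ), l < 0 → PerfD.betti (DCoh.toD Y K) y l = 0 := by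
    intro y l hl
    haveI := QRlim.enoughKInj (pullback (pullback.snd a b) (Y.fromSpecResidueField y))
    haveI : DCoh.HasRΓ (pullback (pullback.snd a b) (Y.fromSpecResidueField y)) :=
      Groth.L10.KInjDerived.hasRightDerivedFunctor _
    obtain ⟨e₀⟩ := Groth.L10.FMK.nonempty_fibre_iso k X Y a b P hP y FF hFF l
    haveI : (DCoh.toD X FF).IsGE 0 := DerivedCategory.TStructure.t.isGE_of_iso eF 0
    exact (isZero_fibre_iff_betti _ hKp y l).1
      (((isZero_fibre_kernel k X Y a b P₀ hP₀ y (DCoh.toD X FF) inferInstance l hl).of_iso e₀.symm).of_iso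
        ((DCoh.gammaAb _).mapIso ((DerivedCategory.homologyFunctor _ l).mapIso ((DCoh.Lpull _).mapIso eK))))
  haveI hLE : ((DCoh.RSheafHom K).obj (OD Y)).IsLE 0 := isLE_dual_of_fibres K hKk hKp hneg
  obtain ⟨D, hD, ⟨eD⟩⟩ := Groth.L07.BvdB.DualHom.exists_kflat_rep ((DCoh.RSheafHom K).obj (OD Y))
  obtain ⟨-, ⟨ρ⟩⟩ := Groth.L10.DualNat.nonempty_RSheafHom_iso_LT K hKp D ⟨eD⟩
  obtain ⟨W, hW, ⟨eW⟩⟩ := Groth.L07.BvdB.DualHom.exists_kflat_rep (DCoh.inD Y ωY)
  -- the dual kernel
  let A := (DCoh.sheafHom P₀).obj (Coh.structureModule (pullback a b))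
  have hA : FlatMod.IsFinLocFree A := Groth.L29.LocFree.of_iso
    (Groth.L17.SheafHomCoh.isoHomSh P₀ (Coh.structureModule (pullback a b))).symm
    (Groth.L12.DualVb.isFinLocFree_dual hP₀)
  obtain ⟨rA⟩ := nonempty_RSheafHom_single hP₀
  obtain ⟨σ⟩ := Groth.Agent.S16381.result k X Y a b hXcm hYcm d hd hXeq ha adx adja O hO P hP
    (Groth.Lead.LTMod.S0 A)
    ⟨((DerivedCategory.singleFunctorIsoCompQ (pullback a b).Modules 0).app A).symm ≪≫ rA.symm⟩ FF hFF K ⟨eK⟩
  let RΔ := (DCoh.RSheafHom FF).obj (DCoh.inD X ωX)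
  have hRΔ : DCoh.IsQCohD RΔ :=
    (RHom.rPres_of_isPerfect hFF).pres _ (Groth.Lead.LTMod.isQCohD_inD_of hωXc.1)
  obtain ⟨sh⟩ := nonempty_phi_shift a b (Groth.Lead.LTMod.S0 A) RΔ (d : ℤ)
  obtain ⟨tw⟩ := nonempty_phi_twist a b A hA ωY W hW eW RΔ hRΔ
  obtain ⟨sw⟩ := Groth.L07.BvdB.DualHom.nonempty_lt_swap hW hD
  obtain ⟨sW⟩ := nonempty_LT_shift W (DCoh.toD Y D) (-(d : ℤ))
  let N := (DCoh.RSheafHom K).obj (DCoh.inD Y ωY)
  let eMain := tw ≪≫ (DCoh.LTensorCx W).mapIso
      (((shiftFunctorCompIsoId (DCoh.D Y) (d : ℤ) (-(d : ℤ)) (by omega)).app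
          ((FMK.phi a b (Groth.Lead.LTMod.S0 A)).obj RΔ)).symm ≪≫
        (shiftFunctor (DCoh.D Y) (-(d : ℤ))).mapIso (sh.symm ≪≫ σ.symm ≪≫ eD.symm)) ≪≫
    sW ≪≫ (shiftFunctor (DCoh.D Y) (-(d : ℤ))).mapIso
      (sw ≪≫ (DCoh.LTensorCx D).mapIso eW ≪≫ (ρ.app (DCoh.inD Y ωY)).symm)
  have hz : IsZero (DCoh.HD N (i - d)) := by
    rcases hi with hi | hi
    · refine isZero_HD_RHom K hKk hKp ωY hωYc (k' : ℤ) (fun j y hy => ?_) (i - d) (by omega)
      by_cases hj : (k' : ℤ) ≤ j
      · have hj0 : 0 ≤ j := le_trans (by positivity) hj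
        lift j to ℕ using hj0
        rw [show ((j : ℤ) - (k' : ℤ)).toNat = j - k' by omega]
        refine WithBot.coe_le_coe.1 (le_of_le_of_eq ?_
          (depth_eq_dim ωY hωYc (fun x => (hωY x).1) y (hωY y).2).symm)
        exact hGV j y ((Groth.L21.Mod.support_congr ((DerivedCategory.homologyFunctor Y.Modules (j : ℤ)).mapIso
          (eK ≪≫ ((FMK.phi a b P).mapIso eF).symm))).subset hy)
      · rw [show (j - (k' : ℤ)).toNat = 0 by omega]
        exact zero_le
    · haveI : (DCoh.toD Y D).IsLE 0 := DerivedCategory.TStructure.t.isLE_of_iso eD.symm 0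
      haveI := Groth.L29.DC.RHom.isLE_LTensorCx D 0 inferInstance (DCoh.inD Y ωY) 0 inferInstance
      exact (DerivedCategory.isZero_of_isLE _ (0 + 0) (i - d) (by omega)).of_iso
        ((DerivedCategory.homologyFunctor _ (i - d)).mapIso (ρ.app (DCoh.inD Y ωY)))
  exact (hz.of_iso (Groth.L10.hShiftIso N (-(d : ℤ)) i (i - d) (by omega))).of_iso
    ((DerivedCategory.homologyFunctor _ i).mapIso eMain)

end Groth.Agent.S16384
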