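import Groth.Statements.S16386
import Groth.Agent.L26.Cogen.Sep

set_option autoImplicit false
universe u
open CategoryTheory MonoidalCategory CartesianMonoidalCategory MonObj GrpObj AlgebraicGeometry
open AbVar

namespace Groth.Agent.S16386

open CategoryTheory.Limits Groth.Agent.AV Groth.Agent.AV.Cogen

/-- (c₁) ⇒ (a₁): let k be a finite field with q elements and fix a polynomial P with integer
coefficients. Work with abelian varieties over k (proper, geometrically integral commutative group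
schemes over k) together with their q-Frobenius endomorphism π (the identity on points and the q-th
power map on sections; a homomorphism) such that P(π) = 0 in the endomorphism ring; for P the
product of the minimal polynomials of a finite set w of Weil q-numbers these are exactly the abelian
varieties with Weil support in w. Let A be such an abelian variety and suppose that every such Z
admits finitely many homomorphisms ψ_1, …, ψ_n : Z → A which are jointly monomorphic (two T-valued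
points of Z over k with the same image under every ψ_i are equal; equivalently (ψ_i) : Z → A^n is an
injective homomorphism). Then the functor X ↦ Hom(X, A), with values in left End(A)-modules (End(A)
acting by postcomposition), is fully faithful on these abelian varieties: for such X and Y, two
homomorphisms f, g : X → Y inducing the same map Hom(Y, A) → Hom(X, A) are equal, and every additive
End(A)-linear map Hom(Y, A) → Hom(X, A) is precomposition with some homomorphism X → Y. -/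
theorem result (k : Type u) [Field k] [Finite k]
    (P : Polynomial ℤ) (A : Over (Spec (CommRingCat.of k))) [GrpObj A] [IsCommMonObj A] [IsProper A.hom] [GeometricallyIntegral A.hom]
    (πA : A ⟶ A) [IsMonHom πA] (hπAb : πA.left.base = 𝟙 _)
    (hπAle : ∀ U : A.left.Opens, U ≤ πA.left ⁻¹ᵁ U)
    (hπAapp : ∀ (U : A.left.Opens) (s : Γ(A.left, U)), (πA.left.appLE U U (hπAle U)).hom s = s ^ Nat.card k)
    (hPA : Polynomial.eval₂ (Int.castRingHom (EndAV.End A)) (EndAV.End.of πA) P = 0)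
    (hcog : ∀ (Z : Over (Spec (CommRingCat.of k))) [GrpObj Z] [IsCommMonObj Z] [IsProper Z.hom] [GeometricallyIntegral Z.hom]
      (πZ : Z ⟶ Z) [IsMonHom πZ] (hπZb : πZ.left.base = 𝟙 _) (hπZle : ∀ U : Z.left.Opens, U ≤ πZ.left ⁻¹ᵁ U)
      (hπZapp : ∀ (U : Z.left.Opens) (s : Γ(Z.left, U)), (πZ.left.appLE U U (hπZle U)).hom s = s ^ Nat.card k)
      (hPZ : Polynomial.eval₂ (Int.castRingHom (EndAV.End Z)) (EndAV.End.of πZ) P = 0),
      ∃ (n : ℕ) (ψ : Fin n → EndAV.Hom Z A), ∀ (T : Over (Spec (CommRingCat.of k))) (x y : T ⟶ Z),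
        (∀ i, x ≫ (ψ i).toHom = y ≫ (ψ i).toHom) → x = y)
    (X Y : Over (Spec (CommRingCat.of k))) [GrpObj X] [IsCommMonObj X] [IsProper X.hom] [GeometricallyIntegral X.hom]
    [GrpObj Y] [IsCommMonObj Y] [IsProper Y.hom] [GeometricallyIntegral Y.hom]
    (πX : X ⟶ X) [IsMonHom πX] (hπXb : πX.left.base = 𝟙 _)
    (hπXle : ∀ U : X.left.Opens, U ≤ πX.left ⁻¹ᵁ U)
    (hπXapp : ∀ (U : X.left.Opens) (s : Γ(X.left, U)), (πX.left.appLE U U (hπXle U)).hom s = s ^ Nat.card k)
    (hPX : Polynomial.eval₂ (Int.castRingHom (EndAV.End X)) (EndAV.End.of πX) P = 0)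
    (πY : Y ⟶ Y) [IsMonHom πY] (hπYb : πY.left.base = 𝟙 _)
    (hπYle : ∀ U : Y.left.Opens, U ≤ πY.left ⁻¹ᵁ U)
    (hπYapp : ∀ (U : Y.left.Opens) (s : Γ(Y.left, U)), (πY.left.appLE U U (hπYle U)).hom s = s ^ Nat.card k)
    (hPY : Polynomial.eval₂ (Int.castRingHom (EndAV.End Y)) (EndAV.End.of πY) P = 0) :
    (∀ f g : EndAV.Hom X Y, (∀ φ : EndAV.Hom Y A, f ≫ φ = g ≫ φ) → f = g) ∧
      (∀ g : EndAV.Hom Y A →+ EndAV.Hom X A,
        (∀ (φ : EndAV.Hom Y A) (s : EndAV.Hom A A), g (φ ≫ s) = g φ ≫ s) →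
          ∃ f : EndAV.Hom X Y, ∀ φ : EndAV.Hom Y A, g φ = f ≫ φ) := by
  have hA : InP P A := inP_of (isFr_of hπAb hπAle hπAapp) hPA
  have hX : InP P X := inP_of (isFr_of hπXb hπXle hπXapp) hPX
  have hY : InP P Y := inP_of (isFr_of hπYb hπYle hπYapp) hPY
  have hcog' : ∀ (Z : Over (Spec (CommRingCat.of k))) [GrpObj Z] [IsCommMonObj Z] [IsProper Z.hom]
      [GeometricallyIntegral Z.hom], InP P Z → ∃ (n : ℕ) (ψ : Fin n → EndAV.Hom Z A),
        ∀ (T : Over (Spec (CommRingCat.of k))) (x y : T ⟶ Z),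
          (∀ i, x ≫ (ψ i).toHom = y ≫ (ψ i).toHom) → x = y := by
    intro Z _ _ _ _ hZ
    obtain ⟨π, _, hle, hb, happ, hfr⟩ := exists_fr Z
    exact hcog Z π hb hle happ (hZ π hfr)
  obtain ⟨n, ψ, hψ⟩ := hcog' Y hY
  refine ⟨fun f g h => EndAV.Hom.ext (hψ X _ _ fun i => ?_), fun g hg => ?_⟩
  · rw [← EndAV.Hom.toHom_comp, ← EndAV.Hom.toHom_comp, h]
  have key : ∀ (m : ℕ) (χ : Fin m → EndAV.Hom Y A), (∀ (T : Over (Spec (CommRingCat.of k))) (x y : T ⟶ Y),
      (∀ i, x ≫ (χ i).toHom = y ≫ (χ i).toHom) → x = y) → ∃ f : EndAV.Hom X Y, ∀ i, f ≫ χ i = g (χ i) := by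
    intro m χ hχ
    obtain ⟨B, _, _, _, _, pr, inj, hB, h1, h2, h3⟩ := exists_pow A hA m
    let Ψ : EndAV.Hom Y B := ∑ i, χ i ≫ inj i
    let G : EndAV.Hom X B := ∑ i, g (χ i) ≫ inj i
    haveI : Mono Ψ.toHom := ⟨fun a b h => hχ _ a b fun i => by
      rw [← sum_inj_pr pr inj h1 h2 χ i, EndAV.Hom.toHom_comp, ← Category.assoc, h, Category.assoc]⟩
    haveI : IsProper (Ψ.toHom.left ≫ B.hom) := by rw [Over.w]; infer_instance
    haveI : IsProper Ψ.toHom.left := IsProper.of_comp _ B.hom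
    haveI : IsClosedImmersion Ψ.toHom.left := (IsClosedImmersion.iff_isProper_and_mono _).2 ⟨inferInstance, inferInstance⟩
    obtain ⟨Q, _, _, _, _, q, hQ, hker, _⟩ := exists_quot Ψ.toHom hB
    have hΨq : Ψ ≫ q = 0 := EndAV.Hom.ext (hker.w.trans Hom.one_def.symm)
    have hGq : ∀ φ : EndAV.Hom Q A, G ≫ q ≫ φ = 0 := fun φ => by
      have e : ∀ {Z : Over (Spec (CommRingCat.of k))} [GrpObj Z] [IsCommMonObj Z] (f : Fin m → EndAV.Hom Z A),
          (∑ i, f i ≫ inj i) ≫ q ≫ φ = ∑ i, f i ≫ inj i ≫ q ≫ φ := fun f => by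
        simp only [Preadditive.sum_comp, Category.assoc]
      have z : (∑ i, χ i ≫ inj i ≫ q ≫ φ) = 0 := by
        rw [← e χ]
        exact (reassoc_of% hΨq) φ |>.trans Limits.zero_comp
      have := congrArg g z
      rw [map_sum, map_zero] at this
      show (∑ i, g (χ i) ≫ inj i) ≫ q ≫ φ = 0
      rw [e (fun i => g (χ i))]
      simpa only [hg] using this
    obtain ⟨l, θ, hθ⟩ := hcog' Q hQ
    have hG : G.toHom ≫ q.toHom = 1 := hθ X _ 1 fun i => by
      rw [MonObj.one_comp, Category.assoc, ← EndAV.Hom.toHom_comp, ← EndAV.Hom.toHom_comp, hGq, EndAV.Hom.toHom_zero]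
    obtain ⟨f₀, hf₀, -⟩ := hker.exists_lift G.toHom (toUnit X) (hG.trans Hom.one_def)
    haveI : IsMonHom f₀ := Groth.Agent.AV.isMonHom_of_one f₀ (by
      rw [← cancel_mono Ψ.toHom, Category.assoc, hf₀, IsMonHom.one_hom, IsMonHom.one_hom])
    refine ⟨EndAV.Hom.of f₀, fun i => ?_⟩
    have hfG : EndAV.Hom.of f₀ ≫ Ψ = G := EndAV.Hom.ext hf₀
    rw [← sum_inj_pr pr inj h1 h2 χ i, ← Category.assoc, hfG, sum_inj_pr pr inj h1 h2 χ i]
    exact sum_inj_pr pr inj h1 h2 (fun i => g (χ i)) i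
  obtain ⟨f, hf⟩ := key n ψ hψ
  refine ⟨f, fun φ => ?_⟩
  obtain ⟨f', hf'⟩ := key (n + 1) (Fin.cons φ ψ) fun T x y h => hψ T x y fun i => by simpa using h i.succ
  have : f' = f := EndAV.Hom.ext (hψ X _ _ fun i => by
    rw [← EndAV.Hom.toHom_comp, ← EndAV.Hom.toHom_comp, hf i]
    have := hf' i.succ
    simp only [Fin.cons_succ] at this
    rw [this])
  have h0 := hf' 0
  simp only [Fin.cons_zero] at h0
  rw [← h0, this]

end Groth.Agent.S16386
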