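import Groth.Statements.S16387
import Groth.Agent.L26.AV.TateFinite

set_option autoImplicit false
universe u
open CategoryTheory MonoidalCategory CartesianMonoidalCategory MonObj GrpObj AlgebraicGeometry
open AbVar

namespace Groth.Agent.S16387

open CategoryTheory CategoryTheory.Limits MonoidalCategory CartesianMonoidalCategory MonObj AbDual

/-- Let k be a finite field with algebraic closure Ω, l a prime number invertible in k, and A, B abelian
varieties over k (proper, geometrically integral commutative group schemes over k). If the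
homomorphism i : A → B is injective (a closed immersion), then the induced ℤ_l-linear map between
the l-adic Tate modules of Ω-points T_l(i) : T_l A → T_l B is injective with torsion-free, hence
free, cokernel: the quotient of T_l B by the image of T_l A is a free ℤ_l-module. -/
theorem result (k Ω : Type u) [Field k] [Finite k]
    [Field Ω] [Algebra k Ω] [IsAlgClosure k Ω] (l : ℕ) [Fact l.Prime] (hl : (l : k) ≠ 0)
    (A B : Over (Spec (CommRingCat.of k))) [GrpObj A] [IsCommMonObj A] [IsProper A.hom] [GeometricallyIntegral A.hom]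
    [GrpObj B] [IsCommMonObj B] [IsProper B.hom] [GeometricallyIntegral B.hom]
    (i : A ⟶ B) [IsMonHom i] [IsClosedImmersion i.left] :
    Function.Injective (AbDual.tateMapₗ (l := l) (T := SGA7.pt Ω) i) ∧
      Module.Free ℤ_[l] (AbDual.TateMod B l (SGA7.pt Ω) ⧸
        LinearMap.range (AbDual.tateMapₗ (l := l) (T := SGA7.pt Ω) i)) := by
  haveI : IsAlgClosed Ω := IsAlgClosure.isAlgClosed k
  haveI : Mono i := Over.mono_of_mono_left i
  have hcomp : ∀ (z : TateMod A l (SGA7.pt Ω)) (n : ℕ),
      ((tateMapₗ (l := l) (T := SGA7.pt Ω) i z : TateMod B l (SGA7.pt Ω)) : ℕ → Additive (SGA7.pt Ω ⟶ B)) n =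
        Additive.ofMul (((z : ℕ → Additive (SGA7.pt Ω ⟶ A)) n).toMul ≫ i) := fun z n => rfl
  have hinj : Function.Injective (tateMapₗ (l := l) (T := SGA7.pt Ω) i) := by
    intro x y h
    refine TateMod.ext fun n => ?_
    have h1 := congrArg (fun z : TateMod B l (SGA7.pt Ω) => (z : ℕ → Additive (SGA7.pt Ω ⟶ B)) n) h
    simp only [hcomp] at h1
    exact Additive.toMul.injective ((cancel_mono i).1 (Additive.ofMul.injective h1))
  refine ⟨hinj, ?_⟩
  haveI : Finite (torsPts B l (SGA7.pt Ω)) := Groth.Agent.AV.TateFinite.finite_torsPts Ω B l hl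
  haveI : Module.Finite ℤ_[l] (TateMod B l (SGA7.pt Ω)) := Groth.Agent.AV.TateFinite.module_finite
  let M := LinearMap.range (tateMapₗ (l := l) (T := SGA7.pt Ω) i)
  have hstep : ∀ y, (l : ℤ_[l]) • y ∈ M → y ∈ M := by
    rintro y ⟨x, hx⟩
    have hx' : ∀ n, ((x : ℕ → Additive (SGA7.pt Ω ⟶ A)) (n + 1)).toMul ≫ i =
        ((y : ℕ → Additive (SGA7.pt Ω ⟶ B)) n).toMul := by
      intro n
      have h1 := congrArg (fun z : TateMod B l (SGA7.pt Ω) => (z : ℕ → Additive (SGA7.pt Ω ⟶ B)) (n + 1)) hx
      rw [Nat.cast_smul_eq_nsmul] at h1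
      simp only [hcomp, Groth.Agent.AV.TateSat.component_nsmul, y.compat] at h1
      exact congrArg Additive.toMul h1
    refine ⟨⟨fun n => (x : ℕ → Additive (SGA7.pt Ω ⟶ A)) (n + 1), fun n => ?_, fun n => x.compat (n + 1)⟩,
      TateMod.ext fun n => (hcomp _ n).trans (congrArg Additive.ofMul (hx' n))⟩
    refine Additive.toMul.injective ((cancel_mono i).1 ?_)
    have h2 := nsmul_comp i (l ^ n) ((x : ℕ → Additive (SGA7.pt Ω ⟶ A)) (n + 1))
    rw [show Additive.ofMul (((x : ℕ → Additive (SGA7.pt Ω ⟶ A)) (n + 1)).toMul ≫ i) =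
      (y : ℕ → Additive (SGA7.pt Ω ⟶ B)) n from congrArg Additive.ofMul (hx' n), y.torsion] at h2
    exact (Additive.ofMul.injective h2).trans (MonObj.one_comp i).symm
  have hpow : ∀ (n : ℕ) y, ((l : ℤ_[l]) ^ n) • y ∈ M → y ∈ M := by
    intro n
    induction n with
    | zero => intro y hy; rwa [pow_zero, one_smul] at hy
    | succ n ih => intro y hy; exact hstep y (ih _ (by rwa [smul_smul, ← pow_succ]))
  haveI : NoZeroSMulDivisors ℤ_[l] (TateMod B l (SGA7.pt Ω) ⧸ M) := ⟨fun {c q} h => by
    by_cases hc : c = 0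
    · exact Or.inl hc
    · obtain ⟨y, rfl⟩ := Submodule.mkQ_surjective M q
      rw [Submodule.mkQ_apply, ← Submodule.Quotient.mk_smul, Submodule.Quotient.mk_eq_zero,
        PadicInt.unitCoeff_spec hc, mul_smul] at h
      have h' := Submodule.smul_mem M ((PadicInt.unitCoeff hc)⁻¹ : ℤ_[l]ˣ).val h
      rw [smul_smul, Units.inv_mul, one_smul] at h'
      exact Or.inr ((Submodule.Quotient.mk_eq_zero M).2 (hpow _ y h'))⟩
  infer_instance

end Groth.Agent.S16387
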