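import Groth.Statements.S16389
import Groth.Agent.L26.Cogen.Sep

set_option autoImplicit false
universe u
open CategoryTheory MonoidalCategory CartesianMonoidalCategory MonObj GrpObj AlgebraicGeometry
open AbVar

namespace Groth.Agent.S16389

open CategoryTheory.Limits Groth.Agent.AV Groth.Agent.AV.Cogen

/-- (b) ⇒ (c₂): let k be a finite field with q elements and fix a polynomial P with integer
coefficients. Work with abelian varieties over k (proper, geometrically integral commutative group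
schemes over k) together with their q-Frobenius endomorphism π (the identity on points, the q-th
power map on sections; a homomorphism) such that P(π) = 0 in the endomorphism ring (for suitable P:
the abelian varieties with Weil support in a given finite set of Weil q-numbers), and let A be one
of them. Assume (b₁): for every such Z and every finite closed subgroup scheme H ⊆ Z, a T-valued
point of Z over k that is sent to the unit by every homomorphism Z → A killing H factors through H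
(H is the common kernel of the homomorphisms vanishing on it); and (b₂): for every such Z and every
additive subgroup M of Hom(Z, A) of finite index which is stable under postcomposition with
endomorphisms of A (an End(A)-submodule), a homomorphism f : Z → A belongs to M as soon as it kills
the common kernel of M, i.e. every T-valued point of Z sent to the unit by all members of M is sent
to the unit by f. Then (c₂) holds: for such X and Y and a homomorphism φ : X → Y which is a closed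
immersion, every homomorphism X → A extends along φ to a homomorphism Y → A. -/
theorem result
    (k : Type u) [Field k] [Finite k]
    (P : Polynomial ℤ) (A : Over (Spec (CommRingCat.of k))) [GrpObj A] [IsCommMonObj A] [IsProper A.hom] [GeometricallyIntegral A.hom]
    (πA : A ⟶ A) [IsMonHom πA] (hπAb : πA.left.base = 𝟙 _)
    (hπAle : ∀ U : A.left.Opens, U ≤ πA.left ⁻¹ᵁ U)
    (hπAapp : ∀ (U : A.left.Opens) (s : Γ(A.left, U)), (πA.left.appLE U U (hπAle U)).hom s = s ^ Nat.card k)
    (hPA : Polynomial.eval₂ (Int.castRingHom (EndAV.End A)) (EndAV.End.of πA) P = 0)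
    (hb1 : ∀ (Z : Over (Spec (CommRingCat.of k))) [GrpObj Z] [IsCommMonObj Z] [IsProper Z.hom] [GeometricallyIntegral Z.hom]
      (πZ : Z ⟶ Z) [IsMonHom πZ] (hπZb : πZ.left.base = 𝟙 _) (hπZle : ∀ U : Z.left.Opens, U ≤ πZ.left ⁻¹ᵁ U)
      (hπZapp : ∀ (U : Z.left.Opens) (s : Γ(Z.left, U)), (πZ.left.appLE U U (hπZle U)).hom s = s ^ Nat.card k)
      (hPZ : Polynomial.eval₂ (Int.castRingHom (EndAV.End Z)) (EndAV.End.of πZ) P = 0)
      (H : Over (Spec (CommRingCat.of k))) [GrpObj H] [IsFinite H.hom] (i : H ⟶ Z) [IsMonHom i] [IsClosedImmersion i.left]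
      (T : Over (Spec (CommRingCat.of k))) (x : T ⟶ Z), (∀ r : EndAV.Hom Z A, i ≫ r.toHom = 1 → x ≫ r.toHom = 1) → ∃ y : T ⟶ H, y ≫ i = x)
    (hrec : ∀ (Z : Over (Spec (CommRingCat.of k))) [GrpObj Z] [IsCommMonObj Z] [IsProper Z.hom] [GeometricallyIntegral Z.hom]
      (πZ : Z ⟶ Z) [IsMonHom πZ] (hπZb : πZ.left.base = 𝟙 _) (hπZle : ∀ U : Z.left.Opens, U ≤ πZ.left ⁻¹ᵁ U)
      (hπZapp : ∀ (U : Z.left.Opens) (s : Γ(Z.left, U)), (πZ.left.appLE U U (hπZle U)).hom s = s ^ Nat.card k)
      (hPZ : Polynomial.eval₂ (Int.castRingHom (EndAV.End Z)) (EndAV.End.of πZ) P = 0)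
      (M : AddSubgroup (EndAV.Hom Z A)), M.FiniteIndex → (∀ r ∈ M, ∀ s : EndAV.Hom A A, r ≫ s ∈ M) →
      ∀ f : EndAV.Hom Z A,
        (∀ (T : Over (Spec (CommRingCat.of k))) (x : T ⟶ Z), (∀ r ∈ M, x ≫ EndAV.Hom.toHom r = 1) →
          x ≫ f.toHom = 1) → f ∈ M)
    (X Y : Over (Spec (CommRingCat.of k))) [GrpObj X] [IsCommMonObj X] [IsProper X.hom] [GeometricallyIntegral X.hom]
    [GrpObj Y] [IsCommMonObj Y] [IsProper Y.hom] [GeometricallyIntegral Y.hom]
    (πX : X ⟶ X) [IsMonHom πX] (hπXb : πX.left.base = 𝟙 _)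
    (hπXle : ∀ U : X.left.Opens, U ≤ πX.left ⁻¹ᵁ U)
    (hπXapp : ∀ (U : X.left.Opens) (s : Γ(X.left, U)), (πX.left.appLE U U (hπXle U)).hom s = s ^ Nat.card k)
    (hPX : Polynomial.eval₂ (Int.castRingHom (EndAV.End X)) (EndAV.End.of πX) P = 0)
    (πY : Y ⟶ Y) [IsMonHom πY] (hπYb : πY.left.base = 𝟙 _)
    (hπYle : ∀ U : Y.left.Opens, U ≤ πY.left ⁻¹ᵁ U)
    (hπYapp : ∀ (U : Y.left.Opens) (s : Γ(Y.left, U)), (πY.left.appLE U U (hπYle U)).hom s = s ^ Nat.card k)
    (hPY : Polynomial.eval₂ (Int.castRingHom (EndAV.End Y)) (EndAV.End.of πY) P = 0)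
    (φ : EndAV.Hom X Y) [IsClosedImmersion φ.toHom.left] (f : EndAV.Hom X A) :
    ∃ g : EndAV.Hom Y A, φ ≫ g = f := by
  obtain ⟨gX, -, hgX⟩ := Groth.L08.GrpDim.exists_dim X
  obtain ⟨gA, -, hgA⟩ := Groth.L08.GrpDim.exists_dim A
  obtain ⟨hfree, hfin, -⟩ := HomFin.finite_free k X A hgX hgA
  haveI := hfree
  haveI := hfin
  let M : AddSubgroup (EndAV.Hom X A) :=
    AddMonoidHom.range (AddMonoidHom.mk' (fun g : EndAV.Hom Y A => φ ≫ g) fun a b => Preadditive.comp_add _ _ _ _ _ _)
  haveI : Mono φ.toHom := Over.mono_of_mono_left φ.toHom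
  obtain ⟨N, g, hN, hg⟩ := exists_regular_hom φ
  have hφg : φ ≫ g = N • 𝟙 (CommGrp.mk X) := by
    refine EndAV.Hom.ext ((cancel_mono φ.toHom).1 ?_)
    rw [← EndAV.Hom.toHom_comp, ← EndAV.Hom.toHom_comp, Category.assoc, hg, Preadditive.zsmul_comp, Category.id_comp]
  have hmul : ∀ a : EndAV.Hom X A, N • a ∈ M := fun a => ⟨g ≫ a, by
    show φ ≫ g ≫ a = N • a
    rw [reassoc_of% hφg, Preadditive.zsmul_comp, Category.id_comp]⟩
  have hidx : M.FiniteIndex := by
    haveI : Module.Finite ℤ (EndAV.Hom X A ⧸ M) :=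
      Module.Finite.of_surjective (QuotientAddGroup.mk' M).toIntLinearMap (QuotientAddGroup.mk'_surjective M)
    haveI : AddGroup.FG (EndAV.Hom X A ⧸ M) := Module.Finite.iff_addGroup_fg.1 inferInstance
    haveI : Finite (EndAV.Hom X A ⧸ M) := AddCommGroup.finite_of_fg_torsion _ fun x => by
      obtain ⟨a, rfl⟩ := QuotientAddGroup.mk_surjective x
      rw [isOfFinAddOrder_iff_zsmul_eq_zero]
      exact ⟨N, hN, (QuotientAddGroup.eq_zero_iff _).2 (hmul a)⟩
    exact AddSubgroup.finiteIndex_of_finite_quotient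
  have hstab : ∀ r ∈ M, ∀ s : EndAV.Hom A A, r ≫ s ∈ M := by
    rintro _ ⟨a, rfl⟩ s
    exact ⟨a ≫ s, show φ ≫ a ≫ s = (φ ≫ a) ≫ s from (Category.assoc _ _ _).symm⟩
  obtain ⟨a, ha⟩ := hrec X πX hπXb hπXle hπXapp hPX M hidx hstab f fun T x hx => by
    haveI : IsFinite (𝟙_ (Over (Spec (CommRingCat.of k)))).hom := inferInstanceAs (IsFinite (𝟙 _))
    haveI : IsClosedImmersion (η[Y]).left := by
      haveI : IsClosedImmersion ((η[Y]).left ≫ Y.hom) := by
        rw [Over.w]; exact inferInstanceAs (IsClosedImmersion (𝟙 _))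
      exact IsClosedImmersion.of_comp _ Y.hom
    obtain ⟨y, hy⟩ := hb1 Y πY hπYb hπYle hπYapp hPY (𝟙_ _) η[Y] T (x ≫ φ.toHom) fun r _ => by
      rw [Category.assoc, ← EndAV.Hom.toHom_comp]
      exact hx _ ⟨r, rfl⟩
    have : x = 1 := (cancel_mono φ.toHom).1 (by rw [← hy, MonObj.one_comp, Hom.one_def, toUnit_unique y (toUnit T)])
    rw [this, MonObj.one_comp]
  exact ⟨a, ha⟩

end Groth.Agent.S16389
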