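import Groth.Agent.L18.NormApps
import Groth.Statements.S1639
-- import your own Groth.Agent.* helpers here

set_option autoImplicit false
universe u
open CategoryTheory CategoryTheory.Limits AlgebraicGeometry
open Divisors

namespace Groth.Agent.S1639

/-- Let π : X → Y be finite and surjective, with Y integral and normal. If X has an ample invertible
module then so does Y. -/
theorem result {X Y : Scheme.{u}} (π : X ⟶ Y) [IsFinite π] [Surjective π]
    [IsIntegral Y] (hY : Pi1.IsNormalScheme Y) (L : X.Modules) (hL : CohB1.IsAmple L) :
    ∃ M : Y.Modules, CohB1.IsAmple M := by
  exact Groth.L18.NormApps.exists_isAmple_of_finite_normal π hY hL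

end Groth.Agent.S1639
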