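import Groth.Statements.S16390
import Mathlib.NumberTheory.Padics.Hensel
import Mathlib.Analysis.Complex.Norm
import Mathlib.Algebra.Polynomial.SpecificDegree
import Mathlib.Tactic.LinearCombination
import Mathlib.Tactic.Linarith

set_option autoImplicit false
open AbVar

namespace Groth.Agent.S16390

/-- Let p be a prime number, r > 2 and q = p^r. The polynomial x² − p x + q is irreducible over ℚ, each
of its complex roots has absolute value √q (so its roots are Weil q-numbers), and it has two
distinct roots in ℚ_p, of p-adic valuations 1 and r − 1. The published lemma also computes the index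
of the endomorphism algebra of the simple abelian variety attached to a root; this row does not
state that part. -/
theorem result (p r : ℕ) [Fact p.Prime] (hr : 2 < r) :
    Irreducible (Polynomial.X ^ 2 - Polynomial.C (p : ℚ) * Polynomial.X + Polynomial.C ((p : ℚ) ^ r)) ∧
      (∀ π : ℂ, π ^ 2 - (p : ℂ) * π + (p : ℂ) ^ r = 0 → ‖π‖ = Real.sqrt ((p : ℝ) ^ r)) ∧
      ∃ a b : ℚ_[p], a ≠ b ∧ a ^ 2 - (p : ℚ_[p]) * a + (p : ℚ_[p]) ^ r = 0 ∧
        b ^ 2 - (p : ℚ_[p]) * b + (p : ℚ_[p]) ^ r = 0 ∧ a.valuation = 1 ∧ b.valuation = (r : ℤ) - 1 := by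
  have hp := (Fact.out : p.Prime)
  obtain ⟨s, rfl⟩ : ∃ s, r = s + 2 := ⟨r - 2, by omega⟩
  have hp2 : (2 : ℝ) ≤ (p : ℝ) := by exact_mod_cast hp.two_le
  have hbig : (p : ℝ) ^ 2 < 4 * (p : ℝ) ^ (s + 2) := by
    have h1 : (p : ℝ) ^ 2 ≤ (p : ℝ) ^ (s + 2) := pow_le_pow_right₀ (by linarith) (by omega)
    have h2 : (0 : ℝ) < (p : ℝ) ^ 2 := by positivity
    linarith
  have hd : (Polynomial.X ^ 2 - Polynomial.C (p : ℚ) * Polynomial.X + Polynomial.C ((p : ℚ) ^ (s + 2)) : Polynomial ℚ).natDegree = 2 := by
    compute_degree!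
  refine ⟨?_, fun π hπ => ?_, ?_⟩
  · rw [Polynomial.irreducible_iff_roots_eq_zero_of_degree_le_three]
    · refine Multiset.eq_zero_of_forall_notMem fun x hx => ?_
      rw [Polynomial.mem_roots'] at hx
      have h := hx.2
      simp only [Polynomial.IsRoot, Polynomial.eval_add, Polynomial.eval_sub, Polynomial.eval_pow,
        Polynomial.eval_X, Polynomial.eval_mul, Polynomial.eval_C] at h
      have h' : (x : ℝ) ^ 2 - (p : ℝ) * x + (p : ℝ) ^ (s + 2) = 0 := by exact_mod_cast h
      nlinarith [sq_nonneg ((x : ℝ) - p / 2)]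
    · exact le_of_eq hd.symm
    · rw [hd]; omega
  · have h1 := congrArg Complex.re hπ
    have h2 := congrArg Complex.im hπ
    rw [← Complex.ofReal_natCast p, ← Complex.ofReal_pow, pow_two] at h1 h2
    simp only [Complex.sub_re, Complex.add_re, Complex.mul_re, Complex.ofReal_re, Complex.ofReal_im,
      zero_mul, sub_zero, Complex.zero_re] at h1
    simp only [Complex.sub_im, Complex.add_im, Complex.mul_im, Complex.ofReal_re, Complex.ofReal_im,
      zero_mul, add_zero, Complex.zero_im] at h2
    have him : π.im ≠ 0 := fun h => by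
      rw [h] at h1
      nlinarith [sq_nonneg (π.re - (p : ℝ) / 2)]
    have hre : 2 * π.re = (p : ℝ) := by
      have : π.im * (2 * π.re - p) = 0 := by linarith
      linarith [(mul_eq_zero.1 this).resolve_left him]
    rw [Complex.norm_def, Complex.normSq_apply]
    congr 1
    linear_combination -h1 + π.re * hre
  · let F : Polynomial ℤ_[p] := Polynomial.X ^ 2 - Polynomial.X + Polynomial.C ((p : ℤ_[p]) ^ s)
    have hs : 1 ≤ s := by omega
    have hps : ‖(p : ℤ_[p]) ^ s‖ < 1 := by
      rw [norm_pow, PadicInt.norm_p]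
      exact pow_lt_one₀ (by positivity) (inv_lt_one_of_one_lt₀ (by exact_mod_cast hp.one_lt)) (by omega)
    have hF' : ‖F.derivative.aeval (1 : ℤ_[p])‖ = 1 := by
      have : F.derivative = Polynomial.C 2 * Polynomial.X - 1 := by
        simp only [F, Polynomial.derivative_add, Polynomial.derivative_sub, Polynomial.derivative_X_pow, Polynomial.derivative_X, Polynomial.derivative_C, add_zero]
        simp
      rw [this]
      norm_num
    obtain ⟨z, hz, hz1, -, -⟩ := hensels_lemma (F := F) (a := (1 : ℤ_[p])) (by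
      rw [hF', one_pow]
      simpa [F] using hps)
    rw [hF'] at hz1
    have hznorm : ‖z‖ = 1 := by
      have h := PadicInt.norm_eq_of_norm_add_lt_right (z1 := z) (z2 := -(1 : ℤ_[p]))
        (by rw [← sub_eq_add_neg, norm_neg, norm_one]; exact hz1)
      rwa [norm_neg, norm_one] at h
    have hz0 : z ≠ 0 := fun h => by rw [h, norm_zero] at hznorm; exact zero_ne_one hznorm
    have hzv : (z : ℚ_[p]).valuation = 0 := by
      have h0 : (z : ℚ_[p]) ≠ 0 := fun h => hz0 (Subtype.ext h)
      have h1 : ‖(z : ℚ_[p])‖ = 1 := by rw [← PadicInt.norm_def]; exact hznorm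
      rw [Padic.norm_eq_zpow_neg_valuation h0] at h1
      have := (zpow_eq_one_iff_right₀ (by positivity) (by exact_mod_cast hp.one_lt.ne')).1 h1
      omega
    have hzeq : (z : ℚ_[p]) ^ 2 - z + (p : ℚ_[p]) ^ s = 0 := by
      have := congrArg (fun t : ℤ_[p] => (t : ℚ_[p])) hz
      simpa [F] using this
    have hp0 : (p : ℚ_[p]) ≠ 0 := Nat.cast_ne_zero.2 hp.ne_zero
    have hzne : (z : ℚ_[p]) ≠ 0 := fun h => hz0 (Subtype.ext h)
    have hprod : (p : ℚ_[p]) * z * ((p : ℚ_[p]) - p * z) = (p : ℚ_[p]) ^ (s + 2) := by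
      linear_combination -(p : ℚ_[p]) ^ 2 * hzeq
    have hb0 : (p : ℚ_[p]) - p * z ≠ 0 := fun h => by
      rw [h, mul_zero] at hprod
      exact pow_ne_zero _ hp0 hprod.symm
    have va : ((p : ℚ_[p]) * z).valuation = 1 := by
      rw [Padic.valuation_mul hp0 hzne, Padic.valuation_p, hzv, add_zero]
    have vb : ((p : ℚ_[p]) - p * z).valuation = (s : ℤ) + 1 := by
      have := congrArg Padic.valuation hprod
      rw [Padic.valuation_mul (mul_ne_zero hp0 hzne) hb0, va, Padic.valuation_pow, Padic.valuation_p] at this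
      push_cast at this
      linarith
    refine ⟨p * z, p - p * z, fun h => ?_, ?_, ?_, va, ?_⟩
    · have := congrArg Padic.valuation h
      rw [va, vb] at this
      omega
    · linear_combination (p : ℚ_[p]) ^ 2 * hzeq
    · linear_combination (p : ℚ_[p]) ^ 2 * hzeq
    · rw [vb]; push_cast; ring

end Groth.Agent.S16390
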