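import Groth.Statements.S16391
import Groth.Agent.L26.Cogen.Sep

set_option autoImplicit false
universe u
open CategoryTheory MonoidalCategory CartesianMonoidalCategory MonObj GrpObj AlgebraicGeometry
open AbVar

namespace Groth.Agent.S16391

open CategoryTheory.Limits Groth.Agent.AV Groth.Agent.AV.Cogen

/-- (c) ⇒ (a₂): let k be a finite field with q elements and fix a polynomial P with integer
coefficients. Work with abelian varieties over k (proper, geometrically integral commutative group
schemes over k) together with their q-Frobenius endomorphism π (the identity on points, the q-th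
power map on sections; a homomorphism) such that P(π) = 0 in the endomorphism ring (for suitable P:
the abelian varieties with Weil support in a given finite set of Weil q-numbers); let A be one of
them and S = End(A) (product = composition). Assume that A is an injective cogenerator: (c₁) every
such Z admits finitely many homomorphisms Z → A which are jointly monomorphic on T-valued points
over k, and (c₂) for such X, Y and every homomorphism X → Y which is a closed immersion, the
restriction map Hom(Y, A) → Hom(X, A) is surjective. Then the functor X ↦ Hom(X, A) is essentially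
surjective onto left S-modules that are free of finite rank over ℤ: for every such module M there
are such an abelian variety X (with its Frobenius and P(π_X) = 0) and an additive bijection M ≅
Hom(X, A) carrying the action of s ∈ S to postcomposition with s. -/
theorem result
    (k : Type u) [Field k] [Finite k]
    (P : Polynomial ℤ) (A : Over (Spec (CommRingCat.of k))) [GrpObj A] [IsCommMonObj A] [IsProper A.hom] [GeometricallyIntegral A.hom]
    (πA : A ⟶ A) [IsMonHom πA] (hπAb : πA.left.base = 𝟙 _)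
    (hπAle : ∀ U : A.left.Opens, U ≤ πA.left ⁻¹ᵁ U)
    (hπAapp : ∀ (U : A.left.Opens) (s : Γ(A.left, U)), (πA.left.appLE U U (hπAle U)).hom s = s ^ Nat.card k)
    (hPA : Polynomial.eval₂ (Int.castRingHom (EndAV.End A)) (EndAV.End.of πA) P = 0)
    (hcog : ∀ (Z : Over (Spec (CommRingCat.of k))) [GrpObj Z] [IsCommMonObj Z] [IsProper Z.hom] [GeometricallyIntegral Z.hom]
      (πZ : Z ⟶ Z) [IsMonHom πZ] (hπZb : πZ.left.base = 𝟙 _) (hπZle : ∀ U : Z.left.Opens, U ≤ πZ.left ⁻¹ᵁ U)
      (hπZapp : ∀ (U : Z.left.Opens) (s : Γ(Z.left, U)), (πZ.left.appLE U U (hπZle U)).hom s = s ^ Nat.card k)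
      (hPZ : Polynomial.eval₂ (Int.castRingHom (EndAV.End Z)) (EndAV.End.of πZ) P = 0),
      ∃ (n : ℕ) (ψ : Fin n → EndAV.Hom Z A), ∀ (T : Over (Spec (CommRingCat.of k))) (x y : T ⟶ Z),
        (∀ i, x ≫ (ψ i).toHom = y ≫ (ψ i).toHom) → x = y)
    (hext : ∀ (X Y : Over (Spec (CommRingCat.of k))) [GrpObj X] [IsCommMonObj X] [IsProper X.hom] [GeometricallyIntegral X.hom]
      [GrpObj Y] [IsCommMonObj Y] [IsProper Y.hom] [GeometricallyIntegral Y.hom]
      (πX : X ⟶ X) [IsMonHom πX] (hπXb : πX.left.base = 𝟙 _) (hπXle : ∀ U : X.left.Opens, U ≤ πX.left ⁻¹ᵁ U)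
      (hπXapp : ∀ (U : X.left.Opens) (s : Γ(X.left, U)), (πX.left.appLE U U (hπXle U)).hom s = s ^ Nat.card k)
      (hPX : Polynomial.eval₂ (Int.castRingHom (EndAV.End X)) (EndAV.End.of πX) P = 0)
      (πY : Y ⟶ Y) [IsMonHom πY] (hπYb : πY.left.base = 𝟙 _) (hπYle : ∀ U : Y.left.Opens, U ≤ πY.left ⁻¹ᵁ U)
      (hπYapp : ∀ (U : Y.left.Opens) (s : Γ(Y.left, U)), (πY.left.appLE U U (hπYle U)).hom s = s ^ Nat.card k)
      (hPY : Polynomial.eval₂ (Int.castRingHom (EndAV.End Y)) (EndAV.End.of πY) P = 0)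
      (φ : EndAV.Hom X Y) [IsClosedImmersion φ.toHom.left] (f : EndAV.Hom X A), ∃ g : EndAV.Hom Y A, φ ≫ g = f)
    (M : Type u) [AddCommGroup M] [Module (EndAV.End A) M] [Module.Finite ℤ M] [Module.Free ℤ M] :
    ∃ (X : Over (Spec (CommRingCat.of k))) (_ : GrpObj X) (_ : IsCommMonObj X) (_ : IsProper X.hom)
      (_ : GeometricallyIntegral X.hom) (πX : X ⟶ X) (_ : IsMonHom πX) (_ : πX.left.base = 𝟙 _)
      (hπXle : ∀ U : X.left.Opens, U ≤ πX.left ⁻¹ᵁ U)
      (_ : ∀ (U : X.left.Opens) (s : Γ(X.left, U)), (πX.left.appLE U U (hπXle U)).hom s = s ^ Nat.card k)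
      (_ : Polynomial.eval₂ (Int.castRingHom (EndAV.End X)) (EndAV.End.of πX) P = 0)
      (e : M ≃+ EndAV.Hom X A), ∀ (s : EndAV.End A) (m : M), (e (s • m)).toHom = (e m).toHom ≫ s.toHom := by
  have hA : InP P A := inP_of (isFr_of hπAb hπAle hπAapp) hPA
  obtain ⟨n, g, hgen⟩ := Submodule.fg_iff_exists_fin_generating_family.1 (Module.Finite.fg_top (R := ℤ) (M := M))
  obtain ⟨B, _, _, _, _, pr, inj, hB, h1, h2, h3⟩ := exists_pow A hA n
  let E' : EndAV.Hom A A → EndAV.End A := fun x => x
  let π : EndAV.Hom B A →+ M := AddMonoidHom.mk' (fun f => ∑ i, E' (inj i ≫ f) • g i) fun a b => by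
    rw [← Finset.sum_add_distrib]
    exact Finset.sum_congr rfl fun i _ => (congrArg (fun t : EndAV.End A => t • g i) (Preadditive.comp_add _ _ _ _ _ _)).trans (add_smul _ _ _)
  have hπs : ∀ (f : EndAV.Hom B A) (s : EndAV.End A), π (f ≫ asHom s) = s • π f := fun f s => by
    show ∑ i, _ • g i = s • ∑ i, _ • g i
    rw [Finset.smul_sum]
    refine Finset.sum_congr rfl fun i _ => ?_
    rw [smul_smul]
    exact congrArg (fun t : EndAV.End A => t • g i) (Category.assoc _ _ _).symm
  have hπ : Function.Surjective π := fun m => by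
    have hm : m ∈ Submodule.span ℤ (Set.range g) := hgen ▸ Submodule.mem_top
    obtain ⟨c, rfl⟩ := (Submodule.mem_span_range_iff_exists_fun _).1 hm
    refine ⟨∑ i, c i • pr i, ?_⟩
    rw [map_sum]
    refine Finset.sum_congr rfl fun l _ => ?_
    rw [map_zsmul]
    congr 1
    show ∑ i, E' (inj i ≫ pr l) • g i = g l
    rw [Finset.sum_eq_single l]
    · rw [h1]; exact one_smul _ _
    · intro i _ hi
      rw [h2 i l hi]; exact zero_smul _ _
    · exact fun h => absurd (Finset.mem_univ l) h
  obtain ⟨gB, -, hgB⟩ := Groth.L08.GrpDim.exists_dim B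
  obtain ⟨gA, -, hgA⟩ := Groth.L08.GrpDim.exists_dim A
  haveI := (HomFin.finite_free k B A hgB hgA).2.1
  obtain ⟨m, r, hr⟩ := Submodule.fg_iff_exists_fin_generating_family.1
    (IsNoetherian.noetherian (LinearMap.ker π.toIntLinearMap))
  have hrπ : ∀ l, π (r l) = 0 := fun l => by
    have : r l ∈ LinearMap.ker π.toIntLinearMap := hr ▸ Submodule.subset_span ⟨l, rfl⟩
    exact this
  obtain ⟨B', _, _, _, _, pr', inj', -, h1', h2', -⟩ := exists_pow A hA m
  let Φ : EndAV.Hom B B' := ∑ l, r l ≫ inj' l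
  obtain ⟨N, Ψ, hN, hΨ⟩ := exists_regular_hom Φ
  let e₀ : EndAV.Hom B B := N • 𝟙 (CommGrp.mk B) - Φ ≫ Ψ
  obtain ⟨X, _, _, _, _, p, j, hX, hpj, _, _, _, _, hj, _⟩ := exists_img e₀ hB
  obtain ⟨πX, _, hle, hb, happ, hfr⟩ := exists_fr X
  refine ⟨X, inferInstance, inferInstance, inferInstance, inferInstance, πX, inferInstance, hb, hle, happ, hX πX hfr, ?_⟩
  have hres : ∀ f : EndAV.Hom X A, ∃ f' : EndAV.Hom B A, j ≫ f' = f := fun f => by
    obtain ⟨πB, _, hle', hb', happ', hfr'⟩ := exists_fr B
    haveI := hj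
    exact hext X B πX hb hle happ (hX πX hfr) πB hb' hle' happ' (hB πB hfr') j f
  have hker1 : ∀ f : EndAV.Hom B A, π f = 0 → j ≫ f = 0 := by
    intro f hf
    have hf' : f ∈ Submodule.span ℤ (Set.range r) := hr.symm ▸ (show f ∈ LinearMap.ker π.toIntLinearMap from hf)
    obtain ⟨c, rfl⟩ := (Submodule.mem_span_range_iff_exists_fun _).1 hf'
    have hjΦ : j ≫ Φ = 0 := by
      refine EndAV.Hom.ext ((cancel_epi p.toHom).1 ?_)
      rw [← EndAV.Hom.toHom_comp, ← EndAV.Hom.toHom_comp, reassoc_of% hpj, Limits.comp_zero]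
      simp [e₀, Preadditive.sub_comp, hΨ, Preadditive.zsmul_comp]
    rw [Preadditive.comp_sum]
    refine Finset.sum_eq_zero fun l _ => ?_
    rw [Preadditive.comp_zsmul, ← sum_inj_pr pr' inj' h1' h2' r l, reassoc_of% hjΦ, Limits.zero_comp, smul_zero]
  have hker2 : ∀ f : EndAV.Hom B A, j ≫ f = 0 → π f = 0 := by
    intro f hf
    have h0 : e₀ ≫ f = 0 := by rw [← hpj, Category.assoc, hf, Limits.comp_zero]
    have h4 : N • f = Φ ≫ Ψ ≫ f := by
      simpa [e₀, Preadditive.sub_comp, Preadditive.zsmul_comp, sub_eq_zero] using h0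
    have h5 : π (N • f) = 0 := by
      rw [h4]
      show π ((∑ l, r l ≫ inj' l) ≫ Ψ ≫ f) = 0
      rw [Preadditive.sum_comp, map_sum]
      refine Finset.sum_eq_zero fun l _ => ?_
      rw [Category.assoc]
      exact (hπs _ _).trans (by rw [hrπ, smul_zero])
    rw [map_zsmul] at h5
    exact (smul_eq_zero.1 h5).resolve_left hN
  choose sec hsec using hπ
  let F : M →+ EndAV.Hom X A := AddMonoidHom.mk' (fun m => j ≫ sec m) fun a b => by
    have := hker1 (sec (a + b) - (sec a + sec b)) (by simp [hsec])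
    rw [Preadditive.comp_sub, Preadditive.comp_add, sub_eq_zero] at this
    exact this
  have hF : Function.Bijective F := by
    refine ⟨(injective_iff_map_eq_zero F).2 fun a ha => ?_, fun f => ?_⟩
    · rw [← hsec a]; exact hker2 _ ha
    · obtain ⟨f', rfl⟩ := hres f
      refine ⟨π f', ?_⟩
      have := hker1 (sec (π f') - f') (by simp [hsec])
      rw [Preadditive.comp_sub, sub_eq_zero] at this
      exact this
  refine ⟨AddEquiv.ofBijective F hF, fun s m => ?_⟩
  have := hker1 (sec (s • m) - sec m ≫ asHom s) (by simp [hsec, hπs])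
  rw [Preadditive.comp_sub, sub_eq_zero] at this
  show EndAV.Hom.toHom (j ≫ sec (s • m)) = _
  rw [this, ← Category.assoc, EndAV.Hom.toHom_comp]
  rfl

end Groth.Agent.S16391
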