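import Groth.Statements.S16392
import Mathlib.AlgebraicGeometry.Morphisms.ClosedImmersion

set_option autoImplicit false
universe u
open CategoryTheory MonoidalCategory CartesianMonoidalCategory MonObj GrpObj AlgebraicGeometry
open AbVar

namespace Groth.Agent.S16392

/-- Let k be a finite field with q elements and P_v, P_w polynomials with integer coefficients, P_v
dividing P_w. Work with abelian varieties over k (proper, geometrically integral commutative group
schemes over k) with their q-Frobenius endomorphism π (identity on points, q-th power on sections; a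
homomorphism); say such a variety lies in AV_w if P_w(π) = 0 in its endomorphism ring and in AV_v if
P_v(π) = 0 (for P_v, P_w the products of minimal polynomials of finite sets v ⊆ w of Weil q-numbers
these are the varieties with Weil support in v, resp. w). Let A lie in AV_w and be an injective
cogenerator for AV_w: (c₁) every Z in AV_w admits finitely many homomorphisms Z → A jointly
monomorphic on T-valued points over k, and (c₂) for X, Y in AV_w, every homomorphism X → A extends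
along any homomorphism X → Y that is a closed immersion. Let B lie in AV_v and j : B → A be a
homomorphism and closed immersion such that every homomorphism X → A with X in AV_v factors through
j (so B is the smallest abelian subvariety of A through which every such map factors). Then B is an
injective cogenerator for AV_v — (c₁) and (c₂) hold with B in place of A and AV_v in place of AV_w —
and restriction along j is surjective on endomorphisms: for every endomorphism t of B there is an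
endomorphism s of A with t followed by j equal to j followed by s. -/
theorem result
    (k : Type u) [Field k] [Finite k] (Pv Pw : Polynomial ℤ) (hvw : Pv ∣ Pw)
    (A : Over (Spec (CommRingCat.of k))) [GrpObj A] [IsCommMonObj A] [IsProper A.hom] [GeometricallyIntegral A.hom]
    (πA : A ⟶ A) [IsMonHom πA] (hπAb : πA.left.base = 𝟙 _) (hπAle : ∀ U : A.left.Opens, U ≤ πA.left ⁻¹ᵁ U)
      (hπAapp : ∀ (U : A.left.Opens) (s : Γ(A.left, U)), (πA.left.appLE U U (hπAle U)).hom s = s ^ Nat.card k)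
    (hPA : Polynomial.eval₂ (Int.castRingHom (EndAV.End A)) (EndAV.End.of πA) Pw = 0)
    (hcog : ∀ (Z : Over (Spec (CommRingCat.of k))) [GrpObj Z] [IsCommMonObj Z] [IsProper Z.hom] [GeometricallyIntegral Z.hom]
      (πZ : Z ⟶ Z) [IsMonHom πZ] (hπZb : πZ.left.base = 𝟙 _) (hπZle : ∀ U : Z.left.Opens, U ≤ πZ.left ⁻¹ᵁ U)
      (hπZapp : ∀ (U : Z.left.Opens) (s : Γ(Z.left, U)), (πZ.left.appLE U U (hπZle U)).hom s = s ^ Nat.card k)
      (hPZ : Polynomial.eval₂ (Int.castRingHom (EndAV.End Z)) (EndAV.End.of πZ) Pw = 0),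
      ∃ (n : ℕ) (ψ : Fin n → EndAV.Hom Z A), ∀ (T : Over (Spec (CommRingCat.of k))) (x y : T ⟶ Z),
        (∀ i, x ≫ (ψ i).toHom = y ≫ (ψ i).toHom) → x = y)
    (hext : ∀ (X Y : Over (Spec (CommRingCat.of k))) [GrpObj X] [IsCommMonObj X] [IsProper X.hom] [GeometricallyIntegral X.hom]
      [GrpObj Y] [IsCommMonObj Y] [IsProper Y.hom] [GeometricallyIntegral Y.hom]
      (πX : X ⟶ X) [IsMonHom πX] (hπXb : πX.left.base = 𝟙 _) (hπXle : ∀ U : X.left.Opens, U ≤ πX.left ⁻¹ᵁ U)
      (hπXapp : ∀ (U : X.left.Opens) (s : Γ(X.left, U)), (πX.left.appLE U U (hπXle U)).hom s = s ^ Nat.card k)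
      (hPX : Polynomial.eval₂ (Int.castRingHom (EndAV.End X)) (EndAV.End.of πX) Pw = 0)
      (πY : Y ⟶ Y) [IsMonHom πY] (hπYb : πY.left.base = 𝟙 _) (hπYle : ∀ U : Y.left.Opens, U ≤ πY.left ⁻¹ᵁ U)
      (hπYapp : ∀ (U : Y.left.Opens) (s : Γ(Y.left, U)), (πY.left.appLE U U (hπYle U)).hom s = s ^ Nat.card k)
      (hPY : Polynomial.eval₂ (Int.castRingHom (EndAV.End Y)) (EndAV.End.of πY) Pw = 0)
      (φ : EndAV.Hom X Y) [IsClosedImmersion φ.toHom.left] (f : EndAV.Hom X A), ∃ g : EndAV.Hom Y A, φ ≫ g = f)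
    (B : Over (Spec (CommRingCat.of k))) [GrpObj B] [IsCommMonObj B] [IsProper B.hom] [GeometricallyIntegral B.hom]
    (πB : B ⟶ B) [IsMonHom πB] (hπBb : πB.left.base = 𝟙 _) (hπBle : ∀ U : B.left.Opens, U ≤ πB.left ⁻¹ᵁ U)
      (hπBapp : ∀ (U : B.left.Opens) (s : Γ(B.left, U)), (πB.left.appLE U U (hπBle U)).hom s = s ^ Nat.card k)
    (hPB : Polynomial.eval₂ (Int.castRingHom (EndAV.End B)) (EndAV.End.of πB) Pv = 0)
    (j : EndAV.Hom B A) [IsClosedImmersion j.toHom.left]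
    (hB : ∀ (X : Over (Spec (CommRingCat.of k))) [GrpObj X] [IsCommMonObj X] [IsProper X.hom] [GeometricallyIntegral X.hom]
      (πX : X ⟶ X) [IsMonHom πX] (hπXb : πX.left.base = 𝟙 _) (hπXle : ∀ U : X.left.Opens, U ≤ πX.left ⁻¹ᵁ U)
      (hπXapp : ∀ (U : X.left.Opens) (s : Γ(X.left, U)), (πX.left.appLE U U (hπXle U)).hom s = s ^ Nat.card k)
      (hPX : Polynomial.eval₂ (Int.castRingHom (EndAV.End X)) (EndAV.End.of πX) Pv = 0) (f : EndAV.Hom X A), ∃ f₀ : EndAV.Hom X B, f₀ ≫ j = f) :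
    (∀ (Z : Over (Spec (CommRingCat.of k))) [GrpObj Z] [IsCommMonObj Z] [IsProper Z.hom] [GeometricallyIntegral Z.hom]
      (πZ : Z ⟶ Z) [IsMonHom πZ] (hπZb : πZ.left.base = 𝟙 _) (hπZle : ∀ U : Z.left.Opens, U ≤ πZ.left ⁻¹ᵁ U)
      (hπZapp : ∀ (U : Z.left.Opens) (s : Γ(Z.left, U)), (πZ.left.appLE U U (hπZle U)).hom s = s ^ Nat.card k)
      (hPZ : Polynomial.eval₂ (Int.castRingHom (EndAV.End Z)) (EndAV.End.of πZ) Pv = 0),
      ∃ (n : ℕ) (ψ : Fin n → EndAV.Hom Z B), ∀ (T : Over (Spec (CommRingCat.of k))) (x y : T ⟶ Z),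
        (∀ i, x ≫ (ψ i).toHom = y ≫ (ψ i).toHom) → x = y) ∧
    (∀ (X Y : Over (Spec (CommRingCat.of k))) [GrpObj X] [IsCommMonObj X] [IsProper X.hom] [GeometricallyIntegral X.hom]
      [GrpObj Y] [IsCommMonObj Y] [IsProper Y.hom] [GeometricallyIntegral Y.hom]
      (πX : X ⟶ X) [IsMonHom πX] (hπXb : πX.left.base = 𝟙 _) (hπXle : ∀ U : X.left.Opens, U ≤ πX.left ⁻¹ᵁ U)
      (hπXapp : ∀ (U : X.left.Opens) (s : Γ(X.left, U)), (πX.left.appLE U U (hπXle U)).hom s = s ^ Nat.card k)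
      (hPX : Polynomial.eval₂ (Int.castRingHom (EndAV.End X)) (EndAV.End.of πX) Pv = 0)
      (πY : Y ⟶ Y) [IsMonHom πY] (hπYb : πY.left.base = 𝟙 _) (hπYle : ∀ U : Y.left.Opens, U ≤ πY.left ⁻¹ᵁ U)
      (hπYapp : ∀ (U : Y.left.Opens) (s : Γ(Y.left, U)), (πY.left.appLE U U (hπYle U)).hom s = s ^ Nat.card k)
      (hPY : Polynomial.eval₂ (Int.castRingHom (EndAV.End Y)) (EndAV.End.of πY) Pv = 0)
      (φ : EndAV.Hom X Y) [IsClosedImmersion φ.toHom.left] (f : EndAV.Hom X B), ∃ g : EndAV.Hom Y B, φ ≫ g = f) ∧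
    (∀ t : EndAV.Hom B B, ∃ s : EndAV.Hom A A, t ≫ j = j ≫ s) := by
  have eval0 : ∀ {Z : Over (Spec (CommRingCat.of k))} [GrpObj Z] [IsCommMonObj Z] (a : EndAV.End Z),
      Polynomial.eval₂ (Int.castRingHom (EndAV.End Z)) a Pv = 0 →
      Polynomial.eval₂ (Int.castRingHom (EndAV.End Z)) a Pw = 0 := by
    intro Z _ _ a h
    obtain ⟨q, rfl⟩ := hvw
    rw [Polynomial.eval₂_mul_noncomm _ _ (fun _ => Int.cast_commute _ _), h, zero_mul]
  have cancel : ∀ {Z : Over (Spec (CommRingCat.of k))} (a b : Z ⟶ B), a ≫ j.toHom = b ≫ j.toHom → a = b := by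
    intro Z a b h
    apply Over.OverMorphism.ext
    rw [← cancel_mono j.toHom.left]
    exact congrArg (fun t : Z ⟶ A => t.left) h
  refine ⟨?_, ?_, ?_⟩
  · intro Z _ _ _ _ πZ _ hb hle happ hP
    obtain ⟨n, ψ, hψ⟩ := hcog Z πZ hb hle happ (eval0 _ hP)
    choose f₀ hf₀ using fun i => hB Z πZ hb hle happ hP (ψ i)
    refine ⟨n, f₀, fun T x y h => hψ T x y fun i => ?_⟩
    rw [← hf₀ i, EndAV.Hom.toHom_comp, ← Category.assoc, ← Category.assoc, h i]
  · intro X Y _ _ _ _ _ _ _ _ πX _ hXb hXle hXapp hPX πY _ hYb hYle hYapp hPY φ _ f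
    obtain ⟨g, hg⟩ := hext X Y πX hXb hXle hXapp (eval0 _ hPX) πY hYb hYle hYapp (eval0 _ hPY) φ (f ≫ j)
    obtain ⟨g₀, hg₀⟩ := hB Y πY hYb hYle hYapp hPY g
    refine ⟨g₀, EndAV.Hom.ext (cancel _ _ ?_)⟩
    rw [← EndAV.Hom.toHom_comp, ← EndAV.Hom.toHom_comp, Category.assoc, hg₀, hg]
  · intro t
    obtain ⟨s, hs⟩ := hext B A πB hπBb hπBle hπBapp (eval0 _ hPB) πA hπAb hπAle hπAapp hPA j (t ≫ j)
    exact ⟨s, hs.symm⟩

end Groth.Agent.S16392
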