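import Groth.Statements.S16393
import Groth.Agent.L26.Cogen.Sep

set_option autoImplicit false
universe u
open CategoryTheory MonoidalCategory CartesianMonoidalCategory MonObj GrpObj AlgebraicGeometry
open AbVar

namespace Groth.Agent.S16393

open CategoryTheory.Limits Groth.Agent.AV Groth.Agent.AV.Cogen

/-- (a₁) ⇒ (b₁): let k be a finite field with q elements and fix a polynomial P with integer
coefficients. Work with abelian varieties over k (proper, geometrically integral commutative group
schemes over k) with their q-Frobenius endomorphism π (identity on points, q-th power on sections; a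
homomorphism) such that P(π) = 0 in the endomorphism ring (for suitable P: the abelian varieties
with Weil support in a given finite set of Weil q-numbers); let A be one of them. Assume (a₁): the
functor X ↦ Hom(X, A), with values in left End(A)-modules (End(A) acting by postcomposition), is
fully faithful on these abelian varieties — for such X, Y, two homomorphisms X → Y agreeing after
composition with every homomorphism Y → A are equal, and every additive End(A)-linear map Hom(Y, A)
→ Hom(X, A) is precomposition with a homomorphism X → Y. Then (b₁): for such X and every finite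
closed subgroup scheme H ⊆ X, H equals the common kernel of the homomorphisms X → A vanishing on H;
on points: a T-valued point of X over k which is sent to the unit by every homomorphism X → A
killing H factors through H. -/
theorem result
    (k : Type u) [Field k] [Finite k]
    (P : Polynomial ℤ) (A : Over (Spec (CommRingCat.of k))) [GrpObj A] [IsCommMonObj A] [IsProper A.hom] [GeometricallyIntegral A.hom]
    (πA : A ⟶ A) [IsMonHom πA] (hπAb : πA.left.base = 𝟙 _) (hπAle : ∀ U : A.left.Opens, U ≤ πA.left ⁻¹ᵁ U)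
      (hπAapp : ∀ (U : A.left.Opens) (s : Γ(A.left, U)), (πA.left.appLE U U (hπAle U)).hom s = s ^ Nat.card k)
    (hPA : Polynomial.eval₂ (Int.castRingHom (EndAV.End A)) (EndAV.End.of πA) P = 0)
    (hff : ∀ (X Y : Over (Spec (CommRingCat.of k))) [GrpObj X] [IsCommMonObj X] [IsProper X.hom] [GeometricallyIntegral X.hom]
      [GrpObj Y] [IsCommMonObj Y] [IsProper Y.hom] [GeometricallyIntegral Y.hom]
      (πX : X ⟶ X) [IsMonHom πX] (hπXb : πX.left.base = 𝟙 _) (hπXle : ∀ U : X.left.Opens, U ≤ πX.left ⁻¹ᵁ U)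
      (hπXapp : ∀ (U : X.left.Opens) (s : Γ(X.left, U)), (πX.left.appLE U U (hπXle U)).hom s = s ^ Nat.card k)
      (hPX : Polynomial.eval₂ (Int.castRingHom (EndAV.End X)) (EndAV.End.of πX) P = 0)
      (πY : Y ⟶ Y) [IsMonHom πY] (hπYb : πY.left.base = 𝟙 _) (hπYle : ∀ U : Y.left.Opens, U ≤ πY.left ⁻¹ᵁ U)
      (hπYapp : ∀ (U : Y.left.Opens) (s : Γ(Y.left, U)), (πY.left.appLE U U (hπYle U)).hom s = s ^ Nat.card k)
      (hPY : Polynomial.eval₂ (Int.castRingHom (EndAV.End Y)) (EndAV.End.of πY) P = 0),
      (∀ f g : EndAV.Hom X Y, (∀ φ : EndAV.Hom Y A, f ≫ φ = g ≫ φ) → f = g) ∧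
        (∀ g : EndAV.Hom Y A →+ EndAV.Hom X A,
          (∀ (φ : EndAV.Hom Y A) (s : EndAV.Hom A A), g (φ ≫ s) = g φ ≫ s) →
            ∃ f : EndAV.Hom X Y, ∀ φ : EndAV.Hom Y A, g φ = f ≫ φ))
    (X : Over (Spec (CommRingCat.of k))) [GrpObj X] [IsCommMonObj X] [IsProper X.hom] [GeometricallyIntegral X.hom]
    (πX : X ⟶ X) [IsMonHom πX] (hπXb : πX.left.base = 𝟙 _) (hπXle : ∀ U : X.left.Opens, U ≤ πX.left ⁻¹ᵁ U)
      (hπXapp : ∀ (U : X.left.Opens) (s : Γ(X.left, U)), (πX.left.appLE U U (hπXle U)).hom s = s ^ Nat.card k)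
    (hPX : Polynomial.eval₂ (Int.castRingHom (EndAV.End X)) (EndAV.End.of πX) P = 0)
    (H : Over (Spec (CommRingCat.of k))) [GrpObj H] [IsFinite H.hom] (i : H ⟶ X) [IsMonHom i] [IsClosedImmersion i.left]
    (T : Over (Spec (CommRingCat.of k))) (x : T ⟶ X)
    (hx : ∀ f : EndAV.Hom X A, i ≫ f.toHom = 1 → x ≫ f.toHom = 1) :
    ∃ y : T ⟶ H, y ≫ i = x := by
  have hA : InP P A := inP_of (isFr_of hπAb hπAle hπAapp) hPA
  have hX : InP P X := inP_of (isFr_of hπXb hπXle hπXapp) hPX
  have hff' : FF P A := by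
    intro U V _ _ _ _ _ _ _ _ hU hV
    obtain ⟨a, _, hle, hb, happ, hfr⟩ := exists_fr U
    obtain ⟨a', _, hle', hb', happ', hfr'⟩ := exists_fr V
    exact hff U V a hb hle happ (hU a hfr) a' hb' hle' happ' (hV a' hfr')
  obtain ⟨Q, _, _, _, _, q, hQ, hker, _⟩ := exists_quot i hX
  have hiq : i ≫ q.toHom = 1 := hker.w.trans Hom.one_def.symm
  have hy : x ≫ q.toHom = 1 := separation A hA hff' Q hQ T _ fun φ => by
    rw [Category.assoc, ← EndAV.Hom.toHom_comp]
    exact hx (q ≫ φ) (by rw [EndAV.Hom.toHom_comp, ← Category.assoc, hiq, MonObj.one_comp])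
  obtain ⟨y, hy', -⟩ := hker.exists_lift x (toUnit T) (hy.trans Hom.one_def)
  exact ⟨y, hy'⟩

end Groth.Agent.S16393
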