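import Groth.Statements.S16394
import Groth.Agent.S4362

set_option autoImplicit false
universe u
open CategoryTheory MonoidalCategory CartesianMonoidalCategory MonObj GrpObj AlgebraicGeometry
open AbVar

namespace Groth.Agent.S16394

open CategoryTheory CategoryTheory.Limits MonoidalCategory CartesianMonoidalCategory MonObj

/-- (b₁) ⇒ (c₁): let k be a finite field and X, A abelian varieties over k (proper, geometrically
integral commutative group schemes over k). Suppose the common kernel of all homomorphisms X → A is
trivial: every T-valued point of X over k that is sent to the unit by every homomorphism X → A is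
the unit point (this is condition (b₁) for the trivial subgroup). Then there are finitely many
homomorphisms ψ_1, …, ψ_n : X → A which are jointly monomorphic on T-valued points — two T-valued
points of X with the same image under every ψ_i are equal — so that (ψ_i) is an injective
homomorphism X → A^n. The published statement restricts X and A to abelian varieties whose Frobenius
is killed by a fixed polynomial; this row has no such restriction. -/
theorem result
    (k : Type u) [Field k] [Finite k] (X A : Over (Spec (CommRingCat.of k))) [GrpObj X] [IsCommMonObj X] [IsProper X.hom] [GeometricallyIntegral X.hom]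
    [GrpObj A] [IsCommMonObj A] [IsProper A.hom] [GeometricallyIntegral A.hom]
    (hsep : ∀ (T : Over (Spec (CommRingCat.of k))) (x : T ⟶ X), (∀ f : EndAV.Hom X A, x ≫ f.toHom = 1) → x = 1) :
    ∃ (n : ℕ) (ψ : Fin n → EndAV.Hom X A), ∀ (T : Over (Spec (CommRingCat.of k))) (x y : T ⟶ X),
      (∀ i, x ≫ (ψ i).toHom = y ≫ (ψ i).toHom) → x = y := by
  classical
  let Ker : EndAV.Hom X A → Over (Spec (CommRingCat.of k)) := fun f => pullback f.toHom η[A]
  let incl : ∀ f, Ker f ⟶ X := fun f => pullback.fst f.toHom η[A]
  have hsq : ∀ f, IsPullback (incl f) (pullback.snd f.toHom η[A]) f.toHom η[A] := fun f =>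
    IsPullback.of_hasPullback _ _
  haveI : ∀ f, IsClosedImmersion (incl f).left := fun f => by
    haveI : IsClosedImmersion (η[A]).left := by
      haveI : IsClosedImmersion ((η[A]).left ≫ A.hom) := by
        rw [Over.w]; exact inferInstanceAs (IsClosedImmersion (𝟙 _))
      exact IsClosedImmersion.of_comp _ A.hom
    exact MorphismProperty.of_isPullback (P := @IsClosedImmersion) ((hsq f).map (Over.forget _)).flip ‹IsClosedImmersion (η[A]).left›
  have hfac : ∀ (f : EndAV.Hom X A) {T : Over (Spec (CommRingCat.of k))} (d : T ⟶ X),
      (incl f).left.ker ≤ d.left.ker ↔ d ≫ f.toHom = 1 := by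
    intro f T d
    constructor
    · intro h
      have e := IsClosedImmersion.lift_fac (incl f).left d.left h
      let z : T ⟶ Ker f := Over.homMk (IsClosedImmersion.lift (incl f).left d.left h) (by
        rw [← Over.w (incl f), ← Category.assoc, e, Over.w])
      have hz : z ≫ incl f = d := Over.OverMorphism.ext e
      rw [← hz, Category.assoc, (hsq f).w, ← Category.assoc, Hom.one_def,
        toUnit_unique (z ≫ pullback.snd f.toHom η[A]) (toUnit _)]
    · intro h
      have hw : d ≫ f.toHom = toUnit T ≫ η[A] := by rw [h, Hom.one_def]
      rw [← (hsq f).lift_fst d (toUnit T) hw]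
      exact Scheme.Hom.le_ker_comp _ _
  haveI : IsLocallyNoetherian X.left := LocallyOfFiniteType.isLocallyNoetherian X.hom
  haveI : CompactSpace ↥X.left := QuasiCompact.compactSpace_of_compactSpace X.hom
  haveI : IsNoetherian X.left := {}
  haveI := Groth.Agent.S4362.result X.left
  let I : Finset (EndAV.Hom X A) → X.left.IdealSheafData := fun s => s.sup fun f => (incl f).left.ker
  obtain ⟨J, ⟨s, rfl⟩, hmax⟩ := WellFounded.has_min (wellFounded_gt (α := X.left.IdealSheafData))
    (Set.range I) ⟨_, ∅, rfl⟩
  have hall : ∀ f, (incl f).left.ker ≤ I s := by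
    intro f
    have h1 : I s ≤ I (insert f s) := Finset.sup_mono (Finset.subset_insert _ _)
    have h2 : (incl f).left.ker ≤ I (insert f s) :=
      Finset.le_sup (f := fun f => (incl f).left.ker) (Finset.mem_insert_self _ _)
    rcases h1.eq_or_lt with h3 | h3
    · exact h2.trans h3.ge
    · exact absurd h3 (hmax _ ⟨_, rfl⟩)
  refine ⟨s.card, fun i => (s.equivFin.symm i).1, fun T x y hxy => ?_⟩
  have hd : ∀ f ∈ s, (x * y⁻¹) ≫ f.toHom = 1 := by
    intro f hf
    have h := hxy (s.equivFin ⟨f, hf⟩)
    simp only [Equiv.symm_apply_apply] at h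
    rw [MonObj.mul_comp, GrpObj.inv_comp, h, mul_inv_cancel]
  have hI : I s ≤ (x * y⁻¹).left.ker := Finset.sup_le fun f hf => (hfac f _).2 (hd f hf)
  have h1 := hsep T (x * y⁻¹) fun f => (hfac f _).1 ((hall f).trans hI)
  exact mul_inv_eq_one.1 h1

end Groth.Agent.S16394
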