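import Groth.Statements.S16395
import Groth.Agent.L26.Cogen.Sep

set_option autoImplicit false
universe u
open CategoryTheory MonoidalCategory CartesianMonoidalCategory MonObj GrpObj AlgebraicGeometry
open AbVar

namespace Groth.Agent.S16395

open CategoryTheory.Limits Groth.Agent.AV Groth.Agent.AV.Cogen

/-- (a) ⇒ (b₂): let k be a finite field with q elements and fix a polynomial P with integer
coefficients. Work with abelian varieties over k (proper, geometrically integral commutative group
schemes over k) with their q-Frobenius endomorphism π (identity on points, q-th power on sections; a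
homomorphism) such that P(π) = 0 in the endomorphism ring (for suitable P: the abelian varieties
with Weil support in a given finite set of Weil q-numbers); let A be one of them and S = End(A)
(product = composition), acting on each Hom(X, A) by postcomposition. Assume (a): the functor X ↦
Hom(X, A) is an anti-equivalence from these abelian varieties onto left S-modules free of finite
rank over ℤ — (a₁) for such X, Y, homomorphisms X → Y agreeing after composition with every
homomorphism Y → A are equal and every additive S-linear map Hom(Y, A) → Hom(X, A) is precomposition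
with a homomorphism X → Y; (a₂) every left S-module whose additive group is free of finite rank over
ℤ is additively and S-linearly isomorphic to Hom(Y, A) for some such Y. Then (b₂): for every such X
and every additive subgroup M ⊆ Hom(X, A) of finite index stable under postcomposition with
endomorphisms of A, a homomorphism f : X → A lies in M as soon as it kills the common kernel of M,
i.e. every T-valued point of X over k sent to the unit by all members of M is sent to the unit by f. -/
theorem result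
    (k : Type u) [Field k] [Finite k]
    (P : Polynomial ℤ) (A : Over (Spec (CommRingCat.of k))) [GrpObj A] [IsCommMonObj A] [IsProper A.hom] [GeometricallyIntegral A.hom]
    (πA : A ⟶ A) [IsMonHom πA] (hπAb : πA.left.base = 𝟙 _) (hπAle : ∀ U : A.left.Opens, U ≤ πA.left ⁻¹ᵁ U)
      (hπAapp : ∀ (U : A.left.Opens) (s : Γ(A.left, U)), (πA.left.appLE U U (hπAle U)).hom s = s ^ Nat.card k)
    (hPA : Polynomial.eval₂ (Int.castRingHom (EndAV.End A)) (EndAV.End.of πA) P = 0)
    (hff : ∀ (X Y : Over (Spec (CommRingCat.of k))) [GrpObj X] [IsCommMonObj X] [IsProper X.hom] [GeometricallyIntegral X.hom]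
      [GrpObj Y] [IsCommMonObj Y] [IsProper Y.hom] [GeometricallyIntegral Y.hom]
      (πX : X ⟶ X) [IsMonHom πX] (hπXb : πX.left.base = 𝟙 _) (hπXle : ∀ U : X.left.Opens, U ≤ πX.left ⁻¹ᵁ U)
      (hπXapp : ∀ (U : X.left.Opens) (s : Γ(X.left, U)), (πX.left.appLE U U (hπXle U)).hom s = s ^ Nat.card k)
      (hPX : Polynomial.eval₂ (Int.castRingHom (EndAV.End X)) (EndAV.End.of πX) P = 0)
      (πY : Y ⟶ Y) [IsMonHom πY] (hπYb : πY.left.base = 𝟙 _) (hπYle : ∀ U : Y.left.Opens, U ≤ πY.left ⁻¹ᵁ U)
      (hπYapp : ∀ (U : Y.left.Opens) (s : Γ(Y.left, U)), (πY.left.appLE U U (hπYle U)).hom s = s ^ Nat.card k)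
      (hPY : Polynomial.eval₂ (Int.castRingHom (EndAV.End Y)) (EndAV.End.of πY) P = 0),
      (∀ f g : EndAV.Hom X Y, (∀ φ : EndAV.Hom Y A, f ≫ φ = g ≫ φ) → f = g) ∧
        (∀ g : EndAV.Hom Y A →+ EndAV.Hom X A,
          (∀ (φ : EndAV.Hom Y A) (s : EndAV.Hom A A), g (φ ≫ s) = g φ ≫ s) →
            ∃ f : EndAV.Hom X Y, ∀ φ : EndAV.Hom Y A, g φ = f ≫ φ))
    (hes : ∀ (M : Type u) [AddCommGroup M] [Module (EndAV.End A) M] [Module.Finite ℤ M] [Module.Free ℤ M],
      ∃ (Y : Over (Spec (CommRingCat.of k))) (_ : GrpObj Y) (_ : IsCommMonObj Y) (_ : IsProper Y.hom)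
        (_ : GeometricallyIntegral Y.hom) (πY : Y ⟶ Y) (_ : IsMonHom πY) (_ : πY.left.base = 𝟙 _)
        (hπYle : ∀ U : Y.left.Opens, U ≤ πY.left ⁻¹ᵁ U)
        (_ : ∀ (U : Y.left.Opens) (s : Γ(Y.left, U)), (πY.left.appLE U U (hπYle U)).hom s = s ^ Nat.card k)
        (_ : Polynomial.eval₂ (Int.castRingHom (EndAV.End Y)) (EndAV.End.of πY) P = 0)
        (e : M ≃+ EndAV.Hom Y A), ∀ (s : EndAV.End A) (m : M), (e (s • m)).toHom = (e m).toHom ≫ s.toHom)
    (X : Over (Spec (CommRingCat.of k))) [GrpObj X] [IsCommMonObj X] [IsProper X.hom] [GeometricallyIntegral X.hom]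
    (πX : X ⟶ X) [IsMonHom πX] (hπXb : πX.left.base = 𝟙 _) (hπXle : ∀ U : X.left.Opens, U ≤ πX.left ⁻¹ᵁ U)
      (hπXapp : ∀ (U : X.left.Opens) (s : Γ(X.left, U)), (πX.left.appLE U U (hπXle U)).hom s = s ^ Nat.card k)
    (hPX : Polynomial.eval₂ (Int.castRingHom (EndAV.End X)) (EndAV.End.of πX) P = 0)
    (M : AddSubgroup (EndAV.Hom X A)) (hM : M.FiniteIndex) (hMS : ∀ r ∈ M, ∀ s : EndAV.Hom A A, r ≫ s ∈ M)
    (f : EndAV.Hom X A)
    (hf : ∀ (T : Over (Spec (CommRingCat.of k))) (x : T ⟶ X), (∀ r ∈ M, x ≫ EndAV.Hom.toHom r = 1) → x ≫ f.toHom = 1) :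
    f ∈ M := by
  have hA : InP P A := inP_of (isFr_of hπAb hπAle hπAapp) hPA
  have hX : InP P X := inP_of (isFr_of hπXb hπXle hπXapp) hPX
  have hff' : FF P A := by
    intro U V _ _ _ _ _ _ _ _ hU hV
    obtain ⟨a, _, hle, hb, happ, hfr⟩ := exists_fr U
    obtain ⟨a', _, hle', hb', happ', hfr'⟩ := exists_fr V
    exact hff U V a hb hle happ (hU a hfr) a' hb' hle' happ' (hV a' hfr')
  obtain ⟨gX, -, hgX⟩ := Groth.L08.GrpDim.exists_dim X
  obtain ⟨gA, -, hgA⟩ := Groth.L08.GrpDim.exists_dim A
  obtain ⟨hfree, hfin, -⟩ := HomFin.finite_free k X A hgX hgA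
  haveI := hfree
  haveI := hfin
  let N : AddSubgroup (EndAV.Hom X A) := M
  letI : SMul (EndAV.End A) N := ⟨fun s m => ⟨m.1 ≫ asHom s, hMS _ m.2 _⟩⟩
  letI : Module (EndAV.End A) N :=
    { one_smul := fun m => Subtype.ext (Category.comp_id _)
      mul_smul := fun s t m => Subtype.ext (Category.assoc _ _ _).symm
      smul_zero := fun s => Subtype.ext Limits.zero_comp
      smul_add := fun s m m' => Subtype.ext (Preadditive.add_comp _ _ _ _ _ _)
      add_smul := fun s t m => Subtype.ext (Preadditive.comp_add _ _ _ _ _ _)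
      zero_smul := fun m => Subtype.ext Limits.comp_zero }
  haveI : IsNoetherian ℤ (EndAV.Hom X A) := inferInstance
  haveI : Module.Finite ℤ N := Module.Finite.of_injective N.subtype.toIntLinearMap Subtype.val_injective
  haveI : Module.IsTorsionFree ℤ N :=
    Function.Injective.moduleIsTorsionFree (Subtype.val) Subtype.val_injective (fun _ _ => rfl)
  haveI : Module.Free ℤ N := Module.free_of_finite_type_torsion_free'
  obtain ⟨Y, _, _, _, _, πY, _, hYb, hYle, hYapp, hPY, e, he⟩ := hes N
  have hY : InP P Y := inP_of (isFr_of hYb hYle hYapp) hPY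
  have he' : ∀ (s : EndAV.End A) (m : N), e (s • m) = e m ≫ asHom s := fun s m => EndAV.Hom.ext (he s m)
  obtain ⟨u, hu⟩ := (hff' X Y hX hY).2 (N.subtype.comp e.symm.toAddMonoidHom) fun φ s => by
    obtain ⟨m, rfl⟩ := e.surjective φ
    show (e.symm (e m ≫ s)).1 = (e.symm (e m)).1 ≫ s
    rw [← show e ((show EndAV.End A from s) • m) = e m ≫ s from he' s m]
    simp only [AddEquiv.symm_apply_apply]
    rfl
  have hu' : ∀ m : N, m.1 = u ≫ e m := fun m => by
    rw [← hu (e m)]
    simp
  obtain ⟨C, _, _, _, _, p, j, hC, hpj, _, _, _, _, _, _⟩ := exists_img u hX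
  -- the image is everything
  obtain ⟨Q, _, _, _, _, q, hQ, hker, _⟩ := exists_quot j.toHom hY
  have hjq : j ≫ q = 0 := EndAV.Hom.ext (hker.w.trans Hom.one_def.symm)
  have hq1 : q.toHom = 1 := separation A hA hff' Q hQ Y q.toHom fun φ => by
    obtain ⟨m, hm⟩ := e.surjective (q ≫ φ)
    have : m.1 = 0 := by
      rw [hu', hm, ← hpj, Category.assoc, reassoc_of% hjq, Limits.zero_comp, Limits.comp_zero]
    rw [← EndAV.Hom.toHom_comp, ← hm, show m = 0 from Subtype.ext this, map_zero, EndAV.Hom.toHom_zero]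
  obtain ⟨r, hr, -⟩ := hker.exists_lift (𝟙 Y) (toUnit Y) (by rw [Category.id_comp, hq1, Hom.one_def])
  haveI : IsMonHom r := Groth.Agent.AV.isMonHom_of_one r (by
    rw [← cancel_mono j.toHom, Category.assoc, hr, Category.comp_id, IsMonHom.one_hom])
  have hrj : EndAV.Hom.of r ≫ j = 𝟙 (CommGrp.mk Y) := EndAV.Hom.ext hr
  obtain ⟨f', hf'⟩ := exists_desc p f fun T x hx => hf T x fun m hm => by
    rw [show m = u ≫ e ⟨m, hm⟩ from hu' ⟨m, hm⟩, ← hpj, Category.assoc, EndAV.Hom.toHom_comp, ← Category.assoc, hx,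
      MonObj.one_comp]
  obtain ⟨m, hm⟩ := e.surjective (EndAV.Hom.of r ≫ f')
  have hjr : j ≫ EndAV.Hom.of r = 𝟙 (CommGrp.mk C) := EndAV.Hom.ext ((cancel_mono j.toHom).1 (by
    rw [EndAV.Hom.toHom_comp, Category.assoc, show (EndAV.Hom.of r).toHom ≫ j.toHom = 𝟙 Y from hr, Category.comp_id,
      EndAV.Hom.toHom_id, Category.id_comp]))
  have : f = m.1 := by
    rw [hu', hm, ← hpj, Category.assoc, reassoc_of% hjr, hf']
  exact this ▸ m.2

end Groth.Agent.S16395
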