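import Groth.Statements.S16396
import Mathlib.Algebra.Polynomial.Derivative
import Mathlib.Algebra.Algebra.Subalgebra.Basic
import Mathlib.Tactic.Positivity
import Mathlib.Algebra.Algebra.Rat

set_option autoImplicit false
universe u
open CAlg

namespace Groth.Agent.S16396

open Polynomial in
/-- For a commutative ℚ-algebra A, a ℚ-subalgebra B of the polynomial algebra A[X] that contains X and
is closed under d/dX consists exactly of the polynomials each of whose coefficients is the value at
0 of some element of B; in other words B = ev(B)[X], with ev the evaluation at 0. -/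
theorem result
    (A : Type u) [CommRing A] [Algebra ℚ A] (B : Subalgebra ℚ A[X])
    (hX : (X : A[X]) ∈ B) (hD : ∀ P ∈ B, Polynomial.derivative P ∈ B) (P : A[X]) :
    P ∈ B ↔ ∀ i : ℕ, ∃ Q ∈ B, Polynomial.eval 0 Q = P.coeff i := by
  classical
  have hsmul : ∀ (r : ℚ) (a : A) (i : ℕ), C a ∈ B → C (r • a) * X ^ i ∈ B := fun r a i ha => by
    rw [← Polynomial.smul_C, smul_mul_assoc]
    exact B.smul_mem (B.mul_mem ha (B.pow_mem hX i)) r
  have hlem : ∀ d : ℕ, ∀ Q ∈ B, Q.natDegree ≤ d → ∀ i, C (Q.coeff i) ∈ B := by
    intro d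
    induction d with
    | zero =>
      intro Q hQ hd i
      have hC : Q = C (Q.coeff 0) := eq_C_of_natDegree_le_zero hd
      cases i with
      | zero => rw [← hC]; exact hQ
      | succ i => rw [hC, coeff_C, if_neg (Nat.succ_ne_zero i), C_0]; exact B.zero_mem
    | succ d ih =>
      intro Q hQ hd
      have hD := ih _ (hD Q hQ) ((natDegree_derivative_le Q).trans (by omega))
      have hhigh : ∀ i, C (Q.coeff (i + 1)) ∈ B := by
        intro i
        have h := hsmul ((i + 1 : ℚ)⁻¹) _ 0 (hD i)
        rw [coeff_derivative, pow_zero, mul_one] at h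
        have e : ((i : A) + 1) = algebraMap ℚ A (i + 1) := by simp
        rw [e, mul_comm, ← Algebra.smul_def, ← mul_smul, inv_mul_cancel₀ (by positivity), one_smul] at h
        exact h
      intro i
      cases i with
      | succ i => exact hhigh i
      | zero =>
        have hQ' : C (Q.coeff 0) = Q - ∑ i ∈ Finset.range Q.natDegree, C (Q.coeff (i + 1)) * X ^ (i + 1) := by
          conv_rhs => arg 1; rw [Q.as_sum_range_C_mul_X_pow, Finset.sum_range_succ']
          rw [pow_zero, mul_one]
          abel
        rw [hQ']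
        exact B.sub_mem hQ (B.sum_mem fun i _ => B.mul_mem (hhigh i) (B.pow_mem hX _))
  constructor
  · intro hP i
    exact ⟨C (P.coeff i), hlem _ P hP le_rfl i, eval_C⟩
  · intro h
    rw [P.as_sum_range_C_mul_X_pow]
    refine B.sum_mem fun i _ => B.mul_mem ?_ (B.pow_mem hX i)
    obtain ⟨Q, hQ, hQi⟩ := h i
    rw [← hQi, ← coeff_zero_eq_eval_zero]
    exact hlem _ Q hQ le_rfl 0

end Groth.Agent.S16396
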