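import Groth.Statements.S1665
import Groth.Agent.L02.KrullAkizuki
-- import your own Groth.Agent.* helpers here

set_option autoImplicit false
universe u
open Variety

namespace Groth.Agent.S1665

theorem pow_mul_mem {B B' F : Type u} [CommRing B] [IsDomain B] [Ring.DimensionLEOne B] [CommRing B'] [IsDomain B']
    [Field F] [Algebra B B'] [Algebra B' F] [Algebra B F] [IsScalarTower B B' F] [IsFractionRing B F]
    [Algebra.IsIntegral B B'] (hinj : Function.Injective (algebraMap B' F))
    (x : B') (hxj : x ∈ (⊥ : Ideal B').jacobson) (y : B') :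
    ∃ n : ℕ, algebraMap B' F (x ^ n * y) ∈ (algebraMap B F).range := by
  classical
  let C := Algebra.adjoin B ({x, y} : Set B')
  haveI : Module.Finite B C :=
    Algebra.finite_adjoin_of_finite_of_isIntegral (Set.toFinite _) fun z _ => Algebra.IsIntegral.isIntegral z
  haveI : Algebra.IsIntegral B C := Algebra.IsIntegral.of_finite B C
  haveI : Algebra.IsIntegral C B' := Algebra.IsIntegral.tower_top B
  haveI : Ring.DimensionLEOne C := Ring.DimensionLEOne.of_isIntegral B C
  obtain ⟨s, hs⟩ := Module.Finite.fg_top (R := B) (M := C)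
  obtain ⟨c, hc⟩ := IsLocalization.exist_integer_multiples_of_finite (nonZeroDivisors B)
    (fun z : s => algebraMap B' F (z.1 : B'))
  have hcC : ∀ z : C, ∃ b : B, algebraMap B F b = algebraMap B F c * algebraMap B' F z := fun z => by
    have hz : z ∈ Submodule.span B (s : Set C) := hs ▸ Submodule.mem_top
    induction hz using Submodule.span_induction with
    | mem z hz =>
      obtain ⟨b, hb⟩ := hc ⟨z, hz⟩
      exact ⟨b, hb.trans (Algebra.smul_def _ _)⟩
    | zero => exact ⟨0, by simp⟩
    | add u v _ _ hu hv =>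
      obtain ⟨a, ha⟩ := hu
      obtain ⟨b, hb⟩ := hv
      exact ⟨a + b, by rw [map_add, ha, hb, Subalgebra.coe_add, map_add]; ring⟩
    | smul a u _ hu =>
      obtain ⟨b, hb⟩ := hu
      exact ⟨a * b, by rw [map_mul, hb, Subalgebra.coe_smul, Algebra.smul_def, map_mul,
        ← IsScalarTower.algebraMap_apply]; ring⟩
  let x₀ : C := ⟨x, Algebra.subset_adjoin (by simp)⟩
  let y₀ : C := ⟨y, Algebra.subset_adjoin (by simp)⟩
  let c₀ : C := algebraMap B C c
  have hc0 : c₀ ≠ 0 := fun h => nonZeroDivisors.ne_zero c.2 (IsFractionRing.injective B F (by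
    rw [map_zero, IsScalarTower.algebraMap_apply B B' F]
    have := congr_arg (fun z : C => algebraMap B' F (z : B')) h
    simpa [c₀] using this))
  have hrad : x₀ ∈ (Ideal.span {c₀}).radical := by
    rw [Ideal.radical_eq_sInf, Submodule.mem_sInf]
    rintro P ⟨hle, hP⟩
    have hPne : P ≠ ⊥ := fun h => hc0 (by rw [h] at hle; simpa using hle)
    haveI := hP
    haveI : Ideal.IsMaximal P := Ideal.IsPrime.isMaximal hP hPne
    obtain ⟨Q, hQ, hQP⟩ := Ideal.exists_ideal_over_maximal_of_isIntegral (S := B') P
      (by rw [(RingHom.injective_iff_ker_eq_bot _).1 (Subtype.val_injective : Function.Injective (algebraMap C B'))]; exact bot_le)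
    rw [← hQP]
    exact Submodule.mem_sInf.1 hxj Q ⟨bot_le, hQ⟩
  obtain ⟨n, hn⟩ := hrad
  obtain ⟨w, hw⟩ := Ideal.mem_span_singleton'.1 hn
  obtain ⟨b, hb⟩ := hcC (w * y₀)
  refine ⟨n, b, hb.trans ?_⟩
  have hw' : (w : B') * algebraMap B B' c = x ^ n := congr_arg Subtype.val hw
  rw [← hw', Subalgebra.coe_mul, map_mul, map_mul, map_mul, ← IsScalarTower.algebraMap_apply]
  ring

/-- Let B be a Noetherian domain of dimension one with finitely many maximal ideals and B' its integral
closure in its fraction field. Then B' is a Dedekind domain with finitely many maximal ideals, and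
for every nonzero x in the Jacobson radical of B' and every y ∈ B' some power x^n satisfies x^n y ∈
B. -/
theorem result (B : Type u) [CommRing B] [IsDomain B] [IsNoetherianRing B]
    (hdim : ringKrullDim B = 1) (hsl : Finite (MaximalSpectrum B)) :
    IsDedekindDomain (integralClosure B (FractionRing B)) ∧ Finite (MaximalSpectrum (integralClosure B (FractionRing B))) ∧
      ∀ x : integralClosure B (FractionRing B), x ≠ 0 → x ∈ (⊥ : Ideal (integralClosure B (FractionRing B))).jacobson →
        ∀ y : integralClosure B (FractionRing B), ∃ n : ℕ, (x ^ n * y).1 ∈ (algebraMap B (FractionRing B)).range := by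
  classical
  let F := FractionRing B
  let B' := integralClosure B F
  haveI hB1 : Ring.DimensionLEOne B :=
    ⟨fun {I} hI hI' => Ring.krullDimLE_one_iff_of_noZeroDivisors.mp (Ring.krullDimLE_iff.2 hdim.le) I hI hI'⟩
  obtain ⟨hded, -, hfib, -⟩ := Groth.L02.KrullAkizuki.main (A := B) (B := B') F F
  refine ⟨hded, ?_, fun x hx0 hxj y => ?_⟩
  · haveI : Algebra.IsIntegral B B' := IsIntegralClosure.isIntegral_algebra B F
    let r : MaximalSpectrum B' → MaximalSpectrum B := fun Q =>
      ⟨Q.asIdeal.comap (algebraMap B B'), Ideal.isMaximal_comap_of_isIntegral_of_isMaximal Q.asIdeal⟩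
    refine (Set.finite_univ_iff).1 ?_
    refine (Set.finite_iUnion (ι := MaximalSpectrum B) fun q => (hfib q.toPrimeSpectrum).preimage
      (f := MaximalSpectrum.toPrimeSpectrum) MaximalSpectrum.toPrimeSpectrum_injective.injOn).subset fun Q _ => ?_
    exact Set.mem_iUnion.2 ⟨r Q, PrimeSpectrum.ext rfl⟩
  · haveI : Algebra.IsIntegral B B' := IsIntegralClosure.isIntegral_algebra B F
    exact pow_mul_mem (F := F) Subtype.val_injective x hxj y

end Groth.Agent.S1665
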