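import Groth.Statements.S1640
import Groth.Agent.S1665
import Mathlib.RingTheory.DedekindDomain.AdicValuation
import Mathlib.RingTheory.Localization.FractionRing
import Mathlib.RingTheory.KrullDimension.Field

set_option autoImplicit false
universe u
open Variety

namespace Groth.Agent.S1640

theorem combine {K : Type u} [Field K] {ι : Type u} (A : Subring K)
    (w : ι → Valuation K (WithZero (Multiplicative ℤ))) (t : Finset ι) (h : ∀ j ∈ t, ∃ a ∈ A, 1 < w j a) :
    ∃ x ∈ A, x ≠ 0 ∧ ∀ j ∈ t, 1 < w j x := by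
  classical
  induction t using Finset.induction with
  | empty => exact ⟨1, A.one_mem, one_ne_zero, fun j hj => absurd hj (Finset.notMem_empty j)⟩
  | @insert j s hjs ih =>
    obtain ⟨x, hxA, hx0, hx⟩ := ih fun l hl => h l (Finset.mem_insert_of_mem hl)
    by_cases hj : 1 < w j x
    · exact ⟨x, hxA, hx0, fun l hl => (Finset.mem_insert.1 hl).elim (fun e => e ▸ hj) (hx l)⟩
    obtain ⟨a, haA, ha⟩ := h j (Finset.mem_insert_self _ _)
    have hN : ∀ l ∈ s, ∃ N : ℕ, w l a < w l x ^ N := fun l hl => by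
      obtain ⟨N, hN⟩ := MulArchimedean.arch (w l a) (hx l hl)
      exact ⟨N + 1, lt_of_le_of_lt hN (pow_lt_pow_right₀ (hx l hl) (Nat.lt_succ_self N))⟩
    choose N hN using hN
    let M := ∑ l ∈ s.attach, N l.1 l.2 + 1
    have hM : ∀ l ∈ s, w l a < w l (x ^ M) := fun l hl => by
      rw [map_pow]
      have h2 : N l hl ≤ ∑ m ∈ s.attach, N m.1 m.2 := Finset.single_le_sum
        (f := fun m : {m // m ∈ s} => N m.1 m.2) (fun _ _ => Nat.zero_le _) (Finset.mem_attach s ⟨l, hl⟩)
      exact lt_of_lt_of_le (hN l hl) (pow_le_pow_right₀ (hx l hl).le (le_trans h2 (Nat.le_succ _)))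
    have hlast : 1 < w j (x ^ M + a) := by
      rw [(w j).map_add_eq_of_lt_right ?_]
      · exact ha
      · rw [map_pow]
        exact lt_of_le_of_lt (pow_le_one' (not_lt.1 hj) M) ha
    refine ⟨x ^ M + a, A.add_mem (A.pow_mem hxA M) haA, fun h0 => ?_, fun l hl => ?_⟩
    · rw [h0, map_zero] at hlast
      exact not_lt_zero' hlast
    rcases Finset.mem_insert.1 hl with rfl | hl
    · exact hlast
    · rw [(w l).map_add_eq_of_lt_left (hM l hl)]
      rw [map_pow]
      exact one_lt_pow₀ (hx l hl) (Nat.succ_ne_zero _)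

theorem main_one (B L : Type u) [CommRing B] [IsDomain B] [IsNoetherianRing B] [Field L] [Algebra B L]
    [IsDedekindDomain (integralClosure B L)] [IsFractionRing (integralClosure B L) L]
    (hJ : ∀ x : integralClosure B L, x ∈ (⊥ : Ideal (integralClosure B L)).jacobson → x ≠ 0 →
      ∀ y : integralClosure B L, ∃ n : ℕ, (x ^ n * y).1 ∈ (algebraMap B L).range)
    (hnf : ¬ IsField (integralClosure B L))
    (hinj : Function.Injective (algebraMap B L)) (z : L) (hz0 : z ≠ 0)
    (hz : ∀ v : IsDedekindDomain.HeightOneSpectrum (integralClosure B L), v.valuation L z < 1) :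
    ∃ N : ℕ, 0 < N ∧ ∀ m : ℕ, 0 < m → N ∣ m →
      ∃ b : B, algebraMap B L b = z ^ m ∧ b ∈ (⊥ : Ideal B).jacobson := by
  obtain ⟨x, hx⟩ := IsDedekindDomain.HeightOneSpectrum.mem_integers_of_valuation_le_one
    (R := integralClosure B L) L z fun v => (hz v).le
  have hmem : ∀ v : IsDedekindDomain.HeightOneSpectrum (integralClosure B L), x ∈ v.asIdeal := fun v => by
    rw [← v.valuation_lt_one_iff_mem (K := L)]
    exact lt_of_eq_of_lt (congrArg _ hx) (hz v)
  have hxJ : x ∈ (⊥ : Ideal (integralClosure B L)).jacobson := by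
    rw [Ideal.jacobson, Submodule.mem_sInf]
    intro m hm
    have hm0 : m ≠ ⊥ := Ring.ne_bot_of_isMaximal_of_not_isField hm.2 hnf
    exact hmem ⟨m, hm.2.isPrime, hm0⟩
  have hx0 : x ≠ 0 := fun h => hz0 (by rw [← hx, h, map_zero])
  obtain ⟨n, hn⟩ := hJ x hxJ hx0 x
  refine ⟨n + 1, n.succ_pos, fun m hm ⟨q, hq⟩ => ?_⟩
  obtain ⟨b, hb⟩ := hn
  refine ⟨b ^ q, ?_, ?_⟩
  · rw [map_pow, hb, hq, pow_mul, ← hx]
    exact congrArg (· ^ q) ((congrArg Subtype.val (pow_succ x n).symm).trans (map_pow (algebraMap (integralClosure B L) L) x (n + 1)))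
  · refine Ideal.pow_mem_of_mem _ ?_ q (Nat.pos_of_ne_zero fun h => by rw [h, mul_zero] at hq; omega)
    rw [Ideal.jacobson, Submodule.mem_sInf]
    intro P hP
    haveI := hP.2
    have hker : RingHom.ker (algebraMap B (integralClosure B L)) ≤ P := by
      intro a ha
      have : algebraMap B L a = 0 := congrArg Subtype.val (RingHom.mem_ker.1 ha)
      rw [(injective_iff_map_eq_zero _).1 hinj a this]
      exact P.zero_mem
    obtain ⟨Q, hQm, hQ⟩ := Ideal.exists_ideal_over_maximal_of_isIntegral (S := integralClosure B L) P hker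
    have h1 : algebraMap B (integralClosure B L) b = x ^ n * x := Subtype.ext hb
    have hxQ : x ∈ Q := (show (⊥ : Ideal (integralClosure B L)).jacobson ≤ Q from sInf_le ⟨bot_le, hQm⟩) hxJ
    rw [← hQ, Ideal.mem_comap, h1]
    exact Q.mul_mem_left _ hxQ


/-- Let K be a field, A ⊆ K a subring with fraction field K, and B_1, …, B_r ⊆ K Noetherian
one-dimensional subrings with finitely many maximal ideals and fraction field K, such that for each
i the subring generated by A and B_i is all of K. Then some nonzero x ∈ A has x⁻¹ lying in B_i and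
in the Jacobson radical of B_i for every i. -/
theorem result (K : Type u) [Field K] (A : Subring K) [IsFractionRing A K]
    (r : ℕ) (B : Fin r → Subring K) [∀ i, IsNoetherianRing (B i)] [∀ i, IsFractionRing (B i) K]
    (hdim : ∀ i, ringKrullDim (B i) = 1) (hsl : ∀ i, Finite (MaximalSpectrum (B i)))
    (hgen : ∀ i, A ⊔ B i = ⊤) :
    ∃ x : K, x ∈ A ∧ x ≠ 0 ∧ ∀ i, ∃ hx : x⁻¹ ∈ B i, (⟨x⁻¹, hx⟩ : B i) ∈ (⊥ : Ideal (B i)).jacobson := by
  classical
  let F := fun i => FractionRing (B i)
  let B' := fun i => integralClosure (B i) (F i)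
  have h65 := fun i => Groth.Agent.S1665.result (B i) (hdim i) (hsl i)
  haveI : ∀ i, IsDedekindDomain (B' i) := fun i => (h65 i).1
  haveI : ∀ i, IsFractionRing (B' i) (F i) := fun i =>
    integralClosure.isFractionRing_of_finite_extension (A := B i) (F i) (F i)
  have hnf : ∀ i, ¬ IsField (B' i) := fun i h => by
    have hf : IsField (B i) := isField_of_isIntegral_of_isField
      (fun a b hab => IsFractionRing.injective (B i) (F i) (congrArg Subtype.val hab)) h
    have := hdim i
    rw [ringKrullDim_eq_zero_of_isField hf] at this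
    exact zero_ne_one this
  let e := fun i => (IsLocalization.algEquiv (nonZeroDivisors (B i)) (F i) K)
  let ι := Σ i, IsDedekindDomain.HeightOneSpectrum (B' i)
  haveI : ∀ i, Finite (IsDedekindDomain.HeightOneSpectrum (B' i)) := fun i => by
    haveI := (h65 i).2.1
    exact Finite.of_injective (fun v => (⟨v.asIdeal, v.isMaximal⟩ : MaximalSpectrum (B' i))) fun a b hab =>
      IsDedekindDomain.HeightOneSpectrum.ext (congrArg MaximalSpectrum.asIdeal hab)
  haveI : Fintype ι := Fintype.ofFinite ι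
  let w : ι → Valuation K (WithZero (Multiplicative ℤ)) := fun j =>
    (j.2.valuation (F j.1)).comap (e j.1).symm.toRingEquiv.toRingHom
  obtain ⟨x, hxA, hx0, hx⟩ := combine A w Finset.univ fun j _ => by
    by_contra hcon
    push_neg at hcon
    have hall : A ⊔ B j.1 ≤ (w j).integer := sup_le (fun a ha => hcon a ha) fun b hb => by
      show j.2.valuation (F j.1) ((e j.1).symm b) ≤ 1
      have : (e j.1).symm b = algebraMap (B j.1) (F j.1) ⟨b, hb⟩ := (e j.1).symm.commutes ⟨b, hb⟩
      rw [this]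
      exact j.2.valuation_le_one (K := F j.1) (algebraMap (B j.1) (B' j.1) ⟨b, hb⟩)
    obtain ⟨p, hp⟩ := j.2.valuation_exists_uniformizer (F j.1)
    have h1 : w j (e j.1 p)⁻¹ ≤ 1 := hall (by rw [hgen]; trivial)
    have h2 : w j (e j.1 p) = WithZero.exp (-1 : ℤ) := by
      show j.2.valuation (F j.1) ((e j.1).symm (e j.1 p)) = _
      rw [AlgEquiv.symm_apply_apply]; exact hp
    rw [map_inv₀, h2, ← WithZero.exp_neg, neg_neg, ← WithZero.exp_zero, WithZero.exp_le_exp] at h1
    exact absurd h1 (by norm_num)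
  have hB : ∀ i, ∃ N : ℕ, 0 < N ∧ ∀ m : ℕ, 0 < m → N ∣ m →
      ∃ b : B i, algebraMap (B i) (F i) b = ((e i).symm x⁻¹) ^ m ∧ b ∈ (⊥ : Ideal (B i)).jacobson := fun i => by
    refine main_one (B i) (F i) (fun y hy hy0 => (h65 i).2.2 y hy0 hy) (hnf i) (IsFractionRing.injective _ _) _
      (fun h => hx0 (inv_eq_zero.1 ((map_eq_zero_iff _ (e i).symm.injective).1 h))) fun v => ?_
    show w ⟨i, v⟩ x⁻¹ < 1
    rw [map_inv₀]
    exact inv_lt_one_of_one_lt₀ (hx ⟨i, v⟩ (Finset.mem_univ _))
  choose N hm hN using hB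
  have hmpos : 0 < ∏ i, N i := Finset.prod_pos fun i _ => hm i
  refine ⟨x ^ (∏ i, N i), A.pow_mem hxA _, pow_ne_zero _ hx0, fun i => ?_⟩
  obtain ⟨b, hb, hbJ⟩ := hN i _ hmpos (Finset.dvd_prod_of_mem N (Finset.mem_univ i))
  have hb' : (b : K) = (x ^ (∏ i, N i))⁻¹ := by
    have := congrArg (e i) hb
    rw [AlgEquiv.commutes, map_pow, AlgEquiv.apply_symm_apply] at this
    rw [← inv_pow]
    exact this
  refine ⟨hb' ▸ b.2, ?_⟩
  convert hbJ using 1
  exact Subtype.ext hb'.symm

end Groth.Agent.S1640
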