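import Groth.Statements.S16400
import Mathlib.LinearAlgebra.Dual.Lemmas
import Mathlib.LinearAlgebra.Matrix.ToLin
import Mathlib.LinearAlgebra.FiniteDimensional.Lemmas
-- import your own Groth.Agent.* helpers here

set_option autoImplicit false
universe u v
open CAlgX

namespace Groth.Agent.S16400

/-- Let K be a field, N a finite index set and A a square matrix over K indexed by N whose linear map on
column vectors has kernel equal to its range (so A composed with A is zero and the three-term
sequence it defines is exact in the middle). Then there are subsets N₁₂, N₂₁, N₃₁ of N such that the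
block of A with rows in N₃₁ and columns in N₂₁, and the block of A with rows outside N₂₁ and columns
in N₁₂, both act bijectively on column vectors. (In the original setting K is the prime field and
middle exactness is supplied by the Cartier isomorphism; here exactness is the hypothesis and K is
any field.) -/
theorem result
    {K : Type u} [Field K] {N : Type v} [Fintype N] [DecidableEq N]
    (A : Matrix N N K)
    (hA : LinearMap.ker A.mulVecLin = LinearMap.range A.mulVecLin) :
    ∃ N₁₂ N₂₁ N₃₁ : Finset N,
      Function.Bijective (A.submatrix (Subtype.val : ↥N₃₁ → N) (Subtype.val : ↥N₂₁ → N)).mulVecLin ∧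
      Function.Bijective
        (A.submatrix (Subtype.val : {x : N // x ∉ N₂₁} → N) (Subtype.val : ↥N₁₂ → N)).mulVecLin := by
  classical
  let V := LinearMap.range A.mulVecLin
  have hV : V = Submodule.span K (Set.range A.col) := Matrix.range_mulVecLin A
  -- columns forming a basis of the range
  obtain ⟨T, hTsub, hTspan, hTli⟩ : ∃ T : Finset N, True ∧ Submodule.span K (A.col '' T) = V ∧
      LinearIndepOn K A.col (T : Set N) := by
    obtain ⟨t, -, -, hspan, hli⟩ := exists_linearIndepOn_extension (K := K) (v := A.col)
      (linearIndepOn_empty K A.col) (Set.empty_subset (Set.univ : Set N))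
    refine ⟨t.toFinset, trivial, le_antisymm ?_ ?_, by rw [Set.coe_toFinset]; exact hli⟩
    · rw [hV, Set.coe_toFinset]; exact Submodule.span_mono (Set.image_subset_range _ _)
    · rw [hV, Set.coe_toFinset, Submodule.span_le, ← Set.image_univ]
      exact hspan
  -- the column block
  let B : (T → K) →ₗ[K] (N → K) := Fintype.linearCombination K (fun j : T => A.col j)
  have hBinj : Function.Injective B := LinearIndependent.fintypeLinearCombination_injective hTli
  have hBrange : LinearMap.range B = V := by
    rw [Fintype.range_linearCombination, ← hTspan, Set.image_eq_range]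
    rfl
  have hBA : ∀ v : T → K, B v = A.mulVecLin (fun x => if h : x ∈ T then v ⟨x, h⟩ else 0) := by
    intro v
    funext i
    simp only [B, Fintype.linearCombination_apply, Finset.sum_apply, Pi.smul_apply, smul_eq_mul,
      Matrix.mulVecLin_apply, Matrix.mulVec, dotProduct, Matrix.col_apply]
    symm
    rw [← Finset.sum_subset (Finset.subset_univ T) (fun x _ hx => by simp [hx]), ← Finset.sum_coe_sort]
    exact Finset.sum_congr rfl fun x _ => by simp [x.2, mul_comm]
  -- restriction to a complement of T is injective on V
  let π : (N → K) →ₗ[K] ({x : N // x ∉ T} → K) := LinearMap.funLeft K K Subtype.val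
  have hπ : ∀ w ∈ V, π w = 0 → w = 0 := by
    intro w hw hw0
    rw [show V = LinearMap.ker A.mulVecLin from hA.symm, LinearMap.mem_ker] at hw
    have he : (fun x => if h : x ∈ T then (fun j : T => w j) ⟨x, h⟩ else 0) = w := by
      funext x
      by_cases h : x ∈ T
      · simp [h]
      · simp only [h, dif_neg, not_false_eq_true]
        exact (congr_fun hw0 ⟨x, h⟩).symm
    have h1 : B (fun j : T => w j) = B 0 := by rw [hBA, he, hw, map_zero]
    funext x
    by_cases h : x ∈ T
    · exact congr_fun (hBinj h1) ⟨x, h⟩
    · exact congr_fun hw0 ⟨x, h⟩
  have hcardV : Module.finrank K V = T.card := by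
    rw [← hBrange, LinearMap.finrank_range_of_inj hBinj, Module.finrank_fintype_fun_eq_card, Fintype.card_coe]
  have hcard : T.card + T.card = Fintype.card N := by
    have := LinearMap.finrank_range_add_finrank_ker A.mulVecLin
    rw [hA, Module.finrank_fintype_fun_eq_card] at this
    rw [← hcardV]; exact this
  -- rows making the column block invertible
  obtain ⟨U, hU⟩ : ∃ U : Finset N, Function.Bijective
      (LinearMap.funLeft K K (Subtype.val : U → N) ∘ₗ B) := by
    let w : N → Module.Dual K (T → K) := fun i => LinearMap.proj i ∘ₗ B
    have hw : Submodule.span K (Set.range w) = ⊤ := by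
      have h0 : (Submodule.span K (Set.range w)).dualCoannihilator = ⊥ := ?_
      · rw [← Subspace.dualCoannihilator_dualAnnihilator_eq (W := Submodule.span K (Set.range w)), h0,
          Submodule.dualAnnihilator_bot]
      rw [eq_bot_iff]
      intro v hv
      refine hBinj ?_
      rw [map_zero]
      funext i
      exact (Submodule.mem_dualCoannihilator v).1 hv _ (Submodule.subset_span ⟨i, rfl⟩)
    obtain ⟨t, ht, -, hspan, hli⟩ := exists_linearIndepOn_extension (K := K) (v := w)
      (s := (∅ : Set N)) (linearIndepOn_empty K w) (Set.empty_subset Set.univ)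
    refine ⟨t.toFinset, ?_⟩
    have hsp : Submodule.span K (w '' t) = ⊤ := by
      refine top_le_iff.1 (hw ▸ Submodule.span_le.2 ?_)
      rw [← Set.image_univ]; exact hspan
    have hinj : Function.Injective (LinearMap.funLeft K K (Subtype.val : t.toFinset → N) ∘ₗ B) := by
      refine (injective_iff_map_eq_zero _).2 fun v hv => ?_
      have h0 : v ∈ (Submodule.span K (w '' t)).dualCoannihilator := by
        refine (Submodule.mem_dualCoannihilator v).2 fun φ hφ => ?_
        induction hφ using Submodule.span_induction with
        | mem φ hφ =>
          obtain ⟨i, hi, rfl⟩ := hφ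
          exact congr_fun hv ⟨i, Set.mem_toFinset.2 hi⟩
        | zero => rfl
        | add a b _ _ ha hb => simp [ha, hb]
        | smul c a _ ha => simp [ha]
      rw [hsp, Submodule.dualCoannihilator_top] at h0
      exact h0
    have hc : t.toFinset.card ≤ T.card := by
      have h1 := hli.linearIndependent.fintype_card_le_finrank
      rwa [Subspace.dual_finrank_eq, Module.finrank_fintype_fun_eq_card, Fintype.card_coe,
        ← Set.toFinset_card] at h1
    refine ⟨hinj, (LinearMap.injective_iff_surjective_of_finrank_eq_finrank ?_).1 hinj⟩
    rw [Module.finrank_fintype_fun_eq_card, Module.finrank_fintype_fun_eq_card, Fintype.card_coe, Fintype.card_coe]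
    have h1 := LinearMap.finrank_le_finrank_of_injective hinj
    rw [Module.finrank_fintype_fun_eq_card, Module.finrank_fintype_fun_eq_card, Fintype.card_coe, Fintype.card_coe] at h1
    omega
  refine ⟨T, T, U, ?_, ?_⟩
  · have he : (A.submatrix (Subtype.val : U → N) (Subtype.val : T → N)).mulVecLin =
        LinearMap.funLeft K K (Subtype.val : U → N) ∘ₗ B := by
      refine LinearMap.ext fun v => funext fun i => ?_
      simp [B, Fintype.linearCombination_apply, Matrix.mulVec, dotProduct, LinearMap.funLeft_apply, mul_comm]
    rw [he]; exact hU
  · have he : (A.submatrix (Subtype.val : {x : N // x ∉ T} → N) (Subtype.val : T → N)).mulVecLin =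
        π ∘ₗ B := by
      refine LinearMap.ext fun v => funext fun i => ?_
      simp [B, π, Fintype.linearCombination_apply, Matrix.mulVec, dotProduct, LinearMap.funLeft_apply, mul_comm]
    rw [he]
    have hinj : Function.Injective (π ∘ₗ B) := (injective_iff_map_eq_zero _).2 fun v hv =>
      hBinj ((hπ _ (hBrange ▸ LinearMap.mem_range_self B v) hv).trans (map_zero B).symm)
    refine ⟨hinj, (LinearMap.injective_iff_surjective_of_finrank_eq_finrank ?_).1 hinj⟩
    rw [Module.finrank_fintype_fun_eq_card, Module.finrank_fintype_fun_eq_card, Fintype.card_coe,
      Fintype.card_subtype_compl, Fintype.card_coe]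
    omega

end Groth.Agent.S16400
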