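import Groth.Statements.S16401
import Mathlib.LinearAlgebra.Matrix.Adjugate

set_option autoImplicit false
universe u v
open CAlgX

namespace Groth.Agent.S16401

/-- Let R be a commutative ring and (E_a), a ∈ ι, a family of additive subgroups of R indexed by an
additive commutative group ι, with E_0 = R and E_a · E_b ⊆ E_{a+b}. Let β, γ : Fin r → ι be weight
vectors with Σ_j β_j = Σ_i γ_i, and let ϑ be an r × r matrix over R with ϑ_{ij} ∈ E_{γ_i − β_j} for
all i, j and with unit determinant. Then a column vector u satisfies u_j ∈ E_{β_j} for every j if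
and only if (ϑ u)_i ∈ E_{γ_i} for every i; since ϑ is invertible this says that ϑ maps the box Π_j
E_{β_j} bijectively onto the box Π_i E_{γ_i}. -/
theorem result
    {R : Type u} [CommRing R] {ι : Type v} [AddCommGroup ι]
    (E : ι → AddSubgroup R) (h0 : E 0 = ⊤)
    (hmul : ∀ a b : ι, ∀ x ∈ E a, ∀ y ∈ E b, x * y ∈ E (a + b))
    {r : ℕ} (wβ wγ : Fin r → ι) (hsum : ∑ j, wβ j = ∑ i, wγ i)
    (ϑ : Matrix (Fin r) (Fin r) R) (hϑ : ∀ i j, ϑ i j ∈ E (wγ i - wβ j))
    (hdet : IsUnit ϑ.det) (u : Fin r → R) :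
    (∀ j, u j ∈ E (wβ j)) ↔ ∀ i, ϑ.mulVec u i ∈ E (wγ i) := by
  classical
  have hone : (1 : R) ∈ E 0 := h0 ▸ AddSubgroup.mem_top _
  have hprod : ∀ (s : Finset (Fin r)) (a : Fin r → ι) (x : Fin r → R), (∀ i, x i ∈ E (a i)) →
      ∏ i ∈ s, x i ∈ E (∑ i ∈ s, a i) := by
    intro s a x hx
    induction s using Finset.induction with
    | empty => simpa using hone
    | insert i s hi ih => rw [Finset.prod_insert hi, Finset.sum_insert hi]; exact hmul _ _ _ (hx i) _ ih
  have hdetmem : ∀ (wγ' : Fin r → ι) (B : Matrix (Fin r) (Fin r) R),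
      (∀ i j, B i j ∈ E (wγ' i - wβ j)) → B.det ∈ E ((∑ i, wγ' i) - ∑ j, wβ j) := by
    intro wγ' B hB
    rw [Matrix.det_apply]
    refine sum_mem fun σ _ => ?_
    rw [Units.smul_def]
    refine zsmul_mem ?_ _
    have h := hprod Finset.univ (fun j => wγ' (σ j) - wβ j) (fun j => B (σ j) j) fun j => hB _ _
    rwa [Finset.sum_sub_distrib, Equiv.sum_comp σ wγ'] at h
  have hadj : ∀ i j, ϑ.adjugate j i ∈ E (wβ j - wγ i) := by
    intro i j
    rw [Matrix.adjugate_apply]
    have hsplit : ∑ a, Function.update wγ i (wβ j) a - ∑ a, wβ a = wβ j - wγ i := by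
      rw [hsum, Finset.sum_update_of_mem (Finset.mem_univ i),
        Finset.sum_eq_add_sum_sdiff_singleton_of_mem (Finset.mem_univ i) wγ]
      abel
    rw [← hsplit]
    refine hdetmem _ _ fun a b => ?_
    by_cases ha : a = i
    · subst ha
      rw [Matrix.updateRow_self, Function.update_self]
      by_cases hb : b = j
      · subst hb
        simpa using hone
      · rw [Pi.single_eq_of_ne hb]
        exact zero_mem _
    · rw [Matrix.updateRow_ne ha, Function.update_of_ne ha]
      exact hϑ a b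
  constructor
  · intro hu i
    rw [Matrix.mulVec, dotProduct]
    refine sum_mem fun j _ => ?_
    have h := hmul _ _ _ (hϑ i j) _ (hu j)
    rwa [sub_add_cancel] at h
  · intro hv j
    obtain ⟨d, hd⟩ := hdet.exists_left_inv
    have h1 : (ϑ.adjugate.mulVec (ϑ.mulVec u)) j = ϑ.det * u j := by
      rw [Matrix.mulVec_mulVec, Matrix.adjugate_mul, Matrix.smul_mulVec, Matrix.one_mulVec]
      rfl
    have h2 : u j = d * (ϑ.adjugate.mulVec (ϑ.mulVec u)) j := by rw [h1, ← mul_assoc, hd, one_mul]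
    rw [h2, ← zero_add (wβ j)]
    refine hmul _ _ _ (h0 ▸ AddSubgroup.mem_top d) _ ?_
    rw [Matrix.mulVec, dotProduct]
    refine sum_mem fun i _ => ?_
    have h := hmul _ _ _ (hadj i j) _ (hv i)
    rwa [sub_add_cancel] at h

end Groth.Agent.S16401
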