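import Groth.Statements.S16403
import Groth.Agent.L14.SymBasisMon

set_option autoImplicit false
universe u
open SymBasis

namespace Groth.Agent.S16403

/-- Let R be a commutative ring and a_1, …, a_n ∈ R with n ≥ 2, making R an algebra over ℤ[c_1, …, c_n]
by c_i ↦ a_i. The base change R ⊗ ℤ[t_1, …, t_n] over ℤ[c_1, …, c_n], where c_i ↦ e_i(t) is the i-th
elementary symmetric polynomial, is R[t_1, …, t_n]/I with I the ideal generated by the elements
e_i(t) − a_i, and the extension of an ideal J of R to it is (I + J·R[t])/I. For families (α_d),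
(β_d) of elements of R indexed by the exponent vectors d with 0 ≤ d_i ≤ n − i, the sums Σ_d α_d t^d
and Σ_d β_d t^d agree modulo I + J·R[t] if and only if α_d ≡ β_d mod J for every d. The published
statement takes R positively graded over ℤ[c_1, …, c_n] and each α_d homogeneous of degree k − |d|
for a fixed integer k ≥ 0; this row assumes neither. -/
theorem result {R : Type u} [CommRing R] (n : ℕ) (hn : 2 ≤ n)
    (a : Fin n → R) (J : Ideal R) (α β : (Π i : Fin n, Fin (n - (i : ℕ))) → R) :
    (∑ d : (Π i : Fin n, Fin (n - (i : ℕ))), MvPolynomial.C (α d) * ∏ i : Fin n, MvPolynomial.X i ^ ((d i : ℕ))) -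
        (∑ d : (Π i : Fin n, Fin (n - (i : ℕ))), MvPolynomial.C (β d) * ∏ i : Fin n, MvPolynomial.X i ^ ((d i : ℕ)))
      ∈ Ideal.span (Set.range fun i : Fin n => MvPolynomial.esymm (Fin n) R ((i : ℕ) + 1) - MvPolynomial.C (a i))
        ⊔ Ideal.map (MvPolynomial.C : R →+* MvPolynomial (Fin n) R) J
    ↔ ∀ d : (Π i : Fin n, Fin (n - (i : ℕ))), α d - β d ∈ J := by
  open Groth.Agent.L14.SymBasisMon MvPolynomial in
  constructor
  · intro h d
    have h2 : (∑ d : D n, C (α d - β d) * mon R n d) ∈
        Ideal.span (Set.range fun i : Fin n => esymm (Fin n) R ((i : ℕ) + 1) - C (a i))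
          ⊔ Ideal.map (C : R →+* MvPolynomial (Fin n) R) J := by
      simpa [mon, sub_mul, Finset.sum_sub_distrib] using h
    have h3 := coords_mem a J h2 d
    rwa [coords_sum a (fun d => α d - β d)] at h3
  · intro h
    rw [← Finset.sum_sub_distrib]
    refine Submodule.mem_sup_right (Ideal.sum_mem _ fun d _ => ?_)
    rw [← sub_mul, ← map_sub]
    exact Ideal.mul_mem_right _ _ (Ideal.mem_map_of_mem _ (h d))

end Groth.Agent.S16403
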