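import Groth.Statements.S16405
import Mathlib.Algebra.MonoidAlgebra.Grading

set_option autoImplicit false
universe u v
open InvQ

namespace Groth.Agent.S16405

/-- In weight form. Let b : L → ℤ^r be an injective homomorphism of abelian groups (the case in view: L
the character group of a maximal torus T of a semisimple group over ℂ and b the map dual to the
surjection of the rank-r split torus T' onto T that sends the i-th coordinate cocharacter to the
primitive generator of the i-th ray of the Weyl chamber; only the injectivity of b is used, and ℂ is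
replaced by any commutative ring k). Grade the monoid algebra k[L × ℕ^r] (the coordinate ring of T ×
𝔸^r) by ℤ^r, the monomial (w, n) having weight b(w) + n (the weights of the T'-action u·(t, v) =
(b^∨(u) t, u v)), and grade k[ℕ^r] by ℤ^r/b(L), the monomial n having weight the class of n (the
weights of the action on 𝔸^r of the diagonalizable kernel Z of T' → T, a finite group in the case in
view). For a diagonalizable group acting on an affine scheme the ring of invariants is the
weight-zero part, so the two weight-zero parts are the coordinate rings of the quotients (T ×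
𝔸^r)//T' and 𝔸^r//Z. The statement: the algebra map k[L × ℕ^r] → k[ℕ^r] induced by the projection L
× ℕ^r → ℕ^r (restriction to the slice 1 × 𝔸^r) maps the weight-zero part of k[L × ℕ^r] bijectively
onto the weight-zero part of k[ℕ^r]; hence it induces an isomorphism of k-algebras between them. -/
theorem result
    (k : Type u) [CommRing k] (r : ℕ) (L : Type v) [AddCommGroup L]
    (b : L →+ (Fin r → ℤ)) (hb : Function.Injective b) :
    Set.BijOn
      (AddMonoidAlgebra.mapDomainAlgHom k k (AddMonoidHom.snd L (Fin r → ℕ)))
      (AddMonoidAlgebra.gradeBy k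
        (b.comp (AddMonoidHom.fst L (Fin r → ℕ)) +
          (AddMonoidHom.compLeft (Nat.castAddMonoidHom ℤ) (Fin r)).comp (AddMonoidHom.snd L (Fin r → ℕ))) 0 :
        Set (AddMonoidAlgebra k (L × (Fin r → ℕ))))
      (AddMonoidAlgebra.gradeBy k
        ((QuotientAddGroup.mk' b.range).comp (AddMonoidHom.compLeft (Nat.castAddMonoidHom ℤ) (Fin r))) 0 :
        Set (AddMonoidAlgebra k (Fin r → ℕ))) := by
  classical
  set π : L × (Fin r → ℕ) →+ (Fin r → ℕ) := AddMonoidHom.snd L (Fin r → ℕ)
  let cast : (Fin r → ℕ) →+ (Fin r → ℤ) := AddMonoidHom.compLeft (Nat.castAddMonoidHom ℤ) (Fin r)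
  let S : Set (L × (Fin r → ℕ)) := {p | b p.1 + cast p.2 = 0}
  have hinj : Set.InjOn π S := by
    rintro ⟨w, m⟩ hp ⟨w', m'⟩ hq h
    have e : m = m' := h
    subst e
    have : b w = b w' := by
      have hp' : b w + cast m = 0 := hp
      have hq' : b w' + cast m = 0 := hq
      exact add_right_cancel (hp'.trans hq'.symm)
    rw [hb this]
  have himage : ∀ m : Fin r → ℕ, m ∈ π '' S ↔ QuotientAddGroup.mk' b.range (cast m) = 0 := by
    intro m
    rw [QuotientAddGroup.mk'_apply, QuotientAddGroup.eq_zero_iff]
    constructor
    · rintro ⟨⟨w, m'⟩, hp, rfl⟩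
      exact ⟨-w, by rw [map_neg, neg_eq_iff_add_eq_zero]; exact hp⟩
    · rintro ⟨w, hw⟩
      exact ⟨(-w, m), by change b (-w) + cast m = 0; rw [map_neg, hw, neg_add_cancel], rfl⟩
  refine ⟨fun x hx => ?_, fun x hx y hy h => ?_, fun y hy => ?_⟩
  · intro m hm
    have h1 : m ∈ x.coeff.support.image π := Finsupp.mapDomain_support hm
    obtain ⟨p, hp, rfl⟩ := Finset.mem_image.1 h1
    exact (himage _).1 ⟨p, hx p hp, rfl⟩
  · refine AddMonoidAlgebra.coeff_injective (Finsupp.ext fun p => ?_)
    by_cases hp : p ∈ S
    · have h1 := congrArg (fun z : AddMonoidAlgebra k (Fin r → ℕ) => z.coeff (π p)) h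
      have key : ∀ z : AddMonoidAlgebra k (L × (Fin r → ℕ)), (∀ q ∈ z.coeff.support, q ∈ S) →
          (Finsupp.mapDomain π z.coeff) (π p) = z.coeff p := fun z hz =>
        Finsupp.mapDomain_apply' S z.coeff (fun q hq => hz q hq) hinj hp
      rw [← key x (fun q hq => hx q hq), ← key y (fun q hq => hy q hq)]
      exact h1
    · rw [Finsupp.notMem_support_iff.1 fun hh => hp (hx p hh),
        Finsupp.notMem_support_iff.1 fun hh => hp (hy p hh)]
  · choose g hg1 hg2 using fun m : y.coeff.support => (himage m.1).2 (hy m.1 m.2)
    refine ⟨∑ m : y.coeff.support, AddMonoidAlgebra.single (g m) (y.coeff m.1), ?_, ?_⟩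
    · refine Submodule.sum_mem _ fun m _ => ?_
      intro q hq
      rw [AddMonoidAlgebra.coeff_single] at hq
      rw [Finset.mem_singleton.1 (Finsupp.support_single_subset hq)]
      exact hg1 m
    · rw [map_sum]
      refine Eq.trans (Finset.sum_congr rfl fun m _ =>
        show _ = AddMonoidAlgebra.single m.1 (y.coeff m.1) from ?_) ?_
      · rw [AddMonoidAlgebra.mapDomainAlgHom_apply, AddMonoidAlgebra.mapDomain_single, hg2]
      · rw [Finset.sum_coe_sort y.coeff.support fun m => AddMonoidAlgebra.single m (y.coeff m)]
        exact AddMonoidAlgebra.sum_coeff_single y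

end Groth.Agent.S16405
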