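import Groth.Statements.S16414
import Mathlib.Tactic.Linarith
import Mathlib.Tactic.Ring
import Mathlib.Data.Rat.Floor

set_option autoImplicit false
open Dieud

namespace Groth.Agent.S16414

/-- Let μ be a rational number with 0 < μ ≤ 1 and i an integer, and put f(i,j) = max(−i−j, −j, 0) for
integers j. Then min over all integers j of f(i,j) + jμ exists and equals max(−iμ, 0). -/
theorem result (μ : ℚ) (hμ0 : 0 < μ) (hμ1 : μ ≤ 1) (i : ℤ) :
    IsLeast (Set.range fun j : ℤ => ((max (max (-i - j) (-j)) 0 : ℤ) : ℚ) + (j : ℚ) * μ)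
      (max (-(i : ℚ) * μ) 0) := by
  constructor
  · refine ⟨max (-i) 0, ?_⟩
    dsimp only
    have : max (max (-i - max (-i) 0) (-max (-i) 0)) 0 = 0 := by omega
    rw [this]
    rcases le_total 0 i with h | h
    · have h' : (0:ℚ) ≤ i := by exact_mod_cast h
      rw [max_eq_right (show -i ≤ 0 by omega), max_eq_right (show -(i:ℚ) * μ ≤ 0 by nlinarith)]; simp
    · have h' : (i:ℚ) ≤ 0 := by exact_mod_cast h
      rw [max_eq_left (show (0:ℤ) ≤ -i by omega), max_eq_left (show (0:ℚ) ≤ -(i:ℚ) * μ by nlinarith)]; push_cast; ring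
  · rintro _ ⟨j, rfl⟩
    dsimp only
    set m := max (max (-i - j) (-j)) 0 with hm
    have h0 : 0 ≤ m + j := by omega
    have h1 : -i ≤ m + j := by omega
    have h2 : (0:ℚ) ≤ m := by exact_mod_cast (show 0 ≤ m by omega)
    have h0' : (0:ℚ) ≤ (m:ℚ) + j := by exact_mod_cast h0
    have h1' : -(i:ℚ) ≤ (m:ℚ) + j := by exact_mod_cast h1
    apply max_le <;> nlinarith

end Groth.Agent.S16414
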