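import Groth.Statements.S16416
import Mathlib.RingTheory.WittVector.Frobenius
import Mathlib.LinearAlgebra.Span.Basic
import Mathlib.Tactic.Convert

set_option autoImplicit false
universe u v w
open Dieud

namespace Groth.Agent.S16416

/-- For a prime p and a perfect field k of characteristic p, write W = W(k) for the ring of Witt vectors
and σ for its Frobenius; let M and N be free W-modules of finite rank, each with additive maps F
(σ-semilinear) and V (with V(σ(a)m) = aV(m)) satisfying FV = VF = p, and H = Hom_W(M, N). On H the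
operator F acts through h ↦ F ∘ h ∘ V, and V acts partially: V·h is the W-linear map h' with h'(V m)
= V(h(m)) for all m, when it exists. Let H₁ be the largest W-submodule of H stable under both (it
contains every submodule stable under both). Then H₁ ∩ V·H = V·H₁: if y ∈ H and V·y exists and lies
in H₁, then y ∈ H₁, so that H₁/VH₁ → H/(H ∩ VH) is injective. (The published statement is for the
Cartier modules of two p-divisible formal groups over k, every slope of the first below every slope
of the second; only the structure just listed is used, so connectedness and the slope condition are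
not assumed.) -/
theorem result
    (p : ℕ) [Fact p.Prime] (k : Type u) [Field k] [CharP k p] [PerfectRing k p]
    (M : Type v) [AddCommGroup M] [Module (WittVector p k) M]
    [Module.Free (WittVector p k) M] [Module.Finite (WittVector p k) M]
    (N : Type w) [AddCommGroup N] [Module (WittVector p k) N]
    [Module.Free (WittVector p k) N] [Module.Finite (WittVector p k) N]
    (FM VM : M →+ M) (FN VN : N →+ N)
    (hFM : ∀ (a : WittVector p k) (m : M), FM (a • m) = WittVector.frobenius a • FM m)
    (hVM : ∀ (a : WittVector p k) (m : M), VM (WittVector.frobenius a • m) = a • VM m)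
    (hFVM : ∀ m : M, FM (VM m) = (p : WittVector p k) • m)
    (hVFM : ∀ m : M, VM (FM m) = (p : WittVector p k) • m)
    (hFN : ∀ (a : WittVector p k) (n : N), FN (a • n) = WittVector.frobenius a • FN n)
    (hVN : ∀ (a : WittVector p k) (n : N), VN (WittVector.frobenius a • n) = a • VN n)
    (hFVN : ∀ n : N, FN (VN n) = (p : WittVector p k) • n)
    (hVFN : ∀ n : N, VN (FN n) = (p : WittVector p k) • n)
    (H₁ : Submodule (WittVector p k) (M →ₗ[WittVector p k] N))
    (hF : ∀ h ∈ H₁, ∃ h' ∈ H₁, ∀ m : M, h' m = FN (h (VM m)))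
    (hV : ∀ h ∈ H₁, ∃ h' ∈ H₁, ∀ m : M, h' (VM m) = VN (h m))
    (hmax : ∀ S : Submodule (WittVector p k) (M →ₗ[WittVector p k] N),
      (∀ h ∈ S, ∃ h' ∈ S, ∀ m : M, h' m = FN (h (VM m))) →
      (∀ h ∈ S, ∃ h' ∈ S, ∀ m : M, h' (VM m) = VN (h m)) → S ≤ H₁)
    (y : M →ₗ[WittVector p k] N) (x : M →ₗ[WittVector p k] N) (hx : x ∈ H₁)
    (hxy : ∀ m : M, x (VM m) = VN (y m)) :
    y ∈ H₁ := by
  classical
  let σ := WittVector.frobeniusEquiv p k
  have hσ : ∀ a, σ a = WittVector.frobenius a := fun a => congrFun (WittVector.frobeniusEquiv_apply p k) a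
  have hVM' : ∀ a m, VM (a • m) = σ.symm a • VM m := fun a m => by
    conv_lhs => rw [← σ.apply_symm_apply a, hσ]
    rw [hVM]
  have hVN' : ∀ a m, VN (a • m) = σ.symm a • VN m := fun a m => by
    conv_lhs => rw [← σ.apply_symm_apply a, hσ]
    rw [hVN]
  let Fh : (M →ₗ[WittVector p k] N) → (M →ₗ[WittVector p k] N) := fun h =>
    { toFun := fun m => FN (h (VM m))
      map_add' := fun a b => by simp only [map_add]
      map_smul' := fun a m => by rw [hVM', map_smul, hFN, ← hσ, σ.apply_symm_apply]; rfl }
  let H := M →ₗ[WittVector p k] N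
  let S : Submodule (WittVector p k) H := H₁ ⊔ Submodule.span _ (Set.range fun i => Fh^[i] y)
  have hp : ∀ i, (p : WittVector p k) • Fh^[i] y ∈ H₁ := by
    intro i
    induction i with
    | zero =>
      obtain ⟨x', hx', hx''⟩ := hF x hx
      convert hx' using 1
      refine LinearMap.ext fun m => ?_
      rw [hx'' m, hxy, hFVN]; rfl
    | succ i ih =>
      obtain ⟨h', hh', hh''⟩ := hF _ ih
      convert hh' using 1
      refine LinearMap.ext fun m => ?_
      rw [hh'' m, LinearMap.smul_apply, LinearMap.smul_apply, hFN, map_natCast, Function.iterate_succ_apply']; rfl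
  have hclosed : ∀ (P : H → H → Prop), (∀ a b a' b', P a a' → P b b' → P (a + b) (a' + b')) → P 0 0 →
      (∀ (c : WittVector p k) a a', P a a' → ∃ c' : WittVector p k, P (c • a) (c' • a')) →
      (∀ h ∈ H₁, ∃ h' ∈ S, P h h') → (∀ i, ∃ h' ∈ S, P (Fh^[i] y) h') → ∀ h ∈ S, ∃ h' ∈ S, P h h' := by
    intro P hadd h0 hsmul hH hy h hh
    obtain ⟨a, ha, b, hb, rfl⟩ := Submodule.mem_sup.1 hh
    obtain ⟨a', ha', haP⟩ := hH a ha
    suffices ∃ b' ∈ S, P b b' by
      obtain ⟨b', hb', hbP⟩ := this
      exact ⟨a' + b', S.add_mem ha' hb', hadd _ _ _ _ haP hbP⟩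
    induction hb using Submodule.span_induction with
    | mem x hx => obtain ⟨i, rfl⟩ := hx; exact hy i
    | zero => exact ⟨0, S.zero_mem, h0⟩
    | add u v _ _ hu hv =>
      obtain ⟨u', hu', huP⟩ := hu (Submodule.add_mem_sup ha (by assumption))
      obtain ⟨v', hv', hvP⟩ := hv (Submodule.add_mem_sup ha (by assumption))
      exact ⟨u' + v', S.add_mem hu' hv', hadd _ _ _ _ huP hvP⟩
    | smul c u _ hu =>
      obtain ⟨u', hu', huP⟩ := hu (Submodule.add_mem_sup ha (by assumption))
      obtain ⟨c', hc'⟩ := hsmul c u u' huP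
      exact ⟨c' • u', S.smul_mem c' hu', hc'⟩
  have hle : S ≤ H₁ := hmax S
    (hclosed (fun h h' => ∀ m, h' m = FN (h (VM m))) (fun a b a' b' ha hb m => by rw [LinearMap.add_apply, LinearMap.add_apply, map_add, ha, hb])
      (fun m => (map_zero FN).symm)
      (fun c a a' ha => ⟨σ c, fun m => by rw [LinearMap.smul_apply, ha, LinearMap.smul_apply, hFN, hσ]⟩)
      (fun h hh => (hF h hh).imp fun h' hh' => ⟨Submodule.mem_sup_left hh'.1, hh'.2⟩)
      (fun i => ⟨Fh^[i + 1] y, Submodule.mem_sup_right (Submodule.subset_span ⟨i + 1, rfl⟩), fun m => by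
        rw [Function.iterate_succ_apply']; rfl⟩))
    (hclosed (fun h h' => ∀ m, h' (VM m) = VN (h m)) (fun a b a' b' ha hb m => by rw [LinearMap.add_apply, LinearMap.add_apply, map_add, ha, hb])
      (fun m => (map_zero VN).symm)
      (fun c a a' ha => ⟨σ.symm c, fun m => by rw [LinearMap.smul_apply, ha, LinearMap.smul_apply, hVN']⟩)
      (fun h hh => (hV h hh).imp fun h' hh' => ⟨Submodule.mem_sup_left hh'.1, hh'.2⟩)
      (fun i => by
        rcases i with _ | i
        · exact ⟨x, Submodule.mem_sup_left hx, hxy⟩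
        · refine ⟨(p : WittVector p k) • Fh^[i] y, Submodule.mem_sup_left (hp i), fun m => ?_⟩
          rw [Function.iterate_succ_apply', LinearMap.smul_apply]
          exact (hVFN _).symm))
  exact hle (Submodule.mem_sup_right (Submodule.subset_span ⟨0, rfl⟩))

end Groth.Agent.S16416
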