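import Groth.Statements.S16417
import Mathlib.RingTheory.WittVector.DiscreteValuationRing
import Mathlib.LinearAlgebra.FreeModule.PID
import Mathlib.RingTheory.Length
import Mathlib.LinearAlgebra.Quotient.Pi
import Mathlib.LinearAlgebra.Isomorphisms
import Mathlib.RingTheory.SimpleModule.Basic

set_option autoImplicit false
universe u v w
open Dieud

set_option linter.style.haveILetI false

namespace Groth.Agent.S16417

/-- For a prime p and a perfect field k of characteristic p, write W = W(k) for the ring of Witt vectors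
and σ for its Frobenius; let M and N be free W-modules of finite rank, each with additive maps F
(σ-semilinear) and V (with V(σ(a)m) = aV(m)) satisfying FV = VF = p, and H = Hom_W(M, N); write VM ⊆
M and VN ⊆ N for the images of V. (a) A W-linear h : M → N maps VM into VN if and only if h(V m) =
V(h'(m)) for all m for some W-linear h' : M → N (so the maps with this property form H ∩ V·H). (b)
The natural map from H to the W-linear maps VM → N/VN has image exactly the maps vanishing on pM =
V(FM): every such map is induced by some h ∈ H. (c) The W-length of H/(H ∩ V·H) is r₂ s₁, where r₂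
is the length of N/VN and s₁ = rank M − length(M/VM) is the length of VM/pM. (The published
statement is for the Cartier modules of two p-divisible formal groups over k, every slope of the
first below every slope of the second, and phrases (b), (c) as an isomorphism of H/(H ∩ VH) with
Hom_k(VM/pM, N/VN); only the structure listed is used, so connectedness and the slope condition are
not assumed.) -/
theorem result
    (p : ℕ) [Fact p.Prime] (k : Type u) [Field k] [CharP k p] [PerfectRing k p]
    (M : Type v) [AddCommGroup M] [Module (WittVector p k) M]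
    [Module.Free (WittVector p k) M] [Module.Finite (WittVector p k) M]
    (N : Type w) [AddCommGroup N] [Module (WittVector p k) N]
    [Module.Free (WittVector p k) N] [Module.Finite (WittVector p k) N]
    (FM VM : M →+ M) (FN VN : N →+ N)
    (hFM : ∀ (a : WittVector p k) (m : M), FM (a • m) = WittVector.frobenius a • FM m)
    (hVM : ∀ (a : WittVector p k) (m : M), VM (WittVector.frobenius a • m) = a • VM m)
    (hFVM : ∀ m : M, FM (VM m) = (p : WittVector p k) • m)
    (hVFM : ∀ m : M, VM (FM m) = (p : WittVector p k) • m)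
    (hFN : ∀ (a : WittVector p k) (n : N), FN (a • n) = WittVector.frobenius a • FN n)
    (hVN : ∀ (a : WittVector p k) (n : N), VN (WittVector.frobenius a • n) = a • VN n)
    (hFVN : ∀ n : N, FN (VN n) = (p : WittVector p k) • n)
    (hVFN : ∀ n : N, VN (FN n) = (p : WittVector p k) • n)
    (r₂ s₁ : ℕ)
    (hr₂ : Module.length (WittVector p k) (N ⧸ Submodule.span (WittVector p k) (Set.range VN)) = r₂)
    (hs₁ : (Module.finrank (WittVector p k) M : ℕ∞) =
      Module.length (WittVector p k) (M ⧸ Submodule.span (WittVector p k) (Set.range VM)) + s₁) :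
    (∀ h : M →ₗ[WittVector p k] N,
      (∀ m : M, h (VM m) ∈ Submodule.span (WittVector p k) (Set.range VN)) ↔
        ∃ h' : M →ₗ[WittVector p k] N, ∀ m : M, h (VM m) = VN (h' m)) ∧
    (∀ g : Submodule.span (WittVector p k) (Set.range VM) →ₗ[WittVector p k]
        N ⧸ Submodule.span (WittVector p k) (Set.range VN),
      (∀ m : M, g ⟨VM (FM m), Submodule.subset_span ⟨FM m, rfl⟩⟩ = 0) →
      ∃ h : M →ₗ[WittVector p k] N, ∀ x : Submodule.span (WittVector p k) (Set.range VM),
        (Submodule.span (WittVector p k) (Set.range VN)).mkQ (h x) = g x) ∧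
    Module.length (WittVector p k) ((M →ₗ[WittVector p k] N) ⧸
      ⨅ m : M, (Submodule.span (WittVector p k) (Set.range VN)).comap
        (LinearMap.applyₗ (VM m) : (M →ₗ[WittVector p k] N) →ₗ[WittVector p k] N)) = (r₂ * s₁ : ℕ) := by
  classical
  let W := WittVector p k
  let σ := WittVector.frobeniusEquiv p k
  have hσ : ∀ a, σ a = WittVector.frobenius a := fun a => congrFun (WittVector.frobeniusEquiv_apply p k) a
  have hp0 : (p : W) ≠ 0 := (WittVector.irreducible p).ne_zero
  have hVNinj : Function.Injective VN := fun a b h => by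
    have := congrArg FN h
    rwa [hFVN, hFVN, smul_right_inj hp0] at this
  let VMs : Submodule W M :=
    { carrier := Set.range VM
      add_mem' := by rintro _ _ ⟨a, rfl⟩ ⟨b, rfl⟩; exact ⟨a + b, map_add VM a b⟩
      zero_mem' := ⟨0, map_zero VM⟩
      smul_mem' := by rintro c _ ⟨a, rfl⟩; exact ⟨WittVector.frobenius c • a, hVM c a⟩ }
  let VNs : Submodule W N :=
    { carrier := Set.range VN
      add_mem' := by rintro _ _ ⟨a, rfl⟩ ⟨b, rfl⟩; exact ⟨a + b, map_add VN a b⟩
      zero_mem' := ⟨0, map_zero VN⟩
      smul_mem' := by rintro c _ ⟨a, rfl⟩; exact ⟨WittVector.frobenius c • a, hVN c a⟩ }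
  have eM : Submodule.span W (Set.range VM) = VMs := Submodule.span_eq VMs
  have eN : Submodule.span W (Set.range VN) = VNs := Submodule.span_eq VNs
  rw [eM] at hs₁
  rw [eN] at hr₂
  have hpM : ∀ m : M, (p : W) • m ∈ VMs := fun m => ⟨FM m, hVFM m⟩
  have hpN : ∀ m : N, (p : W) • m ∈ VNs := fun m => ⟨FN m, hVFN m⟩
  -- adapted basis
  let b₀ := Module.Free.chooseBasis W M
  obtain ⟨n, bM, bN, f, a, snf⟩ := VMs.smithNormalForm b₀
  have hf : ∀ j, ∃ i, f i = j ∧ a i ∣ (p : W) := fun j => by
    have hr := bN.sum_repr ⟨_, hpM (bM j)⟩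
    have h1 := congrArg (fun x : VMs => bM.repr (x : M) j) hr
    simp only [AddSubmonoidClass.coe_finsetSum, SetLike.val_smul, snf, map_sum, map_smul, Finsupp.coe_finsetSum,
      Finset.sum_apply, Finsupp.smul_apply, Module.Basis.repr_self, Finsupp.single_apply, smul_eq_mul, mul_ite,
      mul_one, mul_zero] at h1
    by_cases hj : ∃ i, f i = j
    · obtain ⟨i, rfl⟩ := hj
      rw [Finset.sum_eq_single i (fun i' _ hi' => if_neg (f.injective.ne hi')) (by simp)] at h1
      simp only [if_true] at h1
      exact ⟨i, rfl, ⟨_, by rw [← h1]; ring⟩⟩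
    · rw [Finset.sum_eq_zero fun i _ => if_neg fun h => hj ⟨i, h⟩] at h1
      simp only [if_true] at h1
      exact absurd h1.symm hp0
  choose g hfg hga using hf
  have hgf : ∀ i, g (f i) = i := fun i => f.injective (hfg _)
  let e := fun j => bM j
  let S := {j // IsUnit (a (g j))}
  have hcase : ∀ j, ¬ IsUnit (a (g j)) → Associated (a (g j)) (p : W) := fun j hj =>
    ((WittVector.irreducible p).dvd_iff.1 (hga j)).resolve_left hj |>.symm
  have hbN : ∀ (P : N → Prop) (_ : ∀ x y, P x → P y → P (x + y)) (_ : P 0) (_ : ∀ (c : W) x, P x → P (c • x))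
      (φ : VMs →ₗ[W] N), (∀ i, P (φ (bN i))) → ∀ x, P (φ x) := fun P hadd h0 hsm φ hi x => by
    rw [← bN.sum_repr x, map_sum]
    exact Finset.sum_induction _ P hadd h0 fun i _ => by rw [map_smul]; exact hsm _ _ (hi i)
  -- (a)
  refine ⟨fun h => ⟨fun hh => ?_, fun ⟨h', hh'⟩ m => ?_⟩, ?_, ?_⟩
  · have : ∀ m, ∃ n, VN n = h (VM m) := fun m => by
      have := hh m
      rwa [eN] at this
    choose h' hh' using this
    have hVM' : ∀ a m, VM (a • m) = σ.symm a • VM m := fun a m => by
      conv_lhs => rw [← σ.apply_symm_apply a, hσ]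
      rw [hVM]
    have hVN' : ∀ a m, VN (a • m) = σ.symm a • VN m := fun a m => by
      conv_lhs => rw [← σ.apply_symm_apply a, hσ]
      rw [hVN]
    exact ⟨{ toFun := h'
             map_add' := fun x y => hVNinj (by rw [map_add VN, hh', hh', hh', map_add VM, map_add h])
             map_smul' := fun c x => hVNinj (by rw [hh', RingHom.id_apply, hVN', hh', hVM', map_smul h]) },
      fun m => (hh' m).symm⟩
  · rw [hh', eN]; exact ⟨_, rfl⟩
  · rw [eN]
    intro gg₀ hg
    let gg : VMs →ₗ[W] N ⧸ VNs := gg₀ ∘ₗ Submodule.inclusion eM.ge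
    let lift : N ⧸ VNs → N := Function.surjInv VNs.mkQ_surjective
    have hlift : ∀ q, VNs.mkQ (lift q) = q := Function.surjInv_eq _
    let val : {j // IsUnit (a (g j))} → N := fun j => lift (gg ((j.2.unit⁻¹ : Wˣ) • bN (g j.1)))
    let h := bM.constr ℕ fun j => if hj : IsUnit (a (g j)) then val ⟨j, hj⟩ else 0
    refine ⟨h, fun x => ?_⟩
    suffices (VNs.mkQ ∘ₗ h ∘ₗ VMs.subtype) = gg from LinearMap.congr_fun this ⟨x.1, eM.le x.2⟩
    refine bN.ext fun i => ?_
    rw [LinearMap.comp_apply, LinearMap.comp_apply, Submodule.subtype_apply, snf, map_smul,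
      Module.Basis.constr_basis, map_smul]
    by_cases hu : IsUnit (a (g (f i)))
    · rw [dif_pos hu, hlift, Units.smul_def, map_smul gg]
      simp only [hgf, smul_smul]
      rw [IsUnit.mul_val_inv, one_smul]
    · obtain ⟨u, hu'⟩ := hcase _ hu
      rw [hgf] at hu'
      rw [dif_neg hu, map_zero, smul_zero]
      have hz : gg ⟨VM (FM (bM (f i))), ⟨FM (bM (f i)), rfl⟩⟩ = 0 := hg (bM (f i))
      have : (⟨VM (FM (bM (f i))), ⟨FM (bM (f i)), rfl⟩⟩ : VMs) = (u : W) • bN i := Subtype.ext (by
        show VM (FM (bM (f i))) = (u : W) • (bN i : M)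
        rw [hVFM, snf, smul_smul, mul_comm, hu'])
      rw [this, map_smul] at hz
      exact ((smul_eq_zero_iff_eq u).1 hz).symm
  · rw [eN]
    let Φ : (M →ₗ[W] N) →ₗ[W] (S → N ⧸ VNs) :=
      LinearMap.pi fun j => VNs.mkQ ∘ₗ (LinearMap.applyₗ (bM j.1) : (M →ₗ[W] N) →ₗ[W] N)
    have hΦ : Function.Surjective Φ := fun q => ⟨bM.constr ℕ fun j => if hj : IsUnit (a (g j)) then
        Function.surjInv VNs.mkQ_surjective (q ⟨j, hj⟩) else 0, funext fun j => by
      show VNs.mkQ (bM.constr ℕ _ (bM j.1)) = q j
      rw [Module.Basis.constr_basis, dif_pos j.2, Function.surjInv_eq VNs.mkQ_surjective]⟩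
    have hker : (⨅ m : M, VNs.comap (LinearMap.applyₗ (VM m) : (M →ₗ[W] N) →ₗ[W] N)) = LinearMap.ker Φ := by
      refine le_antisymm (fun h hh => ?_) (fun h hh => ?_)
      · refine LinearMap.mem_ker.2 (funext fun j => (Submodule.Quotient.mk_eq_zero VNs).2 ?_)
        show h (bM j.1) ∈ VNs
        obtain ⟨m, hm⟩ := (bN (g j.1)).2
        have h2 : h (VM m) ∈ VNs := (Submodule.mem_iInf _).1 hh m
        rw [hm, snf, hfg, map_smul] at h2
        exact (Submodule.smul_mem_iff' VNs j.2.unit).1 h2
      · refine (Submodule.mem_iInf _).2 fun m => ?_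
        show h (VM m) ∈ VNs
        refine hbN (· ∈ VNs) (fun _ _ => VNs.add_mem) VNs.zero_mem (fun c _ => VNs.smul_mem c)
          (h ∘ₗ VMs.subtype) (fun i => ?_) ⟨VM m, ⟨m, rfl⟩⟩
        rw [LinearMap.comp_apply, Submodule.subtype_apply, snf, map_smul]
        by_cases hu : IsUnit (a (g (f i)))
        · exact VNs.smul_mem _ ((Submodule.Quotient.mk_eq_zero VNs).1 (congrFun (LinearMap.mem_ker.1 hh) ⟨f i, hu⟩))
        · obtain ⟨u, hu'⟩ := hcase _ hu
          rw [hgf] at hu'
          rw [show a i = (p : W) * (u⁻¹ : Wˣ) by rw [← hu', Units.mul_inv_cancel_right], mul_smul]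
          exact hpN _
    rw [hker, (LinearMap.quotKerEquivOfSurjective Φ hΦ).length_eq, Module.length_pi_of_fintype, Finset.sum_const,
      Finset.card_univ, hr₂, nsmul_eq_mul]
    have hS : Fintype.card S = s₁ := by
      let T := {j // ¬ IsUnit (a (g j))}
      haveI : IsSimpleModule W (W ⧸ Ideal.span {(p : W)}) := isSimpleModule_iff_isCoatom.2
        (PrincipalIdealRing.isMaximal_of_irreducible (WittVector.irreducible p)).out
      let Ψ : M →ₗ[W] (T → W ⧸ Ideal.span {(p : W)}) :=
        LinearMap.pi fun j => (Ideal.span {(p : W)}).mkQ ∘ₗ bM.coord j.1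
      have hΨ : Function.Surjective Ψ := fun q => ⟨∑ j : T, Function.surjInv (Submodule.mkQ_surjective
          (Ideal.span {(p : W)})) (q j) • bM j.1, funext fun j => by
        show Submodule.mkQ _ (bM.coord j.1 _) = q j
        rw [map_sum, Finset.sum_eq_single j]
        · rw [map_smul, Module.Basis.coord_apply, Module.Basis.repr_self, Finsupp.single_eq_same, smul_eq_mul, mul_one]
          exact Function.surjInv_eq (Submodule.mkQ_surjective (Ideal.span {(p : W)})) _
        · intro j' _ hj'
          rw [map_smul, Module.Basis.coord_apply, Module.Basis.repr_self,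
            Finsupp.single_eq_of_ne (fun h => hj' (Subtype.ext h.symm)), smul_zero]
        · simp⟩
      have hkerΨ : VMs = LinearMap.ker Ψ := by
        refine le_antisymm (fun x hx => LinearMap.mem_ker.2 (funext fun j => ?_)) (fun x hx => ?_)
        · show Submodule.mkQ _ (bM.repr x j.1) = 0
          rw [Submodule.mkQ_apply, Submodule.Quotient.mk_eq_zero, Ideal.mem_span_singleton]
          have := congrArg (fun y : VMs => bM.repr (y : M) j.1) (bN.sum_repr ⟨x, hx⟩)
          simp only [AddSubmonoidClass.coe_finsetSum, SetLike.val_smul, snf, map_sum, map_smul, Finsupp.coe_finsetSum,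
            Finset.sum_apply, Finsupp.smul_apply, Module.Basis.repr_self, Finsupp.single_apply, smul_eq_mul] at this
          rw [← this]
          refine Finset.dvd_sum fun i _ => Dvd.dvd.mul_left ?_ _
          by_cases hij : f i = j.1
          · rw [← hgf i, hij]; exact Dvd.dvd.mul_right (hcase _ j.2).symm.dvd _
          · rw [if_neg hij, mul_zero]; exact dvd_zero _
        · rw [← bM.sum_repr x]
          refine Submodule.sum_mem _ fun j _ => ?_
          by_cases hu : IsUnit (a (g j))
          · refine VMs.smul_mem _ ((Submodule.smul_mem_iff' VMs hu.unit).1 ?_)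
            show a (g j) • bM j ∈ VMs
            have := (bN (g j)).2
            rwa [snf, hfg] at this
          · have h1 := congrFun (LinearMap.mem_ker.1 hx) ⟨j, hu⟩
            change Submodule.mkQ _ (bM.repr x j) = 0 at h1
            rw [Submodule.mkQ_apply, Submodule.Quotient.mk_eq_zero, Ideal.mem_span_singleton] at h1
            obtain ⟨c, hc⟩ := h1
            rw [hc, mul_smul]
            exact hpM _
      rw [hkerΨ, (LinearMap.quotKerEquivOfSurjective Ψ hΨ).length_eq, Module.length_pi_of_fintype, Finset.sum_const,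
        Finset.card_univ, Module.length_eq_one, nsmul_one, Module.finrank_eq_card_basis bM] at hs₁
      have hs₁' : Fintype.card (Module.Free.ChooseBasisIndex W M) = Fintype.card T + s₁ := by exact_mod_cast hs₁
      have hsplit := Fintype.card_subtype_compl (fun j => IsUnit (a (g j)))
      have hle := Fintype.card_subtype_le (fun j => IsUnit (a (g j)))
      simp only [S, T] at hs₁' ⊢
      omega
    rw [hS, Nat.cast_mul, mul_comm]

end Groth.Agent.S16417
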