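import Groth.Statements.S16418
import Mathlib.RingTheory.WittVector.DiscreteValuationRing
import Mathlib.RingTheory.Noetherian.Basic
import Mathlib.Algebra.Module.Submodule.Range

set_option autoImplicit false
universe u v
open Dieud

set_option linter.style.haveILetI false

namespace Groth.Agent.S16418

/-- Step of the proof: for a prime p and a perfect field k of characteristic p, write W = W(k) and σ for
its Frobenius; let M be a W-module with additive maps F (σ-semilinear) and V (with V(σ(a)m) = aV(m))
such that FV = VF = p, V is injective, ⋂_n V^n M = 0 and M/VM is finitely generated over W. Put M₁ =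
{x ∈ M : for every n there is m with V^m x ∈ F^n M} and M₂ = {x ∈ M : F^n x = 0 for some n}. Then M₂
is killed by a single power of F, and F is injective on M₁. (The published text makes these
assertions inside a proof, for the V-reduced Cartier module of a connected smooth formal group of
finite dimension over k; only the listed structure is used, and V-adic completeness is not needed.) -/
theorem result
    (p : ℕ) [Fact p.Prime] (k : Type u) [Field k] [CharP k p] [PerfectRing k p]
    (M : Type v) [AddCommGroup M] [Module (WittVector p k) M]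
    (F V : M →+ M)
    (hF : ∀ (a : WittVector p k) (m : M), F (a • m) = WittVector.frobenius a • F m)
    (hV : ∀ (a : WittVector p k) (m : M), V (WittVector.frobenius a • m) = a • V m)
    (hFV : ∀ m : M, F (V m) = (p : WittVector p k) • m)
    (hVF : ∀ m : M, V (F m) = (p : WittVector p k) • m)
    (hVinj : Function.Injective V)
    (hsep : ∀ x : M, (∀ n : ℕ, ∃ y : M, x = (⇑V)^[n] y) → x = 0)
    (hfin : Module.Finite (WittVector p k) (M ⧸ Submodule.span (WittVector p k) (Set.range V))) :
    (∃ c : ℕ, ∀ x : M, (∃ n : ℕ, (⇑F)^[n] x = 0) → (⇑F)^[c] x = 0) ∧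
    (∀ x : M, (∀ n : ℕ, ∃ (m : ℕ) (y : M), (⇑V)^[m] x = (⇑F)^[n] y) → F x = 0 → x = 0) := by
  have hσ : Function.Surjective (WittVector.frobenius (p := p) (R := k)) :=
    (WittVector.frobeniusEquiv p k).surjective
  have hcomm : Function.Commute F V := fun m => by rw [hFV, hVF]
  let VM : Submodule (WittVector p k) M :=
    { carrier := Set.range V
      add_mem' := by rintro _ _ ⟨a, rfl⟩ ⟨b, rfl⟩; exact ⟨a + b, map_add V a b⟩
      zero_mem' := ⟨0, map_zero V⟩
      smul_mem' := by
        rintro c _ ⟨a, rfl⟩
        exact ⟨WittVector.frobenius c • a, hV c a⟩ }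
  have hVM : Submodule.span (WittVector p k) (Set.range V) = VM := Submodule.span_eq VM
  rw [hVM] at hfin
  have hFn : ∀ (n : ℕ) (a : WittVector p k) (m : M),
      (⇑F)^[n] (a • m) = (⇑WittVector.frobenius)^[n] a • (⇑F)^[n] m := fun n a m => by
    induction n with
    | zero => rfl
    | succ n ih => simp only [Function.iterate_succ_apply', ih, hF]
  let K : ℕ → Submodule (WittVector p k) M := fun n =>
    { carrier := {x | (⇑F)^[n] x = 0}
      add_mem' := fun {a b} ha hb => by
        simp only [Set.mem_ofPred_eq] at ha hb ⊢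
        rw [iterate_map_add, ha, hb, add_zero]
      zero_mem' := iterate_map_zero F n
      smul_mem' := fun a m hm => by
        simp only [Set.mem_ofPred_eq] at hm ⊢
        rw [hFn, hm, smul_zero] }
  have hKmono : Monotone K := monotone_nat_of_le_succ fun n x hx => by
    show (⇑F)^[n + 1] x = 0
    rw [Function.iterate_succ_apply', show (⇑F)^[n] x = 0 from hx, map_zero]
  haveI : IsNoetherian (WittVector p k) (M ⧸ VM) := isNoetherian_of_isNoetherianRing_of_finite _ _
  obtain ⟨c, hc⟩ := (monotone_stabilizes_iff_noetherian (R := WittVector p k) (M := M ⧸ VM)).2 inferInstance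
    ⟨fun n => (K n).map VM.mkQ, fun a b hab => Submodule.map_mono (hKmono hab)⟩
  have key : ∀ (n : ℕ), c ≤ n → ∀ (x : M), (⇑F)^[n] x = 0 → (⇑F)^[c] x = 0 := by
    intro n hn
    suffices h : ∀ (j : ℕ) (x : M), (⇑F)^[n] x = 0 → ∃ y, (⇑F)^[c] x = (⇑V)^[j] y from
      fun x hx => hsep _ fun j => h j x hx
    intro j
    induction j with
    | zero => exact fun x _ => ⟨(⇑F)^[c] x, rfl⟩
    | succ j ih =>
      intro x hx
      have h1 : VM.mkQ x ∈ (K n).map VM.mkQ := ⟨x, hx, rfl⟩
      have hcn : (K c).map VM.mkQ = (K n).map VM.mkQ := hc n hn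
      rw [← hcn] at h1
      obtain ⟨z, hz, hzx⟩ := h1
      obtain ⟨x', hx'⟩ : x - z ∈ VM := (Submodule.Quotient.eq VM).1 hzx.symm
      have hzn : (⇑F)^[n] z = 0 := hKmono hn hz
      have hx'n : (⇑F)^[n] x' = 0 := hVinj (by
        rw [← (hcomm.iterate_left n).eq, hx', iterate_map_sub, hx, hzn, sub_zero, map_zero])
      obtain ⟨y, hy⟩ := ih x' hx'n
      refine ⟨y, ?_⟩
      rw [show x = z + V x' by rw [hx']; abel, iterate_map_add, show (⇑F)^[c] z = 0 from hz, zero_add,
        (hcomm.iterate_left c).eq, hy, Function.iterate_succ_apply']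
  refine ⟨⟨c, fun x ⟨n, hx⟩ => ?_⟩, fun x h1 hx => ?_⟩
  · rcases le_total c n with h | h
    · exact key n h x hx
    · exact hKmono h hx
  · obtain ⟨m, y, hy⟩ := h1 c
    have h2 : (⇑F)^[c + 1] y = 0 := by
      rw [Function.iterate_succ_apply', ← hy, (hcomm.iterate_right m).eq, hx, iterate_map_zero]
    have h3 := key (c + 1) (Nat.le_succ c) y h2
    exact hVinj.iterate m (by rw [hy, h3, iterate_map_zero])

end Groth.Agent.S16418
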