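import Groth.Statements.S16419
import Mathlib.LinearAlgebra.TensorProduct.RightExactness
import Mathlib.LinearAlgebra.TensorProduct.Submodule
import Mathlib.Algebra.Module.Projective
import Mathlib.LinearAlgebra.Projection
import Mathlib.RingTheory.TensorProduct.Basic

set_option autoImplicit false
universe u v
open CAlg

namespace Groth.Agent.S16419

open TensorProduct in
/-- For a commutative local Artinian ring R and an exact sequence 0 → H₁ → H → H₂ → 0 of finite free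
R-modules, let F₁ ⊆ H₁ and F₂ ⊆ H₂ be submodules with H₁/F₁ and H₂/F₂ free; let 𝔫 be an ideal of R
of square zero, R̄ = R/𝔫, and F̄ an R̄-submodule of H̄ = R̄ ⊗ H with free quotient such that F̄
meets the image of R̄ ⊗ H₁ in the image of R̄ ⊗ F₁ and the image of F̄ in R̄ ⊗ H₂ is the image of R̄
⊗ F₂. Then there is a direct summand F of H with F ∩ H₁ = F₁, whose image in H̄ is F̄ and whose
image in H₂ is F₂. -/
theorem result
    (R : Type u) [CommRing R] [IsArtinianRing R] [IsLocalRing R]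
    (H₁ : Type v) (H : Type v) (H₂ : Type v)
    [AddCommGroup H₁] [Module R H₁] [AddCommGroup H] [Module R H] [AddCommGroup H₂] [Module R H₂]
    [Module.Free R H₁] [Module.Finite R H₁] [Module.Free R H] [Module.Finite R H]
    [Module.Free R H₂] [Module.Finite R H₂]
    (f : H₁ →ₗ[R] H) (g : H →ₗ[R] H₂) (hf : Function.Injective f) (hg : Function.Surjective g)
    (hfg : Function.Exact f g)
    (F₁ : Submodule R H₁) (F₂ : Submodule R H₂) [Module.Free R (H₁ ⧸ F₁)] [Module.Free R (H₂ ⧸ F₂)]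
    (𝔫 : Ideal R) (hn : 𝔫 * 𝔫 = ⊥)
    (Fb : Submodule (R ⧸ 𝔫) ((R ⧸ 𝔫) ⊗[R] H))
    [Module.Free (R ⧸ 𝔫) (((R ⧸ 𝔫) ⊗[R] H) ⧸ Fb)]
    (h1 : Fb ⊓ LinearMap.range (f.baseChange (R ⧸ 𝔫)) =
      Submodule.map (f.baseChange (R ⧸ 𝔫)) (F₁.baseChange (R ⧸ 𝔫)))
    (h2 : Submodule.map (g.baseChange (R ⧸ 𝔫)) Fb = F₂.baseChange (R ⧸ 𝔫)) :
    ∃ F : Submodule R H, (∃ C : Submodule R H, IsCompl F C) ∧
      F ⊓ LinearMap.range f = Submodule.map f F₁ ∧
      F.baseChange (R ⧸ 𝔫) = Fb ∧ Submodule.map g F = F₂ := by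
  classical
  have hcompl : ∀ {X : Type v} [AddCommGroup X] [Module R X] (P : Submodule R X), Module.Projective R (X ⧸ P) →
      ∃ C : Submodule R X, IsCompl P C := by
    intro X _ _ P hP
    obtain ⟨t, ht⟩ := Module.projective_lifting_property P.mkQ LinearMap.id P.mkQ_surjective
    have ht' : ∀ z, P.mkQ (t z) = z := fun z => LinearMap.congr_fun ht z
    refine ⟨LinearMap.range t, ⟨?_, ?_⟩⟩
    · rw [Submodule.disjoint_def]
      rintro _ hx ⟨z, rfl⟩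
      have : z = 0 := by rw [← ht' z, Submodule.mkQ_apply, (Submodule.Quotient.mk_eq_zero P).mpr hx]
      rw [this, map_zero]
    · rw [codisjoint_iff, eq_top_iff]
      intro x _
      refine Submodule.mem_sup.mpr ⟨x - t (P.mkQ x), ?_, t (P.mkQ x), ⟨_, rfl⟩, sub_add_cancel _ _⟩
      rw [← Submodule.Quotient.mk_eq_zero, ← Submodule.mkQ_apply, map_sub, ht', sub_self]
  obtain ⟨C₁, hC₁⟩ := hcompl F₁ inferInstance
  obtain ⟨C₂, hC₂⟩ := hcompl F₂ inferInstance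
  obtain ⟨s, hs⟩ := Module.projective_lifting_property g LinearMap.id hg
  have hs' : ∀ z, g (s z) = z := fun z => LinearMap.congr_fun hs z
  have : Module.Projective R F₂ := Module.Projective.of_split F₂.subtype (F₂.projectionOnto C₂ hC₂)
    (LinearMap.ext fun x => Submodule.projectionOnto_apply_left hC₂ x)
  have hone : ∀ {X : Type v} [AddCommGroup X] [Module R X] (z : (R ⧸ 𝔫) ⊗[R] X), ∃ x : X, (1 : R ⧸ 𝔫) ⊗ₜ[R] x = z := by
    intro X _ _ z
    induction z using TensorProduct.induction_on with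
    | zero => exact ⟨0, TensorProduct.tmul_zero _ _⟩
    | tmul c x =>
      obtain ⟨r, rfl⟩ := Ideal.Quotient.mk_surjective c
      exact ⟨r • x, by rw [← TensorProduct.smul_tmul, Algebra.smul_def, mul_one]; rfl⟩
    | add a b ha hb =>
      obtain ⟨x, rfl⟩ := ha; obtain ⟨y, rfl⟩ := hb
      exact ⟨x + y, TensorProduct.tmul_add _ _ _⟩
  -- every element of a base-changed submodule is `1 ⊗ x`
  have hbc : ∀ {X : Type v} [AddCommGroup X] [Module R X] (P : Submodule R X) (z : (R ⧸ 𝔫) ⊗[R] X),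
      z ∈ P.baseChange (R ⧸ 𝔫) → ∃ x ∈ P, (1 : R ⧸ 𝔫) ⊗ₜ[R] x = z := by
    intro X _ _ P z hz
    rw [Submodule.baseChange_eq_span] at hz
    induction hz using Submodule.span_induction with
    | mem x hx => obtain ⟨m, hm, rfl⟩ := hx; exact ⟨m, hm, rfl⟩
    | zero => exact ⟨0, P.zero_mem, TensorProduct.tmul_zero _ _⟩
    | add a b _ _ ha hb =>
      obtain ⟨x, hx, rfl⟩ := ha; obtain ⟨y, hy, rfl⟩ := hb
      exact ⟨x + y, P.add_mem hx hy, TensorProduct.tmul_add _ _ _⟩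
    | smul c a _ ha =>
      obtain ⟨x, hx, rfl⟩ := ha
      obtain ⟨r, rfl⟩ := Ideal.Quotient.mk_surjective c
      exact ⟨r • x, P.smul_mem r hx, by rw [← TensorProduct.smul_tmul, TensorProduct.smul_tmul', Algebra.smul_def, smul_eq_mul]; rfl⟩
  have hin : ∀ {X : Type v} [AddCommGroup X] [Module R X] (P : Submodule R X) {x : X}, x ∈ P →
      (1 : R ⧸ 𝔫) ⊗ₜ[R] x ∈ P.baseChange (R ⧸ 𝔫) := fun P x hx => Submodule.tmul_mem_baseChange_of_mem 1 hx
  -- lifts of `F₂` into `F̄`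
  let P : Submodule R H := (Fb.restrictScalars R).comap ((TensorProduct.mk R (R ⧸ 𝔫) H) 1) ⊓ F₂.comap g
  let gP : P →ₗ[R] F₂ := g.restrict fun x hx => hx.2
  have hgP : Function.Surjective gP := by
    rintro ⟨x, hx⟩
    obtain ⟨z, hz, hzx⟩ := (h2.symm ▸ hin F₂ hx : _ ∈ Submodule.map (g.baseChange (R ⧸ 𝔫)) Fb)
    obtain ⟨y, rfl⟩ := hone z
    rw [LinearMap.baseChange_tmul] at hzx
    have hy : g (y + s (x - g y)) = x := by rw [map_add, hs', add_sub_cancel]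
    refine ⟨⟨y + s (x - g y), ?_, show g _ ∈ F₂ by rw [hy]; exact hx⟩, Subtype.ext hy⟩
    show (1 : R ⧸ 𝔫) ⊗ₜ[R] _ ∈ Fb
    rw [TensorProduct.tmul_add, ← LinearMap.baseChange_tmul, TensorProduct.tmul_sub, hzx, sub_self, map_zero, add_zero]
    exact hz
  obtain ⟨σ₀, hσ₀⟩ := Module.projective_lifting_property gP LinearMap.id hgP
  let σ : F₂ →ₗ[R] H := P.subtype ∘ₗ σ₀
  have hσ : ∀ x : F₂, g (σ x) = x := fun x => congrArg Subtype.val (LinearMap.congr_fun hσ₀ x)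
  have hσb : ∀ x : F₂, (1 : R ⧸ 𝔫) ⊗ₜ[R] σ x ∈ Fb := fun x => (σ₀ x).2.1
  have hgf : ∀ a, g (f a) = 0 := hfg.apply_apply_eq_zero
  refine ⟨Submodule.map f F₁ ⊔ LinearMap.range σ, ⟨Submodule.map f C₁ ⊔ Submodule.map s C₂, ?_, ?_⟩, ?_, ?_, ?_⟩
  · rw [Submodule.disjoint_def]
    intro z hz hz'
    obtain ⟨_, ⟨a, ha, rfl⟩, _, ⟨x, rfl⟩, rfl⟩ := Submodule.mem_sup.mp hz
    obtain ⟨_, ⟨b, hb, rfl⟩, _, ⟨c, hc, rfl⟩, e⟩ := Submodule.mem_sup.mp hz'
    have eg := congrArg g e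
    rw [map_add, map_add, hgf, hgf, hs', hσ, zero_add, zero_add] at eg
    have hx0 : (x : H₂) = 0 := Submodule.disjoint_def.mp hC₂.disjoint _ x.2 (eg ▸ hc)
    have hx : x = 0 := Subtype.ext hx0
    rw [eg.trans hx0, hx, map_zero, map_zero, add_zero, add_zero] at e
    obtain rfl := hf e
    rw [hx, map_zero, add_zero, Submodule.disjoint_def.mp hC₁.disjoint b ha hb, map_zero]
  · rw [codisjoint_iff, eq_top_iff]
    intro y _
    obtain ⟨x, hx, c, hc, hxc⟩ := Submodule.mem_sup.mp (hC₂.sup_eq_top.ge (Submodule.mem_top (x := g y)))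
    obtain ⟨d, hd⟩ := (hfg (y - σ ⟨x, hx⟩ - s c)).mp (by rw [map_sub, map_sub, hσ, hs', ← hxc]; abel)
    obtain ⟨a, ha, b, hb, hab⟩ := Submodule.mem_sup.mp (hC₁.sup_eq_top.ge (Submodule.mem_top (x := d)))
    refine Submodule.mem_sup.mpr ⟨f a + σ ⟨x, hx⟩, Submodule.add_mem_sup ⟨a, ha, rfl⟩ ⟨_, rfl⟩,
      f b + s c, Submodule.add_mem_sup ⟨b, hb, rfl⟩ ⟨c, hc, rfl⟩, ?_⟩
    rw [← hab, map_add] at hd
    rw [show f a + σ ⟨x, hx⟩ + (f b + s c) = (f a + f b) + σ ⟨x, hx⟩ + s c by abel, hd]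
    abel
  · refine le_antisymm ?_ (le_inf le_sup_left LinearMap.map_le_range)
    rintro z ⟨hz, ⟨b, rfl⟩⟩
    obtain ⟨_, ⟨a, ha, rfl⟩, _, ⟨x, rfl⟩, e⟩ := Submodule.mem_sup.mp hz
    have eg := congrArg g e
    rw [map_add, hgf, hgf, hσ, zero_add] at eg
    rw [show x = 0 from Subtype.ext eg, map_zero, add_zero] at e
    exact ⟨a, ha, e⟩
  · refine le_antisymm ?_ fun z hz => ?_
    · intro z hz
      obtain ⟨y, hy, rfl⟩ := hbc _ z hz
      obtain ⟨_, ⟨a, ha, rfl⟩, _, ⟨x, rfl⟩, rfl⟩ := Submodule.mem_sup.mp hy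
      rw [TensorProduct.tmul_add]
      refine Fb.add_mem (h1.ge ⟨_, hin F₁ ha, ?_⟩).1 (hσb x)
      rw [LinearMap.baseChange_tmul]
    · have hgz : g.baseChange (R ⧸ 𝔫) z ∈ F₂.baseChange (R ⧸ 𝔫) := h2 ▸ Submodule.mem_map_of_mem hz
      obtain ⟨x, hx, hxz⟩ := hbc _ _ hgz
      have hker : g.baseChange (R ⧸ 𝔫) (z - 1 ⊗ₜ σ ⟨x, hx⟩) = 0 := by
        rw [map_sub, LinearMap.baseChange_tmul, hσ, ← hxz, sub_self]
      obtain ⟨w, hw⟩ := (lTensor_exact (R ⧸ 𝔫) hfg hg (z - 1 ⊗ₜ σ ⟨x, hx⟩)).mp hker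
      have hw' : z - 1 ⊗ₜ σ ⟨x, hx⟩ ∈ Fb ⊓ LinearMap.range (f.baseChange (R ⧸ 𝔫)) :=
        ⟨Fb.sub_mem hz (hσb _), ⟨w, by rw [← hw]; rfl⟩⟩
      rw [h1] at hw'
      obtain ⟨u, hu, hu'⟩ := hw'
      obtain ⟨a, ha, rfl⟩ := hbc _ _ hu
      rw [LinearMap.baseChange_tmul, eq_sub_iff_add_eq, ← TensorProduct.tmul_add] at hu'
      rw [← hu']
      exact hin _ (Submodule.add_mem_sup ⟨a, ha, rfl⟩ ⟨_, rfl⟩)
  · refine le_antisymm ?_ fun x hx => ⟨σ ⟨x, hx⟩, Submodule.mem_sup_right ⟨_, rfl⟩, hσ _⟩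
    rintro _ ⟨y, hy, rfl⟩
    obtain ⟨_, ⟨a, _, rfl⟩, _, ⟨x, rfl⟩, rfl⟩ := Submodule.mem_sup.mp hy
    rw [map_add, hgf, hσ, zero_add]
    exact x.2

end Groth.Agent.S16419
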