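import Groth.Statements.S16420
import Mathlib.LinearAlgebra.TensorProduct.Quotient
import Mathlib.LinearAlgebra.TensorProduct.Tower
import Mathlib.RingTheory.Artinian.Module
import Mathlib.Algebra.Module.Projective
import Mathlib.LinearAlgebra.FreeModule.Basic

set_option autoImplicit false
universe u v
open CAlg

namespace Groth.Agent.S16420

open TensorProduct in
open TensorProduct in
theorem exists_projection {R : Type u} [CommRing R] {M : Type v} [AddCommGroup M] [Module R M]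
    (F : Submodule R M) [Module.Projective R (M ⧸ F)] :
    ∃ π : M →ₗ[R] M, (∀ x, π x ∈ F) ∧ ∀ x ∈ F, π x = x := by
  obtain ⟨σ, hσ⟩ := Module.projective_lifting_property F.mkQ LinearMap.id F.mkQ_surjective
  refine ⟨LinearMap.id - σ ∘ₗ F.mkQ, fun x => ?_, fun x hx => ?_⟩
  · rw [← Submodule.Quotient.mk_eq_zero]
    have := LinearMap.congr_fun hσ (F.mkQ x)
    simp only [LinearMap.comp_apply, LinearMap.id_apply] at this
    simp only [LinearMap.sub_apply, LinearMap.id_apply, LinearMap.comp_apply, Submodule.Quotient.mk_sub]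
    simp only [Submodule.mkQ_apply] at this ⊢
    rw [this, sub_self]
  · simp [(Submodule.Quotient.mk_eq_zero F).mpr hx]

section
open TensorProduct
variable {R : Type u} [CommRing R] {M : Type v} [AddCommGroup M] [Module R M] (𝔫 : Ideal R)

theorem one_tmul_eq_zero_iff (x : M) :
    (1 : R ⧸ 𝔫) ⊗ₜ[R] x = 0 ↔ x ∈ 𝔫 • (⊤ : Submodule R M) := by
  rw [← (quotTensorEquivQuotSMul M 𝔫).map_eq_zero_iff, ← map_one (Ideal.Quotient.mk 𝔫),
    quotTensorEquivQuotSMul_mk_tmul, one_smul, Submodule.Quotient.mk_eq_zero]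

theorem mem_baseChange_iff (F : Submodule R M) (x : M) :
    (1 : R ⧸ 𝔫) ⊗ₜ[R] x ∈ F.baseChange (R ⧸ 𝔫) ↔ x ∈ F ⊔ 𝔫 • (⊤ : Submodule R M) := by
  constructor
  · intro hx
    rw [Submodule.baseChange_eq_span] at hx
    have hx' : (1 : R ⧸ 𝔫) ⊗ₜ[R] x ∈ F.map (TensorProduct.mk R (R ⧸ 𝔫) M 1) := by
      have h := Submodule.restrictScalars_span R (R ⧸ 𝔫) Ideal.Quotient.mk_surjective
        ((F.map (TensorProduct.mk R (R ⧸ 𝔫) M 1) : Submodule R ((R ⧸ 𝔫) ⊗[R] M)) : Set ((R ⧸ 𝔫) ⊗[R] M))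
      rw [Submodule.span_eq] at h
      rw [← h]
      exact hx
    obtain ⟨a, ha, hax⟩ := hx'
    rw [show x = a + (x - a) by abel]
    refine Submodule.add_mem_sup ha ((one_tmul_eq_zero_iff 𝔫 _).mp ?_)
    rw [TensorProduct.tmul_sub, sub_eq_zero]
    exact hax.symm
  · intro hx
    obtain ⟨a, ha, b, hb, rfl⟩ := Submodule.mem_sup.mp hx
    rw [TensorProduct.tmul_add, (one_tmul_eq_zero_iff 𝔫 b).mpr hb, add_zero]
    exact Submodule.tmul_mem_baseChange_of_mem _ ha

theorem map_mem_smul_top {N : Type v} [AddCommGroup N] [Module R N] (l : M →ₗ[R] N) {x : M}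
    (hx : x ∈ 𝔫 • (⊤ : Submodule R M)) : l x ∈ 𝔫 • (⊤ : Submodule R N) := by
  have h := Submodule.mem_map_of_mem (f := l) hx
  rw [Submodule.map_smul''] at h
  exact Submodule.smul_mono le_rfl le_top h

end


open TensorProduct in
/-- For a commutative local Artinian ring R and an exact sequence 0 → H₁ → H → H₂ → 0 of finite free
R-modules, let F₁ ⊆ H₁ and F₂ ⊆ H₂ be submodules with free quotients, 𝔫 an ideal of R of square
zero, R̄ = R/𝔫, and F̄ ⊆ H̄ = R̄ ⊗ H an R̄-submodule with free quotient meeting the image of R̄ ⊗ H₁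
in the image of R̄ ⊗ F₁ and mapping onto the image of R̄ ⊗ F₂; let L be the set of direct summands F
of H with F ∩ H₁ = F₁, with image F̄ in H̄ and with image F₂ in H₂. Then L is a torsor under
Hom_R(F₂, 𝔫(H₁/F₁)), acting as follows: an R-linear u : H₂ → H₁ with u(H₂) ⊆ 𝔫H₁ moves F ∈ L to the
image of F under x ↦ x + f(u(g(x))). Precisely, for F ∈ L: (1) that image again lies in L; (2) it
equals F if and only if u(F₂) ⊆ 𝔫F₁; (3) every F' ∈ L is obtained from F in this way for some such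
u. (The published statement phrases the torsor under the R̄-linear maps from F̄₂ to 𝔫 ⊗ (H̄₁/F̄₁), a
group identified with the maps u as above modulo those with u(F₂) ⊆ 𝔫F₁, and describes the action
through a lift F₂ → 𝔫 ⊗ H₁ composed with F → F/F₁ ≅ F₂; restricted to F this is x ↦ f(u(g(x))).) -/
theorem result
    (R : Type u) [CommRing R] [IsArtinianRing R] [IsLocalRing R]
    (H₁ : Type v) (H : Type v) (H₂ : Type v)
    [AddCommGroup H₁] [Module R H₁] [AddCommGroup H] [Module R H] [AddCommGroup H₂] [Module R H₂]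
    [Module.Free R H₁] [Module.Finite R H₁] [Module.Free R H] [Module.Finite R H]
    [Module.Free R H₂] [Module.Finite R H₂]
    (f : H₁ →ₗ[R] H) (g : H →ₗ[R] H₂) (hf : Function.Injective f) (hg : Function.Surjective g)
    (hfg : Function.Exact f g)
    (F₁ : Submodule R H₁) (F₂ : Submodule R H₂) [Module.Free R (H₁ ⧸ F₁)] [Module.Free R (H₂ ⧸ F₂)]
    (𝔫 : Ideal R) (hn : 𝔫 * 𝔫 = ⊥)
    (Fb : Submodule (R ⧸ 𝔫) ((R ⧸ 𝔫) ⊗[R] H))
    [Module.Free (R ⧸ 𝔫) (((R ⧸ 𝔫) ⊗[R] H) ⧸ Fb)]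
    (h1 : Fb ⊓ LinearMap.range (f.baseChange (R ⧸ 𝔫)) =
      Submodule.map (f.baseChange (R ⧸ 𝔫)) (F₁.baseChange (R ⧸ 𝔫)))
    (h2 : Submodule.map (g.baseChange (R ⧸ 𝔫)) Fb = F₂.baseChange (R ⧸ 𝔫))
    (F F' : Submodule R H)
    (hF : (∃ C : Submodule R H, IsCompl (F) C) ∧
      (F) ⊓ LinearMap.range f = Submodule.map f F₁ ∧
      Submodule.baseChange (R ⧸ 𝔫) (F) = Fb ∧ Submodule.map g (F) = F₂)
    (hF' : (∃ C : Submodule R H, IsCompl (F') C) ∧
      (F') ⊓ LinearMap.range f = Submodule.map f F₁ ∧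
      Submodule.baseChange (R ⧸ 𝔫) (F') = Fb ∧ Submodule.map g (F') = F₂) :
    (∀ u : H₂ →ₗ[R] H₁, (∀ y : H₂, u y ∈ 𝔫 • (⊤ : Submodule R H₁)) →
      (∃ C : Submodule R H, IsCompl (Submodule.map (LinearMap.id + f ∘ₗ u ∘ₗ g) F) C) ∧
      (Submodule.map (LinearMap.id + f ∘ₗ u ∘ₗ g) F) ⊓ LinearMap.range f = Submodule.map f F₁ ∧
      Submodule.baseChange (R ⧸ 𝔫) (Submodule.map (LinearMap.id + f ∘ₗ u ∘ₗ g) F) = Fb ∧ Submodule.map g (Submodule.map (LinearMap.id + f ∘ₗ u ∘ₗ g) F) = F₂) ∧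
    (∀ u : H₂ →ₗ[R] H₁, (∀ y : H₂, u y ∈ 𝔫 • (⊤ : Submodule R H₁)) →
      (Submodule.map (LinearMap.id + f ∘ₗ u ∘ₗ g) F = F ↔ ∀ y ∈ F₂, u y ∈ 𝔫 • F₁)) ∧
    (∃ u : H₂ →ₗ[R] H₁, (∀ y : H₂, u y ∈ 𝔫 • (⊤ : Submodule R H₁)) ∧
      F' = Submodule.map (LinearMap.id + f ∘ₗ u ∘ₗ g) F) := by
  obtain ⟨⟨C, hC⟩, hFi, hFb, hFg⟩ := hF
  obtain ⟨-, hFi', hFb', hFg'⟩ := hF'
  have hgf : ∀ a, g (f a) = 0 := fun a => hfg.apply_apply_eq_zero a
  obtain ⟨π₁, hπ₁, hπ₁'⟩ := exists_projection F₁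
  have hFmem : ∀ a, a ∈ F₁ → f a ∈ F := fun a ha => by
    have : f a ∈ Submodule.map f F₁ := Submodule.mem_map_of_mem ha
    rw [← hFi] at this
    exact this.1
  have hFmem' : ∀ a, a ∈ F₁ → f a ∈ F' := fun a ha => by
    have : f a ∈ Submodule.map f F₁ := Submodule.mem_map_of_mem ha
    rw [← hFi'] at this
    exact this.1
  have hFcomap : ∀ a, f a ∈ F → a ∈ F₁ := fun a ha => by
    have : f a ∈ F ⊓ LinearMap.range f := ⟨ha, ⟨a, rfl⟩⟩
    rw [hFi] at this
    obtain ⟨b, hb, hba⟩ := this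
    exact hf hba ▸ hb
  refine ⟨fun u hu => ?_, fun u hu => ?_, ?_⟩
  · set T : H →ₗ[R] H := LinearMap.id + f ∘ₗ u ∘ₗ g with hTdef
    have hT : ∀ x, T x = x + f (u (g x)) := fun x => rfl
    have hTe : Function.Bijective T := Function.bijective_iff_has_inverse.mpr
      ⟨fun x => x - f (u (g x)), fun x => by simp [hT, hgf], fun x => by simp [hT, hgf]⟩
    let Te : H ≃ₗ[R] H := LinearEquiv.ofBijective T hTe
    refine ⟨⟨C.map T, ?_⟩, ?_, ?_, ?_⟩
    · exact hC.map (Submodule.orderIsoMapComap Te)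
    · have hrange : (LinearMap.range f).map T = LinearMap.range f := by
        rw [← LinearMap.range_comp]
        congr 1
        ext a
        simp [hT, hgf]
      conv_lhs => rw [← hrange]
      rw [← Submodule.map_inf T hTe.1, hFi, ← Submodule.map_comp]
      congr 1
      ext a
      simp [hT, hgf]
    · rw [← hFb, Submodule.baseChange_eq_span, Submodule.baseChange_eq_span, ← Submodule.map_comp]
      congr 3
      ext x
      simp only [LinearMap.comp_apply, hT, TensorProduct.mk_apply, TensorProduct.tmul_add]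
      rw [(one_tmul_eq_zero_iff 𝔫 _).mpr (map_mem_smul_top 𝔫 f (hu _)), add_zero]
    · rw [← Submodule.map_comp, ← hFg]
      congr 1
      ext x
      simp [hT, hgf]
  · constructor
    · intro heq y hy
      rw [← hFg] at hy
      obtain ⟨x, hx, rfl⟩ := hy
      have hmem : x + f (u (g x)) ∈ F := heq ▸ Submodule.mem_map_of_mem (f := LinearMap.id + f ∘ₗ u ∘ₗ g) hx
      have h1 : u (g x) ∈ F₁ := hFcomap _ (by simpa using sub_mem hmem hx)
      rw [← hπ₁' _ h1]
      have h := Submodule.mem_map_of_mem (f := π₁) (hu (g x))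
      rw [Submodule.map_smul''] at h
      exact Submodule.smul_mono le_rfl (Submodule.map_le_iff_le_comap.mpr fun z _ => hπ₁ z) h
    · intro hu'
      have hmem : ∀ x ∈ F, f (u (g x)) ∈ F := fun x hx =>
        hFmem _ (Submodule.smul_le_right (hu' _ (hFg ▸ Submodule.mem_map_of_mem hx)))
      refine le_antisymm (Submodule.map_le_iff_le_comap.mpr fun x hx => add_mem hx (hmem x hx)) fun x hx => ?_
      exact ⟨x - f (u (g x)), sub_mem hx (hmem x hx), by simp [hgf]⟩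
  · obtain ⟨π₂, hπ₂, hπ₂'⟩ := exists_projection F₂
    let π₂' : H₂ →ₗ[R] F₂ := π₂.codRestrict F₂ hπ₂
    haveI : Module.Projective R F₂ :=
      Module.Projective.of_split F₂.subtype π₂' (LinearMap.ext fun y => Subtype.ext (hπ₂' _ y.2))
    let gF : F →ₗ[R] F₂ := (g ∘ₗ F.subtype).codRestrict F₂ fun x => hFg ▸ Submodule.mem_map_of_mem x.2
    let gF' : F' →ₗ[R] F₂ := (g ∘ₗ F'.subtype).codRestrict F₂ fun x => hFg' ▸ Submodule.mem_map_of_mem x.2
    have hgF : Function.Surjective gF := fun y => by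
      obtain ⟨x, hx, hxy⟩ := (hFg.symm ▸ y.2 : (y : H₂) ∈ Submodule.map g F)
      exact ⟨⟨x, hx⟩, Subtype.ext hxy⟩
    have hgF' : Function.Surjective gF' := fun y => by
      obtain ⟨x, hx, hxy⟩ := (hFg'.symm ▸ y.2 : (y : H₂) ∈ Submodule.map g F')
      exact ⟨⟨x, hx⟩, Subtype.ext hxy⟩
    obtain ⟨s, hs⟩ := Module.projective_lifting_property gF LinearMap.id hgF
    obtain ⟨s', hs'⟩ := Module.projective_lifting_property gF' LinearMap.id hgF'
    have hsy : ∀ y, g (s y : H) = y := fun y => congrArg Subtype.val (LinearMap.congr_fun hs y)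
    have hsy' : ∀ y, g (s' y : H) = y := fun y => congrArg Subtype.val (LinearMap.congr_fun hs' y)
    have hrange : ∀ y, ∃ a, f a = (s' y : H) - (s y : H) := fun y =>
      (hfg _).mp (by rw [map_sub, hsy, hsy', sub_self])
    choose δ hδ using hrange
    obtain ⟨σ, hσ⟩ := Module.projective_lifting_property g LinearMap.id hg
    have hσ' : ∀ y, g (σ y) = y := LinearMap.congr_fun hσ
    have hδadd : ∀ y z, δ (y + z) = δ y + δ z := fun y z => hf (by simp [hδ]; abel)
    have hδsmul : ∀ (c : R) y, δ (c • y) = c • δ y := fun c y => hf (by simp [hδ, smul_sub])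
    let δl : F₂ →ₗ[R] H₁ := ⟨⟨δ, hδadd⟩, hδsmul⟩
    have hret : ∃ ρ : H →ₗ[R] H₁, ∀ a, ρ (f a) = a := by
      have hr : ∀ x, x - σ (g x) ∈ LinearMap.range f := fun x => (hfg _).mp (by simp [hσ'])
      exact ⟨(LinearEquiv.ofInjective f hf).symm.toLinearMap ∘ₗ ((LinearMap.id - σ ∘ₗ g).codRestrict _ hr),
        fun a => (LinearEquiv.ofInjective f hf).symm_apply_eq.mpr (Subtype.ext (by simp [hgf]))⟩
    obtain ⟨ρ, hρ⟩ := hret
    have hδmem : ∀ y, δ y ∈ F₁ ⊔ 𝔫 • (⊤ : Submodule R H₁) := fun y => by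
      rw [← mem_baseChange_iff]
      have h : f.baseChange (R ⧸ 𝔫) ((1 : R ⧸ 𝔫) ⊗ₜ[R] δ y) ∈ Fb ⊓ LinearMap.range (f.baseChange (R ⧸ 𝔫)) := by
        refine ⟨?_, ⟨_, rfl⟩⟩
        rw [LinearMap.baseChange_tmul, hδ, TensorProduct.tmul_sub]
        exact sub_mem (hFb' ▸ Submodule.tmul_mem_baseChange_of_mem _ (s' y).2)
          (hFb ▸ Submodule.tmul_mem_baseChange_of_mem _ (s y).2)
      rw [h1] at h
      obtain ⟨w, hw, hwe⟩ := h
      have hinj : Function.Injective (f.baseChange (R ⧸ 𝔫)) := by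
        refine Function.LeftInverse.injective (g := ρ.baseChange (R ⧸ 𝔫)) fun z => ?_
        rw [← LinearMap.comp_apply, ← LinearMap.baseChange_comp,
          show ρ ∘ₗ f = LinearMap.id from LinearMap.ext hρ, LinearMap.baseChange_id, LinearMap.id_apply]
      exact hinj hwe ▸ hw
    refine ⟨(LinearMap.id - π₁) ∘ₗ δl ∘ₗ π₂', fun z => ?_, ?_⟩
    · obtain ⟨a, ha, b, hb, hab⟩ := Submodule.mem_sup.mp (hδmem (π₂' z))
      change δ (π₂' z) - π₁ (δ (π₂' z)) ∈ _
      rw [← hab, map_add, hπ₁' a ha, add_sub_add_left_eq_sub]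
      exact sub_mem hb (map_mem_smul_top 𝔫 π₁ hb)
    · have hπid : ∀ y : F₂, π₂' (y : H₂) = y := fun y => Subtype.ext (hπ₂' _ y.2)
      have hT : ∀ (y : F₂) (a : H₁), a ∈ F₁ →
          (LinearMap.id + f ∘ₗ ((LinearMap.id - π₁) ∘ₗ δl ∘ₗ π₂') ∘ₗ g : H →ₗ[R] H) ((s y : H) + f a) =
            (s' y : H) + f (a - π₁ (δ y)) := fun y a _ => by
        simp only [LinearMap.add_apply, LinearMap.id_apply, LinearMap.comp_apply, LinearMap.sub_apply]
        rw [map_add g, hsy, hgf, add_zero, hπid, show δl y = δ y from rfl, map_sub, map_sub, hδ]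
        abel
      refine le_antisymm (fun x' hx' => ?_) (Submodule.map_le_iff_le_comap.mpr fun x hx => ?_)
      · set y : F₂ := gF' ⟨x', hx'⟩ with hy
        obtain ⟨a, ha⟩ := (hfg (x' - (s' y : H))).mp (by rw [map_sub, hsy']; exact sub_self _)
        have haF : a ∈ F₁ := by
          have : f a ∈ F' ⊓ LinearMap.range f := ⟨ha ▸ sub_mem hx' (s' y).2, ⟨a, rfl⟩⟩
          rw [hFi'] at this
          obtain ⟨b, hb, hba⟩ := this
          exact hf hba ▸ hb
        refine ⟨(s y : H) + f (a + π₁ (δ y)), add_mem (s y).2 (hFmem _ (add_mem haF (hπ₁ _))), ?_⟩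
        rw [hT _ _ (add_mem haF (hπ₁ _)), add_sub_cancel_right, ha]
        abel
      · rw [Submodule.mem_comap]
        set y : F₂ := gF ⟨x, hx⟩ with hy
        obtain ⟨a, ha⟩ := (hfg (x - (s y : H))).mp (by rw [map_sub, hsy]; exact sub_self _)
        have haF : a ∈ F₁ := hFcomap _ (ha ▸ sub_mem hx (s y).2)
        rw [show x = (s y : H) + f a by rw [ha]; abel, hT _ _ haF]
        exact add_mem (s' y).2 (hFmem' _ (sub_mem haF (hπ₁ _)))

end Groth.Agent.S16420
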