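import Groth.Statements.S16421
import Mathlib.RingTheory.Flat.EquationalCriterion
import Mathlib.RingTheory.RingHom.FaithfullyFlat
import Mathlib.RingTheory.Spectrum.Prime.Homeomorph
import Mathlib.FieldTheory.IsPerfectClosure
-- import your own Groth.Agent.* helpers here

set_option autoImplicit false
universe u
open FrobAlg

namespace Groth.Agent.S16421

/-- Flatness of the iterated Frobenius of a ring with a `p`-basis, in equational form. -/
theorem frob_trivial (p : ℕ) [Fact p.Prime] (R : Type u) [CommRing R] [CharP R p] (E : Type u) (m : E → R)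
    (hx : Function.Bijective (fun c : E →₀ R => c.sum (fun e r => r ^ p * m e))) :
    ∀ (n l : ℕ) (f x : Fin l → R), ∑ i, f i ^ p ^ n * x i = 0 →
      ∃ (κ : Type u) (_ : Fintype κ) (a : Fin l → κ → R) (y : κ → R),
        (∀ i, x i = ∑ j, a i j ^ p ^ n * y j) ∧ ∀ j, ∑ i, f i * a i j = 0
  | 0, l, f, x, h => ⟨PUnit, inferInstance, fun i _ => x i, fun _ => 1, fun i => by simp,
      fun j => by simpa using h⟩
  | n + 1, l, f, x, h => by
    classical
    choose c hc using fun i => hx.2 (x i)
    let Ψ : (E →₀ R) → R := fun c => c.sum (fun e r => r ^ p * m e)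
    have hΨ0 : ∀ d : E →₀ R, Ψ d = 0 → d = 0 := fun d hd => hx.1 (by simpa [Ψ] using hd)
    let s : Finset E := Finset.univ.biUnion fun i => (c i).support
    have hxs : ∀ i, x i = ∑ e : s, c i e ^ p * m e := fun i => by
      rw [Finset.sum_coe_sort s (fun e => c i e ^ p * m e), ← hc i]
      exact Finsupp.sum_of_support_subset _ (fun e he => Finset.mem_biUnion.2 ⟨i, Finset.mem_univ i, he⟩) _
        (fun e _ => by simp [(Fact.out : p.Prime).ne_zero])
    have hd : ∀ e : E, ∑ i, f i ^ p ^ n * c i e = 0 := by
      let d : E →₀ R := ∑ i, f i ^ p ^ n • c i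
      have hde : ∀ e, d e = ∑ i, f i ^ p ^ n * c i e := fun e => by simp [d, Finsupp.finsetSum_apply]
      have hsub : d.support ⊆ s := fun e he => by
        by_contra hes
        simp only [s, Finset.mem_biUnion, Finset.mem_univ, true_and, not_exists, Finsupp.notMem_support_iff] at hes
        exact Finsupp.mem_support_iff.1 he (by rw [hde]; exact Finset.sum_eq_zero fun i _ => by simp [hes i])
      have hd0 : d = 0 := hΨ0 d (by
        show d.sum (fun e r => r ^ p * m e) = 0
        rw [Finsupp.sum_of_support_subset _ hsub _ (fun e _ => by simp [(Fact.out : p.Prime).ne_zero])]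
        rw [← h, ← Finset.sum_coe_sort s (fun e => d e ^ p * m e)]
        simp only [hxs, Finset.mul_sum, hde, sum_pow_char, Finset.sum_mul, mul_pow, ← pow_mul, ← pow_succ]
        rw [Finset.sum_comm]
        simp only [mul_assoc])
      exact fun e => by rw [← hde, hd0]; rfl
    choose κ hκ a y hay haf using fun e : s => frob_trivial p R E m hx n l f (fun i => c i e) (hd e)
    haveI := hκ
    refine ⟨(e : s) × κ e, inferInstance, fun i j => a j.1 i j.2, fun j => y j.1 j.2 ^ p * m j.1, fun i => ?_,
      fun j => haf j.1 j.2⟩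
    rw [hxs i, Fintype.sum_sigma]
    refine Finset.sum_congr (by ext; simp) fun e _ => ?_
    rw [hay e i, sum_pow_char, Finset.sum_mul]
    refine Finset.sum_congr (by ext; simp) fun j _ => ?_
    rw [mul_pow, ← pow_mul, ← pow_succ, mul_assoc]

/-- Let p be a prime and R a commutative ring of characteristic p with a p-basis (x_i), meaning that the
monomials ∏ x_i^(e i) with every exponent e i < p form a basis of R as a module over itself through
the Frobenius, i.e. the map sending a finitely supported family of coefficients c to ∑_e (c e)^p · ∏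
x_i^(e i) is a bijection onto R. Then the canonical ring map from R to its perfect closure is
faithfully flat. -/
theorem result (p : ℕ) [Fact p.Prime]
    (R : Type u) [CommRing R] [CharP R p] (ι : Type u) (x : ι → R)
    (hx : Function.Bijective
      (fun c : {e : ι →₀ ℕ // ∀ i, e i < p} →₀ R =>
        c.sum (fun e r => r ^ p * e.1.prod (fun i n => x i ^ n)))) :
    (PerfectClosure.of R p).FaithfullyFlat := by
  classical
  haveI : ExpChar R p := ExpChar.prime Fact.out
  let P := PerfectClosure R p
  let ι₀ : R →+* P := PerfectClosure.of R p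
  have hp := IsPRadical.pow_mem ι₀ p
  have hkey := frob_trivial p R {e : ι →₀ ℕ // ∀ i, e i < p} (fun e => e.1.prod (fun i n => x i ^ n)) hx
  -- `R` is reduced
  have hred : ∀ r : R, r ^ p = 0 → r = 0 := fun r hr => by
    have h0 : ({e : ι →₀ ℕ // ∀ i, e i < p}) := ⟨0, fun _ => (Fact.out : p.Prime).pos⟩
    have := @hx.1 (Finsupp.single h0 r) 0 (by simp [hr, Finsupp.sum_single_index, (Fact.out : p.Prime).ne_zero])
    simpa using this
  have hpn : ∀ (N : ℕ) (r : R), r ^ p ^ N = 0 → r = 0 := by
    intro N
    induction N with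
    | zero => intro r hr; simpa using hr
    | succ N ih => intro r hr; exact ih r (hred _ (by rwa [← pow_mul, ← pow_succ]))
  have hinj : Function.Injective ι₀ := (injective_iff_map_eq_zero _).2 fun r hr => by
    have h := IsPRadical.ker_le ι₀ p (RingHom.mem_ker.2 hr)
    obtain ⟨N, hN⟩ := mem_pNilradical.1 h
    exact hpn N r hN
  rw [RingHom.FaithfullyFlat.iff_flat_and_comap_surjective]
  refine ⟨?_, ?_⟩
  · letI : Algebra R P := ι₀.toAlgebra
    show Module.Flat R P
    rw [Module.Flat.iff_forall_isTrivialRelation]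
    intro l f z hfz
    choose n y hy using fun i => hp (z i)
    let N := Finset.univ.sup n
    let σ : P ≃+* P := (iterateFrobeniusEquiv P p N).symm
    let φ : R →+* P := σ.toRingHom.comp ι₀
    have hφ : ∀ r, φ r ^ p ^ N = ι₀ r := fun r => (iterateFrobeniusEquiv P p N).apply_symm_apply (ι₀ r)
    have hinjN : Function.Injective (fun u : P => u ^ p ^ N) := (iterateFrobeniusEquiv P p N).injective
    have hz : ∀ i, z i = φ (y i ^ p ^ (N - n i)) := fun i => hinjN (by
      show z i ^ p ^ N = φ (y i ^ p ^ (N - n i)) ^ p ^ N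
      rw [hφ, map_pow, hy i, ← pow_mul, ← pow_add, Nat.add_sub_cancel' (Finset.le_sup (Finset.mem_univ i))])
    have hsmul : ∀ (r : R) (u : R), r • φ u = φ (r ^ p ^ N * u) := fun r u => hinjN (by
      show (ι₀ r * φ u) ^ p ^ N = φ (r ^ p ^ N * u) ^ p ^ N
      rw [hφ, mul_pow, hφ, map_mul, map_pow])
    have hrel : ∑ i, f i ^ p ^ N * y i ^ p ^ (N - n i) = 0 := by
      apply hinj
      rw [map_zero, ← hφ, map_sum]
      simp only [← hsmul, ← hz, hfz]
      exact zero_pow (pow_ne_zero _ (Fact.out : p.Prime).ne_zero)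
    obtain ⟨κ, _, a, w, ha, haf⟩ := hkey N l f _ hrel
    let e := Fintype.equivFin κ
    rw [Module.IsTrivialRelation]
    refine ⟨Fintype.card κ, fun i j => a i (e.symm j), fun j => φ (w (e.symm j)), fun i => ?_, fun j => haf _⟩
    rw [hz i, ha i, map_sum, ← e.symm.sum_comp]
    exact Finset.sum_congr rfl fun j _ => (hsmul _ _).symm
  · refine (PrimeSpectrum.isHomeomorph_comap ι₀ (fun u => ?_) ?_).surjective
    · obtain ⟨n, r, hr⟩ := hp u
      exact ⟨p ^ n, pow_pos (Fact.out : p.Prime).pos n, r, hr⟩
    · rw [(RingHom.injective_iff_ker_eq_bot _).1 hinj]; exact bot_le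


end Groth.Agent.S16421
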