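import Groth.Statements.S16422
import Mathlib.Tactic
import Mathlib.RingTheory.GradedAlgebra.Basic
import Mathlib.RingTheory.GradedAlgebra.Homogeneous.Ideal
import Mathlib.RingTheory.Finiteness.Basic
import Mathlib.Algebra.Module.Projective


set_option autoImplicit false
universe u
open GrMod

namespace Groth.Agent.S16422

/-- Let S be a commutative ring graded by ℤ with pieces 𝒜 n, and V a decreasing sequence of homogeneous
ideals for which S is graded-complete, i.e. for each degree n the map from 𝒜 n to the inverse limit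
of the quotients 𝒜 n / (𝒜 n ∩ V m) is bijective (stated as: a degree-n element in every V m
vanishes, and every sequence in 𝒜 n whose consecutive differences lie in the V m has a limit in 𝒜
n). Then every graded S-module M which is finitely generated and projective as an S-module is
graded-complete in the same sense for the submodules V m · M: for each n the map from ℳ n to the
inverse limit of ℳ n / (ℳ n ∩ V m · M) is bijective. -/
theorem result
    (S : Type u) [CommRing S] (𝒜 : ℤ → AddSubgroup S) [GradedRing 𝒜]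
    (V : ℕ → HomogeneousIdeal 𝒜) (hV : ∀ m, (V (m + 1)).toIdeal ≤ (V m).toIdeal)
    (hsep : ∀ (n : ℤ) (s : S), s ∈ 𝒜 n → (∀ m, s ∈ (V m).toIdeal) → s = 0)
    (hcpl : ∀ (n : ℤ) (f : ℕ → S), (∀ m, f m ∈ 𝒜 n) →
      (∀ m, f (m + 1) - f m ∈ (V m).toIdeal) → ∃ s ∈ 𝒜 n, ∀ m, s - f m ∈ (V m).toIdeal)
    (M : Type u) [AddCommGroup M] [Module S M] (ℳ : ℤ → AddSubgroup M)
    [DirectSum.Decomposition ℳ] [SetLike.GradedSMul 𝒜 ℳ]
    [Module.Finite S M] [Module.Projective S M] :
    (∀ (n : ℤ) (x : M), x ∈ ℳ n → (∀ m, x ∈ (V m).toIdeal • (⊤ : Submodule S M)) → x = 0) ∧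
    (∀ (n : ℤ) (g : ℕ → M), (∀ m, g m ∈ ℳ n) →
      (∀ m, g (m + 1) - g m ∈ (V m).toIdeal • (⊤ : Submodule S M)) →
      ∃ x ∈ ℳ n, ∀ m, x - g m ∈ (V m).toIdeal • (⊤ : Submodule S M)) := by
  classical
  -- homogeneous generators
  obtain ⟨T, hT⟩ := (Module.Finite.fg_top : (⊤ : Submodule S M).FG)
  let ι := (t : T) × {i : ℤ // i ∈ (DirectSum.decompose ℳ (t : M)).support}
  let d : ι → ℤ := fun p => p.2.1
  let x : ι → M := fun p => (DirectSum.decompose ℳ (p.1 : M) p.2.1 : M)
  have hxd : ∀ p, x p ∈ ℳ (d p) := fun p => SetLike.coe_mem _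
  let π : (ι →₀ S) →ₗ[S] M := Finsupp.linearCombination S x
  have hπ : Function.Surjective π := by
    rw [← LinearMap.range_eq_top, Finsupp.range_linearCombination, eq_top_iff, ← hT, Submodule.span_le]
    intro t ht
    rw [SetLike.mem_coe, ← DirectSum.sum_support_decompose ℳ t]
    exact Submodule.sum_mem _ fun i hi => Submodule.subset_span ⟨⟨⟨t, ht⟩, ⟨i, hi⟩⟩, rfl⟩
  obtain ⟨s, hs⟩ := Module.projective_lifting_property π LinearMap.id hπ
  have hfix : ∀ m : M, ∑ p, s m p • x p = m := fun m => by
    have := LinearMap.congr_fun hs m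
    simpa [π, Finsupp.linearCombination_apply, Finsupp.sum_fintype] using this
  let c : ι → ℤ → M → S := fun p n m => (DirectSum.decompose 𝒜 (s m p) (n - d p) : S)
  have hsmul : ∀ (a : S) (p : ι) (n : ℤ),
      (DirectSum.decompose ℳ (a • x p) n : M) = (DirectSum.decompose 𝒜 a (n - d p) : S) • x p := by
    intro a p n
    conv_lhs => rw [← DirectSum.sum_support_decompose 𝒜 a]
    simp only [Finset.sum_smul, DirectSum.decompose_sum, DirectSum.sum_apply, AddSubmonoidClass.coe_finsetSum]
    have hmem : ∀ i, (DirectSum.decompose 𝒜 a i : S) • x p ∈ ℳ (i + d p) := fun i => by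
      have := SetLike.GradedSMul.smul_mem (A := 𝒜) (B := ℳ) (SetLike.coe_mem (DirectSum.decompose 𝒜 a i)) (hxd p)
      rwa [vadd_eq_add] at this
    rw [Finset.sum_eq_single (n - d p)]
    · have h := hmem (n - d p)
      rw [sub_add_cancel] at h
      exact DirectSum.decompose_of_mem_same ℳ h
    · intro i _ hi
      exact DirectSum.decompose_of_mem_ne ℳ (hmem i) (fun h => hi (by omega))
    · intro h
      rw [DFinsupp.notMem_support_iff] at h
      rw [h]; simp
  have hcomp : ∀ (n : ℤ) (m : M), m ∈ ℳ n → ∑ p, c p n m • x p = m := by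
    intro n m hm
    conv_rhs => rw [← DirectSum.decompose_of_mem_same ℳ hm, ← hfix m]
    rw [DirectSum.decompose_sum, DirectSum.sum_apply, AddSubmonoidClass.coe_finsetSum]
    exact Finset.sum_congr rfl fun p _ => (hsmul _ p n).symm
  have hcmem : ∀ (k : ℕ) (p : ι) (n : ℤ) (m : M), m ∈ (V k).toIdeal • (⊤ : Submodule S M) →
      c p n m ∈ (V k).toIdeal := by
    intro k p n m hm
    refine (V k).is_homogeneous' _ ?_
    refine Submodule.smul_induction_on hm (fun a ha y _ => ?_) (fun y z hy hz => ?_)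
    · rw [map_smul, Finsupp.smul_apply, smul_eq_mul]; exact Ideal.mul_mem_right _ _ ha
    · rw [map_add, Finsupp.add_apply]; exact add_mem hy hz
  have hcsub : ∀ (p : ι) (n : ℤ) (m m' : M), c p n (m - m') = c p n m - c p n m' := fun p n m m' => by
    simp only [c, map_sub, Finsupp.sub_apply, DirectSum.decompose_sub, DirectSum.sub_apply, AddSubgroupClass.coe_sub]
  constructor
  · intro n m hm hmV
    rw [← hcomp n m hm]
    refine Finset.sum_eq_zero fun p _ => ?_
    rw [hsep (n - d p) (c p n m) (SetLike.coe_mem _) (fun k => hcmem k p n m (hmV k)), zero_smul]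
  · intro n g hg hgV
    have hl : ∀ p : ι, ∃ a ∈ 𝒜 (n - d p), ∀ k, a - c p n (g k) ∈ (V k).toIdeal := fun p =>
      hcpl (n - d p) (fun k => c p n (g k)) (fun k => SetLike.coe_mem _)
        (fun k => by rw [← hcsub]; exact hcmem k p n _ (hgV k))
    choose a ha haV using hl
    refine ⟨∑ p, a p • x p, sum_mem fun p _ => ?_, fun k => ?_⟩
    · have := SetLike.GradedSMul.smul_mem (A := 𝒜) (B := ℳ) (ha p) (hxd p)
      rwa [vadd_eq_add, sub_add_cancel] at this
    · rw [← hcomp n (g k) (hg k), ← Finset.sum_sub_distrib]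
      refine Submodule.sum_mem _ fun p _ => ?_
      rw [← sub_smul]
      exact Submodule.smul_mem_smul (haV p k) Submodule.mem_top
end Groth.Agent.S16422
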