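import Groth.Statements.S16423
import Groth.Agent.L02.CAlg.QFSlice.FibreStalk
import Groth.Agent.L21.Smooth.Scheme
import Groth.Agent.L04.CMLoc

set_option autoImplicit false
set_option linter.style.haveILetI false
set_option backward.isDefEq.respectTransparency.types false
universe u
open CategoryTheory CategoryTheory.Limits AlgebraicGeometry TopologicalSpace
open RhoSh

namespace Groth.Agent.S16423

/-- Let X be a smooth, proper, geometrically irreducible scheme over a field k admitting an ample
invertible sheaf, let S be a k-scheme and let x be a point of X ×_k S lying over s ∈ S. If the local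
ring at x of the fibre (X ×_k S)_s has Krull dimension at least 2 (this holds at every point outside
a big open subset, i.e. one whose complement has codimension at least 2 in every fibre), then the
local ring of X ×_k S at x has depth at least 2. -/
theorem result
    (k : Type u) [Field k] (X S : Scheme.{u})
    (a : X ⟶ Spec (CommRingCat.of k)) (b : S ⟶ Spec (CommRingCat.of k))
    [Smooth a] [IsProper a] [GeometricallyIrreducible a]
    (hproj : ∃ H : X.Modules, CohB1.IsAmple H)
    (x : ↥(pullback a b))
    (hx : (2 : WithBot ℕ∞) ≤ ringKrullDim ↑(CInt.fiberStalk (pullback.snd a b) x)) :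
    (2 : ℕ∞) ≤ LocCoh.depth ↑((pullback a b).presheaf.stalk x) ↑((pullback a b).presheaf.stalk x) := by
  set f := pullback.snd a b with hf
  haveI : Smooth (f.fiberToSpecResidueField (f.base x)) :=
    MorphismProperty.pullback_snd f _ inferInstance
  haveI := @Groth.L21.Smooth.regular_stalk _ _ _ (f.fiberToSpecResidueField (f.base x)) this (f.asFiber x)
  haveI := Groth.L04.isCohenMacaulayLocalRing_of_regular ((f.fiber (f.base x)).presheaf.stalk (f.asFiber x))
  have h2 : ((2 : ℕ) : ℕ∞) ≤ LocCoh.depth ((f.fiber (f.base x)).presheaf.stalk (f.asFiber x))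
      ((f.fiber (f.base x)).presheaf.stalk (f.asFiber x)) := by
    rw [← WithBot.coe_le_coe, ← LocCoh.IsCohenMacaulayLocalRing.supportDim_eq_depth,
      Module.supportDim_self_eq_ringKrullDim]
    exact hx
  obtain ⟨e, hs, hlen, hmem, hreg, -⟩ := L02.CAlg.QFSlice.exists_fibre_regular f x 2 h2
  obtain ⟨U, hU, hxU, hs', -, hmap, hreg', -⟩ :=
    L02.CAlg.QFSlice.exists_slice f x (AlgebraicGeometry.Flat.stalkMap f x) hs hmem hreg ⊤ trivial
  letI : Algebra Γ(pullback a b, U) ((pullback a b).presheaf.stalk x) :=
    ((pullback a b).presheaf.germ U x hxU).hom.toAlgebra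
  haveI : IsLocalization.AtPrime ((pullback a b).presheaf.stalk x) (hU.primeIdealOf ⟨x, hxU⟩).asIdeal :=
    hU.isLocalization_stalk ⟨x, hxU⟩
  haveI : Module.Flat Γ(pullback a b, U) ((pullback a b).presheaf.stalk x) :=
    IsLocalization.flat _ (hU.primeIdealOf ⟨x, hxU⟩).asIdeal.primeCompl
  have hr := RingTheory.Sequence.IsWeaklyRegular.of_flat (S := (pullback a b).presheaf.stalk x) hreg'
  rw [RingHom.algebraMap_toAlgebra, hmap] at hr
  have hne : IsLocalRing.maximalIdeal ((pullback a b).presheaf.stalk x) •
      (⊤ : Submodule ((pullback a b).presheaf.stalk x) ((pullback a b).presheaf.stalk x)) ≠ ⊤ := by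
    rw [smul_eq_mul, Ideal.mul_top]
    exact (IsLocalRing.maximalIdeal.isMaximal _).ne_top
  refine le_trans ?_ (show (hs.length : ℕ∞) ≤ _ from ?_)
  · exact_mod_cast hlen
  · rw [LocCoh.depth, LocCoh.idealDepth, if_neg hne]
    exact le_iSup₂_of_le hs ⟨hr, hmem⟩ le_rfl

end Groth.Agent.S16423
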