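import Groth.Prelude.Def_CInt
import Groth.Prelude.Def_TorSh
import Groth.Prelude.Def_FlatMod2
import Groth.Prelude.Def_CohB1
import Mathlib.AlgebraicGeometry.Morphisms.Smooth
import Mathlib.AlgebraicGeometry.Morphisms.Proper
import Mathlib.AlgebraicGeometry.Fiber
import Mathlib.RingTheory.KrullDimension.Basic
import Mathlib.AlgebraicGeometry.Geometrically.Irreducible
import Groth.Agent.L17.Strat.GenBase
import Groth.Agent.L20.RG.FibreFreeFlat
import Groth.Agent.L20.FibreFree
import Groth.Agent.L21.Curve.SmoothDescent
import Groth.Agent.L21.Smooth.Scheme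
import Groth.Agent.L07.CIScheme
import Mathlib.RingTheory.Flat.TorsionFree

set_option autoImplicit false
set_option linter.style.haveILetI false
namespace RhoSh
end RhoSh
universe u
open CategoryTheory CategoryTheory.Limits AlgebraicGeometry TopologicalSpace
open RhoSh

namespace Groth.Agent.S16424

/-- Let X be a smooth, proper, geometrically irreducible scheme over a field k admitting an ample
invertible sheaf, S a k-scheme, and F a finitely presented quasi-coherent module on X ×_k S which is
flat over S and whose pullback to every fibre (X ×_k S)_s is torsion-free. Then F is free of finite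
rank on some open neighbourhood of every point x whose local ring in its fibre has Krull dimension
at most 1. In particular F is locally free on a big open subset of X ×_k S. -/
theorem result
    (k : Type u) [Field k] (X S : Scheme.{u})
    (a : X ⟶ Spec (CommRingCat.of k)) (b : S ⟶ Spec (CommRingCat.of k))
    [Smooth a] [IsProper a] [GeometricallyIrreducible a]
    (hproj : ∃ H : X.Modules, CohB1.IsAmple H)
    (F : (pullback a b).Modules) (hfp : CohB1.IsFP F)
    (hfl : FlatMod.IsFlatOver (pullback.snd a b) F)
    (htf : ∀ s : ↥S, TorSh.IsTorsionFree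
      ((Scheme.Modules.pullback ((pullback.snd a b).fiberι s)).obj F))
    (x : ↥(pullback a b))
    (hx : ringKrullDim ↑(CInt.fiberStalk (pullback.snd a b) x) ≤ 1) :
    ∃ (V : (pullback a b).Opens) (n : ℕ), x ∈ V ∧
      Nonempty (F.restrict V.ι ≅ FlatMod.freeMod (↑V) n) := by
  haveI : Coh.IsQCoh F := Groth.L17.Strat.isQCoh_of_isFP F hfp
  set f := pullback.snd a b with hf
  obtain ⟨s, z, rfl⟩ : ∃ s z, f.fiberι s z = x := ⟨_, _, f.fiberι_asFiber x⟩
  haveI hsm : Smooth (f.fiberToSpecResidueField s) := MorphismProperty.pullback_snd f _ inferInstance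
  haveI := @Groth.L21.Smooth.regular_stalk _ _ _ (f.fiberToSpecResidueField s) hsm z
  let B := (f.fiber s).presheaf.stalk z
  haveI : IsDomain B := Groth.L01.isDomain_of_regular B
  obtain ⟨e₁⟩ := Groth.L07.CIScheme.exists_fiberStalkEquiv f s z _ rfl
  obtain ⟨e₂⟩ := Groth.L07.CIScheme.exists_fiberStalkEquiv f (f (f.fiberι s z)) (f.asFiber _) _
    (f.fiberι_asFiber (f.fiberι s z))
  have hd : ringKrullDim B ≤ 1 := by
    rw [show ringKrullDim B = ringKrullDim ↑(CInt.fiberStalk f (f.fiberι s z)) from
      ringKrullDim_eq_of_ringEquiv (e₁.symm.trans e₂)]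
    exact hx
  haveI : IsPrincipalIdealRing B := (tfae_of_isNoetherianRing_of_isLocalRing_of_isDomain B).out 4 0 |>.mp
    (Groth.L21.SmoothDescent.isPrincipal_of_dim_le_one hd)
  let G := (Scheme.Modules.pullback (f.fiberι s)).obj F
  haveI : Module.IsTorsionFree B (G.presheaf.stalk z) := htf s z
  have hflat : FlatMod.IsFlatAt G z :=
    Module.Flat.flat_iff_torsion_eq_bot_of_isBezout.2 (Submodule.isTorsionFree_iff_torsion_eq_bot.1 (htf s z))
  obtain ⟨V, n, hV, hiso⟩ := Groth.L20.FibreFree.exists_free_nhd F hfp _
    (Groth.L20.RG.FibreFree.isFlatAt_of_fibre f F hfp s z (hfl _) hflat)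
  exact ⟨V, n, hV, hiso⟩

end Groth.Agent.S16424
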