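import Groth.Statements.S16428
import Groth.Agent.L02.CAlg.QFSlice.FibreStalk
import Groth.Agent.L21.Smooth.Scheme
import Groth.Agent.L01.Regular
import Groth.Agent.L07.CIScheme

set_option autoImplicit false
set_option linter.style.haveILetI false
set_option backward.isDefEq.respectTransparency.types false
universe u
open CategoryTheory CategoryTheory.Limits AlgebraicGeometry TopologicalSpace
open RhoSh

namespace Groth.Agent.S16428

/-- Let X be a smooth, proper, geometrically irreducible scheme over a field k admitting an ample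
invertible sheaf, S a k-scheme, and U a big open subset of X ×_k S, i.e. at every point outside U
the local ring of the fibre over S has Krull dimension at least 2. Then U is schematically dense in
X ×_k S: restriction of functions from any open V to V ∩ U is injective. -/
theorem result
    (k : Type u) [Field k] (X S : Scheme.{u})
    (a : X ⟶ Spec (CommRingCat.of k)) (b : S ⟶ Spec (CommRingCat.of k))
    [Smooth a] [IsProper a] [GeometricallyIrreducible a]
    (hproj : ∃ H : X.Modules, CohB1.IsAmple H)
    (U : (pullback a b).Opens)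
    (hU : ∀ x : ↥(pullback a b), x ∉ U →
      (2 : WithBot ℕ∞) ≤ ringKrullDim ↑(CInt.fiberStalk (pullback.snd a b) x)) :
    CInt.IsSchematicallyDense U := by
  classical
  set f := pullback.snd a b with hf
  have hdim : ∀ (s : S) (y : f.fiber s),
      ringKrullDim ↑((f.fiber s).presheaf.stalk y) = ringKrullDim ↑(CInt.fiberStalk f (f.fiberι s y)) := by
    intro s y
    obtain ⟨e₁⟩ := Groth.L07.CIScheme.exists_fiberStalkEquiv f s y _ rfl
    obtain ⟨e₂⟩ := Groth.L07.CIScheme.exists_fiberStalkEquiv f (f (f.fiberι s y)) (f.asFiber _) _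
      (f.fiberι_asFiber (f.fiberι s y))
    exact ringKrullDim_eq_of_ringEquiv (e₁.symm.trans e₂)
  intro V
  refine (injective_iff_map_eq_zero ((pullback a b).presheaf.map (homOfLE (inf_le_left : V ⊓ U ≤ V)).op).hom).mpr
    fun s hs => ?_
  refine TopCat.Presheaf.section_ext (pullback a b).sheaf V s 0 fun x hxV => ?_
  show (pullback a b).presheaf.germ V x hxV s = (pullback a b).presheaf.germ V x hxV 0
  rw [map_zero]
  by_cases hxU : x ∈ U
  · rw [← (pullback a b).presheaf.germ_res_apply (homOfLE (inf_le_left : V ⊓ U ≤ V)) x ⟨hxV, hxU⟩ s]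
    exact (congrArg ((pullback a b).presheaf.germ (V ⊓ U) x ⟨hxV, hxU⟩) hs).trans (map_zero _)
  -- the fibre through `x`
  set s₀ : S := f x with hs₀
  set y₀ : f.fiber s₀ := f.asFiber x with hy₀def
  have hy₀ : f.fiberι s₀ y₀ = x := f.fiberι_asFiber x
  haveI hsm : Smooth (f.fiberToSpecResidueField s₀) := MorphismProperty.pullback_snd f _ inferInstance
  haveI := @Groth.L21.Smooth.regular_stalk _ _ _ (f.fiberToSpecResidueField s₀) hsm y₀
  haveI : IsDomain ((f.fiber s₀).presheaf.stalk y₀) :=
    Groth.L01.isDomain_of_regular ((f.fiber s₀).presheaf.stalk y₀)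
  -- a maximal generization in the fibre
  have hC : IsIrreducible (irreducibleComponent y₀) := isIrreducible_irreducibleComponent
  set η := hC.genericPoint with hηdef
  have hη : IsGenericPoint η (irreducibleComponent y₀) :=
    hC.isGenericPoint_genericPoint isClosed_irreducibleComponent
  have hηy : η ⤳ y₀ := hη.specializes mem_irreducibleComponent
  have hηmax : IsMax η := by
    intro z hz
    change z ⤳ η at hz
    show η ⤳ z
    have h1 : irreducibleComponent y₀ ⊆ closure {z} := by
      rw [← hη]
      exact closure_minimal (Set.singleton_subset_iff.mpr hz.mem_closure) isClosed_closure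
    have h2 := (irreducibleComponent_property y₀).2.2 (closure {z}) isIrreducible_singleton.closure.2 h1
    exact hη.specializes (h2 ▸ subset_closure rfl)
  have hηU : f.fiberι s₀ η ∈ U := by
    by_contra h
    have := hU _ h
    rw [← hdim, AlgebraicGeometry.ringKrullDim_stalk_eq_coheight, Order.coheight_eq_zero.mpr hηmax] at this
    exact absurd (WithBot.coe_le_coe.mp this) (by simp)
  -- a function `g` on an affine chart with non-zero locus inside `U`
  obtain ⟨_, ⟨W, hW, rfl⟩, hxW, hWV⟩ :=
    (pullback a b).isBasis_affineOpens.exists_subset_of_mem_open hxV V.2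
  replace hW : IsAffineOpen W := hW
  have hηW : f.fiberι s₀ η ∈ W :=
    (hηy.map (f.fiberι s₀).base.hom.continuous).mem_open W.2 (by rw [Scheme.Hom.asFiber] at hy₀def; exact hy₀ ▸ hxW)
  obtain ⟨g, hgle, hgη⟩ := hW.exists_basicOpen_le (V := U ⊓ W) ⟨_, hηU, hηW⟩ hηW
  set c := (pullback a b).presheaf.germ W x hxW g with hc
  have hcmax : c ∈ IsLocalRing.maximalIdeal ((pullback a b).presheaf.stalk x) := by
    rw [IsLocalRing.mem_maximalIdeal]
    intro hu
    exact hxU (hgle ((Scheme.mem_basicOpen _ g x hxW).mpr hu)).1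
  have hreg : RingTheory.Sequence.IsWeaklyRegular
      ((pullback a b).presheaf.stalk x ⧸ Ideal.map (f.stalkMap x).hom
        (IsLocalRing.maximalIdeal (S.presheaf.stalk (f x))))
      ([c].map (Ideal.Quotient.mk (Ideal.map (f.stalkMap x).hom
        (IsLocalRing.maximalIdeal (S.presheaf.stalk (f x)))))) := by
    obtain ⟨e⟩ := Groth.L07.CIScheme.exists_fiberStalkEquiv f s₀ y₀ x hy₀
    haveI : IsDomain ((pullback a b).presheaf.stalk x ⧸ Ideal.map (f.stalkMap x).hom
        (IsLocalRing.maximalIdeal (S.presheaf.stalk (f x)))) :=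
      e.toMulEquiv.isDomain ((f.fiber s₀).presheaf.stalk y₀)
    rw [List.map_cons, List.map_nil, RingTheory.Sequence.isWeaklyRegular_singleton_iff]
    refine IsSMulRegular.of_ne_zero fun h0 => ?_
    rw [Ideal.Quotient.eq_zero_iff_mem] at h0
    -- so the image of `g` vanishes at `y₀`, hence at `η`
    have key : ∀ (x' : ↥(pullback a b)) (hx' : x' ∈ W), f.fiberι s₀ y₀ = x' →
        (pullback a b).presheaf.germ W x' hx' g ∈ Ideal.map (f.stalkMap x').hom
          (IsLocalRing.maximalIdeal (S.presheaf.stalk (f x'))) →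
        (f.fiber s₀).presheaf.germ ((f.fiberι s₀) ⁻¹ᵁ W) η hηW ((f.fiberι s₀).app W g) = 0 := by
      intro x' hx' hx'eq hmem
      subst hx'eq
      rw [← (Groth.L18.stalkMap_fiberι f s₀ y₀).2, RingHom.mem_ker] at hmem
      rw [Scheme.Hom.germ_stalkMap_apply] at hmem
      rw [← TopCat.Presheaf.germ_stalkSpecializes_apply (F := (f.fiber s₀).presheaf) (hy := hx') hηy,
        hmem, map_zero]
    have hz := key x hxW hy₀ h0
    have hηb : η ∈ (f.fiber s₀).basicOpen ((f.fiberι s₀).app W g) := by
      rw [← Scheme.preimage_basicOpen]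
      exact hgη
    rw [Scheme.mem_basicOpen _ _ η hηW, hz] at hηb
    exact not_isUnit_zero hηb
  obtain ⟨U', hU', hxU', hs', -, hmap, hreg', -⟩ := L02.CAlg.QFSlice.exists_slice f x
    (AlgebraicGeometry.Flat.stalkMap f x) [c] (by simpa using hcmax) hreg W hxW
  letI : Algebra Γ(pullback a b, U') ((pullback a b).presheaf.stalk x) :=
    ((pullback a b).presheaf.germ U' x hxU').hom.toAlgebra
  haveI : IsLocalization.AtPrime ((pullback a b).presheaf.stalk x) (hU'.primeIdealOf ⟨x, hxU'⟩).asIdeal :=
    hU'.isLocalization_stalk ⟨x, hxU'⟩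
  haveI : Module.Flat Γ(pullback a b, U') ((pullback a b).presheaf.stalk x) :=
    IsLocalization.flat _ (hU'.primeIdealOf ⟨x, hxU'⟩).asIdeal.primeCompl
  have hr := RingTheory.Sequence.IsWeaklyRegular.of_flat (S := (pullback a b).presheaf.stalk x) hreg'
  rw [RingHom.algebraMap_toAlgebra, hmap, RingTheory.Sequence.isWeaklyRegular_singleton_iff] at hr
  -- a power of `g` kills `s`
  letI : Algebra Γ(pullback a b, W) Γ(pullback a b, (pullback a b).basicOpen g) :=
    ((pullback a b).presheaf.map (homOfLE ((pullback a b).basicOpen_le g)).op).hom.toAlgebra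
  haveI := hW.isLocalization_basicOpen g
  set sW := (pullback a b).presheaf.map (homOfLE (show W ≤ V from hWV)).op s with hsW
  have h0 : algebraMap Γ(pullback a b, W) Γ(pullback a b, (pullback a b).basicOpen g) sW = 0 := by
    show (pullback a b).presheaf.map _ ((pullback a b).presheaf.map _ s) = 0
    have hle : (pullback a b).basicOpen g ≤ V ⊓ U :=
      fun p hp => ⟨hWV (hgle hp).2, (hgle hp).1⟩
    have hs' := congrArg ((pullback a b).presheaf.map (homOfLE hle).op) hs
    rw [map_zero] at hs'
    refine Eq.trans ?_ hs'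
    show (((pullback a b).presheaf.map _ ≫ (pullback a b).presheaf.map _) s) =
      (((pullback a b).presheaf.map _ ≫ (pullback a b).presheaf.map _) s)
    rw [← Functor.map_comp, ← Functor.map_comp]
    rfl
  obtain ⟨⟨_, n, rfl⟩, hn⟩ := (IsLocalization.map_eq_zero_iff (Submonoid.powers g) _ sW).mp h0
  have h1 := congrArg ((pullback a b).presheaf.germ W x hxW) hn
  rw [map_mul, map_pow, map_zero, (pullback a b).presheaf.germ_res_apply] at h1
  exact (hr.pow n) (by simpa [smul_eq_mul] using h1)

end Groth.Agent.S16428
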