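import Groth.Prelude.Def_CInt
import Groth.Prelude.Def_TorSh
import Groth.Prelude.Def_FlatMod2
import Groth.Prelude.Def_CohB1
import Groth.Prelude.Def_RefHull
import Groth.Prelude.Def_ExtPow2
import Mathlib.AlgebraicGeometry.Morphisms.Smooth
import Mathlib.AlgebraicGeometry.Morphisms.Proper
import Mathlib.AlgebraicGeometry.Geometrically.Irreducible
import Mathlib.AlgebraicGeometry.Fiber
import Mathlib.AlgebraicGeometry.Noetherian
import Mathlib.RingTheory.KrullDimension.Basic
import Groth.Agent.S16423
import Groth.Agent.L10.RelCan.DepthSheaf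
import Groth.Agent.L15.Ref.ExtPow
import Groth.Agent.L15.Ref.FreeLocus
import Groth.Agent.L15.TFCurve.Lattice
import Groth.Agent.L17.Strat.GenBase
import Groth.Agent.L18.KRRAmple
import Groth.Agent.L12.ExtSh.Free
import Groth.Agent.L12.FinCov.Basis
import Groth.Agent.L20.ResDescent
import Groth.Agent.L20.FibreFree
import Groth.Agent.L02.CAlg.QFSlice.FibreStalk

set_option autoImplicit false
set_option linter.style.haveILetI false
namespace RhoSh
end RhoSh
universe u
open CategoryTheory CategoryTheory.Limits AlgebraicGeometry TopologicalSpace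
open RhoSh

namespace Groth.Agent.S16429

/-- Let X be a smooth, proper, geometrically irreducible scheme over a field k admitting an ample
invertible sheaf, S a locally Noetherian k-scheme, and F a finitely presented quasi-coherent module
on X ×_k S, flat over S with torsion-free fibres. Let U be an open subset of X ×_k S off which every
point has fibre local ring of Krull dimension at least 2 and on which F is locally free of rank h,
and let L be an h-th exterior power of F. Then the determinant det F, i.e. the double dual of L, is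
the direct image of the determinant of the locally free module F|_U: the unit map from the double
dual of L to j_* j^* of it (j the inclusion of U) is an isomorphism, and the biduality map L ⟶ L^**
restricts to an isomorphism over U, identifying det F on U with the exterior power L|_U of F|_U. The
published statement allows any k-scheme S; this row assumes S locally Noetherian. -/
theorem result
    (k : Type u) [Field k] (X S : Scheme.{u})
    (a : X ⟶ Spec (CommRingCat.of k)) (b : S ⟶ Spec (CommRingCat.of k))
    [Smooth a] [IsProper a] [GeometricallyIrreducible a]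
    (hproj : ∃ H : X.Modules, CohB1.IsAmple H) [IsLocallyNoetherian S]
    (F : (pullback a b).Modules) (hfp : CohB1.IsFP F)
    (hfl : FlatMod.IsFlatOver (pullback.snd a b) F)
    (htf : ∀ s : ↥S, TorSh.IsTorsionFree
      ((Scheme.Modules.pullback ((pullback.snd a b).fiberι s)).obj F))
    (h : ℕ) (U : (pullback a b).Opens)
    (hU : ∀ x : ↥(pullback a b), x ∉ U →
      (2 : WithBot ℕ∞) ≤ ringKrullDim ↑(CInt.fiberStalk (pullback.snd a b) x))
    (hFU : FlatMod.IsFinLocFreeOfRank h (F.restrict U.ι))
    (L : (pullback a b).Modules) (hL : ExtPow.IsExtPow h F L) :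
    IsIso ((Scheme.Modules.restrictAdjunction U.ι).unit.app (RefHull.ddual L)) ∧
      IsIso ((Scheme.Modules.restrictFunctor U.ι).map (RefHull.bidualMap L)) := by
  set f := pullback.snd a b with hf
  haveI : Smooth f := MorphismProperty.pullback_snd a b inferInstance
  haveI : IsLocallyNoetherian (pullback a b) := LocallyOfFiniteType.isLocallyNoetherian f
  haveI : Coh.IsQCoh F := Groth.L17.Strat.isQCoh_of_isFP F hfp
  haveI := Groth.L15.Ref.isQCoh_structureModule (X := pullback a b)
  have hFc : Coh.IsCoh F := Groth.L15.TFCurve.isCoh_of_isFP hfp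
  have hLc : Coh.IsCoh L := Groth.L15.Ref.isCoh_extPow hFc hL
  have hDc : Coh.IsCoh (RefHull.dual L) := Groth.L15.Ref.isCoh_dual hLc
  haveI : Coh.IsQCoh (RefHull.ddual L) := (Groth.L15.Ref.isCoh_dual hDc).1
  refine ⟨Groth.L10.RelCan.isIso_unit_of_pairs U _ fun x hx => ?_, ?_⟩
  · obtain ⟨rs, hlen, hrs, hmem⟩ := L02.CAlg.QFSlice.exists_weaklyRegular_length 2
      (Groth.Agent.S16423.result k X S a b hproj x (hU x hx))
    match rs, hlen, hrs, hmem with
    | u :: v :: _, _, hrs, hmem =>
      rw [RingTheory.Sequence.isWeaklyRegular_cons_iff, RingTheory.Sequence.isWeaklyRegular_cons_iff] at hrs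
      obtain ⟨h1, h2⟩ := Groth.L10.RelCan.regular_pair_homSh (G := Coh.structureModule (pullback a b)) hDc x
        (((Groth.L15.Ref.strE x).isSMulRegular_congr u).1 hrs.1)
        (((QuotSMulTop.congr u (Groth.L15.Ref.strE x)).isSMulRegular_congr v).1 hrs.2.1)
      exact ⟨u, hmem u (by simp), v, hmem v (by simp), h1, h2⟩
  · rw [Groth.L21.Mod.isIso_iff_stalk_bijective]
    intro y
    rw [← ConcreteCategory.isIso_iff_bijective]
    refine (NatIso.isIso_map_iff (Groth.L21.Mod.restrictStalkF U.ι y) (RefHull.bidualMap L)).2 ?_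
    rw [ConcreteCategory.isIso_iff_bijective]
    let x : ↥(pullback a b) := U.ι y
    have hflat : FlatMod.IsFlatAt F x := by
      haveI := Groth.L15.Ref.free_of_restrict F hFc (Groth.L18.KRRAmple.isFinLocFree_of_rank hFU) (x := x) y.2
      exact (inferInstance : Module.Flat ((pullback a b).presheaf.stalk x) (F.presheaf.stalk x))
    obtain ⟨V, n, hxV, ⟨e⟩⟩ := Groth.L20.FibreFree.exists_free_nhd F hfp x hflat
    obtain ⟨s, hs⟩ := Groth.L12.FinCov.exists_basisOn_of_iso F e
    obtain ⟨_, ⟨A₀, hA, rfl⟩, hxA, hAV⟩ := (pullback a b).isBasis_affineOpens.exists_subset_of_mem_open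
      (show x ∈ V.ι ''ᵁ ⊤ from (Groth.L12.FinCov.image_ι_top V).ge hxV) (V.ι ''ᵁ ⊤).2
    let A : (pullback a b).Opens := A₀
    obtain ⟨φ, hφ⟩ := hL
    obtain ⟨ks⟩ := Groth.L18.PlkAlg.exists_enum h n
    have hA' : A ≤ V.ι ''ᵁ ⊤ := hAV
    obtain ⟨e'⟩ := Groth.L20.ResDescent.nonempty_iso_free
      (le_of_eq (show A.ι ⁻¹ᵁ A = ⊤ from Scheme.Opens.ι_preimage_self A).symm)
      ((Groth.L12.ExtSh.isBasisOn_extPow φ hφ (U := ⟨A, hA⟩) (hs.mono hA') ks).pullback A.ι)
    haveI : Module.Free ((pullback a b).presheaf.stalk x) (L.presheaf.stalk x) :=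
      Groth.L15.Ref.free_of_restrict L hLc
        (Groth.L29.LocFree.of_iso (Iso.symm ((Scheme.Modules.restrictFunctorIsoPullback
          A.ι).app L ≪≫ e')) (Groth.L18.KRRAmple.isFinLocFree_freeMod _)) hxA
    haveI := Groth.L15.Ref.finite_stalk hLc x
    have hb : Function.Bijective (RefHull.bidualAt L x) :=
      (Groth.L15.Ref.bidualAt_bijective_iff hLc x).2
        (show Module.IsReflexive ((pullback a b).presheaf.stalk x) (L.presheaf.stalk x) by infer_instance)
    rw [← Groth.L15.Ref.stalkMapₗ_bidual] at hb
    exact (Function.Bijective.of_comp_iff'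
      (Groth.L15.Ref.evalStalk_bijective (RefHull.dual L) (Coh.structureModule (pullback a b)) hDc x) _).1 hb

end Groth.Agent.S16429
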