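import Groth.Statements.S1643
import Groth.Agent.L22.Reg.Quot
-- import your own Groth.Agent.* helpers here

set_option autoImplicit false
universe u
open CategoryTheory CategoryTheory.Limits AlgebraicGeometry
open Variety

namespace Groth.Agent.S1643

/-- Fix n ≥ 0, r ≥ 1 and a rational polynomial P. There is an integer m, depending only on n, r and P,
such that for every field k and every epimorphism from the free module of rank r on P^n_k onto a
coherent module F whose Euler characteristics χ(F(t)) are given by P for all integers t, the kernel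
is m-regular. -/
theorem result (n r : ℕ) (hr : 1 ≤ r) (P : Polynomial ℚ) :
    ∃ m : ℤ, ∀ (k : Type u) [Field k] (F : (CohB1.ProjSpace n k).Modules) (φ : FlatMod.freeMod (CohB1.ProjSpace n k) r ⟶ F), Coh.IsCoh F → Epi φ →
      (∀ t : ℤ, (Curv2.euler k (CohB1.ProjSpace n k) (CohB1.tensorMod F (Twist.twistProjSpace n k t)) : ℚ) = P.eval (t : ℚ)) →
      Curv2.IsMRegular k n (kernel φ) m := by
  rcases Nat.eq_zero_or_pos n with rfl | hn
  · exact ⟨0, fun k _ F φ _ _ _ i h1 h2 => absurd (h1.trans h2) (by omega)⟩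
  obtain ⟨M, hM⟩ := Groth.L22.Reg.exists_good.{u} (Groth.L22.Reg.freeB n r) (n + 1)
    fun t => (r : ℤ) * Ring.choose (t + n) n - ⌊P.eval (t : ℚ)⌋
  refine ⟨M, fun k _ F φ hF hφ hP i h1 _ => ?_⟩
  haveI := hφ
  refine Groth.L22.Reg.regular_kernel_free hn hM hF φ (fun t => ?_) i h1
  have h : ((Groth.L22.Reg.chiP F t : ℤ) : ℚ) = P.eval (t : ℚ) := by
    rw [Groth.L22.Reg.chiP_eq]
    exact hP t
  rw [← h, Int.floor_intCast]

end Groth.Agent.S1643
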