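import Groth.Statements.S16430
import Groth.Agent.L05.EtaPt.FlatUnram
import Mathlib.RingTheory.AdjoinRoot
import Mathlib.FieldTheory.PrimitiveElement
import Mathlib.RingTheory.Unramified.LocalRing

set_option autoImplicit false
universe u
open Hensel

namespace Groth.Agent.S16430

/-- For a Noetherian local ring A with residue field k and a finite separable field extension l of k,
there is a local ring E, finite and etale over A with local structure map, whose residue field is
k-isomorphic to l. -/
theorem result (A : Type u)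
    [CommRing A] [IsLocalRing A] [IsNoetherianRing A] (l : Type u) [Field l]
    [Algebra (IsLocalRing.ResidueField A) l] [FiniteDimensional (IsLocalRing.ResidueField A) l]
    [Algebra.IsSeparable (IsLocalRing.ResidueField A) l] :
    ∃ (E : Type u) (_ : CommRing E) (_ : IsLocalRing E) (_ : Algebra A E)
      (_ : IsLocalHom (algebraMap A E)),
      Module.Finite A E ∧ Algebra.Etale A E ∧
        Nonempty (IsLocalRing.ResidueField E ≃ₐ[IsLocalRing.ResidueField A] l) := by
  classical
  open Polynomial in
  let k := IsLocalRing.ResidueField A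
  letI : Algebra A l := ((algebraMap k l).comp (IsLocalRing.residue A)).toAlgebra
  haveI : IsScalarTower A k l := .of_algebraMap_eq fun a => rfl
  obtain ⟨α, hα⟩ := Field.exists_primitive_element k l
  set m0 := minpoly k α
  have hm0 : m0.Monic := minpoly.monic (Algebra.IsIntegral.isIntegral α)
  obtain ⟨f, hfmap, hfdeg, hf⟩ : ∃ f : Polynomial A, f.map (IsLocalRing.residue A) = m0 ∧
      f.natDegree = m0.natDegree ∧ f.Monic :=
    Polynomial.lifts_and_natDegree_eq_and_monic
      (Polynomial.map_surjective _ IsLocalRing.residue_surjective m0) hm0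
  let θ : AdjoinRoot f →ₐ[A] l := AdjoinRoot.liftAlgHom f (Algebra.ofId A l) α (by
    show Polynomial.eval₂ (algebraMap A l) α f = 0
    rw [IsScalarTower.algebraMap_eq A k l, ← Polynomial.eval₂_map,
      show f.map (algebraMap A k) = m0 from hfmap, ← Polynomial.aeval_def]
    exact minpoly.aeval k α)
  have hθmk : ∀ p : Polynomial A, θ (AdjoinRoot.mk f p) =
      Polynomial.aeval α (p.map (IsLocalRing.residue A)) := by
    intro p
    rw [show (IsLocalRing.residue A) = algebraMap A k from rfl, Polynomial.aeval_map_algebraMap]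
    rfl
  have hθ : Function.Surjective θ := by
    intro x
    have hx : x ∈ Algebra.adjoin k {α} := by
      rw [← IntermediateField.adjoin_simple_toSubalgebra_of_isAlgebraic
        (Algebra.IsAlgebraic.isAlgebraic α), hα]
      exact Algebra.mem_top
    obtain ⟨p, hp⟩ := (Algebra.adjoin_singleton_eq_range_aeval k α ▸ hx : x ∈ (Polynomial.aeval α).range)
    obtain ⟨q, rfl⟩ := Polynomial.map_surjective _ IsLocalRing.residue_surjective p
    exact ⟨AdjoinRoot.mk f q, (hθmk q).trans hp⟩
  haveI : Module.Finite A (AdjoinRoot f) := hf.finite_adjoinRoot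
  haveI : Module.Free A (AdjoinRoot f) := hf.free_adjoinRoot
  haveI : Algebra.IsIntegral A (AdjoinRoot f) := Algebra.IsIntegral.of_finite A _
  have hker : RingHom.ker θ = (IsLocalRing.maximalIdeal A).map (algebraMap A (AdjoinRoot f)) := by
    refine le_antisymm (fun x hx => ?_) (Ideal.map_le_iff_le_comap.2 fun a ha => ?_)
    · obtain ⟨p, rfl⟩ := AdjoinRoot.mk_surjective x
      rw [RingHom.mem_ker, hθmk] at hx
      obtain ⟨q, hq⟩ := minpoly.dvd k α hx
      obtain ⟨q, rfl⟩ := Polynomial.map_surjective _ IsLocalRing.residue_surjective q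
      have hdiff : p - f * q ∈ (IsLocalRing.maximalIdeal A).map Polynomial.C := by
        rw [Ideal.mem_map_C_iff]
        intro n
        rw [← IsLocalRing.residue_eq_zero_iff, ← Polynomial.coeff_map, Polynomial.map_sub,
          Polynomial.map_mul, hfmap, hq, sub_self, Polynomial.coeff_zero]
      have := Ideal.mem_map_of_mem (AdjoinRoot.mk f) hdiff
      rw [map_sub, map_mul, AdjoinRoot.mk_self, zero_mul, sub_zero, Ideal.map_map] at this
      exact this
    · rw [Ideal.mem_comap, RingHom.mem_ker, AlgHom.commutes]
      show algebraMap k l (IsLocalRing.residue A a) = 0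
      rw [(IsLocalRing.residue_eq_zero_iff a).2 ha, map_zero]
  have hmax : (RingHom.ker θ).IsMaximal := RingHom.ker_isMaximal_of_surjective θ hθ
  haveI : IsLocalRing (AdjoinRoot f) := by
    refine IsLocalRing.of_unique_max_ideal ⟨_, hmax, fun M hM => ?_⟩
    haveI := hM
    refine (hmax.eq_of_le hM.ne_top ?_).symm
    rw [hker]
    refine Ideal.map_le_iff_le_comap.2 (le_of_eq ?_)
    haveI : (M.comap (algebraMap A (AdjoinRoot f))).IsMaximal := Ideal.isMaximal_comap_of_isIntegral_of_isMaximal M
    exact (IsLocalRing.eq_maximalIdeal inferInstance).symm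
  have hmE : RingHom.ker θ = IsLocalRing.maximalIdeal (AdjoinRoot f) := IsLocalRing.eq_maximalIdeal hmax
  haveI : IsLocalHom (algebraMap A (AdjoinRoot f)) :=
    ((IsLocalRing.local_hom_TFAE (algebraMap A (AdjoinRoot f))).out 0 2 rfl rfl).mpr (by rw [← hker, hmE])
  let κ : IsLocalRing.ResidueField (AdjoinRoot f) ≃ₐ[A] l :=
    (Ideal.quotientEquivAlgOfEq A hmE.symm).trans (Ideal.quotientKerAlgEquivOfSurjective (f := θ) hθ)
  let κ' : IsLocalRing.ResidueField (AdjoinRoot f) ≃ₐ[k] l :=
    AlgEquiv.extendScalarsOfSurjective (R := A) (S := k) IsLocalRing.residue_surjective κ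
  haveI : Algebra.IsSeparable k (IsLocalRing.ResidueField (AdjoinRoot f)) :=
    AlgEquiv.Algebra.isSeparable κ'.symm
  haveI : Algebra.FormallyUnramified A (AdjoinRoot f) :=
    Algebra.FormallyUnramified.of_map_maximalIdeal (by rw [← hker, hmE])
  exact ⟨AdjoinRoot f, inferInstance, inferInstance, inferInstance, inferInstance, inferInstance,
    Groth.L05.EtaPt.etale_of_flat_of_formallyUnramified (minimalPrimes.finite_of_isNoetherianRing A), ⟨κ'⟩⟩

end Groth.Agent.S16430
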