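import Groth.Statements.S16431
import Groth.Agent.L05.BranchResidue.Main

set_option autoImplicit false
universe u
open Hensel

namespace Groth.Agent.S16431

/-- Let A be an excellent reduced local ring with residue field k, let A' be the integral closure of A
in its total ring of fractions, let A^h be a henselization and A^hs a strict henselization of A, and
let A^h → A^hs be the A-algebra map between them (it is the unique one). Then the residue field of
A' at every maximal ideal is purely inseparable over k — every element has some p^n-th power in the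
image of A, p the characteristic exponent — if and only if every minimal prime ideal of A^hs is
generated by its contraction to A^h. -/
theorem result
    (A Ah Ash : Type u) [CommRing A] [IsLocalRing A] [IsReduced A] (hA : EGA4.IsExcellent A)
    [CommRing Ah] [IsLocalRing Ah] [Algebra A Ah] [IsLocalHom (algebraMap A Ah)]
    [Hensel.IsHenselization A Ah]
    [CommRing Ash] [IsLocalRing Ash] [Algebra A Ash] [IsLocalHom (algebraMap A Ash)]
    [Hensel.IsStrictHenselization A Ash] [Algebra Ah Ash] [IsScalarTower A Ah Ash] :
    (∀ (M : Ideal (integralClosure A (FractionRing A))) [M.IsMaximal], ∀ x : (integralClosure A (FractionRing A)) ⧸ M, ∃ n : ℕ,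
        x ^ (ringExpChar ((integralClosure A (FractionRing A)) ⧸ M)) ^ n ∈
          ((Ideal.Quotient.mk M).comp (algebraMap A (integralClosure A (FractionRing A)))).range) ↔
      (∀ Q ∈ minimalPrimes Ash, Q = Ideal.map (algebraMap Ah Ash) (Q.comap (algebraMap Ah Ash))) := by
  haveI : IsNoetherianRing A := hA.1
  rw [Groth.L05.BranchResidue.extended_iff A Ah Ash]
  obtain ⟨e, he⟩ := Groth.L06.WedgeDVR.exists_normRed_ringEquiv A
  constructor
  · intro h m x
    haveI := m.isMaximal
    let M : Ideal (integralClosure A (FractionRing A)) := m.asIdeal.comap e.toRingHom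
    haveI : M.IsMaximal := Ideal.comap_isMaximal_of_equiv e
    let E : (integralClosure A (FractionRing A)) ⧸ M ≃+* CAlg2.normRed A ⧸ m.asIdeal :=
      Ideal.quotientEquiv M m.asIdeal e (Ideal.map_comap_of_surjective e.toRingHom e.surjective _).symm
    obtain ⟨n, a, ha⟩ := h M (E.symm x)
    refine ⟨n, a, ?_⟩
    letI := Ideal.Quotient.field m.asIdeal
    letI := Ideal.Quotient.field M
    haveI : ExpChar (CAlg2.normRed A ⧸ m.asIdeal) (ringExpChar ((integralClosure A (FractionRing A)) ⧸ M)) :=
      expChar_of_injective_ringHom E.injective _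
    rw [ringExpChar.eq (CAlg2.normRed A ⧸ m.asIdeal) (ringExpChar ((integralClosure A (FractionRing A)) ⧸ M)),
      ← E.apply_symm_apply x, ← map_pow, ← ha]
    exact (congrArg (Ideal.Quotient.mk m.asIdeal) (he a)).symm
  · intro h M hM x
    have hker : RingHom.ker e.toRingHom = ⊥ := (RingHom.injective_iff_ker_eq_bot e.toRingHom).1 e.injective
    let mI : Ideal (CAlg2.normRed A) := M.map e.toRingHom
    haveI : mI.IsMaximal := Ideal.IsMaximal.map_of_surjective_of_ker_le e.surjective (hker.trans_le bot_le)
    let E : (integralClosure A (FractionRing A)) ⧸ M ≃+* CAlg2.normRed A ⧸ mI :=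
      Ideal.quotientEquiv M mI e rfl
    obtain ⟨n, a, ha⟩ := h ⟨mI, inferInstance⟩ (E x)
    refine ⟨n, a, E.injective ?_⟩
    letI := Ideal.Quotient.field mI
    letI := Ideal.Quotient.field M
    haveI : ExpChar (CAlg2.normRed A ⧸ mI) (ringExpChar ((integralClosure A (FractionRing A)) ⧸ M)) :=
      expChar_of_injective_ringHom E.injective _
    rw [ringExpChar.eq (CAlg2.normRed A ⧸ mI) (ringExpChar ((integralClosure A (FractionRing A)) ⧸ M))] at ha
    rw [map_pow, ← ha]
    exact congrArg (Ideal.Quotient.mk mI) (he a)

end Groth.Agent.S16431
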