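import Groth.Statements.S16434
import Groth.Agent.L05.StrictGalois.Inter
import Groth.Agent.L05.StrictGalois.EssEtale
import Groth.Agent.L05.Henselization.StrictUniq

set_option autoImplicit false
universe u
open EGA4loc

namespace Groth.Agent.S16434

/-- Let A be an excellent henselian local domain such that a strict henselization S of A is again a
domain, let K be the fraction field of S, and let L be the subfield of K generated over the image of
A by a finite subset t of K (so L is an intermediate field between the fraction fields of A and of
S, finitely generated over the former). Then the intersection of L with S is (the underlying set of)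
an A-subalgebra D of S which is a local ring with local inclusion into S and which is an essentially
etale local A-algebra: A-isomorphic to the localization of an etale A-algebra at a prime over the
maximal ideal. -/
theorem result
    (A S : Type u) [CommRing A] [HenselianLocalRing A] [IsDomain A] (hA : EGA4.IsExcellent A)
    [CommRing S] [IsLocalRing S] [Algebra A S] [IsLocalHom (algebraMap A S)]
    [Hensel.IsStrictHenselization A S] [IsDomain S] (t : Finset (FractionRing S)) :
    ∃ D : Subalgebra A S, (D : Set S) = (algebraMap S (FractionRing S)) ⁻¹'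
        (Subfield.closure (Set.range (algebraMap A (FractionRing S)) ∪ (t : Set (FractionRing S))) :
          Set (FractionRing S)) ∧
      ∃ _ : IsLocalRing D, IsLocalHom (algebraMap D S) ∧ EGA4loc.IsEssentiallyEtale A D := by
  haveI : IsNoetherianRing A := hA.1
  classical
  haveI := Groth.L05.Henselization.flat_of_isStrictHenselization A S
  let e : S ≃ₐ[A] S ⧸ (⊥ : Ideal S) := (AlgEquiv.quotientBot A S).symm
  haveI : (⊥ : Ideal S).IsPrime := Ideal.isPrime_bot
  let Φ : FractionRing S ≃ₐ[A] FractionRing (S ⧸ (⊥ : Ideal S)) :=
    IsFractionRing.algEquivOfAlgEquiv e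
  have hΦ : ∀ x : S, Φ (algebraMap S (FractionRing S) x) =
      algebraMap (S ⧸ (⊥ : Ideal S)) (FractionRing (S ⧸ (⊥ : Ideal S))) (e x) :=
    fun x => IsFractionRing.algEquivOfAlgEquiv_algebraMap e x
  obtain ⟨D', hD', hfin, hunr, -⟩ := Groth.L05.StrictGalois.exists_inter A S (⊥ : Ideal S) (t.image Φ)
  let D : Subalgebra A S := D'.comap e.toAlgHom
  refine ⟨D, ?_, ?_⟩
  · ext x
    show e x ∈ (D' : Set (S ⧸ (⊥ : Ideal S))) ↔ _
    rw [hD', Set.mem_preimage, Set.mem_preimage, ← hΦ]
    have himg : (Subfield.closure (Set.range (algebraMap A (FractionRing S)) ∪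
        (t : Set (FractionRing S)))).map Φ.toAlgHom.toRingHom =
        Subfield.closure (Set.range (algebraMap A (FractionRing (S ⧸ (⊥ : Ideal S)))) ∪
          ((t.image Φ : Finset _) : Set (FractionRing (S ⧸ (⊥ : Ideal S))))) := by
      rw [RingHom.map_field_closure]
      congr 1
      rw [Set.image_union, Finset.coe_image, ← Set.range_comp]
      congr 1
      exact congrArg Set.range (funext fun a => Φ.commutes a)
    rw [← himg]
    constructor
    · rintro ⟨y, hy, hxy⟩
      rwa [← Φ.injective hxy]
    · exact fun h => ⟨_, h, rfl⟩
  let eD : D ≃ₐ[A] D' :=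
    { toFun := fun d => ⟨e d.1, d.2⟩
      invFun := fun d => ⟨e.symm d.1, by show e (e.symm d.1) ∈ D'; rw [e.apply_symm_apply]; exact d.2⟩
      left_inv := fun d => Subtype.ext (e.symm_apply_apply d.1)
      right_inv := fun d => Subtype.ext (e.apply_symm_apply d.1)
      map_mul' := fun a b => Subtype.ext (map_mul e a.1 b.1)
      map_add' := fun a b => Subtype.ext (map_add e a.1 b.1)
      commutes' := fun a => Subtype.ext (e.commutes a) }
  haveI : Module.Finite A D := Module.Finite.equiv eD.symm.toLinearEquiv
  haveI : IsDomain D := inferInstance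
  haveI : IsLocalRing D := Groth.L05.isLocalRing_of_finite_domain (A := A) D
  haveI : Algebra.FormallyUnramified A D := Algebra.FormallyUnramified.of_equiv eD.symm
  haveI : Algebra.IsIntegral A D := Algebra.IsIntegral.of_finite A D
  haveI : IsLocalHom (algebraMap A D) := by
    refine ((IsLocalRing.local_hom_TFAE (algebraMap A D)).out 0 2 rfl rfl).mpr ?_
    rw [Ideal.map_le_iff_le_comap]
    exact (IsLocalRing.eq_maximalIdeal (Ideal.isMaximal_comap_of_isIntegral_of_isMaximal _)).ge
  haveI hloc : IsLocalHom (algebraMap D S) := by
    refine ((IsLocalRing.local_hom_TFAE (algebraMap D S)).out 0 2 rfl rfl).mpr ?_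
    rw [← Algebra.FormallyUnramified.map_maximalIdeal (R := A) (S := D), Ideal.map_map,
      ← IsScalarTower.algebraMap_eq]
    exact ((IsLocalRing.local_hom_TFAE (algebraMap A S)).out 0 2 rfl rfl).mp inferInstance
  haveI : IsLocalHom D.val.toRingHom := hloc
  exact ⟨inferInstance, hloc,
    Groth.L05.StrictGalois.isEssentiallyEtale_of_injective A D S D.val Subtype.val_injective⟩

end Groth.Agent.S16434
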