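import Groth.Statements.S16436
import Groth.Agent.L05.StrictGalois.Branch
import Mathlib.FieldTheory.PurelyInseparable.Basic

set_option autoImplicit false
universe u
open Hensel

namespace Groth.Agent.S16436

/-- Let A be an excellent henselian reduced local ring, S a strict henselization of A and D an
A-subalgebra of S which is finitely generated as an A-module. Write D' for the integral closure of D
in its total ring of fractions. Then D is etale over A and every minimal prime ideal of S is
generated by its contraction to D, if and only if, for every maximal ideal M of D' with residue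
field l, writing k_0 for the subfield of l generated by the image of D (the image itself, a copy of
the residue field of D), k_0 is separably closed in l: every element of l separable over k_0 lies in
k_0. -/
theorem result
    (A S : Type u) [CommRing A] [HenselianLocalRing A] [IsReduced A] (hA : EGA4.IsExcellent A)
    [CommRing S] [IsLocalRing S] [Algebra A S] [IsLocalHom (algebraMap A S)]
    [Hensel.IsStrictHenselization A S] (D : Subalgebra A S) [Module.Finite A D] :
    (Algebra.Etale A D ∧
        ∀ Q ∈ minimalPrimes S, Q = Ideal.map (algebraMap D S) (Q.comap (algebraMap D S))) ↔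
      ∀ (M : Ideal (integralClosure D (FractionRing D))) [M.IsMaximal],
        separableClosure (Subfield.closure (Set.range ((algebraMap (integralClosure D (FractionRing D)) M.ResidueField).comp (algebraMap D (integralClosure D (FractionRing D)))))) M.ResidueField = ⊥ := by
  classical
  haveI : IsNoetherianRing A := hA.1
  constructor
  · rintro ⟨het, hext⟩ M hM
    haveI := het
    refine eq_bot_iff.2 fun x hx => IntermediateField.mem_bot.2 ?_
    have := Groth.L05.StrictGalois.mem_range_of_separable A S D hext M x _ rfl
      (mem_separableClosure_iff.1 hx)
    exact ⟨⟨x, this⟩, rfl⟩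
  · intro h
    refine Groth.L05.StrictGalois.etale_and_extended A S D fun M hM => ?_
    haveI := hM
    let N := integralClosure D (FractionRing D)
    let ρ : D →+* M.ResidueField := (algebraMap N M.ResidueField).comp (algebraMap D N)
    set k₀ := Subfield.closure (Set.range ρ)
    have hρk : ∀ d, ρ d ∈ k₀ := fun d => Subfield.subset_closure ⟨d, rfl⟩
    haveI : Algebra.IsIntegral k₀ M.ResidueField := ⟨fun x => by
      obtain ⟨z, rfl⟩ := Ideal.algebraMap_residueField_surjective M x
      obtain ⟨p, hp, hpz⟩ := Algebra.IsIntegral.isIntegral (R := D) z
      refine ⟨p.map (ρ.codRestrict k₀ hρk), hp.map _, ?_⟩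
      rw [Polynomial.eval₂_map, show (algebraMap k₀ M.ResidueField).comp (ρ.codRestrict k₀ hρk) =
        (algebraMap N M.ResidueField).comp (algebraMap D N) from RingHom.ext fun d => rfl,
        ← Polynomial.hom_eval₂, hpz, map_zero]⟩
    haveI : IsPurelyInseparable k₀ M.ResidueField := separableClosure.eq_bot_iff.1 (h M)
    haveI : ExpChar M.ResidueField (ringExpChar k₀) :=
      expChar_of_injective_ringHom (algebraMap k₀ M.ResidueField).injective _
    refine ⟨ringExpChar k₀, ?_, fun z => ?_⟩
    · letI : Field (N ⧸ M) := Ideal.Quotient.field M
      exact (algebraMap (N ⧸ M) M.ResidueField).expChar (algebraMap (N ⧸ M) M.ResidueField).injective _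
    obtain ⟨n, w, hw⟩ := IsPurelyInseparable.pow_mem k₀ (ringExpChar k₀) (algebraMap N M.ResidueField z)
    obtain ⟨a, b, hb, hab⟩ := Groth.L05.StrictGalois.exists_div_of_mem_closure_range ρ w.2
    haveI : (M.comap (algebraMap D N)).IsMaximal := Ideal.isMaximal_comap_of_isIntegral_of_isMaximal M
    obtain ⟨b', t, ht, hbt⟩ := Ideal.IsMaximal.exists_inv (inferInstance : (M.comap (algebraMap D N)).IsMaximal)
      (x := b) (fun hb' => hb (Ideal.algebraMap_residueField_eq_zero.2 hb'))
    have h1 : ρ b' * ρ b = 1 := by
      have := congrArg ρ hbt
      rw [map_add, map_mul, map_one, show ρ t = 0 from Ideal.algebraMap_residueField_eq_zero.2 ht,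
        add_zero] at this
      exact this
    refine ⟨n, a * b', ?_⟩
    rw [← Ideal.algebraMap_residueField_eq_zero, map_sub, map_pow, sub_eq_zero, ← hw]
    show (w : M.ResidueField) = ρ (a * b')
    rw [← hab, map_mul, div_eq_iff hb, mul_assoc, h1, mul_one]

end Groth.Agent.S16436
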