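import Groth.Statements.S16437
import Groth.Agent.L05.BranchResidue.EssEt

set_option autoImplicit false
universe u
open Hensel

namespace Groth.Agent.S16437

open IsLocalRing in
/-- Let A be an excellent henselian local domain with residue field k, whose integral closure A' in its
fraction field is a local ring (as it is, A being henselian) with local inclusion A → A' and residue
field k'; let k^s be the separable closure of k in k', S a strict henselization of A, and E a local
ring which is an essentially etale local A-algebra with local structure map, together with an
A-algebra map E → S. Then every minimal prime ideal of S is generated by its contraction to E if and
only if the number of k-algebra maps from k^s to the residue field of E equals the degree [k^s : k];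
equivalently, the minimal polynomial of a primitive element of k^s over k splits into linear factors
over the residue field of E. -/
theorem result
    (A S E : Type u) [CommRing A] [HenselianLocalRing A] [IsDomain A] (hA : EGA4.IsExcellent A)
    [IsLocalRing (integralClosure A (FractionRing A))] [IsLocalHom (algebraMap A (integralClosure A (FractionRing A)))]
    [CommRing S] [IsLocalRing S] [Algebra A S] [IsLocalHom (algebraMap A S)]
    [Hensel.IsStrictHenselization A S]
    [CommRing E] [IsLocalRing E] [Algebra A E] [IsLocalHom (algebraMap A E)]
    (hE : EGA4loc.IsEssentiallyEtale A E) [Algebra E S] [IsScalarTower A E S] :
    (∀ Q ∈ minimalPrimes S, Q = Ideal.map (algebraMap E S) (Q.comap (algebraMap E S))) ↔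
      Nat.card (separableClosure (ResidueField A) (ResidueField (integralClosure A (FractionRing A))) →ₐ[ResidueField A]
          ResidueField E) =
        Module.finrank (ResidueField A)
          (separableClosure (ResidueField A) (ResidueField (integralClosure A (FractionRing A)))) := by
  exact Groth.L05.BranchResidue.extended_iff_essEt A S E hA hE

end Groth.Agent.S16437
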