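import Groth.Statements.S16438
import Groth.Agent.L05.StrictGalois.EssEtale
import Groth.Agent.L05.Henselization.StrictUniq

set_option autoImplicit false
universe u
open EGA4loc

namespace Groth.Agent.S16438

open IsLocalRing in
/-- Let A be a Noetherian local ring with maximal ideal m, S a strict henselization of A, and D an
A-subalgebra of S which is a local ring dominated by S (the inclusion is local), essentially of
finite type over A, and such that m D is the maximal ideal of D. Then D is an essentially etale
local A-algebra: A-isomorphic to the localization of an etale A-algebra at a prime over m. (The
published statement also assumes the total ring of fractions of D finitely generated over that of A;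
for D essentially of finite type over A and dominated by S this is automatic, D then lying in a
local etale subextension of S, so that hypothesis is omitted here.) -/
theorem result
    (A S : Type u) [CommRing A] [IsLocalRing A] [IsNoetherianRing A]
    [CommRing S] [IsLocalRing S] [Algebra A S] [IsLocalHom (algebraMap A S)]
    [Hensel.IsStrictHenselization A S] (D : Subalgebra A S) [IsLocalRing D]
    [IsLocalHom (algebraMap D S)] [Algebra.EssFiniteType A D]
    (hm : Ideal.map (algebraMap A D) (maximalIdeal A) = maximalIdeal D) :
    EGA4loc.IsEssentiallyEtale A D := by
  haveI hSi : Hensel.IsStrictHenselization A S := inferInstance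
  haveI := Groth.L05.Henselization.flat_of_isStrictHenselization A S
  haveI : IsLocalHom (algebraMap A D) :=
    ((IsLocalRing.local_hom_TFAE (algebraMap A D)).out 0 2 rfl rfl).mpr hm.le
  haveI : Algebra.IsSeparable (ResidueField A) (ResidueField S) := hSi.isSepClosure.separable
  haveI : Algebra.IsSeparable (ResidueField A) (ResidueField D) :=
    Algebra.IsSeparable.of_algHom (ResidueField A) (ResidueField S)
      ({ ResidueField.map (algebraMap D S) with
        commutes' := fun a => by
          obtain ⟨a, rfl⟩ := residue_surjective a
          rfl } : ResidueField D →ₐ[ResidueField A] ResidueField S)
  haveI : Algebra.FormallyUnramified A D := Algebra.FormallyUnramified.of_map_maximalIdeal hm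
  haveI : IsLocalHom D.val.toRingHom := (inferInstance : IsLocalHom (algebraMap D S))
  exact Groth.L05.StrictGalois.isEssentiallyEtale_of_injective A D S D.val Subtype.val_injective

end Groth.Agent.S16438
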