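import Groth.Statements.S16439
import Groth.Agent.L05.StrictGalois.Descend
import Groth.Agent.L05.StrictGalois.LocalStage
import Groth.Agent.S16438
import Mathlib.RingTheory.Ideal.MinimalPrime.Noetherian

set_option autoImplicit false
universe u
open EGA4loc

namespace Groth.Agent.S16439

open IsLocalRing in
/-- Let A be an excellent reduced local ring with maximal ideal m, S a strict henselization of A, and D
an A-subalgebra of S which is a Noetherian local ring dominated by S (the inclusion is local), whose
total ring of fractions K_D is finitely generated over that of A — there is a finite subset t of K_D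
such that every element of K_D, after multiplication by (the image of) a non-zero-divisor of A, is a
polynomial expression in t with coefficients from A — and such that m D is the maximal ideal of D.
Then D is an essentially etale local A-algebra: A-isomorphic to the localization of an etale
A-algebra at a prime over m. -/
theorem result
    (A S : Type u) [CommRing A] [IsLocalRing A] [IsReduced A] (hA : EGA4.IsExcellent A)
    [CommRing S] [IsLocalRing S] [Algebra A S] [IsLocalHom (algebraMap A S)]
    [Hensel.IsStrictHenselization A S] (D : Subalgebra A S) [IsLocalRing D]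
    [IsLocalHom (algebraMap D S)] [IsNoetherianRing D]
    (hfg : ∃ t : Finset (FractionRing D), ∀ x : FractionRing D, ∃ a ∈ nonZeroDivisors A,
      algebraMap A (FractionRing D) a * x ∈ Algebra.adjoin A (t : Set (FractionRing D)))
    (hm : Ideal.map (algebraMap A D) (maximalIdeal A) = maximalIdeal D) :
    EGA4loc.IsEssentiallyEtale A D := by
  classical
  haveI : IsNoetherianRing A := hA.1
  have hmin : (minimalPrimes A).Finite := Ideal.finite_minimalPrimes_of_isNoetherianRing A ⊥
  obtain ⟨E, _, hle, _, hE, -⟩ := Groth.L05.StrictGalois.exists_le_of_fg hmin D hfg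
  haveI := Groth.L05.StrictGalois.formallyEtale_of_essEt hE
  haveI := Groth.L05.StrictGalois.essFiniteType_of_essEt hE
  letI : Algebra D E := (Subalgebra.inclusion hle).toRingHom.toAlgebra
  haveI : IsScalarTower A D E := .of_algebraMap_eq fun a => rfl
  haveI : IsLocalHom (algebraMap D E) := ⟨fun d hd =>
    IsLocalHom.map_nonunit (f := algebraMap D S) d (hd.map E.val)⟩
  obtain ⟨P, ψ, t, ht, hsurj, hker⟩ := Groth.L05.StrictGalois.exists_stdEtale_presentation A D E hm
  obtain ⟨T, hT⟩ := hfg
  have hfrac : ∀ z : FractionRing D, ∃ c s : D, s ∈ nonZeroDivisors D ∧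
      z * algebraMap D (FractionRing D) s = algebraMap D (FractionRing D) c := fun z => by
    obtain ⟨c, s, rfl⟩ := IsLocalization.exists_mk'_eq (nonZeroDivisors D) z
    exact ⟨c, s, s.2, IsLocalization.mk'_spec _ _ _⟩
  choose num den hden hz using hfrac
  let G : Finset D := T.image num ∪ T.image den
  have key : ∀ w ∈ Algebra.adjoin A (T : Set (FractionRing D)), ∃ c ∈ Algebra.adjoin A (G : Set D),
      ∃ s ∈ Algebra.adjoin A (G : Set D), s ∈ nonZeroDivisors D ∧
        w * algebraMap D (FractionRing D) s = algebraMap D (FractionRing D) c := by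
    intro w hw
    induction hw using Algebra.adjoin_induction with
    | mem z hz' =>
      exact ⟨num z, Algebra.subset_adjoin (Finset.mem_coe.2 (Finset.mem_union_left _ (Finset.mem_image_of_mem _ hz'))),
        den z, Algebra.subset_adjoin (Finset.mem_coe.2 (Finset.mem_union_right _ (Finset.mem_image_of_mem _ hz'))),
        hden z, hz z⟩
    | algebraMap r =>
      exact ⟨algebraMap A D r, Subalgebra.algebraMap_mem _ r, 1, one_mem _, one_mem _, by
        rw [map_one, mul_one, ← IsScalarTower.algebraMap_apply]⟩
    | add u v _ _ hu hv =>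
      obtain ⟨c, hc, s, hs, hs0, h⟩ := hu
      obtain ⟨c', hc', s', hs', hs0', h'⟩ := hv
      refine ⟨c * s' + c' * s, add_mem (mul_mem hc hs') (mul_mem hc' hs), s * s', mul_mem hs hs',
        mul_mem hs0 hs0', ?_⟩
      rw [map_add, map_mul, map_mul, map_mul, ← h, ← h']
      ring
    | mul u v _ _ hu hv =>
      obtain ⟨c, hc, s, hs, hs0, h⟩ := hu
      obtain ⟨c', hc', s', hs', hs0', h'⟩ := hv
      refine ⟨c * c', mul_mem hc hc', s * s', mul_mem hs hs', mul_mem hs0 hs0', ?_⟩
      rw [map_mul, map_mul, ← h, ← h']
      ring
  haveI : Algebra.EssFiniteType A D := by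
    refine Groth.L05.StrictGalois.essFiniteType_of_presentation A D E P ψ t ht hsurj hker ⟨G, fun x => ?_⟩
    obtain ⟨a, ha, hax⟩ := hT (algebraMap D (FractionRing D) x)
    obtain ⟨c, hc, s, hs, hs0, h⟩ := key _ hax
    haveI := Groth.L05.Henselization.flat_of_isStrictHenselization A S
    have ha' : algebraMap A D a ∈ nonZeroDivisors D := mem_nonZeroDivisors_iff_right.2 fun z hz =>
      Subtype.ext (mem_nonZeroDivisors_iff_right.1
        (Groth.L05.StrictGalois.algebraMapSubmonoid_le A S ⟨a, ha, rfl⟩) _ (congrArg Subtype.val hz))
    refine ⟨c, hc, algebraMap A D a * s, mul_mem (Subalgebra.algebraMap_mem _ a) hs, mul_mem ha' hs0, ?_⟩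
    refine IsFractionRing.injective D (FractionRing D) ?_
    rw [← h, map_mul, map_mul, ← IsScalarTower.algebraMap_apply]
    ring
  exact Groth.Agent.S16438.result A S D hm

end Groth.Agent.S16439
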