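import Groth.Statements.S16440
import Groth.Agent.L05.StrictGalois.Inter

set_option autoImplicit false
universe u
open Hensel

namespace Groth.Agent.S16440

/-- Let A be an excellent henselian reduced local ring, S a strict henselization of A and Q a minimal
prime ideal of S; let K be the fraction field of the domain S/Q and L the subfield of K generated
over the image of A by a finite subset t of K (an intermediate field between the fraction field of
A/(Q ∩ A) and K, finitely generated over the former). Then the intersection of L with S/Q is (the
underlying set of) an A-subalgebra D' of S/Q which is a finitely generated A-module and formally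
unramified over A. (The source adds that S/Q is a strict henselization of D'; that assertion is not
stated here.) -/
theorem result
    (A S : Type u) [CommRing A] [HenselianLocalRing A] [IsReduced A] (hA : EGA4.IsExcellent A)
    [CommRing S] [IsLocalRing S] [Algebra A S] [IsLocalHom (algebraMap A S)]
    [Hensel.IsStrictHenselization A S] (Q : Ideal S) (hQ : Q ∈ minimalPrimes S) [Q.IsPrime]
    (t : Finset (FractionRing (S ⧸ Q))) :
    ∃ D' : Subalgebra A (S ⧸ Q), (D' : Set (S ⧸ Q)) = (algebraMap (S ⧸ Q) (FractionRing (S ⧸ Q))) ⁻¹'
        (Subfield.closure (Set.range (algebraMap A (FractionRing (S ⧸ Q))) ∪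
          (t : Set (FractionRing (S ⧸ Q)))) : Set (FractionRing (S ⧸ Q))) ∧
      Module.Finite A D' ∧ Algebra.FormallyUnramified A D' := by
  haveI : IsNoetherianRing A := hA.1
  obtain ⟨D', h1, h2, h3, -⟩ := Groth.L05.StrictGalois.exists_inter A S Q t
  exact ⟨D', h1, h2, h3⟩

end Groth.Agent.S16440
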