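import Groth.Statements.S16442
import Groth.Agent.L05.StrictGalois.LocalStage

set_option autoImplicit false
universe u
open EGA4loc

namespace Groth.Agent.S16442

/-- Let A be a reduced local ring with finitely many minimal prime ideals, S a strict henselization of
A, and D an A-subalgebra of S which is a local ring dominated by S (local inclusion) and essentially
of finite type over A. Then D is contained in some A-subalgebra E of S which is a local ring and an
essentially etale local A-algebra. -/
theorem result
    (A S : Type u) [CommRing A] [IsLocalRing A] [IsReduced A] (hmin : (minimalPrimes A).Finite)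
    [CommRing S] [IsLocalRing S] [Algebra A S] [IsLocalHom (algebraMap A S)]
    [Hensel.IsStrictHenselization A S] (D : Subalgebra A S) [IsLocalRing D]
    [IsLocalHom (algebraMap D S)] [Algebra.EssFiniteType A D] :
    ∃ E : Subalgebra A S, D ≤ E ∧ ∃ _ : IsLocalRing E, EGA4loc.IsEssentiallyEtale A E := by
  classical
  obtain ⟨s, hs⟩ := Algebra.EssFiniteType.cond (R := A) (S := D)
  obtain ⟨E, _, _, hE, hff, hmem⟩ :=
    Groth.L05.StrictGalois.exists_essEt_stage A S (s.image fun d : D => (d : S))
  haveI := hff
  refine ⟨E, fun x hx => ?_, inferInstance, hE⟩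
  have hsub : Algebra.adjoin A (s : Set D) ≤ E.comap D.val := Algebra.adjoin_le fun d hd =>
    hmem (Finset.mem_coe.2 (Finset.mem_image_of_mem _ hd))
  obtain ⟨⟨c, ⟨⟨u, huE⟩, hu⟩⟩, h⟩ := IsLocalization.surj
    ((IsUnit.submonoid D).comap (algebraMap (Algebra.adjoin A (s : Set D)) D)) (⟨x, hx⟩ : D)
  have hu' : IsUnit (u : D) := hu
  have huS : IsUnit ((u : D) : S) := hu'.map D.val
  refine Groth.L05.StrictGalois.mem_of_mul_mem E (hsub huE) huS.mem_nonZeroDivisors ?_
  show x * ((u : D) : S) ∈ E
  rw [show x * ((u : D) : S) = ((c : D) : S) from congrArg Subtype.val h]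
  exact hsub c.2

end Groth.Agent.S16442
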