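import Groth.Statements.S16443
import Groth.Agent.L06.EGA4locInter

set_option autoImplicit false
set_option maxSynthPendingDepth 3
set_option linter.style.haveILetI false
universe u
open EGA4loc

namespace Groth.Agent.S16443

/-- Let A be a reduced local ring with finitely many minimal prime ideals, E a local ring which is an
essentially etale local A-algebra with local structure map, K_E the total ring of fractions of E,
and L an A-subalgebra of K_E containing an inverse of the image of every non-zero-divisor of A (so L
is an intermediate ring between the total rings of fractions of A and of E). Then the preimage D of
L in E is (the underlying set of) an A-subalgebra of E which is a local ring with local inclusion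
into E — its maximal ideal lies under that of E — and L is the total ring of fractions of D in the
sense that every element of L is the image of an element of D times the inverse of the image of a
non-zero-divisor of A. -/
theorem result
    (A E : Type u) [CommRing A] [IsLocalRing A] [IsReduced A] (hmin : (minimalPrimes A).Finite)
    [CommRing E] [IsLocalRing E] [Algebra A E] [IsLocalHom (algebraMap A E)]
    (hE : EGA4loc.IsEssentiallyEtale A E) (L : Subalgebra A (FractionRing E))
    (hL : ∀ s ∈ nonZeroDivisors A, ∃ y ∈ L, algebraMap A (FractionRing E) s * y = 1) :
    ∃ D : Subalgebra A E, (D : Set E) = (algebraMap E (FractionRing E)) ⁻¹' (L : Set (FractionRing E)) ∧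
      ∃ _ : IsLocalRing D, IsLocalHom (algebraMap D E) ∧
        ∀ l ∈ L, ∃ d ∈ D, ∃ s ∈ nonZeroDivisors A, ∃ y ∈ L,
          algebraMap A (FractionRing E) s * y = 1 ∧ l = algebraMap E (FractionRing E) d * y := by
  exact Groth.L06.EGA4locInter.exists_preimage hmin hE L hL

end Groth.Agent.S16443
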