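import Groth.Statements.S16444
import Groth.Agent.L05.Henselization.EssEt
import Groth.Agent.L05.Hensel.FiniteEtaleLift
import Groth.Agent.L05.Hensel.IntegralDomain
import Mathlib.RingTheory.Henselian
import Mathlib.RingTheory.Unramified.Finite
import Mathlib.RingTheory.Unramified.LocalRing
import Mathlib.RingTheory.Etale.Field

set_option autoImplicit false
universe u
open scoped TensorProduct
open Hensel

namespace Groth.Agent.S16444

open IsLocalRing in
/-- Let A be a complete Noetherian local ring and R → A a local homomorphism from a henselian Noetherian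
local ring R inducing a bijection on residue fields. Then every local ring E which is an essentially
etale local A-algebra with local structure map is A-isomorphic to A ⊗_R S for some local ring S
which is a finite etale R-algebra (its residue field is then that of E). (The published statement
takes R to be a coefficient ring of A, that is a field or an image of a complete p-ring with the
same residue field; its proof uses only that R is henselian with the same residue field as A, which
is the hypothesis made here.) -/
theorem result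
    (R A E : Type u) [CommRing R] [HenselianLocalRing R] [IsNoetherianRing R]
    [CommRing A] [IsLocalRing A] [IsNoetherianRing A] [IsAdicComplete (maximalIdeal A) A]
    [Algebra R A] [IsLocalHom (algebraMap R A)]
    (hres : Function.Bijective (ResidueField.map (algebraMap R A)))
    [CommRing E] [IsLocalRing E] [Algebra A E] [IsLocalHom (algebraMap A E)]
    (hE : EGA4loc.IsEssentiallyEtale A E) :
    ∃ (S : Type u) (_ : CommRing S) (_ : IsLocalRing S) (_ : Algebra R S),
      Module.Finite R S ∧ Algebra.Etale R S ∧ Nonempty (E ≃ₐ[A] A ⊗[R] S) := by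
  open IsLocalRing in
  classical
  haveI : HenselianLocalRing A := Groth.L05.henselianLocalRing_of_henselianRing
  -- `E` is unramified with finite separable residue field
  obtain ⟨C, _, _, q, _, hCet, hq, ⟨eC⟩⟩ := id hE
  haveI : Algebra.FormallyUnramified C (Localization.AtPrime q) :=
    Algebra.FormallyUnramified.of_isLocalization q.primeCompl
  haveI : Algebra.FormallyUnramified A (Localization.AtPrime q) := Algebra.FormallyUnramified.comp A C _
  haveI : Algebra.FormallyUnramified A E := Algebra.FormallyUnramified.of_equiv eC.symm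
  haveI : Algebra.EssFiniteType C (Localization.AtPrime q) :=
    Algebra.EssFiniteType.of_isLocalization _ q.primeCompl
  haveI : Algebra.EssFiniteType A (Localization.AtPrime q) := Algebra.EssFiniteType.comp A C _
  haveI : Algebra.EssFiniteType A E := Algebra.EssFiniteType.of_surjective eC.symm.toAlgHom eC.symm.surjective
  let kR := ResidueField R
  let eR : kR ≃+* ResidueField A := RingEquiv.ofBijective _ hres
  letI : Algebra kR (ResidueField E) :=
    ((algebraMap (ResidueField A) (ResidueField E)).comp eR.toRingHom).toAlgebra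
  letI : Algebra R (ResidueField E) := ((algebraMap kR (ResidueField E)).comp (residue R)).toAlgebra
  haveI : IsScalarTower R kR (ResidueField E) := .of_algebraMap_eq fun r => rfl
  haveI : Module.Finite kR (ResidueField E) :=
    RingHom.finite_algebraMap.1 ((RingHom.finite_algebraMap.2 (inferInstance :
      Module.Finite (ResidueField A) (ResidueField E))).comp (RingHom.Finite.of_surjective _ eR.surjective))
  haveI : Algebra.IsSeparable kR (ResidueField E) :=
    Algebra.IsSeparable.of_equiv_equiv eR.symm (RingEquiv.refl (ResidueField E)) (by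
      ext x
      show algebraMap (ResidueField A) (ResidueField E) (eR (eR.symm x)) = _
      rw [RingEquiv.apply_symm_apply]
      rfl)
  haveI : Algebra.FormallyEtale kR (ResidueField E) := Algebra.FormallyEtale.of_isSeparable _ _
  haveI : Algebra.Etale kR (ResidueField E) :=
    { finitePresentation := Algebra.FinitePresentation.of_finiteType.mp inferInstance }
  letI : Algebra (R ⧸ maximalIdeal R) (ResidueField E) := (inferInstance : Algebra kR (ResidueField E))
  haveI : IsScalarTower R (R ⧸ maximalIdeal R) (ResidueField E) := inferInstanceAs (IsScalarTower R kR (ResidueField E))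
  haveI : Module.Finite (R ⧸ maximalIdeal R) (ResidueField E) := inferInstanceAs (Module.Finite kR (ResidueField E))
  haveI : Algebra.Etale (R ⧸ maximalIdeal R) (ResidueField E) := inferInstanceAs (Algebra.Etale kR (ResidueField E))
  obtain ⟨S, _, _, θ, hSfin, hSet, hθ, hker⟩ :=
    Groth.L05.exists_finite_etale_lift (maximalIdeal R) (C := ResidueField E)
  haveI : Algebra.IsIntegral R S := Algebra.IsIntegral.of_finite R S
  have hmax : (RingHom.ker θ).IsMaximal := RingHom.ker_isMaximal_of_surjective θ hθ
  haveI : IsLocalRing S := by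
    refine IsLocalRing.of_unique_max_ideal ⟨_, hmax, fun M hM => ?_⟩
    haveI := hM
    refine (hmax.eq_of_le hM.ne_top ?_).symm
    rw [hker]
    refine Ideal.map_le_iff_le_comap.2 (le_of_eq ?_)
    haveI : (M.comap (algebraMap R S)).IsMaximal := Ideal.isMaximal_comap_of_isIntegral_of_isMaximal M
    exact (IsLocalRing.eq_maximalIdeal inferInstance).symm
  have hRA : ∀ r : R, algebraMap R (ResidueField E) r = residue E (algebraMap A E (algebraMap R A r)) :=
    fun r => rfl
  letI : Algebra A (ResidueField E) := inferInstance
  haveI : IsScalarTower R A (ResidueField E) := .of_algebraMap_eq fun r => hRA r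
  let Θ : A ⊗[R] S →ₐ[A] ResidueField E :=
    Algebra.TensorProduct.lift (Algebra.ofId A (ResidueField E)) θ fun _ _ => Commute.all _ _
  have hΘsurj : Function.Surjective Θ := fun x => by
    obtain ⟨s, rfl⟩ := hθ x
    exact ⟨1 ⊗ₜ s, by simp [Θ]⟩
  let mT : Ideal (A ⊗[R] S) := (maximalIdeal A).map (algebraMap A (A ⊗[R] S))
  have happrox : ∀ x : A ⊗[R] S, ∃ s : S, x - 1 ⊗ₜ s ∈ mT := by
    intro x
    induction x using TensorProduct.induction_on with
    | zero => exact ⟨0, by simp⟩
    | tmul a s =>
      obtain ⟨r, hr⟩ := hres.2 (residue A a)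
      obtain ⟨r, rfl⟩ := residue_surjective r
      refine ⟨r • s, ?_⟩
      have hm : a - algebraMap R A r ∈ maximalIdeal A := by
        rw [← residue_eq_zero_iff, map_sub, ← hr]
        exact sub_eq_zero.2 rfl
      rw [TensorProduct.tmul_smul, TensorProduct.smul_tmul', ← TensorProduct.sub_tmul,
        ← Algebra.algebraMap_eq_smul_one,
        show ((a - algebraMap R A r) ⊗ₜ[R] s : A ⊗[R] S) =
          algebraMap A (A ⊗[R] S) (a - algebraMap R A r) * (1 ⊗ₜ s) by simp]
      exact Ideal.mul_mem_right _ _ (Ideal.mem_map_of_mem _ hm)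
    | add x y hx hy =>
      obtain ⟨s, hs⟩ := hx
      obtain ⟨t, ht⟩ := hy
      refine ⟨s + t, ?_⟩
      rw [TensorProduct.tmul_add, add_sub_add_comm]
      exact add_mem hs ht
  have hΘm : mT ≤ RingHom.ker Θ := Ideal.map_le_iff_le_comap.2 fun a ha => by
    rw [Ideal.mem_comap, RingHom.mem_ker, AlgHom.commutes]
    show residue E (algebraMap A E a) = 0
    exact (residue_eq_zero_iff _).2 (map_nonunit (algebraMap A E) a ha)
  have hkerT : RingHom.ker Θ = mT := by
    refine le_antisymm (fun x hx => ?_) hΘm
    obtain ⟨s, hs⟩ := happrox x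
    have h0 : θ s = 0 := by
      have := hΘm hs
      rw [RingHom.mem_ker, map_sub, RingHom.mem_ker.1 hx, zero_sub, neg_eq_zero] at this
      simpa [Θ] using this
    have hs0 : ((1 : A) ⊗ₜ[R] s : A ⊗[R] S) ∈ mT := by
      have h1 : s ∈ (maximalIdeal R).map (algebraMap R S) := hker ▸ h0
      have h2 := Ideal.mem_map_of_mem (Algebra.TensorProduct.includeRight : S →ₐ[R] A ⊗[R] S).toRingHom h1
      rw [Ideal.map_map, AlgHom.toRingHom_eq_coe, AlgHom.comp_algebraMap,
        IsScalarTower.algebraMap_eq R A (A ⊗[R] S), ← Ideal.map_map] at h2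
      exact Ideal.map_mono (((IsLocalRing.local_hom_TFAE (algebraMap R A)).out 0 2 rfl rfl).mp inferInstance) h2
    simpa using add_mem hs hs0
  have hmaxT : (RingHom.ker Θ).IsMaximal := RingHom.ker_isMaximal_of_surjective Θ hΘsurj
  haveI : Module.Finite A (A ⊗[R] S) := inferInstance
  haveI : Algebra.IsIntegral A (A ⊗[R] S) := Algebra.IsIntegral.of_finite A _
  haveI : IsLocalRing (A ⊗[R] S) := by
    refine IsLocalRing.of_unique_max_ideal ⟨_, hmaxT, fun M hM => ?_⟩
    haveI := hM
    refine (hmaxT.eq_of_le hM.ne_top ?_).symm
    rw [hkerT]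
    refine Ideal.map_le_iff_le_comap.2 (le_of_eq ?_)
    haveI : (M.comap (algebraMap A (A ⊗[R] S))).IsMaximal := Ideal.isMaximal_comap_of_isIntegral_of_isMaximal M
    exact (IsLocalRing.eq_maximalIdeal inferInstance).symm
  haveI : HenselianLocalRing (A ⊗[R] S) := Groth.L05.henselianLocalRing_of_integral (A := A) _
  have hmT : RingHom.ker Θ = maximalIdeal (A ⊗[R] S) := IsLocalRing.eq_maximalIdeal hmaxT
  haveI : IsLocalHom (algebraMap A (A ⊗[R] S)) :=
    ((IsLocalRing.local_hom_TFAE (algebraMap A (A ⊗[R] S))).out 0 2 rfl rfl).mpr (le_of_eq (hkerT.symm.trans hmT))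
  let κ : ResidueField (A ⊗[R] S) ≃ₐ[A] ResidueField E :=
    (Ideal.quotientEquivAlgOfEq A hmT.symm).trans (Ideal.quotientKerAlgEquivOfSurjective (f := Θ) hΘsurj)
  obtain ⟨g, ⟨hgloc, hgA, hgres⟩, -⟩ := Groth.L05.Henselization.existsUnique_lift_essEt hE
    (algebraMap A (A ⊗[R] S)) κ.symm.toRingEquiv.toRingHom (RingHom.ext fun x => by
      obtain ⟨a, rfl⟩ := residue_surjective x
      exact κ.symm.commutes a)
  let g' : E →ₐ[A] A ⊗[R] S := { g with commutes' := fun a => DFunLike.congr_fun hgA a }
  have hinj : Function.Injective g' := by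
    letI : Algebra E (A ⊗[R] S) := g.toAlgebra
    haveI : IsScalarTower A E (A ⊗[R] S) := .of_algebraMap_eq fun a => (DFunLike.congr_fun hgA a).symm
    haveI : IsLocalHom (algebraMap E (A ⊗[R] S)) := hgloc
    haveI : Module.Flat E (A ⊗[R] S) := Algebra.FormallyUnramified.flat_of_restrictScalars A E _
    haveI : Module.FaithfullyFlat E (A ⊗[R] S) := Module.FaithfullyFlat.of_flat_of_isLocalHom
    exact FaithfulSMul.algebraMap_injective E (A ⊗[R] S)
  have hsurj : Function.Surjective g' := by
    have : (⊤ : Submodule A (A ⊗[R] S)) ≤ LinearMap.range g'.toLinearMap := by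
      refine Submodule.le_of_le_smul_of_le_jacobson_bot Module.Finite.fg_top
        (IsLocalRing.maximalIdeal_le_jacobson _) fun x _ => ?_
      obtain ⟨e, he⟩ := residue_surjective (κ (residue _ x))
      refine Submodule.mem_sup.2 ⟨g' e, ⟨e, rfl⟩, x - g' e, ?_, add_sub_cancel _ _⟩
      rw [Ideal.smul_top_eq_map]
      show x - g' e ∈ mT
      rw [← hkerT, hmT, ← residue_eq_zero_iff, map_sub, show residue _ (g' e) = _ from hgres e, he]
      show residue _ x - κ.symm (κ (residue _ x)) = 0
      rw [AlgEquiv.symm_apply_apply, sub_self]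
    exact fun x => this (Submodule.mem_top (x := x))
  exact ⟨S, inferInstance, inferInstance, inferInstance, hSfin, hSet, ⟨AlgEquiv.ofBijective g' ⟨hinj, hsurj⟩⟩⟩

end Groth.Agent.S16444
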