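import Groth.Statements.S16445
import Groth.Agent.L05.StrictGalois.Inter
import Groth.Agent.S2651

set_option autoImplicit false
universe u
open Hensel

namespace Groth.Agent.S16445

/-- Let A be an excellent henselian reduced local ring, S a strict henselization of A and Q a minimal
prime ideal of S; let K be the fraction field of the domain S/Q and L the subfield of K generated
over the image of A by a finite subset t of K. Then the intersection of L with S/Q is (the
underlying set of) an A-subalgebra D' of S/Q which is an excellent henselian local ring (a domain,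
as a subring of S/Q) whose fraction field is L: every element of L is the quotient of the images of
two elements of D'. (The source's further description of the completion of D' is not stated here.) -/
theorem result
    (A S : Type u) [CommRing A] [HenselianLocalRing A] [IsReduced A] (hA : EGA4.IsExcellent A)
    [CommRing S] [IsLocalRing S] [Algebra A S] [IsLocalHom (algebraMap A S)]
    [Hensel.IsStrictHenselization A S] (Q : Ideal S) (hQ : Q ∈ minimalPrimes S) [Q.IsPrime]
    (t : Finset (FractionRing (S ⧸ Q))) :
    ∃ D' : Subalgebra A (S ⧸ Q), (D' : Set (S ⧸ Q)) = (algebraMap (S ⧸ Q) (FractionRing (S ⧸ Q))) ⁻¹'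
        (Subfield.closure (Set.range (algebraMap A (FractionRing (S ⧸ Q))) ∪
          (t : Set (FractionRing (S ⧸ Q)))) : Set (FractionRing (S ⧸ Q))) ∧
      EGA4.IsExcellent D' ∧ ∃ _ : HenselianLocalRing D',
        ∀ l ∈ Subfield.closure (Set.range (algebraMap A (FractionRing (S ⧸ Q))) ∪
            (t : Set (FractionRing (S ⧸ Q)))),
          ∃ a ∈ D', ∃ b ∈ D', algebraMap (S ⧸ Q) (FractionRing (S ⧸ Q)) b ≠ 0 ∧
            l * algebraMap (S ⧸ Q) (FractionRing (S ⧸ Q)) b =
              algebraMap (S ⧸ Q) (FractionRing (S ⧸ Q)) a := by
  haveI : IsNoetherianRing A := hA.1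
  obtain ⟨D', h1, h2, -, h4⟩ := Groth.L05.StrictGalois.exists_inter A S Q t
  haveI := h2
  haveI : IsLocalRing D' := Groth.L05.isLocalRing_of_finite_domain (A := A) D'
  haveI : Algebra.IsIntegral A D' := Algebra.IsIntegral.of_finite A D'
  exact ⟨D', h1, Groth.Agent.S2651.result A hA D',
    Groth.L05.henselianLocalRing_of_integral (A := A) D', h4⟩

end Groth.Agent.S16445
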