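import Groth.Statements.S16446
import Groth.Agent.L05.StrictGalois.Inter
import Mathlib.RingTheory.Ideal.MinimalPrime.Noetherian

set_option autoImplicit false
universe u
open Hensel

namespace Groth.Agent.S16446

/-- Let A be an excellent henselian reduced local ring, S a strict henselization of A and Q a minimal
prime ideal of S with contraction q to A; let K be the fraction field of S/Q and L the subfield of K
generated over the image of A by a finite subset t of K. Then there is an A-subalgebra E of S, a
local ring and an essentially etale local A-algebra, such that (i) every minimal prime ideal of S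
over the ideal qS is generated by its contraction to E, and (ii) every element of S/Q whose image in
K lies in L is the class of an element of E — so that the intersection of L with S/Q equals its
intersection with the image of E. -/
theorem result
    (A S : Type u) [CommRing A] [HenselianLocalRing A] [IsReduced A] (hA : EGA4.IsExcellent A)
    [CommRing S] [IsLocalRing S] [Algebra A S] [IsLocalHom (algebraMap A S)]
    [Hensel.IsStrictHenselization A S] (Q : Ideal S) (hQ : Q ∈ minimalPrimes S) [Q.IsPrime]
    (t : Finset (FractionRing (S ⧸ Q))) :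
    ∃ E : Subalgebra A S, ∃ _ : IsLocalRing E, EGA4loc.IsEssentiallyEtale A E ∧
      (∀ Q' ∈ ((Q.comap (algebraMap A S)).map (algebraMap A S)).minimalPrimes,
        Q' = Ideal.map (algebraMap E S) (Q'.comap (algebraMap E S))) ∧
      ∀ x : S, algebraMap (S ⧸ Q) (FractionRing (S ⧸ Q)) (Ideal.Quotient.mk Q x) ∈
          Subfield.closure (Set.range (algebraMap A (FractionRing (S ⧸ Q))) ∪
            (t : Set (FractionRing (S ⧸ Q)))) →
        ∃ e ∈ E, Ideal.Quotient.mk Q e = Ideal.Quotient.mk Q x := by
  classical
  haveI : IsNoetherianRing A := hA.1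
  haveI : IsNoetherianRing S :=
    (Groth.L05.Henselization.isNoetherianRing_iff_strict A S).1 inferInstance
  obtain ⟨fs, hfs⟩ := Groth.L05.StrictGalois.exists_stage_generators (A := A) Q t
  have hgen : ∀ Q' : Ideal S, ∃ gs : Finset S, Ideal.span (gs : Set S) = Q' :=
    fun Q' => IsNoetherian.noetherian Q'
  choose gens hgens using hgen
  let M := (Ideal.finite_minimalPrimes_of_isNoetherianRing S
    ((Q.comap (algebraMap A S)).map (algebraMap A S))).toFinset
  obtain ⟨E, _, _, _, _, g, hfin, het, -, hgloc, hflat, hinj, hmem⟩ :=
    Groth.L05.StrictGalois.exists_galois_stage A S (fs ∪ M.biUnion gens)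
  let e : E ≃ₐ[A] g.range := AlgEquiv.ofInjective g hinj
  haveI : IsLocalRing g.range := e.toRingEquiv.isLocalRing
  refine ⟨g.range, inferInstance, ?_, fun Q' hQ' => ?_, fun x hx => ?_⟩
  · refine ⟨E, inferInstance, inferInstance, IsLocalRing.maximalIdeal E, inferInstance, het,
      IsLocalRing.maximalIdeal_comap (algebraMap A E), ⟨e.symm.trans ?_⟩⟩
    exact (IsLocalization.atUnits E (IsLocalRing.maximalIdeal E).primeCompl
      (S := Localization.AtPrime (IsLocalRing.maximalIdeal E))
      fun x hx => not_not.1 hx).restrictScalars A
  · refine le_antisymm ((hgens Q').ge.trans (Ideal.span_le.2 fun y hy => ?_)) Ideal.map_comap_le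
    have hy' : y ∈ g.range := hmem y (Finset.mem_union_right _
      (Finset.mem_biUnion.2 ⟨Q', (Set.Finite.mem_toFinset _).2 hQ', hy⟩))
    exact Ideal.mem_map_of_mem (algebraMap g.range S)
      (show (⟨y, hy'⟩ : g.range) ∈ Q'.comap (algebraMap g.range S) from hgens Q' ▸ Ideal.subset_span hy)
  · obtain ⟨hQmap, hLle⟩ := hfs g fun y hy => hmem y (Finset.mem_union_left _ hy)
    haveI : IsLocalHom g.toRingHom := hgloc
    obtain ⟨e', he'⟩ := Groth.L05.StrictGalois.exists_eq_of_mem_fractions g.toRingHom hflat hQmap (hLle hx)
    exact ⟨g e', ⟨e', rfl⟩, he'⟩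

end Groth.Agent.S16446
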