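import Groth.Statements.S16448
import Groth.Agent.L05.StrictGalois.Frac

set_option autoImplicit false
universe u
open EGA4loc

namespace Groth.Agent.S16448

/-- Let A be a reduced local ring with finitely many minimal prime ideals and E a local ring which is an
essentially etale local A-algebra with local structure map. Then the total ring of fractions K_E of
E is the localization of E at the images of the non-zero-divisors of A — that is, K_E = E ⊗_A K_A —
and K_E is finite over K_A: for some finite subset t of K_E, every element of K_E multiplied by the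
image of a suitable non-zero-divisor of A lies in the A-span of t. (The published statement is for a
reduced semilocal ring and a semilocal etale extension; this row treats a local ring and a local
etale extension.) -/
theorem result
    (A E : Type u) [CommRing A] [IsLocalRing A] [IsReduced A] (hmin : (minimalPrimes A).Finite)
    [CommRing E] [IsLocalRing E] [Algebra A E] [IsLocalHom (algebraMap A E)]
    (hE : EGA4loc.IsEssentiallyEtale A E) :
    IsLocalization ((nonZeroDivisors A).map (algebraMap A E)) (FractionRing E) ∧
      ∃ t : Finset (FractionRing E), ∀ x : FractionRing E, ∃ a ∈ nonZeroDivisors A,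
        algebraMap A (FractionRing E) a * x ∈ Submodule.span A (t : Set (FractionRing E)) := by
  classical
  open Groth.L05.StrictGalois in
  haveI := flat_of_essEt hE
  open Groth.L05.StrictGalois in
  have hdiv : ∀ d ∈ nonZeroDivisors E, ∃ y : E, ∃ a ∈ nonZeroDivisors A, d * y = algebraMap A E a := by
    intro d hd
    obtain ⟨y, a, ha, h⟩ := exists_mul_eq_algebraMap hmin hE ⊤ (d := ⟨d, trivial⟩)
      (mem_nonZeroDivisors_iff_right.2 fun z hz => Subtype.ext
        (mem_nonZeroDivisors_iff_right.1 hd _ (congrArg Subtype.val hz : (z : E) * d = 0)))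
    exact ⟨y, a, ha, congrArg Subtype.val h⟩
  have hle : ∀ a ∈ nonZeroDivisors A, algebraMap A E a ∈ nonZeroDivisors E := fun a ha =>
    Groth.L05.StrictGalois.algebraMapSubmonoid_le A E ⟨a, ha, rfl⟩
  have hclear : ∀ z : FractionRing E, ∃ a ∈ nonZeroDivisors A, ∃ c : E,
      z * algebraMap E (FractionRing E) (algebraMap A E a) = algebraMap E (FractionRing E) c := by
    intro z
    obtain ⟨c, ⟨s, hs⟩, rfl⟩ := IsLocalization.exists_mk'_eq (nonZeroDivisors E) z
    obtain ⟨y, a, ha, h⟩ := hdiv s hs
    refine ⟨a, ha, c * y, ?_⟩
    rw [← h, map_mul, ← mul_assoc, IsLocalization.mk'_spec, map_mul]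
  refine ⟨⟨⟨?_, ?_, ?_⟩⟩, ?_⟩
  · rintro ⟨_, a, ha, rfl⟩
    exact IsLocalization.map_units (M := nonZeroDivisors E) (FractionRing E) ⟨_, hle a ha⟩
  · intro z
    obtain ⟨a, ha, c, h⟩ := hclear z
    exact ⟨⟨c, ⟨_, a, ha, rfl⟩⟩, h⟩
  · intro x y h
    exact ⟨1, by rw [IsFractionRing.injective E (FractionRing E) h]⟩
  · obtain ⟨t, ht⟩ := Groth.L05.StrictGalois.exists_finset_smul_mem_span hmin hE
    refine ⟨t.image (algebraMap E (FractionRing E)), fun z => ?_⟩
    obtain ⟨a, ha, c, h⟩ := hclear z
    obtain ⟨b, hb, hc⟩ := ht c
    refine ⟨b * a, mul_mem hb ha, ?_⟩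
    have heq : algebraMap A (FractionRing E) (b * a) * z =
        (IsScalarTower.toAlgHom A E (FractionRing E)).toLinearMap (b • c) := by
      show _ = algebraMap E (FractionRing E) (b • c)
      rw [Algebra.smul_def, map_mul, map_mul, ← h, ← IsScalarTower.algebraMap_apply,
        ← IsScalarTower.algebraMap_apply]
      ring
    rw [heq, Finset.coe_image]
    show (IsScalarTower.toAlgHom A E (FractionRing E)).toLinearMap (b • c) ∈
      Submodule.span A ((IsScalarTower.toAlgHom A E (FractionRing E)).toLinearMap '' (t : Set E))
    rw [← Submodule.map_span]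
    exact Submodule.mem_map_of_mem hc

end Groth.Agent.S16448
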