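import Groth.Statements.S1645
import Groth.Agent.L22.DimOneAmple.Twist
import Groth.Agent.L22.DimOneAmple.Poles
import Groth.Agent.L21.RR.Mul
import Groth.Agent.L21.RR.Twist

set_option autoImplicit false
set_option linter.style.haveILetI false
set_option backward.isDefEq.respectTransparency.types false
universe u
open CategoryTheory CategoryTheory.Limits AlgebraicGeometry
open Variety

namespace Groth.Agent.S1645

/-- Let X be integral and separated and U a nonempty affine open outside of which there are only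
finitely many points, each with a one-dimensional Noetherian local ring. Then there are a globally
generated invertible module L and a global section s with U equal to the locus where s generates L. -/
theorem result (X : Scheme.{u}) [IsIntegral X] [X.IsSeparated]
    (U : X.Opens) (hU : IsAffineOpen U) (hne : (U : Set X).Nonempty) (hfin : ((U : Set X)ᶜ).Finite)
    (hloc : ∀ x : X, x ∉ U → IsNoetherianRing (X.presheaf.stalk x) ∧ ringKrullDim (X.presheaf.stalk x) = 1) :
    ∃ (L : X.Modules) (s : Coh.structureModule X ⟶ L), PicF.IsInvertible L ∧ Curv2.IsGloballyGenerated L ∧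
      CohB1.genLocus L s = U := by
  classical
  open Groth.L22.DimOneAmple in
  open Groth.L22.PicGlue in
  exact by
    have hη : genericPoint X ∈ U := by
      obtain ⟨y, hy⟩ := hne
      exact (genericPoint_specializes y).mem_open U.isOpen hy
    have hd : ∀ z, z ∉ U → ringKrullDim (X.presheaf.stalk z) ≤ 1 := fun z hz => (hloc z hz).2.le
    have hcl : ∀ z, z ∉ U → IsClosed ({z} : Set X) := by
      intro z hz
      refine isClosed_of_closure_subset fun w hw => ?_
      by_contra hwz
      have hzw : z ⤳ w := specializes_iff_mem_closure.2 hw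
      have hwU : w ∉ U := fun h => hz (hzw.mem_open U.isOpen h)
      haveI := (hloc w hwU).1
      exact hz ((generizations_of_dim_le_one w (hd w hwU)).2 (genericPoint X) z (genericPoint_specializes w)
        (fun h => hwU (h ▸ hη)) hzw (fun h => hwz h.symm) (genericPoint_specializes z) ▸ hη)
    haveI : IsAffineHom U.ι := by
      refine isAffineHom_of_forall_exists_isAffineOpen _ fun y => ?_
      obtain ⟨O, hO, hyO, -⟩ := exists_isAffineOpen_mem_and_subset (TopologicalSpace.Opens.mem_top y)
      refine ⟨O, hyO, hO, ?_⟩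
      rw [← Scheme.Hom.isAffineOpen_iff_of_isOpenImmersion U.ι]
      rw [Scheme.Hom.image_preimage_eq_opensRange_inf, Scheme.Opens.opensRange_ι]
      exact hU.inf hO
    haveI : ∀ z : hfin.toFinset, IsNoetherianRing (X.presheaf.stalk z.1) :=
      fun z => (hloc z.1 (hfin.mem_toFinset.1 z.2)).1
    have hdz : ∀ z : hfin.toFinset, ringKrullDim (X.presheaf.stalk z.1) ≤ 1 :=
      fun z => hd z.1 (hfin.mem_toFinset.1 z.2)
    have hP : ∀ z : hfin.toFinset, ∃ P : Punct U z.1, ∀ y ∈ P.V, y ∉ U → y = z.1 := by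
      intro z
      have hzU : z.1 ∉ U := hfin.mem_toFinset.1 z.2
      have hOc : IsClosed ((U : Set X)ᶜ \ {z.1}) := by
        have h : IsClosed (⋃ y ∈ ((U : Set X)ᶜ \ {z.1}), ({y} : Set X)) :=
          (hfin.subset Set.sdiff_subset).isClosed_biUnion fun y hy => hcl y hy.1
        rwa [Set.biUnion_of_singleton] at h
      have hO : ∀ y ∈ (⟨((U : Set X)ᶜ \ {z.1})ᶜ, hOc.isOpen_compl⟩ : X.Opens), y ∉ U → y = z.1 :=
        fun y hy hyU => by
          by_contra hne'
          exact hy ⟨hyU, hne'⟩
      obtain ⟨V, f, hV, hzV, hVO, hf⟩ := exists_puncture U z.1 hzU _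
        (show z.1 ∈ (⟨((U : Set X)ᶜ \ {z.1})ᶜ, hOc.isOpen_compl⟩ : X.Opens) from fun h => h.2 rfl) hO (hdz z)
      exact ⟨⟨V, hV, hzV, hzU, f, hf⟩, fun y hy hyU => hO y (hVO hy) hyU⟩
    choose P hPz using hP
    haveI : ∀ z : hfin.toFinset, Finite (PrimeSpectrum (P z).R) := fun z => prime_finite (hdz z) (P z).fz_mem
    haveI : ∀ (z : hfin.toFinset) (p : PrimeSpectrum (P z).R), Finite (branches (X.presheaf.stalk z.1) p) :=
      fun z p => (finite_branches (hdz z) (P z).fz_mem p).1.to_subtype
    obtain ⟨g₁, -, hg⟩ := exists_poles_alg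
      (ι := Σ z : hfin.toFinset, Σ p : PrimeSpectrum (P z).R, branches (X.presheaf.stalk z.1) p)
      (fun i => (P i.1).ψ i.2.1) (fun i => i.2.2.1)
      (fun i => (finite_branches (hdz i.1) (P i.1).fz_mem i.2.1).2 _ i.2.2.2)
      (fun i => (P i.1).exists_notMem hU (hdz _) i.2.1 i.2.2.2)
      ⊤ (fun i h => (RingHom.ker_isPrime ((P i.1).ψ i.2.1)).ne_top (top_le_iff.1 h)) 0 (Or.inl rfl)
    choose n hn φ hφ hφe using fun z : hfin.toFinset =>
      (P z).exists_inv_pow (hdz z) g₁ fun p W hW => hg ⟨z, p, W, hW⟩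
    have hN : (∏ z : hfin.toFinset, n z) ≠ 0 :=
      Finset.prod_ne_zero_iff.2 fun z _ => (zero_lt_one.trans_le (hn z)).ne'
    have hsp : ∀ z : hfin.toFinset, ∃ (M : X.Opens) (a : Γ(X, M)), z.1 ∈ M ∧ M ≤ (P z).V ∧ z.1 ∉ X.basicOpen a ∧
        Groth.L21.Extend.rO X (inf_le_left : M ⊓ U ≤ M) a *
          Groth.L21.Extend.rO X inf_le_right (g₁ ^ (∏ z : hfin.toFinset, n z)) = 1 := by
      intro z
      obtain ⟨k, hk⟩ : n z ∣ ∏ z : hfin.toFinset, n z := Finset.dvd_prod_of_mem n (Finset.mem_univ z)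
      have hk0 : k ≠ 0 := fun h => hN (by rw [hk, h, mul_zero])
      exact (P z).spread (g₁ ^ (∏ z : hfin.toFinset, n z)) (φ := φ z ^ k)
        (Ideal.pow_mem_of_mem _ (hφ z) _ (Nat.pos_of_ne_zero hk0))
        (by rw [map_pow, map_pow, hk, pow_mul, ← mul_pow, hφe, one_pow])
    choose M a hzM hMV hza hinv using hsp
    let D : TwistData U (g₁ ^ (∏ z : hfin.toFinset, n z)) :=
      { κ := hfin.toFinset
        M := M
        φ := a
        inter := fun k l hkl y hy => by
          by_contra h
          exact hkl (Subtype.ext ((hPz k y (hMV k hy.1) h).symm.trans (hPz l y (hMV l hy.2) h)))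
        inv := hinv
        cover := fun x hx => ⟨⟨x, hfin.mem_toFinset.2 hx⟩, hzM _⟩ }
    obtain ⟨s, hs⟩ := D.exists_hom D.c 1 fun i => by rw [Groth.L22.PicGlue.rO_one, mul_one]
    obtain ⟨t, ht⟩ := D.exists_hom D.cg _ D.cg_eq
    have hUs : U ≤ CohB1.genLocus D.L s := fun y hy => by
      have h : y ∈ X.basicOpen (1 : Γ(X, U)) := by rw [X.basicOpen_of_isUnit isUnit_one]; exact hy
      exact ((hs none).ge h).1
    refine ⟨D.L, s, D.isInvertible, ?_, le_antisymm (fun y hy => ?_) hUs⟩
    · refine Groth.L21.RR.isGloballyGenerated_of_sections fun x => ?_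
      by_cases hx : x ∈ U
      · exact ⟨s, (Groth.L21.RR.mem_genLocus_iff D.isInvertible s x).1 (hUs hx)⟩
      · refine ⟨t, (Groth.L21.RR.mem_genLocus_iff D.isInvertible t x).1 ?_⟩
        have h : x ∈ X.basicOpen (1 : Γ(X, M ⟨x, hfin.mem_toFinset.2 hx⟩)) := by
          rw [X.basicOpen_of_isUnit isUnit_one]; exact hzM _
        exact ((ht (some ⟨x, hfin.mem_toFinset.2 hx⟩)).ge h).1
    · by_contra hy'
      exact hza _ ((hs (some ⟨y, hfin.mem_toFinset.2 hy'⟩)).le ⟨hy, hzM _⟩)

end Groth.Agent.S1645
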