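import Groth.Statements.S16450
import Groth.Agent.L05.StrictGalois.NormStrict
import Groth.Agent.S16439
import Groth.Agent.S2654

set_option autoImplicit false
universe u
open scoped TensorProduct
open EGA4loc

namespace Groth.Agent.S16450

open IsLocalRing in
/-- Let A be an excellent reduced local ring with maximal ideal m and residue field k, S a strict
henselization of A with total ring of fractions K, and D an A-subalgebra of S which is a local ring
dominated by S (local inclusion) and whose total ring of fractions is finitely generated over that
of A. Inside K, let A' and D' be the normalizations of A and of D: the elements of K integral over A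
(resp. over D) which are carried into A (resp. into D) by the image of some non-zero-divisor of A;
so A' ⊆ D', and let ι : D → D' be the inclusion. Then D is an essentially etale local A-algebra if
and only if D' has finitely many maximal ideals and the canonical map A' ⊗_A D → D'/Rad(D') is
surjective with kernel the ideal generated by Rad(A') ⊗ D and A' ⊗ m_D — in other words the residual
field products satisfy (A'/Rad A') ⊗_k (D/m_D) ≅ D'/Rad(D') via the canonical maps. -/
theorem result
    (A S : Type u) [CommRing A] [IsLocalRing A] [IsReduced A] (hA : EGA4.IsExcellent A)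
    [CommRing S] [IsLocalRing S] [Algebra A S] [IsLocalHom (algebraMap A S)]
    [Hensel.IsStrictHenselization A S] (D : Subalgebra A S) [IsLocalRing D]
    [IsLocalHom (algebraMap D S)]
    (hfg : ∃ t : Finset (FractionRing D), ∀ x : FractionRing D, ∃ a ∈ nonZeroDivisors A,
      algebraMap A (FractionRing D) a * x ∈ Algebra.adjoin A (t : Set (FractionRing D)))
    (A' D' : Subalgebra A (FractionRing S))
    (hA' : ∀ x : (FractionRing S), x ∈ A' ↔ (IsIntegral A x ∧
      ∃ a ∈ nonZeroDivisors A, ∃ b : A, algebraMap A (FractionRing S) a * x = algebraMap A (FractionRing S) b))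
    (hD' : ∀ x : (FractionRing S), x ∈ D' ↔ (IsIntegral D x ∧
      ∃ a ∈ nonZeroDivisors A, ∃ d ∈ D, algebraMap A (FractionRing S) a * x = algebraMap S (FractionRing S) d))
    (hle : A' ≤ D') (ι : D →ₐ[A] D') (hι : ∀ d : D, (ι d : (FractionRing S)) = algebraMap S (FractionRing S) d) :
    EGA4loc.IsEssentiallyEtale A D ↔
      ({N : Ideal D' | N.IsMaximal}.Finite ∧
        Function.Surjective ((Ideal.Quotient.mkₐ A (Ideal.jacobson (⊥ : Ideal D'))).comp
          (Algebra.TensorProduct.productMap (Subalgebra.inclusion hle) ι)) ∧
        RingHom.ker ((Ideal.Quotient.mkₐ A (Ideal.jacobson (⊥ : Ideal D'))).comp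
          (Algebra.TensorProduct.productMap (Subalgebra.inclusion hle) ι)) =
          (Ideal.jacobson (⊥ : Ideal A')).map
              (Algebra.TensorProduct.includeLeft : A' →ₐ[A] A' ⊗[A] D) ⊔
            (maximalIdeal D).map
              (Algebra.TensorProduct.includeRight : D →ₐ[A] A' ⊗[A] D)) := by
  classical
  open Groth.L05.StrictGalois IsLocalRing in
  haveI : IsNoetherianRing A := hA.1
  have hN : CAlg.IsNagata A := Groth.Agent.S2654.result A ⟨hA.1, hA.2.2.1, hA.2.2.2⟩
  have hmin : (minimalPrimes A).Finite := Ideal.finite_minimalPrimes_of_isNoetherianRing A ⊥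
  open Groth.L05.StrictGalois IsLocalRing in
  haveI : IsLocalHom (algebraMap A D) := ⟨fun a ha => by
    have := ha.map (algebraMap D S)
    rw [← IsScalarTower.algebraMap_apply] at this
    exact IsLocalHom.map_nonunit (f := algebraMap A S) a this⟩
  constructor
  · intro hD
    open Groth.L05.StrictGalois in
    haveI := flat_of_essEt hD
    haveI : Module.FaithfullyFlat A D := Module.FaithfullyFlat.of_flat_of_isLocalHom
    open Groth.L05.StrictGalois in
    obtain ⟨j, hj, hjd⟩ := exists_fracEmb hmin D
    letI := Groth.L05.StrictGalois.fracAlgebra A D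
    haveI := Groth.L05.StrictGalois.fracTower A D
    let jD : FractionRing D →ₐ[D] FractionRing S := { j.toRingHom with commutes' := fun d => hjd d }
    -- the normalization of `A`
    have hmemA : ∀ a, j (Groth.L05.StrictGalois.normIncl A D a) ∈ A' := by
      intro a
      refine (hA' _).2 ⟨((Algebra.IsIntegral.isIntegral (R := A) a).map
        (j.comp (Groth.L05.StrictGalois.normIncl A D))), ?_⟩
      obtain ⟨b, s, hbs⟩ := IsLocalization.exists_mk'_eq (nonZeroDivisors A) (a : FractionRing A)
      refine ⟨s, s.2, b, ?_⟩
      rw [← AlgHom.commutes j, ← AlgHom.commutes j b, ← map_mul]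
      refine congrArg j ?_
      show _ * algebraMap (FractionRing A) (FractionRing D) (a : FractionRing A) = _
      rw [← hbs, IsScalarTower.algebraMap_apply A (FractionRing A) (FractionRing D),
        IsScalarTower.algebraMap_apply A (FractionRing A) (FractionRing D) b, ← map_mul, mul_comm,
        IsLocalization.mk'_spec]
    let g : integralClosure A (FractionRing A) →ₐ[A] A' :=
      (j.comp (Groth.L05.StrictGalois.normIncl A D)).codRestrict A' hmemA
    have hginj : Function.Injective g := by
      refine (injective_iff_map_eq_zero g).2 fun a ha => Subtype.ext ?_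
      have h0 : algebraMap (FractionRing A) (FractionRing D) (a : FractionRing A) = 0 :=
        hj ((congrArg Subtype.val ha : _).trans (map_zero j).symm)
      obtain ⟨b, s, hbs⟩ := IsLocalization.exists_mk'_eq (nonZeroDivisors A) (a : FractionRing A)
      have h1 : algebraMap A (FractionRing D) b = 0 := by
        rw [IsScalarTower.algebraMap_apply A (FractionRing A) (FractionRing D),
          ← IsLocalization.mk'_spec (FractionRing A) b s, hbs, map_mul, h0, zero_mul]
      rw [IsScalarTower.algebraMap_apply A D (FractionRing D)] at h1
      have h2 : b = 0 := FaithfulSMul.algebraMap_injective A D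
        ((IsFractionRing.injective D (FractionRing D) (h1.trans (map_zero _).symm)).trans (map_zero _).symm)
      rw [← hbs, h2, IsLocalization.mk'_zero]
      rfl
    have hgsurj : Function.Surjective g := by
      rintro ⟨x, hx⟩
      obtain ⟨hxi, a, ha, b, hab⟩ := (hA' x).1 hx
      let k : FractionRing A := IsLocalization.mk' (FractionRing A) b ⟨a, ha⟩
      have hjk : j (algebraMap (FractionRing A) (FractionRing D) k) = x := by
        have h1 : j (algebraMap (FractionRing A) (FractionRing D) k) * algebraMap A (FractionRing S) a =
            algebraMap A (FractionRing S) b := by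
          rw [← AlgHom.commutes j a, ← AlgHom.commutes j b, ← map_mul,
            IsScalarTower.algebraMap_apply A (FractionRing A) (FractionRing D) a,
            IsScalarTower.algebraMap_apply A (FractionRing A) (FractionRing D) b, ← map_mul,
            IsLocalization.mk'_spec]
        rw [← hab, mul_comm] at h1
        have hu : IsUnit (algebraMap A (FractionRing S) a) := by
          have := (IsLocalization.map_units (M := nonZeroDivisors A) (FractionRing A) ⟨a, ha⟩).map
            (j.comp (IsScalarTower.toAlgHom A (FractionRing A) (FractionRing D)))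
          rwa [AlgHom.commutes] at this
        exact hu.mul_left_cancel h1
      have hk : IsIntegral A k := by
        refine (isIntegral_algHom_iff (j.comp (IsScalarTower.toAlgHom A (FractionRing A) (FractionRing D)))
          ?_).1 (by show IsIntegral A (j (algebraMap (FractionRing A) (FractionRing D) k)); rw [hjk]; exact hxi)
        refine (injective_iff_map_eq_zero _).2 fun l hl => ?_
        obtain ⟨b', s, rfl⟩ := IsLocalization.exists_mk'_eq (nonZeroDivisors A) l
        have h1 : algebraMap A (FractionRing D) b' = 0 := by
          rw [IsScalarTower.algebraMap_apply A (FractionRing A) (FractionRing D),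
            ← IsLocalization.mk'_spec (FractionRing A) b' s, map_mul,
            show algebraMap (FractionRing A) (FractionRing D) (IsLocalization.mk' _ b' s) = 0 from
              hj (hl.trans (map_zero j).symm), zero_mul]
        rw [IsScalarTower.algebraMap_apply A D (FractionRing D)] at h1
        have h2 : b' = 0 := FaithfulSMul.algebraMap_injective A D
          ((IsFractionRing.injective D (FractionRing D) (h1.trans (map_zero _).symm)).trans (map_zero _).symm)
        rw [h2, IsLocalization.mk'_zero]
      exact ⟨⟨k, hk⟩, Subtype.ext hjk⟩
    let ge := AlgEquiv.ofBijective g ⟨hginj, hgsurj⟩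
    let Φ : A' ⊗[A] D →ₐ[A] D' := Algebra.TensorProduct.productMap (Subalgebra.inclusion hle) ι
    let θ : integralClosure A (FractionRing A) ⊗[A] D ≃ₐ[A] A' ⊗[A] D :=
      Algebra.TensorProduct.congr ge AlgEquiv.refl
    have hΦθ : ∀ z, (Φ (θ z) : FractionRing S) = j (Groth.L05.StrictGalois.normMap A D z) := by
      intro z
      induction z with
      | zero => simp
      | tmul a d =>
        rw [show θ (a ⊗ₜ d) = g a ⊗ₜ d from rfl, Algebra.TensorProduct.productMap_apply_tmul,
          Groth.L05.StrictGalois.normMap_tmul, map_mul, hjd, Subalgebra.coe_mul, hι]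
        rfl
      | add a b ha hb => simp only [map_add, Subalgebra.coe_add, ha, hb]
    have hΦ : Function.Bijective Φ := by
      refine ⟨fun x y h => ?_, fun x => ?_⟩
      · obtain ⟨x, rfl⟩ := θ.surjective x
        obtain ⟨y, rfl⟩ := θ.surjective y
        refine congrArg θ (Groth.L05.StrictGalois.normMap_injective A D (hj ?_))
        rw [← hΦθ, ← hΦθ, h]
      · obtain ⟨hxi, a, ha, d, hd, had⟩ := (hD' x).1 x.2
        have ha' : algebraMap A D a ∈ nonZeroDivisors D :=
          Groth.L05.StrictGalois.algebraMapSubmonoid_le A D ⟨a, ha, rfl⟩
        let t : FractionRing D := IsLocalization.mk' (FractionRing D) (⟨d, hd⟩ : D) ⟨_, ha'⟩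
        have hjt : j t = (x : FractionRing S) := by
          have h1 := congrArg j (IsLocalization.mk'_spec (FractionRing D) (⟨d, hd⟩ : D) ⟨_, ha'⟩)
          rw [map_mul, hjd, hjd] at h1
          have h2 : algebraMap S (FractionRing S) ((algebraMap A D a : D) : S) = algebraMap A (FractionRing S) a :=
            (IsScalarTower.algebraMap_apply A S (FractionRing S) a).symm
          rw [h2, ← had, mul_comm] at h1
          have hu : IsUnit (algebraMap A (FractionRing S) a) := by
            have := (IsLocalization.map_units (M := nonZeroDivisors A) (FractionRing A) ⟨a, ha⟩).map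
              (j.comp (IsScalarTower.toAlgHom A (FractionRing A) (FractionRing D)))
            rwa [AlgHom.commutes] at this
          exact hu.mul_left_cancel h1
        have hjDinj : Function.Injective jD := hj
        have hti : IsIntegral D t := by
          refine (isIntegral_algHom_iff jD hjDinj).1 ?_
          show IsIntegral D (j t)
          rw [hjt]
          exact hxi
        obtain ⟨z, hz⟩ := Groth.L05.StrictGalois.exists_normMap_eq hmin hD hti
        exact ⟨θ z, Subtype.ext (by rw [hΦθ, hz, hjt])⟩
    haveI : IsReduced (FractionRing A) := inferInstance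
    haveI : Module.Finite A (integralClosure A (FractionRing A)) :=
      Groth.L05.StrictGalois.finite_integralClosure_of_finite A hN (FractionRing A)
    haveI : Module.Finite A A' := Module.Finite.equiv ge.toLinearEquiv
    haveI : Algebra.IsIntegral A A' := Algebra.IsIntegral.of_finite A A'
    let c : (D ⊗[A] A') →+* D' :=
      Φ.toRingHom.comp (Algebra.TensorProduct.comm A D A').toRingEquiv.toRingHom
    refine ⟨Groth.L05.StrictGalois.finite_maximal_of_bijective (D := D) c
      (hΦ.comp (Algebra.TensorProduct.comm A D A').bijective), ?_, ?_⟩
    · exact Ideal.Quotient.mk_surjective.comp hΦ.2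
    · rw [← Groth.L05.StrictGalois.mem_map_jacobson_of_forall_maximal hD A']
      ext z
      show Ideal.Quotient.mk _ (Φ z) = 0 ↔ _
      rw [Ideal.Quotient.eq_zero_iff_mem]
      exact Groth.L05.StrictGalois.mem_jacobson_iff_of_bijective Φ.toRingHom hΦ z
  · rintro ⟨-, hsurj, -⟩
    open Groth.L05.StrictGalois in
    obtain ⟨E, _, hDE, hloc, hE, -⟩ := exists_le_of_fg hmin D hfg
    haveI := hloc
    open Groth.L05.StrictGalois in
    haveI := flat_of_essEt hE
    open Groth.L05.StrictGalois IsLocalRing in
    haveI : IsLocalHom (algebraMap A E) := ⟨fun a ha => by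
      have := ha.map (algebraMap E S)
      rw [← IsScalarTower.algebraMap_apply] at this
      exact IsLocalHom.map_nonunit (f := algebraMap A S) a this⟩
    obtain ⟨j, hj, hje⟩ := Groth.L05.StrictGalois.exists_fracEmb hmin E
    letI := Groth.L05.StrictGalois.fracAlgebra A E
    haveI := Groth.L05.StrictGalois.fracTower A E
    let DE : Subalgebra A E := D.comap E.val
    let v : DE →+* D :=
      { toFun := fun z => ⟨((z : E) : S), z.2⟩
        map_one' := rfl
        map_mul' := fun _ _ => rfl
        map_zero' := rfl
        map_add' := fun _ _ => rfl }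
    have hv : Function.Bijective v :=
      ⟨fun x y h => Subtype.ext (Subtype.ext (congrArg (fun w : D => (w : S)) h)),
        fun d => ⟨⟨⟨d, hDE d.2⟩, d.2⟩, rfl⟩⟩
    haveI : IsLocalRing DE := (RingEquiv.ofBijective v hv).symm.isLocalRing
    haveI : IsLocalHom (algebraMap DE E) := ⟨fun z hz => by
      obtain ⟨w, hw⟩ := IsLocalHom.map_nonunit (f := algebraMap D S) (v z) (hz.map E.val)
      exact (isUnit_map_iff (RingEquiv.ofBijective v hv) z).1 ⟨w, hw⟩⟩
    have hcomm : (algebraMap D (FractionRing S)).comp v = j.toRingHom.comp (algebraMap DE (FractionRing E)) :=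
      RingHom.ext fun z => (hje (z : E)).symm
    have hint : ∀ y : FractionRing E, IsIntegral DE y ↔ IsIntegral D (j y) :=
      Groth.L05.StrictGalois.isIntegral_iff_of_semilinear v hv.2 j.toRingHom hj hcomm
    have hres : ∀ y : Groth.L05.StrictGalois.normSub DE,
        j ((y : Groth.L05.StrictGalois.locSub A E DE) : FractionRing E) ∈ D' := by
      intro y
      obtain ⟨a, ha, d, hd, had⟩ := (y : Groth.L05.StrictGalois.locSub A E DE).2
      refine (hD' _).2 ⟨(hint _).1 ((Groth.L05.StrictGalois.isIntegral_locSub_iff _).1 y.2), a, ha, (d : S), hd, ?_⟩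
      rw [← AlgHom.commutes j a, ← map_mul, had, hje]
    let res : Groth.L05.StrictGalois.normSub DE →+* D' :=
      { toFun := fun y => ⟨_, hres y⟩
        map_one' := Subtype.ext (map_one j)
        map_mul' := fun _ _ => Subtype.ext (map_mul j _ _)
        map_zero' := Subtype.ext (map_zero j)
        map_add' := fun _ _ => Subtype.ext (map_add j _ _) }
    have hresbij : Function.Bijective res := by
      refine ⟨fun x y h => Subtype.ext (Subtype.ext (hj (congrArg Subtype.val h))), fun x => ?_⟩
      obtain ⟨hxi, a, ha, d, hd, had⟩ := (hD' x).1 x.2
      have ha' : algebraMap A E a ∈ nonZeroDivisors E :=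
        Groth.L05.StrictGalois.algebraMapSubmonoid_le A E ⟨a, ha, rfl⟩
      let t : FractionRing E := IsLocalization.mk' (FractionRing E) (⟨d, hDE hd⟩ : E) ⟨_, ha'⟩
      have ht : algebraMap A (FractionRing E) a * t = algebraMap E (FractionRing E) ⟨d, hDE hd⟩ := by
        rw [IsScalarTower.algebraMap_apply A E (FractionRing E), mul_comm]
        exact IsLocalization.mk'_spec _ _ _
      have hjt : j t = (x : FractionRing S) := by
        have h1 := congrArg j ht
        rw [map_mul, AlgHom.commutes, hje] at h1
        have h1' : algebraMap A (FractionRing S) a * j t = algebraMap A (FractionRing S) a * x :=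
          h1.trans had.symm
        have hu : IsUnit (algebraMap A (FractionRing S) a) := by
          have := (IsLocalization.map_units (M := nonZeroDivisors A) (FractionRing A) ⟨a, ha⟩).map
            (j.comp (IsScalarTower.toAlgHom A (FractionRing A) (FractionRing E)))
          rwa [AlgHom.commutes] at this
        exact hu.mul_left_cancel h1'
      refine ⟨⟨⟨t, a, ha, _, hd, ht⟩, ?_⟩, Subtype.ext hjt⟩
      refine (Groth.L05.StrictGalois.isIntegral_locSub_iff _).2 ?_
      show IsIntegral DE t
      rw [hint, hjt]
      exact hxi
    have hA0 : ∀ a, Groth.L05.StrictGalois.normIncl A E a ∈ Groth.L05.StrictGalois.locSub A E DE := by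
      intro a
      obtain ⟨b, s, hbs⟩ := IsLocalization.exists_mk'_eq (nonZeroDivisors A) (a : FractionRing A)
      refine ⟨s, s.2, algebraMap A E b, DE.algebraMap_mem b, ?_⟩
      show _ * algebraMap (FractionRing A) (FractionRing E) (a : FractionRing A) = _
      rw [← hbs, IsScalarTower.algebraMap_apply A (FractionRing A) (FractionRing E), ← map_mul, mul_comm,
        IsLocalization.mk'_spec, ← IsScalarTower.algebraMap_apply, ← IsScalarTower.algebraMap_apply]
    have hW : ∀ z : A' ⊗[A] D, ∃ w ∈ Algebra.adjoin A (Set.range (Groth.L05.StrictGalois.normIncl A E) ∪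
        algebraMap E (FractionRing E) '' (DE : Set E)),
        j w = (Algebra.TensorProduct.productMap (Subalgebra.inclusion hle) ι z : FractionRing S) := by
      intro z
      induction z with
      | zero => exact ⟨0, zero_mem _, by simp⟩
      | tmul a d =>
        obtain ⟨hai, s, hs, b, hsb⟩ := (hA' a).1 a.2
        let k : FractionRing A := IsLocalization.mk' (FractionRing A) b ⟨s, hs⟩
        have hu : IsUnit (algebraMap A (FractionRing S) s) := by
          have := (IsLocalization.map_units (M := nonZeroDivisors A) (FractionRing A) ⟨s, hs⟩).map
            (j.comp (IsScalarTower.toAlgHom A (FractionRing A) (FractionRing E)))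
          rwa [AlgHom.commutes] at this
        have hjk : j (algebraMap (FractionRing A) (FractionRing E) k) = (a : FractionRing S) := by
          refine hu.mul_left_cancel ?_
          rw [hsb, ← AlgHom.commutes j s, ← map_mul, ← AlgHom.commutes j b,
            IsScalarTower.algebraMap_apply A (FractionRing A) (FractionRing E) s,
            IsScalarTower.algebraMap_apply A (FractionRing A) (FractionRing E) b, ← map_mul, mul_comm,
            IsLocalization.mk'_spec]
        haveI : Module.FaithfullyFlat A E := Module.FaithfullyFlat.of_flat_of_isLocalHom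
        have hk : IsIntegral A k := by
          refine (isIntegral_algHom_iff (j.comp (IsScalarTower.toAlgHom A (FractionRing A) (FractionRing E)))
            ?_).1 (by show IsIntegral A (j (algebraMap (FractionRing A) (FractionRing E) k)); rw [hjk]; exact hai)
          refine (injective_iff_map_eq_zero _).2 fun l hl => ?_
          obtain ⟨b', s', rfl⟩ := IsLocalization.exists_mk'_eq (nonZeroDivisors A) l
          have h1 : algebraMap A (FractionRing E) b' = 0 := by
            rw [IsScalarTower.algebraMap_apply A (FractionRing A) (FractionRing E),
              ← IsLocalization.mk'_spec (FractionRing A) b' s', map_mul,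
              show algebraMap (FractionRing A) (FractionRing E) (IsLocalization.mk' _ b' s') = 0 from
                hj (hl.trans (map_zero j).symm), zero_mul]
          rw [IsScalarTower.algebraMap_apply A E (FractionRing E)] at h1
          have h2 : b' = 0 := FaithfulSMul.algebraMap_injective A E
            ((IsFractionRing.injective E (FractionRing E) (h1.trans (map_zero _).symm)).trans (map_zero _).symm)
          rw [h2, IsLocalization.mk'_zero]
        refine ⟨Groth.L05.StrictGalois.normIncl A E ⟨k, hk⟩ *
          algebraMap E (FractionRing E) ⟨d, hDE d.2⟩,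
          mul_mem (Algebra.subset_adjoin (Or.inl ⟨_, rfl⟩))
            (Algebra.subset_adjoin (Or.inr ⟨_, d.2, rfl⟩)), ?_⟩
        rw [map_mul, hje, Algebra.TensorProduct.productMap_apply_tmul, Subalgebra.coe_mul, hι]
        exact congrArg (· * _) hjk
      | add x y hx hy =>
        obtain ⟨w, hw, hw'⟩ := hx
        obtain ⟨w', hw₂, hw₂'⟩ := hy
        exact ⟨w + w', add_mem hw hw₂, by rw [map_add, map_add, Subalgebra.coe_add, hw', hw₂']⟩
    haveI : Module.Flat DE E := by
      refine Groth.L05.StrictGalois.flat_of_normalization hmin hE DE (fun x => ?_) hA0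
      obtain ⟨z, hz⟩ := hsurj (Ideal.Quotient.mk _ (res x))
      obtain ⟨w, hw, hjw⟩ := hW z
      obtain ⟨y, hy⟩ := hresbij.2 (Algebra.TensorProduct.productMap (Subalgebra.inclusion hle) ι z)
      refine ⟨y, ?_, ?_⟩
      · have : ((y : Groth.L05.StrictGalois.locSub A E DE) : FractionRing E) = w :=
          hj ((congrArg Subtype.val hy).trans hjw.symm)
        rw [this]
        exact hw
      · have h1 : res x - res y ∈ Ideal.jacobson (⊥ : Ideal D') := by
          rw [hy]
          exact Ideal.Quotient.eq.1 hz.symm
        exact Groth.L05.StrictGalois.sub_mem_jacobson_normSub res hresbij x y h1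
    haveI : Module.FaithfullyFlat DE E := Module.FaithfullyFlat.of_flat_of_isLocalHom
    haveI : IsNoetherianRing E := Groth.L05.StrictGalois.isNoetherianRing_of_essEt hE
    haveI : IsNoetherianRing DE := Groth.L19.isNoetherianRing_of_faithfullyFlat DE E
    haveI : IsNoetherianRing D := isNoetherianRing_of_surjective DE D v hv.2
    open Groth.L05.StrictGalois IsLocalRing in
    have hm : Ideal.map (algebraMap A D) (maximalIdeal A) = maximalIdeal D := by
      haveI := formallyEtale_of_essEt hE
      haveI := essFiniteType_of_essEt hE
      have hmDE : Ideal.map (algebraMap A DE) (maximalIdeal A) = maximalIdeal DE := by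
        refine le_antisymm (Ideal.map_le_iff_le_comap.2 fun a ha => ?_) fun z hz => ?_
        · refine fun hu => ha ?_
          have := hu.map (algebraMap DE E)
          rw [← IsScalarTower.algebraMap_apply] at this
          exact IsLocalHom.map_nonunit (f := algebraMap A E) a this
        · rw [← Ideal.comap_map_eq_self_of_faithfullyFlat (B := E)
            (Ideal.map (algebraMap A DE) (maximalIdeal A)), Ideal.mem_comap, Ideal.map_map,
            ← IsScalarTower.algebraMap_eq, Algebra.FormallyUnramified.map_maximalIdeal]
          exact map_nonunit (algebraMap DE E) z hz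
      haveI : IsLocalHom v := ⟨fun z hz => (isUnit_map_iff (RingEquiv.ofBijective v hv) z).1 hz⟩
      rw [show algebraMap A D = v.comp (algebraMap A DE) from RingHom.ext fun a => rfl, ← Ideal.map_map,
        hmDE, ← Ideal.map_comap_of_surjective v hv.2 (maximalIdeal D),
        IsLocalRing.maximalIdeal_comap v]
    exact Groth.Agent.S16439.result A S hA D hfg hm

end Groth.Agent.S16450
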