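import Groth.Statements.S16452
import Mathlib.RingTheory.Etale.Basic
import Mathlib.RingTheory.Ideal.Quotient.Operations

set_option autoImplicit false
universe u
open CAlg

namespace Groth.Agent.S16452

/-- Let R → S be formally étale and J an ideal of S such that the composite R → S → S/J is surjective;
let I ⊆ R be its kernel, the preimage of J in R. Then the homomorphism of associated graded rings ⊕ₙ
Iⁿ/Iⁿ⁺¹ → ⊕ₙ Jⁿ/Jⁿ⁺¹ induced by R → S (which carries I into J) is bijective. -/
theorem result (R : Type u) [CommRing R] (S : Type u)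
    [CommRing S] [Algebra R S] [Algebra.FormallyEtale R S] (J : Ideal S)
    (hJ : Function.Surjective (algebraMap R (S ⧸ J))) :
    Function.Bijective (AssocGr.map (AssocGr.IsFiltHom.adic
      (Ideal.map_comap_le : (J.comap (algebraMap R S)).map (algebraMap R S) ≤ J))) := by
  classical
  set I := J.comap (algebraMap R S) with hI
  -- `R / I ^ n → S / J ^ n` is bijective
  have key : ∀ n : ℕ, (∀ a : R, algebraMap R S a ∈ J ^ n → a ∈ I ^ n) ∧ ∀ b : S, ∃ a : R, b - algebraMap R S a ∈ J ^ n := by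
    intro n
    let π : (R ⧸ I ^ n) →ₐ[R] S ⧸ J ^ n := Ideal.Quotient.liftₐ (I ^ n) ((Ideal.Quotient.mkₐ R (J ^ n)).comp (Algebra.ofId R S))
      (fun a ha => Ideal.Quotient.eq_zero_iff_mem.mpr (by
        have := Ideal.mem_map_of_mem (algebraMap R S) ha
        rw [Ideal.map_pow] at this
        exact Ideal.pow_right_mono Ideal.map_comap_le n this))
    rcases Nat.eq_zero_or_pos n with rfl | hn
    · simp
    let qR : (R ⧸ I ^ n) →ₐ[R] R ⧸ I := Ideal.Quotient.factorₐ R (Ideal.pow_le_self hn.ne')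
    have hqR : Function.Surjective qR := Ideal.Quotient.factor_surjective (Ideal.pow_le_self hn.ne')
    have hqRnil : IsNilpotent (RingHom.ker (qR : (R ⧸ I ^ n) →+* R ⧸ I)) := ⟨n, by
      have hle : RingHom.ker (qR : (R ⧸ I ^ n) →+* R ⧸ I) ≤ I.map (Ideal.Quotient.mk (I ^ n)) := fun x hx => by
        obtain ⟨x, rfl⟩ := Ideal.Quotient.mk_surjective x
        exact Ideal.mem_map_of_mem _ (Ideal.Quotient.eq_zero_iff_mem.mp hx)
      refine le_bot_iff.mp ((Ideal.pow_right_mono hle n).trans ?_)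
      rw [← Ideal.map_pow, Ideal.map_quotient_self]⟩
    let e : (R ⧸ I) →ₐ[R] S ⧸ J := Ideal.Quotient.liftₐ I ((Ideal.Quotient.mkₐ R J).comp (Algebra.ofId R S))
      (fun a ha => Ideal.Quotient.eq_zero_iff_mem.mpr ha)
    have he : Function.Bijective e := by
      refine ⟨?_, fun z => ?_⟩
      · refine (injective_iff_map_eq_zero e).mpr fun z hz => ?_
        obtain ⟨z, rfl⟩ := Ideal.Quotient.mk_surjective z
        exact Ideal.Quotient.eq_zero_iff_mem.mpr (show z ∈ I from (Ideal.Quotient.eq_zero_iff_mem (I := J) (a := algebraMap R S z)).mp hz)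
      · obtain ⟨a, ha⟩ := hJ z
        exact ⟨Ideal.Quotient.mk I a, ha⟩
    let u : S →ₐ[R] R ⧸ I := (AlgEquiv.ofBijective e he).symm.toAlgHom.comp (Ideal.Quotient.mkₐ R J)
    let l := Algebra.FormallySmooth.liftOfSurjective u qR hqR hqRnil
    have hl : ∀ z, e (qR (l z)) = Ideal.Quotient.mk J z := fun z => by
      rw [Algebra.FormallySmooth.liftOfSurjective_apply]
      exact (AlgEquiv.ofBijective e he).apply_symm_apply _
    let qS : (S ⧸ J ^ n) →+* S ⧸ J := Ideal.Quotient.factor (Ideal.pow_le_self hn.ne')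
    have hcomm : ∀ y, qS (π y) = e (qR y) := fun y => by
      obtain ⟨y, rfl⟩ := Ideal.Quotient.mk_surjective y
      rfl
    have hπl : π.comp l = Ideal.Quotient.mkₐ R (J ^ n) := by
      refine Algebra.FormallyUnramified.ext' qS ?_ _ _ fun z => ?_
      · refine ⟨n, le_bot_iff.mp ((Ideal.pow_right_mono (fun x hx => ?_) n).trans
          (le_of_eq (by rw [← Ideal.map_pow, Ideal.map_quotient_self] : J.map (Ideal.Quotient.mk (J ^ n)) ^ n = ⊥)))⟩
        obtain ⟨x, rfl⟩ := Ideal.Quotient.mk_surjective x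
        exact Ideal.mem_map_of_mem _ (Ideal.Quotient.eq_zero_iff_mem.mp hx)
      · rw [AlgHom.comp_apply, hcomm, hl]
        rfl
    have hlJ : ∀ z ∈ J ^ n, l z = 0 := by
      have hle : J.map (l : S →+* R ⧸ I ^ n) ≤ RingHom.ker (qR : (R ⧸ I ^ n) →+* R ⧸ I) := by
        rw [Ideal.map_le_iff_le_comap]
        intro z hz
        show qR (l z) = 0
        apply he.1
        rw [hl, map_zero]
        exact Ideal.Quotient.eq_zero_iff_mem.mpr hz
      intro z hz
      have h0 := Ideal.mem_map_of_mem (l : S →+* R ⧸ I ^ n) hz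
      rw [Ideal.map_pow] at h0
      have h1 := Ideal.pow_right_mono hle n h0
      have h2 : RingHom.ker (qR : (R ⧸ I ^ n) →+* R ⧸ I) ^ n ≤ ⊥ := by
        have hle : RingHom.ker (qR : (R ⧸ I ^ n) →+* R ⧸ I) ≤ I.map (Ideal.Quotient.mk (I ^ n)) := fun x hx => by
          obtain ⟨x, rfl⟩ := Ideal.Quotient.mk_surjective x
          exact Ideal.mem_map_of_mem _ (Ideal.Quotient.eq_zero_iff_mem.mp hx)
        refine (Ideal.pow_right_mono hle n).trans ?_
        rw [← Ideal.map_pow, Ideal.map_quotient_self]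
      exact (Submodule.mem_bot _).mp (h2 h1)
    refine ⟨fun a ha => ?_, fun b => ?_⟩
    · have := hlJ _ ha
      rw [AlgHom.commutes] at this
      exact Ideal.Quotient.eq_zero_iff_mem.mp this
    · obtain ⟨a, ha⟩ := Ideal.Quotient.mk_surjective (l b)
      refine ⟨a, Ideal.Quotient.eq.mp ?_⟩
      have := DFunLike.congr_fun hπl b
      rw [AlgHom.comp_apply, ← ha] at this
      exact this.symm
  refine ⟨?_, ?_⟩
  · rw [injective_iff_map_eq_zero]
    intro x hx
    obtain ⟨f, rfl⟩ := AssocGr.mkG_surjective _ x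
    rw [AssocGr.map_mkG, AssocGr.mkG_eq_zero_iff, AssocGr.mem_succIdeal_iff] at hx
    rw [AssocGr.mkG_eq_zero_iff, AssocGr.mem_succIdeal_iff]
    intro m
    refine (key (m + 1)).1 _ ?_
    have := hx m
    rwa [AssocGr.coe_reesMap, Polynomial.coeff_map] at this
  · intro x
    obtain ⟨g, rfl⟩ := AssocGr.mkG_surjective _ x
    rw [← AssocGr.sum_term _ g, map_sum]
    refine Subring.sum_mem (RingHom.range _) fun n _ => ?_
    obtain ⟨a, ha⟩ := (key (n + 1)).2 ((g : Polynomial S).coeff n)
    have haI : a ∈ I ^ n := (key n).1 a (by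
      have : (g : Polynomial S).coeff n ∈ J ^ n := g.2 n
      simpa using sub_mem this (Ideal.pow_le_pow_right n.le_succ ha))
    refine ⟨AssocGr.inDeg (FiltBl.IdealFiltration.adic I) n ⟨a, haI⟩, ?_⟩
    rw [AssocGr.map_inDeg, AssocGr.mkG_term, ← sub_eq_zero, ← Submodule.coe_sub, Submodule.coe_eq_zero, ← map_sub, AssocGr.inDeg_eq_zero_iff]
    rw [Submodule.coe_sub]
    show _ - _ ∈ J ^ (n + 1)
    simpa using neg_mem ha

end Groth.Agent.S16452
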