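import Groth.Statements.S16454
import Groth.Agent.L27.AlgebraMisc

set_option autoImplicit false
set_option linter.style.haveILetI false
universe u
open TensorProduct
open EGA43

namespace Groth.Agent.S16454

/-- Let A be a commutative ring, I a nilpotent ideal of A and M an A-module, and form the associated
graded ring G = ⊕ₙ Iⁿ/Iⁿ⁺¹ and the associated graded G-module gr_I(M) = ⊕ₙ IⁿM/Iⁿ⁺¹M. Assume that
M/IM is flat over A/I and that the canonical homomorphism (M/IM) ⊗ G → gr_I(M), [x] ⊗ [a] ↦ [a·x],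
is injective: degree by degree, whenever elements a_i ∈ Iⁿ and x_i ∈ M satisfy Σ_i [a_i]·[x_i] = 0
in gr_I(M) (that is Σ a_i x_i ∈ Iⁿ⁺¹M), the element Σ_i [a_i] ⊗ [x_i] of (Iⁿ/Iⁿ⁺¹) ⊗ (M/IM) is zero.
Then M is a flat A-module. (The published lemma is stated for any finite decreasing multiplicative
filtration A = J₀ ⊇ J₁ ⊇ … ⊇ J_N₊₁ = 0 of A with M filtered by the submodules JₙM; this row is its
case Jₙ = Iⁿ.) -/
theorem result (A : Type u) [CommRing A] (I : Ideal A)
    (hI : IsNilpotent I) (M : Type u) [AddCommGroup M] [Module A M]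
    (hflat : Module.Flat (A ⧸ I) (M ⧸ (I • (⊤ : Submodule A M))))
    (hinj : ∀ (n k : ℕ) (a : Fin k → ↥((FiltBl.IdealFiltration.adic I).F n))
      (x : Fin k → ↥((Rees.powFilt I M).N 0)),
      (∑ i, (AssocGr.inDeg (FiltBl.IdealFiltration.adic I) n (a i) :
          AssocGr.GrRing (FiltBl.IdealFiltration.adic I)) •
        (AssocGr.inDegM (Rees.powFilt I M) 0 (x i) : AssocGr.GrMod (Rees.powFilt I M))) = 0 →
      (∑ i, (AssocGr.inDeg (FiltBl.IdealFiltration.adic I) n (a i)) ⊗ₜ[A]
          (Submodule.Quotient.mk (x i : M)) :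
        ↥(AssocGr.gr (FiltBl.IdealFiltration.adic I) n) ⊗[A] (M ⧸ (I • (⊤ : Submodule A M)))) = 0) :
    Module.Flat A M := by
  obtain ⟨N, hN⟩ := hI
  haveI : Module.Flat (A ⧸ I) ((A ⧸ I) ⊗[A] M) :=
    haveI := hflat
    Module.Flat.of_linearEquiv
      ((TensorProduct.quotTensorEquivQuotSMul M I).extendScalarsOfSurjective Ideal.Quotient.mk_surjective)
  refine (Groth.L27.AlgebraMisc.flat_iff_of_nilpotent A I M ⟨N, hN⟩).mpr ⟨inferInstance, ?_⟩
  let 𝓕 := FiltBl.IdealFiltration.adic I
  have key : ∀ j n, N ≤ n + j → ∀ z : ↥(𝓕.F n) ⊗[A] M,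
      (Submodule.subtype (𝓕.F n)).rTensor M z = 0 → z = 0 := by
    intro j
    induction j with
    | zero =>
      intro n hn z _
      haveI : Subsingleton ↥(𝓕.F n) := Submodule.subsingleton_iff_eq_bot.mpr
        (le_bot_iff.mp ((Ideal.pow_le_pow_right (by simpa using hn)).trans (le_of_eq hN)))
      exact Subsingleton.elim _ _
    | succ j ih =>
      intro n hn z hz
      obtain ⟨k, a, m, hs⟩ := TensorProduct.exists_sum_tmul_eq z
      let x : Fin k → ↥((Rees.powFilt I M).N 0) := fun i => ⟨m i, by simp⟩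
      have hsum : ∑ i, ((a i : A) • (x i : M)) = 0 := by
        have h1 := congrArg (TensorProduct.lid A M) hz
        rw [hs, map_sum, map_sum, map_zero] at h1
        simpa [x] using h1
      have h0 : (∑ i, (AssocGr.inDeg 𝓕 n (a i) : AssocGr.GrRing 𝓕) •
          (AssocGr.inDegM (Rees.powFilt I M) 0 (x i) : AssocGr.GrMod (Rees.powFilt I M))) = 0 := by
        simp only [𝓕, AssocGr.inDeg_smul_inDegM, ← AddSubmonoidClass.coe_finsetSum, ← map_sum]
        rw [show (∑ i, (⟨(a i : A) • (x i : M), _⟩ : ↥((Rees.powFilt I M).N (n + 0)))) = 0 from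
          Subtype.ext ((AddSubmonoidClass.coe_finsetSum _ _).trans hsum), map_zero, ZeroMemClass.coe_zero]
      have h1 := hinj n k a x h0
      -- back to the graded piece
      let S : Submodule A M := I • ⊤
      have hg : (AssocGr.inDeg 𝓕 n).rTensor M z = 0 := by
        have hS : Function.Injective (S.mkQ.lTensor ↥(AssocGr.gr 𝓕 n)) := by
          rw [injective_iff_map_eq_zero]
          intro w hw
          obtain ⟨v, rfl⟩ := (lTensor_exact ↥(AssocGr.gr 𝓕 n) (LinearMap.exact_subtype_mkQ S) S.mkQ_surjective w).mp hw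
          clear hw
          induction v using TensorProduct.induction_on with
          | zero => simp
          | add u v hu hv => rw [map_add, hu, hv, add_zero]
          | tmul g m =>
            rw [LinearMap.lTensor_tmul]
            refine Submodule.smul_induction_on (p := fun v => g ⊗ₜ[A] v = 0) m.2 (fun r hr v _ => ?_)
              (fun u v hu hv => by rw [TensorProduct.tmul_add, hu, hv, add_zero])
            obtain ⟨b, rfl⟩ := AssocGr.inDeg_surjective 𝓕 n g
            rw [TensorProduct.tmul_smul, TensorProduct.smul_tmul', ← map_smul,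
              (AssocGr.inDeg_eq_zero_iff 𝓕 n _).mpr ?_, TensorProduct.zero_tmul]
            show r * (b : A) ∈ I ^ (n + 1)
            rw [pow_succ']
            exact Ideal.mul_mem_mul hr b.2
        apply hS
        rw [map_zero, ← h1, hs, map_sum, map_sum]
        rfl
      -- lifting to the next power
      let ι : ↥(𝓕.F (n + 1)) →ₗ[A] ↥(𝓕.F n) := Submodule.inclusion (Ideal.pow_le_pow_right n.le_succ)
      have hex : Function.Exact ι (AssocGr.inDeg 𝓕 n) := fun y =>
        (AssocGr.inDeg_eq_zero_iff 𝓕 n y).trans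
          ⟨fun h => ⟨⟨y, h⟩, Subtype.ext rfl⟩, fun ⟨w, hw⟩ => hw ▸ w.2⟩
      obtain ⟨w, rfl⟩ := (rTensor_exact M hex (AssocGr.inDeg_surjective 𝓕 n) z).mp hg
      rw [ih (n + 1) (by omega) w (by
        rw [← hz, ← LinearMap.comp_apply, ← LinearMap.rTensor_comp]; rfl), map_zero]
  rw [injective_iff_map_eq_zero]
  intro z hz
  let e : ↥(𝓕.F 1) ≃ₗ[A] ↥I := LinearEquiv.ofEq _ _ (pow_one I)
  obtain ⟨w, rfl⟩ := (e.rTensor M).surjective z
  rw [key N 1 (Nat.le_add_left N 1) w (by
    rw [← hz]
    show _ = I.subtype.rTensor M (e.toLinearMap.rTensor M w)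
    rw [← LinearMap.comp_apply, ← LinearMap.rTensor_comp]; rfl), map_zero]

end Groth.Agent.S16454
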