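import Groth.Statements.S16455
import Groth.Prelude.Def_EGA4b
import Groth.Prelude.Def_AssocGrMod
import Mathlib.RingTheory.Flat.Basic
import Mathlib.Algebra.DirectSum.Module

set_option autoImplicit false
universe u
open EGA4

namespace Groth.Agent.S16455

variable {_unused : Unit}

open EGA4 in

/-- For a commutative ring A, an ideal I of A and an A-module M, the following are equivalent: every
quotient IⁿM/Iⁿ⁺¹M (n ≥ 0) is a flat A/I-module; the associated graded module gr_I(M) = ⊕ₙ
IⁿM/Iⁿ⁺¹M, as one module over A/I, is flat. Either condition says that M is normally flat along I.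
(The source defines normal flatness for a coherent module on a locally Noetherian scheme through the
second condition and notes it amounts to the first; the equivalence holds for every ring and
module.) -/
theorem result (A : Type u) [CommRing A] (I : Ideal A) (M : Type u)
    [AddCommGroup M] [Module A M] :
    EGA4.IsNormallyFlat I M ↔ Module.Flat (A ⧸ I) (AssocGr.GrMod (Rees.powFilt I M)) := by
  classical
  open AssocGr in
  let F := Rees.powFilt I M
  let Q : ℕ → Type u := fun n => ↥(I ^ n • (⊤ : Submodule A M)) ⧸ (I • (⊤ : Submodule A ↥(I ^ n • (⊤ : Submodule A M))))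
  have hk : ∀ (n : ℕ) (x : ↥(I ^ n • (⊤ : Submodule A M))),
      x ∈ (I • (⊤ : Submodule A ↥(I ^ n • (⊤ : Submodule A M)))) ↔ (x : M) ∈ I ^ (n + 1) • (⊤ : Submodule A M) := by
    intro n x
    have h : (I • (⊤ : Submodule A ↥(I ^ n • (⊤ : Submodule A M)))).map (Submodule.subtype _) = I ^ (n + 1) • (⊤ : Submodule A M) := by
      rw [Submodule.map_smul'', Submodule.map_subtype_top, pow_succ', Submodule.mul_smul]
    rw [← h]
    exact ⟨fun hx => ⟨x, hx, rfl⟩, fun ⟨y, hy, e⟩ => Subtype.ext e ▸ hy⟩
  let ι : ∀ n, ↥(I ^ n • (⊤ : Submodule A M)) →ₗ[A] AssocGr.GrMod F := fun n =>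
    { toFun := fun x => (AssocGr.inDegM F n x : AssocGr.GrMod F)
      map_add' := fun x y => congrArg Subtype.val (map_add (AssocGr.inDegM F n) x y)
      map_smul' := fun a x => AssocGr.coe_inDegM_smul F n a x }
  let φ : ∀ n, Q n →ₗ[A] AssocGr.GrMod F := fun n => Submodule.liftQ _ (ι n) fun x hx => by
    show ((AssocGr.inDegM F n x : AssocGr.GrMod F)) = 0
    rw [ZeroMemClass.coe_eq_zero]
    exact (AssocGr.inDegM_eq_zero_iff F n x).mpr ((hk n x).mp hx)
  let L : (DirectSum ℕ Q) →ₗ[A] AssocGr.GrMod F := DirectSum.toModule A ℕ _ φ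
  have hinj : Function.Injective L := by
    rw [injective_iff_map_eq_zero]
    intro z hz
    have hy : ∀ n, ∃ y : ↥(I ^ n • (⊤ : Submodule A M)), Submodule.Quotient.mk y = z n := fun n => Submodule.Quotient.mk_surjective _ _
    choose y hy using hy
    have hL : L z = AssocGr.mkGM F (∑ n ∈ DFinsupp.support z, AssocGr.monomM F n (y n)) := by
      conv_lhs => rw [← DirectSum.sum_support_of z]
      rw [map_sum, map_sum]
      refine Finset.sum_congr rfl fun n _ => ?_
      rw [← hy n]
      exact DirectSum.toModule_lof (M := Q) A n (Submodule.Quotient.mk (y n))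
    rw [hz] at hL
    have hmem := (AssocGr.mem_succMod_iff F _).mp ((AssocGr.mkGM_eq_zero_iff F _).mp hL.symm)
    refine DFinsupp.ext fun m => ?_
    by_cases hm : m ∈ DFinsupp.support z
    · have h := hmem m
      rw [← AssocGr.ReesM.coeffHom_apply, map_sum] at h
      simp only [AssocGr.ReesM.coeffHom_apply, AssocGr.ReesM.coeff_monomM] at h
      rw [Finset.sum_eq_single m (fun n _ hn => if_neg hn) (fun h' => absurd hm h'), if_pos rfl] at h
      rw [← hy m]
      exact (Submodule.Quotient.mk_eq_zero _).mpr ((hk m (y m)).mpr h)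
    · exact DFinsupp.notMem_support_iff.mp hm
  have hsurj : Function.Surjective L := by
    intro w
    obtain ⟨y, rfl⟩ := AssocGr.mkGM_surjective F w
    let s := ((AssocGr.toReesM F).symm y : PolynomialModule A M).coeff.support
    refine ⟨∑ n ∈ s, DirectSum.lof A ℕ Q n (Submodule.Quotient.mk ⟨AssocGr.ReesM.coeff F y n, AssocGr.ReesM.coeff_mem F y n⟩), ?_⟩
    conv_rhs => rw [← AssocGr.sum_termM F y]
    rw [map_sum, map_sum]
    exact Finset.sum_congr rfl fun n _ => DirectSum.toModule_lof (M := Q) A n _
  let e : (DirectSum ℕ Q) ≃ₗ[A ⧸ I] AssocGr.GrMod F :=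
    LinearEquiv.ofBijective
      { toFun := L
        map_add' := map_add L
        map_smul' := fun r z => by
          obtain ⟨a, rfl⟩ := Ideal.Quotient.mk_surjective r
          rw [RingHom.id_apply]
          have h1 : Ideal.Quotient.mk I a • z = a • z := algebraMap_smul (A ⧸ I) a z
          rw [h1, map_smul]
          exact (algebraMap_smul (A ⧸ I) a (L z)).symm } ⟨hinj, hsurj⟩
  constructor
  · intro h
    haveI : ∀ n, Module.Flat (A ⧸ I) (Q n) := h
    exact Module.Flat.of_linearEquiv e.symm
  · intro h n
    haveI : Module.Flat (A ⧸ I) (DirectSum ℕ Q) := Module.Flat.of_linearEquiv e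
    exact Module.Flat.of_retract (DirectSum.lof (A ⧸ I) ℕ Q n) (DirectSum.component (A ⧸ I) ℕ Q n)
      (LinearMap.ext fun x => DirectSum.component.lof_self (M := Q) (A ⧸ I) n x)

end Groth.Agent.S16455
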