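import Groth.Statements.S16456
import Groth.Agent.L05.AdicGr.Ring

set_option autoImplicit false
universe u
open AdicGr

namespace Groth.Agent.S16456

/-- Let φ : A → B be a ring homomorphism, I ⊆ A and J ⊆ B ideals with φ(I)B ⊆ J, so that φ is a
homomorphism of filtered rings for the I-adic and J-adic filtrations. Assume that A is I-adically
complete in the sense that every I-adically Cauchy sequence has a limit, that B is J-adically
separated, and that the induced homomorphism of associated graded rings ⊕ₙ Iⁿ/Iⁿ⁺¹ → ⊕ₙ Jⁿ/Jⁿ⁺¹ is
surjective. Then φ is surjective, φ is strict (Jⁿ = φ(Iⁿ)B for all n, that is J = φ(I)B), and B is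
J-adically separated and complete. (The published statement is for a homomorphism of filtered
modules over a filtered ring, with arbitrary compatible filtrations; this row is its case of a ring
homomorphism with adic filtrations.) -/
theorem result (A : Type u) [CommRing A] (B : Type u)
    [CommRing B] (φ : A →+* B) (I : Ideal A) (J : Ideal B) (hIJ : I.map φ ≤ J)
    [IsPrecomplete I A] [IsHausdorff J B]
    (h : Function.Surjective (AssocGr.map (AssocGr.IsFiltHom.adic hIJ))) :
    Function.Surjective φ ∧ I.map φ = J ∧ IsAdicComplete J B := by
  exact Groth.L05.AdicGr.surjective_of_grMap_surjective hIJ fun n b hb =>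
    Groth.L05.AdicGr.exists_approx_of_map_surjective (AssocGr.IsFiltHom.adic hIJ) h n hb

end Groth.Agent.S16456
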