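import Groth.Statements.S16457
import Groth.Agent.L05.AdicGr.Basic

set_option autoImplicit false
universe u
open AdicGr

namespace Groth.Agent.S16457

/-- Let A be a commutative ring and I an ideal such that every I-adically Cauchy sequence in A has a
limit; let M be an A-module with an I-filtration M = N₀ ⊇ N₁ ⊇ N₂ ⊇ … (I·Nₙ ⊆ Nₙ₊₁) which is
separated, ⋂ₙ Nₙ = 0; and let x₁, …, x_k be finitely many elements of M with x_i ∈ N_{d_i}. If the
classes of the x_i in degrees d_i generate the associated graded module gr(M) = ⊕ₙ Nₙ/Nₙ₊₁ as a
module over the associated graded ring ⊕ₙ Iⁿ/Iⁿ⁺¹, then the x_i generate M. (The published statement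
allows any complete filtered ring and also concludes that M is complete; this row takes the I-adic
filtration on A and states the generation.) -/
theorem result (A : Type u) [CommRing A] (I : Ideal A)
    [IsPrecomplete I A] (M : Type u) [AddCommGroup M] [Module A M] (F : I.Filtration M)
    (h0 : F.N 0 = ⊤) (hsep : ⨅ n, F.N n = ⊥) {k : ℕ} (d : Fin k → ℕ) (x : (i : Fin k) → ↥(F.N (d i)))
    (hgen : Submodule.span (AssocGr.GrRing (FiltBl.IdealFiltration.adic I))
      (Set.range fun i => (AssocGr.inDegM F (d i) (x i) : AssocGr.GrMod F)) = ⊤) :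
    Submodule.span A (Set.range fun i => ((x i : ↥(F.N (d i))) : M)) = ⊤ := by
  have h := Groth.L05.AdicGr.closure_le_span (ι := Fin k) h0 hsep (d := d) (x := x) ⊤
    (fun _ => Submodule.mem_top) fun n m _ => hgen ▸ Submodule.mem_top
  simp only [top_sup_eq, iInf_const] at h
  exact top_unique h

end Groth.Agent.S16457
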