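import Groth.Statements.S16460
import Groth.Agent.L05.AdicGr.Ring

set_option autoImplicit false
universe u
open AdicGr

namespace Groth.Agent.S16460

/-- Let A be a commutative ring with a decreasing filtration by ideals A = F₀ ⊇ F₁ ⊇ F₂ ⊇ … satisfying
F_m·F_n ⊆ F_{m+n}, and assume the filtration is separated, ⋂ₙ Fₙ = 0. If the associated graded ring
⊕ₙ Fₙ/Fₙ₊₁ is an integral domain, then A is an integral domain. -/
theorem result (A : Type u) [CommRing A]
    (𝓕 : FiltBl.IdealFiltration A) (hsep : ⨅ n, 𝓕.F n = ⊥) [IsDomain (AssocGr.GrRing 𝓕)] :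
    IsDomain A := by
  exact Groth.L05.AdicGr.isDomain_of_isDomain_grRing 𝓕 hsep

end Groth.Agent.S16460
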