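import Groth.Statements.S16466
import Groth.Agent.L17.BC.FlatteningScheme
import Groth.Agent.L18.LocFreeFP
import Groth.Agent.L23.SchemeFacts
import Groth.Agent.L29.DCoh.PCQCoh
import Groth.Agent.L16.Existence.Vanishing

set_option autoImplicit false
universe u
open PicF

namespace Groth.Agent.S16466

open CategoryTheory AlgebraicGeometry AlgebraicGeometry.Scheme.Modules in
/-- Suppose f : X → S is a proper, flat morphism between Noetherian schemes, and L is an invertible
O_X-module. Then there is a locally closed subscheme Z of S (an immersion i : Z → S) with the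
following universal property: a morphism t : T → S factors through i if and only if, for a cartesian
square X_T = X ×_S T with projections f_T and g_T, the direct image (f_T)_*(g_T^* L) is an
invertible O_T-module whose formation commutes with every further base change T' → T (the
degree-zero base change morphism is an isomorphism for every cartesian square over T' → T). In
particular Z is unique and (f_Z)_*(L_Z) is invertible of formation compatible with base change.
(Characterising the factorisation by invertibility of the direct image alone is not correct: for a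
genus-two curve C over a field, p a point of C and S the spectrum of the local ring of C at the
hyperelliptic conjugate of p, the family C × S → S with L = O(p + q), q the tautological point, has
direct image free of rank one while the closed fibre has a two-dimensional space of sections, so S →
S does not factor through Z.) -/
theorem result {X S : Scheme.{u}} (f : X ⟶ S) [IsProper f] [Flat f]
    [IsNoetherian S] [IsNoetherian X] (L : X.Modules) (hL : PicF.IsInvertible L) :
    ∃ (Z : Scheme.{u}) (i : Z ⟶ S), IsImmersion i ∧
      ∀ (T : Scheme.{u}) (t : T ⟶ S) (XT : Scheme.{u}) (fT : XT ⟶ T) (gT : XT ⟶ X)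
        (hT : IsPullback gT fT f t),
        (∃ z : T ⟶ Z, z ≫ i = t) ↔
          (PicF.IsInvertible ((pushforward fT).obj ((pullback gT).obj L)) ∧
            ∀ (T' : Scheme.{u}) (u : T' ⟶ T) (XT' : Scheme.{u}) (fT' : XT' ⟶ T') (u' : XT' ⟶ XT)
              (hT' : IsPullback u' fT' fT u),
              IsIso (CohBC.bc0 fT u fT' u' hT'.w ((pullback gT).obj L))) := by
  haveI := Groth.L17.PushQCoh.hasInjectiveResolutions X
  have hfree : FlatMod.IsFinLocFree L := Groth.L16.Existence.isFinLocFree_of_isInvertible hL
  have hfp : CohB1.IsFP L := Groth.L18.LFP.isFP_of_isFinLocFree L hfree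
  haveI : Coh.IsQCoh L := Groth.L29.DC.PCQCoh.isQCoh_of_isFinLocFree hfree
  haveI : LocallyOfFinitePresentation f := Groth.L23.lfp_of_lft_locallyNoetherian f
  have hfl : FlatMod.IsFlatOver f L := fun x => by
    letI := (f.stalkMap x).hom.toAlgebra
    letI := FlatMod.moduleStalkOver f L x
    haveI : IsScalarTower (S.presheaf.stalk (f x)) (X.presheaf.stalk x) (L.presheaf.stalk x) :=
      IsScalarTower.of_algebraMap_smul fun _ _ => rfl
    haveI : Module.Flat (S.presheaf.stalk (f x)) (X.presheaf.stalk x) := Flat.stalkMap f x
    haveI : Module.Flat (X.presheaf.stalk x) (L.presheaf.stalk x) := Groth.L29.DC.isFlat_of_isFinLocFree hfree x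
    exact Module.Flat.trans (S.presheaf.stalk (f x)) (X.presheaf.stalk x) (L.presheaf.stalk x)
  obtain ⟨Z, i, hi, -, -, huniv, -⟩ := Groth.L17.BC.Classes.exists_bcFree_subscheme f L hfp hfl 1
  refine ⟨Z, i, hi, fun T t XT fT gT hT => (huniv T XT t fT gT hT).trans (and_congr ?_ ?_)⟩
  · let e : ∀ U : T.Opens, Coh.structureModule (U : Scheme.{u}) ≅ FlatMod.freeMod (U : Scheme.{u}) 1 := fun U =>
      { hom := Limits.Sigma.ι (fun _ : Fin 1 => Coh.structureModule (↑U)) 0
        inv := Limits.Sigma.desc fun _ => 𝟙 _
        hom_inv_id := Limits.Sigma.ι_desc _ _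
        inv_hom_id := Limits.Sigma.hom_ext _ _ fun b => by
          rw [Subsingleton.elim b 0, Limits.Sigma.ι_desc_assoc, Category.id_comp, Category.comp_id] }
    constructor
    · intro h y
      obtain ⟨U, hy, ⟨a⟩⟩ := h y
      exact ⟨U, hy, ⟨a ≪≫ (e U).symm⟩⟩
    · intro h y
      obtain ⟨U, hy, ⟨a⟩⟩ := h y
      exact ⟨U, hy, ⟨a ≪≫ e U⟩⟩
  · exact ⟨fun h T' u XT' fT' u' hT' => h u' fT' u hT', fun h X'' T' v' f'' u' hT' => h T' u' X'' f'' v' hT'⟩

end Groth.Agent.S16466
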