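import Groth.Statements.S16473
import Groth.Agent.L07.GaExt.AlphaExt

set_option autoImplicit false
universe u
open GaDual

namespace Groth.Agent.S16473

open CategoryTheory AlgebraicGeometry in
/-- Suppose R is a commutative ring of prime characteristic p on which the Frobenius map r ↦ r^p is
surjective, and fix a natural number n. Consider α_{p^n}, the R-group scheme Spec R[x]/(x^(p^n))
with x primitive, i.e. the kernel of the n-th power of Frobenius acting on the additive group. Then
Ext^1 of α_{p^n} by the multiplicative group is trivial, where the Ext is formed among
abelian-group-valued sheaves over the big fppf site of Spec R. -/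
theorem result (p : ℕ) [Fact p.Prime] (R : Type u)
    [CommRing R] [CharP R p] (hF : Function.Surjective (frobenius R p)) (n : ℕ) :
    Subsingleton (CGrpSh.ExtS Scheme.fppfPrecoverage
      ((Spec (CommRingCat.of (AlphaPn.A p n R))).asOver (Spec (CommRingCat.of R)))
      (Red.Gm (Spec (CommRingCat.of R))) 1) := by
  exact Groth.L07.GaExt.AlphaExt.subsingleton_ext_one_alpha hF

end Groth.Agent.S16473
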