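import Groth.Statements.S16474
import Groth.Agent.L08.GLn.Homog
import Mathlib.Analysis.Complex.Polynomial.Basic

set_option autoImplicit false
open LaurentPolynomial
open ComodTens

namespace Groth.Agent.S16474
open Groth.L08 Groth.L08.GLn TensorProduct

/-- Let r ≥ 1 and let V be a finite-dimensional rational representation of the general linear group GL_r
over the complex numbers (a finite-dimensional comodule over its coordinate Hopf algebra) which is
homogeneous of some integer degree h, i.e. restricted to the scalar one-parameter subgroup t ↦ t·1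
every vector of V has weight h. Then there are natural numbers a, b, c with c > 0 such that V is a
direct summand, as a representation, of ((ℂ^r)^(⊗a))^(⊕b) ⊗ det^(-c): there are equivariant linear
maps i : V → E and p : E → V with p ∘ i the identity, where E is the direct sum of b copies of the
a-th tensor power of the standard representation on ℂ^r, twisted by the (−c)-th power of the
determinant character. -/
theorem result (r : ℕ) (hr : 0 < r)
    (V : Type) [AddCommGroup V] [Module ℂ V] [Module.Finite ℂ V] (ρ : HopfRep.Comod ℂ (CoordGrp.GLn r ℂ) V)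
    (h : ℤ)
    (hh : @HopfRep.eigenspace ℂ ℂ[T;T⁻¹] _ _ _ V _ _
      (GLin.comodAlong (CoordGrp.GLn.diag r ℂ (fun _ => 1)) ρ) (T h) = ⊤) :
    ∃ (a b c : ℕ), 0 < c ∧
      ∃ (i : V →ₗ[ℂ] (Fin b → TensorPower ℂ a (Fin r → ℂ)))
        (p : (Fin b → TensorPower ℂ a (Fin r → ℂ)) →ₗ[ℂ] V),
        p ∘ₗ i = LinearMap.id ∧
        @Hoch.IsComodHom ℂ _ (CoordGrp.GLn r ℂ) _ _ _ V _ _ ρ (Fin b → TensorPower ℂ a (Fin r → ℂ)) _ _
          (ComodTens.Comod.twist
            (ComodTens.Comod.pi fun _ : Fin b =>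
              ComodTens.Comod.tpow (GLin.comodAlong (CoordGrp.Mat.toGLn r ℂ) (ComodTens.stdVec r ℂ)) a)
            (CoordGrp.GLn.Dinv ^ c) (IsGroupLikeElem.pow ⟨CoordGrp.GLn.counit_Dinv, CoordGrp.GLn.comul_Dinv⟩)) i ∧
        @Hoch.IsComodHom ℂ _ (CoordGrp.GLn r ℂ) _ _ _ (Fin b → TensorPower ℂ a (Fin r → ℂ)) _ _
          (ComodTens.Comod.twist
            (ComodTens.Comod.pi fun _ : Fin b =>
              ComodTens.Comod.tpow (GLin.comodAlong (CoordGrp.Mat.toGLn r ℂ) (ComodTens.stdVec r ℂ)) a)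
            (CoordGrp.GLn.Dinv ^ c) (IsGroupLikeElem.pow ⟨CoordGrp.GLn.counit_Dinv, CoordGrp.GLn.comul_Dinv⟩)) V _ _ ρ p := by
  classical
  letI := ρ
  have hLR : HopfRep.IsLinearlyReductive ℂ (CoordGrp.GLn r ℂ) := isLinearlyReductive_gl
  let bs := Module.finBasis ℂ V
  -- homogeneity of the coefficients
  have hw : ∀ (l : Fin (Module.finrank ℂ V)) (v : V),
      wHom ℂ r (cf (A := CoordGrp.GLn r ℂ) (bs.coord l) v)
        = cf (A := CoordGrp.GLn r ℂ) (bs.coord l) v ⊗ₜ[ℂ] (T h : ℂ[T;T⁻¹]) := by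
    intro l v
    have hv : v ∈ (⊤ : Submodule ℂ V) := trivial
    rw [← hh] at hv
    replace hv : TensorProduct.map LinearMap.id
        (CoordGrp.GLn.diag r ℂ (fun _ => 1) : CoordGrp.GLn r ℂ →ₗ[ℂ] ℂ[T;T⁻¹]) (ρ.coact v)
          = v ⊗ₜ[ℂ] (T h : ℂ[T;T⁻¹]) := hv
    have h1 : Coalgebra.comul (R := ℂ) (cf (A := CoordGrp.GLn r ℂ) (bs.coord l) v)
        = (cf (A := CoordGrp.GLn r ℂ) (bs.coord l)).rTensor _ (ρ.coact v) :=
      LinearMap.congr_fun (isComodHom_cf (A := CoordGrp.GLn r ℂ) (bs.coord l)) v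
    have h2 := congrArg (TensorProduct.map (cf (A := CoordGrp.GLn r ℂ) (bs.coord l))
      (LinearMap.id : ℂ[T;T⁻¹] →ₗ[ℂ] ℂ[T;T⁻¹])) hv
    rw [TensorProduct.map_tmul, LinearMap.id_apply] at h2
    rw [← h2, wHom, AlgHom.comp_apply, Bialgebra.comulAlgHom_apply, h1]
    induction ρ.coact v using TensorProduct.induction_on with
    | zero => simp
    | add x y hx hy => simp only [map_add, hx, hy]
    | tmul x y => simp
  -- a common power of the determinant
  choose m hm using fun p : Fin (Module.finrank ℂ V) × Fin (Module.finrank ℂ V) =>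
    exists_det_pow_mem (cf (A := CoordGrp.GLn r ℂ) (bs.coord p.1) (bs p.2))
  obtain ⟨c, hc0, hcm, hch⟩ : ∃ c : ℕ, 0 < c ∧ (∀ p, m p ≤ c) ∧ 0 ≤ h + r * c := by
    refine ⟨Finset.univ.sup m + h.natAbs + 1, by omega,
      fun p => le_trans (Finset.le_sup (Finset.mem_univ p)) (by omega), ?_⟩
    have : (1 : ℤ) ≤ r := by exact_mod_cast hr
    have h3 : ((Finset.univ.sup m + h.natAbs + 1 : ℕ) : ℤ)
        ≤ (r : ℤ) * ((Finset.univ.sup m + h.natAbs + 1 : ℕ) : ℤ) :=
      le_mul_of_one_le_left (Int.natCast_nonneg _) this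
    omega
  obtain ⟨a, ha⟩ := Int.eq_ofNat_of_zero_le hch
  let π := CoordGrp.Mat.toGLn r ℂ
  let g : CoordGrp.GLn r ℂ := CoordGrp.GLn.Dinv ^ c
  have hcspan : ∀ l (v : V), cf (A := CoordGrp.GLn r ℂ) (bs.coord l) v * CoordGrp.GLn.det ^ c
      ∈ TensorGen.cspan (Comod.tpow (stdB π) a) := by
    intro l v
    rw [← bs.sum_repr v, map_sum, Finset.sum_mul]
    refine sum_mem fun j _ => ?_
    rw [map_smul, smul_mul_assoc]
    exact Submodule.smul_mem _ _ (mul_det_pow_mem_cspan (hw l _) (hm (l, j) c (hcm _)) ha.symm)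
  let eN := Fintype.equivFin (Fin (Module.finrank ℂ V) × (Fin a → Fin r))
  refine ⟨a, Fintype.card (Fin (Module.finrank ℂ V) × (Fin a → Fin r)), c, hc0, ?_⟩
  let cP : HopfRep.Comod ℂ (CoordGrp.GLn r ℂ)
      (Fin (Fintype.card (Fin (Module.finrank ℂ V) × (Fin a → Fin r))) → TensorPower ℂ a (Fin r → ℂ)) :=
    Comod.pi fun _ => Comod.tpow (stdB π) a
  let Φ : Fin (Module.finrank ℂ V) → Module.Dual ℂ
      (Fin (Fintype.card (Fin (Module.finrank ℂ V) × (Fin a → Fin r))) → TensorPower ℂ a (Fin r → ℂ)) :=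
    fun l => ∑ J : Fin a → Fin r, (bT ℂ r a).coord J ∘ₗ LinearMap.proj (eN (l, J))
  letI cE := Comod.twist cP g gl_isGroupLike_Dinv.pow
  let Ψ := LinearMap.pi fun l => homToMod (isComodHom_mulRight_cf cP (g := g) gl_isGroupLike_Dinv.pow (Φ l))
  let ψ0 : V →ₗ[Dl ℂ (CoordGrp.GLn r ℂ)] Fin (Module.finrank ℂ V) → CoordGrp.GLn r ℂ :=
    LinearMap.pi fun l => homToMod (isComodHom_cf (A := CoordGrp.GLn r ℂ) (bs.coord l))
  have hψ0 : Function.Injective ψ0 := by
    intro x y hxy
    refine bs.ext_elem fun l => ?_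
    have h2 : Coalgebra.counit (R := ℂ) (cf (A := CoordGrp.GLn r ℂ) (bs.coord l) x)
        = Coalgebra.counit (R := ℂ) (cf (A := CoordGrp.GLn r ℂ) (bs.coord l) y) :=
      congrArg (fun z : Fin (Module.finrank ℂ V) → CoordGrp.GLn r ℂ =>
        Coalgebra.counit (R := ℂ) (z l)) hxy
    simpa only [apply_cf, fAct_counit, LinearMap.id_apply, Module.Basis.coord_apply] using h2
  have hrange : ∀ v, ψ0 v ∈ LinearMap.range Ψ := by
    intro v
    rw [← Finset.univ_sum_single (ψ0 v)]
    refine Submodule.sum_mem _ fun l _ => ?_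
    -- elements killed by the other coordinates
    have hsingle : ∀ J z, Ψ (Pi.single (eN (l, J)) z) = Pi.single l
        (TensorGen.cfx (Comod.tpow (stdB π) a) ((bT ℂ r a).coord J) z * g) := by
      intro J z
      funext l'
      change TensorProduct.lid ℂ _ ((Φ l').rTensor _ (cP.coact (Pi.single (eN (l, J)) z))) * g = _
      rw [pi_coact_single, ← LinearMap.rTensor_comp_apply]
      have hΦ : Φ l' ∘ₗ LinearMap.single ℂ _ (eN (l, J))
          = if l = l' then (bT ℂ r a).coord J else 0 := by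
        refine LinearMap.ext fun y => ?_
        simp only [Φ, LinearMap.comp_apply, LinearMap.sum_apply, LinearMap.proj_apply,
          LinearMap.coe_single]
        split_ifs with hl
        · subst hl
          rw [Finset.sum_eq_single J (fun J' _ hJ => by
            rw [Pi.single_eq_of_ne (eN.injective.ne (by simp [hJ])), map_zero]) (by simp),
            Pi.single_eq_same]
        · exact Finset.sum_eq_zero fun J' _ => by
            rw [Pi.single_eq_of_ne (eN.injective.ne (by simp [Ne.symm hl])), map_zero]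
      rw [hΦ]
      split_ifs with hl
      · subst hl; rw [Pi.single_eq_same]; rfl
      · rw [Pi.single_eq_of_ne (Ne.symm hl), LinearMap.rTensor_zero]; simp
    have hle : TensorGen.cspan (Comod.tpow (stdB π) a) ≤
        ((LinearMap.range Ψ).restrictScalars ℂ).comap
          (LinearMap.single ℂ (fun _ : Fin (Module.finrank ℂ V) => CoordGrp.GLn r ℂ) l ∘ₗ
            LinearMap.mulRight ℂ g) := by
      refine iSup_le fun f => ?_
      rintro _ ⟨z, rfl⟩
      let L : Module.Dual ℂ (TensorPower ℂ a (Fin r → ℂ)) →ₗ[ℂ] CoordGrp.GLn r ℂ :=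
        { toFun := fun f => TensorGen.cfx (Comod.tpow (stdB π) a) f z
          map_add' := fun f f' => by
            letI := Comod.tpow (stdB π) a
            exact LinearMap.congr_fun (cf_add f f') z
          map_smul' := fun t f => by
            letI := Comod.tpow (stdB π) a
            exact LinearMap.congr_fun (cf_smul t f) z }
      change L f ∈ _
      rw [← (bT ℂ r a).sum_dual_apply_smul_coord f, map_sum]
      refine Submodule.sum_mem _ fun J _ => ?_
      rw [map_smul]
      exact Submodule.smul_mem _ _ ⟨Pi.single (eN (l, J)) z, hsingle J z⟩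
    have := hle (hcspan l v)
    simp only [Submodule.mem_comap, LinearMap.comp_apply, LinearMap.mulRight_apply, g, mul_assoc,
      ← mul_pow, CoordGrp.GLn.det_mul_Dinv, one_pow, mul_one, LinearMap.coe_single] at this
    exact this
  haveI hss : IsSemisimpleModule (Dl ℂ (CoordGrp.GLn r ℂ))
      (Fin (Fintype.card (Fin (Module.finrank ℂ V) × (Fin a → Fin r))) → TensorPower ℂ a (Fin r → ℂ)) := by
    haveI : Module.Finite ℂ (TensorPower ℂ a (Fin r → ℂ)) := Module.Finite.of_basis (bT ℂ r a)
    exact isSemisimpleComod_iff.1 (hLR _ inferInstance)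
  obtain ⟨i, hi⟩ := IsSemisimpleModule.lifting_property Ψ.rangeRestrict Ψ.surjective_rangeRestrict
    (ψ0.codRestrict (LinearMap.range Ψ) hrange)
  have hi' : ∀ v, Ψ (i v) = ψ0 v := fun v => congrArg Subtype.val (LinearMap.congr_fun hi v)
  have hinj : Function.Injective i := fun x y hxy => hψ0 (by rw [← hi', ← hi', hxy])
  obtain ⟨p, hp⟩ := IsSemisimpleModule.extension_property i hinj LinearMap.id
  refine ⟨i.restrictScalars ℂ, p.restrictScalars ℂ, ?_, isComodHom_restrictScalars i,
    isComodHom_restrictScalars p⟩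
  exact LinearMap.ext fun v => LinearMap.congr_fun hp v

end Groth.Agent.S16474
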