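import Groth.Statements.S16478
import Groth.Prelude.Def_AlphaPn
import Groth.Prelude.Def_SekSuwa
import Mathlib.Data.Nat.Choose.Sum

set_option autoImplicit false
universe u
open GaDual

namespace Groth.Agent.S16478

/-- Let A be a commutative ring of prime characteristic p and n ≥ 1, and let φ be the comorphism of the
closed immersion α_{p^n} → G_a over A: the bialgebra map from the Hopf algebra of the additive group
(generator t primitive) to A[x]/(x^(p^n)) (x primitive) sending t to x. Then the restriction map on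
characters, from those of the additive group over A to those of α_{p^n} over A, is surjective: every
group-like element of A[x]/(x^(p^n)) is the image under φ of a group-like element of the Hopf
algebra of the additive group. -/
theorem result (p : ℕ) [Fact p.Prime] (A : Type u) [CommRing A] [CharP A p]
    (n : ℕ) (hn : 1 ≤ n) (φ : SekSuwa.A A 0 →ₐc[A] AlphaPn.A p n A) (hφ : φ SekSuwa.A.t = AlphaPn.x p n A)
    (u : AlphaPn.A p n A) (hu : IsGroupLikeElem A u) :
    ∃ g : SekSuwa.A A 0, IsGroupLikeElem A g ∧ φ g = u := by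
  haveI : Nontrivial A := CharP.nontrivial_of_char_ne_one (Fact.out : p.Prime).ne_one
  let b := AlphaPn.basis p n A
  let σ : AlphaPn.A p n A →ₗ[A] SekSuwa.A A 0 := b.constr A fun i => SekSuwa.A.t ^ (i : ℕ)
  have hσb : ∀ i, σ (b i) = SekSuwa.A.t ^ (i : ℕ) := fun i => b.constr_basis A _ i
  have hφσ : ∀ w, φ (σ w) = w := by
    intro w
    have : φ.toLinearMap ∘ₗ σ = LinearMap.id := b.ext fun i => by
      change φ (σ (b i)) = b i
      rw [hσb, map_pow, hφ, AlphaPn.basis_apply]
    exact congr($this w)
  let S := TensorProduct.map σ σ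
  let Φ := TensorProduct.map φ.toLinearMap φ.toLinearMap
  have hΦS : ∀ w, Φ (S w) = w := by
    intro w
    induction w with
    | zero => simp
    | tmul x y => exact congrArg₂ (· ⊗ₜ[A] ·) (hφσ x) (hφσ y)
    | add x y hx hy => rw [map_add, map_add, hx, hy]
  have hrange : ∀ w, CoalgebraStruct.comul (R := A) (σ w) ∈ LinearMap.range S := by
    intro w
    rw [← b.sum_repr w, map_sum, map_sum]
    refine Submodule.sum_mem _ fun i _ => ?_
    rw [map_smul, map_smul, hσb]
    refine Submodule.smul_mem _ _ ?_
    rw [Bialgebra.comul_pow, SekSuwa.A.comul_t, zero_smul, add_zero, add_pow]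
    refine Submodule.sum_mem _ fun m hm => ?_
    have hm' : m ≤ i := Nat.lt_succ_iff.1 (Finset.mem_range.1 hm)
    rw [← nsmul_eq_mul', Algebra.TensorProduct.tmul_pow, Algebra.TensorProduct.tmul_pow, one_pow, one_pow,
      Algebra.TensorProduct.tmul_mul_tmul, mul_one, one_mul]
    refine Submodule.smul_of_tower_mem _ _ ⟨b ⟨m, lt_of_le_of_lt hm' i.isLt⟩ ⊗ₜ b ⟨i - m, lt_of_le_of_lt (Nat.sub_le _ _) i.isLt⟩, ?_⟩
    simp only [S, TensorProduct.map_tmul, hσb]
  refine ⟨σ u, ⟨?_, ?_⟩, hφσ u⟩
  · have h := CoalgHomClass.counit_comp_apply φ (σ u)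
    rw [hφσ, hu.counit_eq_one] at h
    exact h.symm
  · obtain ⟨w, hw⟩ := hrange u
    have h := CoalgHomClass.map_comp_comul_apply φ (σ u)
    rw [hφσ, hu.comul_eq_tmul_self, ← hw] at h
    rw [← hw, show w = u ⊗ₜ[A] u from (hΦS w).symm.trans h]
    rfl

end Groth.Agent.S16478
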