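import Groth.Statements.S16492
import Groth.Agent.L21.Weil.Line
import Groth.Agent.L21.Weil.Slope
import Groth.Agent.L21.Bundle.Stable
import Groth.Agent.L21.Smooth.Scheme
import Groth.Agent.L21.RR.Coh

set_option autoImplicit false
set_option backward.isDefEq.respectTransparency false
universe u
open CategoryTheory CategoryTheory.Limits AlgebraicGeometry
open VBCurve

namespace Groth.Agent.S16492

/-- Let X be a smooth proper integral curve (integral, smooth and proper of dimension one) over an
algebraically closed field k, and E a finite locally free O_X-module of rank r. Say that a module M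
is finite in the sense of Weil when there are distinct polynomials P ≠ Q with natural-number
coefficients and an isomorphism P(M) ≅ Q(M), where P(M) is the direct sum over i of P_i copies of
the i-th tensor power of M (the 0-th power being O_X). Then E is finite in this sense if and only if
its dual E^* = 𝓗om_{O_X}(E, O_X) is. -/
theorem result (k : Type u) [Field k] [IsAlgClosed k] (X : Scheme.{u}) [X.Over (Spec (CommRingCat.of k))]
    [IsIntegral X] [IsProper (X ↘ Spec (CommRingCat.of k))] [Smooth (X ↘ Spec (CommRingCat.of k))]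
    (hdim : topologicalKrullDim X = 1)
    (r : ℕ) (E : X.Modules) (hE : FlatMod.IsFinLocFreeOfRank r E) :
    (∃ P Q : Polynomial ℕ, P ≠ Q ∧ Nonempty ((∐ fun i : Fin (P.natDegree + 1) => ∐ fun _ : Fin (P.coeff ↑i) => CohB1.tensorPow E ↑i) ≅
        (∐ fun i : Fin (Q.natDegree + 1) => ∐ fun _ : Fin (Q.coeff ↑i) => CohB1.tensorPow E ↑i))) ↔
      (∃ P Q : Polynomial ℕ, P ≠ Q ∧ Nonempty ((∐ fun i : Fin (P.natDegree + 1) => ∐ fun _ : Fin (P.coeff ↑i) => CohB1.tensorPow (RefHull.dual E) ↑i) ≅
        (∐ fun i : Fin (Q.natDegree + 1) => ∐ fun _ : Fin (Q.coeff ↑i) => CohB1.tensorPow (RefHull.dual E) ↑i))) := by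
  haveI := Groth.L21.RR.isNoetherian_of_proper (X := X) k
  have hreg := Groth.L21.Smooth.regular_stalk (k := k) (X ↘ Spec (CommRingCat.of k))
  have hD := Groth.L21.Weil.isFinLocFreeOfRank_D hE
  have e := Groth.L21.Weil.refDualIso E
  have hR : Groth.L21.Weil.IsBundle (RefHull.dual E) := Groth.L21.Weil.IsBundle.of_iso e.symm ⟨r, hD⟩
  constructor
  · rintro ⟨P, Q, hPQ, hiso⟩
    exact Groth.L21.Weil.relation_of_allPow k hreg hdim.le hR
      (((Groth.L21.Weil.closed_of_relation k hreg hdim.le ⟨r, hE⟩ hPQ hiso).dual ⟨r, hE⟩).of_iso e.symm).allPow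
  · rintro ⟨P, Q, hPQ, hiso⟩
    exact Groth.L21.Weil.relation_of_allPow k hreg hdim.le ⟨r, hE⟩
      ((((Groth.L21.Weil.closed_of_relation k hreg hdim.le hR hPQ hiso).of_iso e).dual ⟨r, hD⟩).of_iso
        (Groth.L21.Weil.nonempty_D_D hE).some).allPow

end Groth.Agent.S16492
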