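import Groth.Statements.S16496
import Groth.Agent.L15.HartogsQCoh
-- import your own Groth.Agent.* helpers here

set_option autoImplicit false
universe u
open CategoryTheory AlgebraicGeometry
open SGA3

namespace Groth.Agent.S16496

/-- Let S be a Noetherian normal scheme, A a flat quasi-coherent O_S-module (not assumed of finite type)
and j : U → S the inclusion of an open subscheme containing every point of S whose local ring has
dimension at most 1. Then A = j_* j^* A: the unit A → j_*(A|_U) of the adjunction between
restriction to U and direct image along j is an isomorphism. In the source U is the flatness locus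
of a finite type submodule of A, an open which contains all points of codimension at most 1; the
printed argument uses only this property of U. -/
theorem result (S : Scheme.{u}) [IsNoetherian S]
    (hS : Pi1.IsNormalScheme S) (A : S.Modules) (hA : Coh.IsQCoh A) (hAfl : FlatMod.IsFlat A)
    (U : S.Opens) (hU : ∀ s : S, ringKrullDim (S.presheaf.stalk s) ≤ 1 → s ∈ U) :
    IsIso ((Scheme.Modules.restrictAdjunction U.ι).unit.app A) := by
  haveI := hA
  rw [Scheme.Modules.Hom.isIso_iff_isIso_app]
  intro V
  rw [ConcreteCategory.isIso_iff_bijective]
  refine Groth.L15.HartogsQCoh.bijective_app_of_affine _ (fun W hW => ?_) V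
  rw [Scheme.Modules.restrictAdjunction_unit_app_app]
  exact Groth.L15.HartogsQCoh.bijective_res A hS hAfl U hU hW (U.ι.image_preimage_le W)
    (by rw [Scheme.Hom.image_preimage_eq_opensRange_inf, Scheme.Opens.opensRange_ι, inf_comm])

end Groth.Agent.S16496
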