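import Groth.Statements.S16497
import Groth.Agent.L21.NodeFrob.Main

set_option autoImplicit false
set_option backward.isDefEq.respectTransparency false
set_option linter.style.haveILetI false
universe u
open CategoryTheory CategoryTheory.Limits AlgebraicGeometry Opposite
open Curves

namespace Groth.Agent.S16497

/-- Let p be a prime, k an algebraically closed field with char k = p, and C a semi-stable curve over k,
that is, C is reduced, proper over k and connected, every irreducible component of C has dimension
one, and the singularities of C are at worst nodal. Let π : C' → C be the normalisation of C, given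
here as a finite morphism from a scheme all of whose local rings are integrally closed domains which
is an isomorphism over a dense open subset of C with dense preimage. Let φ and φ' be the
endomorphisms of the abelian sheaves underlying O_C and O_{C'} that raise sections to the p-th power
(they are pinned by this property). Call C ordinary when the additive map induced by φ on H^1(C,
O_C) is bijective; for a proper curve over an algebraically closed field this is the same as asking
that the semisimple part of this p-linear endomorphism be all of H^1(C, O_C), and for a smooth curve
it is the classical notion (maximal p-rank of the Jacobian). Then C is ordinary precisely when the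
map induced by φ' on H^1(C', O_{C'}) is bijective, i.e. if and only if every irreducible component
of the normalisation (a smooth proper curve) is ordinary, H^1(C', O_{C'}) being the direct sum of
the H^1 of the components. -/
theorem result (k : Type u) [Field k] [IsAlgClosed k]
    (p : ℕ) [Fact p.Prime] [CharP k p]
    (C : Scheme.{u}) [C.Over (Spec (CommRingCat.of k))] [IsReduced C] [IsProper (C ↘ Spec (CommRingCat.of k))]
    [ConnectedSpace ↥C] (hdim : ∀ Z ∈ irreducibleComponents (C : Type u), topologicalKrullDim Z = 1)
    (hnod : Curv2.AtWorstNodal k C)
    (C' : Scheme.{u}) (π : C' ⟶ C) [IsFinite π] (hC' : Pi1.IsNormalScheme C')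
    (U : C.Opens) (hU : Dense (U : Set C)) (hU' : Dense ((π ⁻¹ᵁ U : C'.Opens) : Set C')) (hπU : IsIso (π ∣_ U))
    (φ : Coh.toAb (Coh.structureModule C) ⟶ Coh.toAb (Coh.structureModule C))
    (hφ : ∀ (V : C.Opens) (s : Γ(C, V)), (φ.hom.app (op V)).hom s = s ^ p)
    (φ' : Coh.toAb (Coh.structureModule C') ⟶ Coh.toAb (Coh.structureModule C'))
    (hφ' : ∀ (V : C'.Opens) (s : Γ(C', V)), (φ'.hom.app (op V)).hom s = s ^ p) :
    Function.Bijective (Sheaf.H.map φ 1) ↔ Function.Bijective (Sheaf.H.map φ' 1) := by
  exact Groth.L21.NodeFrob.bijective_frob_iff k π hC' hU hU' p hdim hnod φ hφ φ' hφ'

end Groth.Agent.S16497
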