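import Groth.Statements.S16500
import Mathlib.Tactic.Ring
import Mathlib.Data.Nat.Prime.Basic
import Mathlib.Algebra.Polynomial.Degree.Lemmas
import Mathlib.Algebra.Ring.Parity

set_option autoImplicit false
universe u
open Curves

namespace Groth.Agent.S16500

/-- Let k be a field of odd characteristic p, g ≤ p a natural number and f ∈ k[x] of degree at most 2g +
2. Let F be f with its coefficients reversed in degrees 0, …, 2g + 2, i.e. F(X) = X^(2g+2) f(1/X)
(Mathlib's reflect (2g+2) f), and write f^((p-1)/2) = Σ_l c_l x^l and F^((p-1)/2) = Σ_l C_l X^l.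
Then C_{ip-j} = c_{(g+1-i)p-(g+1-j)} for all i, j = 1, …, g; that is, the g × g Cartier–Manin matrix
of F is that of f with the order of both rows and columns reversed (below the indices run over Fin
g, the entry at (i, j) being the coefficient of degree (i+1)p-(j+1), and reversal is Fin.rev). In
particular the two matrices have the same determinant. (The source applies this to f with f(0) = 0,
separable of degree 2g + 2 over a perfect field, so that F has odd degree 2g + 1; the identity uses
none of that.) -/
theorem result (k : Type u) [Field k] (p : ℕ) [Fact p.Prime] (hp : p ≠ 2) [CharP k p]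
    (g : ℕ) (hg : g ≤ p) (f : Polynomial k) (hf : f.natDegree ≤ 2 * g + 2) :
    (Matrix.of fun i j : Fin g =>
        ((Polynomial.reflect (2 * g + 2) f) ^ ((p - 1) / 2)).coeff (((i : ℕ) + 1) * p - ((j : ℕ) + 1))) =
      Matrix.of fun i j : Fin g =>
        (f ^ ((p - 1) / 2)).coeff (((Fin.rev i : ℕ) + 1) * p - ((Fin.rev j : ℕ) + 1)) := by
  have hp2 : 2 ≤ p := (Fact.out : p.Prime).two_le
  obtain ⟨h, hh⟩ : ∃ h, p = 2 * h + 1 := ((Fact.out : p.Prime).odd_of_ne_two hp)
  rw [show (p - 1) / 2 = h by omega]
  have key : ∀ m : ℕ, (Polynomial.reflect (2 * g + 2) f) ^ m = Polynomial.reflect (m * (2 * g + 2)) (f ^ m) := by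
    intro m
    induction m with
    | zero => simp [Polynomial.reflect_one]
    | succ m ih =>
      rw [pow_succ, pow_succ, ih, Nat.succ_mul m, Polynomial.reflect_mul _ _ ?_ hf]
      exact Polynomial.natDegree_pow_le.trans (Nat.mul_le_mul le_rfl hf)
  ext i j
  simp only [Matrix.of_apply, key, Polynomial.coeff_reflect]
  congr 1
  have hi := i.isLt
  have hj := j.isLt
  simp only [Fin.val_rev]
  have h1 : ((i : ℕ) + 1) * p ≤ g * p := Nat.mul_le_mul (by omega) le_rfl
  have h2 : h * (2 * g + 2) = g * p - g + p - 1 := by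
    have : h * (2 * g + 2) + g + 1 = g * p + p := by rw [hh]; ring
    have : g ≤ g * p := Nat.le_mul_of_pos_right g (by omega)
    omega
  have hgp : g ≤ g * p := Nat.le_mul_of_pos_right g (by omega)
  rw [Polynomial.revAt_le (by omega), h2]
  have h3 : (g - ((i : ℕ) + 1) + 1) * p = g * p - (i : ℕ) * p := by
    rw [show g - ((i : ℕ) + 1) + 1 = g - (i : ℕ) by omega, Nat.sub_mul]
  have h4 : ((i : ℕ) + 1) * p = (i : ℕ) * p + p := by ring
  omega

end Groth.Agent.S16500
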