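import Groth.Statements.S16501
import Groth.Agent.L05.DVRQuot.Main
-- import your own Groth.Agent.* helpers here

set_option autoImplicit false
universe u
open Hensel

namespace Groth.Agent.S16501

/-- Let A be a complete discrete valuation ring with uniformizer ϖ and fraction field K, let L be a
finite separable extension of K and B the integral closure of A in L. There is a positive integer m₀
such that for every discrete valuation ring C that is a module-finite A-algebra, B ≅ C as A-algebras
if and only if B/ϖ^m B ≅ C/ϖ^m C as A-algebras for some m > m₀. (Finiteness of L over K is implicit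
in the source, which takes a primitive element.) -/
theorem result
    (A : Type u) [CommRing A] [IsDomain A] [IsDiscreteValuationRing A]
    [IsAdicComplete (IsLocalRing.maximalIdeal A) A] (ϖ : A) (hϖ : Irreducible ϖ)
    (K : Type u) [Field K] [Algebra A K] [IsFractionRing A K]
    (L : Type u) [Field L] [Algebra K L] [Algebra A L] [IsScalarTower A K L]
    [FiniteDimensional K L] [Algebra.IsSeparable K L]
    (B : Type u) [CommRing B] [Algebra A B] [Algebra B L] [IsScalarTower A B L]
    [IsIntegralClosure B A L] :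
    ∃ m₀ : ℕ, 0 < m₀ ∧ ∀ (C : Type u) [CommRing C] [IsDomain C] [IsDiscreteValuationRing C]
      [Algebra A C] [Module.Finite A C],
      Nonempty (B ≃ₐ[A] C) ↔ ∃ m : ℕ, m₀ < m ∧
        Nonempty ((B ⧸ Ideal.span {algebraMap A B (ϖ ^ m)}) ≃ₐ[A]
          (C ⧸ Ideal.span {algebraMap A C (ϖ ^ m)})) := by
  obtain ⟨m₀, hm₀, H⟩ := Groth.L05.DVRQuot.exists_bound A ϖ hϖ K L B
  refine ⟨m₀, hm₀, fun C _ _ _ _ _ => ⟨fun ⟨e⟩ => ⟨m₀ + 1, lt_add_one _, ⟨?_⟩⟩, fun ⟨m, hm, ⟨ψ⟩⟩ => H C m hm ψ⟩⟩
  refine Ideal.quotientEquivAlg _ _ e ?_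
  rw [Ideal.map_span, Set.image_singleton]
  exact congrArg (fun t => Ideal.span {t}) (AlgEquiv.commutes e _).symm

end Groth.Agent.S16501
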