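import Groth.Statements.S16507
import Groth.Agent.L21.FreeCurve.Vanish
import Groth.Agent.L21.FreeCurve.Frob
import Groth.Agent.L21.P1.Bases

set_option autoImplicit false
set_option backward.isDefEq.respectTransparency false
set_option linter.style.haveILetI false
universe u
open CategoryTheory AlgebraicGeometry
open Curves

namespace Groth.Agent.S16507

/-- Over an algebraically closed field k, let X be a smooth projective variety of dimension n with a
free rational curve, that is, a nonconstant k-morphism f from the projective line such that the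
twist of f^*Ω_{X/k} by O(−1) has no nonzero global sections (equivalently f^*T_X is globally
generated). Then all plurigenera of X vanish: H^0(X, ω^{⊗m}) = 0 for every m ≥ 1, ω the top exterior
power of Ω_{X/k}. (The published hypothesis is that X is smooth, proper and separably uniruled; when
X is smooth and projective over an algebraically closed base field, a free rational curve makes X
separably uniruled, and conversely such an X carries free rational curves. This row also takes k
algebraically closed and X projective, where the published statement allows any base field and X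
proper.) -/
theorem result
    (k : Type u) [Field k] [IsAlgClosed k]
    (X : Scheme.{u}) [X.Over (Spec (CommRingCat.of k))] [IsIntegral X] [Smooth (X ↘ Spec (CommRingCat.of k))]
    (hX : ∃ (N : ℕ) (ι : X ⟶ CohB1.ProjSpace N k), IsClosedImmersion ι ∧
      ι ≫ CohB1.ProjSpace.toSpec N k = X ↘ Spec (CommRingCat.of k))
    (n : ℕ) (hn : topologicalKrullDim X = n)
    (f : CohB1.ProjSpace 1 k ⟶ X) (hf : f ≫ (X ↘ Spec (CommRingCat.of k)) = CohB1.ProjSpace.toSpec 1 k)
    (hnc : ¬ ∃ x : X, Set.range f.base ⊆ {x})
    (hfree : Subsingleton (Coh.HH (CohB1.ProjSpace 1 k)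
      (CohB1.tensorMod ((Scheme.Modules.pullback f).obj (Omega.sheaf (X ↘ Spec (CommRingCat.of k)))) (Twist.twistProjSpace 1 k (-1))) 0))
    (ω : X.Modules) (hω : ExtPow.IsExtPow n (Omega.sheaf (X ↘ Spec (CommRingCat.of k))) ω) (m : ℕ) (hm : 1 ≤ m) :
    Subsingleton (Coh.HH X (CohB1.tensorPow ω m) 0) := by
  obtain ⟨N, ι, hι, hιc⟩ := hX
  haveI := hι
  haveI : QuasiSeparated (X ↘ Spec (CommRingCat.of k)) := by
    rw [← hιc]
    haveI : IsProper (CohB1.ProjSpace.toSpec N k) := Groth.L16.ProjSpace.isProper_toSpec (n := N) (R := k)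
    infer_instance
  obtain ⟨r, d, hV⟩ := Groth.L21.FreeCurve.exists_diag_omega (X ↘ Spec (CommRingCat.of k)) f
  have h0 := (hV.tensor (Groth.L21.FreeCurve.diag_structure (k := k) (-1))).h0.symm.trans
    (Groth.L21.RR.h_eq_zero_of_subsingleton k hfree)
  rw [Finset.sum_eq_zero_iff] at h0
  have hd : ∀ l, d l ≤ 0 := fun l => by
    have := h0 (finProdFinEquiv (l, 0)) (Finset.mem_univ _)
    simp only [Equiv.symm_apply_apply] at this
    omega
  obtain ⟨l₀, hl₀⟩ : ∃ l, d l < 0 := by
    by_contra hall
    push Not at hall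
    obtain ⟨D, hD, hsurj⟩ := Groth.L21.FreeCurve.exists_homs hV hd
    exact Groth.L21.FreeCurve.not_trivial hf hnc D hD (hsurj fun l => le_antisymm (hd l) (hall l))
  haveI := Groth.L21.P1.isIntegral_P1 (k := k)
  have hr : r = n := by
    obtain ⟨U, t, hxU, -, bΩ, hbΩ⟩ := Groth.L12.FrobLift.exists_coords (X ↘ Spec (CommRingCat.of k)) n hn
      (f (genericPoint (Groth.L18.PUP.P 1 k)))
    letI := (Groth.L12.FrobLift.baseHom (X ↘ Spec (CommRingCat.of k)) U.1).toAlgebra
    have hω' : Groth.L19.ProjBdl.IsBasisOn (Omega.sheaf (X ↘ Spec (CommRingCat.of k))) U.1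
        fun j => OmegaSh.dSect (X ↘ Spec (CommRingCat.of k)) U.1 (t j) := fun V h =>
      Groth.L12.FrobLift.isBasisS_dSect (X ↘ Spec (CommRingCat.of k)) U.2 t ⟨bΩ, hbΩ⟩ V h
    obtain ⟨b, hb, -⟩ := hV
    exact Groth.L21.P1.rank_eq_of_isBasisOn (hb 0) (hω'.pullback f)
      (Groth.L21.FreeCurve.genericPoint_mem_U 0) hxU
  subst hr
  refine Groth.L21.FreeCurve.subsingleton_tensorPow f hf hV hd (fun J hJ => ?_) hω hm
  refine Finset.sum_neg' (fun j _ => hd (J j)) ?_
  obtain ⟨j, hj⟩ := (Finite.injective_iff_surjective.1 hJ) l₀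
  exact ⟨j, Finset.mem_univ _, hj ▸ hl₀⟩

end Groth.Agent.S16507
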