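import Groth.Statements.S16511
import Groth.Agent.L21.P1Fam.Surface

set_option autoImplicit false
set_option backward.isDefEq.respectTransparency false
set_option linter.style.haveILetI false
universe u
open CategoryTheory AlgebraicGeometry
open Curves

namespace Groth.Agent.S16511

/-- Over an algebraically closed field k, let π : X → B be a surjective k-morphism from a projective
surface onto a smooth proper curve whose fibres over closed points are all isomorphic to the
projective line. Then X is isomorphic over B to the projective bundle of a locally free sheaf of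
rank 2 on B: π together with some invertible quotient q : π^*E → O(1), E locally free of rank 2 on
B, has the universal property of P(E). -/
theorem result
    (k : Type u) [Field k] [IsAlgClosed k]
    (X : Scheme.{u}) [X.Over (Spec (CommRingCat.of k))] [IsIntegral X] (hX2 : topologicalKrullDim X = 2)
    (hX : ∃ (N : ℕ) (ι : X ⟶ CohB1.ProjSpace N k), IsClosedImmersion ι ∧
      ι ≫ CohB1.ProjSpace.toSpec N k = X ↘ Spec (CommRingCat.of k))
    (B : Scheme.{u}) [B.Over (Spec (CommRingCat.of k))] (hB : Curve.IsSmoothProperCurve k B (B ↘ Spec (CommRingCat.of k)))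
    (π : X ⟶ B) (hπ : π ≫ (B ↘ Spec (CommRingCat.of k)) = X ↘ Spec (CommRingCat.of k))
    (hsurj : Function.Surjective π.base)
    (hfib : ∀ b : B, IsClosed ({b} : Set B) → Nonempty (π.fiber b ≅ CohB1.ProjSpace 1 k)) :
    ∃ (E : B.Modules) (L : X.Modules) (q : (Scheme.Modules.pullback π).obj E ⟶ L),
      FlatMod.IsFinLocFreeOfRank 2 E ∧ KRR.IsProjBundle π E L q := by
  obtain ⟨hpr, hsm, hBi, hB1⟩ := id hB
  haveI := hBi
  haveI := hpr
  haveI := hsm
  obtain ⟨N, ι, hι, hι'⟩ := id hX
  haveI := hι
  haveI : IsProper (CohB1.ProjSpace.toSpec N k) := Groth.L16.ProjSpace.isProper_toSpec (n := N) (R := k)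
  haveI : IsProper (X ↘ Spec (CommRingCat.of k)) := by rw [← hι']; infer_instance
  haveI : IsProper (π ≫ (B ↘ Spec (CommRingCat.of k))) := by rw [hπ]; infer_instance
  haveI : IsProper π := IsProper.of_comp π (B ↘ Spec (CommRingCat.of k))
  haveI := Groth.L21.RR.isNoetherian_of_proper (X := B) k
  haveI : Flat π := Groth.L21.flat_of_nonconstant hB1.le
    (fun y => ⟨Groth.L21.Smooth.isDomain_stalk (B ↘ Spec (CommRingCat.of k)) y,
      Groth.L21.Smooth.isIntegrallyClosed_stalk (B ↘ Spec (CommRingCat.of k)) y⟩) π (by
    rw [Set.range_eq_univ.2 hsurj]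
    by_contra h
    rw [Set.not_nontrivial_iff] at h
    haveI : Subsingleton B := ⟨fun a b => h (Set.mem_univ a) (Set.mem_univ b)⟩
    haveI : DiscreteTopology B := Subsingleton.discreteTopology
    have := topologicalKrullDim_zero_of_discreteTopology B
    rw [hB1] at this
    exact absurd this (by decide))
  haveI : LocallyOfFinitePresentation π := inferInstance
  exact Groth.L21.P1Fam.exists_isProjBundle_surface k π hfib hX2 hX hB hπ hsurj

end Groth.Agent.S16511
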