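import Groth.Agent.L18.RatPoint.VarietyExtend
import Groth.Statements.S16513
-- import your own Groth.Agent.* helpers here

set_option autoImplicit false
universe u
open CategoryTheory AlgebraicGeometry
open Curves

namespace Groth.Agent.S16513

/-- Over an algebraically closed field k, a birational self-map of a smooth projective variety X
containing no rational curve (every k-morphism from the projective line to X is constant) is an
automorphism: a k-isomorphism between two nonempty open subschemes of X extends to a k-automorphism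
of X. (The base field is taken algebraically closed here.) -/
theorem result
    (k : Type u) [Field k] [IsAlgClosed k]
    (X : Scheme.{u}) [X.Over (Spec (CommRingCat.of k))] [IsIntegral X] [Smooth (X ↘ Spec (CommRingCat.of k))]
    (hX : ∃ (n : ℕ) (ι : X ⟶ CohB1.ProjSpace n k), IsClosedImmersion ι ∧
      ι ≫ CohB1.ProjSpace.toSpec n k = X ↘ Spec (CommRingCat.of k))
    (hnorat : ∀ g : CohB1.ProjSpace 1 k ⟶ X,
      g ≫ (X ↘ Spec (CommRingCat.of k)) = CohB1.ProjSpace.toSpec 1 k → ∃ x : X, Set.range g.base ⊆ {x})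
    (U V : X.Opens) (hU : (U : Set X).Nonempty) (φ : (U : Scheme.{u}) ≅ (V : Scheme.{u}))
    (hφ : φ.hom ≫ V.ι ≫ (X ↘ Spec (CommRingCat.of k)) = U.ι ≫ (X ↘ Spec (CommRingCat.of k))) :
    ∃ e : X ≅ X, U.ι ≫ e.hom = φ.hom ≫ V.ι ∧
      e.hom ≫ (X ↘ Spec (CommRingCat.of k)) = X ↘ Spec (CommRingCat.of k) := by
  haveI := Groth.L18.RatPoint.isProper_of_closedImmersion_projSpace _ hX
  obtain ⟨F, hF, hFq⟩ := Groth.L18.RatPoint.exists_extend_variety (X ↘ Spec (CommRingCat.of k))
    (X ↘ Spec (CommRingCat.of k)) hnorat U hU (φ.hom ≫ V.ι) (by rw [Category.assoc]; exact hφ)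
  have hV : (V : Set X).Nonempty := ⟨(φ.hom ⟨_, hU.some_mem⟩).1, (φ.hom ⟨_, hU.some_mem⟩).2⟩
  obtain ⟨G, hG, hGq⟩ := Groth.L18.RatPoint.exists_extend_variety (X ↘ Spec (CommRingCat.of k))
    (X ↘ Spec (CommRingCat.of k)) hnorat V hV (φ.inv ≫ U.ι) (by rw [Category.assoc, ← hφ, φ.inv_hom_id_assoc])
  have h1 : F ≫ G = 𝟙 X := Groth.L26.Weil.ext_dense (X ↘ Spec (CommRingCat.of k))
    (by rw [Category.assoc, hGq, hFq, Category.id_comp]) (U.2.dense hU)
    (by rw [reassoc_of% hF, hG, φ.hom_inv_id_assoc, Category.comp_id])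
  have h2 : G ≫ F = 𝟙 X := Groth.L26.Weil.ext_dense (X ↘ Spec (CommRingCat.of k))
    (by rw [Category.assoc, hFq, hGq, Category.id_comp]) (V.2.dense hV)
    (by rw [reassoc_of% hG, hF, φ.inv_hom_id_assoc, Category.comp_id])
  exact ⟨⟨F, G, h1, h2⟩, hF, hFq⟩

end Groth.Agent.S16513
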