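import Groth.Statements.S16514
import Groth.Agent.L21.Conic.Birational

set_option autoImplicit false
set_option backward.isDefEq.respectTransparency false
set_option linter.style.haveILetI false
universe u
open CategoryTheory AlgebraicGeometry
open Curves

namespace Groth.Agent.S16514

/-- Over an algebraically closed field k, let π : X → B be a surjective k-morphism from a projective
surface onto a smooth proper curve whose generic fibre is geometrically integral of arithmetic genus
0. Then X is birational to B × P^1 over B: a nonempty open subscheme of X is isomorphic over B to an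
open subscheme of B ×_k P^1_k. -/
theorem result
    (k : Type u) [Field k] [IsAlgClosed k]
    (X : Scheme.{u}) [X.Over (Spec (CommRingCat.of k))] [IsIntegral X] (hX2 : topologicalKrullDim X = 2)
    (hX : ∃ (N : ℕ) (ι : X ⟶ CohB1.ProjSpace N k), IsClosedImmersion ι ∧
      ι ≫ CohB1.ProjSpace.toSpec N k = X ↘ Spec (CommRingCat.of k))
    (B : Scheme.{u}) [B.Over (Spec (CommRingCat.of k))] [IsIntegral B]
    (hB : Curve.IsSmoothProperCurve k B (B ↘ Spec (CommRingCat.of k)))
    (π : X ⟶ B) (hπ : π ≫ (B ↘ Spec (CommRingCat.of k)) = X ↘ Spec (CommRingCat.of k))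
    (hsurj : Function.Surjective π.base)
    [GeometricallyIntegral (π.fiberToSpecResidueField (genericPoint B))]
    (hgen : letI : (π.fiber (genericPoint B)).Over (Spec (B.residueField (genericPoint B))) :=
        ⟨π.fiberToSpecResidueField (genericPoint B)⟩
      Curv2.genus (B.residueField (genericPoint B)) (π.fiber (genericPoint B)) = 0) :
    ∃ (U : X.Opens) (W : (Limits.pullback (B ↘ Spec (CommRingCat.of k)) (CohB1.ProjSpace.toSpec 1 k)).Opens)
      (e : (U : Scheme.{u}) ≅ (W : Scheme.{u})),
      (U : Set X).Nonempty ∧ e.hom ≫ W.ι ≫ Limits.pullback.fst (B ↘ Spec (CommRingCat.of k)) (CohB1.ProjSpace.toSpec 1 k) = U.ι ≫ π := by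
  let η : B := genericPoint B
  let sB : B ⟶ Spec (CommRingCat.of k) := B ↘ (Spec (CommRingCat.of k))
  let sX : X ⟶ Spec (CommRingCat.of k) := X ↘ (Spec (CommRingCat.of k))
  obtain ⟨hpr, hsm, -, hB1⟩ := id hB
  haveI : Smooth sB := hsm
  haveI : IsProper sB := hpr
  obtain ⟨N, ι, hι, hι'⟩ := id hX
  haveI := hι
  haveI : IsProper (CohB1.ProjSpace.toSpec N k) := Groth.L16.ProjSpace.isProper_toSpec (n := N) (R := k)
  haveI : IsProper sX := by rw [show sX = ι ≫ CohB1.ProjSpace.toSpec N k from hι'.symm]; infer_instance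
  haveI : IsProper (π ≫ sB) := by rw [show π ≫ sB = sX from hπ]; infer_instance
  haveI : IsProper π := IsProper.of_comp π sB
  haveI : IsDominant π := ⟨hsurj.denseRange⟩
  letI : (π.fiber η).Over (Spec (CommRingCat.of (B.residueField η))) := ⟨π.fiberToSpecResidueField η⟩
  haveI : GeometricallyIntegral (π.fiber η ↘ Spec (CommRingCat.of (B.residueField η))) :=
    ‹GeometricallyIntegral (π.fiberToSpecResidueField (genericPoint B))›
  haveI : IsProper (π.fiber η ↘ Spec (CommRingCat.of (B.residueField η))) :=
    MorphismProperty.pullback_snd π _ ‹IsProper π›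
  haveI : IsIntegral (π.fiber η) :=
    GeometricallyIntegral.isIntegral_of_subsingleton (π.fiber η ↘ Spec (CommRingCat.of (B.residueField η)))
  letI : Algebra k (B.residueField η) := Curv2.resAlgebra k B η
  have hK : Curves.IsCi (B.residueField η) 1 := by
    obtain ⟨n, hn, ht, -⟩ := Groth.L22.SchemeDim.exists_dim_eq_trdeg k B
    obtain rfl : n = 1 := by
      rw [hB1] at hn
      exact_mod_cast hn.symm
    exact Groth.Agent.S0212.result k (B.residueField η) 1 ht
  have hd := Groth.L21.Conic.fibre_dim_generic sX sB π hπ hX2 hB1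
  obtain ⟨eF, heF⟩ := (Groth.L21.RR.iso_projLine_iff_point (X := π.fiber η) (B.residueField η) hd hgen).2
    (Groth.L21.Conic.exists_ratPoint (X := π.fiber η) (B.residueField η) hK hd hgen)
  obtain ⟨eP, heP⟩ := Groth.L21.Conic.exists_iso_fibre_projSpace (B := B) (k := k) 1 η
  haveI : IsProper (CohB1.ProjSpace.toSpec 1 k) := Groth.L16.ProjSpace.isProper_toSpec (n := 1) (R := k)
  haveI : IsProper (Limits.pullback.fst sB (CohB1.ProjSpace.toSpec 1 k)) := MorphismProperty.pullback_fst _ _ ‹_›
  haveI : IsLocallyNoetherian X := LocallyOfFiniteType.isLocallyNoetherian sX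
  haveI : IsLocallyNoetherian (Limits.pullback sB (CohB1.ProjSpace.toSpec 1 k)) :=
    LocallyOfFiniteType.isLocallyNoetherian (Limits.pullback.fst sB (CohB1.ProjSpace.toSpec 1 k) ≫ sB)
  obtain ⟨U, W, e, hU, he⟩ := Groth.L21.Conic.exists_iso_opens π (Limits.pullback.fst sB (CohB1.ProjSpace.toSpec 1 k))
    (eF ≪≫ eP.symm) (by
      rw [Iso.trans_hom, Category.assoc, Iso.symm_hom, ← heP, Iso.inv_hom_id_assoc]
      exact heF)
    (genericPoint (π.fiber η : Scheme.{u}))
  exact ⟨U, W, e, ⟨_, hU⟩, he⟩

end Groth.Agent.S16514
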