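import Groth.Statements.S16515
import Groth.Agent.L03.PlanePoints
import Mathlib.LinearAlgebra.Dimension.LinearMap
import Mathlib.LinearAlgebra.FreeModule.Finite.Matrix
import Mathlib.LinearAlgebra.Dimension.RankNullity
import Mathlib.LinearAlgebra.Dimension.DivisionRing

set_option autoImplicit false
universe u
open RatCurv

namespace Groth.Agent.S16515

/-- If C ⊂ P^n is a rational normal curve and P ⊂ P^n a linear r-plane with (r + 2) k ≥ (r + 1)(n + 1),
then P is contained in a k-secant (k − 1)-plane of C, i.e. in the span of some effective divisor of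
degree k on C. Stated through the identification of the linear forms on P^n with the binary forms of
degree n on C ≅ P^1: the r-plane P is recorded by the space U of degree-n binary forms vanishing on
it (of codimension r + 1), an effective divisor of degree k on C by a nonzero binary form g of
degree k, and P ⊂ span(div g) says that every degree-n form divisible by g lies in U. Here k ≤ n,
and the ground field is arbitrary (the source works over the complex numbers). -/
theorem result (K : Type u) [Field K] (n r k : ℕ)
    (hkn : k ≤ n) (hineq : (r + 1) * (n + 1) ≤ (r + 2) * k)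
    (U : Submodule K (MvPolynomial (Fin 2) K))
    (hU : U ≤ MvPolynomial.homogeneousSubmodule (Fin 2) K n)
    (hcodim : Module.finrank K ↥U + (r + 1) = n + 1) :
    ∃ g ∈ MvPolynomial.homogeneousSubmodule (Fin 2) K k, g ≠ 0 ∧
      ∀ h ∈ MvPolynomial.homogeneousSubmodule (Fin 2) K (n - k), g * h ∈ U := by
  classical
  let H : ℕ → Submodule K (MvPolynomial (Fin 2) K) := fun d => MvPolynomial.homogeneousSubmodule (Fin 2) K d
  have hfin : ∀ d, Module.finrank K ↥(H d) = d + 1 := fun d => by
    rw [(Groth.L03.PlanePoints.finrank_homogeneous (F := K) 1 d).2, Nat.choose_one_right]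
  haveI : ∀ d, Module.Finite K ↥(H d) := fun d => (Groth.L03.PlanePoints.finrank_homogeneous (F := K) 1 d).1
  let U' : Submodule K ↥(H n) := U.comap (H n).subtype
  have hU' : Module.finrank K ↥U' = Module.finrank K ↥U := (Submodule.comapSubtypeEquivOfLe hU).finrank_eq
  have hQ : Module.finrank K (↥(H n) ⧸ U') = r + 1 := by
    have := Submodule.finrank_quotient_add_finrank U'
    rw [hfin, hU'] at this
    omega
  have hmem : ∀ (g : ↥(H k)) (h : ↥(H (n - k))), (g : MvPolynomial (Fin 2) K) * h ∈ H n := fun g h => by
    have := MvPolynomial.IsHomogeneous.mul g.2 h.2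
    rwa [Nat.add_sub_cancel' hkn] at this
  let Φ : ↥(H k) →ₗ[K] ↥(H (n - k)) →ₗ[K] ↥(H n) ⧸ U' :=
    LinearMap.mk₂ K (fun g h => U'.mkQ ⟨_, hmem g h⟩)
      (fun g g' h => by rw [← map_add]; congr 1; exact Subtype.ext (by simp [add_mul]))
      (fun c g h => by rw [← map_smul]; congr 1; exact Subtype.ext (by simp))
      (fun g h h' => by rw [← map_add]; congr 1; exact Subtype.ext (by simp [mul_add]))
      (fun c g h => by rw [← map_smul]; congr 1; exact Subtype.ext (by simp))
  have hker : LinearMap.ker Φ ≠ ⊥ := by
    intro hk0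
    have h1 := LinearMap.finrank_le_finrank_of_injective (LinearMap.ker_eq_bot.1 hk0)
    rw [Module.finrank_linearMap, hfin, hfin, hQ] at h1
    obtain ⟨j, rfl⟩ := Nat.exists_eq_add_of_le hkn
    rw [Nat.add_sub_cancel_left] at h1
    nlinarith
  obtain ⟨g, hg, hg0⟩ := (Submodule.ne_bot_iff _).1 hker
  refine ⟨g, g.2, fun h0 => hg0 (Subtype.ext h0), fun h hh => ?_⟩
  have h1 := LinearMap.congr_fun (LinearMap.mem_ker.1 hg) ⟨h, hh⟩
  simp only [Φ, LinearMap.mk₂_apply, LinearMap.zero_apply, Submodule.mkQ_apply, Submodule.Quotient.mk_eq_zero] at h1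
  exact h1


end Groth.Agent.S16515
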