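import Groth.Statements.S16516
import Groth.Agent.L28.BinaryForm.Basic

set_option autoImplicit false
set_option linter.style.haveILetI false
universe u
open RatCurv MvPolynomial Groth.L28.BinaryForm

namespace Groth.Agent.S16516

/-- A smooth nondegenerate rational quintic curve C ⊂ P^4 has exactly one 3-secant line. Stated for C
given as the image of P^1 under a 5-dimensional linear series V of binary quintic forms which
separates every length-2 subscheme of P^1 (for every nonzero quadratic form e the forms of V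
together with the multiples of e span all quintic forms), so that P^1 → P(V^*) = P^4 is a closed
embedding with nondegenerate image; the linear forms on P^4 are the elements of V, a line L ⊂ P^4 is
recorded by the 3-dimensional space of linear forms vanishing on it, and L ∩ C has length at least 3
exactly when that space consists of the multiples g · K[s,t]_2 of a cubic form g. The conclusion: a
nonzero cubic g with g · K[s,t]_2 ⊆ V exists and is unique up to a scalar. (That such a line meets C
in length exactly 3, i.e. is not 4-secant, is immediate in this description and is not restated; the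
ground field is algebraically closed of characteristic zero in place of the complex numbers.) -/
theorem result (K : Type u) [Field K] [IsAlgClosed K]
    [CharZero K] (V : Submodule K (MvPolynomial (Fin 2) K))
    (hV : V ≤ MvPolynomial.homogeneousSubmodule (Fin 2) K 5) (hdim : Module.finrank K ↥V = 5)
    (hsep : ∀ e ∈ MvPolynomial.homogeneousSubmodule (Fin 2) K 2, e ≠ 0 →
      ∀ F ∈ MvPolynomial.homogeneousSubmodule (Fin 2) K 5, ∃ v ∈ V,
        ∃ h ∈ MvPolynomial.homogeneousSubmodule (Fin 2) K 3, F = v + e * h) :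
    ∃ g ∈ MvPolynomial.homogeneousSubmodule (Fin 2) K 3, g ≠ 0 ∧
      (∀ h ∈ MvPolynomial.homogeneousSubmodule (Fin 2) K 2, g * h ∈ V) ∧
      ∀ g' ∈ MvPolynomial.homogeneousSubmodule (Fin 2) K 3,
        (∀ h ∈ MvPolynomial.homogeneousSubmodule (Fin 2) K 2, g' * h ∈ V) → ∃ c : K, g' = c • g := by
  classical
  obtain ⟨F0, hF0, hF0V⟩ : ∃ F0 ∈ S K 5, F0 ∉ V := SetLike.not_le_iff_exists.1 fun h => by
    have := Submodule.finrank_mono (M := MvPolynomial (Fin 2) K) (R := K) hV
    have := le_antisymm hV h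
    rw [this, finrank_S] at hdim
    omega
  obtain ⟨φ, hφ0, hφV⟩ := Submodule.exists_dual_map_eq_bot_of_notMem hF0V inferInstance
  have hmem : ∀ x ∈ S K 5, φ x = 0 → x ∈ V := by
    intro x hx hφx
    have heq : V ⊔ Submodule.span K {F0} = S K 5 := by
      have hle : V ⊔ Submodule.span K {F0} ≤ S K 5 :=
        sup_le hV ((Submodule.span_singleton_le_iff_mem _ _).2 hF0)
      haveI := Submodule.finiteDimensional_of_le hle
      refine Submodule.eq_of_le_of_finrank_le hle ?_
      have hlt : V < V ⊔ Submodule.span K {F0} :=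
        left_lt_sup.2 fun h => hF0V (h (Submodule.mem_span_singleton_self F0))
      have := Submodule.finrank_lt_finrank_of_lt hlt
      rw [finrank_S]
      omega
    obtain ⟨v, hv, w, hw, rfl⟩ := Submodule.mem_sup.1 (heq ▸ hx)
    obtain ⟨c, rfl⟩ := Submodule.mem_span_singleton.1 hw
    have hv0 : φ v = 0 := (Submodule.mem_bot K).1 (hφV ▸ Submodule.mem_map_of_mem hv)
    rw [map_add, map_smul, hv0, zero_add, smul_eq_mul] at hφx
    obtain rfl : c = 0 := (mul_eq_zero.1 hφx).resolve_right hφ0
    simpa using hv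
  let T : S K 3 →ₗ[K] Module.Dual K (S K 2) :=
    ((LinearMap.mul K (MvPolynomial (Fin 2) K)).compl₁₂ (S K 3).subtype (S K 2).subtype).compr₂ φ
  have hT : LinearMap.ker T ≠ ⊥ := LinearMap.ker_ne_bot_of_finrank_lt (by
    rw [Subspace.dual_finrank_eq, finrank_S, finrank_S]; norm_num)
  obtain ⟨g, hgT, hg0⟩ := (Submodule.ne_bot_iff _).1 hT
  have hgV : ∀ h ∈ S K 2, (g : MvPolynomial (Fin 2) K) * h ∈ V := fun h hh =>
    hmem _ (mul_mem_S g.2 hh (by norm_num)) (LinearMap.congr_fun (LinearMap.mem_ker.1 hgT) ⟨h, hh⟩)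
  obtain ⟨g, hg⟩ := g
  replace hg0 : g ≠ 0 := fun h => hg0 (Subtype.ext h)
  refine ⟨g, hg, hg0, hgV, fun g' hg' hgV' => ?_⟩
  by_contra hne
  simp only [not_exists] at hne
  have hg'0 : g' ≠ 0 := fun h => hne 0 (by simp [h])
  haveI : Module.Finite K V := Submodule.finiteDimensional_of_le hV
  have hno : ∀ W : Submodule K (MvPolynomial (Fin 2) K), W ≤ V → Module.finrank K W ≤ 5 := fun W hW => by
    exact (Submodule.finrank_mono hW).trans hdim.le
  by_cases hrel : IsRelPrime g g'
  · have h := sup_eq_of_isRelPrime hg hg' hg0 hg'0 hrel (n := 5) (by norm_num) (by norm_num) (by norm_num)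
    have h6 := hno (S K 5) (by
      rw [← h]
      exact sup_le (by rintro _ ⟨y, hy, rfl⟩; exact hgV y hy) (by rintro _ ⟨y, hy, rfl⟩; exact hgV' y hy))
    rw [finrank_S] at h6
    omega
  obtain ⟨L, hL, hL0, ⟨G, hG, rfl⟩, G', hG', rfl⟩ := exists_common_linear hg hg' hrel
  have hG0 := right_ne_zero_of_mul hg0
  have hG'0 := right_ne_zero_of_mul hg'0
  by_cases hrel2 : IsRelPrime G G'
  · have h3 := sup_eq_of_isRelPrime hG hG' hG0 hG'0 hrel2 (n := 3) (by norm_num) (by norm_num) (by norm_num)
    have h4 : S K 4 ≤ mulS G 2 ⊔ mulS G' 2 := le_sup_succ (i := 1) (j := 1) h3.ge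
    have hLV : mulS L 4 ≤ V := by
      rintro _ ⟨F, hF, rfl⟩
      obtain ⟨_, ⟨x, hx, rfl⟩, _, ⟨y, hy, rfl⟩, rfl⟩ := Submodule.mem_sup.1 (h4 hF)
      simp only [LinearMap.mulLeft_apply, mul_add, ← mul_assoc]
      exact add_mem (hgV x hx) (hgV' y hy)
    have hVL : mulS L 4 = V := Submodule.eq_of_le_of_finrank_eq hLV (by rw [finrank_mulS hL0, hdim])
    have h5 := sup_eq V hV hsep (mul_mem_S hL hL (by norm_num)) (mul_ne_zero hL0 hL0)
    have h6 := hno (S K 5) (by
      rw [← h5]
      refine sup_le le_rfl ?_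
      rintro _ ⟨F, hF, rfl⟩
      exact hLV ⟨L * F, mul_mem_S hL hF (by norm_num), (mul_assoc L L F).symm⟩)
    rw [finrank_S] at h6
    omega
  obtain ⟨M, hM, hM0, ⟨l, hl, rfl⟩, l', hl', rfl⟩ := exists_common_linear hG hG' hrel2
  have hl0 := right_ne_zero_of_mul hG0
  have hl'0 := right_ne_zero_of_mul hG'0
  by_cases hrel3 : IsRelPrime l l'
  · have h1 := sup_eq_of_isRelPrime hl hl' hl0 hl'0 hrel3 (n := 1) le_rfl le_rfl rfl
    have h3 : S K 3 ≤ mulS l 2 ⊔ mulS l' 2 :=
      le_sup_succ (i := 1) (j := 1) (le_sup_succ (i := 0) (j := 0) h1.ge)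
    have h5 := sup_eq V hV hsep (mul_mem_S hL hM (by norm_num)) (mul_ne_zero hL0 hM0)
    have h6 := hno (S K 5) (by
      rw [← h5]
      refine sup_le le_rfl ?_
      rintro _ ⟨F, hF, rfl⟩
      obtain ⟨_, ⟨x, hx, rfl⟩, _, ⟨y, hy, rfl⟩, rfl⟩ := Submodule.mem_sup.1 (h3 hF)
      simp only [LinearMap.mulLeft_apply, mul_add]
      refine add_mem ?_ ?_
      · convert hgV x hx using 1; ring
      · convert hgV' y hy using 1; ring)
    rw [finrank_S] at h6
    omega
  obtain ⟨N, hN, hN0, ⟨c, hc, rfl⟩, c', hc', rfl⟩ := exists_common_linear hl hl' hrel3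
  obtain ⟨c, rfl⟩ := eq_C_of_mem_S_zero hc
  obtain ⟨c', rfl⟩ := eq_C_of_mem_S_zero hc'
  refine hne (c' / c) ?_
  have hc0 : c ≠ 0 := fun h => hl0 (by simp [h])
  rw [smul_eq_C_mul, div_eq_mul_inv, C_mul]
  have e : (C c⁻¹ * C c : MvPolynomial (Fin 2) K) = 1 := by rw [← C_mul, inv_mul_cancel₀ hc0, C_1]
  linear_combination (-(L * (M * (N * C c')))) * e

end Groth.Agent.S16516
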