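import Groth.Statements.S16518
import Groth.Agent.L01.GorExt
import Groth.Agent.L04.Depth
import Mathlib.RingTheory.Regular.Flat
import Mathlib.LinearAlgebra.Isomorphisms

set_option autoImplicit false
universe u
open CAlg

namespace Groth.Agent.S16518

open CategoryTheory CategoryTheory.Abelian RingTheory.Sequence

section Helpers

open scoped Pointwise

variable {A : Type u} [CommRing A]

/-- The invariant of the induction. -/
structure Good (I K : Ideal A) : Prop where
  vanish : ∀ i : ℕ, 1 ≤ i → Subsingleton (Ext (ModuleCat.of A (A ⧸ I)) (ModuleCat.of A (A ⧸ K)) i)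
  sup_eq : Submodule.annihilator I ⊔ K = Submodule.colon K (I : Set A)
  inf_eq : Submodule.annihilator I ⊓ K = K * Submodule.annihilator I

lemma good_step {I K : Ideal A} (h : Good I K) {r : A} (hr : IsSMulRegular (A ⧸ K) r) :
    Good I (K ⊔ Ideal.span {r}) := by
  classical
  set K' : Ideal A := K ⊔ Ideal.span {r} with hK'
  let f : (A ⧸ K) →ₗ[A] (A ⧸ K) := LinearMap.lsmul A (A ⧸ K) r
  let g : (A ⧸ K) →ₗ[A] (A ⧸ K') := Submodule.mapQ K K' LinearMap.id (fun x hx => Ideal.mem_sup_left hx)
  have hg : Function.Surjective g := fun z => by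
    obtain ⟨a, rfl⟩ := Submodule.mkQ_surjective _ z
    exact ⟨Submodule.Quotient.mk a, rfl⟩
  have hfg : Function.Exact f g := fun z => by
    obtain ⟨a, rfl⟩ := Submodule.mkQ_surjective _ z
    show (Submodule.Quotient.mk a : A ⧸ K') = 0 ↔ _
    rw [Submodule.Quotient.mk_eq_zero, hK', Submodule.mem_sup]
    constructor
    · rintro ⟨x, hx, t, ht, rfl⟩
      obtain ⟨c, rfl⟩ := Ideal.mem_span_singleton'.mp ht
      refine ⟨Submodule.Quotient.mk c, ?_⟩
      show (Submodule.Quotient.mk (r * c) : A ⧸ K) = Submodule.Quotient.mk (x + c * r)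
      exact (Submodule.Quotient.eq K).mpr (by simpa [mul_comm r c] using neg_mem hx)
    · rintro ⟨w, hw⟩
      obtain ⟨c, rfl⟩ := Submodule.mkQ_surjective _ w
      have hw' : (Submodule.Quotient.mk (r * c) : A ⧸ K) = Submodule.Quotient.mk a := hw
      exact ⟨a - r * c, by simpa using neg_mem ((Submodule.Quotient.eq K).mp hw'), r * c,
        Ideal.mul_mem_right _ _ (Ideal.mem_span_singleton_self r), by ring⟩
  have hS : (ShortComplex.mk (ModuleCat.ofHom f) (ModuleCat.ofHom g)
      (ModuleCat.hom_ext hfg.linearMap_comp_eq_zero)).ShortExact :=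
    { exact := (ShortComplex.moduleCat_exact_iff_range_eq_ker _).mpr hfg.linearMap_ker_eq.symm
      mono_f := (ModuleCat.mono_iff_injective _).mpr hr
      epi_g := (ModuleCat.epi_iff_surjective _).mpr hg }
  have hcancel : ∀ a : A, r * a ∈ K → a ∈ K := fun a ha => by
    rw [← Ideal.Quotient.eq_zero_iff_mem] at ha ⊢
    exact hr.right_eq_zero_of_smul ha
  refine ⟨fun i hi => Groth.L04.subsingleton_ext_right hS (h.vanish i hi) (h.vanish (i + 1) (Nat.le_succ_of_le hi)),
    ?_, ?_⟩
  · refine le_antisymm (sup_le (fun x hx => Submodule.mem_colon.mpr fun a ha => ?_)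
      (fun x hx => Submodule.mem_colon.mpr fun a _ => Ideal.mul_mem_right _ _ hx)) fun x hx => ?_
    · rw [Submodule.mem_annihilator.mp hx a ha]
      exact zero_mem _
    have hle : I ≤ LinearMap.ker (LinearMap.toSpanSingleton A (A ⧸ K') (Submodule.Quotient.mk x)) := fun a ha => by
      rw [LinearMap.mem_ker, LinearMap.toSpanSingleton_apply, ← Submodule.Quotient.mk_smul,
        Submodule.Quotient.mk_eq_zero]
      have := Submodule.mem_colon.mp hx a ha
      rw [smul_eq_mul] at this ⊢
      rw [mul_comm]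
      exact this
    let φ : (A ⧸ I) →ₗ[A] (A ⧸ K') := Submodule.liftQ I _ hle
    obtain ⟨ψ, hψ⟩ := Ext.covariant_sequence_exact₃ (ModuleCat.of A (A ⧸ I)) hS (Ext.mk₀ (ModuleCat.ofHom φ))
      (show 0 + 1 = 1 by rfl) (Subsingleton.elim (h := h.vanish 1 le_rfl) _ _)
    obtain ⟨ψ, rfl⟩ := (Ext.mk₀_bijective _ _).2 ψ
    rw [Ext.mk₀_comp_mk₀] at hψ
    have h1 : g (ψ.hom (Submodule.Quotient.mk (1 : A))) = φ (Submodule.Quotient.mk 1) :=
      congrArg (fun t => t.hom (Submodule.Quotient.mk (1 : A))) ((Ext.mk₀_bijective _ _).1 hψ)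
    obtain ⟨x', hx'⟩ := Submodule.Quotient.mk_surjective _ (ψ.hom (Submodule.Quotient.mk (1 : A)))
    have hx'K : x' ∈ Submodule.colon K (I : Set A) := Submodule.mem_colon.mpr fun a ha => by
      rw [← Submodule.Quotient.mk_eq_zero K, smul_eq_mul, mul_comm, ← smul_eq_mul, Submodule.Quotient.mk_smul, hx']
      have h2 := ψ.hom.map_smul a (Submodule.Quotient.mk (1 : A))
      rw [← Submodule.Quotient.mk_smul, smul_eq_mul, mul_one, (Submodule.Quotient.mk_eq_zero I).mpr ha, map_zero] at h2
      exact h2.symm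
    have hxx : x - x' ∈ K' := by
      rw [← hx'] at h1
      have h3 : (Submodule.Quotient.mk x' : A ⧸ K') = (1 : A) • Submodule.Quotient.mk x := h1
      rw [one_smul] at h3
      exact (Submodule.Quotient.eq K').mp h3.symm
    rw [← h.sup_eq] at hx'K
    obtain ⟨j, hj, k, hk, hjk⟩ := Submodule.mem_sup.mp hx'K
    exact Submodule.mem_sup.mpr ⟨j, hj, k + (x - x'), add_mem (Ideal.mem_sup_left hk) hxx, by rw [← hjk]; ring⟩
  · refine le_antisymm (fun x hx => ?_) (le_inf Ideal.mul_le_right Ideal.mul_le_left)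
    obtain ⟨hxJ, hxK⟩ := Submodule.mem_inf.mp hx
    obtain ⟨k, hk, t, ht, rfl⟩ := Submodule.mem_sup.mp hxK
    obtain ⟨a, rfl⟩ := Ideal.mem_span_singleton'.mp ht
    have ha : a ∈ Submodule.colon K (I : Set A) := Submodule.mem_colon.mpr fun i hi => by
      refine hcancel _ ?_
      have := Submodule.mem_annihilator.mp hxJ i hi
      rw [smul_eq_mul] at this ⊢
      rw [show r * (a * i) = -(k * i) by linear_combination this]
      exact neg_mem (Ideal.mul_mem_right _ _ hk)
    rw [← h.sup_eq] at ha
    obtain ⟨j, hj, k', hk', rfl⟩ := Submodule.mem_sup.mp ha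
    have hmem : k + k' * r ∈ Submodule.annihilator I ⊓ K := by
      refine ⟨?_, add_mem hk (Ideal.mul_mem_right _ _ hk')⟩
      have := sub_mem hxJ (Ideal.mul_mem_right r _ hj)
      rwa [show k + (j + k') * r - j * r = k + k' * r by ring] at this
    rw [h.inf_eq] at hmem
    rw [show k + (j + k') * r = (k + k' * r) + r * j by ring]
    exact add_mem (Ideal.mul_mono_left le_sup_left hmem)
      (Ideal.mul_mem_mul (Ideal.mem_sup_right (Ideal.mem_span_singleton_self r)) hj)

lemma good_list {I : Ideal A} : ∀ (rs : List A) (K : Ideal A), IsWeaklyRegular (A ⧸ K) rs → Good I K →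
    Good I (K ⊔ Ideal.ofList rs) := by
  intro rs
  induction rs with
  | nil => intro K _ h; simpa using h
  | cons r rs ih =>
    intro K hreg h
    rw [isWeaklyRegular_cons_iff] at hreg
    rw [Ideal.ofList_cons, ← sup_assoc]
    refine ih _ ?_ (good_step h hreg.1)
    let e : QuotSMulTop r (A ⧸ K) ≃ₗ[A] (A ⧸ (K ⊔ Ideal.span {r})) :=
      (Submodule.quotEquivOfEq _ _ (by
        rw [← Submodule.ideal_span_singleton_smul, Submodule.map_sup, Submodule.mkQ_map_self, bot_sup_eq,
          ← LinearMap.range_eq_top.mpr (Submodule.mkQ_surjective K), ← Submodule.map_top, ← Submodule.map_smul'',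
          smul_eq_mul, Ideal.mul_top])).trans
        (Submodule.quotientQuotientEquivQuotient K (K ⊔ Ideal.span {r}) le_sup_left)
    exact (e.isWeaklyRegular_congr rs).mp hreg.2

end Helpers



/-- Let R be a Noetherian local ring, A a Gorenstein local ring which is a flat R-algebra through a
local homomorphism, I ⊂ A an ideal of codimension zero (the Krull dimension of A/I equals that of A)
with A/I Cohen–Macaulay, and J = (0 : I) its annihilator. For every R-regular sequence r_1, …, r_n
generating an ideal 𝔯 of R, the module J/𝔯J is the annihilator of the image of I in A/𝔯A: the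
natural map J/𝔯J → A/𝔯A is injective (J ∩ 𝔯A = 𝔯J) with image the ideal quotient (𝔯A : I) modulo 𝔯A
(J + 𝔯A = (𝔯A : I)). -/
theorem result (R A : Type u)
    [CommRing R] [IsNoetherianRing R] [IsLocalRing R] [CommRing A] [Algebra R A]
    [LocCoh.IsGorensteinLocalRing A] [IsLocalHom (algebraMap R A)] [Module.Flat R A] (I : Ideal A)
    (hI : ringKrullDim (A ⧸ I) = ringKrullDim A) [LocCoh.IsCohenMacaulayLocalRing (A ⧸ I)]
    (rs : List R) (hrs : RingTheory.Sequence.IsRegular R rs) :
    Submodule.annihilator I ⊔ (Ideal.ofList rs).map (algebraMap R A) =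
        Submodule.colon ((Ideal.ofList rs).map (algebraMap R A)) (I : Set A) ∧
      Submodule.annihilator I ⊓ (Ideal.ofList rs).map (algebraMap R A) =
        (Ideal.ofList rs).map (algebraMap R A) * Submodule.annihilator I := by
  classical
  have hreg : RingTheory.Sequence.IsWeaklyRegular A (rs.map (algebraMap R A)) := hrs.toIsWeaklyRegular.of_flat
  have hbot : Good I (⊥ : Ideal A) := by
    refine ⟨fun i hi => ?_, ?_, ?_⟩
    · haveI := Groth.L01.GorExt.subsingleton_ext_quotient I hI hi
      let e : ModuleCat.of A A ≅ ModuleCat.of A (A ⧸ (⊥ : Ideal A)) :=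
        (Submodule.quotEquivOfEqBot (⊥ : Ideal A) rfl).symm.toModuleIso
      refine subsingleton_of_forall_eq 0 fun z => ?_
      rw [← Ext.comp_mk₀_id z, ← e.inv_hom_id, ← Ext.mk₀_comp_mk₀, ← Ext.comp_assoc_of_second_deg_zero,
        Subsingleton.elim (z.comp (Ext.mk₀ e.inv) (add_zero i)) 0, Ext.zero_comp]
    · rw [sup_bot_eq]
      ext x
      rw [Submodule.mem_annihilator, Submodule.mem_colon]
      simp only [Submodule.mem_bot, SetLike.mem_coe]
    · rw [inf_bot_eq, ← Ideal.zero_eq_bot, zero_mul]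
  have h := good_list (rs.map (algebraMap R A)) ⊥
    (((Submodule.quotEquivOfEqBot (⊥ : Ideal A) rfl).symm.isWeaklyRegular_congr _).mp hreg) hbot
  rw [bot_sup_eq, ← Ideal.map_ofList] at h
  exact ⟨h.sup_eq, h.inf_eq⟩


end Groth.Agent.S16518
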