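import Groth.Statements.S16517
import Groth.Agent.S16518
import Groth.Agent.L13.Wild.Kunz
import Groth.Agent.L04.RegularPd
import Groth.Agent.L12.RegLift
import Groth.Agent.L06.FlatFibre

set_option autoImplicit false
universe u
open CAlg

namespace Groth.Agent.S16517

open RingTheory.Sequence IsLocalRing Groth.Agent.S16518

section Helpers

open scoped Pointwise

variable {A : Type u} [CommRing A]

lemma isWeaklyRegular_residual {I : Ideal A} : ∀ (rs : List A) (K : Ideal A),
    IsWeaklyRegular (A ⧸ K) rs → Good I K → IsWeaklyRegular (A ⧸ (Submodule.annihilator I ⊔ K)) rs := by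
  intro rs
  induction rs with
  | nil => intro K _ _; exact IsWeaklyRegular.nil _ _
  | cons r rs ih =>
    intro K hreg h
    rw [isWeaklyRegular_cons_iff] at hreg ⊢
    let P : Ideal A := Submodule.annihilator I ⊔ K
    refine ⟨isSMulRegular_iff_right_eq_zero_of_smul.mpr fun z hz => ?_, ?_⟩
    · obtain ⟨a, rfl⟩ := Submodule.Quotient.mk_surjective _ z
      rw [← Submodule.Quotient.mk_smul, Submodule.Quotient.mk_eq_zero, h.sup_eq] at hz
      rw [Submodule.Quotient.mk_eq_zero, h.sup_eq]
      refine Submodule.mem_colon.mpr fun i hi => ?_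
      have h1 := Submodule.mem_colon.mp hz i hi
      simp only [smul_eq_mul] at h1 ⊢
      rw [← Submodule.Quotient.mk_eq_zero K] at h1 ⊢
      refine hreg.1.right_eq_zero_of_smul ?_
      rw [← Submodule.Quotient.mk_smul, smul_eq_mul, ← mul_assoc]
      exact h1
    let e₁ : QuotSMulTop r (A ⧸ K) ≃ₗ[A] (A ⧸ (K ⊔ Ideal.span {r})) :=
      (Submodule.quotEquivOfEq _ _ (by
        rw [← Submodule.ideal_span_singleton_smul, Submodule.map_sup, Submodule.mkQ_map_self, bot_sup_eq,
          ← LinearMap.range_eq_top.mpr (Submodule.mkQ_surjective K), ← Submodule.map_top, ← Submodule.map_smul'',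
          smul_eq_mul, Ideal.mul_top])).trans
        (Submodule.quotientQuotientEquivQuotient K (K ⊔ Ideal.span {r}) le_sup_left)
    let e₂ : QuotSMulTop r (A ⧸ P) ≃ₗ[A] (A ⧸ (Submodule.annihilator I ⊔ (K ⊔ Ideal.span {r}))) :=
      ((Submodule.quotEquivOfEq _ _ (by
        rw [← Submodule.ideal_span_singleton_smul, Submodule.map_sup, Submodule.mkQ_map_self, bot_sup_eq,
          ← LinearMap.range_eq_top.mpr (Submodule.mkQ_surjective P), ← Submodule.map_top, ← Submodule.map_smul'',
          smul_eq_mul, Ideal.mul_top])).trans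
        (Submodule.quotientQuotientEquivQuotient P (P ⊔ Ideal.span {r}) le_sup_left)).trans
        (Submodule.quotEquivOfEq _ _ (sup_assoc _ _ _))
    exact (e₂.isWeaklyRegular_congr rs).mpr
      (ih _ ((e₁.isWeaklyRegular_congr rs).mp hreg.2) (good_step h hreg.1))

lemma flat_quotient_of_regular {R : Type u} [CommRing R] [IsLocalRing R] [IsNoetherianRing R]
    [IsLocalRing A] [IsNoetherianRing A] [Algebra R A] [IsLocalHom (algebraMap R A)] (P : Ideal A)
    {rs : List R} (hgen : Ideal.ofList rs = maximalIdeal R) (hR : IsWeaklyRegular R rs)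
    (hP : IsWeaklyRegular (A ⧸ P) (rs.map (algebraMap R A))) : Module.Flat R (A ⧸ P) := by
  by_cases hP1 : P = ⊤
  · haveI : Subsingleton (A ⧸ P) := Ideal.Quotient.subsingleton_iff.mpr hP1
    infer_instance
  haveI : IsLocalRing (A ⧸ P) := Groth.L01.isLocalRing_quotient hP1
  haveI : IsLocalHom (algebraMap R (A ⧸ P)) := ⟨fun x hx => by
    by_contra hu
    have h1 : Ideal.Quotient.mk P (algebraMap R A x) ∈ maximalIdeal (A ⧸ P) := by
      rw [Groth.L01.maximalIdeal_quotient_eq_map]
      exact Ideal.mem_map_of_mem _ (map_nonunit (algebraMap R A) x hu)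
    exact (mem_maximalIdeal _).1 h1 hx⟩
  exact Groth.L13.Wild.Kunz.flat_of_isWeaklyRegular _ R (A ⧸ P) rs rfl hgen hR
    ((isWeaklyRegular_map_algebraMap_iff A (A ⧸ P) rs).1 hP)

end Helpers



/-- Let R be a regular local ring, A a Gorenstein local ring which is a flat R-algebra through a local
homomorphism, I ⊂ A an ideal of codimension zero (the Krull dimension of A/I equals that of A) with
A/I Cohen–Macaulay, and J = (0 : I) the annihilator of I in A (the ideal of the residual subscheme).
Then A/I and A/J are flat over R. -/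
theorem result (R A : Type u)
    [CommRing R] [IsRegularLocalRing R] [CommRing A] [Algebra R A] [LocCoh.IsGorensteinLocalRing A]
    [IsLocalHom (algebraMap R A)] [Module.Flat R A] (I : Ideal A)
    (hI : ringKrullDim (A ⧸ I) = ringKrullDim A) [LocCoh.IsCohenMacaulayLocalRing (A ⧸ I)] :
    Module.Flat R (A ⧸ I) ∧ Module.Flat R (A ⧸ (Submodule.annihilator I)) := by
  classical
  obtain ⟨d, hd⟩ := Groth.L01.exists_dim_eq_nat (R := R)
  obtain ⟨rs, hlen, hreg, hgen⟩ := Groth.L04.exists_regular_generators hd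
  have hA : IsWeaklyRegular A (rs.map (algebraMap R A)) :=
    hreg.toIsWeaklyRegular.of_flat
  have hmem : ∀ r ∈ rs, algebraMap R A r ∈ maximalIdeal A := fun r hr =>
    map_nonunit (algebraMap R A) r (hgen ▸ Ideal.subset_span hr : r ∈ maximalIdeal R)
  have hbot : Good I (⊥ : Ideal A) := by
    refine ⟨fun i hi => ?_, ?_, ?_⟩
    · haveI := Groth.L01.GorExt.subsingleton_ext_quotient I hI hi
      let e : ModuleCat.of A A ≅ ModuleCat.of A (A ⧸ (⊥ : Ideal A)) :=
        (Submodule.quotEquivOfEqBot (⊥ : Ideal A) rfl).symm.toModuleIso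
      refine subsingleton_of_forall_eq 0 fun z => ?_
      rw [← CategoryTheory.Abelian.Ext.comp_mk₀_id z, ← e.inv_hom_id, ← CategoryTheory.Abelian.Ext.mk₀_comp_mk₀,
        ← CategoryTheory.Abelian.Ext.comp_assoc_of_second_deg_zero,
        Subsingleton.elim (z.comp (CategoryTheory.Abelian.Ext.mk₀ e.inv) (add_zero i)) 0,
        CategoryTheory.Abelian.Ext.zero_comp]
    · rw [sup_bot_eq]
      ext x
      rw [Submodule.mem_annihilator, Submodule.mem_colon]
      simp only [Submodule.mem_bot, SetLike.mem_coe]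
    · rw [inf_bot_eq, ← Ideal.zero_eq_bot, zero_mul]
  refine ⟨?_, flat_quotient_of_regular _ hgen hreg.toIsWeaklyRegular ?_⟩
  swap
  · have h := isWeaklyRegular_residual (rs.map (algebraMap R A)) ⊥
      (((Submodule.quotEquivOfEqBot (⊥ : Ideal A) rfl).symm.isWeaklyRegular_congr _).mp hA) hbot
    exact ((Submodule.quotEquivOfEq _ _ (sup_bot_eq (Submodule.annihilator I))).isWeaklyRegular_congr _).mp h
  refine flat_quotient_of_regular I hgen hreg.toIsWeaklyRegular ?_
  refine (isWeaklyRegular_map_algebraMap_iff (A ⧸ I) (A ⧸ I) _).1 ?_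
  have hmemB : ∀ z ∈ (rs.map (algebraMap R A)).map (algebraMap A (A ⧸ I)), z ∈ maximalIdeal (A ⧸ I) := by
    intro z hz
    obtain ⟨y, hy, rfl⟩ := List.mem_map.mp hz
    obtain ⟨r, hr, rfl⟩ := List.mem_map.mp hy
    rw [Groth.L01.maximalIdeal_quotient_eq_map]
    exact Ideal.mem_map_of_mem _ (hmem r hr)
  refine Groth.L12.RegLift.isWeaklyRegular_of_dim _ hmemB (le_antisymm ?_ ?_)
  · rw [List.length_map, List.length_map, hlen, ← Ideal.map_ofList, ← Ideal.map_ofList, hgen,
      hI, Groth.L06.FlatFibre.ringKrullDim_eq R A, hd, add_comm (d : WithBot ℕ∞)]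
    refine add_le_add_left ?_ _
    refine ringKrullDim_le_of_surjective
      (Ideal.quotientMap _ (Ideal.Quotient.mk I) (Ideal.map_le_iff_le_comap.mp le_rfl) :
        EGA4.FibRing R A →+* (A ⧸ I) ⧸ ((maximalIdeal R).map (algebraMap R A)).map (algebraMap A (A ⧸ I))) ?_
    exact Ideal.quotientMap_surjective Ideal.Quotient.mk_surjective
  · refine (ringKrullDim_le_ringKrullDim_quotient_add_spanFinrank _ ?_).trans (add_le_add_right ?_ _)
    · rw [IsLocalRing.ringJacobson_eq_maximalIdeal]
      exact Ideal.span_le.2 hmemB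
    · exact_mod_cast Groth.L01.spanFinrank_ofList_le _


end Groth.Agent.S16517
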