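import Groth.Statements.S16519


import Mathlib.Data.Int.Interval
import Mathlib.Tactic.IntervalCases
import Mathlib.Tactic.Linarith
import Mathlib.Tactic.FinCases

set_option autoImplicit false
open CubicSurf

namespace Groth.Agent.S16519

/-- On a smooth cubic surface there are exactly 72 divisor classes L with L² = 1 and L · K = −3. Stated
in the lattice ℤ^{1,6} with basis l, e_1, …, e_6 (l² = 1, e_i² = −1, K = −3l + Σ e_i): the integer
vectors (a, b) ∈ ℤ × ℤ^6, standing for a·l − Σ b_i e_i, with 3a − Σ b_i = 3 and a² − Σ b_i² = 1 form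
a set of exactly 72 elements. -/
theorem result :
    {p : ℤ × (Fin 6 → ℤ) | 3 * p.1 - (Finset.univ.sum fun i => p.2 i) = 3 ∧
        p.1 ^ 2 - (Finset.univ.sum fun i => p.2 i ^ 2) = 1}.ncard = 72 := by
  have key : {p : ℤ × (Fin 6 → ℤ) | 3 * p.1 - (Finset.univ.sum fun i => p.2 i) = 3 ∧
        p.1 ^ 2 - (Finset.univ.sum fun i => p.2 i ^ 2) = 1} =
      ↑(((Finset.Icc (1:ℤ) 5) ×ˢ Fintype.piFinset (fun _ : Fin 6 => Finset.Icc (0:ℤ) 2)).filter
        (fun p : ℤ × (Fin 6 → ℤ) => 3 * p.1 - (Finset.univ.sum fun i => p.2 i) = 3 ∧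
          p.1 ^ 2 - (Finset.univ.sum fun i => p.2 i ^ 2) = 1)) := by
    ext ⟨d, m⟩
    simp only [Finset.coe_filter, Set.mem_ofPred_eq, Finset.mem_product, Finset.mem_Icc,
      Fintype.mem_piFinset]
    refine ⟨fun h => ⟨?_, h⟩, fun h => h.2⟩
    simp only [Fin.sum_univ_six] at h
    obtain ⟨h1, h2⟩ := h
    have hcs : (m 0 + m 1 + m 2 + m 3 + m 4 + m 5) ^ 2 ≤
        6 * (m 0 ^ 2 + m 1 ^ 2 + m 2 ^ 2 + m 3 ^ 2 + m 4 ^ 2 + m 5 ^ 2) := by
      linarith only [sq_nonneg (m 0 - m 1), sq_nonneg (m 0 - m 2), sq_nonneg (m 0 - m 3),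
        sq_nonneg (m 0 - m 4), sq_nonneg (m 0 - m 5), sq_nonneg (m 1 - m 2), sq_nonneg (m 1 - m 3),
        sq_nonneg (m 1 - m 4), sq_nonneg (m 1 - m 5), sq_nonneg (m 2 - m 3), sq_nonneg (m 2 - m 4),
        sq_nonneg (m 2 - m 5), sq_nonneg (m 3 - m 4), sq_nonneg (m 3 - m 5), sq_nonneg (m 4 - m 5)]
    have e1 : m 0 + m 1 + m 2 + m 3 + m 4 + m 5 = 3 * d - 3 := by linarith only [h1]
    have e2 : m 0 ^ 2 + m 1 ^ 2 + m 2 ^ 2 + m 3 ^ 2 + m 4 ^ 2 + m 5 ^ 2 = d ^ 2 - 1 := by linarith only [h2]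
    rw [e1, e2] at hcs
    have hd1 : 1 ≤ d ∧ d ≤ 5 := by
      constructor <;> by_contra hc <;> push Not at hc <;> nlinarith only [hcs, hc]
    refine ⟨hd1, ?_⟩
    have single : ∀ (f : Fin 6 → ℤ) (c : ℤ), (∀ j, 0 ≤ f j) → f 0 + f 1 + f 2 + f 3 + f 4 + f 5 = c →
        ∀ i, f i ≤ c := by
      intro f c hf hs i
      have := hf 0; have := hf 1; have := hf 2; have := hf 3; have := hf 4; have := hf 5
      fin_cases i <;> simp only [Fin.isValue, Fin.mk_one, Fin.reduceFinMk, Fin.zero_eta] <;> omega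
    have hp : ∀ a x : ℤ, 0 ≤ (x - a) * (x - a - 1) := by
      intro a x
      rcases le_or_gt x a with h | h
      · nlinarith only [h]
      · nlinarith only [show a + 1 ≤ x from h]
    intro i
    obtain ⟨hd1, hd2⟩ := hd1
    interval_cases d
    · have := single (fun j => m j ^ 2) 0 (fun j => sq_nonneg _) (by linarith only [e2]) i
      constructor <;> nlinarith only [this]
    · have := single (fun j => (m j - 0) * (m j - 0 - 1)) 0 (fun j => hp 0 _) (by linarith only [e1, e2]) i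
      constructor <;> nlinarith only [this]
    · have := single (fun j => (m j - 1) ^ 2) 2 (fun j => sq_nonneg _) (by linarith only [e1, e2]) i
      constructor <;> nlinarith only [this]
    · have := single (fun j => (m j - 1) * (m j - 1 - 1)) 0 (fun j => hp 1 _) (by linarith only [e1, e2]) i
      constructor <;> nlinarith only [this]
    · have := single (fun j => (m j - 2) ^ 2) 0 (fun j => sq_nonneg _) (by linarith only [e1, e2]) i
      constructor <;> nlinarith only [this]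
  rw [key, Set.ncard_coe_finset]
  decide +kernel

end Groth.Agent.S16519
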