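import Groth.Statements.S1652
import Groth.Agent.L22.CurveDeg.Maps
import Groth.Agent.L18.Ample
import Groth.Agent.L22.CurveAmple.Section

set_option autoImplicit false
set_option backward.isDefEq.respectTransparency false
universe u
open CategoryTheory CategoryTheory.Limits AlgebraicGeometry
open Variety

namespace Groth.Agent.S1652

/-- On a proper curve over a field, if L and M are invertible modules with L ⊗ M ≅ O_X and both L and M
have a nonzero global section, then L is isomorphic to the structure sheaf. -/
theorem result (k : Type u) [Field k] (X : Scheme.{u}) [X.Over (Spec (CommRingCat.of k))]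
    [IsIntegral X] [IsProper (X ↘ (Spec (CommRingCat.of k)))] (hdim : topologicalKrullDim X = 1)
    (L M : X.Modules) (hL : PicF.IsInvertible L) (hM : PicF.IsInvertible M) (hLM : ClSub.IsInverseOf L M)
    (s : Coh.structureModule X ⟶ L) (hs : s ≠ 0) (t : Coh.structureModule X ⟶ M) (ht : t ≠ 0) :
    Nonempty (L ≅ Coh.structureModule X) := by
  haveI := Groth.L21.RR.isNoetherian_of_proper (X := X) k
  obtain ⟨e⟩ := hLM
  let ψ : L ⟶ Coh.structureModule X := Groth.L03.Euler.mulSection L t ≫ e.hom
  have hψ : ψ ≠ 0 := by
    intro h0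
    have h1 : Groth.L03.Euler.mulSection L t = 0 := by
      rw [← cancel_mono e.hom, zero_comp]; exact h0
    have hb := (Groth.L03.Euler.bijective_mulSection L t (Groth.L22.CurveAmple.genericPoint_mem_genLocus hM ht)).1
    obtain ⟨ε, hε⟩ := Groth.L21.RR.exists_frame_stalk hL (genericPoint X)
    have h2 : ε = 0 := hb (by rw [h1, Functor.map_zero]; rfl)
    exact one_ne_zero (hε.1 (show (1 : X.presheaf.stalk (genericPoint X)) • ε = (0 : X.presheaf.stalk (genericPoint X)) • ε by
      rw [h2, smul_zero, smul_zero]))
  have hO := Groth.L18.Ample.isInvertible_structureModule X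
  obtain ⟨h1, -⟩ := Groth.L22.CurveDeg.deg_add k hdim.le hL hO hψ
  obtain ⟨h2, h3⟩ := Groth.L22.CurveDeg.deg_add k hdim.le hO hL hs
  rw [Groth.L22.CurveDeg.deg_structure] at h1 h2
  haveI := h3 (by omega)
  exact ⟨(asIso s).symm⟩

end Groth.Agent.S1652
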