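import Groth.Statements.S16520
import Groth.Agent.L21.CastSev.Split
import Groth.Agent.L21.CastSev.Basic
import Groth.Agent.L21.Duality.Pencils
import Groth.Agent.L21.Duality.Nondegenerate
import Groth.Agent.L21.P1.FuncField
import Groth.Agent.L21.P1.Split
import Groth.Agent.L20.ResDescent
import Groth.Agent.L21.P1.PullTwist

set_option autoImplicit false
set_option backward.isDefEq.respectTransparency false
set_option linter.style.haveILetI false
universe u
open CategoryTheory CategoryTheory.Limits AlgebraicGeometry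
open Curves

namespace Groth.Agent.S16520

/-- Let E be an elliptic curve over an algebraically closed field k of characteristic zero (in place of
the complex numbers): smooth, proper and geometrically connected over k, of dimension one and genus
dim_k H^1(E, O_E) = 1; let π : E → P^1_k be a k-morphism which is finite and flat of constant rank
2, and L an invertible O_E-module of degree d = χ(L) − χ(O_E). If d = 2e + 1 then π_*L ≅ O(e) ⊕ O(e
− 1); if d = 2e and L ≅ π^*O(e) then π_*L ≅ O(e) ⊕ O(e − 2); if d = 2e and L is not isomorphic to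
π^*O(e) then π_*L ≅ O(e − 1) ⊕ O(e − 1). (Existence of isomorphisms of O-modules on P^1_k; the
source states the isomorphisms abstractly.) -/
theorem result (k : Type u) [Field k]
    [IsAlgClosed k] [CharZero k] (E : Scheme.{u}) [E.Over (Spec (CommRingCat.of k))] [IsProper (E ↘ Spec (CommRingCat.of k))]
    [Smooth (E ↘ Spec (CommRingCat.of k))] [GeometricallyConnected (E ↘ Spec (CommRingCat.of k))]
    (hE : topologicalKrullDim E = 1) (hg : Curv2.genus k E = 1)
    (π : E ⟶ CohB1.ProjSpace 1 k) (hπ : π ≫ CohB1.ProjSpace.toSpec 1 k = E ↘ Spec (CommRingCat.of k))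
    [IsFinite π] [Flat π] (hrk : ∀ y : ↥(CohB1.ProjSpace 1 k), Scheme.Hom.finrank π y = 2)
    (L : E.Modules) (hL : PicF.IsInvertible L) (d : ℤ) (hd : Curv2.deg k E L 1 = d) :
    (∀ e : ℤ, d = 2 * e + 1 → Nonempty ((Scheme.Modules.pushforward π).obj L ≅
        ∐ fun j : Fin 2 => Twist.twistProjSpace 1 k (![e, e - 1] j))) ∧
    (∀ e : ℤ, d = 2 * e → Nonempty (L ≅ (Scheme.Modules.pullback π).obj (Twist.twistProjSpace 1 k e)) →
        Nonempty ((Scheme.Modules.pushforward π).obj L ≅
          ∐ fun j : Fin 2 => Twist.twistProjSpace 1 k (![e, e - 2] j))) ∧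
    (∀ e : ℤ, d = 2 * e → IsEmpty (L ≅ (Scheme.Modules.pullback π).obj (Twist.twistProjSpace 1 k e)) →
        Nonempty ((Scheme.Modules.pushforward π).obj L ≅
          ∐ fun j : Fin 2 => Twist.twistProjSpace 1 k (![e - 1, e - 1] j))) := by
  haveI : GeometricallyIntegral (E ↘ Spec (CommRingCat.of k)) :=
    Groth.L21.Disc.geometricallyIntegral_of_smooth (E ↘ Spec (CommRingCat.of k))
  haveI : AlgebraicGeometry.IsIntegral E := GeometricallyIntegral.isIntegral_of_subsingleton (E ↘ Spec (CommRingCat.of k))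
  haveI := Groth.L21.RR.isNoetherian_of_proper (X := E) k
  haveI := Groth.L21.P1.isSeparated_P k
  haveI : LocallyOfFinitePresentation π := inferInstance
  have h0E : Groth.L21.RR.h k 0 (Coh.structureModule E) = 1 := Groth.L21.RR.h0_eq_one_of_isAlgClosed k
  have hgE : 1 ≤ Groth.L21.RR.h k 1 (Coh.structureModule E) := by
    show 1 ≤ Curv2.genus k E
    omega
  have hEfl : FlatMod.IsFinLocFreeOfRank 2 ((Scheme.Modules.pushforward π).obj L) := by
    haveI : IsLocallyNoetherian (CohB1.ProjSpace 1 k) := (Groth.L21.RR.isNoetherian_of_proper (X := Groth.L18.PUP.P 1 k) k).toIsLocallyNoetherian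
    have hlf := Groth.L20.ResDescent.isFinLocFree_push π ⟨inferInstance, inferInstance, inferInstance⟩ L
      (Groth.L16.Existence.isFinLocFree_of_isInvertible hL)
    obtain ⟨n, hn⟩ := Groth.L21.Disc.exists_rank (Y := Groth.L18.PUP.P 1 k) hlf
    obtain rfl : n = 2 := (Groth.L21.Bundle.rk_eq hn).symm.trans
      (Groth.L21.CastSev.rk_push π (k := k) (P := Groth.L18.PUP.P 1 k) (Groth.L21.P1.topologicalKrullDim_eq (k := k)) hrk hL)
    exact hn
  obtain ⟨c, hc, ⟨θ⟩⟩ := Groth.L21.P1.exists_splitting k hEfl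
  have h1 : c 1 ≤ c 0 := hc (show (0 : Fin 2) ≤ 1 by decide)
  obtain ⟨θO⟩ := Groth.L21.P1.exists_iso_push π hπ (Groth.L21.P1.isFinLocFreeOfRank_push_two π hrk) h0E
  have key : ∀ e : ℤ, ∀ M : E.Modules, CohB1.tensorMod ((Scheme.Modules.pullback π).obj (Groth.L21.P1.O k (-e))) L = M →
      PicF.IsInvertible M ∧ Curv2.deg k E M 1 = d - 2 * e ∧
        (Groth.L21.RR.h k 0 M : ℤ) = ((-e + c 0 + 1).toNat + (-e + c 1 + 1).toNat : ℕ) ∧
        c 0 + c 1 = d - 2 := by
    rintro e _ rfl
    have hi : PicF.IsInvertible ((Scheme.Modules.pullback π).obj (Groth.L21.P1.O k (-e))) :=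
      Groth.L18.Ample.isInvertible_pullback π (Groth.L16.ProjTwist.isInvertible_twistProjSpace 1 k (-e))
    have hM := Groth.L18.GenLoc.isInvertible_tensor hi hL
    have hh := fun p => Groth.L21.Duality.h_tensor_pullback_twist π hπ hL c θ (-e) p
    have hh0 := hh 0
    have hh1 := hh 1
    simp only [Fin.sum_univ_two, (Groth.L21.P1.h_O k _).1, (Groth.L21.P1.h_O k _).2] at hh0 hh1
    have hdp : Curv2.deg k E ((Scheme.Modules.pullback π).obj (Groth.L21.P1.O k (-e))) 1 = -2 * e := by
      have hdP : topologicalKrullDim (Groth.L18.PUP.P 1 k) = 1 := Groth.L21.P1.topologicalKrullDim_eq (k := k)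
      haveI := Groth.L21.RR.isNoetherian_of_proper (X := Groth.L18.PUP.P 1 k) k
      refine (Groth.L21.CastSev.deg_pullback hdP π hπ hrk (Groth.L16.ProjTwist.isInvertible_twistProjSpace 1 k (-e))).trans ?_
      obtain ⟨i0⟩ := Groth.L16.ProjTwist.nonempty_twist_zero_iso (CohB1.polyGrading 1 k)
      rw [Curv2.deg, Groth.L21.RR.euler_eq k hdP.le, Groth.L21.RR.euler_eq k hdP.le,
        ← Groth.L21.RR.h_congr k i0 0, ← Groth.L21.RR.h_congr k i0 1]
      change (2 : ℤ) * ((Groth.L21.RR.h k 0 (Groth.L21.P1.O k (-e)) : ℤ) - Groth.L21.RR.h k 1 (Groth.L21.P1.O k (-e)) -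
        ((1 : ℕ) : ℤ) * ((Groth.L21.RR.h k 0 (Groth.L21.P1.O k 0) : ℤ) - Groth.L21.RR.h k 1 (Groth.L21.P1.O k 0))) = _
      rw [(Groth.L21.P1.h_O k _).1, (Groth.L21.P1.h_O k _).2, (Groth.L21.P1.h_O k _).1, (Groth.L21.P1.h_O k _).2]
      push_cast
      omega
    have hdM : Curv2.deg k E (CohB1.tensorMod ((Scheme.Modules.pullback π).obj (Groth.L21.P1.O k (-e))) L) 1 = d - 2 * e := by
      rw [Groth.L21.Duality.deg_tensor hE hi hL, hdp, hd]
      ring
    refine ⟨hM, hdM, by rw [hh0], ?_⟩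
    have hrr := Groth.L21.Duality.rr_deg (k := k) hE.le h0E (CohB1.tensorMod ((Scheme.Modules.pullback π).obj (Groth.L21.P1.O k (-e))) L)
    rw [hh0, hh1, hdM, hg] at hrr
    push_cast at hrr
    omega
  have fin : ∀ a b : ℤ, c 0 = a → c 1 = b → Nonempty ((Scheme.Modules.pushforward π).obj L ≅
      ∐ fun j : Fin 2 => Twist.twistProjSpace 1 k (![a, b] j)) := by
    intro a b ha hb
    have hc' : c = ![a, b] := by funext i; fin_cases i <;> assumption
    subst hc'
    exact ⟨θ.symm ≪≫ biproduct.isoCoproduct _⟩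
  refine ⟨fun e he => ?_, fun e he ht => ?_, fun e he hn => ?_⟩
  · obtain ⟨hM, hdM, hh, hs⟩ := key e _ rfl
    have hb := Groth.L21.Duality.h0_le_deg (k := k) hE.le h0E hgE hM (by omega)
    exact fin _ _ (by omega) (by omega)
  · obtain ⟨hM, hdM, hh, hs⟩ := key e _ rfl
    obtain ⟨iL⟩ := ht
    have hone : Groth.L21.RR.h k 0 (CohB1.tensorMod ((Scheme.Modules.pullback π).obj (Groth.L21.P1.O k (-e))) L) = 1 := by
      obtain ⟨i1⟩ := Groth.L16.ProjTwist.nonempty_tensor_twist_iso_one (CohB1.polyGrading 1 k)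
        (Groth.L21.P1.exists_basicOpen_one k) (-e) e
      obtain ⟨i0⟩ := Groth.L16.ProjTwist.nonempty_twist_zero_iso (CohB1.polyGrading 1 k)
      rw [neg_add_cancel] at i1
      rw [Groth.L21.RR.h_congr k (Groth.L00.Tensor.tensorIso (Iso.refl _) iL ≪≫
        Groth.L29.DC.PullTensor.pullTensor π _ _ ≪≫ (Scheme.Modules.pullback π).mapIso (i1 ≪≫ i0) ≪≫
        Groth.L29.LocFree.pullbackUnitIso π) 0]
      exact h0E
    exact fin _ _ (by omega) (by omega)
  · obtain ⟨hM, hdM, hh, hs⟩ := key e _ rfl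
    have hzero : Groth.L21.RR.h k 0 (CohB1.tensorMod ((Scheme.Modules.pullback π).obj (Groth.L21.P1.O k (-e))) L) = 0 := by
      by_contra hne
      obtain ⟨iM⟩ := Groth.L21.Duality.nonempty_iso_of_deg_eq_zero (k := k) hE.le hM (by omega)
        (Groth.L21.Duality.nontrivial_of_h0_pos (k := k) (Nat.one_le_iff_ne_zero.2 hne))
      obtain ⟨i1⟩ := Groth.L16.ProjTwist.nonempty_tensor_twist_iso_one (CohB1.polyGrading 1 k)
        (Groth.L21.P1.exists_basicOpen_one k) e (-e)
      obtain ⟨i0⟩ := Groth.L16.ProjTwist.nonempty_twist_zero_iso (CohB1.polyGrading 1 k)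
      rw [add_neg_cancel] at i1
      exact hn.false ((Groth.L00.Tensor.tensorUnitLeft L).symm ≪≫
        Groth.L00.Tensor.tensorIso ((Groth.L29.LocFree.pullbackUnitIso π).symm ≪≫
          (Scheme.Modules.pullback π).mapIso (i1 ≪≫ i0).symm ≪≫ (Groth.L29.DC.PullTensor.pullTensor π _ _).symm)
          (Iso.refl L) ≪≫ Groth.L00.Tensor.tensorAssoc _ _ L ≪≫
        Groth.L00.Tensor.tensorIso (Iso.refl _) iM.symm ≪≫ Groth.L00.Tensor.tensorUnitRight _)
    exact fin _ _ (by omega) (by omega)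

end Groth.Agent.S16520
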