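
import Groth.Statements.S1653
import Groth.Agent.L22.FibreSemicont

set_option autoImplicit false
universe u
open CategoryTheory CategoryTheory.Limits AlgebraicGeometry
open Variety

namespace Groth.Agent.S1653

/-- Let f : X → Y be a k-morphism of schemes locally of finite type over a field k, with X irreducible
of dimension a, and let the closure of the image of f have dimension b. Then the local fibre
dimension of f at every point of X is at least a - b, and the set of points where it equals a - b is
open and dense. -/
theorem result (k : Type u) [Field k] (X Y : Scheme.{u}) [X.Over (Spec (CommRingCat.of k))] [Y.Over (Spec (CommRingCat.of k))]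
    [LocallyOfFiniteType (X ↘ (Spec (CommRingCat.of k)))] [LocallyOfFiniteType (Y ↘ (Spec (CommRingCat.of k)))] [IrreducibleSpace X]
    (f : X ⟶ Y) (hf : f ≫ (Y ↘ (Spec (CommRingCat.of k))) = X ↘ (Spec (CommRingCat.of k))) (a b : ℕ) (ha : topologicalKrullDim X = a)
    (hb : topologicalKrullDim (closure (Set.range f.base)) = b) :
    (∀ x : X, ((a - b : ℕ) : WithBot ℕ∞) ≤ FlatMor.fibreDimAt f x) ∧
      IsOpen {x : X | FlatMor.fibreDimAt f x = (a - b : ℕ)} ∧ Dense {x : X | FlatMor.fibreDimAt f x = (a - b : ℕ)} := by
  classical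
  haveI : LocallyOfFiniteType f :=
    have : LocallyOfFiniteType (f ≫ (Y ↘ (Spec (CommRingCat.of k)))) := hf ▸ inferInstance
    locallyOfFiniteType_of_comp f (Y ↘ (Spec (CommRingCat.of k)))
  have hξ : topologicalKrullDim (closure ({genericPoint X} : Set X)) = (a : WithBot ℕ∞) := by
    rw [(genericPoint_spec X).def, (Homeomorph.Set.univ X).isHomeomorph.topologicalKrullDim_eq, ha]
  have hη : topologicalKrullDim (closure ({f (genericPoint X)} : Set Y)) = (b : WithBot ℕ∞) := by
    rw [← hb, ← Set.image_univ, ← (genericPoint_spec X).def]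
    change _ = topologicalKrullDim (closure (f '' closure {genericPoint X}) : Set Y)
    rw [closure_image_closure f.continuous, Set.image_singleton]
  have hge : ∀ x : X, ((a - b : ℕ) : WithBot ℕ∞) ≤ FlatMor.fibreDimAt f x := by
    intro x
    obtain ⟨z, cξ, aξ, cz, a', -, hzx, hfz, h1, h2, h3, h4, h5⟩ :=
      Groth.L22.FibreBound.exists_fibre_ge k f hf (genericPoint_specializes x)
    have e1 : cξ = a := by exact_mod_cast h1.symm.trans hξ
    have e2 : aξ = b := by exact_mod_cast h2.symm.trans hη
    refine (Groth.L22.FibreSemicont.le_fibreDimAt_iff k f hf x _).2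
      ⟨z, cz, a', hzx, hfz, h3, h4, ?_⟩
    obtain ⟨a'', b'', ha'', -, hab''⟩ := Groth.L22.FibreDim.exists_dim_closure_add k f hf z
    rw [hfz] at ha''
    have e3 : a'' = a' := by exact_mod_cast ha''.symm.trans h4
    have e4 : a'' + b'' = cz := by exact_mod_cast hab''.symm.trans h3
    omega
  have hset : {x : X | FlatMor.fibreDimAt f x = (a - b : ℕ)} =
      {x : X | ((a - b + 1 : ℕ) : WithBot ℕ∞) ≤ FlatMor.fibreDimAt f x}ᶜ := by
    ext x
    simp only [Set.mem_ofPred_eq, Set.mem_compl_iff]
    refine ⟨fun h hle => ?_, fun h => le_antisymm ?_ (hge x)⟩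
    · rw [h] at hle
      norm_cast at hle
      omega
    · by_contra hne
      apply h
      rw [Groth.L22.FibreSemicont.fibreDimAt_eq_iSup] at hne ⊢
      rw [iSup_le_iff] at hne
      push Not at hne
      obtain ⟨z, hz⟩ := hne
      refine le_iSup_of_le z ?_
      obtain ⟨a', b', ha', hb', hab'⟩ := Groth.L22.FibreDim.exists_dim_closure_add k f hf z.1
      rw [z.2.2] at hb'
      rw [hb'] at hz ⊢
      exact_mod_cast (show a - b + 1 ≤ b' by
        have : a - b < b' := by exact_mod_cast hz
        omega)
  refine ⟨hge, ?_, ?_⟩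
  · rw [hset]
    exact (Groth.L22.FibreSemicont.isClosed_le_fibreDimAt k f hf _).isOpen_compl
  · have hmem : genericPoint X ∈ {x : X | FlatMor.fibreDimAt f x = (a - b : ℕ)} := by
      rw [hset]
      intro hle
      obtain ⟨z, cz, a', hzx, -, hcz, ha', hle'⟩ :=
        (Groth.L22.FibreSemicont.le_fibreDimAt_iff k f hf _ _).1 hle
      have hz : z = genericPoint X := (hzx.antisymm (genericPoint_specializes z)).eq
      subst hz
      have e1 : cz = a := by exact_mod_cast hcz.symm.trans hξ
      have e2 : a' = b := by exact_mod_cast ha'.symm.trans hη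
      omega
    refine Dense.mono (Set.singleton_subset_iff.2 hmem) ?_
    exact dense_iff_closure_eq.2 (genericPoint_spec X).def

end Groth.Agent.S1653
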