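import Groth.Statements.S16532
import Groth.Agent.L18.PlaneQuadric
-- import your own Groth.Agent.* helpers here

set_option autoImplicit false
universe u
open CategoryTheory CategoryTheory.Limits AlgebraicGeometry
open Fano

namespace Groth.Agent.S16532

/-- Over an algebraically closed field k of characteristic zero (in place of the complex numbers), let Σ
⊂ P^4 be the union of a 2-plane Σ₁ and a smooth quadric surface Σ₂ meeting along a line; then
H^i(P^4, I_Σ(2)) = 0 for all i > 0. Here Σ₁ = V_+(l₁, l₂) and Σ₂ = V_+(m, q) for linearly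
independent linear forms l₁, l₂, m and a quadratic form q in the ideal (l₁, l₂, m) (so Σ₁ ∩ Σ₂ is
the line V_+(l₁, l₂, m)), with V_+(m, q) smooth of dimension 2 over k; I_Σ is the intersection of
the ideal sheaves of Σ₁ and Σ₂, and the conclusion says that the i-th cohomology of I_Σ ⊗ O(2) on
P^4_k vanishes for every i ≥ 1. -/
theorem result (k : Type u) [Field k]
    [IsAlgClosed k] [CharZero k] (l₁ l₂ m : LefPen.Form 4 k 1) (hlin : LinearIndependent k ![l₁, l₂, m])
    (q : LefPen.Form 4 k 2) (a b c : LefPen.Form 4 k 1) (hq : q.1 = a.1 * l₁.1 + b.1 * l₂.1 + c.1 * m.1)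
    [Smooth ((LefPen.hypIdeal m ⊔ LefPen.hypIdeal q).subschemeι ≫ CohB1.ProjSpace.toSpec 4 k)]
    (hdim : topologicalKrullDim ↥(LefPen.hypIdeal m ⊔ LefPen.hypIdeal q).subscheme = 2)
    (i : ℕ) (hi : 1 ≤ i) :
    Subsingleton (Coh.HH (CohB1.ProjSpace 4 k)
      (CohB1.tensorMod (ClSub.idealMod ((LefPen.hypIdeal l₁ ⊔ LefPen.hypIdeal l₂) ⊓
        (LefPen.hypIdeal m ⊔ LefPen.hypIdeal q))) (Twist.twistProjSpace 4 k 2)) i) := by
  obtain ⟨j, rfl⟩ : ∃ j, i = j + 1 := ⟨i - 1, by omega⟩
  exact Groth.L18.PlaneQuadric.vanish rfl l₁ l₂ m hlin q a b c hq j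

end Groth.Agent.S16532
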