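import Groth.Statements.S16537
import Groth.Agent.L15.DW.Nilp
import Mathlib.Tactic.Ring
import Mathlib.Tactic.LinearCombination
import Mathlib.Tactic.FieldSimp
import Mathlib.Algebra.BigOperators.Ring.Finset

set_option autoImplicit false
universe u v
open Disp

namespace Groth.Agent.S16537

/-- Let p be a prime and R a commutative ring in which p is nilpotent; write W = W(R) with Frobenius σ
and, for n ≥ 0, I_n ⊆ W for the kernel of the truncation W → W_n(R). Let (P, Q, F, V⁻¹) be a display
over R: a 3n-display whose operator V# : P → W ⊗_{σ,W} P (the W-linear map with V#(w·F x) = p·(w ⊗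
x) and V#(w·V⁻¹ y) = w ⊗ y) satisfies the nilpotence condition. Then for every n there is an N such
that the iterate V^{(N+1)#} : P → W ⊗_{σ^(N+1),W} P has image in I_n·(W ⊗_{σ^(N+1),W} P);
equivalently the map W_n(R) ⊗_W P → W_n(R) ⊗_{σ^(N+1),W} P induced by V^{(N+1)#} is zero. -/
theorem result (p : ℕ) [Fact p.Prime]
    (R : Type u) [CommRing R] (hp : IsNilpotent (p : R))
    (P : Type v) [AddCommGroup P] [Module (WittVector p R) P] (D : W4c1extbt610.Display3n p R P)
    (Vs : P →ₗ[WittVector p R] Dieu.BC (WittVector.frobenius : WittVector p R →+* WittVector p R) P) (hVs : Dieu.IsVSharp D Vs)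
    (hnil : Dieu.IsVNilpotent Vs) (n : ℕ) :
    ∃ N : ℕ, ∀ x : P, Dieu.vSharpPow Vs N x ∈
      (RingHom.ker (WittVector.truncate (p := p) (R := R) n)) •
        (⊤ : Submodule (WittVector p R) (Dieu.BC ((WittVector.frobenius : WittVector p R →+* WittVector p R) ^ (N + 1)) P)) := by
  haveI := D.finite
  haveI := D.projective
  obtain ⟨d, e, φ, hφ⟩ := Groth.L15.DW.exists_dual_basis (WittVector p R) P
  obtain ⟨N, hN⟩ := Groth.L15.DW.exists_vSharpPow_mem hp hφ Vs hnil n
  exact ⟨N, (Groth.L15.DW.vSharpPow_mem_iff Vs hφ N _).2 hN⟩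

end Groth.Agent.S16537
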