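import Groth.Statements.S16539
import Groth.Agent.L15.DW.Nilp
import Mathlib.Tactic.Ring
import Mathlib.Tactic.LinearCombination
import Mathlib.Tactic.FieldSimp
import Mathlib.Algebra.BigOperators.Ring.Finset

set_option autoImplicit false
universe u v
open Disp

namespace Groth.Agent.S16539

/-- Let p be a prime, k a perfect commutative ring of characteristic p, W = W(k) with Frobenius
automorphism σ, and M a finitely generated projective W-module carrying a Dieudonné module
structure, a σ-semilinear F and a σ⁻¹-semilinear V with FV = VF = p. Let D be the associated
3n-display (M, VM, F, V⁻¹): the 3n-display structure on M whose submodule is the image of V, whose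
Frobenius operator is F and whose inverse operator sends V m to m. Then D is a display, i.e. its
operator V# satisfies the nilpotence condition, if and only if V is topologically nilpotent for the
p-adic topology on M: for every e some power of V maps M into p^e M. -/
theorem result (p : ℕ) [Fact p.Prime] (k : Type u) [CommRing k]
    [CharP k p] [PerfectRing k p]
    (M : Type v) [AddCommGroup M] [Module (WittVector p k) M] [Module.Finite (WittVector p k) M]
    [Module.Projective (WittVector p k) M] (Dm : Dieu.DieuMod p k M) (D : W4c1extbt610.Display3n p k M)
    (hF : D.F = Dm.F) (hQ : ∀ x : M, x ∈ D.Q ↔ x ∈ Set.range Dm.V)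
    (hV : ∀ (m : M) (h : Dm.V m ∈ D.Q), D.Vinv ⟨Dm.V m, h⟩ = m) :
    Dieu.IsDisplay D ↔ Dm.VTopNilp := by
  exact Groth.L15.DW.isDisplay_iff_topNilp Dm D hF hQ hV

end Groth.Agent.S16539
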