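import Groth.Statements.S16541
import Groth.Agent.L01.WittEq

set_option autoImplicit false
universe u v
open CAlg

namespace Groth.Agent.S16541

/-- Let p be a prime, S → R a faithfully flat homomorphism of commutative rings and M a flat
W(S)-module; write ι₁, ι₂ : R → R ⊗_S R for the two coprojections, M_R = W(R) ⊗_{W(S)} M and M_{R ⊗
R} = W(R ⊗_S R) ⊗_{W(S)} M for the scalar extensions along W(S) → W(R) and W(S) → W(R ⊗_S R). Then 0
→ M → M_R ⇉ M_{R ⊗ R} is exact: the map x ↦ 1 ⊗ x from M to M_R is injective, and an element of M_R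
has the same image under the two maps w ⊗ x ↦ W(ι₁)(w) ⊗ x and w ⊗ x ↦ W(ι₂)(w) ⊗ x exactly when it
is of the form 1 ⊗ x. The hypothesis e records that the two composite ring maps W(S) → W(R) → W(R
⊗_S R) agree (both coprojections are S-algebra maps); it serves to identify the two targets. -/
theorem result (p : ℕ) [Fact p.Prime]
    (S R : Type u) [CommRing S] [CommRing R] [Algebra S R] [Module.FaithfullyFlat S R]
    (M : Type v) [AddCommGroup M] [Module (WittVector p S) M] [Module.Flat (WittVector p S) M]
    (e : (WittVector.map (Algebra.TensorProduct.includeLeftRingHom : R →+* TensorProduct S R R) : WittVector p R →+* WittVector p (TensorProduct S R R)).comp (WittVector.map (algebraMap S R) : WittVector p S →+* WittVector p R) = (WittVector.map ((Algebra.TensorProduct.includeRight : R →ₐ[S] TensorProduct S R R) : R →+* TensorProduct S R R) : WittVector p R →+* WittVector p (TensorProduct S R R)).comp (WittVector.map (algebraMap S R) : WittVector p S →+* WittVector p R)) :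
    Function.Injective (Dieu.BC.ι (WittVector.map (algebraMap S R) : WittVector p S →+* WittVector p R) M) ∧
      ∀ z : Dieu.BC (WittVector.map (algebraMap S R) : WittVector p S →+* WittVector p R) M,
        (Dieu.BC.castHom e (Dieu.BC.push (WittVector.map (algebraMap S R) : WittVector p S →+* WittVector p R) (WittVector.map (Algebra.TensorProduct.includeLeftRingHom : R →+* TensorProduct S R R) : WittVector p R →+* WittVector p (TensorProduct S R R)) z) = Dieu.BC.push (WittVector.map (algebraMap S R) : WittVector p S →+* WittVector p R) (WittVector.map ((Algebra.TensorProduct.includeRight : R →ₐ[S] TensorProduct S R R) : R →+* TensorProduct S R R) : WittVector p R →+* WittVector p (TensorProduct S R R)) z ↔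
          z ∈ Set.range (Dieu.BC.ι (WittVector.map (algebraMap S R) : WittVector p S →+* WittVector p R) M)) := by
  let g : WittVector p S →+* WittVector p R := WittVector.map (algebraMap S R)
  let i₁ : WittVector p R →+* WittVector p (TensorProduct S R R) :=
    WittVector.map (Algebra.TensorProduct.includeLeftRingHom : R →+* TensorProduct S R R)
  let i₂ : WittVector p R →+* WittVector p (TensorProduct S R R) :=
    WittVector.map ((Algebra.TensorProduct.includeRight : R →ₐ[S] TensorProduct S R R) : R →+* TensorProduct S R R)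
  have he : ∀ a, i₁ (g a) = i₂ (g a) := fun a => RingHom.congr_fun e a
  let φ₁ : Dieu.Res g →ₗ[WittVector p S] Dieu.Res (i₂.comp g) :=
    { toFun := fun t => Dieu.Res.mk _ (i₁ t.val)
      map_add' := fun s t => by apply Dieu.Res.ext; simp [map_add]
      map_smul' := fun a t => by apply Dieu.Res.ext; simp [map_mul, he] }
  let φ₂ : Dieu.Res g →ₗ[WittVector p S] Dieu.Res (i₂.comp g) :=
    { toFun := fun t => Dieu.Res.mk _ (i₂ t.val)
      map_add' := fun s t => by apply Dieu.Res.ext; simp [map_add]
      map_smul' := fun a t => by apply Dieu.Res.ext; simp [map_mul] }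
  let f : WittVector p S →ₗ[WittVector p S] Dieu.Res g :=
    { toFun := fun a => Dieu.Res.mk g (g a)
      map_add' := fun a b => by apply Dieu.Res.ext; simp [map_add]
      map_smul' := fun a b => by apply Dieu.Res.ext; simp [map_mul] }
  have hinj : Function.Injective (algebraMap S R) := FaithfulSMul.algebraMap_injective S R
  have hf : Function.Injective f := fun a b hab => WittVector.map_injective _ hinj hab
  have hf1 : f 1 = Dieu.Res.mk g 1 := congrArg (Dieu.Res.mk g) (map_one g)
  have h := Groth.L01.WittEq.equalizer_tensor f φ₁ φ₂ hf (fun a => congrArg (Dieu.Res.mk (i₂.comp g)) (he a)) (fun b hb => by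
    have hb' : i₁ b.val = i₂ b.val := hb
    have hc : ∀ i, ∃ r : S, algebraMap S R r = b.val.coeff i := fun i =>
      Groth.L01.WittEq.exists_algebraMap_eq _ (congrArg (fun z => z.coeff i) hb')
    choose c hc using hc
    exact ⟨WittVector.mk p c, WittVector.ext fun i => hc i⟩) M
  have hpush₁ : ∀ z : Dieu.BC g M, Dieu.BC.castHom e (Dieu.BC.push g i₁ z) =
      TensorProduct.comm _ _ _ (φ₁.lTensor M (TensorProduct.comm _ _ _ z)) := fun z => by
    induction z using TensorProduct.induction_on with
    | zero =>
      rw [map_zero, map_zero, map_zero]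
      exact (congrArg _ (Dieu.BC.push g i₁).map_zero).trans (Dieu.BC.castHom e).map_zero
    | tmul b x =>
      show Dieu.BC.castHom e (Dieu.BC.push g i₁ (Dieu.BC.tmul g b.val x)) = _
      rw [Dieu.BC.push_tmul, Dieu.BC.castHom_tmul]
      rfl
    | add u v hu hv =>
      rw [map_add, map_add, map_add, ← hu, ← hv]
      exact (congrArg _ ((Dieu.BC.push g i₁).map_add u v)).trans ((Dieu.BC.castHom e).map_add _ _)
  have hpush₂ : ∀ z : Dieu.BC g M, Dieu.BC.push g i₂ z =
      TensorProduct.comm _ _ _ (φ₂.lTensor M (TensorProduct.comm _ _ _ z)) := fun z => by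
    induction z using TensorProduct.induction_on with
    | zero =>
      rw [map_zero, map_zero, map_zero]
      exact (Dieu.BC.push g i₂).map_zero
    | tmul b x =>
      show Dieu.BC.push g i₂ (Dieu.BC.tmul g b.val x) = _
      rw [Dieu.BC.push_tmul]
      rfl
    | add u v hu hv =>
      rw [map_add, map_add, map_add, ← hu, ← hv]
      exact (Dieu.BC.push g i₂).map_add u v
  have hι : ∀ m : M, Dieu.BC.ι g M m = TensorProduct.comm _ _ _ (m ⊗ₜ f 1) := fun m => by
    rw [hf1]; rfl
  refine ⟨fun m m' hm => ?_, fun z => ⟨fun hz => ?_, ?_⟩⟩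
  · rw [hι, hι] at hm
    exact h.1 ((TensorProduct.comm _ _ _).injective hm)
  · have hz' : Dieu.BC.castHom e (Dieu.BC.push g i₁ z) = Dieu.BC.push g i₂ z := hz
    rw [hpush₁, hpush₂] at hz'
    obtain ⟨m, hm⟩ := h.2 _ ((TensorProduct.comm _ _ _).injective hz')
    refine ⟨m, ?_⟩
    rw [hι, hm]
    exact (TensorProduct.comm _ _ _).symm_apply_apply z
  · rintro ⟨m, rfl⟩
    show Dieu.BC.castHom e (Dieu.BC.push g i₁ (Dieu.BC.tmul g 1 m)) = Dieu.BC.push g i₂ (Dieu.BC.tmul g 1 m)
    rw [Dieu.BC.push_tmul, Dieu.BC.push_tmul, Dieu.BC.castHom_tmul, map_one, map_one]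

end Groth.Agent.S16541
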