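import Groth.Statements.S16545
import Groth.Agent.S16541
import Groth.Agent.S16542
-- import your own Groth.Agent.* helpers here

set_option autoImplicit false
universe u v
open Disp

namespace Groth.Agent.S16545

/-- Let p be a prime, S → R a faithfully flat homomorphism of commutative rings with p nilpotent in S,
ι₁, ι₂ : R → R ⊗_S R the two coprojections, and (P, Q, F, V⁻¹), (P', Q', F', V'⁻¹) displays over S
with base changes (P_R, Q_R, F_R, V_R⁻¹) and (P'_R, Q'_R, F'_R, V'_R⁻¹) along S → R (the 3n-display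
structures on W(R) ⊗_{W(S)} P and W(R) ⊗_{W(S)} P' with Q_R = ker(P_R → R ⊗_S P/Q), F_R(w ⊗ x) =
σ(w) ⊗ F x, V_R⁻¹(w ⊗ y) = σ(w) ⊗ V⁻¹ y for y ∈ Q, V_R⁻¹(V(w) ⊗ x) = w ⊗ F x, and likewise for P').
Let χ : P_R → P'_R be a homomorphism of 3n-displays whose two scalar extensions along W(ι₁) and
W(ι₂) agree, after the modules W(R ⊗_S R) ⊗_{W(ι_i),W(R)} (W(R) ⊗_{W(S)} P) are mapped to W(R ⊗_S R)
⊗_{W(S)} P by the canonical maps u ⊗ (w ⊗ x) ↦ u·W(ι_i)(w) ⊗ x (and likewise for P'). Then there is
exactly one homomorphism of 3n-displays ψ : P → P' over S with id ⊗ ψ = χ: the sequence 0 → Hom(P,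
P') → Hom(P_R, P'_R) ⇉ Hom(P_{R⊗R}, P'_{R⊗R}) is exact. The hypotheses e₁, e₂ record that both
composite ring maps W(S) → W(R) → W(R ⊗_S R) equal W(S → R ⊗_S R); they serve to identify targets. -/
theorem castHom_eq.{a, b, c} {A : Type a} {B : Type b} [CommRing A] [CommRing B] {P : Type c} [AddCommGroup P]
    [Module A P] {g g' gT : A →+* B} (e₁ : g = gT) (e₂ : g' = gT) (z : Dieu.BC g P) (z' : Dieu.BC g' P)
    (h : Dieu.BC.castHom e₁ z = Dieu.BC.castHom e₂ z') :
    Dieu.BC.castHom (e₁.trans e₂.symm) z = z' := by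
  subst e₁; subst e₂; exact h

theorem result (p : ℕ) [Fact p.Prime]
    (S R : Type u) [CommRing S] [CommRing R] [Algebra S R] [Module.FaithfullyFlat S R] (hp : IsNilpotent (p : S))
    (e₁ : (WittVector.map (Algebra.TensorProduct.includeLeftRingHom : R →+* TensorProduct S R R) : WittVector p R →+* WittVector p (TensorProduct S R R)).comp (WittVector.map (algebraMap S R) : WittVector p S →+* WittVector p R) = (WittVector.map (algebraMap S (TensorProduct S R R)) : WittVector p S →+* WittVector p (TensorProduct S R R)))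
    (e₂ : (WittVector.map ((Algebra.TensorProduct.includeRight : R →ₐ[S] TensorProduct S R R) : R →+* TensorProduct S R R) : WittVector p R →+* WittVector p (TensorProduct S R R)).comp (WittVector.map (algebraMap S R) : WittVector p S →+* WittVector p R) = (WittVector.map (algebraMap S (TensorProduct S R R)) : WittVector p S →+* WittVector p (TensorProduct S R R)))
    (P P' : Type v) [AddCommGroup P] [Module (WittVector p S) P] [AddCommGroup P'] [Module (WittVector p S) P']
    (D : W4c1extbt610.Display3n p S P) (D' : W4c1extbt610.Display3n p S P')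
    (hD : Dieu.IsDisplay D) (hD' : Dieu.IsDisplay D')
    (DR : W4c1extbt610.Display3n p R (Dieu.BC (WittVector.map (algebraMap S R) : WittVector p S →+* WittVector p R) P)) (hDR : Dieu.IsDispBaseChange (algebraMap S R) D DR)
    (DR' : W4c1extbt610.Display3n p R (Dieu.BC (WittVector.map (algebraMap S R) : WittVector p S →+* WittVector p R) P')) (hDR' : Dieu.IsDispBaseChange (algebraMap S R) D' DR')
    (χ : Dieu.BC (WittVector.map (algebraMap S R) : WittVector p S →+* WittVector p R) P →ₗ[WittVector p R] Dieu.BC (WittVector.map (algebraMap S R) : WittVector p S →+* WittVector p R) P') (hχ : W4c1extbt610.IsHom DR DR' χ)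
    (hdesc : ∀ (z₁ : Dieu.BC (WittVector.map (Algebra.TensorProduct.includeLeftRingHom : R →+* TensorProduct S R R) : WittVector p R →+* WittVector p (TensorProduct S R R)) (Dieu.BC (WittVector.map (algebraMap S R) : WittVector p S →+* WittVector p R) P)) (z₂ : Dieu.BC (WittVector.map ((Algebra.TensorProduct.includeRight : R →ₐ[S] TensorProduct S R R) : R →+* TensorProduct S R R) : WittVector p R →+* WittVector p (TensorProduct S R R)) (Dieu.BC (WittVector.map (algebraMap S R) : WittVector p S →+* WittVector p R) P)),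
      (Dieu.BC.castHom (P := P) e₁).comp (Dieu.BC.lift (WittVector.map (Algebra.TensorProduct.includeLeftRingHom : R →+* TensorProduct S R R) : WittVector p R →+* WittVector p (TensorProduct S R R)) (Dieu.BC.push (WittVector.map (algebraMap S R) : WittVector p S →+* WittVector p R) (WittVector.map (Algebra.TensorProduct.includeLeftRingHom : R →+* TensorProduct S R R) : WittVector p R →+* WittVector p (TensorProduct S R R)))) z₁ = (Dieu.BC.castHom (P := P) e₂).comp (Dieu.BC.lift (WittVector.map ((Algebra.TensorProduct.includeRight : R →ₐ[S] TensorProduct S R R) : R →+* TensorProduct S R R) : WittVector p R →+* WittVector p (TensorProduct S R R)) (Dieu.BC.push (WittVector.map (algebraMap S R) : WittVector p S →+* WittVector p R) (WittVector.map ((Algebra.TensorProduct.includeRight : R →ₐ[S] TensorProduct S R R) : R →+* TensorProduct S R R) : WittVector p R →+* WittVector p (TensorProduct S R R)))) z₂ →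
        (Dieu.BC.castHom (P := P') e₁).comp (Dieu.BC.lift (WittVector.map (Algebra.TensorProduct.includeLeftRingHom : R →+* TensorProduct S R R) : WittVector p R →+* WittVector p (TensorProduct S R R)) (Dieu.BC.push (WittVector.map (algebraMap S R) : WittVector p S →+* WittVector p R) (WittVector.map (Algebra.TensorProduct.includeLeftRingHom : R →+* TensorProduct S R R) : WittVector p R →+* WittVector p (TensorProduct S R R)))) (Dieu.BC.map (WittVector.map (Algebra.TensorProduct.includeLeftRingHom : R →+* TensorProduct S R R) : WittVector p R →+* WittVector p (TensorProduct S R R)) χ z₁) =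
          (Dieu.BC.castHom (P := P') e₂).comp (Dieu.BC.lift (WittVector.map ((Algebra.TensorProduct.includeRight : R →ₐ[S] TensorProduct S R R) : R →+* TensorProduct S R R) : WittVector p R →+* WittVector p (TensorProduct S R R)) (Dieu.BC.push (WittVector.map (algebraMap S R) : WittVector p S →+* WittVector p R) (WittVector.map ((Algebra.TensorProduct.includeRight : R →ₐ[S] TensorProduct S R R) : R →+* TensorProduct S R R) : WittVector p R →+* WittVector p (TensorProduct S R R)))) (Dieu.BC.map (WittVector.map ((Algebra.TensorProduct.includeRight : R →ₐ[S] TensorProduct S R R) : R →+* TensorProduct S R R) : WittVector p R →+* WittVector p (TensorProduct S R R)) χ z₂)) :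
    ∃! ψ : P →ₗ[WittVector p S] P', W4c1extbt610.IsHom D D' ψ ∧ Dieu.BC.map (WittVector.map (algebraMap S R) : WittVector p S →+* WittVector p R) ψ = χ := by
  haveI := D'.finite
  haveI := D'.projective
  obtain ⟨hinj, heq⟩ := Groth.Agent.S16541.result p S R P' (e₁.trans e₂.symm)
  have key : ∀ x : P, ∃ y : P', Dieu.BC.ι (WittVector.map (algebraMap S R) : WittVector p S →+* WittVector p R) P' y = χ (Dieu.BC.ι (WittVector.map (algebraMap S R) : WittVector p S →+* WittVector p R) P x) := by
    intro x
    refine (heq _).1 ?_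
    have h := hdesc (Dieu.BC.ι _ _ (Dieu.BC.ι (WittVector.map (algebraMap S R) : WittVector p S →+* WittVector p R) P x)) (Dieu.BC.ι _ _ (Dieu.BC.ι (WittVector.map (algebraMap S R) : WittVector p S →+* WittVector p R) P x)) ?_
    · simp only [LinearMap.comp_apply, Dieu.BC.ι_apply, Dieu.BC.map_tmul, Dieu.BC.lift_tmul, one_smul] at h
      rw [Dieu.BC.ι_apply]
      exact castHom_eq e₁ e₂ _ _ h
    · simp only [LinearMap.comp_apply, Dieu.BC.ι_apply, Dieu.BC.lift_tmul, one_smul, Dieu.BC.push_tmul, map_one, Dieu.BC.castHom_tmul]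
  choose ψ₀ hψ₀ using key
  let ψ : P →ₗ[WittVector p S] P' :=
    { toFun := ψ₀
      map_add' := fun x y => hinj (by rw [map_add, hψ₀, hψ₀, hψ₀, map_add, map_add])
      map_smul' := fun a x => hinj (by
        rw [RingHom.id_apply, LinearMap.map_smulₛₗ, hψ₀, hψ₀, LinearMap.map_smulₛₗ, map_smul]) }
  have hψ : ∀ x, Dieu.BC.ι (WittVector.map (algebraMap S R) : WittVector p S →+* WittVector p R) P' (ψ x) = χ (Dieu.BC.ι (WittVector.map (algebraMap S R) : WittVector p S →+* WittVector p R) P x) := hψ₀
  have hF : ∀ x, Dieu.BC.ι (WittVector.map (algebraMap S R) : WittVector p S →+* WittVector p R) P (D.F x) = DR.F (Dieu.BC.ι (WittVector.map (algebraMap S R) : WittVector p S →+* WittVector p R) P x) := by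
    intro x
    simp only [Dieu.BC.ι_apply]
    rw [hDR.F_tmul, map_one]
  have hF' : ∀ x, Dieu.BC.ι (WittVector.map (algebraMap S R) : WittVector p S →+* WittVector p R) P' (D'.F x) = DR'.F (Dieu.BC.ι (WittVector.map (algebraMap S R) : WittVector p S →+* WittVector p R) P' x) := by
    intro x
    simp only [Dieu.BC.ι_apply]
    rw [hDR'.F_tmul, map_one]
  have hQ : ∀ q, q ∈ D.Q ↔ Dieu.BC.ι (WittVector.map (algebraMap S R) : WittVector p S →+* WittVector p R) P q ∈ DR.Q := fun q => Groth.Agent.S16542.result p S R hp P D hD DR hDR q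
  have hQ' : ∀ q, q ∈ D'.Q ↔ Dieu.BC.ι (WittVector.map (algebraMap S R) : WittVector p S →+* WittVector p R) P' q ∈ DR'.Q := fun q => Groth.Agent.S16542.result p S R hp P' D' hD' DR' hDR' q
  have hm : ∀ q : P, q ∈ D.Q → ψ q ∈ D'.Q := fun q hq =>
    (hQ' _).2 ((hψ q).symm ▸ hχ.mapsTo _ ((hQ q).1 hq))
  refine ⟨ψ, ⟨⟨hm, fun x => hinj ?_, fun q => hinj ?_⟩, Dieu.BC.ext (WittVector.map (algebraMap S R) : WittVector p S →+* WittVector p R) fun x => ?_⟩, fun ψ' hψ' => ?_⟩
  · rw [hψ, hF, hχ.comm_F, hF', hψ]
  · rw [hψ]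
    have h1 : Dieu.BC.ι (WittVector.map (algebraMap S R) : WittVector p S →+* WittVector p R) P (D.Vinv q) = DR.Vinv ⟨Dieu.BC.ι (WittVector.map (algebraMap S R) : WittVector p S →+* WittVector p R) P (q : P), (hQ _).1 q.2⟩ := by
      exact ((hDR.Vinv_tmul 1 q ((hQ _).1 q.2)).trans (by rw [map_one]; rfl)).symm
    have h2 : Dieu.BC.ι (WittVector.map (algebraMap S R) : WittVector p S →+* WittVector p R) P' (D'.Vinv ⟨ψ q, hm q q.2⟩) = DR'.Vinv ⟨Dieu.BC.ι (WittVector.map (algebraMap S R) : WittVector p S →+* WittVector p R) P' (ψ q), (hQ' _).1 (hm q q.2)⟩ := by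
      exact ((hDR'.Vinv_tmul 1 ⟨ψ q, hm q q.2⟩ ((hQ' _).1 (hm q q.2))).trans (by rw [map_one]; rfl)).symm
    rw [h1, h2, hχ.comm_Vinv]
    exact congrArg DR'.Vinv (Subtype.ext (hψ q).symm)
  · rw [Dieu.BC.map_tmul]
    exact hψ x
  · refine LinearMap.ext fun x => hinj ?_
    rw [hψ, ← hψ'.2, Dieu.BC.ι_apply, Dieu.BC.ι_apply, Dieu.BC.map_tmul]

end Groth.Agent.S16545
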