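import Groth.Statements.S16548
import Groth.Agent.L21.Residue.Separable

set_option autoImplicit false
universe u
open CategoryTheory CategoryTheory.Limits AlgebraicGeometry
attribute [local instance] Curv2.resAlgebra
open Curves

namespace Groth.Agent.S16548

/-- Let k be a field, X and Y smooth over k of relative dimension one (not necessarily proper), f : X ->
Y a finite k-morphism and x a closed point of X, with y = f(x). Suppose f is tamely ramified at x:
m_y O_{X,x} = m_x^e for an integer e ≥ 2 prime to the characteristic of k, and κ(x) is separable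
over κ(y). Then κ(x) is separable over k. (Consequently the field generated over k by the residue
fields of all such points is Galois over k.) -/
theorem result (k : Type u) [Field k]
    (X Y : Scheme.{u}) [X.Over (Spec (CommRingCat.of k))] [Y.Over (Spec (CommRingCat.of k))]
    [SmoothOfRelativeDimension 1 (X ↘ Spec (CommRingCat.of k))]
    [SmoothOfRelativeDimension 1 (Y ↘ Spec (CommRingCat.of k))]
    (f : X ⟶ Y) [IsFinite f] (hf : f ≫ (Y ↘ Spec (CommRingCat.of k)) = X ↘ Spec (CommRingCat.of k))
    (x : X) (hx : IsClosed ({x} : Set X)) (e : ℕ)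
    (he : (IsLocalRing.maximalIdeal (Y.presheaf.stalk (f.base x))).map (f.stalkMap x).hom =
      IsLocalRing.maximalIdeal (X.presheaf.stalk x) ^ e)
    (h2 : 2 ≤ e) (hp : ¬ ringChar k ∣ e)
    (hsep : @Algebra.IsSeparable (Y.residueField (f.base x)) (X.residueField x) _ _
      (f.residueFieldMap x).hom.toAlgebra) :
    Algebra.IsSeparable k (X.residueField x) := by
  refine Groth.L21.Residue.isSeparable_residueField_of_ramified k X Y f hf x (fun h => ?_) hsep
  have hreg : IsLocalRing.maximalIdeal (X.presheaf.stalk x) ^ e = IsLocalRing.maximalIdeal (X.presheaf.stalk x) :=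
    he.symm.trans h
  haveI : Smooth (X ↘ Spec (CommRingCat.of k)) := SmoothOfRelativeDimension.smooth 1 _
  haveI := Groth.L21.Smooth.regular_stalk (X ↘ Spec (CommRingCat.of k)) x
  have h0 : IsLocalRing.maximalIdeal (X.presheaf.stalk x) = ⊥ := by
    refine Submodule.eq_bot_of_le_smul_of_le_jacobson_bot (IsLocalRing.maximalIdeal (X.presheaf.stalk x)) _
      (IsNoetherian.noetherian _) ?_ (IsLocalRing.maximalIdeal_le_jacobson _)
    rw [Ideal.smul_eq_mul, ← pow_two]
    exact hreg.ge.trans (Ideal.pow_le_pow_right h2)
  exact absurd h0 (Groth.L21.Residue.maximalIdeal_stalk_ne_bot k X x hx)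

end Groth.Agent.S16548
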