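import Groth.Statements.S1655
import Groth.Agent.L19.BiratNormal

set_option autoImplicit false
universe u
open CategoryTheory CategoryTheory.Limits AlgebraicGeometry
open Variety

namespace Groth.Agent.S1655

/-- Let X be a Noetherian integral scheme, Y an integral scheme, and f : Y → X a proper morphism that
restricts to an isomorphism over some nonempty open subscheme of X. If x is a point of X whose local
ring is integrally closed and f is quasi-finite at some point lying over x, then f restricts to an
isomorphism over an open neighbourhood of x. -/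
theorem result {X Y : Scheme.{u}} [IsNoetherian X] [IsIntegral X] [IsIntegral Y]
    (f : Y ⟶ X) [IsProper f] (W : X.Opens) (hW : (W : Set X).Nonempty) (hfW : IsIso (f ∣_ W))
    (x : X) (hx : IsIntegrallyClosed (X.presheaf.stalk x)) (y : Y) (hy : f.base y = x) (hq : f.QuasiFiniteAt y) :
    ∃ V : X.Opens, x ∈ V ∧ IsIso (f ∣_ V) := by
  have hη : genericPoint X ∈ W := (genericPoint_spec X).mem_open_set_iff W.2 |>.2 (by simpa using hW)
  haveI := hfW
  obtain ⟨x₀, hx₀⟩ := (f ∣_ W).surjective ⟨genericPoint X, hη⟩
  have hfx : f x₀.1 = genericPoint X := by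
    rw [← morphismRestrict_base_coe, hx₀]
  have hξ : f (genericPoint Y) = genericPoint X :=
    (Specializes.antisymm (hfx ▸ (genericPoint_specializes x₀.1).map f.continuous) (genericPoint_specializes _)).eq
  have hmem : genericPoint Y ∈ f ⁻¹ᵁ W := by show f (genericPoint Y) ∈ W; rw [hξ]; exact hη
  have hbir : IsIso (f.stalkMap (genericPoint Y)) :=
    ((MorphismProperty.isomorphisms CommRingCat).arrow_mk_iso_iff (morphismRestrictStalkMap f W ⟨_, hmem⟩)).1
      (inferInstance : IsIso ((f ∣_ W).stalkMap ⟨_, hmem⟩))
  subst hy
  exact Groth.L19.exists_isIso_morphismRestrict_of_birational f hξ hbir y hq hx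
end Groth.Agent.S1655
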