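import Groth.Statements.S16551
import Groth.Agent.L05.GoingDown.FiniteNormal
-- import your own Groth.Agent.* helpers here

set_option autoImplicit false
universe u
open CategoryTheory CategoryTheory.Limits AlgebraicGeometry
open Models

namespace Groth.Agent.S16551

/-- Let R be a discrete valuation ring, W and Z integral normal schemes which are flat, of finite type
and of dimension 2 over Spec R, and ψ : W -> Z a finite surjective R-morphism. Let z be a closed
point of Z lying in the special fibre, w a point of W with ψ(w) = z, and Δ an irreducible component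
of the special fibre of Z with z ∈ Δ. Then some irreducible component Γ of the special fibre of W
contains w and satisfies ψ(Γ) = Δ. (The published statement asks W and Z only to be normal; they are
taken integral as well here.) -/
theorem result
    (R : Type u) [CommRing R] [IsDomain R] [IsDiscreteValuationRing R]
    (W Z : Over (Spec (CommRingCat.of R))) [IsIntegral W.left] [IsIntegral Z.left]
    (hWn : Pi1.IsNormalScheme W.left) (hZn : Pi1.IsNormalScheme Z.left)
    [Flat W.hom] [LocallyOfFiniteType W.hom] [QuasiCompact W.hom]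
    [Flat Z.hom] [LocallyOfFiniteType Z.hom] [QuasiCompact Z.hom]
    (hdW : topologicalKrullDim W.left = 2) (hdZ : topologicalKrullDim Z.left = 2)
    (ψ : W ⟶ Z) [IsFinite ψ.left] [Surjective ψ.left]
    (z : Z.left) (hzc : IsClosed ({z} : Set Z.left)) (hz : z ∈ Models.specialFibreSet R Z)
    (w : W.left) (hw : ψ.left.base w = z)
    (Δ : Set Z.left) (hΔ : Δ ∈ Models.fibreComponents R Z) (hzΔ : z ∈ Δ) :
    ∃ Γ ∈ Models.fibreComponents R W, w ∈ Γ ∧ ψ.left.base '' Γ = Δ := by
  have hcl := Models.isClosed_specialFibreSet R W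
  have hclZ := Models.isClosed_specialFibreSet R Z
  have hΔc : IsClosed Δ := closure_eq_iff_isClosed.mp (le_antisymm
    (hΔ.2 ⟨hΔ.1.1.closure, hclZ.closure_subset_iff.mpr hΔ.1.2⟩ subset_closure) subset_closure)
  obtain ⟨δ, hδ⟩ := QuasiSober.sober hΔ.1.1 hΔc
  have hδΔ : δ ∈ Δ := hδ.mem
  obtain ⟨w', hw', hψw'⟩ := Groth.L05.GoingDown.exists_generization ψ.left hZn w
    (δ := δ) (hδ.specializes (hw ▸ hzΔ))
  have hmem : ∀ x : W.left, x ∈ Models.specialFibreSet R W ↔
      ψ.left.base x ∈ Models.specialFibreSet R Z := by
    intro x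
    show W.hom.base x ∈ ({IsLocalRing.closedPoint R} : Set _) ↔
      Z.hom.base (ψ.left.base x) ∈ ({IsLocalRing.closedPoint R} : Set _)
    rw [← Scheme.Hom.comp_apply, Over.w ψ]
  have hw'fib : w' ∈ Models.specialFibreSet R W := (hmem w').mpr (hψw' ▸ hΔ.1.2 hδΔ)
  refine ⟨closure {w'}, ⟨⟨isIrreducible_singleton.closure,
    hcl.closure_subset_iff.mpr (Set.singleton_subset_iff.mpr hw'fib)⟩, ?_⟩,
    hw'.mem_closure, ?_⟩
  · intro S hS hΓS
    obtain ⟨η, hη⟩ := QuasiSober.sober hS.1.closure isClosed_closure
    have hηS : η ∈ closure S := hη.mem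
    have hηfib : η ∈ Models.specialFibreSet R W := hcl.closure_subset_iff.mpr hS.2 hηS
    have hηw : η ⤳ w' := hη.specializes (subset_closure (hΓS (subset_closure rfl)))
    have hT : closure {ψ.left.base η} = Δ := by
      have hsp : ψ.left.base η ⤳ δ := hψw' ▸ hηw.map ψ.left.continuous
      have hΔT : Δ ⊆ closure {ψ.left.base η} := by
        rw [← hδ]
        exact closure_minimal (Set.singleton_subset_iff.mpr hsp.mem_closure) isClosed_closure
      exact le_antisymm (hΔ.2 ⟨isIrreducible_singleton.closure,
        hclZ.closure_subset_iff.mpr (Set.singleton_subset_iff.mpr ((hmem η).mp hηfib))⟩ hΔT) hΔT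
    have hηδ : ψ.left.base η = δ := (show IsGenericPoint (ψ.left.base η) Δ from hT).eq hδ
    have : η = w' := (ψ.left.isDiscrete_preimage_singleton δ).eq_of_specializes hηw
      (by simpa using hηδ) (by simpa using hψw')
    exact fun x hx => this ▸ (hη.specializes (subset_closure hx)).mem_closure
  · rw [← ψ.left.isClosedMap.closure_image_eq_of_continuous ψ.left.continuous, Set.image_singleton,
      hψw']
    exact hδ

end Groth.Agent.S16551
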