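import Groth.Statements.S16557
import Groth.Agent.L03.SurfAdj.Tools
-- import your own Groth.Agent.* helpers here

set_option autoImplicit false
universe u
open CategoryTheory CategoryTheory.Limits AlgebraicGeometry TopologicalSpace
open Surf

namespace Groth.Agent.S16557

open Groth.L22.Inter Groth.L22.Nef Groth.L22.Big Groth.L03.Euler Groth.L03.SurfNum Groth.L03.SurfAdj
open Groth.L00.Tensor (tensorIso tensorComm tensorUnitLeft tensorUnitRight tensorAssoc)


/-- Let X be a smooth proper integral surface over an algebraically closed field k, W = Λ²Ω_{X/k} a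
canonical module, and suppose H⁰(X, W) = 0 (the source states this for smooth rational surfaces and
uses exactly the vanishing of H⁰(X, K_X)). If L is an invertible O_X-module with H⁰(X, L) ≠ 0, then
H²(X, L) = 0. -/
theorem result (k : Type u) [Field k] [IsAlgClosed k]
    (X : Scheme.{u}) [X.Over (Spec (CommRingCat.of k))] [IsIntegral X] [IsProper (X ↘ (Spec (CommRingCat.of k)))] [Smooth (X ↘ (Spec (CommRingCat.of k)))]
    (hdim : topologicalKrullDim X = 2)
    (W : X.Modules) (hW : ExtPow.IsExtPow 2 (Omega.sheaf (X ↘ (Spec (CommRingCat.of k)))) W)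
    (hpg : Subsingleton (Coh.HH X W 0))
    (L : X.Modules) (hL : PicF.IsInvertible L) (h0 : Nontrivial (Coh.HH X L 0)) :
    Subsingleton (Coh.HH X L 2) := by
  haveI := Groth.L21.RR.isNoetherian_of_proper (X := X) k
  have hd2 : topologicalKrullDim X = (2 : ℕ) := hdim.trans Nat.cast_ofNat.symm
  have hreg := reg_of_smooth k (X := X)
  obtain ⟨hWi, hflip, -, -⟩ := canonical k hdim hreg hW
  obtain ⟨L', hL', ⟨e⟩⟩ := Groth.L08.Cube.exists_inverse hL
  haveI := h0
  obtain ⟨s, hs⟩ := Groth.L21.RR.exists_hom_ne_zero (L := L)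
  haveI : Mono s := Groth.L21.RR.mono_of_ne_zero hL hs
  let T := CohB1.tensorMod W L'
  have hT : PicF.IsInvertible T := Groth.L18.GenLoc.isInvertible_tensor hWi hL'
  let f : T ⟶ W := (tensorUnitRight T).inv ≫ ((DCoh.tensorBi (X := X)).obj T).map s ≫
    (tensorAssoc W L' L ≪≫ tensorIso (Iso.refl W) (tensorComm L' L ≪≫ e) ≪≫ tensorUnitRight W).hom
  haveI : Mono (((DCoh.tensorBi (X := X)).obj T).map s) := by
    have hS : (ShortComplex.mk s (cokernel.π s) (cokernel.condition s)).ShortExact :=
      { exact := ShortComplex.exact_cokernel s }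
    exact (Groth.L16.FrameIso.shortExact_tensor_left (Groth.L21.RR.isFlat_of_isInvertible hT) _ hS).mono_f
  haveI : Mono f :=
    mono_comp' (inferInstanceAs (Mono (tensorUnitRight T).inv))
      (mono_comp' ‹Mono (((DCoh.tensorBi (X := X)).obj T).map s)›
        (inferInstanceAs (Mono (tensorAssoc W L' L ≪≫ tensorIso (Iso.refl W) (tensorComm L' L ≪≫ e) ≪≫ tensorUnitRight W).hom)))
  haveI := hpg
  haveI : Subsingleton (Coh.HH X T 0) :=
    (Groth.L21.RR.injective_hmap_zero f).subsingleton
  haveI := Groth.L16.ProperFinite.finite_HH k (Groth.L18.Ample.isCoh_of_isInvertible hL) 2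
  rw [← Module.finrank_zero_iff (R := k), show Module.finrank k (Coh.HH X L 2) =
    Module.finrank k (Coh.HH X T 0) from (hflip L L' hL ⟨e⟩ 0 (by omega)).symm]
  exact Module.finrank_zero_of_subsingleton

end Groth.Agent.S16557
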