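import Groth.Statements.S16561
import Groth.Agent.L03.BlowPt.CurveSeq
import Groth.Agent.L03.BlowPt.PlaneBlow
-- import your own Groth.Agent.* helpers here

set_option autoImplicit false
universe u
open CategoryTheory CategoryTheory.Limits AlgebraicGeometry TopologicalSpace
open Surf

namespace Groth.Agent.S16561

open Groth.L03.BlowPt Groth.L22.Big Groth.L03.SurfNum Groth.L00.Tensor

/-- Let k be an algebraically closed field, p_1, …, p_r distinct closed points of the projective plane
P²_k and σ : X → P²_k the blow-up of P²_k in the ideal of the reduced finite set {p_1, …, p_r}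
(universal property), X being regarded over k through σ; X is then an integral smooth proper surface
(carried as hypotheses). Write H = σ^*O(1), (L·M) = χ(O_X) − χ(L) − χ(M) + χ(L ⊗ M) for the
intersection number of invertible modules L, M, and for a closed subscheme C ⊆ X with ideal I_C
write (L·C) = χ(O_C ⊗ L) − χ(O_C) and C² = (I_C·I_C). A (−1)-curve is an integral closed
one-dimensional subscheme E ⊆ X with H¹(E, O_E) = 0 and E² = −1. Let L be an invertible O_X-module,
d = (L·H), χ⁻ = max(−χ(L), 0), and E a (−1)-curve with (H·E) ≤ d + 2. If dim_k H¹(X, L) = χ⁻, then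
(L·E) ≥ −1 − χ⁻. (The source takes the points in general position; that assumption plays no role
here.) -/
theorem result (k : Type u) [Field k] [IsAlgClosed k]
    (r : ℕ) (P : Fin r → ↥(CohB1.ProjSpace 2 k)) (hP : Function.Injective P)
    (hPc : ∀ i, IsClosed ({P i} : Set ↥(CohB1.ProjSpace 2 k))) (hZ : IsClosed (Set.range P))
    (X : Scheme.{u}) [X.Over (Spec (CommRingCat.of k))] (σ : X ⟶ CohB1.ProjSpace 2 k)
    (hσk : σ ≫ CohB1.ProjSpace.toSpec 2 k = X ↘ (Spec (CommRingCat.of k)))
    (hσ : BlowUp.IsBlowUp σ (Scheme.IdealSheafData.vanishingIdeal ⟨Set.range P, hZ⟩))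
    [IsIntegral X] [IsProper (X ↘ (Spec (CommRingCat.of k)))] [Smooth (X ↘ (Spec (CommRingCat.of k)))] (hdim : topologicalKrullDim X = 2)
    (L : X.Modules) (hL : PicF.IsInvertible L)
    (E : X.IdealSheafData) (hEi : IsIntegral E.subscheme) (hE1 : topologicalKrullDim (E.support : Set X) = 1)
    (hEg : Subsingleton (Coh.HH E.subscheme (Coh.structureModule E.subscheme) 1))
    (hEE : FGA.intNum k X 2 ![ClSub.idealMod E, ClSub.idealMod E] (Coh.structureModule X) = -1)
    (hEH : (Curv2.euler k X (CohB1.tensorMod (ClSub.quotMod E) ((Scheme.Modules.pullback σ).obj (Twist.twistProjSpace 2 k 1))) - Curv2.euler k X (ClSub.quotMod E)) ≤ FGA.intNum k X 2 ![L, ((Scheme.Modules.pullback σ).obj (Twist.twistProjSpace 2 k 1))] (Coh.structureModule X) + 2)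
    (h1 : (Module.finrank k (Coh.HH X L 1) : ℤ) = max (-Curv2.euler k X L) 0) :
    -1 - max (-Curv2.euler k X L) 0 ≤ (Curv2.euler k X (CohB1.tensorMod (ClSub.quotMod E) L) - Curv2.euler k X (ClSub.quotMod E)) := by
  have hd2 : topologicalKrullDim X = (2 : ℕ) := hdim.trans Nat.cast_ofNat.symm
  haveI := hEi
  have hreg := Groth.L03.SurfAdj.reg_of_smooth k (X := X)
  have hI := isInvertible_idealMod k hd2 hreg E hE1
  have hH := Groth.L18.Ample.isInvertible_pullback σ (Groth.L16.ProjTwist.isInvertible_twistProjSpace 2 k 1)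
  have hLI := Groth.L18.GenLoc.isInvertible_tensor hL hI
  have hχ := (Groth.L03.SurfAdj.curve_euler k E hE1).2.2 hEg
  have h2 : Subsingleton (Coh.HH X (CohB1.tensorMod L (ClSub.idealMod E)) 2) := by
    refine h2_zero k hPc hσk hσ hdim hLI ?_
    have e1 := degOn_cast k hI hH
    have e2 : (degOn k E ((Scheme.Modules.pullback σ).obj (Twist.twistProjSpace 2 k 1)) : ℚ) ≤
        ii k L ((Scheme.Modules.pullback σ).obj (Twist.twistProjSpace 2 k 1)) + 2 := by
      rw [← intNum_eq_ii k hd2.le]
      exact_mod_cast hEH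
    rw [ii_tensor k hd2.le hL hI hH]
    linarith
  have h := neg_euler_le_h1 k hd2 E hE1 hL h2
  omega

end Groth.Agent.S16561
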