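import Groth.Statements.S16563
import Groth.Agent.L03.BlowPt.CurveSeq
import Groth.Agent.L03.BlowPt.OffExc
import Groth.Agent.L03.BlowPt.PlaneBlow
-- import your own Groth.Agent.* helpers here

set_option autoImplicit false
universe u
open CategoryTheory CategoryTheory.Limits AlgebraicGeometry TopologicalSpace
open Surf

namespace Groth.Agent.S16563

open Groth.L03.BlowPt Groth.L22.Big Groth.L03.SurfNum Groth.L00.Tensor

/-- Let k be an algebraically closed field, p_1, …, p_r distinct closed points of the projective plane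
P²_k and σ : X → P²_k the blow-up of P²_k in the ideal of the reduced finite set {p_1, …, p_r}
(universal property), X being regarded over k through σ; X is then an integral smooth proper surface
(carried as hypotheses). Write H = σ^*O(1), (L·M) = χ(O_X) − χ(L) − χ(M) + χ(L ⊗ M) for the
intersection number of invertible modules L, M, and for a closed subscheme C ⊆ X with ideal I_C
write (L·C) = χ(O_C ⊗ L) − χ(O_C) and C² = (I_C·I_C). A (−1)-curve is an integral closed
one-dimensional subscheme E ⊆ X with H¹(E, O_E) = 0 and E² = −1. Let L be an invertible O_X-module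
and E a (−1)-curve with ideal I_E such that (L·E) = −s with s > 1. Then dim_k H⁰(X, L ⊗ I_E^s) =
dim_k H⁰(X, L); equivalently the injection H⁰(X, L ⊗ I_E^s) → H⁰(X, L) induced by I_E^s ⊆ O_X is
bijective. (The source takes the points in general position; that assumption plays no role here.) -/
theorem result (k : Type u) [Field k] [IsAlgClosed k]
    (r : ℕ) (P : Fin r → ↥(CohB1.ProjSpace 2 k)) (hP : Function.Injective P)
    (hPc : ∀ i, IsClosed ({P i} : Set ↥(CohB1.ProjSpace 2 k))) (hZ : IsClosed (Set.range P))
    (X : Scheme.{u}) [X.Over (Spec (CommRingCat.of k))] (σ : X ⟶ CohB1.ProjSpace 2 k)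
    (hσk : σ ≫ CohB1.ProjSpace.toSpec 2 k = X ↘ (Spec (CommRingCat.of k)))
    (hσ : BlowUp.IsBlowUp σ (Scheme.IdealSheafData.vanishingIdeal ⟨Set.range P, hZ⟩))
    [IsIntegral X] [IsProper (X ↘ (Spec (CommRingCat.of k)))] [Smooth (X ↘ (Spec (CommRingCat.of k)))] (hdim : topologicalKrullDim X = 2)
    (L : X.Modules) (hL : PicF.IsInvertible L)
    (E : X.IdealSheafData) (hEi : IsIntegral E.subscheme) (hE1 : topologicalKrullDim (E.support : Set X) = 1)
    (hEg : Subsingleton (Coh.HH E.subscheme (Coh.structureModule E.subscheme) 1))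
    (hEE : FGA.intNum k X 2 ![ClSub.idealMod E, ClSub.idealMod E] (Coh.structureModule X) = -1)
    (s : ℕ) (hs : 1 < s) (hLE : (Curv2.euler k X (CohB1.tensorMod (ClSub.quotMod E) L) - Curv2.euler k X (ClSub.quotMod E)) = -(s : ℤ)) :
    Module.finrank k (Coh.HH X (CohB1.tensorMod L (ClSub.idealMod (E ^ s))) 0) = Module.finrank k (Coh.HH X L 0) := by
  have hd2 : topologicalKrullDim X = (2 : ℕ) := hdim.trans Nat.cast_ofNat.symm
  haveI := hEi
  have hreg := Groth.L03.SurfAdj.reg_of_smooth k (X := X)
  have hI := isInvertible_idealMod k hd2 hreg E hE1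
  have hH := Groth.L18.Ample.isInvertible_pullback σ (Groth.L16.ProjTwist.isInvertible_twistProjSpace 2 k 1)
  have hE := (Groth.Agent.L19.IdealInvertible.isEffCartier_iff E).1 hI
  have eI : ii k (ClSub.idealMod E) (ClSub.idealMod E) = -1 := by
    rw [← intNum_eq_ii k hd2.le, hEE]; norm_num
  haveI := Groth.L21.RR.isNoetherian_of_proper (X := X) k
  suffices ∀ j ≤ s, Module.finrank k (Coh.HH X (CohB1.tensorMod L (ClSub.idealMod (E ^ j))) 0) =
      Module.finrank k (Coh.HH X L 0) from this s le_rfl
  intro j
  induction j with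
  | zero =>
    intro _
    obtain ⟨e⟩ := nonempty_idealMod_one (X := X)
    rw [pow_zero]
    exact Groth.L03.Euler.finrank_HH_of_iso (tensorIso (Iso.refl _) e ≪≫ tensorUnitRight L) 0
  | succ j ih =>
    intro hj
    have hpj := (Groth.Agent.L19.IdealInvertible.isEffCartier_iff (E ^ j)).2 (isEffCartier_pow hE j)
    have hLj := Groth.L18.GenLoc.isInvertible_tensor hL hpj
    have a : degOn k E (CohB1.tensorMod L (ClSub.idealMod (E ^ j))) = -(s : ℤ) + j := by
      have h1 : degOn k E L = -(s : ℤ) := hLE
      have : (degOn k E (CohB1.tensorMod L (ClSub.idealMod (E ^ j))) : ℚ) = (degOn k E L : ℚ) + j := by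
        rw [degOn_cast k hI hLj, degOn_cast k hI hL, ii_tensor_right k hd2.le hI hL hpj,
          ii_comm k (ClSub.idealMod E) (ClSub.idealMod (E ^ j)), ii_idealMod_pow k hd2.le hE hI j, eI]
        ring
      rw [h1] at this
      exact_mod_cast this
    obtain ⟨e⟩ := nonempty_idealMod_mul (isEffCartier_pow hE j) hE
    rw [pow_succ, Groth.L03.Euler.finrank_HH_of_iso (tensorIso (Iso.refl _) e ≪≫ (tensorAssoc _ _ _).symm) 0,
      finrank_h0_restrict k E hE1 hLj (by omega), ih (by omega)]

end Groth.Agent.S16563
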