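import Groth.Statements.S16564
import Groth.Agent.L03.BlowPt.CurveSeq
import Groth.Agent.L03.BlowPt.PlaneBlow
import Groth.Agent.L03.SurfNum.Gram
-- import your own Groth.Agent.* helpers here

set_option autoImplicit false
universe u
open CategoryTheory CategoryTheory.Limits AlgebraicGeometry TopologicalSpace
open Surf

namespace Groth.Agent.S16564

open Groth.L03.BlowPt Groth.L22.Big Groth.L03.SurfNum Groth.L00.Tensor

/-- Let k be an algebraically closed field, p_1, …, p_r distinct closed points of the projective plane
P²_k and σ : X → P²_k the blow-up of P²_k in the ideal of the reduced finite set {p_1, …, p_r}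
(universal property), X being regarded over k through σ; X is then an integral smooth proper surface
(carried as hypotheses). Write H = σ^*O(1), (L·M) = χ(O_X) − χ(L) − χ(M) + χ(L ⊗ M) for the
intersection number of invertible modules L, M, and for a closed subscheme C ⊆ X with ideal I_C
write (L·C) = χ(O_C ⊗ L) − χ(O_C) and C² = (I_C·I_C). A (−1)-curve is an integral closed
one-dimensional subscheme E ⊆ X with H¹(E, O_E) = 0 and E² = −1. Call an invertible module M
non-special when at most one of H⁰(X, M), H¹(X, M), H²(X, M) is nonzero. Suppose every invertible M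
with (M·E) ≥ −1 for every (−1)-curve E is non-special (the non-speciality hypothesis for X). Then no
integral closed one-dimensional subscheme C ⊆ X has C² ≤ −2. (The source concludes that the curves
of negative self-intersection are exactly the (−1)-curves; its argument treats C² ≤ −2, which is
what is stated here.) (The source takes the points in general position; that assumption plays no
role here.) -/
theorem result (k : Type u) [Field k] [IsAlgClosed k]
    (r : ℕ) (P : Fin r → ↥(CohB1.ProjSpace 2 k)) (hP : Function.Injective P)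
    (hPc : ∀ i, IsClosed ({P i} : Set ↥(CohB1.ProjSpace 2 k))) (hZ : IsClosed (Set.range P))
    (X : Scheme.{u}) [X.Over (Spec (CommRingCat.of k))] (σ : X ⟶ CohB1.ProjSpace 2 k)
    (hσk : σ ≫ CohB1.ProjSpace.toSpec 2 k = X ↘ (Spec (CommRingCat.of k)))
    (hσ : BlowUp.IsBlowUp σ (Scheme.IdealSheafData.vanishingIdeal ⟨Set.range P, hZ⟩))
    [IsIntegral X] [IsProper (X ↘ (Spec (CommRingCat.of k)))] [Smooth (X ↘ (Spec (CommRingCat.of k)))] (hdim : topologicalKrullDim X = 2)
    (hconj : ∀ (M : X.Modules), PicF.IsInvertible M →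
      (∀ (E : X.IdealSheafData), IsIntegral E.subscheme → topologicalKrullDim (E.support : Set X) = 1 →
        Subsingleton (Coh.HH E.subscheme (Coh.structureModule E.subscheme) 1) →
        FGA.intNum k X 2 ![ClSub.idealMod E, ClSub.idealMod E] (Coh.structureModule X) = -1 →
        -1 ≤ (Curv2.euler k X (CohB1.tensorMod (ClSub.quotMod E) M) - Curv2.euler k X (ClSub.quotMod E))) →
      ((Subsingleton (Coh.HH X M 0) ∧ Subsingleton (Coh.HH X M 1)) ∨ (Subsingleton (Coh.HH X M 0) ∧ Subsingleton (Coh.HH X M 2)) ∨
        (Subsingleton (Coh.HH X M 1) ∧ Subsingleton (Coh.HH X M 2))))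
    (C : X.IdealSheafData) (hCi : IsIntegral C.subscheme) (hC1 : topologicalKrullDim (C.support : Set X) = 1) :
    -1 ≤ FGA.intNum k X 2 ![ClSub.idealMod C, ClSub.idealMod C] (Coh.structureModule X) := by
  by_contra hlt
  push Not at hlt
  have hd2 : topologicalKrullDim X = (2 : ℕ) := hdim.trans Nat.cast_ofNat.symm
  haveI := hCi
  haveI := Groth.L21.RR.isNoetherian_of_proper (X := X) k
  have hreg := Groth.L03.SurfAdj.reg_of_smooth k (X := X)
  have hI := isInvertible_idealMod k hd2 hreg C hC1
  have hH := Groth.L18.Ample.isInvertible_pullback σ (Groth.L16.ProjTwist.isInvertible_twistProjSpace 2 k 1)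
  obtain ⟨N, -, hN, ⟨e⟩, -⟩ :=
    Groth.L08.Cube.exists_section_of_effCartier C ((Groth.Agent.L19.IdealInvertible.isEffCartier_iff C).1 hI)
  let e' : CohB1.tensorMod N (ClSub.idealMod C) ≅ Coh.structureModule X := tensorComm _ _ ≪≫ e
  have hCC : ii k (ClSub.idealMod C) (ClSub.idealMod C) < -1 := by
    rw [← intNum_eq_ii k hd2.le]; exact_mod_cast hlt
  -- sections
  have hdeg : degOn k C N < -1 := by
    have h : (degOn k C N : ℚ) < -1 := by
      rw [degOn_cast k hI hN, ii_comm, Gram.ii_inverse k hd2.le hI hN hI e, neg_neg]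
      exact hCC
    exact_mod_cast h
  have h0N : Nontrivial (Coh.HH X N 0) := by
    refine Module.nontrivial_of_finrank_pos (R := k) ?_
    rw [← finrank_h0_restrict k C hC1 hN (by omega), Groth.L03.Euler.finrank_HH_of_iso e' 0,
      show Module.finrank k (Coh.HH X (Coh.structureModule X) 0) = 1 from Groth.L22.CurveDeg.h0_structure_eq_one k]
    norm_num
  -- no h²
  have hNH := ii_line_nonneg k (σ := σ) hd2.le hN h0N
  have h2O : Subsingleton (Coh.HH X (CohB1.tensorMod N (ClSub.idealMod C)) 2) := by
    refine h2_zero k hPc hσk hσ hdim (Groth.L18.GenLoc.isInvertible_tensor hN hI) ?_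
    rw [Groth.L22.Big.ii_congr k e']
    exact lt_of_lt_of_eq (by norm_num) (Groth.L22.Inter.altT_unit k _).symm
  have h1N : ¬ Subsingleton (Coh.HH X N 1) := by
    intro h1
    have h := neg_euler_le_h1 k hd2 C hC1 hN h2O
    rw [Module.finrank_zero_of_subsingleton (R := k) (M := Coh.HH X N 1)] at h
    have := (Groth.L03.SurfAdj.curve_euler k C hC1).1
    have hdef : degOn k C N = Curv2.euler k X (CohB1.tensorMod (ClSub.quotMod C) N) -
      Curv2.euler k X (ClSub.quotMod C) := rfl
    omega
  -- apply the hypothesis
  refine (hconj N hN ?_).elim (fun h => not_subsingleton_iff_nontrivial.2 h0N h.1)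
    (fun h => h.elim (fun h => not_subsingleton_iff_nontrivial.2 h0N h.1) fun h => h1N h.1)
  intro E hEi hE1 _ hEE
  haveI := hEi
  have hJ := isInvertible_idealMod k hd2 hreg E hE1
  have hne : C ≠ E := by
    rintro rfl
    omega
  have h := Gram.curve_pair_nonneg k hd2.le C E hC1 hE1 hI hJ hne
  have h' : (0 : ℚ) ≤ degOn k E N := by
    rw [degOn_cast k hJ hN, ii_comm, Gram.ii_inverse k hd2.le hI hN hJ e, neg_neg]
    exact h
  have : (0 : ℤ) ≤ degOn k E N := by exact_mod_cast h'
  exact le_trans (by norm_num) this

end Groth.Agent.S16564
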