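import Groth.Statements.S16567
import Groth.Agent.L03.PlaneProj.Push
-- import your own Groth.Agent.* helpers here

set_option autoImplicit false
universe u
open CategoryTheory CategoryTheory.Limits AlgebraicGeometry TopologicalSpace
open Surf

namespace Groth.Agent.S16567

/-- Let k be an algebraically closed field, p_1, …, p_r distinct closed points of the projective plane
P²_k and σ : X → P²_k the blow-up of P²_k in the ideal of the reduced finite set {p_1, …, p_r}
(universal property), X being regarded over k through σ; X is then an integral smooth proper surface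
(carried as hypotheses). Write H = σ^*O(1), (L·M) = χ(O_X) − χ(L) − χ(M) + χ(L ⊗ M) for the
intersection number of invertible modules L, M, and for a closed subscheme C ⊆ X with ideal I_C
write (L·C) = χ(O_C ⊗ L) − χ(O_C) and C² = (I_C·I_C). Assume no three of the p_i are collinear (no
nonzero section of O(1) vanishes at three of them), write E_i for the exceptional curve over p_i
(closed subscheme of the inverse image ideal of the ideal of p_i), fix an index j and let π : X →
P¹_k be a k-morphism with π^*O(1) ≅ H ⊗ I_{E_j} (class H − E_j); such a π is the morphism resolving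
the projection from p_j, up to an automorphism of P¹_k, its fibre class being F = H − E_j. For an
invertible O_X-module L put d = (L·H) and m_i = (L·E_i) (so L is O(dH − Σ m_i E_i)). If d ≥ m_i +
m_j and m_i ≥ −1 for every i (i = j included), then π_*L is a finite locally free O_{P¹}-module of
rank d − m_j + 1 (a non-negative integer under these hypotheses). (Only the absence of three
collinear points among the p_i enters, as for R¹π_*L = 0.) -/
theorem result (k : Type u) [Field k] [IsAlgClosed k]
    (r : ℕ) (P : Fin r → ↥(CohB1.ProjSpace 2 k)) (hP : Function.Injective P)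
    (hPc : ∀ i, IsClosed ({P i} : Set ↥(CohB1.ProjSpace 2 k))) (hZ : IsClosed (Set.range P))
    (X : Scheme.{u}) [X.Over (Spec (CommRingCat.of k))] (σ : X ⟶ CohB1.ProjSpace 2 k)
    (hσk : σ ≫ CohB1.ProjSpace.toSpec 2 k = X ↘ (Spec (CommRingCat.of k)))
    (hσ : BlowUp.IsBlowUp σ (Scheme.IdealSheafData.vanishingIdeal ⟨Set.range P, hZ⟩))
    [IsIntegral X] [IsProper (X ↘ (Spec (CommRingCat.of k)))] [Smooth (X ↘ (Spec (CommRingCat.of k)))] (hdim : topologicalKrullDim X = 2)
    (hlin : ∀ (a b c : Fin r), a ≠ b → b ≠ c → a ≠ c → ∀ (hc : IsClosed ({P a, P b, P c} : Set ↥(CohB1.ProjSpace 2 k))),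
      Subsingleton (Coh.HH (CohB1.ProjSpace 2 k) (CohB1.tensorMod (Twist.twistProjSpace 2 k 1)
        (ClSub.idealMod (Scheme.IdealSheafData.vanishingIdeal ⟨{P a, P b, P c}, hc⟩))) 0))
    [HasInjectiveResolutions X.Modules] (j : Fin r)
    (π : X ⟶ CohB1.ProjSpace 1 k) (hπk : π ≫ CohB1.ProjSpace.toSpec 1 k = X ↘ (Spec (CommRingCat.of k)))
    (hπ : Nonempty (((Scheme.Modules.pullback π).obj (Twist.twistProjSpace 1 k 1)) ≅ CohB1.tensorMod ((Scheme.Modules.pullback σ).obj (Twist.twistProjSpace 2 k 1)) (ClSub.idealMod ((Scheme.IdealSheafData.vanishingIdeal ⟨{P j}, hPc j⟩).comap σ))))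
    (L : X.Modules) (hL : PicF.IsInvertible L)
    (hnum : ∀ i : Fin r, (Curv2.euler k X (CohB1.tensorMod (ClSub.quotMod ((Scheme.IdealSheafData.vanishingIdeal ⟨{P i}, hPc i⟩).comap σ)) L) - Curv2.euler k X (ClSub.quotMod ((Scheme.IdealSheafData.vanishingIdeal ⟨{P i}, hPc i⟩).comap σ))) + (Curv2.euler k X (CohB1.tensorMod (ClSub.quotMod ((Scheme.IdealSheafData.vanishingIdeal ⟨{P j}, hPc j⟩).comap σ)) L) - Curv2.euler k X (ClSub.quotMod ((Scheme.IdealSheafData.vanishingIdeal ⟨{P j}, hPc j⟩).comap σ))) ≤ FGA.intNum k X 2 ![L, ((Scheme.Modules.pullback σ).obj (Twist.twistProjSpace 2 k 1))] (Coh.structureModule X) ∧ -1 ≤ (Curv2.euler k X (CohB1.tensorMod (ClSub.quotMod ((Scheme.IdealSheafData.vanishingIdeal ⟨{P i}, hPc i⟩).comap σ)) L) - Curv2.euler k X (ClSub.quotMod ((Scheme.IdealSheafData.vanishingIdeal ⟨{P i}, hPc i⟩).comap σ)))) :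
    FlatMod.IsFinLocFreeOfRank (FGA.intNum k X 2 ![L, ((Scheme.Modules.pullback σ).obj (Twist.twistProjSpace 2 k 1))] (Coh.structureModule X) - (Curv2.euler k X (CohB1.tensorMod (ClSub.quotMod ((Scheme.IdealSheafData.vanishingIdeal ⟨{P j}, hPc j⟩).comap σ)) L) - Curv2.euler k X (ClSub.quotMod ((Scheme.IdealSheafData.vanishingIdeal ⟨{P j}, hPc j⟩).comap σ))) + 1).toNat ((Coh.push π).obj L) := by
  haveI : π.IsOver (Spec (CommRingCat.of k)) := ⟨hπk⟩
  exact (Groth.L03.PlaneProj.push_facts k hP hPc hσk hσ hdim j π hπ hlin hL hnum).2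

end Groth.Agent.S16567
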