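import Groth.Statements.S16569
import Groth.Agent.L03.PlaneProj.Contain
import Groth.Agent.L08.Cube.Inverse
-- import your own Groth.Agent.* helpers here

set_option autoImplicit false
universe u
open CategoryTheory CategoryTheory.Limits AlgebraicGeometry TopologicalSpace
open Surf

namespace Groth.Agent.S16569

open Groth.L22.Inter Groth.L22.Nef Groth.L22.Big Groth.L03.Euler Groth.L03.SurfNum

/-- Let k be an algebraically closed field, p_1, …, p_r distinct closed points of the projective plane
P²_k and σ : X → P²_k the blow-up of P²_k in the ideal of the reduced finite set {p_1, …, p_r}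
(universal property), X being regarded over k through σ; X is then an integral smooth proper surface
(carried as hypotheses). Write H = σ^*O(1), (L·M) = χ(O_X) − χ(L) − χ(M) + χ(L ⊗ M) for the
intersection number of invertible modules L, M, and for a closed subscheme C ⊆ X with ideal I_C
write (L·C) = χ(O_C ⊗ L) − χ(O_C) and C² = (I_C·I_C). A (−1)-curve is an integral closed
one-dimensional subscheme E ⊆ X with H¹(E, O_E) = 0 and E² = −1. Assume no three of the p_i are
collinear (no nonzero section of O(1) vanishes at three of them), write E_i for the exceptional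
curve over p_i (closed subscheme of the inverse image ideal of the ideal of p_i), fix an index j and
let π : X → P¹_k be a k-morphism with π^*O(1) ≅ H ⊗ I_{E_j} (class H − E_j); such a π is the
morphism resolving the projection from p_j, up to an automorphism of P¹_k, its fibre class being F =
H − E_j. For an invertible O_X-module L put d = (L·H) and m_i = (L·E_i) (so L is O(dH − Σ m_i E_i)).
Assume d ≥ m_i + m_j and m_i ≥ −1 for every i. If some (−1)-curve E with (E·F) = (L·F) (= d − m_j)
is contained in L, in the sense that L ⊗ I_E has a nonzero global section, then H¹(X, L) = 0. -/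
theorem result (k : Type u) [Field k] [IsAlgClosed k]
    (r : ℕ) (P : Fin r → ↥(CohB1.ProjSpace 2 k)) (hP : Function.Injective P)
    (hPc : ∀ i, IsClosed ({P i} : Set ↥(CohB1.ProjSpace 2 k))) (hZ : IsClosed (Set.range P))
    (X : Scheme.{u}) [X.Over (Spec (CommRingCat.of k))] (σ : X ⟶ CohB1.ProjSpace 2 k)
    (hσk : σ ≫ CohB1.ProjSpace.toSpec 2 k = X ↘ (Spec (CommRingCat.of k)))
    (hσ : BlowUp.IsBlowUp σ (Scheme.IdealSheafData.vanishingIdeal ⟨Set.range P, hZ⟩))
    [IsIntegral X] [IsProper (X ↘ (Spec (CommRingCat.of k)))] [Smooth (X ↘ (Spec (CommRingCat.of k)))] (hdim : topologicalKrullDim X = 2)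
    (hlin : ∀ (a b c : Fin r), a ≠ b → b ≠ c → a ≠ c → ∀ (hc : IsClosed ({P a, P b, P c} : Set ↥(CohB1.ProjSpace 2 k))),
      Subsingleton (Coh.HH (CohB1.ProjSpace 2 k) (CohB1.tensorMod (Twist.twistProjSpace 2 k 1)
        (ClSub.idealMod (Scheme.IdealSheafData.vanishingIdeal ⟨{P a, P b, P c}, hc⟩))) 0))
    [HasInjectiveResolutions X.Modules] (j : Fin r)
    (π : X ⟶ CohB1.ProjSpace 1 k) (hπk : π ≫ CohB1.ProjSpace.toSpec 1 k = X ↘ (Spec (CommRingCat.of k)))
    (hπ : Nonempty (((Scheme.Modules.pullback π).obj (Twist.twistProjSpace 1 k 1)) ≅ CohB1.tensorMod ((Scheme.Modules.pullback σ).obj (Twist.twistProjSpace 2 k 1)) (ClSub.idealMod ((Scheme.IdealSheafData.vanishingIdeal ⟨{P j}, hPc j⟩).comap σ))))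
    (L : X.Modules) (hL : PicF.IsInvertible L)
    (hnum : ∀ i : Fin r, (Curv2.euler k X (CohB1.tensorMod (ClSub.quotMod ((Scheme.IdealSheafData.vanishingIdeal ⟨{P i}, hPc i⟩).comap σ)) L) - Curv2.euler k X (ClSub.quotMod ((Scheme.IdealSheafData.vanishingIdeal ⟨{P i}, hPc i⟩).comap σ))) + (Curv2.euler k X (CohB1.tensorMod (ClSub.quotMod ((Scheme.IdealSheafData.vanishingIdeal ⟨{P j}, hPc j⟩).comap σ)) L) - Curv2.euler k X (ClSub.quotMod ((Scheme.IdealSheafData.vanishingIdeal ⟨{P j}, hPc j⟩).comap σ))) ≤ FGA.intNum k X 2 ![L, ((Scheme.Modules.pullback σ).obj (Twist.twistProjSpace 2 k 1))] (Coh.structureModule X) ∧ -1 ≤ (Curv2.euler k X (CohB1.tensorMod (ClSub.quotMod ((Scheme.IdealSheafData.vanishingIdeal ⟨{P i}, hPc i⟩).comap σ)) L) - Curv2.euler k X (ClSub.quotMod ((Scheme.IdealSheafData.vanishingIdeal ⟨{P i}, hPc i⟩).comap σ))))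
    (E : X.IdealSheafData) (hEi : IsIntegral E.subscheme) (hE1 : topologicalKrullDim (E.support : Set X) = 1)
    (hEg : Subsingleton (Coh.HH E.subscheme (Coh.structureModule E.subscheme) 1))
    (hEE : FGA.intNum k X 2 ![ClSub.idealMod E, ClSub.idealMod E] (Coh.structureModule X) = -1)
    (hEF : (Curv2.euler k X (CohB1.tensorMod (ClSub.quotMod E) ((Scheme.Modules.pullback π).obj (Twist.twistProjSpace 1 k 1))) - Curv2.euler k X (ClSub.quotMod E)) = FGA.intNum k X 2 ![L, ((Scheme.Modules.pullback π).obj (Twist.twistProjSpace 1 k 1))] (Coh.structureModule X))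
    (hcont : Nontrivial (Coh.HH X (CohB1.tensorMod L (ClSub.idealMod E)) 0)) :
    Subsingleton (Coh.HH X L 1) := by
  haveI : π.IsOver (Spec (CommRingCat.of k)) := ⟨hπk⟩
  haveI := hEi
  haveI := Groth.L03.PlaneProj.surjective_proj k hP hPc hσk hσ hdim j π hπ
  haveI : IsIntegral (CohB1.ProjSpace 1 k) := Groth.L16.ProjSpace.isIntegral 1 k
  have hd : topologicalKrullDim X = (2 : ℕ) := hdim.trans Nat.cast_ofNat.symm
  haveI := Groth.L21.RR.isNoetherian_of_proper (X := X) k
  have hI := isInvertible_idealMod k hd (Groth.L03.SurfAdj.reg_of_smooth k (X := X)) E hE1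
  obtain ⟨N, hN, ⟨e⟩⟩ := Groth.L08.Cube.exists_inverse hI
  have hEE' : ii k (ClSub.idealMod E) (ClSub.idealMod E) = -1 := by
    rw [← intNum_eq_ii k hd.le, hEE]; norm_num
  have hO := Groth.L18.Ample.isInvertible_pullback π (Groth.L16.ProjTwist.isInvertible_twistProjSpace 1 k 1)
  refine Groth.L03.PlaneProj.h1_of_contains k π hdim hN hL hI (Groth.L00.Tensor.tensorComm _ _ ≪≫ e) hcont ?_
    (Groth.L03.PlaneProj.h1_inverse_zero k hPc hσk hσ hdim E hE1 hEg hEE' hN (Groth.L00.Tensor.tensorComm _ _ ≪≫ e))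
    (Groth.L03.PlaneProj.push_facts k hP hPc hσk hσ hdim j π hπ hlin hL hnum).1
  have h1 : (FGA.intNum k X 2 ![L, (Scheme.Modules.pullback π).obj (Twist.twistProjSpace 1 k 1)] (Coh.structureModule X) : ℚ) =
      (Groth.L03.BlowPt.degOn k E ((Scheme.Modules.pullback π).obj (Twist.twistProjSpace 1 k 1)) : ℚ) := by
    exact_mod_cast hEF.symm
  rw [intNum_eq_ii k hd.le, Groth.L03.BlowPt.degOn_cast k hI hO] at h1
  rw [ii_tensor k hd.le hL hI hO, h1]
  ring

end Groth.Agent.S16569
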