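import Groth.Statements.S1657
import Groth.Agent.L21.RedCurve.VeryAmpleField
import Groth.Agent.L21.CurveDual.BaseChange
import Groth.Agent.L21.CurveDual.Exists
import Groth.Agent.L21.CurveAdj.PointedVA
import Groth.Agent.L21.Nodal.BaseChange
import Groth.Agent.L21.CurvFib.DimExt

set_option autoImplicit false
set_option backward.isDefEq.respectTransparency false
set_option backward.isDefEq.respectTransparency.types false
universe u
open CategoryTheory CategoryTheory.Limits AlgebraicGeometry
attribute [local instance] HasDerivedCategory.standard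
open Curves

namespace Groth.Agent.S1657

/-- Let X be proper of dimension one over k with global functions k and genus g ≥ 2, with at-worst-nodal
singularities, and let ω_X be its dualizing module (degree -1 cohomology sheaf of f^! O for f : X →
Spec k, assuming Rf_* on D_QCoh and its right adjoint exist). If ω_X is ample, then ω_X^{⊗3} is very
ample — some closed immersion i : X → P^n_k over k has i^* O(1) ≅ ω_X^{⊗3} — and H^1(X, ω_X^{⊗3}) =
0. -/
theorem result (k : Type u) [Field k] (X : Scheme.{u}) [X.Over (Spec (CommRingCat.of k))] [IsProper (X ↘ (Spec (CommRingCat.of k)))] (hdim : topologicalKrullDim X = 1)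
    (h0 : Module.finrank k (Coh.HH X (Coh.structureModule X) 0) = 1) (hg : 2 ≤ Curv2.genus k X) (hX : Curv2.AtWorstNodal k X)
    [DCoh.HasRpush (X ↘ (Spec (CommRingCat.of k)))] (h : DCoh.RpushPreservesQCoh (X ↘ (Spec (CommRingCat.of k)))) [DCoh.HasShriek (X ↘ (Spec (CommRingCat.of k))) h]
    (OY : DCoh.DQCoh (Spec (CommRingCat.of k))) (hOY : Nonempty (OY.obj ≅ DCoh.inD (Spec (CommRingCat.of k)) (Coh.structureModule (Spec (CommRingCat.of k)))))
    (hample : CohB1.IsAmple (DCoh.dualizingMod (X ↘ (Spec (CommRingCat.of k))) h OY 1)) :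
    (∃ (n : ℕ) (i : X ⟶ CohB1.ProjSpace n k), IsClosedImmersion i ∧ i ≫ CohB1.ProjSpace.toSpec n k = X ↘ (Spec (CommRingCat.of k)) ∧
      Nonempty ((Scheme.Modules.pullback i).obj (Twist.twistProjSpace n k 1) ≅ CohB1.tensorPow (DCoh.dualizingMod (X ↘ (Spec (CommRingCat.of k))) h OY 1) 3)) ∧
      Subsingleton (Coh.HH X (CohB1.tensorPow (DCoh.dualizingMod (X ↘ (Spec (CommRingCat.of k))) h OY 1) 3) 1) := by
  classical
  haveI : IsProper (X ↘ Spec (CommRingCat.of k)) := inferInstance
  haveI := Groth.L21.RR.isNoetherian_of_proper (X := X) k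
  obtain ⟨t, ht⟩ := Groth.L21.CurveDual.exists_isRDual k hdim.le h OY hOY
  obtain ⟨hconnX, hredX, hgenX, hsX⟩ := Groth.L21.CurveAdj.nodal_setup (k := k) hdim h0 hX
  have hclX : Groth.L21.Nodal.CurveLike X := by
    refine ⟨fun a b c hab hbc => ?_, fun x hx => ?_⟩
    · exact Groth.L21.RR.Top.spec_of_dim_le_one (X := X.toTopCat) hdim.le a b c hab hbc
    · obtain ⟨w, hw, hwx⟩ := hgenX x
      exact ⟨w, fun e => hw (e ▸ hx), hwx⟩
  let K := AlgebraicClosure k
  letI : (Curv2.bc k X K).Over (Spec (CommRingCat.of K)) := ⟨Curv2.bcSnd k X K⟩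
  let g := Curv2.bcFst k X K
  have sq : IsPullback g (Curv2.bc k X K ↘ Spec (CommRingCat.of K)) (X ↘ Spec (CommRingCat.of k))
      (Spec.map (CommRingCat.ofHom (algebraMap k K))) := IsPullback.of_hasPullback _ _
  haveI : IsProper (Curv2.bc k X K ↘ Spec (CommRingCat.of K)) :=
    MorphismProperty.of_isPullback (P := @IsProper) sq inferInstance
  haveI := Groth.L21.RR.isNoetherian_of_proper (X := Curv2.bc k X K) K
  haveI : IsAffineHom g := Groth.L17.BC.isAffineHom_of_isPullback
    (X ↘ Spec (CommRingCat.of k)) (Curv2.bc k X K ↘ Spec (CommRingCat.of K)) g sq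
  have hdY : topologicalKrullDim ↥(Curv2.bc k X K) = 1 :=
    (Groth.L21.CurvFib.topologicalKrullDim_eq_of_isPullback k K (X ↘ Spec (CommRingCat.of k)) _ _ g sq).trans hdim
  have hXY := Groth.L21.Nodal.atWorstNodal_of_isPullback g sq hclX hX
  have h0Y : Groth.L21.RR.h K 0 (Coh.structureModule (Curv2.bc k X K)) = 1 :=
    (Groth.L21.RR.h_structure_bc g sq 0).trans h0
  obtain ⟨hconnY, hredY, hgenY, hsY⟩ := Groth.L21.CurveAdj.nodal_setup (k := K) hdY h0Y hXY
  haveI := hconnY
  haveI := hredY
  obtain ⟨ωY, tY, htY⟩ := Groth.L21.CurveDual.exists_isRDual_of_proper (X := Curv2.bc k X K) K hdY.le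
  obtain ⟨SY, hinvY⟩ := hsY ωY tY htY
  obtain ⟨eω⟩ := Groth.L21.CurveDual.BC.nonempty_iso_pullback g sq ht htY hdim.le hdY.le
  have hampY : CohB1.IsAmple ωY :=
    Groth.L18.Ample.isAmple_of_iso eω (Groth.L18.Ample.isAmple_pullback_of_isAffineHom g hample)
  have hgY : 2 ≤ Curv2.genus K (Curv2.bc k X K) := by rw [Groth.L21.RR.genus_bc g sq]; exact hg
  have hinvX := hample.1
  let L := CohB1.tensorPow (DCoh.dualizingMod (X ↘ Spec (CommRingCat.of k)) h OY 1) 3
  have hL : PicF.IsInvertible L := Groth.L18.Ample.isInvertible_tensorPow hinvX 3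
  have hbig : Groth.L21.RedCurve.VA.Big K ((Scheme.Modules.pullback g).obj L) := by
    intro J hred hconn hdimJ
    haveI := hred
    haveI := hconn
    obtain ⟨a, m, -, he, -, hw, hc⟩ := Groth.L21.CurveAdj.subcurve_data SY hgenY hinvY J hdimJ
    have hpos := (Groth.L21.CurveAdj.degOn_of_ample (k := K) SY.hd hgenY hinvY hampY J hdimJ).1
    rw [he, Groth.L21.CurveAdj.degOn_congr
      (Groth.L18.Ample.pullPow g _ 3) J,
      Groth.L21.CurveAdj.degOn_pow SY.hd (Groth.L18.Ample.isInvertible_pullback g hinvX) J 3,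
      Groth.L21.CurveAdj.degOn_congr eω J]
    rcases hc with hc | ⟨hm0, hag, -⟩ <;> push_cast <;> omega
  refine ⟨Groth.L21.RedCurve.VA.exists_closedImmersion_of_big_bc g sq hdY.le hL hbig, ?_⟩
  have h1 := Groth.L21.CurveAdj.subsingleton_h1_of_euler_lt (k := K) hdY.le (Groth.L18.Ample.isInvertible_pullback g hL)
    (fun J a b c => lt_trans (by linarith) (hbig J a b c))
  haveI := Groth.L21.RR.finite_HH' k (Groth.L16.ProperFinite.isCoh_of_isInvertible hL) 1
  refine (Module.finrank_zero_iff (R := k)).1 ?_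
  rw [show Module.finrank k (Coh.HH X L 1) = _ from
    (Groth.L21.RR.h_pullback g sq (Groth.L16.ProperFinite.isCoh_of_isInvertible hL) 1).symm]
  exact Groth.L21.RR.h_eq_zero_of_subsingleton K h1

end Groth.Agent.S1657
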