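import Groth.Statements.S16570
import Groth.Agent.L03.PlaneProj.TwoPush
-- import your own Groth.Agent.* helpers here

set_option autoImplicit false
universe u
open CategoryTheory CategoryTheory.Limits AlgebraicGeometry TopologicalSpace
open Surf

namespace Groth.Agent.S16570

open Groth.L22.Inter Groth.L22.Nef Groth.L22.Big Groth.L03.Euler Groth.L03.SurfNum

/-- Let k be an algebraically closed field of characteristic 0, p_1, p_2 two distinct closed points of
P²_k and σ : X → P²_k the blow-up of P²_k in the ideal of {p_1, p_2} (universal property), X being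
regarded over k through σ; X is then an integral smooth proper surface (carried as hypotheses).
Write H = σ^*O(1), E_i for the exceptional curve over p_i (closed subscheme of the inverse image
ideal of the ideal of p_i), (L·M) = χ(O_X) − χ(L) − χ(M) + χ(L ⊗ M) for invertible L, M, and (L·C) =
χ(O_C ⊗ L) − χ(O_C) for a closed subscheme C. Let {i, j} = {1, 2} and let π : X → P¹_k be a
k-morphism with π^*O(1) ≅ H ⊗ I_{E_j} (the resolved projection from p_j, up to an automorphism of
P¹_k). If L is an invertible O_X-module with d = (L·H), m_i = (L·E_i), m_j = (L·E_j) such that d =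
m_i + m_j, m_i > 0 and m_j > 0, then π_*L ≅ O(m_j)^{⊕(m_i + 1)}, a direct sum of d − m_j + 1 copies
of O(m_j). (The published statement orders the two multiplicities, m_1 ≥ m_2; the ordering is
immaterial, and the assertion is stated here with either point as the centre of projection.) -/
theorem result (k : Type u) [Field k] [IsAlgClosed k] [CharZero k]
    (P : Fin 2 → ↥(CohB1.ProjSpace 2 k)) (hP : Function.Injective P)
    (hPc : ∀ i, IsClosed ({P i} : Set ↥(CohB1.ProjSpace 2 k))) (hZ : IsClosed (Set.range P))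
    (X : Scheme.{u}) [X.Over (Spec (CommRingCat.of k))] (σ : X ⟶ CohB1.ProjSpace 2 k)
    (hσk : σ ≫ CohB1.ProjSpace.toSpec 2 k = X ↘ (Spec (CommRingCat.of k)))
    (hσ : BlowUp.IsBlowUp σ (Scheme.IdealSheafData.vanishingIdeal ⟨Set.range P, hZ⟩))
    [IsIntegral X] [IsProper (X ↘ (Spec (CommRingCat.of k)))] [Smooth (X ↘ (Spec (CommRingCat.of k)))] (hdim : topologicalKrullDim X = 2)
    [HasInjectiveResolutions X.Modules] (j i : Fin 2) (hij : i ≠ j)
    (π : X ⟶ CohB1.ProjSpace 1 k) (hπk : π ≫ CohB1.ProjSpace.toSpec 1 k = X ↘ (Spec (CommRingCat.of k)))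
    (hπ : Nonempty (((Scheme.Modules.pullback π).obj (Twist.twistProjSpace 1 k 1)) ≅ CohB1.tensorMod ((Scheme.Modules.pullback σ).obj (Twist.twistProjSpace 2 k 1)) (ClSub.idealMod ((Scheme.IdealSheafData.vanishingIdeal ⟨{P j}, hPc j⟩).comap σ))))
    (L : X.Modules) (hL : PicF.IsInvertible L)
    (hd : FGA.intNum k X 2 ![L, ((Scheme.Modules.pullback σ).obj (Twist.twistProjSpace 2 k 1))] (Coh.structureModule X) = (Curv2.euler k X (CohB1.tensorMod (ClSub.quotMod ((Scheme.IdealSheafData.vanishingIdeal ⟨{P i}, hPc i⟩).comap σ)) L) - Curv2.euler k X (ClSub.quotMod ((Scheme.IdealSheafData.vanishingIdeal ⟨{P i}, hPc i⟩).comap σ))) + (Curv2.euler k X (CohB1.tensorMod (ClSub.quotMod ((Scheme.IdealSheafData.vanishingIdeal ⟨{P j}, hPc j⟩).comap σ)) L) - Curv2.euler k X (ClSub.quotMod ((Scheme.IdealSheafData.vanishingIdeal ⟨{P j}, hPc j⟩).comap σ))))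
    (hmi : 0 < (Curv2.euler k X (CohB1.tensorMod (ClSub.quotMod ((Scheme.IdealSheafData.vanishingIdeal ⟨{P i}, hPc i⟩).comap σ)) L) - Curv2.euler k X (ClSub.quotMod ((Scheme.IdealSheafData.vanishingIdeal ⟨{P i}, hPc i⟩).comap σ)))) (hmj : 0 < (Curv2.euler k X (CohB1.tensorMod (ClSub.quotMod ((Scheme.IdealSheafData.vanishingIdeal ⟨{P j}, hPc j⟩).comap σ)) L) - Curv2.euler k X (ClSub.quotMod ((Scheme.IdealSheafData.vanishingIdeal ⟨{P j}, hPc j⟩).comap σ)))) :
    Nonempty ((Coh.push π).obj L ≅ ∐ fun _ : Fin ((Curv2.euler k X (CohB1.tensorMod (ClSub.quotMod ((Scheme.IdealSheafData.vanishingIdeal ⟨{P i}, hPc i⟩).comap σ)) L) - Curv2.euler k X (ClSub.quotMod ((Scheme.IdealSheafData.vanishingIdeal ⟨{P i}, hPc i⟩).comap σ))) + 1).toNat => Twist.twistProjSpace 1 k ((Curv2.euler k X (CohB1.tensorMod (ClSub.quotMod ((Scheme.IdealSheafData.vanishingIdeal ⟨{P j}, hPc j⟩).comap σ)) L) - Curv2.euler k X (ClSub.quotMod ((Scheme.IdealSheafData.vanishingIdeal ⟨{P j}, hPc j⟩).comap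 σ))))) := by
  haveI : π.IsOver (Spec (CommRingCat.of k)) := ⟨hπk⟩
  haveI := Groth.L03.PlaneProj.surjective_proj k hP hPc hσk hσ hdim j π hπ
  have hd' : topologicalKrullDim X = (2 : ℕ) := hdim.trans Nat.cast_ofNat.symm
  have hi := Groth.L03.PlaneProj.degOn_exc k hP hPc hσk hσ hdim hL i
  have hj := Groth.L03.PlaneProj.degOn_exc k hP hPc hσk hσ hdim hL j
  obtain ⟨m, hm⟩ := Int.eq_ofNat_of_zero_le hmi.le
  obtain ⟨n, hn⟩ := Int.eq_ofNat_of_zero_le hmj.le
  change Groth.L03.BlowPt.degOn k (Groth.L03.PlaneProj.excI k σ hPc i) L = _ at hm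
  change Groth.L03.BlowPt.degOn k (Groth.L03.PlaneProj.excI k σ hPc j) L = _ at hn
  change _ = Groth.L03.BlowPt.degOn k (Groth.L03.PlaneProj.excI k σ hPc i) L +
    Groth.L03.BlowPt.degOn k (Groth.L03.PlaneProj.excI k σ hPc j) L at hd
  show Nonempty ((Coh.push π).obj L ≅ ∐ fun _ : Fin ((Groth.L03.BlowPt.degOn k
    (Groth.L03.PlaneProj.excI k σ hPc i) L) + 1).toNat => Twist.twistProjSpace 1 k
      (Groth.L03.BlowPt.degOn k (Groth.L03.PlaneProj.excI k σ hPc j) L))
  rw [hm, hn, show ((m : ℤ) + 1).toNat = m + 1 by omega]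
  refine Groth.L03.PlaneProj.push_of_balanced k hP hPc hσk hσ hdim j i hij π hπ ⟨hL, ?_, ?_, ?_⟩
  · rw [hm, hn] at hd
    rw [← intNum_eq_ii k hd'.le, hd]
    push_cast
    ring
  · rw [hi, hm]; push_cast; ring
  · rw [hj, hn]; push_cast; ring

end Groth.Agent.S16570
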