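import Groth.Statements.S16572
import Groth.Agent.L01.AllRoots
import Mathlib.RingTheory.LocalRing.ResidueField.Ideal
import Mathlib.RingTheory.Ideal.GoingUp
import Mathlib.FieldTheory.Isaacs
import Mathlib.RingTheory.Polynomial.ScaleRoots
import Mathlib.RingTheory.Localization.Integer
import Mathlib.Algebra.Polynomial.Lifts
import Mathlib.RingTheory.Algebraic.Integral
import Mathlib.RingTheory.Spectrum.Prime.RingHom

set_option autoImplicit false
universe u
open CAlg

namespace Groth.Agent.S16572

theorem residue_field_props (A : Type u) [CommRing A] {T : Type u} [CommRing T] [Algebra A T]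
    [Algebra.IsIntegral A T] (Q : Ideal T) [Q.IsPrime]
    (hroot : ∀ P : Polynomial A, P.Monic → 0 < P.natDegree → ∃ t : T, Polynomial.aeval t P = 0) :
    IsAlgClosed Q.ResidueField ∧
      (Ideal.ResidueField.map (Q.comap (algebraMap A T)) Q (algebraMap A T) rfl).IsIntegral := by
  classical
  set p := Q.comap (algebraMap A T) with hp
  set φ := Ideal.ResidueField.map p Q (algebraMap A T) rfl with hφ
  letI : Algebra p.ResidueField Q.ResidueField := φ.toAlgebra
  have hcomm : ∀ a : A, algebraMap p.ResidueField Q.ResidueField (algebraMap A p.ResidueField a) =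
      algebraMap T Q.ResidueField (algebraMap A T a) :=
    fun a => Ideal.ResidueField.map_algebraMap p Q (algebraMap A T) rfl a
  have hT : ∀ t : T, IsIntegral p.ResidueField (algebraMap T Q.ResidueField t) := by
    intro t
    obtain ⟨P, hP, hPt⟩ := Algebra.IsIntegral.isIntegral (R := A) t
    refine ⟨P.map (algebraMap A p.ResidueField), hP.map _, ?_⟩
    rw [Polynomial.eval₂_map, show (algebraMap p.ResidueField Q.ResidueField).comp
      (algebraMap A p.ResidueField) = (algebraMap T Q.ResidueField).comp (algebraMap A T) from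
      RingHom.ext hcomm, ← Polynomial.hom_eval₂, hPt, map_zero]
  haveI hint : Algebra.IsIntegral p.ResidueField Q.ResidueField := by
    refine ⟨fun x => ?_⟩
    obtain ⟨a, b, -, rfl⟩ := IsFractionRing.div_surjective (T ⧸ Q) x
    obtain ⟨a', rfl⟩ := Ideal.Quotient.mk_surjective a
    obtain ⟨b', rfl⟩ := Ideal.Quotient.mk_surjective b
    rw [div_eq_mul_inv]
    exact (hT a').mul ((hT b').isAlgebraic.inv.isIntegral)
  haveI : Algebra.IsAlgebraic p.ResidueField Q.ResidueField := Algebra.IsIntegral.isAlgebraic
  refine ⟨?_, fun x => Algebra.IsIntegral.isIntegral (R := p.ResidueField) x⟩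
  suffices h : IsAlgClosure p.ResidueField Q.ResidueField from h.isAlgClosed
  refine IsAlgClosure.of_exists_root fun f hf hirr => ?_
  obtain ⟨d, hd⟩ := IsLocalization.exist_integer_multiples (nonZeroDivisors (A ⧸ p))
    (Finset.range f.natDegree) (fun i => f.coeff i)
  obtain ⟨d', hd'⟩ := Ideal.Quotient.mk_surjective (d : A ⧸ p)
  set δ := algebraMap A p.ResidueField d' with hδ
  have hδ0 : δ ≠ 0 := by
    intro h
    have h1 : d' ∈ p := Ideal.algebraMap_residueField_eq_zero.mp h
    exact nonZeroDivisors.coe_ne_zero d (hd'.symm.trans (Ideal.Quotient.eq_zero_iff_mem.mpr h1))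
  have hlift : f.scaleRoots δ ∈ Polynomial.lifts (algebraMap A p.ResidueField) := by
    rw [Polynomial.lifts_iff_coeff_lifts]
    intro i
    rw [Polynomial.coeff_scaleRoots]
    rcases lt_trichotomy i f.natDegree with hi | hi | hi
    · obtain ⟨c, hc⟩ := hd i (Finset.mem_range.mpr hi)
      obtain ⟨c', rfl⟩ := Ideal.Quotient.mk_surjective c
      refine ⟨c' * d' ^ (f.natDegree - i - 1), ?_⟩
      have h2 : δ * f.coeff i = algebraMap A p.ResidueField c' := by
        rw [show algebraMap A p.ResidueField c' =
          algebraMap (A ⧸ p) p.ResidueField (Ideal.Quotient.mk p c') from rfl, hc, ← hd',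
          Algebra.smul_def]
        rfl
      rw [map_mul, map_pow, ← h2, ← hδ, mul_comm δ, mul_assoc, ← pow_succ',
        show f.natDegree - i - 1 + 1 = f.natDegree - i by omega]
    · refine ⟨1, ?_⟩
      rw [hi, Polynomial.Monic.coeff_natDegree hf, Nat.sub_self, pow_zero, mul_one, map_one]
    · refine ⟨0, ?_⟩
      rw [Polynomial.coeff_eq_zero_of_natDegree_lt hi, zero_mul, map_zero]
  obtain ⟨P, hP, hPdeg, hPm⟩ := Polynomial.lifts_and_degree_eq_and_monic hlift
    ((Polynomial.monic_scaleRoots_iff δ).mpr hf)
  have hPn : P.natDegree = f.natDegree := by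
    rw [Polynomial.natDegree_eq_of_degree_eq hPdeg, Polynomial.natDegree_scaleRoots]
  obtain ⟨t, ht⟩ := hroot P hPm (hPn ▸ hirr.natDegree_pos)
  set t' := algebraMap T Q.ResidueField t with ht'
  have h0 : Polynomial.aeval t' (f.scaleRoots δ) = 0 := by
    rw [← hP, Polynomial.aeval_def, Polynomial.eval₂_map, show
      (algebraMap p.ResidueField Q.ResidueField).comp (algebraMap A p.ResidueField) =
        (algebraMap T Q.ResidueField).comp (algebraMap A T) from RingHom.ext hcomm,
      ← Polynomial.hom_eval₂, ← Polynomial.aeval_def, ht, map_zero]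
  set δ' := algebraMap p.ResidueField Q.ResidueField δ with hδ'
  have hδ'0 : δ' ≠ 0 := by rw [hδ', map_ne_zero]; exact hδ0
  refine ⟨t' / δ', ?_⟩
  have h1 := Polynomial.scaleRoots_eval₂_mul (p := f) (algebraMap p.ResidueField Q.ResidueField) (t' / δ') δ
  rw [← hδ', mul_div_cancel₀ _ hδ'0, ← Polynomial.aeval_def, h0, ← Polynomial.aeval_def] at h1
  exact (mul_eq_zero.mp h1.symm).resolve_left (pow_ne_zero _ hδ'0)



/-- Let A be a commutative ring and T the quotient of the polynomial ring over A in indeterminates X_P,
one for each monic polynomial P over A of positive degree, by the ideal generated by the elements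
P(X_P). Then the map on prime spectra Spec T → Spec A is surjective, and for every prime ideal Q of
T, with p its contraction to A, the residue field of Q is algebraically closed and integral over the
residue field of p under the induced map of residue fields (so it is an algebraic closure of it). -/
theorem result (A : Type u) [CommRing A] :
    Function.Surjective (PrimeSpectrum.comap (algebraMap A (MvPolynomial {P : Polynomial A // P.Monic ∧ 0 < P.natDegree} A ⧸
      Ideal.span (Set.range fun P : {P : Polynomial A // P.Monic ∧ 0 < P.natDegree} =>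
        Polynomial.aeval (MvPolynomial.X (R := A) P) P.1)))) ∧
    ∀ (Q : Ideal (MvPolynomial {P : Polynomial A // P.Monic ∧ 0 < P.natDegree} A ⧸
      Ideal.span (Set.range fun P : {P : Polynomial A // P.Monic ∧ 0 < P.natDegree} =>
        Polynomial.aeval (MvPolynomial.X (R := A) P) P.1))) [Q.IsPrime],
      IsAlgClosed Q.ResidueField ∧
      (Ideal.ResidueField.map (Q.comap (algebraMap A (MvPolynomial {P : Polynomial A // P.Monic ∧ 0 < P.natDegree} A ⧸
      Ideal.span (Set.range fun P : {P : Polynomial A // P.Monic ∧ 0 < P.natDegree} =>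
        Polynomial.aeval (MvPolynomial.X (R := A) P) P.1)))) Q (algebraMap A (MvPolynomial {P : Polynomial A // P.Monic ∧ 0 < P.natDegree} A ⧸
      Ideal.span (Set.range fun P : {P : Polynomial A // P.Monic ∧ 0 < P.natDegree} =>
        Polynomial.aeval (MvPolynomial.X (R := A) P) P.1))) rfl).IsIntegral := by
  classical
  haveI := Groth.L01.AllRoots.isIntegral A
  refine ⟨fun p => ?_, fun Q _ => ?_⟩
  · haveI := p.isPrime
    have hI : Ideal.comap (algebraMap A (Groth.L01.AllRoots.AR A)) ⊥ ≤ p.asIdeal := by
      rw [← RingHom.ker_eq_comap_bot, (RingHom.injective_iff_ker_eq_bot _).mp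
        (Groth.L01.AllRoots.algebraMap_injective A)]
      exact bot_le
    obtain ⟨Q, -, hQ, hQp⟩ := Ideal.exists_ideal_over_prime_of_isIntegral p.asIdeal ⊥ hI
    exact ⟨⟨Q, hQ⟩, PrimeSpectrum.ext hQp⟩
  · exact residue_field_props A Q (Groth.L01.AllRoots.exists_root A)


end Groth.Agent.S16572
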