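import Groth.Statements.S16573
import Mathlib.FieldTheory.Isaacs
import Mathlib.AlgebraicGeometry.ResidueField
import Mathlib.AlgebraicGeometry.Limits
import Mathlib.RingTheory.Polynomial.ScaleRoots
import Mathlib.RingTheory.LocalRing.ResidueField.Ideal
import Mathlib.FieldTheory.IsAlgClosed.AlgebraicClosure
import Mathlib.AlgebraicGeometry.Morphisms.QuasiSeparated

set_option autoImplicit false
universe u
open CategoryTheory AlgebraicGeometry
open EtCore

namespace Groth.Agent.S16573

open Polynomial CategoryTheory CategoryTheory.Limits AlgebraicGeometry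

noncomputable section Ring
variable (A : Type u) [CommRing A]

private abbrev Idx := {f : A[X] // f.Monic ∧ 0 < f.natDegree}

private abbrev rel (f : Idx A) : MvPolynomial (Idx A) A := f.1.eval₂ MvPolynomial.C (MvPolynomial.X f)

private abbrev Roots : Type u := MvPolynomial (Idx A) A ⧸ Ideal.span (Set.range (rel A))

private lemma roots_root (f : Idx A) :
    f.1.eval₂ (algebraMap A (Roots A)) (Ideal.Quotient.mk _ (MvPolynomial.X f)) = 0 := by
  have : algebraMap A (Roots A) = (Ideal.Quotient.mk (Ideal.span (Set.range (rel A)))).comp MvPolynomial.C := rfl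
  rw [this, ← Polynomial.hom_eval₂, Ideal.Quotient.eq_zero_iff_mem]
  exact Ideal.subset_span ⟨f, rfl⟩

private lemma roots_isIntegral : (algebraMap A (Roots A)).IsIntegral := by
  intro x
  obtain ⟨x, rfl⟩ := Ideal.Quotient.mk_surjective x
  induction x using MvPolynomial.induction_on with
  | C a => exact (isIntegral_algebraMap (R := A) (x := a) : IsIntegral A (algebraMap A (Roots A) a))
  | add p q hp hq => rw [map_add]; exact IsIntegral.add hp hq
  | mul_X p f hp => rw [map_mul]; exact IsIntegral.mul hp ⟨f.1, f.2.1, roots_root A f⟩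

private lemma roots_comap_surjective (p : PrimeSpectrum A) :
    ∃ q : PrimeSpectrum (Roots A), PrimeSpectrum.comap (algebraMap A (Roots A)) q = p := by
  classical
  let K := AlgebraicClosure p.asIdeal.ResidueField
  let ρ : A →+* K := (algebraMap p.asIdeal.ResidueField K).comp (algebraMap A p.asIdeal.ResidueField)
  haveI : Nontrivial A := ρ.domain_nontrivial
  have hr : ∀ f : Idx A, ∃ r : K, f.1.eval₂ ρ r = 0 := by
    intro f
    obtain ⟨r, hr⟩ := IsAlgClosed.exists_root (f.1.map ρ) (by
      rw [f.2.1.degree_map, Polynomial.degree_eq_natDegree f.2.1.ne_zero]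
      exact_mod_cast f.2.2.ne')
    exact ⟨r, by rwa [IsRoot, eval_map] at hr⟩
  choose r hr using hr
  let ψ : Roots A →+* K := Ideal.Quotient.lift _ (MvPolynomial.eval₂Hom ρ r) (by
    intro a ha
    refine RingHom.mem_ker.mp ((Ideal.span_le.mpr ?_) ha)
    rintro _ ⟨f, rfl⟩
    rw [SetLike.mem_coe, RingHom.mem_ker, rel, Polynomial.hom_eval₂]
    have h1 : (MvPolynomial.eval₂Hom ρ r).comp MvPolynomial.C = ρ := RingHom.ext fun a => MvPolynomial.eval₂Hom_C ρ r a
    rw [h1, MvPolynomial.eval₂Hom_X']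
    exact hr f)
  refine ⟨⟨RingHom.ker ψ, RingHom.ker_isPrime ψ⟩, PrimeSpectrum.ext ?_⟩
  ext a
  change ψ (Ideal.Quotient.mk _ (MvPolynomial.C a)) = 0 ↔ _
  rw [show ψ (Ideal.Quotient.mk _ (MvPolynomial.C a)) = ρ a from MvPolynomial.eval₂Hom_C ρ r a]
  simp [ρ]

end Ring

private lemma exists_frac {Y : Scheme.{u}} [IsAffine Y] (z : Y) (x : Y.residueField z) :
    ∃ a s : Γ(Y, ⊤), Y.Γevaluation z s ≠ 0 ∧ x * Y.Γevaluation z s = Y.Γevaluation z a := by
  obtain ⟨x, rfl⟩ := Y.residue_surjective z x
  letI := (Y.presheaf.germ ⊤ z trivial).hom.toAlgebra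
  haveI := (isAffineOpen_top Y).isLocalization_stalk ⟨z, trivial⟩
  obtain ⟨⟨a, s⟩, hs⟩ := IsLocalization.surj ((isAffineOpen_top Y).primeIdealOf ⟨z, trivial⟩).asIdeal.primeCompl x
  refine ⟨a, s, ?_, ?_⟩
  · exact ((IsLocalization.map_units (Y.presheaf.stalk z) s).map (Y.residue z).hom).ne_zero
  · exact (map_mul (Y.residue z).hom _ _).symm.trans (congrArg (Y.residue z) hs)

private lemma residue_props {W Y : Scheme.{u}} [IsAffine W] [IsAffine Y] (f : W ⟶ Y)
    (hint : f.appTop.hom.IsIntegral)
    (hroot : ∀ g : Γ(Y, ⊤)[X], g.Monic → 0 < g.natDegree → ∃ r, g.eval₂ f.appTop.hom r = 0) (z : W) :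
    IsAlgClosed (W.residueField z) ∧ (f.residueFieldMap z).hom.IsIntegral := by
  classical
  letI : Algebra (Y.residueField (f z)) (W.residueField z) := (f.residueFieldMap z).hom.toAlgebra
  have hcomp : (W.Γevaluation z).hom.comp f.appTop.hom =
      (f.residueFieldMap z).hom.comp (Y.Γevaluation (f z)).hom := by
    rw [← CommRingCat.hom_comp, ← CommRingCat.hom_comp, Scheme.Γevaluation_naturality]
  have hI : ∀ a, IsIntegral (Y.residueField (f z)) (W.Γevaluation z a) := by
    intro a
    obtain ⟨g, hg, hga⟩ := hint a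
    refine ⟨g.map (Y.Γevaluation (f z)).hom, hg.map _, ?_⟩
    rw [eval₂_map, RingHom.algebraMap_toAlgebra, ← hcomp, ← Polynomial.hom_eval₂, hga, map_zero]
  have hint' : Algebra.IsIntegral (Y.residueField (f z)) (W.residueField z) := by
    constructor
    intro x
    obtain ⟨a, s, hs, h⟩ := exists_frac z x
    rw [show x = W.Γevaluation z a * (W.Γevaluation z s)⁻¹ by rw [← h, mul_inv_cancel_right₀ hs]]
    exact (hI a).mul (hI s).inv
  haveI : Algebra.IsAlgebraic (Y.residueField (f z)) (W.residueField z) := Algebra.IsIntegral.isAlgebraic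
  refine ⟨?_, fun x => hint'.isIntegral x⟩
  refine (?_ : IsAlgClosure (Y.residueField (f z)) (W.residueField z)).isAlgClosed
  refine IsAlgClosure.of_exists_root ?_
  intro p hp hirr
  choose a s hs has using fun i => exists_frac (f z) (p.coeff i)
  let t : Γ(Y, ⊤) := ∏ i ∈ Finset.range p.natDegree, s i
  let σ : Y.residueField (f z) := Y.Γevaluation (f z) t
  have hσ : σ ≠ 0 := by
    simp only [σ, t, map_prod]
    exact Finset.prod_ne_zero_iff.mpr fun i _ => hs i
  have hl : p.scaleRoots σ ∈ Polynomial.lifts (Y.Γevaluation (f z)).hom := by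
    rw [lifts_iff_coeff_lifts]
    intro i
    rw [coeff_scaleRoots]
    rcases lt_trichotomy i p.natDegree with hi | hi | hi
    · refine ⟨a i * (∏ j ∈ (Finset.range p.natDegree).erase i, s j) * t ^ (p.natDegree - i - 1), ?_⟩
      have ht : t = s i * ∏ j ∈ (Finset.range p.natDegree).erase i, s j :=
        (Finset.mul_prod_erase _ _ (Finset.mem_range.mpr hi)).symm
      have hexp : p.natDegree - i = (p.natDegree - i - 1) + 1 := by omega
      rw [hexp, pow_succ, Nat.add_sub_cancel, map_mul, map_mul, map_pow]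
      calc _ = p.coeff i * Y.Γevaluation (f z) (s i) *
            Y.Γevaluation (f z) (∏ j ∈ (Finset.range p.natDegree).erase i, s j) *
            σ ^ (p.natDegree - i - 1) := by rw [has]
        _ = p.coeff i * Y.Γevaluation (f z) t * σ ^ (p.natDegree - i - 1) := by
            rw [ht, map_mul, mul_assoc (p.coeff i)]
        _ = _ := by simp only [σ]; ring
    · exact ⟨1, by subst hi; rw [hp.coeff_natDegree]; simp⟩
    · exact ⟨0, by rw [coeff_eq_zero_of_natDegree_lt hi]; simp⟩
  obtain ⟨g, hg, hdeg, hgm⟩ := lifts_and_natDegree_eq_and_monic hl ((monic_scaleRoots_iff σ).2 hp)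
  obtain ⟨r, hr⟩ := hroot g hgm (by rw [hdeg, natDegree_scaleRoots]; exact hirr.natDegree_pos)
  refine ⟨W.Γevaluation z r / algebraMap _ _ σ, ?_⟩
  have h0 : (p.scaleRoots σ).eval₂ (algebraMap (Y.residueField (f z)) (W.residueField z))
      (algebraMap _ _ σ * (W.Γevaluation z r / algebraMap _ _ σ)) = 0 := by
    rw [mul_div_cancel₀ _ ((_root_.map_ne_zero _).mpr hσ), ← hg, eval₂_map, RingHom.algebraMap_toAlgebra, ← hcomp,
      ← Polynomial.hom_eval₂, hr, map_zero]
  rw [scaleRoots_eval₂_mul] at h0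
  rw [aeval_def]
  exact (mul_eq_zero.mp h0).resolve_left (pow_ne_zero _ ((_root_.map_ne_zero _).mpr hσ))

private lemma res_comp {U V W : Scheme.{u}} (a : U ⟶ V) (b : V ⟶ W) (z : U) :
    ((a ≫ b).residueFieldMap z).hom = (a.residueFieldMap z).hom.comp (b.residueFieldMap (a z)).hom :=
  congrArg CommRingCat.Hom.hom (Scheme.residueFieldMap_comp a b z)


/-- For a quasi-compact quasi-separated scheme X there are an affine scheme X' and a quasi-compact
surjective morphism f : X' → X such that for every point x' of X' the residue field of x' is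
algebraically closed and integral over the residue field of f(x') under the induced map of residue
fields, that is, an algebraic closure of it. -/
theorem result
    (X : Scheme.{u}) [CompactSpace X] [QuasiSeparatedSpace X] :
    ∃ (X' : Scheme.{u}) (f : X' ⟶ X), IsAffine X' ∧ QuasiCompact f ∧ Surjective f ∧
      ∀ x' : X', IsAlgClosed (X'.residueField x') ∧ (f.residueFieldMap x').hom.IsIntegral := by
  let 𝒰 := X.affineCover.finiteSubcover
  haveI : Finite 𝒰.I₀ := inferInstance
  haveI : ∀ i, IsAffine (𝒰.X i) := fun i => inferInstance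
  let A := fun i => Γ(𝒰.X i, ⊤)
  let φ : ∀ i, Spec (CommRingCat.of (Roots (A i))) ⟶ 𝒰.X i := fun i =>
    Spec.map (CommRingCat.ofHom (algebraMap (A i) (Roots (A i)))) ≫ (𝒰.X i).isoSpec.inv
  let g := fun i => φ i ≫ 𝒰.f i
  let T : Scheme.{u} := ∐ fun i => Spec (CommRingCat.of (Roots (A i)))
  haveI : IsAffine T := inferInstance
  haveI : QuasiCompact (Sigma.desc g : T ⟶ X) := by
    haveI : QuasiCompact ((Sigma.desc g : T ⟶ X) ≫ terminal.from X) := by
      rw [quasiCompact_iff_compactSpace]; infer_instance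
    exact QuasiCompact.of_comp (Sigma.desc g : T ⟶ X) (terminal.from X)
  refine ⟨T, Sigma.desc g, inferInstance, inferInstance, ?_, ?_⟩
  · constructor
    intro x
    obtain ⟨i, y, rfl⟩ := 𝒰.exists_eq x
    obtain ⟨q, hq⟩ := roots_comap_surjective (A i) ((𝒰.X i).isoSpec.hom y)
    refine ⟨Sigma.ι (fun i => Spec (CommRingCat.of (Roots (A i)))) i q, ?_⟩
    rw [← Scheme.Hom.comp_apply, Sigma.ι_desc]
    change 𝒰.f i ((𝒰.X i).isoSpec.inv (Spec.map (CommRingCat.ofHom (algebraMap (A i) (Roots (A i))))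
      (q : Spec (CommRingCat.of (Roots (A i)))))) = _
    congr 1
    have : (Spec.map (CommRingCat.ofHom (algebraMap (A i) (Roots (A i))))) q = (𝒰.X i).isoSpec.hom y := hq
    rw [this, ← Scheme.Hom.comp_apply, Iso.hom_inv_id]
    rfl
  · intro x'
    obtain ⟨i, z, rfl⟩ := (sigmaOpenCover fun i => Spec (CommRingCat.of (Roots (A i)))).exists_eq x'
    change 𝒰.I₀ at i
    change ↥(Spec (CommRingCat.of (Roots (A i)))) at z
    let ι := Sigma.ι (fun i => Spec (CommRingCat.of (Roots (A i)))) i
    let e := (asIso (ι.residueFieldMap z)).commRingCatIsoToRingEquiv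
    have hbij : Function.Bijective (Scheme.ΓSpecIso (CommRingCat.of (Roots (A i)))).inv.hom :=
      ConcreteCategory.bijective_of_isIso (Scheme.ΓSpecIso (CommRingCat.of (Roots (A i)))).inv
    have happ : (φ i).appTop.hom = (Scheme.ΓSpecIso (CommRingCat.of (Roots (A i)))).inv.hom.comp
        (algebraMap (A i) (Roots (A i))) := by
      change (Spec.map (CommRingCat.ofHom (algebraMap (A i) (Roots (A i)))) ≫ (𝒰.X i).isoSpec.inv).appTop.hom = _
      have hinv : (𝒰.X i).isoSpec.inv.appTop = (Scheme.ΓSpecIso (A i)).inv := by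
        rw [← Iso.comp_hom_eq_id, ← Scheme.toSpecΓ_appTop]
        change (𝒰.X i).isoSpec.inv.appTop ≫ (𝒰.X i).isoSpec.hom.appTop = 𝟙 _
        rw [← Scheme.Hom.comp_appTop, Iso.hom_inv_id, Scheme.Hom.id_appTop]
      rw [Scheme.Hom.comp_appTop, hinv]
      change (((Scheme.ΓSpecIso _).inv) ≫ _).hom = _
      rw [← Scheme.ΓSpecIso_inv_naturality]
      rfl
    obtain ⟨h1, h2⟩ := residue_props (φ i) (happ ▸ RingHom.IsIntegral.trans _ _ (roots_isIntegral (A i))
        (RingHom.isIntegral_of_surjective _ hbij.2))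
      (fun g hg hd => ⟨_, by rw [happ, ← Polynomial.hom_eval₂, roots_root (A i) ⟨g, hg, hd⟩, map_zero]⟩) z
    have h3 : (g i).residueFieldMap z |>.hom.IsIntegral := by
      rw [show g i = φ i ≫ 𝒰.f i from rfl, res_comp]
      exact RingHom.IsIntegral.trans _ _ (RingHom.isIntegral_of_surjective _
        (ConcreteCategory.bijective_of_isIso ((𝒰.f i).residueFieldMap (φ i z))).2) h2
    have h4 : (ι ≫ Sigma.desc g).residueFieldMap z |>.hom.IsIntegral := by
      rw [Scheme.Hom.residueFieldMap_congr (Sigma.ι_desc g i) z, CommRingCat.hom_comp]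
      exact RingHom.IsIntegral.trans _ _ (RingHom.isIntegral_of_surjective _
        (ConcreteCategory.bijective_of_isIso _).2) h3
    rw [res_comp] at h4
    haveI := h1
    refine ⟨IsAlgClosed.of_ringEquiv _ _ e.symm, ?_⟩
    intro y
    obtain ⟨P, hP, hPy⟩ := h4 ((ι.residueFieldMap z) y)
    refine ⟨P, hP, e.injective ?_⟩
    exact ((Polynomial.hom_eval₂ P _ (ι.residueFieldMap z).hom y).trans hPy).trans (map_zero _).symm

end Groth.Agent.S16573
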