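import Groth.Statements.S16576
import Groth.Agent.L06.FormalFibres
import Groth.Agent.L01.AdicNoeth
import Groth.Agent.L01.NormalDomain
import Groth.Agent.S0568
import Groth.Agent.L01.N2Basic
import Groth.Agent.L05.Hensel.IntegralDomain
import Groth.Agent.L05.Hensel.Perm
import Mathlib.RingTheory.Ideal.GoingDown
import Mathlib.RingTheory.Ideal.AssociatedPrime.Localization
import Mathlib.RingTheory.TensorProduct.Quotient
import Mathlib.RingTheory.KrullDimension.NonZeroDivisors

set_option autoImplicit false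
universe u
open CAlg

namespace Groth.Agent.S16576

open IsLocalRing

/-- In a Noetherian local ring with a regular sequence of length two, all components have
dimension at least two. -/
lemma exists_chain_of_regular_pair {R : Type u} [CommRing R] [IsNoetherianRing R] [IsLocalRing R]
    (x y : R) (hx : x ∈ maximalIdeal R) (hy : y ∈ maximalIdeal R)
    (hxr : ∀ z, x * z = 0 → z = 0) (hyr : ∀ z, y * z ∈ Ideal.span {x} → z ∈ Ideal.span {x})
    {P : Ideal R} (hP : P ∈ minimalPrimes R) :
    ∃ Q : Ideal R, Q.IsPrime ∧ P < Q ∧ Q < maximalIdeal R := by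
  classical
  haveI := hP.1.1
  have hass : P ∈ associatedPrimes R R := by
    apply Module.associatedPrimes.minimalPrimes_annihilator_subset_associatedPrimes
    rwa [Module.annihilator_eq_bot.mpr inferInstance]
  obtain ⟨-, z, hz⟩ := isAssociatedPrime_iff.mp hass
  have hmem : ∀ t, t ∈ P ↔ t * z = 0 := fun t => by
    rw [hz, Submodule.mem_colon_singleton, Submodule.mem_bot, smul_eq_mul]
  have hxP : x ∉ P := fun h => by
    have h1 := hxr z ((hmem x).mp h)
    refine (inferInstance : P.IsPrime).ne_top ((Ideal.eq_top_iff_one P).mpr ((hmem 1).mpr ?_))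
    rw [h1, mul_zero]
  have hxk : ∀ (k : ℕ) (w : R), x ^ k * w = 0 → w = 0 := by
    intro k
    induction k with
    | zero => intro w hw; simpa using hw
    | succ k ih => intro w hw; exact hxr w (ih _ (by rw [← mul_assoc, ← pow_succ]; exact hw))
  have hz0 : z ≠ 0 := fun h => (inferInstance : P.IsPrime).ne_top
    ((Ideal.eq_top_iff_one P).mpr ((hmem 1).mpr (by rw [h, mul_zero])))
  have hex : ∃ k, z ∉ Ideal.span {x} ^ k := by
    by_contra h
    push Not at h
    apply hz0
    have : z ∈ ⨅ i, Ideal.span {x} ^ i := Ideal.mem_iInf.mpr h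
    rwa [Ideal.iInf_pow_eq_bot_of_isLocalRing _ (ne_top_of_le_ne_top
      (maximalIdeal.isMaximal R).ne_top ((Ideal.span_singleton_le_iff_mem _).mpr hx))] at this
  have h0 : Nat.find hex ≠ 0 := fun h => by
    have := Nat.find_spec hex
    rw [h] at this
    simp at this
  obtain ⟨k, hk⟩ := Nat.exists_eq_succ_of_ne_zero h0
  have h1 : z ∈ Ideal.span {x} ^ k := not_not.mp (Nat.find_min hex (by omega))
  rw [Ideal.span_singleton_pow, Ideal.mem_span_singleton'] at h1
  obtain ⟨w, hw⟩ := h1
  have hw0 : w ∉ Ideal.span {x} := fun h => by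
    obtain ⟨v, hv⟩ := Ideal.mem_span_singleton'.mp h
    apply Nat.find_spec hex
    rw [hk, Ideal.span_singleton_pow, Ideal.mem_span_singleton']
    exact ⟨v, by rw [← hw, ← hv, Nat.succ_eq_add_one, pow_succ]; ring⟩
  obtain ⟨Q, hQ, hQle⟩ := exists_le_isAssociatedPrime_of_isNoetherianRing R
    (Ideal.Quotient.mk (Ideal.span {x}) w) (fun h => hw0 (Ideal.Quotient.eq_zero_iff_mem.mp h))
  obtain ⟨hQp, v, hv⟩ := isAssociatedPrime_iff.mp hQ
  have hkill : ∀ t, t * w ∈ Ideal.span {x} → t ∈ Q := fun t ht => hQle (by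
    rw [Submodule.mem_colon_singleton, Submodule.mem_bot, Algebra.smul_def,
      Ideal.Quotient.algebraMap_eq, ← map_mul, Ideal.Quotient.eq_zero_iff_mem]
    exact ht)
  refine ⟨Q, hQp, lt_of_le_of_ne (fun t ht => hkill t ?_) fun h => hxP ?_,
    lt_of_le_of_ne (IsLocalRing.le_maximalIdeal hQp.ne_top) fun h => ?_⟩
  · have : t * w = 0 := hxk k _ (by rw [← (hmem t).mp ht, ← hw]; ring)
    rw [this]
    exact Submodule.zero_mem _
  · rw [h]
    exact hkill x (Ideal.mul_mem_right _ _ (Ideal.mem_span_singleton_self _))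
  · obtain ⟨v, rfl⟩ := Ideal.Quotient.mk_surjective v
    have hyQ : y ∈ Submodule.colon ⊥ {Ideal.Quotient.mk (Ideal.span {x}) v} := hv ▸ h ▸ hy
    rw [Submodule.mem_colon_singleton, Submodule.mem_bot, Algebra.smul_def,
      Ideal.Quotient.algebraMap_eq, ← map_mul, Ideal.Quotient.eq_zero_iff_mem] at hyQ
    refine hQp.ne_top ((Ideal.eq_top_iff_one Q).mpr ?_)
    rw [hv, Submodule.mem_colon_singleton, Submodule.mem_bot, one_smul,
      Ideal.Quotient.eq_zero_iff_mem]
    exact hyr v hyQ

/-- Regularity of a pair survives a flat map. -/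
lemma regular_pair_of_flat {S T : Type u} [CommRing S] [CommRing T] [Algebra S T] [Module.Flat S T]
    (x y : S) (hxr : ∀ z, x * z = 0 → z = 0) (hyr : ∀ z, y * z ∈ Ideal.span {x} → z ∈ Ideal.span {x}) :
    (∀ z : T, algebraMap S T x * z = 0 → z = 0) ∧
      ∀ z : T, algebraMap S T y * z ∈ Ideal.span {algebraMap S T x} →
        z ∈ Ideal.span {algebraMap S T x} := by
  constructor
  · intro z hz
    have hμ : Function.Injective (LinearMap.lsmul S S x) := fun a b h => by
      simp only [LinearMap.lsmul_apply, smul_eq_mul] at h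
      exact sub_eq_zero.mp (hxr _ (by rw [mul_sub, h, sub_self]))
    have := Module.Flat.lTensor_preserves_injective_linearMap (M := T) _ hμ
      (a₁ := z ⊗ₜ[S] (1 : S)) (a₂ := 0) (by
        rw [map_zero, LinearMap.lTensor_tmul, LinearMap.lsmul_apply, ← TensorProduct.smul_tmul,
          Algebra.smul_def, hz, TensorProduct.zero_tmul])
    simpa using congrArg (TensorProduct.rid S T) this
  · intro z hz
    set I : Ideal S := Ideal.span {x}
    have hI : I.map (algebraMap S T) = Ideal.span {algebraMap S T x} := by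
      rw [Ideal.map_span, Set.image_singleton]
    rw [← hI] at hz ⊢
    have hμ : Function.Injective (LinearMap.lsmul S (S ⧸ I) y) := fun a b h => by
      obtain ⟨a, rfl⟩ := Ideal.Quotient.mk_surjective a
      obtain ⟨b, rfl⟩ := Ideal.Quotient.mk_surjective b
      simp only [LinearMap.lsmul_apply, Algebra.smul_def, Ideal.Quotient.algebraMap_eq, ← map_mul,
        Ideal.Quotient.eq, ← mul_sub] at h
      exact Ideal.Quotient.eq.mpr (hyr _ h)
    rw [← Ideal.Quotient.eq_zero_iff_mem] at hz ⊢
    apply (Algebra.TensorProduct.quotIdealMapEquivTensorQuot T I).injective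
    rw [map_zero, Algebra.TensorProduct.quotIdealMapEquivTensorQuot_mk]
    apply Module.Flat.lTensor_preserves_injective_linearMap (M := T) _ hμ
    rw [map_zero, LinearMap.lTensor_tmul, LinearMap.lsmul_apply, ← TensorProduct.smul_tmul,
      ← Algebra.TensorProduct.quotIdealMapEquivTensorQuot_mk, Algebra.smul_def, hz, map_zero]

/-- A complete local domain of dimension at least two has a module-finite local extension
containing a regular sequence of length two. -/
lemma exists_finite_extension_pair (C : Type u) [CommRing C] [IsDomain C] [IsNoetherianRing C]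
    [IsLocalRing C] [IsAdicComplete (maximalIdeal C) C] (hN : CAlg.IsN1 C)
    (hd : (2 : WithBot ℕ∞) ≤ ringKrullDim C) :
    ∃ (C' : Type u) (_ : CommRing C') (_ : Algebra C C') (_ : IsLocalRing C'),
      Module.Finite C C' ∧ Function.Injective (algebraMap C C') ∧
      ∃ x y : C', x ∈ maximalIdeal C' ∧ y ∈ maximalIdeal C' ∧ (∀ z, x * z = 0 → z = 0) ∧
        (∀ z, y * z ∈ Ideal.span {x} → z ∈ Ideal.span {x}) := by
  classical
  let C' := integralClosure C (FractionRing C)
  haveI : Module.Finite C C' := hN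
  haveI : IsNoetherianRing C' := IsNoetherianRing.of_finite C C'
  haveI : HenselianLocalRing C := by
    haveI : HenselianRing C (maximalIdeal C) := inferInstance
    exact Groth.L05.henselianLocalRing_of_henselianRing
  haveI : IsLocalRing C' := Groth.L05.isLocalRing_of_finite_domain (A := C) C'
  haveI : IsIntegrallyClosed C' :=
    integralClosure.isIntegrallyClosedOfFiniteExtension (R := C) (K := FractionRing C) (L := FractionRing C)
  have hinj : Function.Injective (algebraMap C C') := fun a b h =>
    IsFractionRing.injective C (FractionRing C) (congrArg Subtype.val h)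
  haveI : FaithfulSMul C C' := (faithfulSMul_iff_algebraMap_injective C C').mpr hinj
  refine ⟨C', inferInstance, inferInstance, inferInstance, inferInstance, hinj, ?_⟩
  -- a chain of length two
  obtain ⟨l, hl⟩ := (Order.le_krullDim_iff (α := PrimeSpectrum C) (n := 2)).mp hd
  have h01 : l ⟨0, by omega⟩ < l ⟨1, by omega⟩ := l.strictMono (Fin.mk_lt_mk.mpr (by norm_num))
  have h12 : l ⟨1, by omega⟩ < l ⟨2, by omega⟩ := l.strictMono (Fin.mk_lt_mk.mpr (by norm_num))
  set p := (l ⟨1, by omega⟩).asIdeal with hp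
  have hp0 : p ≠ ⊥ := fun h => not_lt_bot (a := (l ⟨0, by omega⟩).asIdeal)
    ((lt_of_lt_of_eq (show (l ⟨0, by omega⟩).asIdeal < p from h01) h))
  have hpm : p < maximalIdeal C := lt_of_lt_of_le (show p < (l ⟨2, by omega⟩).asIdeal from h12)
    (IsLocalRing.le_maximalIdeal (l ⟨2, by omega⟩).2.ne_top)
  obtain ⟨P, -, hPp, hPc⟩ := Ideal.exists_ideal_over_prime_of_isIntegral (S := C') p (⊥ : Ideal C')
    (by rw [← RingHom.ker_eq_comap_bot, (RingHom.injective_iff_ker_eq_bot _).mp hinj]; exact bot_le)
  have hPm : P < maximalIdeal C' := by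
    refine lt_of_le_of_ne (IsLocalRing.le_maximalIdeal hPp.ne_top) fun h => hpm.ne ?_
    rw [← hPc, h]
    exact IsLocalRing.eq_maximalIdeal
      (Ideal.isMaximal_comap_of_isIntegral_of_isMaximal (R := C) (maximalIdeal C'))
  have hPbot : (⊥ : Ideal C') < P := bot_lt_iff_ne_bot.mpr fun h => hp0 (by
    rw [← hPc, h, ← RingHom.ker_eq_comap_bot]
    exact (RingHom.injective_iff_ker_eq_bot _).mp hinj)
  obtain ⟨x, hxP, hx0⟩ := Submodule.exists_mem_ne_zero_of_ne_bot hPbot.ne'
  have hxm : x ∈ maximalIdeal C' := hPm.le hxP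
  have hnm : maximalIdeal C' ∉ associatedPrimes C' (C' ⧸ Ideal.span {x}) := fun h => by
    have h1 := Groth.L01.height_eq_one_of_mem_associatedPrimes hx0 h
    haveI := hPp
    have h2 := Ideal.height_strict_mono_of_isPrime_of_isPrime hPm
    have h3 := Ideal.height_strict_mono_of_isPrime_of_isPrime (J := P) hPbot
    rw [h1] at h2
    have : P.height = 0 := ENat.lt_one_iff_eq_zero.mp h2
    rw [this] at h3
    exact not_lt_bot h3
  obtain ⟨y, hy, hyass⟩ : ∃ y ∈ maximalIdeal C', ∀ Q ∈ associatedPrimes C' (C' ⧸ Ideal.span {x}), y ∉ Q := by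
    by_contra hcon
    push Not at hcon
    obtain ⟨Q, hQ, hle⟩ : ∃ Q ∈ (associatedPrimes.finite C' (C' ⧸ Ideal.span {x})).toFinset,
        maximalIdeal C' ≤ Q := by
      refine (Ideal.subset_union_prime (f := id) ⊥ ⊥ fun Q hQ _ _ =>
        IsAssociatedPrime.isPrime ((Set.Finite.mem_toFinset _).mp hQ)).mp ?_
      intro y hy
      obtain ⟨Q, hQ, hyQ⟩ := hcon y hy
      simp only [Set.mem_iUnion]
      exact ⟨Q, (Set.Finite.mem_toFinset _).mpr hQ, hyQ⟩
    rw [Set.Finite.mem_toFinset] at hQ
    exact hnm (((maximalIdeal.isMaximal C').eq_of_le (IsAssociatedPrime.isPrime hQ).ne_top hle) ▸ hQ)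
  refine ⟨x, y, hxm, hy, fun z hz => (mul_eq_zero.mp hz).resolve_left hx0, fun z hz => ?_⟩
  by_contra hzx
  obtain ⟨Q, hQ, hle⟩ := exists_le_isAssociatedPrime_of_isNoetherianRing C'
    (Ideal.Quotient.mk (Ideal.span {x}) z) (fun h => hzx (Ideal.Quotient.eq_zero_iff_mem.mp h))
  refine hyass Q hQ (hle ?_)
  rw [Submodule.mem_colon_singleton, Submodule.mem_bot]
  exact Ideal.Quotient.eq_zero_iff_mem.mpr hz

open scoped TensorProduct

/-- The statement for complete rings. -/
lemma dim_component_ge_two (R S : Type u) [CommRing R] [CommRing S] [IsNoetherianRing R]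
    [IsNoetherianRing S] [IsLocalRing R] [IsLocalRing S] [Algebra R S] [IsLocalHom (algebraMap R S)]
    [Module.Flat R S] [IsAdicComplete (maximalIdeal R) R]
    (hR : ∀ q ∈ minimalPrimes R, (2 : WithBot ℕ∞) ≤ ringKrullDim (R ⧸ q)) :
    ∀ q ∈ minimalPrimes S, (2 : WithBot ℕ∞) ≤ ringKrullDim (S ⧸ q) := by
  intro q hq
  haveI := hq.1.1
  set q0 := q.comap (algebraMap R S) with hq0
  have hq0min : q0 ∈ minimalPrimes R := by
    refine ⟨⟨inferInstance, bot_le⟩, ?_⟩
    rintro p ⟨hp, -⟩ hle
    haveI := hp
    haveI : q.LiesOver q0 := ⟨rfl⟩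
    obtain ⟨P, hPle, hPp, hPover⟩ := Ideal.exists_ideal_le_liesOver_of_le (p := p) (q := q0) q hle
    have : P = q := le_antisymm hPle (hq.2 ⟨hPp, bot_le⟩ hPle)
    subst this
    exact hPover.over.symm.le
  let C := R ⧸ q0
  haveI : IsLocalRing C := IsLocalRing.of_surjective' _ Ideal.Quotient.mk_surjective
  haveI : IsAdicComplete (maximalIdeal C) C := Groth.L01.NagataComplete.isAdicComplete_quotient q0
  have hN : CAlg.IsN1 C :=
    Groth.L01.N2.isN1_of_isN2 C ((Groth.Agent.S0568.result R).2 q0)
  obtain ⟨C', _, _, _, hfin, hinj, x, y, hx, hy, hxr, hyr⟩ :=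
    exists_finite_extension_pair C hN (hR q0 hq0min)
  letI : Algebra R C' := ((algebraMap C C').comp (algebraMap R C)).toAlgebra
  haveI : IsScalarTower R C C' := IsScalarTower.of_algebraMap_eq fun _ => rfl
  haveI : Module.Finite R C' := Module.Finite.trans C C'
  haveI : IsNoetherianRing C' := IsNoetherianRing.of_finite R C'
  let D := C' ⊗[R] S
  letI : Algebra S D := Algebra.TensorProduct.rightAlgebra
  haveI : Module.Finite S D := by
    haveI : Module.Finite S (S ⊗[R] C') := Module.Finite.base_change R S C'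
    haveI : Algebra.IsPushout R S C' D := .symm inferInstance
    exact Module.Finite.equiv (IsBaseChange.equiv
      (Algebra.IsPushout.out : IsBaseChange S (IsScalarTower.toAlgHom R C' D).toLinearMap))
  haveI : IsNoetherianRing D := IsNoetherianRing.of_finite S D
  -- a prime of `D` over `q`
  have hker : RingHom.ker (algebraMap S D) ≤ q := by
    intro s hs
    rw [RingHom.mem_ker] at hs
    have hs0 : (1 : C') ⊗ₜ[R] s = 0 := hs
    let ι : C →ₗ[R] C' := (IsScalarTower.toAlgHom R C C').toLinearMap
    have hι : Function.Injective ι := hinj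
    have h1 : (1 : C) ⊗ₜ[R] s = 0 :=
      Module.Flat.rTensor_preserves_injective_linearMap (M := S) ι hι (by
        rw [map_zero, LinearMap.rTensor_tmul]
        show (algebraMap C C' 1) ⊗ₜ[R] s = 0
        rw [map_one]; exact hs0)
    have h2 : Ideal.Quotient.mk (q0.map (algebraMap R S)) s = 0 := by
      apply (Algebra.TensorProduct.quotIdealMapEquivQuotTensor S q0).injective
      rw [map_zero, Algebra.TensorProduct.quotIdealMapEquivQuotTensor_mk]
      exact h1
    rw [Ideal.Quotient.eq_zero_iff_mem] at h2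
    exact Ideal.map_comap_le h2
  obtain ⟨q', -, hq'p, hq'c⟩ := Ideal.exists_ideal_over_prime_of_isIntegral (S := D) q (⊥ : Ideal D)
    (by rw [← RingHom.ker_eq_comap_bot]; exact hker)
  haveI := hq'p
  obtain ⟨q'', hq''min, hq''le⟩ := Ideal.exists_minimalPrimes_le (I := (⊥ : Ideal D)) (J := q') bot_le
  haveI := hq''min.1.1
  have hq''c : q''.comap (algebraMap S D) = q := le_antisymm ((Ideal.comap_mono hq''le).trans hq'c.le)
    (hq.2 ⟨inferInstance, bot_le⟩ ((Ideal.comap_mono hq''le).trans hq'c.le))
  obtain ⟨M, hM, hqM⟩ := Ideal.exists_le_maximal q'' hq''min.1.1.ne_top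
  -- `M` lies over the maximal ideal of `C'`
  have hMS : M.comap (algebraMap S D) = maximalIdeal S :=
    IsLocalRing.eq_maximalIdeal (Ideal.isMaximal_comap_of_isIntegral_of_isMaximal (R := S) M)
  have hMC : M.comap (algebraMap C' D) = maximalIdeal C' := by
    have hMR : (M.comap (algebraMap C' D)).comap (algebraMap R C') = maximalIdeal R := by
      rw [Ideal.comap_comap, ← IsScalarTower.algebraMap_eq R C' D,
        show algebraMap R D = (algebraMap S D).comp (algebraMap R S) from RingHom.ext fun r => by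
          show algebraMap R C' r ⊗ₜ[R] (1 : S) = (1 : C') ⊗ₜ[R] algebraMap R S r
          rw [Algebra.algebraMap_eq_smul_one, Algebra.algebraMap_eq_smul_one, TensorProduct.smul_tmul],
        ← Ideal.comap_comap, hMS, IsLocalRing.maximalIdeal_comap]
    exact IsLocalRing.eq_maximalIdeal (Ideal.isMaximal_of_isIntegral_of_isMaximal_comap (R := R) _
      (hMR ▸ maximalIdeal.isMaximal R))
  -- localise at `M`
  let L := Localization.AtPrime M
  haveI : IsNoetherianRing L := IsLocalization.isNoetherianRing M.primeCompl L inferInstance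
  haveI : Module.Flat D L := IsLocalization.flat L M.primeCompl
  haveI : Module.Flat C' L := Module.Flat.trans C' D L
  obtain ⟨hxL, hyL⟩ := regular_pair_of_flat (T := L) x y hxr hyr
  have hmem : ∀ t ∈ maximalIdeal C', algebraMap C' L t ∈ maximalIdeal L := fun t ht => by
    rw [IsScalarTower.algebraMap_apply C' D L, ← Localization.AtPrime.map_eq_maximalIdeal]
    exact Ideal.mem_map_of_mem _ (hMC.ge ht)
  have hqL : q''.map (algebraMap D L) ∈ minimalPrimes L := by
    have hd : Disjoint (M.primeCompl : Set D) q'' := Set.disjoint_left.mpr fun a ha h => ha (hqM h)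
    haveI := IsLocalization.isPrime_of_isPrime_disjoint M.primeCompl L q'' inferInstance hd
    refine ⟨⟨inferInstance, bot_le⟩, ?_⟩
    rintro P ⟨hP, -⟩ hle
    haveI := hP
    have h1 : P.comap (algebraMap D L) ≤ q'' := (Ideal.comap_mono hle).trans
      (IsLocalization.comap_map_of_isPrime_disjoint M.primeCompl L inferInstance hd).le
    have h2 : q'' ≤ P.comap (algebraMap D L) := hq''min.2 ⟨inferInstance, bot_le⟩ h1
    exact Ideal.map_le_iff_le_comap.mpr h2
  obtain ⟨Q, hQp, hPQ, hQm⟩ := exists_chain_of_regular_pair _ _ (hmem x hx) (hmem y hy) hxL hyL hqL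
  haveI := hQp
  set Q' := Q.comap (algebraMap D L) with hQ'
  have hqQ : q'' < Q' := by
    have hd : Disjoint (M.primeCompl : Set D) q'' := Set.disjoint_left.mpr fun a ha h => ha (hqM h)
    refine lt_of_le_of_ne ((IsLocalization.comap_map_of_isPrime_disjoint M.primeCompl L inferInstance hd).ge.trans
      (Ideal.comap_mono hPQ.le)) fun h => hPQ.ne ?_
    rw [h, IsLocalization.map_comap M.primeCompl L]
  have hQM : Q' < M := by
    refine lt_of_le_of_ne ?_ fun h => hQm.ne ?_
    · exact (Ideal.comap_mono hQm.le).trans (IsLocalization.AtPrime.comap_maximalIdeal L M).le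
    · rw [← IsLocalization.map_comap M.primeCompl L Q]
      show Ideal.map _ Q' = _
      rw [h]
      exact Localization.AtPrime.map_eq_maximalIdeal
  have c1 : q < Q'.comap (algebraMap S D) := hq''c ▸ Ideal.IsIntegral.comap_lt_comap hqQ
  have c2 : Q'.comap (algebraMap S D) < maximalIdeal S := hMS ▸ Ideal.IsIntegral.comap_lt_comap hQM
  rw [ringKrullDim_quotient]
  refine (Order.le_krullDim_iff (n := 2)).mpr
    ⟨((RelSeries.singleton _ (⟨⟨q, inferInstance⟩, le_refl q⟩ : PrimeSpectrum.zeroLocus (R := S) q)).snoc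
      ⟨⟨Q'.comap (algebraMap S D), inferInstance⟩, c1.le⟩ (show q < _ from c1)).snoc
      ⟨⟨maximalIdeal S, (maximalIdeal.isMaximal S).isPrime⟩, c1.le.trans c2.le⟩
      (by simp only [RelSeries.last_snoc, Set.mem_setOf_eq]; exact c2), rfl⟩


/-- Let A → B be a flat local homomorphism of Noetherian local rings and let Â, B̂ be their completions
at the maximal ideals. If every irreducible component of Spec Â has dimension at least 2, then every
irreducible component of Spec B̂ has dimension at least 2. (This is the c_2 condition in its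
completed form; globally: the preimage of a c_2 closed subset under a flat morphism of Noetherian
schemes is c_2, in particular the condition is invariant under Zariski and étale localization.) -/
theorem result
    (A B : Type u) [CommRing A] [CommRing B] [IsNoetherianRing A] [IsNoetherianRing B]
    [IsLocalRing A] [IsLocalRing B] (f : A →+* B) [IsLocalHom f] (hf : f.Flat)
    (hA : ∀ q ∈ minimalPrimes (AdicCompletion (IsLocalRing.maximalIdeal A) A), (2 : WithBot ℕ∞) ≤ ringKrullDim (AdicCompletion (IsLocalRing.maximalIdeal A) A ⧸ q)) :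
    ∀ q ∈ minimalPrimes (AdicCompletion (IsLocalRing.maximalIdeal B) B), (2 : WithBot ℕ∞) ≤ ringKrullDim (AdicCompletion (IsLocalRing.maximalIdeal B) B ⧸ q) := by
  letI := f.toAlgebra
  haveI : IsLocalHom (algebraMap A B) := ‹IsLocalHom f›
  haveI : Module.Flat A B := hf
  obtain ⟨alg, -, hff⟩ := Groth.L06.FormalFibres.exists_cpl_algebra A B
  letI := alg
  haveI := hff
  haveI : IsLocalHom (algebraMap (EGA4.Cpl A) (EGA4.Cpl B)) := by
    obtain ⟨P, hP⟩ := PrimeSpectrum.comap_surjective_of_faithfullyFlat (A := EGA4.Cpl A) (B := EGA4.Cpl B)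
      ⟨IsLocalRing.maximalIdeal _, inferInstance⟩
    refine ((IsLocalRing.local_hom_TFAE (algebraMap (EGA4.Cpl A) (EGA4.Cpl B))).out 0 2 rfl rfl).mpr ?_
    rw [Ideal.map_le_iff_le_comap]
    calc IsLocalRing.maximalIdeal _ = P.asIdeal.comap (algebraMap _ _) :=
          (congrArg PrimeSpectrum.asIdeal hP).symm
      _ ≤ _ := Ideal.comap_mono (IsLocalRing.le_maximalIdeal P.2.ne_top)
  haveI : IsNoetherianRing (EGA4.Cpl A) :=
    Groth.L01.AdicNoeth.isNoetherianRing_adicCompletion _ (IsLocalRing.maximalIdeal A).fg_of_isNoetherianRing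
  haveI : IsNoetherianRing (EGA4.Cpl B) :=
    Groth.L01.AdicNoeth.isNoetherianRing_adicCompletion _ (IsLocalRing.maximalIdeal B).fg_of_isNoetherianRing
  exact dim_component_ge_two (EGA4.Cpl A) (EGA4.Cpl B) hA


end Groth.Agent.S16576
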