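import Groth.Statements.S16577
import Groth.Agent.L05.Henselization.Fibres
import Groth.Agent.L05.Henselization.StrictUniq

set_option autoImplicit false
universe u
open Hensel

namespace Groth.Agent.S16577

/-- Let A be a Noetherian local ring with a strict henselization S', and p a prime ideal of A. Call p an
immediate étale generization of the closed point when the strict henselization S'/pS' of A/p has an
irreducible component of dimension 1, that is, some minimal prime P over pS' has dim S'/P = 1. Then
p is an immediate étale generization of the closed point if and only if p is the contraction of some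
prime ideal P of S' with dim S'/P = 1. -/
theorem result
    (A : Type u) [CommRing A] [IsNoetherianRing A] [IsLocalRing A]
    (S' : Type u) [CommRing S'] [IsLocalRing S'] [Algebra A S'] [IsLocalHom (algebraMap A S')]
    [Hensel.IsStrictHenselization A S']
    (p : Ideal A) [p.IsPrime] :
    (∃ P ∈ (p.map (algebraMap A S')).minimalPrimes, ringKrullDim (S' ⧸ P) = 1) ↔
    (∃ P : Ideal S', P.IsPrime ∧ P.comap (algebraMap A S') = p ∧ ringKrullDim (S' ⧸ P) = 1) := by
  haveI := Groth.L05.Henselization.flat_of_isStrictHenselization A S'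
  constructor
  · rintro ⟨P, hP, hd⟩
    obtain ⟨⟨hPp, hPle⟩, hmin⟩ := hP
    haveI := hPp
    have hle : p ≤ P.comap (algebraMap A S') := Ideal.map_le_iff_le_comap.mp hPle
    haveI : P.LiesOver (P.comap (algebraMap A S')) := ⟨rfl⟩
    obtain ⟨Q, hQle, hQp, hQ⟩ := Ideal.exists_ideal_le_liesOver_of_le (S := S') (p := p)
      (q := P.comap (algebraMap A S')) P hle
    have : P ≤ Q := hmin ⟨hQp, Ideal.map_le_iff_le_comap.mpr hQ.over.le⟩ hQle
    exact ⟨P, hPp, by rw [le_antisymm this hQle]; exact hQ.over.symm, hd⟩
  · rintro ⟨P, hP, hPc, hd⟩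
    refine ⟨P, ⟨⟨hP, Ideal.map_le_iff_le_comap.mpr hPc.ge⟩, fun Q hQ hQle x hx => ?_⟩, hd⟩
    obtain ⟨t, ht, htx⟩ := Groth.L05.Henselization.hasReducedPointFibres_strict A S' P hP x hx
    rw [hPc] at htx
    exact (hQ.1.mem_or_mem (hQ.2 htx)).resolve_left fun h => ht (hQle h)

end Groth.Agent.S16577
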