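import Groth.Statements.S16578
import Groth.Agent.L05.HensTransfer.ImmediateGen
import Groth.Agent.L07.BrnchCompl.Compl

set_option autoImplicit false
set_option linter.style.haveILetI false
universe u
open Hensel

namespace Groth.Agent.S16578

/-- Let A be a Noetherian local ring with completion Â at its maximal ideal, S' a strict henselization
of A, T' a strict henselization of Â, and p a prime ideal of A. Say that a prime p of a Noetherian
local ring with strict henselization S is an immediate étale generization of the closed point when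
some minimal prime P over pS has dim S/P = 1. Then p is an immediate étale generization of the
closed point of A if and only if some minimal prime q over pÂ (a maximal point of the fibre over p
of Spec Â → Spec A) is an immediate étale generization of the closed point of Â. -/
theorem result
    (A : Type u) [CommRing A] [IsNoetherianRing A] [IsLocalRing A]
    (S' : Type u) [CommRing S'] [IsLocalRing S'] [Algebra A S'] [IsLocalHom (algebraMap A S')]
    [Hensel.IsStrictHenselization A S']
    (T' : Type u) [CommRing T'] [IsLocalRing T'] [Algebra (AdicCompletion (IsLocalRing.maximalIdeal A) A) T'] [IsLocalHom (algebraMap (AdicCompletion (IsLocalRing.maximalIdeal A) A) T')]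
    [Hensel.IsStrictHenselization (AdicCompletion (IsLocalRing.maximalIdeal A) A) T']
    (p : Ideal A) [p.IsPrime] :
    (∃ P ∈ (p.map (algebraMap A S')).minimalPrimes, ringKrullDim (S' ⧸ P) = 1) ↔
    (∃ q ∈ (p.map (algebraMap A (AdicCompletion (IsLocalRing.maximalIdeal A) A))).minimalPrimes,
      ∃ Q ∈ (q.map (algebraMap (AdicCompletion (IsLocalRing.maximalIdeal A) A) T')).minimalPrimes, ringKrullDim (T' ⧸ Q) = 1) := by
  let Ah := AdicCompletion (IsLocalRing.maximalIdeal A) A
  haveI : IsNoetherianRing Ah := Groth.L01.AnalUnram.isNoetherianRing_completion A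
  haveI : HenselianLocalRing Ah := Groth.L07.BrnchCompl.henselian_completion A
  haveI : IsLocalHom (algebraMap A Ah) := ((IsLocalRing.local_hom_TFAE (algebraMap A Ah)).out 0 2).mpr
    (Groth.L01.AnalUnram.completion_map_maximalIdeal A).le
  have hS : Hensel.IsStrictHenselization A S' := inferInstance
  have hT : Hensel.IsStrictHenselization Ah T' := inferInstance
  letI : Algebra A T' := ((algebraMap Ah T').comp (algebraMap A Ah)).toAlgebra
  haveI : IsScalarTower A Ah T' := IsScalarTower.of_algebraMap_eq' rfl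
  haveI : IsLocalHom (algebraMap A T') := RingHom.isLocalHom_comp _ _
  haveI := hS.henselian
  haveI := hT.henselian
  haveI := hS.isSepClosure.separable
  haveI := hS.isSepClosure.sep_closed
  haveI := hT.isSepClosure.separable
  haveI := hT.isSepClosure.sep_closed
  haveI : IsScalarTower (IsLocalRing.ResidueField A) (IsLocalRing.ResidueField Ah) (IsLocalRing.ResidueField T') :=
    IsScalarTower.of_algebraMap_eq fun x => by obtain ⟨a, rfl⟩ := IsLocalRing.residue_surjective x; rfl
  have hk : Function.Surjective (algebraMap (IsLocalRing.ResidueField A) (IsLocalRing.ResidueField Ah)) := fun x => by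
    obtain ⟨y, rfl⟩ := IsLocalRing.residue_surjective x
    obtain ⟨r, hr⟩ := Groth.L01.AnalUnram.exists_sub_mem A y
    refine ⟨IsLocalRing.residue A r, ?_⟩
    show IsLocalRing.residue Ah (algebraMap A Ah r) = IsLocalRing.residue Ah y
    rw [← sub_eq_zero, ← map_sub, IsLocalRing.residue_eq_zero_iff, ← neg_sub]
    exact neg_mem hr
  haveI : Algebra.IsSeparable (IsLocalRing.ResidueField A) (IsLocalRing.ResidueField Ah) :=
    ⟨fun x => by obtain ⟨a, rfl⟩ := hk x; exact isSeparable_algebraMap a⟩
  haveI : Algebra.IsSeparable (IsLocalRing.ResidueField A) (IsLocalRing.ResidueField T') :=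
    Algebra.IsSeparable.trans (IsLocalRing.ResidueField A) (IsLocalRing.ResidueField Ah) (IsLocalRing.ResidueField T')
  haveI : IsSepClosure (IsLocalRing.ResidueField A) (IsLocalRing.ResidueField T') := ⟨inferInstance, inferInstance⟩
  haveI := hS.isSepClosure
  let τ : IsLocalRing.ResidueField S' ≃ₐ[IsLocalRing.ResidueField A] IsLocalRing.ResidueField T' :=
    IsSepClosure.equiv (IsLocalRing.ResidueField A) (IsLocalRing.ResidueField S') (IsLocalRing.ResidueField T')
  obtain ⟨g, ⟨hg, hgr⟩, -⟩ := hS.universal T' (algebraMap A T') τ.toAlgHom.toRingHom τ.toAlgHom.comp_algebraMap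
  letI : Algebra S' T' := g.toAlgebra
  haveI : IsScalarTower A S' T' := IsScalarTower.of_algebraMap_eq' hg.symm
  haveI : Algebra.WeaklyEtale A S' :=
    Groth.L27.IndEtale.weaklyEtale _ _ (Groth.L05.Henselization.isIndEtale_of_isStrictHenselization A S')
  haveI : Module.FaithfullyFlat A Ah := Groth.L01.CompletionExt.faithfullyFlat A
  haveI := Groth.L05.Henselization.flat_of_isStrictHenselization A S'
  haveI := Groth.L05.Henselization.flat_of_isStrictHenselization Ah T'
  haveI : Module.Flat A T' := Module.Flat.trans A Ah T'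
  obtain ⟨h1, h2, h3⟩ := Groth.L07.BrnchCompl.ext_data A S' T'
    (Groth.L05.Henselization.map_maximalIdeal_of_isStrictHenselization A S') (by
      rw [IsScalarTower.algebraMap_eq A Ah T', ← Ideal.map_map,
        Groth.L01.AnalUnram.completion_map_maximalIdeal A,
        Groth.L05.Henselization.map_maximalIdeal_of_isStrictHenselization Ah T'])
  haveI := h1
  haveI : IsNoetherianRing S' := (Groth.L05.Henselization.isNoetherianRing_iff_strict A S').mp inferInstance
  haveI : IsNoetherianRing T' := (Groth.L05.Henselization.isNoetherianRing_iff_strict Ah T').mp inferInstance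
  have hres : ∀ y : T', ∃ x : S', y - algebraMap S' T' x ∈ IsLocalRing.maximalIdeal T' := fun y => by
    obtain ⟨z, hz⟩ := τ.surjective (IsLocalRing.residue T' y)
    obtain ⟨x, rfl⟩ := IsLocalRing.residue_surjective z
    refine ⟨x, ?_⟩
    rw [← IsLocalRing.residue_eq_zero_iff, map_sub, sub_eq_zero, ← hz]
    exact (hgr x).symm
  have hmap : (p.map (algebraMap A S')).map (algebraMap S' T') =
      (p.map (algebraMap A Ah)).map (algebraMap Ah T') := by
    rw [Ideal.map_map, Ideal.map_map, ← IsScalarTower.algebraMap_eq, ← IsScalarTower.algebraMap_eq]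
  constructor
  · rintro ⟨P, hP, hd⟩
    haveI := hP.1.1
    obtain ⟨Q, hQ, hc⟩ := Groth.L05.HensTransfer.ImmGen.exists_cov_of_cov (R := T') h2 hP
      ((Groth.L05.HensTransfer.ImmGen.cov_iff P).mp hd)
    rw [hmap] at hQ
    haveI := hQ.1.1
    let q := Q.comap (algebraMap Ah T')
    refine ⟨q, ⟨⟨inferInstance, Ideal.map_le_iff_le_comap.mp hQ.1.2⟩, fun T hT hTle => ?_⟩,
      Q, ⟨⟨inferInstance, Ideal.map_comap_le⟩, fun T hT hTle => hQ.2
        ⟨hT.1, (Ideal.map_mono (Ideal.map_le_iff_le_comap.mp hQ.1.2)).trans hT.2⟩ hTle⟩,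
      (Groth.L05.HensTransfer.ImmGen.cov_iff Q).mpr hc⟩
    haveI := hT.1
    haveI : Q.LiesOver q := ⟨rfl⟩
    obtain ⟨Q', hQ'le, hQ', hov⟩ := Ideal.exists_ideal_le_liesOver_of_le (S := T') (p := T) (q := q) Q hTle
    have : Q ≤ Q' := hQ.2 ⟨hQ', Ideal.map_le_iff_le_comap.mpr (hT.2.trans hov.over.le)⟩ hQ'le
    exact (Ideal.comap_mono this).trans hov.over.ge
  · rintro ⟨q, hq, Q, hQ, hd⟩
    haveI := hq.1.1
    haveI := hQ.1.1
    have hQ' : Q ∈ ((p.map (algebraMap A Ah)).map (algebraMap Ah T')).minimalPrimes := by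
      refine ⟨⟨inferInstance, (Ideal.map_mono hq.1.2).trans hQ.1.2⟩, fun T hT hTle => ?_⟩
      haveI := hT.1
      haveI : Q.LiesOver (Q.comap (algebraMap Ah T')) := ⟨rfl⟩
      obtain ⟨Q₂, hQ₂le, hQ₂, hov⟩ := Ideal.exists_ideal_le_liesOver_of_le (S := T') (p := q)
        (q := Q.comap (algebraMap Ah T')) Q (Ideal.map_le_iff_le_comap.mp hQ.1.2)
      have hQQ₂ : Q ≤ Q₂ := hQ.2 ⟨hQ₂, Ideal.map_le_iff_le_comap.mpr hov.over.le⟩ hQ₂le
      have hQq : Q.comap (algebraMap Ah T') = q :=
        le_antisymm ((Ideal.comap_mono hQQ₂).trans hov.over.ge) (Ideal.map_le_iff_le_comap.mp hQ.1.2)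
      have hTq : q ≤ T.comap (algebraMap Ah T') :=
        hq.2 ⟨inferInstance, Ideal.map_le_iff_le_comap.mp hT.2⟩ ((Ideal.comap_mono hTle).trans hQq.le)
      exact hQ.2 ⟨inferInstance, Ideal.map_le_iff_le_comap.mpr hTq⟩ hTle
    rw [← hmap] at hQ'
    obtain ⟨P, hP, hc⟩ := Groth.L05.HensTransfer.ImmGen.cov_comap h2 hres hQ'
      ((Groth.L05.HensTransfer.ImmGen.cov_iff Q).mp hd)
    haveI := hP.1.1
    exact ⟨P, hP, (Groth.L05.HensTransfer.ImmGen.cov_iff P).mpr hc⟩

end Groth.Agent.S16578
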