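import Groth.Statements.S16579
import Groth.Agent.L05.GabberRig.Main
import Groth.Agent.L05.TorsionTensor
import Mathlib.RingTheory.AdicCompletion.Completeness
import Mathlib.RingTheory.AdicCompletion.Algebra

set_option autoImplicit false
universe u
open CategoryTheory AlgebraicGeometry
open Hensel

namespace Groth.Agent.S16579

/-- The case of the constant sheaf on a two-element set. Let (A, I) be a henselian pair with I finitely
generated (A not necessarily Noetherian), Â the I-adic completion of A, π : Spec Â → Spec A the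
completion morphism, U a quasi-compact open subscheme of Spec A containing the complement of V(I),
and Û = π⁻¹(U). Then V ↦ (π|Û)⁻¹(V) is a bijection from the clopen subsets of U onto the clopen
subsets of Û; equivalently, for every finite set F the locally constant F-valued functions on U and
on Û correspond under composition with π. -/
theorem result
    (A : Type u) [CommRing A] (I : Ideal A) (hI : I.FG) [HenselianRing A I]
    (U : (Spec (CommRingCat.of A)).Opens) (hU : IsCompact (U : Set (Spec (CommRingCat.of A))))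
    (hUI : ∀ x : Spec (CommRingCat.of A), x ∉ U → I ≤ x.asIdeal) :
    Function.Bijective (fun V : {V : Set ↥U // IsClopen V} =>
      (⟨((Spec.map (CommRingCat.ofHom (algebraMap A (AdicCompletion I A)))) ∣_ U).base.hom ⁻¹' V.1, V.2.preimage ((Spec.map (CommRingCat.ofHom (algebraMap A (AdicCompletion I A)))) ∣_ U).base.hom.continuous⟩ :
        {V' : Set ↥((Spec.map (CommRingCat.ofHom (algebraMap A (AdicCompletion I A)))) ⁻¹ᵁ U) // IsClopen V'})) := by
  classical
  set φ := algebraMap A (AdicCompletion I A) with hφ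
  have hb := fun n => Groth.L05.quotientMap_adicCompletion_bijective hI n
  have hs : ∀ (N : ℕ) (y : AdicCompletion I A), ∃ x : A, y - φ x ∈ (I ^ N).map φ := fun N y => by
    obtain ⟨q, hq⟩ := (hb N).2 (Ideal.Quotient.mk _ y)
    obtain ⟨x, rfl⟩ := Ideal.Quotient.mk_surjective q
    rw [Ideal.quotientMap_mk, Ideal.Quotient.eq] at hq
    exact ⟨x, by simpa [hφ] using neg_mem hq⟩
  have hi : ∀ (N : ℕ) (x : A), φ x ∈ (I ^ N).map φ → x ∈ I ^ N := fun N x hx => by
    refine Ideal.Quotient.eq_zero_iff_mem.mp ((hb N).1 ?_)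
    rw [Ideal.quotientMap_mk, map_zero]
    exact Ideal.Quotient.eq_zero_iff_mem.mpr hx
  have hJ : I.map φ ≤ Ideal.jacobson ⊥ := by
    haveI : IsAdicComplete I (AdicCompletion I A) := AdicCompletion.isAdicComplete hI
    haveI : IsAdicComplete (I.map φ) (AdicCompletion I A) :=
      (IsAdicComplete.map_algebraMap_iff (S := AdicCompletion I A) I _).mpr inferInstance
    exact IsAdicComplete.le_jacobson_bot _
  have hD : (PrimeSpectrum.zeroLocus (I : Set A))ᶜ ⊆ (U.carrier : Set (PrimeSpectrum A)) := fun x hx => by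
    by_contra h
    exact hx (hUI x h)
  obtain ⟨σ, hσs, hσ, hσk⟩ := Groth.L05.GabberRig.exists_retraction I φ hs hi
  set g := Spec.map (CommRingCat.ofHom φ) with hg
  let Us : Set (PrimeSpectrum A) := U.carrier
  let Ug : Set (PrimeSpectrum (AdicCompletion I A)) := PrimeSpectrum.comap φ ⁻¹' Us
  have hUg : IsOpen Ug := U.2.preimage (PrimeSpectrum.continuous_comap φ)
  have hcoe : ∀ z : ↥(g ⁻¹ᵁ U), ((g ∣_ U) z).1 = PrimeSpectrum.comap φ z.1 :=
    fun z => morphismRestrict_base_coe g U z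
  -- clopens of an open subspace as subsets of the ambient space
  have hA : ∀ V : Set ↥U, IsClopen V →
      IsOpen (Subtype.val '' V : Set (PrimeSpectrum A)) ∧ IsOpen (Us \ Subtype.val '' V) ∧
        (Subtype.val '' V : Set (PrimeSpectrum A)) ⊆ Us := fun V hV => by
    refine ⟨U.2.isOpenMap_subtype_val _ hV.isOpen, ?_, ?_⟩
    · have : Us \ Subtype.val '' V = Subtype.val '' Vᶜ := by
        ext x
        exact ⟨fun ⟨hxU, hx⟩ => ⟨⟨x, hxU⟩, fun h => hx ⟨_, h, rfl⟩, rfl⟩, by
          rintro ⟨⟨x, hxU⟩, hx, rfl⟩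
          exact ⟨hxU, by rintro ⟨⟨x', hx'⟩, h, rfl⟩; exact hx h⟩⟩
      rw [this]
      exact U.2.isOpenMap_subtype_val _ hV.compl.isOpen
    · rintro _ ⟨x, -, rfl⟩
      exact x.2
  constructor
  · intro V₁ V₂ h
    have h' : ∀ z : ↥(g ⁻¹ᵁ U), (g ∣_ U) z ∈ V₁.1 ↔ (g ∣_ U) z ∈ V₂.1 := fun z =>
      Set.ext_iff.mp (congrArg Subtype.val h) z
    have key : ∀ W W' : Set ↥U, IsClopen W → IsClopen W' →
        (∀ z : ↥(g ⁻¹ᵁ U), (g ∣_ U) z ∈ W → (g ∣_ U) z ∈ W') → W ⊆ W' := by
      intro W W' hW hW' hsub x hx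
      have := Groth.L05.GabberRig.mem_of_preimage_mem I φ hs hI Us U.2 hD (hA W hW).1 (hA W hW).2.1
        (hA W hW).2.2 (hA W' hW').1 (hA W' hW').2.1 σ hσ hi ?_ ⟨x, hx, rfl⟩
      · obtain ⟨x', hx', he⟩ := this
        exact Subtype.ext he ▸ hx'
      intro p hp
      obtain ⟨⟨y, hyU⟩, hy, he⟩ := hp
      change y = PrimeSpectrum.comap φ p at he
      subst he
      let z : ↥(g ⁻¹ᵁ U) := ⟨p, hyU⟩
      have hz : (g ∣_ U) z = ⟨PrimeSpectrum.comap φ p, hyU⟩ := Subtype.ext (hcoe z)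
      exact ⟨_, hsub z (hz ▸ hy), hcoe z⟩
    exact Subtype.ext (Set.Subset.antisymm (key _ _ V₁.2 V₂.2 fun z => (h' z).1)
      (key _ _ V₂.2 V₁.2 fun z => (h' z).2))
  · rintro ⟨V', hV'⟩
    let T : Set (PrimeSpectrum (AdicCompletion I A)) := Subtype.val '' V'
    have hTo : IsOpen T := (g ⁻¹ᵁ U).2.isOpenMap_subtype_val _ hV'.isOpen
    have hT' : IsOpen (Ug \ T) := by
      have : Ug \ T = Subtype.val '' V'ᶜ := by
        ext x
        exact ⟨fun ⟨hxU, hx⟩ => ⟨⟨x, hxU⟩, fun h => hx ⟨_, h, rfl⟩, rfl⟩, by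
          rintro ⟨⟨x, hxU⟩, hx, rfl⟩
          exact ⟨hxU, by rintro ⟨⟨x', hx'⟩, h, rfl⟩; exact hx h⟩⟩
      rw [this]
      exact (g ⁻¹ᵁ U).2.isOpenMap_subtype_val _ hV'.compl.isOpen
    have hTU : T ⊆ Ug := by
      rintro _ ⟨x, -, rfl⟩
      exact x.2
    obtain ⟨W, hWU, hW, hW', hWT⟩ := Groth.L05.GabberRig.exists_clopen I φ hs hi hJ hI Us U.2 hD
      hσs hσ hσk hU hTo hT' hTU
    refine ⟨⟨{x : ↥U | (x.1 : PrimeSpectrum A) ∈ W}, ?_, hW.preimage continuous_subtype_val⟩, ?_⟩
    · rw [← isOpen_compl_iff]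
      have : {x : ↥U | (x.1 : PrimeSpectrum A) ∈ W}ᶜ = Subtype.val ⁻¹' (Us \ W) := by
        ext x
        exact ⟨fun h => ⟨x.2, h⟩, fun h => h.2⟩
      rw [this]
      exact hW'.preimage continuous_subtype_val
    · refine Subtype.ext (Set.ext fun z => ?_)
      show ((g ∣_ U) z).1 ∈ W ↔ z ∈ V'
      rw [hcoe z]
      refine (Set.ext_iff.mp hWT z.1).trans ?_
      exact ⟨fun ⟨z', hz', he⟩ => Subtype.ext he ▸ hz', fun h => ⟨z, h, rfl⟩⟩

end Groth.Agent.S16579
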