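import Groth.Statements.S1658
import Groth.Agent.L19.DivisorDifference

set_option autoImplicit false
set_option backward.isDefEq.respectTransparency.types false
set_option backward.isDefEq.respectTransparency false
set_option linter.style.haveILetI false
universe u
open CategoryTheory CategoryTheory.Limits AlgebraicGeometry
open Divisors

namespace Groth.Agent.S1658

/-- Let X be Noetherian with an ample invertible module and N any invertible O_X-module. For every
finite set E of points of X there are effective Cartier divisors D and D', whose supports miss E,
with N ⊗ I_D ≅ I_{D'} (that is, N ≅ O_X(D) ⊗ O_X(D')^{-1}), where I_D, I_{D'} are the ideal sheaves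
as O_X-modules. -/
theorem result (X : Scheme.{u}) [IsNoetherian X] (L : X.Modules) (hL : CohB1.IsAmple L)
    (N : X.Modules) (hN : PicF.IsInvertible N) (E : Set X) (hE : E.Finite) :
    ∃ D D' : X.IdealSheafData, BlowUp.IsEffCartierIdeal D ∧ BlowUp.IsEffCartierIdeal D' ∧
      Disjoint E (D.support : Set X) ∧ Disjoint E (D'.support : Set X) ∧
      Nonempty (CohB1.tensorMod N (ClSub.idealMod D) ≅ ClSub.idealMod D') := Groth.L19.DivisorDifference.exists_effCartier_pair hL hN E hE

end Groth.Agent.S1658
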