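import Groth.Statements.S16581
import Groth.Agent.L23.Rigidity.Main

set_option autoImplicit false
universe u
open CategoryTheory CategoryTheory.Limits AlgebraicGeometry Opposite
open EtDesc

namespace Groth.Agent.S16581

/-- Let (A, I) be a henselian pair with I finitely generated (A not necessarily Noetherian), Â the
I-adic completion of A, π : Spec Â → Spec A the completion morphism, U a quasi-compact open
subscheme of Spec A containing the complement of V(I), and Û = π⁻¹(U). Then for every sheaf of sets
F on the small étale site of U the pullback map on global sections H⁰(U, F) → H⁰(Û, F|Û) along π|Û :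
Û → U is bijective. (No Noetherian, torsion or constructibility hypothesis on A or F; part (ii) of
the result, on H¹ with coefficients in an ind-finite sheaf of groups, is not included.) -/
theorem result
    (A : Type u) [CommRing A] (I : Ideal A) (hI : I.FG) [HenselianRing A I]
    (U : (Spec (CommRingCat.of A)).Opens) (hU : IsCompact (U : Set (Spec (CommRingCat.of A))))
    (hUI : ∀ x : Spec (CommRingCat.of A), x ∉ U → I ≤ x.asIdeal)
    (F : EtDesc.Sh (U : Scheme.{u})) :
    Function.Bijective (EtDesc.secPull ((Spec.map (CommRingCat.ofHom (algebraMap A (AdicCompletion I A)))) ∣_ U) F) := by
  exact Groth.L23.Rigidity.bijective_secPull_completion I hI U hU hUI F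

end Groth.Agent.S16581
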