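import Groth.Statements.S16583
import Groth.Agent.L28.Misc.ZariskiTrivial

set_option autoImplicit false
universe u
open CategoryTheory AlgebraicGeometry
open EtCore

namespace Groth.Agent.S16583

/-- Let X be a scheme such that every local ring of X is a field and every residue field of X is
algebraically closed, and let f : Y → X be an étale morphism. Then f is Zariski-locally trivial: for
every point y of Y there exist an open V of X containing f(y) and a section s : V → Y of f over V
whose image contains y. (The published lemma is stated for a specific scheme X^c attached to a
coherent scheme — the constructible topology of a suitable integral cover, which has these two
properties by construction; the row states the assertion for every scheme with these two properties,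
which is all the printed proof uses. The lemma's further assertions about the étale and Zariski
topoi, torsors and gerbes on X^c are not included.) -/
theorem result
    (X Y : Scheme.{u}) (hX : ∀ x : X, IsField (X.presheaf.stalk x))
    (hX' : ∀ x : X, IsAlgClosed (X.residueField x))
    (f : Y ⟶ X) [Etale f] (y : Y) :
    ∃ (V : X.Opens) (s : (V : Scheme.{u}) ⟶ Y), f.base y ∈ V ∧ s ≫ f = V.ι ∧ y ∈ Set.range s.base := by
  exact Groth.L28.Misc.exists_local_section hX hX' f y

end Groth.Agent.S16583
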