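import Groth.Statements.S16585
import Groth.Agent.L06.TowerDiag.ML
import Mathlib.Tactic.TFAE


set_option autoImplicit false
set_option maxSynthPendingDepth 3
set_option linter.style.haveILetI false
universe u
open Coh

namespace Groth.Agent.S16585

open CategoryTheory CategoryTheory.Limits AlgebraicGeometry Opposite in
/-- Fix a ground field k and a scheme X of finite type over k, and consider a tower (F_n) of O_X-modules
that are countably quasi-coherent (meaning quasi-coherent, with the sections over each affine open
countably generated). Write lim¹ F for the cokernel of the endomorphism of ∏ F_n sending (x_n) to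
(x_n − φ_n(x_{n+1})); when the tower consists of quasi-coherent modules, this agrees with the first
derived functor of lim. Then three conditions are equivalent: (i) the Mittag-Leffler condition holds
for the tower (F_n); (ii) lim¹ F vanishes; (iii) lim¹ F is countably quasi-coherent. No restriction
on the ground field is needed. -/
theorem result (k : Type u) [Field k] (X : Scheme.{u})
    [X.Over (Spec (CommRingCat.of k))] [LocallyOfFiniteType (X ↘ Spec (CommRingCat.of k))] [CompactSpace X]
    (F : ℕᵒᵖ ⥤ X.Modules) (hF : ∀ n : ℕ, Coh.IsQCoh (F.obj (op n)))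
    (hFc : ∀ n : ℕ, (∀ U : X.affineOpens, ∃ s : Set ((F.obj (op n)).val.obj (op (U : X.Opens))),
          s.Countable ∧ Submodule.span (X.ringCatSheaf.obj.obj (op (U : X.Opens))) s = ⊤)) :
    List.TFAE
      [ ∀ n : ℕ, ∃ (m : ℕ) (hm : n ≤ m), ∀ (m' : ℕ) (hm' : m ≤ m'),
          imageSubobject (F.map (homOfLE (hm.trans hm')).op) = imageSubobject (F.map (homOfLE hm).op),
        IsZero (LimSh.limOneSh F),
        Coh.IsQCoh (LimSh.limOneSh F) ∧
          ∀ U : X.affineOpens, ∃ s : Set ((LimSh.limOneSh F).val.obj (op (U : X.Opens))),
            s.Countable ∧ Submodule.span (X.ringCatSheaf.obj.obj (op (U : X.Opens))) s = ⊤ ] := by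
  tfae_have 1 → 2 := fun h => Groth.L06.TowerDiag.isZero_limOneSh F
    (Groth.L06.TowerDiag.mlAffine_of_imageSubobject F hF h)
  tfae_have 2 → 3 := fun h => ⟨Groth.L06.TowerDiag.isQCoh_of_isZero (hF 0) h,
    fun U => Groth.L06.TowerDiag.span_empty_of_isZero h U.1⟩
  tfae_have 3 → 1 := fun h => Groth.L06.TowerDiag.imageSubobject_of_countable F k hF
    (fun n U hU => hFc n ⟨U, hU⟩) (fun U hU => h.2 ⟨U, hU⟩)
  tfae_finish

end Groth.Agent.S16585
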