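
import Groth.Statements.S1659
import Groth.Agent.L22.CartierDecomp

set_option autoImplicit false
universe u
open CategoryTheory CategoryTheory.Limits AlgebraicGeometry
open Divisors

namespace Groth.Agent.S1659

/-- Let X be Noetherian, D an effective Cartier divisor and D_1, …, D_r effective Cartier divisors which
are integral as closed subschemes, with D contained set-theoretically in their union. Then D = Σ a_i
D_i for some a_i ≥ 0, i.e. the ideal sheaf of D is the product of the a_i-th powers of the ideal
sheaves of the D_i. -/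
theorem result (X : Scheme.{u}) [IsNoetherian X] (D : X.IdealSheafData) (hD : BlowUp.IsEffCartierIdeal D)
    (r : ℕ) (Ds : Fin r → X.IdealSheafData) (hDs : ∀ i, BlowUp.IsEffCartierIdeal (Ds i)) (hint : ∀ i, IsIntegral (Ds i).subscheme)
    (hsub : (D.support : Set X) ⊆ ⋃ i, ((Ds i).support : Set X)) :
    ∃ a : Fin r → ℕ, D = ∏ i, Ds i ^ a i := by
  have hmax : ∀ y : X, (∀ y', y' ⤳ y → y' = y) → y ∉ (D.support : Set X) := fun y hy =>
    Groth.L22.notMem_support_of_maximal hD hy
  have hsub' := hsub
  clear hsub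
  obtain ⟨a, J, hJ, hJξ⟩ := Groth.L22.CartierDecomp.exists_decomp Ds hDs hint D hmax
  have hJcart : BlowUp.IsEffCartierIdeal J := by
    refine Groth.L22.Ideals.isEffCartier_left_of_mul (J := a.prod (fun i n => Ds i ^ n)) ?_
    rw [mul_comm, hJ]
    exact hD
  have hsub : (J.support : Set X) ⊆ (D.support : Set X) := by
    refine Scheme.IdealSheafData.support_antitone ?_
    intro U
    rw [← hJ, Scheme.IdealSheafData.ideal_mul, Pi.mul_apply]
    exact Ideal.mul_le_right
  refine ⟨a, ?_⟩
  have hJtop : J = ⊤ := by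
    rw [← Scheme.IdealSheafData.support_eq_bot_iff]
    refine TopologicalSpace.Closeds.ext (Set.eq_empty_of_forall_notMem fun z hz => ?_)
    obtain ⟨y, hy, -, hymax⟩ :=
      Groth.L22.CartierDecomp.exists_maximal_of_mem J.support.isClosed hz
    obtain ⟨i, hi⟩ := Set.mem_iUnion.1 (hsub' (hsub hy))
    haveI := hint i
    have h2 := Groth.L22.CartierDecomp.two_le_dim (hDs i) hi
      fun ξ hξ e => hJξ i ξ hξ (e ▸ hy)
    have h1 := Groth.L22.LocalDim.dim_le_one_of_locPrincipal (fun x _ => by
      obtain ⟨U, hx, f, -, hf⟩ := hJcart x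
      exact ⟨U, hx, f, hf⟩) hy hymax
    exact absurd (h2.trans h1) (by decide)
  rw [hJtop, Finsupp.prod_fintype _ _ (fun _ => pow_zero _)] at hJ
  exact hJ.symm.trans (mul_one _)

end Groth.Agent.S1659
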