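import Groth.Statements.S16602
import Groth.Agent.L11.Az.LGCor

set_option autoImplicit false
universe u v w
open Brauer

namespace Groth.Agent.S16602

/-- Let R be an LG-ring with Spec R connected and A an Azumaya R-algebra. Then any two indecomposable
finitely generated projective left A-modules are isomorphic (a module is indecomposable when it is
non-zero and the only idempotents of its endomorphism ring are 0 and 1). (This extends the semilocal
case.) -/
theorem result {R : Type u} [CommRing R]
    (hR : LGRing.IsLGRing R) [ConnectedSpace (PrimeSpectrum R)] {A : Type v} [Ring A] [Algebra R A] [IsAzumaya R A]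
    (P Q : Type w) [AddCommGroup P] [Module A P] [Module.Finite A P] [Module.Projective A P] [Nontrivial P]
    [AddCommGroup Q] [Module A Q] [Module.Finite A Q] [Module.Projective A Q] [Nontrivial Q]
    (hP : ∀ e : Module.End A P, IsIdempotentElem e → e = 0 ∨ e = 1)
    (hQ : ∀ e : Module.End A Q, IsIdempotentElem e → e = 0 ∨ e = 1) : Nonempty (P ≃ₗ[A] Q) := by
  letI : Module R P := Module.compHom P (algebraMap R A)
  letI : Module R Q := Module.compHom Q (algebraMap R A)
  haveI : IsScalarTower R A P := ⟨fun r a x => by rw [Algebra.smul_def, mul_smul]; rfl⟩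
  haveI : IsScalarTower R A Q := ⟨fun r a x => by rw [Algebra.smul_def, mul_smul]; rfl⟩
  haveI : Module.Finite R P := Module.Finite.trans A P
  haveI : Module.Finite R Q := Module.Finite.trans A Q
  haveI : ∀ j : ℕ, Module.Projective R (Fin j → A) := fun j =>
    Module.Projective.of_equiv ((finsuppLEquivDirectSum R A (Fin j)).symm.trans
      (Finsupp.linearEquivFunOnFinite R A (Fin j)))
  obtain ⟨_, pA, iA, -, -, hA⟩ := Module.Finite.exists_comp_eq_id_of_projective A P
  haveI : Module.Projective R P := Module.Projective.of_split (iA.restrictScalars R) (pA.restrictScalars R)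
    (LinearMap.ext fun x => DFunLike.congr_fun hA x)
  obtain ⟨_, pB, iB, -, -, hB⟩ := Module.Finite.exists_comp_eq_id_of_projective A Q
  haveI : Module.Projective R Q := Module.Projective.of_split (iB.restrictScalars R) (pB.restrictScalars R)
    (LinearMap.ext fun x => DFunLike.congr_fun hB x)
  obtain ⟨p₀⟩ := (inferInstance : Nonempty (PrimeSpectrum R))
  haveI : Module.FinitePresentation R P := Module.finitePresentation_of_projective R P
  haveI : Module.FinitePresentation R Q := Module.finitePresentation_of_projective R Q
  have cP : ∀ p : PrimeSpectrum R, Module.rankAtStalk P p = Module.rankAtStalk P p₀ := fun p =>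
    Module.isLocallyConstant_rankAtStalk.apply_eq_of_isPreconnected isPreconnected_univ trivial trivial
  have cQ : ∀ p : PrimeSpectrum R, Module.rankAtStalk Q p = Module.rankAtStalk Q p₀ := fun p =>
    Module.isLocallyConstant_rankAtStalk.apply_eq_of_isPreconnected isPreconnected_univ trivial trivial
  have key : ∀ (X Y : Type w) [AddCommGroup X] [Module A X] [AddCommGroup Y] [Module A Y] [Module.Projective A Y]
      [Nontrivial Y], (∀ e : Module.End A X, IsIdempotentElem e → e = 0 ∨ e = 1) →
      ∀ f : X →ₗ[A] Y, Function.Surjective f → Nonempty (X ≃ₗ[A] Y) := by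
    intro X Y _ _ _ _ _ _ hX f hf
    obtain ⟨g, hg⟩ := Module.projective_lifting_property f LinearMap.id hf
    have hfg : ∀ y, f (g y) = y := fun y => DFunLike.congr_fun hg y
    rcases hX (g ∘ₗ f) (LinearMap.ext fun x => by simp [Module.End.mul_apply, hfg]) with h | h
    · obtain ⟨y, hy⟩ := exists_ne (0 : Y)
      have := congrArg f (DFunLike.congr_fun h (g y))
      simp [hfg] at this
      exact absurd this hy
    · exact ⟨LinearEquiv.ofBijective f ⟨Function.LeftInverse.injective (g := g) fun x => DFunLike.congr_fun h x, hf⟩⟩
  rcases le_total (Module.rankAtStalk Q p₀) (Module.rankAtStalk P p₀) with h | h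
  · obtain ⟨f, hf⟩ := Groth.L11.LG.exists_surjective_module (R := R) (A := A) hR P Q fun p => by rw [cP, cQ]; exact h
    exact key P Q hP f hf
  · obtain ⟨f, hf⟩ := Groth.L11.LG.exists_surjective_module (R := R) (A := A) hR Q P fun p => by rw [cP, cQ]; exact h
    exact (key Q P hQ f hf).map LinearEquiv.symm

end Groth.Agent.S16602
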