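import Groth.Statements.S16607
import Groth.Agent.L11.Az.LGCor

set_option autoImplicit false
universe u v
open Brauer

namespace Groth.Agent.S16607

/-- Let R be an LG-ring, A and B Azumaya R-algebras and n ≥ 1. If Mₙ(A) ≅ Mₙ(B) as R-algebras then A ≅ B
as R-algebras (cancellation of Azumaya algebras). -/
theorem result {R : Type u} [CommRing R]
    (hR : LGRing.IsLGRing R) (A B : Type v) [Ring A] [Algebra R A] [IsAzumaya R A] [Ring B] [Algebra R B]
    [IsAzumaya R B] (n : ℕ) (hn : 0 < n)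
    (e : Matrix (Fin n) (Fin n) A ≃ₐ[R] Matrix (Fin n) (Fin n) B) : Nonempty (A ≃ₐ[R] B) := by
  haveI : Nonempty (Fin n) := Fin.pos_iff_nonempty.mp hn
  haveI : FaithfulSMul R (Fin n → R) := ⟨fun {r s} h => by simpa using congrFun (h 1) ⟨0, hn⟩⟩
  let E : ∀ (X : Type v) [Ring X] [Algebra R X],
      Matrix (Fin n) (Fin n) X ≃ₐ[R] TensorProduct R X (Module.End R (Fin n → R)) := fun X _ _ =>
    (matrixEquivTensor (Fin n) R X).trans (Algebra.TensorProduct.congr AlgEquiv.refl Matrix.toLinAlgEquiv')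
  let e' := ((E A).symm.trans e).trans (E B)
  refine Groth.L11.LG.nonempty_algEquiv hR A B (Fin n → R) (Fin n → R) e' fun p => ?_
  have hp := Groth.L11.LG.rankAtStalk_pos (R := R) (Fin n → R) p
  exact Nat.eq_of_mul_eq_mul_right (Nat.mul_pos hp hp) (Groth.L11.LG.rank_relation A B _ _ e' p)

end Groth.Agent.S16607
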