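import Groth.Statements.S16609
import Groth.Agent.L11.Az.LGCor

set_option autoImplicit false
open scoped TensorProduct
universe u v
open Brauer

namespace Groth.Agent.S16609

/-- Let R be an LG-ring and A, B two Azumaya R-algebras of the same degree (the same rank function on
Spec R). Then A ≅ B as R-algebras as soon as A and B have the same class in the Brauer group of R,
i.e. A ⊗_R End_R(P) ≅ B ⊗_R End_R(Q) for some faithfully projective R-modules P, Q (the converse
being clear). -/
theorem result {R : Type u} [CommRing R]
    (hR : LGRing.IsLGRing R) (A B : Type u) [Ring A] [Algebra R A] [IsAzumaya R A] [Ring B] [Algebra R B]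
    [IsAzumaya R B] (hdeg : ∀ p : PrimeSpectrum R, Module.rankAtStalk A p = Module.rankAtStalk B p)
    (P Q : Type u) [AddCommGroup P] [Module R P] [Module.Finite R P] [Module.Projective R P] [FaithfulSMul R P]
    [AddCommGroup Q] [Module R Q] [Module.Finite R Q] [Module.Projective R Q] [FaithfulSMul R Q]
    (e : A ⊗[R] Module.End R P ≃ₐ[R] B ⊗[R] Module.End R Q) : Nonempty (A ≃ₐ[R] B) := by
  exact Groth.L11.LG.nonempty_algEquiv hR A B P Q e hdeg

end Groth.Agent.S16609
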