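import Groth.Statements.S16611
import Groth.Agent.L25.SplitSub.Subtori
import Groth.Agent.L25.SplitSub.Greatest
import Groth.Agent.L25.HomLocus.Props
import Groth.Agent.L25.Locus.Torus

set_option autoImplicit false
open CategoryTheory MonoidalCategory CartesianMonoidalCategory MonObj GrpObj AlgebraicGeometry
universe u
open SGA3x

namespace Groth.Agent.S16611

set_option backward.isDefEq.respectTransparency.types false
set_option linter.style.haveILetI false

open Groth.L25 Groth.L25.SplitSub CategoryTheory.Limits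

/-- Over an arbitrary scheme S, a monomorphism f : T ⟶ T' of S-tori with the same rank function (at
every point of S the geometric fibres of T and T' are split tori of the same rank) is an
isomorphism. -/
theorem result {S : Scheme.{u}} {T T' : Over S} [GrpObj T] [GrpObj T']
    (hT : Red.IsTorus T) (hT' : Red.IsTorus T') (f : T ⟶ T') [IsMonHom f] [Mono f]
    (hrk : ∀ s : ↥S, ∃ r : ℕ, Red.IsSplitTorusWith (Fin r → ℤ) (Red.geomFibre s T) ∧
      Red.IsSplitTorusWith (Fin r → ℤ) (Red.geomFibre s T')) : IsIso f := by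
  have hH := Locus.isMultTypeFT_of_isTorus hT
  have hG := Locus.isMultTypeFT_of_isTorus hT'
  obtain ⟨U, -, hU, hiso⟩ := HomLocus.exists_iso_locus f (Locus.locally_of_multTypeFT hH) hG
  have hall : ∀ s, s ∈ U := fun s => by
    rw [hU]
    obtain ⟨r, h1, h2⟩ := hrk s
    obtain ⟨p, p', hp, -, hpp', hp'p, hpi⟩ := exists_std h1
    obtain ⟨q, q', -, hq', hqq', hq'q, -⟩ := exists_std h2
    let g := Red.geomPt s
    haveI hfm : IsMonHom ((Over.pullback g).map f) :=
      ((Over.pullback g).mapGrp.map (Grp.homMk'' (A := Grp.mk T) (B := Grp.mk T') f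
        (IsMonHom.one_hom f) (IsMonHom.mul_hom f))).hom.isMonHom_hom
    haveI : IsIso q' := ⟨q, hq'q, hqq'⟩
    haveI := hpi
    haveI : Mono ((Over.pullback g).map f) := inferInstance
    haveI hfq : IsMonHom ((Over.pullback g).map f ≫ q') :=
      isMonHom_of_mul _ fun X a b => by
        rw [← Category.assoc, @MonObj.mul_comp _ _ _ _ _ _ _ _ a b _ hfm, @MonObj.mul_comp _ _ _ _ _ _ _ _ _ _ q' hq',
          Category.assoc, Category.assoc]
    haveI : IsMonHom (p ≫ (Over.pullback g).map f ≫ q') :=
      isMonHom_of_mul _ fun X a b => by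
        rw [← Category.assoc, @MonObj.mul_comp _ _ _ _ _ _ _ _ a b p hp, @MonObj.mul_comp _ _ _ _ _ _ _ _ _ _ _ hfq, Category.assoc, Category.assoc]
    haveI := isIso_of_mono_split le_rfl (p ≫ (Over.pullback g).map f ≫ q')
    haveI : IsIso ((Over.pullback g).map f ≫ q') := IsIso.of_isIso_comp_left p _
    haveI : IsIso ((Over.pullback g).map f) := IsIso.of_isIso_comp_right _ q'
    refine (HomLocus.fib_iff f (MorphismProperty.isomorphisms Scheme.{u}) g s ?_).2
      (inferInstanceAs (IsIso ((Over.forget _).map ((Over.pullback g).map f))))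
    show S.fromSpecResidueField s _ = s
    exact Scheme.fromSpecResidueField_apply _ _
  haveI : IsIso U.ι := ⟨⟨IsOpenImmersion.lift U.ι (𝟙 S) (fun x _ => ⟨⟨x, hall x⟩, rfl⟩),
    by rw [← cancel_mono U.ι, Category.assoc, IsOpenImmersion.lift_fac, Category.id_comp, Category.comp_id],
    IsOpenImmersion.lift_fac _ _ _⟩⟩
  haveI := hiso
  haveI : IsIso f.left := by
    have h := (HomLocus.isPullback_map f U.ι)
    have h3 : ((Over.pullback U.ι).map f).left ≫ pullback.fst T'.hom U.ι = pullback.fst T.hom U.ι ≫ f.left := h.w.symm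
    haveI : IsIso (pullback.fst T.hom U.ι ≫ f.left) := by rw [← h3]; infer_instance
    exact IsIso.of_isIso_comp_left (pullback.fst T.hom U.ι) f.left
  haveI : IsIso ((Over.forget S).map f) := ‹IsIso f.left›
  exact isIso_of_reflects_iso f (Over.forget S)

end Groth.Agent.S16611
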