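import Groth.Statements.S16613
import Groth.Agent.L25.SplitSub.Join
import Groth.Agent.L25.SplitSub.Rank

set_option autoImplicit false
open CategoryTheory MonoidalCategory CartesianMonoidalCategory MonObj GrpObj AlgebraicGeometry
universe u
open SGA3x

namespace Groth.Agent.S16613

set_option backward.isDefEq.respectTransparency.types false
set_option linter.style.haveILetI false

open Groth.L25 Groth.L25.SplitSub

/-- Let S be a connected scheme and G an S-group of finite multiplicative type. Then G admits a unique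
maximal locally split subtorus (a monomorphism T ⟶ G with T Zariski-locally on S isomorphic to split
tori D(ℤ^r)); since locally split subtori form a directed family it is the greatest one: every
locally split subtorus of G factors through it. -/
theorem result {S : Scheme.{u}}
    [ConnectedSpace ↥S] {G : Over S} [GrpObj G] (hG : SGA3x.IsMultTypeFT G) :
    ∃ (T : Over S) (_ : GrpObj T) (j : T ⟶ G), IsMonHom j ∧ Mono j ∧
      (∀ s : ↥S, ∃ U : S.Opens, s ∈ U ∧ ∃ r : ℕ, Red.IsSplitTorusWith (Fin r → ℤ) (Red.bc U.ι T)) ∧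
      ∀ (T' : Over S) [GrpObj T'] (j' : T' ⟶ G) [IsMonHom j'] [Mono j'],
        (∀ s : ↥S, ∃ U : S.Opens, s ∈ U ∧ ∃ r : ℕ, Red.IsSplitTorusWith (Fin r → ℤ) (Red.bc U.ι T')) → ∃ g : T' ⟶ T, g ≫ j = j' := by
  classical
  obtain ⟨s₀⟩ : Nonempty S := inferInstance
  let x := S.fromSpecResidueField s₀
  haveI : Nonempty ↥(Spec (S.residueField s₀)) := ⟨IsLocalRing.closedPoint (S.residueField s₀)⟩
  obtain ⟨b, hb⟩ := exists_rank_bound (MultTypeBC.isMultTypeFT_bc hG x) inferInstance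
  let LS : ∀ (E : Over S) [GrpObj E], Prop := fun E _ =>
    ∀ s : S, ∃ U : S.Opens, s ∈ U ∧ ∃ r : ℕ, Red.IsSplitTorusWith (Fin r → ℤ) (Red.bc U.ι E)
  let P : ℕ → Prop := fun r => ∃ (E : Over S) (_ : GrpObj E) (j : E ⟶ G),
    IsMonHom j ∧ Mono j ∧ LS E ∧ HasRank E s₀ r
  have hP : ∀ {r}, P r → r ≤ b := by
    rintro r ⟨E, _, j, hj, hj', -, U, hU, hr⟩
    haveI := hj
    haveI := hj'
    let k := IsOpenImmersion.lift U.ι x (by
      rw [Scheme.range_fromSpecResidueField, Scheme.Opens.range_ι]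
      exact Set.singleton_subset_iff.2 hU)
    obtain ⟨e⟩ := hr
    obtain ⟨p, p', hp, -, -, -, hpi⟩ := exists_std (M := Fin r → ℤ)
      ⟨Groth.L25.TrivLocus.restrictIso U.ι k e (IsOpenImmersion.lift_fac _ _ _)⟩
    haveI := hpi
    haveI : Mono ((Over.pullback x).map j) := inferInstance
    haveI : IsMonHom (p ≫ (Over.pullback x).map j) := isMonHom_comp hp (isMonHom_map x j)
    exact hb r (p ≫ (Over.pullback x).map j)
  have hbase : P 0 := by
    let j : Red.DS S (Fin 0 → ℤ) ⟶ G := 1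
    have hs : ∀ U : S.Opens, Red.IsSplitTorusWith (Fin 0 → ℤ) (Red.bc U.ι (Red.DS S (Fin 0 → ℤ))) :=
      fun U => ⟨Grp.mkIso' (bcDS U.ι)⟩
    refine ⟨_, inferInstance, j, isMonHom_of_mul _ fun T a b => by
        simp only [j, MonObj.comp_one, _root_.one_mul],
      ⟨fun a b _ => Groth.L25.DSPts.char_injective (MonoidHom.ext fun m => by
        rw [show m = 1 from Subsingleton.elim (α := Fin 0 → ℤ) _ _, map_one, map_one])⟩,
      fun s => ⟨⊤, trivial, 0, hs _⟩, ⟨⊤, trivial, hs _⟩⟩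
  obtain ⟨E, iE, j, hj, hj', hE, hrE⟩ : P (Nat.findGreatest P b) := Nat.findGreatest_spec (Nat.zero_le b) hbase
  refine ⟨E, iE, j, hj, hj', hE, fun T' _ j' _ _ hT' => ?_⟩
  haveI := hj
  obtain ⟨E₃, i₃, j₃, g₁, g₂, a, b', hg₁, -, c, d, e⟩ := exists_join hG j j' hE hT'
  haveI := hg₁
  haveI := a
  haveI := b'
  haveI : Mono (g₁ ≫ j₃) := by rw [d]; exact hj'
  haveI : Mono g₁ := mono_of_mono g₁ j₃
  obtain ⟨rk, hlc, hrk⟩ := exists_rank hE
  obtain ⟨rk₃, hlc₃, hrk₃⟩ := exists_rank c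
  have hP₃ : P (rk₃ s₀) := ⟨E₃, i₃, j₃, a, b', c, hrk₃ s₀⟩
  have h0 : rk₃ s₀ ≤ rk s₀ := by
    rw [(hrk s₀).unique hrE]
    exact Nat.le_findGreatest (hP hP₃) hP₃
  haveI : IsIso g₁ := isIso_of_rank g₁ hrk hrk₃ fun s => by
    rw [hlc.apply_eq_of_preconnectedSpace s s₀, hlc₃.apply_eq_of_preconnectedSpace s s₀]
    exact h0
  exact ⟨g₂ ≫ CategoryTheory.inv g₁, by rw [← d, Category.assoc, IsIso.inv_hom_id_assoc, e]⟩

end Groth.Agent.S16613
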