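import Groth.Statements.S16614
import Groth.Agent.L25.SplitSub.Greatest
import Groth.Agent.L25.Locus.Torus

set_option autoImplicit false
open CategoryTheory MonoidalCategory CartesianMonoidalCategory MonObj GrpObj AlgebraicGeometry
universe u
open SGA3x

namespace Groth.Agent.S16614

set_option backward.isDefEq.respectTransparency.types false
set_option linter.style.haveILetI false

open Groth.L25.SplitSub

/-- Over an arbitrary scheme S, an S-group G of finite multiplicative type admits a maximal split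
subtorus: a monomorphism T ⟶ G from a split torus T ≅ D_S(ℤ^r) which is maximal among split subtori
(if T factors through a split subtorus T' ⟶ G then the factoring morphism is an isomorphism). -/
theorem result {S : Scheme.{u}} {G : Over S} [GrpObj G]
    (hG : SGA3x.IsMultTypeFT G) :
    ∃ (T : Over S) (_ : GrpObj T) (j : T ⟶ G) (r : ℕ), IsMonHom j ∧ Mono j ∧ Red.IsSplitTorusWith (Fin r → ℤ) T ∧
      ∀ (T' : Over S) [GrpObj T'] (j' : T' ⟶ G) [IsMonHom j'] [Mono j'] (r' : ℕ) (g : T ⟶ T'),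
        Red.IsSplitTorusWith (Fin r' → ℤ) T' → g ≫ j' = j → IsIso g := by
  classical
  let P : ℕ → Prop := fun r => ∃ j : Red.DS S (Fin r → ℤ) ⟶ G, IsMonHom j ∧ Mono j
  have h0 : P 0 := ⟨1, isMonHom_of_mul _ fun T a b => by
      rw [MonObj.comp_one, MonObj.comp_one, MonObj.comp_one, _root_.one_mul],
    ⟨fun a b _ => Groth.L25.DSPts.char_injective (MonoidHom.ext fun m => by
      rw [show m = 1 from Subsingleton.elim (α := Fin 0 → ℤ) _ _, map_one, map_one])⟩⟩
  have hhom : ∀ {T' : Over S} [GrpObj T'] (j' : T' ⟶ G) [IsMonHom j'] [Mono j'] {r : ℕ}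
      (g : Red.DS S (Fin r → ℤ) ⟶ T') (_ : IsMonHom (g ≫ j')), IsMonHom g := fun {T'} _ j' _ _ {r} g hg =>
    isMonHom_of_mul g fun X a b => by
      rw [← cancel_mono j', Category.assoc, @MonObj.mul_comp _ _ _ _ _ _ _ _ a b (g ≫ j') hg,
        MonObj.mul_comp, Category.assoc, Category.assoc]
  have hcomp : ∀ {X Y Z : Over S} [GrpObj X] [GrpObj Y] [GrpObj Z] (a : X ⟶ Y) (b : Y ⟶ Z),
      IsMonHom a → IsMonHom b → IsMonHom (a ≫ b) := fun a b _ _ => inferInstance
  rcases isEmpty_or_nonempty S with hS | hS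
  · obtain ⟨j, hj, hj'⟩ := h0
    refine ⟨_, inferInstance, j, 0, hj, hj', isSplitTorusWith_DS S _, fun T' _ j' _ _ r' g _ hg => ?_⟩
    haveI : Mono (g ≫ j') := by rw [hg]; exact hj'
    haveI : Mono g := mono_of_mono g j'
    exact isIso_of_mono_of_local_lift g fun y => (IsEmpty.false (T'.hom y)).elim
  · obtain ⟨b, hb⟩ := exists_rank_bound hG hS
    have hP : ∀ {r}, P r → r ≤ b := fun {r} ⟨j, hj, hj'⟩ => @hb r j hj hj'
    obtain ⟨j, hj, hj'⟩ : P (Nat.findGreatest P b) := Nat.findGreatest_spec (Nat.zero_le b) h0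
    haveI := hj
    refine ⟨_, inferInstance, j, _, hj, hj', isSplitTorusWith_DS S _, fun T' _ j' _ _ r' g hT' hg => ?_⟩
    obtain ⟨p, p', hp, hp', hpp', hp'p, hpi⟩ := exists_std hT'
    haveI := hp
    haveI := hp'
    haveI : IsMonHom g := hhom j' g (hg.symm ▸ hj)
    haveI : Mono (g ≫ j') := by rw [hg]; exact hj'
    haveI : Mono g := mono_of_mono g j'
    haveI : IsIso p' := ⟨p, hp'p, hpp'⟩
    have hP' : P r' := ⟨p ≫ j', hcomp p j' hp ‹_›, mono_comp p j'⟩
    haveI : IsMonHom (g ≫ p') := hcomp g p' ‹_› hp'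
    haveI : IsIso (g ≫ p') := isIso_of_mono_split (Nat.le_findGreatest (hP hP') hP') (g ≫ p')
    exact IsIso.of_isIso_comp_right g p' 

end Groth.Agent.S16614
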