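import Groth.Statements.S16615
import Groth.Agent.L25.SplitSub.QuotLocal

set_option autoImplicit false
open CategoryTheory MonoidalCategory CartesianMonoidalCategory MonObj GrpObj AlgebraicGeometry
universe u
open SGA3x

namespace Groth.Agent.S16615

set_option backward.isDefEq.respectTransparency.types false
set_option linter.style.haveILetI false

open Groth.L25 Groth.L25.SplitSub

/-- Over an arbitrary scheme S, the quotient Q = T/H of an S-torus T by a subgroup scheme H of (finite)
multiplicative type, when represented by an S-group Q with a homomorphism q : T ⟶ Q which is an fppf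
covering identifying T ×_S H with T ×_Q T, is again a torus. -/
theorem result {S : Scheme.{u}} {T H Q : Over S} [GrpObj T] [GrpObj H]
    [GrpObj Q] (hT : Red.IsTorus T) (i : H ⟶ T) [IsMonHom i] [Mono i] (hH : SGA3x.IsMultTypeFT H)
    (q : T ⟶ Q) [IsMonHom q] (hq : RedSub.IsQuotient i q) : Red.IsTorus Q := by
  obtain ⟨S', f, h1, h2, h3, h4⟩ := hT
  haveI := isMonHom_map f i
  haveI := isMonHom_map f q
  haveI : Mono ((Over.pullback f).map i) := inferInstance
  refine ⟨S', f, h1, h2, h3, fun s' => ?_⟩
  obtain ⟨U, hU, r, ⟨e⟩⟩ := h4 s'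
  let B := ActBC.bcCompIso U.ι f T rfl
  obtain ⟨V, hV, r', hr'⟩ := exists_nhd_split' (MultTypeBC.isMultTypeFT_bc hH f) ((Over.pullback f).map i)
    ((Over.pullback f).map q) ((isQuot_of_isQuotient i q hq).bc f) s' ⟨U, hU, r, ⟨Grp.mkIso' B ≪≫ e⟩⟩
  exact ⟨V, hV, r', isSplit_image f (CategoryStruct.id _) (Category.id_comp _) hr'⟩

end Groth.Agent.S16615
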