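import Groth.Statements.S16617
import Groth.Agent.L25.SplitSub.QuotLocal

set_option autoImplicit false
open CategoryTheory MonoidalCategory CartesianMonoidalCategory MonObj GrpObj AlgebraicGeometry
universe u
open SGA3x

namespace Groth.Agent.S16617

set_option backward.isDefEq.respectTransparency.types false
set_option linter.style.haveILetI false

open Groth.L25 Groth.L25.SplitSub

/-- Let S be a connected scheme, T ≅ D_S(ℤ^r) a split S-torus, H a subgroup scheme of T of (finite)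
multiplicative type and q : T ⟶ Q a homomorphism presenting Q as the fppf quotient T/H. Then Q is a
split torus of rank at most r. -/
theorem result {S : Scheme.{u}} [ConnectedSpace ↥S]
    {T H Q : Over S} [GrpObj T] [GrpObj H] [GrpObj Q] (r : ℕ) (hT : Red.IsSplitTorusWith (Fin r → ℤ) T)
    (i : H ⟶ T) [IsMonHom i] [Mono i] (hH : SGA3x.IsMultTypeFT H) (q : T ⟶ Q) [IsMonHom q]
    (hq : RedSub.IsQuotient i q) : ∃ r' : ℕ, r' ≤ r ∧ Red.IsSplitTorusWith (Fin r' → ℤ) Q := by
  obtain ⟨p, p', hp, hp', hpp', hp'p, -⟩ := exists_std hT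
  let e : Red.DS S (Fin r → ℤ) ≅ T := ⟨p, p', hpp', hp'p⟩
  haveI : IsMonHom (i ≫ e.inv) := isMonHom_comp ‹_› hp'
  haveI : IsIso p' := ⟨p, hp'p, hpp'⟩
  haveI : Mono (i ≫ e.inv) := @mono_comp _ _ _ _ _ i ‹_› e.inv (inferInstanceAs (Mono p'))
  haveI : Monoid.FG (Multiplicative (Fin r → ℤ)) :=
    monoidFG_of_addGroupFG (Module.Finite.iff_addGroup_fg.1 inferInstance)
  have hq' := (isQuot_of_isQuotient i q hq).iso_comp e
  haveI : IsMonHom (e.hom ≫ q) := isMonHom_comp hp ‹_›
  obtain ⟨A, hA⟩ := exists_good_univ (e.hom ≫ q) (exists_good_of_kernel hH (i ≫ e.inv) (e.hom ≫ q) hq')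
  obtain ⟨v, hv, hvi⟩ := exists_iso_quot (e.hom ≫ q) hq'.1 hq'.2.1 hq'.2.2.1 hA
  exact exists_split_of_iso v hv hvi

end Groth.Agent.S16617
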