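
import Groth.Statements.S1662
import Groth.Agent.L22.Ideal
import Groth.Agent.L02.Flat
import Mathlib.AlgebraicGeometry.Morphisms.Affine
import Mathlib.AlgebraicGeometry.Morphisms.Flat
import Mathlib.AlgebraicGeometry.IdealSheaf.Subscheme
import Mathlib.Algebra.Category.Ring.Constructions

set_option autoImplicit false
universe u
open CategoryTheory CategoryTheory.Limits AlgebraicGeometry
open Divisors

namespace Groth.Agent.S1662

theorem mem_nonZeroDivisors_of_isPushout {R R' A A' : Type u} [CommRing R] [CommRing R']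
    [CommRing A] [CommRing A'] [Algebra R R'] [Algebra R A] [Algebra R' A'] [Algebra A A']
    [Algebra R A'] [IsScalarTower R R' A'] [IsScalarTower R A A'] [Algebra.IsPushout R R' A A']
    {f : A} (hf : f ∈ nonZeroDivisors A) (hflat : Module.Flat R (A ⧸ Ideal.span {f})) :
    algebraMap A A' f ∈ nonZeroDivisors A' := by
  have hinj : CAlgX.UniversallyInjective R (LinearMap.mulLeft R f : A →ₗ[R] A) := by
    refine Groth.L02.universallyInjective_of_flat_coker _ (Ideal.Quotient.mkₐ R (Ideal.span {f})).toLinearMap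
      (fun a b hab => (mul_cancel_left_mem_nonZeroDivisors hf).1 hab) ?_ Ideal.Quotient.mk_surjective
    intro a
    refine (Ideal.Quotient.eq_zero_iff_mem.trans Ideal.mem_span_singleton').trans ?_
    exact ⟨fun ⟨c, hc⟩ => ⟨c, (mul_comm f c).trans hc⟩, fun ⟨c, hc⟩ => ⟨c, (mul_comm c f).trans hc⟩⟩
  let ψ := TensorProduct.comm R A R' ≪≫ₗ
    ((Algebra.IsPushout.equiv R R' A A').toLinearEquiv.restrictScalars R)
  have hψ : ∀ t, ψ ((LinearMap.mulLeft R f).rTensor R' t) = algebraMap A A' f * ψ t := by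
    intro t
    induction t using TensorProduct.induction_on with
    | zero => simp
    | tmul a r =>
      simp only [ψ, LinearMap.rTensor_tmul, LinearEquiv.trans_apply, TensorProduct.comm_tmul,
        LinearEquiv.restrictScalars_apply, AlgEquiv.toLinearEquiv_apply, LinearMap.mulLeft_apply,
        Algebra.IsPushout.equiv_tmul, map_mul]
      ring
    | add x y hx hy => simp only [map_add, hx, hy, mul_add]
  refine mem_nonZeroDivisors_iff_right.2 fun b hb => ?_
  obtain ⟨t, rfl⟩ := ψ.surjective b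
  have h0 : (LinearMap.mulLeft R f).rTensor R' t = 0 := by
    apply ψ.injective
    rw [hψ, map_zero, mul_comm]
    exact hb
  rw [hinj R' (h0.trans (map_zero _).symm), map_zero]


/-- Let f : X → S, D an effective Cartier divisor on X such that D → S is flat, and g : S' → S any
morphism. Then the inverse image of D in X ×_S S' is an effective Cartier divisor. -/
theorem result {X S S' : Scheme.{u}} (f : X ⟶ S) (D : X.IdealSheafData) (hD : BlowUp.IsEffCartierIdeal D)
    [Flat (D.subschemeι ≫ f)] (g : S' ⟶ S) :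
    BlowUp.IsEffCartierIdeal (D.comap (pullback.fst f g)) := by
  intro x'
  obtain ⟨U₀, hxU₀, t, -, -, hU₀⟩ := Groth.L22.Ideals.exists_generator hD (pullback.fst f g x')
  obtain ⟨_, ⟨V, hV, rfl⟩, hxV, -⟩ := S.isBasis_affineOpens.exists_subset_of_mem_open
    (Set.mem_univ (f (pullback.fst f g x'))) isOpen_univ
  obtain ⟨_, ⟨U, hU, rfl⟩, hxU, hUle⟩ := X.isBasis_affineOpens.exists_subset_of_mem_open
    (show pullback.fst f g x' ∈ U₀.1 ⊓ f ⁻¹ᵁ V from ⟨hxU₀, hxV⟩) (U₀.1 ⊓ f ⁻¹ᵁ V).2
  have hxV' : g (pullback.snd f g x') ∈ V := by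
    have : (pullback.fst f g ≫ f) x' = (pullback.snd f g ≫ g) x' := by rw [pullback.condition]
    exact this ▸ hxV
  obtain ⟨_, ⟨V', hV', rfl⟩, hxV'', hV'le⟩ := S'.isBasis_affineOpens.exists_subset_of_mem_open
    (show pullback.snd f g x' ∈ g ⁻¹ᵁ V from hxV') (g ⁻¹ᵁ V).2
  change X.Opens at U
  change S.Opens at V
  change S'.Opens at V'
  replace hU : IsAffineOpen U := hU
  replace hV : IsAffineOpen V := hV
  replace hV' : IsAffineOpen V' := hV'
  have hUU₀ : U ≤ U₀.1 := fun y hy => (hUle hy).1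
  have hUf : U ≤ f ⁻¹ᵁ V := fun y hy => (hUle hy).2
  obtain ⟨ht, htI⟩ := hU₀ ⟨U, hU⟩ hUU₀
  set W := pullback.fst f g ⁻¹ᵁ U ⊓ pullback.snd f g ⁻¹ᵁ V' with hW
  have hpb := Scheme.Hom.isPullback_resLE (IsPullback.of_hasPullback f g) (UT := V') hV'le hUf hW
  haveI : IsAffine U.toScheme := hU
  haveI : IsAffine V.toScheme := hV
  haveI : IsAffine V'.toScheme := hV'
  have hWaff : IsAffineOpen W := by
    haveI : IsAffineHom (f.resLE V U hUf) := inferInstance
    exact IsAffine.of_isPullback hpb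
  refine ⟨⟨W, hWaff⟩, ⟨hxU, hxV''⟩, (pullback.fst f g).appLE U W inf_le_left
    (X.presheaf.map (homOfLE hUU₀).op t), ?_, ?_⟩
  swap
  · rw [Groth.L22.Ideals.comap_ideal (pullback.fst f g) D ⟨U, hU⟩ ⟨W, hWaff⟩ inf_le_left, htI,
      Ideal.map_span, Set.image_singleton]
  -- the pushout square of sections
  have hpo : IsPushout (f.appLE V U hUf) (g.appLE V V' hV'le)
      ((pullback.fst f g).appLE U W inf_le_left) ((pullback.snd f g).appLE V' W inf_le_right) := by
    refine (isPushout_appTop_of_isPullback hpb).of_iso V.topIso U.topIso V'.topIso W.topIso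
      ?_ ?_ ?_ ?_ <;>
    simp only [Scheme.Hom.appTop, Scheme.Hom.resLE_app_top, Category.assoc, Iso.inv_hom_id,
      Category.comp_id]
  algebraize [(f.appLE V U hUf).hom, (g.appLE V V' hV'le).hom,
    ((pullback.fst f g).appLE U W inf_le_left).hom,
    ((pullback.snd f g).appLE V' W inf_le_right).hom,
    (((pullback.fst f g).appLE U W inf_le_left).hom.comp (f.appLE V U hUf).hom)]
  haveI : IsScalarTower Γ(S, V) Γ(S', V') Γ(pullback f g, W) := by
    refine IsScalarTower.of_algebraMap_eq' ?_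
    rw [RingHom.algebraMap_toAlgebra, RingHom.algebraMap_toAlgebra, RingHom.algebraMap_toAlgebra]
    exact congrArg CommRingCat.Hom.hom hpo.w
  haveI : Algebra.IsPushout Γ(S, V) Γ(S', V') Γ(X, U) Γ(pullback f g, W) :=
    CommRingCat.isPushout_iff_isPushout.1 hpo.flip
  refine mem_nonZeroDivisors_of_isPushout (R := Γ(S, V)) (R' := Γ(S', V')) ht ?_
  rw [← htI]
  -- flatness of the subscheme over the base
  have h := (D.subschemeι ≫ f).flat_appLE hV (hU.preimage D.subschemeι)
    (show D.subschemeι ⁻¹ᵁ U ≤ (D.subschemeι ≫ f) ⁻¹ᵁ V from fun y hy => hUf hy)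
  have hcomp : (D.subschemeι ≫ f).appLE V (D.subschemeι ⁻¹ᵁ U) (fun y hy => hUf hy) =
      f.appLE V U hUf ≫ CommRingCat.ofHom (Ideal.Quotient.mk (D.ideal ⟨U, hU⟩)) ≫
        (D.subschemeObjIso ⟨U, hU⟩).inv := by
    rw [← D.subschemeι_app ⟨U, hU⟩, ← Scheme.Hom.appLE_eq_app, Scheme.Hom.appLE_comp_appLE]
  rw [hcomp] at h
  have h' := h.comp (RingHom.Flat.of_bijective
    (ConcreteCategory.bijective_of_isIso (D.subschemeObjIso ⟨U, hU⟩).hom))
  rw [← CommRingCat.hom_comp, Category.assoc, Category.assoc, Iso.inv_hom_id,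
    Category.comp_id, CommRingCat.hom_comp, CommRingCat.hom_ofHom] at h'
  exact (RingHom.flat_algebraMap_iff (R := Γ(S, V)) (S := Γ(X, U) ⧸ D.ideal ⟨U, hU⟩)).1 h'

end Groth.Agent.S1662
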