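import Groth.Statements.S19794
import Groth.Agent.L25.SplitSub.Greatest
import Groth.Agent.L25.SplitSub.Normal
import Groth.Agent.L25.SplitSub.SmoothTorus
import Groth.Agent.L25.Locus.Torus

set_option autoImplicit false
open CategoryTheory MonoidalCategory CartesianMonoidalCategory MonObj GrpObj AlgebraicGeometry
universe u
open SGA3x

namespace Groth.Agent.S19794

set_option backward.isDefEq.respectTransparency.types false
set_option linter.style.haveILetI false

open Groth.L25.SplitSub CategoryTheory.Limits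

/-- Let S be a connected, normal, locally Noetherian scheme, T an S-torus and T₀ ⟶ T its unique maximal
split subtorus, i.e. a split subtorus through which every split subtorus of T factors. Then the
formation of T₀ commutes with Zariski localisation: for every open U ⊆ S, the restriction T₀|_U ⟶
T|_U is the greatest split subtorus of T|_U, that is, every split subtorus T' ⟶ T|_U with T' ≅
D_U(ℤ^{r'}) factors through T₀|_U. -/
theorem result {S : Scheme.{u}} [ConnectedSpace ↥S]
    [IsLocallyNoetherian S] (hnorm : ∀ x : ↥S, IsDomain (S.presheaf.stalk x) ∧ IsIntegrallyClosed (S.presheaf.stalk x))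
    {T T₀ : Over S} [GrpObj T] [GrpObj T₀] (hT : Red.IsTorus T) (j₀ : T₀ ⟶ T) [IsMonHom j₀] [Mono j₀] (r₀ : ℕ)
    (hT₀ : Red.IsSplitTorusWith (Fin r₀ → ℤ) T₀)
    (hmax : ∀ (T' : Over S) [GrpObj T'] (j' : T' ⟶ T) [IsMonHom j'] [Mono j'] (r' : ℕ),
      Red.IsSplitTorusWith (Fin r' → ℤ) T' → ∃ g : T' ⟶ T₀, g ≫ j₀ = j')
    (U : S.Opens) (T' : Over (U : Scheme.{u})) [GrpObj T'] (j' : T' ⟶ Red.bc U.ι T) [IsMonHom j'] [Mono j']
    (r' : ℕ) (hT' : Red.IsSplitTorusWith (Fin r' → ℤ) T') :
    ∃ g : T' ⟶ Red.bc U.ι T₀, g ≫ (Over.pullback U.ι).map j₀ = j' := by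
  rcases isEmpty_or_nonempty (U : Scheme.{u}) with hE | hne
  · haveI : IsEmpty T'.left := Function.isEmpty T'.hom
    exact ⟨Over.homMk (isInitialOfIsEmpty.to _) (isInitialOfIsEmpty.hom_ext _ _),
      Over.OverMorphism.ext (isInitialOfIsEmpty.hom_ext _ _)⟩
  haveI := isIntegral_of_normal hnorm
  obtain ⟨p, p', hp, hp', hpp', hp'p, -⟩ := exists_std hT'
  haveI := hp
  let B := bcDS (S := S) (N := Fin r' → ℤ) U.ι
  haveI : IsMonHom B.hom := isMonHom_bcDS U.ι
  haveI := smooth_DS S r'
  obtain ⟨w, hw, hwc⟩ := exists_extend_open (connectedSpace_DS_fibre S r') hnorm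
    (Groth.L25.Locus.isMultTypeFT_of_isTorus hT) U ⟨_, (Classical.arbitrary (U : Scheme.{u})).2⟩
    (B.hom ≫ p ≫ j')
  obtain ⟨r, j, hj, hj', hgr⟩ := exists_greatest (Groth.L25.Locus.isMultTypeFT_of_isTorus hT)
  haveI := hj
  haveI := hj'
  haveI := hw
  obtain ⟨g, hg⟩ := hgr r' w
  obtain ⟨g', hg'⟩ := hmax _ j r (isSplitTorusWith_DS S _)
  refine ⟨p' ≫ B.inv ≫ (Over.pullback U.ι).map (g ≫ g'), ?_⟩
  rw [Category.assoc, Category.assoc, ← Functor.map_comp, Category.assoc, hg', hg, hwc,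
    Iso.inv_hom_id_assoc, ← Category.assoc, hp'p, Category.id_comp]

end Groth.Agent.S19794
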