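import Groth.Prelude.Def_FGA
import Groth.Prelude.Def_FlatMod2
import Groth.Prelude.Def_Twist2
import Mathlib.AlgebraicGeometry.Morphisms.ClosedImmersion
import Mathlib.AlgebraicGeometry.Noetherian
import Mathlib.AlgebraicGeometry.Limits
import Groth.Agent.L02.Quot.ProjTotal
import Groth.Agent.L16.Existence.Lemmas
import Groth.Agent.L16.Rees.RelVanish

set_option autoImplicit false
set_option linter.style.haveILetI false
namespace FGA
end FGA
universe u
open FGA

namespace Groth.Agent.S16624

open AlgebraicGeometry CategoryTheory in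
/-- Let S be a Noetherian scheme, n and r natural numbers, l an integer, and E the module O^r ⊗ O(-l) on
projective n-space P^n_S over S. The Quot functor of E over S — sending a locally Noetherian
S-scheme T to the set of submodules K of E_T (the pullback of E to P^n_S ×_S T) whose quotient E_T/K
is coherent and flat over T, with pullback of submodules as transition maps — is represented by an
S-scheme Q with a universal submodule, and Q is a disjoint union of S-schemes each admitting a
closed immersion over S into some projective space P^m_S. (The source states this for each fixed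
Hilbert polynomial; the indexing of the pieces by Hilbert polynomials is not recorded here.) -/
theorem result (S : Scheme.{u}) [IsNoetherian S]
    (n r : ℕ) (l : ℤ) :
    ∃ (Q : Over S) (K : FGA.QuotSet (CohB1.ProjSpaceOver.toBase n S)
        (CohB1.tensorMod (FlatMod.freeMod (CohB1.ProjSpaceOver n S) r) (Twist.twistOver n S (-l))) Q),
      FGA.QuotRepresentedBy (CohB1.ProjSpaceOver.toBase n S)
        (CohB1.tensorMod (FlatMod.freeMod (CohB1.ProjSpaceOver n S) r) (Twist.twistOver n S (-l))) Q K ∧
      ∃ (ι : Type u) (P : ι → Scheme.{u}) (e : (∐ P) ≅ Q.left) (m : ι → ℕ)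
        (c : ∀ a, P a ⟶ CohB1.ProjSpaceOver (m a) S),
        ∀ a, IsClosedImmersion (c a) ∧
          c a ≫ CohB1.ProjSpaceOver.toBase (m a) S = Limits.Sigma.ι P a ≫ e.hom ≫ Q.hom := by
  let i : CohB1.ProjSpaceOver n S ⟶ CohB1.ProjSpaceOver n S := 𝟙 _
  haveI : IsClosedImmersion i := inferInstanceAs (IsClosedImmersion (𝟙 _))
  haveI : IsLocallyNoetherian (CohB1.ProjSpaceOver n S) :=
    haveI : IsProper (CohB1.ProjSpaceOver.toBase n S) := MorphismProperty.pullback_snd (P := @IsProper) _ _
      (inferInstanceAs (IsProper (CohB1.ProjSpace.toSpec n (ULift.{u} ℤ))))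
    LocallyOfFiniteType.isLocallyNoetherian (CohB1.ProjSpaceOver.toBase n S)
  let P := Groth.L00.Tensor.tensorRightF (Twist.twistOver n S (-l))
  haveI : Limits.PreservesColimitsOfSize.{u, u} P := inferInstance
  let e : (∐ fun _ : Fin r => Groth.L02.Quot.OX i (-l)) ≅
      CohB1.tensorMod (FlatMod.freeMod (CohB1.ProjSpaceOver n S) r) (Twist.twistOver n S (-l)) :=
    (Limits.Sigma.mapIso fun _ : Fin r => (Scheme.Modules.pullbackId _).app _ ≪≫
        (Groth.L00.Tensor.tensorUnitLeft (Twist.twistOver n S (-l))).symm) ≪≫
      (Limits.PreservesCoproduct.iso P (fun _ : Fin r => Coh.structureModule (CohB1.ProjSpaceOver n S))).symm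
  have hE : Coh.IsCoh (CohB1.tensorMod (FlatMod.freeMod (CohB1.ProjSpaceOver n S) r) (Twist.twistOver n S (-l))) :=
    Groth.L03.Euler.isCoh_tensor (Groth.L17.Strat.isInvertible_twistOver n S (-l))
      (Groth.L16.Existence.isCoh_sigma _ fun _ => Groth.L16.Rees.RelVanish.isCoh_structureModule _)
  exact Groth.L02.Quot.exists_quot_total_proj i (CohB1.ProjSpaceOver.toBase n S) (Category.id_comp _) _ hE r (-l) e.hom

end Groth.Agent.S16624
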