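import Groth.Prelude.Def_Coh
import Groth.Prelude.Def_CohB1
import Groth.Prelude.Def_FlatMod2
import Groth.Prelude.Def_Twist2
import Mathlib.AlgebraicGeometry.Noetherian
import Mathlib.AlgebraicGeometry.ResidueField
import Mathlib.AlgebraicGeometry.Limits
import Groth.Agent.L22.Reg.CounitT
import Groth.Agent.L17.ToAbRpush
import Groth.Agent.L17.BC.GenApply
import Groth.Agent.L17.BC.AmpleFlat
import Groth.Agent.L22.Inter.FlatTwist
import Groth.Agent.L03.Euler.Twist
import Groth.Agent.L15.Ref.FreeLocus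
import Groth.Agent.L16.ProjSpace.Basic

set_option autoImplicit false
set_option linter.style.haveILetI false
namespace FGA
end FGA
universe u
open FGA

namespace Groth.Agent.S16625

open AlgebraicGeometry CategoryTheory CategoryTheory.Limits in
/-- Let S be a Noetherian scheme with projective n-space π : P^n_S → S, Q a coherent module on P^n_S
which is flat over S, and m > 0 an integer such that for every point s of S the restriction Q_s of Q
to the fibre P^n_S ×_S Spec κ(s) is m-regular: H^i of the restriction of Q(m - i) = Q ⊗ O(m - i) to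
that fibre vanishes for every i ≥ 1. Then for every integer d ≥ m: (1) π_*(Q(d)) is a finite locally
free O_S-module; (2) R^i π_*(Q(d)) = 0 for every i ≥ 1 (higher direct images of the underlying
abelian sheaf); (3) the counit π^*π_*(Q(d)) → Q(d) is an epimorphism. (The source's (1) also says
that the formation of π_*(Q(d)) commutes with arbitrary base change T → S; that clause is not
recorded here.) -/
theorem result (S : Scheme.{u}) [IsNoetherian S] (n : ℕ)
    (Q : (CohB1.ProjSpaceOver n S).Modules) (hQ : Coh.IsCoh Q)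
    (hflat : FlatMod.IsFlatOver (CohB1.ProjSpaceOver.toBase n S) Q) (m : ℤ) (hm : 0 < m)
    (hreg : ∀ (s : S) (i : ℕ), 1 ≤ i →
      Subsingleton (Coh.HH (pullback (CohB1.ProjSpaceOver.toBase n S) (S.fromSpecResidueField s))
        ((Scheme.Modules.pullback
            (pullback.fst (CohB1.ProjSpaceOver.toBase n S) (S.fromSpecResidueField s))).obj
          (CohB1.tensorMod Q (Twist.twistOver n S (m - i)))) i))
    (d : ℤ) (hd : m ≤ d) :
    FlatMod.IsFinLocFree ((Coh.push (CohB1.ProjSpaceOver.toBase n S)).obj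
        (CohB1.tensorMod Q (Twist.twistOver n S d))) ∧
      (∀ i : ℕ, 1 ≤ i → IsZero ((Coh.RpushAb (CohB1.ProjSpaceOver.toBase n S) i).obj
        (Coh.toAb (CohB1.tensorMod Q (Twist.twistOver n S d))))) ∧
      Epi ((Scheme.Modules.pullbackPushforwardAdjunction (CohB1.ProjSpaceOver.toBase n S)).counit.app
        (CohB1.tensorMod Q (Twist.twistOver n S d))) := by
  set π := CohB1.ProjSpaceOver.toBase n S
  haveI : IsLocallyNoetherian (CohB1.ProjSpaceOver n S) := LocallyOfFiniteType.isLocallyNoetherian π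
  haveI := Groth.L17.PushQCoh.hasInjectiveResolutions (CohB1.ProjSpaceOver n S)
  have hO := fun k : ℤ => Groth.L17.Strat.isInvertible_twistOver n S k
  have hcoh : ∀ k : ℤ, Coh.IsCoh (CohB1.tensorMod Q (Twist.twistOver n S k)) := fun k =>
    Groth.L15.Ref.isCoh_tensorMod hQ (Groth.L16.ProperFinite.isCoh_of_isInvertible (hO k))
  have hfl : ∀ k : ℤ, FlatMod.IsFlatOver π (CohB1.tensorMod Q (Twist.twistOver n S k)) := fun k =>
    Groth.L22.Inter.FlatTwist.isFlatOver_tensor π hflat (hO k)
  have hvan : ∀ i : ℕ, 1 ≤ i → Groth.L22.Reg.VT (n := n) (T := S) i (m - i) Q := fun i hi => by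
    let F := CohB1.tensorMod Q (Twist.twistOver n S (m - i))
    haveI : Coh.IsQCoh F := (hcoh _).1
    have hz : IsZero ((Coh.Rpush π i).obj F) := by
      choose U hU hUz using fun y => Groth.L17.BC.exists_isZero_of_vanishing π F
        (Groth.L15.Ref.isFP_of_isCoh (hcoh _)) (hfl _) y i (hreg y i hi)
      exact Groth.L21.Mod.isZero_of_restrict (fun y => (U y).ι) (fun x => ⟨x, ⟨x, hU x⟩, rfl⟩) _ hUz
    obtain ⟨e⟩ := Groth.L17.nonempty_toAb_Rpush_iso π F i
    exact ((Groth.L17.toAbShF S).map_isZero hz).of_iso e.symm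
  have hregT : KRR.IsRegSheaf n S (KRR.twF n S m Q) := Groth.L22.Reg.isRegSheaf_iff.2 fun i hi =>
    (Groth.L22.Reg.vt_twF (show m + -(i : ℤ) = m - i by ring)).2 (hvan i hi)
  obtain ⟨t, rfl⟩ : ∃ t : ℕ, d = m + t := ⟨(d - m).toNat, by omega⟩
  have hregd : KRR.IsRegSheaf n S (CohB1.tensorMod Q (Twist.twistOver n S (m + t))) := by
    refine Groth.L22.Reg.isRegSheaf_iff.2 fun i hi => ?_
    have h := (Groth.L22.Reg.vt_twF (show m + (-(i : ℤ) + t) = m + t + -(i : ℤ) by ring)).1
      (Groth.L22.Reg.vt_propagate (Groth.L22.Reg.isRegSheaf_iff.1 hregT) t i hi)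
    obtain ⟨e⟩ := Groth.L22.Reg.nonempty_OT_add n S (show (m + (t : ℤ)) + -(i : ℤ) = m + t + -(i : ℤ) from rfl)
    exact (Groth.L22.Reg.isVan_vpush π).iso (Groth.L00.Tensor.tensorAssoc _ _ _ ≪≫
      Groth.L00.Tensor.tensorIso (Iso.refl Q) e).symm i h
  have hR : ∀ i : ℕ, 1 ≤ i → IsZero ((Coh.RpushAb π i).obj
      (Coh.toAb (CohB1.tensorMod Q (Twist.twistOver n S (m + t))))) := fun i hi => by
    have h := Groth.L22.Reg.vpush_of_regular hregd i hi
    exact h
  haveI : Coh.IsQCoh (CohB1.tensorMod Q (Twist.twistOver n S (m + t))) := (hcoh _).1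
  refine ⟨?_, hR, Groth.L22.Reg.epi_counit hregd⟩
  have hR' : ∀ i : ℕ, 0 < i → IsZero ((Coh.Rpush π i).obj (CohB1.tensorMod Q (Twist.twistOver n S (m + t)))) :=
    fun i hi => by
      obtain ⟨e⟩ := Groth.L17.nonempty_toAb_Rpush_iso π (CohB1.tensorMod Q (Twist.twistOver n S (m + t))) i
      rw [IsZero.iff_id_eq_zero]
      exact (Groth.L17.toAbShF S).map_injective (((hR i hi).of_iso e).eq_of_src _ _)
  refine Groth.L29.LocFree.of_iso (Iso.refl _) fun y => ?_
  obtain ⟨U, hy, he⟩ := Groth.L17.BC.exists_free_push_of_vanish π hR' (hcoh _) (hfl _) y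
  exact ⟨U, _, hy, he⟩

end Groth.Agent.S16625
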