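import Groth.Statements.S16627
import Groth.Agent.L22.Reg.Seq
import Groth.Agent.L16.CohKernel
-- import your own Groth.Agent.* helpers here

set_option autoImplicit false
universe u
open Variety

namespace Groth.Agent.S16627

open AlgebraicGeometry CategoryTheory CategoryTheory.Limits in
/-- Let k be a field, F a coherent module on projective n-space P^n_k which is m-regular, and ι : F ⊗
O(-1) → F a monomorphism of O-modules (such as multiplication by a linear form that is a
nonzerodivisor on F, i.e. a hyperplane avoiding the associated points of F). Then the cokernel of ι
— the restriction of F to the hyperplane, as a module on P^n_k — is again m-regular. (Stated for an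
arbitrary monomorphism F(-1) → F and an arbitrary ground field.) -/
theorem result (k : Type u) [Field k] (n : ℕ)
    (F : (CohB1.ProjSpace n k).Modules) (hF : Coh.IsCoh F) (m : ℤ) (hreg : Curv2.IsMRegular k n F m)
    (ι : CohB1.tensorMod F (Twist.twistProjSpace n k (-1)) ⟶ F) [Mono ι] :
    Curv2.IsMRegular k n (cokernel ι) m := by
  haveI : Coh.IsQCoh F := hF.1
  have hr := Groth.L22.Reg.regular_of_le_n hreg
  have hS : (ShortComplex.mk ι (cokernel.π ι) (cokernel.condition ι)).ShortExact :=
    { exact := ShortComplex.exact_cokernel ι }
  exact fun q hq _ => Groth.L22.Reg.Regular.of_middle_right hS hr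
    (Groth.L22.Reg.regular_tw.2 (hr.of_le (by omega))) q hq

end Groth.Agent.S16627
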