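import Groth.Statements.S1663
import Groth.Agent.S1607
import Groth.Agent.S0028
import Groth.Agent.L17.PushQCoh

set_option autoImplicit false
set_option linter.style.haveILetI false
set_option backward.isDefEq.respectTransparency.types false
universe u
open CategoryTheory CategoryTheory.Limits AlgebraicGeometry
open Variety

namespace Groth.Agent.S1663

/-- Let X be a scheme whose local rings are Noetherian of Krull dimension at most one, j : U → X the
inclusion of a retrocompact open (j quasi-compact) and F a quasi-coherent O_U-module. Then R^p j_* F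
vanishes for all p > 0. -/
theorem result (X : Scheme.{u})
    (hX : ∀ x : X, IsNoetherianRing (X.presheaf.stalk x) ∧ ringKrullDim (X.presheaf.stalk x) ≤ 1)
    (U : X.Opens) [QuasiCompact U.ι] [HasInjectiveResolutions (U : Scheme.{u}).Modules]
    (F : (U : Scheme.{u}).Modules) (hF : Coh.IsQCoh F) (p : ℕ) (hp : 0 < p) :
    IsZero ((Coh.Rpush U.ι p).obj F) := by
  haveI : IsAffineHom U.ι := by
    refine ⟨fun V hV => ?_⟩
    haveI : IsAffine V.toScheme := hV
    have hc : IsCompact ((V.ι ⁻¹ᵁ U : TopologicalSpace.Opens ↥(V.toScheme)) : Set V.toScheme) := by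
      have h1 : IsCompact ((U.ι ''ᵁ (U.ι ⁻¹ᵁ V) : X.Opens) : Set X) :=
        (U.ι.isCompact_preimage (U := V) hV.isCompact).image U.ι.continuous
      rw [V.ι.isOpenEmbedding.isInducing.isCompact_iff]
      convert h1 using 1
      ext y
      constructor
      · rintro ⟨z, hz, rfl⟩
        exact ⟨⟨V.ι z, hz⟩, z.2, rfl⟩
      · rintro ⟨z, hz, rfl⟩
        exact ⟨⟨U.ι z, hz⟩, z.2, rfl⟩
    have h := Groth.Agent.S1607.result V.toScheme (fun z => by
      obtain ⟨h1, h2⟩ := hX (V.ι z)
      let e := (V.stalkIso z).commRingCatIsoToRingEquiv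
      haveI := h1
      exact ⟨@isNoetherianRing_of_ringEquiv _ _ _ _ e.symm h1, by rw [ringKrullDim_eq_of_ringEquiv e]; exact h2⟩) _ hc
    rw [← Scheme.Hom.isAffineOpen_iff_of_isOpenImmersion V.ι] at h
    rw [← Scheme.Hom.isAffineOpen_iff_of_isOpenImmersion U.ι]
    rw [Scheme.Hom.image_preimage_eq_opensRange_inf, Scheme.Opens.opensRange_ι] at h ⊢
    rwa [inf_comm]
  haveI := hF
  obtain ⟨q, rfl⟩ := Nat.exists_eq_add_of_le hp
  obtain ⟨e⟩ := Groth.L17.nonempty_toAb_Rpush_iso U.ι F (0 + 1 + q)
  exact Groth.L17.PushQCoh.isZero_of_toAb ((Groth.Agent.S0028.result U.ι F (0 + 1 + q) (by omega)).of_iso e)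

end Groth.Agent.S1663
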