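import Groth.Statements.S16636
import Groth.Agent.L25.RedField.IsogenyFinite
-- import your own Groth.Agent.* helpers here

set_option autoImplicit false
open CategoryTheory MonoidalCategory CartesianMonoidalCategory MonObj GrpObj AlgebraicGeometry
universe u
open Red

set_option backward.isDefEq.respectTransparency.types false
set_option linter.style.haveILetI false

namespace Groth.Agent.S16636

/-- Let f : G' → G be a homomorphism of reductive group schemes over a scheme S. If on every fibre over
S the induced morphism G'_s → G_s is finite, flat and surjective, then f is finite, flat and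
surjective (an isogeny: the point is that the quasi-finite kernel is finite over S). -/
theorem result {S : Scheme.{u}} {G' G : Over S} [GrpObj G'] [GrpObj G]
    (hG' : Red.IsReductive G') (hG : Red.IsReductive G) (f : G' ⟶ G) [IsMonHom f]
    (hfib : ∀ s : S, IsFinite (Limits.pullback.snd f.left (G.hom.fiberι s)) ∧
      Flat (Limits.pullback.snd f.left (G.hom.fiberι s)) ∧ Surjective (Limits.pullback.snd f.left (G.hom.fiberι s))) :
    IsFinite f.left ∧ Flat f.left ∧ Surjective f.left := by
  haveI : Surjective f.left := ⟨fun y => by
    obtain ⟨z, hz⟩ : ∃ z, G.hom.fiberι (G.hom y) z = y :=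
      (Set.ext_iff.1 (G.hom.range_fiberι (G.hom y)) y).2 rfl
    obtain ⟨w, hw⟩ := (hfib (G.hom y)).2.2.surj z
    refine ⟨Limits.pullback.fst f.left (G.hom.fiberι (G.hom y)) w, ?_⟩
    rw [← Scheme.Hom.comp_apply, Limits.pullback.condition, Scheme.Hom.comp_apply, hw, hz]⟩
  obtain ⟨h1, h2⟩ := Groth.L25.RedField.isogeny_of_fibres hG' hG f fun s => (hfib s).1
  exact ⟨h1, h2, inferInstance⟩

end Groth.Agent.S16636
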