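import Groth.Statements.S16644
import Groth.Agent.L15.QuadHalf
import Mathlib.Tactic.Ring
import Mathlib.Tactic.LinearCombination
import Mathlib.Tactic.FieldSimp
import Mathlib.Algebra.BigOperators.Ring.Finset

set_option autoImplicit false
open QuadZ

namespace Groth.Agent.S16644

/-- For odd n, the discriminant of the universal quadratic form Σ_{i ≤ j} A_{ij} x_i x_j in n variables
(variables A_{ij} indexed by unordered pairs), i.e. the determinant of the symmetric matrix with
diagonal entries 2 A_{ii} and off-diagonal entries A_{ij}, is divisible by 2 in the integral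
polynomial ring ℤ[A_{ij}] (so the half-discriminant is an integral polynomial). -/
theorem result (n : ℕ) (hn : Odd n) :
    (2 : MvPolynomial (Sym2 (Fin n)) ℤ) ∣
      (Matrix.of fun i j : Fin n =>
        if i = j then 2 * MvPolynomial.X (R := ℤ) (σ := Sym2 (Fin n)) (Sym2.mk i j)
        else MvPolynomial.X (R := ℤ) (σ := Sym2 (Fin n)) (Sym2.mk i j)).det := by
  exact Groth.L15.two_dvd_discUniv hn

end Groth.Agent.S16644
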