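import Groth.Statements.S16647
import Groth.Agent.L25.Actions
import Groth.Agent.L23.Descent

set_option autoImplicit false
open CategoryTheory CategoryTheory.Limits MonoidalCategory CartesianMonoidalCategory MonObj GrpObj AlgebraicGeometry
universe u
open GrpSch

namespace Groth.Agent.S16647

/-- The torsor of a kernel, pulled back. -/
theorem isPullback_torsor {S : Scheme.{u}} {N M Q B P X : Over S} [GrpObj M] [GrpObj Q] (a : N ⟶ M) (c : M ⟶ Q)
    [IsMonHom c] (hk : AlgGrp.IsKernel a c) (e : B ⟶ Q) (pr : P ⟶ M) (π : P ⟶ B) (hP : IsPullback pr π c e)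
    (x₀ : X ⟶ M) (b : X ⟶ B) (ψ : X ⊗ N ⟶ P)
    (hψ₁ : ψ ≫ pr = (fst X N ≫ x₀) * (snd X N ≫ a)) (hψ₂ : ψ ≫ π = fst X N ≫ b) (hb : b ≫ e = x₀ ≫ c) :
    IsPullback (fst X N) ψ b π := by
  haveI : Mono η[Q] := by
    haveI : IsSplitMono η[Q] := IsSplitMono.mk' ⟨toUnit Q, Subsingleton.elim _ _⟩
    infer_instance
  haveI : Mono a := hk.mono_fst_of_mono
  have hd : ∀ s : PullbackCone b π, ((s.fst ≫ x₀)⁻¹ * (s.snd ≫ pr)) ≫ c = toUnit s.pt ≫ η[Q] := fun s => by
    rw [MonObj.mul_comp, GrpObj.inv_comp, Category.assoc, Category.assoc, hP.w, ← hb, ← Category.assoc s.fst b,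
      s.condition, Category.assoc, inv_mul_cancel]
    rfl
  refine IsPullback.of_isLimit' ⟨hψ₂.symm⟩ (PullbackCone.IsLimit.mk _
    (fun s => lift s.fst (hk.lift ((s.fst ≫ x₀)⁻¹ * (s.snd ≫ pr)) (toUnit _) (hd s)))
    (fun s => lift_fst _ _) (fun s => ?_) fun s m h₁ h₂ => ?_)
  · apply hP.hom_ext
    · rw [Category.assoc, hψ₁, MonObj.comp_mul, ← Category.assoc, lift_fst, ← Category.assoc, lift_snd,
        hk.lift_fst, mul_inv_cancel_left]
    · rw [Category.assoc, hψ₂, ← Category.assoc, lift_fst, s.condition]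
  · apply CartesianMonoidalCategory.hom_ext
    · rw [lift_fst, h₁]
    · rw [lift_snd, ← cancel_mono a, hk.lift_fst, ← h₁, ← h₂, Category.assoc m ψ, hψ₁, MonObj.comp_mul,
        Category.assoc, Category.assoc, inv_mul_cancel_left]

/-- In a commutative diagram of short exact sequences of S-group schemes that are flat, separated and of
finite presentation over a scheme S (in each row the first homomorphism is the kernel of the second
and the second is a flat surjection), if the two outer vertical homomorphisms are closed immersions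
then so is the middle one. -/
theorem result {S : Scheme.{u}}
    {H₁' H₁ H₁'' H₂' H₂ H₂'' : Over S} [GrpObj H₁'] [GrpObj H₁] [GrpObj H₁''] [GrpObj H₂'] [GrpObj H₂] [GrpObj H₂'']
    [Flat H₁'.hom] [Flat H₁.hom] [Flat H₁''.hom] [Flat H₂'.hom] [Flat H₂.hom] [Flat H₂''.hom]
    [IsSeparated H₁'.hom] [IsSeparated H₁.hom] [IsSeparated H₁''.hom]
    [IsSeparated H₂'.hom] [IsSeparated H₂.hom] [IsSeparated H₂''.hom]
    [QuasiCompact H₁'.hom] [QuasiCompact H₁.hom] [QuasiCompact H₁''.hom]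
    [QuasiCompact H₂'.hom] [QuasiCompact H₂.hom] [QuasiCompact H₂''.hom]
    [LocallyOfFinitePresentation H₁'.hom] [LocallyOfFinitePresentation H₁.hom] [LocallyOfFinitePresentation H₁''.hom]
    [LocallyOfFinitePresentation H₂'.hom] [LocallyOfFinitePresentation H₂.hom] [LocallyOfFinitePresentation H₂''.hom]
    (a₁ : H₁' ⟶ H₁) (b₁ : H₁ ⟶ H₁'') (a₂ : H₂' ⟶ H₂) (b₂ : H₂ ⟶ H₂'')
    [IsMonHom a₁] [IsMonHom b₁] [IsMonHom a₂] [IsMonHom b₂]
    (h₁ : AlgGrp.IsKernel a₁ b₁) (hb₁ : Flat b₁.left ∧ Surjective b₁.left)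
    (h₂ : AlgGrp.IsKernel a₂ b₂) (hb₂ : Flat b₂.left ∧ Surjective b₂.left)
    (j' : H₁' ⟶ H₂') (j : H₁ ⟶ H₂) (j'' : H₁'' ⟶ H₂'') [IsMonHom j'] [IsMonHom j] [IsMonHom j'']
    (sq₁ : a₁ ≫ j = j' ≫ a₂) (sq₂ : b₁ ≫ j'' = j ≫ b₂)
    (hj' : IsClosedImmersion j'.left) (hj'' : IsClosedImmersion j''.left) :
    IsClosedImmersion j.left := by
  let P := pullback b₂ j''
  let pr : P ⟶ H₂ := pullback.fst b₂ j''
  let π : P ⟶ H₁'' := pullback.snd b₂ j''
  have hP : IsPullback pr π b₂ j'' := IsPullback.of_hasPullback b₂ j''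
  haveI : IsClosedImmersion pr.left := MorphismProperty.of_isPullback (hP.map (Over.forget S)).flip hj''
  let w : H₁ ⟶ P := pullback.lift j b₁ sq₂.symm
  let top : H₁ ⊗ H₁' ⟶ H₁ := fst H₁ H₁' * (snd H₁ H₁' ≫ a₁)
  have ha₁ : a₁ ≫ b₁ = toUnit H₁' ≫ η[H₁''] := h₁.w
  have ha₂ : a₂ ≫ b₂ = toUnit H₂' ≫ η[H₂''] := h₂.w
  have hc : ∀ {T : Over S} (x : T ⟶ H₂'), (x ≫ a₂) ≫ b₂ = 1 := fun x => by
    rw [Category.assoc, ha₂, ← Category.assoc, Subsingleton.elim (x ≫ toUnit H₂') (toUnit _)]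
    rfl
  let ψ : H₁ ⊗ H₂' ⟶ P := pullback.lift ((fst H₁ H₂' ≫ j) * (snd H₁ H₂' ≫ a₂)) (fst H₁ H₂' ≫ b₁) (by
    rw [MonObj.mul_comp, hc, _root_.mul_one, Category.assoc, Category.assoc, sq₂])
  have hR : IsPullback (fst H₁ H₂') ψ b₁ π :=
    isPullback_torsor a₂ b₂ h₂ j'' pr π hP j b₁ ψ (pullback.lift_fst _ _ _) (pullback.lift_snd _ _ _) sq₂
  have hO : IsPullback (fst H₁ H₁') top b₁ b₁ :=
    isPullback_torsor a₁ b₁ h₁ (𝟙 _) (𝟙 H₁) b₁ (IsPullback.of_horiz_isIso ⟨by simp⟩) (𝟙 _) b₁ top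
      (by simp [top]) (by
        rw [MonObj.mul_comp, Category.assoc, ha₁, ← Category.assoc,
          Subsingleton.elim (snd H₁ H₁' ≫ toUnit H₁') (toUnit _)]
        exact _root_.mul_one _) (by simp)
  have hL : IsPullback (H₁ ◁ j') top ψ w := by
    refine IsPullback.of_right ?_ ?_ hR
    · rw [whiskerLeft_fst, show w ≫ π = b₁ from pullback.lift_snd _ _ _]
      exact hO
    · apply hP.hom_ext
      · rw [Category.assoc, Category.assoc, show w ≫ pr = j from pullback.lift_fst _ _ _,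
          show ψ ≫ pr = _ from pullback.lift_fst _ _ _, MonObj.comp_mul, MonObj.mul_comp, ← Category.assoc,
          whiskerLeft_fst, ← Category.assoc, whiskerLeft_snd, Category.assoc, Category.assoc, ← sq₁]
      · rw [Category.assoc, Category.assoc, show w ≫ π = b₁ from pullback.lift_snd _ _ _,
          show ψ ≫ π = _ from pullback.lift_snd _ _ _, ← Category.assoc, whiskerLeft_fst]
        exact hO.w
  haveI : QuasiCompact b₁.left := by
    haveI : QuasiCompact (b₁.left ≫ H₁''.hom) := by rw [Over.w b₁]; infer_instance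
    exact QuasiCompact.of_comp b₁.left H₁''.hom
  have hψ : (@Surjective ⊓ @Flat ⊓ @QuasiCompact : MorphismProperty Scheme.{u}) ψ.left :=
    MorphismProperty.of_isPullback (hR.map (Over.forget S)) ⟨⟨hb₁.2, hb₁.1⟩, ‹_›⟩
  haveI := Groth.L23.descendsAlong_isClosedImmersion
  haveI hw : IsClosedImmersion w.left := MorphismProperty.of_isPullback_of_descendsAlong
    (Q := @Surjective ⊓ @Flat ⊓ @QuasiCompact) (hL.map (Over.forget S)) hψ
    (MorphismProperty.of_isPullback (Groth.L25.Actions.isPullback_whiskerLeft_left H₁ j').flip hj')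
  rw [← show w ≫ pr = j from pullback.lift_fst _ _ _, Over.comp_left]
  infer_instance

end Groth.Agent.S16647
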