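import Groth.Statements.S16650
import Groth.Agent.L08.TorusWeights.CentreIn
-- import your own Groth.Agent.* helpers here

set_option autoImplicit false
set_option backward.isDefEq.respectTransparency.types false
set_option linter.style.haveILetI false
open CategoryTheory MonoidalCategory CartesianMonoidalCategory MonObj GrpObj AlgebraicGeometry
universe u
open RedSub

namespace Groth.Agent.S16650

/-- The centre of a reductive group scheme G over a scheme S is contained in every parabolic subgroup of
G. -/
theorem result {S : Scheme.{u}} {G Z P : Over S} [GrpObj G] [GrpObj Z] [GrpObj P]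
    (hG : Red.IsReductive G) (z : Z ⟶ G) (hZ : Red.IsCentre z) (p : P ⟶ G) (hP : Red.IsParabolic p) :
    ∃ f : Z ⟶ P, f ≫ p = z :=
  Groth.L08.TorusWeights.exists_fac_parabolic hG p hP z fun X' x h => by
    simpa only [Category.comp_id] using (hZ.2.2 Z z).1 ⟨𝟙 Z, Category.id_comp z⟩ X' x h

end Groth.Agent.S16650
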