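import Groth.Statements.S16651
import Groth.Agent.L15.QG.EvenAlg
import Groth.Agent.L15.QG.Odd2
-- import your own Groth.Agent.* helpers here

set_option autoImplicit false
universe u v
open scoped TensorProduct
open QuadZ

namespace Groth.Agent.S16651

/-- For a free module over an affine base, let Q be a non-degenerate quadratic form (polar form a
perfect pairing) on a free module V of even rank 2m ≥ 2 over a commutative ring A. Then fppf-locally
on A the Clifford algebra C(V,Q) is a matrix algebra of size 2^m and its even part a product of two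
matrix algebras of size 2^(m-1) (there is a faithfully flat finitely presented A-algebra A'
realising both), the centre of C(V,Q) is A, the map V → C(V,Q) is injective onto a direct summand,
and the even part is the centralizer in C(V,Q) of its own centre. -/
theorem result (A : Type u) [CommRing A] (V : Type u)
    [AddCommGroup V] [Module A V] [Module.Free A V] [Module.Finite A V] (m : ℕ) (hm : 1 ≤ m)
    (hV : Module.finrank A V = 2 * m) (Q : QuadraticForm A V) (hQ : Function.Bijective (QuadraticMap.polarBilin Q)) :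
    (∃ (A' : Type u) (_ : CommRing A') (_ : Algebra A A'), Module.FaithfullyFlat A A' ∧ Algebra.FinitePresentation A A' ∧
        Nonempty ((A' ⊗[A] CliffordAlgebra Q) ≃ₐ[A'] Matrix (Fin (2 ^ m)) (Fin (2 ^ m)) A') ∧
        Nonempty ((A' ⊗[A] ↥(CliffordAlgebra.even Q)) ≃ₐ[A']
          (Matrix (Fin (2 ^ (m - 1))) (Fin (2 ^ (m - 1))) A' × Matrix (Fin (2 ^ (m - 1))) (Fin (2 ^ (m - 1))) A'))) ∧
    Subalgebra.center A (CliffordAlgebra Q) = ⊥ ∧
    (Function.Injective (CliffordAlgebra.ι Q) ∧
      ∃ W : Submodule A (CliffordAlgebra Q), IsCompl (LinearMap.range (CliffordAlgebra.ι Q)) W) ∧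
    Subalgebra.centralizer A
        ((CliffordAlgebra.even Q).val '' (Subalgebra.center A ↥(CliffordAlgebra.even Q) : Set ↥(CliffordAlgebra.even Q))) =
      CliffordAlgebra.even Q := by
  obtain ⟨m, rfl⟩ : ∃ m', m = m' + 1 := ⟨m - 1, by omega⟩
  rcases subsingleton_or_nontrivial A with hA | hA
  · haveI := Module.subsingleton A (CliffordAlgebra Q)
    haveI := Module.subsingleton A V
    refine ⟨⟨A, inferInstance, Algebra.id A, inferInstance, inferInstance,
      ⟨AlgEquiv.ofBijective (default : _ →ₐ[A] _) ?_⟩, ⟨AlgEquiv.ofBijective (default : _ →ₐ[A] _) ?_⟩⟩,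
      Subsingleton.elim _ _, ⟨fun _ _ _ => Subsingleton.elim _ _, Groth.L15.QG.range_ι_compl⟩,
      Subsingleton.elim _ _⟩ <;>
    · haveI := Module.subsingleton A (A ⊗[A] CliffordAlgebra Q)
      haveI := Module.subsingleton A (A ⊗[A] ↥(CliffordAlgebra.even Q))
      exact ⟨fun a b _ => Subsingleton.elim a b, fun b => ⟨0, Subsingleton.elim _ _⟩⟩
  let bV : Module.Basis (Fin ((m + 1) * 2)) A V :=
    Module.finBasisOfFinrankEq A V (by rw [hV, mul_comm])
  have hQ' : QuadGrp.IsRegular Q := hQ
  obtain ⟨A', _, _, hff, hfp, ⟨e1⟩, ⟨e2⟩⟩ := Groth.L15.QG.exists_fppf_split_algEquivs bV hQ'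
  exact ⟨⟨A', inferInstance, inferInstance, hff, hfp, ⟨e1⟩, ⟨e2⟩⟩, Groth.L15.QG.center_eq_bot hV hQ',
    ⟨Groth.L15.QG.ι_injective Q, Groth.L15.QG.range_ι_compl⟩, Groth.L15.QG.centralizer_center_even hV hQ'⟩

end Groth.Agent.S16651
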