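import Groth.Statements.S16652
import Groth.Agent.L14.Chev.Cell.Closed

set_option autoImplicit false
set_option backward.isDefEq.respectTransparency.types false
set_option linter.style.haveILetI false
open CategoryTheory MonoidalCategory CartesianMonoidalCategory MonObj GrpObj AlgebraicGeometry
universe u
open RedSub
open Limits Groth.L25 Groth.L14.Chev.Cell Groth.L14.RankOne Groth.L14.Chart

namespace Groth.Agent.S16652

/-- With G a reductive group scheme over a scheme S with splitting D, Ψ a closed set of roots without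
opposite pairs, λ ∈ M^∨ non-vanishing on the roots and positive on Ψ, and n ≥ 1, let U₁ ⊃ U₂ be the
closed subgroups directly spanned by the root groups U_a (a ∈ Ψ) with λ(a) ≥ n, resp. λ(a) ≥ n + 1.
Then U₂ is normal in U₁, root groups U_a, U_b with λ(a) = λ(b) = n commute modulo U₂, and
multiplication (∏_{λ(a) = n} U_a) × U₂ → U₁ (product in any order) is an isomorphism of schemes;
thus U₁/U₂ is the vector group ∏_{λ(a)=n} U_a. -/
theorem result {S : Scheme.{u}} {G : Over S} [GrpObj G]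
    (D : Red.SplitRed G) (Ψ : Set D.idx)
    (hcl : ∀ a b c : D.idx, a ∈ Ψ → b ∈ Ψ → D.P.root a + D.P.root b = D.P.root c → c ∈ Ψ)
    (hneg : ∀ a b : D.idx, a ∈ Ψ → D.P.root b = -D.P.root a → b ∉ Ψ)
    (lam : Module.Dual ℤ D.M) (hlam : ∀ a : D.idx, lam (D.P.root a) ≠ 0) (hpos : ∀ a ∈ Ψ, 0 < lam (D.P.root a))
    (n : ℕ) (hn : 1 ≤ n)
    {U₁ U₂ : Over S} [GrpObj U₁] [GrpObj U₂] (v₁ : U₁ ⟶ G) (v₂ : U₂ ⟶ G) [IsMonHom v₁] [IsMonHom v₂]
    (hv₁ : IsClosedImmersion v₁.left) (hv₂ : IsClosedImmersion v₂.left)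
    (hU₁ : ∀ {m : ℕ} (e : Fin m → D.idx), RedSub.Enumerates {a | a ∈ Ψ ∧ (n : ℤ) ≤ lam (D.P.root a)} e →
      ∃ ψ : RedSub.pow (Red.Ga S) m ≅ U₁, ψ.hom ≫ v₁ = RedSub.prodMap (Red.Ga S) m (fun k => D.u (e k)))
    (hU₂ : ∀ {m : ℕ} (e : Fin m → D.idx), RedSub.Enumerates {a | a ∈ Ψ ∧ (n : ℤ) + 1 ≤ lam (D.P.root a)} e →
      ∃ ψ : RedSub.pow (Red.Ga S) m ≅ U₂, ψ.hom ≫ v₂ = RedSub.prodMap (Red.Ga S) m (fun k => D.u (e k))) :
    (∃ f : U₂ ⟶ U₁, f ≫ v₁ = v₂ ∧ IsMonHom f ∧ AlgGrp.IsNormalHom f) ∧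
    (∀ (a b : D.idx), a ∈ Ψ → b ∈ Ψ → lam (D.P.root a) = n → lam (D.P.root b) = n →
      ∀ (X : Over S) (x y : X ⟶ Red.Ga S), ∃ w : X ⟶ U₂,
        (x ≫ D.u a) * (y ≫ D.u b) * (x ≫ D.u a)⁻¹ * (y ≫ D.u b)⁻¹ = w ≫ v₂) ∧
    ∀ {m : ℕ} (e : Fin m → D.idx), RedSub.Enumerates {a | a ∈ Ψ ∧ lam (D.P.root a) = n} e →
      ∃ ψ : RedSub.pow (Red.Ga S) m ⊗ U₂ ≅ U₁,
        ψ.hom ≫ v₁ = (fst _ _ ≫ RedSub.prodMap (Red.Ga S) m (fun k => D.u (e k))) * (snd _ _ ≫ v₂) := by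
  let mu : D.M →+ ℤ := lam.toAddMonoidHom
  let lv : D.idx → ℕ := fun c => (mu (D.P.root c)).natAbs
  have hmu : ∀ a ∈ Ψ, 0 < mu (D.P.root a) := hpos
  have hF : Filt D Ψ lv := filt_of_closed hcl mu hmu
  have hset : ∀ k : ℕ, {a : D.idx | a ∈ Ψ ∧ k ≤ lv a} = {a | a ∈ Ψ ∧ (k : ℤ) ≤ lam (D.P.root a)} := fun k => by
    ext a
    refine and_congr_right fun ha => ?_
    have := hmu a ha
    show k ≤ (mu (D.P.root a)).natAbs ↔ (k : ℤ) ≤ mu (D.P.root a)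
    omega
  obtain ⟨m₂, e₂, he₂⟩ := exists_enum (D := D) {a : D.idx | a ∈ Ψ ∧ (n : ℤ) + 1 ≤ lam (D.P.root a)}
  obtain ⟨m₁, e₁, he₁⟩ := exists_enum (D := D) {a : D.idx | a ∈ Ψ ∧ (n : ℤ) ≤ lam (D.P.root a)}
  obtain ⟨ψ₁, hψ₁⟩ := hU₁ e₁ he₁
  obtain ⟨ψ₂, hψ₂⟩ := hU₂ e₂ he₂
  have hL₁ : Level D Ψ lv n e₁ := by
    show RedSub.Enumerates _ _
    rw [hset]; exact he₁
  have hL₂ : Level D Ψ lv (n + 1) e₂ := by
    show RedSub.Enumerates _ _
    rw [hset]; simpa using he₂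
  haveI : Mono v₁ := Groth.L08.mono_of_closedImmersion v₁
  haveI : Mono v₂ := Groth.L08.mono_of_closedImmersion v₂
  have hA : ∀ {m : ℕ} {U : Over S} (_ : RedSub.pow (Red.Ga S) m ≅ U), IsAffineHom U.hom := fun e =>
    (AffSmooth.of_iso e.symm ((affSmooth_ga (S := S)).pow _)).1
  have hA₂ := hA ψ₂
  obtain ⟨f, hf⟩ := exists_lift_span hF hL₁ v₁ ψ₁.hom hψ₁ hA₂ v₂ fun R _ j _ C _ _ t =>
    gen_anti (Nat.le_succ n) (pts_mem hF hL₂ v₂ ψ₂ hψ₂ t)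
  haveI : IsMonHom f :=
    { one_hom := by rw [← cancel_mono v₁, Category.assoc, hf, IsMonHom.one_hom, IsMonHom.one_hom]
      mul_hom := by
        rw [← cancel_mono v₁, Category.assoc, hf, IsMonHom.mul_hom, Category.assoc, IsMonHom.mul_hom (f := v₁),
          ← Category.assoc, MonoidalCategory.tensorHom_comp_tensorHom, hf] }
  refine ⟨⟨f, hf, inferInstance, ?_⟩, ?_, ?_⟩
  · intro X g x
    obtain ⟨w, hw⟩ := exists_lift_span hF hL₂ v₂ ψ₂.hom hψ₂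
      ((AffSmooth.of_iso ψ₁.symm ((affSmooth_ga (S := S)).pow _)).tensor
        (AffSmooth.of_iso ψ₂.symm ((affSmooth_ga (S := S)).pow _))).1
      ((fst U₁ U₂ ≫ v₁) * (snd U₁ U₂ ≫ v₂) * (fst U₁ U₂ ≫ v₁)⁻¹) fun R _ j _ C _ _ t => by
        simp only [MonObj.comp_mul, GrpObj.comp_inv, ← Category.assoc]
        exact (conj_mem_gen D.rootHom hF (gen_le_zero (pts_mem hF hL₁ v₁ ψ₁ hψ₁ _)) _
          (pts_mem hF hL₂ v₂ ψ₂ hψ₂ _)).1
    refine ⟨lift g x ≫ w, (cancel_mono v₁).1 ?_⟩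
    rw [MonObj.mul_comp, MonObj.mul_comp, GrpObj.inv_comp, Category.assoc, hf, Category.assoc, hf, Category.assoc, hw]
    simp only [MonObj.comp_mul, GrpObj.comp_inv, lift_fst_assoc, lift_snd_assoc]
  · intro a b ha hb hla hlb X x y
    obtain ⟨w, hw⟩ := exists_lift_span hF hL₂ v₂ ψ₂.hom hψ₂
      ((affSmooth_ga (S := S)).tensor affSmooth_ga).1
      ((fst _ _ ≫ D.u a) * (snd (Red.Ga S) (Red.Ga S) ≫ D.u b) * (fst _ _ ≫ D.u a)⁻¹ * (snd _ _ ≫ D.u b)⁻¹)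
      fun R _ j _ C _ _ t => by
        simp only [MonObj.comp_mul, GrpObj.comp_inv, ← Category.assoc]
        rw [← gp_gv (t ≫ fst _ _), ← gp_gv (t ≫ snd _ _)]
        refine comm_mem_gen D.rootHom hF hb ha _ _ (Or.inl ?_)
        have := hmu b hb
        have hlb' : mu (D.P.root b) = n := hlb
        show n + 1 ≤ (mu (D.P.root b)).natAbs + 1
        omega
    refine ⟨lift x y ≫ w, ?_⟩
    rw [Category.assoc, hw]
    simp only [MonObj.comp_mul, GrpObj.comp_inv, lift_fst_assoc, lift_snd_assoc]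
  · intro m e he
    have hE : RedSub.Enumerates {a : D.idx | a ∈ Ψ ∧ (n : ℤ) ≤ lam (D.P.root a)} (Fin.append e e₂) := by
      have h1 : ∀ i, e i ∈ Ψ ∧ lam (D.P.root (e i)) = (n : ℤ) := fun i => (Set.ext_iff.1 he.2 (e i)).1 ⟨i, rfl⟩
      have h2 : ∀ i, e₂ i ∈ Ψ ∧ (n : ℤ) + 1 ≤ lam (D.P.root (e₂ i)) := fun i =>
        (Set.ext_iff.1 he₂.2 (e₂ i)).1 ⟨i, rfl⟩
      refine ⟨Fin.append_injective_iff.2 ⟨he.1, he₂.1, fun i l h => ?_⟩, Set.ext fun a => ⟨?_, fun ha => ?_⟩⟩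
      · have := (h1 i).2
        rw [h] at this
        have := (h2 l).2
        omega
      · rintro ⟨i, rfl⟩
        induction i using Fin.addCases with
        | left i => rw [Fin.append_left]; exact ⟨(h1 i).1, (h1 i).2.ge⟩
        | right i => rw [Fin.append_right]; exact ⟨(h2 i).1, (by have := (h2 i).2; omega)⟩
      · rcases eq_or_lt_of_le ha.2 with h | h
        · obtain ⟨i, rfl⟩ := (Set.ext_iff.1 he.2 a).2 ⟨ha.1, h.symm⟩
          exact ⟨_, Fin.append_left e e₂ i⟩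
        · obtain ⟨i, rfl⟩ := (Set.ext_iff.1 he₂.2 a).2 ⟨ha.1, h⟩
          exact ⟨_, Fin.append_right e e₂ i⟩
    obtain ⟨ψ, hψ⟩ := hU₁ _ hE
    refine ⟨(MonoidalCategory.whiskerLeftIso _ ψ₂.symm) ≪≫ powAppend (Red.Ga S) m m₂ ≪≫ ψ, ?_⟩
    simp only [Iso.trans_hom, Category.assoc]
    rw [hψ, powAppend_prodMap, MonObj.comp_mul]
    simp only [MonoidalCategory.whiskerLeftIso_hom, Iso.symm_hom, ← Category.assoc, whiskerLeft_fst,
      whiskerLeft_snd, Fin.append_left, Fin.append_right]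
    rw [← hψ₂]
    simp

end Groth.Agent.S16652
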