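import Groth.Statements.S16667
import Groth.Agent.L01.Serre
import Mathlib.RingTheory.Ideal.AssociatedPrime.Basic

set_option autoImplicit false
universe u
open CAlg

namespace Groth.Agent.S16667

/-- Let A be a Noetherian integral domain satisfying Serre's condition (S_2), with fraction field K. An
element of K which lies in the localization A_p for every prime p of A with depth(A_p) = 1 lies in
A. -/
theorem result {A : Type u} [CommRing A] [IsDomain A]
    [IsNoetherianRing A] (hS2 : LocCoh.HasSk 2 A A) (x : FractionRing A)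
    (hx : ∀ (p : Ideal A) [p.IsPrime],
      LocCoh.depth (Localization.AtPrime p) (Localization.AtPrime p) = 1 →
        x ∈ Set.range (algebraMap (Localization.AtPrime p) (FractionRing A))) :
    x ∈ Set.range (algebraMap A (FractionRing A)) := by
  classical
  obtain ⟨a, ⟨s, hs⟩, rfl⟩ := IsLocalization.exists_mk'_eq (nonZeroDivisors A) x
  have hs0 : s ≠ 0 := nonZeroDivisors.ne_zero hs
  let z : A ⧸ Ideal.span {s} := Ideal.Quotient.mk _ a
  by_cases hz : z = 0
  · obtain ⟨c, hc⟩ := Ideal.mem_span_singleton'.1 (Ideal.Quotient.eq_zero_iff_mem.1 hz)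
    refine ⟨c, ?_⟩
    rw [IsLocalization.eq_mk'_iff_mul_eq, ← map_mul, hc]
  exfalso
  obtain ⟨P, hP, hle⟩ := exists_le_isAssociatedPrime_of_isNoetherianRing A z hz
  obtain ⟨hPp, w, hw⟩ := isAssociatedPrime_iff.mp hP
  obtain ⟨c, rfl⟩ := Ideal.Quotient.mk_surjective w
  have hmem : ∀ t, t ∈ P ↔ t * c ∈ Ideal.span {s} := fun t => by
    rw [hw, Submodule.mem_colon_singleton, Submodule.mem_bot, ← Ideal.Quotient.eq_zero_iff_mem]
    rfl
  haveI := hPp
  let L := Localization.AtPrime P
  let f := algebraMap A L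
  have hinj : Function.Injective f := IsLocalization.injective L P.primeCompl_le_nonZeroDivisors
  have hsP : s ∈ P := (hmem s).2 (Ideal.mul_mem_right _ _ (Ideal.mem_span_singleton_self s))
  have hfs : f s ∈ IsLocalRing.maximalIdeal L := (IsLocalization.AtPrime.to_map_mem_maximal_iff L P s).2 hsP
  have hfs0 : f s ≠ 0 := fun h => hs0 (hinj (h.trans (map_zero f).symm))
  have hlow : 1 ≤ LocCoh.depth L L := Groth.L01.one_le_depth hfs
    (isSMulRegular_iff_right_eq_zero_of_smul.2 fun u hu => (mul_eq_zero.1 hu).resolve_left hfs0)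
  have hhigh : ¬ 2 ≤ LocCoh.depth L L := fun h2 => by
    refine Groth.L01.Serre.not_bad_of_two_le_depth h2 ⟨f s, f c, fun u hu => (mul_eq_zero.1 hu).resolve_left hfs0,
      fun hc => ?_, fun t ht => ?_⟩
    · rw [← Set.image_singleton, ← Ideal.map_span] at hc
      obtain ⟨v, hv, hvc⟩ := (IsLocalization.algebraMap_mem_map_algebraMap_iff P.primeCompl L _ _).mp hc
      exact hv ((hmem v).2 hvc)
    · obtain ⟨d, u, rfl⟩ := IsLocalization.exists_mk'_eq P.primeCompl t
      have hd : d ∈ P := (IsLocalization.AtPrime.mk'_mem_maximal_iff _ P d u).mp ht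
      obtain ⟨q, hq⟩ := Ideal.mem_span_singleton'.mp ((hmem d).mp hd)
      refine Ideal.mem_span_singleton'.mpr ⟨IsLocalization.mk' _ q u, ?_⟩
      rw [mul_comm, IsLocalization.mul_mk'_eq_mk'_of_mul, mul_comm _ (f c),
        IsLocalization.mul_mk'_eq_mk'_of_mul, mul_comm c d, ← hq, mul_comm s q]
  obtain ⟨y, hy⟩ := hx P (le_antisymm (ENat.lt_add_one_iff ENat.one_ne_top |>.1 (by
    rw [one_add_one_eq_two]; exact not_le.1 hhigh)) hlow)
  obtain ⟨b, ⟨t, ht⟩, rfl⟩ := IsLocalization.exists_mk'_eq P.primeCompl y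
  have h1 := congrArg (algebraMap L (FractionRing A)) (IsLocalization.mk'_spec' L b ⟨t, ht⟩)
  rw [map_mul, hy, ← IsScalarTower.algebraMap_apply, ← IsScalarTower.algebraMap_apply] at h1
  have h2 : algebraMap A (FractionRing A) (t * a) = algebraMap A (FractionRing A) (b * s) := by
    rw [map_mul, map_mul, ← h1, mul_assoc]
    congr 1
    exact (IsLocalization.mk'_spec_mk (FractionRing A) a s hs).symm
  refine ht (hle (Submodule.mem_colon_singleton.2 ?_))
  rw [Submodule.mem_bot]
  show Ideal.Quotient.mk _ (t * a) = 0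
  rw [IsFractionRing.injective A (FractionRing A) h2, Ideal.Quotient.eq_zero_iff_mem]
  exact Ideal.mul_mem_left _ _ (Ideal.mem_span_singleton_self s)


end Groth.Agent.S16667
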