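import Groth.Statements.S16668
import Groth.Agent.L28.LefPow.Depth
import Groth.Agent.S6039
import Groth.Agent.L16.CohClosedPush
import Groth.Agent.L22.WeakAssPoints
import Groth.Agent.L04.Depth

set_option autoImplicit false
universe u
open CategoryTheory AlgebraicGeometry
open Lef

namespace Groth.Agent.S16668

/-- Let A be an excellent normal domain, J the radical ideal of A whose zero set is the set of
non-regular points of Spec A, and p a prime ideal of A generated by an A-regular sequence, such that
A/p is normal and ht(p) + ht(J) ≤ ht(p + J). Let U be an open subset of Spec A which contains every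
regular point of V(p) and whose complement consists of points of height at least 2. Then for every m
≥ 1 the restriction map from Γ(Spec(A/p^m), O) to the sections of O over the inverse image of U in
Spec(A/p^m) is bijective. (The published lemma asserts the corresponding bijection after p-adic
completion, for every finitely generated reflexive A-module in place of A; stated here, for A
itself, is the bijection at each finite level m which its proof establishes.) -/
theorem result
    (A : Type u) [CommRing A] [IsDomain A] [IsIntegrallyClosed A] (hA : EGA4.IsExcellent A)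
    (J : Ideal A) (hJrad : J.IsRadical)
    (hJ : ∀ x : PrimeSpectrum A, J ≤ x.asIdeal ↔ x ∉ EGA4.regLocus A)
    (p : Ideal A) [p.IsPrime] (rs : List A) (hrs : RingTheory.Sequence.IsRegular A rs)
    (hp : Ideal.ofList rs = p) (hnorm : IsIntegrallyClosed (A ⧸ p))
    (hht : p.height + J.height ≤ (p ⊔ J).height)
    (U : (Spec (CommRingCat.of A)).Opens)
    (hUreg : ∀ x : PrimeSpectrum A, p ≤ x.asIdeal → x ∈ EGA4.regLocus A → x ∈ U.1)
    (hUcodim : ∀ x : PrimeSpectrum A, x ∉ U.1 → (2 : ℕ∞) ≤ x.asIdeal.height)
    (m : ℕ) (hm : 1 ≤ m) :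
    Function.Bijective ((Spec (CommRingCat.of (A ⧸ p ^ m))).presheaf.map
      (homOfLE (le_top : Spec.map (CommRingCat.ofHom (Ideal.Quotient.mk (p ^ m))) ⁻¹ᵁ U ≤ ⊤)).op).hom := by
  haveI := hA.1
  let Y := Spec (CommRingCat.of (A ⧸ p ^ m))
  let W : Y.Opens := Spec.map (CommRingCat.ofHom (Ideal.Quotient.mk (p ^ m))) ⁻¹ᵁ U
  have hdepth : ∀ x : Y, x ∉ W →
      2 ≤ LocCoh.depth (Y.presheaf.stalk x) ((Coh.structureModule Y).presheaf.stalk x) := by
    intro x hx
    haveI := x.2
    let q : PrimeSpectrum A := PrimeSpectrum.comap (Ideal.Quotient.mk (p ^ m)) x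
    haveI := q.2
    have hqU : q ∉ U.1 := hx
    have hpm : p ^ m ≤ q.asIdeal := fun a ha => by
      show Ideal.Quotient.mk (p ^ m) a ∈ x.asIdeal
      rw [Ideal.Quotient.eq_zero_iff_mem.2 ha]
      exact zero_mem _
    have hpq : p ≤ q.asIdeal := Ideal.IsPrime.le_of_pow_le hpm
    have hJq : J ≤ q.asIdeal := (hJ q).2 fun hreg => hqU (hUreg q hpq hreg)
    have h := Groth.L28.LefPow.two_le_depth_localization hA J hJ p rs hrs.toIsWeaklyRegular hp hnorm hht
      q.asIdeal hpq hJq m x.asIdeal rfl
    haveI : IsNoetherianRing (Localization.AtPrime x.asIdeal) :=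
      IsLocalization.isNoetherianRing x.asIdeal.primeCompl _ inferInstance
    let eY := (Spec.stalkIso (CommRingCat.of (A ⧸ p ^ m)) x).commRingCatIsoToRingEquiv
    rw [← Groth.L06.FlatFibre.depth_eq_of_ringEquiv eY.symm] at h
    let e : Y.presheaf.stalk x ≃ₗ[Y.presheaf.stalk x] (Coh.structureModule Y).presheaf.stalk x :=
      LinearEquiv.ofBijective (LinearMap.toSpanSingleton (Y.presheaf.stalk x) _ (Groth.L22.oneGerm x))
        ⟨(injective_iff_map_eq_zero _).2 fun a ha => Groth.L22.eq_zero_of_smul_oneGerm ha,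
          Groth.L22.stalk_smul_oneGerm_surjective x⟩
    exact le_of_le_of_eq h (Groth.L04.idealDepth_congr e)
  have key := (Groth.Agent.S6039.result Y W (Coh.structureModule Y)
    Groth.L16.CohClosedPush.isCoh_structure).1 hdepth ⊤
  have hbij : Function.Bijective (Y.presheaf.map (homOfLE (inf_le_left : ⊤ ⊓ W ≤ ⊤)).op).hom := key
  have h1 : (homOfLE (le_top : W ≤ ⊤)).op = (homOfLE (inf_le_left : ⊤ ⊓ W ≤ ⊤)).op ≫
      (homOfLE (le_inf le_top le_rfl : W ≤ ⊤ ⊓ W)).op := rfl
  show Function.Bijective (Y.presheaf.map (homOfLE (le_top : W ≤ ⊤)).op).hom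
  rw [h1, Functor.map_comp, CommRingCat.hom_comp, RingHom.coe_comp]
  refine Function.Bijective.comp ?_ hbij
  haveI : IsIso (homOfLE (le_inf le_top le_rfl : W ≤ ⊤ ⊓ W)).op := by
    refine ⟨(homOfLE (inf_le_right : ⊤ ⊓ W ≤ W)).op, rfl, rfl⟩
  exact ConcreteCategory.bijective_of_isIso _

end Groth.Agent.S16668
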