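import Groth.Statements.S16669
import Groth.Agent.L18.HomFormal
import Groth.Agent.L18.LefRegCodim
-- import your own Groth.Agent.* helpers here

set_option autoImplicit false
set_option backward.isDefEq.respectTransparency.types false
set_option backward.isDefEq.respectTransparency false
universe u
open CategoryTheory CategoryTheory.Limits AlgebraicGeometry TopologicalSpace
open Lef

namespace Groth.Agent.S16669

/-- Let k be a field and X an integral normal proper k-scheme of dimension d ≥ 3 carrying an ample
invertible module L, and let s be a global section of L whose zero scheme Y is integral and normal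
of dimension d - 1, is regular at every point where X is regular, and contains no irreducible
component of the non-regular locus of X. Let X° be the open subscheme of regular points of X and Y°
= Y ∩ X°. Then the Lefschetz condition Lef(X°, Y°) holds: for every open U of X° containing Y° and
every finite locally free O_U-module D, the map Hom(D, O_U) → lim_n Hom(D, O_U/I^{n+1}) is
bijective, where I is the ideal of Y° in U. (The published statement takes X ⊂ P^N_k projective and
Y cut out by e = codim(Y, X) general hypersurfaces meeting the singular locus properly; here only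
the case e = 1 is treated, Y is allowed to be the zero scheme of any global section of any ample
invertible module on a proper X, which is wider, and the generality of the hypersurface is replaced
by the listed properties of Y.) -/
theorem result
    (k : Type u) [Field k] (X : Scheme.{u}) (f : X ⟶ Spec (CommRingCat.of k)) [IsProper f]
    [IsIntegral X] (hXn : Pi1.IsNormalScheme X)
    (d : ℕ) (hd : topologicalKrullDim X = d) (h3 : 3 ≤ d)
    (L : X.Modules) (hL : CohB1.IsAmple L) (s : Coh.structureModule X ⟶ L)
    [IsIntegral (PicF2.zeroScheme L s).subscheme]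
    (hYn : Pi1.IsNormalScheme (PicF2.zeroScheme L s).subscheme)
    (hYdim : topologicalKrullDim (PicF2.zeroScheme L s).subscheme = (d - 1 : ℕ))
    (Xreg : X.Opens) (hXreg : ∀ x : X, x ∈ Xreg ↔ IsRegularLocalRing (X.presheaf.stalk x))
    (hYreg : ∀ y : (PicF2.zeroScheme L s).subscheme, (PicF2.zeroScheme L s).subschemeι.base y ∈ Xreg →
      IsRegularLocalRing ((PicF2.zeroScheme L s).subscheme.presheaf.stalk y))
    (hYsing : ∀ Z ∈ irreducibleComponents {x : X // x ∉ Xreg},
      ¬ (Subtype.val '' Z ⊆ ((PicF2.zeroScheme L s).support : Set X))) :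
    Lef.LefCond (Xreg : Scheme.{u}) ((PicF2.zeroScheme L s).comap Xreg.ι) := by
  haveI : IsLocallyNoetherian X := LocallyOfFiniteType.isLocallyNoetherian f
  have hs := Groth.L18.FormalLevels.ne_zero_of_dim hL.1 hd (by omega) hYdim
  intro U hU D hD
  have hmemY : ∀ x : (Xreg : Scheme.{u}), Xreg.ι x ∈ ((PicF2.zeroScheme L s).support : Set X) → x ∈ U := fun x hx => hU (by
    rw [Scheme.IdealSheafData.support_comap]
    exact hx)
  have hUY : ∀ x : X, x ∈ ((PicF2.zeroScheme L s).support : Set X) → IsRegularLocalRing (X.presheaf.stalk x) →
      x ∈ Set.range (U.ι ≫ Xreg.ι).base := fun x hx hr =>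
    ⟨⟨⟨x, (hXreg x).2 hr⟩, hmemY ⟨x, (hXreg x).2 hr⟩ hx⟩, rfl⟩
  have hcodim := Groth.L18.LefRegCodim.two_le_dim_of_notMem f hXn hd (by omega) hL hs hYn
    (Set.range (U.ι ≫ Xreg.ι).base) (U.ι ≫ Xreg.ι).isOpenEmbedding.isOpen_range hUY
  haveI : IsLocallyNoetherian (Xreg : Scheme.{u}) := isLocallyNoetherian_of_isOpenImmersion Xreg.ι
  haveI : IsLocallyNoetherian (U : Scheme.{u}) := isLocallyNoetherian_of_isOpenImmersion U.ι
  rw [← Scheme.IdealSheafData.comap_comp]
  have hEf := Groth.L16.HomSh.isFinLocFree_homMod hD
    (Groth.L16.Existence.isFinLocFree_of_isInvertible (Groth.L18.Ample.isInvertible_structureModule (U : Scheme.{u})))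
  exact Groth.L18.HomFormal.homToFormal_bijective D hD _
    (Groth.L18.FormalLevels.big_open_bijective f hXn hd (by omega) hL s hYn hYdim (U.ι ≫ Xreg.ι) hUY hcodim
      (Groth.L16.HomSh.homMod D (Coh.structureModule (U : Scheme.{u})))
      (Groth.L16.NegPow.isCoh_of_isFinLocFree hEf) fun z => by
        haveI := Groth.L18.LFP.free_stalk _ hEf z
        haveI := Groth.L18.LFP.finite_stalk _ (Groth.L18.LFP.isFP_of_isFinLocFree _ hEf) z
        exact inferInstanceAs (Module.IsReflexive _ _))

end Groth.Agent.S16669
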