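import Groth.Statements.S1667
import Groth.Agent.S1551
import Groth.Agent.L22.VeryAmple.Immersion

set_option autoImplicit false
universe u
open CategoryTheory CategoryTheory.Limits AlgebraicGeometry
open Variety

namespace Groth.Agent.S1667

/-- A separated scheme of finite type over k of dimension at most one is H-quasi-projective: it admits
an immersion into some P^n_k over k. -/
theorem result (k : Type u) [Field k] (X : Scheme.{u}) [X.Over (Spec (CommRingCat.of k))] [IsSeparated (X ↘ (Spec (CommRingCat.of k)))] [LocallyOfFiniteType (X ↘ (Spec (CommRingCat.of k)))] [QuasiCompact (X ↘ (Spec (CommRingCat.of k)))] (hdim : topologicalKrullDim X ≤ 1) :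
    ∃ (n : ℕ) (i : X ⟶ CohB1.ProjSpace n k), IsImmersion i ∧ i ≫ CohB1.ProjSpace.toSpec n k = X ↘ (Spec (CommRingCat.of k)) := by
  set q := X ↘ (Spec (CommRingCat.of k))
  haveI : IsLocallyNoetherian X := LocallyOfFiniteType.isLocallyNoetherian q
  haveI : CompactSpace X := QuasiCompact.compactSpace_of_compactSpace q
  haveI : IsNoetherian X := { }
  haveI : X.IsSeparated := ⟨by rw [← terminal.comp_from q]; infer_instance⟩
  obtain ⟨L, hL⟩ := Groth.Agent.S1551.aux X hdim
  obtain ⟨_, _, n, r, hr, hi, -⟩ := Groth.L22.VeryAmple.exists_immersion_of_isAmple q hL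
  exact ⟨n, r, hi, hr⟩

end Groth.Agent.S1667
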