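import Groth.Statements.S16670
import Groth.Agent.L18.FormalRefProper
-- import your own Groth.Agent.* helpers here

set_option autoImplicit false
set_option backward.isDefEq.respectTransparency.types false
set_option backward.isDefEq.respectTransparency false
universe u
open CategoryTheory CategoryTheory.Limits AlgebraicGeometry TopologicalSpace
open Lef

namespace Groth.Agent.S16670

open Groth.L18.FormalLevels in
/-- The statement for any tower isomorphic to that of the levels. -/
theorem tower {U : Scheme.{u}} (E : U.Modules) (I : U.IdealSheafData) [IsLocallyNoetherian U] {Y : ℕ → Scheme.{u}} (g : ∀ n, Y n ⟶ U)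
    (G : ∀ n, (Y n).Modules) (v : ∀ n, (𝟭 U.Modules).obj E ⟶ (Scheme.Modules.pushforward (g n)).obj (G n))
    (T : ∀ n, (Scheme.Modules.pushforward (g (n + 1))).obj ((𝟭 _).obj (G (n + 1))) ⟶ (Scheme.Modules.pushforward (g n)).obj (G n))
    (e : ∀ n, Q I E n ≅ (Scheme.Modules.pushforward (g n)).obj (G n))
    (hev : ∀ n, unitQ I E n ≫ (e n).hom = v n)
    (heT : ∀ n, transU I E n ≫ (e n).hom = (e (n + 1)).hom ≫ T n)
    (h : (∀ σ : Γ(E, ⊤), (∀ n, (unitQ I E n).app ⊤ σ = 0) → σ = 0) ∧
      (∀ y : ∀ n, Γ(Q I E n, ⊤), (∀ n, (transU I E n).app ⊤ (y (n + 1)) = y n) →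
        ∃ σ : Γ(E, ⊤), ∀ n, (unitQ I E n).app ⊤ σ = y n)) :
    (∀ σ : (Scheme.Modules.presheaf E).obj (Opposite.op ⊤), (∀ n : ℕ, Scheme.Modules.Hom.app (v n) ⊤ σ = 0) → σ = 0) ∧
    (∀ y : (∀ n : ℕ, (Scheme.Modules.presheaf ((Scheme.Modules.pushforward (g n)).obj (G n))).obj (Opposite.op ⊤)),
      (∀ n : ℕ, Scheme.Modules.Hom.app (T n) ⊤ (y (n + 1)) = y n) →
        ∃ σ : (Scheme.Modules.presheaf E).obj (Opposite.op ⊤), ∀ n : ℕ, Scheme.Modules.Hom.app (v n) ⊤ σ = y n) := by
  have hrt : ∀ (n : ℕ) (w : Γ(Q I E n, ⊤)), (e n).inv.app ⊤ ((e n).hom.app ⊤ w) = w := fun n w => by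
    rw [app_comp (e n).hom (e n).inv (𝟙 _) (e n).hom_inv_id ⊤ w]; rfl
  have hrt' : ∀ (n : ℕ) (w : Γ((Scheme.Modules.pushforward (g n)).obj (G n), ⊤)),
      (e n).hom.app ⊤ ((e n).inv.app ⊤ w) = w := fun n w => by
    rw [app_comp (e n).inv (e n).hom (𝟙 _) (e n).inv_hom_id ⊤ w]; rfl
  refine ⟨fun σ hσ => h.1 σ fun n => ?_, fun y hy => ?_⟩
  · rw [← hrt n ((unitQ I E n).app ⊤ σ), app_comp (unitQ I E n) (e n).hom (v n) (hev n) ⊤ σ]
    exact (congrArg ((e n).inv.app ⊤) (hσ n)).trans (map_zero _)
  · obtain ⟨y', hy'⟩ : ∃ y' : ∀ n, Γ(Q I E n, ⊤), ∀ n, y' n = (e n).inv.app ⊤ (y n) := ⟨_, fun _ => rfl⟩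
    obtain ⟨σ, hσ⟩ := h.2 y' fun n => by
      rw [← hrt n ((transU I E n).app ⊤ (y' (n + 1))), app_comp (transU I E n) (e n).hom _ (heT n) ⊤ (y' (n + 1)),
        ← app_comp (e (n + 1)).hom (T n) _ rfl ⊤ (y' (n + 1)), hy', hrt', hy']
      exact congrArg ((e n).inv.app ⊤) (hy n)
    exact ⟨σ, fun n => by
      exact (app_comp (unitQ I E n) (e n).hom (v n) (hev n) ⊤ σ).symm.trans ((congrArg ((e n).hom.app ⊤) ((hσ n).trans (hy' n))).trans (hrt' n (y n)))⟩

/-- Let k be a field, X an integral normal proper k-scheme of dimension d ≥ 3 carrying an ample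
invertible module L, and s a global section of L whose zero scheme Y is integral and normal of
dimension d - 1, is regular at every point where X is regular, and contains no irreducible component
of the non-regular locus of X. Let j : U → X be an open immersion whose image contains every regular
point of X lying on Y and whose complement consists of points with local rings of dimension at least
2, and let E be a coherent O_U-module all of whose stalks are reflexive. Let 𝓙 be the ideal of Y ×_X
U in U and U_n the closed subscheme defined by 𝓙^(n+1), with inclusion ι_n. Then the canonical map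
Γ(U, E) → lim_n Γ(U_n, E|_{U_n}) is bijective; here Γ(U_n, E|_{U_n}) is written as the global
sections of ι_n,* ι_n^* E, the map from Γ(U, E) is induced by the units E → ι_n,* ι_n^* E, and the
transition maps come from the units of the inclusions U_n → U_(n+1) together with the
identifications of the formal-completion system. (The published statement takes X ⊂ P^N_k projective
and Y cut out by e = codim(Y, X) general hypersurfaces; here only the case e = 1 is treated, Y is
allowed to be the zero scheme of any global section of any ample invertible module on a proper X,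
which is wider, and the generality of the hypersurfaces is replaced by the listed properties of Y.) -/
theorem result
    (k : Type u) [Field k] (X : Scheme.{u}) (f : X ⟶ Spec (CommRingCat.of k)) [IsProper f]
    [IsIntegral X] (hXn : Pi1.IsNormalScheme X)
    (d : ℕ) (hd : topologicalKrullDim X = d) (h3 : 3 ≤ d)
    (L : X.Modules) (hL : CohB1.IsAmple L) (s : Coh.structureModule X ⟶ L)
    [IsIntegral (PicF2.zeroScheme L s).subscheme]
    (hYn : Pi1.IsNormalScheme (PicF2.zeroScheme L s).subscheme)
    (hYdim : topologicalKrullDim (PicF2.zeroScheme L s).subscheme = (d - 1 : ℕ))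
    (hYreg : ∀ y : (PicF2.zeroScheme L s).subscheme,
      IsRegularLocalRing (X.presheaf.stalk ((PicF2.zeroScheme L s).subschemeι.base y)) →
        IsRegularLocalRing ((PicF2.zeroScheme L s).subscheme.presheaf.stalk y))
    (hYsing : ∀ Z ∈ irreducibleComponents {x : X // ¬ IsRegularLocalRing (X.presheaf.stalk x)},
      ¬ (Subtype.val '' Z ⊆ ((PicF2.zeroScheme L s).support : Set X)))
    (U : Scheme.{u}) (j : U ⟶ X) [IsOpenImmersion j]
    (hUY : ∀ x : X, x ∈ ((PicF2.zeroScheme L s).support : Set X) → IsRegularLocalRing (X.presheaf.stalk x) →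
      x ∈ Set.range j.base)
    (hUcodim : ∀ x : X, x ∉ Set.range j.base → (2 : WithBot ℕ∞) ≤ ringKrullDim (X.presheaf.stalk x))
    (E : U.Modules) (hE : Coh.IsCoh E)
    (hEr : ∀ x : U, Module.IsReflexive (U.presheaf.stalk x) (E.presheaf.stalk x))
    (𝓙 : U.IdealSheafData) (h𝓙 : 𝓙 = (PicF2.zeroScheme L s).comap j) :
    (∀ σ : (Scheme.Modules.presheaf E).obj (Opposite.op ⊤),
      (∀ n : ℕ, Scheme.Modules.Hom.app ((Scheme.Modules.pullbackPushforwardAdjunction (FSch.completionToX U 𝓙 n)).unit.app E) ⊤ σ = 0) → σ = 0) ∧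
    (∀ y : (∀ n : ℕ, (Scheme.Modules.presheaf ((Scheme.Modules.pushforward (FSch.completionToX U 𝓙 n)).obj ((FSch.completionMod 𝓙 E).F n))).obj (Opposite.op ⊤)),
      (∀ n : ℕ, Scheme.Modules.Hom.app
          ((Scheme.Modules.pushforward (FSch.completionToX U 𝓙 (n + 1))).map
            ((Scheme.Modules.pullbackPushforwardAdjunction ((FSch.completionAlong U 𝓙).ι n)).unit.app ((FSch.completionMod 𝓙 E).F (n + 1))) ≫
          (Scheme.Modules.pushforwardComp ((FSch.completionAlong U 𝓙).ι n) (FSch.completionToX U 𝓙 (n + 1))).hom.app ((Scheme.Modules.pullback ((FSch.completionAlong U 𝓙).ι n)).obj ((FSch.completionMod 𝓙 E).F (n + 1))) ≫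
          (Scheme.Modules.pushforwardCongr (Scheme.IdealSheafData.inclusion_subschemeι (FSch.pow_succ_le U 𝓙 n))).hom.app ((Scheme.Modules.pullback ((FSch.completionAlong U 𝓙).ι n)).obj ((FSch.completionMod 𝓙 E).F (n + 1))) ≫
          (Scheme.Modules.pushforward (FSch.completionToX U 𝓙 n)).map ((FSch.completionMod 𝓙 E).e n).hom) ⊤ (y (n + 1)) = y n) →
        ∃ σ : (Scheme.Modules.presheaf E).obj (Opposite.op ⊤),
          ∀ n : ℕ, Scheme.Modules.Hom.app ((Scheme.Modules.pullbackPushforwardAdjunction (FSch.completionToX U 𝓙 n)).unit.app E) ⊤ σ = y n) := by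
  subst h𝓙
  haveI : IsLocallyNoetherian X := LocallyOfFiniteType.isLocallyNoetherian f
  haveI : IsLocallyNoetherian U := LocallyOfFiniteType.isLocallyNoetherian j
  have key := tower E ((PicF2.zeroScheme L s).comap j) (FSch.completionToX U ((PicF2.zeroScheme L s).comap j))
    (FSch.completionMod ((PicF2.zeroScheme L s).comap j) E).F
    (fun n => (Scheme.Modules.pullbackPushforwardAdjunction (FSch.completionToX U ((PicF2.zeroScheme L s).comap j) n)).unit.app E)
    (Groth.L18.ComplTrans.trans ((PicF2.zeroScheme L s).comap j) E)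
    (fun n => Iso.refl _) (fun n => Category.comp_id _) (fun n => (Category.comp_id _).trans (Category.id_comp _).symm)
    (Groth.L18.FormalLevels.big_open_bijective f hXn hd (by omega) hL s hYn hYdim j hUY hUcodim E hE hEr)
  simp only [Groth.L18.ComplTrans.trans_def] at key
  exact key

end Groth.Agent.S16670
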