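import Groth.Statements.S16673
import Groth.Agent.L26.AV.TateFinite
import Groth.Agent.L15.KerFlat.Basic
import Mathlib.Algebra.Group.Subgroup.Finite

set_option autoImplicit false
universe u
open CategoryTheory CategoryTheory.Limits MonoidalCategory CartesianMonoidalCategory MonObj GrpObj AlgebraicGeometry
open AbVar

namespace Groth.Agent.S16673

open CategoryTheory CategoryTheory.Limits MonoidalCategory CartesianMonoidalCategory MonObj AbDual

/-- An elementary growth comparison. -/
theorem le_of_pow_le {p i j e : ℕ} (hp : 1 < p) (h : ∀ m, p ^ (m * i) ≤ p ^ ((m + e) * j)) : i ≤ j := by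
  by_contra hlt
  have h1 := (Nat.pow_le_pow_iff_right hp).1 (h (e * j + 1))
  have h2 : (e * j + 1) * (j + 1) ≤ (e * j + 1) * i := Nat.mul_le_mul_left _ (Nat.not_le.1 hlt)
  simp only [Nat.add_mul, Nat.mul_add, Nat.mul_one, Nat.one_mul] at h1 h2
  omega

/-- Cardinality of a free `ZMod` module. -/
theorem card_of_equiv {M : Type*} [Group M] {p m i : ℕ} [NeZero (p ^ m)]
    (h : Nonempty (M ≃* Multiplicative (Fin i → ZMod (p ^ m)))) : Nat.card M = p ^ (m * i) := by
  obtain ⟨e⟩ := h
  rw [Nat.card_congr e.toEquiv, Nat.card_congr Multiplicative.toAdd, Nat.card_fun, Nat.card_zmod,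
    Nat.card_fin, ← pow_mul]

/-- Let k be a field of characteristic p > 0 with an algebraic closure k̄, let X and Y be abelian
varieties over k (proper, geometrically integral, commutative k-group schemes) and let h : X → Y be
a homomorphism which is finite and surjective (an isogeny). If i and j are natural numbers such that
for every m ≥ 0 the group X[p^m](k̄) of k̄-valued points of X killed by p^m (k̄-valued points being
the k-morphisms Spec k̄ → X, a group under the group law of X) is isomorphic to (ℤ/p^m)^i and the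
group Y[p^m](k̄) is isomorphic to (ℤ/p^m)^j (groups of points written multiplicatively), then i = j:
the p-rank is an isogeny invariant. -/
theorem result (k : Type u) [Field k] (p : ℕ) [Fact p.Prime] [CharP k p]
    (X Y : Over (Spec (CommRingCat.of k)))
    [GrpObj X] [IsCommMonObj X] [IsProper X.hom] [GeometricallyIntegral X.hom]
    [GrpObj Y] [IsCommMonObj Y] [IsProper Y.hom] [GeometricallyIntegral Y.hom]
    (h : X ⟶ Y) [IsMonHom h] [IsFinite h.left] [Surjective h.left]
    (i j : ℕ)
    (hi : ∀ m : ℕ, Nonempty (AbDual.torsPts X (p ^ m)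
      (Over.mk (Spec.map (CommRingCat.ofHom (algebraMap k (AlgebraicClosure k))))) ≃*
      Multiplicative (Fin i → ZMod (p ^ m))))
    (hj : ∀ m : ℕ, Nonempty (AbDual.torsPts Y (p ^ m)
      (Over.mk (Spec.map (CommRingCat.ofHom (algebraMap k (AlgebraicClosure k))))) ≃*
      Multiplicative (Fin j → ZMod (p ^ m)))) :
    i = j := by
  let T : Over (Spec (CommRingCat.of k)) :=
    Over.mk (Spec.map (CommRingCat.ofHom (algebraMap k (AlgebraicClosure k))))
  let F : (T ⟶ X) →* (T ⟶ Y) :=
    { toFun := fun a => a ≫ h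
      map_one' := MonObj.one_comp h
      map_mul' := fun a b => MonObj.mul_comp a b h }
  let K := pullback h η[Y]
  have hK : IsPullback (pullback.fst h η[Y]) (pullback.snd h η[Y]) h η[Y] := IsPullback.of_hasPullback _ _
  haveI : Finite (T ⟶ K) := by
    haveI : IsIso (𝟙_ (Over (Spec (CommRingCat.of k)))).hom := inferInstanceAs (IsIso (𝟙 _))
    haveI : IsFinite K.hom := by
      rw [← Over.w (pullback.snd h η[Y])]
      exact (MorphismProperty.cancel_right_of_respectsIso @IsFinite _
        (𝟙_ (Over (Spec (CommRingCat.of k)))).hom).2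
        (MorphismProperty.of_isPullback (hK.map (Over.forget _)) ‹IsFinite h.left›)
    exact Groth.Agent.AV.FinitePts.finite_points (L := AlgebraicClosure k) K
  haveI : Finite F.ker := by
    have hw : ∀ a : F.ker, a.1 ≫ h = toUnit T ≫ η[Y] := fun a => by rw [← Hom.one_def]; exact a.2
    refine Finite.of_injective (fun a => hK.lift a.1 (toUnit T) (hw a)) fun a b hab => ?_
    have := congrArg (· ≫ pullback.fst h η[Y]) hab
    simp only [hK.lift_fst] at this
    exact Subtype.ext this
  have hp : 1 < p := (Fact.out : p.Prime).one_lt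
  haveI : ∀ m, NeZero (p ^ m) := fun m => ⟨pow_ne_zero _ (Fact.out : p.Prime).ne_zero⟩
  haveI hfX : ∀ m, Finite (torsPts X (p ^ m) T) := fun m =>
    Finite.of_equiv _ (hi m).some.toEquiv.symm
  haveI hfY : ∀ m, Finite (torsPts Y (p ^ m) T) := fun m =>
    Finite.of_equiv _ (hj m).some.toEquiv.symm
  obtain ⟨e, q, hq, hd⟩ : ∃ e q : ℕ, ¬ p ∣ q ∧ Nat.card F.ker = p ^ e * q :=
    Nat.exists_eq_pow_mul_and_not_dvd Nat.card_pos.ne' p (Fact.out : p.Prime).ne_one
  refine le_antisymm ?_ ?_
  · obtain ⟨b, hb⟩ : ∃ b, Nat.card F.ker ≤ p ^ b := ⟨_, (Nat.lt_pow_self hp).le⟩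
    refine Nat.le_of_not_lt fun hlt => ?_
    let G : torsPts X (p ^ (b + 1)) T →* torsPts Y (p ^ (b + 1)) T :=
      { toFun := fun a => ⟨F a.1, by
          rw [mem_torsPts, ← map_pow, (mem_torsPts X a.1).1 a.2, map_one]⟩
        map_one' := Subtype.ext (map_one F)
        map_mul' := fun a b => Subtype.ext (map_mul F a.1 b.1) }
    have h2 : Nat.card G.ker ≤ Nat.card F.ker :=
      Nat.card_le_card_of_injective (fun a => (⟨a.1.1, congrArg Subtype.val a.2⟩ : F.ker))
        fun a b hab => Subtype.ext (Subtype.ext (congrArg (fun x : F.ker => x.1) hab))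
    have h3 : Nat.card G.range ≤ Nat.card (torsPts Y (p ^ (b + 1)) T) :=
      Nat.card_le_card_of_injective _ Subtype.val_injective
    have h4 : Nat.card (torsPts X (p ^ (b + 1)) T) ≤ Nat.card F.ker * Nat.card (torsPts Y (p ^ (b + 1)) T) := by
      rw [← G.ker.card_mul_index, Subgroup.index_ker]
      exact Nat.mul_le_mul h2 h3
    rw [card_of_equiv (hi _), card_of_equiv (hj _)] at h4
    have h5 := h4.trans (Nat.mul_le_mul_right _ hb)
    rw [← pow_add, Nat.pow_le_pow_iff_right hp] at h5
    nlinarith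
  · refine le_of_pow_le (e := e) hp fun m => ?_
    rw [← card_of_equiv (hj m), ← card_of_equiv (hi (m + e))]
    obtain ⟨r, hr1, hr0⟩ := Nat.chineseRemainder
      (Nat.Coprime.pow_left m (((Fact.out : p.Prime).coprime_iff_not_dvd).2 hq)) 1 0
    have hl : ∀ y : torsPts Y (p ^ m) T, ∃ x : torsPts X (p ^ (m + e)) T, F x.1 = y.1 := by
      intro y
      obtain ⟨z, hz⟩ := Groth.Agent.AV.Isogeny.exists_lift_point (K := AlgebraicClosure k) h y.1
      have hy : y.1 ^ (p ^ m) = 1 := (mem_torsPts Y y.1).1 y.2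
      have hzker : z ^ (p ^ m) ∈ F.ker := by rw [MonoidHom.mem_ker, map_pow, show F z = y.1 from hz]; exact hy
      obtain ⟨s, hs⟩ := Nat.modEq_zero_iff_dvd.1 hr0
      refine ⟨⟨z ^ r, ?_⟩, ?_⟩
      · rw [mem_torsPts, ← pow_mul, hs, show q * s * p ^ (m + e) = p ^ m * (p ^ e * q) * s by ring,
          pow_mul, pow_mul, ← hd]
        have h1 : (⟨z ^ (p ^ m), hzker⟩ : F.ker) ^ Nat.card F.ker = 1 := pow_card_eq_one'
        have h2 : (z ^ (p ^ m)) ^ Nat.card F.ker = 1 := congrArg (fun x : F.ker => x.1) h1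
        rw [h2, one_pow]
      · show F (z ^ r) = y.1
        rw [map_pow, show F z = y.1 from hz]
        conv_rhs => rw [← pow_one y.1]
        rw [← Nat.mod_add_div r (p ^ m), pow_add, pow_mul, hy, one_pow, _root_.mul_one, hr1]
        conv_rhs => rw [← Nat.mod_add_div 1 (p ^ m), pow_add, pow_mul, hy, one_pow, _root_.mul_one]
    choose L hL using hl
    exact Nat.card_le_card_of_injective L fun a b hab => Subtype.ext (by rw [← hL a, ← hL b, hab])

end Groth.Agent.S16673
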