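import Groth.Statements.S16674
import Groth.Agent.L01.Unip.TraceIntegral

set_option autoImplicit false
universe u
open CartDual

namespace Groth.Agent.S16674

/-- Let k be a field of characteristic p > 0 and A a finite-dimensional commutative and cocommutative
Hopf algebra over k, the coordinate ring of a finite commutative k-group scheme G, with Cartier dual
the convolution Hopf algebra Hom_k(A, k). Then G is étale-étale, i.e. both A and its dual are étale
k-algebras, if and only if p does not divide the rank dim_k A of G. -/
theorem result (k : Type u) [Field k] (p : ℕ) [Fact p.Prime] [CharP k p]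
    (A : Type u) [CommRing A] [HopfAlgebra k A] [Coalgebra.IsCocomm k A] [FiniteDimensional k A] :
    (Algebra.Etale k A ∧ Algebra.Etale k (CartDual.D k A)) ↔ ¬ p ∣ Module.finrank k A := by
  constructor
  · rintro ⟨hA, hD⟩ hp
    haveI := hD
    haveI : IsReduced (CartDual.D k A) := Algebra.FormallyUnramified.isReduced_of_field k (CartDual.D k A)
    exact Groth.L01.TraceIntegral.finrank_ne_zero k A hA ((CharP.cast_eq_zero_iff k p _).2 hp)
  · intro hp
    have hn : (Module.finrank k A : k) ≠ 0 := fun h => hp ((CharP.cast_eq_zero_iff k p _).1 h)
    refine ⟨Groth.L01.TraceIntegral.etale_of_finrank_ne_zero k A hn,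
      Groth.L01.TraceIntegral.etale_of_finrank_ne_zero k (CartDual.D k A) ?_⟩
    rw [(CartDual.toDual k A).finrank_eq, Subspace.dual_finrank_eq]
    exact hn


end Groth.Agent.S16674
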