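import Groth.Statements.S16677
import Groth.Agent.L26.AV.Subgroup
import Groth.Agent.L26.AV.PointClosure
import Groth.Agent.L26.AV.MulPInfinitesimal
import Groth.Agent.L08.MulEtaleBC
import Mathlib.RingTheory.Filtration

set_option autoImplicit false
universe u
open CategoryTheory CategoryTheory.Limits MonoidalCategory CartesianMonoidalCategory MonObj GrpObj AlgebraicGeometry
open AbVar

namespace Groth.Agent.S16677

set_option linter.style.haveILetI false
set_option backward.isDefEq.respectTransparency.types false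
open CategoryTheory CategoryTheory.Limits MonoidalCategory CartesianMonoidalCategory MonObj AlgebraicGeometry

variable {k : Type u} [Field k] {X : Over (Spec (CommRingCat.of k))} [GrpObj X]

/-- A point killed by `n` factors through whatever the kernel of `n` factors through. -/
theorem exists_factor {T : Over (Spec (CommRingCat.of k))} (v : T ⟶ X) {n : ℕ} (hv : v ^ n = 1)
    {Z : Scheme.{u}} (c : Z ⟶ X.left)
    (hc : ∃ t : pullback η[X].left ((𝟙 X ^ n).left) ⟶ Z, t ≫ c = pullback.snd η[X].left ((𝟙 X ^ n).left)) :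
    ∃ z : T.left ⟶ Z, z ≫ c = v.left := by
  obtain ⟨t, ht⟩ := hc
  have h : (toUnit T).left ≫ η[X].left = v.left ≫ (𝟙 X ^ n).left := by
    rw [← Over.comp_left, ← Over.comp_left, MonObj.comp_pow, Category.comp_id, hv, Hom.one_def]
  exact ⟨pullback.lift (toUnit T).left v.left h ≫ t, by rw [Category.assoc, ht, pullback.lift_snd]⟩

theorem surjective_of_ne_zero [IsProper X.hom] [GeometricallyIntegral X.hom] {p : ℕ} (hp : p.Prime)
    (hpk : (p : k) ≠ 0) (Z : Scheme.{u}) (c : Z ⟶ X.left) [IsClosedImmersion c]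
    (hc : ∀ m : ℕ, 0 < m →
      ∃ t : pullback η[X].left ((𝟙 X ^ (p ^ m)).left) ⟶ Z,
        t ≫ c = pullback.snd η[X].left ((𝟙 X ^ (p ^ m)).left)) :
    Surjective c := by
  haveI : Fact p.Prime := ⟨hp⟩
  let K := AlgebraicClosure k
  let t := Spec.map (CommRingCat.ofHom (algebraMap k K))
  let F := Over.pullback t
  let A' := F.obj X
  haveI : IsCommMonObj X := isCommMonObj_of_isProper_of_geometricallyIntegral X
  letI : GrpObj A' := Functor.grpObjObj
  haveI : IsCommMonObj A' := inferInstanceAs (IsCommMonObj ((Over.pullback t).obj X))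
  haveI : IsProper A'.hom := inferInstanceAs (IsProper (pullback.snd X.hom t))
  haveI : GeometricallyIntegral A'.hom := inferInstanceAs (GeometricallyIntegral (pullback.snd X.hom t))
  let Hs : Subgroup (𝟙_ (Over (Spec (CommRingCat.of K))) ⟶ A') :=
    { carrier := {a | ∃ n, a ^ p ^ n = 1}
      one_mem' := ⟨0, one_pow _⟩
      mul_mem' := fun {a b} ⟨n, hn⟩ ⟨m, hm⟩ => ⟨n + m, by
        rw [mul_pow, pow_add, pow_mul, hn, one_pow, _root_.one_mul, Nat.mul_comm, pow_mul, hm, one_pow]⟩
      inv_mem' := fun {a} ⟨n, hn⟩ => ⟨n, by rw [inv_pow, hn, inv_one]⟩ }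
  obtain ⟨Ks, gK, i, hi, hic, hir, hlift⟩ := Groth.Agent.AV.PointClosure.exists_closureSubgroup Hs
  letI := gK
  have hpK : (p : K) ≠ 0 := by
    rw [← map_natCast (algebraMap k K)]
    exact (map_ne_zero _).2 hpk
  haveI : IsIso i := Groth.Agent.AV.Subgroup.isIso_of_torsion_factors i hpK fun n a ha => hlift a ⟨n, ha⟩
  have hdense : closure {x | ∃ h ∈ Hs, x = Groth.L08.Cube.kpt h} = Set.univ := by
    haveI : IsIso i.left := inferInstanceAs (IsIso ((Over.forget _).map i))
    rw [← hir]
    exact i.left.surjective.range_eq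
  let f := pullback.fst X.hom t
  have himg : ∀ h ∈ Hs, f (Groth.L08.Cube.kpt h) ∈ Set.range c := by
    rintro a ⟨n, hn⟩
    have hn' : a ^ p ^ (n + 1) = 1 := by rw [pow_succ, pow_mul, hn, one_pow]
    let T : Over (Spec (CommRingCat.of k)) := (Over.map t).obj (𝟙_ (Over (Spec (CommRingCat.of K))))
    let P : T ⟶ X := ((Over.mapPullbackAdj t).homEquiv _ _).symm a
    have hP : P ^ p ^ (n + 1) = 1 := by
      apply ((Over.mapPullbackAdj t).homEquiv (𝟙_ _) X).injective
      have e : ∀ u : T ⟶ X, ((Over.mapPullbackAdj t).homEquiv (𝟙_ _) X) u =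
          (Over.mapPullbackAdj t).unit.app (𝟙_ _) ≫ F.map u := fun u => Adjunction.homEquiv_unit ..
      have e1 : (Over.mapPullbackAdj t).unit.app (𝟙_ _) ≫ F.map P = a := by
        rw [← e]; exact ((Over.mapPullbackAdj t).homEquiv _ X).apply_symm_apply a
      refine (e _).trans (Eq.trans ?_ (e _).symm)
      show _ ≫ F.homMonoidHom (P ^ p ^ (n + 1)) = _ ≫ F.homMonoidHom 1
      rw [map_pow, map_one, MonObj.comp_pow, MonObj.comp_one]
      exact (congrArg (· ^ (p ^ (n + 1))) e1).trans hn'
    obtain ⟨z, hz⟩ := exists_factor P hP c (hc (n + 1) (by omega))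
    refine ⟨z (IsLocalRing.closedPoint K), ?_⟩
    rw [← Scheme.Hom.comp_apply, hz]
    have : P.left = a.left ≫ f := by
      simp [P, f, Adjunction.homEquiv_counit, Over.mapPullbackAdj_counit_app]
    rw [this]
    rfl
  refine ⟨fun x => ?_⟩
  haveI : Surjective t := ⟨fun x => ⟨IsLocalRing.closedPoint K, Subsingleton.elim (α := PrimeSpectrum k) _ _⟩⟩
  obtain ⟨y, rfl⟩ := (inferInstance : Surjective f).surj x
  have hy : y ∈ closure {x | ∃ h ∈ Hs, x = Groth.L08.Cube.kpt h} := hdense.ge trivial
  have h1 := Set.MapsTo.closure (show Set.MapsTo f {x | ∃ h ∈ Hs, x = Groth.L08.Cube.kpt h} (Set.range c) from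
    fun x ⟨h, hh, hx⟩ => hx ▸ himg h hh) f.continuous hy
  rwa [c.isClosedEmbedding.isClosed_range.closure_eq] at h1

open Groth.L25.GrpDeriv in
theorem surjective_of_eq_zero [IsProper X.hom] [GeometricallyIntegral X.hom] {p : ℕ}
    (hpk : (p : k) = 0) (Z : Scheme.{u}) (c : Z ⟶ X.left) [IsClosedImmersion c]
    (hc : ∀ m : ℕ, 0 < m →
      ∃ t : pullback η[X].left ((𝟙 X ^ (p ^ m)).left) ⟶ Z,
        t ≫ c = pullback.snd η[X].left ((𝟙 X ^ (p ^ m)).left)) :
    Surjective c := by
  haveI : IsIntegral X.left := GeometricallyIntegral.isIntegral_of_subsingleton X.hom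
  obtain ⟨B, _, _, uB, _, χB, hχB, -⟩ := Groth.L08.MulEtale.exists_chart (G := X) ⊤ trivial
  haveI : Nonempty (Spec (CommRingCat.of B)) := ⟨(spMap χB).left (IsLocalRing.closedPoint k)⟩
  let jB : Spec (CommRingCat.of B) ⟶ X.left := uB.left
  haveI : IsOpenImmersion jB := ‹IsOpenImmersion uB.left›
  haveI : IsIntegral (Spec (CommRingCat.of B)) := isIntegral_of_isOpenImmersion jB
  haveI : IsDomain B := (affine_isIntegral_iff (CommRingCat.of B)).1 inferInstance
  haveI : LocallyOfFiniteType (Spec.map (CommRingCat.ofHom (algebraMap k B))) := by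
    rw [show Spec.map (CommRingCat.ofHom (algebraMap k B)) = jB ≫ X.hom from (Over.w uB).symm]
    infer_instance
  haveI : Algebra.FiniteType k B := RingHom.finiteType_algebraMap.1
    ((HasRingHomProperty.Spec_iff (P := @LocallyOfFiniteType) (φ := CommRingCat.ofHom (algebraMap k B))).1 inferInstance)
  haveI : IsNoetherianRing B := Algebra.FiniteType.isNoetherianRing k B
  let W := pullback c jB
  let g : W ⟶ Spec (CommRingCat.of B) := pullback.snd c jB
  obtain ⟨I, e, he⟩ := IsClosedImmersion.Spec_iff.1 (inferInstance : IsClosedImmersion g)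
  let P : Ideal B := RingHom.ker χB
  have hker : ∀ N : ℕ, I ≤ P ^ N := by
    intro N
    let q : B →ₐ[k] B ⧸ P ^ N := Ideal.Quotient.mkₐ k (P ^ N)
    let v : sp (K := k) (B ⧸ P ^ N) ⟶ X := spMap q ≫ uB
    let J : Ideal (B ⧸ P ^ N) := P.map q.toRingHom
    have hv : spMap (Ideal.Quotient.mkₐ k J) ≫ v = 1 := by
      rw [← Category.assoc, spMap_comp, show (Ideal.Quotient.mkₐ k J).comp q =
          (Algebra.ofId k _).comp χB from AlgHom.ext fun b => ?_, ← spMap_comp, Category.assoc, hχB,
        MonObj.comp_one]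
      have hb : b - algebraMap k B (χB b) ∈ P := by simp [P, RingHom.mem_ker]
      have h1 : Ideal.Quotient.mk J (q (b - algebraMap k B (χB b))) = 0 :=
        Ideal.Quotient.eq_zero_iff_mem.2 (Ideal.mem_map_of_mem _ hb)
      rw [map_sub, AlgHom.commutes, map_sub, Ideal.Quotient.mk_algebraMap, sub_eq_zero] at h1
      exact h1
    have hJ : J ^ 2 ^ (N + 1) = ⊥ := by
      refine le_bot_iff.1 ((Ideal.pow_le_pow_right (show N ≤ 2 ^ (N + 1) by
        have := Nat.lt_two_pow_self (n := N + 1); omega)).trans ?_)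
      show P.map q.toRingHom ^ N ≤ ⊥
      rw [← Ideal.map_pow]
      exact Ideal.map_le_iff_le_comap.2 fun x hx => Ideal.Quotient.eq_zero_iff_mem.2 hx
    have hv2 : v ^ p ^ (N + 1) = 1 := by
      have h1 := Groth.Agent.AV.MulPInfinitesimal.pow_pow_eq_one hpk J v hv (N + 1)
      let e : (B ⧸ P ^ N) ⧸ J ^ 2 ^ (N + 1) →ₐ[k] B ⧸ P ^ N :=
        Ideal.Quotient.liftₐ _ (AlgHom.id k _) fun a ha => by
          rw [hJ] at ha; exact ha
      have h2 := congrArg (spMap e ≫ ·) h1
      simp only [← Category.assoc, spMap_comp, MonObj.comp_one] at h2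
      rw [show e.comp (Ideal.Quotient.mkₐ k (J ^ 2 ^ (N + 1))) = AlgHom.id k _ from AlgHom.ext fun _ => rfl,
        spMap_id, Category.id_comp] at h2
      exact h2
    obtain ⟨z, hz⟩ := exists_factor v hv2 c (hc (N + 1) (by omega))
    let l : Spec (CommRingCat.of (B ⧸ P ^ N)) ⟶ W :=
      pullback.lift z (Spec.map (CommRingCat.ofHom q.toRingHom)) hz
    have hfac : CommRingCat.ofHom (Ideal.Quotient.mk I) ≫ Spec.preimage (l ≫ e.hom) = CommRingCat.ofHom q.toRingHom := by
      apply Spec.map_injective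
      refine (Spec.map_comp _ _).trans ?_
      rw [Spec.map_preimage, Category.assoc]
      refine (congrArg (l ≫ ·) he.symm).trans ?_
      exact pullback.lift_snd _ _ _
    intro b hb
    have h3 := ConcreteCategory.congr_hom hfac b
    change (Spec.preimage (l ≫ e.hom)).hom (Ideal.Quotient.mk I b) = q b at h3
    rw [Ideal.Quotient.eq_zero_iff_mem.2 hb, map_zero] at h3
    exact Ideal.Quotient.eq_zero_iff_mem.1 h3.symm
  have hPne : P ≠ ⊤ := RingHom.ker_ne_top _
  have hI : I = ⊥ := by
    rw [← le_bot_iff, ← Ideal.iInf_pow_eq_bot_of_isDomain P hPne]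
    exact le_iInf hker
  have hg : Function.Surjective g := by
    rw [he]
    intro y
    obtain ⟨z, hz⟩ := (show y ∈ Set.range (PrimeSpectrum.comap (Ideal.Quotient.mk I)) by
      rw [range_comap_of_surjective _ _ Ideal.Quotient.mk_surjective, Ideal.mk_ker, hI]
      exact fun _ h => (Submodule.mem_bot _).1 h ▸ (y : PrimeSpectrum B).asIdeal.zero_mem)
    exact ⟨e.inv z, by rw [← Scheme.Hom.comp_apply, Iso.inv_hom_id_assoc]; exact hz⟩
  have hsub : Set.range jB ⊆ Set.range c := by
    rintro _ ⟨y, rfl⟩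
    obtain ⟨w, rfl⟩ := hg y
    refine ⟨pullback.fst c jB w, ?_⟩
    rw [← Scheme.Hom.comp_apply, pullback.condition]
    rfl
  refine ⟨fun x => ?_⟩
  have hd : Dense (Set.range jB) := jB.isOpenEmbedding.isOpen_range.dense
    ⟨_, Groth.L08.MulEtale.one_mem_range uB χB hχB⟩
  have h2 : closure (Set.range jB) ⊆ Set.range c :=
    closure_minimal hsub c.isClosedEmbedding.isClosed_range
  exact h2 (hd x)

/-- Let X be an abelian variety over a field k (a proper, geometrically integral k-group scheme) and p a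
prime number, not necessarily different from the characteristic of k. For m ≥ 1 let X[p^m] → X be
the kernel of multiplication by p^m (the p^m-th power of the identity in the group of endomorphisms
of X), realised as the fibre product of the unit section with that endomorphism. Then the family of
closed subgroup schemes X[p^m], m ≥ 1, is scheme-theoretically dense in X: if c : Z → X is a closed
immersion through which every inclusion X[p^m] → X factors, then c is an isomorphism. -/
theorem result (k : Type u) [Field k]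
    (X : Over (Spec (CommRingCat.of k))) [GrpObj X] [IsProper X.hom] [GeometricallyIntegral X.hom]
    (p : ℕ) (hp : p.Prime) (Z : Scheme.{u}) (c : Z ⟶ X.left) [IsClosedImmersion c]
    (hc : ∀ m : ℕ, 0 < m →
      ∃ t : pullback η[X].left ((𝟙 X ^ (p ^ m)).left) ⟶ Z,
        t ≫ c = pullback.snd η[X].left ((𝟙 X ^ (p ^ m)).left)) :
    IsIso c := by
  haveI : IsIntegral X.left := GeometricallyIntegral.isIntegral_of_subsingleton X.hom
  haveI : Surjective c := by
    by_cases hpk : (p : k) = 0
    · exact surjective_of_eq_zero hpk Z c hc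
    · exact surjective_of_ne_zero hp hpk Z c hc
  exact isIso_of_isClosedImmersion_of_surjective c

end Groth.Agent.S16677
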