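import Groth.Statements.S16678
import Groth.Agent.L06.Pi0.Comp
import Groth.Agent.S2277
import Mathlib.AlgebraicGeometry.Limits
import Mathlib.AlgebraicGeometry.Noetherian

set_option linter.style.haveILetI false
set_option backward.isDefEq.respectTransparency false

set_option autoImplicit false
set_option maxSynthPendingDepth 3
set_option linter.style.haveILetI false
universe u
open CategoryTheory CategoryTheory.Limits AlgebraicGeometry
open Variety

namespace Groth.Agent.S16678

/-- For a field k and a k-scheme X locally of finite type there are an étale k-scheme P and a k-morphism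
q : X → P such that every k-morphism h : X → Y to an étale k-scheme Y equals t ∘ q for exactly one
k-morphism t : P → Y; moreover q is flat and surjective, and for each point x of X the fibre
q⁻¹(q(x)), as a subset of X, is the connected component of x. (Étale means locally of finite
presentation with étale ring maps on affine pieces; no quasi-compactness is asked, so P may have
infinitely many points.) -/
theorem result (k : Type u) [Field k]
    (X : Scheme.{u}) (f : X ⟶ Spec (CommRingCat.of k)) [LocallyOfFiniteType f] :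
    ∃ (P : Scheme.{u}) (g : P ⟶ Spec (CommRingCat.of k)) (q : X ⟶ P), Etale g ∧ q ≫ g = f ∧
      (∀ (Y : Scheme.{u}) (gY : Y ⟶ Spec (CommRingCat.of k)) (h : X ⟶ Y), Etale gY → h ≫ gY = f →
        ∃! t : P ⟶ Y, t ≫ gY = g ∧ q ≫ t = h) ∧
      Flat q ∧ Surjective q ∧
      ∀ x : ↥X, (fun x' : ↥X => q x') ⁻¹' {q x} = connectedComponent x := by
  classical
  haveI : IsLocallyNoetherian X := LocallyOfFiniteType.isLocallyNoetherian f
  haveI : LocallyConnectedSpace X := by
    refine Groth.Agent.S2277.result X fun x => ?_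
    obtain ⟨W, hW, hxW, -⟩ := exists_isAffineOpen_mem_and_subset (TopologicalSpace.Opens.mem_top x)
    haveI : IsNoetherianRing Γ(X, W) := IsLocallyNoetherian.component_noetherian ⟨W, hW⟩
    refine ⟨W, W.2.mem_nhds hxW, ?_⟩
    haveI : TopologicalSpace.NoetherianSpace (Spec Γ(X, W)) :=
      inferInstanceAs (TopologicalSpace.NoetherianSpace (PrimeSpectrum Γ(X, W)))
    exact hW.isoSpec.hom.homeomorph.isInducing.noetherianSpace
  let U : _root_.ConnectedComponents X → X.Opens := fun c =>
    ⟨_root_.ConnectedComponents.mk ⁻¹' {c}, by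
      obtain ⟨x, rfl⟩ := _root_.ConnectedComponents.surjective_coe c
      rw [connectedComponents_preimage_singleton]
      exact isOpen_connectedComponent⟩
  haveI hconn : ∀ c, ConnectedSpace (U c) := fun c => by
    obtain ⟨x, rfl⟩ := _root_.ConnectedComponents.surjective_coe c
    refine Subtype.connectedSpace (s := (_root_.ConnectedComponents.mk ⁻¹' {_}) ) ?_
    rw [connectedComponents_preimage_singleton]
    exact isConnected_connectedComponent
  choose P g q hg hqg hflat hsurj hsub huniv using fun c =>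
    Groth.L06.Pi0.exists_component_etale k (U c) ((U c).ι ≫ f)
  let π : ∐ (fun c => (U c).toScheme) ⟶ X := Sigma.desc fun c => (U c).ι
  obtain ⟨hcol⟩ := nonempty_isColimit_cofanMk_of (S := X) (fun c => (U c).ι)
    (eq_top_iff.2 fun x _ => TopologicalSpace.Opens.mem_iSup.2
      ⟨_root_.ConnectedComponents.mk x, by rw [Scheme.Opens.opensRange_ι]; rfl⟩)
    (fun a b hab => by
      show Disjoint (U a).ι.opensRange (U b).ι.opensRange
      rw [Scheme.Opens.opensRange_ι, Scheme.Opens.opensRange_ι]
      intro W hWa hWb x hx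
      exact hab ((hWa hx).symm.trans (hWb hx)))
  haveI : IsIso π := (Cofan.nonempty_isColimit_iff_isIso_sigmaDesc
    (Cofan.mk X fun c => (U c).ι)).1 ⟨hcol⟩
  let ψ : X ⟶ ∐ P := inv π ≫ Limits.Sigma.map q
  have hι : ∀ c, (U c).ι ≫ ψ = q c ≫ Sigma.ι P c := by
    intro c
    have e : Sigma.ι (fun c => (U c).toScheme) c ≫ π = (U c).ι := Sigma.ι_desc _ _
    rw [← e, Category.assoc]
    show Sigma.ι (fun c => (U c).toScheme) c ≫ π ≫ inv π ≫ Limits.Sigma.map q = q c ≫ Sigma.ι P c
    rw [IsIso.hom_inv_id_assoc, Sigma.ι_map]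
  have hext : ∀ {Z : Scheme.{u}} (a b : X ⟶ Z), (∀ c, (U c).ι ≫ a = (U c).ι ≫ b) → a = b :=
    fun a b e => Cofan.IsColimit.hom_ext hcol _ _ e
  have hψf : ψ ≫ Sigma.desc g = f := hext _ _ fun c => by
    rw [← Category.assoc, hι c, Category.assoc, Sigma.ι_desc, hqg c]
  haveI : Flat ψ := by
    haveI : ∀ c, Flat (q c) := hflat
    haveI : Flat (Limits.Sigma.map q) := by
      have e : Limits.Sigma.map q = Sigma.desc fun c => q c ≫ Sigma.ι P c := Limits.Sigma.hom_ext _ _ fun c => by simp
      rw [e]
      infer_instance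
    infer_instance
  have hfib : ∀ x : X, ψ x = Sigma.ι P (_root_.ConnectedComponents.mk x)
      (q (_root_.ConnectedComponents.mk x) ⟨x, rfl⟩) := by
    intro x
    exact congrArg (fun m : (U (_root_.ConnectedComponents.mk x)).toScheme ⟶ ∐ P => m ⟨x, rfl⟩)
      (hι (_root_.ConnectedComponents.mk x))
  haveI : Surjective ψ := by
    refine ⟨fun p => ?_⟩
    obtain ⟨⟨c, y⟩, rfl⟩ := (sigmaMk P).surjective p
    obtain ⟨u, hu⟩ := (hsurj c).surj y
    refine ⟨(U c).ι u, ?_⟩
    rw [sigmaMk_mk, ← hu]
    exact congrArg (fun m : (U c).toScheme ⟶ ∐ P => m u) (hι c)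
  have het : Etale (Sigma.desc g) := by
    exact IsZariskiLocalAtSource.sigmaDesc hg
  refine ⟨∐ P, Sigma.desc g, ψ, het, hψf, ?_, inferInstance,
    inferInstance, ?_⟩
  · intro Y gY h hY hh
    have hc : ∀ c, ∃ t : P c ⟶ Y, t ≫ gY = g c ∧ q c ≫ t = (U c).ι ≫ h := fun c =>
      huniv c Y gY ((U c).ι ≫ h) hY (by rw [Category.assoc, hh])
    choose t ht htq using hc
    haveI : Epi ψ := Flat.epi_of_flat_of_surjective ψ
    refine ⟨Sigma.desc t, ⟨?_, ?_⟩, fun t' ht' => ?_⟩
    · refine Limits.Sigma.hom_ext _ _ fun c => ?_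
      rw [Sigma.ι_desc_assoc, Sigma.ι_desc, ht c]
    · refine hext _ _ fun c => ?_
      rw [← Category.assoc, hι c, Category.assoc, Sigma.ι_desc, htq c]
    · rw [← cancel_epi ψ, ht'.2]
      refine hext _ _ fun c => ?_
      rw [← Category.assoc (U c).ι ψ, hι c, Category.assoc, Sigma.ι_desc, htq c]
  · intro x
    ext x'
    show ψ x' = ψ x ↔ x' ∈ connectedComponent x
    rw [← _root_.ConnectedComponents.coe_eq_coe']
    constructor
    · intro e
      by_contra hne
      have hd := disjoint_opensRange_sigmaι P _ _ hne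
      exact (TopologicalSpace.Opens.ext_iff.mp (disjoint_iff.mp hd) ▸
        (⟨⟨_, (hfib x').symm⟩, ⟨_, (hfib x).symm.trans e.symm⟩⟩ :
          ψ x' ∈ ((Sigma.ι P (_root_.ConnectedComponents.mk x')).opensRange ⊓
            (Sigma.ι P (_root_.ConnectedComponents.mk x)).opensRange : (∐ P).Opens)) :
        ψ x' ∈ ((⊥ : (∐ P).Opens) : Set _)).elim
    · intro e
      rw [hfib x', hfib x]
      have key : ∀ (a b : _root_.ConnectedComponents X) (u : U a) (v : U b), a = b →
          Sigma.ι P a (q a u) = Sigma.ι P b (q b v) := by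
        rintro a b u v rfl
        exact congrArg _ (@Subsingleton.elim _ (hsub a) _ _)
      exact key _ _ _ _ e

end Groth.Agent.S16678
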