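import Groth.Statements.S16679
import Groth.Agent.L08.Albanese.AbSub
import Groth.Agent.L08.FibreTranslate
import Groth.Agent.L19.AlgGrpBasic.Points
import Groth.Agent.L23.SourceRegular

set_option autoImplicit false
set_option backward.isDefEq.respectTransparency.types false
set_option linter.style.haveILetI false
universe u
open CategoryTheory CategoryTheory.Limits MonoidalCategory CartesianMonoidalCategory MonObj GrpObj AlgebraicGeometry
open AbVar

namespace Groth.Agent.S16679

theorem basicOpen_trivial {k : Type u} [Field k] {Z : Scheme.{u}} [IsReduced Z] [ConnectedSpace Z]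
    (p : Z ⟶ Spec (CommRingCat.of k)) [UniversallyClosed p] (f : Γ(Z, ⊤)) :
    Z.basicOpen f = ⊥ ∨ Z.basicOpen f = ⊤ := by
  have hK : IsField Γ(Spec (CommRingCat.of k), ⊤) := MulEquiv.isField (Field.toIsField k)
    (Scheme.ΓSpecIso (CommRingCat.of k)).commRingCatIsoToRingEquiv.toMulEquiv
  let K₀ := Γ(Spec (CommRingCat.of k), ⊤)
  letI : Field K₀ := hK.toField
  let R := Γ(Z, ⊤)
  letI : Algebra K₀ R := p.appTop.hom.toAlgebra
  haveI : Algebra.IsIntegral K₀ R := ⟨fun r => isIntegral_appTop_of_universallyClosed p r⟩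
  let S := Algebra.adjoin K₀ ({f} : Set R)
  haveI : Module.Finite K₀ S :=
    ⟨(Submodule.fg_top _).2 (Algebra.IsIntegral.isIntegral (R := K₀) f).fg_adjoin_singleton⟩
  haveI : IsArtinianRing S := IsArtinianRing.of_finite K₀ S
  let fS : S := ⟨f, Algebra.subset_adjoin rfl⟩
  obtain ⟨n, c, hc⟩ := IsArtinian.exists_pow_succ_smul_dvd fS (1 : S)
  have hc' : f ^ n.succ * (c : R) = f ^ n := by
    have := congrArg (fun s : S => (s : R)) hc
    simpa [fS] using this
  have h1 : f * (1 - f * c) = 0 := by
    refine IsReduced.eq_zero _ ⟨n + 1, ?_⟩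
    have h2 : f ^ n * (1 - f * c) = 0 := by
      rw [mul_sub, _root_.mul_one, ← _root_.mul_assoc, ← pow_succ, hc', sub_self]
    rw [mul_pow, pow_succ f n, pow_succ' (1 - f * (c : R)) n]
    linear_combination (f * (1 - f * (c : R)) ^ n) * h2
  have he : (f * c) * (f * c) = f * c := by linear_combination (-(c : R)) * h1
  rcases Groth.L08.FibreTranslate.idempotent_trivial he with h | h
  · left
    have : f = 0 := by linear_combination h1 + f * h
    rw [this, Scheme.basicOpen_zero]
  · exact Or.inr (Scheme.basicOpen_of_isUnit _ (IsUnit.of_mul_eq_one _ h))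

theorem exists_antiaffine {k : Type u} [Field k] (Y : Over (Spec (CommRingCat.of k))) [GrpObj Y]
    [IsProper Y.hom] [ConnectedSpace Y.left] {Yr : Scheme.{u}} (j : Yr ⟶ Y.left) [IsClosedImmersion j]
    [Surjective j] [IsReduced Yr] :
    ∃ (C : Over (Spec (CommRingCat.of k))) (_ : GrpObj C) (i : C ⟶ Y), IsMonHom i ∧ IsClosedImmersion i.left ∧
      Surjective i.left ∧ IsReduced C.left ∧ GeometricallyIntegral C.hom := by
  haveI : ConnectedSpace Yr :=
    (IsHomeomorph.homeomorph j (isHomeomorph_iff_isEmbedding_surjective.2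
      ⟨j.isEmbedding, j.surjective⟩)).symm.surjective.connectedSpace
      (IsHomeomorph.homeomorph j (isHomeomorph_iff_isEmbedding_surjective.2
        ⟨j.isEmbedding, j.surjective⟩)).symm.continuous
  have hb : ∀ f : Γ(Y.left, ⊤), Y.left.basicOpen f = ⊥ ∨ Y.left.basicOpen f = ⊤ := by
    intro f
    rcases basicOpen_trivial (j ≫ Y.hom) (j.appTop f) with h | h
    · refine Or.inl (TopologicalSpace.Opens.ext (Set.eq_empty_of_forall_notMem fun y hy => ?_))
      obtain ⟨z, rfl⟩ := j.surjective y
      have e : j ⁻¹ᵁ Y.left.basicOpen f = Yr.basicOpen (j.appTop f) := Scheme.preimage_basicOpen j f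
      exact (SetLike.ext_iff.1 (e.trans h) z).1 hy
    · refine Or.inr (TopologicalSpace.Opens.ext (Set.eq_univ_of_forall fun y => ?_))
      obtain ⟨z, rfl⟩ := j.surjective y
      have e : j ⁻¹ᵁ Y.left.basicOpen f = Yr.basicOpen (j.appTop f) := Scheme.preimage_basicOpen j f
      exact (SetLike.ext_iff.1 (e.trans h) z).2 trivial
  have hpt : ∀ y y' : Y.left, Y.left.toSpecΓ y = Y.left.toSpecΓ y' := by
    intro y y'
    apply PrimeSpectrum.ext
    ext f
    rw [iff_comm, ← not_iff_not]
    show Y.left.toSpecΓ y' ∈ PrimeSpectrum.basicOpen f ↔ Y.left.toSpecΓ y ∈ PrimeSpectrum.basicOpen f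
    show y' ∈ Y.left.toSpecΓ ⁻¹ᵁ PrimeSpectrum.basicOpen f ↔ y ∈ Y.left.toSpecΓ ⁻¹ᵁ PrimeSpectrum.basicOpen f
    rw [Scheme.toSpecΓ_preimage_basicOpen]
    rcases hb f with h | h <;> simp [h]
  haveI := Groth.L08.AffHull.compactSpace (G := Y)
  haveI := Groth.L08.AffHull.quasiSeparatedSpace (G := Y)
  obtain ⟨C, gC, i, _, _, -, sq⟩ := Groth.L08.AbelianGrp.exists_kernel (Groth.L08.AffHull.rho Y)
  haveI : IsProper C.hom := by rw [← Over.w i]; infer_instance
  have hO := Groth.L08.AffHull.isIso_appTop_kernel i sq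
  haveI : Smooth C.hom := Groth.L08.AffHull.smooth_of_antiAffine C hO
  haveI : ConnectedSpace C.left := Groth.L08.AffHull.connectedSpace_of_antiAffine C hO
  haveI := Groth.Agent.AV.geometricallyReduced_of_smooth C.hom
  refine ⟨C, gC, i, inferInstance, inferInstance, ⟨fun y => ?_⟩, Groth.L23.isReduced_of_smooth C.hom,
    Groth.Agent.AV.geometricallyIntegral_of_connected C⟩
  let o : ↥(𝟙_ (Over (Spec (CommRingCat.of k)))).left := IsLocalRing.closedPoint k
  have h : (Groth.L08.AffHull.rho Y).left y = (η[Groth.L08.AffHull.hull Y] : 𝟙_ _ ⟶ _).left o := by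
    rw [← IsMonHom.one_hom (Groth.L08.AffHull.rho Y)]
    exact hpt y _
  have hp := sq.map (Over.forget _)
  obtain ⟨w, hw, -⟩ := Scheme.Pullback.exists_preimage_pullback
    (f := (Groth.L08.AffHull.rho Y).left) (g := (η[Groth.L08.AffHull.hull Y] : 𝟙_ _ ⟶ _).left) y o h
  exact ⟨hp.isoPullback.inv w, (congr(($(hp.isoPullback_inv_fst)) w)).trans hw⟩

/-- Let X be an abelian variety over an arbitrary field k (a proper, geometrically integral k-group
scheme), let i : Y → X be a closed subgroup scheme (a homomorphism of k-group schemes which is a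
closed immersion) whose underlying space is connected, and let j : Y_red → Y be the reduced closed
subscheme with the same underlying space (a closed immersion from a reduced scheme which is
surjective). Then Y_red is geometrically integral over k, and there is a k-group scheme structure on
Y_red for which j is a homomorphism: Y_red is an abelian subvariety of X. (For a closed subgroup
scheme which is not connected the reduced subscheme need not be geometrically reduced; the statement
concerns the identity component.) -/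
theorem result (k : Type u) [Field k]
    (X : Over (Spec (CommRingCat.of k))) [GrpObj X] [IsProper X.hom] [GeometricallyIntegral X.hom]
    (Y : Over (Spec (CommRingCat.of k))) [GrpObj Y] (i : Y ⟶ X) [IsMonHom i] [IsClosedImmersion i.left]
    [ConnectedSpace ↥Y.left]
    (Yr : Scheme.{u}) (j : Yr ⟶ Y.left) [IsClosedImmersion j] [Surjective j] [IsReduced Yr] :
    GeometricallyIntegral (j ≫ Y.hom) ∧
      ∃ _ : GrpObj (Over.mk (j ≫ Y.hom)), IsMonHom (Over.homMk j rfl : Over.mk (j ≫ Y.hom) ⟶ Y) := by
  haveI : IsProper Y.hom := by rw [← Over.w i]; infer_instance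
  obtain ⟨C, gC, c, _, _, _, _, _⟩ := exists_antiaffine Y j
  let T := Over.mk (j ≫ Y.hom)
  let φ : T ⟶ Y := Over.homMk j rfl
  haveI : IsClosedImmersion φ.left := ‹IsClosedImmersion j›
  haveI : IsReduced T.left := ‹IsReduced Yr›
  haveI : Mono φ := Groth.L19.AlgGrpBasic.mono_of_closed φ
  haveI : Mono c := Groth.L19.AlgGrpBasic.mono_of_closed c
  obtain ⟨l, hl⟩ := Groth.L19.AlgGrpBasic.exists_lift_of_range c φ (fun y _ => c.left.surjective y)
  obtain ⟨l', hl'⟩ := Groth.L19.AlgGrpBasic.exists_lift_of_range φ c (fun y _ => j.surjective y)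
  haveI : IsIso l := ⟨l', by rw [← cancel_mono φ, Category.assoc, hl', hl, Category.id_comp],
    by rw [← cancel_mono c, Category.assoc, hl, hl', Category.id_comp]⟩
  refine ⟨?_, ?_⟩
  · haveI : IsIso l.left := inferInstanceAs (IsIso ((Over.forget _).map l))
    show GeometricallyIntegral T.hom
    rw [← Over.w l]
    exact MorphismProperty.RespectsIso.precomp @GeometricallyIntegral l.left C.hom ‹_›
  · exact Groth.L08.exists_grpObj_of_mono φ
      ⟨η[C] ≫ l', by rw [Category.assoc, hl', IsMonHom.one_hom]⟩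
      ⟨((fst T T ≫ l) * (snd T T ≫ l)) ≫ l',
        by rw [Category.assoc, hl', MonObj.mul_comp, Category.assoc, Category.assoc, hl]⟩
      ⟨l⁻¹ ≫ l', by rw [Category.assoc, hl', GrpObj.inv_comp, hl]⟩

end Groth.Agent.S16679
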