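import Groth.Statements.S16682
import Groth.Agent.S14419
import Groth.Agent.L08.Cube.Fibrewise
import Groth.Agent.L08.Cube.Field
import Groth.Agent.L08.Cube.ThreeMaps
import Groth.Agent.L18.GenLocus

set_option autoImplicit false
universe u
open CategoryTheory CategoryTheory.Limits MonoidalCategory CartesianMonoidalCategory AlgebraicGeometry
open AbVar

namespace Groth.Agent.S16682

set_option backward.isDefEq.respectTransparency false
open Groth.L08.Cube
attribute [local instance] Groth.L08.Cube.clMonoid

/-- Let k be a field, X a proper geometrically integral k-scheme (a complete variety), Y a variety over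
k (separated, of finite type, geometrically integral), and L, M two invertible modules on X ×_k Y
(the product in the category of k-schemes). If for every closed point y of Y the restrictions of L
and M to the fibre X ×_k Spec k(y) are isomorphic, then there is an invertible O_Y-module N with L
isomorphic to M ⊗ p^*N, where p : X ×_k Y → Y is the second projection (existence of an isomorphism;
N is determined only up to isomorphism). -/
theorem result (k : Type u) [Field k]
    (X Y : Over (Spec (CommRingCat.of k)))
    [IsProper X.hom] [GeometricallyIntegral X.hom]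
    [IsSeparated Y.hom] [QuasiCompact Y.hom] [LocallyOfFiniteType Y.hom] [GeometricallyIntegral Y.hom]
    (L M : (X ⊗ Y).left.Modules) (hL : PicF.IsInvertible L) (hM : PicF.IsInvertible M)
    (h : ∀ y : ↥Y.left, IsClosed ({y} : Set ↥Y.left) →
      Nonempty ((Scheme.Modules.pullback (pullback.fst (snd X Y).left (Y.left.fromSpecResidueField y))).obj L ≅
        (Scheme.Modules.pullback (pullback.fst (snd X Y).left (Y.left.fromSpecResidueField y))).obj M)) :
    ∃ N : Y.left.Modules, PicF.IsInvertible N ∧
      Nonempty (L ≅ CohB1.tensorMod M ((Scheme.Modules.pullback (snd X Y).left).obj N)) := by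
  let f := (snd X Y).left
  haveI : IsIntegral Y.left := GeometricallyIntegral.isIntegral_of_subsingleton Y.hom
  haveI : IsProper f := isProper_snd X Y
  haveI : Flat f := flat_snd X Y
  haveI : GeometricallyIntegral f := MorphismProperty.of_isPullback (isPullback_prod X Y) ‹GeometricallyIntegral X.hom›
  haveI : IsLocallyNoetherian Y.left := LocallyOfFiniteType.isLocallyNoetherian Y.hom
  haveI : IsLocallyNoetherian (X ⊗ Y).left := LocallyOfFiniteType.isLocallyNoetherian f
  haveI : JacobsonSpace Y.left := LocallyOfFiniteType.jacobsonSpace Y.hom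
  obtain ⟨b, ⟨M', rfl, hM'⟩, hb⟩ := exists_inverseCl (a := PicF.cl M) ⟨M, rfl, hM⟩
  have hLM : PicF.IsInvertible (CohB1.tensorMod L M') := Groth.L18.GenLoc.isInvertible_tensor hL hM'
  have htriv : ∀ y : Y.left, Nonempty (CohIII.fiberMod f (CohB1.tensorMod L M') y ≅ Coh.structureModule (f.fiber y)) := by
    refine trivial_on_fibres_of_dense f _ hLM (S := closedPoints ↥Y.left) (dense_iff_closure_eq.2 closure_closedPoints)
      fun y hy => ?_
    have h1 : PicF.pullCl (f.fiberι y) (PicF.cl L) = PicF.pullCl (f.fiberι y) (PicF.cl M) :=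
      (PicGrp.cl_eq_cl_iff _ _).2 (h y hy)
    refine (PicGrp.cl_eq_cl_iff _ _).1 ?_
    show PicF.pullCl (f.fiberι y) (PicF.cl L * PicF.cl M') = (1 : PicF.Cl (f.fiber y))
    rw [pullCl_mul, h1, ← pullCl_mul, hb, pullCl_one]
  obtain ⟨hN, hiso⟩ := Groth.Agent.S14419.result f _ hLM htriv
  haveI := hiso
  refine ⟨_, hN, (PicGrp.cl_eq_cl_iff _ _).1 ?_⟩
  have e : PicF.pullCl f (PicF.cl ((Scheme.Modules.pushforward f).obj (CohB1.tensorMod L M'))) = PicF.cl L * PicF.cl M' :=
    (PicGrp.cl_eq_cl_iff _ _).2 ⟨asIso ((Scheme.Modules.pullbackPushforwardAdjunction f).counit.app (CohB1.tensorMod L M'))⟩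
  show PicF.cl L = PicF.cl M * PicF.pullCl f (PicF.cl _)
  rw [e, _root_.mul_comm (PicF.cl L), ← _root_.mul_assoc, hb, _root_.one_mul]

end Groth.Agent.S16682
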