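import Groth.Statements.S16683
import Groth.Agent.L26.Mumford.PicDim
import Groth.Agent.L26.Mumford.BettiField
import Groth.Agent.L02.PicGrpObj.Main
import Groth.Agent.L02.PicProper.Main
import Groth.Agent.S11757
import Groth.Agent.S3228
import Groth.Agent.S11755

set_option autoImplicit false
universe u
open CategoryTheory CategoryTheory.Limits MonoidalCategory CartesianMonoidalCategory MonObj GrpObj AlgebraicGeometry
open AbVar

namespace Groth.Agent.S16683

/-- Fix a field k and a g-dimensional abelian variety X over k (a proper, geometrically integral k-group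
scheme with underlying space of Krull dimension g), and let P be a k-scheme locally of finite type
which represents, through φ, the relative Picard functor Pic_{X/k} (the fppf sheaf associated to T ↦
Pic(X ×_k T)). Then P is smooth over k — in particular its identity component Pic⁰_{X/k}, the dual
of X, is reduced and hence an abelian variety — and the underlying space of P has Krull dimension g
= dim X. (The published statement also identifies g with dim_k H^1(X, O_X) and the kernel of φ_L
with K(L) for L ample; those clauses are not part of this statement. The Picard scheme is taken as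
given.) -/
theorem result (k : Type u) [Field k]
    (X : Over (Spec (CommRingCat.of k))) [GrpObj X] [IsProper X.hom] [GeometricallyIntegral X.hom]
    (g : ℕ) (hg : topologicalKrullDim ↥X.left = g)
    (P : Over (Spec (CommRingCat.of k)))
    (φ : ∀ T : Over (Spec (CommRingCat.of k)), PicF.Cl (PicF.XT X.hom T) → (T ⟶ P))
    (hP : AbDual.IsRelPicK Scheme.fppfPrecoverage X.hom P φ) [LocallyOfFiniteType P.hom] :
    Smooth P.hom ∧ topologicalKrullDim ↥P.left = g := by
  haveI : Smooth X.hom := Groth.L08.Albanese.smooth_of_geometricallyIntegral X
  haveI : GeometricallyConnected X.hom := Groth.Agent.AV.Isogeny.geometricallyConnected X.hom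
  have hR : PicRel.IsRelPic X.hom P φ := Groth.Agent.L26.Mumford.isRelPic_of_isRelPicK η[X].left (Over.w η[X])
    (fun T U => Groth.Agent.AbDualLib.isIso_app_XTproj X.hom Groth.Agent.AbDualLib.fibConst_abelian η[X].left
      (Over.w η[X]) T U) hP
  letI : X.left.Over (Spec (CommRingCat.of k)) := ⟨X.hom⟩
  haveI : IsProper (X.left ↘ Spec (CommRingCat.of k)) := inferInstanceAs (IsProper X.hom)
  haveI : IsSeparated P.hom := (Groth.Agent.S11755.result k X.hom P φ hR).1
  have hR' : PicRel.IsRelPic (X.left ↘ Spec (CommRingCat.of k)) P φ := hR
  have h1 : Module.finrank k (Coh.HH X.left (Coh.structureModule X.left) 1) = g :=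
    (Groth.Agent.L26.Mumford.finrank_HH_structure' (A := X) g hg 1).trans (Nat.choose_one_right g)
  have hle := Groth.Agent.S3228.result k X.left P φ hR'
  rw [h1] at hle
  have hge := Groth.Agent.L26.Mumford.dim_le_stalk (X := X) hP
  rw [hg] at hge
  have heq := le_antisymm hle hge
  have hs : Smooth P.hom := (Groth.Agent.S11757.result k X.left P φ hR').2 (heq.trans (by rw [h1]))
  refine ⟨hs, ?_⟩
  letI := Groth.L02.PicGrpObj.grpObj hR
  refine (Groth.L08.GrpDim.ringKrullDim_stalk P _ ?_).symm.trans heq
  let o := φ (Over.mk (𝟙 (Spec (CommRingCat.of k)))) (PicF.cl (Coh.structureModule (PicF.XT X.hom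
    (Over.mk (𝟙 (Spec (CommRingCat.of k)))))))
  haveI : IsClosedImmersion o.left := by
    haveI : IsClosedImmersion (o.left ≫ P.hom) := by
      rw [Over.w o]
      exact inferInstanceAs (IsClosedImmersion (𝟙 _))
    exact IsClosedImmersion.of_comp o.left P.hom
  have : Set.range o.left = {o.left.base (IsLocalRing.closedPoint k)} := by
    haveI : Subsingleton ↥(Over.mk (𝟙 (Spec (CommRingCat.of k)))).left := inferInstanceAs (Subsingleton (PrimeSpectrum k))
    ext z
    exact ⟨fun ⟨w, hw⟩ => by rw [← hw, Subsingleton.elim w (IsLocalRing.closedPoint k)]; rfl, fun h => ⟨_, h.symm⟩⟩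
  exact this ▸ o.left.isClosedEmbedding.isClosed_range

end Groth.Agent.S16683
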