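import Groth.Statements.S16685
import Groth.Agent.L08.TruncatedHopf

set_option autoImplicit false
universe u
open HopfRep

namespace Groth.Agent.S16685
open HopfRep

/-- The description of the kernel of Frobenius established in the course of the proof. Let k be a field
of characteristic p > 0 and A a finite-dimensional commutative Hopf algebra over k which is a local
ring, the coordinate ring of a connected finite k-group scheme G; let I be the augmentation ideal
(the kernel of the counit), d = dim_k I/I² the dimension of the tangent space at the identity, and J
⊆ A the ideal generated by the p-th powers of the elements of I, so that A/J is the coordinate ring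
of the kernel G[F] of the relative Frobenius. Then A/J is isomorphic as a k-algebra to k[X_1, …,
X_d]/(X_1^p, …, X_d^p) (existence of an isomorphism; it depends on the choice of elements of I
lifting a basis of I/I²); in particular G[F] has rank p^d. -/
theorem result (k : Type u) [Field k] (p : ℕ) [Fact p.Prime] [CharP k p]
    (A : Type u) [CommRing A] [HopfAlgebra k A] [FiniteDimensional k A] [IsLocalRing A]
    (d : ℕ) (hd : Module.finrank k (RingHom.ker (Bialgebra.counitAlgHom k A).toRingHom).Cotangent = d) :
    Nonempty ((A ⧸ Ideal.span ((fun a : A => a ^ p) '' (RingHom.ker (Bialgebra.counitAlgHom k A).toRingHom : Set A))) ≃ₐ[k]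
      (MvPolynomial (Fin d) k ⧸ Ideal.span (Set.range fun i : Fin d => (MvPolynomial.X i : MvPolynomial (Fin d) k) ^ p))) := by
  haveI := Groth.L08.TruncatedHopf.isHopfIdeal_frobIdeal (k := k) p (A := A)
  let J := Groth.L08.TruncatedHopf.frobIdeal (k := k) p A
  haveI : Algebra.FinitePresentation k (A ⧸ J) :=
    Algebra.FinitePresentation.of_finiteType.1 (Module.Finite.finiteType (A ⧸ J))
  obtain ⟨n, ⟨E⟩⟩ := Groth.L25.HeightOne.nonempty_algEquiv p k (A ⧸ J) fun a ha => by
    obtain ⟨b, rfl⟩ := Ideal.Quotient.mk_surjective a
    rw [← map_pow, Ideal.Quotient.eq_zero_iff_mem]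
    exact Ideal.subset_span ⟨b, ha, rfl⟩
  have hn : n = d := by
    have h := Groth.L08.TruncatedHopf.finrank_quotient_frobIdeal (k := k) p (A := A)
    rw [E.toLinearEquiv.finrank_eq, Groth.Agent.S16077.finrank_trunc] at h
    simp only [Finset.prod_const, Finset.card_univ, Fintype.card_fin] at h
    exact (Nat.pow_right_injective (Fact.out : p.Prime).two_le h).trans hd
  subst hn
  exact ⟨E⟩

end Groth.Agent.S16685
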