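import Groth.Statements.S16687
import Groth.Agent.L26.AV.SurjTrivial
import Groth.Agent.L26.AV.DegreeForm
import Groth.Agent.L26.AV.NonNoethHom
import Groth.Agent.L08.Cube.MulSurj

set_option autoImplicit false
universe u
open CategoryTheory CategoryTheory.Limits MonoidalCategory CartesianMonoidalCategory MonObj GrpObj AlgebraicGeometry
open AbVar

namespace Groth.Agent.S16687

set_option backward.isDefEq.respectTransparency false
open Groth.Agent.AV
open scoped MonObj
attribute [local instance] Groth.L08.Cube.clMonoid InterPic.picLaw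

/-- Let X be an abelian variety over a field k (a proper, geometrically integral k-group scheme) with
group law m : X ×_k X → X and projections p₁, p₂, let L be an invertible O_X-module, and let n ≥ 2
be an integer such that n^*L ≅ L^{⊗ n}, where n : X → X is multiplication by n (the n-th power of
the identity in the group of endomorphisms). Then the class of L lies in Pic⁰_{X/k}, i.e. the
Mumford module of L is trivial: m^*L ≅ p₁^*L ⊗ p₂^*L (existence of an isomorphism of modules on X
×_k X). (The published statement allows any integer n other than 0 and 1, negative n included; this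
row takes n a natural number with n ≥ 2. The converse implication also holds; this row is the
direction from one such n.) -/
theorem result (k : Type u) [Field k]
    (X : Over (Spec (CommRingCat.of k))) [GrpObj X] [IsProper X.hom] [GeometricallyIntegral X.hom]
    (L : X.left.Modules) (hL : PicF.IsInvertible L) (n : ℕ) (hn : 2 ≤ n)
    (h : Nonempty ((Scheme.Modules.pullback (𝟙 X ^ n).left).obj L ≅ CohB1.tensorPow L n)) :
    Nonempty ((Scheme.Modules.pullback μ[X].left).obj L ≅
      CohB1.tensorMod ((Scheme.Modules.pullback (fst X X).left).obj L)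
        ((Scheme.Modules.pullback (snd X X).left).obj L)) := by
  haveI : IsCommMonObj X := Groth.Agent.AV.isCommMonObj_base X
  haveI : IsIntegral X.left := GeometricallyIntegral.isIntegral_of_subsingleton X.hom
  haveI : Surjective (𝟙 X ^ (n * (n - 1))).left :=
    Groth.L08.Cube.surjective_pow (Nat.one_le_iff_ne_zero.2 (Nat.mul_ne_zero (by omega) (by omega)))
  let F := fun {W : Over (Spec (CommRingCat.of k))} (φ : W ⟶ X) => DegreeForm.F L hL φ
  have hF : ∀ {W : Over (Spec (CommRingCat.of k))} (x : W ⟶ X), F (x ^ n) = n • F x := by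
    intro W x
    refine Subtype.ext ?_
    have h1 : Groth.L08.Cube.pc L (𝟙 X ^ n) = PicF.cl L ^ n :=
      ((PicGrp.cl_eq_cl_iff _ _).2 h).trans (Groth.L08.Cube.cl_tensorPow L n)
    have hp : ∀ m : ℕ, (m • F x).toMul.1 = Groth.L08.Cube.pc L x ^ m := fun m => by
      induction m with
      | zero => rw [zero_smul, pow_zero]; rfl
      | succ m ih => rw [succ_nsmul, pow_succ, ← ih]; rfl
    show Groth.L08.Cube.pc L (x ^ n) = (n • F x).toMul.1
    rw [hp, show x ^ n = x ≫ 𝟙 X ^ n by rw [MonObj.comp_pow, Category.comp_id], ← Groth.L08.Cube.pullCl_pc, h1]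
    exact map_pow (Groth.L08.Cube.pullClHom x.left) _ n
  let a : Additive ((X ⊗ X) ⟶ X) := Additive.ofMul (fst X X)
  let b : Additive ((X ⊗ X) ⟶ X) := Additive.ofMul (snd X X)
  let lam := DegreeForm.Bil L hL a b
  have hlam : n • lam = (n * n) • lam := by
    have e : DegreeForm.Bil L hL (n • a) (n • b) = n • lam := by
      show F ((fst X X) ^ n * (snd X X) ^ n) - F ((fst X X) ^ n) - F ((snd X X) ^ n) = n • lam
      rw [← _root_.mul_pow, hF, hF, hF, ← nsmul_sub, ← nsmul_sub]
      rfl
    rw [← e, map_nsmul, map_nsmul, AddMonoidHom.nsmul_apply, ← mul_nsmul]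
  have hN : (n * (n - 1)) • lam = 0 := by
    have h2 : n * n = n * (n - 1) + n := by
      obtain ⟨m, rfl⟩ : ∃ m, n = m + 1 := ⟨n - 1, by omega⟩
      simp only [Nat.add_sub_cancel]
      ring
    rw [h2, add_nsmul] at hlam
    exact right_eq_add.1 hlam
  have hnat : ∀ {W : Over (Spec (CommRingCat.of k))} (ψ : W ⟶ X ⊗ X),
      Additive.ofMul (InterPic.pullPic ψ.left lam.toMul) =
        DegreeForm.Bil L hL (Additive.ofMul (ψ ≫ fst X X)) (Additive.ofMul (ψ ≫ snd X X)) := by
    intro W ψ
    let pb := MonoidHom.toAdditive (InterPic.pullPic ψ.left)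
    have key : ∀ φ : (X ⊗ X) ⟶ X, pb (F φ) = F (ψ ≫ φ) := fun φ =>
      Subtype.ext (Groth.L08.Cube.pullCl_pc L ψ φ)
    show pb (F (fst X X * snd X X) - F (fst X X) - F (snd X X)) =
      F ((ψ ≫ fst X X) * (ψ ≫ snd X X)) - F (ψ ≫ fst X X) - F (ψ ≫ snd X X)
    rw [map_sub, map_sub, key, key, key, MonObj.comp_mul]
  have hz : lam = 0 := by
    refine Subtype.ext ?_
    show lam.toMul.1 = (1 : PicF.Cl (X ⊗ X).left)
    rw [← InterPic.cl_rep lam.toMul]
    refine SurjTrivial.cl_eq_one (𝟙 X ^ (n * (n - 1))) η[X] _ (InterPic.isInvertible_rep _) ?_ ?_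
    all_goals rw [InterPic.cl_rep]
    · have e := hnat ((𝟙 X ^ (n * (n - 1))) ▷ X)
      have e1 : Additive.ofMul (((𝟙 X ^ (n * (n - 1))) ▷ X) ≫ fst X X) = (n * (n - 1)) • a := by
        rw [whiskerRight_fst, MonObj.comp_pow, Category.comp_id]
        rfl
      rw [e1, whiskerRight_snd, map_nsmul, AddMonoidHom.nsmul_apply] at e
      exact (congrArg (fun z => (Additive.toMul z).1) (e.trans hN)).trans rfl
    · have e := hnat (lift (𝟙 X) (toUnit X ≫ η[X]))
      rw [lift_snd, lift_fst, ← Hom.one_def] at e
      exact (congrArg (fun z => (Additive.toMul z).1) (e.trans (map_zero _))).trans rfl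
  have hfin : F (fst X X * snd X X) = F (fst X X) + F (snd X X) := by
    have : F (fst X X * snd X X) - F (fst X X) - F (snd X X) = 0 := hz
    rwa [sub_sub, sub_eq_zero] at this
  have hμ : μ[X] = fst X X * snd X X := by rw [Hom.mul_def, lift_fst_snd, Category.id_comp]
  rw [hμ, ← PicGrp.cl_eq_cl_iff]
  exact congrArg (fun z => (Additive.toMul z).1) hfin

end Groth.Agent.S16687
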