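import Groth.Statements.S16689
import Groth.Agent.L08.Dual

set_option autoImplicit false
universe u v w
open ComodSub

namespace Groth.Agent.S16689

/-- Let `k` be a commutative ring, `A` a commutative Hopf algebra over `k` with antipode `S`, and `M` a
`k`-module with a right `A`-comodule structure `m ↦ Σ m₀ ⊗ m₁`. Then the map `M → A ⊗ M`, `m ↦ Σ
S(m₁) ⊗ m₀`, is coassociative and counital: it is the coaction of a left `A`-comodule structure on
`M` (a left structure is determined by its coaction, so this structure is unique). -/
theorem result (k : Type u) [CommRing k]
    (A : Type v) [CommRing A] [HopfAlgebra k A]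
    (M : Type w) [AddCommGroup M] [Module k M] (c : HopfRep.Comod k A M) :
    ∃ l : ComodSub.LComod k A M, l.coact = ComodSub.lcoactOfRight c := by
  exact ⟨L08.lOfRight c, rfl⟩

end Groth.Agent.S16689
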