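import Groth.Statements.S7606
import Groth.Agent.L07.FieldStalk
import Groth.Agent.S2672
import Groth.Agent.L06.RegularRing
import Mathlib.FieldTheory.IntermediateField.Adjoin.Algebra
import Mathlib.RingTheory.TensorProduct.Finite

set_option autoImplicit false
set_option maxSynthPendingDepth 3
set_option synthInstance.maxHeartbeats 400000
set_option backward.isDefEq.respectTransparency false
set_option backward.isDefEq.respectTransparency.types false
set_option linter.style.haveILetI false
universe u
open CategoryTheory CategoryTheory.Limits AlgebraicGeometry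
attribute [local instance] Curv2.stalkAlgebra
open Variety

open scoped TensorProduct
namespace Groth.Agent.S7606

/-- Let X be a locally Noetherian scheme over a field k and x a point of X. These conditions are
equivalent: (1) the scheme X is geometrically regular at x; (2) whenever k'/k is finite and purely
inseparable, the local ring O_{X_{k'}, x'} is regular at each point x' of X_{k'} lying over x; (3)
the local ring O_{X, x} is geometrically regular over k (k' ⊗_k O_{X, x} is a regular ring for every
finite extension k' of k). Stated as (1) ↔ (2) together with (2) ↔ (3). -/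
theorem result (k : Type u) [Field k] (X : Scheme.{u}) [X.Over (Spec (CommRingCat.of k))] [IsLocallyNoetherian X] (x : ↥X) :
    (Curv2.IsGeomRegularAt k X x ↔
      ∀ (k' : Type u) [Field k'] [Algebra k k'] [FiniteDimensional k k'] [IsPurelyInseparable k k'] (x' : ↥(Curv2.bc k X k')),
        Curv2.bcFst k X k' x' = x → IsRegularLocalRing ↥((Curv2.bc k X k').presheaf.stalk x')) ∧
    ((∀ (k' : Type u) [Field k'] [Algebra k k'] [FiniteDimensional k k'] [IsPurelyInseparable k k'] (x' : ↥(Curv2.bc k X k')),
        Curv2.bcFst k X k' x' = x → IsRegularLocalRing ↥((Curv2.bc k X k').presheaf.stalk x')) ↔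
      CAlg.IsGeometricallyRegular k ↥(X.presheaf.stalk x)) := by
  let O := X.presheaf.stalk x
  haveI : IsNoetherianRing O := inferInstanceAs (IsNoetherianRing (X.presheaf.stalk x))
  have hA : (∀ (k' : Type u) [Field k'] [Algebra k k'] [FiniteDimensional k k'] [IsPurelyInseparable k k']
      (x' : ↥(Curv2.bc k X k')), Curv2.bcFst k X k' x' = x →
        IsRegularLocalRing ↥((Curv2.bc k X k').presheaf.stalk x')) → CAlg.IsGeometricallyRegular k O := by
    intro h
    refine (Groth.Agent.S2672.result k O).1.mpr fun k' _ _ hfin hins => ?_
    haveI := hfin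
    haveI := hins
    haveI : Algebra.IsIntegral k k' := Algebra.IsIntegral.of_finite k k'
    haveI : IsNoetherianRing (O ⊗[k] k') := IsNoetherianRing.of_finite O _
    haveI : IsNoetherianRing (k' ⊗[k] O) :=
      isNoetherianRing_of_ringEquiv _ (Algebra.TensorProduct.comm k O k').toRingEquiv
    refine Groth.L06.RegularRing.isRegularRing_of_maximal fun M _ => ?_
    obtain ⟨x', hx', ⟨e⟩⟩ := Groth.L07.FieldStalk.exists_point_of_prime k X x k' ⟨M, Ideal.IsMaximal.isPrime ‹_›⟩
      (Groth.L07.FieldStalk.comap_eq_of_isMaximal k k' M)
    haveI := h k' x' hx'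
    exact IsRegularLocalRing.of_ringEquiv e.symm
  have hB : CAlg.IsGeometricallyRegular k O → Curv2.IsGeomRegularAt k X x := by
    intro h K _ _ hfg x' hx'
    haveI : Algebra.EssFiniteType k K := IntermediateField.fg_top_iff.mp hfg
    haveI := (Groth.Agent.S2672.result k O).2.mp h K inferInstance
    obtain ⟨Q, -, ⟨e⟩⟩ := Groth.L07.FieldStalk.exists_point_over k X x K x' hx'
    haveI := IsRegularRing.isRegularLocalRing_localization Q.asIdeal
    exact IsRegularLocalRing.of_ringEquiv e
  have hC : Curv2.IsGeomRegularAt k X x → (∀ (k' : Type u) [Field k'] [Algebra k k'] [FiniteDimensional k k']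
      [IsPurelyInseparable k k'] (x' : ↥(Curv2.bc k X k')), Curv2.bcFst k X k' x' = x →
        IsRegularLocalRing ↥((Curv2.bc k X k').presheaf.stalk x')) :=
    fun h k' _ _ _ _ => h k' (IntermediateField.fg_top k k')
  exact ⟨⟨hC, fun h => hB (hA h)⟩, ⟨hA, fun h => hC (hB h)⟩⟩

end Groth.Agent.S7606
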