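import Groth.Statements.S16691
import Groth.Agent.L08.Dual
import Mathlib.RingTheory.Flat.Stability

set_option autoImplicit false
universe u v w w'
open scoped TensorProduct
open ComodTens

namespace Groth.Agent.S16691
open TensorProduct

section aux
variable {k : Type u} [CommRing k] {A : Type v} [CommRing A] [HopfAlgebra k A]
  {B : Type w} [AddCommGroup B] [Module k B] {M : Type w'} [AddCommGroup M] [Module k M]

/-- multiply into the algebra slot -/
noncomputable def mulSlot : (B ⊗[k] A) ⊗[k] A →ₗ[k] B ⊗[k] A :=
  (LinearMap.mul' k A).lTensor B ∘ₗ (TensorProduct.assoc k B A A).toLinearMap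

@[simp] theorem mulSlot_tmul (b : B) (a a' : A) :
    mulSlot (k := k) ((b ⊗ₜ[k] a) ⊗ₜ[k] a') = b ⊗ₜ (a * a') := rfl

/-- convolution of a map into `B ⊗ A` with a map `A → A` through a coaction -/
noncomputable def twistBy (cM : HopfRep.Comod k A M) (f : A →ₗ[k] A) (Φ : M →ₗ[k] B ⊗[k] A) :
    M →ₗ[k] B ⊗[k] A :=
  mulSlot ∘ₗ TensorProduct.map Φ f ∘ₗ cM.coact

theorem twistBy_twistBy (cM : HopfRep.Comod k A M) (f g : A →ₗ[k] A) (Φ : M →ₗ[k] B ⊗[k] A) :
    twistBy cM g (twistBy cM f Φ) =
      twistBy cM (LinearMap.mul' k A ∘ₗ TensorProduct.map f g ∘ₗ Coalgebra.comul) Φ := by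
  refine LinearMap.ext fun m => ?_
  have hc := LinearMap.congr_fun cM.coassoc m
  simp only [LinearMap.comp_apply, LinearEquiv.coe_coe] at hc
  let Ω : M ⊗[k] (A ⊗[k] A) →ₗ[k] B ⊗[k] A :=
    mulSlot ∘ₗ TensorProduct.map Φ (LinearMap.mul' k A ∘ₗ TensorProduct.map f g)
  have h1 : twistBy cM g (twistBy cM f Φ) m =
      Ω (TensorProduct.assoc k M A A (cM.coact.rTensor A (cM.coact m))) := by
    simp only [twistBy, LinearMap.comp_apply]
    generalize cM.coact m = t
    induction t using TensorProduct.induction_on with
    | zero => simp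
    | add x y hx hy => simp only [map_add, hx, hy]
    | tmul x a =>
      simp only [LinearMap.rTensor_tmul, TensorProduct.map_tmul, LinearMap.comp_apply]
      generalize cM.coact x = s
      induction s using TensorProduct.induction_on with
      | zero => simp
      | add p q hp hq => simp only [map_add, add_tmul, hp, hq]
      | tmul p q =>
        simp only [Ω, LinearMap.comp_apply, TensorProduct.map_tmul, TensorProduct.assoc_tmul,
          LinearMap.mul'_apply]
        generalize Φ p = z
        induction z using TensorProduct.induction_on with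
        | zero => simp
        | add u v hu hv => simp only [map_add, add_tmul, hu, hv]
        | tmul u v => simp [mul_assoc]
  rw [h1, hc]
  simp only [Ω, twistBy, LinearMap.comp_apply]
  generalize cM.coact m = t
  induction t using TensorProduct.induction_on with
  | zero => simp
  | add x y hx hy => simp only [map_add, hx, hy]
  | tmul x a => simp

theorem twistBy_unit (cM : HopfRep.Comod k A M) (Φ : M →ₗ[k] B ⊗[k] A) :
    twistBy cM (Algebra.linearMap k A ∘ₗ Coalgebra.counit) Φ = Φ := by
  refine LinearMap.ext fun m => ?_
  have hc := LinearMap.congr_fun cM.counit_comp m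
  simp only [LinearMap.comp_apply, LinearMap.flip_apply, TensorProduct.mk_apply] at hc
  let Ω : M ⊗[k] k →ₗ[k] B ⊗[k] A := mulSlot ∘ₗ TensorProduct.map Φ (Algebra.linearMap k A)
  have h1 : twistBy cM (Algebra.linearMap k A ∘ₗ Coalgebra.counit) Φ m =
      Ω ((CoalgebraStruct.counit (R := k) (A := A)).lTensor M (cM.coact m)) := by
    simp only [twistBy, Ω, LinearMap.comp_apply]
    generalize cM.coact m = t
    induction t using TensorProduct.induction_on with
    | zero => simp
    | add x y hx hy => simp only [map_add, hx, hy]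
    | tmul x a => simp
  rw [h1, hc]
  simp only [Ω, LinearMap.comp_apply, TensorProduct.map_tmul, Algebra.linearMap_apply, map_one]
  generalize Φ m = z
  induction z using TensorProduct.induction_on with
  | zero => simp
  | add u v hu hv => simp only [map_add, add_tmul, hu, hv]
  | tmul u v => simp

theorem twistBy_antipode_cancel (cM : HopfRep.Comod k A M) (Φ : M →ₗ[k] B ⊗[k] A) :
    twistBy cM LinearMap.id (twistBy cM (HopfAlgebraStruct.antipode (R := k)) Φ) = Φ ∧
      twistBy cM (HopfAlgebraStruct.antipode (R := k)) (twistBy cM LinearMap.id Φ) = Φ := by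
  refine ⟨?_, ?_⟩
  · rw [twistBy_twistBy]
    have := HopfAlgebra.mul_antipode_rTensor_comul (R := k) (A := A)
    rw [LinearMap.rTensor] at this
    rw [this, twistBy_unit]
  · rw [twistBy_twistBy]
    have := HopfAlgebra.mul_antipode_lTensor_comul (R := k) (A := A)
    rw [LinearMap.lTensor] at this
    rw [this, twistBy_unit]

end aux


/-- Let `k` be a commutative ring, `A` a commutative Hopf algebra over `k`, flat over `k`, `B` a flat
`k`-module with a right `A`-comodule structure, and `M` a finitely presented `k`-module with a right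
`A`-comodule structure; let `M^*` carry the contragredient structure `d` (for each form `f`, `d f`
read as a map `M → A` is `m ↦ Σ f(m₀) S(m₁)`) and `B ⊗ M^*` the tensor-product coaction `b ⊗ φ ↦ Σ
(b₀ ⊗ φ₀) ⊗ b₁ φ₁`. Then `b ⊗ φ ↦ (m ↦ φ(m) b)` restricts to a bijection from the invariants `(B ⊗
M^*)^A` (elements with coaction `x ⊗ 1`) onto the `A`-comodule maps `M → B`. (The published
statement assumes `B` only finitely presented over `k`; for `k = ℤ`, `A = ℤ` the Hopf algebra of the
trivial group and `B = M = ℤ/2` with trivial coactions, `M^* = 0` so the invariants vanish while the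
identity of `ℤ/2` is a comodule map, and the published proof uses that `B ⊗ M^* → Hom(M, B)` is
bijective, which holds for `B` flat; so `B` is taken flat here.) -/
theorem result (k : Type u) [CommRing k]
    (A : Type v) [CommRing A] [HopfAlgebra k A] [Module.Flat k A]
    (B : Type w) [AddCommGroup B] [Module k B] [Module.Flat k B] (cB : HopfRep.Comod k A B)
    (M : Type w') [AddCommGroup M] [Module k M] [Module.FinitePresentation k M]
    (cM : HopfRep.Comod k A M)
    (d : HopfRep.Comod k A (Module.Dual k M)) (hd : ComodTens.Comod.IsDual cM d) :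
    Set.BijOn
      (fun x : B ⊗[k] Module.Dual k M => dualTensorHom k M B (TensorProduct.comm k B (Module.Dual k M) x))
      ((@HopfRep.fixedPts k A _ _ _ (B ⊗[k] Module.Dual k M) _ _ (ComodTens.Comod.tensor cB d)) :
        Set (B ⊗[k] Module.Dual k M))
      {h : M →ₗ[k] B | @Hoch.IsComodHom k _ A _ _ _ M _ _ cM B _ _ cB h} := by
  classical
  let Θ : B ⊗[k] Module.Dual k M ≃ₗ[k] (M →ₗ[k] B) :=
    TensorProduct.comm k B (Module.Dual k M) ≪≫ₗ
      LinearEquiv.ofBijective _ (Groth.L08.dualTensorHom_bijective_of_flat M B)
  let ΘA : (B ⊗[k] Module.Dual k M) ⊗[k] A ≃ₗ[k] (M →ₗ[k] B ⊗[k] A) :=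
    (TensorProduct.comm k B (Module.Dual k M)).rTensor A ≪≫ₗ
      TensorProduct.assoc k (Module.Dual k M) B A ≪≫ₗ
        LinearEquiv.ofBijective _ (Groth.L08.dualTensorHom_bijective_of_flat M (B ⊗[k] A))
  have hΘ : ∀ (b : B) (φ : Module.Dual k M) (m : M), Θ (b ⊗ₜ φ) m = φ m • b := fun b φ m => by
    simp [Θ, dualTensorHom_apply]
  have hΘA : ∀ (b : B) (φ : Module.Dual k M) (a : A) (m : M),
      ΘA ((b ⊗ₜ φ) ⊗ₜ a) m = φ m • (b ⊗ₜ[k] a) := fun b φ a m => by
    simp [ΘA, dualTensorHom_apply]
  have hone : ∀ (x : B ⊗[k] Module.Dual k M) (m : M), ΘA (x ⊗ₜ 1) m = Θ x m ⊗ₜ[k] (1 : A) := by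
    intro x m
    induction x using TensorProduct.induction_on with
    | zero => simp
    | tmul b φ => rw [hΘA, hΘ, TensorProduct.smul_tmul']
    | add x y hx hy => simp only [add_tmul, map_add, LinearMap.add_apply, hx, hy]
  have hco : ∀ x : B ⊗[k] Module.Dual k M, ΘA ((ComodTens.Comod.tensor cB d).coact x) =
      twistBy cM (HopfAlgebraStruct.antipode (R := k)) (cB.coact ∘ₗ Θ x) := by
    intro x
    refine LinearMap.ext fun m => ?_
    induction x using TensorProduct.induction_on with
    | zero => simp [twistBy]
    | add x y hx hy =>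
      simp only [map_add, LinearMap.add_apply, hx, hy]
      simp [twistBy, LinearMap.comp_add, TensorProduct.map_add_left]
    | tmul b φ =>
      have h1 : ∀ (s : B ⊗[k] A) (t : Module.Dual k M ⊗[k] A),
          ΘA (TensorProduct.map LinearMap.id (LinearMap.mul' k A)
            (AlgebraTensorModule.tensorTensorTensorComm k k k k B A (Module.Dual k M) A (s ⊗ₜ[k] t))) m =
          mulSlot (k := k) (s ⊗ₜ[k] dualTensorHom k M A t m) := by
        intro s t
        induction s using TensorProduct.induction_on with
        | zero => simp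
        | add p q hp hq => simp only [add_tmul, map_add, LinearMap.add_apply, hp, hq]
        | tmul b a =>
          induction t using TensorProduct.induction_on with
          | zero => simp
          | add p q hp hq =>
            simp only [tmul_add, map_add, LinearMap.add_apply, hp, hq]
          | tmul ψ a' =>
            simp only [AlgebraTensorModule.tensorTensorTensorComm_tmul, TensorProduct.map_tmul,
              LinearMap.id_apply, LinearMap.mul'_apply, hΘA, dualTensorHom_apply, mulSlot_tmul,
              mul_smul_comm, TensorProduct.tmul_smul]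
            rw [map_smul, mulSlot_tmul]
      rw [ComodTens.tensor_coact_tmul, h1, hd φ, ComodTens.dualCoactFun_apply]
      simp only [twistBy, LinearMap.comp_apply]
      generalize cM.coact m = t
      induction t using TensorProduct.induction_on with
      | zero => simp
      | add p q hp hq => simp only [map_add, tmul_add, hp, hq]
      | tmul p a => simp [hΘ, TensorProduct.smul_tmul]
  have key : ∀ x : B ⊗[k] Module.Dual k M,
      (ComodTens.Comod.tensor cB d).coact x = x ⊗ₜ[k] (1 : A) ↔
        cB.coact ∘ₗ Θ x = (Θ x).rTensor A ∘ₗ cM.coact := by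
    intro x
    have h2 : twistBy cM LinearMap.id (((TensorProduct.mk k B A).flip 1) ∘ₗ Θ x) =
        (Θ x).rTensor A ∘ₗ cM.coact := by
      refine LinearMap.ext fun m => ?_
      simp only [twistBy, LinearMap.comp_apply]
      generalize cM.coact m = t
      induction t using TensorProduct.induction_on with
      | zero => simp
      | add p q hp hq => simp only [map_add, hp, hq]
      | tmul p a => simp
    have h3 : ΘA (x ⊗ₜ 1) = ((TensorProduct.mk k B A).flip 1) ∘ₗ Θ x :=
      LinearMap.ext fun m => by simp [hone]
    rw [← ΘA.injective.eq_iff, hco, h3]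
    constructor
    · intro h
      rw [← h2, ← h, (twistBy_antipode_cancel cM _).1]
    · intro h
      rw [h, ← h2, (twistBy_antipode_cancel cM _).2]
  have hf : ∀ x, dualTensorHom k M B (TensorProduct.comm k B (Module.Dual k M) x) = Θ x := fun x => rfl
  refine ⟨fun x hx => ?_, fun x _ y _ h => Θ.injective h, fun h hh => ⟨Θ.symm h, ?_, ?_⟩⟩
  · exact (key x).1 hx
  · refine (key _).2 ?_
    rw [LinearEquiv.apply_symm_apply]
    exact hh
  · exact Θ.apply_symm_apply h

end Groth.Agent.S16691
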