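
import Groth.Statements.S1670
import Groth.Agent.L22.GeomConn.Irred
import Groth.Agent.L22.GeomConn.Galois
import Groth.Agent.L22.FibreDim

set_option autoImplicit false
universe u
open CategoryTheory CategoryTheory.Limits AlgebraicGeometry
open Variety

namespace Groth.Agent.S1670

/-- Let X be locally of finite type over k, K a separable closure of k, and T an irreducible component
of X. Then the inverse image of T in X_K is the union of the finitely many irreducible components of
X_K mapping into T, and these form a single orbit under the action of the k-automorphisms of K on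
X_K. -/
theorem result (k : Type u) [Field k] (X : Scheme.{u}) [X.Over (Spec (CommRingCat.of k))] [LocallyOfFiniteType (X ↘ (Spec (CommRingCat.of k)))]
    (T : Set X) (hT : T ∈ irreducibleComponents (X : Type u)) :
    {T' : Set (Curv2.bc k X (SeparableClosure k)) | T' ∈ irreducibleComponents (Curv2.bc k X (SeparableClosure k) : Type u) ∧
        (Curv2.bcFst k X (SeparableClosure k)).base '' T' ⊆ T}.Finite ∧
      (Curv2.bcFst k X (SeparableClosure k)).base ⁻¹' T = ⋃₀ {T' : Set (Curv2.bc k X (SeparableClosure k)) | T' ∈ irreducibleComponents (Curv2.bc k X (SeparableClosure k) : Type u) ∧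
        (Curv2.bcFst k X (SeparableClosure k)).base '' T' ⊆ T} ∧
      ∀ T' T'' : Set (Curv2.bc k X (SeparableClosure k)), T' ∈ irreducibleComponents (Curv2.bc k X (SeparableClosure k) : Type u) →
        T'' ∈ irreducibleComponents (Curv2.bc k X (SeparableClosure k) : Type u) →
        (Curv2.bcFst k X (SeparableClosure k)).base '' T' ⊆ T → (Curv2.bcFst k X (SeparableClosure k)).base '' T'' ⊆ T →
        ∃ σ : (SeparableClosure k) ≃ₐ[k] (SeparableClosure k), (Curv2.galAct k X (SeparableClosure k) σ).base '' T' = T'' := by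
  let f := X ↘ Spec (CommRingCat.of k)
  let K₀ := SeparableClosure k
  set η := hT.1.genericPoint with hη
  have hTcl : closure ({η} : Set X) = T := hT.1.isGenericPoint_genericPoint (isClosed_of_mem_irreducibleComponents _ hT)
  have hgen : ∀ T' ∈ irreducibleComponents ↥(FBase.bc f K₀), FBase.bcπ f K₀ '' T' ⊆ T →
      ∃ t, FBase.bcπ f K₀ t = η ∧ closure {t} = T' := fun T' hT' hsub => by
    refine ⟨hT'.1.genericPoint, ?_, hT'.1.isGenericPoint_genericPoint (isClosed_of_mem_irreducibleComponents _ hT')⟩
    refine Groth.L22.GeomConn.IsMaxPt.map' ((Groth.L22.GeomConn.isMaxPt_genericPoint T' hT').map _) ?_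
    rw [specializes_iff_mem_closure, hTcl]
    exact hsub ⟨_, (hT'.1.isGenericPoint_genericPoint (isClosed_of_mem_irreducibleComponents _ hT')).mem, rfl⟩
  refine ⟨?_, ?_, fun T' T'' hT' hT'' h' h'' => ?_⟩
  · letI := Curv2.resAlgebra k X η
    have hψ : Spec.map (CommRingCat.ofHom (algebraMap k (X.residueField η))) = X.fromSpecResidueField η ≫ f :=
      Groth.L22.FibreDim.SpecMap_resMap k X η
    haveI := Groth.L22.GeomConn.finiteDimensional_separableClosure f η hψ
    have hfin : (FBase.bcπ f K₀ ⁻¹' {η}).Finite := by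
      refine ((Groth.L22.GeomConn.finite_fibre f η hψ).image
        (Groth.L22.GeomConn.bcMap f K₀ (AlgebraicClosure k))).subset fun a ha => ?_
      obtain ⟨b, rfl⟩ := (Groth.L22.GeomConn.bcMap f K₀ (AlgebraicClosure k)).surjective a
      exact ⟨b, (Groth.L22.GeomConn.bcMap_π_apply f K₀ (AlgebraicClosure k) b).symm.trans ha, rfl⟩
    refine (hfin.image fun t => closure {t}).subset ?_
    rintro T' ⟨h1, h2⟩
    obtain ⟨t, ht, htT⟩ := hgen T' h1 h2
    exact ⟨t, ht, htT⟩
  · refine Set.Subset.antisymm (fun w hw => ?_) (Set.sUnion_subset fun Z hZ => Set.image_subset_iff.1 hZ.2)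
    obtain ⟨Z, hZ, hwZ, hZT⟩ := Groth.L22.GeomConn.exists_component_over f K₀ hT w hw
    exact ⟨Z, ⟨hZ, hZT.subset⟩, hwZ⟩
  · obtain ⟨t', ht', rfl⟩ := hgen T' hT' h'
    obtain ⟨t'', ht'', rfl⟩ := hgen T'' hT'' h''
    obtain ⟨σ, hσ⟩ := Groth.L22.GeomConn.exists_galAct_eq X t' t'' (ht'.trans ht''.symm)
    refine ⟨σ, ?_⟩
    have : IsIso (Curv2.galAct k X (SeparableClosure k) σ) := by
      have : IsIso (CommRingCat.ofHom (σ : SeparableClosure k →ₐ[k] SeparableClosure k).toRingHom) :=
        (σ.toRingEquiv.toCommRingCatIso).isIso_hom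
      unfold Curv2.galAct
      infer_instance
    rw [← hσ]
    exact ((Curv2.galAct k X (SeparableClosure k) σ).homeomorph.image_closure _).trans (congrArg closure (Set.image_singleton))

end Groth.Agent.S1670
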