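import Groth.Statements.S16700
import Groth.Agent.L24.Moduli.WNAMain
-- import your own Groth.Agent.* helpers here

set_option autoImplicit false
universe u
open AlgSt AlgSt.IsWellNighAffine

namespace Groth.Agent.S16700

open CategoryTheory AlgebraicGeometry in
/-- A well-nigh affine algebraic stack has a uniform categorical moduli space `π : 𝒳 → M` in algebraic
spaces whose target `M` is an affine scheme, and `π` is separated, quasi-compact and a universal
homeomorphism. -/
theorem result (S : Scheme.{u}) (𝒳 : AlgSt.Cat S)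
    (h𝒳 : AlgSt.IsAlgStack Scheme.fppfPrecoverage 𝒳) (hw : AlgSt.IsWellNighAffine 𝒳) :
    ∃ (M : Over S) (π : 𝒳 ⥤ᵇ AlgSt.ofSch M), IsAffine M.left ∧ AlgSt.IsUnifCatModuli π ∧
      AlgSt.IsSeparatedMor π ∧ AlgSt.IsQuasiCompactMor Scheme.fppfPrecoverage π ∧
      AlgSt.IsUnivHomeo Scheme.fppfPrecoverage π := by
  exact Groth.L24.WNAModuli.exists_moduli h𝒳 hw

end Groth.Agent.S16700
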