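import Groth.Statements.S16704
import Groth.Agent.L24.Moduli.FlatLocal
-- import your own Groth.Agent.* helpers here

set_option autoImplicit false
set_option backward.isDefEq.respectTransparency false
set_option backward.isDefEq.respectTransparency.types false
universe u
open AlgSt

namespace Groth.Agent.S16704

open CategoryTheory AlgebraicGeometry in
/-- Let `𝒳` be an algebraic stack, `Y` an algebraic space and `f : 𝒳 → Y` a morphism. If every base
change of `f` to an affine scheme flat over `Y` is a categorical moduli space, the morphism `f`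
itself is a uniform categorical moduli space. -/
theorem result (S : Scheme.{u}) (𝒳 : AlgSt.Cat S)
    (h𝒳 : AlgSt.IsAlgStack Scheme.fppfPrecoverage 𝒳) (Y : AlgSp.Sp S) (hY : AlgSp.IsAlgSpace Y)
    (f : 𝒳 ⥤ᵇ AlgSt.ofSp Y)
    (hf : ∀ (Y' : Over S), IsAffine Y'.left → ∀ (g : (AlgSp.yon S).obj Y' ⟶ Y), AlgSp.LocP @Flat g →
      AlgSt.IsCatModuli (FibCat.fpFst (AlgSt.ofSpMap g) f)) :
    AlgSt.IsUnifCatModuli f := by
  have hid : AlgSp.LocP @Flat (𝟙 Y) :=
    Groth.L23.locP_of_repWith Groth.L23.etLocal_flat (Groth.L23.repWith_of_isIso _)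
  exact ⟨Groth.L24.FlatLocal.isCatModuli_of_id
      (Groth.L24.FlatLocal.isCatModuli_fpFst h𝒳.isStack.1 hY hY hid hf),
    fun M' hM' g hg => Groth.L24.FlatLocal.isCatModuli_fpFst h𝒳.isStack.1 hY hM' hg hf⟩

end Groth.Agent.S16704
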