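import Groth.Statements.S16705
import Groth.Agent.L24.QuotMor.Desc

set_option autoImplicit false
set_option backward.isDefEq.respectTransparency false
set_option backward.isDefEq.respectTransparency.types false
universe u
open AlgSt

namespace Groth.Agent.S16705

open CategoryTheory AlgebraicGeometry in
/-- Categorical case, schemes as test category: for the quotient stack `[X/G]` of an action of a group
scheme `G` affine, flat and locally of finite presentation over `S`, the morphism `π : [X/G] → Y`
induced by a morphism of schemes `f : X → Y` is a categorical moduli space in schemes if and only if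
`f` is a categorical quotient in schemes. (The uniform variants and other test categories are not
stated.) -/
theorem result (S : Scheme.{u}) (G : Over S) [GrpObj G]
    [IsAffineHom G.hom] [Flat G.hom] [LocallyOfFinitePresentation G.hom]
    (X Y : Over S) (aX : AlgGrp.Action G X) (f : X ⟶ Y)
    (π : AlgSt.QuotSt Scheme.fppfPrecoverage G aX ⥤ᵇ AlgSt.ofSch Y)
    (hπ : Nonempty (BasedFunctor.comp (AlgSt.quotMap Scheme.fppfPrecoverage G aX) π ≅
      AlgSt.ofSpMap ((AlgSp.yon S).map f))) :
    AlgSt.IsCatModuliSch π ↔ GIT.IsCatQuot aX f := by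
  obtain ⟨e⟩ := hπ
  have hπf : Groth.L24.QuotMor.homOf π = (AlgSp.yon S).map f :=
    Groth.L24.QuotMor.homOf_eq_of_comp (Groth.L24.QuotMor.eq_of_iso e)
  have hinv : GIT.IsInvariant aX f := by
    have h := Groth.L24.QuotMor.homOf_invariant π
    rw [hπf, ← Functor.map_comp, ← Functor.map_comp] at h
    exact (AlgSp.yon S).map_injective h
  have hrep : ∀ Z : Over S, ((AlgSp.yon S).obj Z).obj.IsRepresentable := fun Z =>
    (AlgSp.representableByOfIso (Iso.refl _)).isRepresentable
  constructor
  · intro h
    refine ⟨hinv, fun Z ψ hψ => ?_⟩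
    have hψ' : (AlgSp.yon S).map aX.act ≫ (AlgSp.yon S).map ψ =
        (AlgSp.yon S).map (CartesianMonoidalCategory.snd G X) ≫ (AlgSp.yon S).map ψ := by
      rw [← Functor.map_comp, ← Functor.map_comp]
      exact congrArg _ hψ
    obtain ⟨g, hg, huniq⟩ := h.2 _ (hrep Z) (Groth.L24.QuotMor.desc hψ')
    rw [Groth.L24.QuotMor.nonempty_iso_iff, hπf, Groth.L24.QuotMor.homOf_desc] at hg
    refine ⟨(AlgSp.yon S).preimage g, (AlgSp.yon S).map_injective (by simp [hg]), fun χ hχ => ?_⟩
    apply (AlgSp.yon S).map_injective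
    rw [Functor.map_preimage]
    apply huniq
    rw [Groth.L24.QuotMor.nonempty_iso_iff, hπf, Groth.L24.QuotMor.homOf_desc, ← Functor.map_comp, hχ]
  · intro h
    refine ⟨hrep Y, fun N hN φ => ?_⟩
    obtain ⟨Z, ⟨hZ⟩⟩ := hN
    let i := AlgSp.isoOfRepresentableBy hZ
    let ψ := (AlgSp.yon S).preimage (Groth.L24.QuotMor.homOf φ ≫ i.inv)
    have hψ : GIT.IsInvariant aX ψ := by
      refine (AlgSp.yon S).map_injective ?_
      simp only [Functor.map_comp, ψ, Functor.map_preimage]
      rw [← Category.assoc, Groth.L24.QuotMor.homOf_invariant φ, Category.assoc]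
    obtain ⟨χ, hχ, huniq⟩ := h.2 Z ψ hψ
    refine ⟨(AlgSp.yon S).map χ ≫ i.hom, ?_, fun g hg => ?_⟩
    · beta_reduce
      rw [Groth.L24.QuotMor.nonempty_iso_iff, hπf, ← Category.assoc, ← Functor.map_comp, hχ]
      simp [ψ]
    · beta_reduce at hg
      rw [Groth.L24.QuotMor.nonempty_iso_iff, hπf] at hg
      have h2 : (AlgSp.yon S).preimage (g ≫ i.inv) = χ := by
        apply huniq
        apply (AlgSp.yon S).map_injective
        simp [ψ, ← hg]
      rw [← h2]
      simp

end Groth.Agent.S16705
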