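import Groth.Statements.S16707
import Mathlib.RingTheory.Flat.Equalizer
import Mathlib.LinearAlgebra.TensorProduct.RightExactness
import Mathlib.LinearAlgebra.TensorProduct.Quotient

set_option autoImplicit false
universe u v
open CAlg

namespace Groth.Agent.S16707

open TensorProduct in
/-- Let A be a commutative ring, I a nilpotent ideal of A and f : M → N a homomorphism of A-modules with
N flat over A (no finiteness assumption on M or N). If the base change of f to A/I, that is M/IM →
N/IN, is bijective, then f is bijective. -/
theorem result (A : Type u) [CommRing A] (I : Ideal A)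
    (hI : IsNilpotent I) (M N : Type v) [AddCommGroup M] [Module A M] [AddCommGroup N] [Module A N]
    [Module.Flat A N] (f : M →ₗ[A] N)
    (hf : Function.Bijective (f.baseChange (A ⧸ I))) :
    Function.Bijective f := by
  obtain ⟨n, hn⟩ := hI
  have nak : ∀ (P : Type v) [AddCommGroup P] [Module A P], Subsingleton ((A ⧸ I) ⊗[A] P) →
      Subsingleton P := by
    intro P _ _ h
    have e := (TensorProduct.quotTensorEquivQuotSMul P I).toEquiv.symm
    have htop : I • (⊤ : Submodule A P) = ⊤ :=
      Submodule.Quotient.subsingleton_iff.mp (e.subsingleton_congr.mpr h)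
    have hk : ∀ k, I ^ k • (⊤ : Submodule A P) = ⊤ := by
      intro k
      induction k with
      | zero => rw [pow_zero, Ideal.one_eq_top, Submodule.top_smul]
      | succ k ih => rw [pow_succ, ← smul_eq_mul, Submodule.smul_assoc, htop, ih]
    have := hk n
    rw [hn, Submodule.zero_eq_bot, Submodule.bot_smul] at this
    exact Submodule.subsingleton_iff A |>.mp (subsingleton_of_bot_eq_top this)
  have hsurj : Function.Surjective f := by
    rw [← LinearMap.range_eq_top, ← Submodule.Quotient.subsingleton_iff]
    apply nak
    have hex : Function.Exact f (LinearMap.range f).mkQ := LinearMap.exact_map_mkQ_range f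
    refine ⟨fun x y => ?_⟩
    have hs := LinearMap.lTensor_surjective (A ⧸ I) (Submodule.mkQ_surjective (LinearMap.range f))
    have h0 : ∀ z, LinearMap.lTensor (A ⧸ I) (LinearMap.range f).mkQ z = 0 := fun z => by
      obtain ⟨w, rfl⟩ := hf.2 z
      have := (lTensor_exact (A ⧸ I) hex (Submodule.mkQ_surjective _)).apply_apply_eq_zero w
      rwa [LinearMap.baseChange_eq_ltensor]
    obtain ⟨x', rfl⟩ := hs x
    obtain ⟨y', rfl⟩ := hs y
    rw [h0, h0]
  refine ⟨?_, hsurj⟩
  rw [← LinearMap.ker_eq_bot, ← Submodule.subsingleton_iff_eq_bot]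
  apply nak
  have hex : Function.Exact (LinearMap.ker f).subtype f := LinearMap.exact_subtype_ker_map f
  have hinj := LinearMap.lTensor_injective_of_exact_of_flat f hsurj (LinearMap.ker f).subtype
    (Submodule.injective_subtype _) hex (A ⧸ I)
  refine ⟨fun x y => hinj (hf.1 ?_)⟩
  rw [LinearMap.baseChange_eq_ltensor, (lTensor_exact (A ⧸ I) hex hsurj).apply_apply_eq_zero,
    (lTensor_exact (A ⧸ I) hex hsurj).apply_apply_eq_zero]

end Groth.Agent.S16707
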