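import Groth.Statements.S16708
import Groth.Agent.L08.TraceIntegral

set_option autoImplicit false
universe u
open HopfRep

namespace Groth.Agent.S16708

/-- Let G be a finite group and k a field in which the order of G is a nonzero element. Then the
constant group scheme of G over k is linearly reductive: every finite-dimensional comodule over its
coordinate Hopf algebra (the algebra of functions G → k with the Hopf structure of the constant
group) is semisimple, i.e. every subcomodule admits a complementary subcomodule. -/
theorem result (k : Type u) [Field k] (G : Type u) [Group G]
    [Fintype G] [DecidableEq G] (hG : ((Fintype.card G : ℕ) : k) ≠ 0) :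
    HopfRep.IsLinearlyReductive k (ConstGrp.F k G) := by
  intro V _ _ _ _
  refine Groth.L08.isSemisimpleComod_of_finrank_ne_zero ?_ V
  rw [show Module.finrank k (ConstGrp.F k G) = Fintype.card G from Module.finrank_pi k]
  exact hG

end Groth.Agent.S16708
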