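import Groth.Statements.S16710
import Groth.Agent.L22.Nef.StrictlyNef
import Groth.Agent.L18.AmpleGG

set_option autoImplicit false
universe u
open CategoryTheory CategoryTheory.Limits AlgebraicGeometry TopologicalSpace
open Variety

namespace Groth.Agent.S16710

/-- Let X be a proper scheme over a field k and L an invertible O_X-module. Then L is ample if and only
if (i) L is strictly nef, meaning χ(O_C ⊗ L) - χ(O_C) > 0 for every integral closed subscheme C ⊆ X
of dimension one, and (ii) L is semiample, meaning some positive tensor power of L is generated by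
its global sections (is a quotient of a free O_X-module). -/
theorem result (k : Type u) [Field k] (X : Scheme.{u})
    [X.Over (Spec (CommRingCat.of k))] [IsProper (X ↘ (Spec (CommRingCat.of k)))]
    (L : X.Modules) (hL : PicF.IsInvertible L) :
    CohB1.IsAmple L ↔
      ((∀ C : X.IdealSheafData, IsIntegral C.subscheme →
          topologicalKrullDim (C.support : Set X) = 1 →
            0 < Curv2.euler k X (CohB1.tensorMod (ClSub.quotMod C) L) - Curv2.euler k X (ClSub.quotMod C)) ∧
        ∃ m : ℕ, Curv2.IsGloballyGenerated (CohB1.tensorPow L (m + 1))) := by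
  refine ⟨fun hA => ⟨Groth.L22.Nef.pos_iff.2 fun y hy => Groth.L22.Nakai.altT_quotMod_pos k hA _ (by
    rw [Groth.L18.support_vanishingIdeal]; exact hy), ?_⟩, fun h => ?_⟩
  · haveI := Groth.L21.RR.isNoetherian_of_proper (X := X) k
    obtain ⟨n₀, hn₀⟩ := Groth.L18.Ample.exists_forall_isGloballyGenerated hA (Coh.structureModule X)
      (Groth.L16.CohClosedPush.isCoh_structure (X := X))
    exact ⟨n₀, Groth.L18.Ample.isGloballyGenerated_of_iso (Groth.L00.Tensor.tensorUnitLeft _) (hn₀ (n₀ + 1) n₀.le_succ)⟩
  · obtain ⟨hnef, m, hm⟩ := h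
    exact Groth.L22.Nef.isAmple_of_generated hL (Groth.L22.Nef.pos_iff.1 hnef) m.succ_pos fun x =>
      Groth.L18.Ample.exists_genLocus_mem_of_gg (Groth.L18.Ample.isInvertible_tensorPow hL _) hm x

end Groth.Agent.S16710
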