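import Groth.Statements.S16711
import Groth.Agent.L22.Nef.StrictlyNef

set_option autoImplicit false
universe u
open CategoryTheory CategoryTheory.Limits AlgebraicGeometry TopologicalSpace
open Variety

namespace Groth.Agent.S16711

/-- The implication from the fourth condition to ampleness. Fix an algebraically closed field k, a
proper k-scheme X and an invertible O_X-module L. Assume that L is strictly nef, meaning χ(O_C ⊗ L)
- χ(O_C) > 0 for every integral closed subscheme C ⊆ X of dimension one, and that for every integral
closed subscheme Z ⊆ X some positive tensor power of the pullback L|_Z has a nonzero global section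
O_Z → L|_Z^{⊗ m}. Then L is ample. -/
theorem result (k : Type u) [Field k] [IsAlgClosed k]
    (X : Scheme.{u}) [X.Over (Spec (CommRingCat.of k))] [IsProper (X ↘ (Spec (CommRingCat.of k)))]
    (L : X.Modules) (hL : PicF.IsInvertible L)
    (hnef : ∀ C : X.IdealSheafData, IsIntegral C.subscheme →
      topologicalKrullDim (C.support : Set X) = 1 →
        0 < Curv2.euler k X (CohB1.tensorMod (ClSub.quotMod C) L) - Curv2.euler k X (ClSub.quotMod C))
    (heff : ∀ Z : X.IdealSheafData, IsIntegral Z.subscheme →
      ∃ (m : ℕ) (s : Coh.structureModule Z.subscheme ⟶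
          CohB1.tensorPow ((Scheme.Modules.pullback Z.subschemeι).obj L) (m + 1)), s ≠ 0) :
    CohB1.IsAmple L := by
  exact Groth.L22.Nef.isAmple_of_sections hL (Groth.L22.Nef.pos_iff.1 hnef) heff

end Groth.Agent.S16711
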