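import Groth.Statements.S16713
import Groth.Agent.L14.NLAmp.Main
import Groth.Agent.L21.GorensteinLCI
import Groth.Agent.L08.GrpGorenstein
import Groth.Agent.L07.GeomRk.Open
import Groth.Agent.S0341
import Mathlib.RingTheory.Smooth.Locus
import Mathlib.LinearAlgebra.Dual.Lemmas
-- import your own Groth.Agent.* helpers here

set_option autoImplicit false
universe u
open CotT

namespace Groth.Agent.S16713

/-- The final assertion, in the case where the base is a field. Let k be a field and A a k-algebra which
is a local complete intersection over k (of finite type, presented by a polynomial algebra in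
finitely many variables with Koszul-regular kernel) and generically smooth over k, in the sense that
the localization of A at each of its minimal primes is formally smooth over k. Then H^1 of the naive
cotangent complex L_{A/k} vanishes: for the presentation A = P/I by the polynomial k-algebra P on
the elements of A, the conormal map I/I² → Ω_{P/k} ⊗_P A is injective, so that L_{A/k} is
quasi-isomorphic to Ω_{A/k}. (The published statement is for a generically smooth syntomic morphism
over an arbitrary base, where it fails when the base has embedded points: over B = k[s,t]/(s², st)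
with 2 invertible in k, the algebra B[x]/(x² − t) is a relative complete intersection, free of rank
two and smooth where x is invertible, yet the class of s·x·(x² − t) is a non-zero element of the
kernel of its conormal map. This row states the case of an algebra of finite type over a field.) -/
theorem result (k : Type u) [Field k]
    (A : Type u) [CommRing A] [Algebra k A] (hlci : LCI.IsLCI k A)
    (hgs : ∀ (p : Ideal A) [p.IsPrime], p ∈ minimalPrimes A → Algebra.FormallySmooth k (Localization.AtPrime p)) :
    Subsingleton (Algebra.H1Cotangent k A) := by
  classical
  have hG : LocCoh.IsGorensteinRing A :=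
    Groth.L21.GorensteinLCI.isGorensteinRing_of_isLCI (Groth.L08.GrpGorenstein.isGorensteinRing_field k) hlci
  obtain ⟨hft, n, π, hπ, hk⟩ := hlci
  haveI : IsNoetherianRing A := Algebra.FiniteType.isNoetherianRing k A
  haveI : Algebra.EssFiniteType k A := inferInstance
  -- no embedded primes
  have hass : ∀ p ∈ associatedPrimes A A, p ∈ minimalPrimes A := by
    refine (Groth.L07.GeomRk.noEmbedded_iff_hasSk_one A).2 ((Groth.L06.FlatFibre.hasSk_self_iff 1).2 fun p _ => ?_)
    haveI := hG.isGorensteinLocalRing_localization p
    have h := (Groth.Agent.S0341.result (Localization.AtPrime p)).supportDim_eq_depth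
    rw [Module.supportDim_self_eq_ringKrullDim] at h
    exact le_trans (min_le_right _ _) h.le
  let G := Groth.L14.NLAmp.gens π hπ
  haveI : Module.Projective A G.toExtension.Cotangent := Groth.L14.NLAmp.projective_gens π hπ hk
  haveI : Subsingleton G.toExtension.H1Cotangent := by
    refine ⟨fun x y => sub_eq_zero.1 ?_⟩
    generalize x - y = c
    by_contra hne
    have hne' : (c.1 : G.toExtension.Cotangent) ≠ 0 := fun h => hne (Subtype.ext h)
    obtain ⟨φ, hφ⟩ := Module.Projective.exists_dual_ne_zero A hne'
    obtain ⟨q, hq, hle⟩ := exists_le_isAssociatedPrime_of_isNoetherianRing A (φ c.1) hφ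
    have hmin := hass q hq
    haveI : q.IsPrime := hq.isPrime
    have hnsupp : (⟨q, inferInstance⟩ : PrimeSpectrum A) ∉ Module.support A (Algebra.H1Cotangent k A) := by
      have hsm : (⟨q, inferInstance⟩ : PrimeSpectrum A) ∈ Algebra.smoothLocus k A := hgs q hmin
      rw [Algebra.smoothLocus_eq_compl_support_inter] at hsm
      exact hsm.1
    obtain ⟨b, hb, hbc⟩ := Module.notMem_support_iff'.1 hnsupp (G.equivH1Cotangent c)
    rw [← map_smul, LinearEquiv.map_eq_zero_iff] at hbc
    refine hb (hle ?_)
    rw [Submodule.mem_colon_singleton, Submodule.mem_bot, ← map_smul]
    exact (congr_arg φ (congr_arg Subtype.val hbc : (b • c).1 = (0 : G.toExtension.H1Cotangent).1)).trans (map_zero φ)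
  exact G.equivH1Cotangent.symm.toEquiv.subsingleton


end Groth.Agent.S16713
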