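import Groth.Prelude.Def_Coh
import Groth.Prelude.Def_Pic
import Groth.Prelude.Def_CohB1
import Groth.Prelude.Def_Curv2
import Groth.Prelude.Def_ClSub2
import Groth.Prelude.Def_FlatMod2
import Mathlib.AlgebraicGeometry.Morphisms.Proper
import Mathlib.AlgebraicGeometry.IdealSheaf.Subscheme
import Mathlib.FieldTheory.IsAlgClosed.Basic
import Mathlib.Topology.KrullDimension
import Mathlib.AlgebraicGeometry.Modules.Sheaf
import Mathlib.AlgebraicGeometry.Fiber
import Mathlib.RingTheory.DiscreteValuationRing.Basic
import Mathlib.AlgebraicGeometry.Morphisms.Flat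
import Groth.Agent.L02.TauOpen.CurveClosure
import Groth.Agent.L22.Nef.Proper
import Groth.Agent.L22.Nakai.Diag

set_option autoImplicit false
set_option linter.style.haveILetI false
namespace Variety
end Variety
universe u
open CategoryTheory CategoryTheory.Limits AlgebraicGeometry TopologicalSpace
open Variety

namespace Groth.Agent.S16714

open Groth.L22.Inter Groth.L22.Nef Groth.L03.Euler Groth.L02.TauOpen

theorem altT_one (k : Type u) [Field k] {X : Scheme.{u}} [X.Over (Spec (CommRingCat.of k))]
    [IsProper (X ↘ Spec (CommRingCat.of k))] (L F : X.Modules) :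
    altT k (fun _ : Fin 1 => L) F =
      (Curv2.euler k X (CohB1.tensorMod F L) : ℚ) - Curv2.euler k X F := by
  rw [altT_succ, altT_zero_eq, altT_zero_eq]

/-- Let R be a discrete valuation ring, p : X → Spec R a proper flat morphism and L an invertible
O_X-module. If the restriction L_0 of L to the closed fibre X_0 is nef (χ(O_C ⊗ L_0) - χ(O_C) ≥ 0
for every integral closed subscheme C ⊆ X_0 of dimension one, computed over the residue field), then
the restriction L_η to the generic fibre X_η is nef over the fraction field in the same sense. -/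
theorem result (R : Type u) [CommRing R] [IsDomain R]
    [IsDiscreteValuationRing R] (X : Scheme.{u}) (p : X ⟶ Spec (CommRingCat.of R)) [IsProper p] [Flat p]
    (L : X.Modules) (hL : PicF.IsInvertible L)
    (h0 : ∀ C : (p.fiber (IsLocalRing.closedPoint R)).IdealSheafData, IsIntegral C.subscheme →
        topologicalKrullDim (C.support : Set ↥(p.fiber (IsLocalRing.closedPoint R))) = 1 →
          0 ≤ @Curv2.euler ((Spec (CommRingCat.of R)).residueField (IsLocalRing.closedPoint R)) _ (p.fiber (IsLocalRing.closedPoint R)) ⟨p.fiberToSpecResidueField (IsLocalRing.closedPoint R)⟩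
                (CohB1.tensorMod (ClSub.quotMod C) ((Scheme.Modules.pullback (p.fiberι (IsLocalRing.closedPoint R))).obj L)) -
              @Curv2.euler ((Spec (CommRingCat.of R)).residueField (IsLocalRing.closedPoint R)) _ (p.fiber (IsLocalRing.closedPoint R)) ⟨p.fiberToSpecResidueField (IsLocalRing.closedPoint R)⟩ (ClSub.quotMod C)) :
    ∀ C' : (p.fiber (⟨⊥, Ideal.isPrime_bot⟩ : PrimeSpectrum R)).IdealSheafData, IsIntegral C'.subscheme →
        topologicalKrullDim (C'.support : Set ↥(p.fiber (⟨⊥, Ideal.isPrime_bot⟩ : PrimeSpectrum R))) = 1 →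
          0 ≤ @Curv2.euler ((Spec (CommRingCat.of R)).residueField (⟨⊥, Ideal.isPrime_bot⟩ : PrimeSpectrum R)) _ (p.fiber (⟨⊥, Ideal.isPrime_bot⟩ : PrimeSpectrum R)) ⟨p.fiberToSpecResidueField (⟨⊥, Ideal.isPrime_bot⟩ : PrimeSpectrum R)⟩
                (CohB1.tensorMod (ClSub.quotMod C') ((Scheme.Modules.pullback (p.fiberι (⟨⊥, Ideal.isPrime_bot⟩ : PrimeSpectrum R))).obj L)) -
              @Curv2.euler ((Spec (CommRingCat.of R)).residueField (⟨⊥, Ideal.isPrime_bot⟩ : PrimeSpectrum R)) _ (p.fiber (⟨⊥, Ideal.isPrime_bot⟩ : PrimeSpectrum R)) ⟨p.fiberToSpecResidueField (⟨⊥, Ideal.isPrime_bot⟩ : PrimeSpectrum R)⟩ (ClSub.quotMod C') := by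
  classical
  let c : Spec (CommRingCat.of R) := IsLocalRing.closedPoint R
  let η : Spec (CommRingCat.of R) := (⟨⊥, Ideal.isPrime_bot⟩ : PrimeSpectrum R)
  have hLc := Groth.L18.Ample.isInvertible_pullback (p.fiberι c) hL
  letI : (p.fiber c).Over (Spec (CommRingCat.of ((Spec (CommRingCat.of R)).residueField c))) :=
    ⟨p.fiberToSpecResidueField c⟩
  haveI : IsProper (p.fiber c ↘ Spec (CommRingCat.of ((Spec (CommRingCat.of R)).residueField c))) :=
    MorphismProperty.pullback_snd _ _ inferInstance
  have hnef : IsNef ((Spec (CommRingCat.of R)).residueField c) ((Scheme.Modules.pullback (p.fiberι c)).obj L) := by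
    refine ⟨hLc, fun y hy => ?_⟩
    haveI := Groth.L22.Inter.isIntegral_pt y
    rw [altT_one]
    have := h0 (pt y) inferInstance (by rw [Groth.L18.support_vanishingIdeal]; exact hy)
    exact sub_nonneg.2 (by exact_mod_cast sub_nonneg.1 this)
  intro C' hC' hdim
  haveI := hC'
  have hdimY : topologicalKrullDim ↥C'.subscheme ≤ (1 : ℕ) := by
    rw [IsHomeomorph.topologicalKrullDim_eq _ C'.subschemeι.isEmbedding.toHomeomorph.isHomeomorph,
      Scheme.IdealSheafData.range_subschemeι, hdim]
    rfl
  obtain ⟨Z, z, hz, hdz, heq⟩ := exists_flat_closure p hL η rfl C'.subschemeι hdimY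
  haveI := hz
  let K := (Spec (CommRingCat.of R)).residueField η
  letI : (p.fiber η).Over (Spec (CommRingCat.of K)) := ⟨p.fiberToSpecResidueField η⟩
  haveI : IsProper (p.fiber η ↘ Spec (CommRingCat.of K)) := MorphismProperty.pullback_snd _ _ inferInstance
  haveI : IsProper (p.fiberToSpecResidueField η) := MorphismProperty.pullback_snd _ _ inferInstance
  letI : C'.subscheme.Over (Spec (CommRingCat.of K)) := ⟨C'.subschemeι ≫ p.fiberToSpecResidueField η⟩
  haveI : IsProper (C'.subscheme ↘ Spec (CommRingCat.of K)) :=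
    inferInstanceAs (IsProper (C'.subschemeι ≫ p.fiberToSpecResidueField η))
  haveI := Groth.L21.RR.isNoetherian_of_proper (X := p.fiber η) K
  haveI := Groth.L21.RR.isNoetherian_of_proper (X := C'.subscheme) K
  haveI : (p.fiber η).IsSeparated := ⟨by
    rw [← terminal.comp_from (p.fiber η ↘ Spec (CommRingCat.of K))]; infer_instance⟩
  have hLη := Groth.L18.Ample.isInvertible_pullback (p.fiberι η) hL
  have hdeg : altT K (fun _ : Fin 1 => (Scheme.Modules.pullback (p.fiberι η)).obj L) (ClSub.quotMod C') =
      altT K (fun _ : Fin 1 => (Scheme.Modules.pullback C'.subschemeι).obj ((Scheme.Modules.pullback (p.fiberι η)).obj L))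
        (Coh.structureModule C'.subscheme) :=
    congrArg alt (funext fun n => twEuler_push K C'.subschemeι rfl (fun _ => hLη) (Coh.structureModule C'.subscheme)
      (Groth.L16.CohClosedPush.isCoh_structure).1 n)
  rw [altT_one, altT_one, euler_iso (k := K) (Groth.L00.Tensor.tensorUnitLeft _)] at hdeg
  have hZ : (0 : ℤ) ≤ PerfAux.eulerChar (z ≫ p) ((Scheme.Modules.pullback z).obj L) c -
      PerfAux.eulerChar (z ≫ p) (Coh.structureModule Z) c := by
    let κ := (Spec (CommRingCat.of R)).residueField c
    let f := z ≫ p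
    letI : (f.fiber c).Over (Spec (CommRingCat.of κ)) := ⟨f.fiberToSpecResidueField c⟩
    haveI : IsProper (f.fiber c ↘ Spec (CommRingCat.of κ)) := MorphismProperty.pullback_snd _ _ inferInstance
    haveI := Groth.L21.RR.isNoetherian_of_proper (X := f.fiber c) κ
    let q : f.fiber c ⟶ p.fiber c := pullback.map f _ p _ z (𝟙 _) (𝟙 _) (by simp [f]) (by simp)
    have hq : q ≫ p.fiberι c = f.fiberι c ≫ z := pullback.lift_fst _ _ _
    have hqs : q ≫ (p.fiber c ↘ Spec (CommRingCat.of κ)) = f.fiber c ↘ Spec (CommRingCat.of κ) :=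
      (pullback.lift_snd _ _ _).trans (Category.comp_id _)
    let ε : (Scheme.Modules.pullback q).obj ((Scheme.Modules.pullback (p.fiberι c)).obj L) ≅
        (Scheme.Modules.pullback (f.fiberι c)).obj ((Scheme.Modules.pullback z).obj L) :=
      (Scheme.Modules.pullbackComp q _).app L ≪≫ (Scheme.Modules.pullbackCongr hq).app L ≪≫
        ((Scheme.Modules.pullbackComp (f.fiberι c) z).app L).symm
    have hn := (hnef.pullback' q hqs).of_iso ε
    have h1 : (0 : ℚ) ≤ altT κ (fun _ : Fin 1 => (Scheme.Modules.pullback (f.fiberι c)).obj ((Scheme.Modules.pullback z).obj L))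
        (Coh.structureModule (f.fiber c)) :=
      altT_nonneg_proper (fun _ => hn) Groth.L16.CohClosedPush.isCoh_structure
        ((Groth.L22.Nakai.dim_support_structure _).le.trans hdz)
    rw [altT_one, euler_iso (k := κ) (Groth.L00.Tensor.tensorUnitLeft _)] at h1
    rw [eulerChar_eq, eulerChar_eq, euler_iso (k := κ) (Groth.L29.LocFree.pullbackUnitIso (f.fiberι c))]
    exact sub_nonneg.2 (by exact_mod_cast sub_nonneg.1 h1)
  rw [← heq] at hZ
  have h2 : (0 : ℚ) ≤ (Curv2.euler K (p.fiber η) (CohB1.tensorMod (ClSub.quotMod C') ((Scheme.Modules.pullback (p.fiberι η)).obj L)) : ℚ) -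
      Curv2.euler K (p.fiber η) (ClSub.quotMod C') := by
    rw [hdeg]; exact_mod_cast hZ
  exact sub_nonneg.2 (by exact_mod_cast sub_nonneg.1 h2)

end Groth.Agent.S16714
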