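import Groth.Statements.S16718
import Groth.Agent.L08.InvFinite

set_option autoImplicit false
universe u v w
open TensorProduct
open GLin

namespace Groth.Agent.S16718

/-- Let k be a field, A a finitely generated commutative Hopf algebra over k (an affine algebraic group
G), R a finitely generated commutative k-algebra carrying an A-comodule structure whose coaction is
an algebra homomorphism (an action of G on X = Spec R), and I an ideal of R which is a subcomodule
(a G-invariant closed subscheme Z of X). Then there is a finite-dimensional subcomodule W of R with
W ⊆ I generating I as an ideal; equivalently there is a G-equivariant morphism f from X to the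
affine space of a finite-dimensional G-representation with f⁻¹(0) = Z as closed subschemes. -/
theorem result (k : Type u) [Field k]
    (A : Type v) [CommRing A] [HopfAlgebra k A] (hA : Algebra.FiniteType k A)
    (R : Type w) [CommRing R] [Algebra k R] [HopfRep.Comod k A R] [GLin.IsCoactAlg k A R]
    (hR : Algebra.FiniteType k R) (I : Ideal R)
    (hI : HopfRep.IsSubcomod (k := k) (A := A) (I.restrictScalars k)) :
    ∃ W : Submodule k R, Module.Finite k W ∧ HopfRep.IsSubcomod (k := k) (A := A) W ∧
      W ≤ I.restrictScalars k ∧ Ideal.span (W : Set R) = I := by
  haveI : IsNoetherianRing R := Algebra.FiniteType.isNoetherianRing k R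
  exact L08.exists_finite_subcomod_span_eq I hI

end Groth.Agent.S16718
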