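import Groth.Statements.S1672
import Groth.Agent.L21.CurveAdj.NoTail

set_option autoImplicit false
set_option backward.isDefEq.respectTransparency false
universe u
open CategoryTheory CategoryTheory.Limits AlgebraicGeometry
attribute [local instance] HasDerivedCategory.standard
open Curves

namespace Groth.Agent.S1672

/-- Let X be proper of dimension one over k with global functions k, at-worst-nodal singularities and no
rational tail, and ω_X its dualizing module (as in the other rows: via f^! O, assuming Rf_* on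
D_QCoh and its right adjoint exist). Then for every reduced connected closed subscheme Y ≠ X of
dimension one, deg(ω_X|_Y) ≥ dim_k H^1(Y, O_Y) (computed as H^1(X, i_* O_Y) = H^1(X, O_X/J)). -/
theorem result (k : Type u) [Field k] (X : Scheme.{u}) [X.Over (Spec (CommRingCat.of k))] [IsProper (X ↘ (Spec (CommRingCat.of k)))] (hdim : topologicalKrullDim X = 1)
    (h0 : Module.finrank k (Coh.HH X (Coh.structureModule X) 0) = 1) (hX : Curv2.AtWorstNodal k X) (hnt : ∀ (C : Set X) (hC : C ∈ irreducibleComponents (X : Type u)), ¬ Curv2.IsRationalTail X C hC)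
    [DCoh.HasRpush (X ↘ (Spec (CommRingCat.of k)))] (h : DCoh.RpushPreservesQCoh (X ↘ (Spec (CommRingCat.of k)))) [DCoh.HasShriek (X ↘ (Spec (CommRingCat.of k))) h]
    (OY : DCoh.DQCoh (Spec (CommRingCat.of k))) (hOY : Nonempty (OY.obj ≅ DCoh.inD (Spec (CommRingCat.of k)) (Coh.structureModule (Spec (CommRingCat.of k)))))
    (J : X.IdealSheafData) [IsReduced J.subscheme] [ConnectedSpace J.subscheme]
    (hJ1 : topologicalKrullDim J.subscheme = 1) (hJne : J ≠ ⊥) :
    (Module.finrank k (Coh.HH X (ClSub.quotMod J) 1) : ℤ) ≤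
      @Curv2.deg k _ J.subscheme ⟨J.subschemeι ≫ (X ↘ (Spec (CommRingCat.of k)))⟩ ((Scheme.Modules.pullback J.subschemeι).obj (DCoh.dualizingMod (X ↘ (Spec (CommRingCat.of k))) h OY 1)) 1 := by
  haveI : IsProper (X ↘ Spec (CommRingCat.of k)) := inferInstance
  obtain ⟨hconn, hred, hgen, hsetup⟩ := Groth.L21.CurveAdj.nodal_setup (k := k) hdim h0 hX
  obtain ⟨t, ht⟩ := Groth.L21.CurveDual.exists_isRDual k hdim.le h OY hOY
  obtain ⟨S, hinv⟩ := hsetup _ t ht
  haveI := hred
  haveI := hconn
  haveI := Groth.L21.RR.isNoetherian_of_proper (X := X) k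
  haveI : IsLocallyNoetherian J.subscheme := LocallyOfFiniteType.isLocallyNoetherian J.subschemeι
  have hgenJ : ∀ y ∈ (J.support : Set X), ∃ w ∈ (J.support : Set X), ¬ IsClosed ({w} : Set X) ∧ w ⤳ y := by
    intro y hy
    rw [← Scheme.IdealSheafData.range_subschemeι] at hy
    obtain ⟨z, rfl⟩ := hy
    obtain ⟨w, hw, hwz⟩ := Groth.L21.CurveDual.exists_nonclosed_gen hJ1 z
    refine ⟨J.subschemeι w, ?_, fun hc => hw ?_, hwz.map J.subschemeι.continuous⟩
    · rw [← Scheme.IdealSheafData.range_subschemeι]; exact ⟨w, rfl⟩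
    · have := hc.preimage J.subschemeι.continuous
      rwa [← Set.image_singleton (f := J.subschemeι),
        Set.preimage_image_eq _ J.subschemeι.isClosedEmbedding.injective] at this
  refine Groth.L21.CurveAdj.genus_le_deg S hgen hinv hnt J hgenJ fun huniv => hJne ?_
  exact Scheme.IdealSheafData.support_eq_top_iff.1 (SetLike.coe_injective huniv)

end Groth.Agent.S1672
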