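import Groth.Statements.S16720
import Groth.Agent.L09.Gerbe.Main
-- import your own Groth.Agent.* helpers here

set_option autoImplicit false
universe u
open Gerb

namespace Groth.Agent.S16720

open CategoryTheory AlgebraicGeometry in
/-- Let `S` be a scheme and `f : 𝒳 ⟶ 𝒴` a morphism of algebraic stacks over `(Sch/S)` (fppf topology).
If `𝒳` is a gerbe over `𝒴` along `f` (objects of `𝒴` lift to `𝒳` fppf-locally on their base scheme,
and every morphism between images of objects of `𝒳` lying over an identity lifts fppf-locally to a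
pair of morphisms out of a common object of `𝒳`), then `f` is surjective on points and smooth,
smoothness being read on one smooth chart square. -/
theorem result (S : Scheme.{u}) (𝒳 𝒴 : AlgSt.Cat S)
    (h𝒳 : AlgSt.IsAlgStack Scheme.fppfPrecoverage 𝒳) (h𝒴 : AlgSt.IsAlgStack Scheme.fppfPrecoverage 𝒴)
    (f : 𝒳 ⥤ᵇ 𝒴) (hf : Gerb.IsGerbeOver (QuotSh.J Scheme.fppfPrecoverage S) f) :
    AlgSt.IsSurjective f ∧ AlgSt.LocQ (AlgSp.LocP @Smooth) f :=
  ⟨Groth.L09.Gerbe.isSurjective_of_gerbe h𝒳 hf, Groth.L09.Gerbe.locQ_smooth_of_gerbe h𝒳 h𝒴 hf⟩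

end Groth.Agent.S16720
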