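import Groth.Statements.S16731
import Groth.Agent.L21.CurveAdj.RatComp

set_option autoImplicit false
set_option backward.isDefEq.respectTransparency false
set_option backward.isDefEq.respectTransparency.types false
universe u
open CurvSt

namespace Groth.Agent.S16731

open CategoryTheory CategoryTheory.Limits AlgebraicGeometry in
/-- Let k be an algebraically closed field and X a proper connected scheme over k of dimension one with
at-worst-nodal singularities. For a natural number g the following are equivalent: (i) X, with no
marked points, is a stable curve of genus g in the component form — dim H^1(X, O_X) = g, every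
irreducible component which is a smooth rational curve (the image of a closed immersion of the
projective line) contains at least three points lying on other components, and 2g ≥ 3; (ii) dim
H^1(X, O_X) = g with g ≥ 2, and no irreducible component of X is a rational tail or a rational
bridge. (With no marked points the published statement excludes only genus one; it fails for the
projective line, which has genus zero, no rational tail and no rational bridge, and is not stable,
so genus at least two is required in (ii) here — exactly what the inequality 2g ≥ 3 of (i) forces.) -/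
theorem result (k : Type u) [Field k] [IsAlgClosed k] (X : Scheme.{u})
    [X.Over (Spec (CommRingCat.of k))] [IsProper (X ↘ Spec (CommRingCat.of k))] [ConnectedSpace X]
    (hdim : topologicalKrullDim X = 1) (hX : Curv2.AtWorstNodal k X) (g : ℕ) :
    CurvSt.IsStablePtd k X (X ↘ Spec (CommRingCat.of k)) g (Fin.elim0 : Fin 0 → X) ↔
      (Curv2.genus k X = g ∧ 2 ≤ g ∧
        (∀ (C : Set X) (hC : C ∈ irreducibleComponents (X : Type u)), ¬ Curv2.IsRationalTail X C hC) ∧
        (∀ (C : Set X) (hC : C ∈ irreducibleComponents (X : Type u)), ¬ Curv2.IsRationalBridge k X C hC)) := by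
  haveI : IsProper (X ↘ Spec (CommRingCat.of k)) := inferInstance
  haveI := Groth.L21.RR.isNoetherian_of_proper (X := X) k
  obtain ⟨hred, hgen⟩ := Groth.L21.CurveAdj.isReduced_of_nodal (k := k) hdim hX
  haveI := hred
  have hd := hdim.le
  constructor
  · rintro ⟨-, -, -, ⟨-, hgen'⟩, -, -, hcomp, hg2⟩
    have key : ∀ (C : Set X), CurvSt.IsSmRatComp k X (X ↘ Spec (CommRingCat.of k)) C →
        3 ≤ (CurvSt.meetPts X C).ncard := fun C hC => by
      have h3 := hcomp C hC
      obtain ⟨hfin, -⟩ := Groth.L21.CurveAdj.card_meetPts hd hgen hX C hC.1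
      rw [← hfin.cast_ncard_eq] at h3
      rw [Nat.card_of_isEmpty, Nat.cast_zero, add_zero] at h3
      exact_mod_cast h3
    refine ⟨hgen', by omega, fun C hC hT => ?_, fun C hC hB => ?_⟩
    · obtain ⟨hsm, hc⟩ := (Groth.L21.CurveAdj.tail_bridge_iff hd hgen hX C hC).1.1 hT
      have := key C hsm
      omega
    · obtain ⟨hsm, hc⟩ := (Groth.L21.CurveAdj.tail_bridge_iff hd hgen hX C hC).2.1 hB
      have := key C hsm
      omega
  · rintro ⟨hgen', hg2, hnT, hnB⟩
    refine ⟨inferInstance, inferInstance, hdim, ⟨hX, hgen'⟩, fun i => i.elim0, fun i => i.elim0, fun C hC => ?_,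
      by omega⟩
    obtain ⟨hfin, -⟩ := Groth.L21.CurveAdj.card_meetPts hd hgen hX C hC.1
    have h0 := Groth.L21.CurveAdj.meetPts_nonempty hd hgen C hC.1 hC (by omega)
    have hpos : 0 < (CurvSt.meetPts X C).ncard := (Set.ncard_pos hfin).2 h0
    have h1 : (CurvSt.meetPts X C).ncard ≠ 1 := fun h =>
      hnT C hC.1 ((Groth.L21.CurveAdj.tail_bridge_iff hd hgen hX C hC.1).1.2 ⟨hC, h⟩)
    have h2 : (CurvSt.meetPts X C).ncard ≠ 2 := fun h =>
      hnB C hC.1 ((Groth.L21.CurveAdj.tail_bridge_iff hd hgen hX C hC.1).2.2 ⟨hC, h⟩)
    refine le_trans ?_ le_self_add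
    rw [← hfin.cast_ncard_eq]
    exact_mod_cast (by omega : 3 ≤ (CurvSt.meetPts X C).ncard)

end Groth.Agent.S16731
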