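import Groth.Statements.S16737
import Mathlib.RingTheory.Kaehler.Polynomial
import Mathlib.Algebra.MvPolynomial.Expand
import Mathlib.Algebra.MvPolynomial.PDeriv
import Mathlib.Algebra.CharP.Basic
import Mathlib.Algebra.CharP.Invertible

set_option autoImplicit false
universe u v
open DeRham

namespace Groth.Agent.S16737

/-- The case of affine space over an affine base of characteristic p, in degree zero. Let p be a prime
and R a commutative ring with p = 0 in R. For a polynomial f over R in any set of variables t_i, the
Kähler differential df in Ω_{R[t]/R} vanishes if and only if f is a polynomial in the p-th powers of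
the variables, f = g(t_i^p). Equivalently, the functions on affine space over R killed by the
differential of the de Rham complex are exactly the functions on its Frobenius twist. (The published
computation is for finitely many variables over a noetherian base of characteristic p; the statement
here allows any commutative ring with p = 0 and any set of variables.) -/
theorem result (p : ℕ) [Fact p.Prime]
    (R : Type u) [CommRing R] [CharP R p] (σ : Type v) (f : MvPolynomial σ R) :
    KaehlerDifferential.D R (MvPolynomial σ R) f = 0 ↔
      ∃ g : MvPolynomial σ R, f = MvPolynomial.expand p g := by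
  classical
  have hp : p.Prime := Fact.out
  have hD : KaehlerDifferential.D R (MvPolynomial σ R) f = 0 ↔ ∀ i, MvPolynomial.pderiv i f = 0 := by
    rw [← (KaehlerDifferential.mvPolynomialBasis R σ).repr.map_eq_zero_iff, Finsupp.ext_iff]
    simp only [KaehlerDifferential.mvPolynomialBasis_repr_apply, Finsupp.coe_zero, Pi.zero_apply]
  rw [hD]
  constructor
  · intro h
    have hdvd : ∀ m ∈ f.support, ∀ i, p ∣ m i := by
      intro m hm i
      by_contra hnd
      have hmi : 1 ≤ m i := Nat.pos_of_ne_zero fun h0 => hnd (h0 ▸ dvd_zero p)
      have h1 := congrArg (MvPolynomial.coeff (m - Finsupp.single i 1)) (h i)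
      rw [MvPolynomial.coeff_pderiv, MvPolynomial.coeff_zero,
        tsub_add_cancel_of_le (Finsupp.single_le_iff.mpr hmi), Finsupp.tsub_apply, Finsupp.single_eq_same,
        ← Nat.cast_add_one, Nat.sub_add_cancel hmi] at h1
      have hu : IsUnit ((m i : ℕ) : R) :=
        (CharP.isUnit_natCast_iff hp).mpr hnd
      exact MvPolynomial.mem_support_iff.mp hm (hu.mul_left_eq_zero.mp h1)
    refine ⟨∑ m ∈ f.support, MvPolynomial.monomial (m.mapRange (· / p) (Nat.zero_div p)) (f.coeff m), ?_⟩
    conv_lhs => rw [f.as_sum]
    rw [map_sum]
    refine Finset.sum_congr rfl fun m hm => ?_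
    rw [MvPolynomial.expand_monomial]
    congr 2
    ext i
    rw [Finsupp.coe_smul, Pi.smul_apply, Finsupp.mapRange_apply, smul_eq_mul, Nat.mul_div_cancel' (hdvd m hm i)]
  · rintro ⟨g, rfl⟩ i
    ext m
    rw [MvPolynomial.coeff_pderiv, MvPolynomial.coeff_zero]
    by_cases h : p ∣ (m + Finsupp.single i 1 : σ →₀ ℕ) i
    · rw [Finsupp.add_apply, Finsupp.single_eq_same] at h
      rw [← Nat.cast_add_one, (CharP.cast_eq_zero_iff R p _).mpr h, mul_zero]
    · rw [MvPolynomial.coeff_expand_of_not_dvd g h, zero_mul]

end Groth.Agent.S16737
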