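import Groth.Statements.S16742
import Groth.Agent.L01.SqZeroFlat
import Mathlib.RingTheory.Flat.EquationalCriterion
import Mathlib.Data.ZMod.Basic
import Mathlib.RingTheory.Ideal.Maps

set_option autoImplicit false
universe u
open CAlg
open scoped TensorProduct

namespace Groth.Agent.S16742

/-- The equivalence in affine form, with flatness of the reduction in place of smoothness. Let p be a
prime, A~ a commutative ring flat over Z/p^2 and B~ an A~-algebra such that B~/pB~ is flat over
A~/pA~. Then B~ is flat over A~ if and only if every element of B~ killed by p is a multiple of p;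
equivalently multiplication by p identifies B~/pB~ with pB~. (The published statement assumes the
reduction smooth over A~/pA~ and the schemes noetherian, and phrases (b) as B~ being a lifting, that
is flat over A~; the statement here assumes only that the reduction is flat, where the equivalence
still holds by the local flatness criterion for the square-zero ideal generated by p.) -/
theorem result (p : ℕ) [Fact p.Prime]
    (Al : Type u) [CommRing Al] [Algebra (ZMod (p ^ 2)) Al] [Module.Flat (ZMod (p ^ 2)) Al]
    (Bl : Type u) [CommRing Bl] [Algebra Al Bl]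
    (hB : Module.Flat (Al ⧸ Ideal.span {(p : Al)})
      (Bl ⧸ (Ideal.span {(p : Al)}).map (algebraMap Al Bl))) :
    Module.Flat Al Bl ↔ ∀ b : Bl, (p : Bl) * b = 0 → b ∈ Ideal.span {(p : Bl)} := by
  have key : ∀ (R : Type u) [CommRing R] (M : Type u) [AddCommGroup M] [Module R M] [Module.Flat R M] (c : R),
      (∀ a : R, c * a = 0 → a ∈ Ideal.span {c}) → ∀ m : M, c • m = 0 → ∃ m', m = c • m' := by
    intro R _ M _ _ _ c hc m hm
    obtain ⟨k, a, y, hx, ha⟩ := Module.Flat.isTrivialRelation_of_sum_smul_eq_zero (ι := PUnit.{1}) (f := fun _ => c) (x := fun _ => m) (by simpa using hm)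
    have h : ∀ j, ∃ d, d * c = a PUnit.unit j := fun j => Ideal.mem_span_singleton'.mp (hc _ (by simpa using ha j))
    choose d hd using h
    refine ⟨∑ j, d j • y j, ?_⟩
    have hx' : m = ∑ j, a PUnit.unit j • y j := hx PUnit.unit
    rw [hx', Finset.smul_sum]
    exact Finset.sum_congr rfl fun j _ => by rw [smul_smul, mul_comm, hd]
  have hp2 : ((p : ZMod (p ^ 2))) * p = 0 := by
    rw [← Nat.cast_mul, ← pow_two, ZMod.natCast_self]
  have hp2A : ((p : Al)) * p = 0 := by
    simpa using congrArg (algebraMap (ZMod (p ^ 2)) Al) hp2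
  have hAl : ∀ a : Al, (p : Al) * a = 0 → a ∈ Ideal.span {(p : Al)} := by
    intro a ha
    obtain ⟨k, c, y, hx, hc⟩ := Module.Flat.isTrivialRelation_of_sum_smul_eq_zero (R := ZMod (p ^ 2)) (ι := PUnit.{1})
      (f := fun _ => (p : ZMod (p ^ 2))) (x := fun _ => a) (by simpa [Algebra.smul_def] using ha)
    have hx' : a = ∑ j, c PUnit.unit j • y j := hx PUnit.unit
    rw [hx']
    refine Submodule.sum_mem _ fun j _ => ?_
    have h := hc j
    haveI : NeZero (p ^ 2) := ⟨pow_ne_zero 2 (Fact.out : p.Prime).ne_zero⟩
    have h1 : ((p * (c PUnit.unit j).val : ℕ) : ZMod (p ^ 2)) = 0 := by simpa using h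
    rw [ZMod.natCast_eq_zero_iff] at h1
    obtain ⟨d, hd'⟩ := h1
    have hd : (c PUnit.unit j).val = p * d := Nat.eq_of_mul_eq_mul_left (Fact.out : p.Prime).pos (hd'.trans (by ring))
    rw [Algebra.smul_def, ← ZMod.natCast_zmod_val (c PUnit.unit j), hd, Nat.cast_mul, map_mul, map_natCast, mul_assoc]
    exact Ideal.mul_mem_right _ _ (Ideal.mem_span_singleton_self _)
  constructor
  · intro hflat b hb
    obtain ⟨m, hm⟩ := key Al Bl (p : Al) hAl b (by rw [Algebra.smul_def, map_natCast]; exact hb)
    rw [hm, Algebra.smul_def, map_natCast]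
    exact Ideal.mul_mem_right _ _ (Ideal.mem_span_singleton_self _)
  · intro hB'
    set I : Ideal Al := Ideal.span {(p : Al)} with hI
    let e1 : ((Al ⧸ I) ⊗[Al] Bl) ≃ₗ[Al] Bl ⧸ (I.map (algebraMap Al Bl)) :=
      (TensorProduct.quotTensorEquivQuotSMul Bl I).trans
        ((Submodule.quotEquivOfEq _ _ (Ideal.smul_top_eq_map I)).trans
          (Submodule.Quotient.restrictScalarsEquiv Al (I.map (algebraMap Al Bl))))
    haveI : Module.Flat (Al ⧸ I) ((Al ⧸ I) ⊗[Al] Bl) :=
      Module.Flat.of_linearEquiv (e1.extendScalarsOfSurjective Ideal.Quotient.mk_surjective)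
    have hII : I * I = ⊥ := by
      rw [hI, Ideal.span_singleton_mul_span_singleton, hp2A, Ideal.span_singleton_eq_bot]
    refine Groth.L01.SqZeroFlat.flat I hII ?_
    let π : I := ⟨(p : Al), Ideal.mem_span_singleton_self _⟩
    have hform : ∀ z : I ⊗[Al] Bl, ∃ b, z = π ⊗ₜ b := by
      intro z
      induction z using TensorProduct.induction_on with
      | zero => exact ⟨0, (TensorProduct.tmul_zero _ _).symm⟩
      | tmul i b =>
        obtain ⟨c, hc⟩ := Ideal.mem_span_singleton'.mp i.2
        refine ⟨c • b, ?_⟩
        rw [← TensorProduct.smul_tmul]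
        congr 1
        exact Subtype.ext hc.symm
      | add x y hx hy =>
        obtain ⟨bx, rfl⟩ := hx
        obtain ⟨b2, rfl⟩ := hy
        exact ⟨bx + b2, (TensorProduct.tmul_add _ _ _).symm⟩
    rw [injective_iff_map_eq_zero]
    intro z hz
    obtain ⟨b, rfl⟩ := hform z
    have hb : (p : Bl) * b = 0 := by
      have h := congrArg (TensorProduct.lid Al Bl) hz
      simpa [π, Algebra.smul_def] using h
    obtain ⟨b', hb''⟩ := Ideal.mem_span_singleton'.mp (hB' b hb)
    have hbeq : b = (p : Al) • b' := by rw [Algebra.smul_def, map_natCast, mul_comm]; exact hb''.symm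
    rw [hbeq, ← TensorProduct.smul_tmul, show (p : Al) • π = 0 from Subtype.ext hp2A, TensorProduct.zero_tmul]

end Groth.Agent.S16742
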