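import Groth.Statements.S16744
import Groth.Agent.L06.LogCartier.Main

set_option autoImplicit false
set_option maxSynthPendingDepth 3
set_option linter.style.haveILetI false
universe u
open DeRham

namespace Groth.Agent.S16744

open exteriorPower in
/-- The case of affine n-space over an affine base of characteristic p with boundary divisor t_1⋯t_r =
0, all degrees. Let p be a prime, R a commutative ring with p = 0 in R, B = R[t_1, …, t_n] and r ≤
n. Let (L, ι, dl) be the module of differentials of B over R with logarithmic poles along t_1, …,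
t_r, pinned by its defining properties (t_i · dl_i = ι(dt_i); ι(Ω_{B/R}) and the dl_i generate; no
(t_1⋯t_r)-torsion; the kernel of ι is the (t_1⋯t_r)-power torsion), and let d be the logarithmic de
Rham differential on the exterior powers of L (the de Rham rule for ι ∘ d together with d(dl_i) = 0,
and d ∘ d = 0). Put w_ν = dl_ν for ν < r and w_ν = ι(t_ν^{p-1} dt_ν) for ν ≥ r (indices from 0), and
for an a-element set s of indices let e_s be the wedge of the w_ν, ν ∈ s, in increasing order. Then
an a-form with logarithmic poles is closed exactly when it is an exact form plus a combination Σ_s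
g_s(t_1^p, …, t_n^p) · e_s with coefficients polynomials in the p-th powers of the variables, and
such a combination is exact only if every g_s vanishes: the a-th cohomology of the logarithmic de
Rham complex of affine n-space is free over R[t_1^p, …, t_n^p] on the classes of the e_s. -/
theorem result (p : ℕ) [Fact p.Prime]
    (R : Type u) [CommRing R] [CharP R p] (n r a : ℕ) (hr : r ≤ n)
    (L : Type u) [AddCommGroup L] [Module (MvPolynomial (Fin n) R) L] [Module R L]
    [IsScalarTower R (MvPolynomial (Fin n) R) L]
    (ι : (Ω[MvPolynomial (Fin n) R⁄R]) →ₗ[MvPolynomial (Fin n) R] L) (dl : Fin r → L)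
    (hL : LogDiff.IsLog (KaehlerDifferential.D R (MvPolynomial (Fin n) R))
      (fun i : Fin r => (MvPolynomial.X (Fin.castLE hr i) : MvPolynomial (Fin n) R)) ι dl)
    (d : ∀ q : ℕ, ↥(⋀[MvPolynomial (Fin n) R]^q L) →ₗ[R] ↥(⋀[MvPolynomial (Fin n) R]^(q + 1) L))
    (hd : DeRham.IsDiff (ι.compDer (KaehlerDifferential.D R (MvPolynomial (Fin n) R))) d)
    (hlog : LogDiff.IsLogRule (KaehlerDifferential.D R (MvPolynomial (Fin n) R)) ι dl d)
    (w : Fin n → L) (hw : ∀ i : Fin r, w (Fin.castLE hr i) = dl i)
    (hw' : ∀ ν : Fin n, r ≤ (ν : ℕ) → w ν = ι (((MvPolynomial.X ν : MvPolynomial (Fin n) R) ^ (p - 1)) •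
      KaehlerDifferential.D R (MvPolynomial (Fin n) R) (MvPolynomial.X ν)))
    (e : Finset (Fin n) → ↥(⋀[MvPolynomial (Fin n) R]^a L))
    (he : ∀ (s : Finset (Fin n)) (hs : s.card = a),
      e s = exteriorPower.ιMulti (MvPolynomial (Fin n) R) a (fun j => w (s.orderEmbOfFin hs j))) :
    (∀ ω, ω ∈ DeRham.cocycles d a ↔
      ∃ (g : Finset (Fin n) → MvPolynomial (Fin n) R) (η : ↥(⋀[MvPolynomial (Fin n) R]^a L)),
        η ∈ DeRham.coboundaries d a ∧
          ω = η + ∑ s ∈ Finset.powersetCard a Finset.univ, MvPolynomial.expand p (g s) • e s) ∧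
    (∀ g : Finset (Fin n) → MvPolynomial (Fin n) R,
      (∑ s ∈ Finset.powersetCard a Finset.univ, MvPolynomial.expand p (g s) • e s) ∈ DeRham.coboundaries d a →
        ∀ s ∈ Finset.powersetCard a (Finset.univ : Finset (Fin n)), g s = 0) := by
  exact Groth.L06.LogCartier.cocycles_iff_and_independent (p := p) hr ι dl a hL hd hlog w hw hw' e he

end Groth.Agent.S16744
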