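import Groth.Statements.S1675
import Groth.Agent.L21.CurveAdj.Components
import Groth.Agent.S7642

set_option autoImplicit false
set_option backward.isDefEq.respectTransparency false
universe u
open CategoryTheory CategoryTheory.Limits AlgebraicGeometry
attribute [local instance] HasDerivedCategory.standard
open Curves

namespace Groth.Agent.S1675

/-- Let X be proper of dimension one over k with global functions k and at-worst-nodal singularities, of
genus g ≥ 2, with no rational tail and no rational bridge, and let ω_X be its dualizing module (via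
f^! O, assuming Rf_* on D_QCoh and its right adjoint exist). Then ω_X is ample. -/
theorem result (k : Type u) [Field k] (X : Scheme.{u}) [X.Over (Spec (CommRingCat.of k))] [IsProper (X ↘ (Spec (CommRingCat.of k)))] (hdim : topologicalKrullDim X = 1)
    (h0 : Module.finrank k (Coh.HH X (Coh.structureModule X) 0) = 1) (hX : Curv2.AtWorstNodal k X) (hnt : ∀ (C : Set X) (hC : C ∈ irreducibleComponents (X : Type u)), ¬ Curv2.IsRationalTail X C hC)
    (hnb : ∀ (C : Set X) (hC : C ∈ irreducibleComponents (X : Type u)), ¬ Curv2.IsRationalBridge k X C hC) (hg : 2 ≤ Curv2.genus k X)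
    [DCoh.HasRpush (X ↘ (Spec (CommRingCat.of k)))] (h : DCoh.RpushPreservesQCoh (X ↘ (Spec (CommRingCat.of k)))) [DCoh.HasShriek (X ↘ (Spec (CommRingCat.of k))) h]
    (OY : DCoh.DQCoh (Spec (CommRingCat.of k))) (hOY : Nonempty (OY.obj ≅ DCoh.inD (Spec (CommRingCat.of k)) (Coh.structureModule (Spec (CommRingCat.of k))))) :
    CohB1.IsAmple (DCoh.dualizingMod (X ↘ (Spec (CommRingCat.of k))) h OY 1) := by
  haveI : IsProper (X ↘ Spec (CommRingCat.of k)) := inferInstance
  obtain ⟨hconn, hred, hgen, hsetup⟩ := Groth.L21.CurveAdj.nodal_setup (k := k) hdim h0 hX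
  obtain ⟨t, ht⟩ := Groth.L21.CurveDual.exists_isRDual k hdim.le h OY hOY
  obtain ⟨S, hinv⟩ := hsetup _ t ht

  haveI := hconn
  haveI := hred
  haveI := Groth.L21.RR.isNoetherian_of_proper (X := X) k
  refine (Groth.Agent.S7642.result k X hdim.le _ hinv).2 fun C hC _ => ?_
  suffices key : ∀ J : X.IdealSheafData, J = Groth.L21.CurveAdj.IC C hC →
      0 < @Curv2.deg k _ J.subscheme ⟨J.subschemeι ≫ (X ↘ (Spec (CommRingCat.of k)))⟩
        ((Scheme.Modules.pullback J.subschemeι).obj (DCoh.dualizingMod (X ↘ (Spec (CommRingCat.of k))) h OY 1)) 1 from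
    key _ (Groth.L21.CurveAdj.radical_irreducibleComponentIdeal C hC)
  rintro J rfl
  obtain ⟨hredC, hconnC, hgenC⟩ := Groth.L21.CurveAdj.component hgen C hC
  haveI := hredC
  haveI := hconnC
  letI : (Groth.L21.CurveAdj.IC C hC).subscheme.Over (Spec (CommRingCat.of k)) :=
    ⟨(Groth.L21.CurveAdj.IC C hC).subschemeι ≫ (X ↘ (Spec (CommRingCat.of k)))⟩
  obtain ⟨d, a, m, ⟨-, hYa, -, hdeg⟩, hd, ha, hm, hdpos, ⟨a', ha'⟩, ⟨m', hm'⟩, hmpos, hcne, htail⟩ :=
    Groth.L21.CurveAdj.subcurve S hgen hinv (Groth.L21.CurveAdj.IC C hC) hgenC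
  rw [hdeg]
  by_cases hu : C = Set.univ
  · have hsupp : ((Groth.L21.CurveAdj.IC C hC).support : Set X) = Set.univ := by
      rw [Groth.L21.CurveAdj.coe_support_IC, hu]
    have hV := Groth.L21.CurveAdj.van_of_isReduced S.hd _ hgenC
    have e0 := Groth.L21.CurveAdj.h_quotMod_of_univ (k := k) S.hd hgen _ hV hsupp 0
    have e1 := Groth.L21.CurveAdj.h_quotMod_of_univ (k := k) S.hd hgen _ hV hsupp 1
    rw [hd] at e0
    rw [ha] at e1
    have hg' : 2 ≤ a := e1.symm ▸ hg
    have hd1 : d = 1 := e0.trans h0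
    omega
  have hne := hcne (by rw [Groth.L21.CurveAdj.coe_support_IC]; exact hu)
  have hmp := hmpos hne
  by_cases ha0 : a' = 0
  · rw [ha0, mul_zero] at ha'
    subst ha'
    have hh1 : Subsingleton (Coh.HH (Groth.L21.CurveAdj.IC C hC).subscheme
        (Coh.structureModule (Groth.L21.CurveAdj.IC C hC).subscheme) 1) := by
      haveI : IsProper ((Groth.L21.CurveAdj.IC C hC).subscheme ↘ Spec (CommRingCat.of k)) :=
        inferInstanceAs (IsProper ((Groth.L21.CurveAdj.IC C hC).subschemeι ≫ (X ↘ Spec (CommRingCat.of k))))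
      haveI := Groth.L21.RR.isNoetherian_of_proper (X := (Groth.L21.CurveAdj.IC C hC).subscheme) k
      haveI : Module.Finite k (Coh.HH (Groth.L21.CurveAdj.IC C hC).subscheme
          (Coh.structureModule (Groth.L21.CurveAdj.IC C hC).subscheme) 1) :=
        Groth.L21.RR.finite_HH' (X := (Groth.L21.CurveAdj.IC C hC).subscheme) k
          Groth.L16.CohClosedPush.isCoh_structure 1
      exact Module.finrank_zero_iff.1 hYa
    rw [Groth.L21.CurveAdj.compl_IC C hC] at hne hm
    have hm2 : m ≠ 2 * d := fun hm2 => hnb C hC ⟨hne, by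
      change Groth.L21.RR.h k 0 (ClSub.quotMod (Groth.L21.CurveAdj.IC C hC ⊔ Groth.L21.CurveAdj.IX' C hC)) =
        2 * Groth.L21.RR.h k 0 (ClSub.quotMod (Groth.L21.CurveAdj.IC C hC))
      rw [hm, hd, hm2], hh1⟩
    have hm1 : m ≠ d := fun hm1 => hnt C hC (by
      obtain ⟨hN, hS, hR, hev⟩ := htail hm1
      revert hN hS hR hev
      rw [Groth.L21.CurveAdj.compl_IC C hC]
      exact fun hN hS hR hev => ⟨hne, hN, hS, hR, hev, hh1⟩)
    have h3 : 3 * d ≤ m := by
      rw [hm'] at hm1 hm2 hmp ⊢
      have : 3 ≤ m' := by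
        rcases m' with _ | _ | _ | m'
        · simp at hmp
        · exact absurd (mul_one d) hm1
        · exact absurd (mul_comm d 2) hm2
        · omega
      calc 3 * d = d * 3 := mul_comm _ _
        _ ≤ d * m' := Nat.mul_le_mul_left d this
    omega
  · have : d ≤ a := ha' ▸ Nat.le_mul_of_pos_right d (Nat.pos_of_ne_zero ha0)
    omega

end Groth.Agent.S1675
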