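import Groth.Statements.S16752
import Groth.Agent.L06.CMFibreDim
import Groth.Agent.L17.BC.GenApply
import Groth.Agent.L12.CurveFam.R1
import Groth.Agent.L21.RR.Coh

set_option autoImplicit false
set_option backward.isDefEq.respectTransparency false
set_option backward.isDefEq.respectTransparency.types false
universe u
open CurvSt

namespace Groth.Agent.S16752

open CategoryTheory CategoryTheory.Limits AlgebraicGeometry in
/-- Let f : X → S be a flat, proper morphism of schemes, locally of finite presentation, all of whose
fibres have dimension at most one (a family of curves whose total space is a scheme). Then the set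
of points s of S such that the fibre X_s has dimension one and dim_{κ(s)} H^0(X_s, O_{X_s}) = 1 (the
conditions under which the genus of X_s is defined) is open in S. The source allows the total space
to be an algebraic space and phrases the result as the existence of an open substack of the stack of
curves with this membership condition. -/
theorem result (X S : Scheme.{u}) (f : X ⟶ S)
    [Flat f] [IsProper f] [LocallyOfFinitePresentation f]
    (hdim : ∀ s : S, topologicalKrullDim ↥(f.fiber s) ≤ 1) :
    IsOpen {s : S | topologicalKrullDim ↥(f.fiber s) = 1 ∧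
      Models.hRank ↥(S.residueField s) (f.fiber s) (f.fiberToSpecResidueField s)
        (Coh.structureModule (f.fiber s)) 0 = 1} := by
  have hE : FlatMod.IsFinLocFree (Coh.structureModule X) :=
    Groth.L16.Existence.isFinLocFree_of_isInvertible (Groth.L18.Ample.isInvertible_structureModule _)
  have hfp : CohB1.IsFP (Coh.structureModule X) := Groth.L18.LFP.isFP_of_isFinLocFree _ hE
  haveI : Coh.IsQCoh (Coh.structureModule X) := Groth.L29.DC.PCQCoh.isQCoh_of_isFinLocFree hE
  have hfl : FlatMod.IsFlatOver f (Coh.structureModule X) := fun x => by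
    letI := (f.stalkMap x).hom.toAlgebra
    letI := FlatMod.moduleStalkOver f (Coh.structureModule X) x
    haveI : IsScalarTower (S.presheaf.stalk (f x)) (X.presheaf.stalk x) ((Coh.structureModule X).presheaf.stalk x) :=
      IsScalarTower.of_algebraMap_smul fun _ _ => rfl
    haveI : Module.Flat (S.presheaf.stalk (f x)) (X.presheaf.stalk x) := Flat.stalkMap f x
    haveI : Module.Flat (X.presheaf.stalk x) ((Coh.structureModule X).presheaf.stalk x) :=
      Groth.L29.DC.isFlat_of_isFinLocFree hE x
    exact Module.Flat.trans (S.presheaf.stalk (f x)) (X.presheaf.stalk x) ((Coh.structureModule X).presheaf.stalk x)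
  have key : ∀ s : S, CohIII.fiberRank f (Coh.structureModule X) 0 s =
      Models.hRank ↥(S.residueField s) (f.fiber s) (f.fiberToSpecResidueField s) (Coh.structureModule (f.fiber s)) 0 := by
    intro s
    letI : (f.fiber s).Over (Spec (CommRingCat.of (S.residueField s))) := ⟨f.fiberToSpecResidueField s⟩
    exact Groth.L03.Euler.finrank_HH_of_iso (k := S.residueField s) (Groth.L29.LocFree.pullbackUnitIso (f.fiberι s)) 0
  have e : {s : S | topologicalKrullDim ↥(f.fiber s) = 1 ∧
      Models.hRank ↥(S.residueField s) (f.fiber s) (f.fiberToSpecResidueField s)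
        (Coh.structureModule (f.fiber s)) 0 = 1} =
      {s : S | (0 : WithBot ℕ∞) < topologicalKrullDim ↥(f.fiber s)} ∩
        {s : S | CohIII.fiberRank f (Coh.structureModule X) 0 s < 2} := by
    ext s
    rw [Set.mem_setOf_eq, Set.mem_inter_iff, Set.mem_setOf_eq, Set.mem_setOf_eq, key]
    refine ⟨fun ⟨h1, h2⟩ => ⟨by rw [h1]; exact zero_lt_one, by omega⟩, fun ⟨h1, h2⟩ => ?_⟩
    haveI : Nonempty ↥(f.fiber s) := by
      by_contra hn
      rw [not_nonempty_iff] at hn
      haveI : IsEmpty (TopologicalSpace.IrreducibleCloseds ↥(f.fiber s)) :=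
        ⟨fun C => C.2.nonempty.elim fun x _ => hn.false x⟩
      rw [topologicalKrullDim, Order.krullDim_eq_bot] at h1
      exact not_lt_bot h1
    refine ⟨le_antisymm (hdim s) (Order.succ_le_of_lt h1), ?_⟩
    letI : (f.fiber s).Over (Spec (CommRingCat.of (S.residueField s))) := ⟨f.fiberToSpecResidueField s⟩
    haveI : IsProper (f.fiber s ↘ Spec (CommRingCat.of (S.residueField s))) :=
      inferInstanceAs (IsProper (pullback.snd f _))
    haveI := Groth.L21.RR.isNoetherian_of_proper (X := f.fiber s) (S.residueField s)
    haveI : Module.Finite (S.residueField s) (Coh.HH (f.fiber s) (Coh.structureModule (f.fiber s)) 0) :=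
      Groth.L21.RR.finite_HH' (S.residueField s) (Groth.L16.CohClosedPush.isCoh_structure (X := f.fiber s)) 0
    haveI : Nontrivial Γ(Coh.structureModule (f.fiber s), ⊤) := by
      by_contra hn
      rw [not_nontrivial_iff_subsingleton] at hn
      have h0 : (1 : Γ(f.fiber s, ⊤)) = 0 :=
        @Subsingleton.elim Γ(Coh.structureModule (f.fiber s), ⊤) hn (1 : Γ(f.fiber s, ⊤)) (0 : Γ(f.fiber s, ⊤))
      have h5 : (f.fiber s).basicOpen (1 : Γ(f.fiber s, ⊤)) = ⊤ := Scheme.basicOpen_of_isUnit _ isUnit_one
      rw [h0, Scheme.basicOpen_zero] at h5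
      obtain ⟨x⟩ := ‹Nonempty ↥(f.fiber s)›
      exact (h5.symm ▸ (trivial : x ∈ (⊤ : (f.fiber s).Opens)) : x ∈ (⊥ : (f.fiber s).Opens)).elim
    haveI : Nontrivial (Coh.HH (f.fiber s) (Coh.structureModule (f.fiber s)) 0) :=
      (Groth.L21.RR.e0 (Coh.structureModule (f.fiber s))).toEquiv.nontrivial
    have h3 := Module.finrank_pos (R := S.residueField s)
      (M := Coh.HH (f.fiber s) (Coh.structureModule (f.fiber s)) 0)
    have h4 : Module.finrank (S.residueField s) (Coh.HH (f.fiber s) (Coh.structureModule (f.fiber s)) 0) < 2 := h2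
    show Module.finrank (S.residueField s) (Coh.HH (f.fiber s) (Coh.structureModule (f.fiber s)) 0) = 1
    omega
  rw [e]
  exact (Groth.L06.CMFibreDim.isOpen_lt f 0).inter
    (Groth.L17.BC.isOpen_fiberRank_lt f _ hfp hfl 0 2)

end Groth.Agent.S16752
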