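import Groth.Statements.S16754
import Groth.Agent.L21.RR.GeomGenusZero
import Groth.Agent.L21.RR.GenusOnePoint
import Groth.Agent.L21.Disc.SimplyConn
import Groth.Agent.L16.Connected.Fibre
-- import your own Groth.Agent.* helpers here

set_option autoImplicit false
universe u
open CurvSt

set_option backward.isDefEq.respectTransparency false
set_option linter.style.haveILetI false

namespace Groth.Agent.S16754

open CategoryTheory CategoryTheory.Limits AlgebraicGeometry in
/-- Let k be a field and X a scheme which is proper and smooth over k and of dimension one. Then the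
following are equivalent: dim_k H^0(X, O_X) = 1 (the ground field is the ring of global functions);
X is geometrically connected over k; X is geometrically integral over k. (The remaining conditions
of the source concern membership in an open substack of the stack of curves and are not stated.) -/
theorem result (k : Type u) [Field k]
    (X : Scheme.{u}) [X.Over (Spec (CommRingCat.of k))] [IsProper (X ↘ Spec (CommRingCat.of k))]
    [Smooth (X ↘ Spec (CommRingCat.of k))] (hdim : topologicalKrullDim ↥X = 1) :
    (Module.finrank k (Coh.HH X (Coh.structureModule X) 0) = 1 ↔ GeometricallyConnected (X ↘ Spec (CommRingCat.of k))) ∧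
      (GeometricallyConnected (X ↘ Spec (CommRingCat.of k)) ↔ GeometricallyIntegral (X ↘ Spec (CommRingCat.of k))) := by
  set p := X ↘ Spec (CommRingCat.of k)
  haveI : Nonempty X := by
    by_contra h
    rw [not_nonempty_iff] at h
    haveI : IsEmpty (TopologicalSpace.IrreducibleCloseds ↥X) := ⟨fun c => h.elim c.isIrreducible.nonempty.choose⟩
    rw [topologicalKrullDim, Order.krullDim_eq_bot] at hdim
    exact absurd hdim (by simp)
  have h1 : Module.finrank k (Coh.HH X (Coh.structureModule X) 0) = 1 → GeometricallyConnected p := by
    intro hfin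
    have htop : Function.Bijective (Coh.toGlobal p) := by
      haveI : Nonempty ((⊤ : X.Opens) : Scheme) := ⟨⟨Classical.arbitrary X, trivial⟩⟩
      haveI : Nontrivial (Coh.Γtop X) := inferInstanceAs (Nontrivial Γ(X, ⊤))
      refine ⟨(RingHom.injective (Coh.toGlobal p)), fun g => ?_⟩
      have hne : (Groth.L21.RR.e0 (Coh.structureModule X)).symm (Groth.L21.RR.oneSec X) ≠ 0 := fun h => by
        have h0 : Groth.L21.RR.oneSec X = 0 :=
          (Groth.L21.RR.e0 _).symm.injective (h.trans (map_zero _).symm)
        haveI : Nonempty ((⊤ : X.Opens) : Scheme) := ⟨⟨Classical.arbitrary X, trivial⟩⟩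
        exact one_ne_zero (α := Γ(X, ⊤)) h0
      obtain ⟨c, hc⟩ := (finrank_eq_one_iff_of_nonzero' _ hne).1 hfin
        ((Groth.L21.RR.e0 (Coh.structureModule X)).symm g)
      refine ⟨c, ?_⟩
      have := congrArg (Groth.L21.RR.e0 (Coh.structureModule X)) hc
      rw [Groth.L21.RR.e0_smul, AddEquiv.apply_symm_apply, AddEquiv.apply_symm_apply] at this
      exact (mul_one (M := Γ(X, ⊤)) _).symm.trans this
    refine Groth.L16.Connected.geometricallyConnected p fun U => ?_
    by_cases hU : (IsLocalRing.closedPoint k) ∈ U
    · obtain rfl : U = ⊤ := by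
        ext x
        exact ⟨fun _ => trivial, fun _ => Subsingleton.elim (IsLocalRing.closedPoint k) x ▸ hU⟩
      refine (ConcreteCategory.isIso_iff_bijective _).2 ?_
      have hb : Function.Bijective (fun a => p.appTop.hom ((Scheme.ΓSpecIso (CommRingCat.of k)).inv.hom a)) := htop
      exact (Function.Bijective.of_comp_iff _
        (Scheme.ΓSpecIso (CommRingCat.of k)).symm.commRingCatIsoToRingEquiv.bijective).1 hb
    · obtain rfl : U = ⊥ := by
        ext x
        exact ⟨fun hx => (hU (Subsingleton.elim x (IsLocalRing.closedPoint k) ▸ hx)).elim, fun h => h.elim⟩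
      refine (ConcreteCategory.isIso_iff_bijective _).2 ?_
      haveI : Subsingleton Γ(X, p ⁻¹ᵁ ⊥) := CommRingCat.subsingleton_of_isTerminal X.sheaf.isTerminalOfEmpty
      exact ⟨fun a b _ => Subsingleton.elim (α := Γ(Spec (CommRingCat.of k), ⊥)) a b, fun b => ⟨0, Subsingleton.elim _ _⟩⟩
  have h2 : GeometricallyConnected p → GeometricallyIntegral p := fun h => by
    haveI := h
    exact Groth.L21.Disc.geometricallyIntegral_of_smooth p
  have h3 : GeometricallyIntegral p → Module.finrank k (Coh.HH X (Coh.structureModule X) 0) = 1 := fun h => by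
    haveI := h
    exact Groth.L21.RR.h0_eq_one_of_geometricallyIntegral k hdim
  exact ⟨⟨h1, fun h => h3 (h2 h)⟩, ⟨h2, fun h => h1 (h3 h)⟩⟩

end Groth.Agent.S16754
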