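import Groth.Statements.S16755
import Groth.Agent.L12.FlatZero.ContractNear
-- import your own Groth.Agent.* helpers here

set_option autoImplicit false
universe u
open CurvSt

namespace Groth.Agent.S16755

open CategoryTheory CategoryTheory.Limits AlgebraicGeometry in
/-- Let S be a scheme and s a point of S; let f : X → S, g₁ : Y₁ → S, g₂ : Y₂ → S be families of curves
with X, Y₁, Y₂ schemes (flat, proper, locally of finite presentation, all fibres of dimension at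
most one) and c₁ : X → Y₁, c₂ : X → Y₂ morphisms over S. Fix the fibres X_s, Y_{1,s}, Y_{2,s} over
the residue field κ(s) (cartesian squares over Spec κ(s) → S), the morphisms d₁ : X_s → Y_{1,s}, d₂
: X_s → Y_{2,s} induced by c₁, c₂, and an isomorphism e : Y_{1,s} ≅ Y_{2,s} over κ(s) with d₁
followed by e equal to d₂. Assume O_{Y_{1,s}} → d_{1,*} O_{X_s} is an isomorphism (on sections over
every open) and R^1 d_{1,*} O_{X_s} = 0 (the first cohomology of the structure sheaf of X_s vanishes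
on the preimage of every affine open of Y_{1,s}). Then there are an open neighbourhood U of s in S
and an isomorphism e' between the open subschemes g₁^{-1}(U) of Y₁ and g₂^{-1}(U) of Y₂, over S,
compatible with c₁ and c₂ (a T-valued point of X whose images under c₁ and c₂ lie in these opens has
those images matched by e') and restricting to e on the fibres over s. The source allows
algebraic-space total spaces. -/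
theorem result {X Y₁ Y₂ S : Scheme.{u}}
    (f : X ⟶ S) (g₁ : Y₁ ⟶ S) (g₂ : Y₂ ⟶ S) (c₁ : X ⟶ Y₁) (c₂ : X ⟶ Y₂) (hc₁ : c₁ ≫ g₁ = f) (hc₂ : c₂ ≫ g₂ = f)
    [Flat f] [IsProper f] [LocallyOfFinitePresentation f]
    [Flat g₁] [IsProper g₁] [LocallyOfFinitePresentation g₁]
    [Flat g₂] [IsProper g₂] [LocallyOfFinitePresentation g₂]
    (hX : ∀ t : S, topologicalKrullDim ↥(f.fiber t) ≤ 1) (hY₁ : ∀ t : S, topologicalKrullDim ↥(g₁.fiber t) ≤ 1)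
    (hY₂ : ∀ t : S, topologicalKrullDim ↥(g₂.fiber t) ≤ 1)
    (s : S) (Xs Ys₁ Ys₂ : Scheme.{u})
    (iX : Xs ⟶ X) (qX : Xs ⟶ Spec (S.residueField s)) (hXs : IsPullback iX qX f (S.fromSpecResidueField s))
    (i₁ : Ys₁ ⟶ Y₁) (q₁ : Ys₁ ⟶ Spec (S.residueField s)) (hYs₁ : IsPullback i₁ q₁ g₁ (S.fromSpecResidueField s))
    (i₂ : Ys₂ ⟶ Y₂) (q₂ : Ys₂ ⟶ Spec (S.residueField s)) (hYs₂ : IsPullback i₂ q₂ g₂ (S.fromSpecResidueField s))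
    (d₁ : Xs ⟶ Ys₁) (hd₁ : d₁ ≫ i₁ = iX ≫ c₁) (hd₁q : d₁ ≫ q₁ = qX)
    (d₂ : Xs ⟶ Ys₂) (hd₂ : d₂ ≫ i₂ = iX ≫ c₂) (hd₂q : d₂ ≫ q₂ = qX)
    (e : Ys₁ ≅ Ys₂) (he : e.hom ≫ q₂ = q₁) (hec : d₁ ≫ e.hom = d₂)
    (hiso : ∀ U : Ys₁.Opens, IsIso (d₁.app U))
    (hR1 : ∀ U : Ys₁.Opens, IsAffineOpen U → Subsingleton (Coh.HHon Xs (Coh.structureModule Xs) (d₁ ⁻¹ᵁ U) 1)) :
    ∃ U : S.Opens, s ∈ U ∧ ∃ e' : ((g₁ ⁻¹ᵁ U : Scheme.{u})) ≅ (g₂ ⁻¹ᵁ U : Scheme.{u}),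
      e'.hom ≫ (g₂ ⁻¹ᵁ U).ι ≫ g₂ = (g₁ ⁻¹ᵁ U).ι ≫ g₁ ∧
      (∀ (T : Scheme.{u}) (a : T ⟶ X) (a₁ : T ⟶ (g₁ ⁻¹ᵁ U : Scheme.{u})) (a₂ : T ⟶ (g₂ ⁻¹ᵁ U : Scheme.{u})),
          a ≫ c₁ = a₁ ≫ (g₁ ⁻¹ᵁ U).ι → a ≫ c₂ = a₂ ≫ (g₂ ⁻¹ᵁ U).ι → a₁ ≫ e'.hom = a₂) ∧
      (∀ (b₁ : Ys₁ ⟶ (g₁ ⁻¹ᵁ U : Scheme.{u})) (b₂ : Ys₂ ⟶ (g₂ ⁻¹ᵁ U : Scheme.{u})),
          b₁ ≫ (g₁ ⁻¹ᵁ U).ι = i₁ → b₂ ≫ (g₂ ⁻¹ᵁ U).ι = i₂ → b₁ ≫ e'.hom = e.hom ≫ b₂) := by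
  subst hc₁
  obtain ⟨hp₁, V₁, hV₁, hi₁⟩ := Groth.L12.FlatZero.exists_contraction_nhd c₁ g₁ s (hX s) iX qX hXs i₁ q₁ hYs₁ d₁
    hd₁ hd₁q hiso hR1
  have hiso₂ : ∀ U : Ys₂.Opens, IsIso (d₂.app U) := fun U => by
    rw [← hec]
    haveI := hiso (e.hom ⁻¹ᵁ U)
    rw [Scheme.Hom.comp_app]
    haveI : IsIso (e.hom.app U) := inferInstance
    exact IsIso.comp_isIso' this (hiso _)
  haveI : Flat (c₂ ≫ g₂) := by rw [hc₂]; infer_instance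
  haveI : IsProper (c₂ ≫ g₂) := by rw [hc₂]; infer_instance
  haveI : LocallyOfFinitePresentation (c₂ ≫ g₂) := by rw [hc₂]; infer_instance
  obtain ⟨hp₂, V₂, hV₂, hi₂⟩ := Groth.L12.FlatZero.exists_contraction_nhd c₂ g₂ s (by rw [hc₂]; exact hX s) iX qX
    (by rw [hc₂]; exact hXs) i₂ q₂ hYs₂ d₂ hd₂ hd₂q hiso₂ (fun U hU => by
      have := hR1 (e.hom ⁻¹ᵁ U) (hU.preimage e.hom)
      subst hec
      exact this)
  haveI := hp₁; haveI := hp₂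
  haveI : IsPreimmersion i₁ := MorphismProperty.of_isPullback hYs₁.flip inferInstance
  haveI : IsPreimmersion i₂ := MorphismProperty.of_isPullback hYs₂.flip inferInstance
  have hr : ∀ x : X, g₁ (c₁ x) = s → ∃ x', iX x' = x := fun x hx => by
    obtain ⟨x', h, -⟩ := Scheme.exists_preimage_of_isPullback hXs x (IsLocalRing.closedPoint (S.residueField s))
      (by rw [Scheme.fromSpecResidueField_apply, Scheme.Hom.comp_apply, hx])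
    exact ⟨x', h⟩
  have hgg : ∀ x, g₂ (c₂ x) = g₁ (c₁ x) := fun x => by
    rw [← Scheme.Hom.comp_apply, hc₂, Scheme.Hom.comp_apply]
  have hy₁ : ∀ y ∈ g₁ ⁻¹' {s}, ∃ y', i₁ y' = y := fun y hy => by
    obtain ⟨y', h, -⟩ := Scheme.exists_preimage_of_isPullback hYs₁ y (IsLocalRing.closedPoint (S.residueField s))
      (by rw [Scheme.fromSpecResidueField_apply]; exact hy)
    exact ⟨y', h⟩
  have hy₂ : ∀ y ∈ g₂ ⁻¹' {s}, ∃ y', i₂ y' = y := fun y hy => by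
    obtain ⟨y', h, -⟩ := Scheme.exists_preimage_of_isPullback hYs₂ y (IsLocalRing.closedPoint (S.residueField s))
      (by rw [Scheme.fromSpecResidueField_apply]; exact hy)
    exact ⟨y', h⟩
  have hd₁' : ∀ x', i₁ (d₁ x') = c₁ (iX x') := fun x' => by
    rw [← Scheme.Hom.comp_apply, hd₁, Scheme.Hom.comp_apply]
  have hd₂' : ∀ x', i₂ (d₂ x') = c₂ (iX x') := fun x' => by
    rw [← Scheme.Hom.comp_apply, hd₂, Scheme.Hom.comp_apply]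
  have hed : ∀ x', d₂ x' = e.hom (d₁ x') := fun x' => by rw [← hec, Scheme.Hom.comp_apply]
  obtain ⟨A₁, a₁', hA₁, hA₁V, ha₁⟩ := Groth.L12.FlatZero.exists_factor c₁ c₂ hi₁ _ hV₁ fun y hy => by
    obtain ⟨y', rfl⟩ := hy₁ y hy
    refine ⟨i₂ (e.hom y'), fun x hx => ?_⟩
    obtain ⟨x', rfl⟩ := hr x (hx ▸ hy)
    rw [← hd₂', hed, i₁.isEmbedding.injective (show i₁ (d₁ x') = i₁ y' by rw [hd₁', hx])]
  obtain ⟨A₂, a₂', hA₂, hA₂V, ha₂⟩ := Groth.L12.FlatZero.exists_factor c₂ c₁ hi₂ _ hV₂ fun y hy => by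
    obtain ⟨y', rfl⟩ := hy₂ y hy
    refine ⟨i₁ (e.inv y'), fun x hx => ?_⟩
    obtain ⟨x', rfl⟩ := hr x (by rw [← hgg, hx]; exact hy)
    rw [← hd₁', ← i₂.isEmbedding.injective (show i₂ (d₂ x') = i₂ y' by rw [hd₂', hx]), hed,
      ← Scheme.Hom.comp_apply e.hom, e.hom_inv_id]
    rfl
  let U : S.Opens := ⟨_, (g₁.isClosedMap _ A₁.isOpen.isClosed_compl).isOpen_compl⟩ ⊓
    ⟨_, (g₂.isClosedMap _ A₂.isOpen.isClosed_compl).isOpen_compl⟩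
  let B₁ := g₁ ⁻¹ᵁ U
  let B₂ := g₂ ⁻¹ᵁ U
  have hB₁ : B₁ ≤ A₁ := fun y hy => by_contra fun h => hy.1 ⟨y, h, rfl⟩
  have hB₂ : B₂ ≤ A₂ := fun y hy => by_contra fun h => hy.2 ⟨y, h, rfl⟩
  have hq₁ : Groth.L12.FlatZero.IsoApps (c₁ ∣_ B₁) :=
    Groth.L12.FlatZero.isoApps_restrict fun O hO => hi₁ O (hO.trans (hB₁.trans hA₁V))
  have hq₂ : Groth.L12.FlatZero.IsoApps (c₂ ∣_ B₂) :=
    Groth.L12.FlatZero.isoApps_restrict fun O hO => hi₂ O (hO.trans (hB₂.trans hA₂V))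
  have h₁ : (c₁ ∣_ B₁) ≫ Y₁.homOfLE hB₁ ≫ a₁' = (c₁ ⁻¹ᵁ B₁).ι ≫ c₂ := by
    have h : (c₁ ∣_ B₁) ≫ Y₁.homOfLE hB₁ = X.homOfLE (c₁.preimage_mono hB₁) ≫ (c₁ ∣_ A₁) := by
      rw [← cancel_mono A₁.ι]; simp
    rw [reassoc_of% h, ha₁, ← Category.assoc, Scheme.homOfLE_ι]
  have h₂ : (c₂ ∣_ B₂) ≫ Y₂.homOfLE hB₂ ≫ a₂' = (c₂ ⁻¹ᵁ B₂).ι ≫ c₁ := by
    have h : (c₂ ∣_ B₂) ≫ Y₂.homOfLE hB₂ = X.homOfLE (c₂.preimage_mono hB₂) ≫ (c₂ ∣_ A₂) := by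
      rw [← cancel_mono A₂.ι]; simp
    rw [reassoc_of% h, ha₂, ← Category.assoc, Scheme.homOfLE_ι]
  have hs₁ : (Y₁.homOfLE hB₁ ≫ a₁') ≫ g₂ = B₁.ι ≫ g₁ := by
    refine Groth.L12.FlatZero.eq_of_comp_eq (c₁ ∣_ B₁) hq₁ ?_
    rw [← Category.assoc, h₁, morphismRestrict_ι_assoc, Category.assoc, hc₂]
  have hs₂ : (Y₂.homOfLE hB₂ ≫ a₂') ≫ g₁ = B₂.ι ≫ g₂ := by
    refine Groth.L12.FlatZero.eq_of_comp_eq (c₂ ∣_ B₂) hq₂ ?_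
    rw [← Category.assoc, h₂, morphismRestrict_ι_assoc, Category.assoc, hc₂]
  let u := IsOpenImmersion.lift B₂.ι (Y₁.homOfLE hB₁ ≫ a₁') (by
    rintro _ ⟨z, rfl⟩
    rw [Scheme.Opens.range_ι]
    show g₂ ((Y₁.homOfLE hB₁ ≫ a₁') z) ∈ U
    rw [← Scheme.Hom.comp_apply, hs₁, Scheme.Hom.comp_apply]
    exact z.2)
  let v := IsOpenImmersion.lift B₁.ι (Y₂.homOfLE hB₂ ≫ a₂') (by
    rintro _ ⟨z, rfl⟩
    rw [Scheme.Opens.range_ι]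
    show g₁ ((Y₂.homOfLE hB₂ ≫ a₂') z) ∈ U
    rw [← Scheme.Hom.comp_apply, hs₂, Scheme.Hom.comp_apply]
    exact z.2)
  have hu : ∀ (T : Scheme.{u}) (a : T ⟶ X) (b₁ : T ⟶ B₁.toScheme) (b₂ : T ⟶ B₂.toScheme),
      a ≫ c₁ = b₁ ≫ B₁.ι → a ≫ c₂ = b₂ ≫ B₂.ι → b₁ ≫ u = b₂ := fun T a b₁ b₂ e₁ e₂ => by
    let t := (isPullback_morphismRestrict c₁ B₁).flip.lift a b₁ e₁
    rw [← cancel_mono B₂.ι, Category.assoc, IsOpenImmersion.lift_fac, ← e₂,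
      ← (isPullback_morphismRestrict c₁ B₁).flip.lift_snd a b₁ e₁, Category.assoc, h₁, ← Category.assoc,
      (isPullback_morphismRestrict c₁ B₁).flip.lift_fst]
  have hv : ∀ (T : Scheme.{u}) (a : T ⟶ X) (b₁ : T ⟶ B₁.toScheme) (b₂ : T ⟶ B₂.toScheme),
      a ≫ c₁ = b₁ ≫ B₁.ι → a ≫ c₂ = b₂ ≫ B₂.ι → b₂ ≫ v = b₁ := fun T a b₁ b₂ e₁ e₂ => by
    let t := (isPullback_morphismRestrict c₂ B₂).flip.lift a b₂ e₂
    rw [← cancel_mono B₁.ι, Category.assoc, IsOpenImmersion.lift_fac, ← e₁,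
      ← (isPullback_morphismRestrict c₂ B₂).flip.lift_snd a b₂ e₂, Category.assoc, h₂, ← Category.assoc,
      (isPullback_morphismRestrict c₂ B₂).flip.lift_fst]
  have huι : (c₁ ∣_ B₁ ≫ u) ≫ B₂.ι = (c₁ ⁻¹ᵁ B₁).ι ≫ c₂ := by
    rw [Category.assoc, IsOpenImmersion.lift_fac, h₁]
  have hvι : (c₂ ∣_ B₂ ≫ v) ≫ B₁.ι = (c₂ ⁻¹ᵁ B₂).ι ≫ c₁ := by
    rw [Category.assoc, IsOpenImmersion.lift_fac, h₂]
  have huv : u ≫ v = 𝟙 _ := Groth.L12.FlatZero.eq_of_comp_eq (c₁ ∣_ B₁) hq₁ (by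
    rw [Category.comp_id, ← Category.assoc]
    exact hv _ (c₁ ⁻¹ᵁ B₁).ι _ _ (morphismRestrict_ι c₁ B₁).symm huι.symm)
  have hvu : v ≫ u = 𝟙 _ := Groth.L12.FlatZero.eq_of_comp_eq (c₂ ∣_ B₂) hq₂ (by
    rw [Category.comp_id, ← Category.assoc]
    exact hu _ (c₂ ⁻¹ᵁ B₂).ι _ _ hvι.symm (morphismRestrict_ι c₂ B₂).symm)
  refine ⟨U, ⟨fun ⟨y, hy, h⟩ => hy (hA₁ h), fun ⟨y, hy, h⟩ => hy (hA₂ h)⟩, ⟨u, v, huv, hvu⟩, ?_, hu,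
    fun b₁ b₂ e₁ e₂ => ?_⟩
  · show u ≫ B₂.ι ≫ g₂ = B₁.ι ≫ g₁
    rw [← Category.assoc, IsOpenImmersion.lift_fac, hs₁]
  haveI : IsProper d₁ :=
    MorphismProperty.of_isPullback (IsPullback.of_bot (by rw [hd₁q]; exact hXs) hd₁.symm hYs₁) inferInstance
  refine Groth.L12.FlatZero.eq_of_comp_eq d₁ hiso ?_
  rw [← Category.assoc, ← Category.assoc, hec]
  exact hu Xs iX (d₁ ≫ b₁) (d₂ ≫ b₂) (by rw [Category.assoc, e₁, hd₁]) (by rw [Category.assoc, e₂, hd₂])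

end Groth.Agent.S16755
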