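import Groth.Statements.S16758
import Groth.Agent.L20.DescLocus.AppIsoH0

set_option autoImplicit false
universe u
open PicF

set_option backward.isDefEq.respectTransparency.types false
namespace Groth.Agent.S16758

open AlgebraicGeometry CategoryTheory CategoryTheory.Limits in
/-- (2) ⇔ (3): let f : X → Y be proper and flat with Y locally Noetherian. Then dim_{κ(y)} H⁰(X_y,
O_{X_y}) = 1 for every point y of Y if and only if for every morphism T → Y the base change f_T : X
×_Y T → T induces isomorphisms O_T(U) → O_{X ×_Y T}(f_T⁻¹ U) on all opens U of T, i.e. O_T = (f_T)_*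
O universally. (The published statement takes X and Y Noetherian; the argument is local on Y, so Y
is only assumed locally Noetherian here.) -/
theorem result {X Y : Scheme.{u}} (f : X ⟶ Y)
    [IsProper f] [Flat f] [IsLocallyNoetherian Y] :
    (∀ y : Y, Module.finrank (Y.residueField y) Γ(f.fiber y, ⊤) = 1) ↔
      ∀ (T : Scheme.{u}) (g : T ⟶ Y) (U : T.Opens), IsIso ((pullback.snd f g).app U) := by
  haveI : LocallyOfFinitePresentation f := LocallyOfFinitePresentation.iff_locallyOfFiniteType.2 inferInstance
  have halg : ∀ y : Y, (algebraMap (Y.residueField y) Γ(f.fiber y, ⊤) : Y.residueField y → Γ(f.fiber y, ⊤)) =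
      (fun a => (f.fiberToSpecResidueField y).appTop a) ∘
        (fun a => (Scheme.ΓSpecIso (Y.residueField y)).inv a) := fun y => rfl
  constructor
  · intro h T g U
    refine Groth.L20.DescLocus.isIso_app_universally f (fun y => ?_) (pullback.fst f g) (pullback.snd f g) g
      (IsPullback.of_hasPullback f g) U
    refine Groth.L20.DescLocus.isIso_app_of_appTop (k := Y.residueField y) (f.fiberToSpecResidueField y) ?_
    have hb : Function.Bijective (algebraMap (Y.residueField y) Γ(f.fiber y, ⊤)) := by
      haveI : Nontrivial Γ(f.fiber y, ⊤) := Module.nontrivial_of_finrank_eq_succ (h y)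
      refine ⟨RingHom.injective _, fun z => ?_⟩
      obtain ⟨c, hc⟩ := (finrank_eq_one_iff_of_nonzero' (1 : Γ(f.fiber y, ⊤)) one_ne_zero).1 (h y) z
      exact ⟨c, by rw [← hc, Algebra.smul_def, mul_one]⟩
    rw [halg] at hb
    exact (Function.Bijective.of_comp_iff _
      (ConcreteCategory.bijective_of_isIso (Scheme.ΓSpecIso (Y.residueField y)).inv)).1 hb
  · intro h y
    haveI := h _ (Y.fromSpecResidueField y) ⊤
    have hb : Function.Bijective (algebraMap (Y.residueField y) Γ(f.fiber y, ⊤)) := by
      rw [halg]
      exact (ConcreteCategory.bijective_of_isIso ((pullback.snd f (Y.fromSpecResidueField y)).app ⊤)).comp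
        (ConcreteCategory.bijective_of_isIso (Scheme.ΓSpecIso (Y.residueField y)).inv)
    rw [← (LinearEquiv.ofBijective (Algebra.linearMap (Y.residueField y) Γ(f.fiber y, ⊤)) hb).finrank_eq,
      Module.finrank_self]

end Groth.Agent.S16758
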