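import Groth.Statements.S16759
import Groth.Agent.L08.Cube.SeesawH0
import Groth.Agent.L26.AbDual.Classes

set_option autoImplicit false
universe u
open PicF

namespace Groth.Agent.S16759

open AlgebraicGeometry CategoryTheory CategoryTheory.Limits in
/-- Let f : X → Y be proper and flat with Y locally Noetherian and reduced, assume dim_{κ(y)} H⁰(X_y,
O_{X_y}) = 1 for every y, and let L be an invertible O_X-module. Then L ≅ f^*M for some invertible
O_Y-module M if and only if L|_{X_y} ≅ O_{X_y} for every point y of Y; moreover, when this holds,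
f_*L is invertible and the counit f^*f_*L → L of the pullback–pushforward adjunction is an
isomorphism (so one may take M = f_*L). (The published statement takes X and Y Noetherian; only
local Noetherianity of Y is used.) -/
theorem result {X Y : Scheme.{u}} (f : X ⟶ Y)
    [IsProper f] [Flat f] [IsLocallyNoetherian Y] [IsReduced Y]
    (h0 : ∀ y : Y, Module.finrank (Y.residueField y) Γ(f.fiber y, ⊤) = 1)
    (L : X.Modules) (hL : PicF.IsInvertible L) :
    ((∃ M : Y.Modules, PicF.IsInvertible M ∧ Nonempty ((Scheme.Modules.pullback f).obj M ≅ L)) ↔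
        ∀ y : Y, Nonempty (CohIII.fiberMod f L y ≅ Coh.structureModule (f.fiber y))) ∧
      ((∀ y : Y, Nonempty (CohIII.fiberMod f L y ≅ Coh.structureModule (f.fiber y))) →
        PicF.IsInvertible ((Scheme.Modules.pushforward f).obj L) ∧
          IsIso ((Scheme.Modules.pullbackPushforwardAdjunction f).counit.app L)) := by
  have hconst : ∀ y : Y, Function.Bijective (algebraMap (Y.residueField y) Γ(f.fiber y, ⊤)) := fun y => by
    haveI : Nontrivial Γ(f.fiber y, ⊤) := Module.nontrivial_of_finrank_eq_succ (h0 y)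
    refine ⟨RingHom.injective _, fun w => ?_⟩
    obtain ⟨c, hc⟩ := (finrank_eq_one_iff_of_nonzero' (1 : Γ(f.fiber y, ⊤)) one_ne_zero).1 (h0 y) w
    exact ⟨c, by rw [← hc, Algebra.smul_def, _root_.mul_one]⟩
  refine ⟨⟨?_, fun h => ?_⟩, Groth.L08.Cube.seesaw_of_const f L hL hconst⟩
  · rintro ⟨M, hM, ⟨e⟩⟩ y
    haveI : Subsingleton ↥(Spec (Y.residueField y)) :=
      inferInstanceAs (Subsingleton (PrimeSpectrum (Y.residueField y)))
    refine (PicGrp.cl_eq_cl_iff _ _).1 ?_
    rw [show PicF.cl (CohIII.fiberMod f L y) = PicF.pullCl (f.fiberι y) (PicF.pullCl f (PicF.cl M)) from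
        congrArg (PicF.pullCl (f.fiberι y)) (Groth.Agent.AbDualLib.cl_congr e).symm,
      ← PicLoc.pullCl_comp, show f.fiberι y ≫ f = f.fiberToSpecResidueField y ≫ Y.fromSpecResidueField y from
        pullback.condition, PicLoc.pullCl_comp,
      Groth.Agent.AbDualLib.eq_oneCl_of_subsingleton (PicLoc.isInvertibleCl_pullCl _ ⟨M, rfl, hM⟩),
      Groth.Agent.AbDualLib.pullCl_oneCl]
  · obtain ⟨h1, h2⟩ := Groth.L08.Cube.seesaw_of_const f L hL hconst h
    exact ⟨_, h1, ⟨asIso ((Scheme.Modules.pullbackPushforwardAdjunction f).counit.app L)⟩⟩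

end Groth.Agent.S16759
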