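import Groth.Statements.S16762
import Mathlib.RingTheory.Flat.FaithfullyFlat.Algebra
import Mathlib.LinearAlgebra.TensorProduct.Tower

set_option autoImplicit false
universe u
open CAlgX

namespace Groth.Agent.S16762

/-- Let A → A' be faithfully flat and u : M → N a map of A-modules. Then u is universally injective (u ⊗
id_Q injective for every A-module Q) if and only if its base change A' ⊗_A M → A' ⊗_A N is
universally injective as a map of A'-modules. -/
theorem result (A A' : Type u) [CommRing A] [CommRing A']
    [Algebra A A'] [Module.FaithfullyFlat A A'] {M N : Type u} [AddCommGroup M] [Module A M]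
    [AddCommGroup N] [Module A N] (u : M →ₗ[A] N) :
    CAlgX.UniversallyInjective A u ↔ CAlgX.UniversallyInjective A' (u.baseChange A') := by
  classical
  have key : ∀ (Q : Type u) [AddCommGroup Q] [Module A Q] [Module A' Q] [IsScalarTower A A' Q],
      Function.Injective ((u.baseChange A').rTensor Q) ↔ Function.Injective (u.rTensor Q) := by
    intro Q _ _ _ _
    rw [← LinearMap.lTensor_inj_iff_rTensor_inj, ← LinearMap.lTensor_inj_iff_rTensor_inj]
    let e := TensorProduct.AlgebraTensorModule.cancelBaseChange A A' A' Q M
    let e' := TensorProduct.AlgebraTensorModule.cancelBaseChange A A' A' Q N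
    have hcomm : e' ∘ (u.baseChange A').lTensor Q = u.lTensor Q ∘ e := by
      funext x
      simp only [Function.comp_apply]
      induction x using TensorProduct.induction_on with
      | zero => simp
      | tmul a y =>
        induction y using TensorProduct.induction_on with
        | zero => simp
        | tmul b n => simp [e, e']
        | add y z hy hz => rw [TensorProduct.tmul_add, map_add, map_add, map_add, map_add, hy, hz]
      | add x y hx hy => rw [map_add, map_add, map_add, map_add, hx, hy]
    constructor
    · intro h
      refine Function.Injective.of_comp_right (g := e) ?_ e.surjective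
      rw [← hcomm]
      exact e'.injective.comp h
    · intro h
      refine Function.Injective.of_comp (f := e') ?_
      rw [hcomm]
      exact h.comp e.injective
  constructor
  · intro h Q _ _
    letI : Module A Q := Module.compHom Q (algebraMap A A')
    haveI : IsScalarTower A A' Q := IsScalarTower.of_algebraMap_smul fun _ _ => rfl
    exact (key Q).2 (h Q)
  · intro h Q _ _
    have h' := (key (TensorProduct A A' Q)).1 (h _)
    rw [← LinearMap.lTensor_inj_iff_rTensor_inj] at h' ⊢
    let i : Q →ₗ[A] TensorProduct A A' Q := TensorProduct.mk A A' Q 1
    have hi : Function.Injective (i.rTensor M) := by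
      refine Function.Injective.of_comp (f := TensorProduct.assoc A A' Q M) ?_
      have hmk : (TensorProduct.assoc A A' Q M).toLinearMap ∘ₗ i.rTensor M =
          TensorProduct.mk A A' (TensorProduct A Q M) 1 := TensorProduct.ext' fun q x => rfl
      rw [← LinearEquiv.coe_coe, ← LinearMap.coe_comp, hmk]
      exact Module.FaithfullyFlat.tensorProduct_mk_injective _
    refine Function.Injective.of_comp (f := i.rTensor N) ?_
    rw [← LinearMap.coe_comp, LinearMap.rTensor_comp_lTensor, ← LinearMap.lTensor_comp_rTensor,
      LinearMap.coe_comp]
    exact h'.comp hi

end Groth.Agent.S16762
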