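import Groth.Statements.S16766
import Groth.Agent.L24.MSub.Orbit

set_option autoImplicit false
set_option backward.isDefEq.respectTransparency.types false
open CategoryTheory MonoidalCategory CartesianMonoidalCategory MonObj GrpObj AlgebraicGeometry
universe u
open SGA3x

namespace Groth.Agent.S16766

/-- For a smooth affine group scheme G over a scheme S and a subgroup scheme H of G of multiplicative
type (of finite type), with centralizer Z and normalizer N in G, the fppf quotient sheaves G/Z and
G/N are representable by S-schemes which are smooth and quasi-affine over S. -/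
theorem result {S : Scheme.{u}} (H G Z N : Over S)
    [GrpObj H] [GrpObj G] [GrpObj Z] [GrpObj N]
    (hH : SGA3x.IsMultTypeFT H) (hG : Smooth G.hom) (hGa : IsAffineHom G.hom) (i : H ⟶ G) [IsMonHom i] [Mono i]
    (j : Z ⟶ G) (k : N ⟶ G) (hj : Red.IsCentralizerOf i j) (hk : Red.IsNormalizerOf i k) :
    (∃ (Q : Over S) (q : G ⟶ Q), RedSub.IsQuotient j q ∧ Smooth Q.hom ∧ Mor2.IsQuasiAffine Q.hom) ∧
    (∃ (Q : Over S) (q : G ⟶ Q), RedSub.IsQuotient k q ∧ Smooth Q.hom ∧ Mor2.IsQuasiAffine Q.hom) := by
  exact Groth.L24.MSub.exists_quasiAffine_quotients hH hG hGa i j k hj hk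

end Groth.Agent.S16766
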