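import Groth.Statements.S1677
import Groth.Agent.S2890
import Groth.Agent.S2844
import Groth.Agent.S8656
import Groth.Agent.L07.SyntMor
import Groth.Agent.L14.RegImmStalk.Stalk

set_option autoImplicit false
set_option linter.style.haveILetI false
universe u
open CategoryTheory CategoryTheory.Limits AlgebraicGeometry TopologicalSpace
open SDiv

namespace Groth.Agent.S1677

/-- Let X ⟶ S be smooth, Y ⟶ S flat, locally of finite presentation with complete-intersection fibre
local rings (syntomic), and i : Y ⟶ X a closed immersion over S. Then i is a regular closed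
immersion. -/
theorem result {X Y S : Scheme.{u}} (p : X ⟶ S) [Smooth p] (i : Y ⟶ X)
    [IsClosedImmersion i] (hY : CInt.IsCIMorphism (i ≫ p)) : Mor2.IsRegularClosedImmersion i := by
  haveI hflatp : Flat p := inferInstance
  haveI : Flat (i ≫ p) := hY.1
  haveI : LocallyOfFinitePresentation (i ≫ p) := hY.2.1
  refine ((Groth.Agent.S2890.result i p).mpr ⟨fun y => Flat.stalkMap p (i y), hY.1, fun s => ?_⟩).2
  have hsq : IsPullback (pullback.fst (i ≫ p) (S.fromSpecResidueField s)) (CInt.fiberMap i p s) i
      (p.fiberι s) := by
    refine IsPullback.of_bot ?_ ?_ (IsPullback.of_hasPullback p (S.fromSpecResidueField s))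
    · convert IsPullback.of_hasPullback (i ≫ p) (S.fromSpecResidueField s) using 1
      exact (pullback.lift_snd _ _ _).trans (Category.comp_id _)
    · exact (pullback.lift_fst _ _ _).symm
  haveI hcl : IsClosedImmersion (CInt.fiberMap i p s) :=
    MorphismProperty.of_isPullback (P := @IsClosedImmersion) hsq inferInstance
  haveI : IsImmersion (CInt.fiberMap i p s) := IsImmersion.instOfIsClosedImmersion _
  haveI : @IsImmersion (pullback (i ≫ p) (S.fromSpecResidueField s)) (pullback p (S.fromSpecResidueField s))
    (CInt.fiberMap i p s) := ‹IsImmersion (CInt.fiberMap i p s)›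
  haveI : Smooth (pullback.snd p (S.fromSpecResidueField s)) :=
    MorphismProperty.pullback_snd _ _ inferInstance
  haveI : LocallyOfFiniteType (pullback.snd p (S.fromSpecResidueField s)) :=
    MorphismProperty.pullback_snd _ _ inferInstance
  haveI : IsLocallyNoetherian (pullback p (S.fromSpecResidueField s)) :=
    LocallyOfFiniteType.isLocallyNoetherian (pullback.snd p (S.fromSpecResidueField s))
  haveI : IsLocallyNoetherian (p.fiber s) := this
  have hf : CInt.IsCIMorphism (pullback.snd (i ≫ p) (S.fromSpecResidueField s)) :=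
    Groth.Agent.S2844.result (i ≫ p) (S.fromSpecResidueField s) hY
  have hk := Groth.Agent.S8656.result _ (fun z => Groth.L07.SyntMor.isKoszulAt_of_isCIMorphism _ hf z)
    (pullback.snd p (S.fromSpecResidueField s))
    (show pullback (i ≫ p) (S.fromSpecResidueField s) ⟶ pullback p (S.fromSpecResidueField s) from
      CInt.fiberMap i p s)
    ((pullback.lift_snd _ _ _).trans (Category.comp_id _))
  refine ⟨hcl, fun z => ?_⟩
  have h2 := (Groth.L14.RegImmStalk.regularAt_iff_stalk (CInt.fiberMap i p s) RegImm.Kind.regular z).mpr
    ((Groth.L14.RegImmStalk.regularAt_iff_stalk (CInt.fiberMap i p s) RegImm.Kind.koszul z).mp (hk.2 z))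
  obtain ⟨⟨U, hU⟩, hz, -, rs, hrs, hker⟩ := h2
  exact ⟨U, hU, hz, rs, hrs, by rw [Scheme.Hom.ker_apply]; exact hker⟩

end Groth.Agent.S1677
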