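import Groth.Statements.S16770
import Groth.Agent.L25.HomScheme.Hom

set_option autoImplicit false
open CategoryTheory MonoidalCategory CartesianMonoidalCategory MonObj GrpObj AlgebraicGeometry
universe u
open SGA3x

namespace Groth.Agent.S16770

/-- For X finite, flat and of finite presentation over a scheme S and Y affine of finite presentation
over S, the functor T ↦ Hom_S(X ×_S T, Y) on S-schemes is representable by an S-scheme which is
affine and of finite presentation over S (products are fibre products over S, written with the
cartesian monoidal structure of S-schemes). -/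
theorem result {S : Scheme.{u}} (X Y : Over S)
    (hXf : IsFinite X.hom) (hXfl : Flat X.hom) (hXfp : LocallyOfFinitePresentation X.hom)
    (hYa : IsAffineHom Y.hom) (hYfp : LocallyOfFinitePresentation Y.hom) :
    ∃ (M : Over S) (ev : X ⊗ M ⟶ Y), IsAffineHom M.hom ∧ LocallyOfFinitePresentation M.hom ∧
      ∀ (T : Over S) (φ : X ⊗ T ⟶ Y), ∃! v : T ⟶ M, (X ◁ v) ≫ ev = φ := by
  obtain ⟨M, ev, h, ha, -, hfp⟩ := Groth.L25.HomScheme.exists_weil X Y
  exact ⟨M, ev, ha, hfp hYfp, fun T φ => h T φ⟩

end Groth.Agent.S16770
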