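import Groth.Prelude.Def_AlgGrp
import Mathlib.AlgebraicGeometry.Morphisms.Finite
import Mathlib.AlgebraicGeometry.Morphisms.Flat
import Mathlib.AlgebraicGeometry.Morphisms.FinitePresentation
import Mathlib.AlgebraicGeometry.Morphisms.Affine
import Mathlib.AlgebraicGeometry.Morphisms.ClosedImmersion
import Groth.Agent.L02.SchDom.ClosedLocus
import Groth.Agent.L20.FibreScheme

set_option autoImplicit false
namespace SGA3x
end SGA3x
open CategoryTheory MonoidalCategory CartesianMonoidalCategory MonObj GrpObj AlgebraicGeometry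
universe u
open SGA3x

namespace Groth.Agent.S16771

/-- Let G be an affine group scheme of finite presentation over a scheme S, Y ⊆ G a closed subscheme
which is finite, flat and of finite presentation over S, and Y' ⊆ G a closed subscheme of finite
presentation over S. Then the transporter of Y into Y' (points g of G such that g y g⁻¹ is a point
of Y' for every point y of Y after any base change) is representable by a closed subscheme of G of
finite presentation over S. -/
theorem result {S : Scheme.{u}} (G Y Y' : Over S) [GrpObj G]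
    (hGa : IsAffineHom G.hom) (hGfp : LocallyOfFinitePresentation G.hom)
    (y : Y ⟶ G) (hy : IsClosedImmersion y.left) (hYf : IsFinite Y.hom) (hYfl : Flat Y.hom)
    (hYfp : LocallyOfFinitePresentation Y.hom)
    (y' : Y' ⟶ G) (hy' : IsClosedImmersion y'.left) (hY'fp : LocallyOfFinitePresentation Y'.hom) :
    ∃ (C : Over S) (c : C ⟶ G), IsClosedImmersion c.left ∧ LocallyOfFinitePresentation C.hom ∧
      ∀ (X : Over S) (g : X ⟶ G), (∃ z : X ⟶ C, z ≫ c = g) ↔
        ∀ (X' : Over S) (x : X' ⟶ X) (a : X' ⟶ Y), ∃ a' : X' ⟶ Y', (x ≫ g) * (a ≫ y) * (x ≫ g)⁻¹ = a' ≫ y' := by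
  haveI := hGfp
  haveI := hy'
  haveI : LocallyOfFinitePresentation (y'.left ≫ G.hom) := by rw [Over.w y']; exact hY'fp
  haveI : LocallyOfFinitePresentation y'.left :=
    Groth.L20.locallyOfFinitePresentation_of_comp y'.left G.hom
  haveI := hYf
  haveI := hYfl
  haveI := hYfp
  haveI : IsFinite (snd Y G).left := inferInstanceAs (IsFinite (Limits.pullback.snd Y.hom G.hom))
  haveI : Flat (snd Y G).left := inferInstanceAs (Flat (Limits.pullback.snd Y.hom G.hom))
  haveI : LocallyOfFinitePresentation (snd Y G).left :=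
    inferInstanceAs (LocallyOfFinitePresentation (Limits.pullback.snd Y.hom G.hom))
  let a : Y ⊗ G ⟶ G := snd Y G * (fst Y G ≫ y) * (snd Y G)⁻¹
  obtain ⟨T, t, ht, hlfp, hT⟩ :=
    Groth.L02.SchDom.exists_factorLocus (snd Y G).left y'.left a.left
  haveI := hlfp inferInstance
  refine ⟨Over.mk (t ≫ G.hom), Over.homMk t rfl, ht,
    inferInstanceAs (LocallyOfFinitePresentation (t ≫ G.hom)), fun X g => ?_⟩
  constructor
  · rintro ⟨w, hw⟩ X' x b
    obtain ⟨l, hl⟩ := (hT _ g.left).1 ⟨w.left, congrArg CommaMorphism.left hw⟩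
    let c : X' ⟶ Y ⊗ G := lift b (x ≫ g)
    have e : (x ≫ g) * (b ≫ y) * (x ≫ g)⁻¹ = c ≫ a := by
      simp only [a, c, MonObj.comp_mul, GrpObj.comp_inv, lift_snd, lift_fst_assoc]
    rw [e]
    have hc : c.left ≫ (snd Y G).left = x.left ≫ g.left := by
      rw [← Over.comp_left, ← Over.comp_left, lift_snd]
    let m := Limits.pullback.lift c.left x.left hc ≫ l
    have hm : m ≫ y'.left = (c ≫ a).left := by
      rw [Category.assoc, hl, Limits.pullback.lift_fst_assoc, Over.comp_left]
    refine ⟨Over.homMk m ?_, Over.OverMorphism.ext hm.symm⟩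
    rw [← Over.w y', ← Category.assoc, hm, Over.w (c ≫ a)]
  · intro hC
    let P : Over S := Over.mk (Limits.pullback.fst (snd Y G).left g.left ≫ (Y ⊗ G).hom)
    let c : P ⟶ Y ⊗ G := Over.homMk (Limits.pullback.fst _ _) rfl
    let x : P ⟶ X := Over.homMk (Limits.pullback.snd _ _) (by
      show Limits.pullback.snd (snd Y G).left g.left ≫ X.hom = Limits.pullback.fst _ _ ≫ (Y ⊗ G).hom
      rw [← Over.w g, ← Limits.pullback.condition_assoc, Over.w (snd Y G)])
    have hx : c ≫ snd Y G = x ≫ g := Over.OverMorphism.ext Limits.pullback.condition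
    obtain ⟨κ, hκ⟩ := hC P x (c ≫ fst Y G)
    have e : c ≫ a = κ ≫ y' := by
      rw [← hκ, ← hx]
      simp only [a, MonObj.comp_mul, GrpObj.comp_inv, Category.assoc]
    obtain ⟨w, hw⟩ := (hT _ g.left).2 ⟨κ.left, (congrArg CommaMorphism.left e).symm⟩
    exact ⟨Over.homMk w (by show w ≫ t ≫ G.hom = _; rw [← Category.assoc, hw, Over.w g]),
      Over.OverMorphism.ext hw⟩

end Groth.Agent.S16771
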