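import Groth.Statements.S16773
import Groth.Agent.L25.RedField.CentralIsogenyCrit
import Groth.Agent.L25.SplitSub.Join
import Groth.Agent.L08.FlatHom
import Groth.Agent.L20.FibreScheme
import Groth.Agent.L26.AV.SmoothField
-- import your own Groth.Agent.* helpers here

set_option autoImplicit false
open CategoryTheory MonoidalCategory CartesianMonoidalCategory MonObj GrpObj AlgebraicGeometry
universe u
open Red

set_option backward.isDefEq.respectTransparency.types false
set_option linter.style.haveILetI false

namespace Groth.Agent.S16773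

/-- Let f : G' → G be a homomorphism of reductive group schemes over a scheme S which is surjective,
with kernel K. If for every s ∈ S the fibre K_s is finite and central in G'_s, then f is flat, K is
finite over S and K is central in G' (f is a central isogeny). -/
theorem result {S : Scheme.{u}} {G' G K : Over S}
    [GrpObj G'] [GrpObj G] (hG' : Red.IsReductive G') (hG : Red.IsReductive G) (f : G' ⟶ G) [IsMonHom f]
    (hf : Surjective f.left) (i : K ⟶ G') (hK : AlgGrp.IsKernel i f)
    (hfin : ∀ s : S, IsFinite (K.hom.fiberToSpecResidueField s))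
    (hcen : ∀ (s : S) (X : Over (Spec (S.residueField s))) (x : X ⟶ Red.bc (S.fromSpecResidueField s) K)
      (g : X ⟶ Red.bc (S.fromSpecResidueField s) G'),
      (x ≫ (Over.pullback (S.fromSpecResidueField s)).map i) * g = g * (x ≫ (Over.pullback (S.fromSpecResidueField s)).map i)) :
    Flat f.left ∧ IsFinite K.hom ∧
      ∀ (X : Over S) (x : X ⟶ K) (g : X ⟶ G'), (x ≫ i) * g = g * (x ≫ i) := by
  haveI := hG'.1; haveI := hG'.2.1; haveI := hG.1; haveI := hG.2.1; haveI := hf
  haveI : LocallyOfFiniteType G.hom := inferInstance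
  haveI : GeometricallyReduced G.hom := Groth.Agent.AV.geometricallyReduced_of_smooth _
  have hflat : Flat f.left := (Groth.L08.FlatHom.flat_of_surjective_fibres G' G f).1
  haveI : LocallyOfFinitePresentation f.left := by
    haveI : LocallyOfFinitePresentation (f.left ≫ G.hom) := by rw [Over.w f]; infer_instance
    exact Groth.L20.locallyOfFinitePresentation_of_comp f.left G.hom
  obtain ⟨K', gK', k, hk, hkm, -, hK'⟩ := Groth.L25.SplitSub.exists_kernel f
  haveI := hk; haveI := hkm
  let e : K ≅ K' := hK.isoIsPullback _ _ hK'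
  have he : e.hom ≫ k = i := hK.isoIsPullback_hom_fst _ _ hK'
  have hsq := hK'.map (Over.forget S)
  haveI : IsSeparated G.hom := inferInstance
  haveI : IsClosedImmersion η[G].left := by
    haveI : IsClosedImmersion (η[G].left ≫ G.hom) := by rw [Over.w]; exact inferInstanceAs (IsClosedImmersion (𝟙 S))
    exact IsClosedImmersion.of_comp η[G].left G.hom
  haveI : IsClosedImmersion k.left := MorphismProperty.of_isPullback hsq.flip ‹_›
  haveI : Flat K'.hom := (MorphismProperty.of_isPullback hsq hflat : Flat ((Over.forget S).map (toUnit K')))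
  haveI : LocallyOfFinitePresentation K'.hom :=
    (MorphismProperty.of_isPullback hsq ‹LocallyOfFinitePresentation f.left› :
      LocallyOfFinitePresentation ((Over.forget S).map (toUnit K')))
  have hn : AlgGrp.IsNormalHom k := fun X g n => by
    have h1 : (n ≫ k) ≫ f = 1 := by
      rw [Category.assoc, hK'.w, ← Category.assoc, toUnit_unique (n ≫ toUnit K') (toUnit X), ← Hom.one_def]
    obtain ⟨z, hz, -⟩ := hK'.exists_lift (g * (n ≫ k) * g⁻¹) (toUnit X) (by
      rw [MonObj.mul_comp, MonObj.mul_comp, GrpObj.inv_comp, h1, _root_.mul_one, mul_inv_cancel, Hom.one_def])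
    exact ⟨z, hz.symm⟩
  haveI : IsIso e.hom.left := (Over.forget S).map_isIso e.hom
  haveI : IsIso e.inv.left := (Over.forget S).map_isIso e.inv
  have hfin' : ∀ s : S, IsFinite (K'.hom.fiberToSpecResidueField s) := fun s => by
    let φ : Limits.pullback K'.hom (S.fromSpecResidueField s) ⟶ Limits.pullback K.hom (S.fromSpecResidueField s) :=
      Limits.pullback.map _ _ _ _ e.inv.left (𝟙 _) (𝟙 _) (by rw [Over.w e.inv, Category.comp_id]) (by simp)
    haveI : IsIso φ := inferInstance
    have h2 : φ ≫ K.hom.fiberToSpecResidueField s = K'.hom.fiberToSpecResidueField s := by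
      exact (Limits.pullback.lift_snd _ _ _).trans (Category.comp_id _)
    rw [← h2]
    exact (MorphismProperty.cancel_left_of_respectsIso @IsFinite φ _).2 (hfin s)
  obtain ⟨hKf, hKc⟩ := Groth.L25.RedField.finite_and_central hG' k hn hfin' fun L _ b X w hw x g => by
    obtain ⟨⟨s, φ⟩, rfl⟩ := (Scheme.SpecToEquivOfField L S).symm.surjective b
    change w ≫ Spec.map φ ≫ S.fromSpecResidueField s = X.hom at hw
    let j := S.fromSpecResidueField s
    let X₁ : Over (Spec (S.residueField s)) := Over.mk (w ≫ Spec.map φ)
    have hX : X₁.hom ≫ j = X.hom := (Category.assoc _ _ _).trans hw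
    let u : Over.mk (X₁.hom ≫ j) ⟶ X := Over.homMk (𝟙 _) (by exact (Category.id_comp _).trans hX.symm)
    haveI : IsIso u := by
      haveI : IsIso ((Over.forget S).map u) := inferInstanceAs (IsIso (𝟙 X.left))
      exact isIso_of_reflects_iso u (Over.forget S)
    have h := congrArg (Groth.L25.NilAction.toBase j) (hcen s X₁ (Groth.L25.NilAction.ofBase j (u ≫ x ≫ e.inv))
      (Groth.L25.NilAction.ofBase j (u ≫ g)))
    rw [Groth.L25.NilAction.toBase_mul, Groth.L25.NilAction.toBase_mul, Groth.L25.SplitSub.toBase_map,
      Groth.L25.NilAction.toBase_ofBase, Groth.L25.NilAction.toBase_ofBase, Category.assoc, Category.assoc, ← he,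
      e.inv_hom_id_assoc, ← MonObj.comp_mul, ← MonObj.comp_mul, cancel_epi] at h
    exact h
  refine ⟨hflat, ?_, fun X x g => ?_⟩
  · rw [← Over.w e.hom]
    haveI := hKf
    infer_instance
  · rw [← he, ← Category.assoc]
    exact hKc X (x ≫ e.hom) g

end Groth.Agent.S16773
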