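import Groth.Statements.S16780
import Groth.Agent.L25.Extension.Main
import Groth.Agent.L25.Extension.Comm

set_option backward.isDefEq.respectTransparency.types false

set_option autoImplicit false
open CategoryTheory MonoidalCategory CartesianMonoidalCategory MonObj GrpObj AlgebraicGeometry
universe u
open SGA3x

namespace Groth.Agent.S16780

/-- Let 1 → H' → H → H'' → 1 be a short exact sequence of affine, flat, finitely presented group schemes
over a scheme S with H' and H'' of multiplicative type (of finite type). If every fibre H_s is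
connected or commutative, then H is of multiplicative type. -/
theorem result {S : Scheme.{u}} (H' H H'' : Over S) [GrpObj H'] [GrpObj H] [GrpObj H'']
    (hHa : IsAffineHom H.hom) (hHfl : Flat H.hom) (hHfp : LocallyOfFinitePresentation H.hom)
    (p : H ⟶ H'') [IsMonHom p] [Surjective p.left] [Flat p.left] [QuasiCompact p.left]
    (i : H' ⟶ H) [IsMonHom i] (hker : AlgGrp.IsKernel i p)
    (hH' : SGA3x.IsMultTypeFT H') (hH'' : SGA3x.IsMultTypeFT H'')
    (hfib : ∀ s : S, _root_.IsConnected (H.hom.base ⁻¹' {s}) ∨
      ∀ (X : Over (Spec (S.residueField s))) (a b : X ⟶ Red.bc (S.fromSpecResidueField s) H), a * b = b * a) :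
    SGA3x.IsMultTypeFT H := by
  have hx := Groth.L25.Extension.IsExt.of_isKernel (π := p) hker
  refine hx.isMultTypeFT (fun X a b => hx.comm hH' hH'' (fun s => (hfib s).symm.imp_left fun hc Y y y' w hw => ?_) X a b)
    hH' hH''
  let c : Over.mk ((Over.mk w).hom ≫ S.fromSpecResidueField s) ⟶ Y := Over.homMk (𝟙 Y.left) (by
    show 𝟙 Y.left ≫ Y.hom = w ≫ _
    rw [Category.id_comp, hw])
  let c' : Y ⟶ Over.mk ((Over.mk w).hom ≫ S.fromSpecResidueField s) := Over.homMk (𝟙 Y.left) (by
    show 𝟙 Y.left ≫ w ≫ _ = Y.hom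
    rw [Category.id_comp, hw])
  have hcc : c' ≫ c = 𝟙 Y := Over.OverMorphism.ext (Category.id_comp _)
  have e := congrArg (Groth.L25.NilAction.toBase _)
    (hc _ (Groth.L25.NilAction.ofBase _ (c ≫ y)) (Groth.L25.NilAction.ofBase _ (c ≫ y')))
  rw [Groth.L25.NilAction.toBase_mul, Groth.L25.NilAction.toBase_mul, Groth.L25.NilAction.toBase_ofBase,
    Groth.L25.NilAction.toBase_ofBase, ← MonObj.comp_mul, ← MonObj.comp_mul] at e
  rw [← Category.id_comp (y * y'), ← Category.id_comp (y' * y), ← hcc, Category.assoc, Category.assoc, e]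

end Groth.Agent.S16780
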