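import Groth.Statements.S16783
import Groth.Agent.L24.TorsOrder.Main

set_option autoImplicit false
set_option backward.isDefEq.respectTransparency.types false
open CategoryTheory MonoidalCategory CartesianMonoidalCategory MonObj GrpObj AlgebraicGeometry
universe u
open CategoryTheory.Limits
open SGA3x

namespace Groth.Agent.S16783

/-- Let H be an affine, flat, finitely presented group scheme over a scheme S whose geometric fibres are
of multiplicative type and such that, for every n ≥ 1, the order of the n-torsion subgroup scheme of
the fibre H_s is locally constant in s. Then H is of multiplicative type. -/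
theorem result {S : Scheme.{u}} (H : Over S) [GrpObj H]
    (hHa : IsAffineHom H.hom) (hHfl : Flat H.hom) (hHfp : LocallyOfFinitePresentation H.hom)
    (hfib : ∀ s : S, SGA3x.IsMultTypeFT (Red.geomFibre s H))
    (hord : ∀ n : ℕ, 0 < n → ∃ d : S → ℕ, IsLocallyConstant d ∧ ∀ (s : S)
      (x : ↥(Spec (S.residueField s))),
      ((pullback.snd η[H].left (𝟙 H ^ n : H ⟶ H).left ≫ H.hom).fiberToSpecResidueField s).finrank x = d s) :
    SGA3x.IsMultTypeFT H := by
  exact Groth.L24.TorsOrder.isMultTypeFT_of_orders H hHa hHfl hHfp hfib hord

end Groth.Agent.S16783
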