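import Groth.Prelude.Def_Red
import Mathlib.AlgebraicGeometry.Morphisms.FinitePresentation
import Groth.Agent.L02.SchDom.WeilApps

set_option autoImplicit false
namespace SGA3x
end SGA3x
open CategoryTheory MonoidalCategory CartesianMonoidalCategory MonObj GrpObj AlgebraicGeometry
universe u
open SGA3x

namespace Groth.Agent.S16785

/-- Let G be an affine group scheme of finite presentation over a scheme S and Y ⊆ G a closed subscheme
of finite presentation, smooth over S with non-empty geometrically connected fibres. Then the
centralizer of Y in G is representable by a closed subscheme of G. (The published statement asks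
only that the fibres of Y be connected; this row asks them to be geometrically connected, the case
the printed argument treats.) -/
theorem result {S : Scheme.{u}} (G Y : Over S) [GrpObj G]
    (hGa : IsAffineHom G.hom) (hGfp : LocallyOfFinitePresentation G.hom)
    (y : Y ⟶ G) (hy : IsClosedImmersion y.left) (hYs : Smooth Y.hom) (hYfp : LocallyOfFinitePresentation Y.hom)
    (hYc : ∀ s : S, ConnectedSpace ↥(Red.geomFibre s Y).left) :
    ∃ (C : Over S) (c : C ⟶ G), IsClosedImmersion c.left ∧
      ∀ (X : Over S) (g : X ⟶ G), (∃ z : X ⟶ C, z ≫ c = g) ↔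
        ∀ (X' : Over S) (x : X' ⟶ X) (a : X' ⟶ Y), (x ≫ g) * (a ≫ y) = (a ≫ y) * (x ≫ g) := by
  haveI := hYs
  haveI := hGa
  haveI := Groth.L02.SchDom.isClosedImmersion_diag G
  have hf : Groth.L02.SchDom.IrrFib Y.hom := Groth.L02.SchDom.IrrFib.of_connected Y.hom hYc
  obtain ⟨C, z, hz, -, hC⟩ := Groth.L02.SchDom.exists_smoothPointLocus hf (lift (𝟙 G) (𝟙 G))
    (lift (fst G Y * (snd G Y ≫ y)) ((snd G Y ≫ y) * fst G Y))
  refine ⟨C, z, hz, fun X g => (hC X g).trans
    (forall_congr' fun X' => forall_congr' fun x => forall_congr' fun a => ?_)⟩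
  rw [comp_lift, Groth.L02.SchDom.fac_diag]
  simp only [MonObj.comp_mul, lift_fst, lift_snd_assoc]

end Groth.Agent.S16785
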