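import Groth.Statements.S16786
import Groth.Agent.L24.MSub.Univ
import Groth.Agent.L24.MSub.Slice

set_option autoImplicit false
set_option backward.isDefEq.respectTransparency.types false
open CategoryTheory MonoidalCategory CartesianMonoidalCategory MonObj GrpObj AlgebraicGeometry
universe u
open CategoryTheory.Limits
open SGA3x

namespace Groth.Agent.S16786

/-- Let G be a smooth affine group scheme over a scheme S, s ∈ S, and H₀ a subgroup scheme of
multiplicative type of the fibre G_s. Then H₀ lifts to a subgroup scheme of multiplicative type of G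
over an etale neighbourhood of s with trivial residue field extension: there are an etale S' → S, a
κ(s)-point of S' over s and a multiplicative type subgroup of G_{S'} restricting to H₀ along that
point. -/
theorem result {S : Scheme.{u}} (G : Over S) [GrpObj G]
    (hG : Smooth G.hom) (hGa : IsAffineHom G.hom) (s : S)
    (H₀ : Over (Spec (S.residueField s))) [GrpObj H₀] (i₀ : H₀ ⟶ Red.bc (S.fromSpecResidueField s) G)
    [IsMonHom i₀] [Mono i₀] (hH₀ : SGA3x.IsMultTypeFT H₀) :
    ∃ (S' : Scheme.{u}) (e : S' ⟶ S) (σ : Spec (S.residueField s) ⟶ S'), Etale e ∧ σ ≫ e = S.fromSpecResidueField s ∧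
      ∃ (H' : Over S') (_ : GrpObj H') (i' : H' ⟶ Red.bc e G) (_ : IsMonHom i') (_ : Mono i'), SGA3x.IsMultTypeFT H' ∧
        ∃ φ : H₀.left ≅ (Red.bc σ H').left, φ.hom ≫ (Red.bc σ H').hom = H₀.hom ∧
          φ.hom ≫ ((Over.pullback σ).map i').left ≫ pullback.fst (Red.bc e G).hom σ ≫ pullback.fst G.hom e =
            i₀.left ≫ pullback.fst G.hom (S.fromSpecResidueField s) := by
  haveI := hG
  haveI := hGa
  obtain ⟨R⟩ := Groth.L24.MSub.nonempty_mrep G
  obtain ⟨hg, hj⟩ := R.exists_grp
  letI := hg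
  haveI := hj
  haveI := R.smooth
  haveI := R.separated
  obtain ⟨v, hv⟩ := R.exists_map (f := S.fromSpecResidueField s) i₀ hH₀
  obtain ⟨Z, c, σ, he, hσ⟩ := Groth.L24.MSub.exists_etale_slice R.A.hom s v.left (Over.w v)
  let e : Z ⟶ S := c ≫ R.A.hom
  let Zo : Over S := Over.mk e
  let co : Zo ⟶ R.A := Over.homMk c rfl
  let ci := ActBC.bcCompIso c R.A.hom G (d := e) rfl
  let i' : Red.bc c R.K ⟶ Red.bc e G := (Over.pullback c).map R.j ≫ ci.hom
  haveI : IsMonHom ((Over.pullback c).map R.j) := Groth.L25.MonoClosed.isMonHom_pullbackMap _ _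
  haveI : IsMonHom ci.hom := (Grp.mkIso' ci).hom.hom.isMonHom_hom
  haveI : IsMonHom i' := inferInstanceAs (IsMonHom ((Over.pullback c).map R.j ≫ ci.hom))
  haveI : Mono R.j := Over.mono_of_mono_left _
  haveI : Mono i' := inferInstanceAs (Mono ((Over.pullback c).map R.j ≫ ci.hom))
  haveI : Mono i'.left := inferInstance
  have hσe : σ ≫ e = S.fromSpecResidueField s := by
    show σ ≫ c ≫ R.A.hom = _
    rw [← Category.assoc, hσ]
    exact Over.w v
  refine ⟨Z, e, σ, he, hσe, Red.bc c R.K, inferInstance, i', inferInstance, inferInstance,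
    Groth.L25.MultTypeBC.isMultTypeFT_bc R.isMultTypeFT_K c,
    Groth.L24.FinSub.exists_iso_pullback (M := Zo) i' i₀ σ hσe fun Y t g => ?_⟩
  rw [hv]
  refine Iff.trans ?_ (Groth.L24.FinSub.mem_bc_iff R.j co (t ≫ Over.homMk σ hσe) g).symm
  rw [Category.assoc, show (Over.homMk σ hσe : Over.mk (S.fromSpecResidueField s) ⟶ Zo) ≫ co = v from
    Over.OverMorphism.ext hσ]

end Groth.Agent.S16786
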