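import Groth.Statements.S16789
import Groth.Agent.L24.FinSub.TwistScheme

set_option autoImplicit false
set_option backward.isDefEq.respectTransparency.types false
open CategoryTheory MonoidalCategory CartesianMonoidalCategory MonObj GrpObj AlgebraicGeometry
universe u
open SGA3x

namespace Groth.Agent.S16789

/-- Let G be a smooth affine group scheme over a scheme S and H ⊆ G a subgroup scheme of multiplicative
type (of finite type) with finite fibres. The functor of multiplicative-type subgroup schemes of
base changes of G whose geometric fibres are isomorphic (as groups) to those of H is representable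
by an S-scheme which is quasi-affine and of finite presentation over S, with a universal such
subgroup. -/
theorem result {S : Scheme.{u}} (G H : Over S) [GrpObj G] [GrpObj H]
    (hG : Smooth G.hom) (hGa : IsAffineHom G.hom) (i : H ⟶ G) [IsMonHom i] [Mono i] (hH : SGA3x.IsMultTypeFT H)
    (hHf : ∀ s : S, IsFinite (H.hom.fiberToSpecResidueField s)) :
    ∃ (M : Over S) (Hu : Over M.left) (_ : GrpObj Hu) (hu : Hu ⟶ Red.bc M.hom G) (_ : IsMonHom hu) (_ : Mono hu),
      Mor2.IsQuasiAffine M.hom ∧ LocallyOfFinitePresentation M.hom ∧ SGA3x.IsMultTypeFT Hu ∧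
      (∀ m : ↥M.left, Nonempty (Grp.mk (Red.geomFibre m Hu) ≅ Grp.mk (Red.bc (Red.geomPt m ≫ M.hom) H))) ∧
      ∀ (S' : Scheme.{u}) (f : S' ⟶ S) (H' : Over S') [GrpObj H'] (h' : H' ⟶ Red.bc f G) [IsMonHom h'] [Mono h'],
        SGA3x.IsMultTypeFT H' →
        (∀ s' : S', Nonempty (Grp.mk (Red.geomFibre s' H') ≅ Grp.mk (Red.bc (Red.geomPt s' ≫ f) H))) →
        ∃! g : S' ⟶ M.left, g ≫ M.hom = f ∧ RedSub.SamePoints G f h' M hu g := by
  haveI := hG
  haveI := hGa
  exact Groth.L24.FinSub.exists_twistScheme H hH hHf

end Groth.Agent.S16789
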