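import Groth.Statements.S16790
import Groth.Agent.L25.HomScheme.Hom

set_option autoImplicit false
open CategoryTheory MonoidalCategory CartesianMonoidalCategory MonObj GrpObj AlgebraicGeometry
universe u
open SGA3x

namespace Groth.Agent.S16790

/-- For finitely presented group schemes G, G' over a scheme S with G finite flat and G' affine over S,
the functor T ↦ Hom_{T-gp}(G_T, G'_T) is representable by an S-scheme which is affine and of finite
presentation over S (a T-homomorphism is written as a morphism G ×_S T → G' over S that is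
multiplicative in the first variable on points). -/
theorem result {S : Scheme.{u}} (G G' : Over S) [GrpObj G] [GrpObj G']
    (hGf : IsFinite G.hom) (hGfl : Flat G.hom) (hGfp : LocallyOfFinitePresentation G.hom)
    (hG'a : IsAffineHom G'.hom) (hG'fp : LocallyOfFinitePresentation G'.hom) :
    ∃ (M : Over S) (ev : G ⊗ M ⟶ G'), IsAffineHom M.hom ∧ LocallyOfFinitePresentation M.hom ∧
      (∀ (X : Over S) (a b : X ⟶ G) (m : X ⟶ M), lift (a * b) m ≫ ev = (lift a m ≫ ev) * (lift b m ≫ ev)) ∧
      ∀ (T : Over S) (φ : G ⊗ T ⟶ G'),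
        (∀ (X : Over S) (a b : X ⟶ G) (t : X ⟶ T), lift (a * b) t ≫ φ = (lift a t ≫ φ) * (lift b t ≫ φ)) →
        ∃! v : T ⟶ M, (G ◁ v) ≫ ev = φ := by
  obtain ⟨M, ev, ⟨h1, h2⟩, ha, -, hfp⟩ := Groth.L25.HomScheme.exists_representsHom G G'
  exact ⟨M, ev, ha, hfp hG'fp, h1, fun T φ hφ => h2 T φ hφ⟩

end Groth.Agent.S16790
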