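import Groth.Statements.S16794
import Groth.Agent.L13.PCurv

set_option autoImplicit false
universe v u
open PCurv

namespace Groth.Agent.S16794

open TensorProduct in
/-- Let p be a prime number and B a commutative algebra of characteristic p over a commutative ring A
whose module Ω of Kähler differentials over A is free of rank one on a form ω; let θ₀ be the
A-derivation of B dual to ω (its B-linear functional Ω → B takes the value 1 on ω), and let ∇ be a
connection on a finite free B-module M. Then the p-curvature of ∇ vanishes identically — for every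
A-derivation θ of B and every derivation θ' that agrees with the p-fold iterate of θ, the
endomorphism (∇_θ)^p − ∇_{θ'} of M is zero — if and only if it vanishes for the single derivation
θ₀. -/
theorem result {A : Type v} {B M : Type u} [CommRing A] [CommRing B]
    [Algebra A B] (p : ℕ) [Fact p.Prime] [CharP B p]
    [AddCommGroup M] [Module B M] [Module A M] [IsScalarTower A B M] [Module.Finite B M] [Module.Free B M]
    (bΩ : Module.Basis (Fin 1) B (KaehlerDifferential A B)) (θ₀ : Derivation A B B)
    (hθ₀ : θ₀.liftKaehlerDifferential (bΩ 0) = 1)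
    (nabla : M →ₗ[A] M ⊗[B] KaehlerDifferential A B)
    (hc : Conn.IsConn (KaehlerDifferential.D A B) nabla) :
    (∀ θ θp : Derivation A B B, Conn.IsIterPow θ p θp → Conn.pCurv p nabla θ θp = 0) ↔
      (∀ θp : Derivation A B B, Conn.IsIterPow θ₀ p θp → Conn.pCurv p nabla θ₀ θp = 0) := by
  refine ⟨fun h θp hθp => h θ₀ θp hθp, fun h θ θp hθp => ?_⟩
  rw [Groth.L13.PCurv.eq_smul_of_basis bΩ θ₀ θ hθ₀] at hθp ⊢
  exact Groth.L13.PCurv.pCurv_eq_zero nabla hc θ₀ _
    (h _ (Groth.L13.PCurv.isIterPow_iterPow p θ₀)) θp hθp

end Groth.Agent.S16794
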