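import Groth.Statements.S16798
import Groth.Agent.L15.LogLayer
import Mathlib.Tactic.Ring
import Mathlib.Tactic.LinearCombination
import Mathlib.Tactic.FieldSimp
import Mathlib.Algebra.BigOperators.Ring.Finset

set_option autoImplicit false
universe v u
open LogConn

namespace Groth.Agent.S16798

open TensorProduct in
/-- Let B be a commutative algebra over a commutative ring A, λ ∈ B, and t₁, …, tₙ ∈ B elements whose
differentials dt₁, …, dtₙ form a basis of the Kähler differentials Ω of B over A; let L be a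
B-module free on ω₁, …, ωₙ with a B-linear ι : Ω → L sending dtᵢ to tᵢ ωᵢ (ωᵢ playing the role of
dlog tᵢ), and E a B-module with an A-linear ∇ : E → E ⊗ L obeying the λ-twisted Leibniz rule ∇(b e)
= b ∇e + λ e ⊗ ι(db); write ∇ᵢ for the components of ∇ in the basis ω, ∇_J for their composite over
a finite index set J in increasing order, and E_I = Σ_{J ⊆ I} (∏_{i ∈ I∖J} tᵢ) · ∇_J(E) (an
A-submodule of E) for a finite index set I. Assume ∇ flat: for the logarithmic de Rham differential
d on the exterior powers of L (pinned on generators by d(b₀ · e₁ ∧ ⋯ ∧ e_p) = ι(db₀) ∧ e₁ ∧ ⋯ ∧ e_p,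
factors eⱼ of the form ι(db) or ωᵢ) and the λ-twisted extension ∇^• of ∇ (∇^p(e ⊗ η) = ∇(e) ∧ η + e
⊗ λ dη) one has ∇¹ ∘ ∇ = 0. Let u₁, …, uₙ be units of B such that the elements t'ᵢ = uᵢ tᵢ again
have differentials forming a basis of Ω, and such that the elements ω'ᵢ = ωᵢ + uᵢ⁻¹ ι(duᵢ) again
form a basis of L (a second admissible coordinate system with the same branches, ω'ᵢ playing the
role of dlog t'ᵢ). Then for every p the layer ⊕_{|K| = p} E_K ⊗ ω_K formed with the coordinates t,
the basis ω and the components of ∇ in ω coincides with the layer formed with t', ω' and the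
components of ∇ in ω'. (The published statement also allows a permutation of the indices.) -/
theorem result {A : Type v} {B L E : Type u} [CommRing A] [CommRing B]
    [Algebra A B] [AddCommGroup L] [Module B L] [Module A L] [IsScalarTower A B L]
    [AddCommGroup E] [Module B E] [Module A E] [IsScalarTower A B E]
    (lam : B) {n : ℕ} (t : Fin n → B) (bΩ : Module.Basis (Fin n) B (KaehlerDifferential A B))
    (hbΩ : ∀ i, bΩ i = KaehlerDifferential.D A B (t i))
    (ω : Module.Basis (Fin n) B L) (ι : KaehlerDifferential A B →ₗ[B] L)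
    (hι : ∀ i, ι (KaehlerDifferential.D A B (t i)) = t i • ω i)
    (nabla : E →ₗ[A] E ⊗[B] L)
    (hc : Conn.IsLamConn (ι.compDer (KaehlerDifferential.D A B)) lam nabla)
    (d : ∀ p : ℕ, ↥(⋀[B]^p L) →ₗ[A] ↥(⋀[B]^(p + 1) L))
    (hd : LogDiff.IsLogRule (KaehlerDifferential.D A B) ι (⇑ω) d)
    (nablas : ∀ p : ℕ, E ⊗[B] ↥(⋀[B]^p L) →ₗ[A] E ⊗[B] ↥(⋀[B]^(p + 1) L))
    (hint : Conn.IsIntegrable nabla (fun p => lam • d p) nablas)
    (u : Fin n → Bˣ) (bΩ' : Module.Basis (Fin n) B (KaehlerDifferential A B))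
    (hbΩ' : ∀ i, bΩ' i = KaehlerDifferential.D A B ((u i : B) * t i))
    (ω' : Module.Basis (Fin n) B L)
    (hω' : ∀ i, ω' i = ω i + ((u i)⁻¹ : Bˣ).val • ι (KaehlerDifferential.D A B (u i : B)))
    (p : ℕ) :
    LogConn.layer nabla ω t p = LogConn.layer nabla ω' (fun i => (u i : B) * t i) p := by
  exact Groth.L15.LogLayer.layer_eq lam t bΩ hbΩ ω ι hι nabla hc d hd nablas hint u bΩ' hbΩ' ω' hω' p

end Groth.Agent.S16798
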