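import Groth.Statements.S16799
import Groth.Agent.L23.QuotGM.QcQs
import Groth.Agent.L08.Integral

set_option autoImplicit false
universe u
open CategoryTheory MonoidalCategory CartesianMonoidalCategory AlgebraicGeometry
open StMod

namespace Groth.Agent.S16799

/-- Let `R` be a commutative ring, `A` a commutative Hopf algebra over `R`, flat and of finite
presentation as an `R`-algebra (the coordinate ring of an affine, flat, finitely presented group
scheme `G` over `S = Spec R`), and `B` a commutative `R`-algebra with a coaction of `A` that is an
algebra map (an action of `G` on `X = Spec B`); let `C = B^A` be the ring of invariants and `Y =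
Spec C`. Suppose the action is tame: there is a comodule map `α : A → B` with `α 1 = 1`. Let `[X/G]`
be the fppf quotient stack in its description by `G`-torsors that are schemes with an equivariant
map to `X`, assumed to be an algebraic stack, and let `ρ : [X/G] ⟶ Y` be the functor over `(Sch/S)`
whose composite with the canonical `X ⟶ [X/G]` is the functor induced by the quotient map `X ⟶ Y`
(there is exactly one such functor). Then `ρ` is a good moduli space: pushforward along `ρ` takes
surjections of quasi-coherent modules on `[X/G]` to maps that are surjective on sections over every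
affine scheme etale over `Y`, the canonical map from the functions on any scheme etale over `Y` to
the sections of `ρ_* O` over it is bijective, and `ρ` is quasi-compact and quasi-separated. (The
published statement assumes only that `A` is flat over `R`; finite presentation of `A` is assumed
here as the setting in which good moduli spaces of quotient stacks and the pushforward of
quasi-coherent modules along `ρ` are defined.) -/
theorem result
    (R : Type u) [CommRing R] (A : Type u) [CommRing A] [HopfAlgebra R A] [Module.Flat R A]
    [Algebra.FinitePresentation R A]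
    (B : Type u) [CommRing B] [Algebra R B] [HopfRep.Comod R A B] [GLin.IsCoactAlg R A B]
    (htame : ∃ α : A →ₗ[R] B, Hoch.IsComodHom A α ∧ α 1 = 1)
    (h𝒳 : AlgSt.IsAlgStack Scheme.fppfPrecoverage
      (AlgSt.QuotSt Scheme.fppfPrecoverage (CoactBr.sp R A) (CoactBr.action R A B)))
    (ρ : AlgSt.QuotSt Scheme.fppfPrecoverage (CoactBr.sp R A) (CoactBr.action R A B) ⥤ᵇ
      AlgSt.ofSch (CoactBr.sp R ↥(GLin.invariants R A B)))
    (hρ : BasedFunctor.comp (AlgSt.quotMap Scheme.fppfPrecoverage (CoactBr.sp R A) (CoactBr.action R A B)) ρ =
      AlgSt.ofSpMap ((AlgSp.yon (Spec (CommRingCat.of R))).map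
        (CoactBr.pt (GLin.invariants R A B).val))) :
    StMod.IsGoodModuli ρ ∧ AlgSt.IsQuasiCompactMor Scheme.fppfPrecoverage ρ ∧
      AlgSt.IsQuasiSeparatedMor ρ := by
  obtain ⟨α, hα, h1⟩ := htame
  refine ⟨⟨Groth.L23.QuotGM.isCohAffine_of_fixed ρ ?_, Groth.L23.QuotGM.unitIsIso_rho ρ hρ⟩,
    Groth.L23.QuotGM.isQuasiCompactMor_rho ρ hρ, Groth.L23.QuotGM.isQuasiSeparatedMor_rho ρ⟩
  intro M N _ _ _ _ _ _ _ _ _ _ _ _ f hf hs n hn
  obtain ⟨m, rfl⟩ := hs n
  exact ⟨_, Groth.L08.reynolds_mem_fixedPts hα m,
    (Groth.L08.reynolds_natural f hf m).trans (Groth.L08.reynolds_of_mem_fixedPts h1 hn)⟩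

end Groth.Agent.S16799
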