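import Groth.Statements.S16800
import Groth.Agent.L23.QuotGM.Conv

set_option autoImplicit false
universe u
open CategoryTheory MonoidalCategory CartesianMonoidalCategory AlgebraicGeometry
open StMod

namespace Groth.Agent.S16800

/-- Let `R` be a commutative ring, `A` a commutative Hopf algebra over `R`, flat and of finite
presentation as an `R`-algebra (the coordinate ring of an affine, flat, finitely presented group
scheme `G` over `S = Spec R`), `B` a commutative `R`-algebra with a coaction of `A` that is an
algebra map (an action of `G` on `X = Spec B`), `C = B^A` the ring of invariants and `Y = Spec C`.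
Let `[X/G]` be the fppf quotient stack in its description by `G`-torsors that are schemes with an
equivariant map to `X`, assumed to be an algebraic stack, and let `ρ : [X/G] ⟶ Y` be the functor
over `(Sch/S)` whose composite with the canonical `X ⟶ [X/G]` is the functor induced by `X ⟶ Y`;
assume `ρ` quasi-compact and quasi-separated (the hypotheses under which pushforward of
quasi-coherent modules along `ρ` is again quasi-coherent). Then pushforward along `ρ` is exact on
quasi-coherent modules — every surjection of quasi-coherent modules on `[X/G]` induces a surjection
on the sections of the pushforwards over every affine scheme etale over `Y` — if and only if taking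
`A`-invariants is exact on `(B, A)`-modules: for `B`-modules `M`, `N` in the universe of `R` with
compatible `A`-coactions and every surjective `B`-linear comodule map `f : M → N`, each invariant of
`N` is the image of an invariant of `M`. (The published statement assumes only that `A` is flat over
`R`; finite presentation of `A` is assumed here as the setting in which the pushforward of
quasi-coherent modules along `ρ` is defined.) -/
theorem result
    (R : Type u) [CommRing R] (A : Type u) [CommRing A] [HopfAlgebra R A] [Module.Flat R A]
    [Algebra.FinitePresentation R A]
    (B : Type u) [CommRing B] [Algebra R B] [HopfRep.Comod R A B] [GLin.IsCoactAlg R A B]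
    (h𝒳 : AlgSt.IsAlgStack Scheme.fppfPrecoverage
      (AlgSt.QuotSt Scheme.fppfPrecoverage (CoactBr.sp R A) (CoactBr.action R A B)))
    (ρ : AlgSt.QuotSt Scheme.fppfPrecoverage (CoactBr.sp R A) (CoactBr.action R A B) ⥤ᵇ
      AlgSt.ofSch (CoactBr.sp R ↥(GLin.invariants R A B)))
    (hρ : BasedFunctor.comp (AlgSt.quotMap Scheme.fppfPrecoverage (CoactBr.sp R A) (CoactBr.action R A B)) ρ =
      AlgSt.ofSpMap ((AlgSp.yon (Spec (CommRingCat.of R))).map
        (CoactBr.pt (GLin.invariants R A B).val)))
    (hqc : AlgSt.IsQuasiCompactMor Scheme.fppfPrecoverage ρ) (hqs : AlgSt.IsQuasiSeparatedMor ρ) :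
    StMod.IsCohAffine ρ ↔
      ∀ (M N : Type u) [AddCommGroup M] [Module R M] [Module B M] [IsScalarTower R B M]
        [HopfRep.Comod R A M] [TameAct.IsHopfMod R A B M]
        [AddCommGroup N] [Module R N] [Module B N] [IsScalarTower R B N]
        [HopfRep.Comod R A N] [TameAct.IsHopfMod R A B N] (f : M →ₗ[B] N),
        Hoch.IsComodHom A (f.restrictScalars R) → Function.Surjective f →
          ∀ n ∈ HopfRep.fixedPts R A N, ∃ m ∈ HopfRep.fixedPts R A M, f m = n := by
  constructor
  · intro h M N _ _ _ _ _ _ _ _ _ _ _ _ f hf hs
    exact Groth.L23.QuotGM.fixed_of_isCohAffine ρ h M N f hf hs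
  · intro h
    exact Groth.L23.QuotGM.isCohAffine_of_fixed ρ h

end Groth.Agent.S16800
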