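import Groth.Statements.S16801
import Groth.Agent.Lead.InvFiniteRel
-- import your own Groth.Agent.* helpers here

set_option autoImplicit false
universe u
open LunaSt

namespace Groth.Agent.S16801

/-- Let `k` be a field and `H` a commutative Hopf algebra of finite type over `k` all of whose
finite-dimensional comodules are semisimple (a linearly reductive affine group `G = Spec H` of
finite type). Let `A` be a Noetherian commutative `k`-algebra with a coaction of `H` that is an
algebra map (an action of `G` on `Spec A`), and `C` a commutative `A`-algebra of finite type with a
coaction of `H` that is an algebra map, such that the structure map `A → C` is a comodule map (a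
finitely generated `G`-equivariant quasi-coherent algebra on `Spec A`). Then the invariants `C^G`
form a finitely generated algebra over `A^G`: there is a finite subset `s` of `C` such that `C^G` is
the `k`-subalgebra generated by the image of `A^G` and `s`. (The published statement is that for a
Noetherian algebraic stack with a good moduli space `π`, pushforward along `π` preserves finitely
generated algebras; this row is its case `[Spec A/G] → Spec A^G`, for which the pushforward of the
algebra given by `C` has global sections `C^G`. All of `k`, `H`, `A`, `C` are taken in one
universe.) -/
theorem result
    (k : Type u) [Field k] (H : Type u) [CommRing H] [HopfAlgebra k H] [Algebra.FiniteType k H]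
    (hG : HopfRep.IsLinearlyReductive k H)
    (A : Type u) [CommRing A] [Algebra k A] [IsNoetherianRing A]
    [HopfRep.Comod k H A] [GLin.IsCoactAlg k H A]
    (C : Type u) [CommRing C] [Algebra k C] [HopfRep.Comod k H C] [GLin.IsCoactAlg k H C]
    [Algebra A C] [IsScalarTower k A C] [Algebra.FiniteType A C]
    (hAC : Hoch.IsComodHom H (IsScalarTower.toAlgHom k A C).toLinearMap) :
    ∃ s : Finset C, GLin.invariants k H C =
      Algebra.adjoin k (⇑(algebraMap A C) '' ↑(GLin.invariants k H A) ∪ ↑s) := by
  exact Groth.Lead.InvFiniteRel.exists_finset_invariants hG hAC

end Groth.Agent.S16801
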