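import Groth.Statements.S16808
import Groth.Agent.L09.Residual.Stack
import Groth.Agent.S16806
import Groth.Agent.L24.St.AlgStackInv

set_option autoImplicit false
universe u
open CategoryTheory AlgebraicGeometry
open Gerb

set_option backward.isDefEq.respectTransparency false
set_option backward.isDefEq.respectTransparency.types false

namespace Groth.Agent.S16808

open Groth.L09.Residual Groth.L09.FieldPt

/-- Let the algebraic stack 𝒵 receive a surjective flat morphism from the spectrum of a field. Then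
there is a unique strictly full subcategory of 𝒵 which is an algebraic stack receiving a locally
finitely presented, surjective, flat morphism from the spectrum of a field; its inclusion into 𝒵 is
a monomorphism. -/
theorem result
    (S : Scheme.{u}) (𝒵 : AlgSt.Cat S) (h𝒵 : AlgSt.IsAlgStack Scheme.fppfPrecoverage 𝒵)
    (k : Type u) [Field k] (a : Spec (CommRingCat.of k) ⟶ S)
    (z : FibCat.overCat (Over.mk a) ⥤ᵇ 𝒵)
    (hzs : AlgSt.RepByAlgSpWith AlgSp.IsSurjectiveMor z) (hzf : AlgSt.RepByAlgSpWith (AlgSp.LocP @Flat) z) :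
    ∃ Q : 𝒵.obj → Prop,
      (ObjectProperty.IsClosedUnderIsomorphisms Q ∧ AlgSt.IsAlgStack Scheme.fppfPrecoverage (AlgSt.fullSub 𝒵 Q) ∧
        (∃ (k' : Type u) (_ : Field k') (a' : Spec (CommRingCat.of k') ⟶ S)
          (z' : FibCat.overCat (Over.mk a') ⥤ᵇ AlgSt.fullSub 𝒵 Q),
          AlgSt.RepByAlgSpWith (AlgSp.LocP @LocallyOfFinitePresentation) z' ∧
            AlgSt.RepByAlgSpWith AlgSp.IsSurjectiveMor z' ∧ AlgSt.RepByAlgSpWith (AlgSp.LocP @Flat) z') ∧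
        AlgSt.IsMono (AlgSt.subIncl 𝒵 Q)) ∧
      ∀ Q' : 𝒵.obj → Prop, ObjectProperty.IsClosedUnderIsomorphisms Q' → AlgSt.IsAlgStack Scheme.fppfPrecoverage (AlgSt.fullSub 𝒵 Q') →
        (∃ (k' : Type u) (_ : Field k') (a' : Spec (CommRingCat.of k') ⟶ S)
          (z' : FibCat.overCat (Over.mk a') ⥤ᵇ AlgSt.fullSub 𝒵 Q'),
          AlgSt.RepByAlgSpWith (AlgSp.LocP @LocallyOfFinitePresentation) z' ∧
            AlgSt.RepByAlgSpWith AlgSp.IsSurjectiveMor z' ∧ AlgSt.RepByAlgSpWith (AlgSp.LocP @Flat) z') →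
        ∀ ξ : 𝒵.obj, Q' ξ ↔ Q ξ := by
  have := nonempty_points (𝒵 := 𝒵) z
  have := subsingleton_points h𝒵 hzs
  obtain ⟨k₁, hk₁, a₁, z₁, hl, hs, hf⟩ := exists_surjective_flat_fieldPt h𝒵 (reduced_of_flat h𝒵 hzs hzf)
  obtain ⟨hA, h1, h2, h3⟩ := imgLift_props h𝒵 hl hf hs
  have hc := imgProp_isClosed (z := z₁) h𝒵.isStack.1
  refine ⟨imgProp z₁, ⟨hc, hA, ⟨k₁, hk₁, a₁, imgLift z₁, h1, h2, h3⟩, ?_⟩, ?_⟩
  · have : (AlgSt.subIncl 𝒵 (imgProp z₁)).toFunctor.Full := inferInstanceAs (ObjectProperty.ι (imgProp z₁)).Full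
    have : (AlgSt.subIncl 𝒵 (imgProp z₁)).toFunctor.Faithful :=
      inferInstanceAs (ObjectProperty.ι (imgProp z₁)).Faithful
    exact Groth.Agent.S12840.result hA h𝒵 _
  · rintro Q' hc' hA' ⟨k', hk', a', z', g1, g2, g3⟩ ξ
    obtain ⟨p⟩ := nonempty_points (𝒵 := AlgSt.fullSub 𝒵 Q') z'
    obtain ⟨q⟩ := nonempty_points (𝒵 := AlgSt.fullSub 𝒵 (imgProp z₁)) (imgLift z₁)
    exact ⟨fun h => mem_of_point h𝒵 hA' z' g1 g2 g3 (imgProp z₁) hc hA (AlgSt.subIncl 𝒵 Q') p q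
        (Subsingleton.elim _ _) ⟨ξ, h⟩,
      fun h => mem_of_point h𝒵 hA (imgLift z₁) h1 h2 h3 Q' hc' hA' (AlgSt.subIncl 𝒵 (imgProp z₁)) q p
        (Subsingleton.elim _ _) ⟨ξ, h⟩⟩

end Groth.Agent.S16808
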