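import Groth.Statements.S16809
import Groth.Agent.L09.Stack.ReducedSub
import Groth.Agent.L24.St.PointsUniv
import Groth.Agent.L24.St.Monotone
import Groth.Agent.S12869

set_option autoImplicit false
universe u
open CategoryTheory AlgebraicGeometry
open Gerb

set_option backward.isDefEq.respectTransparency false
set_option backward.isDefEq.respectTransparency.types false

namespace Groth.Agent.S16809

/-- (1)⇔(2)⇔(3): for a point x of an algebraic stack 𝒳 the following are equivalent: some algebraic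
stack with exactly one point maps monomorphically to 𝒳 onto x; some reduced algebraic stack with
exactly one point does; some algebraic stack 𝒵 with a monomorphism f : 𝒵 → 𝒳 receives a surjective
flat morphism z from the spectrum of a field with f(z) = x. -/
theorem result
    (S : Scheme.{u}) (𝒳 : AlgSt.Cat S) (h𝒳 : AlgSt.IsAlgStack Scheme.fppfPrecoverage 𝒳) (x : AlgSt.Points 𝒳) :
    [Gerb.ResGerbeExists Scheme.fppfPrecoverage 𝒳 x,
      ∃ (𝒵 : AlgSt.Cat S) (f : 𝒵 ⥤ᵇ 𝒳), AlgSt.IsAlgStack Scheme.fppfPrecoverage 𝒵 ∧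
        AlgSt.SmoothLocally (fun T => IsReduced T) 𝒵 ∧ AlgSt.IsMono f ∧
        Nonempty (AlgSt.Points 𝒵) ∧ Subsingleton (AlgSt.Points 𝒵) ∧ ∀ p, AlgSt.Points.map f p = x,
      ∃ (𝒵 : AlgSt.Cat S) (f : 𝒵 ⥤ᵇ 𝒳) (k : Type u) (_ : Field k) (a : Spec (CommRingCat.of k) ⟶ S)
        (z : FibCat.overCat (Over.mk a) ⥤ᵇ 𝒵), AlgSt.IsAlgStack Scheme.fppfPrecoverage 𝒵 ∧ AlgSt.IsMono f ∧
        AlgSt.RepByAlgSpWith AlgSp.IsSurjectiveMor z ∧ AlgSt.RepByAlgSpWith (AlgSp.LocP @Flat) z ∧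
        ∀ t : ↥(Over.mk a).left, AlgSt.Points.map f (AlgSt.Points.ofChart z t) = x].TFAE := by
  tfae_have 1 → 2 := by
    rintro ⟨𝒵, i, h𝒵, hi, hne, hsub, hpt⟩
    obtain ⟨Q, hQ, hrange, hred⟩ := Groth.L09.Stack.exists_reduced_closedSubstack h𝒵 Set.univ isClosed_univ
    have hm : AlgSt.IsMono (AlgSt.subIncl 𝒵 Q) := Groth.L24.St.isMono_of_isImm
      (Groth.L24.St.repWith_mono (fun _ _ _ _ h => Groth.L23.repWith_mono (fun φ (hφ : IsClosedImmersion φ) => inferInstanceAs (IsImmersion φ)) h) hQ.2.2)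
    have hinj := Groth.L24.St.injective_map_of_isMono hQ.2.1.isStack.1 h𝒵.isStack.1 _ hm
    refine ⟨AlgSt.fullSub 𝒵 Q, BasedFunctor.comp (AlgSt.subIncl 𝒵 Q) i, hQ.2.1, hred,
      Groth.Agent.S12869.result hQ.2.1 h𝒵 h𝒳 _ _ hm hi, ?_, hinj.subsingleton, fun p => ?_⟩
    · obtain ⟨z⟩ := hne
      obtain ⟨p, -⟩ := (hrange.symm ▸ Set.mem_univ z : z ∈ Set.range (AlgSt.Points.map (AlgSt.subIncl 𝒵 Q)))
      exact ⟨p⟩
    · rw [Groth.L24.St.map_comp_apply]
      exact hpt _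
  tfae_have 2 → 3 := by
    rintro ⟨𝒵, f, h𝒵, hred, hf, hne, hsub, hpt⟩
    obtain ⟨k, hk, a, z, -, h2, h3⟩ := Groth.L09.FieldPt.exists_surjective_flat_fieldPt h𝒵 hred
    exact ⟨𝒵, f, k, hk, a, z, h𝒵, hf, h2, h3, fun t => hpt _⟩
  tfae_have 3 → 1 := by
    rintro ⟨𝒵, f, k, hk, a, z, h𝒵, hf, h2, h3, hpt⟩
    have hs := Groth.L09.FieldPt.subsingleton_points h𝒵 h2
    exact ⟨𝒵, f, h𝒵, hf, Groth.L09.FieldPt.nonempty_points z, hs, fun p =>
      (congrArg (AlgSt.Points.map f) (Subsingleton.elim p _)).trans (hpt (IsLocalRing.closedPoint k : PrimeSpectrum k))⟩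
  tfae_finish

end Groth.Agent.S16809
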