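
import Groth.Statements.S1681
import Groth.Agent.L22.BlowUp
import Groth.Agent.L22.MaximalPoints

set_option autoImplicit false
universe u
open CategoryTheory CategoryTheory.Limits AlgebraicGeometry TopologicalSpace
open SDiv

namespace Groth.Agent.S1681

/-- Let b : X' ⟶ X be a blowing-up of X along the quasi-coherent ideal sheaf 𝓘. Then b restricts to a
bijection from the maximal points of X' (points with no proper generization) onto the maximal points
of X not lying in the support of 𝓘. -/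
theorem result {X X' : Scheme.{u}} (𝓘 : X.IdealSheafData) (b : X' ⟶ X) (hb : BlowUp.IsBlowUp b 𝓘) :
    Set.BijOn (fun x' => b x') {x' : ↥X' | ∀ y : ↥X', y ⤳ x' → y = x'}
      {x : ↥X | (∀ y : ↥X, y ⤳ x → y = x) ∧ x ∉ 𝓘.support} := by
  haveI := Groth.L22.Ideals.isIso_restrict_compl hb
  set C : X.Opens := 𝓘.support.compl with hC
  let e := (b ∣_ C).homeomorph
  have he : ∀ z : ↥(b ⁻¹ᵁ C), (e z).1 = b z.1 := fun z => by
    change (C.ι ((b ∣_ C) z)) = _
    rw [← Scheme.Hom.comp_apply, morphismRestrict_ι]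
    rfl
  have hmemC : ∀ z : X, z ∈ C ↔ z ∉ 𝓘.support := fun z => Iff.rfl
  have hinj : ∀ z w : ↥(b ⁻¹ᵁ C), b z.1 = b w.1 → z.1 = w.1 := fun z w h =>
    congrArg Subtype.val (e.injective (Subtype.ext ((he z).trans (h.trans (he w).symm))))
  have hmax : ∀ x' : X', (∀ y, y ⤳ x' → y = x') → b x' ∈ C := fun x' hx' hmem => by
    have := Groth.L22.notMem_support_of_maximal hb.1 hx'
    rw [Scheme.IdealSheafData.support_comap] at this
    exact this hmem
  refine ⟨fun x' hx' => ⟨fun y hy => ?_, hmax x' hx'⟩, fun x₁ h₁ x₂ h₂ h => ?_, fun x hx => ?_⟩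
  · have hyC : y ∈ C := hy.mem_open C.2 (hmax x' hx')
    obtain ⟨z, hz⟩ := e.surjective ⟨y, hyC⟩
    have hsp : z ⤳ (⟨x', hmax x' hx'⟩ : ↥(b ⁻¹ᵁ C)) := by
      rw [← e.isInducing.specializes_iff, hz]
      refine Topology.IsInducing.subtypeVal.specializes_iff.1 ?_
      rw [he]; exact hy
    have := hx' _ (hsp.map continuous_subtype_val)
    have h2 := (congrArg Subtype.val hz).symm.trans (he z)
    change y = b x'
    rw [← this]
    exact h2
  · exact hinj ⟨x₁, hmax _ h₁⟩ ⟨x₂, hmax _ h₂⟩ h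
  · obtain ⟨z, hz⟩ := e.surjective ⟨x, hx.2⟩
    have hzx : b z.1 = x := (he z).symm.trans (congrArg Subtype.val hz)
    refine ⟨z.1, fun y hy => ?_, hzx⟩
    have hb' : b y = x := hx.1 _ (hzx ▸ hy.map b.continuous)
    exact hinj ⟨y, hy.mem_open (b ⁻¹ᵁ C).2 z.2⟩ z (hb'.trans hzx.symm)

end Groth.Agent.S1681
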