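import Groth.Statements.S16810
import Groth.Agent.L09.Residual.Stack
import Groth.Agent.S16806
import Groth.Agent.L24.St.AlgStackInv

set_option autoImplicit false
universe u
open CategoryTheory AlgebraicGeometry
open Gerb

set_option backward.isDefEq.respectTransparency false
set_option backward.isDefEq.respectTransparency.types false

namespace Groth.Agent.S16810

open Groth.L09.Residual Groth.L09.FieldPt

/-- If some reduced algebraic stack with exactly one point admits a monomorphism to the algebraic stack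
𝒳 with image the point x, then there is a unique strictly full subcategory of 𝒳 which is a reduced,
locally Noetherian algebraic stack with exactly one point mapping to x. -/
theorem result
    (S : Scheme.{u}) (𝒳 : AlgSt.Cat S) (h𝒳 : AlgSt.IsAlgStack Scheme.fppfPrecoverage 𝒳) (x : AlgSt.Points 𝒳)
    (𝒵 : AlgSt.Cat S) (h𝒵 : AlgSt.IsAlgStack Scheme.fppfPrecoverage 𝒵)
    (hred : AlgSt.SmoothLocally (fun T => IsReduced T) 𝒵)
    (hne : Nonempty (AlgSt.Points 𝒵)) (hsub : Subsingleton (AlgSt.Points 𝒵))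
    (f : 𝒵 ⥤ᵇ 𝒳) (hf : AlgSt.IsMono f) (hfx : ∀ p : AlgSt.Points 𝒵, AlgSt.Points.map f p = x) :
    ∃ Q : 𝒳.obj → Prop, Gerb.IsResGerbe Scheme.fppfPrecoverage 𝒳 x Q ∧
      ∀ Q' : 𝒳.obj → Prop, Gerb.IsResGerbe Scheme.fppfPrecoverage 𝒳 x Q' → ∀ ξ : 𝒳.obj, Q' ξ ↔ Q ξ := by
  obtain ⟨k₁, hk₁, a₁, z₁, hl, hs, hf'⟩ := exists_surjective_flat_fieldPt h𝒵 hred
  obtain ⟨hA, h1, h2, h3⟩ := imgLift_props h𝒵 hl hf' hs
  have hff := Groth.L24.St.full_of_isMono h𝒵.isStack.1 h𝒳.isStack.1 f hf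
  have hfa := Groth.L24.St.faithful_of_rep1 h𝒵.isStack.1 h𝒳.isStack.1 f (Groth.L24.St.repWith_rep1 hf)
  let g := BasedFunctor.comp (AlgSt.subIncl 𝒵 (imgProp z₁)) f
  have : g.toFunctor.Full := inferInstanceAs ((ObjectProperty.ι (imgProp z₁)) ⋙ f.toFunctor).Full
  have : g.toFunctor.Faithful := inferInstanceAs ((ObjectProperty.ι (imgProp z₁)) ⋙ f.toFunctor).Faithful
  have he := essLift_isEquivOver g h𝒳.isStack.1 hA.isStack.1
  have hB := Groth.L24.St.isAlgStack_of_equiv he hA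
  let z₂ := BasedFunctor.comp (imgLift z₁) (essLift g)
  have e1 := (Groth.L24.St.repWith_postcomp he (imgLift z₁)).2 h1
  have e2 := (Groth.L24.St.repWith_postcomp he (imgLift z₁)).2 h2
  have e3 := (Groth.L24.St.repWith_postcomp he (imgLift z₁)).2 h3
  have hsing := subsingleton_points hB e2
  obtain ⟨p₀⟩ := nonempty_points (𝒵 := AlgSt.fullSub 𝒵 (imgProp z₁)) (imgLift z₁)
  have hpt : ∀ p, AlgSt.Points.map (AlgSt.subIncl 𝒳 (essProp g)) p = x := fun p => by
    rw [Subsingleton.elim p (AlgSt.Points.map (essLift g) p₀), ← Groth.L24.St.map_comp_apply, essLift_comp,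
      Groth.L24.St.map_comp_apply]
    exact hfx _
  refine ⟨essProp g, ⟨essProp_isClosed g, hB, reduced_of_flat hB e2 e3, locallyNoetherian_of_lfp hB e1 e2 e3,
    ⟨AlgSt.Points.map (essLift g) p₀⟩, hsing, hpt⟩, ?_⟩
  rintro Q' ⟨hc', hB', hr', hN', hne', hs', hx'⟩ ξ
  obtain ⟨k', hk', a', z', g1, g2, g3⟩ :=
    (Groth.Agent.S16806.result S _ hB').1 ⟨hr', hN', hne', hs'⟩
  obtain ⟨p⟩ := hne'
  exact ⟨fun h => mem_of_point h𝒳 hB' z' g1 g2 g3 (essProp g) (essProp_isClosed g) hB (AlgSt.subIncl 𝒳 Q') p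
      (AlgSt.Points.map (essLift g) p₀) ((hx' _).trans (hpt _).symm) ⟨ξ, h⟩,
    fun h => mem_of_point h𝒳 hB z₂ e1 e2 e3 Q' hc' hB' (AlgSt.subIncl 𝒳 (essProp g))
      (AlgSt.Points.map (essLift g) p₀) p ((hpt _).trans (hx' _).symm) ⟨ξ, h⟩⟩

end Groth.Agent.S16810
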