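import Groth.Statements.S16812
import Groth.Agent.L09.Residual.Stack
import Groth.Agent.S16806
import Groth.Agent.L24.St.AlgStackInv

set_option autoImplicit false
universe u
open CategoryTheory AlgebraicGeometry
open Gerb

set_option backward.isDefEq.respectTransparency false
set_option backward.isDefEq.respectTransparency.types false

namespace Groth.Agent.S16812

open Groth.L09.Residual Groth.L09.FieldPt

/-- Let 𝒵 be a reduced, locally Noetherian algebraic stack with exactly one point and f : 𝒵 → 𝒳 a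
monomorphism to an algebraic stack sending that point to x. Then the residual gerbe 𝒵_x ⊂ 𝒳 at x
exists (a strictly full subcategory which is a reduced, locally Noetherian algebraic stack with one
point over x) and f factors through it by an equivalence 𝒵 → 𝒵_x. -/
theorem result
    (S : Scheme.{u}) (𝒳 : AlgSt.Cat S) (h𝒳 : AlgSt.IsAlgStack Scheme.fppfPrecoverage 𝒳) (x : AlgSt.Points 𝒳)
    (𝒵 : AlgSt.Cat S) (h𝒵 : AlgSt.IsAlgStack Scheme.fppfPrecoverage 𝒵)
    (hred : AlgSt.SmoothLocally (fun T => IsReduced T) 𝒵)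
    (hnoeth : AlgSt.SmoothLocally (fun T => IsLocallyNoetherian T) 𝒵)
    (hne : Nonempty (AlgSt.Points 𝒵)) (hsub : Subsingleton (AlgSt.Points 𝒵))
    (f : 𝒵 ⥤ᵇ 𝒳) (hf : AlgSt.IsMono f) (hfx : ∀ p : AlgSt.Points 𝒵, AlgSt.Points.map f p = x) :
    ∃ Q : 𝒳.obj → Prop, Gerb.IsResGerbe Scheme.fppfPrecoverage 𝒳 x Q ∧
      ∃ e : 𝒵 ⥤ᵇ AlgSt.fullSub 𝒳 Q, FibCat.IsEquivOver e ∧
        Nonempty (BasedFunctor.comp e (AlgSt.subIncl 𝒳 Q) ≅ f) := by
  have hff := Groth.L24.St.full_of_isMono h𝒵.isStack.1 h𝒳.isStack.1 f hf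
  have hfa := Groth.L24.St.faithful_of_rep1 h𝒵.isStack.1 h𝒳.isStack.1 f (Groth.L24.St.repWith_rep1 hf)
  obtain ⟨k, hk, a, z, h1, h2, h3⟩ := (Groth.Agent.S16806.result S 𝒵 h𝒵).1 ⟨hred, hnoeth, hne, hsub⟩
  have he := essLift_isEquivOver f h𝒳.isStack.1 h𝒵.isStack.1
  have hB := Groth.L24.St.isAlgStack_of_equiv he h𝒵
  have e1 := (Groth.L24.St.repWith_postcomp he z).2 h1
  have e2 := (Groth.L24.St.repWith_postcomp he z).2 h2
  have e3 := (Groth.L24.St.repWith_postcomp he z).2 h3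
  have hsing := subsingleton_points hB e2
  obtain ⟨p₀⟩ := hne
  refine ⟨essProp f, ⟨essProp_isClosed f, hB, reduced_of_flat hB e2 e3, locallyNoetherian_of_lfp hB e1 e2 e3,
    ⟨AlgSt.Points.map (essLift f) p₀⟩, hsing, fun p => ?_⟩, essLift f, he, ⟨Iso.refl _⟩⟩
  rw [Subsingleton.elim p (AlgSt.Points.map (essLift f) p₀), ← Groth.L24.St.map_comp_apply, essLift_comp]
  exact hfx _

end Groth.Agent.S16812
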