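import Groth.Statements.S16813
import Groth.Agent.L09.Residual.Stack
import Groth.Agent.S16806
import Groth.Agent.L24.St.AlgStackInv

set_option autoImplicit false
universe u
open CategoryTheory AlgebraicGeometry
open Gerb

set_option backward.isDefEq.respectTransparency false
set_option backward.isDefEq.respectTransparency.types false

namespace Groth.Agent.S16813

open Groth.L09.Residual Groth.L09.FieldPt

/-- If the residual gerbe 𝒵_x of the algebraic stack 𝒳 at the point x exists, then every morphism from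
the spectrum of a field to 𝒳 in the class of x factors through the inclusion 𝒵_x → 𝒳. -/
theorem result
    (S : Scheme.{u}) (𝒳 : AlgSt.Cat S) (h𝒳 : AlgSt.IsAlgStack Scheme.fppfPrecoverage 𝒳) (x : AlgSt.Points 𝒳)
    (Q : 𝒳.obj → Prop) (hQ : Gerb.IsResGerbe Scheme.fppfPrecoverage 𝒳 x Q)
    (K : Type u) [Field K] (a : Spec (CommRingCat.of K) ⟶ S)
    (p : FibCat.overCat (Over.mk a) ⥤ᵇ 𝒳)
    (hp : ∀ t : ↥(Over.mk a).left, AlgSt.Points.ofChart p t = x) :
    ∃ q : FibCat.overCat (Over.mk a) ⥤ᵇ AlgSt.fullSub 𝒳 Q,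
      Nonempty (BasedFunctor.comp q (AlgSt.subIncl 𝒳 Q) ≅ p) := by
  obtain ⟨hc, hA, hr, hN, hne, hs, hx⟩ := hQ
  have hP := Groth.L24.St.isAlgStack_overCat (Over.mk a)
  have hlfp : AlgSt.RepByAlgSpWith (AlgSp.LocP @LocallyOfFinitePresentation)
      (BasedFunctor.id (FibCat.overCat (Over.mk a))) :=
    Groth.L24.St.repWith_of_isEquivOver (fun _ _ _ _ b _ => Groth.L23.locP_mono
      (fun φ (hφ : Smooth φ) => have := hφ; (inferInstance : LocallyOfFinitePresentation φ)) (Groth.L24.LocQ.locP_smooth_of_isIso b))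
      (Groth.L24.St.isEquivOver_id _)
  have hflat : AlgSt.RepByAlgSpWith (AlgSp.LocP @Flat) (BasedFunctor.id (FibCat.overCat (Over.mk a))) :=
    Groth.L24.St.repWith_of_isEquivOver (fun _ _ _ _ b _ => Groth.L23.locP_mono
      (fun φ (hφ : Smooth φ) => have := hφ; (inferInstance : Flat φ)) (Groth.L24.LocQ.locP_smooth_of_isIso b))
      (Groth.L24.St.isEquivOver_id _)
  obtain ⟨q⟩ := hne
  let t : ↥(Over.mk a).left := (IsLocalRing.closedPoint K : PrimeSpectrum K)
  have key : ∀ w, Q (p.obj w) := mem_of_point h𝒳 hP (BasedFunctor.id _) hlfp (surjective_id _) hflat Q hc hA p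
    (AlgSt.Points.ofChart (BasedFunctor.id _) t) q
    ((congrFun (Groth.L24.St.map_comp_ofChart (BasedFunctor.id _) p).symm t).trans ((hp t).trans (hx q).symm))
  exact ⟨{ toFunctor := ObjectProperty.lift Q p.toFunctor key, w := p.w }, ⟨Iso.refl _⟩⟩

end Groth.Agent.S16813
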