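import Groth.Statements.S16814
import Groth.Agent.L09.Residual.Stack
import Groth.Agent.S16806
import Groth.Agent.L24.St.AlgStackInv

set_option autoImplicit false
universe u
open CategoryTheory AlgebraicGeometry
open Gerb

set_option backward.isDefEq.respectTransparency false
set_option backward.isDefEq.respectTransparency.types false

namespace Groth.Agent.S16814

open Groth.L09.Residual Groth.L09.FieldPt

/-- Let f : 𝒳 → 𝒴 be a morphism of algebraic stacks and x a point of 𝒳 with image y. If the residual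
gerbes 𝒵_x ⊂ 𝒳 and 𝒵_y ⊂ 𝒴 exist, then f induces a morphism 𝒵_x → 𝒵_y making the square with the
inclusions commute up to 2-isomorphism. -/
theorem result
    (S : Scheme.{u}) (𝒳 𝒴 : AlgSt.Cat S) (h𝒳 : AlgSt.IsAlgStack Scheme.fppfPrecoverage 𝒳) (h𝒴 : AlgSt.IsAlgStack Scheme.fppfPrecoverage 𝒴)
    (f : 𝒳 ⥤ᵇ 𝒴) (x : AlgSt.Points 𝒳)
    (Q : 𝒳.obj → Prop) (hQ : Gerb.IsResGerbe Scheme.fppfPrecoverage 𝒳 x Q)
    (Q' : 𝒴.obj → Prop) (hQ' : Gerb.IsResGerbe Scheme.fppfPrecoverage 𝒴 (AlgSt.Points.map f x) Q') :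
    ∃ g : AlgSt.fullSub 𝒳 Q ⥤ᵇ AlgSt.fullSub 𝒴 Q',
      Nonempty (BasedFunctor.comp g (AlgSt.subIncl 𝒴 Q') ≅ BasedFunctor.comp (AlgSt.subIncl 𝒳 Q) f) := by
  obtain ⟨hc, hA, hr, hN, hne, hs, hx⟩ := hQ
  obtain ⟨hc', hA', hr', hN', hne', hs', hy⟩ := hQ'
  obtain ⟨k, hk, a, z, h1, h2, h3⟩ := (Groth.Agent.S16806.result S _ hA).1 ⟨hr, hN, hne, hs⟩
  obtain ⟨p⟩ := hne
  obtain ⟨q⟩ := hne'
  have key : ∀ w, Q' ((BasedFunctor.comp (AlgSt.subIncl 𝒳 Q) f).obj w) :=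
    mem_of_point h𝒴 hA z h1 h2 h3 Q' hc' hA' (BasedFunctor.comp (AlgSt.subIncl 𝒳 Q) f) p q
      (by rw [Groth.L24.St.map_comp_apply, hx, hy])
  exact ⟨{ toFunctor := ObjectProperty.lift Q' (BasedFunctor.comp (AlgSt.subIncl 𝒳 Q) f).toFunctor key
           w := (BasedFunctor.comp (AlgSt.subIncl 𝒳 Q) f).w }, ⟨Iso.refl _⟩⟩

end Groth.Agent.S16814
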