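import Groth.Statements.S16815
import Groth.Agent.L09.Residual.GlueFF
import Groth.Agent.L09.Residual.FieldDescent
import Groth.Agent.L09.Gerbe.LocSurj
import Groth.Agent.S16806
import Groth.Agent.S16813
import Groth.Agent.S16814
import Groth.Agent.S16807
import Groth.Agent.S12840

set_option autoImplicit false
universe u
open CategoryTheory AlgebraicGeometry
open Gerb

set_option backward.isDefEq.respectTransparency false
set_option backward.isDefEq.respectTransparency.types false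

namespace Groth.Agent.S16815

open Groth.L09.Residual Groth.L09.FieldPt Groth.L24.St

/-- Let f : 𝒳 → 𝒴 be a morphism of algebraic stacks, x a point of 𝒳 with image y, with residual gerbes
𝒵_x and 𝒵_y. Suppose some morphism p from the spectrum of a field k to 𝒳, representing x, makes the
comparison map from Spec k ×_𝒳 Spec k to Spec k ×_𝒴 Spec k an isomorphism. Then the induced 𝒵_x →
𝒵_y is an isomorphism (an equivalence). -/
theorem result
    (S : Scheme.{u}) (𝒳 𝒴 : AlgSt.Cat S) (h𝒳 : AlgSt.IsAlgStack Scheme.fppfPrecoverage 𝒳) (h𝒴 : AlgSt.IsAlgStack Scheme.fppfPrecoverage 𝒴)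
    (f : 𝒳 ⥤ᵇ 𝒴) (x : AlgSt.Points 𝒳)
    (Q : 𝒳.obj → Prop) (hQ : Gerb.IsResGerbe Scheme.fppfPrecoverage 𝒳 x Q)
    (Q' : 𝒴.obj → Prop) (hQ' : Gerb.IsResGerbe Scheme.fppfPrecoverage 𝒴 (AlgSt.Points.map f x) Q')
    (k : Type u) [Field k] (a : Spec (CommRingCat.of k) ⟶ S)
    (p : FibCat.overCat (Over.mk a) ⥤ᵇ 𝒳)
    (hp : ∀ t : ↥(Over.mk a).left, AlgSt.Points.ofChart p t = x)
    (e : BasedFunctor.comp (FibCat.fpFst p p) (BasedFunctor.comp p f) ≅
      BasedFunctor.comp (FibCat.fpSnd p p) (BasedFunctor.comp p f))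
    (he : ∀ c, e.hom.toNatTrans.app c = f.map c.obj.iso.hom)
    (hiso : FibCat.IsEquivOver (FibCat.fpLift (FibCat.fpFst p p) (FibCat.fpSnd p p) e)) :
    ∃ g : AlgSt.fullSub 𝒳 Q ⥤ᵇ AlgSt.fullSub 𝒴 Q',
      Nonempty (BasedFunctor.comp g (AlgSt.subIncl 𝒴 Q') ≅ BasedFunctor.comp (AlgSt.subIncl 𝒳 Q) f) ∧
      FibCat.IsEquivOver g := by
  obtain ⟨g, ⟨γ⟩⟩ := Groth.Agent.S16814.result S 𝒳 𝒴 h𝒳 h𝒴 f x Q hQ Q' hQ'
  refine ⟨g, ⟨γ⟩, ?_⟩
  obtain ⟨q, ⟨δ⟩⟩ := Groth.Agent.S16813.result S 𝒳 h𝒳 x Q hQ k a p hp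
  obtain ⟨hc, hA, hr, hN, hne, hs, hx⟩ := hQ
  obtain ⟨hc', hA', hr', hN', hne', hs', hy⟩ := hQ'
  obtain ⟨k₀, hk₀, a₀, z, h1, h2, h3⟩ := (Groth.Agent.S16806.result S _ hA).1 ⟨hr, hN, hne, hs⟩
  let ι := AlgSt.subIncl 𝒳 Q
  let F := BasedFunctor.comp ι f
  have : ι.toFunctor.Full := inferInstanceAs (ObjectProperty.ι Q).Full
  have : ι.toFunctor.Faithful := inferInstanceAs (ObjectProperty.ι Q).Faithful
  have hee : e = whiskerR (FibCat.fpIso p p) f := by
    apply Iso.ext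
    apply BasedNatTrans.ext
    apply NatTrans.ext
    funext c
    exact he c
  subst hee
  have hp' := fun b c => ffAt_of_isEquivOver (f := f) (z := p) hiso b c
  have hq : ∀ b c, FFAt F (q.obj b) (q.obj c) := fun b c =>
    ffAt_of_comp ι ((hp' b c).congr (((BasedNatTrans.forgetful _ _).mapIso δ).app b)
      (((BasedNatTrans.forgetful _ _).mapIso δ).app c) (overId_app δ.hom b) (overId_app δ.hom c))
  have hk := isAlgStack_overCat (Over.mk a)
  have hk₀' := isAlgStack_overCat (Over.mk a₀)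
  obtain ⟨p₀⟩ := nonempty_points (𝒵 := FibCat.overCat (Over.mk a₀)) (BasedFunctor.id _)
  obtain ⟨t₁⟩ := nonempty_points (𝒵 := FibCat.overCat (Over.mk a)) (BasedFunctor.id _)
  obtain ⟨w, -, -⟩ := exists_points_fp hk.isStack.1 hA.isStack.1 hk₀'.isStack.1 q z p₀ t₁
    (Subsingleton.elim _ _)
  obtain ⟨⟨K, s, η, hη⟩, rfl⟩ := AlgSt.Points.mk_surjective w
  obtain ⟨G, -, -⟩ := exists_overCat_functor
    (Groth.L09.Fib.fp_isFibGrpd hk₀'.isStack.1 hk.isStack.1 hA.isStack.1) η hη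
  obtain ⟨u, ⟨i₁⟩, -⟩ := exists_overMap_iso (BasedFunctor.comp G (FibCat.fpFst z q))
  obtain ⟨v, ⟨i₂⟩, -⟩ := exists_overMap_iso (BasedFunctor.comp G (FibCat.fpSnd z q))
  let γ' : BasedFunctor.comp (AlgSt.overMap u) z ≅ BasedFunctor.comp (AlgSt.overMap v) q :=
    whiskerR i₁.symm z ≪≫ whiskerL G (FibCat.fpIso z q) ≪≫ whiskerR i₂ q
  have : IsAffine (Over.mk s).left := inferInstanceAs (IsAffine (Spec (CommRingCat.of K)))
  have : Nonempty ↥(Over.mk s).left := inferInstanceAs (Nonempty (PrimeSpectrum K))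
  have hz : ∀ b c, FFAt F (z.obj b) (z.obj c) := ffAt_of_extension hA h𝒴 z u fun b c =>
    (hq _ _).congr (((BasedNatTrans.forgetful _ _).mapIso γ').app b)
      (((BasedNatTrans.forgetful _ _).mapIso γ').app c) (overId_app γ'.hom b) (overId_app γ'.hom c)
  have hl := Groth.L09.Gerbe.locSurjObj_of_flat_lfp hk₀' hA
    (Groth.L24.LocQ.locQ_of_repWith_locP Groth.L23.etLocal_flat hk₀' hA h3)
    (Groth.L24.LocQ.locQ_of_repWith_locP Groth.L23.etLocal_lfp hk₀' hA h1)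
    (isSurjective_of_repWith hk₀'.isStack.1 hA.isStack.1 h2)
  obtain ⟨hFf, hFa⟩ := fullFaithful_of_locally hA.isStack h𝒴.isStack hl hz
  let E := (BasedNatTrans.forgetful _ _).mapIso γ
  have : ((BasedNatTrans.forgetful _ _).obj (BasedFunctor.comp (AlgSt.subIncl 𝒳 Q) f)).Full := hFf
  have : ((BasedNatTrans.forgetful _ _).obj (BasedFunctor.comp (AlgSt.subIncl 𝒳 Q) f)).Faithful := hFa
  have h1' : (g.toFunctor ⋙ (AlgSt.subIncl 𝒴 Q').toFunctor).Full := Functor.Full.of_iso E.symm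
  have h2' : (g.toFunctor ⋙ (AlgSt.subIncl 𝒴 Q').toFunctor).Faithful := Functor.Faithful.of_iso E.symm
  have : (AlgSt.subIncl 𝒴 Q').toFunctor.Full := inferInstanceAs (ObjectProperty.ι Q').Full
  have : (AlgSt.subIncl 𝒴 Q').toFunctor.Faithful := inferInstanceAs (ObjectProperty.ι Q').Faithful
  have : g.toFunctor.Full := Functor.Full.of_comp_faithful g.toFunctor (AlgSt.subIncl 𝒴 Q').toFunctor
  have : g.toFunctor.Faithful := Functor.Faithful.of_comp g.toFunctor (AlgSt.subIncl 𝒴 Q').toFunctor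
  obtain ⟨k', hk', a', z', g1, g2, g3⟩ := (Groth.Agent.S16806.result S _ hA').1 ⟨hr', hN', hne', hs'⟩
  exact (Groth.Agent.S16807.result S _ _ hA hA' g (Groth.Agent.S12840.result hA hA' g) k' a' z' g1 g2 g3).resolve_left
    (fun h => hne.elim fun p => h.false p)

end Groth.Agent.S16815
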