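import Groth.Statements.S16822
import Groth.Agent.L24.InertiaGen.Diag
import Groth.Agent.L24.Slice.Main


set_option autoImplicit false
set_option backward.isDefEq.respectTransparency.types false
universe u
open AlgSt

namespace Groth.Agent.S16822

open CategoryTheory AlgebraicGeometry in
/-- Let 𝒳 be an algebraic stack over (Sch/S) for the etale topology. Then 𝒳 is a Deligne–Mumford stack
(it has an etale surjective presentation by a scheme) if and only if the diagonal 𝒳 → 𝒳 ×_{(Sch/S)}
𝒳 is unramified: representable by algebraic spaces, locally of finite type and formally unramified.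
The source states the diagonal condition absolutely (over the integers); over a base S the relative
diagonal is unramified exactly when the absolute one is, since the two differ by a base change of
the diagonal of S, an immersion. The source's third equivalent condition, on stabilizer groups of
points, is not stated. -/
theorem result {S : Scheme.{u}} (𝒳 : AlgSt.Cat S)
    (h𝒳 : AlgSt.IsAlgStack Scheme.etalePrecoverage 𝒳) :
    AlgSt.IsDM Scheme.etalePrecoverage 𝒳 ↔ AlgSt.IsDMOver 𝒳 := by
  constructor
  · intro h
    exact Groth.L24.InertiaGen.diag_unramified h.1.isStack.1 h.1.diag h.2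
  · intro h
    obtain ⟨W, z, hz, hzs⟩ :=
      Groth.L24.Slice.exists_etale_atlas h𝒳.isStack.1 h𝒳.diag h𝒳.atlas h
    refine ⟨h𝒳, W, z, fun T y => ?_, hzs⟩
    obtain ⟨F, e, he, hP⟩ := hz T y
    exact ⟨F, e, he, (Groth.L23.isEtaleMor_iff_locP F.property (AlgSp.IsAlgSpace.yon_obj T) _).2 hP⟩

end Groth.Agent.S16822
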