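import Groth.Statements.S16823
import Groth.Agent.L24.St.AffineDiag

set_option autoImplicit false
set_option backward.isDefEq.respectTransparency.types false
universe u
open AlgSt

namespace Groth.Agent.S16823

open CategoryTheory AlgebraicGeometry Limits in
/-- Let S be an affine scheme, G a group scheme over S whose structure morphism is smooth and affine,
and X a scheme over S with an action of G whose structure morphism X → S has affine diagonal. Then
the quotient stack [X/G] over (Sch/S) (objects over T: a G-torsor over T locally trivial for the
etale topology, with an equivariant morphism to X) has affine diagonal over S: the diagonal [X/G] →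
[X/G] ×_{(Sch/S)} [X/G] is representable by algebraic spaces and affine. The source allows X to be
an algebraic space and also treats quasi-affine diagonals; X is a scheme here and only the affine
case is stated. -/
theorem result (S : Scheme.{u}) [IsAffine S]
    (G : Over S) [GrpObj G] (hGs : Smooth G.hom) (hGa : IsAffineHom G.hom)
    (X : Over S) (aX : AlgGrp.Action G X) (hX : IsAffineHom (pullback.diagonal X.hom)) :
    AlgSt.RepByAlgSpWith AlgSp.IsAffineMor
      (FibCat.diag (FibCat.toSelf (AlgSt.QuotSt Scheme.etalePrecoverage G aX))) := by
  obtain ⟨h1, h2, h3, h4⟩ := Groth.L24.Tors.isAlgStack_quotSt_etale aX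
  exact Groth.L24.St.diag_affine_of_chart h1.isStack.1 h1.diag hX
    (Groth.L24.St.repWith_mono (fun _ _ _ _ h => Groth.L23.locP_mono
      (fun φ (hφ : Smooth φ) => have := hφ; (inferInstance : Flat φ)) h) h2)
    (Groth.L24.St.repWith_mono (fun _ _ _ _ h => Groth.L23.locP_mono
      (fun φ (hφ : Smooth φ) => have := hφ; (inferInstance : LocallyOfFinitePresentation φ)) h) h2) h3 h4

end Groth.Agent.S16823
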