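import Groth.Statements.S16828
import Groth.Agent.L24.InertiaGen.Diag
import Groth.Agent.L24.St.DiagSep
import Groth.Agent.L23.NormQF
import Groth.Agent.L23.QFDescent
import Groth.Agent.L24.St.QcSep

set_option autoImplicit false
set_option backward.isDefEq.respectTransparency.types false
universe u
open AlgSt

namespace Groth.Agent.S16828

open CategoryTheory AlgebraicGeometry in
/-- Let 𝒳 be a Deligne–Mumford stack over (Sch/S) for the etale topology whose diagonal 𝒳 → 𝒳
×_{(Sch/S)} 𝒳 is separated and quasi-compact (representable by algebraic spaces with these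
properties). Then the diagonal is quasi-affine: representable by algebraic spaces with every base
change to a scheme a quasi-affine morphism. The source states this for the absolute diagonal; the
diagonal over S is used here. -/
theorem result {S : Scheme.{u}} (𝒳 : AlgSt.Cat S)
    (h𝒳 : AlgSt.IsDM Scheme.etalePrecoverage 𝒳)
    (hsep : AlgSt.RepByAlgSpWith AlgSp.IsSeparatedMor (FibCat.diag (FibCat.toSelf 𝒳)))
    (hqc : AlgSt.RepByAlgSpWith AlgSp.IsQuasiCompactMor (FibCat.diag (FibCat.toSelf 𝒳))) :
    AlgSt.RepByAlgSpWith AlgSp.IsQuasiAffineMor (FibCat.diag (FibCat.toSelf 𝒳)) := by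
  have hd := h𝒳.1.diag
  have hu := Groth.L24.InertiaGen.diag_unramified h𝒳.1.isStack.1 hd h𝒳.2
  intro T y
  have hB : Groth.L24.St.PBase (AlgSp.LocP (S := S) Groth.L24.InertiaGen.UnR) :=
    Groth.L24.St.pBase_locP Groth.L23.etLocal_unramified
  obtain ⟨F, e, he, hs, hu'⟩ := Groth.L24.St.repWith_inf hB hsep hu T y
  obtain ⟨F', e', he', hq⟩ := hqc T y
  refine ⟨F, e, he, Groth.L23.Norm.isQuasiAffineMor_of_qf F.property (AlgSp.IsAlgSpace.yon_obj T)
    (Groth.L23.locP_mono (fun φ hφ => ?_) hu') ?_ hs⟩
  · have := hφ.1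
    have := hφ.2
    exact ⟨Groth.L23.locallyQuasiFinite_of_unramified φ, inferInstance⟩
  · exact Groth.L24.St.Wit.prop_of_equiv (fun A A' hA hA' i hi a ha => Groth.L24.St.pBase_qcMor.iso_left hA hA' (AlgSp.IsAlgSpace.yon_obj T) i ha)
      ⟨F', e', he', hq⟩ F.property e he

end Groth.Agent.S16828
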