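import Groth.Statements.S16832
import Groth.Agent.L24.St.Bootstrap3
import Groth.Agent.L24.InertiaGen.Diag
import Groth.Agent.L24.TrivStab.Rigid
import Groth.Agent.L24.TrivStab.Unram


set_option autoImplicit false
set_option backward.isDefEq.respectTransparency.types false
universe u
open AlgSt

namespace Groth.Agent.S16832

open CategoryTheory AlgebraicGeometry in
/-- Let 𝒳 be an algebraic stack over (Sch/S) for the etale topology. Then 𝒳 is an algebraic space
(equivalent over (Sch/S) to the category of sections of an algebraic space) if and only if every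
point of 𝒳 has trivial stabilizer: for every field k, every morphism Spec k → S and every functor x
: (Sch/Spec k) → 𝒳 over (Sch/S), the group of automorphisms over the identity of the object x(T) is
trivial for every scheme T over Spec k (the stabilizer of x, a group algebraic space over k, has
only the identity section over every T). -/
theorem result {S : Scheme.{u}} (𝒳 : AlgSt.Cat S)
    (h𝒳 : AlgSt.IsAlgStack Scheme.etalePrecoverage 𝒳) :
    AlgSt.RepByAlgSp 𝒳 ↔
      ∀ (k : Type u) [Field k] (sk : Spec (CommRingCat.of k) ⟶ S)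
        (x : FibCat.overCat (Over.mk sk) ⥤ᵇ 𝒳) (T : Over (Over.mk sk)),
        Subsingleton (Gerb.AutO (x.obj T)) := by
  have hst := h𝒳.isStack
  have hg := hst.1
  constructor
  · intro hr k _ sk x T
    refine ⟨fun α β => Iso.ext ?_⟩
    exact ((Groth.L24.St.isFibSetoid_of_repByAlgSp hr).2 _ _ _).elim _ _
  · intro H
    obtain ⟨U, u, hu, hus⟩ := h𝒳.atlas
    have hd := Groth.L24.InertiaGen.diag_toSelf_locP_of_cover' Groth.L23.etLocal_lft
      (fun φ ψ h => have := h; locallyOfFiniteType_of_comp φ ψ) hg h𝒳.diag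
      (Groth.L24.St.overCat_isFibGrpd U) (Groth.L24.St.overCat_repByAlgSp U)
      (Groth.L24.St.repWith_mono (fun _ _ _ _ h => Groth.L23.locP_mono
        (fun φ (hφ : Smooth φ) => have := hφ; (inferInstance : Flat φ)) h) hu)
      (Groth.L24.St.repWith_mono (fun _ _ _ _ h => Groth.L23.locP_mono
        (fun φ (hφ : Smooth φ) => have := hφ; (inferInstance : LocallyOfFinitePresentation φ)) h) hu) hus
      (Groth.L24.St.repWith_mono (fun _ _ _ _ h => Groth.L23.locP_mono
        (fun φ (hφ : Smooth φ) => have := hφ; (inferInstance : LocallyOfFiniteType φ)) h) hu)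
    have hH : ∀ (K : Type u) [Field K] (sk : Spec (CommRingCat.of K) ⟶ S) (b : 𝒳.obj),
        𝒳.p.obj b = Over.mk sk → ∀ (c : 𝒳.obj), (c ⟶ b) → ∀ ψ : c ⟶ c, Groth.L24.St.OverId ψ → ψ = 𝟙 c := by
      intro K _ sk b hb c m ψ hψ
      obtain ⟨x, i, hi⟩ := Groth.L24.St.exists_overCat_functor (U := Over.mk sk) hg b hb
      let o : Over (Over.mk sk : Over S) := Over.mk (𝒳.p.map m ≫ eqToHom hb)
      let ν : x.obj o ⟶ b := x.map (Over.homMk (𝒳.p.map m ≫ eqToHom hb) (Category.comp_id _) : o ⟶ Groth.L24.St.idObj _) ≫ i.hom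
      obtain ⟨j, hj, -⟩ := Groth.L24.St.exists_iso_factor hg m ν (x.w_obj o).symm (by
        obtain ⟨h0, h1⟩ := hi.eq
        rw [Functor.map_comp, h1, Groth.L24.St.p_map_map]
        simp only [Category.assoc, eqToHom_trans_assoc, eqToHom_trans]
        show eqToHom _ ≫ (𝒳.p.map m ≫ eqToHom hb) ≫ _ = _
        simp
        exact (congrArg (𝒳.p.map m ≫ ·) (eqToHom_trans hb _)).trans (Category.comp_id _))
      have hψ' : Groth.L24.St.OverId (j.inv ≫ ψ ≫ j.hom) := hj.inv.comp (hψ.comp hj)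
      have : 𝒳.p.IsHomLift (𝟙 (𝒳.p.obj (x.obj o))) (j.inv ≫ ψ ≫ j.hom) := hψ'
      have := Groth.L09.Fib.isIso_of_isFibGrpd _ hg (𝟙 (𝒳.p.obj (x.obj o))) (j.inv ≫ ψ ≫ j.hom)
      have hinv : 𝒳.p.IsHomLift (𝟙 (𝒳.p.obj (x.obj o))) (inv (j.inv ≫ ψ ≫ j.hom)) :=
        Groth.L24.St.OverId.inv (i := asIso (j.inv ≫ ψ ≫ j.hom)) hψ'
      let α : Gerb.AutO (x.obj o) := ⟨⟨j.inv ≫ ψ ≫ j.hom, hψ'⟩, ⟨inv (j.inv ≫ ψ ≫ j.hom), hinv⟩,
        Functor.Fiber.hom_ext (IsIso.hom_inv_id _), Functor.Fiber.hom_ext (IsIso.inv_hom_id _)⟩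
      have h1 : j.inv ≫ ψ ≫ j.hom = 𝟙 _ := congrArg (fun t => t.hom.1) ((H K sk x o).elim α 1)
      calc ψ = j.hom ≫ (j.inv ≫ ψ ≫ j.hom) ≫ j.inv := by simp
        _ = 𝟙 c := by rw [h1]; simp
    have hI := Groth.L24.TrivStab.unramified_inertia
      (Groth.L24.InertiaGen.inertia_repWith_of_diag hg hd) hH
    refine Groth.L24.St.repByAlgSp_of_setoid_etale_atlas hst
      (Groth.L24.St.isFibSetoid_of_trivialKernel hg fun a φ hp _ => ?_) h𝒳.atlas
    refine Groth.L24.TrivStab.eq_id_of_geometric hg hI a φ (Groth.L24.St.OverId.of_eq rfl hp)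
      fun Ω _ _ s b hb m ψ hψ _ => hH Ω s b hb b (𝟙 b) ψ hψ

end Groth.Agent.S16832
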