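import Groth.Statements.S16833
import Groth.Agent.L23.FiniteMor
import Groth.Agent.L23.ProperImage

set_option autoImplicit false
universe u
open AlgSp

namespace Groth.Agent.S16833

open CategoryTheory AlgebraicGeometry in
/-- Let p : U → X and f : X → Y be morphisms of algebraic spaces over a scheme S with p etale and
surjective and f separated. If the composite U → Y is finite, then f is finite. -/
theorem result {S : Scheme.{u}}
    {U X Y : AlgSp.Space S} (p : U ⟶ X) (f : X ⟶ Y)
    (hp : AlgSp.IsEtaleMor p.hom) (hps : AlgSp.IsSurjectiveMor p.hom)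
    (hf : AlgSp.IsSeparatedMor f.hom) (h : AlgSp.IsFiniteMor (p ≫ f).hom) :
    AlgSp.IsFiniteMor f.hom := by
  have hh : AlgSp.IsFiniteMor (p.hom ≫ f.hom) := h
  obtain ⟨Uc, V, a, b, h, ha, has, hb, -, w⟩ := Groth.L23.exists_chart U.property Y.property (p.hom ≫ f.hom)
  have hap : AlgSp.RepWith @Etale (a ≫ p.hom) := hp a ha
  have haps : AlgSp.RepWith @Surjective (a ≫ p.hom) := Groth.L23.repWith_surjective_of_map hap.1 fun x => by
    obtain ⟨z, rfl⟩ := hps x
    obtain ⟨u, rfl⟩ := Groth.L23.surjective_ofPt has z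
    exact ⟨AlgSp.Points.ofScheme Uc u, by
      rw [← AlgSp.Points.ofPt_eq_map_ofScheme, AlgSp.Points.map_ofPt]⟩
  have hl := Groth.L23.FinMor.lqf_of_isFiniteMor (f := p.hom ≫ f.hom) hh
  refine Groth.L23.FinMor.isFiniteMor_of_univClosed_sep_lqf X.property Y.property ?_ hf
    (Groth.L23.locP_of_chart Groth.L23.etLocal_lqfLft hap haps hb
      ((Category.assoc _ _ _).trans w) (hl a b h ha hb w))
  exact Groth.L23.ProperImage.univClosed_of_jointly_surjective (ι := PUnit.{1}) (fun _ => p.hom)
    (fun y => ⟨PUnit.unit, hps y⟩) (fun _ => (Groth.L23.FinMor.isProperMor_of_isFiniteMor hh).2.2)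

end Groth.Agent.S16833
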