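import Groth.Statements.S16834
import Groth.Agent.L23.FpqcAffine
import Groth.Agent.L23.GeomConn

set_option autoImplicit false
set_option backward.isDefEq.respectTransparency.types false
set_option linter.style.haveILetI false
universe u
open CategoryTheory CategoryTheory.Limits AlgebraicGeometry
open AlgSp

namespace Groth.Agent.S16834

/-- Let k be a field with algebraic closure k̄ and X an algebraic space over Spec k which is
quasi-separated over k and whose structure morphism is locally of finite type. If the base change X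
×_k Spec k̄ (product with h_{Spec k̄} in fppf sheaves over Spec k) is isomorphic to h_T for an
affine scheme T over k, then X is isomorphic to h_U for an affine scheme U over k. -/
theorem result (k : Type u) [Field k]
    (X : AlgSp.Space (Spec (CommRingCat.of k))) (hqs : AlgSp.IsQuasiSeparatedSp X.obj)
    (hlft : ∀ q : X.obj ⟶ (AlgSp.yon (Spec (CommRingCat.of k))).obj (Over.mk (𝟙 _)),
      AlgSp.LocP @LocallyOfFiniteType q)
    (kbar : Type u) [Field kbar] [Algebra k kbar] [IsAlgClosure k kbar]
    (T : Over (Spec (CommRingCat.of k))) (hT : IsAffine T.left)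
    (e : X.obj ⨯ (AlgSp.yon (Spec (CommRingCat.of k))).obj
        (Over.mk (Spec.map (CommRingCat.ofHom (algebraMap k kbar)))) ≅
      (AlgSp.yon (Spec (CommRingCat.of k))).obj T) :
    ∃ (U : Over (Spec (CommRingCat.of k))), IsAffine U.left ∧
      Nonempty (X.obj ≅ (AlgSp.yon (Spec (CommRingCat.of k))).obj U) := by
  let S₀ := Spec (CommRingCat.of k)
  let W : Over S₀ := Over.mk (𝟙 S₀)
  let V : Over S₀ := Over.mk (Spec.map (CommRingCat.ofHom (algebraMap k kbar)))
  let v : V ⟶ W := Over.mkIdTerminal.from V
  have hv : v.left = Spec.map (CommRingCat.ofHom (algebraMap k kbar)) := by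
    have hw : v.left ≫ W.hom = V.hom := Over.w v
    simpa [W, V] using hw
  haveI : IsAffine W.left := inferInstanceAs (IsAffine (Spec (CommRingCat.of k)))
  haveI : IsAffine V.left := inferInstanceAs (IsAffine (Spec (CommRingCat.of kbar)))
  haveI : IsAffine T.left := hT
  haveI : Flat v.left := by
    rw [hv]
    exact Flat.SpecMap_iff.2 (RingHom.flat_algebraMap_iff.2 inferInstance)
  haveI : Surjective v.left := by
    rw [hv]
    exact ⟨fun x => ⟨(⊥ : PrimeSpectrum kbar), Subsingleton.elim (α := PrimeSpectrum k) _ _⟩⟩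
  have hpt : IsTerminal ((AlgSp.yon S₀).obj W) := Groth.L23.GConn.isTerminalPt k
  obtain ⟨u, hu⟩ := (AlgSp.yon S₀).map_surjective (e.inv ≫ prod.snd)
  have sq : IsPullback (e.inv ≫ prod.fst) ((AlgSp.yon S₀).map u) (hpt.from X.obj) ((AlgSp.yon S₀).map v) := by
    refine IsPullback.of_iso (Groth.L23.GConn.isPullback_prod_terminal hpt (hpt.from X.obj) ((AlgSp.yon S₀).map v))
      e (Iso.refl _) (Iso.refl _) (Iso.refl _) ?_ ?_ ?_ ?_
    · simp only [Iso.refl_hom, Category.comp_id, Iso.hom_inv_id_assoc]; rfl
    · simp only [Iso.refl_hom, Category.comp_id]; rw [hu, Iso.hom_inv_id_assoc]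
    · simp
    · simp
  obtain ⟨A, k', -, hA, hk', -⟩ := Groth.L23.exists_affine_of_fpqc_cover X.property v sq
  exact ⟨A, hA, ⟨@asIso _ _ _ _ k' hk'⟩⟩


end Groth.Agent.S16834
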