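import Groth.Statements.S16835
import Groth.Agent.L09.InvEtale.Main

set_option autoImplicit false
set_option linter.style.haveILetI false
universe u
open InvTh

namespace Groth.Agent.S16835

/-- Let R be a Noetherian commutative ring, A and B commutative R-algebras of finite type on which a
finite group G acts by R-algebra automorphisms, and B → A a G-equivariant homomorphism of
R-algebras. Assume that at every maximal ideal x of A, A is etale over B at x and the inertia
subgroup of x in G equals the inertia subgroup of its contraction to B. Give A^G the B^G-algebra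
structure induced by B → A (compatible with B^G → B → A through A^G → A). Then A^G is etale over
B^G. The source also asserts that the square formed by the quotient stacks and the invariant
quotients is cartesian; that clause is not stated. -/
theorem result (R : Type u)
    [CommRing R] [IsNoetherianRing R] (A B : Type u) [CommRing A] [CommRing B] [Algebra R A] [Algebra R B]
    [Algebra.FiniteType R A] [Algebra.FiniteType R B]
    (G : Type u) [Group G] [Finite G] [MulSemiringAction G A] [MulSemiringAction G B]
    [SMulCommClass G R A] [SMulCommClass G R B]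
    [Algebra B A] [IsScalarTower R B A]
    (hGeq : ∀ (g : G) (b : B), algebraMap B A (g • b) = g • algebraMap B A b)
    [Algebra (FixedPoints.subalgebra R B G) (FixedPoints.subalgebra R A G)]
    [IsScalarTower (FixedPoints.subalgebra R B G) (FixedPoints.subalgebra R A G) A]
    (h : ∀ (x : Ideal A) (_ : x.IsMaximal),
      Algebra.IsEtaleAt B x ∧ x.inertia G = (x.comap (algebraMap B A)).inertia G) :
    Algebra.Etale (FixedPoints.subalgebra R B G) (FixedPoints.subalgebra R A G) := by
  haveI : Algebra.IsInvariant (FixedPoints.subalgebra R B G) B G := ⟨fun b hb => ⟨⟨b, hb⟩, rfl⟩⟩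
  haveI : Algebra.IsInvariant (FixedPoints.subalgebra R A G) A G := ⟨fun a ha => ⟨⟨a, ha⟩, rfl⟩⟩
  haveI : SMulCommClass G (FixedPoints.subalgebra R B G) B := ⟨fun g c z => by
    rw [Algebra.smul_def, Algebra.smul_def, smul_mul']; exact congrArg (· * _) (c.2 g)⟩
  haveI : SMulCommClass G (FixedPoints.subalgebra R A G) A := ⟨fun g c z => by
    rw [Algebra.smul_def, Algebra.smul_def, smul_mul']; exact congrArg (· * _) (c.2 g)⟩
  haveI : IsScalarTower R (FixedPoints.subalgebra R B G) (FixedPoints.subalgebra R A G) :=
    IsScalarTower.of_algebraMap_eq fun r => Subtype.ext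
      ((IsScalarTower.algebraMap_apply R B A r).trans
        (IsScalarTower.algebraMap_apply (FixedPoints.subalgebra R B G) (FixedPoints.subalgebra R A G) A
          (algebraMap R (FixedPoints.subalgebra R B G) r)))
  obtain ⟨hB, -⟩ := Groth.L09.InvEtale.finite_invariants (R := R) (S := FixedPoints.subalgebra R B G) (B := B)
    (G := G) Subtype.val_injective
  obtain ⟨hA, hAf⟩ := Groth.L09.InvEtale.finite_invariants (R := R) (S := FixedPoints.subalgebra R A G) (B := A)
    (G := G) Subtype.val_injective
  haveI : IsNoetherianRing (FixedPoints.subalgebra R B G) := Algebra.FiniteType.isNoetherianRing R _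
  haveI : Algebra.FiniteType (FixedPoints.subalgebra R B G) (FixedPoints.subalgebra R A G) :=
    Algebra.FiniteType.of_restrictScalars_finiteType R _ _
  haveI : Algebra.FinitePresentation (FixedPoints.subalgebra R B G) (FixedPoints.subalgebra R A G) :=
    Algebra.FinitePresentation.of_finiteType.1 inferInstance
  have hmax : ∀ (m : Ideal (FixedPoints.subalgebra R A G)) [m.IsMaximal],
      Algebra.IsEtaleAt (FixedPoints.subalgebra R B G) m := by
    intro m hm
    haveI := hm
    haveI : Algebra.IsIntegral (FixedPoints.subalgebra R A G) A := Algebra.IsIntegral.of_finite _ _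
    obtain ⟨x, hx, hxm⟩ := Ideal.exists_ideal_over_maximal_of_isIntegral (S := A) m
      (by rw [(RingHom.injective_iff_ker_eq_bot _).1 (Subtype.val_injective :
        Function.Injective (algebraMap (FixedPoints.subalgebra R A G) A))]; exact bot_le)
    obtain ⟨he, hi⟩ := h x hx
    subst hxm
    exact Groth.L09.InvEtale.isEtaleAt_fixed (R := R) (G := G) (A0 := FixedPoints.subalgebra R A G)
      (B0 := FixedPoints.subalgebra R B G) hGeq Subtype.val_injective Subtype.val_injective x hi
  rw [← Algebra.etaleLocus_eq_univ_iff_etale, Set.eq_univ_iff_forall]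
  intro p
  obtain ⟨m, hm, hpm⟩ := p.asIdeal.exists_le_maximal p.isPrime.ne_top
  haveI := hm
  exact (Algebra.isOpen_etaleLocus (R := FixedPoints.subalgebra R B G)).stableUnderGeneralization
    ((PrimeSpectrum.le_iff_specializes p ⟨m, hm.isPrime⟩).1 hpm) (hmax m)

end Groth.Agent.S16835
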