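import Groth.Statements.S16836
import Mathlib.FieldTheory.Separable
import Mathlib.FieldTheory.Perfect
import Mathlib.Algebra.Polynomial.FieldDivision
import Mathlib.Algebra.Squarefree.Basic

set_option autoImplicit false
universe u v
open scoped Classical
open AbVar

namespace Groth.Agent.S16836

open Polynomial UniqueFactorizationMonoid in
theorem nf_map_prod {K : Type u} {L : Type v} [Field K] [Field L] [Algebra K L] (s : Multiset K[X])
    (hs : ∀ P ∈ s, P ≠ 0) :
    normalizedFactors (s.prod.map (algebraMap K L)) = s.bind fun P => normalizedFactors (P.map (algebraMap K L)) := by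
  induction s using Multiset.induction with
  | empty => simp
  | cons a s ih =>
    have h0 : s.prod ≠ 0 := Multiset.prod_ne_zero fun h => hs 0 (Multiset.mem_cons_of_mem h) rfl
    rw [Multiset.prod_cons, Polynomial.map_mul, normalizedFactors_mul (Polynomial.map_ne_zero (hs a (Multiset.mem_cons_self a s)))
      (Polynomial.map_ne_zero h0), Multiset.cons_bind, ih fun P hP => hs P (Multiset.mem_cons_of_mem hP)]
theorem r_eq {F : Type*} [DecidableEq F] (s t : Multiset F) (d : F → ℕ) :
    ∑ P ∈ s.toFinset, s.count P * t.count P * d P = (s.map fun P => t.count P * d P).sum := by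
  rw [Finset.sum_multiset_map_count]
  exact Finset.sum_congr rfl fun P _ => by rw [smul_eq_mul, mul_assoc]

theorem count_as_sum {F : Type*} [DecidableEq F] (t : Multiset F) (P : F) :
    t.count P = (t.map fun Q => if P = Q then 1 else 0).sum := by
  induction t using Multiset.induction with
  | empty => simp
  | cons a t ih => rw [Multiset.count_cons, Multiset.map_cons, Multiset.sum_cons, ← ih, add_comm]

open Polynomial UniqueFactorizationMonoid in
/-- Let K ⊆ L be a field extension and f₁, f₂ non-zero polynomials in K[t]. For a field F and
polynomials g₁, g₂ over F put r_F(g₁, g₂) = Σ_P mult_P(g₁) · mult_P(g₂) · deg P, the sum running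
over the monic irreducible polynomials P in F[t] (mult_P the multiplicity of P as an irreducible
factor). Assume K is perfect. Then r_K(f₁, f₂) = r_L(f₁, f₂): the number does not depend on the
field over which the factorisations are taken. (Perfectness of K cannot be dropped: for K = F_p(s),
L = K(s^{1/p}) and f₁ = f₂ = t^p − s the number is p over K and p² over L, since the irreducible t^p
− s becomes a p-th power over L; the published statement has no restriction on K, and its proof
requires the relevant K[t]-modules to remain semisimple after base change, which holds when every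
irreducible factor stays squarefree over L, in particular for K perfect.) -/
theorem result (K : Type u) (L : Type v) [Field K] [PerfectField K] [Field L] [Algebra K L]
    (f₁ f₂ : K[X]) (h₁ : f₁ ≠ 0) (h₂ : f₂ ≠ 0) :
    ∑ P ∈ (normalizedFactors (f₁.map (algebraMap K L))).toFinset,
        (normalizedFactors (f₁.map (algebraMap K L))).count P *
          (normalizedFactors (f₂.map (algebraMap K L))).count P * P.natDegree =
      ∑ P ∈ (normalizedFactors f₁).toFinset,
        (normalizedFactors f₁).count P * (normalizedFactors f₂).count P * P.natDegree := by
  open Polynomial UniqueFactorizationMonoid in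
  have hnf : ∀ f : K[X], f ≠ 0 → normalizedFactors (f.map (algebraMap K L)) =
      (normalizedFactors f).bind fun P => normalizedFactors (P.map (algebraMap K L)) := by
    intro f hf
    rw [← nf_map_prod _ fun P hP => (irreducible_of_normalized_factor P hP).ne_zero]
    exact (Associated.normalizedFactors_eq ((prod_normalizedFactors hf).map (mapRingHom (algebraMap K L)))).symm
  open Polynomial UniqueFactorizationMonoid in
  have hcount : ∀ P : K[X], P ∈ normalizedFactors f₁ → ∀ p ∈ normalizedFactors (P.map (algebraMap K L)),
      (normalizedFactors (f₂.map (algebraMap K L))).count p = (normalizedFactors f₂).count P := by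
    intro P hP p hp
    have hPi := irreducible_of_normalized_factor P hP
    have hsq : (normalizedFactors (P.map (algebraMap K L))).Nodup :=
      (squarefree_iff_nodup_normalizedFactors (Polynomial.map_ne_zero hPi.ne_zero)).1
        ((PerfectField.separable_of_irreducible hPi).map.squarefree)
    rw [hnf f₂ h₂, Multiset.count_bind, count_as_sum (normalizedFactors f₂) P]
    refine congrArg Multiset.sum (Multiset.map_congr rfl fun Q hQ => ?_)
    by_cases hPQ : P = Q
    · subst hPQ
      simp only [↓reduceIte]
      exact Multiset.count_eq_one_of_mem hsq hp
    · rw [if_neg hPQ, Multiset.count_eq_zero]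
      intro hpQ
      refine (prime_of_normalized_factor p hp).not_isUnit
        (((hPi.coprime_iff_not_dvd).2 fun hd => hPQ ?_).map (mapRingHom (algebraMap K L)) |>.isUnit_of_dvd'
          (dvd_of_mem_normalizedFactors hp) (dvd_of_mem_normalizedFactors hpQ))
      rw [← normalize_normalized_factor P hP, ← normalize_normalized_factor Q hQ]
      exact normalize_eq_normalize_iff.2 ⟨hd, hPi.dvd_symm (irreducible_of_normalized_factor Q hQ) hd⟩
  open Polynomial UniqueFactorizationMonoid in
  rw [r_eq, r_eq,
    hnf f₁ h₁, Multiset.map_bind, Multiset.sum_bind]
  refine congrArg Multiset.sum (Multiset.map_congr rfl fun P hP => ?_)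
  open Polynomial UniqueFactorizationMonoid in
  rw [Multiset.map_congr rfl (fun p hp => by rw [hcount P hP p hp]), Multiset.sum_map_mul_left]
  congr 1
  open Polynomial UniqueFactorizationMonoid in
  have hne : P.map (algebraMap K L) ≠ 0 := Polynomial.map_ne_zero (irreducible_of_normalized_factor P hP).ne_zero
  open Polynomial UniqueFactorizationMonoid in
  rw [← Polynomial.natDegree_map (algebraMap K L) (p := P), ← natDegree_multiset_prod _ (fun h =>
      (irreducible_of_normalized_factor _ h).ne_zero rfl)]
  exact Polynomial.natDegree_eq_of_degree_eq (Polynomial.degree_eq_degree_of_associated (UniqueFactorizationMonoid.prod_normalizedFactors hne))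

end Groth.Agent.S16836
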