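import Groth.Statements.S16837
import Mathlib.RingTheory.AdjoinRoot
import Mathlib.LinearAlgebra.Charpoly.ToMatrix
import Mathlib.LinearAlgebra.Matrix.Charpoly.Minpoly
import Mathlib.RingTheory.SimpleModule.Basic

set_option autoImplicit false
set_option linter.style.haveILetI false
set_option maxHeartbeats 1000000
set_option synthInstance.maxHeartbeats 200000
universe u v w
open scoped Classical
open AbVar

set_option backward.isDefEq.respectTransparency false
set_option backward.isDefEq.respectTransparency.types false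

namespace Groth.Agent.S16837

open Polynomial

local instance (priority := 2000) scalarTower_self {K : Type u} [Field K] : IsScalarTower K[X] K[X] K[X] :=
  IsScalarTower.left _

/-- The basic quotient. -/
abbrev Q {K : Type u} [Field K] (P : K[X]) : Type u := K[X] ⧸ Ideal.span ({P} : Set K[X])

/-- Multiplication by the variable on a module over the polynomial ring. -/
noncomputable def mX (K : Type u) [Field K] (M : Type v) [AddCommGroup M] [Module K M] [Module K[X] M] [IsScalarTower K K[X] M] :
    M →ₗ[K] M :=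
  ((LinearMap.lsmul K[X] M) (X : K[X])).restrictScalars K

theorem charpoly_Q {K : Type u} [Field K] {P : K[X]} (hP : P.Monic) [Module.Finite K (Q P)] :
    (mX K (Q P)).charpoly = P := by
  classical
  rw [← LinearMap.charpoly_toMatrix (mX K (Q P)) (AdjoinRoot.powerBasis' hP).basis]
  have h : mX K (Q P) = LinearMap.mulLeft K (AdjoinRoot.root P) := by
    refine LinearMap.ext fun x => ?_
    obtain ⟨q, rfl⟩ := Ideal.Quotient.mk_surjective x
    rfl
  rw [h]
  refine (charpoly_leftMulMatrix (AdjoinRoot.powerBasis' hP)).trans ?_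
  rw [AdjoinRoot.powerBasis'_gen, AdjoinRoot.minpoly_root hP.ne_zero, hP.leadingCoeff, inv_one, map_one, mul_one]

theorem charpoly_mX_congr {K : Type u} [Field K] {M : Type v} {N : Type w} [AddCommGroup M] [Module K M] [Module K[X] M]
    [IsScalarTower K K[X] M] [AddCommGroup N] [Module K N] [Module K[X] N] [IsScalarTower K K[X] N]
    [Module.Finite K M] [Module.Finite K N] (e : M ≃ₗ[K[X]] N) :
    (mX K M).charpoly = (mX K N).charpoly := by
  rw [← LinearEquiv.charpoly_conj (e.restrictScalars K) (mX K M)]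
  congr 1
  refine LinearMap.ext fun x => ?_
  show e ((X : K[X]) • e.symm x) = (X : K[X]) • x
  rw [map_smul, LinearEquiv.apply_symm_apply]

theorem charpoly_pi {K : Type u} [Field K] : ∀ (n : ℕ) (M : Fin n → Type v) [∀ i, AddCommGroup (M i)] [∀ i, Module K (M i)]
    [∀ i, Module.Finite K (M i)] [∀ i, Module K[X] (M i)] [∀ i, IsScalarTower K K[X] (M i)],
    (mX K (∀ i, M i)).charpoly = ∏ i, (mX K (M i)).charpoly
  | 0, M, _, _, _, _, _ => by
    rw [Fin.prod_univ_zero]
    refine eq_one_of_monic_natDegree_zero (LinearMap.charpoly_monic _) ?_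
    rw [LinearMap.charpoly_natDegree, Module.finrank_zero_of_subsingleton]
  | n + 1, M, _, _, _, _, _ => by
    rw [Fin.prod_univ_succ, ← charpoly_pi n fun i => M i.succ, ← LinearMap.charpoly_prodMap,
      ← LinearEquiv.charpoly_conj (Fin.consLinearEquiv K M) (LinearMap.prodMap _ _)]
    congr 1
    refine LinearMap.ext fun x => funext fun i => ?_
    induction i using Fin.cases <;> rfl

theorem exists_decomp {K : Type u} [Field K] {V : Type v} [AddCommGroup V] [Module K V] [FiniteDimensional K V]
    (π : Module.End K V) (h : π.IsSemisimple) :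
    ∃ (n : ℕ) (P : Fin n → K[X]), (∀ i, (P i).Monic ∧ Irreducible (P i)) ∧
      Nonempty (Module.AEval' π ≃ₗ[K[X]] ∀ i, Q (P i)) := by
  classical
  haveI : IsSemisimpleModule K[X] (Module.AEval' π) := h
  obtain ⟨n, S, e, hS⟩ := IsSemisimpleModule.exists_linearEquiv_fin_dfinsupp K[X] (Module.AEval' π)
  have hs : ∀ i, ∃ P : K[X], (P.Monic ∧ Irreducible P) ∧ Nonempty (S i ≃ₗ[K[X]] Q P) := by
    intro i
    haveI := hS i
    obtain ⟨I, hI, ⟨f⟩⟩ := isSimpleModule_iff_quot_maximal.1 (hS i)
    let g := Submodule.IsPrincipal.generator I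
    have hg : I = Ideal.span {g} := (Ideal.span_singleton_generator I).symm
    have hg0 : g ≠ 0 := by
      intro h0
      rw [h0] at hg
      have hbot : I = ⊥ := by rw [hg, Ideal.span_singleton_eq_bot]
      exact Ring.ne_bot_of_isMaximal_of_not_isField hI (Polynomial.not_isField K) hbot
    have hgp : Prime g := (Ideal.span_singleton_prime hg0).1 (hg ▸ hI.isPrime)
    refine ⟨normalize g, ⟨monic_normalize hg0, (associated_normalize g).irreducible hgp.irreducible⟩, ⟨f ≪≫ₗ ?_⟩⟩
    exact Submodule.quotEquivOfEq _ _ (hg.trans (Ideal.span_singleton_eq_span_singleton.2 (associated_normalize g)))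
  choose P hP f using hs
  exact ⟨n, P, hP, ⟨e ≪≫ₗ DFinsupp.linearEquivFunOnFintype ≪≫ₗ LinearEquiv.piCongrRight fun i => (f i).some⟩⟩

theorem charpoly_of_decomp {K : Type u} [Field K] {V : Type v} [AddCommGroup V] [Module K V] [FiniteDimensional K V]
    (π : Module.End K V) {n : ℕ} {P : Fin n → K[X]} (hP : ∀ i, (P i).Monic ∧ Irreducible (P i))
    (e : Module.AEval' π ≃ₗ[K[X]] ∀ i, Q (P i)) : π.charpoly = ∏ i, P i := by
  haveI : ∀ i, Module.Finite K (Q (P i)) := fun i => (hP i).1.finite_quotient
  rw [← LinearEquiv.charpoly_conj (Module.AEval'.of π) π]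
  refine Eq.trans ?_ ((charpoly_pi n fun i => Q (P i)).trans (Finset.prod_congr rfl fun i _ => charpoly_Q (hP i).1))
  refine Eq.trans ?_ (charpoly_mX_congr e)
  congr 1
  refine LinearMap.ext fun x => ?_
  obtain ⟨m, rfl⟩ := (Module.AEval'.of π).surjective x
  show (Module.AEval'.of π) (π ((Module.AEval'.of π).symm (Module.AEval'.of π m))) = (X : K[X]) • Module.AEval'.of π m
  rw [LinearEquiv.symm_apply_apply, Module.AEval'.X_smul_of]

theorem count_of_decomp {K : Type u} [Field K] {n : ℕ} {P : Fin n → K[X]} (hP : ∀ i, (P i).Monic ∧ Irreducible (P i)) :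
    UniqueFactorizationMonoid.normalizedFactors (∏ i, P i) = Finset.univ.val.map P := by
  classical
  refine Eq.trans (UniqueFactorizationMonoid.normalizedFactors_prod_eq (Finset.univ.val.map P) fun a ha => ?_) ?_
  · obtain ⟨i, -, rfl⟩ := Multiset.mem_map.1 ha
    exact (hP i).2
  · rw [Multiset.map_map]
    exact Multiset.map_congr rfl fun i _ => (hP i).1.normalize_eq_self

theorem finrank_hom_Q {K : Type u} [Field K] {P P' : K[X]} (hP : P.Monic ∧ Irreducible P) (hP' : P'.Monic ∧ Irreducible P') :
    Module.finrank K (Q P →ₗ[K[X]] Q P') = if P = P' then P.natDegree else 0 := by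
  classical
  split_ifs with h
  · subst h
    let e : (Q P →ₗ[K[X]] Q P) ≃ₗ[K] Q P :=
      { toFun := fun f => f 1
        map_add' := fun f g => rfl
        map_smul' := fun c f => rfl
        invFun := fun m => (LinearMap.toSpanSingleton (Q P) (Q P) m).restrictScalars K[X]
        left_inv := fun f => LinearMap.ext fun x => by
          obtain ⟨q, rfl⟩ := Ideal.Quotient.mk_surjective x
          show Ideal.Quotient.mk _ q * f 1 = f (Ideal.Quotient.mk _ q)
          have hq : (Ideal.Quotient.mk _ q : Q P) = q • (1 : Q P) := by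
            conv_lhs => rw [← mul_one q]
            rfl
          obtain ⟨r, hr⟩ := Ideal.Quotient.mk_surjective (f 1)
          rw [hq, map_smul, ← hr]
          exact congrArg (fun z : Q P => z * Ideal.Quotient.mk _ r) hq.symm |>.trans rfl
        right_inv := fun m => one_mul m }
    rw [e.finrank_eq]
    exact finrank_quotient_span_eq_natDegree
  · haveI : Subsingleton (Q P →ₗ[K[X]] Q P') := by
      refine subsingleton_of_forall_eq 0 fun f => LinearMap.ext fun x => ?_
      obtain ⟨a, b, hab⟩ := (hP.2.coprime_iff_not_dvd).2 fun hd =>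
        h (eq_of_monic_of_associated hP.1 hP'.1 (hP.2.associated_of_dvd hP'.2 hd))
      have h1 : P • f x = 0 := by
        rw [← map_smul]
        obtain ⟨q, rfl⟩ := Ideal.Quotient.mk_surjective x
        show f (Ideal.Quotient.mk _ (P * q)) = 0
        rw [Ideal.Quotient.eq_zero_iff_mem.2 (Ideal.mem_span_singleton.2 (dvd_mul_right P q)), map_zero]
      have h2 : P' • f x = 0 := by
        obtain ⟨q, hq⟩ := Ideal.Quotient.mk_surjective (f x)
        rw [← hq]
        show (Ideal.Quotient.mk _ (P' * q) : Q P') = 0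
        exact Ideal.Quotient.eq_zero_iff_mem.2 (Ideal.mem_span_singleton.2 (dvd_mul_right P' q))
      calc f x = (a * P + b * P') • f x := by rw [hab, one_smul]
        _ = 0 := by rw [add_smul, mul_smul, mul_smul, h1, h2, smul_zero, smul_zero, add_zero]
    exact Module.finrank_zero_of_subsingleton


open UniqueFactorizationMonoid in
/-- Let K be any field, V₁ and V₂ finite-dimensional K-vector spaces and π₁, π₂ semisimple endomorphisms
of V₁, V₂ with characteristic polynomials f₁, f₂. Make V_i a K[t]-module by letting t act as π_i.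
Then the space Hom_{K[t]}(V₁, V₂) of K-linear maps h with π₂ ∘ h = h ∘ π₁ has K-dimension r(f₁, f₂)
= Σ_P mult_P(f₁) · mult_P(f₂) · deg P, the sum over the monic irreducible polynomials P in K[t]. (No
restriction on the characteristic of K.) -/
theorem result (K : Type u) [Field K]
    (V₁ : Type v) (V₂ : Type w) [AddCommGroup V₁] [Module K V₁] [FiniteDimensional K V₁]
    [AddCommGroup V₂] [Module K V₂] [FiniteDimensional K V₂]
    (π₁ : Module.End K V₁) (π₂ : Module.End K V₂) (h₁ : π₁.IsSemisimple) (h₂ : π₂.IsSemisimple) :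
    Module.finrank K (LinearMap.ker (LinearMap.lcomp K V₂ π₁ - LinearMap.llcomp K V₁ V₂ V₂ π₂ :
        (V₁ →ₗ[K] V₂) →ₗ[K] (V₁ →ₗ[K] V₂))) =
      ∑ P ∈ (normalizedFactors π₁.charpoly).toFinset,
        (normalizedFactors π₁.charpoly).count P * (normalizedFactors π₂.charpoly).count P * P.natDegree := by
  classical
  obtain ⟨n, P, hP, ⟨e₁⟩⟩ := exists_decomp π₁ h₁
  obtain ⟨m, P', hP', ⟨e₂⟩⟩ := exists_decomp π₂ h₂
  haveI : ∀ i, Module.Finite K (Q (P i)) := fun i => (hP i).1.finite_quotient
  haveI : ∀ i, Module.Finite K (Q (P' i)) := fun i => (hP' i).1.finite_quotient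
  rw [charpoly_of_decomp π₁ hP e₁, charpoly_of_decomp π₂ hP' e₂, count_of_decomp hP, count_of_decomp hP']
  let L := (LinearMap.lcomp K V₂ π₁ - LinearMap.llcomp K V₁ V₂ V₂ π₂ : (V₁ →ₗ[K] V₂) →ₗ[K] (V₁ →ₗ[K] V₂))
  have hmem : ∀ f : V₁ →ₗ[K] V₂, f ∈ LinearMap.ker L ↔ ∀ v, f (π₁ v) = π₂ (f v) := fun f => by
    rw [LinearMap.mem_ker, LinearMap.ext_iff]
    refine forall_congr' fun v => ?_
    show f (π₁ v) - π₂ (f v) = 0 ↔ _
    exact sub_eq_zero
  let eK : LinearMap.ker L ≃ₗ[K] (Module.AEval' π₁ →ₗ[K[X]] Module.AEval' π₂) :=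
    { toFun := fun f => LinearMap.ofAEval π₁ ((Module.AEval'.of π₂).toLinearMap.comp f.1) fun v => by
        show Module.AEval'.of π₂ (f.1 (π₁ v)) = (X : K[X]) • Module.AEval'.of π₂ (f.1 v)
        rw [(hmem f.1).1 f.2 v, Module.AEval'.X_smul_of]
      map_add' := fun f g => LinearMap.ext fun _ => rfl
      map_smul' := fun c f => LinearMap.ext fun _ => rfl
      invFun := fun g => ⟨(Module.AEval'.of π₂).symm.toLinearMap.comp
          ((g.restrictScalars K).comp (Module.AEval'.of π₁).toLinearMap), (hmem _).2 fun v => by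
        show (Module.AEval'.of π₂).symm (g (Module.AEval'.of π₁ (π₁ v))) =
          π₂ ((Module.AEval'.of π₂).symm (g (Module.AEval'.of π₁ v)))
        rw [← Module.AEval'.X_smul_of, map_smul, Module.AEval'.of_symm_X_smul]⟩
      left_inv := fun f => Subtype.ext (LinearMap.ext fun _ => rfl)
      right_inv := fun g => LinearMap.ext fun _ => rfl }
  let eC : (Module.AEval' π₁ →ₗ[K[X]] Module.AEval' π₂) ≃ₗ[K[X]] (∀ i, Q (P i) →ₗ[K[X]] ∀ j, Q (P' j)) :=
    LinearEquiv.arrowCongr e₁ e₂ ≪≫ₗ (LinearMap.lsum K[X] (fun i => Q (P i)) K[X]).symm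
  let eP : ∀ i, (Q (P i) →ₗ[K[X]] ∀ j, Q (P' j)) ≃ₗ[K[X]] (∀ j, Q (P i) →ₗ[K[X]] Q (P' j)) := fun i =>
    { toFun := fun f j => (LinearMap.proj j).comp f
      map_add' := fun f g => rfl
      map_smul' := fun c f => rfl
      invFun := LinearMap.pi
      left_inv := fun f => rfl
      right_inv := fun f => rfl }
  have hQfin : ∀ i j, Module.Finite K (Q (P i) →ₗ[K[X]] Q (P' j)) := fun i j => by
    let r : (Q (P i) →ₗ[K[X]] Q (P' j)) →ₗ[K] (Q (P i) →ₗ[K] Q (P' j)) :=
      { toFun := fun f => f.restrictScalars K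
        map_add' := fun _ _ => rfl
        map_smul' := fun _ _ => rfl }
    exact Module.Finite.of_injective r fun f g h => LinearMap.ext fun x => LinearMap.congr_fun h x
  haveI hF1 : ∀ i j, Module.Finite K (Q (P i) →ₗ[K[X]] Q (P' j)) := hQfin
  haveI : ∀ i j, Module.Free K (Q (P i) →ₗ[K[X]] Q (P' j)) := fun i j => Module.Free.of_divisionRing K _
  haveI : ∀ i, Module.Free K (∀ j, Q (P i) →ₗ[K[X]] Q (P' j)) := fun i => Module.Free.pi K _
  haveI : ∀ i, Module.Finite K (∀ j, Q (P i) →ₗ[K[X]] Q (P' j)) := fun i => Module.Finite.pi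
  show Module.finrank K (LinearMap.ker L) = _
  rw [(eK ≪≫ₗ (eC ≪≫ₗ LinearEquiv.piCongrRight eP).restrictScalars K).finrank_eq,
    Module.finrank_pi_fintype]
  simp only [Module.finrank_pi_fintype, finrank_hom_Q (hP _) (hP' _)]
  rw [Finset.sum_congr rfl fun i _ => show (∑ j, if P i = P' j then (P i).natDegree else 0) =
      (Finset.univ.val.map P').count (P i) * (P i).natDegree by
    rw [← Finset.sum_filter, Finset.sum_const, smul_eq_mul, Multiset.count_map]
    rfl]
  rw [Finset.sum_eq_multiset_sum, ← Function.comp_def (fun q => (Finset.univ.val.map P').count q * q.natDegree) P,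
    ← Multiset.map_map, Finset.sum_multiset_map_count]
  exact Finset.sum_congr rfl fun q _ => by rw [smul_eq_mul, mul_assoc]

end Groth.Agent.S16837
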