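import Groth.Statements.S16839
import Groth.Agent.L26.AV.FrobData

set_option autoImplicit false
universe u
open CategoryTheory MonoidalCategory CartesianMonoidalCategory MonObj GrpObj AlgebraicGeometry
open AbVar

namespace Groth.Agent.S16839

open Groth.Agent.AV Polynomial

/-- Let k be a finite field with q elements and algebraic closure Ω, ℓ a prime invertible in k, and X an
abelian variety over k (a proper, geometrically integral commutative group scheme over k) of
dimension g, with geometric Frobenius π_X (the endomorphism that is the identity on points and the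
q-th power map on sections); assume, as is the case, that the ℓ-adic Tate module of Ω-points T_ℓ X
is free of finite rank over ℤ_ℓ, and let f_X ∈ ℤ[t] be the polynomial mapping to the characteristic
polynomial of T_ℓ(π_X) (the characteristic polynomial of Frobenius). Then √q and −√q, if they occur
as roots of f_X, occur with even multiplicity: the root multiplicities of f_X (mapped to ℝ[t]) at √q
and at −√q are even. (The other assertions of (ii) — that q/α is a root whenever α is, with the same
multiplicity — are not restated.) -/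
theorem result (k Ω : Type u) [Field k] [Finite k] [Field Ω] [Algebra k Ω] [IsAlgClosure k Ω]
    (l : ℕ) [Fact l.Prime] (hl : (l : k) ≠ 0) (X : Over (Spec (CommRingCat.of k)))
    [GrpObj X] [IsCommMonObj X] [IsProper X.hom] [GeometricallyIntegral X.hom]
    (πX : X ⟶ X) [IsMonHom πX] (hπb : πX.left.base = 𝟙 _)
    (hπle : ∀ U : X.left.Opens, U ≤ πX.left ⁻¹ᵁ U)
    (hπapp : ∀ (U : X.left.Opens) (s : Γ(X.left, U)), (πX.left.appLE U U (hπle U)).hom s = s ^ Nat.card k)
    [Module.Free ℤ_[l] (AbDual.TateMod X l (SGA7.pt Ω))] [Module.Finite ℤ_[l] (AbDual.TateMod X l (SGA7.pt Ω))]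
    (P : Polynomial ℤ) (hP : (AbDual.tateMapₗ (l := l) (T := SGA7.pt Ω) πX).charpoly = P.map (Int.castRingHom ℤ_[l])) :
    Even ((P.map (Int.castRingHom ℝ)).rootMultiplicity (Real.sqrt (Nat.card k))) ∧
      Even ((P.map (Int.castRingHom ℝ)).rootMultiplicity (-Real.sqrt (Nat.card k))) := by
  haveI : IsAlgClosed Ω := IsAlgClosure.isAlgClosed k
  obtain ⟨g, -, hg⟩ := Groth.L08.GrpDim.exists_dim X
  obtain ⟨hm, hd, h0, hr⟩ := FrobData.data πX (Nat.card k) hπb
    (FrobRH.pullPow_of_frobenius πX (Nat.card k) hπle hπapp) Nat.card_pos Ω l hl hg P hP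
  let Q := P.map (Int.castRingHom ℝ)
  let s := Real.sqrt (Nat.card k)
  have hs : 0 < s := Real.sqrt_pos.2 (by exact_mod_cast Nat.card_pos)
  have hQ0 : 0 < Q.eval 0 := by
    rw [← coeff_zero_eq_eval_zero, coeff_map, coeff_zero_eq_eval_zero, h0]
    simpa using pow_pos (show (0 : ℝ) < Nat.card k by exact_mod_cast Nat.card_pos) g
  have hQroots : ∀ x, Q.IsRoot x → x = s ∨ x = -s := fun x hx => by
    have h1 : (x : ℂ) ∈ (P.map (Int.castRingHom ℂ)).roots := by
      refine mem_roots'.2 ⟨(hm.map _).ne_zero, ?_⟩
      have h2 := hx.map (f := Complex.ofRealHom)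
      rw [Polynomial.map_map, RingHom.ext_int (Complex.ofRealHom.comp (Int.castRingHom ℝ)) (Int.castRingHom ℂ)] at h2
      exact h2
    have h3 := hr _ h1
    rw [Complex.norm_real, Real.norm_eq_abs] at h3
    exact eq_or_eq_neg_of_abs_eq h3
  refine ⟨FrobData.even_rootMultiplicity Q (hm.map _) hQ0 s hs hQroots, ?_⟩
  have hdQ : Q.natDegree = 2 * g := by rw [hm.natDegree_map, hd]
  let Q' := Q.comp (-Polynomial.X)
  have hQ' : Q'.Monic := by
    rw [Monic, leadingCoeff_comp (by simp)]
    rw [leadingCoeff_neg, leadingCoeff_X, hdQ, (hm.map _).leadingCoeff, pow_mul, neg_one_sq, one_pow, _root_.one_mul]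
  have h4 := FrobData.even_rootMultiplicity Q' hQ' (by simpa [Q'] using hQ0) s hs fun x hx => by
    have h5 : Q.IsRoot (-x) := by simpa [Q', IsRoot] using hx
    rcases hQroots _ h5 with h | h
    · right; linarith
    · left; linarith
  obtain ⟨R, hR, hnd⟩ := Q.exists_eq_pow_rootMultiplicity_mul_and_not_dvd (hm.map _).ne_zero (-s)
  have h6 : Q'.rootMultiplicity s = Q.rootMultiplicity (-s) := by
    have h7 : Q' = (Polynomial.X - C s) ^ Q.rootMultiplicity (-s) * ((-1) ^ Q.rootMultiplicity (-s) * R.comp (-Polynomial.X)) := by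
      show Q.comp (-Polynomial.X) = _
      conv_lhs => rw [hR]
      rw [Polynomial.mul_comp, Polynomial.pow_comp, ← _root_.mul_assoc, ← mul_pow]
      congr 2
      rw [sub_comp, X_comp, C_comp, map_neg]
      ring
    rw [h7, rootMultiplicity_mul (h7 ▸ hQ'.ne_zero), rootMultiplicity_X_sub_C_pow]
    refine Nat.add_eq_left.2 (rootMultiplicity_eq_zero fun h8 => hnd (dvd_iff_isRoot.2 ?_))
    simpa [IsRoot] using h8
  exact h6 ▸ h4

end Groth.Agent.S16839
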