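import Groth.Statements.S16846
import Groth.Agent.L26.AV.FrobIsogeny

set_option autoImplicit false
universe u
open CategoryTheory MonoidalCategory CartesianMonoidalCategory MonObj GrpObj AlgebraicGeometry
open AbVar

namespace Groth.Agent.S16846

open CategoryTheory CategoryTheory.Limits MonoidalCategory CartesianMonoidalCategory MonObj AlgebraicGeometry

/-- Fix a finite field k of size q and an abelian variety X over k (a proper, geometrically integral
commutative group scheme over k) and π_X its geometric Frobenius (the identity on points, the q-th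
power map on sections; a homomorphism). Then the endomorphism ring End_k(X) contains q/π_X: there is
a homomorphism v : X → X with π_X followed by v, and v followed by π_X, both equal to multiplication
by q (the q-th power of the identity in the group of morphisms X → X). -/
theorem result (k : Type u) [Field k] [Finite k] (X : Over (Spec (CommRingCat.of k)))
    [GrpObj X] [IsCommMonObj X] [IsProper X.hom] [GeometricallyIntegral X.hom]
    (πX : X ⟶ X) [IsMonHom πX] (hπb : πX.left.base = 𝟙 _)
    (hπle : ∀ U : X.left.Opens, U ≤ πX.left ⁻¹ᵁ U)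
    (hπapp : ∀ (U : X.left.Opens) (s : Γ(X.left, U)), (πX.left.appLE U U (hπle U)).hom s = s ^ Nat.card k) :
    ∃ (v : X ⟶ X) (_ : IsMonHom v), πX ≫ v = (𝟙 X) ^ Nat.card k ∧ v ≫ πX = (𝟙 X) ^ Nat.card k := by
  obtain ⟨_, _, _⟩ := Groth.Agent.AV.FrobIsogeny.isogeny πX hπb
  obtain ⟨v, hv, h1, h2⟩ := Groth.Agent.AV.FrobIsogeny.exists_factor_of_kills πX (Nat.card k)
    (Groth.Agent.AV.FrobIsogeny.pow_eq_one_of_comp πX hπb hπle hπapp)
  exact ⟨v, hv, h1, h2⟩

end Groth.Agent.S16846
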