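import Groth.Statements.S16847
import Groth.Agent.L26.AV.CharMin
import Groth.Agent.L26.AV.FrobData
import Mathlib.RingTheory.AdjoinRoot

set_option autoImplicit false
universe u
open CategoryTheory MonoidalCategory CartesianMonoidalCategory MonObj GrpObj AlgebraicGeometry
open AbVar

namespace Groth.Agent.S16847

open Groth.Agent.AV Polynomial

/-- Let k be a finite field with q elements and algebraic closure Ω, ℓ a prime invertible in k, and X an
abelian variety over k (a proper, geometrically integral commutative group scheme over k) of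
dimension g, with geometric Frobenius π_X (the endomorphism that is the identity on points and the
q-th power map on sections); assume, as is the case, that the ℓ-adic Tate module of Ω-points T_ℓ X
is free of finite rank over ℤ_ℓ, and let f_X ∈ ℤ[t] be the polynomial mapping to the characteristic
polynomial of T_ℓ(π_X) (the characteristic polynomial of Frobenius). Then ℚ[π_X] ⊆ End⁰(X) = ℚ ⊗
End_k(X) is a field (equivalently, X is elementary, i.e. isogenous to a power of a simple abelian
variety — that reformulation is not restated) if and only if f_X = h^n for some irreducible h ∈ ℚ[t]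
and some n ≥ 1. -/
theorem result (k Ω : Type u) [Field k] [Finite k] [Field Ω] [Algebra k Ω] [IsAlgClosure k Ω]
    (l : ℕ) [Fact l.Prime] (hl : (l : k) ≠ 0) (X : Over (Spec (CommRingCat.of k)))
    [GrpObj X] [IsCommMonObj X] [IsProper X.hom] [GeometricallyIntegral X.hom]
    (πX : X ⟶ X) [IsMonHom πX] (hπb : πX.left.base = 𝟙 _)
    (hπle : ∀ U : X.left.Opens, U ≤ πX.left ⁻¹ᵁ U)
    (hπapp : ∀ (U : X.left.Opens) (s : Γ(X.left, U)), (πX.left.appLE U U (hπle U)).hom s = s ^ Nat.card k)
    [Module.Free ℤ_[l] (AbDual.TateMod X l (SGA7.pt Ω))] [Module.Finite ℤ_[l] (AbDual.TateMod X l (SGA7.pt Ω))]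
    (P : Polynomial ℤ) (hP : (AbDual.tateMapₗ (l := l) (T := SGA7.pt Ω) πX).charpoly = P.map (Int.castRingHom ℤ_[l])) :
    IsField (EndAV.QAdj (EndAV.End.of πX)) ↔
      ∃ (h : Polynomial ℚ) (n : ℕ), Irreducible h ∧ 0 < n ∧ P.map (Int.castRingHom ℚ) = h ^ n := by
  haveI : IsAlgClosed Ω := IsAlgClosure.isAlgClosed k
  obtain ⟨g, -, hg⟩ := Groth.L08.GrpDim.exists_dim X
  obtain ⟨hm, hd, h0, -⟩ := FrobData.data πX (Nat.card k) hπb
    (FrobRH.pullPow_of_frobenius πX (Nat.card k) hπle hπapp) Nat.card_pos Ω l hl hg P hP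
  let φ : EndAV.End X := EndAV.End.of πX
  let x : EndAV.End0 X := EndAV.toEnd0 φ
  obtain ⟨hdvd, hroots⟩ := CharMin.minpoly_dvd_and_roots Ω l hl φ P hP
  obtain ⟨m0_, hm0m, hm00, hm0sq, -⟩ := FrobRH.exists_mu πX (Nat.card k)
    (FrobRH.pullPow_of_frobenius πX (Nat.card k) hπle hπapp) Nat.card_pos
  obtain ⟨ν, hνm, hν, -⟩ := CharMin.exists_int_min Ω l hl φ
  have hmm : (minpoly ℚ x).Monic := hν ▸ hνm.map _
  have hsq : Squarefree (minpoly ℚ x) :=
    hm0sq.squarefree_of_dvd (minpoly.dvd ℚ x (by rw [CharMin.aeval_toEnd0, hm00, map_zero]))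
  have hC : (P.map (Int.castRingHom ℚ)).map (algebraMap ℚ ℂ) = P.map (Int.castRingHom ℂ) := by
    rw [Polynomial.map_map]
    exact congrArg (fun f => P.map f) (RingHom.ext_int _ _)
  rcases Nat.eq_zero_or_pos g with rfl | hgpos
  · have hP1 : P = 1 := hm.natDegree_eq_zero.1 (by simpa using hd)
    have hzero : (1 : EndAV.End X) = 0 := by
      have h1 := CharMin.aeval_char Ω l hl φ P hP
      rw [hP1, map_one] at h1
      exact h1
    refine ⟨fun hF => ?_, fun ⟨h, n, hh, hn, he⟩ => ?_⟩
    · obtain ⟨a, b, hab⟩ := hF.exists_pair_ne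
      refine absurd (Subtype.ext ?_) hab
      have h1 : (1 : EndAV.End0 X) = 0 := by rw [← map_one (EndAV.toEnd0 (A := X)), hzero, map_zero]
      exact eq_of_zero_eq_one h1.symm _ _
    · rw [hP1, Polynomial.map_one] at he
      exact absurd ((isUnit_pow_iff hn.ne').1 (he ▸ isUnit_one)) hh.not_isUnit
  have hPdeg : (P.map (Int.castRingHom ℚ)).natDegree = 2 * g := by rw [hm.natDegree_map, hd]
  have hnt : ¬ IsUnit (minpoly ℚ x) := fun hu => by
    obtain ⟨α, hα⟩ := IsAlgClosed.exists_root (P.map (Int.castRingHom ℂ)) (by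
      rw [hm.degree_map]; exact (natDegree_pos_iff_degree_pos.1 (by omega)).ne')
    have h1 := hroots α (mem_roots'.2 ⟨(hm.map _).ne_zero, hα⟩)
    rw [hmm.eq_one_of_isUnit hu, map_one] at h1
    exact one_ne_zero h1
  haveI : Nontrivial (EndAV.End0 X) := ⟨⟨1, 0, fun h1 => hnt (by
    have := minpoly.dvd ℚ x (show aeval x (1 : ℚ[X]) = 0 by rw [map_one, h1])
    exact isUnit_of_dvd_one this)⟩⟩
  constructor
  · intro hF
    haveI := hF.isDomain
    let y : EndAV.QAdj φ := ⟨x, Algebra.subset_adjoin rfl⟩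
    have e : minpoly ℚ x = minpoly ℚ y := minpoly.algHom_eq (EndAV.QAdj φ).val Subtype.val_injective y
    have hint : _root_.IsIntegral ℚ y := (isIntegral_algHom_iff (EndAV.QAdj φ).val Subtype.val_injective).1
      (minpoly.ne_zero_iff.1 hmm.ne_zero)
    have hirr : Irreducible (minpoly ℚ x) := e ▸ minpoly.irreducible hint
    have hpow := CharMin.eq_pow_of_irreducible (p := P.map (Int.castRingHom ℚ)) hmm hirr (hm.map _)
      (fun α hα => hroots α (hC ▸ hα))
    refine ⟨_, _, hirr, Nat.pos_of_ne_zero fun h1 => ?_, hpow⟩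
    rw [h1, pow_zero] at hpow
    rw [hpow, natDegree_one] at hPdeg
    omega
  · rintro ⟨h, n, hh, hn, he⟩
    have h1 : minpoly ℚ x ∣ h := (hsq.dvd_pow_iff_dvd hn.ne').1 (he ▸ hdvd)
    have hirr : Irreducible (minpoly ℚ x) :=
      ((hh.dvd_iff.1 h1).resolve_left hnt).irreducible hh
    let y : EndAV.QAdj φ := ⟨x, Algebra.subset_adjoin rfl⟩
    have e : minpoly ℚ x = minpoly ℚ y := minpoly.algHom_eq (EndAV.QAdj φ).val Subtype.val_injective y
    haveI : Nontrivial (EndAV.QAdj φ) := ⟨⟨1, 0, fun h2 => one_ne_zero (congrArg Subtype.val h2)⟩⟩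
    have key : ∀ z : EndAV.QAdj φ, ∃ a : ℚ[X], Polynomial.aeval y a = z := by
      rintro ⟨z, hz⟩
      rw [EndAV.QAdj, Algebra.adjoin_singleton_eq_range_aeval] at hz
      obtain ⟨a, ha⟩ := hz
      exact ⟨a, Subtype.ext ((Polynomial.aeval_algHom_apply (EndAV.QAdj φ).val y a).symm.trans ha)⟩
    have hy0 : Polynomial.aeval y (minpoly ℚ x) = 0 := Subtype.ext
      ((Polynomial.aeval_algHom_apply (EndAV.QAdj φ).val y (minpoly ℚ x)).symm.trans (minpoly.aeval ℚ x))
    refine ⟨exists_pair_ne _, fun z w => ?_, fun {z} hz => ?_⟩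
    · obtain ⟨a, rfl⟩ := key z
      obtain ⟨b, rfl⟩ := key w
      rw [← map_mul, ← map_mul, _root_.mul_comm]
    · obtain ⟨a, rfl⟩ := key z
      have hnd : ¬ minpoly ℚ x ∣ a := by
        rintro ⟨c, rfl⟩
        exact hz (by rw [map_mul, hy0, zero_mul])
      obtain ⟨u, v, huv⟩ := (hirr.coprime_iff_not_dvd.2 hnd)
      refine ⟨Polynomial.aeval y v, ?_⟩
      have h3 := congrArg (Polynomial.aeval y) huv
      rw [map_add, map_mul, map_mul, hy0, mul_zero, zero_add, map_one] at h3
      rw [← map_mul, _root_.mul_comm, map_mul]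
      exact h3

end Groth.Agent.S16847
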