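import Groth.Statements.S16849
import Groth.Agent.L26.AV.FrobPoints
import Groth.Agent.L26.Misc.SubsetZeta
import Groth.Agent.L11.Zeta.Counts

set_option autoImplicit false
universe u
open CategoryTheory MonoidalCategory CartesianMonoidalCategory MonObj GrpObj AlgebraicGeometry
open AbVar

namespace Groth.Agent.S16849

open Groth.Agent.AV

/-- Let k be a finite field with q elements and algebraic closure Ω, ℓ a prime invertible in k, and X an
abelian variety over k (a proper, geometrically integral commutative group scheme over k) of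
dimension g, with geometric Frobenius π_X (the endomorphism that is the identity on points and the
q-th power map on sections); assume, as is the case, that the ℓ-adic Tate module of Ω-points T_ℓ X
is free of finite rank over ℤ_ℓ, and let f_X ∈ ℤ[t] be the polynomial mapping to the characteristic
polynomial of T_ℓ(π_X) (the characteristic polynomial of Frobenius). Let α_1, …, α_{2g} be the
complex roots of f_X with multiplicity and, for 0 ≤ j ≤ 2g, P_j(t) = ∏_I (1 − α_I t), the product
over the j-element sub-multisets I of the roots, α_I = ∏_{i ∈ I} α_i (so P_j is the reciprocal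
characteristic polynomial of the j-th exterior power of V_ℓ(π_X)). Then every P_j has integer
coefficients, and the zeta function Z(X; t) = exp(Σ_{m ≥ 1} N_m t^m / m) (N_m the number of points
of X in a degree-m extension of k, counted through closed points) satisfies Z(X; t) · ∏_{j even}
P_j(t) = ∏_{j odd} P_j(t) in ℂ⟦t⟧, i.e. Z(X; t) = P_1 P_3 ⋯ P_{2g−1} / (P_0 P_2 ⋯ P_{2g}). -/
theorem result (k Ω : Type u) [Field k] [Finite k] [Field Ω] [Algebra k Ω] [IsAlgClosure k Ω]
    (l : ℕ) [Fact l.Prime] (hl : (l : k) ≠ 0) (X : Over (Spec (CommRingCat.of k)))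
    [GrpObj X] [IsCommMonObj X] [IsProper X.hom] [GeometricallyIntegral X.hom]
    (πX : X ⟶ X) [IsMonHom πX] (hπb : πX.left.base = 𝟙 _)
    (hπle : ∀ U : X.left.Opens, U ≤ πX.left ⁻¹ᵁ U)
    (hπapp : ∀ (U : X.left.Opens) (s : Γ(X.left, U)), (πX.left.appLE U U (hπle U)).hom s = s ^ Nat.card k)
    [Module.Free ℤ_[l] (AbDual.TateMod X l (SGA7.pt Ω))] [Module.Finite ℤ_[l] (AbDual.TateMod X l (SGA7.pt Ω))]
    (P : Polynomial ℤ) (hP : (AbDual.tateMapₗ (l := l) (T := SGA7.pt Ω) πX).charpoly = P.map (Int.castRingHom ℤ_[l])) :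
    (∀ j : ℕ, ∃ Q : Polynomial ℤ, Q.map (Int.castRingHom ℂ) = (((P.map (Int.castRingHom ℂ)).roots.powersetCard j).map
          (fun I => (1 : Polynomial ℂ) - Polynomial.C I.prod * Polynomial.X)).prod) ∧
      (Zeta.zetaFun X.hom).map (algebraMap ℚ ℂ) *
          ∏ j ∈ (Finset.range (P.natDegree + 1)).filter (fun j => Even j),
            (((((P.map (Int.castRingHom ℂ)).roots.powersetCard j).map
          (fun I => (1 : Polynomial ℂ) - Polynomial.C I.prod * Polynomial.X)).prod : Polynomial ℂ) : PowerSeries ℂ) =
        ∏ j ∈ (Finset.range (P.natDegree + 1)).filter (fun j => Odd j),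
          (((((P.map (Int.castRingHom ℂ)).roots.powersetCard j).map
          (fun I => (1 : Polynomial ℂ) - Polynomial.C I.prod * Polynomial.X)).prod : Polynomial ℂ) : PowerSeries ℂ) := by
  haveI : IsAlgClosed Ω := IsAlgClosure.isAlgClosed k
  obtain ⟨g, -, hg⟩ := Groth.L08.GrpDim.exists_dim X
  obtain ⟨hm, hd, -, -⟩ := FrobData.data πX (Nat.card k) hπb
    (FrobRH.pullPow_of_frobenius πX (Nat.card k) hπle hπapp) Nat.card_pos Ω l hl hg P hP
  refine ⟨fun j => SubsetZeta.exists_int_ext P hm j, ?_⟩
  set R := (P.map (Int.castRingHom ℂ)).roots with hR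
  let r : Fin R.toList.length → ℂ := R.toList.get
  have hmap : R = (Finset.univ : Finset (Fin R.toList.length)).val.map r := by
    conv_lhs => rw [← Multiset.coe_toList R, ← List.ofFn_get R.toList]
    exact (Fin.univ_val_map r).symm
  have hlen : Fintype.card (Fin R.toList.length) = P.natDegree := by
    rw [Fintype.card_fin, Multiset.length_toList, hR, IsAlgClosed.card_roots_eq_natDegree, hm.natDegree_map]
  have hcoe : ∀ j, ((((R.powersetCard j).map (fun I => (1 : Polynomial ℂ) - Polynomial.C I.prod * Polynomial.X)).prod :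
      Polynomial ℂ) : PowerSeries ℂ) = SubsetZeta.U r j := fun j => by
    conv_lhs => rw [hmap]
    exact SubsetZeta.ext_coe r j
  simp only [hcoe]
  refine SubsetZeta.zeta_eq r _ (fun m => (Zeta.nPts X.hom m : ℂ)) ?_ ?_ (fun n => ?_) hlen
  · rw [PowerSeries.coeff_map]
    have h0 : PowerSeries.coeff 0 (Zeta.zetaFun X.hom) = 1 :=
      Groth.L11.Newton.coeff_zero_exp_subst (K := ℚ) (by simp [Zeta.logZeta])
    rw [h0, map_one]
  · have h := congrArg (PowerSeries.map (algebraMap ℚ ℂ))
      (Groth.L11.Newton.derivative_exp_subst fun m => (Zeta.nPts X.hom m : ℚ))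
    rw [map_mul] at h
    convert h using 1
    · ext n
      simp [PowerSeries.coeff_derivative, Zeta.zetaFun, Zeta.logZeta]
      exact Or.inl rfl
    · exact congrArg₂ (· * ·) rfl (PowerSeries.ext fun n => by simp)

  · obtain ⟨k', _, _, _, hk'⟩ := Groth.L11.ZetaCounts.exists_extension (k := k) (n + 1) n.succ_pos
    obtain ⟨h1, h2⟩ := FrobPoints.card_eq_prod πX hπb hπle hπapp Ω l hl P hP k'
    have h3 : Zeta.nPts X.hom (n + 1) = Nat.card (Over.mk (Spec.map (CommRingCat.ofHom (algebraMap k k'))) ⟶ X) := by
      rw [← hk', Groth.L11.ZetaCounts.nPts_eq X.hom k', SgaExt.pointCount]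
      exact Nat.card_congr
        { toFun := fun a => Over.homMk a.1 a.2
          invFun := fun a => ⟨a.left, Over.w a⟩
          left_inv := fun a => rfl
          right_inv := fun a => rfl }
    show ((Zeta.nPts X.hom (n + 1) : ℕ) : ℂ) = _
    rw [h3, h1, h2, hk', Finset.prod_eq_multiset_prod, ← hR]
    conv_lhs => rw [hmap, Multiset.map_map]
    rfl

end Groth.Agent.S16849
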