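import Groth.Statements.S16850
import Groth.Agent.L26.AV.FrobData
import Groth.Agent.L26.Misc.SubsetProd

set_option autoImplicit false
universe u
open CategoryTheory MonoidalCategory CartesianMonoidalCategory MonObj GrpObj AlgebraicGeometry
open AbVar

namespace Groth.Agent.S16850

open Groth.Agent.AV

/-- Let k be a finite field with q elements and algebraic closure Ω, ℓ a prime invertible in k, and X an
abelian variety over k (a proper, geometrically integral commutative group scheme over k) of
dimension g, with geometric Frobenius π_X (the endomorphism that is the identity on points and the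
q-th power map on sections); assume, as is the case, that the ℓ-adic Tate module of Ω-points T_ℓ X
is free of finite rank over ℤ_ℓ, and let f_X ∈ ℤ[t] be the polynomial mapping to the characteristic
polynomial of T_ℓ(π_X) (the characteristic polynomial of Frobenius). With P_j(t) = ∏_I (1 − α_I t)
over the j-element sub-multisets I of the complex roots of f_X (α_I their product), the zeta
function of X is the rational function Z(X; t) = ∏_{j=0}^{2g} P_j(t)^{(−1)^{j+1}}, and for g ≥ 1 it
satisfies the functional equation Z(X; 1/(q^g t)) = Z(X; t). (The dimension-zero case must be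
excluded: for X a point, Z(X; t) = 1/(1 − t) and Z(X; 1/t) = t/(t − 1) differ; the published
statement has no such restriction, and its proof uses Σ_j (−1)^{j+1} C(2g, j) = 0, valid only for g
≥ 1.) Stated pointwise: for every non-zero complex number t such that no P_j vanishes at t or at
1/(q^g t), ∏_j P_j(1/(q^g t))^{(−1)^{j+1}} = ∏_j P_j(t)^{(−1)^{j+1}}. -/
theorem result (k Ω : Type u) [Field k] [Finite k] [Field Ω] [Algebra k Ω] [IsAlgClosure k Ω]
    (l : ℕ) [Fact l.Prime] (hl : (l : k) ≠ 0) (X : Over (Spec (CommRingCat.of k)))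
    [GrpObj X] [IsCommMonObj X] [IsProper X.hom] [GeometricallyIntegral X.hom]
    (g : ℕ) (hg : topologicalKrullDim X.left = g) (hg1 : 1 ≤ g)
    (πX : X ⟶ X) [IsMonHom πX] (hπb : πX.left.base = 𝟙 _)
    (hπle : ∀ U : X.left.Opens, U ≤ πX.left ⁻¹ᵁ U)
    (hπapp : ∀ (U : X.left.Opens) (s : Γ(X.left, U)), (πX.left.appLE U U (hπle U)).hom s = s ^ Nat.card k)
    [Module.Free ℤ_[l] (AbDual.TateMod X l (SGA7.pt Ω))] [Module.Finite ℤ_[l] (AbDual.TateMod X l (SGA7.pt Ω))]
    (P : Polynomial ℤ) (hP : (AbDual.tateMapₗ (l := l) (T := SGA7.pt Ω) πX).charpoly = P.map (Int.castRingHom ℤ_[l]))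
    (t : ℂ) (ht : t ≠ 0)
    (hPt : ∀ j ∈ Finset.range (2 * g + 1), Polynomial.eval t ((((P.map (Int.castRingHom ℂ)).roots.powersetCard j).map
          (fun I => (1 : Polynomial ℂ) - Polynomial.C I.prod * Polynomial.X)).prod : Polynomial ℂ) ≠ 0)
    (hPs : ∀ j ∈ Finset.range (2 * g + 1), Polynomial.eval (((Nat.card k : ℂ) ^ g * t)⁻¹) ((((P.map (Int.castRingHom ℂ)).roots.powersetCard j).map
          (fun I => (1 : Polynomial ℂ) - Polynomial.C I.prod * Polynomial.X)).prod : Polynomial ℂ) ≠ 0) :
    ∏ j ∈ Finset.range (2 * g + 1), (Polynomial.eval (((Nat.card k : ℂ) ^ g * t)⁻¹) ((((P.map (Int.castRingHom ℂ)).roots.powersetCard j).map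
          (fun I => (1 : Polynomial ℂ) - Polynomial.C I.prod * Polynomial.X)).prod : Polynomial ℂ)) ^ ((-1 : ℤ) ^ (j + 1)) =
      ∏ j ∈ Finset.range (2 * g + 1), (Polynomial.eval t ((((P.map (Int.castRingHom ℂ)).roots.powersetCard j).map
          (fun I => (1 : Polynomial ℂ) - Polynomial.C I.prod * Polynomial.X)).prod : Polynomial ℂ)) ^ ((-1 : ℤ) ^ (j + 1)) := by
  haveI : IsAlgClosed Ω := IsAlgClosure.isAlgClosed k
  obtain ⟨hm, hd, h0, hroots⟩ := FrobData.data πX (Nat.card k) hπb
    (FrobRH.pullPow_of_frobenius πX (Nat.card k) hπle hπapp) Nat.card_pos Ω l hl hg P hP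
  set R := (P.map (Int.castRingHom ℂ)).roots with hR
  have hcard : Multiset.card R = 2 * g := by
    rw [hR, IsAlgClosed.card_roots_eq_natDegree, hm.natDegree_map, hd]
  have hlen : R.toList.length = 2 * g := by rw [Multiset.length_toList, hcard]
  let r : Fin R.toList.length → ℂ := R.toList.get
  have hmap : R = (Finset.univ : Finset (Fin R.toList.length)).val.map r := by
    conv_lhs => rw [← Multiset.coe_toList R, ← List.ofFn_get R.toList]
    exact (Fin.univ_val_map r).symm
  have hr : ∀ i, r i ≠ 0 := fun i h => by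
    have h1 := hroots (r i) (Multiset.mem_toList.1 (List.get_mem _ _))
    rw [h, norm_zero] at h1
    exact (Real.sqrt_pos.2 (show (0 : ℝ) < Nat.card k by exact_mod_cast Nat.card_pos)).ne h1
  have hprod : ((Nat.card k : ℂ)) ^ g = ∏ i, r i := by
    rw [Finset.prod_eq_multiset_prod, ← hmap, hR]
    have h1 := (IsAlgClosed.splits (P.map (Int.castRingHom ℂ))).coeff_zero_eq_prod_roots_of_monic (hm.map _)
    rw [hm.natDegree_map, hd, pow_mul, neg_one_sq, one_pow, _root_.one_mul, Polynomial.coeff_map,
      Polynomial.coeff_zero_eq_eval_zero, h0] at h1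
    rw [← h1]
    simp
  rw [hmap]
  simp only [SubsetProd.eval_prod_powersetCard]
  exact SubsetProd.functional_equation r hr (by rw [Fintype.card_fin, hlen]) (even_two_mul g) (by omega) hprod ht

end Groth.Agent.S16850
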