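import Groth.Statements.S16854
import Groth.Agent.L01.LangNu

set_option autoImplicit false
universe u v
open CAlg

namespace Groth.Agent.S16854

/-- Let k be an algebraically closed field of characteristic p > 0, ν ≥ 1, W = W(k) the ring of
p-typical Witt vectors with its Frobenius endomorphism σ, M a finitely generated free W-module and F
: M → M a bijective additive map that is σ^ν-semilinear, F(a·m) = σ^ν(a)·F(m). Then M admits a
W-basis consisting of F-fixed elements; in particular M is spanned over W by M₀ = {m | F(m) = m}, a
module over the Witt vectors of F_{p^ν}. (The copy allows ν < 0 as well, reducing to F⁻¹; stated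
here for ν ≥ 1.) -/
theorem result (k : Type u) [Field k] [IsAlgClosed k]
    (p : ℕ) [Fact p.Prime] [CharP k p] (ν : ℕ) (hν : 1 ≤ ν)
    (M : Type v) [AddCommGroup M] [Module (WittVector p k) M]
    [Module.Finite (WittVector p k) M] [Module.Free (WittVector p k) M]
    (F : M →+ M)
    (hF : ∀ (a : WittVector p k) (m : M), F (a • m) = ((⇑(WittVector.frobenius : WittVector p k →+* WittVector p k))^[ν] a) • F m)
    (hbij : Function.Bijective F) :
    ∃ (ι : Type v) (b : Module.Basis ι (WittVector p k) M), ∀ i, F (b i) = b i := by
  exact Groth.L01.LangNu.exists_fixed_basis_witt k p ν hν F hF hbij.surjective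

end Groth.Agent.S16854
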