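import Groth.Statements.S16856
import Groth.Agent.Lead.FrobExtremal

set_option linter.style.haveILetI false
open Groth.Agent.AV


set_option autoImplicit false
universe u
open CategoryTheory MonoidalCategory CartesianMonoidalCategory MonObj GrpObj AlgebraicGeometry
open AbVar

namespace Groth.Agent.S16856

/-- Equality case of the Hasse–Weil–Serre bound: let k be a finite field with q elements and algebraic
closure Ω, ℓ a prime invertible in k, and X an abelian variety over k (a proper, geometrically
integral commutative group scheme over k) of dimension g, with geometric Frobenius π_X (the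
endomorphism that is the identity on points and the q-th power map on sections); assume, as is the
case, that the ℓ-adic Tate module of Ω-points T_ℓ X is free of finite rank over ℤ_ℓ, and let f_X ∈
ℤ[t] be the polynomial mapping to the characteristic polynomial of T_ℓ(π_X) (the characteristic
polynomial of Frobenius). Put m = ⌊2√q⌋. Then |trace(π_X)| = g·m (equality in the bound |trace(π_X)|
≤ g·m; the trace is minus the second-highest coefficient of f_X) if and only if either α + q/α = m
for every root α of f_X or α + q/α = −m for every root, i.e. if and only if f_X = (t² − m t + q)^g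
or f_X = (t² + m t + q)^g. -/
theorem result (k Ω : Type u) [Field k] [Finite k] [Field Ω] [Algebra k Ω] [IsAlgClosure k Ω]
    (l : ℕ) [Fact l.Prime] (hl : (l : k) ≠ 0) (X : Over (Spec (CommRingCat.of k)))
    [GrpObj X] [IsCommMonObj X] [IsProper X.hom] [GeometricallyIntegral X.hom]
    (g : ℕ) (hg : topologicalKrullDim X.left = g)
    (πX : X ⟶ X) [IsMonHom πX] (hπb : πX.left.base = 𝟙 _)
    (hπle : ∀ U : X.left.Opens, U ≤ πX.left ⁻¹ᵁ U)
    (hπapp : ∀ (U : X.left.Opens) (s : Γ(X.left, U)), (πX.left.appLE U U (hπle U)).hom s = s ^ Nat.card k)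
    [Module.Free ℤ_[l] (AbDual.TateMod X l (SGA7.pt Ω))] [Module.Finite ℤ_[l] (AbDual.TateMod X l (SGA7.pt Ω))]
    (P : Polynomial ℤ) (hP : (AbDual.tateMapₗ (l := l) (T := SGA7.pt Ω) πX).charpoly = P.map (Int.castRingHom ℤ_[l])) :
    |(P.nextCoeff : ℝ)| = (g : ℝ) * (⌊2 * Real.sqrt (Nat.card k)⌋ : ℝ) ↔
      (P = (Polynomial.X ^ 2 - Polynomial.C ⌊2 * Real.sqrt (Nat.card k)⌋ * Polynomial.X + Polynomial.C (Nat.card k : ℤ)) ^ g ∨
        P = (Polynomial.X ^ 2 + Polynomial.C ⌊2 * Real.sqrt (Nat.card k)⌋ * Polynomial.X + Polynomial.C (Nat.card k : ℤ)) ^ g) := by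

  haveI : IsAlgClosed Ω := IsAlgClosure.isAlgClosed k
  obtain ⟨hm, hd, h0, hr⟩ := FrobData.data πX (Nat.card k) hπb
    (FrobRH.pullPow_of_frobenius πX (Nat.card k) hπle hπapp) Nat.card_pos Ω l hl hg P hP
  generalize hq : Nat.card k = q at *
  have hq0 : 0 < q := hq ▸ Nat.card_pos
  set m := ⌊2 * Real.sqrt q⌋ with hmdef
  have hm0 : (0 : ℝ) ≤ m := by
    exact_mod_cast (Int.floor_nonneg.2 (by positivity) : (0 : ℤ) ≤ m)
  constructor
  · intro h
    rcases abs_choice (P.nextCoeff : ℝ) with h1 | h1 <;> rw [h1] at h
    · right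
      have := FrobData.eq_pow_of_two_re_eq P hm g q (-m) hd hr fun α hα => by
        have := FrobData.two_re_eq_of_extremal P hm g q hd hq0 h0 hr (-1) (Or.inr rfl)
          (by push_cast; linarith) α hα
        push_cast at this ⊢
        linarith
      simpa using this
    · left
      exact FrobData.eq_pow_of_two_re_eq P hm g q m hd hr fun α hα => by
        have := FrobData.two_re_eq_of_extremal P hm g q hd hq0 h0 hr 1 (Or.inl rfl)
          (by push_cast; linarith) α hα
        push_cast at this ⊢
        linarith
  · rintro (rfl | rfl)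
    · have h2 : (Polynomial.X ^ 2 - Polynomial.C m * Polynomial.X + Polynomial.C (q : ℤ)).Monic := by monicity!
      have h3 : (Polynomial.X ^ 2 - Polynomial.C m * Polynomial.X + Polynomial.C (q : ℤ)).natDegree = 2 := by
        compute_degree!
      rw [h2.nextCoeff_pow, Polynomial.nextCoeff_of_natDegree_pos (by rw [h3]; norm_num), h3]
      simp [abs_of_nonneg, hm0, abs_mul]
    · have h2 : (Polynomial.X ^ 2 + Polynomial.C m * Polynomial.X + Polynomial.C (q : ℤ)).Monic := by monicity!
      have h3 : (Polynomial.X ^ 2 + Polynomial.C m * Polynomial.X + Polynomial.C (q : ℤ)).natDegree = 2 := by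
        compute_degree!
      rw [h2.nextCoeff_pow, Polynomial.nextCoeff_of_natDegree_pos (by rw [h3]; norm_num), h3]
      simp [abs_of_nonneg, hm0, abs_mul]


end Groth.Agent.S16856
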