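import Groth.Statements.S3020
import Groth.Agent.L08.AffHull.Crit
import Mathlib.AlgebraicGeometry.QuasiAffine

set_option autoImplicit false
universe u
open CategoryTheory MonoidalCategory CartesianMonoidalCategory MonObj GrpObj AlgebraicGeometry TensorProduct
open SGA3

namespace Groth.Agent.S3020

/-- Let G be a group scheme of finite type over a field k whose underlying scheme is quasi-affine (a
quasi-compact open subscheme of an affine scheme). Then G is affine. -/
theorem result (k : Type u) [Field k] (G : Over (Spec (CommRingCat.of k))) [GrpObj G]
    [LocallyOfFiniteType G.hom] [QuasiCompact G.hom] [G.left.IsQuasiAffine] : IsAffine G.left := by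
  haveI := Groth.L08.AffHull.compactSpace (G := G)
  haveI := Groth.L08.AffHull.quasiSeparatedSpace (G := G)
  haveI : Mono (Groth.L08.AffHull.rho G).left :=
    show Mono G.left.toSpecΓ from inferInstance
  haveI : Mono (Groth.L08.AffHull.rho G) := (Over.forget _).mono_of_mono_map (inferInstanceAs (Mono (Groth.L08.AffHull.rho G).left))
  obtain ⟨hl, -, -, -⟩ := Groth.L08.AffHull.hull_props (G := G)
  haveI := Groth.L08.AbelianGrp.quasiCompact_left (Groth.L08.AffHull.rho G)
  haveI : IsClosedImmersion (Groth.L08.AffHull.rho G).left :=
    Groth.L08.MonoClosed.isClosedImmersion_of_field (Groth.L08.AffHull.rho G)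
  exact isAffine_of_isAffineHom (Groth.L08.AffHull.rho G).left

end Groth.Agent.S3020
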