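import Groth.Statements.S16859
import Groth.Agent.S3020
import Groth.Agent.L24.St.AutRepDiag
import Groth.Agent.L24.St.DiagLft
import Groth.Agent.L24.LocQ.Descent

set_option autoImplicit false
universe u
open CategoryTheory CategoryTheory.Limits AlgebraicGeometry
open AlgSt

namespace Groth.Agent.S16859

set_option backward.isDefEq.respectTransparency.types false
set_option linter.style.haveILetI false

/-- Let `𝒳` be an algebraic stack over a scheme `S` (fppf topology) whose diagonal over `S` is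
representable by algebraic spaces and quasi-affine. Let `k` be a field with a morphism `Spec k → S`,
let `x : (Sch/Spec k) → 𝒳` be a functor over `(Sch/S)` (a `k`-valued point of `𝒳`), and let `G` be a
group scheme over `Spec k` representing the automorphism presheaf of `x` on schemes over `Spec k`
(the stabilizer group scheme of `x`). Then `G` is affine and locally of finite type over `k`, i.e.
an affine algebraic group. (The published statement is over the base `Spec ℤ`; the same argument
applies to the diagonal over any base scheme.) -/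
theorem result (S : Scheme.{u})
    (𝒳 : AlgSt.Cat S) (h𝒳 : AlgSt.IsAlgStack Scheme.fppfPrecoverage 𝒳)
    (hΔ : AlgSt.RepByAlgSpWith AlgSp.IsQuasiAffineMor (FibCat.diag (FibCat.toSelf 𝒳)))
    (k : Type u) [Field k] (p : Spec (CommRingCat.of k) ⟶ S)
    (x : FibCat.overCat (Over.mk p) ⥤ᵇ 𝒳) (G : Over (Over.mk p).left) [GrpObj G]
    (hG : Gerb.AutRep x (Gerb.ptsGrp (Over.mk p) G)) :
    IsAffine G.left ∧ LocallyOfFiniteType G.hom := by
  obtain ⟨r⟩ : Nonempty (Gerb.AutRep x (Gerb.ptsGrp (Over.mk p) G)) := ⟨hG⟩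
  have h1 := h𝒳.isStack.1
  let y := Groth.L24.St.AutRepDiag.pairPt x
  let e' := BasedFunctor.comp (AlgSt.toOverCat (Groth.L09.Gerbe.grpTot G)) (Groth.L24.St.AutRepDiag.grpFun r)
  have he' : FibCat.IsEquivOver e' := Groth.L24.St.isEquivOver_comp
    (Groth.L24.St.toOverCat_isEquivOver _) (Groth.L24.St.AutRepDiag.grpFun_isEquivOver r h1)
  have hmap : AlgSt.spMapOfOver (BasedFunctor.comp e' (FibCat.fpFst y (FibCat.diag (FibCat.toSelf 𝒳)))) =
      (AlgSp.yon S).map (Groth.L09.Gerbe.grpProj G) := by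
    show AlgSt.spMapOfOver (BasedFunctor.comp (AlgSt.toOverCat _) (AlgSt.overMap (Groth.L09.Gerbe.grpProj G))) = _
    rw [Groth.L24.St.spMapOfOver_overMap, Groth.L24.St.spMapOfOver_toOverCat, Category.id_comp]
  have hqa : AlgSp.IsQuasiAffineMor ((AlgSp.yon S).map (Groth.L09.Gerbe.grpProj G)) := by
    rw [← hmap]
    refine Groth.L24.St.Wit.prop_of_equiv (fun F F' _ _ i _ a h Z hZ g => ?_) (hΔ _ y)
      (AlgSp.IsAlgSpace.yon_obj _) e' he'
    obtain ⟨W, j, fst, sq, hW⟩ := h hZ g
    exact ⟨W, j, fst ≫ inv i, sq.of_iso (Iso.refl _) (asIso i).symm (Iso.refl _) (Iso.refl _)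
      (by simp) (by simp) (by simp) (by simp), hW⟩
  have hlft : AlgSp.LocP @LocallyOfFiniteType ((AlgSp.yon S).map (Groth.L09.Gerbe.grpProj G)) := by
    rw [← hmap]
    exact Groth.L24.St.Wit.prop_of_equiv (fun F F' hF hF' i _ a h =>
      Groth.L24.St.pBase_locP Groth.L23.etLocal_lft hF (AlgSp.IsAlgSpace.yon_obj _) hF' (AlgSp.IsAlgSpace.yon_obj _)
        a (𝟙 _) (i ≫ a) i (IsPullback.of_horiz_isIso ⟨(Category.comp_id _).symm⟩) h)
      (Groth.L24.St.diag_toSelf_lft h𝒳 _ y) (AlgSp.IsAlgSpace.yon_obj _) e' he'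
  haveI : LocallyOfFiniteType G.hom := (Groth.L24.LocQ.locP_map_iff Groth.L23.etLocal_lft _).1 hlft
  obtain ⟨W, j, fst, sq, hW⟩ := hqa (Z := Over.mk p) (inferInstanceAs (IsAffine (Spec (CommRingCat.of k)))) (𝟙 _)
  haveI : IsIso fst := sq.isIso_fst_of_isIso
  obtain ⟨ψ, hψ⟩ := (AlgSp.yon S).map_surjective fst
  haveI : IsIso ((AlgSp.yon S).map ψ) := hψ ▸ ‹IsIso fst›
  haveI : IsIso ψ := isIso_of_fully_faithful (AlgSp.yon S) ψ
  haveI : IsIso ψ.left := inferInstanceAs (IsIso ((Over.forget S).map ψ))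
  haveI := hW
  haveI : G.left.IsQuasiAffine := by
    haveI : CompactSpace W.left := hW.toCompactSpace
    haveI : CompactSpace (Scheme.forgetToTop.obj W.left) := inferInstanceAs (CompactSpace W.left)
    haveI : CompactSpace G.left := (TopCat.homeoOfIso (Scheme.forgetToTop.mapIso (asIso ψ.left))).compactSpace
    exact Scheme.IsQuasiAffine.of_isImmersion (inv ψ.left)
  haveI : QuasiCompact G.hom := by
    show QuasiCompact (G.hom : G.left ⟶ Spec (CommRingCat.of k))
    haveI : IsAffine (Spec (CommRingCat.of k)) := inferInstance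
    exact (quasiCompact_iff_compactSpace (Y := Spec (CommRingCat.of k)) (f := G.hom)).2 inferInstance
  exact ⟨Groth.Agent.S3020.result k G, inferInstance⟩

end Groth.Agent.S16859
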