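import Groth.Statements.S16862
import Groth.Agent.L09.Gerbe.Main
-- import your own Groth.Agent.* helpers here

set_option autoImplicit false
universe u
open CategoryTheory AlgebraicGeometry
open Gerb

namespace Groth.Agent.S16862

/-- If a morphism f of algebraic stacks makes its source a gerbe over its target, then the relative
inertia of f is flat and locally of finite presentation over the source. -/
theorem result
    (S : Scheme.{u}) (𝒳 𝒴 : AlgSt.Cat S)
    (h𝒳 : AlgSt.IsAlgStack Scheme.fppfPrecoverage 𝒳) (h𝒴 : AlgSt.IsAlgStack Scheme.fppfPrecoverage 𝒴)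
    (f : 𝒳 ⥤ᵇ 𝒴) (hf : Gerb.IsGerbeOver (QuotSh.J Scheme.fppfPrecoverage S) f) :
    AlgSt.LocQ (AlgSp.LocP @Flat) (FibCat.inertiaToBase f) ∧
      AlgSt.LocQ (AlgSp.LocP @LocallyOfFinitePresentation) (FibCat.inertiaToBase f) :=
  Groth.L09.Gerbe.isFF_inertiaToBase_of_gerbe h𝒳 h𝒴 hf.2

end Groth.Agent.S16862
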