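import Groth.Statements.S16869
import Groth.Agent.L09.Gerbe.Main
-- import your own Groth.Agent.* helpers here

set_option autoImplicit false
universe u
open CategoryTheory AlgebraicGeometry
open Gerb

namespace Groth.Agent.S16869

/-- A morphism of algebraic stacks making its source a gerbe over its target is a universal
homeomorphism. -/
theorem result
    (S : Scheme.{u}) (𝒳 𝒴 : AlgSt.Cat S)
    (h𝒳 : AlgSt.IsAlgStack Scheme.fppfPrecoverage 𝒳) (h𝒴 : AlgSt.IsAlgStack Scheme.fppfPrecoverage 𝒴)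
    (f : 𝒳 ⥤ᵇ 𝒴) (hf : Gerb.IsGerbeOver (QuotSh.J Scheme.fppfPrecoverage S) f) :
    AlgSt.IsUnivHomeo Scheme.fppfPrecoverage f := fun 𝒵 h𝒵 g => by
  have hW := Groth.L24.St.isAlgStack_fp h𝒵 h𝒳 h𝒴 g f
  have hg := Groth.L09.Gerb.baseChange (G := g) h𝒳.isStack.1 h𝒴.isStack.1 h𝒵.isStack.1 hf
  have hFF := Groth.L09.Gerbe.isFF_of_gerbe hW h𝒵 hg
  exact ⟨Groth.L24.St.continuous_map h𝒵 _, Groth.L24.LocQ.isOpenMor_of_flat_lfp hW h𝒵 hFF.1 hFF.2,
    Groth.L24.St.injective_fpFst_of_diag h𝒳.isStack.1 h𝒴.isStack.1 h𝒵.isStack.1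
      (Groth.L09.Gerbe.isSurjective_diag_of_gerbe h𝒳 h𝒴.isStack.1 hf.2) g,
    Groth.L09.Gerbe.isSurjective_of_gerbe hW hg⟩

end Groth.Agent.S16869
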