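import Groth.Statements.S16871
import Groth.Agent.L09.Residual.Singleton
import Groth.Agent.L24.St.Desc
import Groth.Agent.S16869

set_option autoImplicit false
universe u
open CategoryTheory AlgebraicGeometry
open Gerb

set_option backward.isDefEq.respectTransparency false
set_option backward.isDefEq.respectTransparency.types false

namespace Groth.Agent.S16871

/-- If an algebraic stack is a gerbe (over some algebraic space), then the residual gerbe exists at
every one of its points. (Non-triviality of the conclusion rests on the monomorphism condition.) -/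
theorem result
    (S : Scheme.{u}) (𝒳 : AlgSt.Cat S) (h𝒳 : AlgSt.IsAlgStack Scheme.fppfPrecoverage 𝒳)
    (X : AlgSp.Space S) (π : 𝒳 ⥤ᵇ AlgSt.ofSp X.obj)
    (hπ : Gerb.IsGerbeOver (QuotSh.J Scheme.fppfPrecoverage S) π) (x : AlgSt.Points 𝒳) :
    Gerb.ResGerbeExists Scheme.fppfPrecoverage 𝒳 x := by
  obtain ⟨p, hp⟩ := (Groth.L24.St.ptMap_bijective X.obj).2 (AlgSt.Points.map π x)
  obtain ⟨Z, i, k, hk, str, q, hZ, hi, hr, hq, hqs⟩ := Groth.L09.Residual.exists_residualSpace X.property p
  have hX := Groth.L09.Residual.isAlgStack_ofSp X.property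
  have hZ' := Groth.L09.Residual.isAlgStack_ofSp hZ
  let g := AlgSt.ofSpMap i
  have hg : AlgSt.IsMono g := Groth.L24.St.repWith_ofSpMap_of_prop Groth.L24.St.pBase_mono hZ X.property i hi
  have hhom := Groth.Agent.S16869.result S 𝒳 (AlgSt.ofSp X.obj) h𝒳 hX π hπ (AlgSt.ofSp Z) hZ' g
  have hsub : Subsingleton (AlgSt.Points (AlgSt.ofSp Z)) := (Groth.L09.Residual.subsingleton_ofSp_iff Z).2
    (Groth.L09.Residual.subsingleton_points_of_field (Groth.L23.surjective_ofPt hqs))
  obtain ⟨z, hz⟩ : p ∈ Set.range (AlgSp.Points.map i) := hr.symm ▸ Set.mem_singleton p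
  have hm : AlgSt.IsMono (FibCat.fpSnd g π) := Groth.L24.St.repWith_fpSnd π hg
  have h𝒵 := Groth.L24.St.isAlgStack_fp hZ' h𝒳 hX g π
  obtain ⟨w, -, hw⟩ := Groth.L24.St.exists_points_fp h𝒳.isStack.1 hX.isStack.1 hZ'.isStack.1 π g
    (Groth.L24.St.ptMap Z z) x (by rw [Groth.L24.St.ptMap_map, hz, hp])
  have hs : Subsingleton (AlgSt.Points (FibCat.fp g π)) := hhom.bijective.1.subsingleton
  exact ⟨FibCat.fp g π, FibCat.fpSnd g π, h𝒵, hm, ⟨w⟩, hs, fun y => Subsingleton.elim y w ▸ hw⟩

end Groth.Agent.S16871
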