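import Groth.Statements.S16872
import Groth.Agent.L09.GerbStrat.Substack
import Groth.Agent.S16871
-- import your own Groth.Agent.* helpers here

set_option autoImplicit false
set_option backward.isDefEq.respectTransparency false
set_option backward.isDefEq.respectTransparency.types false
universe u
open CategoryTheory AlgebraicGeometry
open Gerb

namespace Groth.Agent.S16872

/-- On an algebraic stack with quasi-compact inertia, the residual gerbe exists at every point.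
(Non-triviality of the conclusion rests on the monomorphism condition.) -/
theorem result
    (S : Scheme.{u}) (𝒳 : AlgSt.Cat S) (h𝒳 : AlgSt.IsAlgStack Scheme.fppfPrecoverage 𝒳)
    (hI : AlgSt.IsQuasiCompactMor Scheme.fppfPrecoverage (FibCat.inertiaToBase (FibCat.toSelf 𝒳)))
    (x : AlgSt.Points 𝒳) :
    Gerb.ResGerbeExists Scheme.fppfPrecoverage 𝒳 x := by
  obtain ⟨Q, hQ, -, ⟨X, π, hπ⟩, hsub, hop, hd, -⟩ :=
    Groth.L09.GerbStrat.exists_strata h𝒳 hI (T := closure {x}) isClosed_closure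
  have : Nonempty (closure ({x} : Set (AlgSt.Points 𝒳))) := ⟨⟨x, subset_closure rfl⟩⟩
  obtain ⟨⟨p, hp⟩, hpQ⟩ := hd.nonempty
  obtain ⟨O, hO, hOe⟩ := isOpen_induced_iff.1 hop
  obtain ⟨w, hwO, hw⟩ := mem_closure_iff.1 hp O hO ((Set.ext_iff.1 hOe ⟨p, hp⟩).2 hpQ)
  have hqO : x ∈ O := Set.eq_of_mem_singleton hw ▸ hwO
  obtain ⟨z, hz⟩ := (Set.ext_iff.1 hOe ⟨_, subset_closure rfl⟩).1 hqO
  obtain ⟨𝒵, i, h𝒵, hi, hne, hsing, hmap⟩ := Groth.Agent.S16871.result S _ hQ.2.1 X π hπ z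
  refine ⟨𝒵, BasedFunctor.comp i (AlgSt.subIncl 𝒳 Q), h𝒵, ?_, hne, hsing, fun w => ?_⟩
  · exact Groth.L09.GerbStrat.isMono_comp h𝒳 h𝒵 hQ.2.1 hi (Groth.L24.St.isMono_of_isImm hQ.2.2)
  · rw [Groth.L24.St.map_comp_apply, hmap w, hz]

end Groth.Agent.S16872
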