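import Groth.Statements.S16873
import Groth.Agent.L09.Residual.Exists
import Groth.Agent.L24.Slice.Main

set_option autoImplicit false
universe u
open CategoryTheory AlgebraicGeometry
open Gerb

set_option backward.isDefEq.respectTransparency false
set_option backward.isDefEq.respectTransparency.types false

namespace Groth.Agent.S16873

open Groth.L09.Residual Groth.L24.St

/-- On a quasi-DM algebraic stack (stated with the diagonal over the base scheme locally quasi-finite,
which is equivalent to the absolute notion) the residual gerbe exists at every point; in particular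
this holds for Deligne–Mumford stacks. (Non-triviality of the conclusion rests on the monomorphism
condition.) -/
theorem result
    (S : Scheme.{u}) (𝒳 : AlgSt.Cat S) (h𝒳 : AlgSt.IsAlgStack Scheme.fppfPrecoverage 𝒳)
    (hq : AlgSt.IsQuasiDMOver 𝒳) (x : AlgSt.Points 𝒳) :
    Gerb.ResGerbeExists Scheme.fppfPrecoverage 𝒳 x := by
  obtain ⟨U, y, hy, hys⟩ := Groth.L24.Slice.exists_lqf_atlas h𝒳.isStack.1 h𝒳.diag h𝒳.atlas hq
  obtain ⟨u, rfl⟩ := surjective_ofChart_of_repWith h𝒳.isStack.1 hys x
  refine resGerbeExists_of_chart h𝒳 (fun A B φ hφ => hφ.2.2) hy u fun W a b ha _ => ?_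
  have : LocallyOfFiniteType a.left := ha.2.2
  have : LocallyQuasiFinite a.left := ha.2.1
  have : DiscreteTopology W.left := discreteTopology_iff_isOpen_singleton.2
    (Groth.L23.Pt.isOpen_singleton_of_qf (K := U.left.residueField u) a.left)
  exact (isOpen_discrete _).isLocallyClosed

end Groth.Agent.S16873
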