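import Groth.Statements.S16874
import Groth.Agent.L09.Residual.Exists

set_option autoImplicit false
universe u
open CategoryTheory AlgebraicGeometry
open Gerb

set_option backward.isDefEq.respectTransparency false
set_option backward.isDefEq.respectTransparency.types false

namespace Groth.Agent.S16874

open Groth.L09.Residual Groth.L24.St

/-- On a locally Noetherian algebraic stack the residual gerbe exists at every point. (Non-triviality of
the conclusion rests on the monomorphism condition.) -/
theorem result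
    (S : Scheme.{u}) (𝒳 : AlgSt.Cat S) (h𝒳 : AlgSt.IsAlgStack Scheme.fppfPrecoverage 𝒳)
    (hN : AlgSt.SmoothLocally (fun T => IsLocallyNoetherian T) 𝒳) (x : AlgSt.Points 𝒳) :
    Gerb.ResGerbeExists Scheme.fppfPrecoverage 𝒳 x := by
  obtain ⟨U, y, hy, hys⟩ := h𝒳.atlas
  have : IsLocallyNoetherian U.left := hN U y hy
  obtain ⟨u₀, hu₀⟩ := surjective_ofChart_of_repWith h𝒳.isStack.1 hys x
  obtain ⟨_, ⟨O, hO, rfl⟩, hu₀O, -⟩ :=
    U.left.isBasis_affineOpens.exists_subset_of_mem_open (Set.mem_univ u₀) isOpen_univ
  change U.left.Opens at O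
  have : IsNoetherianRing Γ(U.left, O) := IsLocallyNoetherian.component_noetherian ⟨O, hO⟩
  have : TopologicalSpace.NoetherianSpace (O : Set U.left) := noetherianSpace_of_isAffineOpen O hO
  let C : ↥(O : Set U.left) → TopologicalSpace.Closeds (O : Set U.left) := fun o => TopologicalSpace.Closeds.closure {o}
  obtain ⟨c, ⟨u, hu, rfl⟩, hmin⟩ := (wellFounded_lt (α := TopologicalSpace.Closeds (O : Set U.left))).has_min
    (C '' {o | AlgSt.Points.ofChart y o.1 = x}) ⟨_, ⟨⟨u₀, hu₀O⟩, hu₀, rfl⟩⟩
  have hu' : AlgSt.Points.ofChart y u.1 = x := hu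
  rw [← hu']
  refine resGerbeExists_of_chart (P := @Smooth) h𝒳 (fun A B φ hφ => have := hφ; inferInstance) hy u.1
    fun W a b _ hb => ⟨b.left ⁻¹' (O : Set U.left), b.left ⁻¹' (closure {u.1}),
      O.isOpen.preimage b.left.continuous, isClosed_closure.preimage b.left.continuous, ?_⟩
  ext w
  constructor
  · intro h
    have h' : b.left w = u.1 := h
    exact ⟨show b.left w ∈ O from h' ▸ u.2, show b.left w ∈ closure {u.1} from h' ▸ subset_closure rfl⟩
  · rintro ⟨h1, h2⟩
    let o : (O : Set U.left) := ⟨b.left w, h1⟩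
    have hs : u ⤳ o := Topology.IsInducing.subtypeVal.specializes_iff.1 (specializes_iff_mem_closure.2 h2)
    have hle : C o ≤ C u := specializes_iff_closure_subset.1 hs
    have heq : C o = C u := hle.eq_of_not_lt (hmin _ ⟨o, (hb w).trans hu', rfl⟩)
    have hs' : o ⤳ u := specializes_iff_closure_subset.2
      (show (C u : Set (O : Set U.left)) ⊆ C o by rw [heq])
    exact congrArg Subtype.val (hs'.antisymm hs).eq

end Groth.Agent.S16874
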