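import Groth.Statements.S16876
import Groth.Agent.L09.GerbStrat.Substack
import Groth.Agent.L09.GerbStrat.Recursion
-- import your own Groth.Agent.* helpers here

set_option autoImplicit false
set_option backward.isDefEq.respectTransparency false
set_option backward.isDefEq.respectTransparency.types false
universe u
open CategoryTheory AlgebraicGeometry
open Gerb

namespace Groth.Agent.S16876

/-- An algebraic stack with quasi-compact inertia admits a stratification by gerbes indexed by a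
well-ordered set: reduced locally closed substacks 𝒰_i, each a gerbe, whose points cover |𝒳|, such
that T_i (the complement of the points of the earlier strata) is closed and |𝒰_i| is open and dense
in T_i. (The variant with quasi-compact strata, open but not necessarily dense in T_i, is a separate
statement.) -/
theorem result
    (S : Scheme.{u}) (𝒳 : AlgSt.Cat S) (h𝒳 : AlgSt.IsAlgStack Scheme.fppfPrecoverage 𝒳)
    (hI : AlgSt.IsQuasiCompactMor Scheme.fppfPrecoverage (FibCat.inertiaToBase (FibCat.toSelf 𝒳))) :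
    ∃ (I : Type (u + 1)) (_ : LinearOrder I) (_ : WellFoundedLT I) (Q : I → 𝒳.obj → Prop)
      (T : I → Set (AlgSt.Points 𝒳)),
      (∀ i, T i = {p | ∀ i', i' < i → p ∉ Set.range (AlgSt.Points.map (AlgSt.subIncl 𝒳 (Q i')))}) ∧
      (∀ i, AlgSt.IsLocClosedSubstack 𝒳 (Q i) Scheme.fppfPrecoverage ∧
        AlgSt.SmoothLocally (fun X => IsReduced X) (AlgSt.fullSub 𝒳 (Q i)) ∧
        Gerb.IsAlgGerbe Scheme.fppfPrecoverage (AlgSt.fullSub 𝒳 (Q i))) ∧
      (∀ p : AlgSt.Points 𝒳, ∃ i, p ∈ Set.range (AlgSt.Points.map (AlgSt.subIncl 𝒳 (Q i)))) ∧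
      (∀ i, IsClosed (T i)) ∧
      (∀ i, Set.range (AlgSt.Points.map (AlgSt.subIncl 𝒳 (Q i))) ⊆ T i ∧
        IsOpen ((Subtype.val : T i → AlgSt.Points 𝒳) ⁻¹' Set.range (AlgSt.Points.map (AlgSt.subIncl 𝒳 (Q i)))) ∧
        Dense ((Subtype.val : T i → AlgSt.Points 𝒳) ⁻¹' Set.range (AlgSt.Points.map (AlgSt.subIncl 𝒳 (Q i))))) := by
  obtain ⟨I, lo, wf, Q, T, hT, hG, hc, hcl, hQ⟩ := Groth.L09.GerbStrat.exists_wellOrdered_pieces
    (α := AlgSt.Points 𝒳)
    (fun T (Q : 𝒳.obj → Prop) => (AlgSt.IsLocClosedSubstack 𝒳 Q Scheme.fppfPrecoverage ∧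
      AlgSt.SmoothLocally (fun X => IsReduced X) (AlgSt.fullSub 𝒳 Q) ∧
      Gerb.IsAlgGerbe Scheme.fppfPrecoverage (AlgSt.fullSub 𝒳 Q)) ∧
      Dense ((Subtype.val : T → AlgSt.Points 𝒳) ⁻¹' Set.range (AlgSt.Points.map (AlgSt.subIncl 𝒳 Q))))
    (fun Q => Set.range (AlgSt.Points.map (AlgSt.subIncl 𝒳 Q))) (fun T hT hne => by
      obtain ⟨Q, h1, h2, h3, h4, h5, h6, -⟩ := Groth.L09.GerbStrat.exists_strata h𝒳 hI hT
      have : Nonempty T := hne.to_subtype
      obtain ⟨p, hp⟩ := h6.nonempty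
      exact ⟨Q, ⟨⟨h1, h2, h3⟩, h6⟩, h4, ⟨p.1, hp⟩, h5⟩)
  exact ⟨I, lo, wf, Q, T, hT, fun i => (hG i).1, hc, hcl, fun i => ⟨(hQ i).1, (hQ i).2, (hG i).2⟩⟩

end Groth.Agent.S16876
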