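import Groth.Statements.S16877
import Groth.Agent.L09.GerbBasic
-- import your own Groth.Agent.* helpers here

set_option autoImplicit false
universe u
open CategoryTheory AlgebraicGeometry Opposite
open Gerb

namespace Groth.Agent.S16877

private theorem sec_map {C : Type*} [Category C] {P : Cᵒᵖ ⥤ Type*} {p q : Stk.EltObj P} (m : p ⟶ q) {V U : C}
    (hp : p.base = V) (hq : q.base = U) (f : V ⟶ U) (hm : (Stk.ofPsh P).p.IsHomLift f m) :
    P.map f.op (P.map (eqToHom hq.symm).op q.sec) = P.map (eqToHom hp.symm).op p.sec := by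
  subst hp hq
  have h : m.hom = f := by
    have := @IsHomLift.fac' _ _ _ _ (Stk.ofPsh P).p _ _ _ _ f m hm
    exact this.trans (by simp)
  simp only [eqToHom_refl, op_id, Functor.map_id_apply]
  rw [← h]
  exact m.map_sec

/-- If π : 𝒳 → X makes the algebraic stack 𝒳 a gerbe over the algebraic space X, then X is the fppf
sheafification of the presheaf of isomorphism classes of objects of 𝒳: the map of presheaves sending
the class of an object x to the section π(x) of X is locally surjective and locally injective.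
(Consequently the space over which a gerbe lives is determined by the gerbe.) -/
theorem result
    (S : Scheme.{u}) (𝒳 : AlgSt.Cat S) (h𝒳 : AlgSt.IsAlgStack Scheme.fppfPrecoverage 𝒳)
    [FibCat.IsFibGrpd 𝒳.p]
    (X : AlgSp.Space S) (π : 𝒳 ⥤ᵇ AlgSt.ofSp X.obj)
    (hπ : Gerb.IsGerbeOver (QuotSh.J Scheme.fppfPrecoverage S) π) :
    ∃ c : Gerb.isoClPsh 𝒳 ⟶ X.obj.obj,
      (∀ x : 𝒳.obj, c.app (op (𝒳.p.obj x)) (Quot.mk _ (Gerb.fib x)) =
          X.obj.obj.map (eqToHom (π.w_obj x).symm).op (π.obj x).sec) ∧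
      Presheaf.IsLocallySurjective (QuotSh.J Scheme.fppfPrecoverage S) c ∧
      Presheaf.IsLocallyInjective (QuotSh.J Scheme.fppfPrecoverage S) c := by
  let sec : ∀ {U : Over S} (a : 𝒳.p.Fiber U), X.obj.obj.obj (op U) := fun {U} a =>
    X.obj.obj.map (eqToHom ((π.w_obj a.1).trans a.2).symm).op (π.obj a.1).sec
  have hsec : ∀ {U V : Over S} (f : V ⟶ U) (a : 𝒳.p.Fiber U) (b : 𝒳.p.Fiber V) (ψ : b.1 ⟶ a.1),
      𝒳.p.IsHomLift f ψ → X.obj.obj.map f.op (sec a) = sec b := by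
    intro U V f a b ψ hψ
    exact sec_map (π.map ψ) ((π.w_obj b.1).trans b.2) ((π.w_obj a.1).trans a.2) f
      (@BasedFunctor.preserves_isHomLift _ _ _ _ π _ _ _ _ f ψ hψ)
  have hq : ∀ {U : Over S} (a a' : 𝒳.p.Fiber U), Gerb.IsoRel 𝒳 U a a' → sec a = sec a' := by
    rintro U a a' ⟨φ⟩
    have := hsec (𝟙 U) a' a φ.1 φ.2
    simpa using this.symm
  have hpull : ∀ {U V : Over S} (f : V ⟶ U) (a : 𝒳.p.Fiber U),
      ∃ ψ : (Gerb.pullFib 𝒳 f a).1 ⟶ a.1, 𝒳.p.IsHomLift f ψ := by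
    intro U V f a
    obtain ⟨a, rfl⟩ := a
    refine ⟨Gerb.pullHom 𝒳 a (f ≫ eqToHom rfl), ?_⟩
    have h := Gerb.pullHom_isHomLift 𝒳 a (f ≫ eqToHom rfl)
    have e : f ≫ eqToHom rfl = f := Category.comp_id f
    exact e ▸ h
  have hcls : ∀ {U V : Over S} (f : V ⟶ U) (a : 𝒳.p.Fiber U) (b : 𝒳.p.Fiber V) (ψ : b.1 ⟶ a.1),
      𝒳.p.IsHomLift f ψ → Quot.mk (Gerb.IsoRel 𝒳 V) (Gerb.pullFib 𝒳 f a) = Quot.mk _ b := by
    intro U V f a b ψ hψ
    obtain ⟨a, rfl⟩ := a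
    obtain ⟨χ, hχ, -⟩ := Gerb.exists_hom_pull 𝒳 a (f ≫ eqToHom rfl) ψ (by simpa using hψ)
    exact (Quot.sound ⟨⟨χ, hχ⟩⟩).symm
  let c : Gerb.isoClPsh 𝒳 ⟶ X.obj.obj :=
    { app := fun U => ↾(Quot.lift (sec (U := U.unop)) hq)
      naturality := fun U V f => by
        ext q
        obtain ⟨a⟩ := q
        obtain ⟨ψ, hψ⟩ := hpull f.unop a
        exact (hsec f.unop a _ ψ hψ).symm }
  refine ⟨c, fun x => rfl, ⟨fun {U} s => ?_⟩, ⟨fun {U} q q' h => ?_⟩⟩
  on_goal 2 => obtain ⟨U⟩ := U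
  · obtain ⟨R, hR, hR'⟩ := hπ.1 (⟨U, s⟩ : (AlgSt.ofSp X.obj).obj)
    refine GrothendieckTopology.superset_covering _ (fun V f hf => ?_) hR
    obtain ⟨x, g, hg⟩ := hR' f hf
    have : (AlgSt.ofSp X.obj).p.IsHomLift f g := hg
    have hx : 𝒳.p.obj x = V := Groth.L09.Gerb.proj_obj (F := π) g (f := f)
    refine ⟨Quot.mk _ ⟨x, hx⟩, ?_⟩
    have := sec_map g ((π.w_obj x).trans hx) (q := ⟨U, s⟩) rfl f hg
    rw [eqToHom_refl, op_id, Functor.map_id_apply] at this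
    exact this.symm
  · obtain ⟨a⟩ := q
    obtain ⟨b⟩ := q'
    obtain ⟨a, ha⟩ := a
    obtain ⟨b, hb⟩ := b
    have hbb : (π.obj a).base = (π.obj b).base := ((π.w_obj a).trans ha).trans (((π.w_obj b).trans hb).symm)
    have he : X.obj.obj.map (eqToHom ((π.w_obj a).trans ha).symm).op (π.obj a).sec =
        X.obj.obj.map (eqToHom ((π.w_obj b).trans hb).symm).op (π.obj b).sec := h
    let m : π.obj a ⟶ π.obj b := ⟨eqToHom hbb, by
      have := congrArg (X.obj.obj.map (eqToHom ((π.w_obj a).trans ha)).op) he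
      simp only [← Functor.map_comp_apply, ← op_comp, eqToHom_trans, eqToHom_refl, op_id,
        Functor.map_id_apply] at this
      exact this.symm⟩
    obtain ⟨R, hR, hR'⟩ := Groth.L09.Gerb.homAt hπ.2 ha (x' := b) m
      (IsHomLift.of_fac' _ _ _ ((π.w_obj a).trans ha) ((π.w_obj b).trans hb) (by simp [m]))
    refine GrothendieckTopology.superset_covering _ (fun V f hf => ?_) hR
    obtain ⟨x₀, φ, ψ, hφ, hψ, -⟩ := hR' f hf
    exact (hcls f ⟨a, ha⟩ ⟨x₀, IsHomLift.domain_eq 𝒳.p f φ⟩ φ hφ).trans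
      (hcls f ⟨b, hb⟩ ⟨x₀, IsHomLift.domain_eq 𝒳.p f φ⟩ ψ hψ).symm

end Groth.Agent.S16877
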