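import Groth.Statements.S16879
import Groth.Agent.L09.Gerbe.SecRep
import Groth.Agent.L09.Gerbe.Space

set_option autoImplicit false
universe u
open CategoryTheory AlgebraicGeometry
open Gerb
open scoped Groth.L09.Gerbe.Sec

namespace Groth.Agent.S16879

/-- A gerbe over the base scheme S with a section x is a classifying stack: if G is a group scheme
affine over S representing the automorphism functor of x, then 𝒳 is equivalent over (Sch/S) to
[S/G], the stack of fppf G-torsors. (The source allows any algebraic space as the base, lets G be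
the group algebraic space of automorphisms, and its equivalence is a named one; here the base is S
itself, G is an affine group scheme, and existence of an equivalence is asserted.) -/
theorem result
    (S : Scheme.{u}) (𝒳 : AlgSt.Cat S) (h𝒳 : AlgSt.IsAlgStack Scheme.fppfPrecoverage 𝒳)
    (π : 𝒳 ⥤ᵇ FibCat.overCat (Over.mk (𝟙 S)))
    (hπ : Gerb.IsGerbeOver (QuotSh.J Scheme.fppfPrecoverage S) π)
    (x : FibCat.overCat (Over.mk (𝟙 S)) ⥤ᵇ 𝒳)
    (e : BasedFunctor.comp x π ≅ BasedFunctor.id (FibCat.overCat (Over.mk (𝟙 S))))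
    (G : Over S) [GrpObj G] [IsAffineHom G.hom]
    (r : Gerb.AutRep x (Gerb.ptsGrp (Over.mk (𝟙 S)) G)) :
    AlgSt.IsQuotientOf Scheme.fppfPrecoverage G (AlgSt.trivAction G) 𝒳 := by
  let U : AlgSp.Space S := ⟨(AlgSp.yon S).obj (Over.mk (𝟙 S)), AlgSp.IsAlgSpace.yon_obj _⟩
  have hs := h𝒳.isStack
  let π' : 𝒳 ⥤ᵇ AlgSt.ofSp U.obj := BasedFunctor.comp π (AlgSt.ofOverCat (Over.mk (𝟙 S)))
  let x' : AlgSt.ofSp U.obj ⥤ᵇ 𝒳 := Groth.L09.Gerbe.Sec.secSp x
  have e' : BasedFunctor.comp x' π' ≅ BasedFunctor.id (AlgSt.ofSp U.obj) :=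
    Groth.L24.St.whiskerL (AlgSt.toOverCat (Over.mk (𝟙 S))) (Groth.L24.St.whiskerR e (AlgSt.ofOverCat (Over.mk (𝟙 S))))
  have hU := Groth.L09.Gerbe.isAlgStack_ofSp U
  have hT := Groth.L24.St.isAlgStack_overCat (Over.mk (𝟙 S))
  have hg := Groth.L09.Gerb.comp (F := π) (G := AlgSt.ofOverCat (Over.mk (𝟙 S))) hs.1 hT.isStack.1 hπ
    (Groth.L09.Gerb.of_isEquivOver hT.isStack.1 hU.isStack.1 (Groth.L24.St.ofOverCat_isEquivOver _))
  have hx : Gerb.LocSurjObj (AlgSp.J S) x' :=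
    Groth.L09.Gerbe.locSurjObj_section hs.1 hU.isStack.1 hg.2 e'
  obtain ⟨c, hc, -⟩ := Groth.L09.Gerbe.Sec.exists_spBG_equiv (h𝒳s := hs) (π := π') e' hx
  let ψ : (Groth.L24.Tors.schSp S).obj G ≅ Groth.L09.Gerbe.Sec.gOver (x := x') hs :=
    @asIso _ _ _ _ (Groth.L09.Gerbe.Sec.repHom hs r) (Groth.L09.Gerbe.Sec.isIso_repHom hs r)
  let t : ∀ Y : Over (Groth.L24.Tors.one S), Y ⟶ (Groth.L24.Tors.schSp S).obj (MonoidalCategory.tensorUnit (Over S)) :=
    fun Y => CartesianMonoidalCategory.toUnit Y ≫ Functor.LaxMonoidal.ε (Groth.L24.Tors.schSp S)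
  have ht : ∀ (Y : Over (Groth.L24.Tors.one S))
      (a b : Y ⟶ (Groth.L24.Tors.schSp S).obj (MonoidalCategory.tensorUnit (Over S))), a = b := fun Y a b =>
    (cancel_mono (Functor.OplaxMonoidal.η (Groth.L24.Tors.schSp S))).1 (CartesianMonoidalCategory.toUnit_unique _ _)
  have hE := Groth.L09.Gerbe.transFun_isEquivOver (K := Scheme.fppfPrecoverage) ψ
    (Groth.L09.Gerbe.Sec.repHom_mul hs r) (Groth.L09.Gerbe.Sec.repHom_one hs r)
    (aX := AlgSt.trivGAction (Groth.L09.Gerbe.Sec.gOver (x := x') hs))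
    (aX' := Groth.L24.Tors.schAction (AlgSt.trivAction G)) t ht
    (fun Y => CartesianMonoidalCategory.toUnit Y) (fun Y a b => CartesianMonoidalCategory.toUnit_unique a b)
  obtain ⟨d, hd, -, -⟩ := Groth.L24.St.exists_inverse hE
  exact ⟨BasedFunctor.comp (Groth.L24.Tors.toSpQuot Scheme.fppfPrecoverage G (AlgSt.trivAction G))
    (BasedFunctor.comp d c), Groth.L24.St.isEquivOver_comp Groth.L24.Tors.isEquivOver_toSpQuot_fppf
      (Groth.L24.St.isEquivOver_comp hd hc)⟩

end Groth.Agent.S16879
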