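import Groth.Statements.S1688
import Groth.Agent.L15.CohFlat
import Groth.Agent.L19.SupportPullback
import Mathlib.LinearAlgebra.FreeModule.PID
import Mathlib.RingTheory.DiscreteValuationRing.TFAE
import Mathlib.RingTheory.RegularLocalRing.Defs

set_option autoImplicit false
universe u
open CategoryTheory CategoryTheory.Limits AlgebraicGeometry TopologicalSpace
open SDiv

namespace Groth.Agent.S1688

open IsLocalRing

theorem isPrincipalIdealRing (R : Type u) [CommRing R] [IsDomain R] [IsRegularLocalRing R]
    (h : ringKrullDim R ≤ 1) : IsPrincipalIdealRing R := by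
  refine ((tfae_of_isNoetherianRing_of_isLocalRing_of_isDomain R).out 0 4 rfl rfl).2 ?_
  have h1 : (maximalIdeal R).spanFinrank ≤ 1 := by
    have h2 := IsRegularLocalRing.spanFinrank_maximalIdeal (R := R)
    rw [← h2] at h
    exact_mod_cast h
  rcases Nat.le_one_iff_eq_zero_or_eq_one.1 h1 with h3 | h3
  · rw [(Submodule.spanFinrank_eq_zero_iff_eq_bot (IsNoetherian.noetherian _)).1 h3]
    infer_instance
  · exact ((Submodule.spanFinrank_eq_one_iff _).1 h3).1


/-- Let X be a locally Noetherian integral scheme of dimension at most 1 all of whose local rings are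
regular, and F a coherent module on X. Then F is torsion free (every stalk is a torsion-free module
over the local ring) if and only if F is finite locally free. -/
theorem result (X : Scheme.{u}) [IsIntegral X] [IsLocallyNoetherian X] (hreg : ∀ x : ↥X, IsRegularLocalRing (X.presheaf.stalk x))
    (hdim : topologicalKrullDim ↥X ≤ 1) (F : X.Modules) (hF : Coh.IsCoh F) :
    (∀ x : ↥X, NoZeroSMulDivisors (X.presheaf.stalk x) (F.presheaf.stalk x)) ↔ FlatMod.IsFinLocFree F := by
  haveI : Coh.IsQCoh F := hF.1
  constructor
  · intro htf
    refine Groth.L15.CohFlat.isFinLocFree_of_isCoh_isFlat F hF fun x => ?_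
    haveI := hreg x
    haveI := htf x
    haveI := isPrincipalIdealRing (X.presheaf.stalk x) ((Groth.L15.CohFlat.ringKrullDim_stalk_le x).trans hdim)
    haveI : Module.Finite (X.presheaf.stalk x) (F.presheaf.stalk x) :=
      Groth.L19.SupportPullback.finite_stalk F hF x
    haveI : Module.Free (X.presheaf.stalk x) (F.presheaf.stalk x) := Module.free_of_finite_type_torsion_free'
    exact Module.Flat.of_free
  · intro h x
    haveI := Groth.L18.LFP.free_stalk F h x
    exact ⟨fun {c m} h => smul_eq_zero.1 h⟩

end Groth.Agent.S1688
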