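import Groth.Statements.S16880
import Groth.Agent.L09.Gerbe.SecEquiv
import Groth.Agent.L09.Gerbe.SecSpace
import Groth.Agent.L09.Gerbe.SpBGGerbe

set_option autoImplicit false
universe u
open CategoryTheory AlgebraicGeometry
open Gerb

namespace Groth.Agent.S16880

/-- A morphism π : 𝒳 → 𝒴 of algebraic stacks makes 𝒳 a gerbe over 𝒴 if and only if, after base change
along some surjective, flat, locally finitely presented morphism U → 𝒴 from an algebraic space, 𝒳
becomes equivalent over U to a classifying stack [U/G], where G is a group algebraic space over U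
that is flat over U and locally of finite presentation. (Here [U/G] is the stack of fppf-locally
trivial G-torsors given as fppf sheaves over U; 'over U' means the equivalence followed by the
projection to U is 2-isomorphic to the structure functor of [U/G].) -/
theorem result
    (S : Scheme.{u}) (𝒳 𝒴 : AlgSt.Cat S)
    (h𝒳 : AlgSt.IsAlgStack Scheme.fppfPrecoverage 𝒳) (h𝒴 : AlgSt.IsAlgStack Scheme.fppfPrecoverage 𝒴)
    (π : 𝒳 ⥤ᵇ 𝒴) :
    Gerb.IsGerbeOver (QuotSh.J Scheme.fppfPrecoverage S) π ↔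
      ∃ (U : AlgSp.Space S) (G : Over U.obj) (_ : GrpObj G),
        AlgSp.IsAlgSpace G.left ∧ AlgSp.LocP @Flat G.hom ∧ AlgSp.LocP @LocallyOfFinitePresentation G.hom ∧
        ∃ u : AlgSt.ofSp U.obj ⥤ᵇ 𝒴,
          AlgSt.RepByAlgSpWith (AlgSp.LocP @Flat) u ∧
          AlgSt.RepByAlgSpWith (AlgSp.LocP @LocallyOfFinitePresentation) u ∧
          AlgSt.RepByAlgSpWith AlgSp.IsSurjectiveMor u ∧
          ∃ e : AlgSt.SpBG Scheme.fppfPrecoverage G ⥤ᵇ FibCat.fp u π,
            FibCat.IsEquivOver e ∧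
            Nonempty (BasedFunctor.comp e (FibCat.fpFst u π) ≅
              W4stkstmgerbes.spQuotToBase Scheme.fppfPrecoverage G (AlgSt.trivGAction G)) := by
  constructor
  · intro hπ
    obtain ⟨T, s, z, ⟨i⟩, hz, hzs⟩ := Groth.L09.Gerbe.exists_atlas_lift h𝒳 h𝒴 hπ.1
    let U : AlgSp.Space S := ⟨(AlgSp.yon S).obj T, AlgSp.IsAlgSpace.yon_obj T⟩
    have hU := Groth.L09.Gerbe.isAlgStack_ofSp U
    have hT := Groth.L24.St.isAlgStack_overCat T
    let u : AlgSt.ofSp U.obj ⥤ᵇ 𝒴 := BasedFunctor.comp (AlgSt.toOverCat T) z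
    have hE : FibCat.IsEquivOver (AlgSt.toOverCat T) := Groth.L24.St.toOverCat_isEquivOver T
    have hu : Groth.L09.Gerbe.IsFF u := Groth.L09.Gerbe.IsFF.comp hU hT h𝒴
      (Groth.L09.Gerbe.IsFF.of_isEquivOver hU hT hE) hz
    have hus : AlgSt.IsSurjective u := Groth.L24.St.isSurjective_comp (f := AlgSt.toOverCat T) (g := z)
      (Groth.L24.St.isSurjective_of_isEquivOver hE) hzs
    haveI := Groth.L09.Gerbe.faithful_of_ofSp u
    have hr := Groth.L24.St.rep1_of_faithful hU h𝒴 u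
    have hP := Groth.L24.St.isAlgStack_fp hU h𝒳 h𝒴 u π
    let x : AlgSt.ofSp U.obj ⥤ᵇ FibCat.fp u π := FibCat.fpLift (BasedFunctor.id (AlgSt.ofSp U.obj))
      (BasedFunctor.comp (AlgSt.toOverCat T) s) (Groth.L24.St.whiskerL (AlgSt.toOverCat T) i.symm)
    have ex : BasedFunctor.comp x (FibCat.fpFst u π) ≅ BasedFunctor.id (AlgSt.ofSp U.obj) := Iso.refl _
    have hg := Groth.L09.Gerb.baseChange h𝒳.isStack.1 h𝒴.isStack.1 hU.isStack.1 (G := u) hπ
    have hx := Groth.L09.Gerbe.locSurjObj_section hP.isStack.1 hU.isStack.1 hg.2 ex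
    obtain ⟨h1, h2, h3⟩ := Groth.L09.Gerbe.Sec.gSp_space hP hg.2 ex
    exact ⟨U, Groth.L09.Gerbe.Sec.gOver hP.isStack, Groth.L09.Gerbe.Sec.gGrp, h1, h2, h3, u,
      Groth.L24.LocQ.repWith_of_locQ Groth.L24.LocQ.isSmoothLocalST_flat
        (Groth.L24.St.pBase_locP Groth.L23.etLocal_flat)
        (Groth.L24.St.isLocalOnBase_locP_fppf Groth.L23.etLocal_flat) hU h𝒴 hr hu.1,
      Groth.L24.LocQ.repWith_of_locQ Groth.L24.LocQ.isSmoothLocalST_lfp
        (Groth.L24.St.pBase_locP Groth.L23.etLocal_lfp)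
        (Groth.L24.St.isLocalOnBase_locP_fppf Groth.L23.etLocal_lfp) hU h𝒴 hr hu.2,
      Groth.L24.St.repWith_surjective_of_isSurjective hU.isStack.1 h𝒴.isStack.1 hr hus,
      Groth.L09.Gerbe.Sec.exists_spBG_equiv ex hx⟩
  · rintro ⟨U, G, _, -, -, -, u, hfl, hfp, hsu, e, he, ⟨ie⟩⟩
    have hU := Groth.L09.Gerbe.isAlgStack_ofSp U
    have hu : Groth.L09.Gerbe.IsFF u :=
      ⟨Groth.L24.LocQ.locQ_of_repWith_locP Groth.L23.etLocal_flat hU h𝒴 hfl,
        Groth.L24.LocQ.locQ_of_repWith_locP Groth.L23.etLocal_lfp hU h𝒴 hfp⟩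
    have hus := Groth.L24.St.isSurjective_of_repWith hU.isStack.1 h𝒴.isStack.1 hsu
    exact Groth.L09.Gerb.of_baseChange h𝒳.isStack.1 h𝒴.isStack.1 (hu.locSurjObj hU h𝒴 hus)
      (Groth.L09.Gerb.of_comp_equiv he (Groth.L09.Gerbe.isGerbeOver_congr ie.symm
        (Groth.L09.Gerbe.isGerbeOver_spBG G)))

end Groth.Agent.S16880
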