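import Groth.Statements.S16881
import Groth.Agent.L09.Gerbe.SecEquiv
import Groth.Agent.L09.Gerbe.SecSpace

set_option autoImplicit false
universe u
open CategoryTheory AlgebraicGeometry
open Gerb
open scoped Groth.L09.Gerbe.Sec

namespace Groth.Agent.S16881

/-- Existence form, together with the flatness of the group: if π : 𝒳 → U makes the algebraic stack 𝒳 a
gerbe over the algebraic space U and π has a section, then 𝒳 is equivalent over U to a classifying
stack [U/G], where G is a group algebraic space over U that is flat over U and locally of finite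
presentation ([U/G]: fppf-locally trivial G-torsors given as fppf sheaves over U). (G can be taken
to be the automorphism group of the section, with a specific equivalence; here G and the equivalence
are only asserted to exist.) -/
theorem result
    (S : Scheme.{u}) (𝒳 : AlgSt.Cat S) (h𝒳 : AlgSt.IsAlgStack Scheme.fppfPrecoverage 𝒳)
    (U : AlgSp.Space S) (π : 𝒳 ⥤ᵇ AlgSt.ofSp U.obj)
    (hπ : Gerb.IsGerbeOver (QuotSh.J Scheme.fppfPrecoverage S) π)
    (x : AlgSt.ofSp U.obj ⥤ᵇ 𝒳) (ex : BasedFunctor.comp x π ≅ BasedFunctor.id (AlgSt.ofSp U.obj)) :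
    ∃ (G : Over U.obj) (_ : GrpObj G),
      AlgSp.IsAlgSpace G.left ∧ AlgSp.LocP @Flat G.hom ∧ AlgSp.LocP @LocallyOfFinitePresentation G.hom ∧
      ∃ e : AlgSt.SpBG Scheme.fppfPrecoverage G ⥤ᵇ 𝒳,
        FibCat.IsEquivOver e ∧
        Nonempty (BasedFunctor.comp e π ≅
          W4stkstmgerbes.spQuotToBase Scheme.fppfPrecoverage G (AlgSt.trivGAction G)) := by
  have hx : Gerb.LocSurjObj (AlgSp.J S) x :=
    Groth.L09.Gerbe.locSurjObj_section h𝒳.isStack.1
      (Groth.L09.Gerbe.isAlgStack_ofSp U).isStack.1 hπ.2 ex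
  obtain ⟨h1, h2, h3⟩ := Groth.L09.Gerbe.Sec.gSp_space h𝒳 hπ.2 ex
  exact ⟨Groth.L09.Gerbe.Sec.gOver h𝒳.isStack, Groth.L09.Gerbe.Sec.gGrp, h1, h2, h3,
    Groth.L09.Gerbe.Sec.exists_spBG_equiv ex hx⟩

end Groth.Agent.S16881
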