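import Groth.Statements.S16882
import Groth.Agent.L09.GerbBasic

set_option autoImplicit false
open CategoryTheory
universe v u
open Gerb

namespace Groth.Agent.S16882

/-- Let `𝒳`, `𝒴`, `𝒳'`, `𝒴'` be stacks in groupoids over the site `(C, J)` forming a 2-cartesian square
over `C` with sides `F : 𝒳 ⟶ 𝒴`, `G : 𝒴' ⟶ 𝒴`, `F' : 𝒳' ⟶ 𝒴'`, `G' : 𝒳' ⟶ 𝒳` and 2-isomorphism `e :
F' ⋙ G ≅ G' ⋙ F` over `C` (the induced functor from `𝒳'` to the 2-fibre product `𝒴' ×_𝒴 𝒳` over `C`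
is an equivalence over `C`). If `𝒳` is a gerbe over `𝒴` along `F`, then `𝒳'` is a gerbe over `𝒴'`
along `F'`: being a gerbe is preserved by base change. -/
theorem result {C : Type u} [Category.{v} C] (J : GrothendieckTopology C)
    {𝒳 𝒴 𝒳' 𝒴' : BasedCategory.{v, max u v} C}
    (h𝒳 : Stk.IsStack J 𝒳) (h𝒴 : Stk.IsStack J 𝒴) (h𝒳' : Stk.IsStack J 𝒳') (h𝒴' : Stk.IsStack J 𝒴')
    (F : 𝒳 ⥤ᵇ 𝒴) (G : 𝒴' ⥤ᵇ 𝒴) (F' : 𝒳' ⥤ᵇ 𝒴') (G' : 𝒳' ⥤ᵇ 𝒳)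
    (e : BasedFunctor.comp F' G ≅ BasedFunctor.comp G' F) (hc : FibCat.IsTwoCartOver F' G' e)
    (hF : Gerb.IsGerbeOver J F) : Gerb.IsGerbeOver J F' := by
  have hfp : FibCat.IsFibGrpd (FibCat.fp G F).p := Groth.L09.Fib.fp_isFibGrpd h𝒴'.1 h𝒳.1 h𝒴.1
  have h := Groth.L09.Gerb.comp (F := FibCat.fpLift F' G' e) (G := FibCat.fpFst G F) h𝒳'.1 hfp
    (Groth.L09.Gerb.of_isEquivOver h𝒳'.1 hfp hc)
    (Groth.L09.Gerb.baseChange h𝒳.1 h𝒴.1 h𝒴'.1 hF)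
  have he : BasedFunctor.comp (FibCat.fpLift F' G' e) (FibCat.fpFst G F) = F' :=
    Groth.L09.Gerb.bfExt _ _ rfl
  rwa [he] at h

end Groth.Agent.S16882
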