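import Groth.Statements.S16883
import Groth.Agent.L09.GerbBasic

set_option autoImplicit false
open CategoryTheory
universe v u
open Gerb

namespace Groth.Agent.S16883

/-- Let `𝒳`, `𝒴`, `𝒵` be stacks in groupoids over the site `(C, J)` and `F : 𝒳 ⟶ 𝒴`, `G : 𝒴 ⟶ 𝒵`
functors over `C`. If `𝒳` is a gerbe over `𝒴` along `F` and `𝒴` is a gerbe over `𝒵` along `G`, then
`𝒳` is a gerbe over `𝒵` along the composite functor. -/
theorem result {C : Type u} [Category.{v} C] (J : GrothendieckTopology C)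
    {𝒳 𝒴 𝒵 : BasedCategory.{v, max u v} C}
    (h𝒳 : Stk.IsStack J 𝒳) (h𝒴 : Stk.IsStack J 𝒴) (h𝒵 : Stk.IsStack J 𝒵)
    (F : 𝒳 ⥤ᵇ 𝒴) (G : 𝒴 ⥤ᵇ 𝒵)
    (hF : Gerb.IsGerbeOver J F) (hG : Gerb.IsGerbeOver J G) :
    Gerb.IsGerbeOver J (BasedFunctor.comp F G) := by
  exact Groth.L09.Gerb.comp h𝒳.1 h𝒴.1 hF hG

end Groth.Agent.S16883
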