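import Groth.Statements.S16886
import Groth.Agent.L09.GerbBasic
import Groth.Agent.L09.StkTower
-- import your own Groth.Agent.* helpers here

set_option autoImplicit false
open CategoryTheory
universe v u
open Gerb

namespace Groth.Agent.S16886

/-- (2) ⇒ (1): let `𝒳`, `𝒴` be stacks in groupoids over the site `(C, J)` and `F : 𝒳 ⟶ 𝒴` a functor over
`C` making `𝒳` a gerbe over `𝒴` (objects of `𝒴` come from `𝒳` locally and morphisms between images
lift locally). Then for every factorization `F = a ⋙ F'` through a category `𝒳'` over `C` with `a :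
𝒳 ⟶ 𝒳'` an equivalence in the 2-category of categories over `C` and `F' : 𝒳' ⟶ 𝒴` a functor whose
underlying functor makes `𝒳'` fibred in groupoids over `𝒴`, the category `𝒳'` over `𝒴` (through
`F'`) is a gerbe over the site `𝒴` with the topology inherited from `J`. (Only this implication is
stated; the converse is asserted in the published item with its verification not carried out.) -/
theorem result {C : Type u} [Category.{v} C]
    (J : GrothendieckTopology C) {𝒳 𝒴 𝒳' : BasedCategory.{v, max u v} C}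
    (h𝒳 : Stk.IsStack J 𝒳) (h𝒴 : Stk.IsStack J 𝒴) (F : 𝒳 ⥤ᵇ 𝒴) (hF : Gerb.IsGerbeOver J F)
    (a : 𝒳 ⥤ᵇ 𝒳') (ha : FibCat.IsEquivOver a) (F' : 𝒳' ⥤ᵇ 𝒴) (hF' : FibCat.IsFibGrpd F'.toFunctor)
    (hfac : BasedFunctor.comp a F' = F) :
    Gerb.IsGerbe (𝒴.p.restrictedTopology J) (BasedCategory.ofFunctor F'.toFunctor) := by
  let 𝒲 : BasedCategory 𝒴.obj := BasedCategory.ofFunctor F'.toFunctor
  have h𝒳' : Stk.IsStack J 𝒳' := (Groth.L09.Fib.isStack_iff J ha).1 h𝒳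
  let E : 𝒳' ⥤ᵇ Groth.L09.StkBase.tot 𝒲 := { toFunctor := 𝟭 _, w := F'.w }
  have hE : FibCat.IsEquivOver E :=
    ⟨{ toFunctor := 𝟭 _, w := F'.w.symm }, ⟨eqToIso (Groth.L09.StkBase.based_ext rfl)⟩,
      ⟨eqToIso (Groth.L09.StkBase.based_ext rfl)⟩⟩
  have hG : Gerb.IsGerbeOver J F' := Groth.L09.Gerb.of_comp_equiv ha (hfac.symm ▸ hF)
  refine ⟨Groth.L09.StkTower.isStack_over J h𝒴 hF' ((Groth.L09.Fib.isStack_iff J hE).1 h𝒳'), ?_, ?_⟩
  · intro (y : 𝒴.obj)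
    obtain ⟨R, hR, hR'⟩ := hG.1 y
    refine ⟨Sieve.functorPullback 𝒴.p R, ?_, fun y' (m : y' ⟶ y) hm => ?_⟩
    · rw [Groth.L09.Stk.mem_restrictedTopology_iff h𝒴.1]
      refine GrothendieckTopology.superset_covering _ (fun V f hf => ?_) hR
      obtain ⟨z, π, hπ⟩ := h𝒴.1.exists_lift (x := y) f
      refine (@Groth.L09.Stk.pushforward_iff _ _ _ _ _ h𝒴.1 _ _ _ f _ π hπ).2 ?_
      show R (𝒴.p.map π)
      rw [show 𝒴.p.map π = eqToHom (@IsHomLift.domain_eq _ _ _ _ 𝒴.p _ _ _ _ f π hπ) ≫ f from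
        (@IsHomLift.fac' _ _ _ _ 𝒴.p _ _ _ _ f π hπ).trans
          (congrArg (eqToHom _ ≫ ·) (Category.comp_id f))]
      exact R.downward_closed hf _
    · obtain ⟨x, g, hg⟩ := hR' (𝒴.p.map m) hm
      haveI := hg
      obtain ⟨c, hc, -⟩ := Groth.L09.Gerb.connect h𝒴.1 (𝒴.p.map m) g m
      obtain ⟨w, φ, hφ⟩ := hF'.exists_lift (x := x) c.inv
      have hw : F'.obj w = y' := IsHomLift.domain_eq F'.toFunctor c.inv φ
      exact ⟨w, (eqToHom hw ≫ m : F'.obj w ⟶ y),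
        IsHomLift.of_fac' (FibCat.selfOver 𝒴.obj).p m _ hw rfl (by
          show eqToHom hw ≫ m = eqToHom hw ≫ m ≫ 𝟙 y
          exact (congrArg _ (Category.comp_id m)).symm)⟩
  · intro x x' (b : F'.obj x ⟶ F'.obj x') hb
    change (FibCat.selfOver 𝒴.obj).p.IsHomLift (𝟙 (F'.obj x)) b at hb
    have hxx : F'.obj x = F'.obj x' :=
      (@IsHomLift.codomain_eq _ _ _ _ (FibCat.selfOver 𝒴.obj).p _ _ _ _ (𝟙 (F'.obj x)) b hb).symm
    have hb' : b = eqToHom hxx :=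
      (@IsHomLift.fac' _ _ _ _ (FibCat.selfOver 𝒴.obj).p _ _ _ _ (𝟙 (F'.obj x)) b hb).trans (by simp; rfl)
    have hbC : 𝒴.p.IsHomLift (𝟙 (𝒳'.p.obj x)) b := by
      subst hb'
      exact IsHomLift.of_fac' 𝒴.p _ _ (F'.w_obj x) ((congrArg 𝒴.p.obj hxx.symm).trans (F'.w_obj x))
        (by simp [eqToHom_map])
    obtain ⟨R, hR, hR'⟩ := hG.2 x x' b hbC
    let R' : Sieve (𝒴.p.obj (F'.obj x)) := R.pullback (eqToHom (F'.w_obj x))
    have hR₁ : R' ∈ J (𝒴.p.obj (F'.obj x)) := J.pullback_stable _ hR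
    refine ⟨Sieve.functorPullback 𝒴.p R', ?_, fun y' (m : y' ⟶ F'.obj x) hm => ?_⟩
    · show Sieve.functorPullback 𝒴.p R' ∈ 𝒴.p.restrictedTopology J (F'.obj x)
      rw [Groth.L09.Stk.mem_restrictedTopology_iff h𝒴.1]
      refine GrothendieckTopology.superset_covering _ (fun V f hf => ?_) hR₁
      obtain ⟨z, π, hπ⟩ := h𝒴.1.exists_lift (x := F'.obj x) f
      rw [Groth.L09.Stk.pushforward_iff h𝒴.1 _ f π]
      show R' (𝒴.p.map π)
      rw [show 𝒴.p.map π = eqToHom (IsHomLift.domain_eq 𝒴.p f π) ≫ f from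
        (IsHomLift.fac' 𝒴.p f π).trans (by simp)]
      exact R'.downward_closed hf _
    · obtain ⟨x₀, φ, ψ, hφ, hψ, e⟩ := hR' (𝒴.p.map m ≫ eqToHom (F'.w_obj x)) hm
      have hm' : 𝒴.p.IsHomLift (𝒴.p.map m ≫ eqToHom (F'.w_obj x)) m :=
        IsHomLift.of_fac' 𝒴.p _ _ rfl (F'.w_obj x) (by simp)
      haveI : 𝒴.p.IsHomLift (𝒴.p.map m ≫ eqToHom (F'.w_obj x)) (F'.map φ) :=
        (BasedFunctor.isHomLift_iff F' _ φ).2 hφ
      obtain ⟨c, hc, hc'⟩ := Groth.L09.Gerb.connect h𝒴.1 (𝒴.p.map m ≫ eqToHom (F'.w_obj x)) (F'.map φ) m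
      obtain ⟨w, χ, hχ⟩ := hF'.exists_lift (x := x₀) c.inv
      have hw : F'.obj w = y' := IsHomLift.domain_eq F'.toFunctor c.inv χ
      have e₁ : F'.map χ = eqToHom hw ≫ c.inv := (IsHomLift.fac' F'.toFunctor c.inv χ).trans (by simp)
      have e₂ : F'.map (χ ≫ φ) = eqToHom hw ≫ m := by
        rw [F'.toFunctor.map_comp, e₁, Category.assoc, ← hc', Iso.inv_hom_id_assoc]
      have e₃ : F'.map (χ ≫ ψ) = eqToHom hw ≫ m ≫ eqToHom hxx := by
        rw [F'.toFunctor.map_comp, ← e, ← Category.assoc, ← F'.toFunctor.map_comp, e₂, hb', Category.assoc]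
      refine ⟨w, χ ≫ φ, χ ≫ ψ, ?_, ?_, ?_⟩
      · exact IsHomLift.of_fac' F'.toFunctor m _ hw rfl (e₂.trans (congrArg _ (Category.comp_id m).symm))
      · exact IsHomLift.of_fac' F'.toFunctor m _ hw hxx.symm e₃
      · show F'.map (χ ≫ φ) ≫ b = F'.map (χ ≫ ψ)
        rw [e₂, e₃, hb', Category.assoc]

end Groth.Agent.S16886
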