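import Groth.Statements.S1689
import Groth.Agent.L03.RefRegAlg
import Groth.Agent.L01.Regular
import Groth.Agent.L15.CohFlat
import Groth.Agent.L19.SupportPullback
-- import your own Groth.Agent.* helpers here

set_option autoImplicit false
universe u
open CategoryTheory CategoryTheory.Limits AlgebraicGeometry TopologicalSpace
open SDiv

namespace Groth.Agent.S1689

/-- Let X be a locally Noetherian scheme of dimension at most 2 all of whose local rings are regular,
and F a coherent module on X. Then F is reflexive (every stalk is a reflexive module over the local
ring) if and only if F is finite locally free. -/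
theorem result (X : Scheme.{u}) [IsLocallyNoetherian X]
    (hreg : ∀ x : ↥X, IsRegularLocalRing (X.presheaf.stalk x)) (hdim : topologicalKrullDim ↥X ≤ 2) (F : X.Modules)
    (hF : Coh.IsCoh F) : (∀ x : ↥X, Module.IsReflexive (X.presheaf.stalk x) (F.presheaf.stalk x)) ↔ FlatMod.IsFinLocFree F := by
  haveI : Coh.IsQCoh F := hF.1
  constructor
  · intro h
    refine Groth.L15.CohFlat.isFinLocFree_of_isCoh_isFlat F hF fun x => ?_
    haveI := hreg x
    haveI := Groth.L01.isDomain_of_regular (X.presheaf.stalk x)
    haveI := h x
    haveI := Groth.L19.SupportPullback.finite_stalk F hF x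
    haveI := Groth.L03.RefRegAlg.free_of_isReflexive (R := X.presheaf.stalk x)
      ((Groth.L15.CohFlat.ringKrullDim_stalk_le x).trans hdim) (F.presheaf.stalk x)
    exact (inferInstance : Module.Flat (X.presheaf.stalk x) (F.presheaf.stalk x))
  · intro h x
    haveI := Groth.L18.LFP.free_stalk F h x
    haveI := Groth.L19.SupportPullback.finite_stalk F hF x
    infer_instance

end Groth.Agent.S1689
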