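import Groth.Statements.S16894
import Groth.Agent.L22.Nef.Bridge

set_option autoImplicit false
universe u
open CategoryTheory CategoryTheory.Limits AlgebraicGeometry
open Vanish

namespace Groth.Agent.S16894

/-- Let k be an algebraically closed field and X an irreducible proper smooth k-scheme of dimension n
with an ample invertible O_X-module A (a projective manifold), and let L be an invertible
O_X-module. Then L is numerically effective, i.e. the degree of the pullback of L to every integral
one-dimensional closed subscheme Y ⊆ X is non-negative, if and only if L^⊗ν ⊗ A is ample for every ν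
> 0. (The published lemma says 'for an ample sheaf A'; the equivalence is stated here for any given
ample A, which is what the argument gives.) -/
theorem result (k : Type u) [Field k] [IsAlgClosed k]
    (X : Scheme.{u}) [X.Over (Spec (CommRingCat.of k))] [IsProper (X ↘ Spec (CommRingCat.of k))]
    [Smooth (X ↘ Spec (CommRingCat.of k))] [IrreducibleSpace X] (n : ℕ) (hn : topologicalKrullDim X = n)
    (A : X.Modules) (hA : CohB1.IsAmple A) (L : X.Modules) (hL : PicF.IsInvertible L) :
    (∀ (Y : Scheme.{u}) (i : Y ⟶ X) [IsClosedImmersion i], IsIntegral Y → topologicalKrullDim Y = 1 →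
      0 ≤ Pic13.curveDeg k (i ≫ (X ↘ Spec (CommRingCat.of k))) ((Scheme.Modules.pullback i).obj L)) ↔
      ∀ ν : ℕ, 0 < ν → CohB1.IsAmple (CohB1.tensorMod (CohB1.tensorPow L ν) A) := by
  rw [← Groth.L22.Nef.isNef_iff_curveDeg k hL]
  have e : ∀ ν : ℕ, CohB1.tensorMod (CohB1.tensorPow L ν) (CohB1.tensorPow A (0 + 1)) ≅
      CohB1.tensorMod (CohB1.tensorPow L ν) A :=
    fun ν => Groth.L00.Tensor.tensorIso (Iso.refl _) (Groth.L00.Tensor.tensorUnitLeft A)
  refine ⟨fun h ν _ => Groth.L18.Ample.isAmple_of_iso (e ν)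
    (Groth.L22.Nef.isAmple_pow_tensor hA h ν Nat.one_pos), fun h => ⟨hL, fun y hy => ?_⟩⟩
  haveI := Groth.L21.RR.isNoetherian_of_proper (X := X) k
  by_contra hneg
  rw [not_le] at hneg
  let F := ClSub.quotMod (Groth.L22.Inter.pt y)
  let dA := Groth.L22.Inter.altT k (fun _ : Fin 1 => A) F
  let dL := Groth.L22.Inter.altT k (fun _ : Fin 1 => L) F
  obtain ⟨n, hn⟩ := exists_nat_gt (dA / -dL)
  have hd : topologicalKrullDim (CohB1.support F) ≤ (1 : ℕ) :=
    (Groth.L03.Euler.topologicalKrullDim_set_mono (Groth.L22.Inter.pt_facts y).2.1).trans hy.le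
  have hup : ∀ B : X.Modules, Function.update (fun _ : Fin 1 => A) 0 B = fun _ => B := fun B => by
    funext j
    rw [Subsingleton.elim j 0, Function.update_self]
  have hadd := Groth.L22.Nef.altT_update_pow_tensor k (L := fun _ : Fin 1 => A) (fun _ => hA.1) 0 hL hA.1
    (Groth.L22.Inter.pt_facts y).1 hd (n + 1) (0 + 1)
  rw [hup, hup, hup, Groth.L22.Nef.altT_congr k
    (L := fun _ : Fin 1 => CohB1.tensorMod (CohB1.tensorPow L (n + 1)) (CohB1.tensorPow A (0 + 1)))
    (L' := fun _ : Fin 1 => CohB1.tensorMod (CohB1.tensorPow L (n + 1)) A) (fun _ => ⟨e (n + 1)⟩)] at hadd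
  have hpos := (Groth.L22.Nef.IsNef.of_isAmple (k := k) (h (n + 1) n.succ_pos)).2 y hy
  rw [hadd] at hpos
  rw [div_lt_iff₀ (neg_pos.2 hneg)] at hn
  simp only [Nat.cast_add, Nat.cast_one, zero_add, one_mul] at hpos
  simp only [dA, dL, F] at hn
  linarith

end Groth.Agent.S16894
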