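import Groth.Statements.S16896
import Groth.Agent.L22.Big.Nef
import Groth.Agent.L26.AV.SmoothField
-- import your own Groth.Agent.* helpers here

set_option autoImplicit false
universe u
open CategoryTheory CategoryTheory.Limits AlgebraicGeometry
open Vanish

namespace Groth.Agent.S16896

/-- Let k be an algebraically closed field of characteristic zero and X an irreducible proper smooth
k-scheme of dimension n with an ample invertible O_X-module (a projective manifold). Let L be a
numerically effective invertible O_X-module (non-negative degree on every integral one-dimensional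
closed subscheme) and L⁻¹ a tensor inverse of L. Then the Iitaka dimension of L equals n, expressed
by the equivalent condition that some L^⊗ν with ν > 0 receives a monomorphism from an ample
invertible module (L^⊗ν ≅ A(C) with A ample and C effective), if and only if the self-intersection
number c_1(L)^n = ∫ c_1(L)^n · [O_X] (the alternating sum of Euler characteristics attached to n
copies of L⁻¹) is positive. (Only the characteristic-zero case is stated; the
positive-characteristic case assumes a lifting to the Witt vectors of length two.) -/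
theorem result (k : Type u) [Field k] [IsAlgClosed k] [CharZero k]
    (X : Scheme.{u}) [X.Over (Spec (CommRingCat.of k))] [IsProper (X ↘ Spec (CommRingCat.of k))]
    [Smooth (X ↘ Spec (CommRingCat.of k))] [IrreducibleSpace X] (n : ℕ) (hn : topologicalKrullDim X = n)
    (H : X.Modules) (hH : CohB1.IsAmple H) (L Linv : X.Modules) (hL : PicF.IsInvertible L) (hLinv : ClSub.IsInverseOf Linv L)
    (hnef : (∀ (Y : Scheme.{u}) (i : Y ⟶ X) [IsClosedImmersion i], IsIntegral Y → topologicalKrullDim Y = 1 →
      0 ≤ Pic13.curveDeg k (i ≫ (X ↘ Spec (CommRingCat.of k))) ((Scheme.Modules.pullback i).obj L))) :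
    (∃ (ν : ℕ) (A : X.Modules) (φ : A ⟶ CohB1.tensorPow L ν), 0 < ν ∧ CohB1.IsAmple A ∧ Mono φ) ↔
      0 < FGA.intNum k X n (fun _ : Fin n => Linv) (Coh.structureModule X) := by
  haveI : IsReduced X := Groth.Agent.AV.isReduced_of_smooth_field (X ↘ Spec (CommRingCat.of k))
  haveI : AlgebraicGeometry.IsIntegral X := isIntegral_of_irreducibleSpace_of_isReduced X
  haveI := Groth.L21.RR.isNoetherian_of_proper (X := X) k
  have hN : Groth.L22.Nef.IsNef k L := (Groth.L22.Nef.isNef_iff_curveDeg k hL).2 hnef
  have hLi : PicF.IsInvertible Linv := Groth.L22.Big.isInvertible_inv hL hLinv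
  have key := Groth.L22.Big.intNum_inv_eq k hn.le (L := fun _ : Fin n => L) (L' := fun _ => Linv)
    (fun _ => hL) (fun _ => hLi) fun _ => hLinv
  have e : 0 < FGA.intNum k X n (fun _ : Fin n => Linv) (Coh.structureModule X) ↔
      0 < Groth.L22.Inter.altT k (fun _ : Fin n => L) (Coh.structureModule X) := by
    rw [← key, Int.cast_pos]
  rw [e]
  refine ⟨fun ⟨ν, A, φ, _, hA, hφ⟩ => ?_, fun hpos => ?_⟩
  · haveI := hφ
    exact Groth.L22.Big.altT_pos_of_mono k hA hN hn φ
  obtain ⟨C, hC, m₁, hm⟩ := Groth.L22.Big.exists_growth k hH hN hn hpos
  exact Groth.L22.Big.exists_mono_of_growth k hH hL hn (Groth.L22.Big.exists_gt_of_growth hC hm)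


end Groth.Agent.S16896
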