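import Groth.Statements.S1690
import Groth.Agent.L15.Ref.FreeLocus
-- import your own Groth.Agent.* helpers here

set_option autoImplicit false
universe u
open CategoryTheory CategoryTheory.Limits AlgebraicGeometry TopologicalSpace
open SDiv

namespace Groth.Agent.S1690

/-- (1) if and only if (3): let X be an integral locally Noetherian normal scheme and F a coherent
module. Then F is reflexive (stalkwise) if and only if there is an open subscheme j : U ⟶ X such
that every point outside U has local ring of dimension at least 2, the restriction of F to U is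
finite locally free, and the canonical map F ⟶ j_* j^* F is an isomorphism. -/
theorem result (X : Scheme.{u}) [IsIntegral X] [IsLocallyNoetherian X] (hX : Pi1.IsNormalScheme X)
    (F : X.Modules) (hF : Coh.IsCoh F) :
    (∀ x : ↥X, Module.IsReflexive (X.presheaf.stalk x) (F.presheaf.stalk x)) ↔
      ∃ U : X.Opens, (∀ x : ↥X, x ∉ U → (2 : WithBot ℕ∞) ≤ ringKrullDim (X.presheaf.stalk x)) ∧
        FlatMod.IsFinLocFree (F.restrict U.ι) ∧ IsIso ((Scheme.Modules.restrictAdjunction U.ι).unit.app F) := by
  have hη0 : ringKrullDim (X.presheaf.stalk (genericPoint ↥X)) = 0 := ringKrullDim_eq_zero_of_field X.functionField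
  have hmem : ∀ {U W : X.Opens} {z : X}, z ∈ W → z ∈ U → z ∈ U.ι ''ᵁ U.ι ⁻¹ᵁ W := fun {U W z} hW hU => by
    rw [Scheme.Hom.image_preimage_eq_opensRange_inf, Scheme.Opens.opensRange_ι]
    exact ⟨hU, hW⟩
  constructor
  · intro h
    have hr : RefHull.IsReflexive F := (Groth.L15.Ref.isReflexive_iff_stalks hF).2 h
    let U : X.Opens := ⟨{x | FlatMod.IsFlatAt F x}, Groth.L15.Ref.isOpen_flatAt F hF⟩
    have hU : ∀ x : ↥X, x ∉ U → (2 : WithBot ℕ∞) ≤ ringKrullDim (X.presheaf.stalk x) := by
      intro x hx
      by_contra hd
      refine hx ?_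
      show Module.Flat (X.presheaf.stalk x) (F.presheaf.stalk x)
      haveI := Groth.L15.Ref.isTorsionFree_stalk hF hr x
      haveI := Groth.L15.Ref.finite_stalk hF x
      rw [ringKrullDim_stalk_eq_coheight] at hd
      rcases eq_or_ne (Order.coheight x) 0 with h0 | h0
      · haveI := (hX x).1
        have hfield : IsField (X.presheaf.stalk x) := by
          haveI : Ring.KrullDimLE 0 (X.presheaf.stalk x) := AlgebraicGeometry.krullDimLE_of_coheight_le h0.le
          exact Ring.KrullDimLE.isField_of_isDomain
        letI := hfield.toField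
        infer_instance
      · have h2 : Order.coheight x < 2 := WithBot.coe_lt_coe.1 (not_le.1 hd)
        have h1 : Order.coheight x = 1 :=
          le_antisymm (Order.le_of_lt_add_one (by rw [one_add_one_eq_two]; exact h2)) (Order.one_le_iff_ne_zero.2 h0)
        haveI := Groth.L15.CDivLib.isDVR_of_coheight hX h1
        haveI : Module.Free (X.presheaf.stalk x) (F.presheaf.stalk x) := Module.free_of_finite_type_torsion_free'
        infer_instance
    refine ⟨U, hU, Groth.L15.Ref.isFinLocFree_restrict F hF U fun x hx => hx,
      (Groth.L15.Ref.restrict_unit_isIso_iff F U).2 fun W =>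
        Groth.L15.Ref.bijective_rs hX hF hr _ (fun z hz hc => ?_) fun hη => ?_⟩
    · refine hmem hz (by_contra fun hzU => ?_)
      have := hU z hzU
      rw [ringKrullDim_stalk_eq_coheight, hc] at this
      exact absurd this (by decide)
    · refine hmem hη (by_contra fun hzU => ?_)
      have := hU _ hzU
      rw [hη0] at this
      exact absurd this (by decide)
  · rintro ⟨U, hU, hfree, hiso⟩
    have hU1 : ∀ z : ↥X, Order.coheight z = 1 → z ∈ U := fun z hc => by_contra fun hzU => by
      have := hU z hzU
      rw [ringKrullDim_stalk_eq_coheight, hc] at this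
      exact absurd this (by decide)
    have hη : genericPoint ↥X ∈ U := by_contra fun hzU => by
      have := hU _ hzU
      rw [hη0] at this
      exact absurd this (by decide)
    have hst : ∀ y ∈ U, Function.Bijective (RefHull.stalkMapₗ (RefHull.bidualMap F) y) := fun y hy => by
      haveI := Groth.L15.Ref.isQCoh_structureModule (X := X)
      haveI := Groth.L15.Ref.free_of_restrict F hF hfree hy
      haveI := Groth.L15.Ref.finite_stalk hF y
      have h1 := (Groth.L15.Ref.bidualAt_bijective_iff hF y).2
        (inferInstanceAs (Module.IsReflexive (X.presheaf.stalk y) (F.presheaf.stalk y)))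
      rw [← Groth.L15.Ref.stalkMapₗ_bidual] at h1
      exact (Function.Bijective.of_comp_iff' (Groth.L15.Ref.evalStalk_bijective (RefHull.dual F) (Coh.structureModule X)
        (Groth.L15.Ref.isCoh_dual hF) y) _).1 h1
    have hdd := Groth.L15.Ref.isCoh_dual (Groth.L15.Ref.isCoh_dual hF)
    refine (Groth.L15.Ref.isReflexive_iff_stalks hF).1 ?_
    show IsIso (RefHull.bidualMap F)
    refine Scheme.Modules.Hom.isIso_iff_isIso_app.2 fun W => (ConcreteCategory.isIso_iff_bijective _).2 ?_
    have b1 := (Groth.L15.Ref.restrict_unit_isIso_iff F U).1 hiso W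
    have b2 : Function.Bijective (Groth.L18.Frame.rs (RefHull.ddual F) (U.ι.image_preimage_le W)) :=
      Groth.L15.Ref.bijective_rs hX hdd (Groth.L15.Ref.isReflexive_ddual hF) _
        (fun z hz hc => hmem hz (hU1 z hc)) fun h => hmem h hη
    have b3 : Function.Bijective ((RefHull.bidualMap F).app (U.ι ''ᵁ U.ι ⁻¹ᵁ W)) :=
      Groth.L15.Ref.app_bijective_of_stalk _ fun x hx => hst x (U.ι_image_le _ hx)
    have hcomm : Groth.L18.Frame.rs (RefHull.ddual F) (U.ι.image_preimage_le W) ∘ (RefHull.bidualMap F).app W =
        (RefHull.bidualMap F).app (U.ι ''ᵁ U.ι ⁻¹ᵁ W) ∘ Groth.L18.Frame.rs F (U.ι.image_preimage_le W) :=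
      funext fun m => (congr($((RefHull.bidualMap F).mapPresheaf.naturality (homOfLE (U.ι.image_preimage_le W)).op) m)).symm
    exact (Function.Bijective.of_comp_iff' b2 _).1 (hcomm ▸ b3.comp b1)

end Groth.Agent.S1690
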