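import Groth.Statements.S16900
import Groth.Agent.L28.Cyclic.Reg

set_option autoImplicit false
universe u
open Polynomial
open Vanish

namespace Groth.Agent.S16900

/-- Let k be an algebraically closed field and B an integral domain of finite type over k all of whose
localizations at primes are regular (an affine open Spec B of a manifold); let N ≥ 1 be invertible
in k, u a unit of B, α a natural number and f₁ ≠ 0 an element of B such that all local rings of
B/f₁B are regular (the divisor D₁ = V(f₁) is non-singular; f₁ may be a unit). With A' = B[t]/(t^N −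
u·f₁^α) (the algebra of the N-th root of the section u·f₁^α) and K = A'[1/f₁], let A ⊆ K be the
B-subalgebra generated by the N elements t^i · f₁^(−⌊iα/N⌋), 0 ≤ i < N. Then A is finite over B, A
is the integral closure of A' in K (Spec A is the normalization of Spec A', finite and normal over
Spec B), and Spec A is non-singular: every localization of A at a prime ideal is a regular local
ring. -/
theorem result (k : Type u) [Field k] [IsAlgClosed k]
    (B : Type u) [CommRing B] [IsDomain B] [Algebra k B] [Algebra.FiniteType k B]
    (hreg : ∀ (P : Ideal B) [P.IsPrime], IsRegularLocalRing (Localization.AtPrime P))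
    (N : ℕ) (hN : 0 < N) (hNk : IsUnit ((N : ℕ) : k)) (u : Bˣ) (α : ℕ) (f₁ : B) (hf₁ : f₁ ≠ 0)
    (hD : ∀ (P : Ideal (B ⧸ Ideal.span ({f₁} : Set B))) [P.IsPrime], IsRegularLocalRing (Localization.AtPrime P))
    (A : Subalgebra B (Localization.Away
      (algebraMap B (AdjoinRoot (X ^ N - C ((u : B) * f₁ ^ α) : B[X])) f₁)))
    (hA : A = Algebra.adjoin B (Set.range fun i : Fin N =>
      algebraMap (AdjoinRoot (X ^ N - C ((u : B) * f₁ ^ α) : B[X])) (Localization.Away
        (algebraMap B (AdjoinRoot (X ^ N - C ((u : B) * f₁ ^ α) : B[X])) f₁))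
        (AdjoinRoot.root (X ^ N - C ((u : B) * f₁ ^ α) : B[X]) ^ (i : ℕ)) *
      IsLocalization.Away.invSelf (S := Localization.Away
        (algebraMap B (AdjoinRoot (X ^ N - C ((u : B) * f₁ ^ α) : B[X])) f₁))
        (algebraMap B (AdjoinRoot (X ^ N - C ((u : B) * f₁ ^ α) : B[X])) f₁) ^ ((i : ℕ) * α / N))) :
    Module.Finite B A ∧
      IsIntegralClosure A (AdjoinRoot (X ^ N - C ((u : B) * f₁ ^ α) : B[X]))
        (Localization.Away (algebraMap B (AdjoinRoot (X ^ N - C ((u : B) * f₁ ^ α) : B[X])) f₁)) ∧
      ∀ (Q : Ideal A) [Q.IsPrime], IsRegularLocalRing (Localization.AtPrime Q) := by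
  let mp : B[X] := X ^ N - C ((u : B) * f₁ ^ α)
  let R := AdjoinRoot mp
  let φ : R := algebraMap B R f₁
  let L := Localization.Away φ
  have hmon : mp.Monic := monic_X_pow_sub_C _ hN.ne'
  have hdeg : mp.natDegree = N := natDegree_X_pow_sub_C
  let pb := AdjoinRoot.powerBasis' hmon
  have hφ : φ ∈ nonZeroDivisors R := by
    rw [mem_nonZeroDivisors_iff_right]
    intro z hz
    rw [mul_comm, ← Algebra.smul_def] at hz
    have h := congrArg pb.basis.repr hz
    rw [map_smul, map_zero] at h
    exact pb.basis.repr.map_eq_zero_iff.mp ((smul_eq_zero.mp h).resolve_left hf₁)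
  have hinjL : Function.Injective (algebraMap R L) :=
    IsLocalization.injective L (Submonoid.powers_le.mpr hφ)
  have htN : (AdjoinRoot.root mp) ^ N = algebraMap B R ((u : B) * f₁ ^ α) := by
    have h := AdjoinRoot.eval₂_root mp
    simp only [mp, eval₂_sub, eval₂_X_pow, eval₂_C, sub_eq_zero] at h
    exact h
  have hfL : algebraMap B L f₁ = algebraMap R L φ := IsScalarTower.algebraMap_apply B R L f₁
  let D : Groth.L28.Cyclic.Setup B L :=
    { N := N
      hN := hN
      α := α
      f := f₁
      u := u
      t := algebraMap R L (AdjoinRoot.root mp)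
      w := IsLocalization.Away.invSelf (S := L) φ
      hw := by rw [hfL]; exact IsLocalization.Away.mul_invSelf (S := L) φ
      ht := by
        rw [← map_pow, htN, ← IsScalarTower.algebraMap_apply B R L, map_mul, map_pow]
      li := fun c hc i => by
        have h0 : ∑ i : Fin N, c i • AdjoinRoot.root mp ^ (i : ℕ) = 0 := hinjL (by
          rw [map_zero, ← hc, map_sum]
          refine Finset.sum_congr rfl fun i _ => ?_
          rw [Algebra.smul_def, Algebra.smul_def, map_mul, map_pow,
            ← IsScalarTower.algebraMap_apply B R L])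
        have hd : pb.dim = N := by simp [pb, AdjoinRoot.powerBasis'_dim, hdeg]
        have hli : LinearIndependent B fun i : Fin N => AdjoinRoot.root mp ^ (i : ℕ) := by
          have h := pb.basis.linearIndependent.comp (Fin.cast hd.symm) (Fin.cast_injective _)
          have e : (⇑pb.basis ∘ Fin.cast hd.symm) = fun i : Fin N => AdjoinRoot.root mp ^ (i : ℕ) := by
            funext j
            simp [pb]
          rwa [e] at h
        exact Fintype.linearIndependent_iff.mp hli c h0 i
      span := fun x => by
        obtain ⟨n, r, hr⟩ := IsLocalization.Away.surj φ x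
        refine ⟨n, ?_⟩
        rw [hfL, hr]
        have hd : pb.dim = N := by simp [pb, AdjoinRoot.powerBasis'_dim, hdeg]
        rw [← pb.basis.sum_repr r, map_sum]
        refine Submodule.sum_mem _ fun j _ => ?_
        rw [Algebra.smul_def, map_mul, ← IsScalarTower.algebraMap_apply B R L, ← Algebra.smul_def]
        refine Submodule.smul_mem _ _ (Submodule.subset_span ⟨Fin.cast hd j, ?_⟩)
        simp [pb] }
  have hL : Nontrivial L := by
    have : Nontrivial R := AdjoinRoot.nontrivial mp (by
      rw [Polynomial.degree_eq_natDegree hmon.ne_zero, hdeg]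
      exact Nat.cast_ne_zero.mpr hN.ne')
    exact Function.Injective.nontrivial hinjL
  have hA' : A = D.A := by
    rw [hA]
    show Algebra.adjoin B _ = Algebra.adjoin B _
    exact congrArg (Algebra.adjoin B) (congrArg Set.range (funext fun i =>
      congrArg (· * _) (map_pow _ _ _)))
  subst hA'
  have : IsNoetherianRing B := Algebra.FiniteType.isNoetherianRing k B
  have hNB : IsUnit (D.N : B) := by
    have := hNk.map (algebraMap k B)
    rwa [map_natCast] at this
  have hregA := D.regular (fun P _ => hreg P) (fun P _ => hD P) hNB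
  refine ⟨D.finite, ⟨Subtype.val_injective, fun {x} => ⟨fun hx => ?_, ?_⟩⟩, fun Q _ => hregA Q⟩
  · have : Module.Finite B R := Module.Finite.of_basis pb.basis
    have : Algebra.IsIntegral B R := Algebra.IsIntegral.of_finite B R
    have hxB : IsIntegral B x := isIntegral_trans (R := B) (A := R) x hx
    exact ⟨⟨x, D.integrallyClosed hregA x hxB.tower_top⟩, rfl⟩
  · rintro ⟨y, rfl⟩
    have : Module.Finite B D.A := D.finite
    exact IsIntegral.tower_top (IsIntegral.map D.A.val (IsIntegral.of_finite B y))

end Groth.Agent.S16900
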