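import Groth.Statements.S16901
import Groth.Agent.L22.Big.Volume

set_option autoImplicit false
universe u
open CategoryTheory CategoryTheory.Limits AlgebraicGeometry
open Vanish

namespace Groth.Agent.S16901

/-- Let k be an algebraically closed field and X an integral proper k-scheme of dimension n with an
ample invertible O_X-module (a projective variety, not assumed non-singular), and let L be an
invertible O_X-module. The Iitaka dimension of L is n, in the growth form the text adopts as its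
working definition (for some ν > 0 there is a constant a > 0 with μ^n ≤ a · dim_k H^0(X, L^⊗νμ) for
all μ ≥ 1), if and only if for some ν > 0 there are an ample invertible module A and a monomorphism
A → L^⊗ν (that is, L^⊗ν(−C) is ample for some effective divisor C). -/
theorem result (k : Type u) [Field k] [IsAlgClosed k]
    (X : Scheme.{u}) [X.Over (Spec (CommRingCat.of k))] [IsIntegral X] [IsProper (X ↘ Spec (CommRingCat.of k))]
    (n : ℕ) (hn : topologicalKrullDim X = n) (H : X.Modules) (hH : CohB1.IsAmple H)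
    (L : X.Modules) (hL : PicF.IsInvertible L) :
    (∃ ν a : ℕ, 0 < ν ∧ 0 < a ∧ ∀ μ : ℕ, 1 ≤ μ →
        μ ^ n ≤ a * Module.finrank k (Coh.HH X (CohB1.tensorPow L (ν * μ)) 0)) ↔
      ∃ (ν : ℕ) (A : X.Modules) (φ : A ⟶ CohB1.tensorPow L ν), 0 < ν ∧ CohB1.IsAmple A ∧ Mono φ := by
  constructor
  · rintro ⟨ν, a, hν, ha, h⟩
    refine Groth.L22.Big.exists_mono_of_growth k hH hL hn fun hn0 B => ?_
    obtain ⟨d, rfl⟩ := Nat.exists_eq_succ_of_ne_zero hn0.ne'
    set μ := a * B * (3 * ν) ^ d + 1 with hμ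
    refine ⟨ν * μ, Nat.mul_pos hν (Nat.succ_pos _), ?_⟩
    have h1 := h μ (Nat.succ_pos _)
    rw [← Groth.L22.Big.h0_def] at h1
    rw [Nat.succ_sub_one]
    refine lt_of_mul_lt_mul_left (lt_of_lt_of_le ?_ h1) (Nat.zero_le a)
    have h2 : ν * μ + 2 ≤ 3 * ν * μ := by
      have : 1 ≤ ν * μ := Nat.mul_pos hν (Nat.succ_pos _)
      nlinarith
    calc a * (B * (ν * μ + 2) ^ d) ≤ a * (B * (3 * ν * μ) ^ d) := by gcongr
      _ = a * B * (3 * ν) ^ d * μ ^ d := by rw [mul_pow]; ring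
      _ < μ * μ ^ d := Nat.mul_lt_mul_of_pos_right (Nat.lt_succ_self _) (pow_pos (Nat.succ_pos _) d)
      _ = μ ^ (d + 1) := by rw [pow_succ]; ring
  · rintro ⟨ν, A, φ, hν, hA, hφ⟩
    haveI := hφ
    obtain ⟨C, hC, m₁, h⟩ := Groth.L22.Big.growth_of_mono k hA hL hn hν φ
    obtain ⟨a, ha⟩ := exists_nat_gt (1 / C)
    refine ⟨m₁ + 1, a, Nat.succ_pos _, ?_, fun μ hμ => ?_⟩
    · have : (0 : ℚ) < a := lt_trans (by positivity) ha
      exact_mod_cast this
    · have h1 := h ((m₁ + 1) * μ) (by nlinarith)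
      rw [← Groth.L22.Big.h0_def]
      rw [div_lt_iff₀ hC] at ha
      have h2 : (μ : ℚ) ^ n ≤ (((m₁ + 1) * μ : ℕ) : ℚ) ^ n := by
        refine pow_le_pow_left₀ (Nat.cast_nonneg _) ?_ _
        exact_mod_cast Nat.le_mul_of_pos_left μ (Nat.succ_pos m₁)
      have h3 : ((μ ^ n : ℕ) : ℚ) ≤ ((a * Groth.L22.Big.h0 k (CohB1.tensorPow L ((m₁ + 1) * μ)) : ℕ) : ℚ) := by
        push_cast at h1 h2 ⊢
        calc (μ : ℚ) ^ n ≤ (((m₁ : ℚ) + 1) * μ) ^ n := h2
          _ ≤ (a : ℚ) * C * (((m₁ : ℚ) + 1) * μ) ^ n := le_mul_of_one_le_left (by positivity) ha.le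
          _ ≤ _ := by rw [mul_assoc]; exact mul_le_mul_of_nonneg_left h1 (Nat.cast_nonneg a)
      exact_mod_cast h3

end Groth.Agent.S16901
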