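import Groth.Prelude.Def_Coh
import Groth.Prelude.Def_CohB1
import Groth.Prelude.Def_Pic
import Groth.Prelude.Def_ClSub2
import Mathlib.AlgebraicGeometry.Morphisms.Proper
import Mathlib.AlgebraicGeometry.Morphisms.Smooth
import Mathlib.AlgebraicGeometry.Over
import Mathlib.FieldTheory.IsAlgClosed.Basic
import Mathlib.Algebra.CharP.Defs
import Mathlib.Topology.KrullDimension
import Groth.Prelude.Def_Pic13
import Groth.Prelude.Def_FGA
import Mathlib.AlgebraicGeometry.Morphisms.ClosedImmersion
import Mathlib.LinearAlgebra.Dimension.Finrank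
import Groth.Prelude.Def_Curv2
import Groth.Agent.L02.NumDim.Bridge

set_option autoImplicit false
set_option linter.style.haveILetI false
namespace Vanish
end Vanish
universe u
open CategoryTheory CategoryTheory.Limits AlgebraicGeometry
open Vanish

namespace Groth.Agent.S16903

/-- Let k be an algebraically closed field of characteristic zero and X an irreducible proper smooth
k-scheme of dimension n with an ample invertible O_X-module (a projective manifold); let L be a
numerically effective invertible O_X-module with tensor inverse L⁻¹ and m a natural number such that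
c_1(L)^m is numerically trivial, i.e. the intersection number (L^m · V) = ∫ c_1(L)^m [O_V] vanishes
for every integral closed subscheme V ⊆ X of dimension m. Then κ(L) < m, in the growth form: there
are no ν > 0 and a > 0 with μ^m ≤ a · dim_k H^0(X, L^⊗νμ) for all μ ≥ 1. (This expresses ν(L) ≥
κ(L); only the characteristic-zero case is stated.) -/
theorem result (k : Type u) [Field k] [IsAlgClosed k] [CharZero k]
    (X : Scheme.{u}) [X.Over (Spec (CommRingCat.of k))] [IsProper (X ↘ Spec (CommRingCat.of k))]
    [Smooth (X ↘ Spec (CommRingCat.of k))] [IrreducibleSpace X] (n : ℕ) (hn : topologicalKrullDim X = n)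
    (H : X.Modules) (hH : CohB1.IsAmple H) (L Linv : X.Modules) (hL : PicF.IsInvertible L) (hLinv : ClSub.IsInverseOf Linv L)
    (hnef : (∀ (Y : Scheme.{u}) (i : Y ⟶ X) [IsClosedImmersion i], IsIntegral Y → topologicalKrullDim Y = 1 →
      0 ≤ Pic13.curveDeg k (i ≫ (X ↘ Spec (CommRingCat.of k))) ((Scheme.Modules.pullback i).obj L)))
    (m : ℕ) (hm : (∀ (V : Scheme.{u}) (i : V ⟶ X) [IsClosedImmersion i], IsIntegral V → topologicalKrullDim V = (m : ℕ) →
      FGA.intNum k X n (fun _ : Fin m => Linv) ((Scheme.Modules.pushforward i).obj (Coh.structureModule V)) = 0)) :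
    ¬ (∃ ν a : ℕ, 0 < ν ∧ 0 < a ∧ ∀ μ : ℕ, 1 ≤ μ →
        μ ^ m ≤ a * Module.finrank k (Coh.HH X (CohB1.tensorPow L (ν * μ)) 0)) := by
  haveI := Groth.L16.SecComp.isReduced_of_smooth (X ↘ Spec (CommRingCat.of k))
  haveI : IsIntegral X := isIntegral_of_irreducibleSpace_of_isReduced X
  obtain ⟨e⟩ : Nonempty (CohB1.tensorMod Linv L ≅ Coh.structureModule X) := hLinv
  have hz := (Groth.L02.NumDim.forall_intNum_zero_iff k hn.le hL ⟨e⟩ m).1 hm
  have hm1 := Groth.L02.NumDim.one_le_of_forall k hz
  haveI := Groth.L21.RR.isNoetherian_of_proper (X := X) k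
  obtain ⟨C, hC⟩ := Groth.L02.NumDim.exists_h0_le_numTrivial k hH
    ((Groth.L22.Nef.isNef_iff_curveDeg k hL).2 hnef) hm1 hz n (Coh.structureModule X)
    (Groth.L16.CohClosedPush.isCoh_structure (X := X)) ((Groth.L22.Nakai.dim_support_structure X).le.trans hn.le)
  rintro ⟨ν, a, hν, -, h⟩
  refine Groth.L02.NumDim.not_growth_of_le hm1 (C := C) (a := a) (f := fun μ => Groth.L22.Big.h0 k (CohB1.tensorPow L μ))
    (fun μ => ?_) hν (fun μ hμ => ?_)
  · exact (Groth.L22.Big.h0_iso k (Groth.L00.Tensor.tensorUnitLeft _)).symm.trans_le (hC μ)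
  · rw [Groth.L22.Big.h0_def]; exact h μ hμ

end Groth.Agent.S16903
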