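import Groth.Prelude.Def_Coh
import Groth.Prelude.Def_CohB1
import Groth.Prelude.Def_Pic
import Groth.Prelude.Def_ClSub2
import Mathlib.AlgebraicGeometry.Morphisms.Proper
import Mathlib.AlgebraicGeometry.Morphisms.Smooth
import Mathlib.AlgebraicGeometry.Over
import Mathlib.FieldTheory.IsAlgClosed.Basic
import Mathlib.Algebra.CharP.Defs
import Mathlib.Topology.KrullDimension
import Groth.Prelude.Def_Pic13
import Groth.Prelude.Def_FGA
import Mathlib.AlgebraicGeometry.Morphisms.ClosedImmersion
import Mathlib.LinearAlgebra.Dimension.Finrank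
import Groth.Prelude.Def_Curv2
import Groth.Agent.L02.NumDim.Bridge
import Groth.Agent.L02.Pic13Deg.BoundedInt
import Groth.Agent.L02.NTVanish.Vol
set_option backward.isDefEq.respectTransparency false

set_option autoImplicit false
set_option linter.style.haveILetI false
namespace Vanish
end Vanish
universe u
open CategoryTheory CategoryTheory.Limits AlgebraicGeometry
open Vanish

namespace Groth.Agent.S16904

open Groth.L22.Inter Groth.L22.Nef Groth.L03.Euler

/-- Let k be an algebraically closed field of characteristic zero and X an irreducible proper smooth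
k-scheme of dimension n with an ample invertible O_X-module (a projective manifold); let L be a
semi-ample invertible O_X-module (some L^⊗μ with μ > 0 is globally generated; such L is numerically
effective) with tensor inverse L⁻¹. Then for every natural number m, c_1(L)^m is numerically trivial
— (L^m · V) = 0 for every integral closed subscheme V ⊆ X of dimension m — if and only if κ(L) < m
in the growth form: there are no ν > 0 and a > 0 with μ^m ≤ a · dim_k H^0(X, L^⊗νμ) for all μ ≥ 1.
(This expresses ν(L) = κ(L) for semi-ample L; characteristic zero only.) -/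
theorem result (k : Type u) [Field k] [IsAlgClosed k] [CharZero k]
    (X : Scheme.{u}) [X.Over (Spec (CommRingCat.of k))] [IsProper (X ↘ Spec (CommRingCat.of k))]
    [Smooth (X ↘ Spec (CommRingCat.of k))] [IrreducibleSpace X] (n : ℕ) (hn : topologicalKrullDim X = n)
    (H : X.Modules) (hH : CohB1.IsAmple H) (L Linv : X.Modules) (hL : PicF.IsInvertible L) (hLinv : ClSub.IsInverseOf Linv L)
    (hsa : ∃ μ : ℕ, 0 < μ ∧ Curv2.IsGloballyGenerated (CohB1.tensorPow L μ))
    (m : ℕ) :
    (∀ (V : Scheme.{u}) (i : V ⟶ X) [IsClosedImmersion i], IsIntegral V → topologicalKrullDim V = (m : ℕ) →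
      FGA.intNum k X n (fun _ : Fin m => Linv) ((Scheme.Modules.pushforward i).obj (Coh.structureModule V)) = 0) ↔ ¬ (∃ ν a : ℕ, 0 < ν ∧ 0 < a ∧ ∀ μ : ℕ, 1 ≤ μ →
        μ ^ m ≤ a * Module.finrank k (Coh.HH X (CohB1.tensorPow L (ν * μ)) 0)) := by
  haveI := Groth.L16.SecComp.isReduced_of_smooth (X ↘ Spec (CommRingCat.of k))
  haveI : IsIntegral X := isIntegral_of_irreducibleSpace_of_isReduced X
  haveI := Groth.L21.RR.isNoetherian_of_proper (X := X) k
  obtain ⟨e⟩ : Nonempty (CohB1.tensorMod Linv L ≅ Coh.structureModule X) := hLinv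
  obtain ⟨μ₀, hμ₀, hgg⟩ := hsa
  rw [Groth.L02.NumDim.forall_intNum_zero_iff k hn.le hL ⟨e⟩ m]
  let M := CohB1.tensorPow L μ₀
  have hM : PicF.IsInvertible M := Groth.L18.Ample.isInvertible_tensorPow hL μ₀
  have hscale : ∀ y : X, topologicalKrullDim (closure ({y} : Set X)) = (m : ℕ) →
      altT k (fun _ : Fin m => M) (ClSub.quotMod (pt y)) =
        (μ₀ : ℚ) ^ m * altT k (fun _ : Fin m => L) (ClSub.quotMod (pt y)) := fun y hy => by
    rw [Groth.L02.Pic13Deg.altT_powAll k (L := fun _ : Fin m => L) (fun _ => hL) (fun _ => μ₀) (pt_facts y).1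
      ((topologicalKrullDim_set_mono (pt_facts y).2.1).trans hy.le), Finset.prod_const, Finset.card_fin]
  constructor
  · intro hz
    have hm1 := Groth.L02.NumDim.one_le_of_forall k hz
    obtain ⟨Nn, φ, hφ, ⟨τ⟩⟩ := Groth.L02.NumDim.exists_morphism k hM hgg
    letI : (CohB1.ProjSpace Nn k).Over (Spec (CommRingCat.of k)) := ⟨CohB1.ProjSpace.toSpec Nn k⟩
    haveI : IsProper ((CohB1.ProjSpace Nn k) ↘ Spec (CommRingCat.of k)) :=
      inferInstanceAs (IsProper (CohB1.ProjSpace.toSpec Nn k))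
    have hMn : IsNef k M := ((IsNef.of_isAmple (X := CohB1.ProjSpace Nn k) (L := Groth.L18.PUP.O1 Nn k)
      (Groth.L22.VeryAmple.isAmple_O1 Nn k)).pullback' φ hφ).of_iso τ
    obtain ⟨C, hC⟩ := Groth.L02.NumDim.exists_h0_le_numTrivial k hH hMn hm1
      (fun y hy => by rw [hscale y hy, hz y hy, mul_zero]) n (Coh.structureModule X)
      (Groth.L16.CohClosedPush.isCoh_structure (X := X)) ((Groth.L22.Nakai.dim_support_structure X).le.trans hn.le)
    rintro ⟨ν, a, hν, -, h⟩
    refine Groth.L02.NumDim.not_growth_of_le hm1 (C := C) (f := fun t => Groth.L22.Big.h0 k (CohB1.tensorPow M t))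
      (fun t => ?_) hν (a := a) (fun t ht => ?_)
    · exact (Groth.L22.Big.h0_iso k (Groth.L00.Tensor.tensorUnitLeft _)).symm.trans_le (hC t)
    · have h1 := h (μ₀ * t) (Nat.mul_pos hμ₀ ht)
      rw [← Groth.L22.Big.h0_def] at h1
      refine le_trans (Nat.pow_le_pow_left (Nat.le_mul_of_pos_left t hμ₀) m) (h1.trans (le_of_eq ?_))
      exact congrArg (a * ·) ((Groth.L22.Big.h0_iso k (eqToIso (congrArg (CohB1.tensorPow L)
        (Nat.mul_left_comm ν μ₀ t)) ≪≫ (Groth.L00.Tensor.tensorPowMul L μ₀ (ν * t)).symm)))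
  · intro hgrow y hy
    by_contra hne
    refine hgrow ?_
    obtain ⟨C, hC, q₀, hq₀⟩ := Groth.L02.NumDim.exists_growth_gg k hM hgg hy
      (by rw [hscale y hy]; exact mul_ne_zero (pow_ne_zero _ (Nat.cast_ne_zero.2 hμ₀.ne')) hne)
    obtain ⟨s, hs⟩ := Groth.L18.Ample.exists_genLocus_mem_of_gg hM hgg (genericPoint X)
    obtain ⟨b, hb⟩ := exists_nat_ge (1 / C)
    refine ⟨μ₀, b + q₀ ^ m + 1, hμ₀, by omega, fun q hq => ?_⟩
    rw [← Groth.L22.Big.h0_def, ← Groth.L22.Big.h0_iso k (Groth.L00.Tensor.tensorPowMul L μ₀ q)]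
    obtain ⟨t, ht⟩ := Groth.L22.Big.exists_generic_section_pow hM hs q
    have hpos : 0 < Groth.L22.Big.h0 k (CohB1.tensorPow M q) :=
      Groth.L02.NTVanish.h0_pos_of_section k (Groth.L18.Ample.isInvertible_tensorPow hM q) ht
    rcases Nat.lt_or_ge q q₀ with hlt | hge
    · calc q ^ m ≤ q₀ ^ m := Nat.pow_le_pow_left hlt.le m
        _ ≤ (b + q₀ ^ m + 1) * 1 := by omega
        _ ≤ _ := Nat.mul_le_mul_left _ hpos
    · have h1 := hq₀ q hge
      have hb' : 1 ≤ (b : ℚ) * C := by rw [← div_le_iff₀ hC]; exact hb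
      have h2 : ((q ^ m : ℕ) : ℚ) ≤ (((b + q₀ ^ m + 1) * Groth.L22.Big.h0 k (CohB1.tensorPow M q) : ℕ) : ℚ) := by
        push_cast
        calc (q : ℚ) ^ m ≤ (b : ℚ) * C * (q : ℚ) ^ m := le_mul_of_one_le_left (by positivity) hb'
          _ ≤ (b : ℚ) * (Groth.L22.Big.h0 k (CohB1.tensorPow M q) : ℚ) := by
              rw [mul_assoc]; exact mul_le_mul_of_nonneg_left h1 (Nat.cast_nonneg _)
          _ ≤ _ := mul_le_mul_of_nonneg_right (by
              have : (0 : ℚ) ≤ (q₀ : ℚ) ^ m := by positivity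
              linarith) (Nat.cast_nonneg _)
      exact_mod_cast h2

end Groth.Agent.S16904
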