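import Groth.Statements.S16910
import Groth.Agent.L24.St.AffineDiagFpqc
import Groth.Agent.S1607
import Groth.Agent.L22.DimOneAmple.Affine

set_option autoImplicit false
universe u
open CategoryTheory CategoryTheory.Limits AlgebraicGeometry
open ResProp

namespace Groth.Agent.S16910

/-- Let `𝒳` be an algebraic stack over `S` (fppf topology; diagonal representable, separated and
quasi-compact, the text's standing convention) admitting a morphism `u : U → 𝒳` from a Noetherian
scheme `U` of Krull dimension at most one all of whose local rings are regular, with `u`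
representable by algebraic spaces, affine, flat and surjective. Then the diagonal of `𝒳` over
`(Sch/S)` is representable by algebraic spaces and affine. -/
theorem result (S : Scheme.{u}) (𝒳 : AlgSt.Cat S)
    (h𝒳 : AlgSt.IsAlgStack Scheme.fppfPrecoverage 𝒳)
    (hΔ : AlgSt.RepByAlgSpWith (AlgSp.IsSeparatedMor ⊓ AlgSp.IsQuasiCompactMor) (FibCat.diag (FibCat.toSelf 𝒳)))
    (U : Over S) [IsNoetherian U.left] (hreg : ∀ x : U.left, IsRegularLocalRing (U.left.presheaf.stalk x))
    (hdim : topologicalKrullDim U.left ≤ 1) (u : FibCat.overCat U ⥤ᵇ 𝒳)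
    (hua : AlgSt.RepByAlgSpWith AlgSp.IsAffineMor u) (huf : AlgSt.RepByAlgSpWith (AlgSp.LocP @Flat) u)
    (hus : AlgSt.RepByAlgSpWith AlgSp.IsSurjectiveMor u) :
    AlgSt.RepByAlgSpWith AlgSp.IsAffineMor (FibCat.diag (FibCat.toSelf 𝒳)) := by
  refine Groth.L24.St.diag_affine_of_affine_chart h𝒳.isStack.1 h𝒳.diag ?_ huf hus hua
  rw [isAffineHom_diagonal_iff]
  intro _ _ V₁ _ V₂ _ hV₁ hV₂
  haveI : IsAffine V₁.toScheme := hV₁
  rw [← Groth.L22.DimOneAmple.inf_affine_eq, Scheme.Hom.isAffineOpen_iff_of_isOpenImmersion V₁.ι]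
  refine Groth.Agent.S1607.result V₁.toScheme (fun z => ⟨inferInstance, ?_⟩) _
    (@TopologicalSpace.NoetherianSpace.isCompact _ _ V₁.ι.isOpenEmbedding.isInducing.noetherianSpace _)
  rw [ringKrullDim_eq_of_ringEquiv (V₁.stalkIso z).commRingCatIsoToRingEquiv]
  exact (Groth.L22.PicGlue.ringKrullDim_stalk_le z.1).trans hdim

end Groth.Agent.S16910
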