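import Groth.Statements.S16914
import Groth.Agent.L09.GeomStab.Mono
import Groth.Agent.L24.St.InertiaDM
import Groth.Agent.L24.St.InertiaSep
import Groth.Agent.L24.St.UnivProps
import Groth.Agent.L09.FibInertia
import Groth.Agent.L24.St.Bootstrap
import Groth.Agent.L24.St.Fibrewise

set_option autoImplicit false
universe u
open CategoryTheory CategoryTheory.Limits AlgebraicGeometry
open ResProp

set_option backward.isDefEq.respectTransparency false
set_option backward.isDefEq.respectTransparency.types false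

namespace Groth.Agent.S16914

open Groth.L24.St CategoryTheory CategoryTheory.Limits

/-- Let `𝒳` be an algebraic stack over `S` (fppf topology) whose diagonal is representable by algebraic
spaces, separated and quasi-compact. Then `𝒳` is representable by an algebraic space over `S` if and
only if its stabilizer groups vanish at all geometric points: whenever `x` is an object of `𝒳` whose
scheme is the spectrum of an algebraically closed field, `ξ` an object with a morphism to `x` (a
pullback of `x` to some scheme) and `σ` an endomorphism of `ξ` lying over the identity, `σ` is the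
identity. -/
theorem result (S : Scheme.{u}) (𝒳 : AlgSt.Cat S)
    (h𝒳 : AlgSt.IsAlgStack Scheme.fppfPrecoverage 𝒳)
    (hΔ : AlgSt.RepByAlgSpWith (AlgSp.IsSeparatedMor ⊓ AlgSp.IsQuasiCompactMor) (FibCat.diag (FibCat.toSelf 𝒳))) :
    AlgSt.RepByAlgSp 𝒳 ↔
      ∀ (k : Type u) [Field k] [IsAlgClosed k] (x : 𝒳.obj) (e : (𝒳.p.obj x).left ≅ Spec (CommRingCat.of k))
        (ξ : 𝒳.obj) (φ : ξ ⟶ x) (σ : ξ ⟶ ξ), 𝒳.p.map σ = 𝟙 (𝒳.p.obj ξ) → σ = 𝟙 ξ := by
  constructor
  · intro h k _ _ x e ξ φ σ hσ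
    exact trivialKernel_toSelf_of_isFibSetoid (isFibSetoid_of_repByAlgSp h) ξ σ hσ hσ
  intro hyp
  let I := FibCat.inertiaToBase (FibCat.toSelf 𝒳)
  have hX := h𝒳.isStack.1
  have hI : AlgSt.RepByAlgSpWith (AlgSp.LocP @LocallyOfFiniteType) I :=
    (diag_locP_iff_inertiaToBase Groth.L23.etLocal_lft (fun φ h _ => h) h𝒳 isAlgStack_selfOver (FibCat.toSelf 𝒳)).2
      (diag_toSelf_lft h𝒳)
  have hIg : FibCat.IsFibGrpd (FibCat.inertia (FibCat.toSelf 𝒳)).p :=
    L09.Fib.inertia_isFibGrpd hX isAlgStack_selfOver.isStack.1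
  have hm : AlgSt.IsMono I := by
    intro U y
    obtain ⟨F, ε, hε, hb⟩ := hI U y
    refine ⟨F, ε, hε, MorphismProperty.monomorphisms.iff _ |>.2
      (Groth.L09.GeomStab.mono_of_geomFibres F.property _ hb ?_)⟩
    intro k _ _ str t
    let b := AlgSt.spMapOfOver (BasedFunctor.comp ε (FibCat.fpFst y I))
    obtain ⟨hP, Θ, hΘ, ⟨iΘ⟩⟩ := exists_space_square hIg hX y ε hε (AlgSp.IsAlgSpace.yon_obj (Over.mk str))
      (IsPullback.of_hasPullback b ((AlgSp.yon S).map t))
    let G := BasedFunctor.comp (BasedFunctor.comp (AlgSt.ofSpMap ((AlgSp.yon S).map t)) (AlgSt.toOverCat U)) y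
    have hG : FibCat.IsEquivOver (FibCat.fpFst G I) := by
      let L := FibCat.fpFst G I
      have htriv : ∀ (v : (FibCat.fp G I).obj), v.obj.snd.aut.hom = 𝟙 _ := fun v => by
        let a := v.obj.fst
        let a₀ : (AlgSt.ofSp ((AlgSp.yon S).obj (Over.mk str))).obj := ⟨Over.mk str, ⟨𝟙 _⟩⟩
        let m : a ⟶ a₀ := ⟨a.sec.down, ULift.ext _ _ (show a.sec.down ≫ 𝟙 (Over.mk str) = a.sec.down from Category.comp_id _)⟩
        have := inertia_aut_lift (FibCat.toSelf 𝒳) v.obj.snd
        exact hyp k (G.obj a₀) (eqToIso (congrArg (fun X : Over S => X.left) (G.w_obj a₀))) v.obj.snd.pt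
          (v.obj.iso.inv ≫ G.map m) v.obj.snd.aut.hom
          ((IsHomLift.eq_of_isHomLift 𝒳.p (𝟙 _) v.obj.snd.aut.hom).symm)
      have : L.toFunctor.Faithful := ⟨fun {v v'} {m m'} h => by
        have h' : m.hom.fst = m'.hom.fst := h
        refine fp_ext h' (FibCat.InertiaObj.hom_ext ((cancel_epi v.obj.iso.hom).1 ?_))
        show v.obj.iso.hom ≫ I.map m.hom.snd = v.obj.iso.hom ≫ I.map m'.hom.snd
        rw [← m.hom.w, ← m'.hom.w, h']⟩
      have : L.toFunctor.Full := ⟨fun {v v'} m => by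
        change v.obj.fst ⟶ v'.obj.fst at m
        refine ⟨fpHom m ⟨v.obj.iso.inv ≫ G.map m ≫ v'.obj.iso.hom, by rw [htriv v, htriv v']; simp⟩ ?_, rfl⟩
        exact (Iso.hom_inv_id_assoc _ _).symm⟩
      refine isEquivOver_of_overId _ fun a => ?_
      exact ⟨fpObj a ((FibCat.inertiaNeutral (FibCat.toSelf 𝒳)).obj (G.obj a)) (Iso.refl _) (overId_id _),
        Iso.refl _, overId_id _⟩
    have h1 := isIso_spMap (isEquivOver_congr iΘ (isEquivOver_comp hΘ hG))
    rwa [spMap_ofSpMap] at h1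
  have := full_of_isMono hIg hX I hm
  have := faithful_of_rep1 hIg hX I (repWith_rep1 hm)
  have hE : FibCat.IsEquivOver I :=
    isEquivOver_of_overId _ fun x => ⟨(FibCat.inertiaNeutral (FibCat.toSelf 𝒳)).obj x, Iso.refl _, overId_id _⟩
  exact repByAlgSp_of_isFibSetoid h𝒳 (isFibSetoid_of_trivialKernel hX
    ((trivialKernel_iff_inertia hX isAlgStack_selfOver.isStack.1 (FibCat.toSelf 𝒳)).2 hE))

end Groth.Agent.S16914
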