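import Groth.Statements.S16917
import Groth.Agent.L22.VeryGeneral
import Groth.Agent.L22.FibreDim
-- import your own Groth.Agent.* helpers here

set_option autoImplicit false
open CategoryTheory AlgebraicGeometry
universe u
open Variety

namespace Groth.Agent.S16917

/-- Let k be an uncountable algebraically closed field, X a k-scheme of finite type and Z₀, Z₁, …
countably many closed subsets of X. Then the countable union of the Zₙ, read through closed points,
has a unique irredundant decomposition: there is exactly one countable family S of irreducible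
closed subsets of X, pairwise not contained in one another, such that a closed point of X lies in
some member of S if and only if it lies in some Zₙ. (The published statement is the existence and
uniqueness of the irredundant decomposition of a countable union of algebraic varieties into
c-components, a variety being read through its closed points; with all points of the scheme the
uniqueness would not need the uncountable field.) -/
theorem result (k : Type u) [Field k] [IsAlgClosed k]
    [Uncountable k] (X : Scheme.{u}) (sX : X ⟶ Spec (CommRingCat.of k)) [LocallyOfFiniteType sX]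
    [QuasiCompact sX] (Z : ℕ → TopologicalSpace.Closeds X) :
    ∃! S : Set (TopologicalSpace.Closeds X), S.Countable ∧ (∀ T ∈ S, IsIrreducible (T : Set X)) ∧
      IsAntichain (· ≤ ·) S ∧
      {x : X | IsClosed ({x} : Set X) ∧ ∃ T ∈ S, x ∈ T} =
        {x : X | IsClosed ({x} : Set X) ∧ ∃ n, x ∈ Z n} := by
  classical
  letI : X.Over (Spec (CommRingCat.of k)) := ⟨sX⟩
  haveI : LocallyOfFiniteType (X ↘ Spec (CommRingCat.of k)) := ‹LocallyOfFiniteType sX›
  haveI : IsLocallyNoetherian X := LocallyOfFiniteType.isLocallyNoetherian sX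
  haveI : CompactSpace X := QuasiCompact.compactSpace_of_compactSpace sX
  haveI : AlgebraicGeometry.IsNoetherian X := ⟨⟩
  -- dimensions of irreducible closed sets
  have hdim : ∀ T : TopologicalSpace.Closeds X, IsIrreducible (T : Set X) →
      ∃ d : ℕ, topologicalKrullDim (T : Set X) = (d : WithBot ℕ∞) := fun T hT => by
    obtain ⟨η, hη⟩ := QuasiSober.sober hT T.isClosed
    obtain ⟨d, hd, -⟩ := Groth.L22.SchemeDim.exists_dim_closure_eq_trdeg k X η
    exact ⟨d, hη.def ▸ hd⟩
  let C : Set (TopologicalSpace.Closeds X) := {T | ∃ n, T ≤ Z n ∧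
    ∃ W ∈ irreducibleComponents (Z n : Set X), (T : Set X) = Subtype.val '' W}
  have hCirr : ∀ T ∈ C, IsIrreducible (T : Set X) := by
    rintro T ⟨n, -, W, hW, e⟩
    rw [e]
    exact hW.1.image _ continuous_subtype_val.continuousOn
  have hCc : C.Countable := by
    have hC : C ⊆ ⋃ n, {T : TopologicalSpace.Closeds X |
        (T : Set X) ∈ (fun W => Subtype.val '' W) '' irreducibleComponents (Z n : Set X)} := by
      rintro T ⟨n, -, W, hW, e⟩
      exact Set.mem_iUnion.2 ⟨n, W, hW, e.symm⟩
    refine (Set.countable_iUnion fun n => ?_).mono hC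
    haveI : TopologicalSpace.NoetherianSpace (Z n : Set X) :=
      (Topology.IsInducing.subtypeVal (t := (Z n : Set X))).noetherianSpace
    exact ((TopologicalSpace.NoetherianSpace.finite_irreducibleComponents.image _).preimage
      SetLike.coe_injective.injOn).countable
  let S : Set (TopologicalSpace.Closeds X) := {T | T ∈ C ∧ ∀ T' ∈ C, T ≤ T' → T' = T}
  have hmax : ∀ T ∈ C, ∃ T' ∈ S, T ≤ T' := by
    intro T hT
    have key : ∀ (j : ℕ) (T : TopologicalSpace.Closeds X), T ∈ C →
        (∀ T' ∈ C, T ≤ T' → ∀ d : ℕ, topologicalKrullDim (T' : Set X) = (d : WithBot ℕ∞) →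
          ∀ e : ℕ, topologicalKrullDim (T : Set X) = (e : WithBot ℕ∞) → d ≤ e + j) → ∃ T' ∈ S, T ≤ T' := by
      intro j
      induction j with
      | zero =>
        intro T hT hb
        refine ⟨T, ⟨hT, fun T' hT' hle => ?_⟩, le_rfl⟩
        by_contra hne
        obtain ⟨d, hd⟩ := hdim T' (hCirr T' hT')
        obtain ⟨e, he⟩ := hdim T (hCirr T hT)
        have h1 := Groth.L03.Euler.topologicalKrullDim_add_one_le T.isClosed (hCirr T' hT') hle
          fun h => hne (SetLike.coe_injective h).symm
        rw [hd, he] at h1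
        have h2 : (e : ℕ∞) + 1 ≤ d := WithBot.coe_le_coe.1 h1
        have h3 : e + 1 ≤ d := by exact_mod_cast h2
        have := hb T' hT' hle d hd e he
        omega
      | succ j ih =>
        intro T hT hb
        by_cases h : ∃ T' ∈ C, T ≤ T' ∧ T' ≠ T
        · obtain ⟨T', hT', hle, hne⟩ := h
          obtain ⟨d', hd'⟩ := hdim T' (hCirr T' hT')
          obtain ⟨e, he⟩ := hdim T (hCirr T hT)
          have h1 := Groth.L03.Euler.topologicalKrullDim_add_one_le T.isClosed (hCirr T' hT') hle
            fun h => hne (SetLike.coe_injective h).symm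
          rw [hd', he] at h1
          have h2 : (e : ℕ∞) + 1 ≤ d' := WithBot.coe_le_coe.1 h1
          have h3 : e + 1 ≤ d' := by exact_mod_cast h2
          obtain ⟨T'', hT'', hle'⟩ := ih T' hT' fun U hU hUle d hd e' he' => by
            have he'' : (e' : ℕ∞) = d' := WithBot.coe_injective (he'.symm.trans hd')
            have : e' = d' := by exact_mod_cast he''
            have := hb U hU (hle.trans hUle) d hd e he
            omega
          exact ⟨T'', hT'', hle.trans hle'⟩
        · push Not at h
          exact ⟨T, ⟨hT, h⟩, le_rfl⟩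
    obtain ⟨dX, hdX⟩ : ∃ N : ℕ, ∀ T' ∈ C, ∀ d : ℕ, topologicalKrullDim (T' : Set X) = (d : WithBot ℕ∞) → d ≤ N := by
      obtain ⟨N, hN⟩ := Groth.L22.VeryGeneral.exists_dim_le k X
      refine ⟨N, fun T' _ d hd => ?_⟩
      have := hd ▸ (topologicalKrullDim_subspace_le X (T' : Set X)).trans hN
      exact_mod_cast this
    exact key dX T hT fun T' hT' _ d hd _ _ => (hdX T' hT' d hd).trans (Nat.le_add_left _ _)
  have hcover : {x : X | IsClosed ({x} : Set X) ∧ ∃ T ∈ S, x ∈ T} = {x : X | IsClosed ({x} : Set X) ∧ ∃ n, x ∈ Z n} := by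
    ext x
    refine and_congr_right fun _ => ⟨?_, ?_⟩
    · rintro ⟨T, ⟨⟨n, hn, -⟩, -⟩, hxT⟩
      exact ⟨n, hn hxT⟩
    · rintro ⟨n, hxn⟩
      let W := irreducibleComponent (⟨x, hxn⟩ : (Z n : Set X))
      let T : TopologicalSpace.Closeds X := ⟨Subtype.val '' W,
        (Z n).isClosed.isClosedEmbedding_subtypeVal.isClosedMap _ isClosed_irreducibleComponent⟩
      have hT : T ∈ C := ⟨n, Subtype.coe_image_subset _ _, W, irreducibleComponent_mem_irreducibleComponents _, rfl⟩
      obtain ⟨T', hT', hle⟩ := hmax T hT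
      exact ⟨T', hT', hle ⟨_, mem_irreducibleComponent, rfl⟩⟩
  refine ⟨S, ⟨hCc.mono fun T hT => hT.1, fun T hT => hCirr T hT.1,
    fun T hT T' hT' hne hle => hne (hT.2 T' hT'.1 hle).symm, hcover⟩, ?_⟩
  rintro S' ⟨hS'c, hS'i, hS'a, hS'⟩
  have hSa : IsAntichain (· ≤ ·) S := fun T hT T' hT' hne hle => hne (hT.2 T' hT'.1 hle).symm
  have hsame := hS'.trans hcover.symm
  have step : ∀ (S₁ S₂ : Set (TopologicalSpace.Closeds X)), S₂.Countable →
      (∀ T ∈ S₁, IsIrreducible (T : Set X)) →
      {x : X | IsClosed ({x} : Set X) ∧ ∃ T ∈ S₁, x ∈ T} = {x : X | IsClosed ({x} : Set X) ∧ ∃ T ∈ S₂, x ∈ T} →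
      ∀ T ∈ S₁, ∃ T' ∈ S₂, T ≤ T' := fun S₁ S₂ h2 h1 he T hT =>
    Groth.L22.VeryGeneral.exists_subset sX (h1 T hT) T.isClosed h2 fun x hxT hx =>
      ((Set.ext_iff.1 he x).1 ⟨hx, T, hT, hxT⟩).2
  have hA := step S' S (hCc.mono fun T hT => hT.1) hS'i hsame
  have hB := step S S' hS'c (fun T hT => hCirr T hT.1) hsame.symm
  ext T
  constructor
  · intro hT
    obtain ⟨T', hT', hle⟩ := hA T hT
    obtain ⟨T'', hT'', hle'⟩ := hB T' hT'
    have e : T = T'' := hS'a.eq hT hT'' (hle.trans hle')
    exact (le_antisymm hle (e ▸ hle')) ▸ hT'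
  · intro hT
    obtain ⟨T', hT', hle⟩ := hB T hT
    obtain ⟨T'', hT'', hle'⟩ := hA T' hT'
    have e : T = T'' := hSa.eq hT hT'' (hle.trans hle')
    exact (le_antisymm hle (e ▸ hle')) ▸ hT'

end Groth.Agent.S16917
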