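import Groth.Statements.S16918
import Groth.Agent.L22.VeryGeneral
import Groth.Agent.L03.Euler.Dim
import Mathlib.AlgebraicGeometry.AlgClosed.Basic
import Mathlib.Topology.JacobsonSpace
-- import your own Groth.Agent.* helpers here

set_option autoImplicit false
universe u
open CategoryTheory MonoidalCategory CartesianMonoidalCategory MonObj GrpObj AlgebraicGeometry
open GrpSch

namespace Groth.Agent.S16918

open TopologicalSpace in
/-- A family of products lying over countably many closed sets lies in an irreducible closed subset of one. -/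
theorem exists_irreducible {k : Type u} [Field k] [Uncountable k] {X : Scheme.{u}}
    (sX : X ⟶ Spec (CommRingCat.of k)) [LocallyOfFiniteType sX] {T₁ T₂ : Set X}
    (h₁ : IsIrreducible T₁) (hc₁ : IsClosed T₁) (h₂ : IsIrreducible T₂) (hc₂ : IsClosed T₂)
    (L R : closedPoints X → (X ⟶ X))
    (hLR : ∀ a b : closedPoints X, L a b.1 = R b a.1)
    (Z : ℕ → Closeds X) (hZ : ∀ a b : closedPoints X, a.1 ∈ T₁ → b.1 ∈ T₂ → ∃ n, L a b.1 ∈ Z n) :
    ∃ T : Closeds X, IsIrreducible (T : Set X) ∧ (∃ n, (T : Set X) ⊆ Z n) ∧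
      ∀ a b : closedPoints X, a.1 ∈ T₁ → b.1 ∈ T₂ → L a b.1 ∈ T := by
  classical
  haveI : JacobsonSpace X := LocallyOfFiniteType.jacobsonSpace sX
  let S : Set X := {z | ∃ a b : closedPoints X, a.1 ∈ T₁ ∧ b.1 ∈ T₂ ∧ L a b.1 = z}
  -- each translate lies in one of the closed sets
  have hone : ∀ a : closedPoints X, a.1 ∈ T₁ → ∃ n, ∀ b : closedPoints X, b.1 ∈ T₂ → L a b.1 ∈ Z n := fun a ha => by
    obtain ⟨C, ⟨n, rfl⟩, hC⟩ := Groth.L22.VeryGeneral.exists_subset sX h₂ hc₂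
      (S := Set.range fun n => (⟨L a ⁻¹' Z n, (Z n).isClosed.preimage (L a).continuous⟩ : Closeds X))
      (Set.countable_range _) fun b hb hbc => by
        obtain ⟨n, hn⟩ := hZ a ⟨b, hbc⟩ ha hb
        exact ⟨_, ⟨n, rfl⟩, hn⟩
    exact ⟨n, fun b hb => hC hb⟩
  obtain ⟨C, ⟨n, rfl⟩, hC⟩ := Groth.L22.VeryGeneral.exists_subset sX h₁ hc₁
    (S := Set.range fun n => (⟨{x | ∀ b : closedPoints X, b.1 ∈ T₂ → R b x ∈ Z n}, by
      simp only [Set.setOf_forall]
      exact isClosed_iInter fun b => isClosed_iInter fun _ => (Z n).isClosed.preimage (R b).continuous⟩ : Closeds X))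
    (Set.countable_range _) fun a ha hac => by
      obtain ⟨n, hn⟩ := hone ⟨a, hac⟩ ha
      exact ⟨_, ⟨n, rfl⟩, fun b hb => (hLR ⟨a, hac⟩ b).symm ▸ hn b hb⟩
  refine ⟨⟨closure S, isClosed_closure⟩, ⟨?_, fun U V hU hV hSU hSV => ?_⟩, ⟨n, closure_minimal ?_ (Z n).isClosed⟩,
    fun a b ha hb => subset_closure ⟨a, b, ha, hb, rfl⟩⟩
  · obtain ⟨a, ha⟩ := nonempty_inter_closedPoints h₁.nonempty hc₁.isLocallyClosed
    obtain ⟨b, hb⟩ := nonempty_inter_closedPoints h₂.nonempty hc₂.isLocallyClosed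
    exact ⟨_, subset_closure ⟨⟨a, ha.2⟩, ⟨b, hb.2⟩, ha.1, hb.1, rfl⟩⟩
  · obtain ⟨z, hz, hzU⟩ := hSU
    obtain ⟨z', hz', hzV⟩ := hSV
    obtain ⟨_, hU', a₁, b₁, ha₁, hb₁, rfl⟩ := mem_closure_iff.1 hz U hU hzU
    obtain ⟨_, hV', a₂, b₂, ha₂, hb₂, rfl⟩ := mem_closure_iff.1 hz' V hV hzV
    have hopen : ∀ O : Set X, IsOpen O → IsOpen (⋃ b : {b : closedPoints X // b.1 ∈ T₂}, R b.1 ⁻¹' O) :=
      fun O hO => isOpen_iUnion fun b => hO.preimage (R b.1).continuous
    obtain ⟨x, hxT, hxU, hxV⟩ := h₁.2 _ _ (hopen U hU) (hopen V hV)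
      ⟨a₁.1, ha₁, Set.mem_iUnion.2 ⟨⟨b₁, hb₁⟩, by rw [Set.mem_preimage, ← hLR]; exact hU'⟩⟩
      ⟨a₂.1, ha₂, Set.mem_iUnion.2 ⟨⟨b₂, hb₂⟩, by rw [Set.mem_preimage, ← hLR]; exact hV'⟩⟩
    obtain ⟨a, ⟨haT, haU, haV⟩, hac⟩ := nonempty_inter_closedPoints (Z := T₁ ∩ ((⋃ b : {b : closedPoints X // b.1 ∈ T₂}, R b.1 ⁻¹' U) ∩
      ⋃ b : {b : closedPoints X // b.1 ∈ T₂}, R b.1 ⁻¹' V)) ⟨x, hxT, hxU, hxV⟩
      (hc₁.isLocallyClosed.inter ((hopen U hU).inter (hopen V hV)).isLocallyClosed)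
    obtain ⟨⟨c₁, hc₁'⟩, hu⟩ := Set.mem_iUnion.1 haU
    obtain ⟨⟨c₂, hc₂'⟩, hv⟩ := Set.mem_iUnion.1 haV
    let a' : closedPoints X := ⟨a, hac⟩
    obtain ⟨y, hyT, hyU, hyV⟩ := h₂.2 (L a' ⁻¹' U) (L a' ⁻¹' V) (hU.preimage (L a').continuous) (hV.preimage (L a').continuous)
      ⟨c₁.1, hc₁', by show L a' c₁.1 ∈ U; rw [hLR]; exact hu⟩
      ⟨c₂.1, hc₂', by show L a' c₂.1 ∈ V; rw [hLR]; exact hv⟩
    obtain ⟨b, ⟨hbT, hbU, hbV⟩, hbc⟩ := nonempty_inter_closedPoints (Z := T₂ ∩ (L a' ⁻¹' U ∩ L a' ⁻¹' V)) ⟨y, hyT, hyU, hyV⟩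
      (hc₂.isLocallyClosed.inter ((hU.preimage (L a').continuous).inter (hV.preimage (L a').continuous)).isLocallyClosed)
    exact ⟨L a' b, subset_closure ⟨a', ⟨b, hbc⟩, haT, hbT, rfl⟩, hbU, hbV⟩
  · rintro _ ⟨a, b, ha, hb, rfl⟩
    show L a b.1 ∈ Z n
    rw [hLR]
    exact hC ha b hb

section pts

variable {k : Type u} [Field k] [IsAlgClosed k] {A : Over (Spec (CommRingCat.of k))}

/-- The point under a rational point. -/
noncomputable def ptOf (x : 𝟙_ (Over (Spec (CommRingCat.of k))) ⟶ A) : A.left :=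
  x.left (IsLocalRing.closedPoint k)

omit [IsAlgClosed k] in
theorem range_eq (x : 𝟙_ (Over (Spec (CommRingCat.of k))) ⟶ A) : Set.range ⇑x.left.base = {ptOf x} := by
  refine Set.eq_singleton_iff_unique_mem.2 ⟨⟨_, rfl⟩, ?_⟩
  rintro _ ⟨z, rfl⟩
  exact congrArg x.left (Subsingleton.elim (α := PrimeSpectrum k) z _)

omit [IsAlgClosed k] in
theorem range_subset_iff (x : 𝟙_ (Over (Spec (CommRingCat.of k))) ⟶ A) (S : Set A.left) :
    Set.range ⇑x.left.base ⊆ S ↔ ptOf x ∈ S := by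
  rw [range_eq, Set.singleton_subset_iff]

variable [LocallyOfFiniteType A.hom]

theorem isClosed_ptOf (x : 𝟙_ (Over (Spec (CommRingCat.of k))) ⟶ A) : IsClosed ({ptOf x} : Set A.left) :=
  (pointEquivClosedPoint A.hom ⟨x.left, Over.w x⟩).2

theorem exists_ptOf {a : A.left} (ha : IsClosed ({a} : Set A.left)) :
    ∃ x : 𝟙_ (Over (Spec (CommRingCat.of k))) ⟶ A, ptOf x = a :=
  ⟨Over.homMk (pointOfClosedPoint A.hom a ha) (pointOfClosedPoint_comp A.hom a ha),
    pointOfClosedPoint_apply A.hom a ha _⟩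

/-- The rational point at a closed point. -/
noncomputable def pnt (a : closedPoints A.left) : 𝟙_ (Over (Spec (CommRingCat.of k))) ⟶ A :=
  (exists_ptOf (A := A) a.2).choose

theorem ptOf_pnt (a : closedPoints A.left) : ptOf (pnt a) = a.1 := (exists_ptOf (A := A) a.2).choose_spec

omit [IsAlgClosed k] [LocallyOfFiniteType A.hom] in
theorem ptOf_comp (x : 𝟙_ (Over (Spec (CommRingCat.of k))) ⟶ A) (f : A ⟶ A) :
    ptOf (x ≫ f) = f.left (ptOf x) := rfl

theorem pnt_ptOf (x : 𝟙_ (Over (Spec (CommRingCat.of k))) ⟶ A) : pnt ⟨ptOf x, isClosed_ptOf x⟩ = x := by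
  have h : ptOf (pnt ⟨ptOf x, isClosed_ptOf x⟩) = ptOf x := ptOf_pnt _
  exact Over.OverMorphism.ext (congrArg Subtype.val ((pointEquivClosedPoint A.hom).injective
    (a₁ := ⟨_, Over.w (pnt ⟨ptOf x, isClosed_ptOf x⟩)⟩) (a₂ := ⟨x.left, Over.w x⟩) (Subtype.ext h)))

variable [GrpObj A]

theorem main [Uncountable k] [CompactSpace A.left] (K : Subgroup (𝟙_ (Over (Spec (CommRingCat.of k))) ⟶ A))
    (Z : ℕ → TopologicalSpace.Closeds A.left)
    (hK : ∀ x : 𝟙_ (Over (Spec (CommRingCat.of k))) ⟶ A,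
      x ∈ K ↔ Set.range ⇑x.left.base ⊆ ⋃ n, (Z n : Set A.left)) :
    (∃! T : TopologicalSpace.Closeds A.left,
      Maximal (fun T : TopologicalSpace.Closeds A.left => IsIrreducible (T : Set A.left) ∧
        ∀ x : 𝟙_ (Over (Spec (CommRingCat.of k))) ⟶ A, Set.range ⇑x.left.base ⊆ (T : Set A.left) → x ∈ K) T ∧
      Set.range ⇑(1 : 𝟙_ (Over (Spec (CommRingCat.of k))) ⟶ A).left.base ⊆ (T : Set A.left)) ∧
    ∀ T : TopologicalSpace.Closeds A.left,
      Maximal (fun T : TopologicalSpace.Closeds A.left => IsIrreducible (T : Set A.left) ∧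
        ∀ x : 𝟙_ (Over (Spec (CommRingCat.of k))) ⟶ A, Set.range ⇑x.left.base ⊆ (T : Set A.left) → x ∈ K) T →
      Set.range ⇑(1 : 𝟙_ (Over (Spec (CommRingCat.of k))) ⟶ A).left.base ⊆ (T : Set A.left) →
      (∃ n, (T : Set A.left) ⊆ (Z n : Set A.left)) ∧
      ∀ x y : 𝟙_ (Over (Spec (CommRingCat.of k))) ⟶ A,
        Set.range ⇑x.left.base ⊆ (T : Set A.left) → Set.range ⇑y.left.base ⊆ (T : Set A.left) →
        Set.range ⇑(x * y⁻¹).left.base ⊆ (T : Set A.left) := by
  classical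
  simp only [range_subset_iff] at hK ⊢
  let o : A.left := ptOf (1 : 𝟙_ (Over (Spec (CommRingCat.of k))) ⟶ A)
  let P : TopologicalSpace.Closeds A.left → Prop := fun T => IsIrreducible (T : Set A.left) ∧
    ∀ x : 𝟙_ (Over (Spec (CommRingCat.of k))) ⟶ A, ptOf x ∈ (T : Set A.left) → x ∈ K
  haveI : JacobsonSpace A.left := LocallyOfFiniteType.jacobsonSpace A.hom
  have hZ : ∀ T, P T → ∃ n, (T : Set A.left) ⊆ Z n := fun T hT => by
    obtain ⟨C, ⟨n, rfl⟩, hC⟩ := Groth.L22.VeryGeneral.exists_subset A.hom hT.1 T.isClosed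
      (S := Set.range Z) (Set.countable_range _) fun a ha hac => by
        obtain ⟨x, rfl⟩ := exists_ptOf (A := A) hac
        obtain ⟨n, hn⟩ := Set.mem_iUnion.1 ((hK x).1 (hT.2 x ha))
        exact ⟨_, ⟨n, rfl⟩, hn⟩
    exact ⟨n, hC⟩
  have hP : ∀ T : TopologicalSpace.Closeds A.left, IsIrreducible (T : Set A.left) → (∃ n, (T : Set A.left) ⊆ Z n) → P T :=
    fun T hT ⟨n, hn⟩ => ⟨hT, fun x hx => (hK x).2 (Set.mem_iUnion.2 ⟨n, hn hx⟩)⟩
  -- a maximal admissible set through the origin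
  obtain ⟨T₀, hT₀, ho⟩ : ∃ T, Maximal P T ∧ o ∈ (T : Set A.left) := by
    letI : A.left.Over (Spec (CommRingCat.of k)) := ⟨A.hom⟩
    haveI : LocallyOfFiniteType (A.left ↘ Spec (CommRingCat.of k)) := ‹LocallyOfFiniteType A.hom›
    obtain ⟨N, hN⟩ := Groth.L22.VeryGeneral.exists_dim_le k A.left
    let D : Set ℕ := {d | ∃ T, P T ∧ o ∈ (T : Set A.left) ∧ topologicalKrullDim (T : Set A.left) = (d : WithBot ℕ∞)}
    have hdim : ∀ T : TopologicalSpace.Closeds A.left, IsIrreducible (T : Set A.left) →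
        ∃ d : ℕ, topologicalKrullDim (T : Set A.left) = (d : WithBot ℕ∞) ∧ d ≤ N := fun T hT => by
      obtain ⟨ξ, hξ⟩ := QuasiSober.sober hT T.isClosed
      obtain ⟨d, hd, -⟩ := Groth.L22.SchemeDim.exists_dim_closure_eq_trdeg k A.left ξ
      rw [hξ.def] at hd
      have h2 := hd ▸ (topologicalKrullDim_subspace_le A.left (T : Set A.left)).trans hN
      exact ⟨d, hd, by exact_mod_cast h2⟩
    let T₁ : TopologicalSpace.Closeds A.left := ⟨{o}, isClosed_ptOf _⟩
    have hne : D.Nonempty := by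
      obtain ⟨d, hd, -⟩ := hdim T₁ isIrreducible_singleton
      refine ⟨d, T₁, ⟨isIrreducible_singleton, fun x hx => ?_⟩, rfl, hd⟩
      have hx1 : x = 1 := by
        rw [← pnt_ptOf x, ← pnt_ptOf (1 : 𝟙_ (Over (Spec (CommRingCat.of k))) ⟶ A)]
        exact congrArg pnt (Subtype.ext hx)
      exact hx1 ▸ K.one_mem
    have hbdd : BddAbove D := ⟨N, fun d ⟨T, hT, _, hd⟩ => by
      obtain ⟨e, he, heN⟩ := hdim T hT.1
      have h2 : (d : WithBot ℕ∞) = e := hd.symm.trans he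
      have h3 : d = e := by exact_mod_cast h2
      omega⟩
    obtain ⟨T, hT, hoT, hd⟩ := Nat.sSup_mem hne hbdd
    refine ⟨T, ⟨hT, fun T' hT' hle => ?_⟩, hoT⟩
    by_contra hn
    obtain ⟨e, he, -⟩ := hdim T' hT'.1
    have h1 := Groth.L03.Euler.topologicalKrullDim_add_one_le T.isClosed hT'.1 hle
      fun h => hn (SetLike.coe_injective h).ge
    rw [hd, he] at h1
    have h2 : e ≤ sSup D := le_csSup hbdd ⟨T', hT', hle hoT, he⟩
    have h3 : sSup D + 1 ≤ e := by exact_mod_cast h1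
    omega
  -- products of admissible sets
  have key : ∀ T₁ T₂ : TopologicalSpace.Closeds A.left, P T₁ → P T₂ → ∀ (ε : Bool), ∃ T, P T ∧
      ∀ x y : 𝟙_ (Over (Spec (CommRingCat.of k))) ⟶ A, ptOf x ∈ (T₁ : Set A.left) → ptOf y ∈ (T₂ : Set A.left) →
        ptOf (if ε then x * y else x * y⁻¹) ∈ (T : Set A.left) := by
    intro T₁ T₂ hT₁ hT₂ ε
    let c : closedPoints A.left → (A ⟶ A) := fun a => CartesianMonoidalCategory.toUnit A ≫ pnt a
    have hc : ∀ (x : 𝟙_ (Over (Spec (CommRingCat.of k))) ⟶ A) (a : closedPoints A.left), x ≫ c a = pnt a := fun x a => by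
      show x ≫ CartesianMonoidalCategory.toUnit A ≫ pnt a = pnt a
      rw [← Category.assoc, CartesianMonoidalCategory.toUnit_unique (x ≫ CartesianMonoidalCategory.toUnit A) (𝟙 _),
        Category.id_comp]
    let L : closedPoints A.left → (A ⟶ A) := fun a => if ε then c a * 𝟙 A else c a * (𝟙 A)⁻¹
    let R : closedPoints A.left → (A ⟶ A) := fun b => if ε then 𝟙 A * c b else 𝟙 A * (c b)⁻¹
    have hL : ∀ (a : closedPoints A.left) (y : 𝟙_ (Over (Spec (CommRingCat.of k))) ⟶ A),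
        y ≫ L a = if ε then pnt a * y else pnt a * y⁻¹ := fun a y => by
      cases ε <;> simp [L, hc, MonObj.comp_mul, GrpObj.comp_inv]
    have hR : ∀ (b : closedPoints A.left) (x : 𝟙_ (Over (Spec (CommRingCat.of k))) ⟶ A),
        x ≫ R b = if ε then x * pnt b else x * (pnt b)⁻¹ := fun b x => by
      cases ε <;> simp [R, hc, MonObj.comp_mul, GrpObj.comp_inv]
    have hLp : ∀ a b : closedPoints A.left, (L a).left b.1 = ptOf (if ε then pnt a * pnt b else pnt a * (pnt b)⁻¹) :=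
      fun a b => by rw [← hL, ptOf_comp, ptOf_pnt]
    obtain ⟨T, hTi, hTZ, hTm⟩ := exists_irreducible A.hom hT₁.1 T₁.isClosed hT₂.1 T₂.isClosed
      (fun a => (L a).left) (fun b => (R b).left) (fun a b => by
        show (L a).left b.1 = (R b).left a.1
        rw [hLp, ← hR, ptOf_comp, ptOf_pnt]) Z fun a b ha hb => by
        show ∃ n, (L a).left b.1 ∈ Z n
        rw [hLp]
        refine Set.mem_iUnion.1 ((hK _).1 ?_)
        have h1 := hT₁.2 (pnt a) (by rw [ptOf_pnt]; exact ha)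
        have h2 := hT₂.2 (pnt b) (by rw [ptOf_pnt]; exact hb)
        split_ifs
        · exact K.mul_mem h1 h2
        · exact K.mul_mem h1 (K.inv_mem h2)
    refine ⟨T, hP T hTi hTZ, fun x y hx hy => ?_⟩
    have := hTm ⟨ptOf x, isClosed_ptOf x⟩ ⟨ptOf y, isClosed_ptOf y⟩ hx hy
    change (L _).left _ ∈ T at this
    rwa [hLp, pnt_ptOf, pnt_ptOf] at this
  have hsub : ∀ (T' : TopologicalSpace.Closeds A.left) (S : TopologicalSpace.Closeds A.left),
      (∀ x : 𝟙_ (Over (Spec (CommRingCat.of k))) ⟶ A, ptOf x ∈ (S : Set A.left) → ptOf x ∈ (T' : Set A.left)) → S ≤ T' :=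
    fun T' S h => by
    show (S : Set A.left) ⊆ T'
    rw [← closure_inter_closedPoints S.isClosed]
    refine closure_minimal (fun a ha => ?_) T'.isClosed
    obtain ⟨x, rfl⟩ := exists_ptOf (A := A) ha.2
    exact h x ha.1
  refine ⟨⟨T₀, ⟨hT₀, ho⟩, fun T ⟨hT, hoT⟩ => ?_⟩, fun T hT hoT => ⟨hZ T hT.1, fun x y hx hy => ?_⟩⟩
  · obtain ⟨T', hT', h⟩ := key T T₀ hT.1 hT₀.1 true
    have h1 : T ≤ T' := hsub T' T fun x hx => by simpa using h x 1 hx ho
    have h2 : T₀ ≤ T' := hsub T' T₀ fun y hy => by simpa using h 1 y hoT hy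
    exact (le_antisymm h1 (hT.2 hT' h1)).trans (le_antisymm (hT₀.2 hT' h2) h2)
  · obtain ⟨T', hT', h⟩ := key T T hT.1 hT.1 false
    have h1 : T ≤ T' := hsub T' T fun z hz => by simpa using h z 1 hz hoT
    exact hT.2 hT' h1 (by simpa using h x y hx hy)

end pts


/-- Let k be an uncountable algebraically closed field, A an abelian variety over k (a proper,
geometrically integral group scheme over k) and K a subgroup of the group of k-points of A (sections
of A over Spec k, a group through the group structure of A) which is the trace of a countable union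
of closed subsets: a k-point belongs to K exactly when its image point lies in some Zₙ. Call an
irreducible closed subset T of A admissible when every k-point whose image lies in T belongs to K.
Then there is exactly one maximal admissible T containing the image of the neutral element; that T
is contained in some Zₙ, and the k-points landing in T are closed under x, y ↦ x·y⁻¹, so that T is a
closed irreducible subgroup variety of A lying in one of the Zₙ. (The published statement says that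
the irredundant decomposition of K has a unique component through 0 and that it is an abelian
subvariety; the maximal admissible subsets are exactly the components of that decomposition, each of
which lies in some Zₙ, and this containment is the part of the conclusion that uses the
uncountability of k.) -/
theorem result (k : Type u)
    [Field k] [IsAlgClosed k] [Uncountable k] (A : Over (Spec (CommRingCat.of k))) [GrpObj A]
    [IsProper A.hom] [GeometricallyIntegral A.hom]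
    (K : Subgroup (𝟙_ (Over (Spec (CommRingCat.of k))) ⟶ A))
    (Z : ℕ → TopologicalSpace.Closeds ↥A.left)
    (hK : ∀ x : 𝟙_ (Over (Spec (CommRingCat.of k))) ⟶ A,
      x ∈ K ↔ Set.range ⇑x.left.base ⊆ ⋃ n, (Z n : Set ↥A.left)) :
    (∃! T : TopologicalSpace.Closeds ↥A.left,
      Maximal (fun T : TopologicalSpace.Closeds ↥A.left => IsIrreducible (T : Set ↥A.left) ∧
        ∀ x : 𝟙_ (Over (Spec (CommRingCat.of k))) ⟶ A, Set.range ⇑x.left.base ⊆ (T : Set ↥A.left) → x ∈ K) T ∧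
      Set.range ⇑(1 : 𝟙_ (Over (Spec (CommRingCat.of k))) ⟶ A).left.base ⊆ (T : Set ↥A.left)) ∧
    ∀ T : TopologicalSpace.Closeds ↥A.left,
      Maximal (fun T : TopologicalSpace.Closeds ↥A.left => IsIrreducible (T : Set ↥A.left) ∧
        ∀ x : 𝟙_ (Over (Spec (CommRingCat.of k))) ⟶ A, Set.range ⇑x.left.base ⊆ (T : Set ↥A.left) → x ∈ K) T →
      Set.range ⇑(1 : 𝟙_ (Over (Spec (CommRingCat.of k))) ⟶ A).left.base ⊆ (T : Set ↥A.left) →
      (∃ n, (T : Set ↥A.left) ⊆ (Z n : Set ↥A.left)) ∧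
      ∀ x y : 𝟙_ (Over (Spec (CommRingCat.of k))) ⟶ A,
        Set.range ⇑x.left.base ⊆ (T : Set ↥A.left) → Set.range ⇑y.left.base ⊆ (T : Set ↥A.left) →
        Set.range ⇑(x * y⁻¹).left.base ⊆ (T : Set ↥A.left) := by
  haveI : CompactSpace A.left := QuasiCompact.compactSpace_of_compactSpace A.hom
  exact main K Z hK

end Groth.Agent.S16918
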