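import Groth.Statements.S16919
import Mathlib.FieldTheory.IsAlgClosed.Classification
import Mathlib.RingTheory.AlgebraicIndependent.TranscendenceBasis
import Mathlib.RingTheory.AlgebraicIndependent.Transcendental
import Mathlib.RingTheory.Localization.FractionRing
import Mathlib.RingTheory.Localization.Integral
import Mathlib.RingTheory.FiniteType
import Mathlib.RingTheory.FiniteStability
import Mathlib.RingTheory.TensorProduct.Maps

set_option autoImplicit false
universe u
open TensorProduct
open CAlg

namespace Groth.Agent.S16919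

/-- Let k₀ → k be an extension of fields with k algebraically closed and of infinite transcendence
degree over k₀, R₀ a finitely generated k₀-algebra whose base change R = k ⊗ R₀ is an integral
domain (so Spec R is an integral affine k-scheme of finite type with the model Spec R₀ over k₀), and
P a k-point of Spec R, i.e. a k-algebra homomorphism ev : R → k, lying over the generic point of
Spec R₀, i.e. with ev injective on R₀. Then there is a field isomorphism e from an algebraic closure
of the fraction field of R (the function field of Spec R) onto k such that e(1 ⊗ r) = ev(1 ⊗ r) for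
every r in R₀: e extends evaluation at P on R₀. (The published setting has k algebraically closed of
characteristic zero and of infinite transcendence degree over its prime field, and k₀ the subfield
generated by the coefficients of equations of Spec R, which is finitely generated over the prime
field, so that k has infinite transcendence degree over k₀; only this last property and no
characteristic assumption enter here. The isomorphism is not canonical.) -/
theorem result (k₀ k : Type u)
    [Field k₀] [Field k] [Algebra k₀ k] [IsAlgClosed k] (hinf : ∃ x : ℕ → k, AlgebraicIndependent k₀ x)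
    (R₀ : Type u) [CommRing R₀] [Algebra k₀ R₀] [Algebra.FiniteType k₀ R₀] [IsDomain (k ⊗[k₀] R₀)]
    (ev : k ⊗[k₀] R₀ →ₐ[k] k) (hP : Function.Injective fun r : R₀ => ev (1 ⊗ₜ[k₀] r)) :
    ∃ e : AlgebraicClosure (FractionRing (k ⊗[k₀] R₀)) ≃+* k,
      ∀ r : R₀, e (algebraMap (k ⊗[k₀] R₀) (AlgebraicClosure (FractionRing (k ⊗[k₀] R₀)))
        (1 ⊗ₜ[k₀] r)) = ev (1 ⊗ₜ[k₀] r) := by
  classical
  let incl : R₀ →ₐ[k₀] k ⊗[k₀] R₀ := Algebra.TensorProduct.includeRight
  let φ : R₀ →ₐ[k₀] k := (ev.restrictScalars k₀).comp incl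
  have hφ : Function.Injective φ := hP
  have hincl : Function.Injective incl := Function.Injective.of_comp (f := ev) hφ
  haveI : IsDomain R₀ := hφ.isDomain φ.toRingHom
  have hRF : Function.Injective (algebraMap (k ⊗[k₀] R₀) (FractionRing (k ⊗[k₀] R₀))) := IsFractionRing.injective _ _
  have hFE : Function.Injective (algebraMap (FractionRing (k ⊗[k₀] R₀)) (AlgebraicClosure (FractionRing (k ⊗[k₀] R₀)))) :=
    RingHom.injective _
  have hRE : Function.Injective (algebraMap (k ⊗[k₀] R₀) (AlgebraicClosure (FractionRing (k ⊗[k₀] R₀)))) := by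
    rw [IsScalarTower.algebraMap_eq (k ⊗[k₀] R₀) (FractionRing (k ⊗[k₀] R₀))]
    exact hFE.comp hRF
  have hκ : Cardinal.aleph0 ≤ Algebra.trdeg k₀ k := by
    obtain ⟨x, hx⟩ := hinf
    simpa using hx.lift_cardinalMk_le_trdeg
  suffices key : ∀ (E : Type u) [Field E] [IsAlgClosed E] [Algebra k₀ E] (ψ : R₀ →ₐ[k₀] E),
      Function.Injective ψ → Algebra.trdeg k₀ E = Algebra.trdeg k₀ k → ∃ e : E ≃+* k, ∀ r, e (ψ r) = φ r by
    let ψ : R₀ →ₐ[k₀] AlgebraicClosure (FractionRing (k ⊗[k₀] R₀)) :=
      (IsScalarTower.toAlgHom k₀ (k ⊗[k₀] R₀) _).comp incl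
    refine key _ ψ (hRE.comp hincl) ?_
    haveI : FaithfulSMul k (k ⊗[k₀] R₀) := (faithfulSMul_iff_algebraMap_injective _ _).mpr (RingHom.injective _)
    haveI : FaithfulSMul (k ⊗[k₀] R₀) (AlgebraicClosure (FractionRing (k ⊗[k₀] R₀))) :=
      (faithfulSMul_iff_algebraMap_injective _ _).mpr hRE
    haveI : Algebra.IsAlgebraic (k ⊗[k₀] R₀) (AlgebraicClosure (FractionRing (k ⊗[k₀] R₀))) :=
      (IsFractionRing.comap_isAlgebraic_iff (A := k ⊗[k₀] R₀) (K := FractionRing (k ⊗[k₀] R₀))).2 inferInstance
    haveI : FaithfulSMul k (AlgebraicClosure (FractionRing (k ⊗[k₀] R₀))) :=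
      (faithfulSMul_iff_algebraMap_injective _ _).mpr (RingHom.injective _)
    rw [← trdeg_add_eq k₀ k (A := AlgebraicClosure (FractionRing (k ⊗[k₀] R₀)))]
    refine Cardinal.add_eq_left hκ (le_trans (le_of_lt ?_) hκ)
    rw [← trdeg_add_eq k (k ⊗[k₀] R₀) (A := AlgebraicClosure (FractionRing (k ⊗[k₀] R₀))),
      trdeg_eq_zero (R := k ⊗[k₀] R₀) (A := AlgebraicClosure (FractionRing (k ⊗[k₀] R₀))), add_zero]
    exact trdeg_lt_aleph0_of_finiteType
  intro E _ _ _ ψ hψ hE0
  letI : Algebra R₀ k := φ.toRingHom.toAlgebra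
  letI : Algebra R₀ E := ψ.toRingHom.toAlgebra
  haveI : IsScalarTower k₀ R₀ k := IsScalarTower.of_algebraMap_eq fun x => (φ.commutes x).symm
  haveI : IsScalarTower k₀ R₀ E := IsScalarTower.of_algebraMap_eq fun x => (ψ.commutes x).symm
  haveI : FaithfulSMul R₀ k := (faithfulSMul_iff_algebraMap_injective _ _).mpr hφ
  haveI : FaithfulSMul R₀ E := (faithfulSMul_iff_algebraMap_injective _ _).mpr hψ
  let L := FractionRing R₀
  letI : Algebra L k := FractionRing.liftAlgebra R₀ k
  letI : Algebra L E := FractionRing.liftAlgebra R₀ E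
  haveI : IsScalarTower R₀ L k := FractionRing.isScalarTower_liftAlgebra R₀ k
  haveI : IsScalarTower R₀ L E := FractionRing.isScalarTower_liftAlgebra R₀ E
  haveI : IsScalarTower k₀ L k := IsScalarTower.of_algebraMap_eq fun x => by
    rw [IsScalarTower.algebraMap_apply k₀ R₀ L, ← IsScalarTower.algebraMap_apply R₀ L k, ← IsScalarTower.algebraMap_apply]
  haveI : IsScalarTower k₀ L E := IsScalarTower.of_algebraMap_eq fun x => by
    rw [IsScalarTower.algebraMap_apply k₀ R₀ L, ← IsScalarTower.algebraMap_apply R₀ L E, ← IsScalarTower.algebraMap_apply]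
  have hfin0 : Algebra.trdeg k₀ L < Cardinal.aleph0 := by
    rw [← trdeg_add_eq k₀ R₀ (A := L)]
    haveI : Algebra.IsAlgebraic R₀ L :=
      ⟨fun z => (IsFractionRing.isAlgebraic_iff R₀ L L).mpr (isAlgebraic_algebraMap (R := L) z)⟩
    rw [trdeg_eq_zero (R := R₀) (A := L), add_zero]
    exact trdeg_lt_aleph0_of_finiteType
  have hk : Algebra.trdeg L k = Algebra.trdeg k₀ k := Cardinal.eq_of_add_eq_of_aleph0_le (trdeg_add_eq k₀ L (A := k))
    (hfin0.trans_le hκ) hκ
  have hE : Algebra.trdeg L E = Algebra.trdeg k₀ k := Cardinal.eq_of_add_eq_of_aleph0_le ((trdeg_add_eq k₀ L (A := E)).trans hE0)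
    (hfin0.trans_le hκ) hκ
  obtain ⟨ι, v, hv⟩ := exists_isTranscendenceBasis' L E
  obtain ⟨ι', w, hw⟩ := exists_isTranscendenceBasis' L k
  have hcard : Cardinal.mk ι = Cardinal.mk ι' := by
    rw [hv.cardinalMk_eq_trdeg, hw.cardinalMk_eq_trdeg, hE, hk]
  obtain ⟨eι⟩ := Cardinal.eq.mp hcard
  letI := IsAlgClosed.isAlgClosure_of_transcendence_basis v hv
  letI := IsAlgClosed.isAlgClosure_of_transcendence_basis w hw
  let e0 : Algebra.adjoin L (Set.range v) ≃ₐ[L] Algebra.adjoin L (Set.range w) :=
    hv.1.aevalEquiv.symm.trans ((MvPolynomial.renameEquiv L eι).trans hw.1.aevalEquiv)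
  refine ⟨IsAlgClosure.equivOfEquiv E k e0.toRingEquiv, fun r => ?_⟩
  show IsAlgClosure.equivOfEquiv E k e0.toRingEquiv (algebraMap R₀ E r) = algebraMap R₀ k r
  rw [IsScalarTower.algebraMap_apply R₀ L E, IsScalarTower.algebraMap_apply L (Algebra.adjoin L (Set.range v)) E,
    IsAlgClosure.equivOfEquiv_algebraMap]
  show algebraMap _ k (e0 (algebraMap L _ (algebraMap R₀ L r))) = _
  rw [e0.commutes, ← IsScalarTower.algebraMap_apply, ← IsScalarTower.algebraMap_apply]

end Groth.Agent.S16919
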