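import Groth.Statements.S1692
import Mathlib.AlgebraicGeometry.OrderOfVanishing
import Mathlib.RingTheory.Ideal.MinimalPrime.Noetherian

set_option autoImplicit false
universe u
open CategoryTheory CategoryTheory.Limits AlgebraicGeometry TopologicalSpace
open SDiv

namespace Groth.Agent.S1692

/-- Let X be a locally Noetherian integral scheme and f a nonzero rational function. Then the closures
of the codimension-one points at which f has nonzero order of vanishing form a locally finite family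
of closed subsets of X. -/
theorem result (X : Scheme.{u}) [IsIntegral X] [IsLocallyNoetherian X] (f : ↑X.functionField) (hf : f ≠ 0) :
    LocallyFinite (fun ξ : {ξ : ↥X // Order.coheight ξ = 1 ∧ Scheme.ord f ξ ≠ 0} => closure ({ξ.1} : Set ↥X)) := by
  classical
  intro x
  obtain ⟨_, ⟨W, hW, rfl⟩, hxW, -⟩ :=
    X.isBasis_affineOpens.exists_subset_of_mem_open (Set.mem_univ x) isOpen_univ
  replace hW : IsAffineOpen W := hW
  change x ∈ W at hxW
  haveI : Nonempty W := ⟨⟨x, hxW⟩⟩
  haveI := functionField_isFractionRing_of_isAffineOpen X W hW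
  haveI : IsNoetherianRing Γ(X, W) := IsLocallyNoetherian.component_noetherian ⟨W, hW⟩
  obtain ⟨a, b, hb, hab⟩ := IsFractionRing.div_surjective (A := Γ(X, W)) f
  have hb0 : b ≠ 0 := nonZeroDivisors.ne_zero hb
  have hbK : X.germToFunctionField W b ≠ 0 := fun h =>
    hb0 (Scheme.germToFunctionField_injective X W (h.trans (map_zero _).symm))
  have ha : X.germToFunctionField W a = f * X.germToFunctionField W b :=
    (div_eq_iff hbK).1 hab
  have ha0 : a ≠ 0 := fun h => hf (by
    rw [h, map_zero] at ha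
    exact (mul_eq_zero.1 ha.symm).resolve_right hbK)
  refine ⟨(W : Set X), W.2.mem_nhds hxW, ?_⟩
  have hfin : (Ideal.span ({a * b} : Set Γ(X, W))).minimalPrimes.Finite := Ideal.finite_minimalPrimes_of_isNoetherianRing _ _
  refine Set.Finite.of_finite_image (f := fun ξ => ξ.1) (Set.Finite.subset
    ((hfin.preimage (f := fun q : Spec Γ(X, W) => q.asIdeal) fun p _ q _ h => PrimeSpectrum.ext h).image hW.fromSpec) ?_)
    Subtype.val_injective.injOn
  rintro _ ⟨⟨ξ, hξ, hord⟩, hmeet, rfl⟩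
  obtain ⟨z, hz1, hz2⟩ := hmeet
  have hξW : ξ ∈ W := (specializes_iff_mem_closure.2 hz1).mem_open W.2 hz2
  have hmem : a * b ∈ (hW.primeIdealOf ⟨ξ, hξW⟩).asIdeal := by
    by_contra hnm
    apply hord
    let W' : X.Opens := X.basicOpen (a * b)
    have hξW' : ξ ∈ W' := by
      show (⟨ξ, hξW⟩ : W).1 ∈ W'
      rw [← hW.fromSpec_primeIdealOf ⟨ξ, hξW⟩]
      show hW.primeIdealOf ⟨ξ, hξW⟩ ∈ hW.fromSpec ⁻¹ᵁ X.basicOpen (a * b)
      rw [hW.fromSpec_preimage_basicOpen]
      exact hnm
    haveI : Nonempty W' := ⟨⟨ξ, hξW'⟩⟩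
    let r := X.presheaf.map (homOfLE (X.basicOpen_le (a * b))).op
    have hu : IsUnit (r (a * b)) := RingedSpace.isUnit_res_basicOpen _ _
    rw [map_mul] at hu
    have hres : ∀ c, X.germToFunctionField W' (r c) = X.germToFunctionField W c := fun c =>
      TopCat.Presheaf.germ_res_apply X.presheaf (homOfLE (X.basicOpen_le (a * b))) _ _ c
    have h1 := Scheme.ord_of_isUnit (isUnit_of_mul_isUnit_left hu) hξW'
    have h2 := Scheme.ord_of_isUnit (isUnit_of_mul_isUnit_right hu) hξW'
    rw [hres, ha, Scheme.ord_mul hf hbK] at h1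
    rw [hres] at h2
    omega
  refine ⟨hW.primeIdealOf ⟨ξ, hξW⟩, ?_, hW.fromSpec_primeIdealOf ⟨ξ, hξW⟩⟩
  obtain ⟨q, hq, hqle⟩ := Ideal.exists_minimalPrimes_le ((Ideal.span_singleton_le_iff_mem _).2 hmem)
  rw [Set.mem_preimage]
  suffices q = (hW.primeIdealOf ⟨ξ, hξW⟩).asIdeal by rwa [← this]
  by_contra hne
  let q' : Spec Γ(X, W) := ⟨q, hq.isPrime⟩
  let g : Spec Γ(X, W) := ⟨⊥, Ideal.isPrime_bot⟩
  have hq0 : q ≠ ⊥ := fun h => mul_ne_zero ha0 hb0
    (by simpa [h] using hq.le (Ideal.mem_span_singleton_self (a * b)))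
  have hlt : ∀ p p' : Spec Γ(X, W), p.asIdeal ≤ p'.asIdeal → p.asIdeal ≠ p'.asIdeal →
      hW.fromSpec p' < hW.fromSpec p := by
    intro p p' h1 h2
    have hs : hW.fromSpec p ⤳ hW.fromSpec p' :=
      ((PrimeSpectrum.le_iff_specializes p p').1 h1).map hW.fromSpec.continuous
    refine lt_of_le_not_ge hs fun hs' => h2 ?_
    exact congrArg PrimeSpectrum.asIdeal (hW.fromSpec.isOpenEmbedding.injective (hs.antisymm hs').eq)
  have h1 : (hW.fromSpec q') < hW.fromSpec g := hlt g q' bot_le (fun h => hq0 h.symm)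
  have h2 : ξ < hW.fromSpec q' := by
    have h := hlt q' (hW.primeIdealOf ⟨ξ, hξW⟩) hqle hne
    rw [hW.fromSpec_primeIdealOf ⟨ξ, hξW⟩] at h
    exact h
  have h3 := (add_le_add (Order.coheight_add_one_le h1) (le_refl (1 : ℕ∞))).trans (Order.coheight_add_one_le h2)
  rw [hξ] at h3
  have h4 : (2 : ℕ∞) ≤ 1 := le_trans (by simp [add_assoc, one_add_one_eq_two]) h3
  exact absurd h4 (by simp)

end Groth.Agent.S1692
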