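
import Groth.Statements.S1693
import Mathlib.AlgebraicGeometry.Noetherian

set_option autoImplicit false
universe u
open CategoryTheory CategoryTheory.Limits AlgebraicGeometry TopologicalSpace
open SDiv

namespace Groth.Agent.S1693

/-- Let X be a locally Noetherian scheme and Z a closed subset. Then the irreducible components of Z
form a locally finite family of subsets of X. -/
theorem result (X : Scheme.{u}) [IsLocallyNoetherian X] (Z : Set ↥X) (hZ : IsClosed Z) :
    LocallyFinite (fun T : ↥(irreducibleComponents ↥Z) => ((↑) '' (T.1 : Set ↥Z) : Set ↥X)) := by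
  intro x
  obtain ⟨_, ⟨V, hV, rfl⟩, hxV, -⟩ :=
    X.isBasis_affineOpens.exists_subset_of_mem_open (Set.mem_univ x) isOpen_univ
  refine ⟨V, V.2.mem_nhds hxV, ?_⟩
  haveI : IsNoetherianRing Γ(X, V) := IsLocallyNoetherian.component_noetherian ⟨V, hV⟩
  haveI hVn : NoetherianSpace ↥(V : Set X) := noetherianSpace_of_isAffineOpen V hV
  let W : Set ↥Z := Subtype.val ⁻¹' (V : Set X)
  let g : W → ↥(V : Set X) := fun w => ⟨w.1.1, w.2⟩
  have hgc : Continuous g := Continuous.subtype_mk (by fun_prop) _
  have hcomp : Topology.IsInducing ((Subtype.val : ↥(V : Set X) → X) ∘ g) :=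
    (Topology.IsInducing.subtypeVal : Topology.IsInducing (Subtype.val : ↥Z → X)).comp
      (Topology.IsInducing.subtypeVal : Topology.IsInducing (Subtype.val : ↥W → ↥Z))
  haveI : NoetherianSpace W :=
    (Topology.IsInducing.of_comp hgc continuous_subtype_val hcomp).noetherianSpace
  have hW : IsOpen W := V.2.preimage continuous_subtype_val
  refine Set.Finite.subset (Set.Finite.preimage Subtype.val_injective.injOn
    ((NoetherianSpace.finite_irreducibleComponents (α := W)).image
      fun C => closure (Subtype.val '' C : Set ↥Z))) ?_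
  rintro ⟨T, hT⟩ ⟨_, ⟨z, hz, rfl⟩, hzV⟩
  have hirr : IsPreirreducible (Subtype.val ⁻¹' T : Set W) :=
    hT.1.isPreirreducible.preimage hW.isOpenEmbedding_subtypeVal
  obtain ⟨C, hC, hsub⟩ := exists_mem_irreducibleComponents_subset_of_isIrreducible _
    (⟨⟨⟨z, hzV⟩, hz⟩, hirr⟩ : IsIrreducible (Subtype.val ⁻¹' T : Set W))
  refine ⟨C, hC, ?_⟩
  have hTle : T ⊆ closure (Subtype.val '' C : Set ↥Z) := by
    refine (subset_closure_inter_of_isPreirreducible_of_isOpen hT.1.isPreirreducible hW
      ⟨z, hz, hzV⟩).trans (closure_mono ?_)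
    rintro w ⟨hwT, hwW⟩
    exact ⟨⟨w, hwW⟩, hsub hwT, rfl⟩
  exact le_antisymm
    (hT.2 ((hC.1.image _ continuous_subtype_val.continuousOn).closure) hTle) hTle

end Groth.Agent.S1693
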