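import Groth.Statements.S16951
import Groth.Agent.L20.DescLocus.FibTriv

set_option autoImplicit false
universe u
open PicF

set_option backward.isDefEq.respectTransparency.types false
namespace Groth.Agent.S16951

open AlgebraicGeometry CategoryTheory Scheme.Modules in
/-- Let f : X → S be a proper flat morphism of locally Noetherian schemes whose fibres are geometrically
integral, and let L be an invertible O_X-module with an inverse M (an isomorphism L ⊗ M ≅ O_X). Then
the following are equivalent: (a) L ≅ f^* L₀ for some invertible O_S-module L₀; (b) for N = L and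
for N = M, at every point s of S the space H^0(X_s, N|_{X_s}) of sections over the scheme-theoretic
fibre is nonzero and the degree-0 base change map of the fibre square, κ(s)^* f_* N → (X_s → Spec
κ(s))_* (N|_{X_s}), is an epimorphism. When this holds, dim_{κ(s)} H^0(X_s, N|_{X_s}) = 1 for every
s and both N, the counit f^* f_* L → L is an isomorphism, and any invertible L₀ with L ≅ f^* L₀ is
isomorphic to f_* L. -/
theorem result
    {X S : Scheme.{u}} (f : X ⟶ S) [IsProper f] [Flat f] [IsLocallyNoetherian X] [IsLocallyNoetherian S]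
    [GeometricallyIntegral f] (L M : X.Modules) (hL : PicF.IsInvertible L)
    (hM : Nonempty (CohB1.tensorMod L M ≅ Coh.structureModule X)) :
    ((∃ L₀ : S.Modules, PicF.IsInvertible L₀ ∧ Nonempty (L ≅ (pullback f).obj L₀)) ↔
      ((∀ s : S, Nontrivial (CohIII.fiberH f L s 0)) ∧ (∀ s : S, Nontrivial (CohIII.fiberH f M s 0)) ∧
        (∀ s : S, Epi (CohBC.bc0 f (S.fromSpecResidueField s) (f.fiberToSpecResidueField s) (f.fiberι s) (f.fiber_fac s) L)) ∧ (∀ s : S, Epi (CohBC.bc0 f (S.fromSpecResidueField s) (f.fiberToSpecResidueField s) (f.fiberι s) (f.fiber_fac s) M)))) ∧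
    (((∀ s : S, Nontrivial (CohIII.fiberH f L s 0)) ∧ (∀ s : S, Nontrivial (CohIII.fiberH f M s 0)) ∧
        (∀ s : S, Epi (CohBC.bc0 f (S.fromSpecResidueField s) (f.fiberToSpecResidueField s) (f.fiberι s) (f.fiber_fac s) L)) ∧ (∀ s : S, Epi (CohBC.bc0 f (S.fromSpecResidueField s) (f.fiberToSpecResidueField s) (f.fiberι s) (f.fiber_fac s) M))) →
      (∀ s : S, CohIII.fiberRank f L 0 s = 1 ∧ CohIII.fiberRank f M 0 s = 1) ∧
      IsIso ((pullbackPushforwardAdjunction f).counit.app L) ∧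
      ∀ L₀ : S.Modules, PicF.IsInvertible L₀ → Nonempty (L ≅ (pullback f).obj L₀) →
        Nonempty (L₀ ≅ (pushforward f).obj L)) := by
  open Groth.L20.FibTriv in
  haveI : LocallyOfFinitePresentation f := LocallyOfFinitePresentation.iff_locallyOfFiniteType.2 inferInstance
  haveI := Groth.L20.PicSep.geometricallyConnected f
  obtain ⟨ε⟩ := hM
  obtain ⟨N, hN, ⟨ν⟩⟩ := Groth.L08.Cube.exists_inverse hL
  let eMN : M ≅ N :=
    (Groth.L00.Tensor.tensorUnitLeft M).symm ≪≫
      Groth.L00.Tensor.tensorIso (ν.symm ≪≫ Groth.L00.Tensor.tensorComm L N) (Iso.refl M) ≪≫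
      Groth.L00.Tensor.tensorAssoc N L M ≪≫ Groth.L00.Tensor.tensorIso (Iso.refl N) ε ≪≫
      Groth.L00.Tensor.tensorComm _ _ ≪≫ Groth.L00.Tensor.tensorUnitLeft N
  have hM' : PicF.IsInvertible M := Groth.L18.Ample.isInvertible_of_iso eMN.symm hN
  have hO := Groth.L20.DescLocus.isIso_app f
  have hq : ∀ (s : S) (U : (Spec (S.residueField s)).Opens), IsIso ((f.fiberToSpecResidueField s).app U) :=
    fun s U => Groth.L20.DescLocus.isIso_app_baseChange f _ (S.fromSpecResidueField s) U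
  have fwd : ∀ (K : X.Modules) (K₀ : S.Modules), PicF.IsInvertible K₀ → (K ≅ (pullback f).obj K₀) →
      (∀ s : S, Nontrivial (CohIII.fiberH f K s 0)) ∧
        ∀ s : S, Epi (CohBC.bc0 f (S.fromSpecResidueField s) (f.fiberToSpecResidueField s) (f.fiberι s) (f.fiber_fac s) K) := by
    intro K K₀ hK₀ e
    refine ⟨fun s => ?_, fun s => ?_⟩
    · obtain ⟨θ⟩ := trivial_fibre_of_pullback f hK₀ e s
      have h := Groth.L08.Cube.fiberRank_of_trivial f K s θ
      by_contra hc
      rw [not_nontrivial_iff_subsingleton] at hc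
      haveI := hc
      have h0 : CohIII.fiberRank f K 0 s = 0 := Module.finrank_zero_of_subsingleton
      omega
    · haveI := isIso_bc0_of_pullback f hO (S.fromSpecResidueField s) (f.fiberToSpecResidueField s) (f.fiberι s)
        (f.fiber_fac s) (hq s) (Groth.L16.Existence.isFinLocFree_of_isInvertible hK₀) e
      infer_instance
  have triv : ∀ s : S, Nontrivial (CohIII.fiberH f L s 0) → Nontrivial (CohIII.fiberH f M s 0) →
      Nonempty (CohIII.fiberMod f L s ≅ Coh.structureModule (f.fiber s)) ∧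
      Nonempty (CohIII.fiberMod f M s ≅ Coh.structureModule (f.fiber s)) := by
    intro s h₁ h₂
    have pos : ∀ K : X.Modules, PicF.IsInvertible K → Nontrivial (CohIII.fiberH f K s 0) →
        ¬ CohIII.fiberRank f K 0 s < 1 := fun K hK h hlt => by
      haveI := Groth.L21.Extend.isQCoh_of_isInvertible hK
      exact not_subsingleton _ ((Groth.L17.BC.subsingleton_iff_fiberRank_eq_zero f K
        (Groth.L18.LFP.isFP_of_isFinLocFree K (Groth.L16.Existence.isFinLocFree_of_isInvertible hK))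
        (Groth.L29.DC.RelTor.isFlatOver_of_isFlat f (Groth.L21.RR.isFlat_of_isInvertible hK)) s 0).2 (Nat.lt_one_iff.1 hlt))
    exact ⟨trivial_of_sections f hL hM' ε s (pos L hL h₁) (pos M hM' h₂),
      trivial_of_sections f hM' hL (Groth.L00.Tensor.tensorComm M L ≪≫ ε) s (pos M hM' h₂) (pos L hL h₁)⟩
  refine ⟨⟨?_, ?_⟩, ?_⟩
  · rintro ⟨L₀, hL₀, ⟨e⟩⟩
    obtain ⟨N₀, hN₀, ⟨ν₀⟩⟩ := Groth.L08.Cube.exists_inverse hL₀
    let e' : CohB1.tensorMod L ((pullback f).obj N₀) ≅ Coh.structureModule X :=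
      Groth.L00.Tensor.tensorIso e (Iso.refl _) ≪≫ Groth.L29.DC.PullTensor.pullTensor f L₀ N₀ ≪≫
        (pullback f).mapIso ν₀ ≪≫ Groth.L29.LocFree.pullbackUnitIso f
    obtain ⟨eM⟩ := Groth.Agent.AbDualLib.nonempty_iso_of_tensor hM' (Groth.L18.Ample.isInvertible_pullback f hN₀) hL
      (Groth.L00.Tensor.tensorComm M L ≪≫ ε ≪≫ e'.symm ≪≫ Groth.L00.Tensor.tensorComm _ _)
    exact ⟨(fwd L L₀ hL₀ e).1, (fwd M N₀ hN₀ eM).1, (fwd L L₀ hL₀ e).2, (fwd M N₀ hN₀ eM).2⟩
  · rintro ⟨h₁, h₂, h₃, -⟩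
    obtain ⟨hinv, hiso⟩ := desc_of_fibres f hL (fun s => (triv s (h₁ s) (h₂ s)).1) h₃
    haveI := hiso
    exact ⟨_, hinv, ⟨(asIso ((pullbackPushforwardAdjunction f).counit.app L)).symm⟩⟩
  · rintro ⟨h₁, h₂, h₃, -⟩
    refine ⟨fun s => ⟨Groth.L08.Cube.fiberRank_of_trivial f L s (triv s (h₁ s) (h₂ s)).1.some,
      Groth.L08.Cube.fiberRank_of_trivial f M s (triv s (h₁ s) (h₂ s)).2.some⟩,
      (desc_of_fibres f hL (fun s => (triv s (h₁ s) (h₂ s)).1) h₃).2, fun L₀ hL₀ he => ?_⟩
    haveI := Groth.L20.DescLocus.isIso_unit_of_isFinLocFree f hO (Groth.L16.Existence.isFinLocFree_of_isInvertible hL₀)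
    exact ⟨asIso ((pullbackPushforwardAdjunction f).unit.app L₀) ≪≫ (pushforward f).mapIso he.some.symm⟩

end Groth.Agent.S16951
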