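import Groth.Statements.S1696
import Groth.Agent.L00.PullStalk
import Mathlib.RingTheory.Flat.Basic
import Mathlib.AlgebraicGeometry.IdealSheaf.Functorial
set_option linter.style.haveILetI false
set_option backward.isDefEq.respectTransparency false


set_option autoImplicit false
universe u
open CategoryTheory CategoryTheory.Limits AlgebraicGeometry TopologicalSpace
open SDiv

namespace Groth.Agent.S1696

/-- Let b : S' → S be the blowing-up of a scheme S in a quasi-coherent sheaf of ideals 𝓘 and F a
quasi-coherent O_S-module which is flat at every point of V(𝓘), the support of O_S/𝓘. Then the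
pullback b^*F is its own strict transform (via the identity map): no nonzero local section of b^*F
is annihilated by a power of the exceptional ideal. -/
theorem result {S S' : Scheme.{u}} (𝓘 : S.IdealSheafData) (b : S' ⟶ S) (hb : BlowUp.IsBlowUp b 𝓘)
    (F : S.Modules) (hF : Coh.IsQCoh F) (hflat : ∀ s : ↥S, s ∈ 𝓘.support → FlatMod.IsFlatAt F s) :
    BlowUp.IsStrictTransform b 𝓘 F ((Scheme.Modules.pullback b).obj F) (𝟙 _) := by
  refine ⟨inferInstance, fun V m => ⟨fun h0 => ?_, fun hk => ?_⟩⟩
  · have h : m = 0 := h0
    subst h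
    exact ⟨0, fun a _ => smul_zero a⟩
  obtain ⟨n, hn⟩ := hk
  have key : m = 0 := ?_
  · subst key
    exact map_zero _
  let M := (Scheme.Modules.pullback b).obj F
  refine TopCat.Presheaf.section_ext ((SheafOfModules.toSheaf _).obj M) V.1 m 0 fun x hxV => ?_
  obtain ⟨U, hxU, f, hf, hfU⟩ := hb.1 x
  obtain ⟨_, ⟨W, hW, rfl⟩, hxW, hWUV⟩ := S'.isBasis_affineOpens.exists_subset_of_mem_open
    (a := x) (show x ∈ ((U.1 ⊓ V.1 : S'.Opens) : Set S') from ⟨hxU, hxV⟩) (U.1 ⊓ V.1).2
  have hWU : (⟨W, hW⟩ : S'.affineOpens) ≤ U := fun y hy => (hWUV hy).1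
  have hWV : (⟨W, hW⟩ : S'.affineOpens) ≤ V := fun y hy => (hWUV hy).2
  set E := BlowUp.exceptional b 𝓘 with hE
  set fx := (S'.presheaf.germ U.1 x hxU).hom f with hfx
  -- the exceptional ideal at `x`
  have hgW : ∀ (A : S'.affineOpens) (hA : (⟨W, hW⟩ : S'.affineOpens) ≤ A),
      (E.ideal A).map (S'.presheaf.germ A.1 x (hA hxW)).hom =
        (E.ideal ⟨W, hW⟩).map (S'.presheaf.germ W x hxW).hom := by
    intro A hA
    rw [← E.map_ideal hA, Ideal.map_map, ← CommRingCat.hom_comp]
    erw [TopCat.Presheaf.germ_res]
  have hId : (E.ideal V).map (S'.presheaf.germ V.1 x hxV).hom = Ideal.span {fx} := by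
    rw [hgW V hWV, ← hgW U hWU, hE]
    erw [hfU]
    rw [Ideal.map_span, Set.image_singleton]
  let T := (Groth.L00.Stk.F S' x).obj M
  let mx : T := (TopCat.Presheaf.germ M.presheaf V.1 x hxV).hom m
  -- `fx ^ n` kills the germ
  have hkill : fx ^ n • mx = 0 := by
    have hle : ((E ^ n).ideal V).map (S'.presheaf.germ V.1 x hxV).hom ≤
        Ideal.torsionOf (S'.presheaf.stalk x) T mx := by
      rw [Ideal.map_le_iff_le_comap]
      intro a ha
      rw [Ideal.mem_comap, Ideal.mem_torsionOf_iff]
      have h1 := PresheafOfModules.germ_smul (R := S'.presheaf) M.val x V.1 hxV a m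
      have h2 := congrArg (fun z => (TopCat.Presheaf.germ M.presheaf V.1 x hxV).hom z) (hn a ha)
      exact h1.symm.trans (h2.trans (map_zero _))
    rw [Scheme.IdealSheafData.ideal_pow, Pi.pow_apply, Ideal.map_pow, hId,
      Ideal.span_singleton_pow] at hle
    exact (Ideal.mem_torsionOf_iff mx _).1 (hle (Ideal.mem_span_singleton_self _))
  -- `fx` acts injectively on the stalk
  have hreg : IsSMulRegular T fx := by
    by_cases hs : b x ∈ 𝓘.support
    · have hfl : FlatMod.IsFlatAt F (b x) := hflat _ hs
      let g := Groth.L00.PullStalk.φ b x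
      let N := (Groth.L00.Stk.F S (b x)).obj F
      have hN : Module.Flat (S.presheaf.stalk (b x)) N := hfl
      have hnzd : fx ∈ nonZeroDivisors (S'.presheaf.stalk x) := by
        letI := TopCat.Presheaf.algebra_section_stalk S'.presheaf (⟨x, hxU⟩ : U.1)
        haveI := U.2.isLocalization_stalk ⟨x, hxU⟩
        exact IsLocalization.map_nonZeroDivisors_le ((U.2.primeIdealOf ⟨x, hxU⟩).asIdeal.primeCompl)
          (S'.presheaf.stalk x) ⟨f, hf, rfl⟩
      letI : Algebra (S.presheaf.stalk (b x)) (S'.presheaf.stalk x) := g.toAlgebra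
      haveI := hN
      have hR : IsSMulRegular (TensorProduct (S.presheaf.stalk (b x)) (S'.presheaf.stalk x) N) fx := by
        let μ : S'.presheaf.stalk x →ₗ[S.presheaf.stalk (b x)] S'.presheaf.stalk x :=
          LinearMap.mulLeft _ fx
        have hμ : Function.Injective μ := fun p q hpq =>
          sub_eq_zero.1 (hnzd.1 _ (by rw [mul_sub]; exact sub_eq_zero.2 hpq))
        have := Module.Flat.rTensor_preserves_injective_linearMap (M := N) μ hμ
        have heq : ∀ z : TensorProduct (S.presheaf.stalk (b x)) (S'.presheaf.stalk x) N,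
            fx • z = μ.rTensor N z := fun z => by
          induction z using TensorProduct.induction_on with
          | zero => simp
          | tmul p q => simp [μ, TensorProduct.smul_tmul']
          | add p q hp hq => rw [smul_add, map_add, hp, hq]
        exact fun p q hpq => this ((heq p).symm.trans (hpq.trans (heq q)))
      let e : T ≅ (ModuleCat.extendScalars g).obj N := (Groth.L00.PullStalk.stalkIso b x).app F
      intro p q hpq
      refine e.toLinearEquiv.injective (hR ?_)
      have := congrArg e.toLinearEquiv hpq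
      simp only [map_smul] at this
      exact this
    · have hx : x ∉ E.support := by
        rw [hE, Scheme.IdealSheafData.support_comap]
        exact hs
      rw [Scheme.IdealSheafData.mem_support_iff_of_mem hxU] at hx
      erw [hfU] at hx
      rw [Scheme.zeroLocus_span, Scheme.mem_zeroLocus_iff] at hx
      push Not at hx
      obtain ⟨f', hf', hxf⟩ := hx
      obtain rfl : f' = f := hf'
      exact ((S'.mem_basicOpen _ x hxU).1 hxf).isSMulRegular T
  have : mx = 0 := (hreg.pow n) (hkill.trans (smul_zero _).symm)
  exact this.trans (map_zero _).symm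


end Groth.Agent.S1696
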