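import Groth.Statements.S16961
import Groth.Agent.L11.ConstQuot.Basic
import Groth.Agent.L11.ConstQuot.Unit

set_option autoImplicit false
universe u
open ConstAct

namespace Groth.Agent.S16961

open CategoryTheory AlgebraicGeometry in
/-- Let R be a Noetherian commutative ring, A a commutative R-algebra of finite type, and G a finite
group acting on A by R-algebra automorphisms, with ring of invariants A^G. Let [Spec A/G] be the
quotient stack of Spec A by the constant group scheme of G over Spec R, the category over (Sch/Spec
R) whose objects are torsors under the constant group scheme, locally trivial for the fppf topology,
with an equivariant morphism to Spec A; and let π : [Spec A/G] → Spec A^G be a functor over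
(Sch/Spec R) whose composite with the canonical functor Spec A → [Spec A/G] is the functor of the
morphism Spec A → Spec A^G induced by the inclusion A^G ⊆ A. Then the structure sheaf of Spec A^G
maps isomorphically onto the pushforward of the structure sheaf of [Spec A/G]: for every scheme E
etale over Spec A^G, the canonical map from the ring of functions on E to the sections over E of the
pushforward (the compatible families of functions on the base schemes of the objects of [Spec A/G]
equipped with a morphism to E over Spec A^G) is bijective. (The published statement puts no
finiteness condition on A; the published proof uses that A is finite over A^G, which holds when A is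
of finite type over a Noetherian ring, the case stated here.) -/
theorem result (R : Type u) [CommRing R] [IsNoetherianRing R]
    (A : Type u) [CommRing A] [Algebra R A] [Algebra.FiniteType R A]
    (G : Type u) [Group G] [Fintype G] [DecidableEq G] [MulSemiringAction G A] [SMulCommClass G R A]
    (π : ConstAct.quotSt R A G Scheme.fppfPrecoverage ⥤ᵇ AlgSt.ofSch (ConstAct.specInv R A G))
    (hπ : BasedFunctor.comp
        (AlgSt.quotMap Scheme.fppfPrecoverage (ConstAct.GR R G) (ConstAct.gaction R A G)) π =
      AlgSt.ofSpMap ((AlgSp.yon (Spec (CommRingCat.of R))).map (ConstAct.quot R A G))) :
    StMod.UnitIsIso π := by
  exact Groth.L11.ConstQuot.unitIsIso (Groth.L11.ConstQuot.main π hπ).1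

end Groth.Agent.S16961
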