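import Groth.Statements.S16962


set_option autoImplicit false
universe u
open ConstAct

namespace Groth.Agent.S16962

open TensorProduct in
variable {_unused : Unit}

section Build

open TensorProduct

variable {R B Γ : Type u} [CommRing R] [CommRing B] [Algebra R B] [Group Γ] [Fintype Γ] [DecidableEq Γ]

/-- Evaluation of the coaction at a group element. -/
noncomputable def Phi (g : Γ) : B ⊗[R] ConstGrp.F R Γ →ₐ[R] B :=
  (Algebra.TensorProduct.rid R R B).toAlgHom.comp
    (Algebra.TensorProduct.map (AlgHom.id R B) (ConstGrp.ev R g))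

theorem Phi_tmul (g : Γ) (b : B) (f : ConstGrp.F R Γ) : Phi g (b ⊗ₜ[R] f) = f g • b := by
  simp [Phi]

theorem tensor_eq_sum (z : B ⊗[R] ConstGrp.F R Γ) :
    z = ∑ g : Γ, Phi g z ⊗ₜ[R] ConstGrp.e R g := by
  induction z with
  | zero => simp
  | tmul b f =>
    conv_lhs => rw [ConstGrp.eq_sum_smul_e f, tmul_sum]
    refine Finset.sum_congr rfl fun g _ => ?_
    rw [Phi_tmul, smul_tmul]
  | add x y hx hy => simp only [map_add, add_tmul, Finset.sum_add_distrib]; rw [← hx, ← hy]

theorem Phi_sum (g : Γ) (v : Γ → B) : Phi g (∑ x : Γ, v x ⊗ₜ[R] ConstGrp.e R x) = v g := by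
  rw [map_sum, Finset.sum_eq_single g]
  · rw [Phi_tmul, ConstGrp.e_apply_self, one_smul]
  · intro x _ hx
    rw [Phi_tmul, ConstGrp.e_apply_of_ne (Ne.symm hx), zero_smul]
  · intro h; exact absurd (Finset.mem_univ g) h

variable [HopfRep.Comod R (ConstGrp.F R Γ) B] [GLin.IsCoactAlg R (ConstGrp.F R Γ) B]

/-- The action attached to the coaction. -/
noncomputable def phi (g : Γ) : B →ₐ[R] B := (Phi g).comp (GLin.coactAlgHom R (ConstGrp.F R Γ) B)

theorem phi_one (b : B) : phi (R := R) (1 : Γ) b = b := by
  have h := LinearMap.congr_fun (HopfRep.Comod.counit_comp (k := R) (A := ConstGrp.F R Γ) (V := B)) b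
  have hΦ : ∀ z : B ⊗[R] ConstGrp.F R Γ,
      Phi (1 : Γ) z = TensorProduct.rid R B ((Coalgebra.counit (R := R) (A := ConstGrp.F R Γ)).lTensor B z) := by
    intro z
    induction z with
    | zero => simp
    | tmul x f => rw [Phi_tmul, LinearMap.lTensor_tmul, TensorProduct.rid_tmul, ConstGrp.counit_apply]
    | add x y hx hy => rw [map_add, map_add, map_add, hx, hy]
  show Phi (1 : Γ) (HopfRep.Comod.coact (k := R) (A := ConstGrp.F R Γ) b) = b
  rw [hΦ]
  refine (congrArg (TensorProduct.rid R B) h).trans ?_
  simp

theorem phi_mul (h g : Γ) (b : B) : phi (R := R) (h * g) b = phi (R := R) h (phi (R := R) g b) := by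
  let L : B ⊗[R] (ConstGrp.F R Γ ⊗[R] ConstGrp.F R Γ) →ₐ[R] B :=
    (Algebra.TensorProduct.rid R R B).toAlgHom.comp (Algebra.TensorProduct.map (AlgHom.id R B)
      (Algebra.TensorProduct.productMap (ConstGrp.ev R h) (ConstGrp.ev R g)))
  have hL : ∀ (x : B) (f f' : ConstGrp.F R Γ), L (x ⊗ₜ[R] (f ⊗ₜ[R] f')) = (f h * f' g) • x := by
    intro x f f'
    simp [L]
  have hc : ∀ z : B ⊗[R] ConstGrp.F R Γ,
      L ((Coalgebra.comul (R := R) (A := ConstGrp.F R Γ)).lTensor B z) = Phi (h * g) z := by
    intro z
    rw [tensor_eq_sum z, map_sum, map_sum, map_sum]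
    refine Finset.sum_congr rfl fun k _ => ?_
    rw [LinearMap.lTensor_tmul, ConstGrp.comul_e, tmul_sum, map_sum, Phi_tmul,
      Finset.sum_eq_single h]
    · rw [hL, ConstGrp.e_apply_self, one_mul, ConstGrp.e_apply, ConstGrp.e_apply]
      by_cases hk : h * g = k
      · rw [if_pos hk, if_pos (by rw [← hk, inv_mul_cancel_left])]
      · rw [if_neg hk, if_neg (fun hg => hk (by rw [hg, mul_inv_cancel_left]))]
    · intro a _ ha
      rw [hL, ConstGrp.e_apply_of_ne (Ne.symm ha), zero_mul, zero_smul]
    · intro hh; exact absurd (Finset.mem_univ h) hh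
  have hr : ∀ w : (B ⊗[R] ConstGrp.F R Γ) ⊗[R] ConstGrp.F R Γ,
      L (TensorProduct.assoc R B (ConstGrp.F R Γ) (ConstGrp.F R Γ) w) =
        Phi h (TensorProduct.rid R _ ((ConstGrp.ev R g).toLinearMap.lTensor _ w)) := by
    intro w
    induction w with
    | zero => simp
    | tmul z f =>
      induction z with
      | zero => simp
      | tmul x f' =>
        rw [TensorProduct.assoc_tmul, hL, LinearMap.lTensor_tmul, TensorProduct.rid_tmul, map_smul,
          Phi_tmul, smul_smul, mul_comm]
        rfl
      | add x y hx hy => simp only [add_tmul, map_add, hx, hy]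
    | add x y hx hy => simp only [map_add, hx, hy]
  have hA := congrArg L (LinearMap.congr_fun
    (HopfRep.Comod.coassoc (k := R) (A := ConstGrp.F R Γ) (V := B)) b)
  simp only [LinearMap.comp_apply, LinearEquiv.coe_coe, hc, hr] at hA
  have hB : ∀ z : B ⊗[R] ConstGrp.F R Γ,
      TensorProduct.rid R _ ((ConstGrp.ev R g).toLinearMap.lTensor _
        ((HopfRep.Comod.coact (k := R) (A := ConstGrp.F R Γ) (V := B)).rTensor _ z)) =
      HopfRep.Comod.coact (k := R) (A := ConstGrp.F R Γ) (V := B) (Phi g z) := by
    intro z
    induction z with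
    | zero => simp
    | tmul x f =>
      rw [LinearMap.rTensor_tmul, LinearMap.lTensor_tmul, TensorProduct.rid_tmul, Phi_tmul, map_smul]
      rfl
    | add x y hx hy => simp only [map_add, hx, hy]
  rw [hB] at hA
  exact hA.symm

end Build

open TensorProduct in

/-- Let R be a commutative ring, Γ a finite group and B a commutative R-algebra equipped with a comodule
structure over the Hopf algebra of R-valued functions on Γ (the coordinate ring of the constant
group scheme of Γ over Spec R, with basis the indicator functions e_γ) whose coaction B → B ⊗ Fun(Γ,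
R) is a homomorphism of algebras, i.e. an action of the constant group scheme on Spec B. Then there
is exactly one action of Γ on B by R-algebra automorphisms whose associated coaction b ↦ Σ_γ (γ · b)
⊗ e_γ is the given coaction; and for that action the ring of invariants of the comodule algebra (the
b whose coaction is b ⊗ 1) equals the ring of elements fixed by Γ. (That the coaction associated
with an action is a comodule algebra structure is the other direction of the published equivalence
and is a construction here.) -/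
theorem result (R : Type u) [CommRing R]
    (B : Type u) [CommRing B] [Algebra R B] (Γ : Type u) [Group Γ] [Fintype Γ] [DecidableEq Γ]
    [HopfRep.Comod R (ConstGrp.F R Γ) B] [GLin.IsCoactAlg R (ConstGrp.F R Γ) B] :
    ∃! a : MulSemiringAction Γ B, ∃ _ : SMulCommClass Γ R B,
      ConstAct.coactLin R B Γ = HopfRep.Comod.coact (k := R) (A := ConstGrp.F R Γ) (V := B) ∧
        GLin.invariants R (ConstGrp.F R Γ) B = ConstAct.inv R B Γ := by
  let a : MulSemiringAction Γ B :=
    { smul := fun g b => phi (R := R) g b
      one_smul := fun b => phi_one b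
      mul_smul := fun h g b => phi_mul h g b
      smul_zero := fun g => map_zero (phi (R := R) g)
      smul_add := fun g x y => map_add (phi (R := R) g) x y
      smul_one := fun g => map_one (phi (R := R) g)
      smul_mul := fun g x y => map_mul (phi (R := R) g) x y }
  letI := a
  haveI hsc : SMulCommClass Γ R B := ⟨fun g r b => map_smul (phi (R := R) g) r b⟩
  have hco : ConstAct.coactLin R B Γ = HopfRep.Comod.coact (k := R) (A := ConstGrp.F R Γ) (V := B) := by
    refine LinearMap.ext fun b => ?_
    rw [ConstAct.coactLin_apply]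
    exact (tensor_eq_sum _).symm
  refine ⟨a, ⟨hsc, hco, ?_⟩, ?_⟩
  · refine SetLike.ext fun b => ?_
    rw [GLin.mem_invariants_iff]
    constructor
    · intro hb g
      show Phi g (HopfRep.Comod.coact (k := R) (A := ConstGrp.F R Γ) b) = b
      rw [hb, Phi_tmul, ConstGrp.one_apply, one_smul]
    · intro hb
      rw [tensor_eq_sum (HopfRep.Comod.coact (k := R) (A := ConstGrp.F R Γ) b),
        tensor_eq_sum (b ⊗ₜ[R] (1 : ConstGrp.F R Γ))]
      refine Finset.sum_congr rfl fun g _ => ?_
      rw [Phi_tmul, ConstGrp.one_apply, one_smul]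
      exact congrArg (· ⊗ₜ[R] ConstGrp.e R g) (hb g)
  · intro a' ha'
    obtain ⟨hsc', hco', -⟩ := ha'
    have key : a'.toDistribMulAction = a.toDistribMulAction := by
      apply DistribMulAction.ext
      apply funext; intro g; apply funext; intro b
      have h1 := congrArg (Phi g) (LinearMap.congr_fun hco' b)
      rw [ConstAct.coactLin_apply, Phi_sum] at h1
      exact h1
    cases a'
    cases key
    rfl


end Groth.Agent.S16962
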