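import Groth.Statements.S16963
import Mathlib.Tactic

set_option autoImplicit false
universe u
open scoped BigOperators
open ConstAct

namespace Groth.Agent.S16963

open TensorProduct in
/-- Let R be a commutative ring and Γ a finite group acting on a commutative R-algebra B by R-algebra
automorphisms; regard B as a comodule algebra over the Hopf algebra of R-valued functions on Γ (the
constant group scheme of Γ acting on Spec B) through the coaction b ↦ Σ_γ (γ · b) ⊗ e_γ. Then the
action is tame — there is a comodule map α from the Hopf algebra, with its regular coaction, to B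
with α(1) = 1 (a total integral) — if and only if the trace b ↦ Σ_γ γ · b, which takes values in the
ring of invariants B^Γ, maps B onto B^Γ. -/
theorem result (R : Type u) [CommRing R]
    (B : Type u) [CommRing B] [Algebra R B] (Γ : Type u) [Group Γ] [Fintype Γ] [DecidableEq Γ]
    [MulSemiringAction Γ B] [SMulCommClass Γ R B] :
    letI := ConstAct.comod R B Γ
    (∃ α : ConstGrp.F R Γ →ₗ[R] B, Hoch.IsComodHom (ConstGrp.F R Γ) α ∧ α 1 = 1) ↔
      ∀ c : B, c ∈ ConstAct.inv R B Γ → ∃ b : B, ∑ γ : Γ, γ • b = c := by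
  letI := ConstAct.comod R B Γ
  classical
  constructor
  · rintro ⟨α, hα, h1⟩ c hc
    have key : ∀ g : Γ, g • α (ConstGrp.e R 1) = α (ConstGrp.e R g⁻¹) := fun g => by
      have h := congrArg (fun z => TensorProduct.rid R B
        ((ConstGrp.ev R g).toLinearMap.lTensor B z)) (LinearMap.congr_fun hα (ConstGrp.e R 1))
      change (TensorProduct.rid R B) ((ConstGrp.ev R g).toLinearMap.lTensor B
          (ConstAct.coactLin R B Γ (α (ConstGrp.e R 1)))) =
        (TensorProduct.rid R B) ((ConstGrp.ev R g).toLinearMap.lTensor B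
          (α.rTensor _ (Coalgebra.comul (R := R) (ConstGrp.e R (1 : Γ))))) at h
      simp [ConstGrp.e_apply, map_sum] at h
      rw [h]
      rw [Finset.sum_eq_single g⁻¹]
      · simp
      · intro x _ hx
        exact if_neg fun he => hx (by rw [he, inv_inv])
      · simp
    refine ⟨c * α (ConstGrp.e R 1), ?_⟩
    simp only [smul_mul', (ConstAct.mem_inv R B Γ c).mp hc, key]
    rw [← Finset.mul_sum, ← map_sum, Fintype.sum_equiv (Equiv.inv Γ) (fun g => ConstGrp.e R g⁻¹)
      (fun g => ConstGrp.e R g) (fun g => rfl), ConstGrp.sum_e, h1, mul_one]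
  · intro h
    obtain ⟨b, hb⟩ := h 1 ((ConstAct.mem_inv R B Γ 1).mpr fun g => smul_one g)
    refine ⟨(ConstGrp.basis R Γ).constr R fun g => g⁻¹ • b, ?_, ?_⟩
    · show ConstAct.coactLin R B Γ ∘ₗ _ = _
      refine ConstGrp.linearMap_ext fun g => ?_
      have hα : ∀ x : Γ, (ConstGrp.basis R Γ).constr R (fun g => g⁻¹ • b) (ConstGrp.e R x) = x⁻¹ • b :=
        fun x => by rw [← ConstGrp.basis_apply, Module.Basis.constr_basis]
      change ConstAct.coactLin R B Γ _ =
        LinearMap.rTensor _ _ (Coalgebra.comul (R := R) (ConstGrp.e R g))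
      rw [hα, ConstGrp.comul_e, map_sum, ConstAct.coactLin_apply]
      refine Fintype.sum_equiv ((Equiv.inv Γ).trans (Equiv.mulLeft g)) _ _ fun x => ?_
      rw [LinearMap.rTensor_tmul, hα]
      show (x • g⁻¹ • b) ⊗ₜ[R] ConstGrp.e R x =
        ((g * x⁻¹)⁻¹ • b) ⊗ₜ[R] ConstGrp.e R ((g * x⁻¹)⁻¹ * g)
      rw [mul_inv_rev, inv_inv, mul_smul, inv_mul_cancel_right]
    · rw [← ConstGrp.sum_e (R := R) (G := Γ), map_sum]
      simp only [← ConstGrp.basis_apply, Module.Basis.constr_basis]
      rw [← hb]
      exact Fintype.sum_equiv (Equiv.inv Γ) _ _ fun g => rfl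


end Groth.Agent.S16963
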