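import Groth.Statements.S16966
import Groth.Agent.L21.Duality.Special
import Groth.Agent.L26.Weil.Axes
import Groth.Agent.L21.Bundle.Calc
import Groth.Agent.L21.Bundle.Lines

set_option autoImplicit false
set_option backward.isDefEq.respectTransparency false
universe u
open CategoryTheory CategoryTheory.Limits AlgebraicGeometry Opposite
open Curves

namespace Groth.Agent.S16966

/-- Let X be a smooth projective curve over an algebraically closed field k of characteristic 0 (an
integral scheme, proper over k, of dimension one, with all local rings regular), of genus g ≥ 1, and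
L an invertible O_X-module with deg L > 2g. Then the morphism to projective space given by the
complete linear system of L is linearly stable, stated through the criterion by invertible
subsheaves: for every invertible module M and every monomorphism ι : M ⟶ L that is not an
isomorphism, with dim_k H^0(X, M) ≥ 2, one has deg L · (h^0(M) - 1) < deg M · (h^0(L) - 1), i.e. the
reduced degree deg M / (h^0(M) - 1) of the projection exceeds the reduced degree deg L / (h^0(L) -
1). Degrees are χ(·) - χ(O_X). -/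
theorem result (k : Type u) [Field k] [IsAlgClosed k] [CharZero k] (X : Scheme.{u}) [X.Over (Spec (CommRingCat.of k))]
    [IsIntegral X] [IsProper (X ↘ (Spec (CommRingCat.of k)))] (hdim : topologicalKrullDim X = 1)
    (hreg : ∀ x : X, IsRegularLocalRing (X.presheaf.stalk x))
    (hg : 1 ≤ Curv2.genus k X) (L : X.Modules) (hL : PicF.IsInvertible L)
    (hdeg : 2 * (Curv2.genus k X : ℤ) < Curv2.deg k X L 1)
    (M : X.Modules) (hM : PicF.IsInvertible M) (ι : M ⟶ L) [Mono ι] (hι : ¬ IsIso ι)
    (h2 : 2 ≤ Module.finrank k (Coh.HH X M 0)) :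
    Curv2.deg k X L 1 * ((Module.finrank k (Coh.HH X M 0) : ℤ) - 1) <
      Curv2.deg k X M 1 * ((Module.finrank k (Coh.HH X L 0) : ℤ) - 1) := by
  haveI : Smooth (X ↘ Spec (CommRingCat.of k)) :=
    Groth.L26.Weil.smooth_of_regular_closed (X ↘ Spec (CommRingCat.of k)) fun x _ => hreg x
  haveI := Groth.L21.RR.isNoetherian_of_proper (X := X) k
  have h0 : Groth.L21.RR.h k 0 (Coh.structureModule X) = 1 := Groth.L21.RR.h0_eq_one_of_isAlgClosed k
  obtain ⟨NL, hNL, ⟨eL⟩, hL0, hL1⟩ := Groth.L21.Duality.exists_dual (k := k) hdim hL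
  obtain ⟨NM, hNM, ⟨eM⟩, hM0, hM1⟩ := Groth.L21.Duality.exists_dual (k := k) hdim hM
  have rrL := Groth.L21.Duality.rr_deg hdim.le h0 L
  have rrM := Groth.L21.Duality.rr_deg hdim.le h0 M
  have hdlt : Curv2.deg k X M 1 < Curv2.deg k X L 1 := by
    have h1 := Groth.L21.Bundle.locFree_one hM
    have h2 := Groth.L21.Bundle.locFree_one hL
    obtain ⟨e1, e2⟩ := Groth.L21.Bundle.add_cokernel k hdim.le ι (Groth.L21.Bundle.isCoh_of_rank h1) (Groth.L21.Bundle.isCoh_of_rank h2)
    rw [Groth.L21.Bundle.rk_eq h1, Groth.L21.Bundle.rk_eq h2] at e1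
    obtain ⟨h3, h4⟩ := Groth.L21.Bundle.dg_nonneg_of_rk_eq_zero hdim.le k
      (Groth.L21.Bundle.coh_cokernel (Groth.L21.Bundle.isCoh_of_rank h1) (Groth.L21.Bundle.isCoh_of_rank h2) ι)
      (show Groth.L21.Bundle.rk (cokernel ι) = 0 by omega)
    rw [Groth.L21.Bundle.dg_eq k h1, Groth.L21.Bundle.dg_eq k h2]
    rcases eq_or_lt_of_le h3 with h | h
    · haveI : Epi ι := Preadditive.epi_of_isZero_cokernel ι (h4 h.symm)
      exact absurd (isIso_of_mono_of_epi ι) hι
    · omega
  have hlow := Groth.L21.RR.h k 1 L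
  by_cases hs : 1 ≤ Groth.L21.RR.h k 1 M
  · have hcl := Groth.L21.Duality.clifford hdim h0 hM (show 1 ≤ Groth.L21.RR.h k 0 M from le_trans (by norm_num) h2) hs
    simp only [Groth.L21.RR.h] at hcl rrL rrM hs
    have hdM : 2 ≤ Curv2.deg k X M 1 := by omega
    have hL1' : (Curv2.deg k X L 1 - (Curv2.genus k X : ℤ) : ℤ) ≤ (Module.finrank k (Coh.HH X L 0) : ℤ) - 1 := by omega
    have h5 := mul_le_mul_of_nonneg_left hL1' (show (0 : ℤ) ≤ Curv2.deg k X M 1 by omega)
    have h6 := mul_le_mul_of_nonneg_left (show 2 * ((Module.finrank k (Coh.HH X M 0) : ℤ) - 1) ≤ Curv2.deg k X M 1 by omega)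
      (show (0 : ℤ) ≤ Curv2.deg k X L 1 by omega)
    nlinarith
  · simp only [Groth.L21.RR.h] at rrL rrM hs
    have hL1' : (Curv2.deg k X L 1 - (Curv2.genus k X : ℤ) : ℤ) ≤ (Module.finrank k (Coh.HH X L 0) : ℤ) - 1 := by omega
    have h5 := mul_le_mul_of_nonneg_left hL1' (show (0 : ℤ) ≤ Curv2.deg k X M 1 by omega)
    have hM1 : (Module.finrank k (Coh.HH X M 0) : ℤ) - 1 = Curv2.deg k X M 1 - (Curv2.genus k X : ℤ) := by omega
    rw [hM1]
    nlinarith

end Groth.Agent.S16966
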