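import Groth.Statements.S16967
import Groth.Agent.L21.Duality.LinStable
import Groth.Agent.L26.Weil.Axes

set_option autoImplicit false
set_option backward.isDefEq.respectTransparency false
universe u
open CategoryTheory CategoryTheory.Limits AlgebraicGeometry Opposite
open Curves

namespace Groth.Agent.S16967

/-- Let X be a smooth projective curve over an algebraically closed field k of characteristic 0
(integral, proper over k, of dimension one, all local rings regular) of genus g ≥ 3 that is not
hyperelliptic: there is no invertible module of degree 2 with two k-linearly independent global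
sections. Then the canonical morphism of X is linearly stable, stated through the criterion by
invertible subsheaves: for every invertible module M and every monomorphism ι : M ⟶ Ω_{X/k} which is
not an isomorphism, with dim_k H^0(X, M) ≥ 2, one has deg Ω_{X/k} · (h^0(M) - 1) < deg M ·
(h^0(Ω_{X/k}) - 1). Degrees are χ(·) - χ(O_X). -/
theorem result (k : Type u) [Field k] [IsAlgClosed k] [CharZero k] (X : Scheme.{u}) [X.Over (Spec (CommRingCat.of k))]
    [IsIntegral X] [IsProper (X ↘ (Spec (CommRingCat.of k)))] (hdim : topologicalKrullDim X = 1)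
    (hreg : ∀ x : X, IsRegularLocalRing (X.presheaf.stalk x))
    (hg : 3 ≤ Curv2.genus k X)
    (hnh : ¬ ∃ (N : X.Modules) (t : Fin 2 → LinSer.Sect X N), LinSer.IsLinSer k X N 2 1 t)
    (M : X.Modules) (hM : PicF.IsInvertible M) (ι : M ⟶ Omega.sheaf (X ↘ (Spec (CommRingCat.of k)))) [Mono ι] (hι : ¬ IsIso ι)
    (h2 : 2 ≤ Module.finrank k (Coh.HH X M 0)) :
    Curv2.deg k X (Omega.sheaf (X ↘ (Spec (CommRingCat.of k)))) 1 * ((Module.finrank k (Coh.HH X M 0) : ℤ) - 1) <
      Curv2.deg k X M 1 * ((Module.finrank k (Coh.HH X (Omega.sheaf (X ↘ (Spec (CommRingCat.of k)))) 0) : ℤ) - 1) := by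
  haveI : Smooth (X ↘ Spec (CommRingCat.of k)) :=
    Groth.L26.Weil.smooth_of_regular_closed (X ↘ Spec (CommRingCat.of k)) fun x _ => hreg x
  haveI := Groth.L21.RR.isNoetherian_of_proper (X := X) k
  have h0 : Groth.L21.RR.h k 0 (Coh.structureModule X) = 1 := Groth.L21.RR.h0_eq_one_of_isAlgClosed k
  obtain ⟨hΩ0, -, hΩd⟩ := Groth.L21.Duality.omega_invariants (k := k) (X := X) hdim
  obtain ⟨h1, heq⟩ := Groth.L21.LinStable.sub_bound hdim hg hM ι hι h2
  have hne : 2 * (Groth.L21.RR.h k 0 M : ℤ) ≠ Curv2.deg k X M 1 + 2 := fun h => hnh (heq h)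
  have hH : Module.finrank k (Coh.HH X (Omega.sheaf (X ↘ Spec (CommRingCat.of k))) 0) = Curv2.genus k X := hΩ0
  rw [hΩd h0, hH]
  simp only [Groth.L21.RR.h] at h1 hne
  have h3 := mul_le_mul_of_nonneg_right (show 2 * (Module.finrank k (Coh.HH X M 0) : ℤ) + 1 ≤ Curv2.deg k X M 1 + 2 by omega)
    (show (0 : ℤ) ≤ (Curv2.genus k X : ℤ) - 1 by omega)
  nlinarith

end Groth.Agent.S16967
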