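import Groth.Statements.S16968
import Groth.Agent.L21.Duality.LinStable
import Groth.Agent.L26.Weil.Axes

set_option autoImplicit false
set_option backward.isDefEq.respectTransparency false
universe u
open CategoryTheory CategoryTheory.Limits AlgebraicGeometry Opposite
open Curves

namespace Groth.Agent.S16968

/-- Let X be a smooth projective curve over an algebraically closed field k of characteristic 0
(integral, proper over k, of dimension one, all local rings regular) of genus g ≥ 3 which is
hyperelliptic, with a g^1_2 given as an invertible module N of degree 2 and two k-linearly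
independent global sections t_0, t_1. Then the canonical morphism of X is linearly semistable but
not linearly stable, stated through the criterion by invertible subsheaves: (i) for every invertible
module M and every monomorphism ι : M ⟶ Ω_{X/k} which is not an isomorphism, with dim_k H^0(X, M) ≥
2, one has deg Ω_{X/k} · (h^0(M) - 1) ≤ deg M · (h^0(Ω_{X/k}) - 1); (ii) N admits a monomorphism
into Ω_{X/k} which is not an isomorphism and for which equality holds. Degrees are χ(·) - χ(O_X).
(The published statement gives no genus bound for the hyperelliptic case; here g ≥ 3 is assumed,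
since for g = 2 the module N is the canonical module itself and clause (ii) fails.) -/
theorem result (k : Type u) [Field k] [IsAlgClosed k] [CharZero k] (X : Scheme.{u}) [X.Over (Spec (CommRingCat.of k))]
    [IsIntegral X] [IsProper (X ↘ (Spec (CommRingCat.of k)))] (hdim : topologicalKrullDim X = 1)
    (hreg : ∀ x : X, IsRegularLocalRing (X.presheaf.stalk x))
    (hg : 3 ≤ Curv2.genus k X)
    (N : X.Modules) (t : Fin 2 → LinSer.Sect X N) (hN : LinSer.IsLinSer k X N 2 1 t) :
    (∀ (M : X.Modules) (ι : M ⟶ Omega.sheaf (X ↘ (Spec (CommRingCat.of k)))), PicF.IsInvertible M → Mono ι → ¬ IsIso ι →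
        2 ≤ Module.finrank k (Coh.HH X M 0) →
        Curv2.deg k X (Omega.sheaf (X ↘ (Spec (CommRingCat.of k)))) 1 * ((Module.finrank k (Coh.HH X M 0) : ℤ) - 1) ≤
          Curv2.deg k X M 1 * ((Module.finrank k (Coh.HH X (Omega.sheaf (X ↘ (Spec (CommRingCat.of k)))) 0) : ℤ) - 1)) ∧
      ∃ ι : N ⟶ Omega.sheaf (X ↘ (Spec (CommRingCat.of k))), Mono ι ∧ ¬ IsIso ι ∧
        Curv2.deg k X (Omega.sheaf (X ↘ (Spec (CommRingCat.of k)))) 1 * ((Module.finrank k (Coh.HH X N 0) : ℤ) - 1) =
          Curv2.deg k X N 1 * ((Module.finrank k (Coh.HH X (Omega.sheaf (X ↘ (Spec (CommRingCat.of k)))) 0) : ℤ) - 1) := by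
  haveI : Smooth (X ↘ Spec (CommRingCat.of k)) :=
    Groth.L26.Weil.smooth_of_regular_closed (X ↘ Spec (CommRingCat.of k)) fun x _ => hreg x
  haveI := Groth.L21.RR.isNoetherian_of_proper (X := X) k
  have h0 : Groth.L21.RR.h k 0 (Coh.structureModule X) = 1 := Groth.L21.RR.h0_eq_one_of_isAlgClosed k
  obtain ⟨hΩ0, -, hΩd⟩ := Groth.L21.Duality.omega_invariants (k := k) (X := X) hdim
  have hH : Module.finrank k (Coh.HH X (Omega.sheaf (X ↘ Spec (CommRingCat.of k))) 0) = Curv2.genus k X := hΩ0
  rw [hΩd h0, hH]
  refine ⟨fun M ι hM hι hni h2 => ?_, ?_⟩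
  · haveI := hι
    obtain ⟨h1, -⟩ := Groth.L21.LinStable.sub_bound hdim hg hM ι hni h2
    simp only [Groth.L21.RR.h] at h1
    nlinarith
  · have h2 : 2 ≤ Groth.L21.RR.h k 0 N := Groth.L21.LinStable.two_le_h0_of_linSer hN
    obtain ⟨h3, ι, hι, hni⟩ := Groth.L21.LinStable.exists_sub_of_g12 hdim hg hN.1 hN.2.1 h2
    refine ⟨ι, hι, hni, ?_⟩
    simp only [Groth.L21.RR.h] at h3
    rw [h3, hN.2.1]
    push_cast
    ring

end Groth.Agent.S16968
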