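import Groth.Statements.S16970
import Groth.Agent.L21.CliffordOne.LinStable
import Groth.Agent.L21.Duality.LinStable

set_option autoImplicit false
set_option backward.isDefEq.respectTransparency false
set_option linter.style.haveILetI false
universe u
open CategoryTheory CategoryTheory.Limits AlgebraicGeometry Opposite
open Curves

namespace Groth.Agent.S16970

/-- Let X be a smooth projective curve over an algebraically closed field k of characteristic 0
(integral, proper over k, of dimension one, all local rings regular) of genus 6 which is neither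
hyperelliptic nor trigonal (no invertible module of degree 2, resp. 3, with two k-linearly
independent global sections) and which is a plane curve: there is a closed immersion i : X ⟶ P^2_k
over k (so X is a smooth plane quintic; such a curve is in fact neither hyperelliptic nor trigonal,
but both hypotheses are kept as in the published statement, whose proof uses the absence of a g^1_3
in this case too). Let V ⊂ H^0(X, Ω_{X/k}) be a hyperplane without base points, given by 5 global
sections σ_i : O_X ⟶ Ω_{X/k} that are k-linearly independent and generate Ω_{X/k} at every point.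
Then the projection of the canonical image from the corresponding point is linearly semistable: for
every m with 2 ≤ m < 5, every k-linearly independent family w_1, …, w_m of global sections of
Ω_{X/k} in the k-span of the σ_i, and every invertible module M with a monomorphism ι : M ⟶ Ω_{X/k}
through whose global sections all the w_j factor, deg Ω_{X/k} · (m - 1) ≤ deg M · (g - 2). -/
theorem result (k : Type u) [Field k] [IsAlgClosed k] [CharZero k] (X : Scheme.{u}) [X.Over (Spec (CommRingCat.of k))]
    [IsIntegral X] [IsProper (X ↘ (Spec (CommRingCat.of k)))] (hdim : topologicalKrullDim X = 1)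
    (hreg : ∀ x : X, IsRegularLocalRing (X.presheaf.stalk x))
    (hg : Curv2.genus k X = 6)
    (hnh : ¬ ∃ (N : X.Modules) (t : Fin 2 → LinSer.Sect X N), LinSer.IsLinSer k X N 2 1 t)
    (hnt : ¬ ∃ (N : X.Modules) (t : Fin 2 → LinSer.Sect X N), LinSer.IsLinSer k X N 3 1 t)
    (i : X ⟶ CohB1.ProjSpace 2 k) [IsClosedImmersion i] (hi : i ≫ CohB1.ProjSpace.toSpec 2 k = X ↘ Spec (CommRingCat.of k))
    (σ : Fin (Curv2.genus k X - 1) → (Coh.structureModule X ⟶ Omega.sheaf (X ↘ (Spec (CommRingCat.of k)))))
    (hσ : LinSer.LinIndep k X (Omega.sheaf (X ↘ (Spec (CommRingCat.of k)))) (fun i => PicF2.secVal (Omega.sheaf (X ↘ (Spec (CommRingCat.of k)))) (σ i) ⊤))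
    (hbpf : ⨆ i, CohB1.genLocus (Omega.sheaf (X ↘ (Spec (CommRingCat.of k)))) (σ i) = ⊤) :
    ∀ (m : ℕ) (w : Fin m → LinSer.Sect X (Omega.sheaf (X ↘ (Spec (CommRingCat.of k))))), 2 ≤ m → m + 1 < Curv2.genus k X →
      LinSer.LinIndep k X (Omega.sheaf (X ↘ (Spec (CommRingCat.of k)))) w →
      (∀ j, ∃ c : Fin (Curv2.genus k X - 1) → k,
        w j = ∑ i, (Coh.toGlobal (X ↘ Spec (CommRingCat.of k)) (c i)) • PicF2.secVal (Omega.sheaf (X ↘ (Spec (CommRingCat.of k)))) (σ i) ⊤) →
      ∀ (M : X.Modules) (ι : M ⟶ Omega.sheaf (X ↘ (Spec (CommRingCat.of k)))), PicF.IsInvertible M → Mono ι →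
        (∀ j, ∃ v : LinSer.Sect X M, (ι.val.app (op ⊤)).hom v = w j) →
        Curv2.deg k X (Omega.sheaf (X ↘ (Spec (CommRingCat.of k)))) 1 * ((m : ℤ) - 1) ≤ Curv2.deg k X M 1 * ((Curv2.genus k X : ℤ) - 2) := by
  haveI : Smooth (X ↘ Spec (CommRingCat.of k)) :=
    Groth.L26.Weil.smooth_of_regular_closed (X ↘ Spec (CommRingCat.of k)) fun x _ => hreg x
  intro m w hm hmg hw hspan M ι hM hι hv
  haveI := hι
  have hdΩ := (Groth.L21.Duality.omega_invariants (k := k) (X := X) hdim).2.2
    (Groth.L21.RR.h0_eq_one_of_isAlgClosed k)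
  rw [hdΩ]
  obtain ⟨hle, hall⟩ := Groth.L21.CliffordOne.le_h0_of_linIndep hM ι hw hv
  exact Groth.L21.CliffordOne.bound_of_genus_six hdim hm hmg hM hle hg hnh hnt

end Groth.Agent.S16970
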