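import Groth.Statements.S16972
import Groth.Agent.L21.CliffordOne.LinStable
import Groth.Agent.L21.Duality.LinStable

set_option autoImplicit false
set_option backward.isDefEq.respectTransparency false
set_option linter.style.haveILetI false
universe u
open CategoryTheory CategoryTheory.Limits AlgebraicGeometry Opposite
open Curves

namespace Groth.Agent.S16972

/-- Let X be a smooth projective curve over an algebraically closed field k of characteristic 0
(integral, proper over k, of dimension one, all local rings regular) of genus g ≥ 5 which is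
trigonal (carries an invertible module of degree 3 with two k-linearly independent global sections)
and not hyperelliptic (no such module of degree 2). Let V ⊂ H^0(X, Ω_{X/k}) be a hyperplane without
base points, given by g - 1 global sections σ_i : O_X ⟶ Ω_{X/k}, k-linearly independent and
generating Ω_{X/k} at every point, i.e. the projection of the canonical image from a point p not on
it; assume p lies on no trisecant line of the canonical curve: for every invertible module N with a
monomorphism ι : N ⟶ Ω_{X/k}, deg N = 2g - 5 and dim_k H^0(X, N) = g - 2 (so N = Ω_{X/k}(-D) for a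
divisor D of degree 3 moving in a pencil), some global section of N has image outside the k-span of
the σ_i. Then the projection is linearly stable: for every m with 2 ≤ m < g - 1, every k-linearly
independent family w_1, …, w_m of global sections of Ω_{X/k} in the span of the σ_i, and every
invertible module M with a monomorphism M ⟶ Ω_{X/k} through whose global sections all w_j factor,
deg Ω_{X/k} · (m - 1) < deg M · (g - 2). -/
theorem result (k : Type u) [Field k] [IsAlgClosed k] [CharZero k] (X : Scheme.{u}) [X.Over (Spec (CommRingCat.of k))]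
    [IsIntegral X] [IsProper (X ↘ (Spec (CommRingCat.of k)))] (hdim : topologicalKrullDim X = 1)
    (hreg : ∀ x : X, IsRegularLocalRing (X.presheaf.stalk x))
    (hg : 5 ≤ Curv2.genus k X)
    (hnh : ¬ ∃ (N : X.Modules) (t : Fin 2 → LinSer.Sect X N), LinSer.IsLinSer k X N 2 1 t)
    (htr : ∃ (N : X.Modules) (t : Fin 2 → LinSer.Sect X N), LinSer.IsLinSer k X N 3 1 t)
    (σ : Fin (Curv2.genus k X - 1) → (Coh.structureModule X ⟶ Omega.sheaf (X ↘ (Spec (CommRingCat.of k)))))
    (hσ : LinSer.LinIndep k X (Omega.sheaf (X ↘ (Spec (CommRingCat.of k)))) (fun i => PicF2.secVal (Omega.sheaf (X ↘ (Spec (CommRingCat.of k)))) (σ i) ⊤))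
    (hbpf : ⨆ i, CohB1.genLocus (Omega.sheaf (X ↘ (Spec (CommRingCat.of k)))) (σ i) = ⊤)
    (hsec : ∀ (N : X.Modules) (ι : N ⟶ Omega.sheaf (X ↘ (Spec (CommRingCat.of k)))), PicF.IsInvertible N → Mono ι →
      Curv2.deg k X N 1 + 5 = 2 * (Curv2.genus k X : ℤ) → Module.finrank k (Coh.HH X N 0) + 2 = Curv2.genus k X →
      ∃ v : LinSer.Sect X N, ∀ c : Fin (Curv2.genus k X - 1) → k,
        (ι.val.app (op ⊤)).hom v ≠ ∑ i, (Coh.toGlobal (X ↘ Spec (CommRingCat.of k)) (c i)) • PicF2.secVal (Omega.sheaf (X ↘ (Spec (CommRingCat.of k)))) (σ i) ⊤) :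
    ∀ (m : ℕ) (w : Fin m → LinSer.Sect X (Omega.sheaf (X ↘ (Spec (CommRingCat.of k))))), 2 ≤ m → m + 1 < Curv2.genus k X →
      LinSer.LinIndep k X (Omega.sheaf (X ↘ (Spec (CommRingCat.of k)))) w →
      (∀ j, ∃ c : Fin (Curv2.genus k X - 1) → k,
        w j = ∑ i, (Coh.toGlobal (X ↘ Spec (CommRingCat.of k)) (c i)) • PicF2.secVal (Omega.sheaf (X ↘ (Spec (CommRingCat.of k)))) (σ i) ⊤) →
      ∀ (M : X.Modules) (ι : M ⟶ Omega.sheaf (X ↘ (Spec (CommRingCat.of k)))), PicF.IsInvertible M → Mono ι →
        (∀ j, ∃ v : LinSer.Sect X M, (ι.val.app (op ⊤)).hom v = w j) →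
        Curv2.deg k X (Omega.sheaf (X ↘ (Spec (CommRingCat.of k)))) 1 * ((m : ℤ) - 1) < Curv2.deg k X M 1 * ((Curv2.genus k X : ℤ) - 2) := by
  haveI : Smooth (X ↘ Spec (CommRingCat.of k)) :=
    Groth.L26.Weil.smooth_of_regular_closed (X ↘ Spec (CommRingCat.of k)) fun x _ => hreg x
  intro m w hm hmg hw hspan M ι hM hι hv
  haveI := hι
  have hdΩ := (Groth.L21.Duality.omega_invariants (k := k) (X := X) hdim).2.2
    (Groth.L21.RR.h0_eq_one_of_isAlgClosed k)
  rw [hdΩ]
  obtain ⟨hle, hall⟩ := Groth.L21.CliffordOne.le_h0_of_linIndep hM ι hw hv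
  obtain ⟨N₃, t, hN₃⟩ := htr
  refine Groth.L21.CliffordOne.bound_of_trigonal hdim hm hmg hM hle hg hnh hN₃.1 hN₃.2.1
    (Groth.L21.LinStable.two_le_h0_of_linSer hN₃) fun hdeg heq hm2 => ?_
  obtain ⟨v, hv'⟩ := hsec M ι hM hι hdeg (by
    show Groth.L21.RR.h k 0 M + 2 = _
    omega)
  obtain ⟨c, hc⟩ := hall heq v
  choose d hd using hspan
  refine hv' (fun i => ∑ j, c j * d j i) (hc.trans ?_)
  simp only [hd, Finset.smul_sum, smul_smul]
  rw [Finset.sum_comm]
  refine Finset.sum_congr rfl fun i _ => ?_
  rw [map_sum, Finset.sum_smul]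
  exact Finset.sum_congr rfl fun j _ => by rw [map_mul]

end Groth.Agent.S16972
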