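import Groth.Statements.S16974
import Groth.Agent.L03.SurfFib.FibreH1
import Groth.Agent.L03.SurfFib.FiberHIff
import Groth.Agent.S7759
import Groth.Agent.L21.Mod.Locality
import Groth.Agent.L26.Pic0.Support
import Groth.Agent.L15.Ref.FreeLocus
import Groth.Agent.L03.SurfDual.Duality
-- import your own Groth.Agent.* helpers here

set_option autoImplicit false
universe u
open CategoryTheory CategoryTheory.Limits AlgebraicGeometry TopologicalSpace
open Surf

namespace Groth.Agent.S16974

open Groth.L22 Groth.L22.Inter Groth.L22.Nef Groth.L22.Big Groth.L03.Euler Groth.L03.SurfNum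
set_option backward.isDefEq.respectTransparency false
set_option linter.style.haveILetI false


/-- Let f : S ⟶ B be a relatively minimal fibration of genus at least 2 over an algebraically closed
field k of characteristic 0: S is a smooth projective integral surface, B a smooth projective
integral curve, f a surjective k-morphism with O_B ⟶ f_*O_S an isomorphism (connected fibres), every
closed fibre F = f⁻¹(p) has χ(O_F) < 0 (arithmetic genus ≥ 2), and no fibre contains a (-1)-curve:
for every integral closed curve E ⊆ S with regular local rings, mapped to a point of B and with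
χ(O_E) = 1, the self-intersection E.E (the intersection number of its ideal sheaf with itself) is
not -1. Let L be an invertible O_S-module with a tensor inverse L' such that (1) deg L|_F > 0 for
every closed fibre F, and (2) for every integral closed curve C ⊆ S mapped to a point of B, deg L|_C
≥ 0, with deg L|_C > 0 unless C is a (-2)-curve (regular local rings, χ(O_C) = 1 and C.C = -2);
degrees on F and C are the intersection numbers ∫ c_1(L)·[O_F], ∫ c_1(L)·[O_C] computed on S through
L'. Then the first higher direct image R^1 f_*(L^{⊗ h}) vanishes for all sufficiently large h. -/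
theorem result (k : Type u) [Field k] [IsAlgClosed k] [CharZero k]
    (S : Scheme.{u}) [S.Over (Spec (CommRingCat.of k))] [IsProper (S ↘ (Spec (CommRingCat.of k)))]
    [Smooth (S ↘ (Spec (CommRingCat.of k)))] [IsIntegral S] (hdimS : topologicalKrullDim S = 2)
    (B : Scheme.{u}) [B.Over (Spec (CommRingCat.of k))] [IsProper (B ↘ (Spec (CommRingCat.of k)))]
    [Smooth (B ↘ (Spec (CommRingCat.of k)))] [IsIntegral B] (hdimB : topologicalKrullDim B = 1)
    (f : S ⟶ B) [f.IsOver (Spec (CommRingCat.of k))] [Surjective f] (hconn : IsIso (ClSub.unitToPush f))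
    (hg : ∀ p : B, IsClosed ({p} : Set B) → Curv2.euler k S (ClSub.quotMod (f.fiberι p).ker) < 0)
    (hmin : ∀ (E : Scheme.{u}) (j : E ⟶ S), IsClosedImmersion j → IsIntegral E → topologicalKrullDim E = 1 →
      (∀ e : E, IsRegularLocalRing (E.presheaf.stalk e)) → (∃ p : B, Set.range (j ≫ f).base ⊆ {p}) →
      Curv2.euler k S (ClSub.quotMod j.ker) = 1 →
      FGA.intNum k S 2 ![ClSub.idealMod j.ker, ClSub.idealMod j.ker] (Coh.structureModule S) ≠ -1)
    [HasInjectiveResolutions S.Modules]
    (L L' : S.Modules) (hL : PicF.IsInvertible L) (hL' : ClSub.IsInverseOf L L')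
    (hpos : ∀ p : B, IsClosed ({p} : Set B) → 0 < FGA.intNum k S 2 ![L'] (ClSub.quotMod (f.fiberι p).ker))
    (hcomp : ∀ (C : Scheme.{u}) (i : C ⟶ S), IsClosedImmersion i → IsIntegral C → topologicalKrullDim C = 1 →
      (∃ p : B, Set.range (i ≫ f).base ⊆ {p}) →
      0 ≤ FGA.intNum k S 2 ![L'] (ClSub.quotMod i.ker) ∧
        (FGA.intNum k S 2 ![L'] (ClSub.quotMod i.ker) = 0 →
          (∀ c : C, IsRegularLocalRing (C.presheaf.stalk c)) ∧ Curv2.euler k S (ClSub.quotMod i.ker) = 1 ∧
            FGA.intNum k S 2 ![ClSub.idealMod i.ker, ClSub.idealMod i.ker] (Coh.structureModule S) = -2)) :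
    ∃ h₀ : ℕ, ∀ h : ℕ, h₀ ≤ h → IsZero ((Coh.Rpush f 1).obj (CohB1.tensorPow L h)) := by
  have hd2 : topologicalKrullDim S = (2 : ℕ) := hdimS.trans Nat.cast_ofNat.symm
  haveI := Groth.L21.RR.isNoetherian_of_proper (X := S) k
  haveI := Groth.L21.RR.isNoetherian_of_proper (X := B) k
  haveI : S.IsSeparated := ⟨by rw [← terminal.comp_from (S ↘ Spec (CommRingCat.of k))]; infer_instance⟩
  haveI : IsProper (f ≫ (B ↘ Spec (CommRingCat.of k))) := by rw [comp_over]; infer_instance
  haveI : IsProper f := IsProper.of_comp f (B ↘ Spec (CommRingCat.of k))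
  haveI := Groth.L03.SurfNum.flat_of_surjective k hdimB f
  have hreg := Groth.L03.SurfAdj.reg_of_smooth k (X := S)
  obtain ⟨e'⟩ := hL'
  have hL'i : PicF.IsInvertible L' := Groth.L22.EnrSev.isInvertible_of_inverse hL e'
  have hone : ∀ I : S.IdealSheafData, PicF.IsInvertible (ClSub.idealMod I) →
      (FGA.intNum k S 2 ![L'] (ClSub.quotMod I) : ℚ) = - ii k (ClSub.idealMod I) L := by
    intro I hI
    rw [intNum_eq k hd2.le, show (![L'] : Fin 1 → S.Modules) = fun _ => L' from funext fun i => by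
      fin_cases i; rfl, altT_quotMod_eq k hL'i I hI, ii_comm k _ L', Gram.ii_inverse k hd2.le hL hL'i hI e',
      ii_comm k L]
    ring
  obtain ⟨H, hH⟩ := Groth.L03.SurfAmple.exists_ample k S hd2 hreg
  obtain ⟨ω, hω, -, -, hRR⟩ := Groth.L03.SurfDual.exists_canonical k hdimS hreg (Groth.L03.SurfAdj.exists_proj k hH)
  have hadj : ∀ I : S.IdealSheafData, PicF.IsInvertible (ClSub.idealMod I) →
      2 * (Curv2.euler k S (ClSub.quotMod I) : ℚ) =
        ii k (ClSub.idealMod I) ω - ii k (ClSub.idealMod I) (ClSub.idealMod I) := by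
    intro I hI
    have h := hRR _ hI
    have h2 : (Curv2.euler k S (Coh.structureModule S) : ℚ) =
        Curv2.euler k S (ClSub.idealMod I) + Curv2.euler k S (ClSub.quotMod I) := by
      exact_mod_cast Groth.L03.SurfAdj.euler_quotMod k I hI
    linarith
  have hclosed : ∀ y : S, topologicalKrullDim (closure ({y} : Set S)) = (1 : ℕ) →
      IsIntegral (pt y).subscheme ∧ topologicalKrullDim (pt y).subscheme = 1 := fun y hy => by
    haveI := isIntegral_pt y
    refine ⟨inferInstance, ?_⟩
    rw [← dim_closure_image (pt y).subschemeι, genericPoint_pt, hy, Nat.cast_one]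
  have hrange : ∀ (y : S) (p : B), (∀ z ∈ closure ({y} : Set S), f z = p) →
      Set.range ((pt y).subschemeι ≫ f).base ⊆ {p} := by
    rintro y p h _ ⟨z, rfl⟩
    exact h _ ((range_pt y).le ⟨z, rfl⟩)
  have hminy : ∀ (y : S), topologicalKrullDim (closure ({y} : Set S)) = (1 : ℕ) →
      (∃ c : B, ∀ z ∈ closure ({y} : Set S), f z = c) → Curv2.euler k S (ClSub.quotMod (pt y)) = 1 →
      ii k (ClSub.idealMod (pt y)) (ClSub.idealMod (pt y)) ≠ -1 := by
    intro y hy ⟨c, hc⟩ hχ h1
    obtain ⟨hi, hd1⟩ := hclosed y hy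
    have := hmin _ (pt y).subschemeι inferInstance hi hd1
      (Groth.L03.SurfFib.FibreH1.regular_of_euler_one k hdimS hy hχ) ⟨c, hrange y c hc⟩
      (by rw [Scheme.IdealSheafData.ker_subschemeι]; exact hχ)
    rw [Scheme.IdealSheafData.ker_subschemeι] at this
    refine this ?_
    rw [← intNum_eq_ii k hd2.le] at h1
    exact_mod_cast h1
  obtain ⟨q, hq, -⟩ := Groth.L21.RR.exists_closed_specialization (genericPoint B)
  set e : ℚ := - ii k (ClSub.idealMod (f.fiberι q).ker) L
  set κ : ℚ := - ii k (ClSub.idealMod (f.fiberι q).ker) ω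
  obtain ⟨h₀, hh₀⟩ := exists_nat_gt (e * (2 + κ) + κ)
  refine ⟨h₀, fun h hh => ?_⟩
  have hLh := Groth.L18.Ample.isInvertible_tensorPow hL h
  have hc := Groth.L18.Ample.isCoh_of_isInvertible hLh
  have key : ∀ p : B, IsClosed ({p} : Set B) → Subsingleton (CohIII.fiberH f (CohB1.tensorPow L h) p 1) := by
    intro p hp
    obtain ⟨hIF, -, -, -⟩ := Groth.L03.SurfNum.fibre_ideal k hdimB f hp
    have hep : ii k (ClSub.idealMod (f.fiberι p).ker) L = -e := by
      rw [Groth.L03.SurfFib.FibreH1.ii_fibre_eq k hdimS hdimB f hp hq hL, neg_neg]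
    have hκp : ii k (ClSub.idealMod (f.fiberι p).ker) ω = -κ := by
      rw [Groth.L03.SurfFib.FibreH1.ii_fibre_eq k hdimS hdimB f hp hq hω, neg_neg]
    have he0 : 0 < e := by
      have h1 : (0 : ℚ) < (FGA.intNum k S 2 ![L'] (ClSub.quotMod (f.fiberι p).ker) : ℚ) := by
        exact_mod_cast hpos p hp
      rw [hone _ hIF, hep, neg_neg] at h1
      exact h1
    refine (Groth.L03.SurfFib.Zariski.subsingleton_fiberH_iff k f hp hLh 1).2 ?_
    refine Groth.L03.SurfFib.FibreH1.h1_fibre k hdimS hdimB f hconn hL hadj hω hp hep hκp he0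
      (fun y hy hyp => Groth.L03.SurfFib.FibreH1.canonical_nonneg k hdimS hdimB f hminy hω hadj hp (hg p hp) hy hyp)
      (fun y hy hyp => ?_) (hh₀.trans_le (by exact_mod_cast hh))
    obtain ⟨hi, hd1⟩ := hclosed y hy
    obtain ⟨h1, h2⟩ := hcomp _ (pt y).subschemeι inferInstance hi hd1 ⟨p, hrange y p hyp⟩
    rw [Scheme.IdealSheafData.ker_subschemeι] at h1 h2
    have hyI := Groth.L03.BlowPt.inv_curve (k := k) hd2 hreg hy
    have h3 : (0 : ℚ) ≤ (FGA.intNum k S 2 ![L'] (ClSub.quotMod (pt y)) : ℚ) := by exact_mod_cast h1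
    rw [hone _ hyI] at h3
    refine ⟨by linarith, fun h0 => ?_⟩
    have h4 : (FGA.intNum k S 2 ![L'] (ClSub.quotMod (pt y)) : ℚ) = ((0 : ℤ) : ℚ) := by
      rw [hone _ hyI, h0, neg_zero, Int.cast_zero]
    obtain ⟨-, hχ, hC⟩ := h2 (by exact_mod_cast h4)
    refine ⟨hχ, ?_⟩
    rw [← intNum_eq_ii k hd2.le, hC]
    norm_num
  have hloc : ∀ p : B, ∃ U : B.Opens, p ∈ U ∧ IsZero (((Coh.Rpush f 1).obj (CohB1.tensorPow L h)).restrict U.ι) := by
    intro p
    obtain ⟨c, hcl, hpc⟩ := Groth.L21.RR.exists_closed_specialization p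
    obtain ⟨U, hcU, hz, -⟩ := Groth.Agent.S7759.result f (CohB1.tensorPow L h) (Groth.L15.Ref.isFP_of_isCoh hc)
      (Groth.Agent.Pic0.isFlatOver_of_isInvertible f hLh) c (key c hcl)
    exact ⟨U, hpc.mem_open U.isOpen hcU, hz⟩
  choose U hpU hzU using hloc
  exact Groth.L21.Mod.isZero_of_restrict (fun p => (U p).ι) (fun p => ⟨p, ⟨p, hpU p⟩, rfl⟩) _ hzU

end Groth.Agent.S16974
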