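import Groth.Statements.S16975
import Groth.Agent.L03.SurfFib.Zariski
import Groth.Agent.L03.SurfFib.DivSections
import Groth.Agent.L29.DCoh.PullTensor
-- import your own Groth.Agent.* helpers here

set_option autoImplicit false
universe u
open CategoryTheory CategoryTheory.Limits AlgebraicGeometry TopologicalSpace
open Surf

namespace Groth.Agent.S16975

open Groth.L22 Groth.L22.Inter Groth.L22.Nef Groth.L22.Big Groth.L03.Euler Groth.L03.SurfNum
set_option backward.isDefEq.respectTransparency false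
set_option linter.style.haveILetI false
set_option maxHeartbeats 1000000


/-- Let f : S ⟶ B be a relatively minimal fibration of genus at least 2 over an algebraically closed
field k of characteristic 0 (S a smooth projective integral surface, B a smooth projective integral
curve, f a surjective k-morphism with O_B ⟶ f_*O_S an isomorphism, every closed fibre with χ(O_F) <
0, and no (-1)-curve in a fibre: every integral closed curve E ⊆ S with regular local rings, mapped
to a point and with χ(O_E) = 1, has E.E ≠ -1). Let p be a closed point of B, F = f⁻¹(p) its fibre, r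
≥ 1, and D = rF the closed subscheme of S whose ideal sheaf is the r-th power of the ideal sheaf
m_p·O_S of F. Let N be an invertible O_D-module with negative total degree, χ(N) - χ(O_D) < 0, and
with deg N|_C ≤ 0 for every integral closed curve C ⊆ D. Then H^0(D, N) = 0. -/
theorem result (k : Type u) [Field k] [IsAlgClosed k] [CharZero k]
    (S : Scheme.{u}) [S.Over (Spec (CommRingCat.of k))] [IsProper (S ↘ (Spec (CommRingCat.of k)))]
    [Smooth (S ↘ (Spec (CommRingCat.of k)))] [IsIntegral S] (hdimS : topologicalKrullDim S = 2)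
    (B : Scheme.{u}) [B.Over (Spec (CommRingCat.of k))] [IsProper (B ↘ (Spec (CommRingCat.of k)))]
    [Smooth (B ↘ (Spec (CommRingCat.of k)))] [IsIntegral B] (hdimB : topologicalKrullDim B = 1)
    (f : S ⟶ B) [f.IsOver (Spec (CommRingCat.of k))] [Surjective f] (hconn : IsIso (ClSub.unitToPush f))
    (hg : ∀ p : B, IsClosed ({p} : Set B) → Curv2.euler k S (ClSub.quotMod (f.fiberι p).ker) < 0)
    (hmin : ∀ (E : Scheme.{u}) (j : E ⟶ S), IsClosedImmersion j → IsIntegral E → topologicalKrullDim E = 1 →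
      (∀ e : E, IsRegularLocalRing (E.presheaf.stalk e)) → (∃ p : B, Set.range (j ≫ f).base ⊆ {p}) →
      Curv2.euler k S (ClSub.quotMod j.ker) = 1 →
      FGA.intNum k S 2 ![ClSub.idealMod j.ker, ClSub.idealMod j.ker] (Coh.structureModule S) ≠ -1)
    (p : B) (hp : IsClosed ({p} : Set B)) (r : ℕ) (hr : 1 ≤ r)
    (D : Scheme.{u}) [D.Over (Spec (CommRingCat.of k))] (ιD : D ⟶ S) [IsClosedImmersion ιD]
    (hιD : ιD ≫ (S ↘ Spec (CommRingCat.of k)) = D ↘ Spec (CommRingCat.of k))
    (hD : ιD.ker = ((Scheme.IdealSheafData.vanishingIdeal ⟨{p}, hp⟩).comap f) ^ r)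
    (N : D.Modules) (hN : PicF.IsInvertible N) (hneg : Curv2.deg k D N 1 < 0)
    (hcompD : ∀ (C : Scheme.{u}) [C.Over (Spec (CommRingCat.of k))] (i : C ⟶ D), IsClosedImmersion i →
      IsIntegral C → topologicalKrullDim C = 1 → i ≫ (D ↘ Spec (CommRingCat.of k)) = C ↘ Spec (CommRingCat.of k) →
      Curv2.deg k C ((Scheme.Modules.pullback i).obj N) 1 ≤ 0) :
    Subsingleton (Coh.HH D N 0) := by
  classical
  have hd2 : topologicalKrullDim S = (2 : ℕ) := hdimS.trans Nat.cast_ofNat.symm
  haveI := Groth.L21.RR.isNoetherian_of_proper (X := S) k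
  have hreg := Groth.L03.SurfAdj.reg_of_smooth k (X := S)
  haveI : IsProper (D ↘ Spec (CommRingCat.of k)) := by rw [← hιD]; infer_instance
  haveI := Groth.L21.RR.isNoetherian_of_proper (X := D) k
  obtain ⟨T, n, -, hT, hn, hTmem, hvert, hsupp, hF, hrow, hoff, hc⟩ :=
    Groth.L03.SurfFib.Zariski.fibre_config k hdimS hdimB f hconn hp
  obtain ⟨hIF, -, -, -⟩ := Groth.L03.SurfNum.fibre_ideal k hdimB f hp
  have hFe := (Groth.Agent.L19.IdealInvertible.isEffCartier_iff _).1 hIF
  rw [← Groth.L03.SurfFib.Zariski.ker_fiberι k f hp] at hD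
  have hDe : BlowUp.IsEffCartierIdeal ιD.ker := by
    rw [hD]
    simpa using Groth.L03.BlowPt.isEffCartier_prod (Finset.range r) (D := fun _ => (f.fiberι p).ker) fun _ _ => hFe
  have hrange : Set.range ιD = (ιD.ker.support : Set S) := by
    rw [Scheme.Hom.support_ker, ιD.isClosedEmbedding.isClosed_range.closure_eq]
  have hsub : (ιD.ker.support : Set S) ⊆ f ⁻¹' {p} := by
    rw [← hsupp, hD]
    exact Groth.L03.BlowPt.support_pow_subset _ _
  have hTD : ∀ y ∈ T, y ∈ Set.range ιD := fun y hy => by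
    rw [hrange, hD]
    obtain ⟨r', rfl⟩ := Nat.exists_eq_add_of_le hr
    rw [add_comm 1 r', pow_succ', Scheme.IdealSheafData.support_mul]
    exact Or.inl (by rw [hsupp]; exact hvert y hy y (subset_closure rfl))
  have hclos : ∀ z : D, topologicalKrullDim (closure ({ιD z} : Set S)) = topologicalKrullDim (closure ({z} : Set D)) := by
    intro z
    haveI := isIntegral_pt z
    have h1 := dim_closure_image ((pt z).subschemeι ≫ ιD)
    have h2 := dim_closure_image (pt z).subschemeι
    rw [genericPoint_pt] at h2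
    rw [Scheme.Hom.comp_apply, genericPoint_pt] at h1
    rw [h1, h2]
  -- the degree of the bundle on each curve of the fibre
  let d : S → ℚ := fun y => if h : ∃ z, ιD z = y then altT k (fun _ : Fin 1 => N) (ClSub.quotMod (pt h.choose)) else 0
  have hdz : ∀ z, d (ιD z) = altT k (fun _ : Fin 1 => N) (ClSub.quotMod (pt z)) := fun z => by
    have h : ∃ z', ιD z' = ιD z := ⟨z, rfl⟩
    simp only [d, dif_pos h]
    rw [ιD.isClosedEmbedding.injective h.choose_spec]
  have hfacts : ∀ y ∈ T, d y ≤ 0 ∧ ∀ I : S.IdealSheafData, BlowUp.IsEffCartierIdeal I →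
      d y - ii k (ClSub.idealMod I) (ClSub.idealMod (pt y)) < 0 →
      Subsingleton (Coh.HH S (CohB1.tensorMod ((Scheme.Modules.pushforward ιD).obj N)
        (CohB1.tensorMod (ClSub.idealMod I) (ClSub.quotMod (pt y)))) 0) := by
    intro y hy
    obtain ⟨z, rfl⟩ := hTD y hy
    haveI := isIntegral_pt z
    let i := (pt z).subschemeι
    let g := i ≫ ιD
    letI : (pt z).subscheme.Over (Spec (CommRingCat.of k)) := ⟨g ≫ (S ↘ Spec (CommRingCat.of k))⟩
    haveI : IsProper ((pt z).subscheme ↘ Spec (CommRingCat.of k)) :=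
      inferInstanceAs (IsProper (g ≫ (S ↘ Spec (CommRingCat.of k))))
    have hi : i ≫ (D ↘ Spec (CommRingCat.of k)) = (pt z).subscheme ↘ Spec (CommRingCat.of k) := by
      rw [← hιD]; exact (Category.assoc _ _ _).symm
    have hgen : g (genericPoint (pt z).subscheme) = ιD z := by
      show ιD (i (genericPoint (pt z).subscheme)) = ιD z
      rw [genericPoint_pt]
    have hdC : topologicalKrullDim (pt z).subscheme = (1 : ℕ) := by
      rw [← dim_closure_image g, hgen]; exact hT _ hy
    have hker : g.ker = pt (ιD z) := by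
      rw [Groth.L23.SchKer.ker_eq_vanishingIdeal]
      congr 1
      refine TopologicalSpace.Closeds.ext ?_
      show closure (Set.range g) = closure {ιD z}
      rw [show Set.range g = ιD '' Set.range i from Set.range_comp ιD i, range_pt,
        ← ιD.isClosedEmbedding.closure_image_eq, Set.image_singleton, closure_closure]
    have hNC := Groth.L18.Ample.isInvertible_pullback i hN
    have hdeg : (Curv2.deg k (pt z).subscheme ((Scheme.Modules.pullback i).obj N) 1 : ℚ) = d (ιD z) := by
      rw [Groth.L03.SurfFib.DivSections.deg_eq_altT, altT_push_eq k i hi hdC (L := fun _ : Fin 1 => N) fun _ => hN,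
        genericPoint_pt, hdz]
    refine ⟨by
      rw [← hdeg]
      exact_mod_cast hcompD _ i inferInstance inferInstance (hdC.trans Nat.cast_one) hi, fun I hI hneg => ?_⟩
    have hIi : PicF.IsInvertible (ClSub.idealMod I) := (Groth.Agent.L19.IdealInvertible.isEffCartier_iff _).2 hI
    have hpi : PicF.IsInvertible (ClSub.idealMod (pt (ιD z))) :=
      Groth.L03.BlowPt.inv_curve (k := k) hd2 hreg (hT _ hy)
    have hIC := Groth.L18.Ample.isInvertible_pullback g hIi
    have hdegI : (Curv2.deg k (pt z).subscheme ((Scheme.Modules.pullback g).obj (ClSub.idealMod I)) 1 : ℚ) =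
        - ii k (ClSub.idealMod I) (ClSub.idealMod (pt (ιD z))) := by
      rw [Groth.L03.SurfFib.DivSections.deg_eq_altT, altT_push_eq k g rfl hdC (L := fun _ : Fin 1 => ClSub.idealMod I) fun _ => hIi,
        hgen, altT_quotMod_eq k hIi _ hpi, ii_comm]
    let L := CohB1.tensorMod ((Scheme.Modules.pullback i).obj N) ((Scheme.Modules.pullback g).obj (ClSub.idealMod I))
    have hL : PicF.IsInvertible L := Groth.L18.GenLoc.isInvertible_tensor hNC hIC
    have hLneg : Curv2.deg k (pt z).subscheme L 1 < 0 := by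
      rw [Groth.L21.Duality.deg_tensor (hdC.trans Nat.cast_one) hNC hIC]
      have : ((Curv2.deg k (pt z).subscheme ((Scheme.Modules.pullback i).obj N) 1 +
          Curv2.deg k (pt z).subscheme ((Scheme.Modules.pullback g).obj (ClSub.idealMod I)) 1 : ℤ) : ℚ) < 0 := by
        push_cast
        rw [hdeg, hdegI]
        linarith
      exact_mod_cast this
    haveI := Groth.L03.SurfFib.DivSections.subsingleton_h0 k hdC hL hLneg
    let M := (Scheme.Modules.pushforward ιD).obj N
    haveI := Groth.L17.ClosedPush.isIso_counit ιD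
    let eM : (Scheme.Modules.pullback g).obj M ≅ (Scheme.Modules.pullback i).obj N :=
      ((Scheme.Modules.pullbackComp i ιD).app M).symm ≪≫ (Scheme.Modules.pullback i).mapIso
        ((asIso (Scheme.Modules.pullbackPushforwardAdjunction ιD).counit).app N)
    obtain ⟨eq⟩ := Groth.L03.SurfFib.PushTensor.nonempty_push_iso_quot g
    rw [hker] at eq
    let e : CohB1.tensorMod M (CohB1.tensorMod (ClSub.idealMod I) (ClSub.quotMod (pt (ιD z)))) ≅
        (Scheme.Modules.pushforward g).obj L :=
      (Groth.L00.Tensor.tensorAssoc _ _ _).symm ≪≫ Groth.L00.Tensor.tensorIso (Iso.refl _) eq.symm ≪≫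
        Groth.L03.SurfFib.PushTensor.tensorPushIso g _ ≪≫ (Scheme.Modules.pushforward g).mapIso
          ((Groth.L29.DC.PullTensor.pullTensor g M (ClSub.idealMod I)).symm ≪≫
            Groth.L00.Tensor.tensorIso eM (Iso.refl _))
    obtain ⟨q⟩ := Groth.L14.LocHilbLift.nonempty_HH_pushEquiv (k := k) g rfl L 0
    exact ((Groth.L03.SurfAdj.hhEquiv k e 0).trans q).toEquiv.subsingleton
  -- somewhere the degree is negative
  obtain ⟨y₀, hy₀, hd₀⟩ : ∃ y ∈ T, d y < 0 := by
    by_contra hall
    push Not at hall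
    have hdD : topologicalKrullDim D ≤ (1 : ℕ) := by
      rw [IsHomeomorph.topologicalKrullDim_eq _ ιD.isClosedEmbedding.isEmbedding.toHomeomorph.isHomeomorph, hrange]
      exact dim_le_of_generic_notMem ιD.ker.support.isClosed
        (Groth.L03.SurfAmple.genericPoint_mem_of_isEffCartier hDe) hd2.le
    let TD : Finset D := T.preimage ιD ιD.isClosedEmbedding.injective.injOn
    have h1 := altT_eq_sum k (L := fun _ : Fin 1 => N) (fun _ => hN) isClosed_univ
      ((Homeomorph.Set.univ D).isHomeomorph.topologicalKrullDim_eq _ |>.trans_le hdD) TD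
      (fun z => by
        simp only [TD, Finset.mem_preimage, Set.mem_univ, true_and]
        refine ⟨fun h => (hclos z).symm.trans (hT _ h), fun h => hTmem _ (hsub (hrange ▸ Set.mem_range_self z))
          ((hclos z).trans h)⟩)
      (fun z => ClSub.quotMod (pt z)) (fun z _ => pt_facts z) (F := Coh.structureModule D)
      Groth.L16.CohClosedPush.isCoh_structure (Set.subset_univ _)
    have h2 : (0 : ℚ) ≤ altT k (fun _ : Fin 1 => N) (Coh.structureModule D) := by
      rw [h1]
      refine Finset.sum_nonneg fun z hz => mul_nonneg (Nat.cast_nonneg _) ?_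
      rw [← hdz]
      exact hall _ (Finset.mem_preimage.1 hz)
    rw [← Groth.L03.SurfFib.DivSections.deg_eq_altT] at h2
    have h3 : (0 : ℤ) ≤ Curv2.deg k D N 1 := by exact_mod_cast h2
    omega
  refine Groth.L03.SurfFib.DivSections.subsingleton_of_steps ιD k hιD hd2 hreg hN hDe fun I m hI hm hm0 he => ?_
  have hJ := Groth.L03.BlowPt.Ramanujam.isEffCartier_prodPt k hd2 hreg m hm
  have hin : ∀ x : S, x ∈ (I.support : Set S) ∨ x ∈ ((Groth.L03.BlowPt.Ramanujam.prodPt m).support : Set S) → f x = p :=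
    fun x hx => hsub (by rw [← he, Scheme.IdealSheafData.support_mul]; exact hx)
  obtain ⟨a, ha⟩ := Groth.L03.BlowPt.exists_factor k hd2 hreg hI hT fun y hy h1 => hTmem y (hin y (Or.inl hy)) h1
  obtain ⟨c, hc'⟩ := Groth.L03.BlowPt.exists_factor k hd2 hreg hJ hT fun y hy h1 => hTmem y (hin y (Or.inr hy)) h1
  have hfac : ∏ y ∈ T, pt y ^ (a y + c y) = ∏ y ∈ T, pt y ^ (r * n y) := by
    calc ∏ y ∈ T, pt y ^ (a y + c y) = I * Groth.L03.BlowPt.Ramanujam.prodPt m := by
          rw [ha, hc', ← Finset.prod_mul_distrib]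
          exact Finset.prod_congr rfl fun y _ => pow_add _ _ _
      _ = ∏ y ∈ T, pt y ^ (r * n y) := by
          rw [he, hD, hF, ← Finset.prod_pow]
          exact Finset.prod_congr rfl fun y _ => by rw [← pow_mul, mul_comm]
  have hac : ∀ y ∈ T, a y + c y = r * n y := fun y hy => by
    obtain ⟨U, hU, hyU, -⟩ := AlgebraicGeometry.exists_isAffineOpen_mem_and_subset (x := y) (U := ⊤) trivial
    have h1 := congrArg (fun I => Groth.L03.BlowPt.stalkIdeal I ⟨U, hU⟩ hyU) hfac
    rw [Groth.L03.BlowPt.stalkIdeal_prod_pt k hd2 hreg hT _ hy,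
      Groth.L03.BlowPt.stalkIdeal_prod_pt k hd2 hreg hT _ hy] at h1
    exact Groth.L03.BlowPt.maximalIdeal_pow_inj k hd2 hreg (hT y hy) h1
  have hcm : ∀ y ∈ T, 0 < c y → y ∈ m := fun y hy hcy => by
    have h1 : y ∈ ((Groth.L03.BlowPt.Ramanujam.prodPt m).support : Set S) := by
      rw [hc', Groth.L03.BlowPt.mem_support_prod]
      refine ⟨y, hy, ?_⟩
      obtain ⟨c', hc''⟩ := Nat.exists_eq_add_of_le hcy
      rw [hc'', show Nat.succ 0 + c' = c' + 1 by omega, pow_succ', Scheme.IdealSheafData.support_mul]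
      exact Or.inl ((Groth.L18.support_vanishingIdeal _).ge (subset_closure rfl))
    obtain ⟨y', hy', hyy⟩ := Groth.L03.BlowPt.Ramanujam.exists_mem_of_mem_support m h1
    by_contra hne
    exact Groth.L03.BlowPt.not_mem_pt_of_ne k hd2 hreg (hT y hy) (hm y' hy') (fun e => hne (e ▸ hy')) hyy
  obtain ⟨y₁, hy₁, hc₁⟩ : ∃ y ∈ T, 0 < c y := by
    by_contra h
    push Not at h
    obtain ⟨y, hy⟩ := Multiset.exists_mem_of_ne_zero hm0
    obtain ⟨m', rfl⟩ := Multiset.exists_cons_of_mem hy
    have h1 : y ∈ ((Groth.L03.BlowPt.Ramanujam.prodPt (y ::ₘ m')).support : Set S) := by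
      rw [Groth.L03.BlowPt.Ramanujam.prodPt_cons, Scheme.IdealSheafData.support_mul]
      exact Or.inl ((Groth.L18.support_vanishingIdeal _).ge (subset_closure rfl))
    rw [hc', Finset.prod_eq_one fun y hy => by rw [Nat.le_zero.1 (h y hy), pow_zero],
      Scheme.IdealSheafData.one_eq_top, Scheme.IdealSheafData.support_top] at h1
    exact h1
  have hinv : ∀ y ∈ T, PicF.IsInvertible (ClSub.idealMod (pt y)) := fun y hy =>
    Groth.L03.BlowPt.inv_curve (k := k) hd2 hreg (hT y hy)
  set G : T → T → ℚ := fun i j => ii k (ClSub.idealMod (pt i.1)) (ClSub.idealMod (pt j.1))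
  have hrow' : ∀ i : T, ∑ j : T, G i j * (n j.1 : ℚ) = 0 := fun i => by
    rw [← hrow i.1 i.2]
    exact Finset.sum_coe_sort T (fun j => ii k (ClSub.idealMod (pt i.1)) (ClSub.idealMod (pt j)) * (n j : ℚ))
  have hA : ∀ i : T, ii k (ClSub.idealMod I) (ClSub.idealMod (pt i.1)) = - ∑ j : T, (c j.1 : ℚ) * G i j := fun i => by
    rw [ha, Groth.L03.SurfFib.Zariski.ii_prod_pt k hd2 hT a (hinv i.1 i.2), ← Finset.sum_coe_sort, eq_neg_iff_add_eq_zero,
      ← Finset.sum_add_distrib]
    calc ∑ j : T, ((a j.1 : ℚ) * ii k (ClSub.idealMod (pt j.1)) (ClSub.idealMod (pt i.1)) + (c j.1 : ℚ) * G i j)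
        = ∑ j : T, (r : ℚ) * (G i j * (n j.1 : ℚ)) := by
          refine Finset.sum_congr rfl fun j _ => ?_
          have h1 : (a j.1 : ℚ) + c j.1 = (r : ℚ) * n j.1 := by exact_mod_cast hac j.1 j.2
          rw [ii_comm k (ClSub.idealMod (pt j.1))]
          linear_combination (G i j) * h1
      _ = 0 := by rw [← Finset.mul_sum, hrow' i, mul_zero]
  obtain ⟨hle, heq⟩ := Groth.L03.SurfFib.Zariski.multiple_of_null G (fun i j => ii_comm k _ _)
    (fun i j h => hoff i.1 i.2 j.1 j.2 fun e => h (Subtype.ext e)) hc (fun i => (n i.1 : ℚ))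
    (fun i => by exact_mod_cast hn i.1 i.2) hrow' (fun i => (c i.1 : ℚ))
  suffices hex : ∃ i : T, 0 < c i.1 ∧ d i.1 - ii k (ClSub.idealMod I) (ClSub.idealMod (pt i.1)) < 0 by
    obtain ⟨i, hci, hlt⟩ := hex
    exact ⟨i.1, hcm i.1 i.2 hci, (hfacts i.1 i.2).2 I hI hlt⟩
  by_contra hno
  push Not at hno
  have h1 : 0 ≤ ∑ i : T, (c i.1 : ℚ) * (d i.1 - ii k (ClSub.idealMod I) (ClSub.idealMod (pt i.1))) :=
    Finset.sum_nonneg fun i _ => by
      rcases Nat.eq_zero_or_pos (c i.1) with h | h
      · simp [h]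
      · exact mul_nonneg (Nat.cast_nonneg _) (hno i h)
  have h2 : ∑ i : T, (c i.1 : ℚ) * d i.1 ≤ 0 := Finset.sum_nonpos fun i _ =>
    mul_nonpos_of_nonneg_of_nonpos (Nat.cast_nonneg _) (hfacts i.1 i.2).1
  have h3 : ∑ i : T, (c i.1 : ℚ) * (d i.1 - ii k (ClSub.idealMod I) (ClSub.idealMod (pt i.1))) =
      ∑ i : T, (c i.1 : ℚ) * d i.1 + ∑ i : T, ∑ j : T, (c i.1 : ℚ) * c j.1 * G i j := by
    rw [← Finset.sum_add_distrib]
    refine Finset.sum_congr rfl fun i _ => ?_
    rw [hA i, sub_neg_eq_add, mul_add, Finset.mul_sum]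
    congr 1
    exact Finset.sum_congr rfl fun j _ => by ring
  have h4 := heq (by linarith) ⟨y₁, hy₁⟩ ⟨y₀, hy₀⟩
  have hc₀ : (0 : ℚ) < c y₀ := by
    have h5 : (0 : ℚ) < (c y₁ : ℚ) * n y₀ := by
      have := hn y₀ hy₀
      positivity
    rw [h4] at h5
    exact pos_of_mul_pos_left h5 (Nat.cast_nonneg _)
  have h6 : ∑ i : T, (c i.1 : ℚ) * d i.1 < 0 := by
    refine Finset.sum_neg' (fun i _ => mul_nonpos_of_nonneg_of_nonpos (Nat.cast_nonneg _) (hfacts i.1 i.2).1)
      ⟨⟨y₀, hy₀⟩, Finset.mem_univ _, mul_neg_of_pos_of_neg hc₀ hd₀⟩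
  linarith

end Groth.Agent.S16975
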