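import Groth.Statements.S16976
import Groth.Agent.L03.SurfFib.Zariski
-- import your own Groth.Agent.* helpers here

set_option autoImplicit false
universe u
open CategoryTheory CategoryTheory.Limits AlgebraicGeometry TopologicalSpace
open Surf

namespace Groth.Agent.S16976

open Groth.L22.Inter Groth.L22.Nef Groth.L22.Big


/-- Let f : S ⟶ B be a relatively minimal fibration of genus at least 2 over an algebraically closed
field k of characteristic 0 (S a smooth projective integral surface, B a smooth projective integral
curve, f a surjective k-morphism with O_B ⟶ f_*O_S an isomorphism, every closed fibre with χ(O_F) <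
0, and no (-1)-curve in a fibre: every integral closed curve E ⊆ S with regular local rings, mapped
to a point and with χ(O_E) = 1, has E.E ≠ -1). Let F = f⁻¹(p) be the fibre over a closed point, with
ideal sheaf I_F = m_p·O_S. Then F is a positive multiple m·E of a 1-connected effective divisor E:
for every m ≥ 1 and every locally principal ideal sheaf I_E with I_E^m = I_F that is not the n-th
power (n ≥ 2) of a locally principal ideal sheaf (so that E = F/m with m the greatest common divisor
of the multiplicities of F), and for every factorisation I_E = I_A · I_B with I_A, I_B locally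
principal ideal sheaves different from O_S (an effective decomposition E = A + B), the intersection
number A.B — computed as the intersection number of the ideal sheaves I_A, I_B on S — is at least 1. -/
theorem result (k : Type u) [Field k] [IsAlgClosed k] [CharZero k]
    (S : Scheme.{u}) [S.Over (Spec (CommRingCat.of k))] [IsProper (S ↘ (Spec (CommRingCat.of k)))]
    [Smooth (S ↘ (Spec (CommRingCat.of k)))] [IsIntegral S] (hdimS : topologicalKrullDim S = 2)
    (B : Scheme.{u}) [B.Over (Spec (CommRingCat.of k))] [IsProper (B ↘ (Spec (CommRingCat.of k)))]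
    [Smooth (B ↘ (Spec (CommRingCat.of k)))] [IsIntegral B] (hdimB : topologicalKrullDim B = 1)
    (f : S ⟶ B) [f.IsOver (Spec (CommRingCat.of k))] [Surjective f] (hconn : IsIso (ClSub.unitToPush f))
    (hg : ∀ p : B, IsClosed ({p} : Set B) → Curv2.euler k S (ClSub.quotMod (f.fiberι p).ker) < 0)
    (hmin : ∀ (E : Scheme.{u}) (j : E ⟶ S), IsClosedImmersion j → IsIntegral E → topologicalKrullDim E = 1 →
      (∀ e : E, IsRegularLocalRing (E.presheaf.stalk e)) → (∃ p : B, Set.range (j ≫ f).base ⊆ {p}) →
      Curv2.euler k S (ClSub.quotMod j.ker) = 1 →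
      FGA.intNum k S 2 ![ClSub.idealMod j.ker, ClSub.idealMod j.ker] (Coh.structureModule S) ≠ -1)
    (p : B) (hp : IsClosed ({p} : Set B))
    (m : ℕ) (hm : 1 ≤ m) (IE : S.IdealSheafData) (hIE : Curv2.IsLocPrincipal IE)
    (hpow : IE ^ m = (Scheme.IdealSheafData.vanishingIdeal ⟨{p}, hp⟩).comap f)
    (hprim : ∀ n : ℕ, 2 ≤ n → ∀ J : S.IdealSheafData, Curv2.IsLocPrincipal J → J ^ n ≠ IE)
    (IA IB : S.IdealSheafData) (hIA : Curv2.IsLocPrincipal IA) (hIB : Curv2.IsLocPrincipal IB)
    (hA : IA ≠ ⊤) (hB : IB ≠ ⊤) (hAB : IA * IB = IE) :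
    1 ≤ FGA.intNum k S 2 ![ClSub.idealMod IA, ClSub.idealMod IB] (Coh.structureModule S) := by
  have hd : topologicalKrullDim S = (2 : ℕ) := hdimS.trans Nat.cast_ofNat.symm
  have h := Groth.L03.SurfFib.Zariski.fibre_factor_pos k hdimS hdimB f hconn hp hm (IE := IE) (IA := IA) (IB := IB)
    (hpow.trans (Groth.L03.SurfFib.Zariski.ker_fiberι k f hp).symm)
    (fun n hn J hJ => hprim n hn J fun x _ => by
      obtain ⟨U, hx, g, -, hg, -⟩ := Groth.L22.Ideals.exists_generator hJ x
      exact ⟨U, hx, g, hg⟩) hA hB hAB
  rw [← intNum_eq_ii k hd.le] at h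
  have h' : 0 < FGA.intNum k S 2 ![ClSub.idealMod IA, ClSub.idealMod IB] (Coh.structureModule S) := by exact_mod_cast h
  omega

end Groth.Agent.S16976
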