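import Groth.Statements.S16979
import Mathlib.LinearAlgebra.Matrix.Charpoly.Coeff
import Mathlib.FieldTheory.IsAlgClosed.AlgebraicClosure
import Mathlib.Algebra.Polynomial.Splits
import Mathlib.RingTheory.Localization.FractionRing
import Mathlib.LinearAlgebra.Matrix.ToLinearEquiv

set_option autoImplicit false
universe u v
open CAlg

namespace Groth.Agent.S16979

/-- Let R be an integral domain with fraction field K and φ a square matrix over R whose characteristic
polynomial becomes separable in K[T] (equivalently, K[T] modulo the characteristic polynomial is
geometrically reduced over K). Then a polynomial f over R satisfies f(φ) = 0 exactly when the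
characteristic polynomial of φ divides f in R[T]: the kernel of evaluation at φ (the minimal ideal
of φ) is the principal ideal generated by the characteristic polynomial. -/
theorem result
    {R : Type u} [CommRing R] [IsDomain R] {n : Type v} [Fintype n] [DecidableEq n]
    (φ : Matrix n n R)
    (hsep : (φ.charpoly.map (algebraMap R (FractionRing R))).Separable) :
    RingHom.ker (Polynomial.aeval (R := R) φ) = Ideal.span {φ.charpoly} := by
  classical
  refine le_antisymm (fun p hp => Ideal.mem_span_singleton.mpr ?_) ?_
  · by_cases hpne : p = 0
    · rw [hpne]; exact dvd_zero _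
    let K := FractionRing R
    let L := AlgebraicClosure K
    let g : R →+* L := (algebraMap K L).comp (algebraMap R K)
    have hinj : Function.Injective g :=
      (algebraMap K L).injective.comp (IsFractionRing.injective R K)
    rw [← Polynomial.map_dvd_map g hinj (Matrix.charpoly_monic φ)]
    have hsepL : (φ.charpoly.map g).Separable := by
      rw [← Polynomial.map_map]; exact hsep.map
    have hsplit : (φ.charpoly.map g).Splits := IsAlgClosed.splits _
    refine hsplit.dvd_of_roots_le_roots ((Matrix.charpoly_monic φ).map g).ne_zero ?_
    rw [(Multiset.le_iff_subset (Polynomial.nodup_roots hsepL))]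
    intro μ hμ
    rw [Polynomial.mem_roots', Polynomial.IsRoot.def, ← Matrix.charpoly_map,
      Matrix.eval_charpoly, ← Matrix.exists_mulVec_eq_zero_iff] at hμ
    obtain ⟨-, v, hv, hev⟩ := hμ
    have hp' : Polynomial.aeval (φ.map g) (p.map g) = 0 := by
      have h0 : (Polynomial.aeval φ p).map g = 0 := by
        rw [RingHom.mem_ker.mp hp]; simp
      rw [← h0, Polynomial.aeval_def, Polynomial.eval₂_map, Polynomial.aeval_def]
      refine Eq.trans ?_ (Polynomial.hom_eval₂ p (algebraMap R (Matrix n n R)) g.mapMatrix φ).symm
      congr 1
      refine RingHom.ext fun r => Matrix.ext fun i j => ?_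
      simp [Matrix.algebraMap_matrix_apply, apply_ite g]
    have heig : (φ.map g).mulVec v = μ • v := by
      rw [Matrix.sub_mulVec, sub_eq_zero] at hev
      rw [← hev]
      ext i
      simp [Matrix.scalar_apply, Matrix.mulVec_diagonal]
    have key : ∀ q : Polynomial L, (Polynomial.aeval (φ.map g) q).mulVec v = q.eval μ • v := by
      intro q
      induction q using Polynomial.induction_on' with
      | add a b ha hb => simp [Matrix.add_mulVec, ha, hb, add_smul]
      | monomial k c =>
        have hk : ((φ.map g) ^ k).mulVec v = μ ^ k • v := by
          induction k with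
          | zero => simp
          | succ k ih => rw [pow_succ', ← Matrix.mulVec_mulVec, ih, Matrix.mulVec_smul, heig,
              smul_smul, ← pow_succ]
        simp [Polynomial.aeval_monomial, ← Matrix.mulVec_mulVec, hk, Algebra.algebraMap_eq_smul_one,
          Matrix.smul_mulVec, smul_smul]
    have := key (p.map g)
    rw [hp', Matrix.zero_mulVec, eq_comm, smul_eq_zero] at this
    exact (Polynomial.mem_roots ((Polynomial.map_ne_zero_iff hinj).mpr hpne)).mpr (this.resolve_right hv)
  · rw [Ideal.span_singleton_le_iff_mem, RingHom.mem_ker]
    exact Matrix.aeval_self_charpoly φ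

end Groth.Agent.S16979
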