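import Groth.Statements.S16980
import Mathlib.RingTheory.Kaehler.Basic
import Mathlib.Algebra.TrivSqZeroExt.Ideal
import Mathlib.Algebra.MvPolynomial.PDeriv
import Mathlib.Algebra.MvPolynomial.Division
import Mathlib.RingTheory.Polynomial.Basic
import Mathlib.Tactic.LinearCombination
import Mathlib.Tactic.Ring

set_option autoImplicit false
universe u
open CAlg

namespace Groth.Agent.S16980

variable {_unused : Unit}
open MvPolynomial TensorProduct

section
variable {A : Type u} [CommRing A]

/-- `X 0 * X 1 - C t` is a non zero divisor. -/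
theorem mul_node_eq_zero {t : A} {p : MvPolynomial (Fin 2) A} (h : p * (X 0 * X 1 - C t) = 0) : p = 0 := by
  classical
  set e : Fin 2 →₀ ℕ := Finsupp.single 0 1 + Finsupp.single 1 1 with he
  have hX : (X 0 * X 1 : MvPolynomial (Fin 2) A) = monomial e 1 := by
    rw [X, X, monomial_mul, mul_one]
  have hrec : ∀ D, p.coeff D = t * p.coeff (D + e) := fun D => by
    have h1 := congrArg (coeff (D + e)) h
    rw [hX, mul_sub, coeff_sub, coeff_mul_monomial, coeff_zero, mul_comm p (C t), coeff_C_mul, mul_one, sub_eq_zero] at h1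
    exact h1
  ext D
  rw [coeff_zero]
  have hn : ∀ n : ℕ, p.coeff D = t ^ n * p.coeff (D + n • e) := by
    intro n
    induction n with
    | zero => simp
    | succ n ih => rw [ih, hrec, pow_succ, mul_assoc, succ_nsmul, add_assoc]
  rw [hn (p.totalDegree + 1), coeff_eq_zero_of_totalDegree_lt, mul_zero]
  calc p.totalDegree < p.totalDegree + 1 := Nat.lt_succ_self _
    _ ≤ (D + (p.totalDegree + 1) • e) 0 := by simp [he]
    _ ≤ ∑ i ∈ (D + (p.totalDegree + 1) • e).support, (D + (p.totalDegree + 1) • e) i :=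
      Finset.single_le_sum (f := fun i => (D + (p.totalDegree + 1) • e) i) (fun _ _ => Nat.zero_le _) (by simp [he])

theorem dvd_of_mul_dvd {t : A} {f g h : MvPolynomial (Fin 2) A} (hx : f * X 0 = g * (X 0 * X 1 - C t))
    (hy : f * X 1 = h * (X 0 * X 1 - C t)) : f ∈ Ideal.span {(X 0 * X 1 - C t : MvPolynomial (Fin 2) A)} := by
  classical
  have h0 : g * X 1 = h * X 0 := sub_eq_zero.mp (mul_node_eq_zero (t := t) (by linear_combination (X 0) * hy - (X 1) * hx))
  have hd : X 0 ∣ g := by
    rw [X_dvd_iff_modMonomial_eq_zero]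
    ext D
    rw [coeff_zero]
    by_cases hD : Finsupp.single 0 1 ≤ D
    · exact coeff_modMonomial_of_le _ hD
    · rw [coeff_modMonomial_of_not_le _ hD]
      have h1 := congrArg (coeff (D + Finsupp.single 1 1)) h0
      rw [coeff_mul_X, coeff_mul_X', if_neg] at h1
      · exact h1
      · simp only [Finsupp.mem_support_iff, not_not, Finsupp.single_le_iff] at hD ⊢
        simp; omega
  obtain ⟨g', rfl⟩ := hd
  refine Ideal.mem_span_singleton'.mpr ⟨g', ?_⟩
  have h2 : (f - g' * (X 0 * X 1 - C t)) * X 0 = 0 := by linear_combination hx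
  refine (sub_eq_zero.mp ?_).symm
  ext D
  have h3 := congrArg (coeff (D + Finsupp.single 0 1)) h2
  rwa [coeff_mul_X, coeff_zero] at h3

end

section
variable (A : Type u) [CommRing A] (J : Type u) [AddCommGroup J] [Module A J] [Module Aᵐᵒᵖ J] [IsCentralScalar A J]
  (τ : TrivSqZeroExt A J)
  (B : Type u) [CommRing B] [Algebra (TrivSqZeroExt A J) B] [Algebra A B]
  [IsScalarTower A (TrivSqZeroExt A J) B] (x y : B)

noncomputable abbrev q : MvPolynomial (Fin 2) (TrivSqZeroExt A J) →ₐ[TrivSqZeroExt A J] B := aeval ![x, y]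

abbrev II : Ideal B := Ideal.map (algebraMap (TrivSqZeroExt A J) B) (TrivSqZeroExt.kerIdeal A J)

noncomputable abbrev σ : MvPolynomial (Fin 2) (TrivSqZeroExt A J) →+* MvPolynomial (Fin 2) (TrivSqZeroExt A J) :=
  MvPolynomial.map ((TrivSqZeroExt.inlHom A J).comp (TrivSqZeroExt.fstHom A A J).toRingHom)

theorem sub_σ_mem (f : MvPolynomial (Fin 2) (TrivSqZeroExt A J)) :
    f - σ A J f ∈ (TrivSqZeroExt.kerIdeal A J).map C := by
  rw [mem_map_C_iff]
  intro m
  rw [coeff_sub, coeff_map]
  show TrivSqZeroExt.fstHom A A J _ = 0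
  simp [TrivSqZeroExt.inlHom]

theorem q_mem {f : MvPolynomial (Fin 2) (TrivSqZeroExt A J)} (hf : f ∈ (TrivSqZeroExt.kerIdeal A J).map C) :
    q A J B x y f ∈ II A J B := by
  have h := Ideal.mem_map_of_mem (q A J B x y).toRingHom hf
  rw [Ideal.map_map] at h
  have e : (q A J B x y).toRingHom.comp C = algebraMap (TrivSqZeroExt A J) B := RingHom.ext fun r => aeval_C _ r
  rwa [e] at h

theorem II_mul {a b : B} (ha : a ∈ II A J B) (hb : b ∈ II A J B) : a * b = 0 := by
  have h := Ideal.mul_mem_mul ha hb
  rwa [← Ideal.map_mul, ← pow_two, TrivSqZeroExt.kerIdeal_sq, Ideal.map_bot, Ideal.mem_bot] at h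

/-- First component. -/
noncomputable def e1 (f : MvPolynomial (Fin 2) (TrivSqZeroExt A J)) : II A J B :=
  ⟨q A J B x y (f - σ A J f), q_mem A J B x y (sub_σ_mem A J f)⟩

noncomputable def gen : II A J B × (B ⧸ II A J B) × (B ⧸ II A J B) :=
  (e1 A J B x y (X 0 * X 1 - C τ), Ideal.Quotient.mk _ y, Ideal.Quotient.mk _ x)

abbrev M : Type u :=
  (II A J B × (B ⧸ II A J B) × (B ⧸ II A J B)) ⧸ Submodule.span B {gen A J τ B x y}

noncomputable def d (f : MvPolynomial (Fin 2) (TrivSqZeroExt A J)) : M A J τ B x y :=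
  Submodule.Quotient.mk (e1 A J B x y f, Ideal.Quotient.mk _ (q A J B x y (pderiv 0 f)),
    Ideal.Quotient.mk _ (q A J B x y (pderiv 1 f)))

theorem d_add (a b : MvPolynomial (Fin 2) (TrivSqZeroExt A J)) : d A J τ B x y (a + b) = d A J τ B x y a + d A J τ B x y b := by
  rw [d, d, d, ← Submodule.Quotient.mk_add]
  congr 1
  refine Prod.ext (Subtype.ext ?_) (Prod.ext ?_ ?_) <;> simp [e1, map_add, map_sub] <;> ring

theorem d_mul (a b : MvPolynomial (Fin 2) (TrivSqZeroExt A J)) :
    d A J τ B x y (a * b) = q A J B x y a • d A J τ B x y b + q A J B x y b • d A J τ B x y a := by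
  rw [d, d, d, ← Submodule.Quotient.mk_smul, ← Submodule.Quotient.mk_smul, ← Submodule.Quotient.mk_add]
  congr 1
  refine Prod.ext (Subtype.ext ?_) (Prod.ext ?_ ?_)
  · have h := II_mul A J B (q_mem A J B x y (sub_σ_mem A J a)) (q_mem A J B x y (sub_σ_mem A J b))
    simp only [e1, Prod.fst_add, Prod.smul_fst, Submodule.coe_add, Submodule.coe_smul_of_tower, smul_eq_mul, map_mul, map_sub] at h ⊢
    linear_combination -h
  · simp only [Prod.smul_snd, Prod.snd_add, Prod.smul_fst, Prod.fst_add]
    simp [Algebra.smul_def, Derivation.leibniz]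
  · simp only [Prod.smul_snd, Prod.snd_add]
    simp [Algebra.smul_def, Derivation.leibniz]

theorem d_C_inl (r : A) : d A J τ B x y (C (TrivSqZeroExt.inl r)) = 0 := by
  rw [d]
  have e : (e1 A J B x y (C (TrivSqZeroExt.inl r))) = 0 := Subtype.ext (by simp [e1, TrivSqZeroExt.inlHom])
  simp [e]
  exact Submodule.zero_mem _

variable (hsurj : Function.Surjective (q A J B x y)) (hker : RingHom.ker (q A J B x y) = Ideal.span {X 0 * X 1 - C τ})

include hker in
theorem d_zero {f : MvPolynomial (Fin 2) (TrivSqZeroExt A J)} (hf : q A J B x y f = 0) : d A J τ B x y f = 0 := by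
  have hf' : f ∈ RingHom.ker (q A J B x y) := hf
  rw [hker] at hf'
  obtain ⟨w, rfl⟩ := Ideal.mem_span_singleton'.mp hf'
  have h0 : q A J B x y (X 0 * X 1 - C τ) = 0 := by
    have : (X 0 * X 1 - C τ : MvPolynomial (Fin 2) (TrivSqZeroExt A J)) ∈ RingHom.ker (q A J B x y) := by
      rw [hker]; exact Ideal.mem_span_singleton_self _
    exact this
  rw [d_mul, h0, zero_smul, add_zero]
  refine (congrArg (q A J B x y w • ·) ?_).trans (smul_zero _)
  show d A J τ B x y _ = 0
  rw [d, Submodule.Quotient.mk_eq_zero]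
  convert Submodule.mem_span_singleton_self (R := B) (gen A J τ B x y) using 1
  simp [gen, pderiv_X_of_ne (show (1 : Fin 2) ≠ 0 by decide), pderiv_X_of_ne (show (0 : Fin 2) ≠ 1 by decide)]

include hker in
theorem d_congr {a b : MvPolynomial (Fin 2) (TrivSqZeroExt A J)} (h : q A J B x y a = q A J B x y b) :
    d A J τ B x y a = d A J τ B x y b := by
  rw [← sub_add_cancel a b, d_add, d_zero A J τ B x y hker (f := a - b) (by rw [map_sub, h, sub_self]), zero_add]

noncomputable def D : Derivation A B (M A J τ B x y) :=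
  Derivation.mk'
    { toFun := fun a => d A J τ B x y (Function.surjInv hsurj a)
      map_add' := fun a b => by
        rw [← d_add]
        exact d_congr A J τ B x y hker (by rw [map_add, Function.surjInv_eq hsurj, Function.surjInv_eq hsurj, Function.surjInv_eq hsurj])
      map_smul' := fun r a => by
        have hq : q A J B x y (C (TrivSqZeroExt.inl r)) = algebraMap A B r := by
          rw [aeval_C, IsScalarTower.algebraMap_apply A (TrivSqZeroExt A J) B]; rfl
        rw [RingHom.id_apply, d_congr A J τ B x y hker (b := C (TrivSqZeroExt.inl r) * Function.surjInv hsurj a) (by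
          rw [map_mul, hq, Function.surjInv_eq hsurj, Function.surjInv_eq hsurj, Algebra.smul_def]),
          d_mul, d_C_inl, smul_zero, add_zero, hq, algebraMap_smul] }
    fun a b => by
      show d A J τ B x y (Function.surjInv hsurj (a * b)) = a • d A J τ B x y (Function.surjInv hsurj b) + b • d A J τ B x y (Function.surjInv hsurj a)
      rw [d_congr A J τ B x y hker (b := Function.surjInv hsurj a * Function.surjInv hsurj b) (by
        rw [map_mul, Function.surjInv_eq hsurj, Function.surjInv_eq hsurj, Function.surjInv_eq hsurj]),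
        d_mul, Function.surjInv_eq hsurj, Function.surjInv_eq hsurj]

theorem smul_M {i : B} (hi : i ∈ II A J B) (m : M A J τ B x y) : i • m = 0 := by
  obtain ⟨⟨u, v, w⟩, rfl⟩ := Submodule.Quotient.mk_surjective _ m
  rw [← Submodule.Quotient.mk_smul, Submodule.Quotient.mk_eq_zero]
  convert Submodule.zero_mem _ using 1
  obtain ⟨v, rfl⟩ := Ideal.Quotient.mk_surjective v
  obtain ⟨w, rfl⟩ := Ideal.Quotient.mk_surjective w
  refine Prod.ext (Subtype.ext ?_) (Prod.ext ?_ ?_)
  · exact II_mul A J B hi u.2
  · exact Ideal.Quotient.eq_zero_iff_mem.mpr ((II A J B).mul_mem_right v hi)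
  · exact Ideal.Quotient.eq_zero_iff_mem.mpr ((II A J B).mul_mem_right w hi)

include hsurj hker in
theorem key {i : B} (hi : i ∈ II A J B) (h : D A J τ B x y hsurj hker i = 0) : i = 0 := by
  classical
  have hmap : II A J B = ((TrivSqZeroExt.kerIdeal A J).map C).map (q A J B x y).toRingHom := by
    rw [Ideal.map_map]
    exact congrArg (fun φ : TrivSqZeroExt A J →+* B => Ideal.map φ (TrivSqZeroExt.kerIdeal A J))
      (RingHom.ext fun r => (aeval_C (R := TrivSqZeroExt A J) ![x, y] r).symm)
  have hi' := hi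
  rw [hmap] at hi'
  have hs' : Function.Surjective (q A J B x y).toRingHom := hsurj
  obtain ⟨f, hf, rfl⟩ := (Ideal.mem_map_iff_of_surjective (q A J B x y).toRingHom hs').mp hi'
  have hσ : σ A J f = 0 := by
    ext1 m
    have h1 : TrivSqZeroExt.fstHom A A J (f.coeff m) = 0 := mem_map_C_iff.mp hf m
    rw [coeff_map, RingHom.comp_apply, coeff_zero]
    exact (congrArg _ h1).trans (map_zero _)
  have hp : ∀ j, q A J B x y (pderiv j f) ∈ II A J B := fun j => by
    refine q_mem A J B x y (mem_map_C_iff.mpr fun m => ?_)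
    rw [coeff_pderiv]
    exact Ideal.mul_mem_right _ _ (mem_map_C_iff.mp hf _)
  have h' : d A J τ B x y f = 0 := by
    rw [← h]; exact d_congr A J τ B x y hker (Function.surjInv_eq hsurj _).symm
  rw [d, Submodule.Quotient.mk_eq_zero, Submodule.mem_span_singleton] at h'
  obtain ⟨c, hc⟩ := h'
  have hc1 := congrArg (fun z => ((z.1 : II A J B) : B)) hc
  have hc2 := congrArg (fun z => z.2.1) hc
  have hc3 := congrArg (fun z => z.2.2) hc
  simp only [gen, Prod.smul_fst, Prod.smul_snd, e1, Submodule.coe_smul_of_tower, smul_eq_mul, hσ, sub_zero] at hc1 hc2 hc3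
  rw [Ideal.Quotient.eq_zero_iff_mem.mpr (hp 0)] at hc2
  rw [Ideal.Quotient.eq_zero_iff_mem.mpr (hp 1)] at hc3
  obtain ⟨g, rfl⟩ := hsurj c
  have hg : q A J B x y g ∈ II A J B := by
    set π : MvPolynomial (Fin 2) (TrivSqZeroExt A J) →+* MvPolynomial (Fin 2) A :=
      MvPolynomial.map (TrivSqZeroExt.fstHom A A J).toRingHom with hπ
    have lift : ∀ z, q A J B x y z ∈ II A J B → π z ∈ Ideal.span {(X 0 * X 1 - C τ.fst : MvPolynomial (Fin 2) A)} := by
      intro z hz
      rw [hmap] at hz
      obtain ⟨k, hk, hkz⟩ := (Ideal.mem_map_iff_of_surjective (q A J B x y).toRingHom hs').mp hz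
      have h1 : z - k ∈ RingHom.ker (q A J B x y) := by
        rw [RingHom.mem_ker, map_sub, sub_eq_zero]; exact hkz.symm
      rw [hker] at h1
      obtain ⟨w, hw⟩ := Ideal.mem_span_singleton'.mp h1
      have hk0 : π k = 0 := by
        ext1 m
        rw [hπ, coeff_map, coeff_zero]
        exact mem_map_C_iff.mp hk m
      have h2 := congrArg π hw
      rw [map_mul, map_sub π z k, hk0, sub_zero] at h2
      refine Ideal.mem_span_singleton'.mpr ⟨π w, ?_⟩
      rw [← h2]
      simp [hπ]
    have hy' : q A J B x y (g * X 1) ∈ II A J B := by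
      rw [map_mul, aeval_X]; exact Ideal.Quotient.eq_zero_iff_mem.mp hc2
    have hx' : q A J B x y (g * X 0) ∈ II A J B := by
      rw [map_mul, aeval_X]; exact Ideal.Quotient.eq_zero_iff_mem.mp hc3
    obtain ⟨g1, hg1⟩ := Ideal.mem_span_singleton'.mp (lift _ hx')
    obtain ⟨g2, hg2⟩ := Ideal.mem_span_singleton'.mp (lift _ hy')
    rw [map_mul] at hg1 hg2
    rw [hπ, map_X] at hg1 hg2
    obtain ⟨w, hw⟩ := Ideal.mem_span_singleton'.mp (dvd_of_mul_dvd hg1.symm hg2.symm)
    let ι : MvPolynomial (Fin 2) A →+* MvPolynomial (Fin 2) (TrivSqZeroExt A J) := MvPolynomial.map (TrivSqZeroExt.inlHom A J)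
    have hι : g - ι w * (X 0 * X 1 - C τ) ∈ (TrivSqZeroExt.kerIdeal A J).map C := by
      rw [mem_map_C_iff]
      intro m
      show TrivSqZeroExt.fstHom A A J _ = 0
      have h3 : π (g - ι w * (X 0 * X 1 - C τ)) = 0 := by
        rw [map_sub, map_mul]
        have e : π (ι w) = w := by
          show MvPolynomial.map _ (MvPolynomial.map _ w) = w
          rw [MvPolynomial.map_map]
          exact (congrArg (fun φ : A →+* A => MvPolynomial.map φ w)
            (RingHom.ext fun r => TrivSqZeroExt.fst_inl J r)).trans (MvPolynomial.map_id w)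
        rw [e, ← hw, sub_eq_zero, map_sub π, map_mul π, hπ, map_X, map_X, map_C]
        rfl
      have h4 := congrArg (coeff m) h3
      rwa [hπ, coeff_map, coeff_zero] at h4
    have h5 := q_mem A J B x y hι
    have h0 : q A J B x y (X 0 * X 1 - C τ) = 0 := by
      have : (X 0 * X 1 - C τ : MvPolynomial (Fin 2) (TrivSqZeroExt A J)) ∈ RingHom.ker (q A J B x y) := by
        rw [hker]; exact Ideal.mem_span_singleton_self _
      exact this
    rwa [map_sub, map_mul, h0, mul_zero, sub_zero] at h5
  exact hc1.symm.trans (II_mul A J B hg (q_mem A J B x y (sub_σ_mem A J _)))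

end

open CAlg in

/-- Let A be a commutative ring, J an A-module, A′ = A ⊕ εJ the trivial square-zero extension of A by J,
and τ any element of A′. Let B′ be the A′-algebra A′[x,y]/(xy − τ), presented by two generators x, y
with the evaluation map from the polynomial ring in two variables over A′ surjective and with kernel
generated by XY − τ. Let I ⊆ B′ be the ideal generated by the square-zero ideal J of A′, so that B =
B′/I is A[x,y]/(xy − t) with t the A-component of τ. Then the first map of the conormal sequence of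
B′ → B relative to A, namely I → B ⊗_{B′} Ω_{B′/A}, i ↦ 1 ⊗ di, is injective (so the sequence 0 → I
→ B ⊗_{B′} Ω_{B′/A} → Ω_{B/A} → 0 is exact on the left as well; this is the local computation at a
node for first-order deformations of nodal curves). -/
theorem result
    (A : Type u) [CommRing A] (J : Type u) [AddCommGroup J] [Module A J] [Module Aᵐᵒᵖ J]
    [IsCentralScalar A J] (τ : TrivSqZeroExt A J)
    (B' : Type u) [CommRing B'] [Algebra (TrivSqZeroExt A J) B'] [Algebra A B']
    [IsScalarTower A (TrivSqZeroExt A J) B'] (x y : B')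
    (hsurj : Function.Surjective
      (MvPolynomial.aeval ![x, y] : MvPolynomial (Fin 2) (TrivSqZeroExt A J) →ₐ[TrivSqZeroExt A J] B'))
    (hker : RingHom.ker
      (MvPolynomial.aeval ![x, y] : MvPolynomial (Fin 2) (TrivSqZeroExt A J) →ₐ[TrivSqZeroExt A J] B') =
      Ideal.span {MvPolynomial.X 0 * MvPolynomial.X 1 - MvPolynomial.C τ}) :
    Function.Injective (KaehlerDifferential.kerToTensor A B'
      (B' ⧸ Ideal.map (algebraMap (TrivSqZeroExt A J) B') (TrivSqZeroExt.kerIdeal A J))) := by
  classical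
  rw [injective_iff_map_eq_zero]
  rintro ⟨i, hi⟩ h
  have hi' : i ∈ II A J B' := Ideal.Quotient.eq_zero_iff_mem.mp hi
  refine Subtype.ext (key A J τ B' x y hsurj hker hi' ?_)
  let L := (D A J τ B' x y hsurj hker).liftKaehlerDifferential
  let S : B' →ₗ[B'] (Ω[B'⁄A] →ₗ[B'] M A J τ B' x y) := LinearMap.toSpanSingleton B' _ L
  have hS : II A J B' ≤ LinearMap.ker S := fun z hz => LinearMap.ext fun w => smul_M A J τ B' x y hz (L w)
  let T := TensorProduct.lift (Submodule.liftQ (II A J B') S hS)
  have hT := congrArg T h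
  rw [map_zero] at hT
  change T ((1 : B' ⧸ II A J B') ⊗ₜ KaehlerDifferential.D A B' i) = 0 at hT
  rw [TensorProduct.lift.tmul, ← map_one (Ideal.Quotient.mk (II A J B'))] at hT
  change (1 : B') • L (KaehlerDifferential.D A B' i) = 0 at hT
  rwa [one_smul, Derivation.liftKaehlerDifferential_comp_D] at hT

end Groth.Agent.S16980
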