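import Groth.Statements.S16982
import Groth.Agent.L01.SqZeroComplete
import Groth.Agent.L12.PowSer
import Mathlib.RingTheory.MvPowerSeries.Inverse

set_option autoImplicit false
universe u v w w'
open CAlg

namespace Groth.Agent.S16982

/-- Let R be a commutative ring, A a complete Noetherian local R-algebra written as a quotient of a
power series ring over R in finitely many variables by a surjective R-algebra map π, and f : E → A a
surjective R-algebra map whose kernel has square zero and is finitely generated. Then π lifts along
f to an R-algebra map λ from the power series ring to E with f ∘ λ = π. (The published statement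
takes R Artinian local and asks for a lift that is continuous for the adic topologies; this row
allows any commutative R and asks for any lift.) -/
theorem result
    {R : Type u} [CommRing R] {σ : Type v} [Finite σ]
    {A : Type w} {E : Type w'} [CommRing A] [CommRing E] [Algebra R A] [Algebra R E]
    [IsNoetherianRing A] [IsLocalRing A] [IsAdicComplete (IsLocalRing.maximalIdeal A) A]
    (π : MvPowerSeries σ R →ₐ[R] A) (hπ : Function.Surjective π)
    (f : E →ₐ[R] A) (hf : Function.Surjective f)
    (hsq : RingHom.ker f.toRingHom ^ 2 = ⊥) (hfg : (RingHom.ker f.toRingHom).FG) :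
    ∃ l : MvPowerSeries σ R →ₐ[R] E, f.comp l = π := by
  let J : Ideal E := Ideal.comap f.toRingHom (IsLocalRing.maximalIdeal A)
  haveI : IsAdicComplete J E := Groth.L01.SqZeroComplete.isAdicComplete_comap f.toRingHom hf hsq hfg
  choose s hs using fun i : σ => hf (π (MvPowerSeries.X i))
  have hX : ∀ i : σ, π (MvPowerSeries.X i) ∈ IsLocalRing.maximalIdeal A := fun i => by
    rw [IsLocalRing.mem_maximalIdeal, mem_nonunits_iff]
    intro hu
    obtain ⟨w, hw⟩ := hπ (↑hu.unit⁻¹ : A)
    have h1 : IsUnit (1 - MvPowerSeries.X i * w : MvPowerSeries σ R) := by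
      rw [MvPowerSeries.isUnit_iff_constantCoeff, map_sub, map_one, map_mul, MvPowerSeries.constantCoeff_X,
        zero_mul, sub_zero]
      exact isUnit_one
    have h2 := h1.map π
    rw [map_sub, map_one, map_mul, hw, IsUnit.mul_val_inv, sub_self] at h2
    exact not_isUnit_zero h2
  obtain ⟨l, hl⟩ := Groth.L12.exists_evalPS (R := R) J s fun i => by
    show f (s i) ∈ IsLocalRing.maximalIdeal A
    rw [hs]
    exact hX i
  refine ⟨l, Groth.L12.evalPS_ext (IsLocalRing.maximalIdeal A) (fun i => ?_) fun i => ?_⟩
  · rw [AlgHom.comp_apply, hl, hs]
    exact hX i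
  · rw [AlgHom.comp_apply, hl, hs]

end Groth.Agent.S16982
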