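import Mathlib.Tactic
import Mathlib.Algebra.BigOperators.Ring.Finset
import Mathlib.Algebra.Order.BigOperators.Group.Finset
import Groth.Statements.S16983


set_option autoImplicit false
universe u
open DeformData

namespace Groth.Agent.S16983

/-- Let p be a prime, s ≥ 1, B a finite index set with a subset B₀ of exactly three elements, m_j ≥ 1
integers coprime to p, and σ_{i,j} (i < s, j ∈ B) rational numbers with m_j σ_{i,j} an integer, such
that Σ_j (σ_{i,j} − 1) = −2 for every i, the fractional part of σ_{i,j} equals that of p^i σ_{0,j},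
no σ_{i,j} equals 1, and the minimum over i of ⌊σ_{i,j}⌋ is 0 for j ∈ B₀ and 1 for j ∉ B₀. Then for
every i the fractional parts ⟨σ_{i,j}⟩ sum over j to 1 (purity), and ⌊σ_{i,j}⌋ is 0 on B₀ and 1 off
B₀ for every i. (The hypotheses are exactly the properties of the signature of a special deformation
datum on the projective line: each entry is an integer divided by a stabilizer order m_j in a group
of order prime to p, the degree identity coming from Riemann–Hurwitz, the Frobenius-twist relation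
between fractional parts, and the speciality conditions; the statement is given here for any such
tuple.) -/
theorem result
    {B : Type u} [Fintype B] [DecidableEq B] (B₀ : Finset B) (hB₀ : B₀.card = 3)
    (p : ℕ) (hp : p.Prime) (s : ℕ) (hs : 0 < s)
    (m : B → ℕ) (hm : ∀ j, 0 < m j) (hmp : ∀ j, Nat.Coprime (m j) p)
    (σ : Fin s → B → ℚ) (hint : ∀ i j, ∃ h : ℤ, σ i j = (h : ℚ) / (m j : ℚ))
    (hsum : ∀ i, ∑ j, (σ i j - 1) = -2)
    (hfract : ∀ i j, Int.fract (σ i j) = Int.fract ((p : ℚ) ^ (i : ℕ) * σ ⟨0, hs⟩ j))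
    (hne : ∀ i j, σ i j ≠ 1)
    (hB₀min : ∀ j ∈ B₀, (∃ i, ⌊σ i j⌋ = 0) ∧ ∀ i, 0 ≤ ⌊σ i j⌋)
    (hBmin : ∀ j ∉ B₀, (∃ i, ⌊σ i j⌋ = 1) ∧ ∀ i, 1 ≤ ⌊σ i j⌋) :
    (∀ i, ∑ j, Int.fract (σ i j) = 1) ∧ (∀ i j, ⌊σ i j⌋ = if j ∈ B₀ then 0 else 1) := by
  have hfl : ∀ i j, (if j ∈ B₀ then (0 : ℤ) else 1) ≤ ⌊σ i j⌋ := fun i j => by
    split_ifs with h
    · exact (hB₀min j h).2 i
    · exact (hBmin j h).2 i
  have hpos : ∀ i j, 0 < Int.fract (σ i j) ∨ 1 ≤ ⌊σ i j⌋ ∨ σ i j = 0 := fun i j => by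
    rcases (Int.fract_nonneg (σ i j)).lt_or_eq with h | h
    · exact Or.inl h
    · rcases lt_trichotomy ⌊σ i j⌋ 0 with h1 | h1 | h1
      · have := hfl i j
        split_ifs at this <;> omega
      · refine Or.inr (Or.inr ?_)
        rw [← Int.floor_add_fract (σ i j), h1, ← h]
        simp
      · exact Or.inr (Or.inl h1)
  have key : ∀ i, (∑ j, (⌊σ i j⌋ - if j ∈ B₀ then (0 : ℤ) else 1) : ℤ) + ∑ j, Int.fract (σ i j) = (1 : ℚ) := fun i => by
    have h1 := hsum i
    rw [Finset.sum_sub_distrib] at h1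
    have h2 : ∑ j, σ i j = ((∑ j, ⌊σ i j⌋ : ℤ) : ℚ) + ∑ j, Int.fract (σ i j) := by
      push_cast
      rw [← Finset.sum_add_distrib]
      simp only [Int.floor_add_fract]
    have h3 : (∑ j : B, if j ∈ B₀ then (0 : ℤ) else 1) = (Fintype.card B : ℤ) - 3 := by
      rw [Finset.sum_ite, Finset.sum_const_zero, zero_add, Finset.sum_const,
        show Finset.univ.filter (fun j => j ∉ B₀) = B₀ᶜ by ext; simp, Finset.card_compl, hB₀, nsmul_one]
      have : 3 ≤ Fintype.card B := hB₀ ▸ Finset.card_le_univ B₀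
      omega
    rw [Finset.sum_sub_distrib, h3]
    push_cast at h2 ⊢
    simp only [Finset.sum_const, Finset.card_univ, nsmul_one] at h1
    linarith
  have hge : ∀ i, 0 ≤ ∑ j, (⌊σ i j⌋ - if j ∈ B₀ then (0 : ℤ) else 1) := fun i =>
    Finset.sum_nonneg fun j _ => sub_nonneg.2 (hfl i j)
  have hint' : ∀ i j, Int.fract (σ i j) = 0 → ∃ z : ℤ, σ i j = z := fun i j h =>
    ⟨⌊σ i j⌋, by conv_lhs => rw [← Int.floor_add_fract (σ i j), h, add_zero]⟩
  have main : ∀ i, (∑ j, (⌊σ i j⌋ - if j ∈ B₀ then (0 : ℤ) else 1)) = 0 := fun i => by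
    by_contra hne0
    have h1 : 1 ≤ ∑ j, (⌊σ i j⌋ - if j ∈ B₀ then (0 : ℤ) else 1) := by have := hge i; omega
    have h2 := key i
    have h4 : ((1 : ℤ) : ℚ) ≤ ((∑ j, (⌊σ i j⌋ - if j ∈ B₀ then (0 : ℤ) else 1) : ℤ) : ℚ) := Int.cast_le.2 h1
    have h3 : ∀ j, Int.fract (σ i j) = 0 := by
      have hsum0 : ∑ j, Int.fract (σ i j) = 0 := by
        have : 0 ≤ ∑ j, Int.fract (σ i j) := Finset.sum_nonneg fun j _ => Int.fract_nonneg _
        push_cast at h4
        push_cast at h2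
        linarith
      intro j
      exact (Finset.sum_eq_zero_iff_of_nonneg fun j _ => Int.fract_nonneg _).1 hsum0 j (Finset.mem_univ j)
    have hi0 : ∀ i' j, Int.fract (σ i' j) = 0 := by
      intro i' j
      obtain ⟨h', hh'⟩ := hint ⟨0, hs⟩ j
      have hpj : Int.fract ((p : ℚ) ^ (i : ℕ) * σ ⟨0, hs⟩ j) = 0 := (hfract i j).symm.trans (h3 j)
      have hz0 : ∃ z : ℤ, σ ⟨0, hs⟩ j = z := by
        obtain ⟨w, hw⟩ : ∃ w : ℤ, (p : ℚ) ^ (i : ℕ) * σ ⟨0, hs⟩ j = w :=
          ⟨_, (Int.floor_add_fract _).symm.trans (by rw [hpj, add_zero])⟩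
        have hm0 : (m j : ℚ) ≠ 0 := Nat.cast_ne_zero.2 (hm j).ne'
        rw [hh', mul_div_assoc', div_eq_iff hm0] at hw
        have hw' : (p : ℤ) ^ (i : ℕ) * h' = w * (m j : ℤ) := by exact_mod_cast hw
        have hd : (m j : ℤ) ∣ h' := by
          refine Int.dvd_of_dvd_mul_right_of_gcd_one (b := (p : ℤ) ^ (i : ℕ)) ⟨w, by rw [hw', mul_comm]⟩ ?_
          rw [Int.gcd, Int.natAbs_pow, Int.natAbs_natCast, Int.natAbs_natCast]
          exact (hmp j).pow_right _
        obtain ⟨z, rfl⟩ := hd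
        exact ⟨z, by rw [hh']; push_cast; field_simp⟩
      obtain ⟨z, hz⟩ := hz0
      rw [hfract i' j, hz, show (p : ℚ) ^ (i' : ℕ) * (z : ℚ) = (((p : ℤ) ^ (i' : ℕ) * z : ℤ) : ℚ) by push_cast; rfl,
        Int.fract_intCast]
    have hcard : ∀ j, (if j ∈ B₀ then (0 : ℤ) else 2) ≤ ⌊σ i j⌋ := fun j => by
      split_ifs with h
      · exact (hB₀min j h).2 i
      · have h1 := (hBmin j h).2 i
        rcases h1.lt_or_eq with h2 | h2
        · omega
        · refine absurd ?_ (hne i j)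
          rw [← Int.floor_add_fract (σ i j), h3 j, ← h2]
          simp
    have hB : ∀ j, j ∈ B₀ := fun j => by
      by_contra h
      obtain ⟨⟨i', hi'⟩, -⟩ := hBmin j h
      exact hne i' j (by rw [← Int.floor_add_fract (σ i' j), hi0 i' j, hi']; simp)
    have hB3 : Fintype.card B = 3 := by
      rw [← hB₀, Finset.eq_univ_of_forall hB, Finset.card_univ]
    have hs1 : ∑ j, σ i j = 1 := by
      have := hsum i
      rw [Finset.sum_sub_distrib, Finset.sum_const, Finset.card_univ, hB3] at this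
      norm_num at this
      linarith
    obtain ⟨j, -, hj⟩ : ∃ j ∈ Finset.univ, σ i j ≠ 0 :=
      Finset.exists_ne_zero_of_sum_ne_zero (by rw [hs1]; exact one_ne_zero)
    have hint2 : ∀ j, σ i j = (⌊σ i j⌋ : ℚ) := fun j => by
      conv_lhs => rw [← Int.floor_add_fract (σ i j), h3 j, add_zero]
    have h5 : 2 ≤ ⌊σ i j⌋ := by
      have h6 := (hB₀min j (hB j)).2 i
      rcases h6.lt_or_eq with h7 | h7
      · by_contra h8
        exact hne i j (by rw [hint2 j, show ⌊σ i j⌋ = 1 by omega]; simp)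
      · exact absurd (by rw [hint2 j, ← h7]; simp) hj
    have h9 : ∑ j, ⌊σ i j⌋ = 1 := by
      have : ((∑ j, ⌊σ i j⌋ : ℤ) : ℚ) = 1 := by rw [Int.cast_sum, ← hs1]; exact Finset.sum_congr rfl fun j _ => (hint2 j).symm
      exact_mod_cast this
    have h10 := Finset.single_le_sum (f := fun j => ⌊σ i j⌋) (fun j _ => (hB₀min j (hB j)).2 i) (Finset.mem_univ j)
    omega
  have hfin : ∀ i j, ⌊σ i j⌋ = if j ∈ B₀ then 0 else 1 := fun i j => by
    have := (Finset.sum_eq_zero_iff_of_nonneg fun j _ => sub_nonneg.2 (hfl i j)).1 (main i) j (Finset.mem_univ j)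
    omega
  refine ⟨fun i => ?_, hfin⟩
  have h := key i
  rw [main i] at h
  simpa using h
end Groth.Agent.S16983
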