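import Groth.Statements.S16984
import Groth.Agent.L13.IndAcyclic

set_option autoImplicit false
universe u v w
open Hoch

namespace Groth.Agent.S16984

open TensorProduct in
/-- Let k be a commutative ring, A a commutative k-bialgebra that is flat over k (the coordinate ring of
a flat affine group scheme over Spec k; flatness and commutativity are the standing hypotheses of
the appendix and are not needed for the assertion) and P a k-module. Then p ↦ p ⊗ 1 is an injection
of P into the induced comodule P ⊗ A (coaction id ⊗ Δ) whose image is exactly the submodule of
invariants, i.e. the elements with coaction x ↦ x ⊗ 1. (The published statement writes the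
coordinate-ring factor on the left and calls this module coinduced; this row is its degree-zero
part, the identification of P with the invariants of the coinduced module.) -/
theorem result (k : Type u) [CommRing k] (A : Type v) [CommRing A] [Bialgebra k A]
    [Module.Flat k A] (P : Type w) [AddCommGroup P] [Module k P] :
    Function.Injective ((Hoch.Ind.equiv k A P).toLinearMap ∘ₗ (TensorProduct.mk k P A).flip (1 : A)) ∧
    LinearMap.range ((Hoch.Ind.equiv k A P).toLinearMap ∘ₗ (TensorProduct.mk k P A).flip (1 : A)) =
      HopfRep.fixedPts k A (Hoch.Ind k A P) := by
  exact Groth.L13.IndAcyclic.fixedPts_eq k A P

end Groth.Agent.S16984
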