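import Groth.Statements.S16986
import Groth.Agent.L15.OrthSm.Rep
import Mathlib.Tactic.Ring
import Mathlib.Tactic.LinearCombination
import Mathlib.Tactic.FieldSimp
import Mathlib.Algebra.BigOperators.Ring.Finset

set_option autoImplicit false
universe u
open CategoryTheory AlgebraicGeometry
open QuadGrp

namespace Groth.Agent.S16986

/-- Let Q be a quadratic form on R^n, n ≥ 1, over a commutative ring R, non-degenerate in the sense that
its polar form is a perfect pairing when n is even and its half-discriminant (in the standard basis)
is a unit when n is odd, and let G be a group scheme over Spec R which is the orthogonal group of Q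
(its A-valued points are the isometries of the base change Q_A, naturally in the R-algebra A). Then
G is smooth over Spec R if and only if n is even or 2 is a unit in R. (The published statement is
for a line-bundle-valued form on a vector bundle over an arbitrary scheme; the case of a free module
over an affine base with trivialised values is stated.) -/
theorem result (R : Type u) [CommRing R] (n : ℕ) (hn : 1 ≤ n)
    (Q : QuadraticForm R (Fin n → R))
    (hQ : QuadGrp.IsNondeg (Pi.basisFun R (Fin n)) (LinearEquiv.refl R R) Q)
    (G : Over (Spec (CommRingCat.of R))) [GrpObj G] (D : QuadGrp.OrthRep Q G) :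
    AlgebraicGeometry.Smooth G.hom ↔ (Even n ∨ IsUnit (2 : R)) := by
  refine (Groth.L15.OrthSm.smooth_orth_iff Q G D).trans ?_
  rcases Nat.even_or_odd n with he | ho
  · exact ⟨fun _ => Or.inl he, fun _ =>
      Groth.L15.OrthSm.lifts_of_regular _ (Groth.L15.OrthSm.isUnit_det_of_regular Q (hQ.1 he)) _
        (fun h => h.elim)⟩
  · have hd' := Groth.L15.OrthSm.isUnit_hd_of_semiregular Q (hQ.2 ho)
    constructor
    · intro hl
      by_contra hc
      exact Groth.L15.OrthSm.not_lifts ho _ hd' (fun h => hc (Or.inr h)) hl
    · rintro (he | h2)
      · exact absurd he (Nat.not_even_iff_odd.2 ho)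
      · refine Groth.L15.OrthSm.lifts_of_regular _ ?_ _ (fun h => h.elim)
        rw [← Groth.L15.OrthSm.two_mul_hd ho]
        exact h2.mul hd'

end Groth.Agent.S16986
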