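import Groth.Statements.S16991
import Groth.Agent.L15.QG.Even
import Mathlib.Algebra.CharP.Two
import Mathlib.Tactic.Ring
import Mathlib.Tactic.LinearCombination
import Mathlib.Tactic.FieldSimp
import Mathlib.Algebra.BigOperators.Ring.Finset

set_option autoImplicit false
universe u v
open QuadGrp

namespace Groth.Agent.S16991

/-- Over a commutative ring in which 2 = 0, for a quadratic form Q on a finite free module of even rank
2m ≥ 2 whose polar form is a perfect pairing, every isometry of Q has determinant one. (The
published statement is the equality of the naive special orthogonal group with the orthogonal group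
on fibres in characteristic 2; its proof gives this equality over every base of characteristic 2,
which is the form stated.) -/
theorem result {R : Type u} [CommRing R] [CharP R 2]
    {M : Type v} [AddCommGroup M] [Module R M] [Module.Free R M] [Module.Finite R M]
    (m : ℕ) (hm : 1 ≤ m) (hM : Module.finrank R M = 2 * m) (Q : QuadraticForm R M) (hQ : QuadGrp.IsRegular Q) :
    QuadGrp.O Q = QuadGrp.SO' Q := by
  refine le_antisymm (fun g hg => ⟨hg, ?_⟩) inf_le_left
  show LinearEquiv.det g = 1
  exact Units.ext (by simpa [LinearEquiv.coe_det] using Groth.L15.QG.det_sq_of_regular hM hQ hg CharTwo.two_eq_zero)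

end Groth.Agent.S16991
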