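import Groth.Statements.S16997
import Groth.Agent.L15.QG.Odd2
import Mathlib.Tactic.Ring
import Mathlib.Tactic.LinearCombination
import Mathlib.Tactic.FieldSimp
import Mathlib.Algebra.BigOperators.Ring.Finset

set_option autoImplicit false
universe u v
open QuadGrp

namespace Groth.Agent.S16997

/-- Over a commutative ring in which 2 is invertible, let Q be a quadratic form on a finite free module
with a basis indexed by Fin (2m+1), m odd (rank congruent to 3 mod 4), whose half-discriminant in
that basis is a unit. Then every unit of the Clifford algebra normalising the module and of Clifford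
norm one is locally homogeneous: the Pin group equals the naive Pin group. (The published statement
adds the converse: for rank 1 mod 4, or when 2 is not a unit on the base, the two group schemes
differ.) -/
theorem result {R : Type u} [CommRing R] [Invertible (2 : R)]
    {M : Type v} [AddCommGroup M] [Module R M] [Module.Free R M] [Module.Finite R M]
    (m : ℕ) (hm : Odd m) (b : Module.Basis (Fin (2 * m + 1)) R M) (Q : QuadraticForm R M)
    (hQ : QuadGrp.IsSemiregular b (LinearEquiv.refl R R) Q) :
    QuadGrp.Pin Q = QuadGrp.Pin' Q := by
  refine le_antisymm (fun u hu => ⟨hu.1.1, hu.2⟩) fun u hu => ⟨⟨hu.1, ?_⟩, hu.2⟩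
  exact Groth.L15.QG.isLocHomog_of_pin' b hQ (isUnit_of_invertible 2) hm hu.1 hu.2

end Groth.Agent.S16997
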