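import Groth.Statements.S17000
import Groth.Agent.L15.OrthSm.Rep
import Groth.Agent.L15.QG.SplitEven
import Groth.Agent.L23.SourceRegular
import Mathlib.RingTheory.Smooth.Flat
import Mathlib.RingTheory.Flat.TorsionFree
import Mathlib.LinearAlgebra.Matrix.Permutation
import Mathlib.AlgebraicGeometry.Morphisms.Flat
import Mathlib.Algebra.Field.ZMod
import Mathlib.RingTheory.Int.Basic

set_option autoImplicit false
set_option backward.isDefEq.respectTransparency false
set_option backward.isDefEq.respectTransparency.types false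
open CategoryTheory AlgebraicGeometry
open QuadGrp

namespace Groth.Agent.S17000

open Matrix TensorProduct
open scoped MonObj
open Groth.L15.OrthSm

/-- A smooth algebra over a reduced ring is reduced. -/
theorem isReduced_of_smoothAlg (A B : Type) [CommRing A] [CommRing B] [Algebra A B]
    [_root_.IsReduced A] [Algebra.Smooth A B] : _root_.IsReduced B := by
  constructor
  intro x hx
  apply eq_zero_of_localization
  intro J hJ
  have := Groth.L23.isReduced_localization_of_smooth A B J
  exact (hx.map (algebraMap B (Localization.AtPrime J))).eq_zero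

/-- Modulo two, a smooth `ℤ`-algebra is reduced. -/
theorem dvd_of_dvd_pow (R : Type) [CommRing R] [(Ideal.span {(2 : R)}).IsPrime]
    (B : Type) [CommRing B] [Algebra R B] [Algebra.Smooth R B]
    (x : B) (k : ℕ) (h : (2 : B) ∣ x ^ k) : (2 : B) ∣ x := by
  haveI : _root_.IsReduced ((R ⧸ Ideal.span {(2 : R)}) ⊗[R] B) :=
    isReduced_of_smoothAlg (R ⧸ Ideal.span {(2 : R)}) _
  let I : Ideal B := (Ideal.span {(2 : R)}).map (algebraMap R B)
  have hI : I = Ideal.span {(2 : B)} := by
    simp [I, Ideal.map_span, map_ofNat]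
  let e := (Algebra.TensorProduct.quotIdealMapEquivTensorQuot B (Ideal.span {(2 : R)})).toRingEquiv.trans
    (Algebra.TensorProduct.comm R B (R ⧸ Ideal.span {(2 : R)})).toRingEquiv
  haveI : _root_.IsReduced (B ⧸ I) := isReduced_of_injective e.toRingHom e.injective
  have : Ideal.Quotient.mk I x = 0 := by
    refine IsReduced.eq_zero _ ⟨k, ?_⟩
    rw [← map_pow, Ideal.Quotient.eq_zero_iff_mem, hI, Ideal.mem_span_singleton]
    exact h
  rwa [Ideal.Quotient.eq_zero_iff_mem, hI, Ideal.mem_span_singleton] at this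

theorem eq_zero_of_two_mul (R : Type) [CommRing R] (hR : IsRegular (2 : R))
    (B : Type) [CommRing B] [Algebra R B] [Module.Flat R B]
    (x : B) (h : (2 : B) * x = 0) : x = 0 := by
  have hr : IsSMulRegular B (2 : R) := Module.Flat.isSMulRegular_of_isRegular hR
  refine hr ?_
  show (2 : R) • x = (2 : R) • (0 : B)
  rw [smul_zero, Algebra.smul_def, map_ofNat, h]

section alg

variable {R : Type} [CommRing R] {n : ℕ} (β : Matrix (Fin n) (Fin n) R)

/-- The coordinate ring of the orthogonal group. -/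
abbrev A0 : Type := Univ β False
/-- The coordinate ring of the naive special orthogonal group. -/
abbrev U0 : Type := Univ β True

theorem det_sq (hβ : IsUnit (β + βᵀ).det) : (univMat β False).det ^ 2 = 1 := by
  have h := qs_eq_of_eq (sol_univMat β False).1
  set M := univMat β False
  set b := β.map (algebraMap R (A0 β))
  have hu : IsUnit (b + bᵀ).det := by
    have : b + bᵀ = (β + βᵀ).map (algebraMap R (A0 β)) := by ext i j; simp [b]
    rw [this, ← RingHom.mapMatrix_apply, ← RingHom.map_det]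
    exact hβ.map _
  have h' : Mᵀ * (b + bᵀ) * M = b + bᵀ := by
    rw [transpose_mul, transpose_mul, transpose_transpose] at h
    rw [Matrix.mul_add, Matrix.add_mul]
    simpa only [Matrix.mul_assoc] using h
  have := congrArg Matrix.det h'
  rw [det_mul, det_mul, det_transpose] at this
  exact hu.mul_right_cancel (by linear_combination this)

theorem smooth_A0 (hβ : IsUnit (β + βᵀ).det) : Algebra.Smooth R (A0 β) := by
  haveI := finitePresentation_univ β False
  exact ⟨(formallySmooth_iff_lifts (β := β) (sp := False)).2 (lifts_of_regular β hβ _ fun h => h.elim),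
    inferInstance⟩

/-- The idempotent. -/
theorem exists_idem [(Ideal.span {(2 : R)}).IsPrime] (h2R : IsRegular (2 : R)) (hβ : IsUnit (β + βᵀ).det) :
    ∃ e : A0 β, (univMat β False).det = 1 - 2 * e ∧ e * e = e := by
  haveI := smooth_A0 β hβ
  have hd := det_sq β hβ
  set d := (univMat β False).det
  obtain ⟨f, hf⟩ := dvd_of_dvd_pow R (A0 β) (1 - d) 2 ⟨1 - d, by linear_combination hd⟩
  refine ⟨f, by linear_combination -hf, ?_⟩
  refine sub_eq_zero.1 (eq_zero_of_two_mul R h2R (A0 β) _ (eq_zero_of_two_mul R h2R (A0 β) _ ?_))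
  rw [show d = 1 - 2 * f by linear_combination -hf] at hd
  linear_combination hd

theorem isReduced_quot [_root_.IsReduced R] [(Ideal.span {(2 : R)}).IsPrime] (hβ : IsUnit (β + βᵀ).det) (e : A0 β) (he : e * e = e) :
    _root_.IsReduced (A0 β ⧸ Ideal.span {2 * e}) := by
  haveI := smooth_A0 β hβ
  haveI : _root_.IsReduced (A0 β) := isReduced_of_smoothAlg R _
  constructor
  intro z hz
  obtain ⟨x, rfl⟩ := Ideal.Quotient.mk_surjective z
  obtain ⟨k, hk⟩ := hz
  rw [← map_pow, Ideal.Quotient.eq_zero_iff_mem, Ideal.mem_span_singleton] at hk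
  obtain ⟨w, hw⟩ := hk
  rw [Ideal.Quotient.eq_zero_iff_mem, Ideal.mem_span_singleton]
  obtain ⟨y, hy⟩ := dvd_of_dvd_pow R (A0 β) x k ⟨e * w, by rw [hw]; ring⟩
  have hne : x * (1 - e) = 0 := by
    refine IsReduced.eq_zero _ ⟨k + 1, ?_⟩
    rw [mul_pow, pow_succ' (1 - e) k, pow_succ x k, hw]
    linear_combination (-2 * w * x * (1 - e) ^ k) * he
  refine ⟨y, ?_⟩
  linear_combination hne + e * hy

theorem sol_quot {B : Type} [CommRing B] [Algebra R B] {M : Matrix (Fin n) (Fin n) B}
    (h : Sol β False B M) (I : Ideal B) (hI : M.det - 1 ∈ I) :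
    Sol β True (B ⧸ I) (M.map (Ideal.Quotient.mkₐ R I)) := by
  have h' := h.map (Ideal.Quotient.mkₐ R I)
  refine ⟨h'.1, h'.2.1, fun _ => ?_⟩
  rw [show (M.map (Ideal.Quotient.mkₐ R I)).det = Ideal.Quotient.mkₐ R I M.det from
      (AlgHom.map_det (Ideal.Quotient.mkₐ R I) M).symm, ← map_one (Ideal.Quotient.mkₐ R I)]
  exact Ideal.Quotient.eq.2 hI

theorem exists_sigma (e : A0 β) (hd : (univMat β False).det = 1 - 2 * e) :
    ∃ (σ : U0 β →ₐ[R] A0 β ⧸ Ideal.span {2 * e}) (π : A0 β →ₐ[R] U0 β),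
      Function.Injective σ ∧ (∀ x, σ (π x) = Ideal.Quotient.mk _ x) ∧ π (2 * e) = 0 := by
  let mk : A0 β →ₐ[R] (A0 β ⧸ Ideal.span {2 * e}) := Ideal.Quotient.mkₐ R (Ideal.span {2 * e})
  have h2 : mk (2 * e) = 0 := Ideal.Quotient.eq_zero_iff_mem.2 (Ideal.mem_span_singleton_self _)
  have hs : Sol β True (A0 β ⧸ Ideal.span {2 * e}) ((univMat β False).map mk) :=
    sol_quot β (sol_univMat β False) _ (Ideal.mem_span_singleton.2 ⟨-1, by linear_combination hd⟩)
  obtain ⟨σ, hσ⟩ := exists_hom hs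
  obtain ⟨π, hπ⟩ := exists_hom (β := β) (sp := False) (B := U0 β) (M := univMat β True)
    ⟨(sol_univMat β True).1, (sol_univMat β True).2.1, fun h => h.elim⟩
  have hπe : π (2 * e) = 0 := by
    have h1 : π (univMat β False).det = 1 := by
      rw [AlgHom.map_det]
      exact (congrArg Matrix.det hπ).trans ((sol_univMat β True).2.2 trivial)
    rw [hd, map_sub, map_one] at h1
    linear_combination -h1
  let ρ : A0 β ⧸ Ideal.span {2 * e} →ₐ[R] U0 β := Ideal.Quotient.liftₐ _ π (fun a ha => by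
    obtain ⟨c, rfl⟩ := Ideal.mem_span_singleton.1 ha
    rw [map_mul, hπe, zero_mul])
  have hρσ : ρ.comp σ = AlgHom.id R _ := by
    refine hom_injective ?_
    ext i j
    have h1 : σ (univMat β True i j) = mk (univMat β False i j) := congrFun (congrFun hσ i) j
    show ρ (σ (univMat β True i j)) = univMat β True i j
    rw [h1]
    exact congrFun (congrFun hπ i) j
  have hσπ : σ.comp π = mk := by
    refine hom_injective (β := β) (sp := False) (B := A0 β ⧸ Ideal.span {2 * e}) ?_
    ext i j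
    have h1 : π (univMat β False i j) = univMat β True i j := congrFun (congrFun hπ i) j
    show σ (π (univMat β False i j)) = mk (univMat β False i j)
    rw [h1]
    exact congrFun (congrFun hσ i) j
  exact ⟨σ, π, Function.LeftInverse.injective (g := ρ) (fun x => AlgHom.congr_fun hρσ x),
    fun x => AlgHom.congr_fun hσπ x, hπe⟩

theorem main_alg [IsDomain R] [(Ideal.span {(2 : R)}).IsPrime] (h2R : (2 : R) ≠ 0) (h2u : ¬ IsUnit (2 : R))
    (hβ : IsUnit (β + βᵀ).det) (M : Matrix (Fin n) (Fin n) R) (hM : Sol β False R M)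
    (hMd : M.det = -1) : _root_.IsReduced (U0 β) ∧ ¬ Module.Flat R (U0 β) := by
  obtain ⟨e, hd, he⟩ := exists_idem β (isRegular_of_ne_zero h2R) hβ
  obtain ⟨σ, π, hσ, hσπ, hπe⟩ := exists_sigma β e hd
  haveI := isReduced_quot β hβ e he
  refine ⟨isReduced_of_injective σ.toRingHom hσ, fun hflat => ?_⟩
  have h0 : π e = 0 := eq_zero_of_two_mul R (isRegular_of_ne_zero h2R) (U0 β) _ (by
    rw [map_mul, map_ofNat] at hπe
    exact hπe)
  obtain ⟨φ, hφ⟩ := exists_hom hM
  have hmem : Ideal.Quotient.mk (Ideal.span {2 * e}) e = 0 := by rw [← hσπ, h0, map_zero]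
  obtain ⟨x, hx⟩ := Ideal.mem_span_singleton.1 (Ideal.Quotient.eq_zero_iff_mem.1 hmem)
  have h1 : φ (univMat β False).det = -1 := by
    rw [AlgHom.map_det]
    exact (congrArg Matrix.det hφ).trans hMd
  have h2 : φ e = 1 := by
    rw [hd, map_sub, map_one, map_mul, map_ofNat] at h1
    exact mul_left_cancel₀ h2R (by linear_combination -h1)
  have h3 := congrArg φ hx
  rw [map_mul, map_mul, map_ofNat, h2] at h3
  exact h2u (IsUnit.of_mul_eq_one (φ x) (by linear_combination -h3))

end alg

section split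

variable (m : ℕ)

theorem isUnit_polar :
    IsUnit (bmat (QuadGrp.splitForm ℤ (m * 2)) + (bmat (QuadGrp.splitForm ℤ (m * 2)))ᵀ).det := by
  classical
  set Q := QuadGrp.splitForm ℤ (m * 2)
  let τ : Equiv.Perm (Fin m × Fin 2) := Equiv.prodCongr (Equiv.refl _) (Equiv.swap 0 1)
  let P : Matrix (Fin m × Fin 2) (Fin m × Fin 2) ℤ := τ.permMatrix ℤ
  have hP : (bmat Q + (bmat Q)ᵀ) = P.submatrix finProdFinEquiv.symm finProdFinEquiv.symm := by
    ext i j
    obtain ⟨⟨a, s⟩, rfl⟩ := finProdFinEquiv.surjective i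
    obtain ⟨⟨c, t⟩, rfl⟩ := finProdFinEquiv.surjective j
    rw [Matrix.add_apply, Matrix.transpose_apply, ← Groth.L15.polar_matForm, matForm_bmat, Pi.basisFun_apply,
      Pi.basisFun_apply, Groth.L15.QG.polar_single, Matrix.submatrix_apply, Equiv.symm_apply_apply,
      Equiv.symm_apply_apply]
    simp only [P, Equiv.Perm.permMatrix, PEquiv.toMatrix_apply, Equiv.toPEquiv_apply, Option.mem_def,
      Option.some_inj, τ, Equiv.prodCongr_apply, Prod.map, Equiv.refl_apply, Prod.mk.injEq]
    fin_cases s <;> fin_cases t <;> simp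
  rw [hP, Matrix.det_submatrix_equiv_self, Matrix.det_permutation]
  exact (Units.isUnit (Equiv.Perm.sign τ)).map (Int.castRingHom ℤ)

theorem exists_reflection (hm : 1 ≤ m) :
    ∃ M, Sol (bmat (QuadGrp.splitForm ℤ (m * 2))) False ℤ M ∧ M.det = -1 := by
  classical
  set Q := QuadGrp.splitForm ℤ (m * 2)
  let i0 : Fin m := ⟨0, hm⟩
  let τ : Equiv.Perm (Fin (m * 2)) :=
    Equiv.swap (finProdFinEquiv (i0, 0)) (finProdFinEquiv (i0, 1))
  have hdet : (τ.permMatrix ℤ).det = -1 := by
    rw [Matrix.det_permutation, Equiv.Perm.sign_swap (by simp)]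
    simp
  refine ⟨τ.permMatrix ℤ, ⟨?_, ?_, fun h => h.elim⟩, hdet⟩
  · rw [show (bmat Q).map (algebraMap ℤ ℤ) = bmat Q by ext i j; simp, ← coeffs_matForm,
      ← coeffs_matForm]
    congr 1
    refine QuadraticMap.ext fun x => ?_
    rw [← matForm_mulVec, matForm_bmat, Matrix.permMatrix_mulVec, Groth.L15.QG.splitForm_even_apply,
      Groth.L15.QG.splitForm_even_apply]
    refine Finset.sum_congr rfl fun i _ => ?_
    by_cases hi : i = i0
    · subst hi
      simp only [Function.comp_apply, τ, Equiv.swap_apply_left, Equiv.swap_apply_right]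
      ring
    · have hs : ∀ s : Fin 2, τ (finProdFinEquiv (i, s)) = finProdFinEquiv (i, s) := fun s =>
        Equiv.swap_apply_of_ne_of_ne (by simp [finProdFinEquiv.injective.eq_iff, hi])
          (by simp [finProdFinEquiv.injective.eq_iff, hi])
      simp only [Function.comp_apply, hs]
  · rw [hdet]; exact isUnit_one.neg

end split

section geom

variable {n : ℕ} (Q : QuadraticForm ℤ (Fin n → ℤ))

theorem exists_iso (G : Over (Spec (CommRingCat.of ℤ))) [GrpObj G] (D : QuadGrp.SOrth'Rep Q G) :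
    ∃ y : QuadGrp.specOver ℤ (U0 (bmat Q)) ⟶ G, IsIso y.left := by
  have hS : ∀ (A : Type) [CommRing A] [Algebra ℤ A] (g), g ∈ QuadGrp.sorth' Q A ↔
      g ∈ QuadGrp.orth Q A ∧ LinearEquiv.det g = 1 := fun A _ _ g => by
    simp only [QuadGrp.sorth', QuadGrp.SO', Subgroup.mem_inf, MonoidHom.mem_ker]
    rfl
  obtain ⟨g₀, hg₀⟩ := exists_mat (R := ℤ) (U0 (bmat Q)) _ (sol_univMat (bmat Q) True).2.1
  have hg₀S : g₀ ∈ QuadGrp.sorth' Q (U0 (bmat Q)) := (hS _ g₀).2
    ⟨(mem_orth Q _ g₀).2 (hg₀ ▸ (sol_univMat (bmat Q) True).1),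
      (det_eq_one_iff _ g₀).2 (hg₀ ▸ (sol_univMat (bmat Q) True).2.2 trivial)⟩
  let y := (D.pts (U0 (bmat Q))).symm ⟨g₀, hg₀S⟩
  refine ⟨y, ?_⟩
  have hy : ∀ (B : Type) [CommRing B] [Algebra ℤ B] (φ : U0 (bmat Q) →ₐ[ℤ] B),
      mat B (D.pts B (QuadGrp.specOverMap ℤ φ ≫ y)).1 = (univMat (bmat Q) True).map φ := by
    intro B _ _ φ
    rw [mat_natural φ _ _ (D.natural _ B φ y), MulEquiv.apply_symm_apply, hg₀]
  have hbij : ∀ (B : Type) [CommRing B] [Algebra ℤ B],
      Function.Bijective fun φ : U0 (bmat Q) →ₐ[ℤ] B => QuadGrp.specOverMap ℤ φ ≫ y := by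
    intro B _ _
    refine ⟨fun φ φ' h => hom_injective ?_, fun w => ?_⟩
    · rw [← hy B φ, ← hy B φ']
      exact congrArg (fun z => mat B (D.pts B z).1) h
    · have hm := (hS B (D.pts B w).1).1 (D.pts B w).2
      obtain ⟨φ, hφ⟩ := exists_hom (β := bmat Q) (sp := True) (B := B) (M := mat B (D.pts B w).1)
        ⟨(mem_orth Q B _).1 hm.1, isUnit_mat_det B _, fun _ => (det_eq_one_iff B _).1 hm.2⟩
      exact ⟨φ, (D.pts B).injective (Subtype.ext (mat_injective B ((hy B φ).trans hφ)))⟩
  refine isIso_of_bijective_points (X := Spec (CommRingCat.of (U0 (bmat Q)))) y.left fun B g => ?_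
  obtain ⟨f, hf⟩ : ∃ f, Spec.map f = g ≫ G.hom := ⟨Spec.preimage _, Spec.map_preimage _⟩
  let g' : QuadGrp.specOver ℤ B ⟶ G := Over.homMk g (by
    refine hf.symm.trans ?_
    rw [show f = CommRingCat.ofHom (algebraMap ℤ B) from CommRingCat.hom_ext (RingHom.ext_int _ _)]
    rfl)
  obtain ⟨φ, hφ, -⟩ := (hbij B).existsUnique g'
  refine ⟨Spec.map (CommRingCat.ofHom φ.toRingHom), congrArg Over.Hom.left hφ, fun w hw => ?_⟩
  obtain ⟨ψ₀, rfl⟩ : ∃ ψ₀, Spec.map ψ₀ = w := ⟨Spec.preimage _, Spec.map_preimage _⟩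
  let ψ : U0 (bmat Q) →ₐ[ℤ] B := { ψ₀.hom with commutes' := fun r => by simp }
  have : ψ = φ := (hbij B).1 (by
    change QuadGrp.specOverMap ℤ ψ ≫ y = QuadGrp.specOverMap ℤ φ ≫ y
    rw [show QuadGrp.specOverMap ℤ φ ≫ y = g' from hφ]
    exact Over.OverMorphism.ext hw)
  rw [← this]
  rfl

end geom

/-- For m ≥ 1, a group scheme over Spec ℤ which is the naive special orthogonal group (kernel of the
determinant on the orthogonal group) of the standard split quadratic form in 2m variables is a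
reduced scheme and is not flat over ℤ. (The published statement also identifies the complement of
the Dickson special orthogonal group inside it with the non-identity component of the orthogonal
group in characteristic 2.) -/
theorem result (m : ℕ) (hm : 1 ≤ m)
    (G : Over (Spec (CommRingCat.of ℤ))) [GrpObj G] (D : QuadGrp.SOrth'Rep (QuadGrp.splitForm ℤ (2 * m)) G) :
    AlgebraicGeometry.IsReduced G.left ∧ ¬ AlgebraicGeometry.Flat G.hom := by
  revert D
  rw [Nat.mul_comm 2 m]
  intro D
  obtain ⟨M, hM, hMd⟩ := exists_reflection m hm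
  haveI hp2 : (Ideal.span {(2 : ℤ)}).IsPrime :=
    (Ideal.span_singleton_prime (by norm_num)).2 (Int.prime_iff_natAbs_prime.2 Nat.prime_two)
  obtain ⟨hred, hnflat⟩ := main_alg _ (by norm_num) (fun h => by rcases Int.isUnit_iff.1 h with h | h <;> norm_num at h)
    (isUnit_polar m) M hM hMd
  obtain ⟨y, hy⟩ := exists_iso _ G D
  haveI := hred
  haveI := hy
  haveI : AlgebraicGeometry.IsReduced (QuadGrp.specOver ℤ (U0 (bmat (QuadGrp.splitForm ℤ (m * 2))))).left :=
    inferInstanceAs (AlgebraicGeometry.IsReduced (Spec (CommRingCat.of _)))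
  refine ⟨isReduced_of_isOpenImmersion (inv y.left), fun hflat => hnflat ?_⟩
  have h : Flat (y.left ≫ G.hom) := inferInstance
  have e : y.left ≫ G.hom =
      Spec.map (CommRingCat.ofHom (algebraMap ℤ (U0 (bmat (QuadGrp.splitForm ℤ (m * 2)))))) :=
    Over.w y
  rw [e] at h
  exact RingHom.flat_algebraMap_iff.1 ((HasRingHomProperty.Spec_iff (P := @Flat)).1 h)

end Groth.Agent.S17000
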