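import Groth.Statements.S17006
import Groth.Agent.L15.QG.Centre
import Mathlib.Tactic.Ring
import Mathlib.Tactic.LinearCombination
import Mathlib.Tactic.FieldSimp
import Mathlib.Algebra.BigOperators.Ring.Finset

set_option autoImplicit false
universe u
open scoped TensorProduct
open QuadGrp

namespace Groth.Agent.S17006

/-- Let Q be a quadratic form on R^{2m}, m ≥ 2, over a commutative ring R, whose polar form is a perfect
pairing. An isometry g of Q satisfying the Dickson condition commutes, after base change to every
R-algebra A, with every isometry of Q_A satisfying the Dickson condition if and only if g is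
multiplication by a scalar whose square is one. (Points-level form of: for even rank at least 4 the
functorial centre of the special orthogonal group is the central μ₂ and coincides with that of the
naive one.) -/
theorem result (R : Type u) [CommRing R] (m : ℕ) (hm : 2 ≤ m)
    (Q : QuadraticForm R (Fin (2 * m) → R)) (hQ : QuadGrp.IsRegular Q)
    (g : (Fin (2 * m) → R) ≃ₗ[R] (Fin (2 * m) → R)) (hg : g ∈ QuadGrp.SO Q) :
    (∀ (A : Type u) [CommRing A] [Algebra R A], ∀ h ∈ QuadGrp.sorth Q A,
        g.baseChange R A (Fin (2 * m) → R) (Fin (2 * m) → R) * h = h * g.baseChange R A (Fin (2 * m) → R) (Fin (2 * m) → R)) ↔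
      ∃ c : R, c * c = 1 ∧ ∀ v, g v = c • v := by
  constructor
  · intro h
    have hg' : g ∈ QuadGrp.O Q := by
      rcases subsingleton_or_nontrivial R with hR | hR
      · exact fun v => Subsingleton.elim _ _
      rw [QuadGrp.SO, Module.finrank_fin_fun, if_pos (even_two_mul m)] at hg
      obtain ⟨h', -⟩ := hg
      exact h'
    refine Groth.L15.QG.exists_scalar_of_commute (by omega)
      (Groth.L15.QG.minorsUnit_of_isRegular Q (by omega) hQ) g hg' fun A _ _ v w hv hw => h A _ ?_
    rcases subsingleton_or_nontrivial A with hA | hA
    · haveI : Subsingleton (TensorProduct R A (Fin (2 * m) → R)) := Module.subsingleton A _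
      rw [Subsingleton.elim (Groth.L15.QG.refl _ v hv * Groth.L15.QG.refl _ w hw) 1]
      exact one_mem _
    · have hr : Module.finrank A (TensorProduct R A (Fin (2 * m) → R)) = 2 * m := by
        rw [Module.finrank_eq_card_basis (Groth.L15.QG.eA R A (2 * m)), Fintype.card_fin]
      rw [QuadGrp.sorth, QuadGrp.SO, hr, if_pos (even_two_mul m)]
      exact Groth.L15.QG.refl_mul_refl_mem_SOeven _ v hv w hw
  · rintro ⟨c, -, hc⟩ A _ _ h -
    exact Groth.L15.QG.commute_of_scalar g c hc h

end Groth.Agent.S17006
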