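import Groth.Statements.S1701
import Groth.Agent.L15.CartierFlat
import Groth.Agent.S1702
import Groth.Agent.L20.FlatStalk
import Groth.Agent.L20.ModPullback

set_option autoImplicit false
universe u
open CategoryTheory CategoryTheory.Limits AlgebraicGeometry TopologicalSpace
open SDiv

namespace Groth.Agent.S1701

theorem flat_atPrime {A C : Type u} [CommRing A] [CommRing C] [Algebra A C] {h : C} (hh : h ∈ nonZeroDivisors C)
    (q : Ideal C) [q.IsPrime] [IsNoetherianRing (Localization.AtPrime q)] (hq : h ∈ q)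
    [Module.Flat A (C ⧸ Ideal.span {h})] : Module.Flat A (Localization.AtPrime q) := by
  let B := Localization.AtPrime q
  haveI : Module.Flat C B := IsLocalization.flat B q.primeCompl
  have hb : algebraMap C B h ∈ nonZeroDivisors B :=
    IsLocalization.map_nonZeroDivisors_le q.primeCompl B ⟨h, hh, rfl⟩
  haveI : Module.Flat A (TensorProduct C B (C ⧸ Ideal.span {h})) := Groth.L20.ModStalk.flat_tensorProduct
  haveI : Module.Flat A (B ⧸ Ideal.span {algebraMap C B h}) := by
    refine Module.Flat.of_linearEquiv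
      (((TensorProduct.tensorQuotEquivQuotSMul B (Ideal.span {h})).trans
        ((Submodule.quotEquivOfEq _ _ (by rw [Ideal.smul_top_eq_map, Ideal.map_span, Set.image_singleton])).trans
          (Submodule.Quotient.restrictScalarsEquiv C (Ideal.span {algebraMap C B h})))).restrictScalars A).symm
  exact Groth.L15.CartierFlat.flat_of_flat_quotient hb
    ((IsLocalization.AtPrime.to_map_mem_maximal_iff B q h).2 hq)


/-- Let f : X ⟶ S be a morphism, 𝓘 the ideal sheaf of an effective Cartier divisor D ⊂ X such that D ⟶ S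
is flat (a relative effective Cartier divisor), and x a point of D at which the local ring of X is
Noetherian. Then f is flat at x. -/
theorem result {X S : Scheme.{u}} (f : X ⟶ S) (𝓘 : X.IdealSheafData)
    (hD : (BlowUp.IsEffCartierIdeal 𝓘 ∧ Flat (𝓘.subschemeι ≫ f))) (d : ↥𝓘.subscheme) [IsNoetherianRing (X.presheaf.stalk (𝓘.subschemeι d))] :
    (f.stalkMap (𝓘.subschemeι d)).hom.Flat := by
  obtain ⟨hI, fI⟩ := hD
  set x := 𝓘.subschemeι d with hx
  obtain ⟨U₁, hx₁, t₁, -, -, hU₁⟩ := Groth.L22.Ideals.exists_generator hI x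
  obtain ⟨V, hV, hxV, -⟩ := exists_isAffineOpen_mem_and_subset (x := f x) (U := ⊤) trivial
  obtain ⟨U, hU, hxU, hle⟩ := exists_isAffineOpen_mem_and_subset
    (x := x) (U := U₁.1 ⊓ f ⁻¹ᵁ V) ⟨hx₁, hxV⟩
  have e : U ≤ f ⁻¹ᵁ V := fun y hy => (hle hy).2
  obtain ⟨hn, he⟩ := hU₁ ⟨U, hU⟩ (fun y hy => (hle hy).1)
  letI := (f.appLE V U e).hom.toAlgebra
  have hq := (Groth.Agent.S1702.flat_ring_iff f 𝓘 ⟨U, hU⟩ V e).1
    ((𝓘.subschemeι ≫ f).flat_appLE hV (hU.preimage _) _)
  rw [he] at hq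
  haveI := (RingHom.flat_algebraMap_iff (R := Γ(S, V)) (S := Γ(X, U) ⧸ Ideal.span {_})).1 hq
  letI := X.presheaf.algebra_section_stalk ⟨x, hxU⟩
  haveI := hU.isLocalization_stalk ⟨x, hxU⟩
  set q := (hU.primeIdealOf ⟨x, hxU⟩).asIdeal with hq_def
  haveI : IsNoetherianRing (Localization.AtPrime q) :=
    isNoetherianRing_of_ringEquiv (X.presheaf.stalk x)
      (IsLocalization.algEquiv q.primeCompl (X.presheaf.stalk x) (Localization.AtPrime q)).toRingEquiv
  refine (Groth.L20.flat_stalkMap_iff f hV hU e hxU).2 (flat_atPrime hn q ?_)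
  have hmem : x ∈ 𝓘.support := by
    rw [← SetLike.mem_coe, ← Scheme.IdealSheafData.range_subschemeι]
    exact ⟨d, rfl⟩
  rw [Scheme.IdealSheafData.mem_support_iff_of_mem (U := ⟨U, hU⟩) hxU] at hmem
  have h1 : x ∈ hU.fromSpec '' PrimeSpectrum.zeroLocus (𝓘.ideal ⟨U, hU⟩ : Set Γ(X, U)) := by
    rw [hU.fromSpec_image_zeroLocus]
    exact ⟨hmem, hxU⟩
  obtain ⟨q', hq', hqq⟩ := h1
  rw [he] at hq'
  rw [hq_def, show hU.primeIdealOf ⟨x, hxU⟩ = q' from hU.fromSpec.isOpenEmbedding.injective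
    ((hU.fromSpec_primeIdealOf ⟨x, hxU⟩).trans hqq.symm)]
  exact hq' (Ideal.mem_span_singleton_self _)

end Groth.Agent.S1701
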