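import Groth.Statements.S17016
import Groth.Agent.L15.QG.SplitEven
import Mathlib.Tactic.Ring
import Mathlib.Tactic.LinearCombination
import Mathlib.Tactic.FieldSimp
import Mathlib.Algebra.BigOperators.Ring.Finset

set_option autoImplicit false
universe u
open QuadGrp

namespace Groth.Agent.S17016

/-- For the standard split quadratic form Σ x_{2i} x_{2i+1} on R^{2m} over any commutative ring R, with
standard basis vectors e_j in the Clifford algebra, the product w of the elements 1 − 2 e_{2i}
e_{2i+1} (i < m, which pairwise commute) satisfies w² = 1 and anticommutes with every e_j. (Hence w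
is central in the even Clifford algebra; over rings in which 2 is invertible (1 − w)/2 is the
non-trivial central idempotent of the even part.) -/
theorem result (R : Type u) [CommRing R] (m : ℕ) :
    let Q := QuadGrp.splitForm R (m * 2)
    let e : Fin (m * 2) → CliffordAlgebra Q := fun j => CliffordAlgebra.ι Q (Pi.single j 1)
    let w : CliffordAlgebra Q :=
      ((List.finRange m).map fun i => 1 - 2 * (e (finProdFinEquiv (i, 0)) * e (finProdFinEquiv (i, 1)))).prod
    w * w = 1 ∧ ∀ j : Fin (m * 2), e j * w = -(w * e j) := by
  exact ⟨Groth.L15.QG.splitW_sq R m, Groth.L15.QG.splitW_anti R m⟩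

end Groth.Agent.S17016
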