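import Groth.Statements.S17018
import Mathlib.AlgebraicGeometry.Stalk
import Mathlib.AlgebraicGeometry.Morphisms.ClosedImmersion
-- import your own Groth.Agent.* helpers here

set_option autoImplicit false
universe u
open CategoryTheory CategoryTheory.Limits AlgebraicGeometry
open scoped TensorProduct
open Models

namespace Groth.Agent.S17018

/-- Let R be a discrete valuation ring with algebraically closed residue field and f : X → Spec R a
proper flat morphism whose generic fibre (base change to the fraction field of R) is smooth of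
relative dimension 1 and connected and whose special fibre (base change to the residue field) is
connected and reduced; let ξ be the generic point of an irreducible component of the special fibre
and B a discrete valuation ring given with an isomorphism from the local ring of X at ξ under which
R → B is the map induced by f. Then the maximal ideal of B is the extension of the maximal ideal of
R: a uniformizer of R maps to a uniformizer of B. (The published setting takes everything
essentially of finite type over a field of characteristic zero; the printed argument does not use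
this and it is not imposed here.) -/
theorem result
    (R : Type u) [CommRing R] [IsDomain R] [IsDiscreteValuationRing R]
    [IsAlgClosed (IsLocalRing.ResidueField R)]
    (X : Scheme.{u}) (f : X ⟶ Spec (CommRingCat.of R)) [IsProper f] [Flat f]
    (XK : Scheme.{u}) (gK : XK ⟶ X) (fK : XK ⟶ Spec (CommRingCat.of (FractionRing R)))
    (hK : IsPullback gK fK f (Spec.map (CommRingCat.ofHom (algebraMap R (FractionRing R)))))
    [SmoothOfRelativeDimension 1 fK] [ConnectedSpace XK]
    (Xs : Scheme.{u}) (gs : Xs ⟶ X) (fs : Xs ⟶ Spec (CommRingCat.of (IsLocalRing.ResidueField R)))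
    (hs : IsPullback gs fs f (Spec.map (CommRingCat.ofHom (IsLocalRing.residue R))))
    [ConnectedSpace Xs] [IsReduced Xs]
    (ξ : Xs) (hξ : closure ({ξ} : Set Xs) ∈ irreducibleComponents Xs)
    (B : Type u) [CommRing B] [IsDomain B] [IsDiscreteValuationRing B] [Algebra R B]
    (e : X.presheaf.stalk (gs.base ξ) ≅ CommRingCat.of B)
    (he : e.hom.hom.comp ((X.presheaf.germ ⊤ (gs.base ξ) trivial).hom.comp (Coh.toGlobal f)) =
      algebraMap R B) :
    IsLocalRing.maximalIdeal B = Ideal.map (algebraMap R B) (IsLocalRing.maximalIdeal R) := by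
  let x : X := gs.base ξ
  let O := X.presheaf.stalk x
  let ρ : R →+* O := (X.presheaf.germ ⊤ x trivial).hom.comp (Coh.toGlobal f)
  let J : Ideal O := (IsLocalRing.maximalIdeal R).map ρ
  let θ : O →+* Xs.presheaf.stalk ξ := (gs.stalkMap ξ).hom
  -- the special fibre kills the maximal ideal
  have hJθ : J ≤ RingHom.ker θ := by
    refine Ideal.map_le_iff_le_comap.mpr fun r hr => ?_
    rw [Ideal.mem_comap, RingHom.mem_ker]
    show gs.stalkMap ξ (X.presheaf.germ ⊤ x trivial (Coh.toGlobal f r)) = 0
    rw [Scheme.Hom.germ_stalkMap_apply]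
    have h1 : gs.app ⊤ (Coh.toGlobal f r) = 0 := by
      show ((Scheme.ΓSpecIso (CommRingCat.of R)).inv ≫ f.appTop ≫ gs.appTop) r = 0
      rw [← Scheme.Hom.comp_appTop, hs.w, Scheme.Hom.comp_appTop, ← Category.assoc,
        ← Scheme.ΓSpecIso_inv_naturality]
      show fs.appTop ((Scheme.ΓSpecIso _).inv (IsLocalRing.residue R r)) = 0
      rw [(IsLocalRing.residue_eq_zero_iff r).mpr hr, map_zero, map_zero]
    rw [h1, map_zero]
  -- the local ring of the special fibre is a field
  have hprime : ∀ q : Spec (Xs.presheaf.stalk ξ), q = IsLocalRing.closedPoint _ := by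
    intro q
    apply (Xs.fromSpecStalk ξ).isEmbedding.injective
    rw [Scheme.fromSpecStalk_closedPoint]
    have h1 : Xs.fromSpecStalk ξ q ⤳ ξ := by
      have : Xs.fromSpecStalk ξ q ∈ Set.range (Xs.fromSpecStalk ξ) := ⟨q, rfl⟩
      rwa [Scheme.range_fromSpecStalk] at this
    have h2 : closure {ξ} ⊆ closure {Xs.fromSpecStalk ξ q} :=
      closure_minimal (Set.singleton_subset_iff.mpr h1.mem_closure) isClosed_closure
    have h3 := hξ.2 (isIrreducible_singleton.closure) h2
    exact (h1.antisymm (specializes_iff_mem_closure.mpr (h3 (subset_closure rfl)))).eq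
  have hfield : IsLocalRing.maximalIdeal (Xs.presheaf.stalk ξ) = ⊥ := by
    rw [eq_bot_iff]
    intro z hz
    rw [Ideal.mem_bot]
    refine (nilpotent_iff_mem_prime.mpr fun q hq => ?_).eq_zero
    have := congrArg PrimeSpectrum.asIdeal (hprime ⟨q, hq⟩)
    rw [show q = IsLocalRing.maximalIdeal _ from this]
    exact hz
  have hker : RingHom.ker θ = IsLocalRing.maximalIdeal O := by
    rw [RingHom.ker_eq_comap_bot, ← hfield]
    haveI : IsLocalHom θ := inferInstanceAs (IsLocalHom (gs.stalkMap ξ).hom)
    exact ((IsLocalRing.local_hom_TFAE θ).out 0 4).mp ‹IsLocalHom θ›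
  have hJ : J ≤ IsLocalRing.maximalIdeal O := hJθ.trans hker.le
  have hmJ : IsLocalRing.maximalIdeal O ≤ J := by
    haveI : Nontrivial (O ⧸ J) := Ideal.Quotient.nontrivial_iff.mpr fun h =>
      (IsLocalRing.maximalIdeal.isMaximal O).ne_top (top_le_iff.mp (h ▸ hJ))
    haveI : IsLocalRing (O ⧸ J) :=
      IsLocalRing.of_surjective' (Ideal.Quotient.mk J) Ideal.Quotient.mk_surjective
    haveI : IsLocalHom (Ideal.Quotient.mk J) :=
      IsLocalHom.of_surjective _ Ideal.Quotient.mk_surjective
    let κ : IsLocalRing.ResidueField R →+* O ⧸ J :=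
      Ideal.Quotient.lift (IsLocalRing.maximalIdeal R) ((Ideal.Quotient.mk J).comp ρ)
        (fun r hr => Ideal.Quotient.eq_zero_iff_mem.mpr (Ideal.mem_map_of_mem ρ hr))
    let mkh : X.presheaf.stalk x ⟶ CommRingCat.of (O ⧸ J) := CommRingCat.ofHom (Ideal.Quotient.mk J)
    let a : Spec (CommRingCat.of (O ⧸ J)) ⟶ X := Spec.map mkh ≫ X.fromSpecStalk x
    have ha : a ≫ f = Spec.map (CommRingCat.ofHom κ) ≫ Spec.map (CommRingCat.ofHom (IsLocalRing.residue R)) := by
      refine ext_of_isAffine ?_
      rw [← cancel_epi (Scheme.ΓSpecIso (CommRingCat.of R)).inv]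
      simp only [a, Category.assoc, ← Spec.map_comp, Scheme.Hom.comp_appTop]
      rw [← Scheme.ΓSpecIso_inv_naturality, Scheme.fromSpecStalk_appTop]
      simp only [homOfLE_refl, op_id, CategoryTheory.Functor.map_id, Category.assoc, Category.id_comp]
      rw [← Scheme.ΓSpecIso_inv_naturality mkh]
      ext r
      rfl
    let l : Spec (CommRingCat.of (O ⧸ J)) ⟶ Xs := hs.lift a (Spec.map (CommRingCat.ofHom κ)) ha
    have hl : l ≫ gs = a := hs.lift_fst _ _ _
    haveI : IsClosedImmersion gs := MorphismProperty.of_isPullback (P := @IsClosedImmersion) hs.flip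
      (IsClosedImmersion.spec_of_surjective _ IsLocalRing.residue_surjective)
    have hlc : l (IsLocalRing.closedPoint _) = ξ := by
      apply gs.isClosedEmbedding.injective
      rw [← Scheme.Hom.comp_apply, hl, Scheme.Hom.comp_apply]
      refine (congrArg (X.fromSpecStalk x) ?_).trans Scheme.fromSpecStalk_closedPoint
      exact IsLocalRing.comap_closedPoint (Ideal.Quotient.mk J)
    let χ : Xs.presheaf.stalk ξ ⟶ CommRingCat.of (O ⧸ J) :=
      Xs.presheaf.stalkSpecializes (specializes_of_eq hlc) ≫ Scheme.stalkClosedPointTo l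
    have hχ : gs.stalkMap ξ ≫ χ = mkh := by
      apply Spec.map_injective
      rw [← cancel_mono (X.fromSpecStalk x)]
      show _ = a
      rw [Spec.map_comp, Category.assoc]
      refine (congrArg (fun m : Spec (Xs.presheaf.stalk ξ) ⟶ X => Spec.map χ ≫ m)
        (Scheme.SpecMap_stalkMap_fromSpecStalk gs (x := ξ))).trans ?_
      rw [Spec.map_comp, Category.assoc, Scheme.SpecMap_stalkSpecializes_fromSpecStalk_assoc,
        Scheme.Spec_stalkClosedPointTo_fromSpecStalk_assoc, hl]
    intro z hz
    rw [← Ideal.Quotient.eq_zero_iff_mem]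
    have h1 : θ z = 0 := by rw [← RingHom.mem_ker, hker]; exact hz
    have h2 := congrArg (fun g => g.hom z) hχ
    exact h2.symm.trans ((congrArg χ.hom h1).trans (map_zero χ.hom))
  have hO : IsLocalRing.maximalIdeal O = J := le_antisymm hmJ hJ
  let ε : O ≃+* B := e.commRingCatIsoToRingEquiv
  have h4 : IsLocalRing.maximalIdeal B = (IsLocalRing.maximalIdeal O).map ε.toRingHom := by
    haveI : (Ideal.map ε.toRingHom (IsLocalRing.maximalIdeal O)).IsMaximal :=
      Ideal.map_isMaximal_of_equiv ε
    exact (IsLocalRing.eq_maximalIdeal inferInstance).symm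
  rw [h4, hO, Ideal.map_map]
  congr 1

end Groth.Agent.S17018
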