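import Groth.Statements.S17019
import Groth.Agent.L05.ModelGeneric.DVR

set_option autoImplicit false
universe u
open CategoryTheory CategoryTheory.Limits AlgebraicGeometry
open scoped TensorProduct
open Models

namespace Groth.Agent.S17019

/-- Let R be a discrete valuation ring with algebraically closed residue field and f : X → Spec R a
proper flat morphism whose generic fibre (base change to the fraction field of R) is smooth of
relative dimension 1 and connected and whose special fibre (base change to the residue field) is
connected and reduced; let ξ be the generic point of an irreducible component of the special fibre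
and B a discrete valuation ring given with an isomorphism from the local ring of X at ξ under which
R → B is the map induced by f; let R' be a discrete valuation ring with an injective local
homomorphism R → R' which is generically finite (Frac R ⊗_R R' is a finite module over Frac R). Then
B ⊗_R R' is an integral domain and a discrete valuation ring. (The published setting takes
everything essentially of finite type over a field of characteristic zero; the printed argument does
not use this and it is not imposed here.) -/
theorem result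
    (R : Type u) [CommRing R] [IsDomain R] [IsDiscreteValuationRing R]
    [IsAlgClosed (IsLocalRing.ResidueField R)]
    (X : Scheme.{u}) (f : X ⟶ Spec (CommRingCat.of R)) [IsProper f] [Flat f]
    (XK : Scheme.{u}) (gK : XK ⟶ X) (fK : XK ⟶ Spec (CommRingCat.of (FractionRing R)))
    (hK : IsPullback gK fK f (Spec.map (CommRingCat.ofHom (algebraMap R (FractionRing R)))))
    [SmoothOfRelativeDimension 1 fK] [ConnectedSpace XK]
    (Xs : Scheme.{u}) (gs : Xs ⟶ X) (fs : Xs ⟶ Spec (CommRingCat.of (IsLocalRing.ResidueField R)))
    (hs : IsPullback gs fs f (Spec.map (CommRingCat.ofHom (IsLocalRing.residue R))))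
    [ConnectedSpace Xs] [IsReduced Xs]
    (ξ : Xs) (hξ : closure ({ξ} : Set Xs) ∈ irreducibleComponents Xs)
    (B : Type u) [CommRing B] [IsDomain B] [IsDiscreteValuationRing B] [Algebra R B]
    (e : X.presheaf.stalk (gs.base ξ) ≅ CommRingCat.of B)
    (he : e.hom.hom.comp ((X.presheaf.germ ⊤ (gs.base ξ) trivial).hom.comp (Coh.toGlobal f)) =
      algebraMap R B)
    (R' : Type u) [CommRing R'] [IsDomain R'] [IsDiscreteValuationRing R'] [Algebra R R']
    (hinj : Function.Injective (algebraMap R R')) [IsLocalHom (algebraMap R R')]
    [Module.Finite (FractionRing R) (FractionRing R ⊗[R] R')] :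
    ∃ _ : IsDomain (B ⊗[R] R'), IsDiscreteValuationRing (B ⊗[R] R') := by
  obtain ⟨π, hπ⟩ := IsDiscreteValuationRing.exists_irreducible R
  have : Smooth fK := SmoothOfRelativeDimension.smooth 1 fK
  have hinjK : Function.Injective ((algebraMap R' (FractionRing R')).comp (algebraMap R R')) :=
    (IsFractionRing.injective R' (FractionRing R')).comp hinj
  letI : Algebra (FractionRing R) (FractionRing R') := (IsFractionRing.lift (A := R) hinjK).toAlgebra
  have : IsScalarTower R (FractionRing R) (FractionRing R') := IsScalarTower.of_algebraMap_eq fun r => by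
    rw [RingHom.algebraMap_toAlgebra, IsFractionRing.lift_algebraMap, RingHom.comp_apply,
      ← IsScalarTower.algebraMap_apply]
  have : Module.Finite (FractionRing R) (FractionRing R') := by
    let Φ : FractionRing R ⊗[R] R' →ₐ[FractionRing R] FractionRing R' :=
      Algebra.TensorProduct.lift (Algebra.ofId _ _) (IsScalarTower.toAlgHom R R' (FractionRing R'))
        fun _ _ => Commute.all _ _
    refine Module.Finite.of_surjective Φ.toLinearMap fun c => ?_
    obtain ⟨ϖ, hϖ⟩ := IsDiscreteValuationRing.exists_irreducible R'
    obtain ⟨⟨a, s, hs'⟩, hc⟩ := IsLocalization.surj (nonZeroDivisors R') c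
    obtain ⟨m, u, rfl⟩ := IsDiscreteValuationRing.eq_unit_mul_pow_irreducible (nonZeroDivisors.ne_zero hs') hϖ
    obtain ⟨e₀, u₀, hu₀⟩ := IsDiscreteValuationRing.eq_unit_mul_pow_irreducible
      ((map_ne_zero_iff _ hinj).mpr hπ.ne_zero) hϖ
    have he₀ : e₀ ≠ 0 := fun h => by
      subst h
      rw [pow_zero, mul_one] at hu₀
      exact hπ.not_isUnit (isUnit_of_map_unit (algebraMap R R') π (hu₀ ▸ u₀.isUnit))
    have hm : m ≤ e₀ * m := Nat.le_mul_of_pos_left m (Nat.pos_of_ne_zero he₀)
    have hπ0 : (algebraMap R (FractionRing R) π) ^ m ≠ 0 :=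
      pow_ne_zero _ ((map_ne_zero_iff _ (IsFractionRing.injective R (FractionRing R))).mpr hπ.ne_zero)
    refine ⟨((algebraMap R (FractionRing R) π) ^ m)⁻¹ ⊗ₜ[R]
      ((↑u⁻¹ : R') * (u₀ : R') ^ m * ϖ ^ (e₀ * m - m) * a), ?_⟩
    rw [AlgHom.toLinearMap_apply]
    rw [Algebra.TensorProduct.lift_tmul]
    show algebraMap (FractionRing R) (FractionRing R') ((algebraMap R (FractionRing R) π) ^ m)⁻¹ *
      algebraMap R' (FractionRing R') _ = c
    rw [map_mul (algebraMap R' _) _ a,
      show algebraMap R' (FractionRing R') a = c * algebraMap R' _ (↑u * ϖ ^ m) from hc.symm,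
      map_inv₀, map_pow, ← IsScalarTower.algebraMap_apply, IsScalarTower.algebraMap_apply R R' (FractionRing R'), hu₀,
      inv_mul_eq_iff_eq_mul₀ (by
        rw [← hu₀, ← IsScalarTower.algebraMap_apply]
        exact pow_ne_zero _ ((map_ne_zero_iff _ (by rw [IsScalarTower.algebraMap_eq R R' (FractionRing R')]; exact hinjK)).mpr hπ.ne_zero))]
    calc algebraMap R' (FractionRing R') ((↑u⁻¹ : R') * (u₀ : R') ^ m * ϖ ^ (e₀ * m - m)) *
          (c * algebraMap R' (FractionRing R') (↑u * ϖ ^ m))
        = algebraMap R' (FractionRing R') ((↑u⁻¹ * ↑u) * ((u₀ : R') ^ m * (ϖ ^ (e₀ * m - m) * ϖ ^ m))) * c := by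
          simp only [map_mul]; ring
      _ = algebraMap R' (FractionRing R') (((u₀ : R') * ϖ ^ e₀)) ^ m * c := by
          rw [Units.inv_mul, one_mul, ← pow_add, Nat.sub_add_cancel hm, ← map_pow, mul_pow, ← pow_mul]
  obtain ⟨hm, hne⟩ := Groth.L05.ModelGeneric.map_maximalIdeal R hπ f gs fs hs ξ e he
  have : IsLocalHom (algebraMap R B) := ((IsLocalRing.local_hom_TFAE _).out 0 2).mpr hm.le
  have hdom := Groth.L05.ModelGeneric.isDomain_tensor R hπ f gs fs hs ξ e he gK fK hK (FractionRing R')
  exact Groth.L05.ModelGeneric.isDiscreteValuationRing_tensor R R' B hπ hm hne hdom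

end Groth.Agent.S17019
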