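import Groth.Prelude.Def_CAlg
import Groth.Prelude.Def_Coh
import Groth.Prelude.Def_Pic
import Mathlib.AlgebraicGeometry.Noetherian
import Mathlib.AlgebraicGeometry.Morphisms.Etale
import Mathlib.AlgebraicGeometry.Restrict
import Mathlib.AlgebraicGeometry.Modules.Sheaf
import Mathlib.RingTheory.KrullDimension.Basic
import Groth.Agent.L26.BigOpen.Descent
import Groth.Agent.L10.RelCan.QGorDescent
import Groth.Agent.L06.Hartshorne

set_option autoImplicit false
set_option linter.style.haveILetI false
namespace PicF
end PicF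
universe u
open CategoryTheory CategoryTheory.Limits AlgebraicGeometry
open PicF

namespace Groth.Agent.S17021

/-- Let X be a locally Noetherian scheme all of whose local rings satisfy Serre's condition (S₂), p a
closed point of X whose local ring has Krull dimension 2, U the open complement of p and L an
invertible O_U-module. Suppose L extends to an invertible module over an étale neighbourhood of p:
there are an étale morphism j : V → X, a point q of V with j(q) = p and an invertible O_V-module M
whose pullback to j⁻¹(U) is isomorphic to the pullback of L along j⁻¹(U) → U. Then L extends to X: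
some invertible O_X-module has pullback to U isomorphic to L. (Stated for schemes; the published
statement is for a Deligne–Mumford stack of dimension 2 satisfying (S₂) and its proof passes to a
scheme on an étale chart. Dimension 2 is imposed here on the local ring at p. The published setting
takes everything essentially of finite type over a field of characteristic zero; here X is only
assumed locally Noetherian.) -/
theorem result {X : Scheme.{u}} [IsLocallyNoetherian X]
    (hS2 : ∀ x : X, LocCoh.HasSk 2 (X.presheaf.stalk x) (X.presheaf.stalk x))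
    (p : X) (hp : IsClosed ({p} : Set X)) (hdim : ringKrullDim (X.presheaf.stalk p) = 2)
    (U : X.Opens) (hU : (U : Set X) = {p}ᶜ)
    (L : (U : Scheme.{u}).Modules) (hL : PicF.IsInvertible L)
    {V : Scheme.{u}} (j : V ⟶ X) [Etale j] (q : V) (hq : j.base q = p)
    (M : V.Modules) (hM : PicF.IsInvertible M)
    (e : (Scheme.Modules.pullback (j ⁻¹ᵁ U).ι).obj M ≅ (Scheme.Modules.pullback (j ∣_ U)).obj L) :
    ∃ N : X.Modules, PicF.IsInvertible N ∧ Nonempty ((Scheme.Modules.pullback U.ι).obj N ≅ L) := by
  have hdepth : ∀ x : X, x ∉ U → 2 ≤ LocCoh.depth (X.presheaf.stalk x) (X.presheaf.stalk x) := by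
    intro x hx
    obtain rfl : x = p := by
      by_contra hne
      exact hx (hU.ge (show x ∈ ({p}ᶜ : Set X) from hne))
    let A := X.presheaf.stalk x
    let m : PrimeSpectrum A := IsLocalRing.closedPoint A
    haveI : IsLocalization.AtPrime A m.asIdeal :=
      IsLocalization.self fun a ha => show IsUnit a by simpa [m, IsLocalRing.closedPoint] using ha
    have h := Groth.L06.Hartshorne.depth_of_hasSk (hS2 x) m (by
      rw [← WithBot.coe_le_coe, show m.asIdeal = IsLocalRing.maximalIdeal A from rfl,
        IsLocalRing.maximalIdeal_height_eq_ringKrullDim, hdim]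
      rfl)
    exact h.trans (Groth.L06.FlatFibre.depth_eq_of_ringEquiv
      (IsLocalization.algEquiv m.asIdeal.primeCompl (Localization.AtPrime m.asIdeal) A).toRingEquiv).ge
  haveI : IsLocallyNoetherian V := LocallyOfFiniteType.isLocallyNoetherian j
  have hLf := Groth.L16.Existence.isFinLocFree_of_isInvertible hL
  haveI : Coh.IsQCoh L := Groth.L04.FinLocFreeHom.isQCoh_of_finLocFree hLf
  haveI : Coh.IsQCoh ((Scheme.Modules.pushforward U.ι).obj L) := Groth.L16.QcqsPush.isQCoh_push L U.ι
  obtain ⟨k⟩ : Nonempty ((Scheme.Modules.pullback j).obj ((Scheme.Modules.pushforward U.ι).obj L) ≅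
      (Scheme.Modules.pushforward (j ⁻¹ᵁ U).ι).obj ((Scheme.Modules.pullback (j ∣_ U)).obj L)) :=
    ⟨@asIso _ _ _ _ _ (Groth.Agent.S11133.result U.ι j (j ∣_ U) (j ⁻¹ᵁ U).ι (isPullback_morphismRestrict j U) L)⟩
  have hO' := Groth.L07.RefExtend.supportedOn_structureModule (U := j ⁻¹ᵁ U) fun x hx =>
    Groth.L20.SeeNormal.two_le_depth_of_base j x (hdepth (j x) hx)
  obtain ⟨k'⟩ := (Groth.L14.ParaF.finLocFree_extends_iff hO' _).2 M (Groth.L16.Existence.isFinLocFree_of_isInvertible hM)
    ⟨(Scheme.Modules.restrictFunctorIsoPullback (j ⁻¹ᵁ U).ι).app M ≪≫ e⟩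
  have hinv : PicF.IsInvertible ((Scheme.Modules.pullback j).obj ((Scheme.Modules.pushforward U.ι).obj L)) :=
    Groth.L18.Ample.isInvertible_of_iso (k' ≪≫ k.symm) hM
  have hJs : Groth.L21.Extend.SupportedOn ((Scheme.Modules.pushforward U.ι).obj L) U :=
    Groth.L21.Extend.supportedOn_pushforward le_rfl L
  have eJ : ((Scheme.Modules.pushforward U.ι).obj L).restrict U.ι ≅ L :=
    (Scheme.Modules.restrictFunctorAdjCounitIso U.ι).app L
  have hLc : Coh.IsCoh L := Groth.L16.ProperFinite.isCoh_of_isInvertible hL
  have hrefV : ∀ x ∈ U, RefHull.IsReflexiveAt ((Scheme.Modules.pushforward U.ι).obj L) x := fun x hx =>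
    (Groth.L07.RefExtend.isReflexiveAt_restrict_iff U.ι _ ⟨x, hx⟩).1
      ((Groth.L07.RefExtend.isReflexiveAt_congr eJ.hom ⟨x, hx⟩
        (Groth.L07.RefExtend.stalkMapₗ_bijective_of_isIso _ _)).2 (by
          haveI := Groth.L18.LFP.free_stalk L hLf ⟨x, hx⟩
          haveI := Groth.L18.LFP.finite_stalk L (Groth.L18.LFP.isFP_of_isFinLocFree L hLf) ⟨x, hx⟩
          exact inferInstanceAs (Module.IsReflexive _ _)))
  have hJc : Coh.IsCoh ((Scheme.Modules.pushforward U.ι).obj L) := Groth.L07.RefExtend.isCoh_push U _ hJs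
    (fun W _ => Groth.L07.RefExtend.supportedOn_structureModule fun y hy =>
      (hdepth (W.ι y) hy).trans
        (Groth.L06.FlatFibre.depth_eq_of_ringEquiv (Groth.L07.RefExtend.stalkEquiv W.ι y)).ge)
    (Groth.L16.CohSupport.isCoh_of_iso eJ.symm hLc) hrefV
  refine ⟨(Scheme.Modules.pushforward U.ι).obj L, fun y => ?_,
    ⟨((Scheme.Modules.restrictFunctorIsoPullback U.ι).app _).symm ≪≫ eJ⟩⟩
  by_cases hy : y ∈ U
  · obtain ⟨O, hyO, -, g, hg⟩ := Groth.L21.Extend.genOn_pushforward L hL y hy
    exact ⟨O, hyO, Groth.L21.Extend.exists_iso_of_isGen _ hg⟩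
  · obtain rfl : y = p := by
      by_contra hne
      exact hy (hU.ge (show y ∈ ({p}ᶜ : Set X) from hne))
    subst hq
    exact Groth.L10.RelCan.invertibleAt_of_pullback j hJc q (hinv q)

end Groth.Agent.S17021
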