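import Groth.Statements.S17022
import Groth.Agent.L21.Disc.HurwitzOmega
import Groth.Agent.L21.Duality.Pairing
import Groth.Agent.L21.Curve.NormalConnected
import Groth.Agent.L21.Smooth.Scheme
import Groth.Agent.L03.SurfAdj.Tools
import Groth.Agent.L21.CurveMaps
import Groth.Agent.L21.CurveFlat
import Groth.Agent.L22.Cyc.Mult
import Groth.Agent.L21.P1.Coh
import Groth.Agent.L21.RR.GeomGenusZero
import Groth.Agent.L16.ProjSpace.Basic

set_option autoImplicit false
set_option backward.isDefEq.respectTransparency false
set_option backward.isDefEq.respectTransparency.types false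
set_option maxHeartbeats 1600000
universe u
open CategoryTheory CategoryTheory.Limits AlgebraicGeometry
open Curves

namespace Groth.Agent.S17022

/-- Let k be an algebraically closed field of characteristic zero, C a connected scheme which is proper
and smooth of relative dimension 1 over k, and f : C → P¹_k a surjective morphism over k which is
étale over the complement of two closed points p, q of P¹_k (p = q is allowed). Then C is isomorphic
to P¹_k over k, and f has exactly one point over p and exactly one point over q. (Existence of an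
isomorphism only; the published statement moreover identifies f, in suitable coordinates, with (a :
b) ↦ (aⁿ : bⁿ) for some n. The published statement leaves implicit that the ground field is
algebraically closed and that C is a connected smooth proper curve; its argument uses both, and over
a non-closed field the projective line over a finite extension is a connected cover with no
ramification.) -/
theorem result (k : Type u) [Field k]
    [IsAlgClosed k] [CharZero k] {C : Scheme.{u}} (s : C ⟶ Spec (CommRingCat.of k))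
    [IsProper s] [SmoothOfRelativeDimension 1 s] [ConnectedSpace C]
    (f : C ⟶ CohB1.ProjSpace 1 k) (hf : f ≫ CohB1.ProjSpace.toSpec 1 k = s) [Surjective f]
    (p q : ↥(CohB1.ProjSpace 1 k)) (hp : IsClosed ({p} : Set ↥(CohB1.ProjSpace 1 k))) (hq : IsClosed ({q} : Set ↥(CohB1.ProjSpace 1 k)))
    (W : (CohB1.ProjSpace 1 k).Opens) (hW : (W : Set ↥(CohB1.ProjSpace 1 k)) = {p, q}ᶜ) [Etale (f ∣_ W)] :
    (∃ e : C ≅ CohB1.ProjSpace 1 k, e.hom ≫ CohB1.ProjSpace.toSpec 1 k = s) ∧
      (∀ x y : C, f.base x = p → f.base y = p → x = y) ∧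
      (∀ x y : C, f.base x = q → f.base y = q → x = y) := by
  classical
  letI : C.Over (Spec (CommRingCat.of k)) := ⟨s⟩
  letI : (CohB1.ProjSpace 1 k).Over (Spec (CommRingCat.of k)) := ⟨CohB1.ProjSpace.toSpec 1 k⟩
  haveI : IsProper (C ↘ Spec (CommRingCat.of k)) := ‹IsProper s›
  haveI : IsProper (CohB1.ProjSpace 1 k ↘ Spec (CommRingCat.of k)) :=
    Groth.L16.ProjSpace.isProper_toSpec (n := 1) (R := k)
  haveI : Smooth s := SmoothOfRelativeDimension.smooth 1 s
  haveI := Groth.L21.RR.isNoetherian_of_proper (X := C) k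
  haveI := Groth.L21.RR.isNoetherian_of_proper (X := CohB1.ProjSpace 1 k) k
  haveI : IsIntegral C := Groth.L21.NormalTotal.isIntegral_of_connected
    fun x => Groth.L21.Smooth.isDomain_stalk s x
  haveI : IsIntegral (CohB1.ProjSpace 1 k) := Groth.L16.ProjSpace.isIntegral (n := 1) (R := k)
  haveI : Smooth (CohB1.ProjSpace.toSpec 1 k) := Groth.L16.ProjSpace.smooth_toSpec (n := 1) (R := k)
  haveI : SmoothOfRelativeDimension 1 (CohB1.ProjSpace.toSpec 1 k) :=
    Groth.L16.ProjSpace.smoothOfRelativeDimension_toSpec (n := 1) (R := k)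
  have hdX : topologicalKrullDim C = 1 := Groth.L03.SurfAdj.dim_of_relDim s 1
  have hdY : topologicalKrullDim (CohB1.ProjSpace 1 k) = 1 :=
    Groth.L03.SurfAdj.dim_of_relDim (CohB1.ProjSpace.toSpec 1 k) 1
  have hnX : ∀ x : C, IsDomain (C.presheaf.stalk x) ∧ IsIntegrallyClosed (C.presheaf.stalk x) :=
    fun x => ⟨Groth.L21.Smooth.isDomain_stalk s x, Groth.L21.Smooth.isIntegrallyClosed_stalk s x⟩
  have hnY : ∀ y : CohB1.ProjSpace 1 k, IsDomain ((CohB1.ProjSpace 1 k).presheaf.stalk y) ∧
      IsIntegrallyClosed ((CohB1.ProjSpace 1 k).presheaf.stalk y) :=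
    fun y => ⟨Groth.L21.Smooth.isDomain_stalk (CohB1.ProjSpace.toSpec 1 k) y,
      Groth.L21.Smooth.isIntegrallyClosed_stalk (CohB1.ProjSpace.toSpec 1 k) y⟩
  have hne : ∀ {y : CohB1.ProjSpace 1 k}, IsClosed ({y} : Set (CohB1.ProjSpace 1 k)) → y ≠ genericPoint _ :=
    fun h => Groth.L21.RR.ne_genericPoint_of_isClosed hdY h
  haveI : IsFinite f := Groth.L21.CurveTop.isFinite_of_nonconstant s (CohB1.ProjSpace.toSpec 1 k) f hf hdX.le
    fun Z hZ _ => by
      rw [irreducibleComponents_eq_singleton] at hZ
      rw [Set.mem_singleton_iff.1 hZ, Set.image_univ]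
      exact ⟨_, f.surjective p, _, f.surjective (genericPoint _), hne hp⟩
  haveI : LocallyOfFinitePresentation f := inferInstance
  have hdom : f (genericPoint C) = genericPoint (CohB1.ProjSpace 1 k) := by
    obtain ⟨x, hx⟩ := f.surjective (genericPoint (CohB1.ProjSpace 1 k))
    have h := ((genericPoint_spec C).specializes (y := x) trivial).map f.continuous
    rw [hx] at h
    exact (h.antisymm ((genericPoint_spec _).specializes trivial)).eq
  haveI : Flat f := Groth.L21.flat_of_nonconstant hdY.le hnY f
    ⟨_, f.surjective p, _, f.surjective (genericPoint _), hne hp⟩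
  letI := ((CohB1.ProjSpace 1 k).presheaf.stalkSpecializes (specializes_of_eq hdom) ≫
      f.stalkMap (genericPoint C)).hom.toAlgebra
  haveI : CharZero (CohB1.ProjSpace 1 k).functionField := by
    haveI : Nonempty (⊤ : (CohB1.ProjSpace 1 k).Opens) := ⟨⟨genericPoint _, trivial⟩⟩
    exact charZero_of_injective_ringHom (((CohB1.ProjSpace 1 k).germToFunctionField ⊤).hom.comp
      (((CohB1.ProjSpace.toSpec 1 k).appTop.hom).comp (Scheme.ΓSpecIso (CommRingCat.of k)).inv.hom)).injective
  haveI hfinF : Module.Finite (CohB1.ProjSpace 1 k).functionField C.functionField :=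
    Groth.L21.Duality.finiteDimensional_functionField f hdom
  have hsep : Algebra.IsSeparable (CohB1.ProjSpace 1 k).functionField C.functionField := inferInstance
  obtain ⟨d, F, hFc, hspec, hF0, hmain⟩ :=
    Groth.L21.Disc.exists_hurwitz f k hdX hdY hnX hnY hf hdom hsep
  have hclY : ∀ {x : C}, IsClosed ({x} : Set C) → IsClosed ({f x} : Set (CohB1.ProjSpace 1 k)) := fun {x} hx => by
    simpa using f.isClosedMap _ hx
  have hclX : ∀ {x : C}, IsClosed ({f x} : Set (CohB1.ProjSpace 1 k)) → IsClosed ({x} : Set C) := fun {x} hy => by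
    by_contra hx
    exact hne hy (by rw [Groth.L21.RR.eq_genericPoint_of_not_isClosed hdX.le hx, hdom])
  let fib : CohB1.ProjSpace 1 k → Finset C := fun y => (f.finite_preimage_singleton y).toFinset
  have hfib : ∀ y x, x ∈ fib y ↔ f x = y := fun y x => by simp [fib]
  -- residue degrees
  have hres : ∀ {x : C}, IsClosed ({x} : Set C) → f.residueDegree x = 1 := fun {x} hx => by
    have h := Groth.L22.Cyc.residueDegree_comp f (CohB1.ProjSpace.toSpec 1 k) x
    rw [Groth.L22.Cyc.residueDegree_congr _ hf] at h
    have h1 : s.residueDegree x = 1 :=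
      (Groth.L21.Disc.finrank_resAlgebra_eq (X := C) k x).symm.trans (Groth.L21.RR.finrank_residueField_eq_one k hx)
    rw [h1] at h
    exact (mul_eq_one.1 h.symm).2
  -- the degree
  let e : C → ℕ := fun x => (Groth.L22.Cyc.mult f x).toNat
  let n : ℕ := f.finrank (genericPoint (CohB1.ProjSpace 1 k))
  have hn : ∀ y, f.finrank y = n := fun y =>
    f.isLocallyConstant_finrank.apply_eq_of_preconnectedSpace _ _
  have hdeg : Module.finrank (CohB1.ProjSpace 1 k).functionField C.functionField = n := by
    rw [← Groth.L21.Disc.residueDegree_genericPoint f hdom]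
    show _ = f.finrank _
    rw [Groth.L22.Cyc.finrank_eq_sum f (genericPoint (CohB1.ProjSpace 1 k))]
    have hset : f ⁻¹' {genericPoint (CohB1.ProjSpace 1 k)} = {genericPoint C} := by
      ext x
      refine ⟨fun hx => ?_, fun hx => by rw [Set.mem_singleton_iff.1 hx]; exact hdom⟩
      by_contra h
      have hxc : IsClosed ({x} : Set C) := by
        by_contra hxc
        exact h (Groth.L21.RR.eq_genericPoint_of_not_isClosed hdX.le hxc)
      exact hne (hclY hxc) hx
    rw [hset, finsum_mem_singleton]
    have hm : Groth.L22.Cyc.mult f (genericPoint C) = 1 := by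
      have hne' := Groth.L22.Cyc.fibIdeal_le f (genericPoint C)
      rw [IsLocalRing.isField_iff_maximalIdeal_eq.1 (Field.toIsField C.functionField), le_bot_iff] at hne'
      show Module.length _ (_ ⧸ Groth.L22.Cyc.fibIdeal f (genericPoint C)) = 1
      rw [hne', Module.length_eq_one_iff, isSimpleModule_iff_isCoatom, ← Ideal.isMaximal_def]
      rw [← IsLocalRing.isField_iff_maximalIdeal_eq.1 (Field.toIsField C.functionField)]
      exact IsLocalRing.maximalIdeal.isMaximal _
    rw [hm]; simp
  have hepos : ∀ {x : C}, IsClosed ({x} : Set C) → 0 < e x := fun {x} hx => by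
    refine Groth.L22.Cyc.toNat_mult_pos ?_
    obtain ⟨z, hz, -, hg⟩ := Groth.L22.Cyc.exists_fibGen f x
    have hzc : IsClosed ({z} : Set C) := hclX (hz ▸ hclY hx)
    obtain ⟨z', hz', hsp, hg'⟩ := Groth.L22.Cyc.exists_fibGen f x
    have : x ∈ closure ({z'} : Set C) := hsp.mem_closure
    rw [(hclX (hz' ▸ hclY hx)).closure_eq] at this
    rwa [Set.mem_singleton_iff.1 this]
  have hsum : ∀ {y}, IsClosed ({y} : Set (CohB1.ProjSpace 1 k)) → ∑ x ∈ fib y, e x = n := fun {y} hy => by
    rw [← hn y, Groth.L22.Cyc.finrank_eq_sum f y,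
      finsum_mem_eq_finite_toFinset_sum _ (f.finite_preimage_singleton y)]
    refine Finset.sum_congr rfl fun x hx => ?_
    rw [hres (hclX (((hfib y x).1 hx).symm ▸ hy)), one_mul]
  have hd0 : ∀ x, IsClosed ({x} : Set C) → f x ∈ W → d x = 0 := fun x hx hxW => by
    have hu : (f.stalkMap x).hom.FormallyUnramified :=
      (RingHom.FormallyUnramified.respectsIso.arrow_mk_iso_iff (morphismRestrictStalkMap f W ⟨x, hxW⟩)).1
        (FormallyUnramified.stalkMap _ _)
    have hl := (hspec x hx).2
    letI := (f.stalkMap x).hom.toAlgebra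
    haveI : Algebra.FormallyUnramified ((CohB1.ProjSpace 1 k).presheaf.stalk (f x)) (C.presheaf.stalk x) := hu
    have h0 : Module.length (C.presheaf.stalk x)
        (KaehlerDifferential ((CohB1.ProjSpace 1 k).presheaf.stalk (f x)) (C.presheaf.stalk x)) = 0 :=
      Module.length_eq_zero
    exact_mod_cast (hl.symm.trans h0)
  have hd1 : ∀ x, IsClosed ({x} : Set C) → d x = e x - 1 := fun x hx => by
    obtain ⟨⟨-, hiff⟩, -⟩ := hspec x hx
    letI := (f.stalkMap x).hom.toAlgebra
    let A := (CohB1.ProjSpace 1 k).presheaf.stalk (f x)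
    let O := C.presheaf.stalk x
    letI := (IsLocalRing.ResidueField.map (f.stalkMap x).hom).toAlgebra
    haveI : CharZero (IsLocalRing.ResidueField A) := by
      exact charZero_of_injective_ringHom (Curv2.resMap k (CohB1.ProjSpace 1 k) (f x)).injective
    have he : (IsLocalRing.maximalIdeal O).ramificationIdx A = e x := by
      rw [Ideal.ramificationIdx_def]
      show ENat.toNat _ = ENat.toNat _
      congr 1
      have hu : (IsLocalRing.maximalIdeal O).under A = IsLocalRing.maximalIdeal A :=
        IsLocalRing.maximalIdeal_comap (f.stalkMap x).hom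
      rw [hu]
      let L := Localization.AtPrime (IsLocalRing.maximalIdeal O)
      let φ : O ≃+* L := (IsLocalization.atUnits O (IsLocalRing.maximalIdeal O).primeCompl
        (fun z hz => not_not.1 fun hn => hz hn) (S := L)).toRingEquiv
      have hJ : (IsLocalRing.maximalIdeal A).map (algebraMap A L) =
          Ideal.map (φ : O →+* L) ((IsLocalRing.maximalIdeal A).map (algebraMap A O)) := by
        rw [Ideal.map_map]
        congr 1
      rw [Module.length_eq_of_surjective (R := L ⧸ (IsLocalRing.maximalIdeal A).map (algebraMap A L)) (S := L)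
          Ideal.Quotient.mk_surjective]
      show _ = Module.length O (O ⧸ (IsLocalRing.maximalIdeal A).map (algebraMap A O))
      rw [Module.length_eq_of_surjective (R := O ⧸ (IsLocalRing.maximalIdeal A).map (algebraMap A O)) (S := O)
          Ideal.Quotient.mk_surjective]
      exact (Groth.L22.Cyc.length_self_of_ringEquiv (Ideal.quotientEquiv _ _ φ hJ)).symm
    rw [← he]
    refine hiff.2 ⟨?_, ?_⟩
    · haveI : FiniteDimensional (IsLocalRing.ResidueField A) (IsLocalRing.ResidueField O) :=
        Module.finite_of_finrank_pos (by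
          show 0 < f.residueDegree x
          rw [hres hx]; exact one_pos)
      infer_instance
    · rw [he, Nat.cast_ne_zero]
      exact (hepos hx).ne'
  -- Euler characteristics
  have hY1 : Curv2.euler k (CohB1.ProjSpace 1 k) (Coh.structureModule _) = 1 := by
    obtain ⟨τ⟩ : Nonempty (Twist.twistProjSpace 1 k 0 ≅ Coh.structureModule (CohB1.ProjSpace 1 k)) :=
      Groth.L16.ProjTwist.nonempty_twist_zero_iso (CohB1.polyGrading 1 k)
    rw [← Groth.L21.RR.euler_congr k τ]
    exact (Groth.L21.P1.euler_O (k := k) 0).trans (zero_add 1)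
  have hX1 := Groth.L21.Disc.euler_structure_le_one k hdX.le (Groth.L21.RR.h0_eq_one_of_isAlgClosed (X := C) k)
  rw [hdeg, hY1, hX1] at hmain
  -- the count
  let T := fib p ∪ fib q
  have hT : ∑ x ∈ F, d x * @Module.finrank k (C.residueField x) _ _ (Curv2.resAlgebra k C x).toModule ≤
      ∑ x ∈ T, (e x - 1) := by
    calc ∑ x ∈ F, d x * @Module.finrank k (C.residueField x) _ _ (Curv2.resAlgebra k C x).toModule
        = ∑ x ∈ F, d x := Finset.sum_congr rfl fun x hx => by
          rw [Groth.L21.RR.finrank_residueField_eq_one k (hFc x hx), mul_one]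
      _ ≤ ∑ x ∈ T, d x := Finset.sum_le_sum_of_ne_zero fun x hx hx0 => by
          by_contra hxT
          refine hx0 (hd0 x (hFc x hx) ?_)
          rw [← SetLike.mem_coe, hW]
          simpa [T, hfib] using hxT
      _ = ∑ x ∈ T, (e x - 1) := Finset.sum_congr rfl fun x hx => hd1 x (hclX (by
          rcases Finset.mem_union.1 hx with h | h
          · exact ((hfib p x).1 h).symm ▸ hp
          · exact ((hfib q x).1 h).symm ▸ hq))
  have hcard : ∀ {y}, IsClosed ({y} : Set (CohB1.ProjSpace 1 k)) →
      ∑ x ∈ fib y, (e x - 1) + (fib y).card = n ∧ 1 ≤ (fib y).card := fun {y} hy => by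
    refine ⟨?_, ?_⟩
    · rw [Finset.card_eq_sum_ones, ← Finset.sum_add_distrib, ← hsum hy]
      exact Finset.sum_congr rfl fun x hx => Nat.sub_add_cancel (hepos (hclX (((hfib y x).1 hx).symm ▸ hy)))
    · obtain ⟨x, hx⟩ := f.surjective y
      exact Finset.one_le_card.2 ⟨x, (hfib y x).2 hx⟩
  obtain ⟨hp1, hp2⟩ := hcard hp
  obtain ⟨hq1, hq2⟩ := hcard hq
  obtain ⟨hg, hcp, hcq⟩ : Curv2.genus k C = 0 ∧ (fib p).card ≤ 1 ∧ (fib q).card ≤ 1 := by
    by_cases hpq : p = q
    · subst hpq
      rw [show T = fib p from Finset.union_idempotent _] at hT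
      have hn1 : 1 ≤ n := by omega
      omega
    · rw [show T = fib p ∪ fib q from rfl, Finset.sum_union (Finset.disjoint_left.2 fun x hxp hxq =>
        hpq (((hfib p x).1 hxp).symm.trans ((hfib q x).1 hxq)))] at hT
      omega
  refine ⟨Groth.L21.RR.exists_iso_projLine_of_isAlgClosed k hdX hg, fun x y hx hy => ?_, fun x y hx hy => ?_⟩
  · exact Finset.card_le_one.1 hcp x ((hfib p x).2 hx) y ((hfib p y).2 hy)
  · exact Finset.card_le_one.1 hcq x ((hfib q x).2 hx) y ((hfib q y).2 hy)

end Groth.Agent.S17022
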