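import Groth.Statements.S17023
import Groth.Agent.L01.CohenRing
import Groth.Agent.L01.CompletionReg
import Mathlib.RingTheory.Smooth.Locus
import Mathlib.RingTheory.LocalRing.ResidueField.Ideal

set_option autoImplicit false
universe u
open FlatMor

namespace Groth.Agent.S17023

open IsLocalRing

/-- a formally smooth map to the residue field lifts to a complete local algebra -/
theorem exists_algHom_lift {k κ R : Type u} [CommRing k] [CommRing κ] [Algebra k κ] [Algebra.FormallySmooth k κ]
    [CommRing R] [Algebra k R] [IsLocalRing R] [IsAdicComplete (maximalIdeal R) R]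
    (f : κ →ₐ[k] R ⧸ maximalIdeal R ^ 1) :
    ∃ F : κ →ₐ[k] R, ∀ x, Ideal.Quotient.mk (maximalIdeal R ^ 1) (F x) = f x := by
  let m := maximalIdeal R
  have step : ∀ (n : ℕ) (g : κ →ₐ[k] R ⧸ m ^ (n + 1)), ∃ h : κ →ₐ[k] R ⧸ m ^ (n + 1 + 1),
      ∀ x, Ideal.Quotient.factor (Ideal.pow_le_pow_right (Nat.le_succ (n + 1))) (h x) = g x := fun n g => by
    let π : R ⧸ m ^ (n + 1 + 1) →ₐ[k] R ⧸ m ^ (n + 1) :=
      AlgHom.mk (Ideal.Quotient.factor (Ideal.pow_le_pow_right (Nat.le_succ (n + 1)))) fun _ => rfl
    have hnil : IsNilpotent (RingHom.ker (π : R ⧸ m ^ (n + 1 + 1) →+* R ⧸ m ^ (n + 1))) :=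
      ⟨2, Groth.L01.Cohen.ker_factor_sq n⟩
    have hs : Function.Surjective π :=
      Ideal.Quotient.factor_surjective (Ideal.pow_le_pow_right (Nat.le_succ (n + 1)) : m ^ (n + 1 + 1) ≤ m ^ (n + 1))
    exact ⟨Algebra.FormallySmooth.liftOfSurjective g π hs hnil,
      fun x => Algebra.FormallySmooth.liftOfSurjective_apply g π hs hnil x⟩
  choose h hh using step
  let g : ∀ n, κ →ₐ[k] R ⧸ m ^ (n + 1) := fun n => Nat.rec f (fun n g => h n g) n
  have ha : StrictMono fun n : ℕ => n + 1 := strictMono_nat_of_lt_succ fun n => Nat.lt_succ_self _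
  have hg : ∀ {i : ℕ}, (Ideal.Quotient.factorPow m (ha.monotone i.le_succ)).comp (g (i + 1)).toRingHom =
      (g i).toRingHom := fun {i} => RingHom.ext fun x => hh i (g i) x
  let F := IsAdicComplete.StrictMono.liftRingHom m ha (fun n => (g n).toRingHom) hg
  have hF : ∀ n x, Ideal.Quotient.mk (m ^ (n + 1)) (F x) = g n x := fun n x =>
    IsAdicComplete.StrictMono.mk_liftRingHom m ha _ hg (n := n) x
  refine ⟨AlgHom.mk F fun c => ?_, fun x => hF 0 x⟩
  refine sub_eq_zero.mp (IsHausdorff.haus (I := m) inferInstance _ fun n => ?_)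
  rw [SModEq.zero, smul_eq_mul, Ideal.mul_top]
  refine Ideal.pow_le_pow_right n.le_succ ?_
  rw [← Ideal.Quotient.eq]
  exact (hF n (algebraMap k κ c)).trans ((g n).commutes c)

/-- Let B be a discrete valuation ring, A a B-algebra of finite type and p a prime ideal of A which lies
over the maximal ideal of B (a point of the special fibre), at which A is smooth over B (the
localization A_p is formally smooth over B), and such that B maps onto the residue field κ(p). Then
there are a discrete valuation ring B' and a ring map ψ : A → B' pulling the maximal ideal of B'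
back to p, such that the composite B → A → B' is injective, the maximal ideal of B generates the
maximal ideal of B', and B maps onto the residue field of B'; in other words Spec B' → Spec A → Spec
B is surjective and unramified with trivial residue field extension. (The published statement does
not say that the closed point of Spec B' goes to p; it is required here. The published setting takes
A essentially of finite type over a field of characteristic zero; here A is taken of finite type
over B, with no ground field.) -/
theorem result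
    (B : Type u) [CommRing B] [IsDomain B] [IsDiscreteValuationRing B]
    (A : Type u) [CommRing A] [Algebra B A] [Algebra.FiniteType B A]
    (p : Ideal A) [p.IsPrime] (hp : p.comap (algebraMap B A) = IsLocalRing.maximalIdeal B)
    [Algebra.IsSmoothAt B p]
    (hres : Function.Surjective ((algebraMap A p.ResidueField).comp (algebraMap B A))) :
    ∃ (B' : Type u) (_ : CommRing B') (_ : IsDomain B') (_ : IsDiscreteValuationRing B') (ψ : A →+* B'),
      Ideal.comap ψ (IsLocalRing.maximalIdeal B') = p ∧
      Function.Injective (ψ.comp (algebraMap B A)) ∧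
      Ideal.map (ψ.comp (algebraMap B A)) (IsLocalRing.maximalIdeal B) = IsLocalRing.maximalIdeal B' ∧
      Function.Surjective ((IsLocalRing.residue B').comp (ψ.comp (algebraMap B A))) := by
  let Bh := AdicCompletion (maximalIdeal B) B
  haveI := Groth.L01.AnalUnram.isNoetherianRing_completion B
  obtain ⟨_, _⟩ : ∃ _ : IsDomain Bh, IsDiscreteValuationRing Bh := by
    rw [Groth.L01.CompletionReg.dvr_iff_regular_dim_one,
      ← Groth.L01.CompletionReg.isRegularLocalRing_iff_completion,
      Groth.L01.CompletionReg.ringKrullDim_completion, ← Groth.L01.CompletionReg.dvr_iff_regular_dim_one]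
    exact ⟨inferInstance, inferInstance⟩
  let Ap := Localization.AtPrime p
  let σ0 : B →+* p.ResidueField := (algebraMap A p.ResidueField).comp (algebraMap B A)
  have hσ0 : ∀ b ∈ maximalIdeal B, σ0 b = 0 := fun b hb => by
    rw [← hp] at hb
    exact Ideal.algebraMap_residueField_eq_zero.2 hb
  let σ : ResidueField B →+* p.ResidueField := Ideal.Quotient.lift (maximalIdeal B) σ0 hσ0
  have hσsurj : Function.Surjective σ := fun y => by
    obtain ⟨b, hb⟩ := hres y
    exact ⟨residue B b, hb⟩
  let e : ResidueField B ≃+* p.ResidueField := RingEquiv.ofBijective σ ⟨σ.injective, hσsurj⟩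
  let ρ : ResidueField B →+* ResidueField Bh := ResidueField.map (algebraMap B Bh)
  let f0 : Ap →+* ResidueField Bh := ρ.comp (e.symm.toRingHom.comp (residue Ap))
  have hf0 : ∀ b, f0 (algebraMap B Ap b) = residue Bh (algebraMap B Bh b) := fun b => by
    show ρ (e.symm (residue Ap (algebraMap B Ap b))) = _
    have h1 : e (residue B b) = residue Ap (algebraMap B Ap b) := by
      rw [IsScalarTower.algebraMap_apply B A Ap]
      rfl
    rw [← h1, e.symm_apply_apply]
    exact ResidueField.map_residue _ b
  have hsymm : maximalIdeal Bh = maximalIdeal Bh ^ 1 := (pow_one _).symm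
  let f : Ap →ₐ[B] Bh ⧸ maximalIdeal Bh ^ 1 :=
    AlgHom.mk ((Ideal.quotEquivOfEq hsymm).toRingHom.comp f0) fun b => by
      show Ideal.quotEquivOfEq hsymm (f0 (algebraMap B Ap b)) = _
      rw [hf0]
      rfl
  obtain ⟨F, hF⟩ := exists_algHom_lift f
  have hres' : ∀ x, residue Bh (F x) = f0 x := fun x => by
    have h := congrArg (Ideal.quotEquivOfEq hsymm.symm) (hF x)
    obtain ⟨r, hr⟩ := residue_surjective (f0 x)
    have h2 : f x = Ideal.Quotient.mk _ r := by
      show Ideal.quotEquivOfEq hsymm (f0 x) = _
      rw [← hr]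
      rfl
    rw [h2] at h
    rw [← hr]
    exact h
  let ψ : A →+* Bh := F.toRingHom.comp (algebraMap A Ap)
  have hψ : ψ.comp (algebraMap B A) = algebraMap B Bh := RingHom.ext fun b => by
    show F (algebraMap A Ap (algebraMap B A b)) = _
    rw [← IsScalarTower.algebraMap_apply, F.commutes]
  refine ⟨Bh, inferInstance, inferInstance, inferInstance, ψ, ?_, ?_, ?_, ?_⟩
  · ext a
    rw [Ideal.mem_comap, ← residue_eq_zero_iff]
    show residue Bh (F (algebraMap A Ap a)) = 0 ↔ a ∈ p
    rw [hres']
    show ρ (e.symm (residue Ap (algebraMap A Ap a))) = 0 ↔ a ∈ p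
    rw [map_eq_zero, map_eq_zero, residue_eq_zero_iff, IsLocalization.AtPrime.to_map_mem_maximal_iff Ap p a]
  · rw [hψ]
    intro x y hxy
    exact AdicCompletion.of_injective (maximalIdeal B) B hxy
  · rw [hψ]
    exact AdicCompletion.maximalIdeal_eq_map.symm
  · rw [hψ]
    intro y
    obtain ⟨z, hz⟩ := (AdicCompletion.residueField_map_bijective_of_fg
      (maximalIdeal B).fg_of_isNoetherianRing).2 y
    obtain ⟨b, rfl⟩ := residue_surjective z
    exact ⟨b, (ResidueField.map_residue _ b).symm.trans hz⟩

end Groth.Agent.S17023
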