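import Groth.Statements.S17025
import Groth.Agent.L09.IndCoh.Five

set_option autoImplicit false
open CategoryTheory CategoryTheory.Limits
universe u
open FSch

set_option backward.isDefEq.respectTransparency false
set_option backward.isDefEq.respectTransparency.types false

namespace Groth.Agent.S17025

/-- Let 𝔛 be a locally Noetherian formal scheme (an adic system of thickenings with locally Noetherian
levels) and F₀ ⟶ F₁ ⟶ F₂ ⟶ F₃ ⟶ F₄ an exact sequence of O_𝔛-modules. If F₀, F₁, F₃ and F₄ are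
quasi-coherent (as modules on the ringed space: locally a cokernel of a morphism of free
O_𝔛-modules), then so is F₂. -/
theorem result (𝔛 : FSch.Sys.{u}) (h𝔛 : 𝔛.IsLocNoethFormal)
    (S : ComposableArrows (FSch.ModF 𝔛 h𝔛.1) 4) (hS : S.Exact)
    (h₀ : SheafOfModules.IsQuasicoherent.{u} (S.obj 0)) (h₁ : SheafOfModules.IsQuasicoherent.{u} (S.obj 1))
    (h₃ : SheafOfModules.IsQuasicoherent.{u} (S.obj 3)) (h₄ : SheafOfModules.IsQuasicoherent.{u} (S.obj 4)) :
    SheafOfModules.IsQuasicoherent.{u} (S.obj 2) := by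
  exact Groth.L09.IndCoh.qcoh_five h𝔛 S hS (Groth.L09.IndCoh.lGen_of_qcoh h𝔛 (M := S.obj 0))
    ⟨Groth.L09.IndCoh.qr_of_qcoh h𝔛 (M := S.obj 1), Groth.L09.IndCoh.lGen_of_qcoh h𝔛 (M := S.obj 1)⟩
    ⟨Groth.L09.IndCoh.qr_of_qcoh h𝔛 (M := S.obj 3), Groth.L09.IndCoh.lGen_of_qcoh h𝔛 (M := S.obj 3)⟩
    (Groth.L09.IndCoh.qr_of_qcoh h𝔛 (M := S.obj 4))

end Groth.Agent.S17025
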