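import Groth.Statements.S17027
import Groth.Agent.L09.IndCoh.Cov
import Groth.Agent.L09.IndCoh.Qcoh

set_option autoImplicit false
open CategoryTheory CategoryTheory.Limits
universe u
open FSch

set_option backward.isDefEq.respectTransparency false
set_option backward.isDefEq.respectTransparency.types false

namespace Groth.Agent.S17027

/-- On a locally Noetherian formal scheme 𝔛 (an adic system of thickenings with locally Noetherian
levels), every small filtered colimit of coherent O_𝔛-modules is a quasi-coherent O_𝔛-module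
(locally on the underlying space a cokernel of a morphism of free modules). -/
theorem result (𝔛 : FSch.Sys.{u}) (h𝔛 : 𝔛.IsLocNoethFormal)
    (𝔉 : FSch.ModF 𝔛 h𝔛.1) (h𝔉 : (ObjectProperty.ind.{u} fun 𝔊 : FSch.ModF 𝔛 h𝔛.1 => FSch.IsCohF 𝔛 h𝔛.1 𝔊) 𝔉) :
    SheafOfModules.IsQuasicoherent.{u} 𝔉 := by
  have h := Groth.L09.IndCoh.good_of_ind h𝔛 h𝔉
  exact Groth.L09.IndCoh.qcoh_of_qr_lGen h𝔛 h.1 (Groth.L09.IndCoh.lGen_cov h𝔛 h.2)

end Groth.Agent.S17027
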