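import Groth.Prelude.Def_BlowUp2
import Mathlib.AlgebraicGeometry.IdealSheaf.Subscheme
import Mathlib.AlgebraicGeometry.Morphisms.Flat
import Mathlib.AlgebraicGeometry.Morphisms.FinitePresentation
import Groth.Agent.L02.RelCartier.Apps

set_option autoImplicit false
namespace SDiv
end SDiv
universe u
open CategoryTheory CategoryTheory.Limits AlgebraicGeometry TopologicalSpace
open SDiv

namespace Groth.Agent.S1703

/-- Let f : X ⟶ S be locally of finite presentation and 𝓘 the ideal sheaf of an effective Cartier
divisor D ⊂ X with D ⟶ S flat. Then there is an open subscheme U of X containing D such that U ⟶ S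
is flat. -/
theorem result {X S : Scheme.{u}} (f : X ⟶ S) [LocallyOfFinitePresentation f] (𝓘 : X.IdealSheafData)
    (hD : (BlowUp.IsEffCartierIdeal 𝓘 ∧ Flat (𝓘.subschemeι ≫ f))) : ∃ U : X.Opens, (𝓘.support : Set ↥X) ⊆ U ∧ Flat (U.ι ≫ f) := by
  haveI := hD.2
  exact Groth.L02.RelCartier.exists_flat_open f 𝓘 hD.1

end Groth.Agent.S1703
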