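import Groth.Statements.S3855
import Groth.Agent.L17.ThickSys

set_option autoImplicit false
universe u
open FCompl

namespace Groth.Agent.S3855

open AlgebraicGeometry in
/-- Sufficiency (the formal spectrum presented as the system Spec(A/J) -> Spec(A/J^2) -> ...). For a
Noetherian ring A and an ideal J this system is a locally Noetherian adic formal system: the
transition maps are surjective closed immersions, the kernel ideal of Spec(A/J^(n+1)) ->
Spec(A/J^(n+2)) is the (n+1)-st power of that of Spec(A/J) -> Spec(A/J^(n+2)), and every level is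
locally Noetherian. -/
theorem result (A : Type u) [CommRing A] [IsNoetherianRing A] (J : Ideal A) :
    (FSch.spf A J).IsLocNoethFormal := by
  open CategoryTheory CategoryTheory.Limits AlgebraicGeometry in
  have hcl : ∀ n, IsClosedImmersion (CohB1.specQuot J n) := fun n =>
    IsClosedImmersion.spec_of_surjective _ Ideal.Quotient.mk_surjective
  have hker : ∀ K : Ideal A, ((Spec.map (CommRingCat.ofHom (Ideal.Quotient.mk K))).ker.ideal
      ⟨⊤, isAffineOpen_top _⟩) =
      K.map (Scheme.ΓSpecIso (CommRingCat.of A)).inv.hom := by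
    intro K
    have : IsClosedImmersion (Spec.map (CommRingCat.ofHom (Ideal.Quotient.mk K))) :=
      IsClosedImmersion.spec_of_surjective _ Ideal.Quotient.mk_surjective
    have h : (Spec.map (CommRingCat.ofHom (Ideal.Quotient.mk K))).appTop =
        (Scheme.ΓSpecIso (CommRingCat.of A)).hom ≫ CommRingCat.ofHom (Ideal.Quotient.mk K) ≫
          (Scheme.ΓSpecIso (CommRingCat.of (A ⧸ K))).inv := by
      rw [← Scheme.ΓSpecIso_naturality_assoc, Iso.hom_inv_id, Category.comp_id]
    rw [Scheme.Hom.ker_apply]
    change RingHom.ker (Spec.map (CommRingCat.ofHom (Ideal.Quotient.mk K))).appTop.hom = _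
    ext x
    rw [h, RingHom.mem_ker]
    have hinj : Function.Injective (Scheme.ΓSpecIso (CommRingCat.of (A ⧸ K))).inv.hom :=
      (Scheme.ΓSpecIso (CommRingCat.of (A ⧸ K))).symm.commRingCatIsoToRingEquiv.injective
    simp only [CommRingCat.hom_comp, CommRingCat.hom_ofHom, RingHom.comp_apply]
    have hsurj : Function.Surjective (Scheme.ΓSpecIso (CommRingCat.of A)).inv.hom :=
      (Scheme.ΓSpecIso (CommRingCat.of A)).symm.commRingCatIsoToRingEquiv.surjective
    rw [map_eq_zero_iff _ hinj, Ideal.Quotient.eq_zero_iff_mem,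
      Ideal.mem_map_iff_of_surjective _ hsurj]
    constructor
    · exact fun hx => ⟨_, hx, by simp⟩
    · rintro ⟨y, hy, rfl⟩
      simpa using hy
  refine @Groth.L17.Thick.isLocNoethFormal_of_ker_pow (FSch.spf A J) (Spec (CommRingCat.of A)) _
    (FSch.idealSpec A J) (fun n => CohB1.specQuot J n) hcl (fun n => ?_) (fun n => ?_)
  · change Spec.map _ ≫ Spec.map _ = Spec.map _
    rw [← Spec.map_comp, ← CommRingCat.ofHom_comp]
    congr 2
  · refine Scheme.IdealSheafData.ext_of_isAffine ?_
    rw [Scheme.IdealSheafData.ideal_pow, Pi.pow_apply]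
    exact (hker _).trans ((Ideal.map_pow _ _ _).trans (congrArg (· ^ (n + 1)) (hker J).symm))

end Groth.Agent.S3855
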