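import Groth.Statements.S17039
import Groth.Agent.L09.IndCoh.Qcoh

set_option autoImplicit false
open CategoryTheory CategoryTheory.Limits
universe u
open FSch

set_option backward.isDefEq.respectTransparency false
set_option backward.isDefEq.respectTransparency.types false

namespace Groth.Agent.S17039

/-- On a locally Noetherian formal scheme 𝔛 (an adic system of thickenings with locally Noetherian
levels), the kernel, image and cokernel of any morphism between quasi-coherent O_𝔛-modules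
(ringed-space sense) are quasi-coherent. -/
theorem result (𝔛 : FSch.Sys.{u}) (h𝔛 : 𝔛.IsLocNoethFormal)
    {𝔉 𝔊 : FSch.ModF 𝔛 h𝔛.1} [SheafOfModules.IsQuasicoherent.{u} 𝔉] [SheafOfModules.IsQuasicoherent.{u} 𝔊]
    (φ : 𝔉 ⟶ 𝔊) :
    SheafOfModules.IsQuasicoherent.{u} (kernel φ) ∧ SheafOfModules.IsQuasicoherent.{u} (Abelian.image φ) ∧
      SheafOfModules.IsQuasicoherent.{u} (cokernel φ) := by
  have hR := Groth.L09.IndCoh.qr_of_qcoh h𝔛 (M := 𝔊)
  have hG := Groth.L09.IndCoh.lGen_of_qcoh h𝔛 (M := 𝔊)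
  have hR' := Groth.L09.IndCoh.qr_of_qcoh h𝔛 (M := 𝔉)
  have hG' := Groth.L09.IndCoh.lGen_of_qcoh h𝔛 (M := 𝔉)
  have hC := Groth.L09.IndCoh.qr_cokernel h𝔛 hG' hR φ
  have hGC := Groth.L09.IndCoh.lGen_of_epi h𝔛 hG (cokernel.π φ)
  exact ⟨Groth.L09.IndCoh.qcoh_of_qr_lGen h𝔛 (hR'.of_mono (kernel.ι φ)) (Groth.L09.IndCoh.lGen_kernel h𝔛 hG' hR φ),
    Groth.L09.IndCoh.qcoh_of_qr_lGen h𝔛 (hR.of_mono (kernel.ι (cokernel.π φ)))
      (Groth.L09.IndCoh.lGen_kernel h𝔛 hG hC (cokernel.π φ)),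
    Groth.L09.IndCoh.qcoh_of_qr_lGen h𝔛 hC hGC⟩

end Groth.Agent.S17039
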