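import Groth.Statements.S1704
-- import your own Groth.Agent.* helpers here

import Groth.Agent.L19.Ass.Basic
import Groth.Agent.L21.Extend.Gen

set_option autoImplicit false
universe u
open CategoryTheory CategoryTheory.Limits AlgebraicGeometry TopologicalSpace
open SDiv

namespace Groth.Agent.S1704

/-- Let X be a locally Noetherian scheme and F a quasi-coherent module. Then F is zero if and only if F
has no associated point. -/
theorem result (X : Scheme.{u}) [IsLocallyNoetherian X] (F : X.Modules) (hF : Coh.IsQCoh F) :
    IsZero F ↔ ∀ x : ↥X, ¬ Curv2.IsAssPoint F x := by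
  haveI := hF
  constructor
  · intro h x hx
    have h1 : IsZero (F.presheaf) := Functor.map_isZero (Scheme.Modules.toPresheaf X) h
    have h2 : IsZero (F.presheaf.stalk x) :=
      Functor.map_isZero (TopCat.Presheaf.stalkFunctor Ab.{u} x) h1
    haveI : Subsingleton (F.presheaf.stalk x) := AddCommGrpCat.subsingleton_of_isZero h2
    obtain ⟨hp, m, hm⟩ := hx
    apply hp.ne_top
    rw [hm, Subsingleton.elim m 0, Ideal.eq_top_iff_one]
    exact Ideal.le_radical (by simp [Submodule.mem_colon_singleton])
  · intro h
    rw [IsZero.iff_id_eq_zero]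
    apply (Scheme.Modules.toPresheaf X).map_injective
    ext V s
    refine Groth.L21.Extend.eq_of_locally F s 0 fun y hy => ?_
    obtain ⟨B, hB, hyB, hle⟩ := exists_isAffineOpen_mem_and_subset (x := y) (U := V) hy
    refine ⟨B, hle, hyB, ?_⟩
    by_contra hne
    obtain ⟨x, -, hxA, -⟩ := Groth.L19.Ass.exists_ass_germ_ne_zero F hB
      (fun h0 => hne (h0.trans (map_zero _).symm))
    exact h x hxA

end Groth.Agent.S1704
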