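import Groth.Statements.S17042
import Groth.Agent.L09.IndCoh.SheafHom

set_option autoImplicit false
open CategoryTheory CategoryTheory.Limits
universe u
open FSch

set_option backward.isDefEq.respectTransparency false
set_option backward.isDefEq.respectTransparency.types false

namespace Groth.Agent.S17042

/-- On a locally Noetherian formal scheme 𝔛 (an adic system of thickenings with locally Noetherian
levels), for a coherent O_𝔛-module F and a quasi-coherent O_𝔛-module G the sheaf Hom(F, G) of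
O_𝔛-modules is quasi-coherent, and it is coherent if G is also coherent. -/
theorem result (𝔛 : FSch.Sys.{u}) (h𝔛 : 𝔛.IsLocNoethFormal)
    (𝔉 𝔊 : FSch.ModF 𝔛 h𝔛.1) (h𝔉 : FSch.IsCohF 𝔛 h𝔛.1 𝔉) [SheafOfModules.IsQuasicoherent.{u} 𝔊]
    [ModSite.HasSheafHom 𝔉] :
    SheafOfModules.IsQuasicoherent.{u} ((ModSite.sheafHom 𝔉).obj 𝔊) ∧
      (FSch.IsCohF 𝔛 h𝔛.1 𝔊 → FSch.IsCohF 𝔛 h𝔛.1 ((ModSite.sheafHom 𝔉).obj 𝔊)) := by
  have hR := Groth.L09.IndCoh.qr_of_qcoh h𝔛 (M := 𝔊)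
  have hL := Groth.L09.IndCoh.lGen_of_qcoh h𝔛 (M := 𝔊)
  exact ⟨Groth.L09.IndCoh.qcoh_of_qr_lGen h𝔛 (Groth.L09.IndCoh.qr_hom h𝔛 𝔊 hR h𝔉)
      (Groth.L09.IndCoh.lGen_hom h𝔛 𝔊 hR h𝔉 hL),
    fun hc => Groth.L09.IndCoh.isCohF_hom h𝔛 𝔊 h𝔉 hc⟩

end Groth.Agent.S17042
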