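import Groth.Statements.S17043
import Groth.Agent.L09.IndCoh.RHomF

set_option autoImplicit false
open CategoryTheory CategoryTheory.Limits
universe u
attribute [local instance] HasDerivedCategory.standard
open FSch

set_option backward.isDefEq.respectTransparency false
set_option backward.isDefEq.respectTransparency.types false

namespace Groth.Agent.S17043

/-- Let 𝔛 be a locally Noetherian formal scheme (an adic system of thickenings with locally Noetherian
levels), F a cohomologically bounded-above complex of O_𝔛-modules with coherent cohomology sheaves,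
and G ∈ D(O_𝔛) cohomologically bounded below with coherent cohomology sheaves. Then the internal
derived Hom RHom(F, G) (the right adjoint of the derived tensor with F, assumed to exist) has
coherent cohomology sheaves. (The published statement takes F in the derived category of
bounded-above complexes with coherent cohomology, the range its proof treats.) -/
theorem result (𝔛 : FSch.Sys.{u}) (h𝔛 : 𝔛.IsLocNoethFormal)
    (F : CochainComplex (FSch.ModF 𝔛 h𝔛.1) ℤ) [ModSite.HasLTensorCx F] [DerComp.HasRHom F]
    (hF : ∀ i : ℤ, FSch.IsCohF 𝔛 h𝔛.1 (SiteCmp.HMod (DerivedCategory.Q.obj F) i))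
    (m : ℤ) (hFm : ∀ i : ℤ, m ≤ i → IsZero (SiteCmp.HMod (DerivedCategory.Q.obj F) i))
    (G : DerivedCategory (FSch.ModF 𝔛 h𝔛.1)) (hG : ∀ i : ℤ, FSch.IsCohF 𝔛 h𝔛.1 (SiteCmp.HMod G i))
    (n : ℤ) (hGn : ∀ i : ℤ, i ≤ n → IsZero (SiteCmp.HMod G i)) (i : ℤ) :
    FSch.IsCohF 𝔛 h𝔛.1 (SiteCmp.HMod ((DerComp.RHom F).obj G) i) := by
  exact Groth.L09.IndCoh.isCohF_RHom h𝔛 F hF m hFm G n hGn i hG

end Groth.Agent.S17043
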