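import Groth.Statements.S17045
import Groth.Agent.L09.IndCoh.ComplInd

set_option autoImplicit false
open CategoryTheory CategoryTheory.Limits AlgebraicGeometry
universe u
open FSch

set_option backward.isDefEq.respectTransparency false
set_option backward.isDefEq.respectTransparency.types false

namespace Groth.Agent.S17045

/-- Let A be a Noetherian I-adically complete ring, f : X ⟶ Spec A proper, 𝔛 the completion of X along
the inverse-image ideal of I and κ : 𝔛 ⟶ X the completion morphism of ringed spaces. Then for
quasi-coherent O_X-modules G and H, κ^* induces a bijection Hom_X(G, H) ⟶ Hom_𝔛(κ^*G, κ^*H). -/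
theorem result (A : Type u) [CommRing A] [IsNoetherianRing A] (I : Ideal A) [IsAdicComplete I A]
    {X : Scheme.{u}} (f : X ⟶ Spec (CommRingCat.of A)) [IsProper f]
    (𝓘 : X.IdealSheafData) (h𝓘 : 𝓘 = (FSch.idealSpec A I).comap f)
    (hX : (FSch.completionAlong X 𝓘).IsFormal)
    (G H : X.Modules) [SheafOfModules.IsQuasicoherent.{u} G] [SheafOfModules.IsQuasicoherent.{u} H] :
    Function.Bijective (fun φ : G ⟶ H => (FSch.toSchemeMor (FSch.completionAlong X 𝓘) hX (FSch.completionToX X 𝓘) (FSch.completionToX_comm X 𝓘)).pull.map φ) := by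
  exact (Groth.L09.IndCoh.completion_indCoh I f 𝓘 h𝓘 hX).1 G H ‹_› ‹_›

end Groth.Agent.S17045
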