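import Groth.Statements.S17047
import Groth.Agent.L17.ComplExt.PropAlg

set_option autoImplicit false
open CategoryTheory CategoryTheory.Limits AlgebraicGeometry
universe u
attribute [local instance] HasDerivedCategory.standard
open FSch

set_option backward.isDefEq.respectTransparency false
set_option backward.isDefEq.respectTransparency.types false
attribute [-instance] Groth.L17.hasSheafifyOpens

namespace Groth.Agent.S17047

/-- Let 𝔛 be properly algebraic, i.e. the completion of a proper scheme X over a Noetherian ring B along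
the inverse-image ideal of an ideal J of B, and let A be the full subcategory of O_𝔛-modules that
are small filtered colimits of coherent ones (assumed, as holds here, to contain 0, to be closed
under kernels, cokernels and finite products, and to have exact inclusion). Then the induced functor
D(A) ⥤ D(O_𝔛) is fully faithful, and an object of D(O_𝔛) is in its essential image exactly when all
its cohomology sheaves lie in A. -/
theorem result (B : Type u) [CommRing B] [IsNoetherianRing B] (J : Ideal B)
    {X : Scheme.{u}} (f : X ⟶ Spec (CommRingCat.of B)) [IsProper f]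
    (𝓘 : X.IdealSheafData) (h𝓘 : 𝓘 = (FSch.idealSpec B J).comap f)
    (hX : (FSch.completionAlong X 𝓘).IsFormal)
    [(ObjectProperty.ind.{u} fun 𝔊 : FSch.ModF (FSch.completionAlong X 𝓘) hX => FSch.IsCohF (FSch.completionAlong X 𝓘) hX 𝔊).ContainsZero] [(ObjectProperty.ind.{u} fun 𝔊 : FSch.ModF (FSch.completionAlong X 𝓘) hX => FSch.IsCohF (FSch.completionAlong X 𝓘) hX 𝔊).IsClosedUnderKernels]
    [(ObjectProperty.ind.{u} fun 𝔊 : FSch.ModF (FSch.completionAlong X 𝓘) hX => FSch.IsCohF (FSch.completionAlong X 𝓘) hX 𝔊).IsClosedUnderCokernels] [(ObjectProperty.ind.{u} fun 𝔊 : FSch.ModF (FSch.completionAlong X 𝓘) hX => FSch.IsCohF (FSch.completionAlong X 𝓘) hX 𝔊).IsClosedUnderFiniteProducts]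
    [PreservesFiniteLimits (ObjectProperty.ind.{u} fun 𝔊 : FSch.ModF (FSch.completionAlong X 𝓘) hX => FSch.IsCohF (FSch.completionAlong X 𝓘) hX 𝔊).ι] [PreservesFiniteColimits (ObjectProperty.ind.{u} fun 𝔊 : FSch.ModF (FSch.completionAlong X 𝓘) hX => FSch.IsCohF (FSch.completionAlong X 𝓘) hX 𝔊).ι] :
    (ObjectProperty.ind.{u} fun 𝔊 : FSch.ModF (FSch.completionAlong X 𝓘) hX => FSch.IsCohF (FSch.completionAlong X 𝓘) hX 𝔊).ι.mapDerivedCategory.Full ∧ (ObjectProperty.ind.{u} fun 𝔊 : FSch.ModF (FSch.completionAlong X 𝓘) hX => FSch.IsCohF (FSch.completionAlong X 𝓘) hX 𝔊).ι.mapDerivedCategory.Faithful ∧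
      ∀ G : DerivedCategory (FSch.ModF (FSch.completionAlong X 𝓘) hX),
        (ObjectProperty.ind.{u} fun 𝔊 : FSch.ModF (FSch.completionAlong X 𝓘) hX => FSch.IsCohF (FSch.completionAlong X 𝓘) hX 𝔊).ι.mapDerivedCategory.essImage G ↔
          ∀ i : ℤ, (ObjectProperty.ind.{u} fun 𝔊 : FSch.ModF (FSch.completionAlong X 𝓘) hX => FSch.IsCohF (FSch.completionAlong X 𝓘) hX 𝔊) (SiteCmp.HMod G i) := by
  subst h𝓘
  haveI : IsLocallyNoetherian X := LocallyOfFiniteType.isLocallyNoetherian f
  exact Groth.L17.ComplExt.indCoh_derived_of_base J f (Groth.L17.ComplExt.isCompl_completion J f)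
    (Groth.Agent.S3854.result X _)

end Groth.Agent.S17047
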