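import Groth.Statements.S17051
import Groth.Agent.L28.FTors.Main

set_option autoImplicit false
open CategoryTheory CategoryTheory.Limits
universe u
open FTors

namespace Groth.Agent.S17051

/-- On a locally Noetherian formal scheme 𝔛 (an adic system of thickenings with locally Noetherian
levels), if F₀ ⟶ F₁ ⟶ F₂ ⟶ F₃ ⟶ F₄ is an exact sequence of O_𝔛-modules with F₀, F₁, F₃, F₄
quasi-coherent torsion modules, then F₂ is a quasi-coherent torsion module. -/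
theorem result (𝔛 : FSch.Sys.{u}) (h𝔛 : 𝔛.IsLocNoethFormal)
    (S : ComposableArrows (FSch.ModF 𝔛 h𝔛.1) 4) (hS : S.Exact)
    (h₀ : FTors.IsQCT 𝔛 h𝔛.1 (S.obj 0)) (h₁ : FTors.IsQCT 𝔛 h𝔛.1 (S.obj 1)) (h₃ : FTors.IsQCT 𝔛 h𝔛.1 (S.obj 3)) (h₄ : FTors.IsQCT 𝔛 h𝔛.1 (S.obj 4)) :
    FTors.IsQCT 𝔛 h𝔛.1 (S.obj 2) := by
  exact Groth.L28.QCT.isQCT_five h𝔛 S hS h₀ h₁ h₃ h₄

end Groth.Agent.S17051
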