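import Groth.Statements.S17054
import Groth.Agent.L28.FTors.Main

set_option autoImplicit false
open CategoryTheory CategoryTheory.Limits
universe u
open FTors

namespace Groth.Agent.S17054

/-- On a locally Noetherian formal scheme 𝔛 (an adic system of thickenings with locally Noetherian
levels), the inclusion functor of the full subcategory of quasi-coherent torsion O_𝔛-modules into
all O_𝔛-modules admits a right adjoint. (The second assertion, commutation of this adjoint with
filtered colimits on a Noetherian 𝔛, is not restated.) -/
theorem result (𝔛 : FSch.Sys.{u}) (h𝔛 : 𝔛.IsLocNoethFormal) :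
    (FTors.IsQCT 𝔛 h𝔛.1).ι.IsLeftAdjoint := by
  exact Groth.L28.QCT.isLeftAdjoint_qctι h𝔛

end Groth.Agent.S17054
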