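import Groth.Statements.S17060
import Groth.Agent.L28.FTors.PushCoh

set_option autoImplicit false
open CategoryTheory CategoryTheory.Limits
universe u
open FTors

namespace Groth.Agent.S17060

/-- Let f : 𝔛 ⟶ 𝔜 be a morphism of Noetherian formal schemes (adic systems of thickenings with locally
Noetherian levels and quasi-compact underlying spaces). Then f_* M is a quasi-coherent torsion
O_𝔜-module for every quasi-coherent torsion O_𝔛-module M; if moreover f is pseudo-proper (its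
morphism of smallest levels is proper) and M is also coherent, then f_* M is coherent. -/
theorem result (𝔛 𝔜 : FSch.Sys.{u}) (h𝔛 : 𝔛.IsLocNoethFormal) (h𝔜 : 𝔜.IsLocNoethFormal)
    [CompactSpace (𝔛.X 0)] [CompactSpace (𝔜.X 0)] (f : 𝔛 ⟶ 𝔜)
    (M : FSch.ModF 𝔛 h𝔛.1) (hM : FTors.IsQCT 𝔛 h𝔛.1 M) :
    FTors.IsQCT 𝔜 h𝔜.1 ((FSch.pushF f h𝔛.1 h𝔜.1).obj M) ∧
      (AlgebraicGeometry.IsProper ((f : FSch.Hom 𝔛 𝔜).app 0) → FSch.IsCohF 𝔛 h𝔛.1 M →
        FSch.IsCohF 𝔜 h𝔜.1 ((FSch.pushF f h𝔛.1 h𝔜.1).obj M)) := by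
  obtain ⟨hT, hR, hL⟩ := (Groth.L28.QCT.isQCT_iff h𝔛).1 hM
  refine ⟨Groth.L28.QCT.isQCT_push f h𝔛 h𝔜 hR hL hT, fun hp hMc => ?_⟩
  haveI := hp
  exact Groth.L28.QCT.isCohF_push f h𝔛 h𝔜 hMc hT

end Groth.Agent.S17060
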