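import Groth.Statements.S17063
import Groth.Agent.L17.IndRpush.Tilde.Main

set_option autoImplicit false
open CategoryTheory CategoryTheory.Limits
universe u
attribute [local instance] HasDerivedCategory.standard
open FTors

attribute [-instance] Groth.L17.hasSheafifyOpens

namespace Groth.Agent.S17063

/-- Let f : 𝔛 ⟶ 𝔜 be a morphism of Noetherian formal schemes (adic systems of thickenings with locally
Noetherian levels and quasi-compact underlying spaces), with RΓ'_𝔛 and Rf_* assumed to exist on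
unbounded derived categories; let A_qct (quasi-coherent torsion O_𝔛-modules) contain 0, be closed
under kernels, cokernels and finite products with exact inclusion, and assume the induced functor
D(A_qct) ⥤ D(O_𝔛) is fully faithful with essential image D_qct(𝔛) (true for 𝔛 separated or of finite
Krull dimension). Then Rf_* ∘ RΓ'_𝔛 restricted to D̃_qc(𝔛) — the complexes E with RΓ'_𝔛 E in
D_qct(𝔛) — has a right adjoint. (The published statement names it f^# = Λ_𝔛 f_t^× and shows it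
bounded below; only existence is asserted here.) -/
theorem result (𝔛 𝔜 : FSch.Sys.{u})
    (h𝔛 : 𝔛.IsLocNoethFormal) (h𝔜 : 𝔜.IsLocNoethFormal) [CompactSpace (𝔛.X 0)] [CompactSpace (𝔜.X 0)]
    (f : 𝔛 ⟶ 𝔜) [FTors.HasRgammaT 𝔛 h𝔛.1] [SiteCmp.HasRpushD (FSch.homMor f h𝔛.1 h𝔜.1)]
    [(FTors.IsQCT 𝔛 h𝔛.1).ContainsZero] [(FTors.IsQCT 𝔛 h𝔛.1).IsClosedUnderKernels]
    [(FTors.IsQCT 𝔛 h𝔛.1).IsClosedUnderCokernels] [(FTors.IsQCT 𝔛 h𝔛.1).IsClosedUnderFiniteProducts]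
    [PreservesFiniteLimits (FTors.IsQCT 𝔛 h𝔛.1).ι] [PreservesFiniteColimits (FTors.IsQCT 𝔛 h𝔛.1).ι]
    (hj : (FTors.IsQCT 𝔛 h𝔛.1).ι.mapDerivedCategory.Full ∧ (FTors.IsQCT 𝔛 h𝔛.1).ι.mapDerivedCategory.Faithful ∧
      ∀ G : DerivedCategory (FSch.ModF 𝔛 h𝔛.1),
        (FTors.IsQCT 𝔛 h𝔛.1).ι.mapDerivedCategory.essImage G ↔ FTors.IsDQCT 𝔛 h𝔛.1 G) :
    (ObjectProperty.ι (FTors.IsDQCTilde 𝔛 h𝔛.1) ⋙ FTors.RgammaT 𝔛 h𝔛.1 ⋙
      SiteCmp.RpushD (FSch.homMor f h𝔛.1 h𝔜.1)).IsLeftAdjoint := by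
  exact Groth.L17.Tilde.isLeftAdjoint_tilde h𝔛 h𝔜.1 f hj

end Groth.Agent.S17063
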