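import Groth.Statements.S17065
import Mathlib.RingTheory.AdicCompletion.Algebra
import Mathlib.RingTheory.Finiteness.Nakayama
import Mathlib.RingTheory.Spectrum.Prime.Topology
import Mathlib.RingTheory.Noetherian.Defs

set_option autoImplicit false
universe u
open CAlg

namespace Groth.Agent.S17065

/-- The local algebraic statement its proof establishes: let A be a Noetherian ring, I ≤ J radical
ideals and Â the J-adic completion of A. If J^n Â ⊆ I Â for some n, then the closed set V(J) is open
inside V(I) ⊆ Spec A. (Globally: if X₂ ⊆ X₁ are the completions of a locally Noetherian scheme along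
nested closed subsets Z₂ ⊆ Z₁ and the ideal of Z₁ generates an ideal of definition of X₂, then X₂ is
a union of connected components of X₁.) -/
theorem result (A : Type u) [CommRing A] [IsNoetherianRing A]
    (I J : Ideal A) (hIJ : I ≤ J) (hI : I.IsRadical) (hJ : J.IsRadical) (n : ℕ)
    (h : (J ^ n).map (algebraMap A (AdicCompletion J A)) ≤ I.map (algebraMap A (AdicCompletion J A))) :
    IsOpen ((fun x : PrimeSpectrum.zeroLocus (I : Set A) => (x : PrimeSpectrum A)) ⁻¹'
      PrimeSpectrum.zeroLocus (J : Set A)) := by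
  have key : J ^ n ≤ I ⊔ J * J ^ n := fun x hx => by
    have hI' : I.map (algebraMap A (AdicCompletion J A)) ≤
        (I.map (Ideal.Quotient.mk (J ^ (n + 1)))).comap (AdicCompletion.evalₐ J (n + 1)) := by
      rw [Ideal.map_le_iff_le_comap]
      intro y hy
      rw [Ideal.mem_comap, Ideal.mem_comap, AlgHom.commutes, Ideal.Quotient.algebraMap_eq]
      exact Ideal.mem_map_of_mem _ hy
    have h1 := hI' (h (Ideal.mem_map_of_mem _ hx))
    rw [Ideal.mem_comap, AlgHom.commutes, Ideal.Quotient.algebraMap_eq, Ideal.mem_quotient_iff_mem_sup,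
      pow_succ'] at h1
    exact h1
  let N : Submodule A (A ⧸ I) := Submodule.map I.mkQ (J ^ n)
  have hN : N ≤ J • N := by
    intro y hy
    obtain ⟨x, hx, rfl⟩ := hy
    obtain ⟨a, ha, b, hb, hab⟩ := Submodule.mem_sup.mp (key hx)
    rw [← hab, map_add, Submodule.mkQ_apply, (Submodule.Quotient.mk_eq_zero I).mpr ha, zero_add,
      ← Submodule.map_smul'']
    exact Submodule.mem_map_of_mem (by rwa [smul_eq_mul])
  obtain ⟨r, hr, hr0⟩ := Submodule.exists_sub_one_mem_and_smul_eq_zero_of_fg_of_le_smul J N
    ((IsNoetherian.noetherian (J ^ n)).map _) hN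
  have hset : ((fun x : PrimeSpectrum.zeroLocus (I : Set A) => (x : PrimeSpectrum A)) ⁻¹'
      PrimeSpectrum.zeroLocus (J : Set A)) =
      (fun x : PrimeSpectrum.zeroLocus (I : Set A) => (x : PrimeSpectrum A)) ⁻¹' (PrimeSpectrum.basicOpen r : Set (PrimeSpectrum A)) := by
    ext p
    have hpI : I ≤ p.1.asIdeal := p.2
    refine ⟨fun hpJ hrp => ?_, fun hrp x hx => ?_⟩
    · have h1 : (1 : A) ∈ p.1.asIdeal := by
        simpa using sub_mem hrp (hpJ hr)
      exact p.1.isPrime.ne_top ((Ideal.eq_top_iff_one _).mpr h1)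
    · have h1 : r * x ^ n ∈ I := by
        rw [← Submodule.Quotient.mk_eq_zero, ← smul_eq_mul, Submodule.Quotient.mk_smul]
        exact hr0 _ (Submodule.mem_map_of_mem (Ideal.pow_mem_pow hx n))
      exact p.1.isPrime.mem_of_pow_mem n ((p.1.isPrime.mem_or_mem (hpI h1)).resolve_left hrp)
  rw [hset]
  exact (PrimeSpectrum.basicOpen r).isOpen.preimage continuous_subtype_val

end Groth.Agent.S17065
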