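import Groth.Statements.S17066
import Groth.Agent.L17.ComplExt.CohRefl

set_option autoImplicit false
open CategoryTheory CategoryTheory.Limits AlgebraicGeometry
universe u
attribute [local instance] HasDerivedCategory.standard
open FSch

set_option backward.isDefEq.respectTransparency false
set_option backward.isDefEq.respectTransparency.types false
attribute [-instance] Groth.L17.hasSheafifyOpens

namespace Groth.Agent.S17066

/-- Let A be a Noetherian I-adically complete ring, f : X ⟶ Spec A proper, 𝔛 the completion of X along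
the inverse-image ideal of I and κ : 𝔛 ⟶ X the completion morphism of ringed spaces, with κ^* exact
(κ flat, assumed) and hence defined on unbounded derived categories. Then an object of D(O_𝔛) has
coherent cohomology sheaves if and only if it is isomorphic to κ^*E for some E ∈ D(O_X) whose
cohomology sheaves are coherent (quasi-coherent of finite type). (Full faithfulness of κ^* on such E
is the quasi-coherent case.) -/
theorem result (A : Type u) [CommRing A] [IsNoetherianRing A] (I : Ideal A) [IsAdicComplete I A]
    {X : Scheme.{u}} (f : X ⟶ Spec (CommRingCat.of A)) [IsProper f]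
    (𝓘 : X.IdealSheafData) (h𝓘 : 𝓘 = (FSch.idealSpec A I).comap f)
    (hX : (FSch.completionAlong X 𝓘).IsFormal)
    [PreservesFiniteLimits (FSch.toSchemeMor (FSch.completionAlong X 𝓘) hX (FSch.completionToX X 𝓘) (FSch.completionToX_comm X 𝓘)).pull]
    (G : DerivedCategory (FSch.ModF (FSch.completionAlong X 𝓘) hX)) :
    (∀ i : ℤ, FSch.IsCohF (FSch.completionAlong X 𝓘) hX (SiteCmp.HMod G i)) ↔
      ∃ E : DerivedCategory (ModSite.Mod X.sheaf),
        (∀ i : ℤ, Coh.IsCoh (SiteCmp.HMod E i)) ∧ Nonempty ((SiteCmp.pullD (FSch.toSchemeMor (FSch.completionAlong X 𝓘) hX (FSch.completionToX X 𝓘) (FSch.completionToX_comm X 𝓘))).obj E ≅ G) := by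
  subst h𝓘
  haveI hP : PreservesFiniteLimits (Groth.L17.FSheaf.kap (FSch.completionAlong X ((FSch.idealSpec A I).comap f)) hX (FSch.completionToX X ((FSch.idealSpec A I).comap f)) (Groth.L17.ComplExt.isCompl_completion I f).comm).pull := ‹_›
  haveI : IsLocallyNoetherian X := LocallyOfFiniteType.isLocallyNoetherian f
  have hN : (FSch.completionAlong X ((FSch.idealSpec A I).comap f)).IsLocNoethFormal := Groth.Agent.S3854.result X _
  refine ⟨fun hG => Groth.L17.ComplExt.exists_pullD_iso_coh f (Groth.L17.ComplExt.isCompl_completion I f) hN hG, ?_⟩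
  rintro ⟨E, hE, ⟨e⟩⟩ i
  haveI : IsClosedImmersion (FSch.completionToX X ((FSch.idealSpec A I).comap f) 0) :=
    Groth.L17.FSheaf.isClosedImmersion_completionToX _ 0
  haveI := SiteCmp.additive_pull (Groth.L17.FSheaf.kap (FSch.completionAlong X ((FSch.idealSpec A I).comap f)) hX (FSch.completionToX X ((FSch.idealSpec A I).comap f)) (Groth.L17.ComplExt.isCompl_completion I f).comm)
  obtain ⟨eh⟩ := Groth.L10.WSerreLib.homology_map_iso (Groth.L17.FSheaf.kap (FSch.completionAlong X ((FSch.idealSpec A I).comap f)) hX (FSch.completionToX X ((FSch.idealSpec A I).comap f)) (Groth.L17.ComplExt.isCompl_completion I f).comm).pull E i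
  exact Groth.L09.IndCoh.isCohF_of_iso hN (Groth.L17.FSheaf.isCohF_pull (FSch.completionAlong X ((FSch.idealSpec A I).comap f)) (FSch.completionToX X ((FSch.idealSpec A I).comap f)) (Groth.L17.ComplExt.isCompl_completion I f).comm _ hN (hE i))
    (eh.symm ≪≫ (DerivedCategory.homologyFunctor _ i).mapIso e)

end Groth.Agent.S17066
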