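import Groth.Statements.S17067
import Groth.Agent.L17.FSheaf.UnitCoh
import Groth.Agent.L17.IndRpush.Amp

set_option autoImplicit false
open CategoryTheory CategoryTheory.Limits
universe u
attribute [local instance] HasDerivedCategory.standard
open FSch

attribute [-instance] Groth.L17.hasSheafifyOpens

namespace Groth.Agent.S17067

/-- Let g : 𝔛 ⟶ 𝔜 be a morphism of locally Noetherian formal schemes (adic systems of thickenings with
locally Noetherian levels) whose morphism of smallest levels is an affine morphism of schemes, and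
assume the total right derived functor Rg_* exists on unbounded derived categories of modules. If G
∈ D(O_𝔛) has lim-coherent cohomology sheaves (small filtered colimits of coherent modules) vanishing
in all degrees > e, then the cohomology sheaves of Rg_* G also vanish in all degrees > e. -/
theorem result (𝔛 𝔜 : FSch.Sys.{u}) (h𝔛 : 𝔛.IsLocNoethFormal) (h𝔜 : 𝔜.IsLocNoethFormal)
    (g : 𝔛 ⟶ 𝔜) [AlgebraicGeometry.IsAffineHom ((g : FSch.Hom 𝔛 𝔜).app 0)]
    [SiteCmp.HasRpushD (FSch.homMor g h𝔛.1 h𝔜.1)] (G : DerivedCategory (FSch.ModF 𝔛 h𝔛.1))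
    (hG : ∀ i : ℤ, (ObjectProperty.ind.{u} fun 𝔊 : FSch.ModF 𝔛 h𝔛.1 => FSch.IsCohF 𝔛 h𝔛.1 𝔊) (SiteCmp.HMod G i)) (e : ℤ) (he : ∀ i : ℤ, e < i → IsZero (SiteCmp.HMod G i))
    (i : ℤ) (hi : e < i) :
    IsZero (SiteCmp.HMod ((SiteCmp.RpushD (FSch.homMor g h𝔛.1 h𝔜.1)).obj G) i) := by
  haveI : HasInjectiveResolutions (FSch.ModF 𝔛 h𝔛.1) := Groth.L17.FSheaf.hasInjectiveResolutions_modF 𝔛 h𝔛.1
  exact Groth.L17.IndRpush.isZero_H_RpushD h𝔛 h𝔜.1 g (Groth.L17.IndRpush.isCompact_preimage_affine g) 0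
    (Groth.L17.IndRpush.bdd_affine h𝔛 h𝔜.1 g) G hG e he i (by simpa using hi)
end Groth.Agent.S17067
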