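import Groth.Statements.S1707
import Groth.Agent.L20.ModStalk

set_option autoImplicit false
universe u
open CategoryTheory CategoryTheory.Limits AlgebraicGeometry TopologicalSpace
open SDiv

namespace Groth.Agent.S1707

/-- Let X be a scheme, F a quasi-coherent module and x a point of the support of F such that no other
point of the support specializes to x. Then x is weakly associated to F. -/
theorem result (X : Scheme.{u}) (F : X.Modules) (hF : Coh.IsQCoh F) (x : ↥X)
    (hx : x ∈ CohB1.support F) (hmax : ∀ y : ↥X, y ∈ CohB1.support F → y ⤳ x → y = x) : Curv2.IsWeakAssPoint F x := by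
  obtain ⟨_, ⟨V, hV, rfl⟩, hxV, -⟩ :=
    X.isBasis_affineOpens.exists_subset_of_mem_open (Set.mem_univ x) isOpen_univ
  change x ∈ V at hxV
  haveI : Coh.IsQCoh F := hF
  have : Nontrivial (F.presheaf.stalk x) := not_subsingleton_iff_nontrivial.1 hx
  obtain ⟨m, hm⟩ := exists_ne (0 : F.presheaf.stalk x)
  refine ⟨m, ?_⟩
  have hK : LinearMap.ker (LinearMap.toSpanSingleton (X.presheaf.stalk x) (F.presheaf.stalk x) m) ≠ ⊤ := by
    rw [Ne, Ideal.eq_top_iff_one, LinearMap.mem_ker, LinearMap.toSpanSingleton_apply, one_smul]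
    exact hm
  refine le_antisymm ((IsLocalRing.maximalIdeal.isMaximal _).isPrime.radical_le_iff.2
    (IsLocalRing.le_maximalIdeal hK)) ?_
  rw [Ideal.radical_eq_sInf]
  refine le_sInf fun Q hQ => ?_
  obtain ⟨hKQ, hQp⟩ := hQ
  by_contra hne
  have hQne : Q ≠ IsLocalRing.maximalIdeal _ := fun h => hne h.ge
  haveI := hQp
  letI := X.presheaf.algebra_section_stalk ⟨x, hxV⟩
  haveI := hV.isLocalization_stalk ⟨x, hxV⟩
  let g : Γ(X, V) →+* X.presheaf.stalk x := algebraMap _ _
  let q : PrimeSpectrum Γ(X, V) := ⟨Q.comap g, inferInstance⟩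
  have hqp : q.asIdeal ≤ (hV.primeIdealOf ⟨x, hxV⟩).asIdeal := by
    have hmax' : (IsLocalRing.maximalIdeal (X.presheaf.stalk x)).comap g = (hV.primeIdealOf ⟨x, hxV⟩).asIdeal :=
      IsLocalization.AtPrime.under_maximalIdeal (X.presheaf.stalk x) _
    rw [← hmax']
    exact Ideal.comap_mono (IsLocalRing.le_maximalIdeal hQp.ne_top)
  have hqne : q ≠ hV.primeIdealOf ⟨x, hxV⟩ := by
    intro h
    apply hQne
    have h1 := congrArg (Ideal.map g) (congrArg PrimeSpectrum.asIdeal h)
    rw [show Ideal.map g q.asIdeal = Q from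
      IsLocalization.map_under (hV.primeIdealOf ⟨x, hxV⟩).asIdeal.primeCompl _ Q] at h1
    rw [h1]
    exact IsLocalization.AtPrime.map_eq_maximalIdeal _ _
  let y : X := hV.fromSpec q
  have hyV : y ∈ V := by
    have : y ∈ Set.range hV.fromSpec := ⟨q, rfl⟩
    rwa [hV.range_fromSpec] at this
  have hyq : hV.primeIdealOf ⟨y, hyV⟩ = q :=
    hV.fromSpec.isOpenEmbedding.injective (hV.fromSpec_primeIdealOf ⟨y, hyV⟩)
  have hxy : y ⤳ x := by
    show y ⤳ (⟨x, hxV⟩ : V).1
    rw [← hV.fromSpec_primeIdealOf ⟨x, hxV⟩]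
    exact ((PrimeSpectrum.le_iff_specializes q (hV.primeIdealOf ⟨x, hxV⟩)).1 hqp).map hV.fromSpec.continuous
  have hy0 : Subsingleton (F.presheaf.stalk y) := by
    by_contra hns
    refine hqne ?_
    rw [← hyq]
    congr 1
    exact Subtype.ext (hmax y hns hxy)
  have hlx := Groth.L20.ModStalk.isLocalizedModule_germ F hV hxV
  have hly := Groth.L20.ModStalk.isLocalizedModule_germ F hV hyV
  letI := Groth.L20.ModStalk.stalkModule F hxV
  obtain ⟨⟨n, s⟩, hns⟩ := hlx.surj m
  have h0 : ∃ c : Γ(X, V), c ∉ q.asIdeal ∧ c • n = 0 := by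
    letI := Groth.L20.ModStalk.stalkModule F hyV
    obtain ⟨⟨c, hc⟩, hcn⟩ := (IsLocalizedModule.eq_zero_iff (hV.primeIdealOf ⟨y, hyV⟩).asIdeal.primeCompl
      (Groth.L20.ModStalk.germₗ F hyV)).1 (hy0.elim (Groth.L20.ModStalk.germₗ F hyV n) 0)
    exact ⟨c, by rwa [← hyq], hcn⟩
  obtain ⟨c, hcq, hcn⟩ := h0
  apply hcq
  have hmem : g (c * (s : Γ(X, V))) ∈ LinearMap.ker (LinearMap.toSpanSingleton (X.presheaf.stalk x) (F.presheaf.stalk x) m) := by
    rw [LinearMap.mem_ker, LinearMap.toSpanSingleton_apply]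
    show (c * (s : Γ(X, V))) • m = 0
    rw [mul_smul, show (s : Γ(X, V)) • m = Groth.L20.ModStalk.germₗ F hxV n from hns, ← map_smul, hcn, map_zero]
  have hQc := hKQ hmem
  rw [map_mul] at hQc
  rcases hQp.mem_or_mem hQc with h | h
  · exact h
  · exact absurd h fun h' => hQp.ne_top (Ideal.eq_top_of_isUnit_mem _ h' (IsLocalization.map_units (X.presheaf.stalk x) s))

end Groth.Agent.S1707
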