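import Groth.Statements.S17072
import Groth.Agent.L28.RGamma.Kap
import Groth.Agent.S3854

set_option autoImplicit false
open CategoryTheory CategoryTheory.Limits AlgebraicGeometry
universe u
attribute [local instance] HasDerivedCategory.standard
open FTors
set_option maxHeartbeats 800000
set_option synthInstance.maxHeartbeats 400000

namespace Groth.Agent.S17072

/-- Let X be a locally Noetherian scheme, 𝓘 a quasi-coherent ideal of O_X, X̂ the completion of X along
𝓘 and κ : X̂ ⟶ X the completion morphism of ringed spaces, with κ^* exact (assumed) and RΓ'_X̂, RΓ_𝓘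
existing on unbounded derived categories. Then for every F ∈ D(O_X) there is a unique isomorphism
κ^* (RΓ_𝓘 F) ≅ RΓ'_X̂ (κ^* F) whose composite with the canonical morphism RΓ'_X̂ (κ^* F) ⟶ κ^* F is
κ^* of the canonical morphism RΓ_𝓘 F ⟶ F. -/
theorem result (X : Scheme.{u}) [IsLocallyNoetherian X]
    (𝓘 : X.IdealSheafData) (hX : (FSch.completionAlong X 𝓘).IsFormal)
    [PreservesFiniteLimits (FSch.toSchemeMor (FSch.completionAlong X 𝓘) hX (FSch.completionToX X 𝓘) (FSch.completionToX_comm X 𝓘)).pull] [FTors.HasRgammaT (FSch.completionAlong X 𝓘) hX] [FTors.HasRgammaZp X 𝓘]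
    (F : DerivedCategory (ModSite.Mod X.sheaf)) :
    ∃! e : (SiteCmp.pullD (FSch.toSchemeMor (FSch.completionAlong X 𝓘) hX (FSch.completionToX X 𝓘) (FSch.completionToX_comm X 𝓘))).obj ((FTors.RgammaZp X 𝓘).obj F) ≅
        (FTors.RgammaT (FSch.completionAlong X 𝓘) hX).obj ((SiteCmp.pullD (FSch.toSchemeMor (FSch.completionAlong X 𝓘) hX (FSch.completionToX X 𝓘) (FSch.completionToX_comm X 𝓘))).obj F),
      e.hom ≫ (FTors.RgammaTε (FSch.completionAlong X 𝓘) hX).app ((SiteCmp.pullD (FSch.toSchemeMor (FSch.completionAlong X 𝓘) hX (FSch.completionToX X 𝓘) (FSch.completionToX_comm X 𝓘))).obj F) =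
        (SiteCmp.pullD (FSch.toSchemeMor (FSch.completionAlong X 𝓘) hX (FSch.completionToX X 𝓘) (FSch.completionToX_comm X 𝓘))).map ((FTors.RgammaZpε X 𝓘).app F) := by
  haveI : IsClosedImmersion (FSch.completionToX X 𝓘 0) :=
    inferInstanceAs (IsClosedImmersion (𝓘 ^ (0 + 1)).subschemeι)
  exact Groth.L28.RGamma.existsUnique_pull (Groth.Agent.S3854.result X 𝓘) _ (FSch.completionToX_comm X 𝓘)
    (Groth.L17.FSheaf.cutBy_completionToX 𝓘) F

end Groth.Agent.S17072
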