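import Mathlib.AlgebraicGeometry.Morphisms.Proper
import Mathlib.AlgebraicGeometry.Morphisms.ClosedImmersion
import Mathlib.AlgebraicGeometry.Pullbacks
import Mathlib.AlgebraicGeometry.Morphisms.Proper
import Mathlib.AlgebraicGeometry.PullbackCarrier

set_option autoImplicit false
set_option linter.style.haveILetI false
namespace MorSch
end MorSch
universe u
open CategoryTheory CategoryTheory.Limits AlgebraicGeometry
open MorSch

namespace Groth.Agent.S17075

/-- Let g : X → S be a proper morphism, i : V → X a closed immersion and j : U → X an open immersion.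
Then there is an open subset S₀ of S such that, for every scheme S' and every morphism f : S' → S,
the image of f lies in S₀ if and only if the base change V ×_S S' → X ×_S S' of i factors through
the open subscheme U ×_S S', equivalently the composite V ×_S S' → V → X has image contained in the
image of j. -/
theorem result
    {V X U S : Scheme.{u}} (g : X ⟶ S) [IsProper g] (i : V ⟶ X) [IsClosedImmersion i]
    (j : U ⟶ X) [IsOpenImmersion j] :
    ∃ S₀ : S.Opens, ∀ (S' : Scheme.{u}) (f : S' ⟶ S),
      Set.range f ⊆ (S₀ : Set S) ↔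
        Set.range (pullback.fst (i ≫ g) f ≫ i) ⊆ Set.range j := by
  let bad : Set S := (i ≫ g) '' ((⇑i) ⁻¹' (Set.range j)ᶜ)
  have hbad : IsClosed bad := (i ≫ g).isClosedMap _ (j.isOpenEmbedding.isOpen_range.isClosed_compl.preimage i.continuous)
  refine ⟨⟨badᶜ, hbad.isOpen_compl⟩, fun S' f => ⟨fun hf => ?_, fun hf => ?_⟩⟩
  · rintro _ ⟨z, rfl⟩
    by_contra hz
    refine hf ⟨pullback.snd (i ≫ g) f z, rfl⟩ ⟨pullback.fst (i ≫ g) f z, by simpa [Scheme.Hom.comp_apply] using hz, ?_⟩
    rw [← Scheme.Hom.comp_apply, pullback.condition, Scheme.Hom.comp_apply]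
  · rintro _ ⟨s, rfl⟩ ⟨v, hv, hvs⟩
    obtain ⟨z, hz, -⟩ := Scheme.Pullback.exists_preimage_pullback (f := i ≫ g) (g := f) v s hvs
    refine hv ?_
    have := hf ⟨z, rfl⟩
    rw [Scheme.Hom.comp_apply, hz] at this
    exact this

end Groth.Agent.S17075
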