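import Groth.Statements.S17078
import Groth.Agent.L14.RatCurveBinary.Basic

set_option autoImplicit false
universe u
open RatCurve

namespace Groth.Agent.S17078

/-- Let k be an algebraically closed field and F_0, …, F_{n-1} homogeneous polynomials of degree d in
k[u, v]. Then the F_i have no common factor other than units if and only if there is an integer m ≥
d such that every homogeneous polynomial of degree m can be written Σ_i F_i G_i with each G_i
homogeneous of degree m − d, i.e. the k-linear map (G_i)_i ↦ Σ_i F_i G_i from n copies of k[u,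
v]_{m−d} to k[u, v]_m is surjective. -/
theorem result
    {k : Type u} [Field k] [IsAlgClosed k] {n : ℕ} (F : Fin n → MvPolynomial (Fin 2) k)
    (d : ℕ) (hF : ∀ i, (F i).IsHomogeneous d) :
    (¬ ∃ H : MvPolynomial (Fin 2) k, ¬ IsUnit H ∧ ∀ i, H ∣ F i) ↔
      ∃ m : ℕ, d ≤ m ∧ ∀ P : MvPolynomial (Fin 2) k, P.IsHomogeneous m →
        ∃ G : Fin n → MvPolynomial (Fin 2) k, (∀ i, (G i).IsHomogeneous (m - d)) ∧
          P = ∑ i, F i * G i := by
  open MvPolynomial in
  constructor
  · intro hno
    have h : ∀ a : Fin 2 → k, (∀ p ∈ Ideal.span (Set.range F), eval a p = 0) → a = 0 :=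
      fun a ha => by_contra fun hne => hno (Groth.Agent.L14.RatCurveBinary.exists_common_factor F
        (fun _ => d) hF hne fun i => ha _ (Ideal.subset_span ⟨i, rfl⟩))
    obtain ⟨N, hN⟩ := Groth.Agent.L14.RatCurveBinary.exists_pow_mem _ h 0
    obtain ⟨M, hM⟩ := Groth.Agent.L14.RatCurveBinary.exists_pow_mem _ h 1
    refine ⟨N + M + d, by omega, fun P hP => ?_⟩
    have hmem : P ∈ Ideal.span (Set.range F) := by
      rw [P.as_sum]
      refine Ideal.sum_mem _ fun e he => ?_
      have hdeg := hP.degree_eq_sum_deg_support he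
      rw [Finset.sum_subset (Finset.subset_univ e.support) (by simp), Fin.sum_univ_two] at hdeg
      rw [monomial_eq, Finsupp.prod_fintype _ _ (by simp), Fin.prod_univ_two]
      refine Ideal.mul_mem_left _ _ ?_
      rcases (show N ≤ e 0 ∨ M ≤ e 1 by omega) with h | h
      · exact Ideal.mul_mem_right _ _ (Ideal.mem_of_dvd _ (pow_dvd_pow _ h) hN)
      · exact Ideal.mul_mem_left _ _ (Ideal.mem_of_dvd _ (pow_dvd_pow _ h) hM)
    obtain ⟨H, hH⟩ := Ideal.mem_span_range_iff_exists_fun.1 hmem
    refine ⟨fun i => homogeneousComponent (N + M + d - d) (H i), fun i => homogeneousComponent_isHomogeneous _ _, ?_⟩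
    have hc : ∀ i, homogeneousComponent (N + M + d) (H i * F i) = F i * homogeneousComponent (N + M + d - d) (H i) := by
      intro i
      conv_lhs => rw [← sum_homogeneousComponent (H i), Finset.sum_mul, map_sum]
      rw [Finset.sum_congr rfl (fun j _ => homogeneousComponent_of_mem
        (show homogeneousComponent j (H i) * F i ∈ homogeneousSubmodule (Fin 2) k (j + d) from
          (mem_homogeneousSubmodule _ _).2 ((homogeneousComponent_isHomogeneous _ _).mul (hF i))))]
      rw [Finset.sum_eq_single (N + M)]
      · rw [if_pos rfl, Nat.add_sub_cancel, mul_comm]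
      · intro j _ hj; rw [if_neg (by omega)]
      · intro hj
        rw [if_pos rfl, homogeneousComponent_eq_zero _ _ (by simp at hj; omega), zero_mul]
    rw [← homogeneousComponent_eq_self hP, ← hH, map_sum]
    exact Finset.sum_congr rfl fun i _ => hc i
  · rintro ⟨m, hm, hsurj⟩ ⟨H, hH, hd⟩
    obtain ⟨a, ha, h0⟩ := Groth.Agent.L14.RatCurveBinary.exists_zero_of_not_isUnit hH
    refine ha (funext fun j => ?_)
    obtain ⟨G, -, hG⟩ := hsurj (X j ^ m) (isHomogeneous_X_pow j m)
    have := congrArg (eval a) hG
    have h' : ∀ i, eval a (F i) = 0 := fun i => by obtain ⟨c, hc⟩ := hd i; simp [hc, h0]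
    simp [h'] at this
    exact this.1

end Groth.Agent.S17078
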