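import Groth.Statements.S17079
-- import your own Groth.Agent.* helpers here

set_option autoImplicit false
set_option backward.isDefEq.respectTransparency false
set_option backward.isDefEq.respectTransparency.types false
universe u
open CategoryTheory CategoryTheory.Limits AlgebraicGeometry
open MorSch

namespace Groth.Agent.S17079

/-- Let gX : X → S and gY : Y → S be morphisms and suppose the functor Mor_S(X, Y) — sending an S-scheme
T to the set of S-morphisms T ×_S X → Y, with base change as transition maps — is represented by an
S-scheme M. Then for every morphism h : S' → S the functor Mor_{S'}(X ×_S S', Y ×_S S') on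
S'-schemes is represented by M ×_S S'. (The published statement assumes X and Y projective over S
with X flat and S, S' locally Noetherian; this row assumes only that the functor is represented by
M. Only the existence of a representing structure on M ×_S S' is asserted, not its compatibility
with the one on M.) -/
theorem result
    {X Y S S' : Scheme.{u}} (gX : X ⟶ S) (gY : Y ⟶ S) (h : S' ⟶ S)
    (M : Over S) (e : (Flatn.morS gX gY).RepresentableBy M) :
    Nonempty ((Flatn.morS (pullback.snd gX h) (pullback.snd gY h)).RepresentableBy
      (Over.mk (pullback.snd M.hom h))) := by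
  let κ : ∀ T : Over S', Limits.pullback T.hom (Limits.pullback.snd gX h) ⟶ Limits.pullback (T.hom ≫ h) gX := fun T =>
    Limits.pullback.lift (Limits.pullback.fst _ _) (Limits.pullback.snd _ _ ≫ Limits.pullback.fst _ _) (by
      rw [Category.assoc, Limits.pullback.condition, Limits.pullback.condition_assoc])
  let κ' : ∀ T : Over S', Limits.pullback (T.hom ≫ h) gX ⟶ Limits.pullback T.hom (Limits.pullback.snd gX h) := fun T =>
    Limits.pullback.lift (Limits.pullback.fst _ _) (Limits.pullback.lift (Limits.pullback.snd _ _) (Limits.pullback.fst _ _ ≫ T.hom) (by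
      rw [Category.assoc, Limits.pullback.condition])) (Limits.pullback.lift_snd _ _ _).symm
  have h1 : ∀ T, κ T ≫ κ' T = 𝟙 _ := fun T => by
    apply Limits.pullback.hom_ext
    · simp [κ, κ']
    · apply Limits.pullback.hom_ext
      · simp [κ, κ']
      · simp [κ, κ', Limits.pullback.condition]
  have h2 : ∀ T, κ' T ≫ κ T = 𝟙 _ := fun T => by
    apply Limits.pullback.hom_ext <;> simp [κ, κ']
  let θ : ∀ T : Over S', (Flatn.morS gX gY).obj (Opposite.op ((Over.map h).obj T)) ≃
      (Flatn.morS (Limits.pullback.snd gX h) (Limits.pullback.snd gY h)).obj (Opposite.op T) := fun T =>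
    { toFun := fun b => Over.homMk (Limits.pullback.lift (κ T ≫ b.left)
          (Limits.pullback.snd T.hom (Limits.pullback.snd gX h) ≫ Limits.pullback.snd gX h) (by
          rw [Category.assoc, show b.left ≫ gY = Limits.pullback.snd (T.hom ≫ h) gX ≫ gX from Over.w b]
          simp only [κ, Limits.pullback.lift_snd_assoc, Category.assoc, Limits.pullback.condition]))
        (Limits.pullback.lift_snd _ _ _)
      invFun := fun c => Over.homMk (κ' T ≫ c.left ≫ Limits.pullback.fst gY h) (by
          show (κ' T ≫ c.left ≫ Limits.pullback.fst gY h) ≫ gY = Limits.pullback.snd (T.hom ≫ h) gX ≫ gX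
          rw [Category.assoc, Category.assoc, Limits.pullback.condition,
            ← Category.assoc c.left, show c.left ≫ Limits.pullback.snd gY h =
              Limits.pullback.snd T.hom (Limits.pullback.snd gX h) ≫ Limits.pullback.snd gX h from Over.w c]
          simp only [κ', Category.assoc, Limits.pullback.lift_snd_assoc, ← Limits.pullback.condition,
            Limits.pullback.lift_fst_assoc])
      left_inv := fun b => Over.OverMorphism.ext (by
        show κ' T ≫ Limits.pullback.lift _ _ _ ≫ Limits.pullback.fst gY h = b.left
        rw [Limits.pullback.lift_fst, ← Category.assoc, h2, Category.id_comp])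
      right_inv := fun c => Over.OverMorphism.ext (by
        show Limits.pullback.lift (κ T ≫ κ' T ≫ c.left ≫ Limits.pullback.fst gY h) _ _ = c.left
        apply Limits.pullback.hom_ext
        · rw [Limits.pullback.lift_fst, ← Category.assoc, h1, Category.id_comp]
        · rw [Limits.pullback.lift_snd]
          exact (Over.w c).symm) }
  refine ⟨{ homEquiv := fun {T} => ((Over.mapPullbackAdj h).homEquiv T M).symm.trans (e.homEquiv.trans (θ T)), homEquiv_comp := ?_ }⟩
  intro T T' f g
  have ha : ((Over.mapPullbackAdj h).homEquiv T M).symm (f ≫ g) = (Over.map h).map f ≫ ((Over.mapPullbackAdj h).homEquiv T' M).symm g :=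
    (Over.mapPullbackAdj h).homEquiv_naturality_left_symm f g
  show θ T (e.homEquiv (((Over.mapPullbackAdj h).homEquiv T M).symm (f ≫ g))) = _
  rw [ha, e.homEquiv_comp]
  refine Over.OverMorphism.ext ?_
  set b := e.homEquiv (((Over.mapPullbackAdj h).homEquiv T' M).symm g) with hb
  show Limits.pullback.lift _ _ _ = ((Over.pullback (Limits.pullback.snd gX h)).map f).left ≫ Limits.pullback.lift (κ T' ≫ b.left) _ _
  apply Limits.pullback.hom_ext
  · rw [Limits.pullback.lift_fst, Category.assoc, Limits.pullback.lift_fst]
    show κ T ≫ ((Over.pullback gX).map ((Over.map h).map f)).left ≫ b.left = _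
    rw [← Category.assoc, ← Category.assoc]
    congr 1
    apply Limits.pullback.hom_ext <;> simp [κ]
  · rw [Limits.pullback.lift_snd, Category.assoc, Limits.pullback.lift_snd]
    simp

end Groth.Agent.S17079
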