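import Groth.Statements.S17083
import Groth.Agent.L13.BlowUp.Local
import Groth.Agent.L13.BlowUp.Exists
import Groth.Agent.S1683

set_option autoImplicit false
universe u
open CategoryTheory CategoryTheory.Limits AlgebraicGeometry
open MorSch

namespace Groth.Agent.S17083

/-- The closed immersion constructed in its proof, as follows. Let X be a scheme, I₁ and I₂
quasi-coherent ideal sheaves on X with I₁ + I₂ = O_X, so that they cut out disjoint closed
subschemes Z₁ and Z₂, let σ : B → X be a blow-up of X in the ideal I₁ ∩ I₂ of Z₁ ∪ Z₂, and let σ₁ :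
B₁ → X and σ₂ : B₂ → X be blow-ups of X in Z₁ and in Z₂ (blow-up in the sense of the universal
property: the inverse image ideal is effective Cartier, finally so). Then there is a morphism ι : B
→ B₁ ×_X B₂ over X which is a closed immersion; the components B → B_i are necessarily the unique
X-morphisms given by the universal properties. (Published for X a projective space over an
algebraically closed field, Z₂ a closed point and Z₁ a finite set of closed points not containing
it, and iterated there to embed the blow-up at r distinct points as a closed subscheme of the fibre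
product over X of the r blow-ups at single points.) -/
theorem result
    {X B B₁ B₂ : Scheme.{u}} (I₁ I₂ : X.IdealSheafData) (hdisj : I₁ ⊔ I₂ = ⊤)
    (σ : B ⟶ X) (hσ : BlowUp.IsBlowUp σ (I₁ ⊓ I₂))
    (σ₁ : B₁ ⟶ X) (hσ₁ : BlowUp.IsBlowUp σ₁ I₁) (σ₂ : B₂ ⟶ X) (hσ₂ : BlowUp.IsBlowUp σ₂ I₂) :
    ∃ ι : B ⟶ pullback σ₁ σ₂, IsClosedImmersion ι ∧ ι ≫ pullback.fst σ₁ σ₂ ≫ σ₁ = σ := by
  have hmul : I₁ * I₂ = I₁ ⊓ I₂ := by
    refine Scheme.IdealSheafData.ext (funext fun U => ?_)
    rw [Scheme.IdealSheafData.ideal_mul, Scheme.IdealSheafData.ideal_inf]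
    refine Ideal.mul_eq_inf_of_coprime ?_
    have := congrArg (fun J => J.ideal U) hdisj
    simpa [Scheme.IdealSheafData.ideal_sup, Scheme.IdealSheafData.ideal_top] using this
  have hd : ∀ y, y ∈ I₁.support → y ∉ I₂.support := fun y h1 h2 => by
    have : y ∈ (I₁ ⊔ I₂).support := by
      rw [Scheme.IdealSheafData.support_sup]
      exact ⟨h1, h2⟩
    rw [hdisj, Scheme.IdealSheafData.support_top] at this
    exact this
  have hT : BlowUp.IsBlowUp (pullback.fst σ₁ σ₂) (I₂.comap σ₁) := by
    refine ⟨?_, fun Y h hY => ?_⟩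
    · refine Groth.L13.BU.isEffCartier_of_cover fun t => ?_
      by_cases ht : (pullback.fst σ₁ σ₂ ≫ σ₁) t ∈ I₂.support
      · let C : X.Opens := I₁.support.compl
        have htC : (pullback.fst σ₁ σ₂ ≫ σ₁) t ∈ C := fun h1 => hd _ h1 ht
        let j := pullback.fst (pullback.fst σ₁ σ₂) (σ₁ ⁻¹ᵁ C).ι
        haveI : IsIso (σ₁ ∣_ C) := Groth.L22.Ideals.isIso_restrict_compl hσ₁
        haveI : Flat ((σ₁ ⁻¹ᵁ C).ι ≫ σ₁) := by rw [← morphismRestrict_ι]; infer_instance
        haveI : Flat (j ≫ pullback.snd σ₁ σ₂) :=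
          MorphismProperty.of_isPullback (P := @Flat)
            ((IsPullback.of_hasPullback (pullback.fst σ₁ σ₂) (σ₁ ⁻¹ᵁ C).ι).paste_horiz
              (IsPullback.of_hasPullback σ₁ σ₂).flip).flip inferInstance
        refine ⟨_, j, inferInstance, ?_, ?_⟩
        · rw [Scheme.Pullback.range_fst, Scheme.Opens.range_ι]
          show σ₁ (pullback.fst σ₁ σ₂ t) ∈ C
          rw [← Scheme.Hom.comp_apply]; exact htC
        · rw [← Scheme.IdealSheafData.comap_comp, ← Scheme.IdealSheafData.comap_comp, Category.assoc,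
            show j ≫ pullback.fst σ₁ σ₂ ≫ σ₁ = (j ≫ pullback.snd σ₁ σ₂) ≫ σ₂ by rw [Category.assoc, pullback.condition],
            Scheme.IdealSheafData.comap_comp]
          exact Groth.L22.Ideals.isEffCartier_comap_of_flat _ hσ₂.1
      · let W : (pullback σ₁ σ₂).Opens := (pullback.fst σ₁ σ₂ ≫ σ₁) ⁻¹ᵁ I₂.support.compl
        refine ⟨_, W.ι, inferInstance, by rw [Scheme.Opens.range_ι]; exact ht, ?_⟩
        rw [← Scheme.IdealSheafData.comap_comp, ← Scheme.IdealSheafData.comap_comp,
          Groth.L22.Ideals.comap_eq_top _ _ fun w => ?_]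
        · exact Groth.L22.Ideals.isEffCartier_top
        · exact w.2
    · rw [← Scheme.IdealSheafData.comap_comp] at hY
      obtain ⟨k, hk, huniq⟩ := hσ₂.2 Y (h ≫ σ₁) hY
      refine ⟨pullback.lift h k hk.symm, pullback.lift_fst _ _ _, fun l hl => ?_⟩
      apply pullback.hom_ext
      · rw [pullback.lift_fst]; exact hl
      · rw [pullback.lift_snd]
        refine huniq _ ?_
        show (l ≫ pullback.snd σ₁ σ₂) ≫ σ₂ = h ≫ σ₁
        rw [Category.assoc, ← pullback.condition, ← Category.assoc, hl]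
  have hP := Groth.Agent.S1683.result I₁ I₂ σ₁ hσ₁ _ hT
  rw [hmul] at hP
  obtain ⟨ι, hι, -⟩ := hP.2 B σ hσ.1
  haveI := Groth.L13.BU.isIso_of_blowUps hP hσ ι hι
  exact ⟨ι, inferInstance, hι⟩

end Groth.Agent.S17083
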