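import Mathlib.AlgebraicGeometry.Limits
import Mathlib.AlgebraicGeometry.PullbackCarrier
import Groth.Statements.S17084
-- import your own Groth.Agent.* helpers here

set_option autoImplicit false
set_option backward.isDefEq.respectTransparency false
set_option backward.isDefEq.respectTransparency.types false
universe u
open CategoryTheory CategoryTheory.Limits AlgebraicGeometry
open MorSch

namespace Groth.Agent.S17084

/-- Let (X_i)_{i ∈ ι} be a finite family of schemes over S with structure morphisms g_i : X_i → S, let Y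
→ S be a scheme over S and T an S-scheme. Then for every family of S-morphisms a_i : T ×_S X_i → Y
there is a unique S-morphism b : T ×_S (∐_i X_i) → Y whose restriction along each T ×_S X_i → T ×_S
(∐_i X_i) is a_i. In other words the canonical map Mor_S(∐_i X_i, Y) → ∏_i Mor_S(X_i, Y) of functors
on S-schemes is an isomorphism. -/
theorem result
    {S Y : Scheme.{u}} {ι : Type u} [Finite ι] (X : ι → Scheme.{u}) (g : ∀ i, X i ⟶ S)
    (gY : Y ⟶ S) (T : Over S) (a : ∀ i, (Flatn.morS (g i) gY).obj (Opposite.op T)) :
    ∃! b : (Flatn.morS (Sigma.desc g) gY).obj (Opposite.op T),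
      ∀ i, pullback.map T.hom (g i) T.hom (Sigma.desc g) (𝟙 T.left) (Sigma.ι X i) (𝟙 S)
          ((Category.comp_id _).trans (Category.id_comp _).symm)
          ((Category.comp_id _).trans (Sigma.ι_desc g i).symm) ≫ b.left = (a i).left := by
  let Z : ι → Scheme.{u} := fun i => Limits.pullback T.hom (g i)
  let m : ∀ i, Z i ⟶ Limits.pullback T.hom (Sigma.desc g) := fun i => Limits.pullback.map T.hom (g i) T.hom (Sigma.desc g) (𝟙 T.left) (Sigma.ι X i) (𝟙 S)
          ((Category.comp_id _).trans (Category.id_comp _).symm)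
          ((Category.comp_id _).trans (Sigma.ι_desc g i).symm)
  have hm : ∀ i, IsPullback (m i) (Limits.pullback.snd T.hom (g i)) (Limits.pullback.snd T.hom (Sigma.desc g)) (Sigma.ι X i) := by
    intro i
    refine IsPullback.of_right (h₁₂ := Limits.pullback.fst T.hom (Sigma.desc g)) (h₂₂ := Sigma.desc g) (v₁₃ := T.hom) ?_ (Limits.pullback.lift_snd _ _ _) (IsPullback.of_hasPullback T.hom (Sigma.desc g))
    rw [show m i ≫ Limits.pullback.fst T.hom (Sigma.desc g) = Limits.pullback.fst T.hom (g i) from
      (Limits.pullback.lift_fst _ _ _).trans (Category.comp_id _), Sigma.ι_desc]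
    exact IsPullback.of_hasPullback T.hom (g i)
  haveI : ∀ i, IsOpenImmersion (m i) := fun i =>
    MorphismProperty.of_isPullback (P := @IsOpenImmersion) (hm i).flip inferInstance
  let 𝒰 : (Limits.pullback T.hom (Sigma.desc g)).OpenCover :=
    { I₀ := ι
      X := Z
      f := m
      mem₀ := by
        rw [Scheme.presieve₀_mem_precoverage_iff]
        refine ⟨fun z => ?_, fun i => inferInstanceAs (IsOpenImmersion (m i))⟩
        obtain ⟨i, x, hx⟩ := (sigmaOpenCover X).exists_eq ((Limits.pullback.snd T.hom (Sigma.desc g)) z)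
        obtain ⟨y, hy, -⟩ := Scheme.Pullback.exists_preimage_pullback (f := Limits.pullback.snd T.hom (Sigma.desc g))
          (g := Sigma.ι X i) z x hx.symm
        refine ⟨i, (hm i).isoPullback.inv y, ?_⟩
        rw [← Scheme.Hom.comp_apply, (hm i).isoPullback_inv_fst]
        exact hy }
  have hcompat : ∀ i j, Limits.pullback.fst (m i) (m j) ≫ (a i).left = Limits.pullback.snd (m i) (m j) ≫ (a j).left := by
    intro i j
    by_cases hij : i = j
    · subst hij
      rw [show Limits.pullback.fst (m i) (m i) = Limits.pullback.snd (m i) (m i) from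
        (cancel_mono (m i)).1 Limits.pullback.condition]
    · haveI : IsEmpty ↥(Limits.pullback (m i) (m j)) := ⟨fun z => by
        have h := congrArg (fun w => (Limits.pullback.snd T.hom (Sigma.desc g)) (w z)) (Limits.pullback.condition (f := m i) (g := m j))
        simp only [← Scheme.Hom.comp_apply, Category.assoc, (hm i).w, (hm j).w] at h
        simp only [Scheme.Hom.comp_apply] at h
        exact (disjoint_opensRange_sigmaι X i j hij).le_bot (x := (Sigma.ι X i) _) ⟨⟨_, rfl⟩, ⟨_, h.symm⟩⟩⟩
      exact isInitialOfIsEmpty.hom_ext _ _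
  let c : Limits.pullback T.hom (Sigma.desc g) ⟶ Y := 𝒰.glueMorphisms (fun i => (a i).left) hcompat
  have hc : ∀ i, m i ≫ c = (a i).left := fun i => 𝒰.ι_glueMorphisms _ hcompat i
  have hcS : c ≫ gY = Limits.pullback.snd T.hom (Sigma.desc g) ≫ Sigma.desc g := by
    refine 𝒰.hom_ext _ _ fun i => ?_
    show m i ≫ c ≫ gY = m i ≫ _
    rw [reassoc_of% (hc i), show (a i).left ≫ gY = Limits.pullback.snd T.hom (g i) ≫ g i from Over.w (a i),
      reassoc_of% (hm i).w, Sigma.ι_desc]
  exact ⟨Over.homMk c hcS, hc, fun b hb => Over.OverMorphism.ext (𝒰.hom_ext b.left c fun i => (hb i).trans (hc i).symm)⟩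

end Groth.Agent.S17084
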