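import Groth.Statements.S17085
import Groth.Agent.L21.ProjLine
import Groth.Agent.L18.NormalExtend
import Groth.Agent.L21.Nodal.Reduced
import Groth.Agent.L22.CurveDeg.NonSpecial
import Groth.Agent.L05.GeomMult.Basic
import Mathlib.AlgebraicGeometry.Morphisms.SchemeTheoreticallyDominant
-- import your own Groth.Agent.* helpers here

set_option autoImplicit false
universe u
open CategoryTheory CategoryTheory.Limits AlgebraicGeometry TopologicalSpace
open RatCurve

namespace Groth.Agent.S17085

set_option backward.isDefEq.respectTransparency false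
set_option linter.style.haveILetI false

theorem isNoetherian_opens {Y : Scheme.{u}} [IsNoetherian Y] (W : Y.Opens) : IsNoetherian W.toScheme := by
  haveI : IsLocallyNoetherian W.toScheme := LocallyOfFiniteType.isLocallyNoetherian W.ι
  haveI : CompactSpace W.toScheme := isCompact_iff_compactSpace.1 (NoetherianSpace.isCompact (W : Set Y))
  exact ⟨⟩

/-- A map from an open of a curve with bijective map on function fields gives an isomorphism of opens. -/
theorem exists_iso_open (k : Type u) [Field k] [IsAlgClosed k] {C P : Scheme.{u}} [IsIntegral C] [IsIntegral P]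
    (p : C ⟶ Spec (CommRingCat.of k)) [IsProper p] (hdim : topologicalKrullDim C = 1)
    (q : P ⟶ Spec (CommRingCat.of k)) [IsProper q]
    (V : P.Opens) (hV : genericPoint P ∈ V) (g : (V : Scheme.{u}) ⟶ C) (hgp : g ≫ p = V.ι ≫ q)
    (χ : C.functionField ≃+* P.functionField)
    (hg : Spec.map (CommRingCat.ofHom (χ : C.functionField →+* P.functionField)) ≫
      C.fromSpecStalk (genericPoint C) = V.fromSpecStalkOfMem (genericPoint P) hV ≫ g) :
    ∃ (U : C.Opens) (W : P.Opens) (e : (↑U : Scheme.{u}) ≅ ↑W),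
        Nonempty U ∧ e.hom ≫ W.ι ≫ q = U.ι ≫ p := by
  let η : V.toScheme := ⟨genericPoint P, hV⟩
  haveI : Nonempty V.toScheme := ⟨η⟩
  haveI : IsIntegral V.toScheme := isIntegral_of_isOpenImmersion V.ι
  have hη : genericPoint V.toScheme = η :=
    V.ι.isOpenEmbedding.injective (genericPoint_eq_of_isOpenImmersion V.ι)
  let β : C.functionField ≅ V.toScheme.presheaf.stalk η :=
    χ.toCommRingCatIso ≪≫ asIso (V.ι.stalkMap η)
  have hfS : V.toScheme.fromSpecStalk η ≫ g = Spec.map β.hom ≫ C.fromSpecStalk (genericPoint C) := by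
    haveI : IsIso (Spec.map (V.ι.stalkMap η)) := inferInstance
    rw [show β.hom = χ.toCommRingCatIso.hom ≫ V.ι.stalkMap η from rfl, Spec.map_comp, Category.assoc,
      show χ.toCommRingCatIso.hom = CommRingCat.ofHom (χ : C.functionField →+* P.functionField) from rfl, hg]
    rw [← Category.assoc]
    congr 1
    rw [← cancel_mono V.ι, Category.assoc, Scheme.Opens.fromSpecStalkOfMem_ι]
    exact (Scheme.SpecMap_stalkMap_fromSpecStalk V.ι).symm
  have hgη : g η = genericPoint C := by
    have h1 := congrArg (fun m : Spec (V.toScheme.presheaf.stalk η) ⟶ C => m (IsLocalRing.closedPoint _)) hfS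
    simp only [Scheme.Hom.comp_apply, Scheme.fromSpecStalk_closedPoint] at h1
    rw [h1]
    exact (congrArg (C.fromSpecStalk (genericPoint C)) (@Subsingleton.elim (PrimeSpectrum C.functionField)
      inferInstance _ _)).trans Scheme.fromSpecStalk_closedPoint
  have hiso : IsIso (g.stalkMap η) := by
    have h1 : C.presheaf.stalkSpecializes (specializes_of_eq hgη) ≫ g.stalkMap η = β.hom := by
      refine Spec.map_injective ((cancel_mono (C.fromSpecStalk (genericPoint C))).1 ?_)
      rw [Spec.map_comp, Category.assoc, Scheme.SpecMap_stalkSpecializes_fromSpecStalk,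
        Scheme.SpecMap_stalkMap_fromSpecStalk, hfS]
    haveI : IsIso (C.presheaf.stalkSpecializes (specializes_of_eq hgη)) :=
      inferInstanceAs (IsIso (C.presheaf.stalkCongr (Inseparable.of_eq hgη.symm)).hom)
    haveI : IsIso (C.presheaf.stalkSpecializes (specializes_of_eq hgη) ≫ g.stalkMap η) := by
      rw [h1]; infer_instance
    exact IsIso.of_isIso_comp_left (C.presheaf.stalkSpecializes (specializes_of_eq hgη)) _
  -- the smooth locus
  letI : C.Over (Spec (CommRingCat.of k)) := ⟨p⟩
  haveI : IsProper (C ↘ Spec (CommRingCat.of k)) := ‹IsProper p›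
  haveI := Groth.L21.RR.isNoetherian_of_proper (X := C) k
  haveI := LocallyOfFiniteType.isLocallyNoetherian q
  haveI : CompactSpace P := QuasiCompact.compactSpace_of_compactSpace q
  haveI : IsNoetherian P := ⟨⟩
  obtain ⟨U, hηU, hU⟩ := Groth.L21.Nodal.exists_smooth_nhd_of_maximal p (genericPoint C)
    (fun y hy => ((hy.antisymm ((genericPoint_spec C).specializes trivial)).eq))
  haveI : Nonempty U.toScheme := ⟨⟨_, hηU⟩⟩
  haveI : IsIntegral U.toScheme := isIntegral_of_isOpenImmersion U.ι
  haveI : JacobsonSpace C := LocallyOfFiniteType.jacobsonSpace p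
  obtain ⟨z, hzU, hz⟩ := nonempty_inter_closedPoints (Z := (U : Set C)) ⟨_, hηU⟩ U.2.isLocallyClosed
  have hzne : z ≠ genericPoint C := fun h => Groth.L22.CurveDeg.generic_not_isClosed hdim (h ▸ hz)
  have hUd : topologicalKrullDim U.toScheme = 1 := by
    refine le_antisymm (U.ι.isOpenEmbedding.isInducing.topologicalKrullDim_le.trans hdim.le) ?_
    refine Groth.L05.GeomMult.one_le_dim_of_specializes (a := (⟨_, hηU⟩ : U.toScheme)) (b := ⟨z, hzU⟩) ?_
      fun h => hzne (congrArg Subtype.val h)
    exact U.ι.isOpenEmbedding.isInducing.specializes_iff.1 ((genericPoint_spec C).specializes trivial)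
  have hN : ∀ x : U.toScheme, IsDomain (U.toScheme.presheaf.stalk x) ∧
      IsIntegrallyClosed (U.toScheme.presheaf.stalk x) := fun x => by
    haveI := hU
    haveI : IsRegularLocalRing (U.toScheme.presheaf.stalk x) := Groth.L21.Smooth.regular_stalk (U.ι ≫ p) x
    have hp := Groth.L21.SmoothDescent.isPrincipal_of_dim_le_one
      ((Groth.L21.SmoothDescent.ringKrullDim_stalk_le x).trans hUd.le)
    haveI : IsPrincipalIdealRing (U.toScheme.presheaf.stalk x) :=
      (tfae_of_isNoetherianRing_of_isLocalRing_of_isDomain (U.toScheme.presheaf.stalk x)).out 4 0 |>.mp hp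
    exact ⟨inferInstance, inferInstance⟩
  have hηV' : η ∈ g ⁻¹ᵁ U := show g η ∈ U from hgη ▸ hηU
  haveI : Nonempty (g ⁻¹ᵁ U).toScheme := ⟨⟨η, hηV'⟩⟩
  haveI : IsIntegral (g ⁻¹ᵁ U).toScheme := isIntegral_of_isOpenImmersion (g ⁻¹ᵁ U).ι
  let j : (g ⁻¹ᵁ U).toScheme ⟶ P := (g ⁻¹ᵁ U).ι ≫ V.ι
  haveI : IsNoetherian P := inferInstance
  haveI : P.IsSeparated := by
    constructor
    rw [← terminal.comp_from q]
    infer_instance
  haveI : (g ⁻¹ᵁ U).toScheme.IsSeparated := by
    constructor
    rw [← terminal.comp_from j]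
    infer_instance
  haveI := isNoetherian_opens V
  haveI := isNoetherian_opens (g ⁻¹ᵁ U)
  haveI := isNoetherian_opens U
  have hgen' : genericPoint (g ⁻¹ᵁ U).toScheme = ⟨η, hηV'⟩ :=
    (g ⁻¹ᵁ U).ι.isOpenEmbedding.injective
      ((genericPoint_eq_of_isOpenImmersion (g ⁻¹ᵁ U).ι).trans hη)
  have e1 : (g ∣_ U) (genericPoint (g ⁻¹ᵁ U).toScheme) = genericPoint U.toScheme := by
    refine U.ι.isOpenEmbedding.injective ?_
    rw [genericPoint_eq_of_isOpenImmersion U.ι, ← Scheme.Hom.comp_apply, morphismRestrict_ι, hgen',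
      Scheme.Hom.comp_apply]
    exact hgη
  haveI : LocallyOfFiniteType g := by
    haveI : LocallyOfFiniteType (g ≫ p) := hgp ▸ inferInstanceAs (LocallyOfFiniteType (V.ι ≫ q))
    exact locallyOfFiniteType_of_comp g p
  have hbij : Function.Bijective (Groth.L21.Curve.ffMap (g ∣_ U) e1) := by
    haveI : IsIso (g.stalkMap ((g ⁻¹ᵁ U).ι (genericPoint (g ⁻¹ᵁ U).toScheme))) := by
      rw [hgen']
      exact hiso
    haveI : IsIso ((g ∣_ U).stalkMap (genericPoint (g ⁻¹ᵁ U).toScheme)) :=
      ((MorphismProperty.isomorphisms _).arrow_mk_iso_iff (morphismRestrictStalkMap g U _)).2 ‹_›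
    haveI : IsIso (U.toScheme.presheaf.stalkSpecializes (specializes_of_eq e1)) :=
      inferInstanceAs (IsIso (U.toScheme.presheaf.stalkCongr (Inseparable.of_eq e1.symm)).hom)
    exact ConcreteCategory.bijective_of_isIso
      (U.toScheme.presheaf.stalkSpecializes (specializes_of_eq e1) ≫ (g ∣_ U).stalkMap _)
  haveI : IsOpenImmersion (g ∣_ U) := Groth.L21.Curve.isOpenImmersion_of_birational (g ∣_ U) e1 hbij hUd hN
  haveI : IsOpenImmersion ((g ∣_ U) ≫ U.ι) := inferInstance
  refine ⟨((g ∣_ U) ≫ U.ι).opensRange, j.opensRange,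
    ((g ∣_ U) ≫ U.ι).isoOpensRange.symm ≪≫ j.isoOpensRange, ⟨⟨_, ⟨⟨η, hηV'⟩, rfl⟩⟩⟩, ?_⟩
  rw [Iso.trans_hom, Iso.symm_hom, Category.assoc, Iso.inv_comp_eq, ← Category.assoc j.isoOpensRange.hom,
    Scheme.Hom.isoOpensRange_hom_ι, ← Category.assoc ((g ∣_ U) ≫ U.ι).isoOpensRange.hom,
    Scheme.Hom.isoOpensRange_hom_ι, morphismRestrict_ι, Category.assoc, Category.assoc, hgp]

/-- Let k be an algebraically closed field and C ⊆ P^n_k a closed subscheme which is an integral scheme
of dimension one (a projective curve). Then C is rational — some nonempty open subscheme of C is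
isomorphic over k to an open subscheme of the projective line P^1_k — if and only if C is the
scheme-theoretic image of some k-morphism f : P^1_k → P^n_k, i.e. the ideal sheaf of C in P^n_k is
the kernel ideal sheaf of f. -/
theorem result
    {k : Type u} [Field k] [IsAlgClosed k] {n : ℕ} (C : Scheme.{u})
    (i : C ⟶ CohB1.ProjSpace n k) [IsClosedImmersion i] [IsIntegral C]
    (hdim : topologicalKrullDim C = 1) :
    (∃ (U : C.Opens) (V : (CohB1.ProjSpace 1 k).Opens) (e : (↑U : Scheme.{u}) ≅ ↑V),
        Nonempty U ∧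
          e.hom ≫ V.ι ≫ CohB1.ProjSpace.toSpec 1 k = U.ι ≫ i ≫ CohB1.ProjSpace.toSpec n k) ↔
      ∃ f : CohB1.ProjSpace 1 k ⟶ CohB1.ProjSpace n k,
        f ≫ CohB1.ProjSpace.toSpec n k = CohB1.ProjSpace.toSpec 1 k ∧ f.ker = i.ker := by
  haveI : IsProper (CohB1.ProjSpace.toSpec n k) := Groth.L16.ProjSpace.isProper_toSpec n k
  haveI : IsProper (CohB1.ProjSpace.toSpec 1 k) := Groth.L16.ProjSpace.isProper_toSpec 1 k
  haveI : IsIntegral (CohB1.ProjSpace 1 k) := Groth.L16.ProjSpace.isIntegral (n := 1) (R := k)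
  let P := CohB1.ProjSpace 1 k
  let q : P ⟶ Spec (CommRingCat.of k) := CohB1.ProjSpace.toSpec 1 k
  let p : C ⟶ Spec (CommRingCat.of k) := i ≫ CohB1.ProjSpace.toSpec n k
  haveI : IsProper p := inferInstanceAs (IsProper (i ≫ CohB1.ProjSpace.toSpec n k))
  haveI : IsLocallyNoetherian P := LocallyOfFiniteType.isLocallyNoetherian q
  constructor
  · rintro ⟨U, V, e, hUne, he⟩
    obtain ⟨x⟩ := hUne
    have hVd : Dense (V : Set P) := V.isOpen.dense ⟨_, (e.hom x).2⟩
    obtain ⟨W, hVW, g', hg'p, hg', hW⟩ := Groth.L18.Codim1.exists_extension_proper p q V hVd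
      (e.inv ≫ U.ι) (by
        rw [Category.assoc, ← show e.hom ≫ V.ι ≫ q = U.ι ≫ p from he, Iso.inv_hom_id_assoc]) Set.univ
      fun y _ => ⟨(Groth.L21.ProjLine.isNormalScheme y).1, by
        haveI := (Groth.L21.ProjLine.isNormalScheme (k := k) y).2
        refine Groth.L18.Codim1.valuationRing_of_normal _
          ((Groth.L21.SmoothDescent.ringKrullDim_stalk_le y).trans ?_)
        rw [Groth.L16.ProjSpace.topologicalKrullDim_eq_of_field, Nat.cast_one]⟩
    obtain rfl : W = ⊤ := eq_top_iff.2 fun y _ => hW y trivial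
    let h : P ⟶ C := P.topIso.inv ≫ g'
    have hhp : h ≫ p = q := by
      rw [Category.assoc, hg'p, ← Scheme.topIso_hom, Iso.inv_hom_id_assoc]
    have hVh : V.ι ≫ h = e.inv ≫ U.ι := by
      rw [← hg']
      show V.ι ≫ P.topIso.inv ≫ g' = _
      rw [← Category.assoc]
      congr 1
      rw [← cancel_mono (⊤ : P.Opens).ι, Scheme.homOfLE_ι, Category.assoc, ← Scheme.topIso_hom,
        Iso.inv_hom_id, Category.comp_id]
    haveI : IsDominant h := by
      refine (isDominant_iff h).2 fun c => closure_mono ?_ ((U.isOpen.dense ⟨_, x.2⟩) c)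
      intro y hy
      refine ⟨V.ι (e.hom ⟨y, hy⟩), ?_⟩
      rw [← Scheme.Hom.comp_apply, hVh, Scheme.Hom.comp_apply, ← Scheme.Hom.comp_apply e.hom e.inv,
        Iso.hom_inv_id]
      rfl
    haveI := IsSchemeTheoreticallyDominant.of_isDominant h
    refine ⟨h ≫ i, (Category.assoc _ _ _).trans hhp, ?_⟩
    rw [Scheme.Hom.ker_comp, h.ker_eq_bot, Scheme.IdealSheafData.map_bot]
  · rintro ⟨f, hf, hker⟩
    let h : P ⟶ C := IsClosedImmersion.lift i f hker.ge
    have hhi : h ≫ i = f := IsClosedImmersion.lift_fac i f hker.ge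
    have hhp : h ≫ p = q := (Category.assoc _ _ _).symm.trans ((congrArg (· ≫ _) hhi).trans hf)
    haveI : IsProper (h ≫ p) := hhp ▸ inferInstanceAs (IsProper q)
    haveI : IsProper h := IsProper.of_comp h p
    haveI : QuasiCompact f := hhi ▸ inferInstanceAs (QuasiCompact (h ≫ i))
    haveI : IsDominant h := by
      refine (isDominant_iff h).2 fun c => ?_
      have h1 : i c ∈ closure (Set.range f) := by
        rw [← Scheme.Hom.support_ker f, hker, Scheme.Hom.support_ker i]
        exact subset_closure ⟨c, rfl⟩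
      rw [i.isClosedEmbedding.isEmbedding.isInducing.closure_eq_preimage_closure_image, ← Set.range_comp]
      show i c ∈ closure (Set.range fun y => i (h y))
      convert h1 using 3
      funext y
      rw [← Scheme.Hom.comp_apply, hhi]
    have hdom : h (genericPoint P) = genericPoint C := Groth.L18.apply_genericPoint_of_isDominant h
    obtain ⟨χ, hχ⟩ := Groth.L21.ProjLine.exists_ringEquiv_functionField p (by rw [hdim]; exact one_ne_zero)
      (Groth.L21.Curve.ffMap h hdom) (Groth.L21.ProjLine.ffMap_comp_cst h hdom p q hhp)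
    obtain ⟨V, hV, g, hg, hgp⟩ := spread_out_of_isGermInjective' q p (x := genericPoint P)
      (Spec.map (CommRingCat.ofHom (χ : C.functionField →+* P.functionField)) ≫ C.fromSpecStalk (genericPoint C))
      (Groth.L21.ProjLine.specMap_fromSpecStalk_comp p q _ hχ)
    exact exists_iso_open k p hdim q V hV g hgp χ hg

end Groth.Agent.S17085
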