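import Groth.Statements.S17086
import Groth.Agent.L07.BlowLib.DeformStrict
import Groth.Agent.L16.ProjSpace.Basic

set_option autoImplicit false
set_option linter.style.haveILetI false
universe u
open CategoryTheory CategoryTheory.Limits AlgebraicGeometry
open RatCurve

namespace Groth.Agent.S17086

/-- Let k be an algebraically closed field, X a closed subscheme of P^n_k, Z ⊆ X a closed subscheme and
σ : B → X a blow-up of X along Z (the inverse image ideal of Z is effective Cartier and σ is final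
with this property). Then every k-morphism f : P^1_k → X whose image is not contained in Z lifts
uniquely along σ: there is exactly one morphism g : P^1_k → B with g ≫ σ = f. Equivalently, over the
open locus of morphisms meeting X ∖ Z, the morphism Mor(P^1_k, B) → Mor(P^1_k, X) induced by σ is a
bijection on k-points. -/
theorem result
    {k : Type u} [Field k] [IsAlgClosed k] {n : ℕ} (X : Scheme.{u})
    (c : X ⟶ CohB1.ProjSpace n k) [IsClosedImmersion c]
    (Z : Scheme.{u}) (iZ : Z ⟶ X) [IsClosedImmersion iZ]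
    (B : Scheme.{u}) (σ : B ⟶ X) (hσ : BlowUp.IsBlowUp σ iZ.ker)
    (f : CohB1.ProjSpace 1 k ⟶ X)
    (hf : f ≫ c ≫ CohB1.ProjSpace.toSpec n k = CohB1.ProjSpace.toSpec 1 k)
    (hfZ : ¬ Set.range f ⊆ Set.range iZ) :
    ∃! g : CohB1.ProjSpace 1 k ⟶ B, g ≫ σ = f := by
  refine hσ.2 _ f fun p => ?_
  obtain ⟨m, hm⟩ := Groth.L16.ProjSpace.exists_mem_basicOpen_X 1 k p
  let χ := Groth.L16.ProjSpace.chart 1 k m
  obtain ⟨U, ψ, hU, hψ, -⟩ := Groth.L07.BlowLib.exists_ringEquiv χ
  have hpU : p ∈ U.1 := by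
    rw [hU]; rwa [Groth.L16.ProjSpace.opensRange_chart]
  haveI : IsIntegral (CohB1.ProjSpace 1 k) := Groth.L16.ProjSpace.isIntegral (n := 1) (R := k)
  let v : Groth.L16.ProjSpace.ChartVar 1 m := ⟨m + 1, by fin_cases m <;> decide⟩
  haveI : Unique (Groth.L16.ProjSpace.ChartVar 1 m) :=
    { default := v
      uniq := fun ⟨x, hx⟩ => Subtype.ext (by
        show x = m + 1
        revert hx; fin_cases m <;> fin_cases x <;> simp) }
  haveI : IsPrincipalIdealRing (MvPolynomial (Groth.L16.ProjSpace.ChartVar 1 m) k) :=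
    IsPrincipalIdealRing.of_surjective (MvPolynomial.uniqueAlgEquiv k (Groth.L16.ProjSpace.ChartVar 1 m)).symm.toRingEquiv.toRingHom
      (MvPolynomial.uniqueAlgEquiv k (Groth.L16.ProjSpace.ChartVar 1 m)).symm.surjective
  haveI : IsPrincipalIdealRing Γ(CohB1.ProjSpace 1 k, U.1) :=
    IsPrincipalIdealRing.of_surjective ψ.hom (ConcreteCategory.bijective_of_isIso ψ).2
  obtain ⟨a, ha⟩ := (IsPrincipalIdealRing.principal ((iZ.ker.comap f).ideal U)).principal
  haveI : Nonempty U.1 := ⟨⟨p, hpU⟩⟩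
  refine ⟨U, hpU, a, mem_nonZeroDivisors_iff_ne_zero.2 fun h0 => ?_, ha⟩
  subst h0
  rw [Ideal.submodule_span_eq, Ideal.span_singleton_zero] at ha
  apply hfZ
  have hsupp : (U.1 : Set (CohB1.ProjSpace 1 k)) ⊆ ((iZ.ker.comap f).support : Set _) := fun x hx => by
    refine ((Set.ext_iff.1 ((iZ.ker.comap f).coe_support_inter U) x).2 ?_).1
    rw [ha]
    exact ⟨(Scheme.mem_zeroLocus_iff _ _ x).2 fun a ha' => by
      rw [show a = 0 from ha', Scheme.basicOpen_zero]; simp, hx⟩
  have hall : ((iZ.ker.comap f).support : Set (CohB1.ProjSpace 1 k)) = Set.univ := by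
    refine Set.eq_univ_of_univ_subset ?_
    rw [← (U.1.2.dense ⟨p, hpU⟩).closure_eq]
    exact closure_minimal hsupp (iZ.ker.comap f).support.isClosed
  rintro _ ⟨x, rfl⟩
  have hx : x ∈ ((iZ.ker.comap f).support : Set (CohB1.ProjSpace 1 k)) := hall ▸ trivial
  rw [Scheme.IdealSheafData.support_comap] at hx
  have hx' : f x ∈ (iZ.ker.support : Set X) := hx
  rwa [Scheme.Hom.support_ker, iZ.isClosedEmbedding.isClosed_range.closure_eq] at hx'

end Groth.Agent.S17086
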