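import Groth.Prelude.Def_FGA
import Mathlib.AlgebraicGeometry.Morphisms.Separated
import Mathlib.AlgebraicGeometry.Morphisms.Immersion
import Mathlib.AlgebraicGeometry.Pullbacks
import Mathlib.CategoryTheory.Comma.Over.Basic
import Groth.Agent.L02.Hilb.FGAHilb

set_option autoImplicit false
set_option linter.style.haveILetI false
namespace MorSch
end MorSch
universe u
open CategoryTheory CategoryTheory.Limits AlgebraicGeometry
open MorSch

namespace Groth.Agent.S17088

/-- Let f : X → S be a separated morphism, ι : W → X an immersion and T an S-scheme. For every closed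
subscheme V of W ×_S T which is proper and flat over T — a T-point of the Hilbert functor of W over
S — the composite V → W ×_S T → X ×_S T is a closed immersion, and the map sending V to the ideal
sheaf of this composite, from T-points of the Hilbert functor of W to ideal sheaves on X ×_S T, is
injective: an immersion induces a monomorphism of Hilbert functors. -/
theorem result
    {W X S : Scheme.{u}} (f : X ⟶ S) [IsSeparated f] (ι : W ⟶ X) [IsImmersion ι]
    (T : Over S) :
    (∀ V : FGA.HilbSet (ι ≫ f) T,
      IsClosedImmersion (V.1.subschemeι ≫ pullback.map (ι ≫ f) T.hom f T.hom ι (𝟙 T.left) (𝟙 S)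
          (Category.comp_id _) ((Category.comp_id _).trans (Category.id_comp _).symm))) ∧
    Function.Injective (fun V : FGA.HilbSet (ι ≫ f) T =>
      (V.1.subschemeι ≫ pullback.map (ι ≫ f) T.hom f T.hom ι (𝟙 T.left) (𝟙 S)
          (Category.comp_id _) ((Category.comp_id _).trans (Category.id_comp _).symm)).ker) := by
  let m : PicF.XT (ι ≫ f) T ⟶ PicF.XT f T := Groth.L02.Hilb.FGAHilb.mT f ι T
  have hm : IsImmersion m := MorphismProperty.of_isPullback (Groth.L02.Hilb.FGAHilb.isPullback_mT f ι T) inferInstance
  have hcl : ∀ V : FGA.HilbSet (ι ≫ f) T, IsClosedImmersion (V.1.subschemeι ≫ m) := fun V => by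
    haveI := hm
    haveI : IsProper ((V.1.subschemeι ≫ m) ≫ PicF.XTproj f T) := by
      rw [Category.assoc, Groth.L02.Hilb.FGAHilb.mT_proj]; exact V.2.1
    exact Groth.L02.Hilb.FGAHilb.isClosedImmersion_of_isProper_of_mono _ (PicF.XTproj f T)
  refine ⟨hcl, fun V W h => Subtype.ext ?_⟩
  haveI := hm
  haveI := hcl V
  haveI := hcl W
  have h1 : V.1.map m = W.1.map m := h
  rw [← Groth.L02.Hilb.comap_map_eq_mono m V.1, h1, Groth.L02.Hilb.comap_map_eq_mono]

end Groth.Agent.S17088
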