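import Groth.Statements.S17091
import Groth.Agent.L14.Luna.Cor

set_option autoImplicit false
set_option backward.isDefEq.respectTransparency.types false
universe u
open CategoryTheory MonoidalCategory CartesianMonoidalCategory MonObj GrpObj AlgebraicGeometry
open AGF

namespace Groth.Agent.S17091

/-- Let k be an algebraically closed field, G an affine, smooth, connected k-group scheme, u : U ⟶ G its
unipotent radical (the largest normal closed subgroup scheme of G, smooth and quasi-compact over k,
whose geometric fibre is connected and contains no non-trivial subtorus), B a Borel subgroup of G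
and v : V ⟶ B the unipotent radical of B. Then U is contained in V: u factors through v. -/
theorem result (k : Type u) [Field k] [IsAlgClosed k]
    (G : Over (Spec (CommRingCat.of k))) [GrpObj G] [IsAffine G.left] [Smooth G.hom] [ConnectedSpace ↥G.left]
    (U : Over (Spec (CommRingCat.of k))) [GrpObj U] (u : U ⟶ G) (hU : Par.IsUnipotentRadical u)
    (B : Over (Spec (CommRingCat.of k))) [GrpObj B] (iB : B ⟶ G) (hB : Red.IsBorelOver k iB)
    (V : Over (Spec (CommRingCat.of k))) [GrpObj V] (v : V ⟶ B) (hV : Par.IsUnipotentRadical v) :
    ∃ f : U ⟶ V, f ≫ v ≫ iB = u := by
  exact Groth.L14.Luna.radical_le_borelRadical hU hB hV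

end Groth.Agent.S17091
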