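import Groth.Statements.S17092
import Groth.Agent.L14.Luna.Cor

set_option autoImplicit false
set_option backward.isDefEq.respectTransparency.types false
universe u
open CategoryTheory MonoidalCategory CartesianMonoidalCategory MonObj GrpObj AlgebraicGeometry
open AGF

namespace Groth.Agent.S17092

/-- Let k be an algebraically closed field, G an affine, smooth, connected k-group scheme, u : U ⟶ G its
unipotent radical (the largest normal closed subgroup scheme, smooth and quasi-compact over k, whose
geometric fibre is connected and contains no non-trivial subtorus), T a maximal torus of G and j : H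
⟶ G a closed subgroup scheme which is smooth and connected. If H lies in the unipotent radical of
every Borel subgroup of G containing T, then H lies in U: j factors through u. (Together with the
inclusion of U in the unipotent radical of every Borel subgroup of G, this says that the identity
component of the reduced intersection of the unipotent radicals of the Borel subgroups containing T
is U; it is trivial when G is reductive.) -/
theorem result (k : Type u) [Field k] [IsAlgClosed k]
    (G : Over (Spec (CommRingCat.of k))) [GrpObj G] [IsAffine G.left] [Smooth G.hom] [ConnectedSpace ↥G.left]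
    (U : Over (Spec (CommRingCat.of k))) [GrpObj U] (u : U ⟶ G) (hU : Par.IsUnipotentRadical u)
    (T : Over (Spec (CommRingCat.of k))) [GrpObj T] (iT : T ⟶ G) (hT : AGF.IsMaxTorus iT)
    (H : Over (Spec (CommRingCat.of k))) [GrpObj H] (j : H ⟶ G) [IsMonHom j] (hj : IsClosedImmersion j.left)
    [Smooth H.hom] [ConnectedSpace ↥H.left]
    (hH : ∀ (B : Over (Spec (CommRingCat.of k))) [GrpObj B] (iB : B ⟶ G) (t : T ⟶ B), Red.IsBorelOver k iB → t ≫ iB = iT →
      ∀ (V : Over (Spec (CommRingCat.of k))) [GrpObj V] (v : V ⟶ B), Par.IsUnipotentRadical v → ∃ f : H ⟶ V, f ≫ v ≫ iB = j) :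
    ∃ g : H ⟶ U, g ≫ u = j := by
  haveI := hj
  exact Groth.L14.Luna.le_radical hU hT j hH

end Groth.Agent.S17092
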