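import Groth.Statements.S17093
import Groth.Agent.L14.Luna.RadicalImage

set_option autoImplicit false
set_option backward.isDefEq.respectTransparency.types false
set_option linter.style.haveILetI false
universe u
open CategoryTheory MonoidalCategory CartesianMonoidalCategory MonObj GrpObj AlgebraicGeometry
open AGF

namespace Groth.Agent.S17093

/-- Let k be an algebraically closed field, G and G' affine, smooth, connected k-group schemes, π : G ⟶
G' a surjective homomorphism, u : U ⟶ G the unipotent radical of G and u' : U' ⟶ G' that of G'
(largest normal closed subgroup schemes, smooth and quasi-compact over k, with connected geometric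
fibre containing no non-trivial subtorus). Then π carries U onto U': u ≫ π factors through u' by a
morphism U ⟶ U' which is surjective. -/
theorem result (k : Type u) [Field k] [IsAlgClosed k]
    (G G' : Over (Spec (CommRingCat.of k))) [GrpObj G] [GrpObj G'] [IsAffine G.left] [Smooth G.hom] [ConnectedSpace ↥G.left]
    [IsAffine G'.left] [Smooth G'.hom] [ConnectedSpace ↥G'.left]
    (π : G ⟶ G') [IsMonHom π] (hπ : Surjective π.left)
    (U : Over (Spec (CommRingCat.of k))) [GrpObj U] (u : U ⟶ G) (hU : Par.IsUnipotentRadical u)
    (U' : Over (Spec (CommRingCat.of k))) [GrpObj U'] (u' : U' ⟶ G') (hU' : Par.IsUnipotentRadical u') :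
    ∃ f : U ⟶ U', f ≫ u' = u ≫ π ∧ Surjective f.left := by
  haveI := hπ
  exact Groth.L14.Luna.exists_surjective_radicals π hU hU'

end Groth.Agent.S17093
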