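import Groth.Statements.S17095
import Groth.Agent.L08.TorusWeights.CentreTori
-- import your own Groth.Agent.* helpers here

set_option autoImplicit false
set_option backward.isDefEq.respectTransparency.types false
set_option linter.style.haveILetI false
universe u
open CategoryTheory MonoidalCategory CartesianMonoidalCategory MonObj GrpObj AlgebraicGeometry
open AGF

namespace Groth.Agent.S17095

/-- Let k be a separably closed field, G a reductive k-group scheme and z : Z ⟶ G its centre. Then Z is
the scheme-theoretic intersection of the maximal k-tori of G: for every k-scheme X and every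
X-valued point g of G, g factors through Z if and only if g factors through the inclusion of every
maximal torus of G. -/
theorem result (k : Type u) [Field k] [IsSepClosed k]
    (G : Over (Spec (CommRingCat.of k))) [GrpObj G] (hG : Red.IsReductive G)
    (Z : Over (Spec (CommRingCat.of k))) [GrpObj Z] (z : Z ⟶ G) (hz : Red.IsCentre z)
    (X : Over (Spec (CommRingCat.of k))) (g : X ⟶ G) :
    (∃ c : X ⟶ Z, c ≫ z = g) ↔
      ∀ (T : Over (Spec (CommRingCat.of k))) [GrpObj T] (iT : T ⟶ G), Red.IsMaximalTorus iT → ∃ t : X ⟶ T, t ≫ iT = g := by
  haveI := hG.1; haveI := hG.2.1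
  haveI := hz.1
  constructor
  · rintro ⟨c, rfl⟩ T _ iT hT
    exact Groth.L08.TorusWeights.exists_fac_selfCentral
      (Groth.L08.TorusWeights.unipotentRankZero_of_isReductive hG) hT _
      fun X' x t => by rw [← Category.assoc]; exact Groth.L08.TorusWeights.commute_centre hz (x ≫ c) (t ≫ iT)
  · intro h
    refine (hz.2.2 X g).2 fun X' x y => ?_
    rw [Category.comp_id]
    exact Groth.L08.TorusWeights.commute_of_mem_all_tori hG g h x y

end Groth.Agent.S17095
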