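import Groth.Statements.S17096
import Groth.Agent.L08.TorusWeights.TorusPreimage
-- import your own Groth.Agent.* helpers here

set_option autoImplicit false
set_option backward.isDefEq.respectTransparency.types false
set_option linter.style.haveILetI false
universe u
open CategoryTheory MonoidalCategory CartesianMonoidalCategory MonObj GrpObj AlgebraicGeometry
open AGF

namespace Groth.Agent.S17096

/-- Let k be a field, H' and H reductive k-group schemes and f : H' ⟶ H a central isogeny: a surjective
homomorphism whose kernel K ⟶ H' has finitely many points, all central in H'. Let i : T ⟶ H be a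
maximal torus and i' : T' ⟶ H' its scheme-theoretic preimage (the square T' ⟶ H' ⟶ H, T' ⟶ T ⟶ H is
cartesian), with its induced subgroup structure. Then T' is a maximal torus of H'. -/
theorem result (k : Type u) [Field k]
    (H' H : Over (Spec (CommRingCat.of k))) [GrpObj H'] [GrpObj H] (hH' : Red.IsReductive H') (hH : Red.IsReductive H)
    (f : H' ⟶ H) [IsMonHom f] (hf : Surjective f.left)
    (K : Over (Spec (CommRingCat.of k))) [GrpObj K] (iK : K ⟶ H') (hK : AlgGrp.IsKernel iK f) (hKf : Finite ↥K.left)
    (hKc : ∀ (X : Over (Spec (CommRingCat.of k))) (x : X ⟶ K) (X' : Over (Spec (CommRingCat.of k))) (y : X' ⟶ X) (h : X' ⟶ H'),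
      (y ≫ x ≫ iK) * h = h * (y ≫ x ≫ iK))
    (T : Over (Spec (CommRingCat.of k))) [GrpObj T] (i : T ⟶ H) (hT : Red.IsMaximalTorus i)
    (T' : Over (Spec (CommRingCat.of k))) [GrpObj T'] (i' : T' ⟶ H') [IsMonHom i'] (p : T' ⟶ T) (hsq : IsPullback i' p f i) :
    Red.IsMaximalTorus i' := by
  haveI := hf
  exact Groth.L08.TorusWeights.isMaximalTorus_preimage hH' hH f
    (Groth.L08.TorusWeights.central_of_kernel f iK hK hKc) hT i' p hsq

end Groth.Agent.S17096
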