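import Groth.Statements.S17098
import Groth.Agent.L25.RedField.SemisimpleCrit
import Groth.Agent.L25.RedField.Derived

set_option autoImplicit false
universe u
open CategoryTheory MonoidalCategory CartesianMonoidalCategory MonObj GrpObj AlgebraicGeometry
open AGF

namespace Groth.Agent.S17098

/-- Let k be a field and G a reductive k-group scheme (affine, smooth, with connected reductive
geometric fibre). If G is perfect, i.e. every homomorphism from G to a commutative k-group scheme is
trivial, then G is semisimple. (The published equivalence of the three conditions 'the geometric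
radical is trivial', 'reductive with finite centre', 'reductive with perfect identity component' is
asserted for smooth affine groups that need not be connected; the orthogonal group O_2 in
characteristic different from 2 has finite centre and unipotent radical 1 while its identity
component SO_2 is a non-trivial torus, so the equivalence holds only for connected G, where the
other implications are the finite-centre criterion and the perfectness of semisimple groups.) -/
theorem result (k : Type u) [Field k]
    (G : Over (Spec (CommRingCat.of k))) [GrpObj G] (hG : Red.IsReductive G)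
    (hperf : ∀ (H : Over (Spec (CommRingCat.of k))) [GrpObj H] [IsCommMonObj H] (f : G ⟶ H) [IsMonHom f], f = toUnit G ≫ η[H]) :
    Red.IsSemisimple G := by
  classical
  haveI : IsAffineHom G.hom := hG.1
  haveI := hG.2.1
  haveI : IsAffine G.left := isAffine_of_isAffineHom G.hom
  obtain ⟨s₀⟩ : Nonempty ↥(Spec (CommRingCat.of k)) := inferInstance
  haveI : ConnectedSpace G.left := by
    haveI : ConnectedSpace ↥(Limits.pullback G.hom (Red.geomPt s₀)) := (hG.2.2 s₀).2.2.1
    haveI : Surjective (Limits.pullback.fst G.hom (Red.geomPt s₀)) :=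
      Groth.L08.Borel.surjective_fst_bc (Red.geomPt s₀) G
    exact (Limits.pullback.fst G.hom (Red.geomPt s₀)).surjective.connectedSpace
      (Limits.pullback.fst G.hom (Red.geomPt s₀)).continuous
  obtain ⟨D, gD, d, Q, gQ, q, hd, hdc, hq, hQa, hQl, hQc, hker, hgeo⟩ := Groth.L25.RedField.exists_derived G
  haveI := hq; haveI := hQc
  obtain ⟨z, hz, -⟩ := hker.exists_lift (𝟙 G) (toUnit G) (by rw [Category.id_comp, hperf Q q])
  have hsurj : ∀ g : G.left, g ∈ Set.range d.left := fun g => ⟨z.left g, by
    rw [← Scheme.Hom.comp_apply, ← Over.comp_left, hz]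
    rfl⟩
  obtain ⟨C, gC, c, hc, hcc, hC, hcen, huniv⟩ := Groth.L25.RedField.exists_central_torus hG
  haveI := hc; haveI := hcc
  haveI : Surjective (𝟙 G : G ⟶ G).left := inferInstanceAs (Surjective (𝟙 G.left))
  refine Groth.L25.RedField.isSemisimple_quotient hG (𝟙 G) c ?_ huniv
  rw [Category.comp_id]
  obtain ⟨hCs, -⟩ := Groth.L25.Locus.smooth_connected_torus hC
  haveI := hCs
  refine Groth.L25.RedField.eq_of_geomFibre s₀ c 1 ?_
  let K := AlgebraicClosure ((Spec (CommRingCat.of k)).residueField s₀)
  let cK := (Over.pullback (Red.geomPt s₀)).map c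
  haveI : IsMonHom cK := Groth.L25.MonoClosed.isMonHom_pullbackMap _ _
  haveI := Groth.L08.Borel.isClosedImmersion_map (Red.geomPt s₀) c
  haveI : Mono cK := Over.mono_of_mono_left cK
  haveI := Groth.L08.Borel.isAffine_bc (Red.geomPt s₀) G
  haveI := Groth.L08.Borel.smooth_bc (Red.geomPt s₀) G
  rw [show (Over.pullback (Red.geomPt s₀)).map (1 : C ⟶ G) = 1 from
    map_one ((Over.pullback (Red.geomPt s₀)).homMonoidHom)]
  by_cases htriv : Red.IsTrivialGrp (Red.geomFibre s₀ C)
  · rw [← Category.id_comp ((Over.pullback (Red.geomPt s₀)).map c),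
      Groth.L14.Luna.id_eq_one_of_isTrivialGrp htriv]
    exact MonObj.one_comp cK
  exfalso
  obtain ⟨χ, hχ, hne⟩ := Groth.L25.RedField.exists_char_ne_one (Groth.L25.Locus.isTorus_bc hC (Red.geomPt s₀)) htriv
    cK fun X t g => by
      exact (Groth.L25.RedField.comm_bc (Red.geomPt s₀) c hcen X t g)
  refine hne ?_
  haveI := hχ
  haveI : IsReduced (Red.geomFibre s₀ G).left := Groth.Agent.AV.isReduced_of_smooth_field (Red.geomFibre s₀ G).hom
  haveI := Groth.L08.AbelianGrp.isClosedImmersion_one (Red.Gm (Spec (CommRingCat.of K)))
  obtain ⟨f, hf⟩ := Groth.L14.Luna.exists_lift_of_points η[Red.Gm (Spec (CommRingCat.of K))] χ fun x =>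
    ⟨𝟙 _, by
      rw [hgeo s₀ _ χ (fun {Z} a b => (GmPts.equiv Z).injective (by rw [map_mul, map_mul, mul_comm])) x (hsurj _),
        Category.id_comp]
      rw [Hom.one_def, toUnit_unique (toUnit (𝟙_ (Over (Spec (CommRingCat.of K))))) (𝟙 _)]
      exact (Category.id_comp _).symm⟩
  rw [show χ = 1 from by rw [← hf, toUnit_unique f (toUnit _), Hom.one_def], MonObj.comp_one]

end Groth.Agent.S17098
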