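import Groth.Statements.S17102
import Groth.Agent.L09.LogNCD.Struct

set_option autoImplicit false
universe u
open CategoryTheory CategoryTheory.Limits AlgebraicGeometry
open LogNCD

set_option linter.style.haveILetI false

namespace Groth.Agent.S17102

open Groth.L09.LogNCD TopologicalSpace Opposite

/-- Let f : X → S be smooth, (Ω', d) a universal receptacle for the differentials of X over S, D = (D_1,
…, D_r) a relative strict normal crossing divisor and Ω¹(log D) the pinned sheaf of differentials
with logarithmic poles, with its inclusion ι of Ω' and residues res_j : Ω¹(log D) → O_{D_j}. Then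
the residue sequence 0 → Ω' → Ω¹(log D) → ⊕_{j} O_{D_j} → 0, whose second map is the map into the
product (a finite direct sum) with components res_j, is a short exact sequence of O_X-modules. The
argument h, the vanishing of the composite, holds since every res_j ∘ ι vanishes; it is an argument
only so that the short complex can be formed. (Stated relative to an arbitrary base; the published
statement is over an algebraically closed field.) -/
theorem result {X S : Scheme.{u}} (f : X ⟶ S) [Smooth f]
    {Ω' : X.Modules} (d : OmegaSh.Der f Ω') (hd : OmegaSh.IsUniversal d)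
    {r : ℕ} (D : Fin r → X.IdealSheafData) (hD : LogNCD.IsNCD D f) (Λ : LogNCD.LogMod d D)
    (h : Λ.ι ≫ Pi.lift Λ.res = 0) :
    (ShortComplex.mk Λ.ι (Pi.lift Λ.res) h).ShortExact := by
  classical
  have hπ : ∀ (U : X.Opens) (z : Γ(Λ.L, U)) (i : Fin r),
      (Pi.π _ i : (∏ᶜ fun i => ClSub.quotMod (D i)) ⟶ _).app U ((Pi.lift Λ.res).app U z) = (Λ.res i).app U z :=
    fun U z i => congr($(Pi.lift_π Λ.res i).app U z)
  haveI : Mono (ShortComplex.mk Λ.ι (Pi.lift Λ.res) h).f := Λ.mono
  haveI : Epi (ShortComplex.mk Λ.ι (Pi.lift Λ.res) h).g := by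
    refine epi_of_small hd hD _ fun U g hg s => ?_
    obtain ⟨dl, hdl⟩ := exists_dl Λ hg.ideal_eq
    choose a ha using fun i => exists_smul_oneOn (D i) U
      ((Pi.π _ i : (∏ᶜ fun i => ClSub.quotMod (D i)) ⟶ _).app U.1 s)
    refine ⟨Λ.ι.app U.1 0 + ∑ i, a i • dl i, ?_⟩
    haveI : PreservesFiniteLimits (Scheme.Modules.toPresheaf X ⋙ (evaluation (Opens X)ᵒᵖ Ab).obj (op U.1)) := by
      haveI : PreservesFiniteLimits (Scheme.Modules.toPresheaf X) := PreservesLimits.preservesFiniteLimits _
      haveI : PreservesFiniteLimits ((evaluation (Opens X)ᵒᵖ Ab.{u}).obj (op U.1)) :=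
        PreservesLimits.preservesFiniteLimits _
      exact comp_preservesFiniteLimits _ _
    refine Concrete.isLimit_ext _
      (isLimitOfPreserves (Scheme.Modules.toPresheaf X ⋙ (evaluation (Opens X)ᵒᵖ Ab).obj (op U.1))
        (productIsProduct (fun i => ClSub.quotMod (D i)))) _ _ fun ⟨i⟩ => ?_
    exact ((hπ U.1 _ i).trans (hdl.res_comb 0 a i)).trans (ha i)
  refine ShortComplex.ShortExact.mk' (exact_of_small hd hD _ fun U g hg z hz => ?_) inferInstance inferInstance
  obtain ⟨dl, hdl⟩ := exists_dl Λ hg.ideal_eq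
  obtain ⟨ω, a, rfl⟩ := hdl.exists_comb z
  obtain ⟨ω', hω'⟩ := hdl.eq_ι_of_mem hg.ideal_eq ω a fun i => by
    rw [← smul_oneOn_eq_zero_iff, ← hdl.res_comb ω a i, ← hπ]
    exact (congrArg ((Pi.π _ i : (∏ᶜ fun i => ClSub.quotMod (D i)) ⟶ _).app U.1) hz).trans (map_zero _)
  exact ⟨ω', hω'.symm⟩

end Groth.Agent.S17102
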