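import Groth.Statements.S17119
import Groth.Agent.L09.LogNCD.Residue

set_option autoImplicit false
universe u
open CategoryTheory CategoryTheory.Limits AlgebraicGeometry
open LogNCD

set_option linter.style.haveILetI false
set_option backward.isDefEq.respectTransparency false
set_option backward.isDefEq.respectTransparency.types false

namespace Groth.Agent.S17119

open CategoryTheory.Limits TopologicalSpace Opposite

/-- Let f : X → S be smooth, (Ω', d) a universal receptacle for the differentials of X over S, D = (D_1,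
…, D_r) a relative strict normal crossing divisor with pinned log module Ω¹(log D) and residues
res_j : Ω¹(log D) → O_{D_j}, E a finite locally free O_X-module and ∇ : E → E ⊗ Ω¹(log D) a
logarithmic connection along D (a map of abelian sheaves with the Leibniz rule). Then for every
component D_i the residue of ∇ along D_i, the composite (1 ⊗ res_i) ∘ ∇ : E → E ⊗ O_{D_i}, is
O_X-linear, i.e. it is induced by an O_X-module morphism ρ, and ρ factors through the restriction
map E ≅ E ⊗ O_X → E ⊗ O_{D_i}: there is an O_X-linear endomorphism R of E ⊗ O_{D_i} whose composite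
with the restriction is ρ (the residue as an endomorphism of E restricted to D_i). (Stated relative
to an arbitrary base; the published statement is over an algebraically closed field, with the module
as the right tensor factor.) -/
theorem result {X S : Scheme.{u}} (f : X ⟶ S) [Smooth f]
    {Ω' : X.Modules} (d : OmegaSh.Der f Ω') (hd : OmegaSh.IsUniversal d)
    {r : ℕ} (D : Fin r → X.IdealSheafData) (hD : LogNCD.IsNCD D f) (Λ : LogNCD.LogMod d D)
    (E : X.Modules) (hE : FlatMod.IsFinLocFree E)
    (nabla : Coh.toAb E ⟶ Coh.toAb (CohB1.tensorMod E Λ.L)) (hc : ConnSh.IsConn (LogNCD.der Λ) E nabla)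
    (i : Fin r) :
    ∃ ρ : E ⟶ CohB1.tensorMod E (ClSub.quotMod (D i)), LogNCD.IsResidue Λ E nabla i ρ ∧
      ∃ R : CohB1.tensorMod E (ClSub.quotMod (D i)) ⟶ CohB1.tensorMod E (ClSub.quotMod (D i)),
        (SecTwist.unitorR E).inv ≫ KoszTw.tensorMap (𝟙 E) (ClSub.toSubscheme (D i)) ≫ R = ρ := by
  classical
  obtain ⟨ρ, hρ⟩ := Groth.L09.LogNCD.exists_linear_comp hc (Λ.res i)
    (fun U t => congr($(Λ.res_ι i).app U (d.app U t)))
  refine ⟨ρ, hρ, ?_⟩
  haveI := Groth.L18.AffineCrit.epi_toSubscheme (D i)
  haveI : PreservesFiniteColimits (Groth.L00.Tensor.tensorLeftF E) :=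
    PreservesColimitsOfSize.preservesFiniteColimits _
  haveI : (Groth.L00.Tensor.tensorLeftF E).PreservesZeroMorphisms := inferInstance
  let T₀ : ShortComplex X.Modules :=
    ShortComplex.mk (ClSub.idealModι (D i)) (ClSub.toSubscheme (D i)) (kernel.condition _)
  have hT₀ : T₀.Exact := ShortComplex.exact_of_f_is_kernel _ (kernelIsKernel _)
  have hc₀ := CokernelCofork.mapIsColimit _ hT₀.gIsCokernel (Groth.L00.Tensor.tensorLeftF E)
  have hψ : Groth.L00.Tensor.tensorMap (𝟙 E) (ClSub.idealModι (D i)) ≫ (SecTwist.unitorR E).hom ≫ ρ = 0 := by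
    refine Groth.L12.DefoSh.tensor_ext fun U e g => ?_
    rw [← Groth.L12.DefoSh.tensorMap_eq]
    show ρ.app U ((SecTwist.unitorR E).hom.app U ((KoszTw.tensorMap (𝟙 E) (ClSub.idealModι (D i))).app U
      (SecTwist.tmul E (ClSub.idealMod (D i)) U e g))) = 0
    rw [KoszTw.tensorMap_tmul]
    refine (congrArg (ρ.app U) (SecTwist.unitorR_tmul E U _ _)).trans ?_
    refine (Scheme.Modules.Hom.app_smul ρ (show Γ(X, U) from OmegaSh.idealSect (D i) U g) e).trans ?_
    refine Groth.L09.LogNCD.smul_eq_zero_of_toSubscheme E (D i) _ ?_ _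
    exact congr(($(kernel.condition (ClSub.toSubscheme (D i)))).app U g)
  let R := hc₀.desc (CokernelCofork.ofπ ((SecTwist.unitorR E).hom ≫ ρ) hψ)
  have hR : Groth.L00.Tensor.tensorMap (𝟙 E) (ClSub.toSubscheme (D i)) ≫ R = (SecTwist.unitorR E).hom ≫ ρ :=
    hc₀.fac _ WalkingParallelPair.one
  exact ⟨R, by rw [Groth.L12.DefoSh.tensorMap_eq, hR, Iso.inv_hom_id_assoc]⟩

end Groth.Agent.S17119
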