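import Groth.Statements.S1712
import Groth.Agent.L29.Dual.NormLoc

set_option autoImplicit false
set_option backward.isDefEq.respectTransparency false
universe u
open CategoryTheory
attribute [local instance] HasDerivedCategory.standard
open Dual

namespace Groth.Agent.S1712
open scoped TensorProduct
open Groth.L29 Groth.L29.HomD

/-- Let A be a Noetherian local ring with a normalized dualizing complex ω, M a finite A-module and E^j
the A-module of maps M → ω[-j] in D(A). A prime p is in the support of one of E^0, …, E^i if and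
only if the depth of M_p over A_p plus the dimension of A/p is at most i. -/
theorem result (A : Type u) [CommRing A] [IsLocalRing A] [IsNoetherianRing A] (ω : Dual.D A) (hω : Dual.IsDualizing A ω) (hn : Dual.IsNormalized A ω) (M : Type u) [AddCommGroup M] [Module A M] [Module.Finite A M] (i : ℕ) (p : PrimeSpectrum A) : (∃ j : ℕ, j ≤ i ∧ p ∈ Module.support A (Dual.inD A M ⟶ ω⟦(-(j : ℤ))⟧)) ↔ ((LocCoh.depth (Localization.AtPrime p.asIdeal) (LocalizedModule p.asIdeal.primeCompl M) : ℕ∞) : WithBot ℕ∞) + ringKrullDim (A ⧸ p.asIdeal) ≤ (i : WithBot ℕ∞) := by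
  haveI : Module.Flat A (Localization.AtPrime p.asIdeal) := IsLocalization.flat _ p.asIdeal.primeCompl
  let B := Localization.AtPrime p.asIdeal
  let N := LocalizedModule p.asIdeal.primeCompl M
  obtain ⟨e, he⟩ : ∃ e : ℕ, ringKrullDim (A ⧸ p.asIdeal) = e := by
    have hlt : ringKrullDim (A ⧸ p.asIdeal) < ⊤ := lt_of_le_of_lt
      (ringKrullDim_quotient_le p.asIdeal) ringKrullDim_lt_top
    haveI : Nontrivial (A ⧸ p.asIdeal) := Ideal.Quotient.nontrivial_iff.2 p.isPrime.ne_top
    have hne : ringKrullDim (A ⧸ p.asIdeal) ≠ ⊥ := ne_bot_of_le_ne_bot (by simp) ringKrullDim_nonneg_of_nontrivial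
    revert hne hlt
    generalize ringKrullDim (A ⧸ p.asIdeal) = s
    intro hlt hne
    obtain ⟨s, rfl⟩ := WithBot.ne_bot_iff_exists.1 hne
    obtain ⟨k, rfl⟩ := ENat.ne_top_iff_exists.1 (show s ≠ ⊤ by rintro rfl; exact lt_irrefl _ hlt)
    exact ⟨k, rfl⟩
  let φ : (B ⊗[A] M) ≃ₗ[B] N := (LocalizedModule.equivTensorProduct p.asIdeal.primeCompl M).symm
  haveI : Module.Finite B N := Module.Finite.equiv φ
  have hB := FlatBC.isDualizing_L_localization (B := B) p.asIdeal.primeCompl hω
  haveI := hB.isNoetherianRing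
  have hB' := isDualizing_shift hB (-(e : ℤ))
  have hnB := isNormalized_localization hω hn p e he
  have hmem : ∀ j : ℕ, p ∈ Module.support A (Dual.inD A M ⟶ ω⟦-(j : ℤ)⟧) ↔
      Nontrivial (Dual.inD B N ⟶ (((FlatBC.L A B).obj ω)⟦-(e : ℤ)⟧)⟦(e : ℤ) - j⟧) := fun j =>
    (Loci.mem_support_hom_iff p hω M N φ _).trans
      (homShiftEquiv _ _ (-(e : ℤ)) ((e : ℤ) - j) (-(j : ℤ)) (by ring)).toEquiv.nontrivial_congr.symm
  simp only [hmem, he]
  rcases subsingleton_or_nontrivial N with hN | hN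
  · have hd : LocCoh.depth B N = ⊤ := by
      unfold LocCoh.depth LocCoh.idealDepth
      exact if_pos (Subsingleton.elim _ _)
    refine iff_of_false (fun ⟨j, _, hj⟩ => ?_) ?_
    · haveI : Subsingleton (Dual.inD B N ⟶ (((FlatBC.L A B).obj ω)⟦-(e : ℤ)⟧)⟦(e : ℤ) - j⟧) :=
        HomD.subsingleton_of_module _ _
      exact not_subsingleton_iff_nontrivial.2 hj this
    · rw [hd]
      intro h
      rw [show ((⊤ : ℕ∞) : WithBot ℕ∞) + (e : WithBot ℕ∞) = (((⊤ : ℕ∞) + e : ℕ∞) : WithBot ℕ∞) from rfl,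
        top_add, show (i : WithBot ℕ∞) = ((i : ℕ∞) : WithBot ℕ∞) from rfl, WithBot.coe_le_coe] at h
      exact absurd h (not_le.2 (ENat.natCast_lt_top i))
  obtain ⟨m, hm, h1, h2⟩ := depth_spec hB' hnB N
  rw [hm]
  constructor
  · rintro ⟨j, hj, hnt⟩
    by_contra hlt
    have hpos : j < e + m := by
      by_contra h'
      exact hlt (by exact_mod_cast (show m + e ≤ i by lia))
    have hhigh : ¬ j < e := fun h' => by
      haveI := subsingleton_of_pos _ (good_of_isDualizing hB') hnB N ((e : ℤ) - j) (by lia)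
      exact not_subsingleton_iff_nontrivial.2 hnt this
    obtain ⟨δ, rfl⟩ : ∃ δ, j = e + δ := ⟨j - e, by lia⟩
    haveI := h1 δ (by lia)
    exact not_subsingleton_iff_nontrivial.2 hnt (by
      rw [show (e : ℤ) - (e + δ : ℕ) = -(δ : ℤ) by push_cast; ring]; infer_instance)
  · intro h
    refine ⟨e + m, ?_, ?_⟩
    · have h' : m + e ≤ i := by exact_mod_cast h
      lia
    · rw [show (e : ℤ) - (e + m : ℕ) = -(m : ℤ) by push_cast; ring]; exact h2

end Groth.Agent.S1712
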