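import Groth.Statements.S17127
import Groth.Agent.L09.LogNCD.Res

set_option autoImplicit false
universe u
open CategoryTheory AlgebraicGeometry
open LogNCD

namespace Groth.Agent.S17127

open Groth.L18.Frame (rs ro rs_rs ro_ro rs_smul)
open Groth.L09.LogNCD TopologicalSpace Opposite

/-- Let f : X → S be smooth, (Ω', d) a universal receptacle for the differentials of X over S and D =
(D_1, …, D_r) a relative strict normal crossing divisor (étale-locally the components through a
point are distinct coordinate hyperplanes). Then the sheaf Ω¹(log D) of differentials with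
logarithmic poles along D, together with the inclusion of Ω' and the residue maps onto the O_{D_j},
exists in the pinned sense: there is an O_X-module L with a monomorphism ι : Ω' → L and maps res_j :
L → O_{D_j} vanishing on ι such that on every affine open U where each D_j has an equation g_j, L(U)
has no (∏ g_j)-torsion and is generated by ι(Ω'(U)) and elements dl_j with g_j · dl_j = ι(dg_j),
res_j(dl_j) = 1 and res_i(dl_j) = 0 for i ≠ j. (Stated relative to an arbitrary base; the lectures
construct Ω¹(log D) inside the sheaf of forms with poles along D over an algebraically closed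
field.) -/
theorem result {X S : Scheme.{u}} (f : X ⟶ S) [Smooth f]
    {Ω' : X.Modules} (d : OmegaSh.Der f Ω') (hd : OmegaSh.IsUniversal d)
    {r : ℕ} (D : Fin r → X.IdealSheafData) (hD : LogNCD.IsNCD D f) :
    Nonempty (LogNCD.LogMod d D) := by
  have := Groth.L09.LogNCD.isQCoh_of_smooth hd
  refine ⟨{ L := logMod hd hD, ι := incl hd hD, res := resHom hd hD, mono := ⟨fun {Z} a b h => ?_⟩,
            res_ι := incl_resHom hd hD, rule := fun U g hg => ⟨fun z hz => ?_, ?_⟩ }⟩
  · ext V s
    refine Groth.L19.OmegaSh.eq_of_basis (G := Ω') (fun U => ∃ g, Eqs d D U g)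
      (fun x O hx => exists_small hd hD x O hx) _ _ fun U p hU => sub_eq_zero.1 (rs_pre_eq_zero p.choose_spec ?_)
    have h1 : rs Ω' (pre_le (D := D)) (a.app V s) = rs Ω' (pre_le (D := D)) (b.app V s) :=
      congrArg (val hd hD) (congr($(h).app V s))
    refine (map_sub _ _ _).trans (sub_eq_zero.2 ?_)
    show rs Ω' (pre_le (D := D)) (rs Ω' hU (a.app V s)) = rs Ω' (pre_le (D := D)) (rs Ω' hU (b.app V s))
    rw [rs_rs, rs_rs, ← rs_rs Ω' pre_le (pre_mono hU), h1, rs_rs]
  · refine val_injective hd hD ?_
    have h0 : val hd hD ((∏ i, g i) • (show Γ(logMod hd hD, U.1) from z)) = val hd hD 0 := congrArg _ hz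
    rw [val_smul] at h0
    refine (isUnit_ro_prod hg).smul_left_cancel.1 (h0.trans ?_)
    show (0 : Γ(Ω', pre D U.1)) = ro (pre_le (D := D) (V := U.1)) (∏ i, g i) • (0 : Γ(Ω', pre D U.1))
    exact (smul_zero _).symm
  · refine ⟨dlog hd hD U g hg, fun i => ?_, ?_, fun i => ?_, fun i j hij => ?_⟩
    · refine val_injective hd hD ?_
      refine (val_smul hd hD (g i) (dlog hd hD U g hg i)).trans ?_
      exact smul_dlogVal U g hg i
    · refine eq_top_iff.2 fun z _ => ?_
      obtain ⟨ω, a, hz⟩ := exists_comb hd hD hg (show Γ(logMod hd hD, U.1) from z)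
      refine hz.symm ▸ ?_
      exact add_mem (Submodule.subset_span (Or.inl ⟨ω, rfl⟩))
        (Submodule.sum_mem _ fun i _ => Submodule.smul_mem _ _ (Submodule.subset_span (Or.inr ⟨i, rfl⟩)))
    · refine (resHom_dlog hd hD U g hg i i).trans ?_
      rw [Pi.single_eq_same, one_smul]
    · refine (resHom_dlog hd hD U g hg j i).trans ?_
      rw [Pi.single_eq_of_ne hij.symm, zero_smul]
      rfl

end Groth.Agent.S17127
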