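import Groth.Statements.S17128
import Groth.Agent.L09.LogNCD.SubLog

set_option autoImplicit false
universe u
open CategoryTheory CategoryTheory.Limits AlgebraicGeometry
open LogNCD

set_option linter.style.haveILetI false

namespace Groth.Agent.S17128

open Groth.L18.Frame (rs)
open Groth.L09.LogNCD TopologicalSpace

/-- Let f : X → S be smooth, (Ω', d) a universal receptacle for the differentials of X over S, D = (D_0,
…, D_r) a relative strict normal crossing divisor and i an index; let Ω¹(log D) be the pinned log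
module of D and Ω¹(log(D − D_i)) the pinned log module of the family with the component D_i removed.
Then the inclusion Ω¹(log(D − D_i)) ⊆ Ω¹(log D) exists as an O_X-linear map κ compatible with the
inclusions of Ω', and for every such κ the sequence 0 → Ω¹(log(D − D_i)) → Ω¹(log D) → O_{D_i} → 0,
whose second map is the residue along D_i (the map β_i in degree one), is short exact. The argument
h, the vanishing of the composite, holds for every such κ and is an argument only so that the short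
complex can be formed. (Stated relative to an arbitrary base; the published statement, over an
algebraically closed field, covers all degrees a with the residue β_i into the logarithmic
(a−1)-forms on D_i.) -/
theorem result {X S : Scheme.{u}} (f : X ⟶ S) [Smooth f]
    {Ω' : X.Modules} (d : OmegaSh.Der f Ω') (hd : OmegaSh.IsUniversal d)
    {r : ℕ} (D : Fin (r + 1) → X.IdealSheafData) (hD : LogNCD.IsNCD D f) (i : Fin (r + 1))
    (Λ : LogNCD.LogMod d D) (Λ' : LogNCD.LogMod d (D ∘ i.succAbove)) :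
    (∃ κ : Λ'.L ⟶ Λ.L, LogNCD.IsSubLog Λ' Λ κ) ∧
      ∀ (κ : Λ'.L ⟶ Λ.L) (hκ : LogNCD.IsSubLog Λ' Λ κ) (h : κ ≫ Λ.res i = 0),
        (ShortComplex.mk κ (Λ.res i) h).ShortExact := by
  classical
  refine ⟨⟨kappa Λ Λ' hd hD, isSubLog_kappa hd hD⟩, fun κ hκ h => ?_⟩
  have hι : ∀ (U : X.Opens) (ω : Γ(Ω', U)), κ.app U (Λ'.ι.app U ω) = Λ.ι.app U ω := fun U ω =>
    congr($(show Λ'.ι ≫ κ = Λ.ι from hκ).app U ω)
  haveI := Λ.mono
  haveI : Mono (ShortComplex.mk κ (Λ.res i) h).f := ⟨fun {Z} a b hab => Scheme.Modules.hom_ext _ _ fun V => by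
    ext z
    refine Groth.L19.OmegaSh.eq_of_basis (G := Λ'.L) (fun U => ∃ g, Eqs d D U g)
      (fun x O hx => exists_small hd hD x O hx) _ _ fun U p hU => sub_eq_zero.1 ?_
    obtain ⟨g, hg⟩ := p
    let y : Γ(Λ'.L, U.1) := rs Λ'.L hU (a.app V z) - rs Λ'.L hU (b.app V z)
    have hy : κ.app U.1 y = 0 := by
      refine (map_sub _ _ _).trans (sub_eq_zero.2 ?_)
      rw [app_rs, app_rs]
      exact congrArg (rs Λ.L hU) (congr($(hab).app V z))
    obtain ⟨ω, hω⟩ := exists_form Λ' hg y
    have h1 : Λ.ι.app U.1 ω = 0 := by rw [← hι, hω, Scheme.Modules.Hom.app_smul, hy, smul_zero]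
    have h2 : ω = 0 := injective_app Λ.ι U.1 (h1.trans (map_zero _).symm)
    rw [h2, map_zero] at hω
    exact torsion_free Λ' (g := fun j => g (i.succAbove j)) (sub_ideal hg) hω.symm⟩
  haveI : Epi (ShortComplex.mk κ (Λ.res i) h).g := by
    refine epi_of_small hd hD _ fun U g hg s => ?_
    obtain ⟨dl, hdl⟩ := exists_dl Λ hg.ideal_eq
    obtain ⟨c, hc⟩ := exists_smul_oneOn (D i) U s
    exact ⟨Λ.ι.app U.1 0 + ∑ j, (Pi.single i c : Fin (r + 1) → Γ(X, U.1)) j • dl j,
      (hdl.res_comb 0 _ i).trans (by rw [Pi.single_eq_same]; exact hc)⟩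
  refine ShortComplex.ShortExact.mk' (exact_of_small hd hD _ fun U g hg z hz => ?_) inferInstance inferInstance
  obtain ⟨dl, hdl⟩ := exists_dl Λ hg.ideal_eq
  obtain ⟨dl', hdl'⟩ := exists_dl Λ' (g := fun j => g (i.succAbove j)) (sub_ideal hg)
  obtain ⟨ω, a, rfl⟩ := hdl.exists_comb z
  have hκd : ∀ j, κ.app U.1 (dl' j) = dl (i.succAbove j) := fun j => by
    refine sub_eq_zero.1 (torsion_free Λ hg.ideal_eq ?_)
    rw [← Finset.mul_prod_erase _ g (Finset.mem_univ (i.succAbove j)), mul_comm, mul_smul, smul_sub,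
      ← Scheme.Modules.Hom.app_smul, hdl'.smul_eq, hι, hdl.smul_eq, sub_self, smul_zero]
  obtain ⟨c, hc⟩ := Ideal.mem_span_singleton'.1 ((hg.ideal_eq i) ▸
    (smul_oneOn_eq_zero_iff (D i) U (a i)).1 ((hdl.res_comb ω a i).symm.trans hz))
  refine ⟨Λ'.ι.app U.1 (ω + c • d.app U.1 (g i)) + ∑ j, a (i.succAbove j) • dl' j, ?_⟩
  refine (map_add _ _ _).trans ?_
  rw [map_sum, hι, map_add, Fin.sum_univ_succAbove (fun j => a j • dl j) i, ← add_assoc]
  refine congrArg₂ (· + ·) ?_ (Finset.sum_congr rfl fun j _ => ?_)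
  · rw [Scheme.Modules.Hom.app_smul, ← hdl.smul_eq, smul_smul, hc]
  · rw [Scheme.Modules.Hom.app_smul, hκd]

end Groth.Agent.S17128
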