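import Groth.Statements.S17139
import Groth.Agent.L13.Isoc.Final

set_option autoImplicit false
universe u v
open Isoc

namespace Groth.Agent.S17139

/-- Let k be a perfect field of characteristic p, a ∈ ℤ, and (N, F) a non-zero σ^a-F-isocrystal over k
of height h, with b an L-basis of N indexed by Fin h and d the p-adic order of the determinant
coefficient of F in the basis b. If M is a W(k)-lattice in N and r ∈ ℤ, s > 0 satisfy F^s(M) = p^r ·
M, then the first Newton slope λ₁(N, F) equals r/s, and r · h = s · d. (The published statement adds
that F^h(M) = p^d · M for the same lattice M; that clause is not established by the published proof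
and fails when gcd(r, s) ≠ 1 — for a = 0, N = L², M = W², F with matrix rows (p, 1), (0, p) and p
odd one has F^p(M) = p^p · M, h = d = 2, but F²(M) ≠ p² · M — so it is omitted here; the converse
direction is a separate statement.) -/
theorem result (p : ℕ) [Fact p.Prime] (k : Type u) [Field k] [CharP k p] [PerfectRing k p] (a : ℤ)
    (N : Type v) [AddCommGroup N] [Module (WittVector p k) N] [Module (FractionRing (WittVector p k)) N]
    [IsScalarTower (WittVector p k) (FractionRing (WittVector p k)) N]
    [Nontrivial N] (F : N →ₛₗ[Isoc.frob p k a] N) (hF : Isoc.IsIsoc F)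
    (h : ℕ) (b : Module.Basis (Fin h) (FractionRing (WittVector p k)) N)
    (d : ℤ) (hd : Isoc.IsOrdP (Isoc.detCoeff b F) d)
    (M : Submodule (WittVector p k) N) (hM : M.IsLattice (FractionRing (WittVector p k)))
    (r : ℤ) (s : ℕ) (hs : 0 < s) (hFM : Isoc.latImg F s M = Isoc.pPow r M) :
    Isoc.IsFirstSlope F ((r : ℝ) / s) ∧ r * h = s * d := by
  refine ⟨Groth.L13.Isoc.isFirstSlope_of_latImg_eq F hF.bijective hM hs hFM, ?_⟩
  exact Groth.L13.Isoc.mul_eq_of_latImg_eq F b hd hM hFM

end Groth.Agent.S17139
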