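import Groth.Statements.S1714
import Groth.Agent.L04.LC.CompletionDim

set_option autoImplicit false
universe u
open CategoryTheory
attribute [local instance] HasDerivedCategory.standard
open LocCoh

namespace Groth.Agent.S1714

/-- Let A be a Noetherian ring with a dualizing complex, I an ideal, M a finite A-module, A' and M' the
I-adic completions. Let p' ⊆ q' be primes of A' with I A' ⊆ q', lying over the primes p ⊆ q of A.
Then the depth of M'_{p'} over A'_{p'} is at least the depth of M_p over A_p, and depth(M'_{p'})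
plus the dimension of the interval of primes [p', q'] equals depth(M_p) plus the dimension of [p,
q]. -/
theorem result (A : Type u) [CommRing A] [IsNoetherianRing A] (hA : ∃ ω : Dual.D A, Dual.IsDualizing A ω) (I : Ideal A) (M : Type u) [AddCommGroup M] [Module A M] [Module.Finite A M] (p' q' : PrimeSpectrum (AdicCompletion I A)) (hpq : p' ≤ q') (hq : Ideal.map (algebraMap A (AdicCompletion I A)) I ≤ q'.asIdeal) : LocCoh.depth (Localization.AtPrime (p'.asIdeal.comap (algebraMap A (AdicCompletion I A)))) (LocalizedModule (p'.asIdeal.comap (algebraMap A (AdicCompletion I A))).primeCompl M) ≤ LocCoh.depth (Localization.AtPrime p'.asIdeal) (LocalizedModule p'.asIdeal.primeCompl (AdicCompletion I M)) ∧ ((LocCoh.depth (Localization.AtPrime p'.asIdeal) (LocalizedModule p'.asIdeal.primeCompl (AdicCompletion I M)) : ℕ∞) : WithBot ℕ∞) + Order.krullDim (Set.Icc p' q') = ((LocCoh.depth (Localization.AtPrime (p'.asIdeal.comap (algebraMap A (AdicCompletion I A)))) (LocalizedModule (p'.asIdeal.comap (algebraMap A (AdicCompletion I A))).primeCompl M) :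 ℕ∞) : WithBot ℕ∞) + Order.krullDim (Set.Icc ((PrimeSpectrum.comap (algebraMap A (AdicCompletion I A))) p') ((PrimeSpectrum.comap (algebraMap A (AdicCompletion I A))) q')) := by

    obtain ⟨ω, hω⟩ := hA
    haveI := Groth.L01.AdicNoeth.isNoetherianRing_adicCompletion I (IsNoetherian.noetherian I)
    have hωB := Groth.L04.CplDim.isDualizing_completion I hω
    obtain ⟨f, hf, hf'⟩ := Groth.L04.CplDim.fibDepth_eq hω hωB p'
    have hq' : q'.asIdeal ∈ ((q'.asIdeal.comap (algebraMap A (AdicCompletion I A))).map
        (algebraMap A (AdicCompletion I A))).minimalPrimes := by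
      rw [Groth.L04.CplDim.map_comap_eq I q'.asIdeal hq, Ideal.minimalPrimes_eq_subsingleton_self]
      exact rfl
    have hd := Groth.L04.CplDim.dimFun_eq_of_minimal hω hωB q' hq'
    have hdep := Groth.L04.CplDim.depth_completion I M p'
    rw [hf] at hdep
    have hpq' : Groth.L04.CplDim.img (A := A) p' ≤ Groth.L04.CplDim.img (A := A) q' := Ideal.comap_mono hpq
    have k2 := Groth.L04.AnnihDual.krullDim_Icc hω _ _ hpq'
    have h1 := (Groth.L29.HomD.dimFun_strictAnti hωB).antitone hpq
    have h2 := (Groth.L29.HomD.dimFun_strictAnti hω).antitone hpq'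
    refine ⟨hdep.ge.trans' le_self_add, ?_⟩
    rw [hdep, Groth.L04.AnnihDual.krullDim_Icc hωB p' q' hpq]
    rw [WithBot.coe_add, add_assoc]
    refine congrArg (_ + ·) (Eq.trans ?_ k2.symm)
    rw [show ((f : ℕ∞) : WithBot ℕ∞) = ((f : ℕ) : WithBot ℕ∞) from rfl, ← Nat.cast_add]
    exact congrArg _ (by lia)

end Groth.Agent.S1714
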