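import Groth.Statements.S17154
import Groth.Agent.L13.Isoc.DM

set_option autoImplicit false
universe u v
open Isoc

namespace Groth.Agent.S17154

/-- Let k be an algebraically closed field of characteristic p, a ∈ ℤ with a ≠ 0, and (N, F) a
σ^a-F-isocrystal over k (N finite-dimensional over L = Frac W(k), F bijective and σ^a-semilinear).
Then every F-stable L-subspace P of N admits an F-stable complement: there is an L-subspace Q with
F(Q) ⊆ Q, P ⊓ Q = 0 and P + Q = N. (Both a ≠ 0 and k algebraically closed are needed.) -/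
theorem result (p : ℕ) [Fact p.Prime] (k : Type u) [Field k] [CharP k p] [PerfectRing k p] [IsAlgClosed k]
    (a : ℤ) (ha : a ≠ 0)
    (N : Type v) [AddCommGroup N] [Module (WittVector p k) N] [Module (FractionRing (WittVector p k)) N]
    [IsScalarTower (WittVector p k) (FractionRing (WittVector p k)) N]
    (F : N →ₛₗ[Isoc.frob p k a] N) (hF : Isoc.IsIsoc F)
    (P : Submodule (FractionRing (WittVector p k)) N) (hP : ∀ x ∈ P, F x ∈ P) :
    ∃ Q : Submodule (FractionRing (WittVector p k)) N, (∀ x ∈ Q, F x ∈ Q) ∧ IsCompl P Q := by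
  obtain ⟨t, d, h, φ, -, -, hint, hc⟩ := Groth.L13.Isoc.exists_compl_sum F hF ha P hP
  exact ⟨LinearMap.range φ, fun x hx => by
    obtain ⟨c, rfl⟩ := hx
    exact ⟨_, (hint c).symm⟩, hc⟩

end Groth.Agent.S17154
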