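import Groth.Statements.S17155
import Groth.Agent.L13.Isoc.DM

set_option autoImplicit false
universe u v
open Isoc

namespace Groth.Agent.S17155

/-- Let k be an algebraically closed field of characteristic p, a ∈ ℤ with a ≠ 0, and (N, F) a
σ^a-F-isocrystal over k. Then (N, F) is isomorphic to a finite direct sum of standard isocrystals
N_λ (λ = d/h in lowest terms, h > 0; N_λ is L^h with F e_j = e_{j+1} for j + 1 < h and F e_{h−1} =
p^d · e_0): there are t ∈ ℕ, integers d_i and natural numbers h_i > 0 with gcd(d_i, h_i) = 1 (i <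
t), and an L-linear isomorphism e from N to the product of the spaces L^{h_i} such that e ∘ F is the
product of the standard Frobenii composed with e. Moreover, for every μ ∈ ℚ, the sum of the h_i over
those i with d_i/h_i = μ equals the multiplicity m_μ of μ as a Newton slope of (N, F), i.e. the
L-dimension of the slope-μ part of N; so N_λ occurs m_λ/h(λ) times. (Both a ≠ 0 and k algebraically
closed are needed.) -/
theorem result (p : ℕ) [Fact p.Prime] (k : Type u) [Field k] [CharP k p] [PerfectRing k p] [IsAlgClosed k]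
    (a : ℤ) (ha : a ≠ 0)
    (N : Type v) [AddCommGroup N] [Module (WittVector p k) N] [Module (FractionRing (WittVector p k)) N]
    [IsScalarTower (WittVector p k) (FractionRing (WittVector p k)) N]
    (F : N →ₛₗ[Isoc.frob p k a] N) (hF : Isoc.IsIsoc F) :
    ∃ (t : ℕ) (d : Fin t → ℤ) (h : Fin t → ℕ)
      (e : N ≃ₗ[(FractionRing (WittVector p k))] ((i : Fin t) → (Fin (h i) → (FractionRing (WittVector p k))))),
      (∀ i, 0 < h i ∧ Int.gcd (d i) (h i) = 1) ∧
      (∀ (x : N) (i : Fin t), e (F x) i = Isoc.stdIsoc (Isoc.frob p k a) (d i) (h i) (e x i)) ∧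
      ∀ μ : ℚ, Isoc.newtonMult F μ = ∑ i : Fin t, (if ((d i : ℚ) / (h i : ℚ)) = μ then h i else 0) := by
  open Groth.L13.Isoc in
  haveI := hF.finite
  obtain ⟨t, d, h, φ, hgood, hinj, hint, hc⟩ := exists_compl_sum F hF ha ⊥ (fun x hx => by
    rw [(Submodule.mem_bot _).1 hx, map_zero]; exact zero_mem _)
  have htop : LinearMap.range φ = ⊤ := eq_top_of_bot_isCompl hc
  let e := (LinearEquiv.ofBijective φ ⟨hinj, LinearMap.range_eq_top.1 htop⟩).symm
  have hephi : ∀ c, e (φ c) = c := fun c => (LinearEquiv.ofBijective φ _).symm_apply_apply c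
  have he : ∀ (x : N) (i : Fin t), e (F x) i = Isoc.stdIsoc (Isoc.frob p k a) (d i) (h i) (e x i) := by
    intro x i
    obtain ⟨c, rfl⟩ := (LinearMap.range_eq_top.1 htop) x
    rw [hint, hephi, hephi]
  refine ⟨t, d, h, e, hgood, he, fun μ => ?_⟩
  obtain ⟨hst, hon, hmax⟩ := slopePart_spec F μ
  let I := {i : Fin t // ((d i : ℚ) / (h i : ℚ)) = μ}
  let ψ : Isoc.slopePart F μ →ₗ[FractionRing (WittVector p k)]
      ((i : I) → (Fin (h i.1) → FractionRing (WittVector p k))) :=
    LinearMap.pi fun i => (LinearMap.proj i.1) ∘ₗ e.toLinearMap ∘ₗ (Isoc.slopePart F μ).subtype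
  have hiso : ∀ i, OnSub (Isoc.stdIsoc (Isoc.frob p k a) (d i) (h i)) ⊤ ((d i : ℚ) / h i) := fun i =>
    (isIsoclinic_iff_onSub_top _).1
      ⟨stdLattice (h i), isLattice_stdLattice _, d i, h i, (hgood i).1, rfl, latImg_stdLattice _ _ _⟩
  have hzero : ∀ y ∈ Isoc.slopePart F μ, ∀ i, ((d i : ℚ) / (h i : ℚ)) ≠ μ → e y i = 0 := by
    intro y hy i hi
    have hm := OnSub.map F (F₂ := Isoc.stdIsoc (Isoc.frob p k a) (d i) (h i))
      ((LinearMap.proj i) ∘ₗ e.toLinearMap) (fun x => he x i) hon
    have hb := OnSub.eq_bot_of_ne _ (stdIsoc_bijective _ _ _).1 hm (hiso i) le_top (Ne.symm hi)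
    exact (Submodule.eq_bot_iff _).1 hb _ ⟨y, hy, rfl⟩
  have hbij : Function.Bijective ψ := by
    refine ⟨fun x y hxy => Subtype.ext (e.injective (funext fun i => ?_)), fun c => ?_⟩
    · by_cases hi : ((d i : ℚ) / (h i : ℚ)) = μ
      · exact congrFun hxy ⟨i, hi⟩
      · rw [hzero x.1 x.2 i hi, hzero y.1 y.2 i hi]
    · classical
      have hmem : ∀ (i : I), ∀ v, φ (Pi.single i.1 v) ∈ Isoc.slopePart F μ := by
        intro i v
        have hcomm : ∀ w, (φ ∘ₗ LinearMap.single (FractionRing (WittVector p k)) (fun j => Fin (h j) → FractionRing (WittVector p k)) i.1)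
            (Isoc.stdIsoc (Isoc.frob p k a) (d i.1) (h i.1) w) =
            F ((φ ∘ₗ LinearMap.single (FractionRing (WittVector p k)) (fun j => Fin (h j) → FractionRing (WittVector p k)) i.1) w) := by
          intro w
          simp only [LinearMap.comp_apply, LinearMap.single_apply]
          rw [hint]
          congr 1
          exact (funext fun j => (Pi.apply_single (fun j => ⇑(Isoc.stdIsoc (Isoc.frob p k a) (d j) (h j)))
            (fun j => map_zero _) i.1 w j)).symm
        have hm := OnSub.map _ (F₂ := F) _ hcomm (hiso i.1)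
        rw [i.2] at hm
        refine hmax _ ?_ hm ⟨v, Submodule.mem_top, rfl⟩
        rintro _ ⟨w, -, rfl⟩
        exact ⟨_, Submodule.mem_top, hcomm w⟩
      refine ⟨⟨∑ i : I, φ (Pi.single i.1 (c i)), Submodule.sum_mem _ fun i _ => hmem i _⟩, funext fun i => ?_⟩
      show e (∑ j : I, φ (Pi.single j.1 (c j))) i.1 = c i
      rw [map_sum, Finset.sum_apply, Finset.sum_eq_single i]
      · rw [hephi, Pi.single_eq_same]
      · intro j _ hj
        have : i.1 ≠ j.1 := fun h0 => hj (Subtype.ext h0).symm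
        rw [hephi, Pi.single_eq_of_ne this]
      · intro h0; exact absurd (Finset.mem_univ i) h0
  classical
  rw [Isoc.newtonMult, (LinearEquiv.ofBijective ψ hbij).finrank_eq, Module.finrank_pi_fintype]
  simp only [Module.finrank_fin_fun]
  rw [← Finset.sum_filter, Finset.sum_subtype _ (fun i => Finset.mem_filter_univ (p := fun i => ((d i : ℚ) / (h i : ℚ)) = μ) i) h]

end Groth.Agent.S17155
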