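import Groth.Statements.S17157
import Groth.Agent.L13.Isoc.Final

set_option autoImplicit false
universe u
open Isoc

namespace Groth.Agent.S17157

/-- Let k be a finite field of characteristic p, W = W(k), L its fraction field with Frobenius σ, and
let U be the σ-semilinear endomorphism of L² = (Fin 2 → L) determined by U(e₀) = e₀ and U(e₁) = e₀ +
e₁ on the standard basis. Then (L², U) is an F-isocrystal in which the sub-isocrystal L · e₀ admits
no U-stable complementary L-subspace; in particular the category of F-isocrystals over a finite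
field is not semisimple. (Over an algebraically closed field a complement exists.) -/
theorem result
    (p : ℕ) [Fact p.Prime] (k : Type u) [Field k] [CharP k p] [PerfectRing k p] [Finite k]
    (U : (Fin 2 → (FractionRing (WittVector p k))) →ₛₗ[Isoc.frob p k 1] (Fin 2 → (FractionRing (WittVector p k))))
    (hU0 : U (Pi.single 0 1) = Pi.single 0 1)
    (hU1 : U (Pi.single 1 1) = Pi.single 0 1 + Pi.single 1 1)
    (Q : Submodule (FractionRing (WittVector p k)) (Fin 2 → (FractionRing (WittVector p k)))) (hQ : ∀ x ∈ Q, U x ∈ Q) :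
    ¬ IsCompl (Submodule.span (FractionRing (WittVector p k)) {(Pi.single 0 1 : Fin 2 → (FractionRing (WittVector p k)))}) Q := by
  open Groth.L13.Isoc in
  intro hc
  obtain ⟨u, hu, q, hq, huq⟩ := Submodule.mem_sup.1 (hc.sup_eq_top.symm ▸ Submodule.mem_top (x := Pi.single 1 1))
  obtain ⟨c, rfl⟩ := Submodule.mem_span_singleton.1 hu
  set e0 : Fin 2 → FractionRing (WittVector p k) := Pi.single 0 1 with he0
  set e1 : Fin 2 → FractionRing (WittVector p k) := Pi.single 1 1 with he1
  have hq' : q = e1 - c • e0 := by rw [← huq]; abel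
  have hd : (c + 1 - (Isoc.frob p k 1) c) • e0 ∈ Q := by
    have : (c + 1 - (Isoc.frob p k 1) c) • e0 = U q - q := by
      rw [hq', map_sub, map_smulₛₗ, hU0, hU1, sub_smul, add_smul, one_smul]
      abel
    rw [this]
    exact Q.sub_mem (hQ q hq) hq
  have hzero : c + 1 - (Isoc.frob p k 1) c = 0 := by
    have := (Submodule.disjoint_def.1 hc.disjoint) _
      (Submodule.smul_mem _ _ (Submodule.mem_span_singleton_self e0)) hd
    simpa [e0] using congrFun this 0
  have hstep : (Isoc.frob p k 1) c = c + 1 := by linear_combination -hzero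
  have hn : ∀ n : ℕ, ((Isoc.frob p k 1) ^ n) c = c + n := by
    intro n
    induction n with
    | zero => simp
    | succ n ih => rw [pow_succ', RingHom.coe_mul, Function.comp_apply, ih, map_add, map_natCast, hstep]; push_cast; ring
  have := Fintype.ofFinite k
  obtain ⟨m, hm, hcard⟩ := FiniteField.card k p
  have hfr : ∀ (n : ℕ) (w : WittVector p k), ∃ w' : WittVector p k,
      ((Isoc.frob p k 1) ^ n) (iW w) = iW w' ∧ ∀ i, w'.coeff i = w.coeff i ^ p ^ n := by
    intro n w
    induction n with
    | zero => exact ⟨w, rfl, by simp⟩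
    | succ n ih =>
      obtain ⟨w', h1, h2⟩ := ih
      refine ⟨WittVector.frobenius w', ?_, fun i => by rw [WittVector.coeff_frobenius_charP, h2, ← pow_mul, pow_succ]⟩
      rw [pow_succ', RingHom.coe_mul, Function.comp_apply, h1, iW, Isoc.frob_algebraMap, zpow_one]
      rfl
  have hfix : ∀ w : WittVector p k, ((Isoc.frob p k 1) ^ (m : ℕ)) (iW w) = iW w := fun w => by
    obtain ⟨w', h1, h2⟩ := hfr m w
    rw [h1]
    congr 1
    ext i
    rw [h2, ← hcard, FiniteField.pow_card]
  have hid : ((Isoc.frob p k 1) ^ (m : ℕ)) c = c := by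
    obtain ⟨x, y, -, rfl⟩ := IsFractionRing.div_surjective (A := WittVector p k) c
    rw [map_div₀, hfix, hfix]
  have h0 : ((m : ℕ) : FractionRing (WittVector p k)) = 0 := by linear_combination hid - hn m
  obtain ⟨a, m', hm', hmm⟩ := Nat.exists_eq_pow_mul_and_not_dvd (n := (m : ℕ)) m.ne_zero p (Fact.out : p.Prime).ne_one
  rw [hmm, Nat.cast_mul, Nat.cast_pow, mul_eq_zero] at h0
  rcases h0 with h0 | h0
  · exact pne (pow_eq_zero_iff'.1 h0).1
  · apply hm'
    have h1 : ((m' : ℕ) : WittVector p k) = 0 := iW_injective (p := p) (k := k) (by rw [map_natCast, map_zero, h0])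
    have h2 := congrArg (WittVector.constantCoeff) h1
    rw [map_natCast, map_zero] at h2
    exact (CharP.cast_eq_zero_iff k p m').1 h2

end Groth.Agent.S17157
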