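import Groth.Statements.S17171
import Mathlib.Data.Finsupp.Weight
import Mathlib.RingTheory.MvPowerSeries.Basic
import Mathlib.RingTheory.MvPolynomial.Homogeneous
import Mathlib.Order.Fin.Basic

set_option autoImplicit false
open QSymFn

namespace Groth.Agent.S17171

/-- The ring QSym of quasisymmetric functions over ℤ, with its restriction maps to the polynomial rings
in finitely many ordered variables, is the limit of the diagram S ↦ ℤ[α_s : s ∈ S] over finite
ordered sets S and order-preserving injections (an injection φ : S → T acting by α_t ↦ α_s when t =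
φ s and α_t ↦ 0 otherwise), the limit being taken in graded rings. Stated here on degree-d
components, with the variables indexed by ℕ in place of the positive integers and the finite ordered
sets taken to be the Fin n: (a) if F is a formal power series over ℤ in variables indexed by ℕ which
is quasisymmetric (for strictly increasing i, j : Fin ℓ → ℕ and positive exponents a, the
coefficients of ∏ x_{i t}^{a t} and ∏ x_{j t}^{a t} agree) and all of whose monomials have degree d,
then its restrictions to the initial segments Fin n ⊂ ℕ are compatible with every order embedding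
Fin n ↪o Fin m; (b) every family of degree-d homogeneous polynomials f n ∈ ℤ[x_s : s ∈ Fin n],
compatible with all order embeddings Fin n ↪o Fin m in this sense, is the family of restrictions of
exactly one such quasisymmetric F of degree d. -/
theorem result (d : ℕ) :
    (∀ F : MvPowerSeries ℕ ℤ,
      (∀ (ℓ : ℕ) (i j : Fin ℓ → ℕ) (a : Fin ℓ → ℕ), StrictMono i → StrictMono j → (∀ t, 0 < a t) →
        MvPowerSeries.coeff (∑ t : Fin ℓ, Finsupp.single (i t) (a t)) F =
          MvPowerSeries.coeff (∑ t : Fin ℓ, Finsupp.single (j t) (a t)) F) →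
      (∀ e : ℕ →₀ ℕ, MvPowerSeries.coeff e F ≠ 0 → e.degree = d) →
      ∀ (n m : ℕ) (φ : Fin n ↪o Fin m) (e : Fin n →₀ ℕ),
        MvPowerSeries.coeff (Finsupp.mapDomain Fin.val e) F =
          MvPowerSeries.coeff (Finsupp.mapDomain Fin.val (Finsupp.mapDomain φ e)) F) ∧
    (∀ f : (n : ℕ) → MvPolynomial (Fin n) ℤ,
      (∀ n, (f n).IsHomogeneous d) →
      (∀ (n m : ℕ) (φ : Fin n ↪o Fin m) (e : Fin n →₀ ℕ),
        MvPolynomial.coeff e (f n) = MvPolynomial.coeff (Finsupp.mapDomain φ e) (f m)) →
      ∃! F : MvPowerSeries ℕ ℤ,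
        (∀ (ℓ : ℕ) (i j : Fin ℓ → ℕ) (a : Fin ℓ → ℕ), StrictMono i → StrictMono j → (∀ t, 0 < a t) →
          MvPowerSeries.coeff (∑ t : Fin ℓ, Finsupp.single (i t) (a t)) F =
            MvPowerSeries.coeff (∑ t : Fin ℓ, Finsupp.single (j t) (a t)) F) ∧
        (∀ e : ℕ →₀ ℕ, MvPowerSeries.coeff e F ≠ 0 → e.degree = d) ∧
        (∀ (n : ℕ) (e : Fin n →₀ ℕ),
          MvPowerSeries.coeff (Finsupp.mapDomain Fin.val e) F = MvPolynomial.coeff e (f n))) := by
  have hsum : ∀ {ℓ : ℕ} (g : Fin ℓ →₀ ℕ) (i : Fin ℓ → ℕ),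
      Finsupp.mapDomain i g = ∑ t, Finsupp.single (i t) (g t) := by
    intro ℓ g i
    conv_lhs => rw [← Finsupp.univ_sum_single g]
    rw [Finsupp.mapDomain_finset_sum]
    simp [Finsupp.mapDomain_single]
  refine ⟨fun F hF _ n m φ e => ?_, fun f hhom hcomp => ?_⟩
  · let s := e.support
    let emb := s.orderEmbOfFin rfl
    let a : Fin s.card → ℕ := fun t => e (emb t)
    have he : e = Finsupp.mapDomain emb (Finsupp.equivFunOnFinite.symm a) := by
      ext v
      by_cases hv : v ∈ s
      · obtain ⟨t, rfl⟩ : v ∈ Set.range emb := by rw [Finset.range_orderEmbOfFin]; exact hv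
        rw [Finsupp.mapDomain_apply emb.injective]
        rfl
      · rw [Finsupp.mapDomain_of_notMem_range]
        · exact Finsupp.notMem_support_iff.1 hv
        · rwa [Finset.range_orderEmbOfFin]
    have hpos : ∀ t, 0 < a t := fun t =>
      Nat.pos_of_ne_zero (Finsupp.mem_support_iff.1 (Finset.orderEmbOfFin_mem s rfl t))
    rw [he, ← Finsupp.mapDomain_comp, ← Finsupp.mapDomain_comp, ← Finsupp.mapDomain_comp, hsum, hsum]
    exact hF _ (Fin.val ∘ emb) ((Fin.val ∘ φ) ∘ emb) a (fun _ _ h => emb.strictMono h)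
      (fun _ _ h => φ.strictMono (emb.strictMono h)) hpos
  · let N : (ℕ →₀ ℕ) → ℕ := fun e => e.support.sup id + 1
    have hN : ∀ e : ℕ →₀ ℕ, Finsupp.mapDomain (Fin.val : Fin (N e) → ℕ)
        (e.comapDomain Fin.val Fin.val_injective.injOn) = e := by
      intro e
      refine Finsupp.mapDomain_comapDomain _ Fin.val_injective e fun v hv => ?_
      exact ⟨⟨v, Nat.lt_succ_of_le (Finset.le_sup (f := id) hv)⟩, rfl⟩
    let F : MvPowerSeries ℕ ℤ := fun e => MvPolynomial.coeff (e.comapDomain Fin.val Fin.val_injective.injOn) (f (N e))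
    have hFv : ∀ (n : ℕ) (e : Fin n →₀ ℕ),
        MvPowerSeries.coeff (Finsupp.mapDomain Fin.val e) F = MvPolynomial.coeff e (f n) := by
      intro n e
      let e' := Finsupp.mapDomain Fin.val e
      show MvPolynomial.coeff (e'.comapDomain Fin.val Fin.val_injective.injOn) (f (N e')) = _
      rw [hcomp (N e') (max n (N e')) (Fin.castLEOrderEmb (le_max_right _ _)),
        hcomp n (max n (N e')) (Fin.castLEOrderEmb (le_max_left _ _))]
      congr 1
      refine Finsupp.mapDomain_injective Fin.val_injective ?_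
      rw [← Finsupp.mapDomain_comp, ← Finsupp.mapDomain_comp]
      exact hN e'
    refine ⟨F, ⟨fun ℓ i j a hi hj _ => ?_, fun e he => ?_, hFv⟩, fun G hG => ?_⟩
    · have key : ∀ i : Fin ℓ → ℕ, StrictMono i →
          MvPowerSeries.coeff (∑ t : Fin ℓ, Finsupp.single (i t) (a t)) F =
            MvPolynomial.coeff (Finsupp.equivFunOnFinite.symm a) (f ℓ) := by
        intro i hi
        let M := Finset.univ.sup i + 1
        let φ : Fin ℓ ↪o Fin M := OrderEmbedding.ofStrictMono
          (fun t => ⟨i t, Nat.lt_succ_of_le (Finset.le_sup (Finset.mem_univ t))⟩) (fun _ _ h => hi h)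
        rw [hcomp ℓ M φ, ← hFv M, ← Finsupp.mapDomain_comp, hsum]
        rfl
      rw [key i hi, key j hj]
    · have h := (hhom (N e)).degree_eq_sum_deg_support (MvPolynomial.mem_support_iff.2 he)
      rw [← hN e, Finsupp.degree_mapDomain, Finsupp.degree_apply]
      exact h.symm
    · ext e
      rw [← hN e, hG.2.2, hFv]

end Groth.Agent.S17171
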