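import Groth.Statements.S17173
import Groth.Agent.L15.BI
import Mathlib.Tactic.Ring
import Mathlib.Tactic.LinearCombination
import Mathlib.Tactic.FieldSimp
import Mathlib.Algebra.BigOperators.Ring.Finset

set_option autoImplicit false
universe u
open LabGraph

namespace Groth.Agent.S17173

open LabGraph in
/-- Let Γ be the weighted dual graph of a quasistable curve X of genus g ≥ 3 over an algebraically
closed field (vertices the irreducible components C_v with weight the geometric genus, one edge per
node, a loop for a node on a single component): Γ is connected, every weight-zero vertex without
loop is joined to the other vertices by at least two edges, and no edge joins two exceptional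
vertices (weight zero, no loop, exactly two edges to other vertices). Let d be a multidegree of any
total degree D (the combinatorial section fixes an arbitrary integer d; g ≥ 3 is the paper's
standing assumption). Then the degree class of d contains a representative satisfying the Basic
Inequality: there is a multidegree d', differing from d by the twist of some integer vertex
labelling (the multidegree of a divisor Σ φ_v C_v on the total space of a regular smoothing), such
that for every set Y of vertices 2·|(2g - 2)·d'_Y - D·canDeg Y| ≤ cut Y·(2g - 2), where canDeg Y = 2
g_Y - 2 + cut Y is the degree of the dualizing sheaf on the subcurve Y and cut Y the number of nodes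
where Y meets the rest of X. -/
theorem result {V E : Type u} [Fintype V] [Fintype E]
    [DecidableEq V] [DecidableEq E] (ends : E → V × V) (w : V → ℕ) (hX : IsQuasistableGraph ends w)
    (hg : 3 ≤ genus ends w) (d : V → ℤ) :
    ∃ d' : V → ℤ, TwistEquiv ends d' d ∧ SatisfiesBI ends w d' := by
  exact Groth.L15.BI.exists_bi hX.1.1 (by rw [Groth.L15.BI.canDeg_univ]; omega)

end Groth.Agent.S17173
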