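import Groth.Statements.S17176
import Mathlib.Tactic.Ring
import Mathlib.Tactic.LinearCombination
import Mathlib.Tactic.Linarith
import Mathlib.RingTheory.Int.Basic

set_option autoImplicit false
open Curves

namespace Groth.Agent.S17176

/-- Fix integers g ≥ 3 and d. For a complete subcurve Y of arithmetic genus g_Y of a nodal curve of
genus g, meeting the rest of the curve in k points, the lower extreme of the Basic Inequality for
line bundles of degree d is m = d(2g_Y - 2 + k)/(2g - 2) - k/2, which is an integer exactly when 2(g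
- 1) divides d(2g_Y - 2 + k) - k(g - 1). Then gcd(d - g + 1, 2g - 2) = 1 if and only if m is not an
integer for all integers g_Y, k with 0 < g_Y < g - 1, k ≥ 1 and k + 2g_Y - 2 < 2g - 2. (The row
makes explicit the bound 2g_Y - 2 + k < 2g - 2, which is automatic for subcurves of stable curves
and is satisfied by every subcurve to which the source applies the lemma; the source leaves the
ambient curve's class implicit.) -/
theorem result (g d : ℤ) (hg : 3 ≤ g) :
    Int.gcd (d - g + 1) (2 * g - 2) = 1 ↔
      ∀ gY k : ℤ, 0 < gY → gY < g - 1 → 1 ≤ k → k + 2 * gY - 2 < 2 * g - 2 →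
        ¬ (2 * (g - 1) ∣ d * (2 * gY - 2 + k) - k * (g - 1)) := by
  have h2g : 2 * g - 2 = 2 * (g - 1) := by ring
  constructor
  · intro hgcd gY k hY1 hY2 hk hlt hdvd
    have h2 : 2 * (g - 1) ∣ (2 * gY - 2 + k) * (d - g + 1) := by
      have := dvd_sub hdvd (dvd_mul_left (2 * (g - 1)) (0 : ℤ))
      have h3 : (2 * gY - 2 + k) * (d - g + 1) =
          (d * (2 * gY - 2 + k) - k * (g - 1)) - 2 * (g - 1) * (gY - 1) := by ring
      rw [h3]
      exact dvd_sub hdvd (dvd_mul_right _ _)
    rw [← h2g] at h2
    have h4 := Int.dvd_of_dvd_mul_left_of_gcd_one h2 (by rw [Int.gcd_comm]; exact hgcd)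
    have := Int.le_of_dvd (by omega) h4
    omega
  · intro h
    by_contra hne
    set t : ℕ := Int.gcd (d - g + 1) (2 * g - 2) with ht
    obtain ⟨q, hq⟩ : (t : ℤ) ∣ d - g + 1 := Int.gcd_dvd_left _ _
    obtain ⟨m, hm⟩ : (t : ℤ) ∣ 2 * g - 2 := Int.gcd_dvd_right _ _
    have ht0 : t ≠ 0 := by
      intro h0; rw [h0] at hm; simp only [Nat.cast_zero, zero_mul] at hm; omega
    have ht2 : (2 : ℤ) ≤ t := by omega
    have hm1 : 0 < m := by
      by_contra hh
      have : (t : ℤ) * m ≤ 0 := mul_nonpos_of_nonneg_of_nonpos (by omega) (by omega)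
      omega
    have hm2 : 2 * m ≤ 2 * g - 2 := by
      rw [hm]; exact mul_le_mul_of_nonneg_right ht2 (by omega)
    refine h 1 m one_pos (by omega) (by omega) (by omega) ⟨q, ?_⟩
    rw [← h2g, hm]
    have : d - g + 1 = (t : ℤ) * q := hq
    linear_combination m * this

end Groth.Agent.S17176
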