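import Groth.Statements.S17177
import Groth.Agent.L21.NormalSheaf.Main

set_option autoImplicit false
set_option backward.isDefEq.respectTransparency false
set_option linter.style.haveILetI false
universe u
open CategoryTheory CategoryTheory.Limits AlgebraicGeometry
attribute [local instance] HasDerivedCategory.standard
open Curves

namespace Groth.Agent.S17177

/-- Let k be an algebraically closed field, r ≥ 1, and X ⊆ P^r_k a closed subscheme, cut out by a
quasi-coherent ideal sheaf I, which is a connected nodal curve: reduced, connected, of dimension
one, with at-worst-nodal singularities over k. Suppose H^1(X, O_X(1)) = 0, O_X(1) being the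
pull-back of O(1). Let N = Hom_{O_X}(I/I², O_X) be the normal sheaf (the sheaf Hom, assumed to exist
as the right adjoint of tensoring with the conormal sheaf I/I²). Then H^1(X, N) = 0. (In the paper X
is a curve of degree d ≥ 20(g - 1) and genus g ≥ 3 whose Hilbert point is semistable, for which
H^1(X, O_X(1)) = 0 holds, and the vanishing is used to conclude that the Hilbert scheme is
nonsingular of dimension r(r + 2) + 4g - 3 at the point of X; that deduction, through the
identification of the tangent space with H^0(X, N) and Riemann–Roch, is not part of this row.) -/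
theorem result
    (k : Type u) [Field k] [IsAlgClosed k] (r : ℕ) (hr : 1 ≤ r)
    (I₀ : (CohB1.ProjSpace r k).IdealSheafData) [I₀.subscheme.Over (Spec (CommRingCat.of k))]
    (hX : I₀.subscheme ↘ Spec (CommRingCat.of k) = I₀.subschemeι ≫ (CohB1.ProjSpace r k ↘ Spec (CommRingCat.of k)))
    [IsReduced I₀.subscheme] [ConnectedSpace I₀.subscheme] (hdim : topologicalKrullDim I₀.subscheme = 1)
    (hnod : Curv2.AtWorstNodal k I₀.subscheme)
    (h1 : Subsingleton (Coh.HH I₀.subscheme
      ((Scheme.Modules.pullback I₀.subschemeι).obj (Twist.twistProjSpace r k 1)) 1))
    [DCoh.HasSheafHom (Omega.conormal I₀.subschemeι)] :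
    Subsingleton (Coh.HH I₀.subscheme
      ((DCoh.sheafHom (Omega.conormal I₀.subschemeι)).obj (Coh.structureModule I₀.subscheme)) 1) := by
  exact Groth.L21.NormalSheaf.subsingleton_h1_normal r I₀.subschemeι hdim.le h1

end Groth.Agent.S17177
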