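import Groth.Statements.S17178
import Groth.Agent.L15.PureKill.Basic
-- import your own Groth.Agent.* helpers here

set_option autoImplicit false
universe u
open CategoryTheory CategoryTheory.Limits AlgebraicGeometry
open Curves

namespace Groth.Agent.S17178

/-- Let k be an algebraically closed field and X a nodal curve over k: proper over k, reduced,
connected, every irreducible component of dimension one, with at-worst-nodal singularities. Let J be
a coherent O_X-module which is pure of dimension one (every nonzero coherent submodule has
one-dimensional support), for instance a pure quotient with one-dimensional support of a rank-one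
torsion-free sheaf. Let U be an open subset and f a function on U vanishing at every point of U
lying in the support Y of J. Then f acts as zero on J over U: for every x ∈ U the germ of f at x
annihilates the stalk J_x. In other words the ideal sheaf of the reduced subcurve Y annihilates J,
so J is an O_Y-module; this is the first assertion in the proof that every such quotient q : I → J
of a rank-one torsion-free I factors through the torsion-free restriction of I to Y, the remaining
assertion (that the induced map is an isomorphism) not being part of this row. -/
theorem result
    (k : Type u) [Field k] [IsAlgClosed k] (X : Scheme.{u}) [X.Over (Spec (CommRingCat.of k))]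
    [IsProper (X ↘ Spec (CommRingCat.of k))] [IsReduced X] [ConnectedSpace X]
    (hequi : ∀ Z ∈ irreducibleComponents (X : Type u), topologicalKrullDim Z = 1)
    (hX : Curv2.AtWorstNodal k X)
    (J : X.Modules) (hJc : Coh.IsCoh J) (hJp : ShStab.IsPure X J 1)
    (U : X.Opens) (f : X.presheaf.obj (Opposite.op U))
    (hf : ∀ x : X, x ∈ U → x ∈ CohB1.support J → x ∉ X.basicOpen f)
    (x : X) (hx : x ∈ U) (t : J.presheaf.stalk x) :
    (X.presheaf.germ U x hx f) • t = 0 := by
  haveI : IsLocallyNoetherian X := LocallyOfFiniteType.isLocallyNoetherian (X ↘ Spec (CommRingCat.of k))
  haveI : CompactSpace X := QuasiCompact.compactSpace_of_compactSpace (X ↘ Spec (CommRingCat.of k))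
  exact Groth.L15.PureKill.germ_smul_eq_zero hequi hJc hJp U f hf x hx t

end Groth.Agent.S17178
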