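import Groth.Statements.S17180
import Groth.Agent.L03.SurfNum.Fibre
import Groth.Agent.L03.SurfNum.Decomp
import Groth.Agent.L03.SurfAmple.Exists
import Groth.Agent.L03.SurfAmple.Product
-- import your own Groth.Agent.* helpers here

set_option autoImplicit false
universe u
open CategoryTheory CategoryTheory.Limits AlgebraicGeometry
open Surf

namespace Groth.Agent.S17180

open Groth.L22.Inter Groth.L22.Nef Groth.L22.Big Groth.L03.Euler Groth.L03.SurfNum
open Groth.L00.Tensor (tensorComm)

/-- Let k be a field, X an integral proper k-scheme of dimension 2 with regular local rings which is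
geometrically irreducible over k, C an integral proper smooth k-scheme of dimension 1, and f : X → C
a surjective k-morphism. Let L be an invertible O_X-module whose intersection number with every
vertical integral curve (a closed integral one-dimensional E ⊆ X sent by f to a single point) is 0,
and whose intersection number with some horizontal integral curve P (closed, integral,
one-dimensional, with f(P) not a single point) is 0. Then (L·L) ≤ 0, and if (L·L) = 0 then L is
numerically trivial: its intersection number with every closed integral curve of X is 0. Here (L·L)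
= χ(O_X) − 2χ(L) + χ(L ⊗ L) and the number with a curve Y is χ(O_Y) − χ(L ⊗ O_Y), both packaged as
FGA.intNum. (The published assertion is the positive-definiteness of the pairing −(D·D′) on classes
of divisors of degree 0 on the generic fibre modulo classes of fibre components, after tensoring
with the rationals; this row gives that content for divisor classes up to numerical equivalence,
which is what the printed argument establishes, and leaves aside the identification of the pairing
with a canonical height. The published setting also takes X to be the relatively minimal regular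
model, projective over k, of a smooth projective geometrically irreducible curve of positive genus
over the function field of C, with C projective and geometrically irreducible; this row keeps only
the hypotheses the printed argument uses.) -/
theorem result (k : Type u) [Field k]
    (X : Scheme.{u}) [X.Over (Spec (CommRingCat.of k))] [IsProper (X ↘ Spec (CommRingCat.of k))]
    [IsIntegral X] [GeometricallyIrreducible (X ↘ Spec (CommRingCat.of k))]
    (hreg : ∀ x : X, IsRegularLocalRing (X.presheaf.stalk x)) (hdim : topologicalKrullDim X = 2)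
    (C : Scheme.{u}) [C.Over (Spec (CommRingCat.of k))] [IsProper (C ↘ Spec (CommRingCat.of k))]
    [Smooth (C ↘ Spec (CommRingCat.of k))] [IsIntegral C] (hdimC : topologicalKrullDim C = 1)
    (f : X ⟶ C) [f.IsOver (Spec (CommRingCat.of k))] [Surjective f]
    (L : X.Modules) (hL : PicF.IsInvertible L)
    (hvert : ∀ (E : Scheme.{u}) (ι : E ⟶ X) [IsClosedImmersion ι] [IsIntegral E],
      topologicalKrullDim E = 1 → (Set.range (fun e : E => f (ι e))).Subsingleton →
      FGA.intNum k X 2 ![L] ((Coh.push ι).obj (Coh.structureModule E)) = 0)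
    (P : Scheme.{u}) (ιP : P ⟶ X) [IsClosedImmersion ιP] [IsIntegral P] (hP : topologicalKrullDim P = 1)
    (hPh : (Set.range (fun q : P => f (ιP q))).Nontrivial)
    (hLP : FGA.intNum k X 2 ![L] ((Coh.push ιP).obj (Coh.structureModule P)) = 0) :
    FGA.intNum k X 2 ![L, L] (Coh.structureModule X) ≤ 0 ∧
      (FGA.intNum k X 2 ![L, L] (Coh.structureModule X) = 0 →
        ∀ (Y : Scheme.{u}) (ι : Y ⟶ X) [IsClosedImmersion ι] [IsIntegral Y], topologicalKrullDim Y = 1 →
          FGA.intNum k X 2 ![L] ((Coh.push ι).obj (Coh.structureModule Y)) = 0) := by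
  have hd2 : topologicalKrullDim X = (2 : ℕ) := hdim.trans Nat.cast_ofNat.symm
  have hd := hd2.le
  haveI := Groth.L21.RR.isNoetherian_of_proper (X := X) k
  haveI := Groth.L21.RR.isNoetherian_of_proper (X := C) k
  obtain ⟨H, hH⟩ := Groth.L03.SurfAmple.exists_ample k X hd2 hreg
  have hinv : ∀ y : X, topologicalKrullDim (closure ({y} : Set X)) = (1 : ℕ) →
      PicF.IsInvertible (ClSub.idealMod (pt y)) := fun y hy => by
    haveI := isIntegral_pt y
    exact Groth.L03.SurfNum.isInvertible_idealMod k hd2 hreg (pt y)
      (by rw [Groth.L18.support_vanishingIdeal]; exact hy.trans Nat.cast_one)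
  -- degrees on the given curves
  have hcurve : ∀ (Y : Scheme.{u}) (ι : Y ⟶ X) [IsClosedImmersion ι] [IsIntegral Y],
      topologicalKrullDim Y = 1 → (FGA.intNum k X 2 ![L] ((Coh.push ι).obj (Coh.structureModule Y)) : ℚ) =
        - altT k (fun _ : Fin 1 => L) (ClSub.quotMod (pt (ι (genericPoint Y)))) := by
    intro Y ι _ _ hY
    haveI : IsLocallyNoetherian Y := LocallyOfFiniteType.isLocallyNoetherian ι
    rw [intNum_eq k hd, show (![L] : Fin 1 → X.Modules) = fun _ => L from funext fun i => by fin_cases i; rfl,
      altT_eq_len k (fun _ => hL) ((dim_closure_image ι).trans (hY.trans Nat.cast_one.symm))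
        (Groth.L16.CohClosedPush.isCoh_push ι (Groth.L16.CohClosedPush.isCoh_structure (X := Y)))
        ((Groth.L16.CohClosedPush.support_push_subset ι _).trans (range_eq_closure ι).le),
      Groth.L16.CohClosedPush.len_push_structure ι]
    simp
  -- the fibre
  have hntC : (Set.univ : Set C).Nontrivial := by
    by_contra h
    haveI : Subsingleton C := Set.subsingleton_univ_iff.1 (Set.not_nontrivial_iff.1 h)
    have h0 : topologicalKrullDim C ≤ 0 := topologicalKrullDim_zero_of_discreteTopology C
    rw [hdimC] at h0
    exact absurd (WithBot.coe_le_coe.1 h0) (by simp)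
  obtain ⟨p, -, hp⟩ := (isClosed_univ (X := C)).exists_closed_singleton Set.univ_nonempty
  obtain ⟨hI, -, hIsupp, -⟩ := fibre_ideal k hdimC f hp
  obtain ⟨N, σ, hN, hzero⟩ := Groth.L03.SurfAmple.exists_canonical_section _
    ((Groth.Agent.L19.IdealInvertible.isEffCartier_iff _).1 hI)
  have hgen : ∀ x : X, x ∉ CohB1.genLocus N σ ↔ f x = p := fun x => by
    have h1 := Groth.L22.ZeroScheme.support_zeroScheme hN σ
    rw [hzero, hIsupp] at h1
    exact (Set.ext_iff.1 h1 x).symm
  have hη : genericPoint X ∈ CohB1.genLocus N σ := by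
    by_contra h
    have h1 : ∀ x : X, f x = p := fun x => Set.mem_singleton_iff.1
      ((((genericPoint_spec X).specializes trivial).map f.continuous).mem_closed hp ((hgen _).1 h))
    obtain ⟨a, -, b, -, hab⟩ := hntC
    obtain ⟨a', rfl⟩ := f.surjective a
    obtain ⟨b', rfl⟩ := f.surjective b
    exact hab ((h1 a').trans (h1 b').symm)
  have hNI : ClSub.IsInverseOf N (ClSub.idealMod (f.fiberι p).ker) := by
    obtain ⟨e⟩ := hzero ▸ Groth.L03.SurfAmple.nonempty_tensor_zeroScheme hN σ hη
    exact ⟨tensorComm _ _ ≪≫ e⟩
  have hfib : ∀ y : X, topologicalKrullDim (closure ({y} : Set X)) = (1 : ℕ) → y ∉ CohB1.genLocus N σ →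
      closure ({y} : Set X) ⊆ f ⁻¹' {p} := fun y _ hy =>
    closure_minimal (Set.singleton_subset_iff.2 ((hgen y).1 hy)) (hp.preimage f.continuous)
  obtain ⟨T, m, hT, -, hsum⟩ := exists_sum_curves k hd hN σ hη
  have hNL : ii k N L = 0 := by
    rw [hsum L hL]
    refine Finset.sum_eq_zero fun y hy => ?_
    haveI := isIntegral_pt y
    have hd1 : topologicalKrullDim (pt y).subscheme = (1 : ℕ) := by
      rw [← dim_closure_image (pt y).subschemeι, genericPoint_pt, (hT y hy).1]
    have h1 := hvert _ (pt y).subschemeι (hd1.trans Nat.cast_one) (Set.subsingleton_of_subset_singleton (a := p)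
      (by
        rintro _ ⟨e, rfl⟩
        exact hfib y (hT y hy).1 (hT y hy).2 ((range_pt y).le ⟨e, rfl⟩)))
    have h2 := hcurve _ (pt y).subschemeι (hd1.trans Nat.cast_one)
    rw [h1, genericPoint_pt, Int.cast_zero] at h2
    rw [show altT k (fun _ : Fin 1 => L) (ClSub.quotMod (pt y)) = 0 by linarith, mul_zero]
  have hNN : ii k N N = 0 := by
    rw [hsum N hN]
    refine Finset.sum_eq_zero fun y hy => ?_
    haveI := isIntegral_pt y
    rw [fibre_deg_zero k hdimC f hp hNI (pt y)
      (by rw [Groth.L18.support_vanishingIdeal]; exact (hT y hy).1.trans Nat.cast_one)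
      (by rw [Groth.L18.support_vanishingIdeal]; exact hfib y (hT y hy).1 (hT y hy).2), mul_zero]
  -- the horizontal curve
  set yP := ιP (genericPoint P)
  have hyP : topologicalKrullDim (closure ({yP} : Set X)) = (1 : ℕ) :=
    (dim_closure_image ιP).trans (hP.trans Nat.cast_one.symm)
  have hLyP : altT k (fun _ : Fin 1 => L) (ClSub.quotMod (pt yP)) = 0 := by
    have h2 := hcurve P ιP hP
    rw [hLP, Int.cast_zero] at h2
    linarith
  haveI := isIntegral_pt yP
  have hJ := hinv yP hyP
  obtain ⟨J', hJ', ⟨eJ⟩⟩ := Groth.L08.Cube.exists_inverse hJ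
  have hJL : ii k J' L = 0 := by
    rw [Gram.ii_inverse k hd hJ hJ' hL eJ, ← altT_quotMod_eq k hL (pt yP) hJ, hLyP]
  have hfyP : f yP = genericPoint C := by
    by_contra hne
    set c := f yP
    have hcl : IsClosed ({c} : Set C) := by
      obtain ⟨z, hz⟩ := Groth.L21.CurveTop.exists_eq_singleton hdimC.le isClosed_closure
        (isIrreducible_singleton (x := c)).closure
        (fun h => hne (((genericPoint_spec C).eq (h : IsGenericPoint c Set.univ)).symm))
      have : c = z := hz.subset (subset_closure rfl)
      exact this ▸ hz ▸ isClosed_closure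
    obtain ⟨_, ⟨a, rfl⟩, _, ⟨b, rfl⟩, hab⟩ := hPh
    have h1 : ∀ a : P, f (ιP a) = c := fun a => Set.mem_singleton_iff.mp
      (((((genericPoint_spec P).specializes trivial).map ιP.continuous).map f.continuous).mem_closed hcl
        (Set.mem_singleton c))
    exact hab ((h1 a).trans (h1 b).symm)
  have hNy : yP ∈ CohB1.genLocus N σ := by
    by_contra h
    have h2 := genericPoint_notMem_point k hdimC hp
    rw [← hfyP] at h2
    exact h2 ((hgen yP).1 h)
  obtain ⟨z, hz, hzp⟩ : ∃ z ∈ closure ({yP} : Set X), f z = p := by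
    haveI : IsProper f := by
      haveI : IsProper (f ≫ (C ↘ Spec (CommRingCat.of k))) := by rw [comp_over]; infer_instance
      exact IsProper.of_comp f (C ↘ Spec (CommRingCat.of k))
    have h1 : IsClosed (f '' closure ({yP} : Set X)) := f.isClosedMap _ isClosed_closure
    have h2 : (Set.univ : Set C) ⊆ f '' closure ({yP} : Set X) := by
      rw [← (genericPoint_spec C).def]
      exact closure_minimal (Set.singleton_subset_iff.2 ⟨yP, subset_closure rfl, hfyP⟩) h1
    exact h2 (Set.mem_univ p)
  have hNJ : 0 < ii k N J' := by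
    have h1 := Groth.L03.SurfAmple.altT_pt_pos k hd2 hN σ hyP hNy hz (fun h => (hgen z).2 hzp h)
    rw [altT_quotMod_eq k hN (pt yP) hJ] at h1
    rw [ii_comm, Gram.ii_inverse k hd hJ hJ' hN eJ]
    linarith
  obtain ⟨e, he⟩ : ∃ e : ℤ, ii k J' J' = (e : ℚ) := ⟨_, (intNum_eq_ii k hd J' J').symm⟩
  obtain ⟨g, hg⟩ : ∃ g : ℤ, ii k N J' = (g : ℚ) := ⟨_, (intNum_eq_ii k hd N J').symm⟩
  obtain ⟨n, hn⟩ : ∃ n : ℕ, |(e : ℚ)| < n := exists_nat_gt _
  set M := CohB1.tensorMod (CohB1.tensorPow N n) J'
  have hNn := Groth.L18.Ample.isInvertible_tensorPow hN n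
  have hM : PicF.IsInvertible M := Groth.L18.GenLoc.isInvertible_tensor hNn hJ'
  have hMM : 0 < ii k M M := by
    rw [ii_tensor k hd hNn hJ' hM, ii_pow k hd hN hM, ii_tensor_right k hd hN hNn hJ', ii_pow_right k hd hN hN,
      hNN, ii_tensor_right k hd hJ' hNn hJ', ii_comm k J' (CohB1.tensorPow N n), ii_pow k hd hN hJ', he, hg]
    rw [hg] at hNJ
    have hg0 : 0 < g := by exact_mod_cast hNJ
    have hg1 : (1 : ℚ) ≤ g := by exact_mod_cast hg0
    have hn0 : (0 : ℚ) ≤ n := Nat.cast_nonneg n
    nlinarith [neg_abs_le (e : ℚ), mul_le_mul_of_nonneg_left hg1 hn0]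
  have hML : ii k M L = 0 := by
    rw [ii_tensor k hd hNn hJ' hL, ii_pow k hd hN hL, hNL, hJL]; ring
  obtain ⟨hle, hzero'⟩ := eq_zero_of_orth_ii k hd hM hL hH hd2 hMM hML
  rw [← intNum_eq_ii k hd] at hle
  refine ⟨by exact_mod_cast hle, fun h0 Y ι _ _ hY => ?_⟩
  have h00 : ii k L L = 0 := by rw [← intNum_eq_ii k hd]; exact_mod_cast h0
  set y := ι (genericPoint Y)
  haveI := isIntegral_pt y
  have hyd : topologicalKrullDim (closure ({y} : Set X)) = (1 : ℕ) :=
    (dim_closure_image ι).trans (hY.trans Nat.cast_one.symm)
  have h1 := hcurve Y ι hY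
  rw [altT_quotMod_eq k hL (pt y) (hinv y hyd), ii_comm, hzero' h00 _ (hinv y hyd), neg_zero, neg_zero] at h1
  exact_mod_cast h1

end Groth.Agent.S17180
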