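import Groth.Statements.S17181
import Mathlib.AlgebraicGeometry.Geometrically.Irreducible
import Mathlib.AlgebraicGeometry.Fiber

set_option autoImplicit false
set_option maxSynthPendingDepth 3
set_option backward.isDefEq.respectTransparency false
set_option backward.isDefEq.respectTransparency.types false
set_option linter.style.haveILetI false
universe u
open CategoryTheory CategoryTheory.Limits AlgebraicGeometry
open FBase

namespace Groth.Agent.S17181

/-- Let k be a field, C an irreducible k-scheme which is geometrically irreducible over k, and f : X → C
a flat k-morphism locally of finite type with X irreducible. If the generic fibre of f is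
geometrically irreducible over the residue field of the generic point of C, then X is geometrically
irreducible over k. (The published setting is a regular proper surface mapping onto a smooth
projective geometrically irreducible curve with smooth projective geometrically irreducible generic
fibre; the printed argument uses only the hypotheses kept here.) -/
theorem result (k : Type u) [Field k]
    (X C : Scheme.{u}) [X.Over (Spec (CommRingCat.of k))] [C.Over (Spec (CommRingCat.of k))]
    (f : X ⟶ C) [f.IsOver (Spec (CommRingCat.of k))] [IrreducibleSpace X] [IrreducibleSpace C]
    [GeometricallyIrreducible (C ↘ Spec (CommRingCat.of k))] [Flat f] [LocallyOfFiniteType f]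
    [GeometricallyIrreducible (f.fiberToSpecResidueField (genericPoint C))] :
    GeometricallyIrreducible (X ↘ Spec (CommRingCat.of k)) := by
  set c := C ↘ Spec (CommRingCat.of k)
  have hf : f ≫ c = X ↘ Spec (CommRingCat.of k) := comp_over f _
  refine ⟨geometrically_iff_of_isClosedUnderIsomorphisms.mpr fun K _ x => ?_⟩
  rw [← hf]
  rw [← (pullbackRightPullbackFstIso c x f).hom.homeomorph.irreducibleSpace_iff]
  haveI : IrreducibleSpace ↥(pullback c x) :=
    GeometricallyIrreducible.geometrically_irreducibleSpace _ _ _ (IsPullback.of_hasPullback c x)
  set p := pullback.fst c x with hpdef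
  let g := pullback.snd f p
  haveI : Surjective x := ⟨fun s => ⟨IsLocalRing.closedPoint K, Subsingleton.elim (α := PrimeSpectrum k) _ _⟩⟩
  haveI : Surjective p := MorphismProperty.pullback_fst c x inferInstance
  have hη : IsGenericPoint (p (genericPoint ↥(pullback c x))) Set.univ := by
    have := (genericPoint_spec ↥(pullback c x)).image p.continuous
    rwa [Set.image_univ, Set.range_eq_univ.mpr p.surjective, closure_univ] at this
  have hfib : ∀ (c₀ : C) (_ : GeometricallyIrreducible (f.fiberToSpecResidueField c₀)) (c' : ↥(pullback c x)),
      p c' = c₀ → IrreducibleSpace (g.fiber c') := by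
    intro c₀ hc₀ c' h
    subst h
    exact hc₀.geometrically_irreducibleSpace _ _ _
      (isPullback_fiberToSpecResidueField_of_isPullback (IsPullback.of_hasPullback f p) c')
  haveI := hfib _ inferInstance _ (hη.eq (genericPoint_spec C))
  set η' := genericPoint ↥(pullback c x)
  have hirr : IsIrreducible (g ⁻¹' {η'}) := by
    rw [← g.range_fiberι, ← Set.image_univ]
    exact (IrreducibleSpace.isIrreducible_univ _).image _ (g.fiberι _).continuous.continuousOn
  have hdense : closure (g ⁻¹' {η'}) = Set.univ := by
    refine Set.eq_univ_of_forall fun z => ?_
    obtain ⟨y, hy, hyη⟩ := Flat.generalizingMap g ((genericPoint_spec ↥(pullback c x)).specializes (Set.mem_univ (g z)))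
    exact hy.mem_closed isClosed_closure (subset_closure hyη)
  rw [irreducibleSpace_def, Set.top_eq_univ, ← hdense]
  exact hirr.closure

end Groth.Agent.S17181
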