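import Groth.Statements.S1720
import Groth.Agent.L04.Canon.CdDimVanish

set_option autoImplicit false
universe u
open CategoryTheory
attribute [local instance] HasDerivedCategory.standard
open LocCoh

namespace Groth.Agent.S1720

/-- Let A be a Noetherian local ring with a normalized dualizing complex ω and I an ideal. If the
degree-0 local cohomology of ω with support in I is zero, then the cohomological dimension of I is
less than dim A: for every A-module M, H^i_I(M) = 0 for all i ≥ dim A. -/
theorem result (A : Type u) [CommRing A] [IsLocalRing A] [IsNoetherianRing A] (ω : Dual.D A) (hω : Dual.IsDualizing A ω) (hn : Dual.IsNormalized A ω) (I : Ideal A) (h0 : Subsingleton (Dual2.HDI A I ω 0)) (M : Type u) [AddCommGroup M] [Module A M] (i : ℕ) (hi : ringKrullDim A ≤ (i : WithBot ℕ∞)) : Subsingleton (LocCoh.H I i M) := by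

    exact Groth.L04.CdDim.subsingleton_H_of_subsingleton_HDI hω hn I h0 M i hi

end Groth.Agent.S1720
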