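import Groth.Statements.S17209
import Groth.Agent.L23.CohProp.Const

set_option autoImplicit false
universe u
open CategoryTheory CategoryTheory.Limits AlgebraicGeometry Opposite
open CohProp

namespace Groth.Agent.S17209

/-- Cohomological propriety assertion: let S be a Noetherian scheme, b : Y → S and f : X → Y morphisms
of finite type. There is a dense open U of S such that for every finite set E, writing f_U : X_U →
Y_U for the restriction of f over U, the pair formed by the constant sheaf of sets E on X_U and f_U
is cohomologically proper relative to U in dimension ≤ 0: for every scheme S' over U and all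
cartesian squares Y' = Y_U ×_U S', X' = X_U ×_{Y_U} Y', the base change morphism g^* f_{U*} E → f'_*
h^* E is an isomorphism of sheaves of sets on the small etale site of Y'. (The direct image f_{U*} E
is moreover constructible for such a U, and in the published statement one dense open U serves both
for this and for the companion statement on principal covers over strict henselizations; that
constructibility is not part of this statement.) -/
theorem result {X Y S : Scheme.{u}} [IsNoetherian S] (f : X ⟶ Y) (b : Y ⟶ S)
    [LocallyOfFiniteType f] [QuasiCompact f] [LocallyOfFiniteType b] [QuasiCompact b] :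
    ∃ U : S.Opens, Dense (U : Set S) ∧ ∀ (E : Type) [Finite E],
      CohProp.IsCohPropSet (b ∣_ U) (f ∣_ b ⁻¹ᵁ U)
        (CohProp.constSh (↑(f ⁻¹ᵁ b ⁻¹ᵁ U) : Scheme.{u}) (ULift.{u + 1} E)) := by
  haveI : CompactSpace Y := QuasiCompact.compactSpace_of_compactSpace b
  obtain ⟨U, hU, h⟩ := Groth.L23.CohProp.exists_dense_open_isCohPropSet f b _
    (Groth.L23.CohProp.hasBases_const X)
  exact ⟨U, hU, fun E hE => Groth.L23.CohProp.isCohPropSet_of_iso _ _
    (Groth.L23.CohProp.pullConstIso _ E) (h ⟨E, hE⟩).2⟩

end Groth.Agent.S17209
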