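import Groth.Statements.S17223
import Groth.Agent.L12.IntSh.PushF
-- import your own Groth.Agent.* helpers here

set_option autoImplicit false
universe u
open IntSh

namespace Groth.Agent.S17223

open CategoryTheory CategoryTheory.Limits AlgebraicGeometry in
/-- Let π : X → Y be a projective morphism of Noetherian schemes with X and Y connected, F a coherent
O_X-module flat over Y whose support meets every fibre of π in dimension d, and assume that π is
flat or that Y carries an ample invertible module; K^•(X) and K^•(Y) are given through λ-ring models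
and π_*^F : K^•(X) → K^•(Y) denotes the push-forward on bundle classes twisted by F, det : K^•(Y) →
Pic(Y) is the determinant and π^* : K^•(Y) → K^•(X) the pull-back on bundle classes. For an
invertible O_Y-module M with inverse M' and x in F^d K^•(X), the intersection sheaf of x · δ(π^*M),
where δ(π^*M) = 1 − π^*[M'] represents the first Chern class of π^*M, is the i-th tensor power of M
with i = ε(π_*^F(x)) the relative intersection number of x: in Pic(Y) written additively, det
π_*^F(x · (1 − π^*[M'])) = ε(π_*^F(x)) • [M]. (The source lets X be an arbitrary Noetherian scheme;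
X is taken connected here so that K^•(X) has a λ-ring model with integer-valued rank.) -/
theorem result
    {X Y : Scheme.{u}} [IsNoetherian X] [IsNoetherian Y] [ConnectedSpace X] [ConnectedSpace Y] (π : X ⟶ Y)
    (hπ : RelProj.IsProjective π) [HasInjectiveResolutions X.Modules]
    (F : X.Modules) (hF : Coh.IsCoh F) (hFf : FlatMod.IsFlatOver π F)
    (d : ℕ) (hd : ∀ y : Y, topologicalKrullDim ↥(CohB1.support F ∩ π.base ⁻¹' {y}) = d)
    (hAB : Flat π ∨ ∃ H : Y.Modules, CohB1.IsAmple H)
    (KX : Type u) [CommRing KX] [LambdaRing.LambdaOps KX] (PX : LambdaRing.PosStructure KX)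
    (φX : SGA6.Kvb X →+ KX) (hKX : KRR.IsModel X KX PX φX)
    (KY : Type u) [CommRing KY] [LambdaRing.LambdaOps KY] (PY : LambdaRing.PosStructure KY)
    (φY : SGA6.Kvb Y →+ KY) (hKY : KRR.IsModel Y KY PY φY)
    (g : KX →+ KY) (hg : KDet.IsPushF π F φX φY g)
    [PicGrp.Law Y] (dt : KY →+ Additive (PicLoc.PicSet Y)) (hdt : KDet.IsDet φY dt)
    (pX : KY →+ KX) (hpX : KRR.IsPull π φY φX pX)
    (M M' : Y.Modules) (hM : PicF.IsInvertible M) (hM' : PicF.IsInvertible M') (hMM' : ClSub.IsInverseOf M M')
    (x : KX) (hx : x ∈ LambdaRing.gammaFiltration PX d) :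
    dt (g (x * (1 - pX (φY (KRR.cl Y M'))))) = (PY.aug (g x)) • Additive.ofMul (PicGrp.cls M hM) := by
  haveI := Groth.L27.ProjProper.isProper_of_isProjective hπ
  obtain ⟨L, M₀, hb⟩ := Groth.L12.IntSh.exists_base π hπ hAB
  have hd' : Groth.L12.IntSh.FibreSuppLE π F d := fun y => (hd y).le
  rw [mul_sub, mul_one, map_sub, Groth.L12.IntSh.pushF_mul hKX hKY hF hFf hb hd' hg hpX, map_sub,
    Groth.L12.IntSh.det_mul_line hKY hdt hM']
  obtain ⟨e⟩ := hMM'
  have h := PicGrp.cls_inv_eq_cls hM hM' ⟨e⟩
  rw [← h, ofMul_inv]
  simp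

end Groth.Agent.S17223
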