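import Groth.Statements.S17229
import Groth.Agent.L12.IntSh.FibreEuler
import Groth.Agent.L12.IntSh.Pos.Main
import Groth.Agent.L08.Lambda.FreeFil
-- import your own Groth.Agent.* helpers here

set_option autoImplicit false
universe u
open IntSh

namespace Groth.Agent.S17229

open CategoryTheory CategoryTheory.Limits AlgebraicGeometry in
/-- Let π : X → Y be a projective morphism of Noetherian schemes with X and Y connected, F a coherent
O_X-module flat over Y whose support meets every fibre of π in dimension d, and assume that π is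
flat or that Y carries an ample invertible module; K^•(X) and K^•(Y) are given through λ-ring models
and π_*^F : K^•(X) → K^•(Y) denotes the push-forward on bundle classes twisted by F, with
augmentation ε on K^•(Y). Let E be a locally free O_X-module of rank d + 1 which is a quotient of
the pull-back π^*G of a finite locally free O_Y-module G. Then the relative intersection number
i_{F/Y}(c^d(E)) = ε(π_*^F(γ^d([E] − (d+1)))) is non-negative. (The source also gives a surjection
from a symmetric power of G onto the intersection sheaf of c^{d+1}(E); that clause is not stated.)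
(The source lets X be an arbitrary Noetherian scheme; X is taken connected here so that K^•(X) has a
λ-ring model with integer-valued rank.) -/
theorem result
    {X Y : Scheme.{u}} [IsNoetherian X] [IsNoetherian Y] [ConnectedSpace X] [ConnectedSpace Y] (π : X ⟶ Y)
    (hπ : RelProj.IsProjective π) [HasInjectiveResolutions X.Modules]
    (F : X.Modules) (hF : Coh.IsCoh F) (hFf : FlatMod.IsFlatOver π F)
    (d : ℕ) (hd : ∀ y : Y, topologicalKrullDim ↥(CohB1.support F ∩ π.base ⁻¹' {y}) = d)
    (hAB : Flat π ∨ ∃ H : Y.Modules, CohB1.IsAmple H)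
    (KX : Type u) [CommRing KX] [LambdaRing.LambdaOps KX] (PX : LambdaRing.PosStructure KX)
    (φX : SGA6.Kvb X →+ KX) (hKX : KRR.IsModel X KX PX φX)
    (KY : Type u) [CommRing KY] [LambdaRing.LambdaOps KY] (PY : LambdaRing.PosStructure KY)
    (φY : SGA6.Kvb Y →+ KY) (hKY : KRR.IsModel Y KY PY φY)
    (g : KX →+ KY) (hg : KDet.IsPushF π F φX φY g)
    (G : Y.Modules) (hG : FlatMod.IsFinLocFree G)
    (E : X.Modules) (hE : FlatMod.IsFinLocFreeOfRank (d + 1) E)
    (q : (Scheme.Modules.pullback π).obj G ⟶ E) [Epi q] :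
    0 ≤ PY.aug (g (LambdaRing.gamma d (φX (KRR.cl X E) - ((d + 1 : ℕ) : KX)))) := by
  haveI : IsProper π := Groth.L27.ProjProper.isProper_of_isProjective hπ
  obtain ⟨L, M, hb⟩ := Groth.L12.IntSh.exists_base π hπ hAB
  obtain ⟨y⟩ := (inferInstance : Nonempty Y)
  obtain ⟨a, ha⟩ := hKX.bijective.2
    (LambdaRing.gamma d (φX (KRR.cl X E) - ((d + 1 : ℕ) : KX)))
  rw [← ha]
  refine Groth.L12.IntSh.aug_pushF_cases hKX hKY hF hFf hb (fun y => (hd y).le) hg y a (C := fun n => 0 ≤ n)
    fun k _ W _ _ _ j L' hamp hdim hjy N hN ψ hψ => ?_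
  obtain ⟨U, n, hyU, ⟨eU⟩⟩ := hG y
  have hr : Set.range (j ≫ π) ⊆ Set.range U.ι := by
    rintro _ ⟨z, rfl⟩
    rw [Scheme.Opens.range_ι]
    show π (j z) ∈ U
    rw [hjy z]
    exact hyU
  let h := IsOpenImmersion.lift U.ι (j ≫ π) hr
  let eG : FlatMod.freeMod W n ≅ (Scheme.Modules.pullback j).obj ((Scheme.Modules.pullback π).obj G) :=
    (Groth.L29.LocFree.pullbackFreeIso h n).symm ≪≫
    (Scheme.Modules.pullback h).mapIso (eU.symm ≪≫ (Scheme.Modules.restrictFunctorIsoPullback U.ι).app G) ≪≫
    (Scheme.Modules.pullbackComp h U.ι).app G ≪≫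
    (Scheme.Modules.pullbackCongr (IsOpenImmersion.lift_fac U.ι (j ≫ π) hr)).app G ≪≫
    ((Scheme.Modules.pullbackComp j π).app G).symm
  haveI : (Scheme.Modules.pullback j).IsLeftAdjoint :=
    (Scheme.Modules.pullbackPushforwardAdjunction j).isLeftAdjoint
  let qW := eG.hom ≫ (Scheme.Modules.pullback j).map q
  haveI : Epi qW := by infer_instance
  have hKR := Groth.L12.Kvb.isModel (X := X)
  obtain ⟨e, he, hlam, -⟩ := Groth.L12.KBun.exists_modelEquiv hKX hKR
  have hca : ∀ b, e (φX b) = Groth.L12.Kvb.toKR X b := fun b => DFunLike.congr_fun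
    (show e.toAddMonoidHom.comp φX = Groth.L12.Kvb.toKR X from Groth.L29.KSub.hom_ext fun G hG => he G hG) b
  refine Groth.L12.IntSh.Pos.pairNonneg k hamp hdim j hE qW a ?_ hN ψ hψ
  rw [← hca, ha, show e (LambdaRing.gamma d (φX (KRR.cl X E) - ((d + 1 : ℕ) : KX))) = _ from
    Groth.L08.Lambda.map_gamma e.toRingHom hlam d _]
  simp only [RingEquiv.toRingHom_eq_coe, RingHom.coe_coe, map_sub, map_natCast, hca]

end Groth.Agent.S17229
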