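import Groth.Statements.S1723
import Groth.Agent.L29.Dual.GorensteinFlatBC
import Groth.Agent.L07.CIFibre
import Groth.Agent.L06.UnibranchCpl
import Groth.Agent.L06.NormalAscent
import Groth.Agent.S0543
import Groth.Agent.L06.GeomLocalApp

set_option autoImplicit false
set_option backward.isDefEq.respectTransparency false
universe u
open CategoryTheory
attribute [local instance] HasDerivedCategory.standard
open Dual

namespace Groth.Agent.S1723

/-- If a Noetherian local ring A has a dualizing complex, then each of its formal fibres is a Gorenstein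
ring: for every prime p the ring A^ ⊗_A κ(p) (completion at the maximal ideal, tensored with the
residue field of p) is a Gorenstein ring. -/
theorem result (A : Type u) [CommRing A] [IsLocalRing A] [IsNoetherianRing A] (ω : Dual.D A) (hω : Dual.IsDualizing A ω) (p : PrimeSpectrum A) : LocCoh.IsGorensteinRing (EGA4.formalFibre A p.asIdeal) := by
  haveI := Groth.L06.NormalAscent.faithfullyFlat_cpl A
  haveI : IsNoetherianRing (EGA4.Cpl A) := Groth.Agent.S0543.result _ _
  have hC : Dual.IsDualizing (EGA4.Cpl A) ((Groth.L29.FlatBC.L A (EGA4.Cpl A)).obj ω) :=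
    (Groth.L29.FlatBC.isDualizing_L_local (B := EGA4.Cpl A)
      (Groth.L06.Unibranch.maximalIdeal_cpl A).symm hω).1
  haveI : IsNoetherianRing (EGA4.formalFibre A p.asIdeal) := Groth.L06.GeomLocal.isNoetherianRing_fiber p.asIdeal
  refine ⟨fun P hP => ?_⟩
  obtain ⟨hlo, i, hl, hcomm, hf, ⟨e⟩⟩ := Groth.L07.CIFibre.exists_fibre_local (R := A) (S := EGA4.Cpl A) p.asIdeal P
  let Q : Ideal (EGA4.Cpl A) := P.comap
    (Algebra.TensorProduct.includeRight (R := A) (A := p.asIdeal.ResidueField) (B := EGA4.Cpl A))
  letI := i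
  haveI := hl
  haveI := hf
  let Aq := Localization.AtPrime p.asIdeal
  let BQ := Localization.AtPrime Q
  haveI : Module.Flat A Aq := IsLocalization.flat _ p.asIdeal.primeCompl
  haveI : Module.Flat (EGA4.Cpl A) BQ := IsLocalization.flat _ Q.primeCompl
  haveI : IsNoetherianRing Aq := IsLocalization.isNoetherianRing p.asIdeal.primeCompl _ inferInstance
  haveI : IsNoetherianRing BQ := IsLocalization.isNoetherianRing Q.primeCompl _ inferInstance
  haveI : IsScalarTower A Aq BQ := IsScalarTower.of_algebraMap_eq fun r => by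
    rw [hcomm r, ← IsScalarTower.algebraMap_apply]
  haveI : Module.Flat A BQ := Module.Flat.trans A Aq _
  have h1 : Dual.IsDualizing BQ ((Groth.L29.FlatBC.L Aq BQ).obj ((Groth.L29.FlatBC.L A Aq).obj ω)) :=
    Groth.L29.HomD.isDualizing_of_iso ((Groth.L29.GorBC.lComp A (EGA4.Cpl A) BQ).app ω ≪≫
      ((Groth.L29.GorBC.lComp A Aq BQ).app ω).symm)
      (Groth.L29.FlatBC.isDualizing_L_localization (B := BQ) Q.primeCompl hC)
  exact Groth.L21.GorensteinAscend.isGorensteinLocalRing_of_ringEquiv e.symm
    (Groth.L29.GorBC.gorenstein_of_isDualizing_L (A := Aq) (B := BQ)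
      (Groth.L29.FlatBC.isDualizing_L_localization (B := Aq) p.asIdeal.primeCompl hω) h1)

end Groth.Agent.S1723
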