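import Groth.Statements.S17232
import Groth.Agent.L12.IntSh.BaseChange
-- import your own Groth.Agent.* helpers here

set_option autoImplicit false
universe u
open IntSh

namespace Groth.Agent.S17232

open CategoryTheory CategoryTheory.Limits AlgebraicGeometry in
/-- Base change of the intersection sheaf: let π : X → Y be a projective morphism of Noetherian schemes
with X and Y connected, F a coherent O_X-module flat over Y whose support meets every fibre of π in
dimension d, and assume that π is flat or that Y carries an ample invertible module; K^•(X) and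
K^•(Y) are given through λ-ring models and π_*^F : K^•(X) → K^•(Y) denotes the push-forward on
bundle classes twisted by F; det denotes the determinant K^• → Pic on Y and on Y'. Let h : Y' → Y be
a morphism from a connected Noetherian scheme Y' which carries an ample invertible module in case π
is not flat, X' = X ×_Y Y' with projections q_1, q_2 (X' Noetherian and connected, with its own
λ-ring model), F' = q_1^*F, and q_{2*}^{F'} the push-forward on bundle classes twisted by F'. Then
for every x in F^{d+1} K^•(X) the pull-back along h of the intersection sheaf det π_*^F(x) is the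
intersection sheaf det q_{2*}^{F'}(q_1^* x) in Pic(Y'); pulling back classes along h is
multiplicative, which is carried as a hypothesis. (X and X' are taken connected so that λ-ring
models exist; the source allows any X.) -/
theorem result
    {X Y : Scheme.{u}} [IsNoetherian X] [IsNoetherian Y] [ConnectedSpace X] [ConnectedSpace Y] (π : X ⟶ Y)
    (hπ : RelProj.IsProjective π) [HasInjectiveResolutions X.Modules]
    (F : X.Modules) (hF : Coh.IsCoh F) (hFf : FlatMod.IsFlatOver π F)
    (d : ℕ) (hd : ∀ y : Y, topologicalKrullDim ↥(CohB1.support F ∩ π.base ⁻¹' {y}) = d)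
    (hAB : Flat π ∨ ∃ H : Y.Modules, CohB1.IsAmple H)
    (KX : Type u) [CommRing KX] [LambdaRing.LambdaOps KX] (PX : LambdaRing.PosStructure KX)
    (φX : SGA6.Kvb X →+ KX) (hKX : KRR.IsModel X KX PX φX)
    (KY : Type u) [CommRing KY] [LambdaRing.LambdaOps KY] (PY : LambdaRing.PosStructure KY)
    (φY : SGA6.Kvb Y →+ KY) (hKY : KRR.IsModel Y KY PY φY)
    (g : KX →+ KY) (hg : KDet.IsPushF π F φX φY g)
    [PicGrp.Law Y] (dt : KY →+ Additive (PicLoc.PicSet Y)) (hdt : KDet.IsDet φY dt)
    {X' Y' : Scheme.{u}} [IsNoetherian X'] [IsNoetherian Y'] [ConnectedSpace X'] [ConnectedSpace Y']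
    (h : Y' ⟶ Y) (q₁ : X' ⟶ X) (q₂ : X' ⟶ Y') (hsq : IsPullback q₁ q₂ π h)
    [HasInjectiveResolutions X'.Modules]
    (hB' : Flat π ∨ ∃ H' : Y'.Modules, CohB1.IsAmple H')
    (KX' : Type u) [CommRing KX'] [LambdaRing.LambdaOps KX'] (PX' : LambdaRing.PosStructure KX')
    (φX' : SGA6.Kvb X' →+ KX') (hKX' : KRR.IsModel X' KX' PX' φX')
    (KY' : Type u) [CommRing KY'] [LambdaRing.LambdaOps KY'] (PY' : LambdaRing.PosStructure KY')
    (φY' : SGA6.Kvb Y' →+ KY') (hKY' : KRR.IsModel Y' KY' PY' φY')
    (pX : KX →+ KX') (hpX : KRR.IsPull q₁ φX φX' pX)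
    (g' : KX' →+ KY') (hg' : KDet.IsPushF q₂ ((Scheme.Modules.pullback q₁).obj F) φX' φY' g')
    [PicGrp.Law Y'] (dt' : KY' →+ Additive (PicLoc.PicSet Y')) (hdt' : KDet.IsDet φY' dt')
    (hmul : PicGrp.PullMul h)
    (x : KX) (hx : x ∈ LambdaRing.gammaFiltration PX (d + 1)) :
    PicGrp.pullHom h hmul (Additive.toMul (dt (g x))) = Additive.toMul (dt' (g' (pX x))) := by
  haveI := Groth.L27.ProjProper.isProper_of_isProjective hπ
  obtain ⟨L, M, hb⟩ := Groth.L12.IntSh.exists_base π hπ hAB
  obtain ⟨pY, hpY⟩ := Groth.L12.KRR.exists_isPull h (φX := φY') hKY.bijective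
  obtain ⟨pQ, hpQ⟩ := Groth.L12.KRR.exists_isPull q₂ (φX := φX') hKY'.bijective
  have h1 := Groth.L12.IntSh.pushF_baseChange hsq hKX hKX' hKY' hF hFf hb (fun y => (hd y).le) hg hg' hpX hpY
    hpQ x 1
  rw [Groth.L12.KRR.pull_one hKX' hKY' hpQ, mul_one, mul_one] at h1
  rw [Groth.L12.IntSh.det_pull hKY hdt hdt' hmul hpY, h1]

end Groth.Agent.S17232
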