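import Groth.Statements.S1724
import Groth.Agent.L04.LC.CutoffFinite

set_option autoImplicit false
universe u
open LocCoh

namespace Groth.Agent.S1724

/-- Let A be a universally catenary Noetherian ring such that the formal fibres of all local rings A_q
are Cohen–Macaulay, I an ideal, M a finite A-module and s = s_{A,I}(M) (the infimum of depth(M_p) +
dim((A/p)_q) over primes p ⊆ q with q ⊇ I and p ⊉ I). Then H^i_I(M) is a finite A-module for every i
< s, and if s is finite then H^s_I(M) is not a finite A-module. -/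
theorem result (A : Type u) [CommRing A] [IsNoetherianRing A] (hA : CAlg.IsUniversallyCatenary A) (hF : ∀ q : PrimeSpectrum A, EGA4.HasCMFormalFibres (Localization.AtPrime q.asIdeal)) (I : Ideal A) (M : Type u) [AddCommGroup M] [Module A M] [Module.Finite A M] : (∀ i : ℕ, (i : ℕ∞) < Dual2.cutoff A I M → Module.Finite A (LocCoh.H I i M)) ∧ ∀ s : ℕ, Dual2.cutoff A I M = s → ¬ Module.Finite A (LocCoh.H I s M) := by

    refine ⟨fun i hi => (Groth.L04.CutoffFinite.finite_iff hA hF I M i).2 hi i le_rfl, fun s hs hfin => ?_⟩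
    refine lt_irrefl (s : ℕ∞) (lt_of_lt_of_eq ((Groth.L04.CutoffFinite.finite_iff hA hF I M s).1 fun i hi => ?_) hs)
    rcases hi.lt_or_eq with hlt | rfl
    · exact (Groth.L04.CutoffFinite.finite_iff hA hF I M i).2 (hs ▸ Nat.cast_lt.2 hlt) i le_rfl
    · exact hfin

end Groth.Agent.S1724
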