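import Groth.Statements.S17244
import Groth.Agent.L28.PolarOrders.Basic

set_option autoImplicit false
open W4c4effdivwronsk2

namespace Groth.Agent.S17244

open Polynomial in
/-- Let `k` be a field of characteristic zero and take, on the projective line over `k`, the point `∞`
and `m` further distinct points `r_1, …, r_m` of the affine line, with positive integers `b` (at
`∞`) and `a_1, …, a_m`; put `N = b + ∑ a_j`. The sum of the spaces of differentials with a single
pole, of order at most `b + 1` at `∞`, resp. at most `a_j + 1` at `r_j`, `V = H⁰(ω((b+1)∞)) + ∑_j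
H⁰(ω((a_j+1)r_j)) ⊆ H⁰(ω((b+1)∞ + ∑_j (a_j+1)r_j)) ≅ H⁰(O(d))`, `d = b - 1 + ∑ (a_j+1)`, becomes,
after multiplying by `dX⁻¹ ∏_j (X - r_j)^(a_j+1)`, the subspace of `k[X]_{≤ d}` spanned by
`D·k[X]_{<b}` and the `D_i·k[X]_{<a_i}`, where `D = ∏_j (X - r_j)^(a_j+1)` and `D_i` omits the
`i`-th factor; a member `h` vanishes to order `n` at a point `q` of the affine line when `(X - q)^n
∣ h`, and to order `d - deg h` at `∞`. Let `V₁ ⊆ V` be a hyperplane (`dim V₁ = N - 1`) containing
`D·k[X]_{<b-2}` and every `D_i·k[X]_{<a_i}` (that is, containing `H⁰(ω((b-1)∞)) + ∑_j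
H⁰(ω((a_j+1)r_j))`). The weight of `V₁` at a point is `∑_{n=1}^{d} dim V₁(-n·point) - (N-1 choose
2)` (the sum of the vanishing orders minus `0 + 1 + ⋯ + (N-2)`). Then the weight of `V₁` at `r_i` is
`∑_{j≠i} a_j + b - 1 + ε_i` and its weight at `∞` is `∑_j a_j + N - 2 + ε`, with `ε_i, ε ∈ {0, 1}`.
(The published statement is over the complex numbers with the distinguished marked point arbitrary;
it is placed at `∞` here.) -/
theorem result
    (k : Type*) [Field k] [CharZero k] (m : ℕ) (r : Fin m → k) (hr : Function.Injective r)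
    (a : Fin m → ℕ) (ha : ∀ j, 1 ≤ a j) (b : ℕ) (hb : 1 ≤ b) (N d : ℕ)
    (hN : N = (∑ j, a j) + b) (hd : d + 1 = (∑ j, (a j + 1)) + b)
    (V : Submodule k (Polynomial k))
    (hV : V = (Polynomial.degreeLT k b).map (LinearMap.mulLeft k (∏ j, (X - C (r j)) ^ (a j + 1))) ⊔
      ⨆ i, (Polynomial.degreeLT k (a i)).map
        (LinearMap.mulLeft k (∏ j ∈ Finset.univ.erase i, (X - C (r j)) ^ (a j + 1))))
    (V₁ : Submodule k (Polynomial k)) (hV₁ : V₁ ≤ V) (hfin : Module.finrank k ↥V₁ + 1 = N)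
    (hU : (Polynomial.degreeLT k (b - 2)).map (LinearMap.mulLeft k (∏ j, (X - C (r j)) ^ (a j + 1))) ⊔
      (⨆ i, (Polynomial.degreeLT k (a i)).map
        (LinearMap.mulLeft k (∏ j ∈ Finset.univ.erase i, (X - C (r j)) ^ (a j + 1)))) ≤ V₁) :
    (∀ i : Fin m, ∃ ε : ℕ, ε ≤ 1 ∧
      (∑ n ∈ Finset.range d, Module.finrank k ↥(V₁ ⊓ (Ideal.span {(X - C (r i)) ^ (n + 1)}).restrictScalars k)) + 1 =
        (N - 1).choose 2 + (N - a i) + ε) ∧
    (∃ ε : ℕ, ε ≤ 1 ∧
      (∑ n ∈ Finset.range d, Module.finrank k ↥(V₁ ⊓ Polynomial.degreeLT k (d - n))) =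
        (N - 1).choose 2 + (N - b) + (N - 2) + ε) := by
  classical
  obtain rfl : V = Groth.L28.PolarOrders.V r a b := hV
  have hd' : d + 1 = N + m := by
    rw [hd, hN, Finset.sum_add_distrib]; simp; omega
  have hm0 : m = 0 → ∑ j, a j = 0 := fun h => by subst h; simp
  have hai : ∀ i, a i ≤ ∑ j, a j := fun i => Finset.single_le_sum (fun j _ => Nat.zero_le _) (Finset.mem_univ i)
  let Ainf := Groth.L28.PolarOrders.adaptedInf r a hr b N d hN hd'
  let Apt := fun i => Groth.L28.PolarOrders.adaptedAt r a hr b N hN i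
  have hcard : ∀ e, e ≤ N → ((Finset.range (N + 1)).erase e).card = N := fun e he => by
    rw [Finset.card_erase_of_mem (Finset.mem_range.2 (by omega)), Finset.card_range, Nat.add_sub_cancel]
  have hfin' := hfin
  have hle := hV₁
  let M := (∑ j, a j) + (b - 2)
  have hU' : (Polynomial.degreeLT k (M + 1)).map (Groth.L28.PolarOrders.Φ r a) ≤ V₁ := by
    rw [← Groth.L28.PolarOrders.V_eq r a hr (b - 2)]; exact hU
  have hpt : ∀ i : Fin m, ¬ Groth.L28.PolarOrders.V r a b ⊓
      (Ideal.span {(X - C (r i)) ^ (N - 1)}).restrictScalars k ≤ V₁ := fun i hc => by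
    rw [(Apt i).inf_eq (N - 1)] at hc
    have hVle : Groth.L28.PolarOrders.V r a b ≤ V₁ := by
      refine (Apt i).span.trans (Submodule.span_le.2 ?_)
      rintro _ ⟨s, hs, rfl⟩
      rcases Nat.lt_or_ge M s with h | h
      · exact hc (Submodule.subset_span ⟨s, Finset.mem_filter.2 ⟨hs, by omega⟩, rfl⟩)
      · refine hU' ⟨_, Polynomial.mem_degreeLT.2 ?_, rfl⟩
        rw [degree_pow, degree_X_sub_C, nsmul_one]
        exact_mod_cast (show s < M + 1 by omega)
    rw [le_antisymm hV₁ hVle, Ainf.finrank_eq, hcard b (by omega)] at hfin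
    omega
  refine ⟨fun i => ?_, ?_⟩
  · have hi := hai i
    have hm : 0 < m := Nat.lt_of_le_of_lt (Nat.zero_le _) i.2
    obtain ⟨o, ho, hsum, hge, -⟩ := (Apt i).sum_hyperplane V₁ hle (by rw [hcard _ (by omega)]; exact hfin') d
      (fun s hs => by have := Finset.mem_range.1 (Finset.mem_erase.1 hs).2; omega)
    have hoN : o ≤ N := Nat.lt_succ_iff.1 (Finset.mem_range.1 (Finset.mem_erase.1 ho).2)
    have hlow : N - 1 ≤ o := hge (N - 1) (hpt i)
    have hs := Groth.L28.PolarOrders.sum_erase_range N (a i) (by omega) (by omega)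
    exact ⟨N - o, by omega, by omega⟩
  · obtain ⟨o, ho, hsum, hge, hlt⟩ := Ainf.sum_hyperplane V₁ hle (by rw [hcard _ (by omega)]; exact hfin') d
      (fun s hs => by
        have h1 := Finset.mem_range.1 (Finset.mem_erase.1 hs).2
        have h2 := (Finset.mem_erase.1 hs).1
        rcases Nat.eq_zero_or_pos m with h | h
        · have := hm0 h; omega
        · omega)
    have hoN : o ≤ N := Nat.lt_succ_iff.1 (Finset.mem_range.1 (Finset.mem_erase.1 ho).2)
    have hob : o ≠ b := (Finset.mem_erase.1 ho).1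
    have hs := Groth.L28.PolarOrders.sum_erase_range N b (by omega) (by omega)
    have hg : ∑ n ∈ Finset.range d, Module.finrank k ↥(V₁ ⊓ Polynomial.degreeLT k (d - n)) + o =
        ∑ s ∈ (Finset.range (N + 1)).erase b, s := by
      rw [← hsum]
      refine congrArg (· + o) (Finset.sum_congr rfl fun n _ => ?_)
      exact congrArg (fun c => Module.finrank k ↥(V₁ ⊓ Polynomial.degreeLT k c)) (by omega)
    have hup : o < 2 := by
      refine hlt 2 ?_
      rw [Ainf.inf_eq 2, Submodule.span_le]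
      rintro _ ⟨s, hs, rfl⟩
      obtain ⟨hs1, hs2⟩ := Finset.mem_filter.1 (Finset.mem_coe.1 hs)
      refine hU' ⟨_, Polynomial.mem_degreeLT.2 ?_, rfl⟩
      rw [degree_X_pow]
      exact_mod_cast (show N - s < M + 1 by omega)
    rcases Nat.lt_or_ge N 2 with hN2 | hN2
    · exact ⟨0, Nat.zero_le _, by omega⟩
    · exact ⟨1 - o, by omega, by omega⟩

end Groth.Agent.S17244
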