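import Groth.Statements.S17245
import Groth.Agent.L15.Wronskian
import Mathlib.Tactic.Ring
import Mathlib.Tactic.LinearCombination
import Mathlib.Tactic.FieldSimp
import Mathlib.Algebra.BigOperators.Ring.Finset

set_option autoImplicit false
open W4c4effdivwronsk2

namespace Groth.Agent.S17245

open Polynomial in
/-- Let `k` be a field of characteristic zero and take, on the projective line over `k`, the point `∞`
and `m` further distinct points `r_1, …, r_m` of the affine line, with positive integers `b` (at
`∞`) and `a_1, …, a_m`; put `N = b + ∑ a_j`. The sum of the spaces of differentials with a single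
pole, of order at most `b + 1` at `∞`, resp. at most `a_j + 1` at `r_j`, `V = H⁰(ω((b+1)∞)) + ∑_j
H⁰(ω((a_j+1)r_j)) ⊆ H⁰(ω((b+1)∞ + ∑_j (a_j+1)r_j)) ≅ H⁰(O(d))`, `d = b - 1 + ∑ (a_j+1)`, becomes,
after multiplying by `dX⁻¹ ∏_j (X - r_j)^(a_j+1)`, the subspace of `k[X]_{≤ d}` spanned by
`D·k[X]_{<b}` and the `D_i·k[X]_{<a_i}`, where `D = ∏_j (X - r_j)^(a_j+1)` and `D_i` omits the
`i`-th factor; a member `h` vanishes to order `n` at a point `q` of the affine line when `(X - q)^n
∣ h`, and to order `d - deg h` at `∞`. Let `p` be a further point of the affine line, distinct from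
the `r_j`, and `V₁ = V(-p)` the members divisible by `X - p`, an `(N-1)`-dimensional system in the
line bundle twisted down by `p` (its vanishing orders at points `q ≠ p`, and at `∞`, are read off
exactly as for `V`; at `p` itself they are one less than the order of divisibility by `X - p`). Then
`dim V₁ = N - 1`, the point `p` is not a ramification point of `V₁` (no nonzero member of `V₁` is
divisible by `(X - p)^N`), and `V₁` has at most one ramification point off the marked points, a
simple one: at every `q` other than `p` and the `r_j`, no nonzero member is divisible by `(X - q)^N`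
and at most a line of members is divisible by `(X - q)^(N-2)`, and at most one such `q` has a
nonzero member divisible by `(X - q)^(N-1)`. (The published statement is over the complex numbers
with all points arbitrary; one marked point is placed at `∞` here and `p` is taken distinct from the
marked points.) -/
theorem result
    (k : Type*) [Field k] [CharZero k] (m : ℕ) (r : Fin m → k) (hr : Function.Injective r)
    (a : Fin m → ℕ) (ha : ∀ j, 1 ≤ a j) (b : ℕ) (hb : 1 ≤ b) (N d : ℕ)
    (hN : N = (∑ j, a j) + b) (hd : d + 1 = (∑ j, (a j + 1)) + b)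
    (V : Submodule k (Polynomial k))
    (hV : V = (Polynomial.degreeLT k b).map (LinearMap.mulLeft k (∏ j, (X - C (r j)) ^ (a j + 1))) ⊔
      ⨆ i, (Polynomial.degreeLT k (a i)).map
        (LinearMap.mulLeft k (∏ j ∈ Finset.univ.erase i, (X - C (r j)) ^ (a j + 1))))
    (p : k) (hp : ∀ j, p ≠ r j) (V₁ : Submodule k (Polynomial k))
    (hV₁ : V₁ = V ⊓ (Ideal.span {X - C p}).restrictScalars k) :
    Module.finrank k ↥V₁ + 1 = N ∧
    (V₁ ⊓ (Ideal.span {(X - C p) ^ N}).restrictScalars k) = ⊥ ∧
    (∀ q : k, (∀ j, q ≠ r j) → q ≠ p →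
      (V₁ ⊓ (Ideal.span {(X - C q) ^ N}).restrictScalars k) = ⊥ ∧
      Module.finrank k ↥(V₁ ⊓ (Ideal.span {(X - C q) ^ (N - 2)}).restrictScalars k) ≤ 1) ∧
    (∀ q q' : k, (∀ j, q ≠ r j) → q ≠ p → (∀ j, q' ≠ r j) → q' ≠ p →
      (V₁ ⊓ (Ideal.span {(X - C q) ^ (N - 1)}).restrictScalars k) ≠ ⊥ →
      (V₁ ⊓ (Ideal.span {(X - C q') ^ (N - 1)}).restrictScalars k) ≠ ⊥ → q = q') := by
  have hV' : V = Groth.L15.Wronskian.Im r a N := by
    rw [hV]
    refine le_antisymm (sup_le (Groth.L15.Wronskian.poly_part_le_Im (by omega))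
      (iSup_le fun i => Groth.L15.Wronskian.part_le_Im (by omega) i)) ?_
    rintro _ ⟨G, hG, rfl⟩
    exact Groth.L15.Wronskian.Φ_mem hr ((Groth.L15.Wronskian.mem_degreeLT_iff.1 hG).trans (by omega))
  rw [hV'] at hV₁
  exact Groth.L15.Wronskian.vanishing hr hb hN hp hV₁

end Groth.Agent.S17245
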