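import Groth.Statements.S17246
import Groth.Agent.L28.PolarOrders.Basic

set_option autoImplicit false
open W4c4effdivwronsk2

namespace Groth.Agent.S17246

open Polynomial in
/-- Let `k` be a field of characteristic zero and take, on the projective line over `k`, the point `∞`
and `m` further distinct points `r_1, …, r_m` of the affine line, with positive integers `b` (at
`∞`) and `a_1, …, a_m`; put `N = b + ∑ a_j`. The sum of the spaces of differentials with a single
pole, of order at most `b + 1` at `∞`, resp. at most `a_j + 1` at `r_j`, `V = H⁰(ω((b+1)∞)) + ∑_j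
H⁰(ω((a_j+1)r_j)) ⊆ H⁰(ω((b+1)∞ + ∑_j (a_j+1)r_j)) ≅ H⁰(O(d))`, `d = b - 1 + ∑ (a_j+1)`, becomes,
after multiplying by `dX⁻¹ ∏_j (X - r_j)^(a_j+1)`, the subspace of `k[X]_{≤ d}` spanned by
`D·k[X]_{<b}` and the `D_i·k[X]_{<a_i}`, where `D = ∏_j (X - r_j)^(a_j+1)` and `D_i` omits the
`i`-th factor; a member `h` vanishes to order `n` at a point `q` of the affine line when `(X - q)^n
∣ h`, and to order `d - deg h` at `∞`. Let `p` be a further point of the affine line, distinct from
the `r_j`, and `V₁ = V(-p)` the members divisible by `X - p` (an `(N-1)`-dimensional system in the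
line bundle twisted down by `p`, with vanishing orders at the marked points read off as for `V`).
With the weight of `V₁` at a marked point defined as `∑_{n=1}^{d} dim V₁(-n·point) - (N-1 choose
2)`: the weight at `r_i` is `∑_{j≠i} a_j + b - 1 + ε_i` and the weight at `∞` is `∑_j a_j - 1 + ε`,
with all `ε` in `{0, 1}`. (The published statement is over the complex numbers with all points
arbitrary; one marked point is placed at `∞` here and `p` is taken distinct from the marked points.) -/
theorem result
    (k : Type*) [Field k] [CharZero k] (m : ℕ) (r : Fin m → k) (hr : Function.Injective r)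
    (a : Fin m → ℕ) (ha : ∀ j, 1 ≤ a j) (b : ℕ) (hb : 1 ≤ b) (N d : ℕ)
    (hN : N = (∑ j, a j) + b) (hd : d + 1 = (∑ j, (a j + 1)) + b)
    (V : Submodule k (Polynomial k))
    (hV : V = (Polynomial.degreeLT k b).map (LinearMap.mulLeft k (∏ j, (X - C (r j)) ^ (a j + 1))) ⊔
      ⨆ i, (Polynomial.degreeLT k (a i)).map
        (LinearMap.mulLeft k (∏ j ∈ Finset.univ.erase i, (X - C (r j)) ^ (a j + 1))))
    (p : k) (hp : ∀ j, p ≠ r j) (V₁ : Submodule k (Polynomial k))
    (hV₁ : V₁ = V ⊓ (Ideal.span {X - C p}).restrictScalars k) :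
    (∀ i : Fin m, ∃ ε : ℕ, ε ≤ 1 ∧
      (∑ n ∈ Finset.range d, Module.finrank k ↥(V₁ ⊓ (Ideal.span {(X - C (r i)) ^ (n + 1)}).restrictScalars k)) + 1 =
        (N - 1).choose 2 + (N - a i) + ε) ∧
    (∃ ε : ℕ, ε ≤ 1 ∧
      (∑ n ∈ Finset.range d, Module.finrank k ↥(V₁ ⊓ Polynomial.degreeLT k (d - n))) + 1 =
        (N - 1).choose 2 + (N - b) + ε) := by
  classical
  obtain rfl : V = Groth.L28.PolarOrders.V r a b := hV
  have hd' : d + 1 = N + m := by
    rw [hd, hN, Finset.sum_add_distrib]; simp; omega
  have hm0 : m = 0 → ∑ j, a j = 0 := fun h => by subst h; simp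
  have hai : ∀ i, a i ≤ ∑ j, a j := fun i => Finset.single_le_sum (fun j _ => Nat.zero_le _) (Finset.mem_univ i)
  let Ainf := Groth.L28.PolarOrders.adaptedInf r a hr b N d hN hd'
  let Apt := fun i => Groth.L28.PolarOrders.adaptedAt r a hr b N hN i
  have hcard : ∀ e, e ≤ N → ((Finset.range (N + 1)).erase e).card = N := fun e he => by
    rw [Finset.card_erase_of_mem (Finset.mem_range.2 (by omega)), Finset.card_range, Nat.add_sub_cancel]
  have hmem : ∀ h : k[X], h ∈ V₁ ↔ h ∈ Groth.L28.PolarOrders.V r a b ∧ h.eval p = 0 := fun h => by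
    rw [hV₁, Submodule.mem_inf, Submodule.restrictScalars_mem, Ideal.mem_span_singleton, dvd_iff_isRoot]
    rfl
  have hle : V₁ ≤ Groth.L28.PolarOrders.V r a b := fun h hh => ((hmem h).1 hh).1
  have hinf : ¬ Groth.L28.PolarOrders.V r a b ⊓ Polynomial.degreeLT k (d + 1 - (N - 1)) ≤ V₁ := fun hc => by
    rw [Ainf.inf_eq (N - 1)] at hc
    have h0 : ∀ s, s ≤ N → N - 1 ≤ s → s ≠ b → (Groth.L28.PolarOrders.Φ r a (X ^ (N - s))).eval p = 0 :=
      fun s h1 h2 h3 => ((hmem _).1 (hc (Submodule.subset_span ⟨s, Finset.mem_filter.2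
        ⟨Finset.mem_erase.2 ⟨h3, Finset.mem_range.2 (by omega)⟩, h2⟩, rfl⟩))).2
    rcases Nat.eq_zero_or_pos m with h | h
    · have hA := hm0 h
      subst h
      have := h0 (N - 1) (by omega) le_rfl (by omega)
      rw [show N - (N - 1) = 1 by omega] at this
      simp [Groth.L28.PolarOrders.Φ_apply, Groth.L28.PolarOrders.R, Groth.L28.PolarOrders.S] at this
    · have hA : 1 ≤ ∑ j, a j := le_trans (ha ⟨0, h⟩) (hai _)
      have hN0 := h0 N le_rfl (by omega) (by omega)
      rw [Nat.sub_self] at hN0
      simp only [Groth.L28.PolarOrders.Φ_apply, pow_zero, derivative_one, mul_zero, zero_sub, mul_one, eval_neg,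
        neg_eq_zero] at hN0
      rcases eq_or_ne (∑ j, a j) 1 with h1 | h1
      · have hm1 : m = 1 := by
          have : m ≤ ∑ j, a j := by
            simpa using Finset.card_nsmul_le_sum Finset.univ (fun j => a j) 1 (fun j _ => ha j)
          omega
        subst hm1
        rw [Fin.sum_univ_one] at h1
        simp [Groth.L28.PolarOrders.S, h1] at hN0
      · have := h0 (N - 1) (by omega) le_rfl (by omega)
        rw [show N - (N - 1) = 1 by omega] at this
        simp [Groth.L28.PolarOrders.Φ_apply, hN0] at this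
        exact Groth.L28.PolarOrders.R_eval_ne r p hp this
  have hfin' : Module.finrank k ↥V₁ + 1 = N := by
    have hV : Module.finrank k (Groth.L28.PolarOrders.V r a b) = N := by rw [Ainf.finrank_eq, hcard b (by omega)]
    let W := Groth.L28.PolarOrders.V r a b
    let φ : W →ₗ[k] k := (Polynomial.leval p).comp W.subtype
    haveI : Module.Finite k W := Module.finite_of_finrank_pos (by rw [hV]; omega)
    have hr' : LinearMap.range φ = ⊤ := by
      refine ((IsSimpleOrder.eq_bot_or_eq_top _).resolve_left fun h => hinf fun x hx => (hmem x).2 ⟨hx.1, ?_⟩)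
      exact (Submodule.eq_bot_iff _).1 h _ ⟨⟨x, hx.1⟩, rfl⟩
    have h := LinearMap.finrank_range_add_finrank_ker φ
    rw [hr', finrank_top, Module.finrank_self, show Module.finrank k W = N from hV] at h
    have hk : (LinearMap.ker φ).map W.subtype = V₁ := by
      ext x
      rw [hmem, Submodule.mem_map]
      exact ⟨fun ⟨y, hy, hyx⟩ => hyx ▸ ⟨y.2, hy⟩, fun hx => ⟨⟨x, hx.1⟩, hx.2, rfl⟩⟩
    rw [← hk, Submodule.finrank_map_subtype_eq]
    omega
  have hpt : ∀ i : Fin m, ¬ Groth.L28.PolarOrders.V r a b ⊓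
      (Ideal.span {(X - C (r i)) ^ (N - 1)}).restrictScalars k ≤ V₁ := fun i hc => by
    have hi := hai i
    rw [(Apt i).inf_eq (N - 1)] at hc
    have h0 : ∀ s, s ≤ N → N - 1 ≤ s → s ≠ a i → (Groth.L28.PolarOrders.Φ r a ((X - C (r i)) ^ s)).eval p = 0 :=
      fun s h1 h2 h3 => ((hmem _).1 (hc (Submodule.subset_span ⟨s, Finset.mem_filter.2
        ⟨Finset.mem_erase.2 ⟨h3, Finset.mem_range.2 (by omega)⟩, h2⟩, rfl⟩))).2
    rcases eq_or_ne (a i) (N - 1) with h1 | h1
    · have hsplit : a i + ∑ j ∈ Finset.univ.erase i, a j = ∑ j, a j :=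
        Finset.add_sum_erase Finset.univ a (Finset.mem_univ i)
      have hm1 : m = 1 := by
        have : m - 1 ≤ ∑ j ∈ Finset.univ.erase i, a j := by
          simpa using Finset.card_nsmul_le_sum (Finset.univ.erase i) (fun j => a j) 1 (fun j _ => ha j)
        have := i.2
        omega
      subst hm1
      obtain rfl : i = 0 := Subsingleton.elim _ _
      have := h0 N le_rfl (by omega) (by omega)
      obtain ⟨c, hc'⟩ := Nat.exists_eq_add_of_le' (show 1 ≤ N by omega)
      rw [hc'] at this
      rw [hc', Nat.add_sub_cancel] at h1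
      have he : (p - r 0) ^ (c + 1) = 0 := by
        simp [Groth.L28.PolarOrders.Φ_apply, Groth.L28.PolarOrders.R, Groth.L28.PolarOrders.S, h1,
          derivative_X_sub_C_pow] at this
        linear_combination this
      exact pow_ne_zero _ (sub_ne_zero.2 (hp 0)) he
    · refine Groth.L28.PolarOrders.eval_ne r a p (r i) (hp i) hp (N - 1) (h0 _ (by omega) le_rfl (Ne.symm h1)) ?_
      rw [show N - 1 + 1 = N by omega]
      exact h0 N le_rfl (by omega) (by omega)
  refine ⟨fun i => ?_, ?_⟩
  · have hi := hai i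
    have hm : 0 < m := Nat.lt_of_le_of_lt (Nat.zero_le _) i.2
    obtain ⟨o, ho, hsum, hge, -⟩ := (Apt i).sum_hyperplane V₁ hle (by rw [hcard _ (by omega)]; exact hfin') d
      (fun s hs => by have := Finset.mem_range.1 (Finset.mem_erase.1 hs).2; omega)
    have hoN : o ≤ N := Nat.lt_succ_iff.1 (Finset.mem_range.1 (Finset.mem_erase.1 ho).2)
    have hlow : N - 1 ≤ o := hge (N - 1) (hpt i)
    have hs := Groth.L28.PolarOrders.sum_erase_range N (a i) (by omega) (by omega)
    exact ⟨N - o, by omega, by omega⟩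
  · obtain ⟨o, ho, hsum, hge, hlt⟩ := Ainf.sum_hyperplane V₁ hle (by rw [hcard _ (by omega)]; exact hfin') d
      (fun s hs => by
        have h1 := Finset.mem_range.1 (Finset.mem_erase.1 hs).2
        have h2 := (Finset.mem_erase.1 hs).1
        rcases Nat.eq_zero_or_pos m with h | h
        · have := hm0 h; omega
        · omega)
    have hoN : o ≤ N := Nat.lt_succ_iff.1 (Finset.mem_range.1 (Finset.mem_erase.1 ho).2)
    have hob : o ≠ b := (Finset.mem_erase.1 ho).1
    have hs := Groth.L28.PolarOrders.sum_erase_range N b (by omega) (by omega)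
    have hg : ∑ n ∈ Finset.range d, Module.finrank k ↥(V₁ ⊓ Polynomial.degreeLT k (d - n)) + o =
        ∑ s ∈ (Finset.range (N + 1)).erase b, s := by
      rw [← hsum]
      refine congrArg (· + o) (Finset.sum_congr rfl fun n _ => ?_)
      exact congrArg (fun c => Module.finrank k ↥(V₁ ⊓ Polynomial.degreeLT k c)) (by omega)
    have hlow : N - 1 ≤ o := hge (N - 1) hinf
    exact ⟨N - o, by omega, by omega⟩

end Groth.Agent.S17246
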