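import Groth.Statements.S17247
import Groth.Agent.L26.FF.GenusOne

set_option autoImplicit false
open FunFld

namespace Groth.Agent.S17247

open Groth.Agent.FF

/-- Let `K/k` be a function field of one variable of genus one over an algebraically closed field `k` of
characteristic zero (an elliptic curve `E`), `A` a place, and `g ≥ 3` an odd integer. Inside
`H⁰(O_E((2g-2)A)) = L((2g-2)A)` consider `V = L(gA)` (dimension `g`) and any hyperplane `V₁` of it
containing `L((g-2)A)`: `L((g-2)A) ⊆ V₁ ⊆ L(gA)`, `dim V₁ = g - 1`. Vanishing orders are those of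
sections of `O_E((2g-2)A)`: a member `f` vanishes to order at least `n` at a place `Q` when `f ∈
L((2g-2)A - nQ)`, and the weight of `V₁` at `Q` is `∑_{n=1}^{2g-2} dim (V₁ ∩ L((2g-2)A - nQ)) - (g-1
choose 2)` (the sum of the `g - 1` vanishing orders minus `0 + 1 + ⋯ + (g-2)`). Then the weight of
`V₁` at every place `Q ≠ A` is at most `2`. (The published statement is for a smooth elliptic curve
over the complex numbers and allows every odd positive `g`; for `g = 1` the inclusion `O(gA) ⊆
O((2g-2)A)` it uses fails, so `g ≥ 3` here.) -/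
theorem result
    (k K : Type*) [Field k] [IsAlgClosed k] [CharZero k] [Field K] [Algebra k K]
    (hK : FunFld.IsFunctionField k K) (hg1 : FunFld.genus k K = 1)
    (g : ℕ) (hodd : Odd g) (h3 : 3 ≤ g) (A : FunFld.Place k K)
    (V₁ : Submodule k K) (hlo : FunFld.L (Finsupp.single A ((g : ℤ) - 2)) ≤ V₁)
    (hhi : V₁ ≤ FunFld.L (Finsupp.single A (g : ℤ))) (hdim : Module.finrank k ↥V₁ + 1 = g)
    (Q : FunFld.Place k K) (hQ : Q ≠ A) :
    (∑ n ∈ Finset.range (2 * g - 2), Module.finrank k
        ↥(V₁ ⊓ FunFld.L (Finsupp.single A (2 * (g : ℤ) - 2) - Finsupp.single Q ((n : ℤ) + 1)))) ≤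
      (g - 1).choose 2 + 2 := by
  classical
  have hA := deg_eq_one hK A
  have hQ1 := deg_eq_one hK Q
  have hfinL := fun D => finite_L hK.1 (D : FunFld.Divisor k K)
  have hV1 : Module.Finite k V₁ := by
    have := hfinL (Finsupp.single A (g : ℤ))
    exact Submodule.finiteDimensional_of_le hhi
  obtain ⟨u, rfl⟩ : ∃ u, g = 2 * u + 3 := by
    obtain ⟨w, rfl⟩ := hodd
    exact ⟨w - 1, by omega⟩
  let E : ℕ → ℕ → FunFld.Divisor k K := fun m j => Finsupp.single A (m : ℤ) - Finsupp.single Q (j : ℤ)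
  have hdegE : ∀ m j, (E m j).deg = (m : ℤ) - j := fun m j => by
    rw [deg_sub, deg_single, deg_single, hA, hQ1]
    simp
  have hellE : ∀ m j, j < m → (Module.finrank k ↥(FunFld.L (E m j)) : ℤ) = (m : ℤ) - j := fun m j h => by
    have := ell_eq_of_deg_ge hK (D := E m j) (by rw [hdegE, hg1]; omega)
    rw [hdegE, hg1] at this
    simp only [FunFld.ell] at this
    omega
  have hEle : ∀ m m' j, m ≤ m' → FunFld.L (E m j) ≤ FunFld.L (Finsupp.single A (m' : ℤ)) := fun m m' j h => by
    refine L_mono fun R => ?_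
    simp only [E, Finsupp.sub_apply, Finsupp.single_apply]
    split_ifs <;> omega
  have hEinf : ∀ m j (x : K), x ∈ FunFld.L (E (m + 1) j) → x ∈ FunFld.L (Finsupp.single A (m : ℤ)) →
      x ∈ FunFld.L (E m j) := fun m j x hx hx' R => by
    by_cases hR : R = A
    · subst hR
      simpa [E, Finsupp.single_apply, hQ] using hx' R
    · simpa [E, Finsupp.single_apply, Ne.symm hR] using hx R
  have hnew : ∀ m j, j < m → ∃ x ∈ FunFld.L (E (m + 1) j), x ∉ FunFld.L (Finsupp.single A (m : ℤ)) :=
    fun m j hj => by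
    by_contra h
    push Not at h
    have hle : FunFld.L (E (m + 1) j) ≤ FunFld.L (E m j) := fun x hx => hEinf m j x hx (h x hx)
    have := hfinL (E m j)
    have h1 := Submodule.finrank_mono hle
    have h2 := hellE m j hj
    have h3 := hellE (m + 1) j (by omega)
    push_cast at h3
    omega
  -- a member of each of the two top pole orders forces everything
  have hkey : ∀ j, j + 2 ≤ 2 * u + 3 → FunFld.L (E (2 * u + 3) j) ≤ V₁ →
      FunFld.L (E (2 * u + 2) j) ≤ FunFld.L (Finsupp.single A ((2 * u + 1 : ℕ) : ℤ)) := fun j hj hsub => by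
    by_contra h
    obtain ⟨x, hx, hx'⟩ := SetLike.not_le_iff_exists.1 h
    obtain ⟨y, hy, hy'⟩ := hnew (2 * u + 2) j (by omega)
    have hlo' : FunFld.L (Finsupp.single A ((2 * u + 1 : ℕ) : ℤ)) ≤ V₁ := le_trans (le_of_eq (by
      congr 2; push_cast; ring)) hlo
    let W := V₁ ⊓ FunFld.L (Finsupp.single A ((2 * u + 2 : ℕ) : ℤ))
    have hxV : x ∈ V₁ := hsub (L_mono (fun R => by
      simp only [E, Finsupp.sub_apply, Finsupp.single_apply]; split_ifs <;> omega) hx)
    have hlt1 : FunFld.L (Finsupp.single A ((2 * u + 1 : ℕ) : ℤ)) < W := by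
      refine lt_of_le_of_ne (le_inf hlo' (L_mono fun R => ?_)) fun he => hx' ?_
      · simp only [Finsupp.single_apply]; split_ifs <;> omega
      · rw [he]; exact ⟨hxV, hEle _ _ _ le_rfl hx⟩
    have hlt2 : W < V₁ := lt_of_le_of_ne inf_le_left fun he => hy' (he.ge (hsub hy)).2
    have : Module.Finite k W := Submodule.finiteDimensional_of_le (inf_le_left : W ≤ V₁)
    have h1 := Submodule.finrank_lt_finrank_of_lt hlt1
    have h2 := Submodule.finrank_lt_finrank_of_lt hlt2
    have h3 := ell_single_g1 hK hg1 hA (2 * u + 1) (by omega)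
    simp only [FunFld.ell] at h3
    omega
  let T : ℕ → ℕ := fun j => Module.finrank k ↥(V₁ ⊓ FunFld.L (E (2 * u + 3) j))
  have hterm : ∀ n : ℕ, Module.finrank k ↥(V₁ ⊓ FunFld.L (Finsupp.single A (2 * ((2 * u + 3 : ℕ) : ℤ) - 2) -
      Finsupp.single Q ((n : ℤ) + 1))) = T (n + 1) := fun n => by
    have : V₁ ⊓ FunFld.L (Finsupp.single A (2 * ((2 * u + 3 : ℕ) : ℤ) - 2) - Finsupp.single Q ((n : ℤ) + 1)) =
        V₁ ⊓ FunFld.L (E (2 * u + 3) (n + 1)) := by
      ext x
      simp only [Submodule.mem_inf, E, Nat.cast_add, Nat.cast_one]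
      refine and_congr_right fun hx => ⟨fun h R => ?_, fun h => L_mono (fun R => ?_) h⟩
      · by_cases hR : R = A
        · subst hR
          simpa [Finsupp.single_apply, hQ] using hhi hx R
        · simpa [Finsupp.single_apply, Ne.symm hR] using h R
      · simp only [Finsupp.sub_apply, Finsupp.single_apply]; split_ifs <;> omega
    show _ = Module.finrank k _
    rw [this]
  have hTle : ∀ j, T j ≤ Module.finrank k ↥(FunFld.L (E (2 * u + 3) j)) := fun j => by
    have := hfinL (E (2 * u + 3) j)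
    exact Submodule.finrank_mono inf_le_right
  have hlow : ∀ n < 2 * u, T (n + 1) + n ≤ 2 * u + 1 := fun n hn => by
    have := hfinL (E (2 * u + 3) (n + 1))
    have hne : ¬ FunFld.L (E (2 * u + 3) (n + 1)) ≤ V₁ := fun hsub => by
      obtain ⟨x, hx, hx'⟩ := hnew (2 * u + 1) (n + 1) (by omega)
      exact hx' (hkey _ (by omega) hsub hx)
    have h1 := Submodule.finrank_lt_finrank_of_lt
      (lt_of_le_of_ne (inf_le_right : V₁ ⊓ FunFld.L (E (2 * u + 3) (n + 1)) ≤ _)
        fun he => hne (inf_eq_right.1 he))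
    have h2 := hellE (2 * u + 3) (n + 1) (by omega)
    show Module.finrank k ↥(V₁ ⊓ FunFld.L (E (2 * u + 3) (n + 1))) + n ≤ _
    omega
  have hT1 : T (2 * u + 1) ≤ 2 := by
    have := hTle (2 * u + 1); have := hellE (2 * u + 3) (2 * u + 1) (by omega); omega
  have hT2 : T (2 * u + 2) ≤ 1 := by
    have := hTle (2 * u + 2); have := hellE (2 * u + 3) (2 * u + 2) (by omega); omega
  have hzero : ∀ j, 2 * u + 3 < j → T j = 0 := fun j hj => by
    have := hTle j
    rw [L_eq_bot_of_deg_neg hK.1 (D := E (2 * u + 3) j) (by rw [hdegE]; omega), finrank_bot] at this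
    omega
  have hdiv : ∀ (m : ℕ) (w : K), w ≠ 0 → w ∈ FunFld.L (E m m) → ∀ R : FunFld.Place k K,
      R.ord w = -(E m m R) := fun m w hw0 hw R => by
    have h0 : 0 ≤ FunFld.div k w + E m m := fun R => by
      rw [Finsupp.add_apply, div_apply hK.1, Finsupp.zero_apply]
      have := (val_le_exp_iff R hw0).1 (hw R)
      omega
    have h1 := congrArg (fun D => D R) (eq_zero_of_deg_zero hK h0
      (by rw [deg_add, deg_div hK.1, hdegE]; simp))
    simp only [Finsupp.add_apply, div_apply hK.1, Finsupp.zero_apply] at h1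
    omega
  have hT3 : T (2 * u + 3) ≤ 1 := by
    by_contra hc
    have := hfinL (E (2 * u + 3) (2 * u + 3))
    have h1 := hTle (2 * u + 3)
    have h2 : FunFld.ell (E (2 * u + 3) (2 * u + 3)) ≤ 1 := ell_le_one_of_deg_le_one hK (by omega)
      (by rw [hdegE]; omega)
    simp only [FunFld.ell] at h2
    omega
  have hexcl : ¬ (2 ≤ T (2 * u + 1) ∧ 1 ≤ T (2 * u + 3)) := by
    rintro ⟨h1, h3⟩
    have := hfinL (E (2 * u + 3) (2 * u + 1))
    have h2 := hellE (2 * u + 3) (2 * u + 1) (by omega)
    have hsub : FunFld.L (E (2 * u + 3) (2 * u + 1)) ≤ V₁ := inf_eq_right.1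
      (Submodule.eq_of_le_of_finrank_le inf_le_right (by
        show _ ≤ T _
        omega))
    have hx := hkey _ (by omega) hsub
    have h4 := hellE (2 * u + 2) (2 * u + 1) (by omega)
    obtain ⟨x, hxE, hx0⟩ := Submodule.exists_mem_ne_zero_of_ne_bot
      (p := FunFld.L (E (2 * u + 2) (2 * u + 1))) fun he => by
        rw [he, finrank_bot] at h4; omega
    have hxu : x ∈ FunFld.L (E (2 * u + 1) (2 * u + 1)) := hEinf _ _ x hxE (hx hxE)
    obtain ⟨w, hw, hw0⟩ := Submodule.exists_mem_ne_zero_of_ne_bot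
      (p := FunFld.L (E (2 * u + 3) (2 * u + 3))) fun he => by
        have := hTle (2 * u + 3)
        rw [he, finrank_bot] at this; omega
    have hv0 : w * x⁻¹ ≠ 0 := mul_ne_zero hw0 (inv_ne_zero hx0)
    let z := x * ((w * x⁻¹) ^ u)⁻¹
    have hz0 : z ≠ 0 := mul_ne_zero hx0 (inv_ne_zero (pow_ne_zero u hv0))
    have hzord : ∀ R : FunFld.Place k K, R.ord z = -(E 1 1 R) := fun R => by
      simp only [z]
      rw [ord_mul R hx0 (inv_ne_zero (pow_ne_zero u hv0)), ord_inv, ord_pow R hv0,
        ord_mul R hw0 (inv_ne_zero hx0), ord_inv, hdiv _ x hx0 hxu R, hdiv _ w hw0 hw R]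
      simp only [E, Finsupp.sub_apply, Finsupp.single_apply]
      split_ifs <;> push_cast <;> ring
    have hzL : z ∈ FunFld.L (Finsupp.single A (1 : ℤ)) := fun R => by
      rw [val_le_exp_iff R hz0, hzord]
      simp only [E, Finsupp.sub_apply, Finsupp.single_apply]
      split_ifs <;> omega
    have hone : FunFld.L (Finsupp.single A (1 : ℤ)) = (1 : Submodule k K) := by
      rw [← L_zero hK]
      have := hfinL (Finsupp.single A (1 : ℤ))
      refine (Submodule.eq_of_le_of_finrank_le (L_mono fun R => ?_) ?_).symm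
      · simp only [Finsupp.single_apply, Finsupp.zero_apply]; split_ifs <;> omega
      · show FunFld.ell _ ≤ FunFld.ell _
        rw [ell_zero hK]
        exact (ell_single_g1 hK hg1 hA 1 le_rfl).le
    rw [hone] at hzL
    obtain ⟨c, hc⟩ := Submodule.mem_one.1 hzL
    have := hzord Q
    rw [← hc, ord_const] at this
    simp [E, Finsupp.single_apply, Ne.symm hQ] at this
  rw [Finset.sum_congr rfl (fun n _ => hterm n),
    show 2 * (2 * u + 3) - 2 = 2 * u + 3 + (2 * u + 1) by omega, Finset.sum_range_add,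
    Finset.sum_eq_zero (s := Finset.range (2 * u + 1)) (fun x _ => hzero _ (by omega)),
    Finset.sum_range_succ, Finset.sum_range_succ, Finset.sum_range_succ]
  have hsum : ∑ n ∈ Finset.range (2 * u), T (n + 1) ≤ ∑ n ∈ Finset.range (2 * u), (2 * u + 1 - n) :=
    Finset.sum_le_sum fun n hn => by
      rw [Finset.mem_range] at hn
      have := hlow n hn
      omega
  have htri : ∑ n ∈ Finset.range (2 * u), (2 * u + 1 - n) + 1 = (2 * u + 3 - 1).choose 2 := by
    have h1 : ∑ i ∈ Finset.range (2 * u + 2), (2 * u + 1 - i) = ∑ i ∈ Finset.range (2 * u + 2), i :=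
      Finset.sum_range_reflect (fun i => i) (2 * u + 2)
    rw [Finset.sum_range_succ, Finset.sum_range_succ, Finset.sum_range_id] at h1
    rw [show 2 * u + 3 - 1 = 2 * u + 2 by omega, Nat.choose_two_right]
    omega
  show _ + T (2 * u + 1) + T (2 * u + 2) + T (2 * u + 3) + 0 ≤ _
  omega

end Groth.Agent.S17247
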