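import Groth.Statements.S17248
import Groth.Agent.L26.FF.GenusOne

set_option autoImplicit false
open FunFld

namespace Groth.Agent.S17248

open Groth.Agent.FF

/-- Let `K/k` be a function field of one variable of genus one over an algebraically closed field `k` of
characteristic zero (an elliptic curve `E`), `A` a place, and `g ≥ 3` an integer. Inside
`H⁰(O_E((2g-2)A)) = L((2g-2)A)` consider `V = L(gA)` (dimension `g`) and any hyperplane `V₁` of it
containing `L((g-2)A)`: `L((g-2)A) ⊆ V₁ ⊆ L(gA)`, `dim V₁ = g - 1`. Vanishing orders are those of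
sections of `O_E((2g-2)A)`: a member `f` vanishes to order at least `n` at a place `Q` when `f ∈
L((2g-2)A - nQ)`, and the weight of `V₁` at `Q` is `∑_{n=1}^{2g-2} dim (V₁ ∩ L((2g-2)A - nQ)) - (g-1
choose 2)` (the sum of the `g - 1` vanishing orders minus `0 + 1 + ⋯ + (g-2)`). Then the weight of
`V₁` at `A` is `(g-1)² + ε` with `ε ∈ {0, 1}`. (The published statement is for a smooth elliptic
curve over the complex numbers and `g` odd positive; `g ≥ 3` here since the ambient inclusion needs
it; this row does not assume `g` odd.) -/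
theorem result
    (k K : Type*) [Field k] [IsAlgClosed k] [CharZero k] [Field K] [Algebra k K]
    (hK : FunFld.IsFunctionField k K) (hg1 : FunFld.genus k K = 1)
    (g : ℕ) (h3 : 3 ≤ g) (A : FunFld.Place k K)
    (V₁ : Submodule k K) (hlo : FunFld.L (Finsupp.single A ((g : ℤ) - 2)) ≤ V₁)
    (hhi : V₁ ≤ FunFld.L (Finsupp.single A (g : ℤ))) (hdim : Module.finrank k ↥V₁ + 1 = g) :
    ∃ ε : ℕ, ε ≤ 1 ∧
      (∑ n ∈ Finset.range (2 * g - 2), Module.finrank k
        ↥(V₁ ⊓ FunFld.L (Finsupp.single A (2 * (g : ℤ) - 2) - Finsupp.single A ((n : ℤ) + 1)))) =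
      (g - 1).choose 2 + (g - 1) ^ 2 + ε := by
  classical
  have hA := deg_eq_one hK A
  have hfinL := fun D => finite_L hK.1 (D : FunFld.Divisor k K)
  have hV1 : Module.Finite k V₁ := by
    have := hfinL (Finsupp.single A (g : ℤ))
    exact Submodule.finiteDimensional_of_le hhi
  obtain ⟨u, rfl⟩ : ∃ u, g = u + 3 := ⟨g - 3, by omega⟩
  -- the dimension of the members of pole order at most `m`
  let F : ℕ → ℕ := fun m => Module.finrank k ↥(V₁ ⊓ FunFld.L (Finsupp.single A (m : ℤ)))
  have hlt : ∀ m, m ≤ u + 1 → F m = max m 1 := fun m hm => by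
    have h1 : V₁ ⊓ FunFld.L (Finsupp.single A (m : ℤ)) = FunFld.L (Finsupp.single A (m : ℤ)) := by
      refine inf_eq_right.2 ((L_mono (fun R => ?_)).trans hlo)
      simp only [Finsupp.single_apply]
      split_ifs <;> omega
    show Module.finrank k ↥(V₁ ⊓ FunFld.L (Finsupp.single A (m : ℤ))) = _
    rw [h1]
    rcases m.eq_zero_or_pos with rfl | hm0
    · rw [Nat.cast_zero, Finsupp.single_zero]
      simpa [FunFld.ell] using ell_zero hK
    · rw [max_eq_left hm0]
      exact ell_single_g1 hK hg1 hA m hm0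
  have hge : ∀ m, u + 3 ≤ m → F m = u + 2 := fun m hm => by
    show Module.finrank k ↥(V₁ ⊓ FunFld.L (Finsupp.single A (m : ℤ))) = _
    rw [inf_eq_left.2 (hhi.trans (L_mono fun R => ?_))]
    · omega
    · simp only [Finsupp.single_apply]
      split_ifs <;> omega
  have hmid : u + 1 ≤ F (u + 2) ∧ F (u + 2) ≤ u + 2 := by
    refine ⟨?_, (Submodule.finrank_mono inf_le_left).trans (by omega)⟩
    have h1 := hlt (u + 1) le_rfl
    rw [max_eq_left (by omega)] at h1
    rw [← h1]
    refine Submodule.finrank_mono (inf_le_inf_left _ (L_mono fun R => ?_))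
    simp only [Finsupp.single_apply]
    split_ifs <;> omega
  refine ⟨F (u + 2) - (u + 1), by omega, ?_⟩
  have hterm : ∀ n ∈ Finset.range (2 * (u + 3) - 2),
      Module.finrank k ↥(V₁ ⊓ FunFld.L (Finsupp.single A (2 * ((u + 3 : ℕ) : ℤ) - 2) - Finsupp.single A ((n : ℤ) + 1))) =
        F (2 * (u + 3) - 2 - 1 - n) := fun n hn => by
    rw [Finset.mem_range] at hn
    show _ = Module.finrank k ↥(V₁ ⊓ FunFld.L (Finsupp.single A _))
    rw [← Finsupp.single_sub, show 2 * ((u + 3 : ℕ) : ℤ) - 2 - ((n : ℤ) + 1) = ((2 * (u + 3) - 2 - 1 - n : ℕ) : ℤ) by omega]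
  rw [Finset.sum_congr rfl hterm, Finset.sum_range_reflect F,
    show 2 * (u + 3) - 2 = (u + 2) + 1 + (u + 1) by omega, Finset.sum_range_add, Finset.sum_range_succ,
    Finset.sum_congr rfl (g := fun _ => u + 2) (fun x _ => hge (u + 2 + 1 + x) (by omega)), Finset.sum_const,
    Finset.card_range, smul_eq_mul]
  have hlow : ∑ x ∈ Finset.range (u + 2), F x = 1 + (u + 2).choose 2 := by
    rw [Finset.sum_range_succ', hlt 0 (by omega),
      Finset.sum_congr rfl (g := fun x => x + 1) (fun x hx => by
        rw [Finset.mem_range] at hx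
        rw [hlt (x + 1) (by omega), max_eq_left (by omega)])]
    have := Finset.sum_range_id (u + 2)
    rw [Finset.sum_range_succ', add_zero] at this
    rw [this, Nat.choose_two_right]
    simp [add_comm]
  rw [hlow, show u + 3 - 1 = u + 2 by omega]
  have h2 : F (u + 2) = u + 1 + (F (u + 2) - (u + 1)) := by omega
  generalize F (u + 2) - (u + 1) = ε at h2 ⊢
  rw [h2]
  ring

end Groth.Agent.S17248
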