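import Groth.Statements.S17249
import Groth.Agent.L26.FF.GenusTwo

set_option autoImplicit false
open FunFld

namespace Groth.Agent.S17249

open WithZero Groth.Agent.FF

/-- Let `K/k` be a function field of one variable of genus two over an algebraically closed field `k` of
characteristic zero (a smooth curve `X` of genus `2`), `C` a canonical divisor, `A` a place with
`ℓ(2A) = 1` (not a Weierstrass point), and `P`, `Q` places with `Q ≠ A`. Then `ℓ(C + 2A - P - 3Q) =
1` and `ℓ(C + 2A - P - Q) = 2` do not both hold: the two-dimensional complete system `H⁰(ω_X(2A -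
P))` (of degree `3`) has no point `Q ≠ A` of weight three. (The published statement concerns a
general pointed curve `(X, A)` of genus two over the complex numbers and a point `P` of `X`; this
row assumes only `ℓ(2A) = 1`.) -/
theorem result
    (k K : Type*) [Field k] [IsAlgClosed k] [CharZero k] [Field K] [Algebra k K]
    (hK : FunFld.IsFunctionField k K) (hg : FunFld.genus k K = 2)
    (C : FunFld.Divisor k K) (hC : FunFld.IsCanonical k K C)
    (A P Q : FunFld.Place k K) (hA : Module.finrank k ↥(FunFld.L (Finsupp.single A (2 : ℤ))) = 1) (hQ : Q ≠ A) :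
    ¬ (Module.finrank k ↥(FunFld.L (C + Finsupp.single A (2 : ℤ) - Finsupp.single P (1 : ℤ) - Finsupp.single Q (3 : ℤ))) = 1 ∧
       Module.finrank k ↥(FunFld.L (C + Finsupp.single A (2 : ℤ) - Finsupp.single P (1 : ℤ) - Finsupp.single Q (1 : ℤ))) = 2) := by
  classical
  rintro ⟨-, h2⟩
  obtain ⟨eC, dC⟩ := ell_canonical hK hC
  set D := C + Finsupp.single A (2 : ℤ) - Finsupp.single P (1 : ℤ) - Finsupp.single Q (1 : ℤ)
  have hD : FunFld.IsCanonical k K D := (isCanonical_iff hK D).2 ⟨by rw [hg]; exact h2, by
    rw [deg_sub, deg_sub, deg_add, deg_single, deg_single, deg_single, deg_eq_one hK, deg_eq_one hK,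
      deg_eq_one hK, dC, hg]; norm_num⟩
  obtain ⟨x, hx, hxD⟩ := isCanonical_sub hK hD hC
  have h : FunFld.div k x + Finsupp.single A (2 : ℤ) = Finsupp.single P (1 : ℤ) + Finsupp.single Q (1 : ℤ) := by
    have e : C = C + Finsupp.single A (2 : ℤ) - Finsupp.single P (1 : ℤ) - Finsupp.single Q (1 : ℤ) + FunFld.div k x := hxD
    rw [← sub_eq_zero] at e ⊢
    rw [← neg_eq_zero]
    convert e using 1
    abel
  have hpos : ∀ (R : FunFld.Place k K) (m : ℤ), 0 ≤ m → (0 : FunFld.Divisor k K) ≤ Finsupp.single R m := fun R m hm S => by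
    rw [Finsupp.zero_apply, Finsupp.single_apply]; split_ifs <;> omega
  have e := eq_of_equiv_of_ell_one hK (hpos A 2 (by norm_num)) (add_nonneg (hpos P 1 (by norm_num)) (hpos Q 1 (by norm_num))) hA hx h
  have := congrArg (fun E : FunFld.Divisor k K => E Q) e
  simp only [Finsupp.add_apply, Finsupp.single_eq_same, Finsupp.single_eq_of_ne hQ, Finsupp.single_apply] at this
  split_ifs at this <;> omega

end Groth.Agent.S17249
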