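import Groth.Statements.S1725
import Groth.Agent.L04.LC.CutoffCompletion

set_option autoImplicit false
universe u
open LocCoh

namespace Groth.Agent.S1725

/-- Let A be a universally catenary Noetherian local ring, I an ideal, M a finite A-module, and A', M'
the completions of A and M at the maximal ideal. Then s_{A', IA'}(M') ≤ s_{A,I}(M); and when A's
formal fibres satisfy (S_n), the completed invariant s_{A', IA'}(M') is at least min(n + 1,
s_{A,I}(M)). -/
theorem result (A : Type u) [CommRing A] [IsLocalRing A] [IsNoetherianRing A] (hA : CAlg.IsUniversallyCatenary A) (I : Ideal A) (M : Type u) [AddCommGroup M] [Module A M] [Module.Finite A M] (n : ℕ) : Dual2.cutoff (AdicCompletion (IsLocalRing.maximalIdeal A) A) (I.map (algebraMap A (AdicCompletion (IsLocalRing.maximalIdeal A) A))) (AdicCompletion (IsLocalRing.maximalIdeal A) M) ≤ Dual2.cutoff A I M ∧ (EGA4.HasSnFormalFibres n A → min ((n : ℕ∞) + 1) (Dual2.cutoff A I M) ≤ Dual2.cutoff (AdicCompletion (IsLocalRing.maximalIdeal A) A) (I.map (algebraMap A (AdicCompletion (IsLocalRing.maximalIdeal A) A))) (AdicCompletion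 (IsLocalRing.maximalIdeal A) M)) := by

    exact ⟨Groth.L04.CutoffCpl.cutoff_completion_le I M hA,
      Groth.L04.CutoffCpl.min_le_cutoff_completion I M hA n⟩

end Groth.Agent.S1725
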