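import Groth.Statements.S17250
import Groth.Agent.L26.FF.GenusTwo

set_option autoImplicit false
open FunFld

namespace Groth.Agent.S17250

open WithZero Groth.Agent.FF

/-- Let `K/k` be a function field of one variable of genus two over an algebraically closed field `k` of
characteristic zero (a smooth curve `X` of genus `2`), `C` a canonical divisor, `A` a place with
`ℓ(2A) = 1`, and `P`, `Q` places different from `A`. Then `ℓ(C + 3A - P - 4Q) = 1` and `ℓ(C + 3A - P
- 2Q) = 2` do not both hold (the three-dimensional complete system `H⁰(ω_X(3A - P))`, of degree `4`,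
has no point `Q ≠ A` with two independent sections vanishing to order at least `2` there and one
vanishing to order at least `4`). (The published statement concerns a general pointed curve `(X, A)`
of genus two over the complex numbers and a point `P ≠ A`; this row assumes `ℓ(2A) = 1` in place of
generality.) -/
theorem result
    (k K : Type*) [Field k] [IsAlgClosed k] [CharZero k] [Field K] [Algebra k K]
    (hK : FunFld.IsFunctionField k K) (hg : FunFld.genus k K = 2)
    (C : FunFld.Divisor k K) (hC : FunFld.IsCanonical k K C)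
    (A P Q : FunFld.Place k K) (hA : Module.finrank k ↥(FunFld.L (Finsupp.single A (2 : ℤ))) = 1) (hP : P ≠ A) (hQ : Q ≠ A) :
    ¬ (Module.finrank k ↥(FunFld.L (C + Finsupp.single A (3 : ℤ) - Finsupp.single P (1 : ℤ) - Finsupp.single Q (4 : ℤ))) = 1 ∧
       Module.finrank k ↥(FunFld.L (C + Finsupp.single A (3 : ℤ) - Finsupp.single P (1 : ℤ) - Finsupp.single Q (2 : ℤ))) = 2) := by
  classical
  rintro ⟨h1, h2⟩
  obtain ⟨eC, dC⟩ := ell_canonical hK hC
  obtain ⟨z, hz, hzD⟩ := principal_of_deg_zero hK (D := C + Finsupp.single A (3 : ℤ) - Finsupp.single P (1 : ℤ) - Finsupp.single Q (4 : ℤ))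
    (by rw [deg_sub, deg_sub, deg_add, deg_single, deg_single, deg_single, deg_eq_one hK, deg_eq_one hK,
      deg_eq_one hK, dC, hg]; norm_num) (by show 0 < Module.finrank k _; omega)
  have hD : FunFld.IsCanonical k K (C + Finsupp.single A (3 : ℤ) - Finsupp.single P (1 : ℤ) - Finsupp.single Q (2 : ℤ)) :=
    (isCanonical_iff hK _).2 ⟨by rw [hg]; exact h2, by
    rw [deg_sub, deg_sub, deg_add, deg_single, deg_single, deg_single, deg_eq_one hK, deg_eq_one hK,
      deg_eq_one hK, dC, hg]; norm_num⟩
  obtain ⟨x, hx, hxD⟩ := isCanonical_sub hK hC hD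
  -- `3A - P` is canonical
  have hsq : FunFld.div k (z * x * x) = FunFld.div k z + FunFld.div k x + FunFld.div k x := by
    rw [div_mul hK.1 (mul_ne_zero hz hx) hx, div_mul hK.1 hz hx]
  have h : Finsupp.single A (3 : ℤ) - Finsupp.single P (1 : ℤ) = C + FunFld.div k (z * x * x) := by
    refine Finsupp.ext fun R => ?_
    have e1 := congrArg (fun E : FunFld.Divisor k K => E R) hzD
    have e2 := congrArg (fun E : FunFld.Divisor k K => E R) hxD
    rw [hsq]
    simp only [Finsupp.add_apply, Finsupp.sub_apply, Finsupp.zero_apply, Finsupp.single_apply] at e1 e2 ⊢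
    split_ifs at e1 e2 ⊢ <;> omega
  have hl : FunFld.ell (Finsupp.single A (3 : ℤ) - Finsupp.single P (1 : ℤ)) = 2 := by
    rw [h, ell_add_div hK C (mul_ne_zero (mul_ne_zero hz hx) hx), eC, hg]
  have h3 : FunFld.ell (Finsupp.single A (3 : ℤ) : FunFld.Divisor k K) = 2 := by
    have := ell_eq_of_deg_ge hK (D := Finsupp.single A (3 : ℤ)) (by rw [deg_single, deg_eq_one hK, hg]; norm_num)
    rw [deg_single, deg_eq_one hK, hg] at this
    omega
  haveI := finite_L hK.1 (Finsupp.single A (3 : ℤ))
  have hle : (Finsupp.single A (3 : ℤ) - Finsupp.single P (1 : ℤ) : FunFld.Divisor k K) ≤ Finsupp.single A (3 : ℤ) := fun R => by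
    simp only [Finsupp.sub_apply, Finsupp.single_apply]; split_ifs <;> omega
  have heq := Submodule.eq_of_le_of_finrank_le (L_mono hle) (le_of_eq (h3.trans hl.symm))
  have h1' : (1 : K) ∈ FunFld.L (Finsupp.single A (3 : ℤ) - Finsupp.single P (1 : ℤ)) := by
    rw [heq]
    exact one_mem_L_of_nonneg fun R => by rw [Finsupp.zero_apply, Finsupp.single_apply]; split_ifs <;> omega
  have := (mem_L_iff_ord one_ne_zero).1 h1' P
  rw [show P.ord (1 : K) = 0 from (val_eq_one_iff P one_ne_zero).1 (map_one _), Finsupp.sub_apply,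
    Finsupp.single_eq_of_ne hP, Finsupp.single_eq_same] at this
  omega

end Groth.Agent.S17250
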