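import Groth.Statements.S17251
import Groth.Agent.L26.FF.GenusTwo

set_option autoImplicit false
open FunFld

namespace Groth.Agent.S17251

open WithZero Groth.Agent.FF

/-- Let `K/k` be a function field of one variable of genus two over an algebraically closed field `k` of
characteristic zero (a smooth curve `Y` of genus `2`), `C` a canonical divisor, `B` a place with
`ℓ(2B) = 1` (not a Weierstrass point) and `Q ≠ B` a place. Then `ℓ(C + B - 2Q) = 1` and `ℓ(C + 3B -
4Q) = 1` do not both hold: the complete systems `H⁰(ω_Y(B))` (dimension `2`, degree `3`) and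
`H⁰(ω_Y(3B))` (dimension `4`, degree `5`) have no ramification point in common on `Y` minus `B`.
(The published statement concerns a general pointed curve `(Y, B)` of genus two over the complex
numbers; this row assumes only `ℓ(2B) = 1`.) -/
theorem result
    (k K : Type*) [Field k] [IsAlgClosed k] [CharZero k] [Field K] [Algebra k K]
    (hK : FunFld.IsFunctionField k K) (hg : FunFld.genus k K = 2)
    (C : FunFld.Divisor k K) (hC : FunFld.IsCanonical k K C)
    (B Q : FunFld.Place k K) (hB : Module.finrank k ↥(FunFld.L (Finsupp.single B (2 : ℤ))) = 1) (hQ : Q ≠ B) :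
    ¬ (Module.finrank k ↥(FunFld.L (C + Finsupp.single B (1 : ℤ) - Finsupp.single Q (2 : ℤ))) = 1 ∧
       Module.finrank k ↥(FunFld.L (C + Finsupp.single B (3 : ℤ) - Finsupp.single Q (4 : ℤ))) = 1) := by
  classical
  rintro ⟨h1, h2⟩
  obtain ⟨eC, dC⟩ := ell_canonical hK hC
  have hd : ∀ R : FunFld.Place k K, (R.deg : ℤ) = 1 := fun R => by rw [deg_eq_one hK, Nat.cast_one]
  -- effective representatives
  obtain ⟨u, hu, hu0⟩ := exists_ne_zero_of_ell_pos (D := C + Finsupp.single B (1 : ℤ) - Finsupp.single Q (2 : ℤ)) (by show 0 < Module.finrank k _; omega)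
  obtain ⟨w, hw, hw0⟩ := exists_ne_zero_of_ell_pos (D := C + Finsupp.single B (3 : ℤ) - Finsupp.single Q (4 : ℤ)) (by show 0 < Module.finrank k _; omega)
  obtain ⟨R, -, hR⟩ := exists_single_of_deg_one hK ((mem_L_iff_div hK.1 hu0).1 hu)
    (by rw [deg_add, deg_div hK.1, deg_sub, deg_add, deg_single, deg_single, hd, hd, dC, hg]; norm_num)
  obtain ⟨S, -, hS⟩ := exists_single_of_deg_one hK ((mem_L_iff_div hK.1 hw0).1 hw)
    (by rw [deg_add, deg_div hK.1, deg_sub, deg_add, deg_single, deg_single, hd, hd, dC, hg]; norm_num)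
  have hpos : ∀ (R : FunFld.Place k K) (m : ℤ), 0 ≤ m → (0 : FunFld.Divisor k K) ≤ Finsupp.single R m := fun R m hm S => by
    rw [Finsupp.zero_apply, Finsupp.single_apply]; split_ifs <;> omega
  have e1 := fun T : FunFld.Place k K => congrArg (fun E : FunFld.Divisor k K => E T) hR
  have e2 := fun T : FunFld.Place k K => congrArg (fun E : FunFld.Divisor k K => E T) hS
  simp only [Finsupp.add_apply, Finsupp.sub_apply] at e1 e2
  have hq : w⁻¹ * u * u ≠ 0 := mul_ne_zero (mul_ne_zero (inv_ne_zero hw0) hu0) hu0
  have hqd : FunFld.div k (w⁻¹ * u * u) = -FunFld.div k w + FunFld.div k u + FunFld.div k u := by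
    rw [div_mul hK.1 (mul_ne_zero (inv_ne_zero hw0) hu0) hu0, div_mul hK.1 (inv_ne_zero hw0) hu0, div_inv hK.1]
  -- `C + S ~ 2R + B`
  have hCS : FunFld.div k (w⁻¹ * u * u) + (C + Finsupp.single S 1) = Finsupp.single R 2 + Finsupp.single B 1 := by
    refine Finsupp.ext fun T => ?_
    have := e1 T
    have := e2 T
    rw [hqd]
    simp only [Finsupp.add_apply, Finsupp.neg_apply, Finsupp.single_apply] at *
    split_ifs at * <;> omega
  have hSm := base_point hK hg hC S hq (add_nonneg (hpos R 2 (by norm_num)) (hpos B 1 (by norm_num))) hCS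
  rcases eq_or_ne S B with rfl | hSB
  · have hCB : FunFld.div k u + (C + Finsupp.single S 1) = Finsupp.single Q 2 + Finsupp.single R 1 := by
      refine Finsupp.ext fun T => ?_
      have := e1 T
      simp only [Finsupp.add_apply, Finsupp.single_apply] at *
      split_ifs at * <;> omega
    have hm := base_point hK hg hC S hu0 (add_nonneg (hpos Q 2 (by norm_num)) (hpos R 1 (by norm_num))) hCB
    rw [Finsupp.add_apply, Finsupp.single_eq_of_ne (Ne.symm hQ), zero_add, Finsupp.single_apply] at hm
    split_ifs at hm with h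
    swap
    · omega
    subst h
    have hl : FunFld.ell (Finsupp.single R 2 : FunFld.Divisor k K) = 2 := by
      rw [← hg, ← eC, ← ell_add_div hK C hq]
      congr 1
      refine Finsupp.ext fun T => ?_
      have := congrArg (fun E : FunFld.Divisor k K => E T) hCS
      simp only [Finsupp.add_apply, Finsupp.single_apply] at *
      split_ifs at * <;> omega
    exact absurd (hB.symm.trans hl) (by norm_num)
  · rw [Finsupp.add_apply, Finsupp.single_eq_of_ne hSB, add_zero, Finsupp.single_apply] at hSm
    split_ifs at hSm with h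
    swap
    · omega
    subst h
    have hv : w * u⁻¹ ≠ 0 := mul_ne_zero hw0 (inv_ne_zero hu0)
    have h2B : FunFld.div k (w * u⁻¹) + Finsupp.single B (2 : ℤ) = Finsupp.single Q 2 := by
      refine Finsupp.ext fun T => ?_
      have := e1 T
      have := e2 T
      rw [div_mul hK.1 hw0 (inv_ne_zero hu0), div_inv hK.1]
      simp only [Finsupp.add_apply, Finsupp.neg_apply, Finsupp.single_apply] at *
      split_ifs at * <;> omega
    have e := eq_of_equiv_of_ell_one hK (hpos B 2 (by norm_num)) (hpos Q 2 (by norm_num)) hB hv h2B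
    have := congrArg (fun E : FunFld.Divisor k K => E Q) e
    simp only [Finsupp.single_eq_same, Finsupp.single_eq_of_ne hQ] at this
    omega

end Groth.Agent.S17251
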