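import Groth.Statements.S17253
import Groth.Agent.L26.AV.Degree
import Groth.Agent.L26.AV.DimQF
import Groth.Agent.L13.UnramDegree

set_option autoImplicit false
universe u
open CategoryTheory CategoryTheory.Limits MonoidalCategory CartesianMonoidalCategory MonObj GrpObj AlgebraicGeometry
open AbVar

namespace Groth.Agent.S17253

open CategoryTheory CategoryTheory.Limits MonoidalCategory CartesianMonoidalCategory MonObj AlgebraicGeometry
theorem geomInt {k : Type u} [Field k] (A : Over (Spec (CommRingCat.of k))) [GrpObj A] [Smooth A.hom]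
    [GeometricallyConnected A.hom] : GeometricallyIntegral A.hom := by
  haveI : GeometricallyReduced A.hom :=
    ⟨fun L _ y W fst snd h =>
      haveI : Smooth snd := MorphismProperty.of_isPullback h ‹Smooth A.hom›
      Groth.Agent.AV.isReduced_of_smooth_field snd⟩
  haveI : ConnectedSpace A.left := GeometricallyConnected.connectedSpace_of_subsingleton A.hom
  exact Groth.Agent.AV.geometricallyIntegral_of_connected A

/-- Let k be a field and A, B abelian varieties over k (smooth proper k-group schemes with geometrically
connected fibres), f : A → B a homomorphism, g : B → A an isogeny (a homomorphism which is finite,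
flat and surjective) and d a nonzero integer with g ∘ f = [d]_A, the d-th power of the identity in
the group of endomorphisms of A. Then f is an isogeny as well — finite, flat and surjective — and f
∘ g = [d]_B. -/
theorem result (k : Type u) [Field k]
    (A B : Over (Spec (CommRingCat.of k)))
    [GrpObj A] [Smooth A.hom] [IsProper A.hom] [GeometricallyConnected A.hom]
    [GrpObj B] [Smooth B.hom] [IsProper B.hom] [GeometricallyConnected B.hom]
    (f : A ⟶ B) [IsMonHom f] (g : B ⟶ A) [IsMonHom g] [IsFinite g.left] [Flat g.left] [Surjective g.left]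
    (d : ℤ) (hd : d ≠ 0) (h : f ≫ g = 𝟙 A ^ d) :
    IsFinite f.left ∧ Flat f.left ∧ Surjective f.left ∧ g ≫ f = 𝟙 B ^ d := by
  haveI := geomInt A
  haveI := geomInt B
  haveI : IsCommMonObj A := isCommMonObj_of_isProper_of_geometricallyIntegral A
  haveI : IsCommMonObj B := isCommMonObj_of_isProper_of_geometricallyIntegral B
  haveI : IsIntegral A.left := GeometricallyIntegral.isIntegral_of_subsingleton A.hom
  haveI : IsIntegral B.left := GeometricallyIntegral.isIntegral_of_subsingleton B.hom
  haveI hlq : LocallyQuasiFinite (f.left ≫ g.left) := by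
    rw [← Over.comp_left, h]
    rcases Int.natAbs_eq d with e | e
    · rw [show (𝟙 A ^ d) = 𝟙 A ^ d.natAbs from (congrArg (𝟙 A ^ ·) e).trans (zpow_natCast _ _)]
      exact Groth.L08.Cube.locallyQuasiFinite_pow (A := A) (Int.natAbs_pos.2 hd)
    · have hι : (𝟙 A)⁻¹ ≫ (𝟙 A)⁻¹ = 𝟙 A := by simp [GrpObj.comp_inv]
      haveI : IsIso (𝟙 A)⁻¹ := ⟨⟨(𝟙 A)⁻¹, hι, hι⟩⟩
      haveI : IsIso ((𝟙 A)⁻¹ : A ⟶ A).left := inferInstanceAs (IsIso ((Over.forget _).map (𝟙 A)⁻¹))
      haveI := Groth.L08.Cube.locallyQuasiFinite_pow (A := A) (Int.natAbs_pos.2 hd)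
      have hneg : 𝟙 A ^ d = (𝟙 A)⁻¹ ≫ (𝟙 A ^ d.natAbs) := by
        conv_lhs => rw [e, zpow_neg, zpow_natCast]
        rw [MonObj.comp_pow, Category.comp_id, inv_pow]
      rw [hneg, Over.comp_left]
      infer_instance
  haveI : IsProper (f.left ≫ B.hom) := by rw [Over.w]; infer_instance
  haveI : IsProper f.left := IsProper.of_comp _ B.hom
  haveI : LocallyQuasiFinite f.left := LocallyQuasiFinite.of_comp f.left g.left
  haveI : IsFinite f.left := IsFinite.of_isProper_of_locallyQuasiFinite _
  have hdim : topologicalKrullDim A.left = topologicalKrullDim B.left := by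
    letI : A.left.Over (Spec (CommRingCat.of k)) := ⟨A.hom⟩
    letI : B.left.Over (Spec (CommRingCat.of k)) := ⟨B.hom⟩
    haveI : LocallyOfFiniteType (A.left ↘ Spec (CommRingCat.of k)) := inferInstanceAs (LocallyOfFiniteType A.hom)
    haveI : LocallyOfFiniteType (B.left ↘ Spec (CommRingCat.of k)) := inferInstanceAs (LocallyOfFiniteType B.hom)
    have hd' := Groth.L13.UnramDegree.dim_closure_image k (X := A.left) (Y := B.left) g.left (Over.w g)
      (genericPoint B.left)
    have hgen : g.left (genericPoint B.left) = genericPoint A.left := by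
      obtain ⟨x₀, hx₀⟩ := g.left.surjective (genericPoint A.left)
      have h' : g.left (genericPoint B.left) ⤳ g.left x₀ :=
        ((genericPoint_spec B.left).specializes trivial).map g.left.continuous
      rw [hx₀] at h'
      exact (h'.antisymm ((genericPoint_spec A.left).specializes trivial)).eq
    rw [hgen, (genericPoint_spec A.left).def, (genericPoint_spec B.left).def,
      IsHomeomorph.topologicalKrullDim_eq _ (Homeomorph.Set.univ B.left).isHomeomorph,
      IsHomeomorph.topologicalKrullDim_eq _ (Homeomorph.Set.univ A.left).isHomeomorph] at hd'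
    exact hd'.symm
  haveI : Surjective f.left := Groth.Agent.AV.surjective_of_isFinite_of_dim_eq A B f hdim
  haveI : Flat f.left := Groth.L08.FlatHom.flat_of_surjective A B f
  refine ⟨inferInstance, inferInstance, inferInstance, ?_⟩
  haveI : Epi f.left := Flat.epi_of_flat_of_surjective _
  haveI : Epi f := Over.epi_of_epi_left _
  rw [← cancel_epi f, ← Category.assoc, h, GrpObj.comp_zpow, Category.comp_id, GrpObj.zpow_comp,
    Category.id_comp]

end Groth.Agent.S17253
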