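import Groth.Statements.S17254
import Groth.Agent.L08.Cube.Field

set_option autoImplicit false
universe u
open CategoryTheory CategoryTheory.Limits MonoidalCategory CartesianMonoidalCategory AlgebraicGeometry
open PicF

namespace Groth.Agent.S17254

/-- Let k be a field and X, Y, Z schemes over k with k-rational points x₀, y₀, z₀; assume X is proper
and geometrically integral over k, Y is proper, geometrically reduced and geometrically connected
over k, and Z is of finite type and geometrically integral over k. Let L be an invertible module on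
X ×_k Y ×_k Z whose pullbacks to the slices {x₀} × Y × Z, X × {y₀} × Z and X × Y × {z₀} are all
trivial. Then L is trivial: isomorphic to the structure sheaf. -/
theorem result (k : Type u) [Field k]
    (X Y Z : Over (Spec (CommRingCat.of k)))
    [IsProper X.hom] [GeometricallyIntegral X.hom]
    [IsProper Y.hom] [GeometricallyReduced Y.hom] [GeometricallyConnected Y.hom]
    [LocallyOfFiniteType Z.hom] [QuasiCompact Z.hom] [GeometricallyIntegral Z.hom]
    (x₀ : 𝟙_ (Over (Spec (CommRingCat.of k))) ⟶ X) (y₀ : 𝟙_ (Over (Spec (CommRingCat.of k))) ⟶ Y)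
    (z₀ : 𝟙_ (Over (Spec (CommRingCat.of k))) ⟶ Z)
    (L : (X ⊗ Y ⊗ Z).left.Modules) (hL : PicF.IsInvertible L)
    (hx : Nonempty ((Scheme.Modules.pullback (lift (toUnit (Y ⊗ Z) ≫ x₀) (𝟙 (Y ⊗ Z))).left).obj L ≅ Coh.structureModule (Y ⊗ Z).left))
    (hy : Nonempty ((Scheme.Modules.pullback (lift (fst X Z) (lift (toUnit (X ⊗ Z) ≫ y₀) (snd X Z))).left).obj L ≅ Coh.structureModule (X ⊗ Z).left))
    (hz : Nonempty ((Scheme.Modules.pullback (lift (fst X Y) (lift (snd X Y) (toUnit (X ⊗ Y) ≫ z₀))).left).obj L ≅ Coh.structureModule (X ⊗ Y).left)) :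
    Nonempty (L ≅ Coh.structureModule (X ⊗ Y ⊗ Z).left) := by
  exact Groth.L08.Cube.cube_field X Y Z x₀ y₀ z₀ L hL hx hy hz

end Groth.Agent.S17254
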