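import Groth.Statements.S17255
import Groth.Agent.L26.AV.DimQF
import Groth.Agent.L26.AV.SmoothField

set_option autoImplicit false
universe u
open CategoryTheory CategoryTheory.Limits MonoidalCategory CartesianMonoidalCategory MonObj GrpObj AlgebraicGeometry
open AbVar

namespace Groth.Agent.S17255

/-- Let k be a field, A and B abelian varieties over k (smooth proper k-group schemes with geometrically
connected fibres) with dim A = dim B (Krull dimensions of the underlying spaces), and f : A → B a
homomorphism. Then flatness of f is equivalent to finiteness of f. -/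
theorem result (k : Type u) [Field k]
    (A B : Over (Spec (CommRingCat.of k)))
    [GrpObj A] [Smooth A.hom] [IsProper A.hom] [GeometricallyConnected A.hom]
    [GrpObj B] [Smooth B.hom] [IsProper B.hom] [GeometricallyConnected B.hom]
    (f : A ⟶ B) [IsMonHom f] (hdim : topologicalKrullDim A.left = topologicalKrullDim B.left) :
    Flat f.left ↔ IsFinite f.left := by
  haveI : GeometricallyReduced B.hom := Groth.Agent.AV.geometricallyReduced_of_smooth B.hom
  haveI : IsReduced B.left := Groth.Agent.AV.isReduced_of_smooth_field B.hom
  haveI : ConnectedSpace B.left := GeometricallyConnected.connectedSpace_of_subsingleton B.hom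
  haveI : IsProper (f.left ≫ B.hom) := (Over.w f).symm ▸ ‹IsProper A.hom›
  haveI : IsProper f.left := IsProper.of_comp f.left B.hom
  refine ⟨fun hfl => ?_, fun hfin => ?_⟩
  · haveI : IsLocallyNoetherian B.left := LocallyOfFiniteType.isLocallyNoetherian B.hom
    haveI : LocallyOfFinitePresentation f.left := Groth.L23.lfp_of_lft_locallyNoetherian _
    haveI : UniversallyOpen f.left := UniversallyOpen.of_flat f.left
    haveI : Surjective f.left := ⟨fun y => Set.eq_univ_iff_forall.1
      (IsClopen.eq_univ ⟨f.left.isClosedMap.isClosed_range, f.left.isOpenMap.isOpen_range⟩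
        ⟨_, η[A].left (IsLocalRing.closedPoint k), rfl⟩) y⟩
    haveI := Groth.Agent.AV.locallyQuasiFinite_of_surjective_of_dim_eq A B f hdim
    exact IsFinite.of_isProper_of_locallyQuasiFinite f.left
  · haveI := Groth.Agent.AV.surjective_of_isFinite_of_dim_eq A B f hdim
    exact Groth.L08.FlatHom.flat_of_surjective A B f

end Groth.Agent.S17255
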