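import Groth.Statements.S17258
import Groth.Agent.L21.NormRed.RatTree

set_option autoImplicit false
universe u
open Curves

namespace Groth.Agent.S17258

open CategoryTheory AlgebraicGeometry in
/-- Let Ω be an algebraically closed field of characteristic zero and let C be a scheme proper over Ω
which is connected, of dimension one and has at-worst-nodal singularities. Then the first cohomology
of the structure sheaf of C vanishes if and only if C is a rational tree: every irreducible
component of C is the image of a closed immersion of the projective line over Ω, and the number of
nodes of C plus one equals the number of irreducible components. (The source phrases the second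
condition as the absence of closed chains of components; for a connected nodal curve whose
components are projective lines the two conditions agree, a connected graph being a tree exactly
when it has one more vertex than edges. The source takes Ω an algebraically closed extension of the
complex numbers.) -/
theorem result (Ω : Type u) [Field Ω] [IsAlgClosed Ω] [CharZero Ω]
    (C : Scheme.{u}) [C.Over (Spec (CommRingCat.of Ω))] [IsProper (C ↘ Spec (CommRingCat.of Ω))]
    [ConnectedSpace ↥C] (hdim : topologicalKrullDim ↥C = 1) (hnod : Curv2.AtWorstNodal Ω C) :
    Curv2.genus Ω C = 0 ↔
      ((∀ E ∈ irreducibleComponents (↥C : Type u), CurvSt.IsSmRatComp Ω C (C ↘ Spec (CommRingCat.of Ω)) E) ∧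
        {x : ↥C | Curv2.IsNode Ω C x}.encard + 1 = (irreducibleComponents (↥C : Type u)).encard) := by
  exact Groth.L21.NormRed.genus_eq_zero_iff Ω hdim hnod

end Groth.Agent.S17258
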