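import Groth.Statements.S1726
import Groth.Agent.L04.LC.Codim
import Groth.Agent.L06.FiniteSupp
import Groth.Agent.L22.DimFormulaScheme
import Groth.Agent.L04.DepthLoc

set_option autoImplicit false
universe u
open LocCoh

namespace Groth.Agent.S1726

theorem height_eq {A B : Type u} [CommRing A] [CommRing B] [Algebra A B] [IsNoetherianRing A] [Module.Finite A B]
    (hA : CAlg.IsUniversallyCatenary A) (P Q : Ideal B) [P.IsPrime] [Q.IsPrime] (h : P ≤ Q) :
    (Q.map (Ideal.Quotient.mk P)).height =
      ((Q.comap (algebraMap A B)).map (Ideal.Quotient.mk (P.comap (algebraMap A B)))).height := by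
  let D := A ⧸ P.comap (algebraMap A B)
  let E := B ⧸ P
  let p' : Ideal D := (Q.comap (algebraMap A B)).map (Ideal.Quotient.mk _)
  let q' : Ideal E := Q.map (Ideal.Quotient.mk P)
  haveI : q'.IsPrime := Ideal.map_isPrime_of_surjective Ideal.Quotient.mk_surjective (by rw [Ideal.mk_ker]; exact h)
  haveI : p'.IsPrime := Ideal.map_isPrime_of_surjective Ideal.Quotient.mk_surjective
    (by rw [Ideal.mk_ker]; exact Ideal.comap_mono h)
  haveI : Module.Finite D E := Module.Finite.of_restrictScalars_finite A D E
  haveI : FaithfulSMul D E := (faithfulSMul_iff_algebraMap_injective D E).2 Ideal.algebraMap_quotient_injective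
  haveI : q'.LiesOver p' := ⟨by
    ext a
    obtain ⟨a, rfl⟩ := Ideal.Quotient.mk_surjective a
    rw [Ideal.mem_quotient_iff_mem (Ideal.comap_mono h)]
    show algebraMap A B a ∈ Q ↔ Ideal.Quotient.mk P (algebraMap A B a) ∈ q'
    rw [Ideal.mem_quotient_iff_mem h]⟩
  haveI : Algebra.IsIntegral D E := Algebra.IsIntegral.of_finite D E
  have h0 := (Groth.L22.DimFormula.dim_formula (R := D) (S := E) p' q').2
    (Groth.L22.DimFormula.isUniversallyCatenary_quotient hA _)
  haveI : Algebra.IsIntegral (D ⧸ p') (E ⧸ q') := Ideal.Quotient.algebra_isIntegral_of_liesOver q' p'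
  rw [trdeg_eq_zero, trdeg_eq_zero, add_zero, add_zero] at h0
  exact Cardinal.ofENat_inj.1 h0

/-- Let A → B be a finite homomorphism of Noetherian rings with A universally catenary, I an ideal of A
and M a finite B-module. Then s_{B, IB}(M) = s_{A, I}(M), where M is regarded as an A-module by
restriction of scalars. -/
theorem result (A B : Type u) [CommRing A] [CommRing B] [Algebra A B] [IsNoetherianRing A] [IsNoetherianRing B] [Module.Finite A B] (hA : CAlg.IsUniversallyCatenary A) (I : Ideal A) (M : Type u) [AddCommGroup M] [Module B M] [Module A M] [IsScalarTower A B M] [Module.Finite B M] : Dual2.cutoff B (I.map (algebraMap A B)) M = Dual2.cutoff A I M := by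

    haveI : Module.Finite A M := Module.Finite.trans B M
    haveI : Algebra.IsIntegral A B := Algebra.IsIntegral.of_finite A B
    let c : PrimeSpectrum B → PrimeSpectrum A := PrimeSpectrum.comap (algebraMap A B)
    have hgeom : ∀ (P Q : PrimeSpectrum B) (h : P ≤ Q) (h' : c P ≤ c Q),
        Order.height (⟨Q, h⟩ : Set.Ici P) = Order.height (⟨c Q, h'⟩ : Set.Ici (c P)) := by
      intro P Q h h'
      rw [Groth.L04.LC.orderHeight_Ici P Q h, Groth.L04.LC.orderHeight_Ici (c P) (c Q) h']
      exact height_eq hA P.asIdeal Q.asIdeal h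
    unfold Dual2.cutoff
    refine le_antisymm ?_ ?_
    · refine le_iInf fun p => le_iInf fun q => le_iInf fun h => le_iInf fun hp => le_iInf fun hq => ?_
      rw [Groth.L06.FiniteSupp.depth_eq (A := A) (B := B) p.asIdeal, ENat.iInf_add]
      refine le_iInf fun P => ?_
      rw [ENat.iInf_add]
      refine le_iInf fun hP => ?_
      obtain ⟨Q₀, hPQ, hQ, hQc⟩ :=
        Ideal.exists_ideal_over_prime_of_isIntegral (S := B) q.asIdeal P.asIdeal (hP.1.trans_le h)
      have e₁ : c P = p := PrimeSpectrum.ext hP.1
      have e₂ : c ⟨Q₀, hQ⟩ = q := PrimeSpectrum.ext hQc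
      subst e₁ e₂
      refine le_trans (iInf_le_of_le P (iInf_le_of_le ⟨Q₀, hQ⟩ (iInf_le_of_le hPQ (iInf_le_of_le
        (fun hh => hp (Ideal.map_le_iff_le_comap.1 hh)) (iInf_le_of_le (Ideal.map_le_iff_le_comap.2 hq) le_rfl))))) ?_
      rw [hgeom P ⟨Q₀, hQ⟩ hPQ h]
    · refine le_iInf fun P => le_iInf fun Q => le_iInf fun h => le_iInf fun hP => le_iInf fun hQ => ?_
      have h' : c P ≤ c Q := Ideal.comap_mono h
      refine le_trans (iInf_le_of_le (c P) (iInf_le_of_le (c Q) (iInf_le_of_le h' (iInf_le_of_le
        (fun hh => hP (Ideal.map_le_iff_le_comap.2 hh)) (iInf_le_of_le (Ideal.map_le_iff_le_comap.1 hQ) le_rfl))))) ?_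
      rw [hgeom P Q h h']
      by_cases hs : P ∈ Module.support B M
      · refine add_le_add ?_ le_rfl
        rw [Groth.L06.FiniteSupp.depth_eq (A := A) (B := B) (c P).asIdeal]
        exact iInf₂_le (f := fun (q' : PrimeSpectrum B) _ =>
          LocCoh.depth (Localization.AtPrime q'.asIdeal) (LocalizedModule q'.asIdeal.primeCompl M)) P ⟨rfl, hs⟩
      · haveI : Subsingleton (LocalizedModule P.asIdeal.primeCompl M) := Module.notMem_support_iff.1 hs
        rw [show LocCoh.depth (Localization.AtPrime P.asIdeal) (LocalizedModule P.asIdeal.primeCompl M) = ⊤ from if_pos (Subsingleton.elim _ _), top_add]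
        exact le_top

end Groth.Agent.S1726
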