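import Groth.Statements.S17262
import Groth.Agent.L21.CurveAdj.Tree
import Groth.Agent.L21.CurveDual.Exists
import Groth.Agent.L21.Nodal.BaseChange

set_option autoImplicit false
set_option backward.isDefEq.respectTransparency false
set_option backward.isDefEq.respectTransparency.types false
universe u
open CategoryTheory CategoryTheory.Limits AlgebraicGeometry
attribute [local instance] HasDerivedCategory.standard
open Curves

namespace Groth.Agent.S17262

/-- Let Ω be an algebraically closed field of characteristic zero and C a scheme proper over Ω which is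
connected, of dimension one, at-worst-nodal, with vanishing first cohomology of the structure sheaf,
and with at most three nodes. Let ω be the dualizing module of C over Ω (via the upper-shriek
functor, whose existence is assumed) and ω' an O_C-module with ω' ⊗ ω ≅ O_C. Then ω ⊗ ω has no
nonzero global sections, the first cohomology of ω' vanishes, and the global sections of ω' form a
three-dimensional Ω-vector space. (The source states that for a family of such curves with at most
three nodes in each fibre the direct image of the inverse of the relative dualizing sheaf is locally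
free of rank three and commutes with base change; this row is the statement on each geometric fibre
from which that follows. The published statement is over the complex numbers; it is stated here over
any algebraically closed field of characteristic zero.) -/
theorem result (Ω : Type u) [Field Ω] [IsAlgClosed Ω] [CharZero Ω]
    (C : Scheme.{u}) [C.Over (Spec (CommRingCat.of Ω))] [IsProper (C ↘ Spec (CommRingCat.of Ω))] [ConnectedSpace ↥C]
    (hdim : topologicalKrullDim ↥C = 1) (hnod : Curv2.AtWorstNodal Ω C) (hg : Curv2.genus Ω C = 0)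
    (h3 : {x : ↥C | Curv2.IsNode Ω C x}.encard ≤ 3)
    [DCoh.HasRpush (C ↘ Spec (CommRingCat.of Ω))] (h : DCoh.RpushPreservesQCoh (C ↘ Spec (CommRingCat.of Ω))) [DCoh.HasShriek (C ↘ Spec (CommRingCat.of Ω)) h]
    (OY : DCoh.DQCoh (Spec (CommRingCat.of Ω))) (hOY : Nonempty (OY.obj ≅ DCoh.inD (Spec (CommRingCat.of Ω)) (Coh.structureModule (Spec (CommRingCat.of Ω)))))
    (ωd : C.Modules) (hωd : ClSub.IsInverseOf ωd (DCoh.dualizingMod (C ↘ Spec (CommRingCat.of Ω)) h OY 1)) :
    Subsingleton (Coh.HH C (CohB1.tensorPow (DCoh.dualizingMod (C ↘ Spec (CommRingCat.of Ω)) h OY 1) 2) 0) ∧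
      Subsingleton (Coh.HH C ωd 1) ∧ Module.finrank Ω (Coh.HH C ωd 0) = 3 := by
  classical
  haveI : IsProper (C ↘ Spec (CommRingCat.of Ω)) := inferInstance
  haveI := Groth.L21.RR.isNoetherian_of_proper (X := C) Ω
  obtain ⟨t, ht⟩ := Groth.L21.CurveDual.exists_isRDual Ω hdim.le h OY hOY
  haveI := (Groth.L21.CurveAdj.nodal_reduced (k := Ω) hdim hnod).1
  obtain ⟨-, -, hgen, hs⟩ := Groth.L21.CurveAdj.nodal_setup (k := Ω) hdim Groth.L21.CurveAdj.h0_eq_one_of_connected hnod
  obtain ⟨S, hinv⟩ := hs _ t ht
  set ω := DCoh.dualizingMod (C ↘ Spec (CommRingCat.of Ω)) h OY 1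
  obtain ⟨e⟩ := hωd
  have hd' : PicF.IsInvertible ωd :=
    Groth.L16.NegPow.isInvertible_inverse hinv (Groth.L00.Tensor.tensorComm ω ωd ≪≫ e)
  have hcl : Groth.L21.Nodal.CurveLike C := by
    refine ⟨fun a b c hab hbc => ?_, fun x hx => ?_⟩
    · exact Groth.L21.RR.Top.spec_of_dim_le_one (X := C.toTopCat) hdim.le a b c hab hbc
    · obtain ⟨w, hw, hwx⟩ := hgen x
      exact ⟨w, fun e => hw (e ▸ hx), hwx⟩
  have hdO : ∀ J, Groth.L21.CurveAdj.degOn Ω (Coh.structureModule C) J = 0 := fun J => by
    have := Groth.L21.CurveAdj.degOn_pow (k := Ω) hdim.le hinv J 0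
    rw [Nat.cast_zero, zero_mul] at this
    exact this
  -- no `H¹` for the inverse
  have h1 : Subsingleton (Coh.HH C ωd 1) := by
    refine Groth.L21.CurveAdj.subsingleton_h1_of_euler_lt (k := Ω) hdim.le hd' fun J hred hconn hJ => ?_
    haveI := hred
    haveI := hconn
    obtain ⟨a, ha, he, hw⟩ := Groth.L21.CurveAdj.subcurve_card hnod S hgen hinv J hJ
    rw [hg, Nat.le_zero] at ha
    have hm : ((J.support : Set C) ∩ closure ((J.support : Set C)ᶜ)).encard ≤ 3 := by
      refine le_trans (Set.encard_le_encard fun x hx => ?_) h3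
      have hns : ∀ U : C.Opens, x ∈ U → ¬ Smooth (U.ι ≫ (C ↘ Spec (CommRingCat.of Ω))) :=
        Groth.L21.CurveAdj.notMem_smooth_of_inter (k := Ω) hgen hdim.le
          (Groth.L21.CurveAdj.van_of_isReduced hdim.le J (Groth.L21.CurveAdj.gen_of_dim_one J hJ)) hx.1 hx.2
      by_cases hxc : IsClosed ({x} : Set C)
      · exact (hnod x hxc).resolve_left fun ⟨U, hU, hsm⟩ => hns U hU hsm
      · obtain ⟨U, hU, hsm⟩ := Groth.L21.Nodal.exists_smooth_nhd_of_not_isClosed hcl hnod x hxc
        exact absurd hsm (hns U hU)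
    have hm' : ((J.support : Set C) ∩ closure ((J.support : Set C)ᶜ)).ncard ≤ 3 := by
      have := ENat.toNat_le_toNat hm (by simp)
      simpa [Set.ncard_def] using this
    have h2 := Groth.L21.CurveAdj.degOn_congr (k := Ω) e J
    rw [Groth.L21.CurveAdj.degOn_tensor hdim.le hd' hinv J, hdO, hw] at h2
    rw [he, ha]
    subst ha
    simp only [Nat.cast_zero] at h2 ⊢
    have : (((J.support : Set C) ∩ closure ((J.support : Set C)ᶜ)).ncard : ℤ) ≤ 3 := by exact_mod_cast hm'
    linarith
  refine ⟨?_, h1, ?_⟩
  · open Groth.L00.Tensor in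
    refine Groth.L21.CurveAdj.subsingleton_h0_of_dual S.hω hinv
      (L' := CohB1.tensorPow ωd 2) (Groth.L16.NegPow.powInvIso (tensorComm ω ωd ≪≫ e) 2)
      ((tensorUnitLeft ωd).symm ≪≫ tensorIso (e.symm ≪≫ tensorComm ωd ω) (Iso.refl ωd) ≪≫ tensorAssoc ω ωd ωd ≪≫
        tensorIso (Iso.refl ω) (tensorIso (tensorUnitLeft ωd).symm (Iso.refl ωd)))
      (Groth.L16.ProperFinite.isCoh_of_isInvertible hd').1 h1
  · have hdeg : Curv2.deg Ω C ωd 1 = 2 := by
      have h4 := Groth.L22.CurveDeg.deg_tensor_locFree Ω hdim.le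
        (Groth.L12.FinCov.isFinLocFreeOfRank_one_of_isInvertible hd')
        (Groth.L12.FinCov.isFinLocFreeOfRank_one_of_isInvertible hinv)
      rw [mul_one, Groth.L21.RR.deg_congr Ω e, show Curv2.deg Ω C (Coh.structureModule C) 1 = 0 by simp [Curv2.deg]] at h4
      have h5 : Curv2.deg Ω C ω 1 = -2 := by
        rw [Curv2.deg, Groth.L21.CurveDual.euler_eq_neg hdim.le S.hω S.assO, Groth.L21.RR.euler_eq Ω hdim.le,
          Groth.L21.CurveAdj.h0_eq_one_of_connected,
          show Groth.L21.RR.h Ω 1 (Coh.structureModule C) = 0 from hg]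
        norm_num
      push_cast at h4
      linarith
    have h6 := Groth.L21.RR.euler_eq Ω hdim.le ωd
    rw [Groth.L21.RR.h_eq_zero_of_subsingleton Ω h1] at h6
    rw [Curv2.deg, Groth.L21.RR.euler_eq Ω hdim.le (Coh.structureModule C),
      Groth.L21.CurveAdj.h0_eq_one_of_connected,
      show Groth.L21.RR.h Ω 1 (Coh.structureModule C) = 0 from hg, h6] at hdeg
    push_cast at hdeg
    change Groth.L21.RR.h Ω 0 ωd = 3
    omega

end Groth.Agent.S17262
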