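import Groth.Statements.S17266
import Groth.Agent.L09.StkTop
import Groth.Agent.L09.StkGlue
import Groth.Agent.L09.StkSetoid
import Groth.Agent.L09.FibHom
import Groth.Prelude.Def_W4stkalgstUpp
import Mathlib.CategoryTheory.Bicategory.Basic
import Mathlib.CategoryTheory.Localization.CalculusOfFractions

set_option autoImplicit false
open CategoryTheory
universe v u
open Stk

namespace Groth.Agent.S17266
open CategoryTheory Category Functor Limits Groth.L09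

/-- Let C be a category with a Grothendieck topology J and let F : 𝒳 → 𝒴, G : 𝒴 → 𝒵 be functors over C
between categories fibred in groupoids over C. Say that a functor H : 𝒜 → ℬ over C is covering when
for every object U of C and every functor b : C/U → ℬ over C there is a J-covering sieve of U such
that for each of its arrows h : V → U the composite of C/V → C/U with b is 2-isomorphic over C to H
∘ a for some functor a : C/V → 𝒜 over C (locally on the base every object of ℬ lifts to 𝒜 up to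
isomorphism). If F and G are covering, then the composite G ∘ F is covering. -/
theorem result {C : Type u} [Category.{v} C] (J : GrothendieckTopology C)
    {𝒳 𝒴 𝒵 : BasedCategory.{v, max u v} C}
    (h𝒳 : FibCat.IsFibGrpd 𝒳.p) (h𝒴 : FibCat.IsFibGrpd 𝒴.p) (h𝒵 : FibCat.IsFibGrpd 𝒵.p)
    (F : 𝒳 ⥤ᵇ 𝒴) (G : 𝒴 ⥤ᵇ 𝒵)
    (hF : (∀ (U : C) (y : FibCat.overCat U ⥤ᵇ 𝒴), ∃ R ∈ J U, ∀ ⦃V : C⦄ (h : V ⟶ U), R.arrows h →
        ∃ x : FibCat.overCat V ⥤ᵇ 𝒳,
          Nonempty (BasedFunctor.comp x F ≅ BasedFunctor.comp (⟨Over.map h, Over.mapForget_eq h⟩ : FibCat.overCat V ⥤ᵇ FibCat.overCat U) y)))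
    (hG : (∀ (U : C) (y : FibCat.overCat U ⥤ᵇ 𝒵), ∃ R ∈ J U, ∀ ⦃V : C⦄ (h : V ⟶ U), R.arrows h →
        ∃ x : FibCat.overCat V ⥤ᵇ 𝒴,
          Nonempty (BasedFunctor.comp x G ≅ BasedFunctor.comp (⟨Over.map h, Over.mapForget_eq h⟩ : FibCat.overCat V ⥤ᵇ FibCat.overCat U) y))) :
    (∀ (U : C) (y : FibCat.overCat U ⥤ᵇ 𝒵), ∃ R ∈ J U, ∀ ⦃V : C⦄ (h : V ⟶ U), R.arrows h →
        ∃ x : FibCat.overCat V ⥤ᵇ 𝒳,
          Nonempty (BasedFunctor.comp x (BasedFunctor.comp F G) ≅ BasedFunctor.comp (⟨Over.map h, Over.mapForget_eq h⟩ : FibCat.overCat V ⥤ᵇ FibCat.overCat U) y)) := by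
  rw [← Groth.L09.Stk.locEssSurj_iff J h𝒳 h𝒴] at hF
  rw [← Groth.L09.Stk.locEssSurj_iff J h𝒴 h𝒵] at hG
  rw [← Groth.L09.Stk.locEssSurj_iff J h𝒳 h𝒵]
  intro z U hz
  obtain ⟨R, hR, hy⟩ := hG z U hz
  choose y φ hφ using hy
  have hyV : ∀ {V} (f : V ⟶ U) (hf : R f), 𝒴.p.obj (y f hf) = V := fun {V} f hf =>
    (G.w_obj _).symm.trans (@IsHomLift.domain_eq _ _ _ _ 𝒵.p _ _ _ _ f (φ f hf) (hφ f hf))
  choose T hT hx using fun {V} (f : V ⟶ U) (hf : R f) => hF (y f hf) V (hyV f hf)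
  refine ⟨Sieve.bind R.arrows (fun V f hf => T f hf), J.bind_covering hR (fun V f hf => hT f hf), ?_⟩
  rintro W _ ⟨V, m, f, hf, hm, rfl⟩
  obtain ⟨x, ψ, hψ⟩ := hx f hf m hm
  refine ⟨x, G.map ψ ≫ φ f hf, ?_⟩
  have := hφ f hf
  have : 𝒵.p.IsHomLift m (G.map ψ) := inferInstance
  exact IsHomLift.comp 𝒵.p m f (G.map ψ) (φ f hf)

end Groth.Agent.S17266
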