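import Groth.Statements.S17267
import Groth.Agent.L09.StkTop
import Groth.Agent.L09.StkGlue
import Groth.Agent.L09.StkSetoid
import Groth.Agent.L09.FibHom
import Groth.Prelude.Def_W4stkalgstUpp
import Mathlib.CategoryTheory.Bicategory.Basic
import Mathlib.CategoryTheory.Localization.CalculusOfFractions

set_option autoImplicit false
open CategoryTheory
universe v u
open Stk

namespace Groth.Agent.S17267
open CategoryTheory Category Functor Limits Groth.L09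

/-- Let C be a category with a Grothendieck topology J and let F : 𝒳 → 𝒴 and G : 𝒵 → 𝒴 be functors over
C between categories fibred in groupoids over C. Say that a functor H : 𝒜 → ℬ over C is covering
when for every object U of C and every functor b : C/U → ℬ over C there is a J-covering sieve of U
such that for each of its arrows h : V → U the composite of C/V → C/U with b is 2-isomorphic over C
to H ∘ a for some functor a : C/V → 𝒜 over C. If F is covering, then the first projection 𝒵 ×_𝒴 𝒳 →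
𝒵 of the 2-fibre product over C (the base change of F along G) is covering. -/
theorem result {C : Type u} [Category.{v} C] (J : GrothendieckTopology C)
    {𝒳 𝒴 𝒵 : BasedCategory.{v, max u v} C}
    (h𝒳 : FibCat.IsFibGrpd 𝒳.p) (h𝒴 : FibCat.IsFibGrpd 𝒴.p) (h𝒵 : FibCat.IsFibGrpd 𝒵.p)
    (F : 𝒳 ⥤ᵇ 𝒴) (G : 𝒵 ⥤ᵇ 𝒴)
    (hF : (∀ (U : C) (y : FibCat.overCat U ⥤ᵇ 𝒴), ∃ R ∈ J U, ∀ ⦃V : C⦄ (h : V ⟶ U), R.arrows h →
        ∃ x : FibCat.overCat V ⥤ᵇ 𝒳,
          Nonempty (BasedFunctor.comp x F ≅ BasedFunctor.comp (⟨Over.map h, Over.mapForget_eq h⟩ : FibCat.overCat V ⥤ᵇ FibCat.overCat U) y))) :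
    (∀ (U : C) (y : FibCat.overCat U ⥤ᵇ 𝒵), ∃ R ∈ J U, ∀ ⦃V : C⦄ (h : V ⟶ U), R.arrows h →
        ∃ x : FibCat.overCat V ⥤ᵇ (FibCat.fp G F),
          Nonempty (BasedFunctor.comp x (FibCat.fpFst G F) ≅ BasedFunctor.comp (⟨Over.map h, Over.mapForget_eq h⟩ : FibCat.overCat V ⥤ᵇ FibCat.overCat U) y)) := by
  rw [← Groth.L09.Stk.locEssSurj_iff J h𝒳 h𝒴] at hF
  rw [← Groth.L09.Stk.locEssSurj_iff J (Fib.fp_isFibGrpd h𝒵 h𝒳 h𝒴) h𝒵]
  intro z U hz
  obtain ⟨R, hR, hx⟩ := hF (G.obj z) U ((G.w_obj z).trans hz)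
  refine ⟨R, hR, fun V f hf => ?_⟩
  obtain ⟨x, φ, hφ⟩ := hx f hf
  have := Fib.isFibered_of_isFibGrpd _ h𝒵
  let π := IsPreFibered.pullbackMap (p := 𝒵.p) hz f
  have : 𝒴.p.IsStronglyCartesian f (G.map π) := Fib.stronglyCartesian_of_isFibGrpd 𝒴.p h𝒴 f (G.map π)
  have : 𝒴.p.IsStronglyCartesian f φ := Fib.stronglyCartesian_of_isFibGrpd 𝒴.p h𝒴 f φ
  let i : G.obj (IsPreFibered.pullbackObj (p := 𝒵.p) hz f) ≅ F.obj x := (IsCartesian.domainUniqueUpToIso 𝒴.p f (G.map π) φ).symm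
  have hi : 𝒴.p.IsHomLift (𝟙 (𝒵.p.obj (IsPreFibered.pullbackObj (p := 𝒵.p) hz f))) i.hom := by
    rw [IsPreFibered.pullbackObj_proj]
    exact @IsHomLift.lift_id_inv _ _ _ _ 𝒴.p V _ _ (IsCartesian.domainUniqueUpToIso 𝒴.p f (G.map π) φ) inferInstance
  exact ⟨⟨⟨_, x, i⟩, hi⟩, π, inferInstanceAs (𝒵.p.IsHomLift f π)⟩

end Groth.Agent.S17267
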