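import Groth.Statements.S17272
import Groth.Agent.L24.St.DiagRep

set_option autoImplicit false
open CategoryTheory CategoryTheory.Limits AlgebraicGeometry
universe u
open AlgSt

namespace Groth.Agent.S17272

/-- Let S be a scheme, P a property of morphisms of algebraic spaces over S (fppf sheaves on (Sch/S)
with representable diagonal and an etale surjective map from a scheme) which is stable under base
change (along every pullback square of sheaves whose corners are algebraic spaces) and under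
composition, and assume the cancellation property: for morphisms a : X → Y and b : Y → Z of
algebraic spaces over S, if b and the composite of a and b have P then a has P. Let 𝒳, 𝒴, 𝒵 be
algebraic stacks over (Sch/S) for the etale topology (stacks in groupoids with diagonal
representable by algebraic spaces and a smooth surjective presentation by a scheme), with functors f
: 𝒳 → 𝒴 and g : 𝒴 → 𝒵 over (Sch/S). If the diagonals 𝒴 → 𝒴 ×_𝒵 𝒴 of g and 𝒳 → 𝒳 ×_𝒵 𝒳 of g ∘ f are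
representable by algebraic spaces and have property P, then the diagonal 𝒳 → 𝒳 ×_𝒴 𝒳 of f is
representable by algebraic spaces and has property P. -/
theorem result (S : Scheme.{u}) (𝒳 𝒴 𝒵 : AlgSt.Cat S)
    (h𝒳 : AlgSt.IsAlgStack Scheme.etalePrecoverage 𝒳) (h𝒴 : AlgSt.IsAlgStack Scheme.etalePrecoverage 𝒴) (h𝒵 : AlgSt.IsAlgStack Scheme.etalePrecoverage 𝒵)
    (P : MorphismProperty (AlgSp.Sp S))
    (hPb : ∀ ⦃X₁ Y₁ X₂ Y₂ : AlgSp.Sp S⦄, AlgSp.IsAlgSpace X₁ → AlgSp.IsAlgSpace Y₁ → AlgSp.IsAlgSpace X₂ →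
      AlgSp.IsAlgSpace Y₂ → ∀ (a : X₁ ⟶ Y₁) (b : Y₂ ⟶ Y₁) (a' : X₂ ⟶ Y₂) (b' : X₂ ⟶ X₁),
      IsPullback b' a' a b → P a → P a')
    (hPc : ∀ ⦃X Y Z : AlgSp.Sp S⦄, AlgSp.IsAlgSpace X → AlgSp.IsAlgSpace Y → AlgSp.IsAlgSpace Z →
      ∀ (a : X ⟶ Y) (b : Y ⟶ Z), P a → P b → P (a ≫ b))
    (hcancel : ∀ ⦃X Y Z : AlgSp.Sp S⦄, AlgSp.IsAlgSpace X → AlgSp.IsAlgSpace Y → AlgSp.IsAlgSpace Z →
      ∀ (a : X ⟶ Y) (b : Y ⟶ Z), P b → P (a ≫ b) → P a)
    (f : 𝒳 ⥤ᵇ 𝒴) (g : 𝒴 ⥤ᵇ 𝒵) :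
    AlgSt.RepByAlgSpWith P (FibCat.diag g) → AlgSt.RepByAlgSpWith P (FibCat.diag (BasedFunctor.comp f g)) →
      AlgSt.RepByAlgSpWith P (FibCat.diag f) := by
  exact Groth.L24.St.diag_of_comp_repWith hPb hcancel

end Groth.Agent.S17272
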