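import Groth.Statements.S17275
import Groth.Agent.L21.Bundle.RankTwoExt
import Groth.Agent.L21.Bundle.H0Twist
import Groth.Agent.L21.Bundle.Lines
import Groth.Agent.L21.Duality.Nondegenerate
import Groth.Agent.L26.AV.FrobPullback
import Groth.Agent.L03.VBPn.FreeHom
import Groth.Agent.L22.CurveDeg.NonSpecial
import Groth.Agent.L12.StabLimit

set_option autoImplicit false
set_option backward.isDefEq.respectTransparency false
set_option linter.style.haveILetI false
universe u
open CategoryTheory CategoryTheory.Limits AlgebraicGeometry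
open VBCurve

namespace Groth.Agent.S17275

open Groth.L21.RR (h hk)
open Groth.L21.Bundle


variable {k : Type u} [Field k] [IsAlgClosed k] {X : Scheme.{u}} [X.Over (Spec (CommRingCat.of k))] [IsIntegral X]
  [IsProper (X ↘ Spec (CommRingCat.of k))] [Smooth (X ↘ Spec (CommRingCat.of k))]
  [IsLocallyNoetherian X] (p : ℕ) [Fact p.Prime] [FrobSch.IsCharP X p]

local notation "FP" => Scheme.Modules.pullback (FrobSch.frob X p)

attribute [local irreducible] dg rk

omit [IsIntegral X] [Smooth (X ↘ Spec (CommRingCat.of k))] in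
theorem h0_le_of_shortExact {S : ShortComplex X.Modules} (hS : S.ShortExact) (h1 : Coh.IsCoh S.X₁)
    (h2 : Coh.IsCoh S.X₂) (h3 : Coh.IsCoh S.X₃) : h k 0 S.X₂ ≤ h k 0 S.X₁ + h k 0 S.X₃ := by
  haveI := Groth.L21.RR.finite_HH' k h1 0
  haveI := Groth.L21.RR.finite_HH' k h2 0
  haveI := Groth.L21.RR.finite_HH' k h3 0
  have hex : LinearMap.ker (hk k S.g 0) ≤ LinearMap.range (hk k S.f 0) :=
    fun y hy => (Groth.L16.CohLinear.exact_hmap_hmap hS 0 y).1 hy
  have a1 := LinearMap.finrank_range_add_finrank_ker (hk k S.g 0)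
  have a2 := Submodule.finrank_mono hex
  have a3 := LinearMap.finrank_range_le (hk k S.f 0)
  have a4 := Submodule.finrank_le (LinearMap.range (hk k S.g 0))
  show Module.finrank k (Coh.HH X S.X₂ 0) ≤ _
  unfold h
  omega

theorem appLE_frob (U : X.Opens) (s : Γ(X, U)) :
    ((FrobSch.frob X p).appLE U U (le_refl U)).hom s = s ^ p := by
  rw [Scheme.Hom.appLE]
  show X.presheaf.map (𝟙 (Opposite.op U)) (((FrobSch.frob X p).app U).hom s) = s ^ p
  rw [X.presheaf.map_id]
  rfl

/-- The iterated Frobenius multiplies degrees of invertible modules by a power of the characteristic. -/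
theorem iterate_line (hd : topologicalKrullDim X = 1) {I : X.Modules} (hI : PicF.IsInvertible I) :
    ∀ n : ℕ, PicF.IsInvertible (((FP).obj)^[n] I) ∧
      Curv2.deg k X (((FP).obj)^[n] I) 1 = (p : ℤ) ^ n * Curv2.deg k X I 1
  | 0 => ⟨hI, by simp⟩
  | n + 1 => by
    obtain ⟨h1, h2⟩ := iterate_line hd hI n
    rw [Function.iterate_succ', Function.comp_apply]
    haveI := Groth.L21.RR.isNoetherian_of_proper (X := X) k
    obtain ⟨e⟩ := Groth.Agent.AV.FrobPullback.nonempty_iso (FrobSch.frob X p) (fun U => le_refl U) p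
      (fun U s => appLE_frob p U s) h1
    refine ⟨Groth.L18.Ample.isInvertible_pullback _ h1, ?_⟩
    rw [Groth.L21.RR.deg_congr k e 1, Groth.L21.Duality.deg_tensorPow (k := k) hd h1 p, h2, pow_succ]
    ring

omit [IsIntegral X] [IsLocallyNoetherian X] in
theorem iterate_rank {r : ℕ} {E : X.Modules} (hE : FlatMod.IsFinLocFreeOfRank r E) :
    ∀ n : ℕ, FlatMod.IsFinLocFreeOfRank r (((FP).obj)^[n] E)
  | 0 => hE
  | n + 1 => by
    rw [Function.iterate_succ', Function.comp_apply]
    exact Groth.L12.StabLimit.isFinLocFreeOfRank_pullback _ (iterate_rank hE n)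

theorem bound (hd : topologicalKrullDim X = 1) (L : X.Modules) (hL : PicF.IsInvertible L) :
    ∀ (r : ℕ) (E : X.Modules), FlatMod.IsFinLocFreeOfRank r E →
      ∃ M : ℕ, ∀ n : ℕ, h k 0 (CohB1.tensorMod (((FP).obj)^[n] E) L) ≤ M * p ^ n := by
  haveI := Groth.L21.RR.isNoetherian_of_proper (X := X) k
  have hreg := Groth.L21.Smooth.regular_stalk (k := k) (X ↘ Spec (CommRingCat.of k))
  have h0 := Groth.L22.CurveDeg.h0_structure_eq_one (X := X) (k := k)
  have hp1 : ∀ n : ℕ, 1 ≤ p ^ n := fun n => Nat.one_le_pow _ _ (Fact.out : p.Prime).pos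
  intro r
  induction r with
  | zero =>
    intro E hE
    refine ⟨0, fun n => le_of_eq ?_⟩
    rw [Nat.zero_mul]
    have hz := isZero_of_rank_zero (iterate_rank p hE n)
    have hz' : IsZero (CohB1.tensorMod (((FP).obj)^[n] E) L) := (Groth.L00.Tensor.tensorRightF L).map_isZero hz
    exact Groth.L21.RR.h_eq_zero_of_subsingleton k (Groth.L03.Euler.subsingleton_HH_of_isZero hz' 0)
  | succ r ih =>
    intro E hE
    have hcE := isCoh_of_rank hE
    obtain ⟨A, hA, hdA⟩ := exists_invertible_deg k hd (|dg k E| + |(1 - (Curv2.genus k X : ℤ))| * ((r + 1 : ℕ) : ℤ) + 1)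
    have hA1 := locFree_one hA
    obtain ⟨φ, hφ⟩ := exists_hom_ne_zero k hd h0 hA1 hE (by
      rw [← dg_eq k hA1, hdA]
      push_cast
      have hr : (0 : ℤ) ≤ r := Int.natCast_nonneg r
      nlinarith [le_abs_self (dg k E), mul_nonneg hr (abs_nonneg (dg k E)),
        mul_nonneg (mul_nonneg hr hr) (abs_nonneg (1 - (Curv2.genus k X : ℤ))),
        mul_nonneg hr (abs_nonneg (1 - (Curv2.genus k X : ℤ))),
        mul_le_mul_of_nonneg_left (neg_abs_le (1 - (Curv2.genus k X : ℤ))) (by linarith : (0 : ℤ) ≤ (r : ℤ) + 1)])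
    have hcA := isCoh_of_rank hA1
    obtain ⟨a1, -⟩ := add_image k hd.le φ hcE hcA
    have hI := locFree_of_mono hreg hd.le (Abelian.image.ι φ) (coh_image hcE hcA φ) hA1
    have hle := rk_le_of_mono (Abelian.image.ι φ) (coh_image hcE hcA φ) hcA
    rw [rk_eq hA1] at hle
    have hpos : 0 < rk (Abelian.image φ) := Nat.pos_of_ne_zero fun h' => hφ <| by
      rw [← Abelian.image.fac φ, (isZero_of_rank_zero (h' ▸ hI)).eq_of_src (Abelian.image.ι φ) 0, comp_zero]
    rw [show rk (Abelian.image φ) = 1 by omega] at hI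
    have hIi := isInvertible_of_rank hI
    have hK := locFree_of_mono hreg hd.le (kernel.ι φ) (coh_kernel hcE hcA φ) hE
    rw [rk_eq hE] at a1
    rw [show rk (kernel φ) = r by omega] at hK
    obtain ⟨M, hM⟩ := ih _ hK
    refine ⟨M + ((Curv2.deg k X (Abelian.image φ) 1).natAbs + (Curv2.deg k X L 1).natAbs + 1), fun n => ?_⟩
    -- the short exact sequence
    have hS : ∀ n : ℕ, ∃ S : ShortComplex X.Modules, S.ShortExact ∧ S.X₁ = ((FP).obj)^[n] (kernel φ) ∧
        S.X₂ = ((FP).obj)^[n] E ∧ S.X₃ = ((FP).obj)^[n] (Abelian.image φ) := by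
      intro n
      induction n with
      | zero => exact ⟨_, Groth.L16.Devissage.shortExact_kernel_image φ, rfl, rfl, rfl⟩
      | succ n ihn =>
        obtain ⟨S, hS, e1, e2, e3⟩ := ihn
        refine ⟨S.map (FP), Groth.L03.VBPn.shortExact_pullback_of_invertible hS
          (by rw [e3]; exact (iterate_line (k := k) p hd hIi n).1) _, ?_, ?_, ?_⟩ <;>
          rw [Function.iterate_succ', Function.comp_apply]
        · rw [← e1]; rfl
        · rw [← e2]; rfl
        · rw [← e3]; rfl
    obtain ⟨S, hSn, e1, e2, e3⟩ := hS n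
    obtain ⟨hIn, hdIn⟩ := iterate_line (k := k) p hd hIi n
    have hT := Groth.L03.Euler.shortExact_tensor hL hSn
    have c1 := isCoh_of_rank (locFree_twist hd hreg hL (iterate_rank p hK n))
    have c2 := isCoh_of_rank (locFree_twist hd hreg hL (iterate_rank p hE n))
    have hLn := Groth.L18.GenLoc.isInvertible_tensor hIn hL
    have c3 := isCoh_of_rank (locFree_one hLn)
    rw [← e1] at c1
    rw [← e2] at c2
    rw [← e3] at c3
    have hb := h0_le_of_shortExact (k := k) hT c1 c2 c3
    change h k 0 (CohB1.tensorMod S.X₂ L) ≤ h k 0 (CohB1.tensorMod S.X₁ L) + h k 0 (CohB1.tensorMod S.X₃ L) at hb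
    rw [e1, e2, e3] at hb
    refine hb.trans ?_
    rw [Nat.add_mul]
    refine Nat.add_le_add (hM n) ?_
    rcases Nat.eq_zero_or_pos (h k 0 (CohB1.tensorMod (((FP).obj)^[n] (Abelian.image φ)) L)) with h' | h'
    · rw [h']; exact Nat.zero_le _
    · have := Groth.L21.Duality.h0_le_deg_add hd.le h0 hLn h'
      rw [Groth.L21.Duality.deg_tensor (k := k) hd hIn hL, hdIn] at this
      have hq : (1 : ℤ) ≤ ((p ^ n : ℕ) : ℤ) := by exact_mod_cast hp1 n
      rw [← Int.ofNat_le]
      push_cast at hq ⊢
      nlinarith [le_abs_self (Curv2.deg k X (Abelian.image φ) 1), le_abs_self (Curv2.deg k X L 1),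
        abs_nonneg (Curv2.deg k X (Abelian.image φ) 1), abs_nonneg (Curv2.deg k X L 1)]



/-- Let p be a prime, k an algebraically closed field whose characteristic is p, and X an integral
curve, smooth and proper over k (of dimension one), with absolute Frobenius F : X → X. For every
finite locally free O_X-module E and every invertible O_X-module L there are natural numbers M and N
such that dim_k H⁰(X, (Fⁿ)^*E ⊗ L) ≤ M·pⁿ for all n ≥ N, where (Fⁿ)^* is the n-fold iterate of the
module pullback along F. (This is the bound established inside the printed proof for vector bundles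
on the auxiliary curve, in the case where that curve is a scheme; the printed lemma itself concerns
sheaves on a two-dimensional Deligne–Mumford stack.) -/
theorem result (p : ℕ) [Fact p.Prime]
    (k : Type u) [Field k] [IsAlgClosed k] [CharP k p]
    (X : Scheme.{u}) [X.Over (Spec (CommRingCat.of k))] [IsIntegral X]
    [IsProper (X ↘ Spec (CommRingCat.of k))] [Smooth (X ↘ Spec (CommRingCat.of k))]
    (hdim : topologicalKrullDim X = 1) [FrobSch.IsCharP X p]
    (E : X.Modules) (hE : FlatMod.IsFinLocFree E) (L : X.Modules) (hL : PicF.IsInvertible L) :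
    ∃ M N : ℕ, ∀ n : ℕ, N ≤ n →
      Module.finrank k (Coh.HH X (CohB1.tensorMod
        (((Scheme.Modules.pullback (FrobSch.frob X p)).obj)^[n] E) L) 0) ≤ M * p ^ n := by
  haveI := Groth.L21.RR.isNoetherian_of_proper (X := X) k
  obtain ⟨r, hr⟩ := Groth.L21.Disc.exists_rank hE
  obtain ⟨M, hM⟩ := bound (k := k) p hdim L hL r E hr
  exact ⟨M, 0, fun n _ => hM n⟩

end Groth.Agent.S17275
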