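import Groth.Statements.S17276
import Groth.Agent.L22.Nef.Bridge

set_option autoImplicit false
universe u
open CategoryTheory CategoryTheory.Limits AlgebraicGeometry TopologicalSpace
open Variety

namespace Groth.Agent.S17276

/-- Let X be a proper scheme over a field k of dimension one (possibly reducible or non-reduced) and L
an invertible O_X-module that is nef, meaning χ(O_C ⊗ L) - χ(O_C) ≥ 0 for every integral closed
subscheme C ⊆ X of dimension one. Then the degree of L on X, namely χ(L) - χ(O_X), is nonnegative. -/
theorem result (k : Type u) [Field k] (X : Scheme.{u})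
    [X.Over (Spec (CommRingCat.of k))] [IsProper (X ↘ (Spec (CommRingCat.of k)))]
    (hdim : topologicalKrullDim X = 1) (L : X.Modules) (hL : PicF.IsInvertible L)
    (hnef : ∀ C : X.IdealSheafData, IsIntegral C.subscheme →
      topologicalKrullDim (C.support : Set X) = 1 →
        0 ≤ Curv2.euler k X (CohB1.tensorMod (ClSub.quotMod C) L) - Curv2.euler k X (ClSub.quotMod C)) :
    0 ≤ Curv2.deg k X L 1 := by
  haveI := Groth.L21.RR.isNoetherian_of_proper (X := X) k
  have hN := (Groth.L22.Nef.isNef_iff k hL).2 hnef
  have hd : topologicalKrullDim (CohB1.support (Coh.structureModule X)) ≤ (1 : ℕ) := by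
    rw [Groth.L22.Nakai.dim_support_structure, hdim]
    exact le_rfl
  have h1 := Groth.L22.Nef.altT_nonneg_of_points k (L := fun _ : Fin 1 => L) (fun _ => hL)
    (Groth.L16.CohClosedPush.isCoh_structure (X := X)) hd hN.2
  rw [Groth.L22.Nef.altT_one, Groth.L03.Euler.euler_iso (Groth.L00.Tensor.tensorUnitLeft L)] at h1
  simp only [Curv2.deg, Nat.cast_one, one_mul]
  exact_mod_cast h1

end Groth.Agent.S17276
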