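import Groth.Statements.S17278
import Groth.Agent.L22.Big.Volume
set_option linter.style.haveILetI false
-- import your own Groth.Agent.* helpers here

set_option autoImplicit false
universe u
open CategoryTheory CategoryTheory.Limits AlgebraicGeometry TopologicalSpace
open Variety

namespace Groth.Agent.S17278

/-- Let X be a projective variety over a field k (an integral scheme, proper over k, carrying an ample
invertible module A₀) of dimension d, and L an invertible O_X-module. Then L is big, meaning that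
for some real c > 0 one has dim_k H^0(X, L^{⊗n}) > c·n^d for all sufficiently large n, if and only
if for every ample invertible O_X-module A, with a tensor inverse A' (A' ⊗ A ≅ O_X), there is an
integer m > 0 with H^0(X, A' ⊗ L^{⊗m}) ≠ 0. -/
theorem result (k : Type u) [Field k]
    (X : Scheme.{u}) [X.Over (Spec (CommRingCat.of k))] [IsProper (X ↘ (Spec (CommRingCat.of k)))] [IsIntegral X]
    (A₀ : X.Modules) (hA₀ : CohB1.IsAmple A₀)
    (d : ℕ) (hdim : topologicalKrullDim X = d) (L : X.Modules) (hL : PicF.IsInvertible L) :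
    (∃ c : ℝ, 0 < c ∧ ∀ᶠ n : ℕ in Filter.atTop,
        c * (n : ℝ) ^ d < (Module.finrank k (Coh.HH X (CohB1.tensorPow L n) 0) : ℝ)) ↔
      ∀ (A A' : X.Modules), CohB1.IsAmple A → ClSub.IsInverseOf A' A →
        ∃ m : ℕ, 0 < m ∧ Nontrivial (Coh.HH X (CohB1.tensorMod A' (CohB1.tensorPow L m)) 0) := by
  haveI := Groth.L21.RR.isNoetherian_of_proper (X := X) k
  constructor
  · rintro ⟨c, hc, hev⟩ A A' hA ⟨e⟩
    obtain ⟨m₁, hm₁⟩ := Filter.eventually_atTop.1 hev
    obtain ⟨ν, B, φ, hν, hB, hφ⟩ := Groth.L22.Big.exists_mono_of_growth k hA₀ hL hdim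
      (Groth.L22.Big.exists_gt_of_growth (f := fun m => Groth.L22.Big.h0 k (CohB1.tensorPow L m)) hc
        fun m h => by simpa only [Groth.L22.Big.h0_def] using (hm₁ m h).le)
    haveI := hφ
    obtain ⟨m, hm, h⟩ := Groth.L22.Big.exists_section_inv_tensor k hA hL hB
      (Groth.L22.Big.isInvertible_inv hA.1 ⟨e⟩) hν φ
    rw [Groth.L22.Big.h0_def] at h
    exact ⟨m, hm, Module.nontrivial_of_finrank_pos (R := k) h⟩
  · intro h
    obtain ⟨A', hA', ⟨ι⟩⟩ := Groth.L08.Cube.exists_inverse hA₀.1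
    let ι' := Groth.L00.Tensor.tensorComm A' A₀ ≪≫ ι
    obtain ⟨m, hm, hn⟩ := h A₀ A' hA₀ ⟨ι'⟩
    obtain ⟨φ, hφ⟩ := Groth.L22.Big.exists_mono_of_section k hA₀.1 hL ι'
      ((Groth.L22.Big.h0_pos_iff k (Groth.L18.Ample.isCoh_of_isInvertible
        (Groth.L18.GenLoc.isInvertible_tensor hA' (Groth.L18.Ample.isInvertible_tensorPow hL m)))).2 hn)
    haveI := hφ
    obtain ⟨C, hC, m₁, hm₁⟩ := Groth.L22.Big.growth_of_mono k hA₀ hL hdim hm φ
    have hC' : (0 : ℝ) < (C : ℝ) := by exact_mod_cast hC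
    refine ⟨(C : ℝ) / 2, by linarith, Filter.eventually_atTop.2 ⟨m₁ + 1, fun n hn => ?_⟩⟩
    have h1 : (C : ℝ) * (n : ℝ) ^ d ≤ (Groth.L22.Big.h0 k (CohB1.tensorPow L n) : ℝ) := by
      exact_mod_cast hm₁ n (by omega)
    rw [← Groth.L22.Big.h0_def]
    have h2 : (0 : ℝ) < (n : ℝ) ^ d := pow_pos (by exact_mod_cast (by omega : 0 < n)) _
    nlinarith


end Groth.Agent.S17278
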