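import Groth.Statements.S1728
import Groth.Agent.L04.Essential

set_option autoImplicit false
universe u
open InjHull

namespace Groth.Agent.S1728

/-- Let I be an injective R-module and E a submodule of I. Then E is an injective module if and only if
every submodule E' of I containing E, such that every nonzero submodule of E' meets E nontrivially,
is equal to E. -/
theorem result (R : Type u) [CommRing R] (I : Type u) [AddCommGroup I] [Module R I] [Module.Injective R I] (E : Submodule R I) : Module.Injective R E ↔ ∀ E' : Submodule R I, E ≤ E' → (∀ N : Submodule R I, N ≤ E' → N ≠ ⊥ → N ⊓ E ≠ ⊥) → E' = E := by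
  rw [Groth.L04.injective_iff_maximal_essIn inferInstance E]
  refine ⟨fun h E' hle hess => h E' hle ⟨hle, fun x hx hx0 => ?_⟩, fun h E' hle hess => h E' hle
    fun N hN hN0 => ?_⟩
  · obtain ⟨y, hy, hy0⟩ := (Submodule.ne_bot_iff _).1
      (hess (Submodule.span R {x}) (by simpa using hx) (by simpa using hx0))
    obtain ⟨r, rfl⟩ := Submodule.mem_span_singleton.1 (Submodule.mem_inf.1 hy).1
    exact ⟨r, (Submodule.mem_inf.1 hy).2, hy0⟩
  · obtain ⟨x, hx, hx0⟩ := (Submodule.ne_bot_iff _).1 hN0
    obtain ⟨r, hr, hr0⟩ := hess.2 x (hN hx) hx0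
    exact (Submodule.ne_bot_iff _).2 ⟨r • x, ⟨N.smul_mem r hx, hr⟩, hr0⟩

end Groth.Agent.S1728
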