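import Groth.Statements.S17280
import Groth.Agent.L13.GPar.Basic
import Groth.Agent.L21.Bundle.Calc
import Groth.Agent.L16.AffineBC.Pullback
import Groth.Agent.L16.NegPow.Gen
import Groth.Agent.L03.ShStab.RankOneSlope
import Groth.Agent.L22.ExtSh.GenRank

set_option autoImplicit false
universe u
open CategoryTheory CategoryTheory.Limits AlgebraicGeometry TopologicalSpace
open Variety

set_option backward.isDefEq.respectTransparency.types false
namespace Groth.Agent.S17280

/-- Scheme case, curve-test form of nefness: let X be a proper scheme over a field k and 0 → E' → E →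
E'' → 0 a short exact sequence whose three terms are finite locally free O_X-modules. Assume that E'
and E'' are nef in the curve-test sense: for every regular projective curve C over k (integral,
proper over k, of dimension one, all local rings regular), every k-morphism f : C → X and every
invertible quotient M of the pulled-back module, deg M = χ(M) - χ(O_C) ≥ 0. Then E is nef in the
same sense. (The source states this for proper algebraic spaces and nefness of O(1) on P(E); on
proper schemes the two senses agree by the Barton–Kleiman criterion.) -/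
theorem result (k : Type u) [Field k] (X : Scheme.{u})
    [X.Over (Spec (CommRingCat.of k))] [IsProper (X ↘ (Spec (CommRingCat.of k)))] (S : ShortComplex X.Modules) (hS : S.ShortExact)
    (h₁ : FlatMod.IsFinLocFree S.X₁) (h₂ : FlatMod.IsFinLocFree S.X₂) (h₃ : FlatMod.IsFinLocFree S.X₃)
    (hnef₁ : ∀ (C : Scheme.{u}) [C.Over (Spec (CommRingCat.of k))] [IsProper (C ↘ (Spec (CommRingCat.of k)))] [IsIntegral C],
      topologicalKrullDim C = 1 → (∀ x : C, IsRegularLocalRing (C.presheaf.stalk x)) →
      ∀ (f : C ⟶ X), f ≫ (X ↘ (Spec (CommRingCat.of k))) = C ↘ (Spec (CommRingCat.of k)) →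
      ∀ (M : C.Modules), PicF.IsInvertible M →
      ∀ (q : (Scheme.Modules.pullback f).obj S.X₁ ⟶ M), Epi q → 0 ≤ Curv2.deg k C M 1)
    (hnef₃ : ∀ (C : Scheme.{u}) [C.Over (Spec (CommRingCat.of k))] [IsProper (C ↘ (Spec (CommRingCat.of k)))] [IsIntegral C],
      topologicalKrullDim C = 1 → (∀ x : C, IsRegularLocalRing (C.presheaf.stalk x)) →
      ∀ (f : C ⟶ X), f ≫ (X ↘ (Spec (CommRingCat.of k))) = C ↘ (Spec (CommRingCat.of k)) →
      ∀ (M : C.Modules), PicF.IsInvertible M →
      ∀ (q : (Scheme.Modules.pullback f).obj S.X₃ ⟶ M), Epi q → 0 ≤ Curv2.deg k C M 1) :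
    ∀ (C : Scheme.{u}) [C.Over (Spec (CommRingCat.of k))] [IsProper (C ↘ (Spec (CommRingCat.of k)))] [IsIntegral C],
    topologicalKrullDim C = 1 → (∀ x : C, IsRegularLocalRing (C.presheaf.stalk x)) →
    ∀ (f : C ⟶ X), f ≫ (X ↘ (Spec (CommRingCat.of k))) = C ↘ (Spec (CommRingCat.of k)) →
    ∀ (M : C.Modules), PicF.IsInvertible M →
    ∀ (q : (Scheme.Modules.pullback f).obj S.X₂ ⟶ M), Epi q → 0 ≤ Curv2.deg k C M 1 := by
  intro C _ _ _ hd hreg f hf M hM q hq
  haveI : IsLocallyNoetherian C := LocallyOfFiniteType.isLocallyNoetherian (C ↘ Spec (CommRingCat.of k))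
  have hd1 : topologicalKrullDim C ≤ 1 := hd.le
  let F := Scheme.Modules.pullback f
  haveI : F.IsLeftAdjoint := (Scheme.Modules.pullbackPushforwardAdjunction f).isLeftAdjoint
  by_cases h0 : F.map S.f ≫ q = 0
  · haveI := hS.epi_g
    let hc := hS.gIsCokernel
    have hco : IsColimit (CokernelCofork.ofπ (F.map S.g)
        (show F.map S.f ≫ F.map S.g = 0 by rw [← F.map_comp, S.zero, F.map_zero])) :=
      CokernelCofork.mapIsColimit _ hc F
    obtain ⟨q', hq'⟩ := CokernelCofork.IsColimit.desc' hco q h0
    have : Epi q' := epi_of_epi_fac hq'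
    exact hnef₃ C hd hreg f hf M hM q' this
  · have hr := Groth.L03.ShStab.RankOneSlope.rank_one_of_invertible hM
    have hcM : Coh.IsCoh M := Groth.L21.Bundle.isCoh_of_rank hr
    have hc1 : Coh.IsCoh (F.obj S.X₁) :=
      Groth.L16.AffineBC.isCoh_pullback f (Groth.L16.NegPow.isCoh_of_isFinLocFree h₁)
    let a := F.map S.f ≫ q
    have hI := Groth.L21.Bundle.locFree_of_mono hreg hd1 (Abelian.image.ι a)
      (Groth.L21.Bundle.coh_image hc1 hcM a) hr
    have hle := Groth.L21.Bundle.rk_le_of_mono (Abelian.image.ι a) (Groth.L21.Bundle.coh_image hc1 hcM a) hcM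
    rw [Groth.L21.Bundle.rk_eq hr] at hle
    have hne : Groth.L21.Bundle.rk (Abelian.image a) ≠ 0 := fun h => h0 (by
      rw [h] at hI
      show a = 0
      rw [← Abelian.image.fac a, (Groth.L21.Bundle.isZero_of_rank_zero hI).eq_of_src (Abelian.image.ι a) 0, comp_zero])
    rw [show Groth.L21.Bundle.rk (Abelian.image a) = 1 by omega] at hI
    have h1 := hnef₁ C hd hreg f hf _ (Groth.L22.GenRank.isInvertible_of_rank_one hI)
      (Abelian.factorThruImage a) inferInstance
    exact h1.trans (Groth.L13.GPar.deg_le_of_mono k hd1 hI hr (Abelian.image.ι a)).1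

end Groth.Agent.S17280
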