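import Groth.Statements.S17281
import Groth.Agent.L21.Bundle.DualityApps
import Groth.Agent.L21.Bundle.Twist
import Groth.Agent.L21.Bundle.Tors
import Groth.Agent.L21.Bundle.Lines
import Groth.Agent.L26.Weil.Axes
import Groth.Agent.L21.Disc.SimplyConn
import Groth.Agent.L08.Cube.Inverse

set_option autoImplicit false
set_option backward.isDefEq.respectTransparency false
set_option backward.isDefEq.respectTransparency.types false
universe u
open CategoryTheory CategoryTheory.Limits AlgebraicGeometry TopologicalSpace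
open Curves

namespace Groth.Agent.S17281

/-- Fix an algebraically closed field k and a regular projective curve C over it (integral, proper over
k, of dimension one, all local rings regular) of genus g = dim_k H^1(C, O_C), E a finite locally
free O_C-module that is nef in the curve-test sense (for every regular projective curve C' over k,
every k-morphism f : C' → C and every invertible quotient M of f^*E, deg M = χ(M) - χ(O_{C'}) ≥ 0),
and H an invertible O_C-module with deg H = χ(H) - χ(O_C) ≥ 2g. Then E ⊗ H is generated by its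
global sections. -/
theorem result (k : Type u) [Field k] [IsAlgClosed k]
    (X : Scheme.{u}) [X.Over (Spec (CommRingCat.of k))] [IsProper (X ↘ (Spec (CommRingCat.of k)))] [IsIntegral X]
    (hdim : topologicalKrullDim X = 1) (hreg : ∀ x : X, IsRegularLocalRing (X.presheaf.stalk x))
    (E : X.Modules) (hE : FlatMod.IsFinLocFree E)
    (hnef : ∀ (C : Scheme.{u}) [C.Over (Spec (CommRingCat.of k))] [IsProper (C ↘ (Spec (CommRingCat.of k)))] [IsIntegral C],
      topologicalKrullDim C = 1 → (∀ x : C, IsRegularLocalRing (C.presheaf.stalk x)) →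
      ∀ (f : C ⟶ X), f ≫ (X ↘ (Spec (CommRingCat.of k))) = C ↘ (Spec (CommRingCat.of k)) →
      ∀ (M : C.Modules), PicF.IsInvertible M →
      ∀ (q : (Scheme.Modules.pullback f).obj E ⟶ M), Epi q → 0 ≤ Curv2.deg k C M 1)
    (H : X.Modules) (hH : PicF.IsInvertible H)
    (hdeg : 2 * (Curv2.genus k X : ℤ) ≤ Curv2.deg k X H 1) :
    Curv2.IsGloballyGenerated (CohB1.tensorMod E H) := by
  haveI := Groth.L21.RR.isNoetherian_of_proper (X := X) k
  haveI : Smooth (X ↘ Spec (CommRingCat.of k)) :=
    Groth.L26.Weil.smooth_of_regular_closed _ fun x _ => hreg x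
  have h0 : Groth.L21.RR.h k 0 (Coh.structureModule X) = 1 := Groth.L21.RR.h0_eq_one_of_isAlgClosed k
  obtain ⟨r, hr⟩ := Groth.L21.Disc.exists_rank hE
  have hEH := Groth.L21.Bundle.locFree_twist hdim hreg hH hr
  refine Groth.L21.Bundle.isGloballyGenerated_of_sub_bound k hdim h0 hEH fun K i hi hK hrk => ?_
  haveI := hi
  have hc := Groth.L21.Bundle.isCoh_of_rank hEH
  obtain ⟨h1, h2⟩ := Groth.L21.Bundle.add_cokernel k hdim.le i hK hc
  have hC := Groth.L21.Bundle.coh_cokernel hK hc i
  obtain ⟨Q, p, hp, hcK, hK0, hQ⟩ := Groth.L21.Bundle.exists_locFree_quotient hreg hdim.le hC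
  haveI := hp
  rw [Groth.L21.Bundle.rk_eq hEH] at h1
  have hC1 : Groth.L21.Bundle.rk (cokernel i) = 1 := by omega
  rw [hC1] at hQ
  have hle := (Groth.L21.Bundle.dg_quotient_le hdim.le k p hC (Groth.L21.Bundle.isCoh_of_rank hQ) hcK hK0).1
  obtain ⟨H', hH', ⟨e⟩⟩ := Groth.L08.Cube.exists_inverse hH
  haveI : Epi (cokernel.π i ≫ p) := epi_comp _ _
  haveI : Epi ((Groth.L00.Tensor.tensorRightF H').map (cokernel.π i ≫ p)) := inferInstance
  let τ : E ≅ (Groth.L00.Tensor.tensorRightF H').obj (CohB1.tensorMod E H) :=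
    (Groth.L00.Tensor.tensorUnitRight E).symm ≪≫ Groth.L00.Tensor.tensorIso (Iso.refl E) e.symm ≪≫
      (Groth.L00.Tensor.tensorAssoc E H H').symm
  have hQ' := Groth.L21.Bundle.locFree_twist hdim hreg hH' hQ
  have hnon := hnef X hdim hreg (𝟙 X) (Category.id_comp _) _ (Groth.L21.Bundle.isInvertible_of_rank hQ')
    ((Scheme.Modules.pullbackId X).hom.app E ≫ τ.hom ≫ (Groth.L00.Tensor.tensorRightF H').map (cokernel.π i ≫ p))
    (epi_comp _ _)
  rw [Groth.L21.Bundle.dg_eq k hQ', Groth.L21.Bundle.dg_twist k hdim hH' (Groth.L21.Bundle.isCoh_of_rank hQ),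
    Groth.L21.Bundle.rk_eq hQ, Groth.L21.Bundle.deg_inverse k hdim hH hH' e] at hnon
  omega

end Groth.Agent.S17281
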