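import Groth.Prelude.Def_Coh
import Groth.Prelude.Def_Pic
import Groth.Prelude.Def_CohB1
import Groth.Prelude.Def_Curv2
import Groth.Prelude.Def_CurvBase
import Groth.Prelude.Def_ClSub2
import Groth.Prelude.Def_FlatMod2
import Mathlib.AlgebraicGeometry.Morphisms.Proper
import Mathlib.Topology.KrullDimension
import Mathlib.LinearAlgebra.Dimension.Finrank
import Mathlib.AlgebraicGeometry.IdealSheaf.Subscheme
import Mathlib.AlgebraicGeometry.Modules.Sheaf
import Mathlib.RingTheory.RegularLocalRing.Defs
import Groth.Agent.L22.Nef.Surjective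
import Groth.Agent.L03.SurfFib.DivSections
import Groth.Agent.S7321
import Groth.Agent.S1585
import Groth.Agent.L22.SchemeDim

set_option autoImplicit false
set_option linter.style.haveILetI false
namespace Variety
end Variety
universe u
open CategoryTheory CategoryTheory.Limits AlgebraicGeometry TopologicalSpace
open Variety

namespace Groth.Agent.S17283

open Groth.L22.Inter Groth.L22.Nef Groth.L03.Euler Groth.L16

/-- Scheme case, curve-test form of nefness: let f : Y → X be a surjective k-morphism of proper schemes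
over a field k and E a finite locally free O_X-module. If the pullback f^*E is nef on Y in the
curve-test sense (for every regular projective curve C over k — integral, proper over k, of
dimension one, all local rings regular — every k-morphism g : C → Y and every invertible quotient M
of g^*(f^*E), deg M = χ(M) - χ(O_C) ≥ 0), then E is nef on X in the same sense. (The source states
this for proper algebraic spaces with nefness of O(1) on P(E); on proper schemes the senses agree by
the Barton–Kleiman criterion.) -/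
theorem result (k : Type u) [Field k] (X Y : Scheme.{u})
    [X.Over (Spec (CommRingCat.of k))] [IsProper (X ↘ (Spec (CommRingCat.of k)))] [Y.Over (Spec (CommRingCat.of k))] [IsProper (Y ↘ (Spec (CommRingCat.of k)))]
    (f : Y ⟶ X) (hf : f ≫ (X ↘ (Spec (CommRingCat.of k))) = Y ↘ (Spec (CommRingCat.of k))) [Surjective f]
    (E : X.Modules) (hE : FlatMod.IsFinLocFree E)
    (hnef : ∀ (C : Scheme.{u}) [C.Over (Spec (CommRingCat.of k))] [IsProper (C ↘ (Spec (CommRingCat.of k)))] [IsIntegral C],
      topologicalKrullDim C = 1 → (∀ x : C, IsRegularLocalRing (C.presheaf.stalk x)) →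
      ∀ (g : C ⟶ Y), g ≫ (Y ↘ (Spec (CommRingCat.of k))) = C ↘ (Spec (CommRingCat.of k)) →
      ∀ (M : C.Modules), PicF.IsInvertible M →
      ∀ (q : (Scheme.Modules.pullback g).obj ((Scheme.Modules.pullback f).obj E) ⟶ M), Epi q → 0 ≤ Curv2.deg k C M 1) :
    ∀ (C : Scheme.{u}) [C.Over (Spec (CommRingCat.of k))] [IsProper (C ↘ (Spec (CommRingCat.of k)))] [IsIntegral C],
    topologicalKrullDim C = 1 → (∀ x : C, IsRegularLocalRing (C.presheaf.stalk x)) →
    ∀ (g : C ⟶ X), g ≫ (X ↘ (Spec (CommRingCat.of k))) = C ↘ (Spec (CommRingCat.of k)) →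
    ∀ (M : C.Modules), PicF.IsInvertible M →
    ∀ (q : (Scheme.Modules.pullback g).obj E ⟶ M), Epi q → 0 ≤ Curv2.deg k C M 1 := by
  intro C _ _ _ hdC hregC g hg M hM q hq
  haveI := hq
  haveI : IsProper (f ≫ (X ↘ Spec (CommRingCat.of k))) := by rw [hf]; infer_instance
  haveI : IsProper f := IsProper.of_comp f (X ↘ Spec (CommRingCat.of k))
  haveI : IsProper (g ≫ (X ↘ Spec (CommRingCat.of k))) := by rw [hg]; infer_instance
  haveI : IsProper g := IsProper.of_comp g (X ↘ Spec (CommRingCat.of k))
  haveI := Groth.L21.RR.isNoetherian_of_proper (X := C) k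
  let p₁ : pullback g f ⟶ C := pullback.fst g f
  haveI : IsProper p₁ := MorphismProperty.pullback_fst g f inferInstance
  haveI : Surjective p₁ := MorphismProperty.pullback_fst g f inferInstance
  letI : (pullback g f).Over (Spec (CommRingCat.of k)) := ⟨p₁ ≫ (C ↘ Spec (CommRingCat.of k))⟩
  haveI : IsProper (pullback g f ↘ Spec (CommRingCat.of k)) :=
    inferInstanceAs (IsProper (p₁ ≫ (C ↘ Spec (CommRingCat.of k))))
  haveI := Groth.L21.RR.isNoetherian_of_proper (X := pullback g f) k
  obtain ⟨x₀, hx₀⟩ := p₁.surjective (genericPoint C)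
  obtain ⟨x, hx, -, hxcl⟩ := Groth.L22.FibreDim.exists_closure_inter_eq p₁ (x := x₀)
  have hxy : p₁ x = genericPoint C := hx.trans hx₀
  obtain ⟨a, b, ha, hb, hab⟩ := Groth.L22.FibreDim.exists_dim_closure_add k p₁ rfl x
  rw [hxcl] at hb
  haveI : DiscreteTopology ({x} : Set ↥(pullback g f)) := Subsingleton.discreteTopology
  have hb0 : b = 0 := by
    have h0 := topologicalKrullDim_zero_of_discreteTopology ({x} : Set ↥(pullback g f))
    rw [hb] at h0
    exact Nat.le_zero.1 (by exact_mod_cast h0)
  rw [hxy, (genericPoint_spec C).def] at ha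
  have hxd : topologicalKrullDim (closure ({x} : Set ↥(pullback g f))) = (1 : ℕ) := by
    rw [hab, hb0, add_zero, ← ha, IsHomeomorph.topologicalKrullDim_eq _ (Homeomorph.Set.univ C).isHomeomorph, hdC]
    rfl
  haveI := isIntegral_pt x
  let i := (pt x).subschemeι
  let Z := (pt x).subscheme
  letI : Z.Over (Spec (CommRingCat.of k)) := ⟨i ≫ (pullback g f ↘ Spec (CommRingCat.of k))⟩
  haveI : IsProper (Z ↘ Spec (CommRingCat.of k)) :=
    inferInstanceAs (IsProper (i ≫ (pullback g f ↘ Spec (CommRingCat.of k))))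
  haveI := Groth.L21.RR.isNoetherian_of_proper (X := Z) k
  have hdZ : topologicalKrullDim Z = (1 : ℕ) := by rw [← dim_closure_image i, genericPoint_pt, hxd]
  haveI : QuasiCompact (Z.fromSpecStalk (genericPoint Z)) := inferInstance
  haveI : QuasiSeparated (Z.fromSpecStalk (genericPoint Z)) := inferInstance
  obtain ⟨hfin, hdom, ⟨V, hV, hiso⟩, hint, -⟩ := Groth.Agent.S1585.result k Z
  haveI := hfin; haveI := hdom; haveI := hint; haveI := hiso
  let ν := Curv2.normalizationι Z
  let N := Curv2.normalization Z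
  letI : N.Over (Spec (CommRingCat.of k)) := ⟨ν ≫ (Z ↘ Spec (CommRingCat.of k))⟩
  haveI : IsProper (N ↘ Spec (CommRingCat.of k)) :=
    inferInstanceAs (IsProper (ν ≫ (Z ↘ Spec (CommRingCat.of k))))
  haveI : Surjective ν := ⟨fun z => by
    have h := ν.denseRange.closure_range
    rw [ν.isClosedMap.isClosed_range.closure_eq] at h
    exact (Set.eq_univ_iff_forall.1 h) z⟩
  have hdN : topologicalKrullDim N = (1 : ℕ) := by
    obtain ⟨m, hm, -, hmU⟩ := Groth.L22.SchemeDim.exists_dim_eq_trdeg k Z
    obtain ⟨m', hm', -, hmU'⟩ := Groth.L22.SchemeDim.exists_dim_eq_trdeg k N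
    have h1 := hmU V hV
    have hne : ((ν ⁻¹ᵁ V : N.Opens) : Set N).Nonempty := by
      obtain ⟨v, hv⟩ := hV
      obtain ⟨w, hw⟩ := ν.surjective v
      exact ⟨w, show ν w ∈ V by rw [hw]; exact hv⟩
    have h2 := hmU' _ hne
    rw [hm', ← h2, ← hdZ, hm, ← h1]
    exact IsHomeomorph.topologicalKrullDim_eq _ (ν ∣_ V).homeomorph.isHomeomorph
  have hregN : ∀ z : N, IsRegularLocalRing (N.presheaf.stalk z) :=
    Groth.Agent.S7321.isRegular_normalization Z (by rw [hdZ]; rfl)
  let h : N ⟶ C := (ν ≫ i) ≫ p₁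
  let gY : N ⟶ Y := (ν ≫ i) ≫ pullback.snd g f
  have hh : h ≫ (C ↘ Spec (CommRingCat.of k)) = N ↘ Spec (CommRingCat.of k) := by
    show ((ν ≫ i) ≫ p₁) ≫ _ = ν ≫ i ≫ p₁ ≫ _
    simp only [Category.assoc]
  have hcomp : gY ≫ f = h ≫ g := by
    simp only [gY, h, p₁, Category.assoc, pullback.condition]
  have hgY : gY ≫ (Y ↘ Spec (CommRingCat.of k)) = N ↘ Spec (CommRingCat.of k) := by
    rw [← hf, ← Category.assoc, hcomp, Category.assoc, hg, hh]
  haveI : IsProper (h ≫ (C ↘ Spec (CommRingCat.of k))) := by rw [hh]; infer_instance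
  haveI : IsProper h := IsProper.of_comp h (C ↘ Spec (CommRingCat.of k))
  have hgen : h (genericPoint N) = genericPoint C := by
    have h1 : ν (genericPoint N) = genericPoint Z := by
      have hs := (genericPoint_spec N).image ν.continuous
      rw [Set.image_univ, ν.denseRange.closure_range] at hs
      exact hs.eq (genericPoint_spec Z)
    show p₁ (i (ν (genericPoint N))) = _
    rw [h1]
    exact (congrArg p₁ (genericPoint_pt x)).trans hxy
  let eN : (Scheme.Modules.pullback gY).obj ((Scheme.Modules.pullback f).obj E) ≅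
      (Scheme.Modules.pullback h).obj ((Scheme.Modules.pullback g).obj E) :=
    (Scheme.Modules.pullbackComp gY f).app E ≪≫ (Scheme.Modules.pullbackCongr hcomp).app E ≪≫
      ((Scheme.Modules.pullbackComp h g).app E).symm
  have hN := hnef N (by rw [hdN]; rfl) hregN gY hgY _ (Groth.L18.Ample.isInvertible_pullback h hM)
    (eN.hom ≫ (Scheme.Modules.pullback h).map q) (epi_comp _ _)
  have hdC1 : topologicalKrullDim C = (1 : ℕ) := by rw [hdC]; rfl
  have hN' : (0 : ℚ) ≤ (Curv2.deg k N ((Scheme.Modules.pullback h).obj M) 1 : ℚ) := by exact_mod_cast hN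
  rw [Groth.L03.SurfFib.DivSections.deg_eq_altT,
    altT_pullback k h hh hgen hdN (L := fun _ : Fin 1 => M) fun _ => hM,
    ← Groth.L03.SurfFib.DivSections.deg_eq_altT] at hN'
  have hm := residueDegree_pos h hh hgen hdN hdC1
  exact_mod_cast (mul_nonneg_iff_of_pos_left (Nat.cast_pos.2 hm)).1 hN'

end Groth.Agent.S17283
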