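import Groth.Statements.S17287
import Groth.Agent.L22.CurveThrough
import Groth.Agent.L08.Cube.NoCurve
-- import your own Groth.Agent.* helpers here

set_option autoImplicit false
universe u
open CategoryTheory CategoryTheory.Limits AlgebraicGeometry TopologicalSpace
open Variety

namespace Groth.Agent.S17287

/-- Let f : Y → X be a surjective k-morphism of proper schemes over a field k and C ⊆ X an integral
closed subscheme of dimension one. Then there is an integral closed subscheme C' ⊆ Y of dimension
one with f(C') = C as closed subsets. (The source states this for proper algebraic spaces over k;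
this is the case of schemes.) -/
theorem result (k : Type u) [Field k] (X Y : Scheme.{u})
    [X.Over (Spec (CommRingCat.of k))] [IsProper (X ↘ (Spec (CommRingCat.of k)))] [Y.Over (Spec (CommRingCat.of k))] [IsProper (Y ↘ (Spec (CommRingCat.of k)))]
    (f : Y ⟶ X) (hf : f ≫ (X ↘ (Spec (CommRingCat.of k))) = Y ↘ (Spec (CommRingCat.of k))) [Surjective f]
    (C : X.IdealSheafData) [IsIntegral C.subscheme] (hC : topologicalKrullDim (C.support : Set X) = 1) :
    ∃ C' : Y.IdealSheafData, IsIntegral C'.subscheme ∧ topologicalKrullDim (C'.support : Set Y) = 1 ∧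
      f.base '' (C'.support : Set Y) = (C.support : Set X) := by
  haveI : CompactSpace ↥X := QuasiCompact.compactSpace_of_compactSpace (X ↘ (Spec (CommRingCat.of k)))
  haveI : CompactSpace ↥Y := QuasiCompact.compactSpace_of_compactSpace (Y ↘ (Spec (CommRingCat.of k)))
  haveI : IsProper (f ≫ (X ↘ (Spec (CommRingCat.of k)))) := by rw [hf]; infer_instance
  haveI : IsProper f := IsProper.of_comp f (X ↘ (Spec (CommRingCat.of k)))
  have hBc : IsClosed (C.support : Set X) := C.support.isClosed
  have hBi : IsIrreducible (C.support : Set X) := by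
    rw [← C.range_subschemeι, ← Set.image_univ]
    exact (IrreducibleSpace.isIrreducible_univ _).image _ C.subschemeι.continuous.continuousOn
  obtain ⟨η, hη⟩ := QuasiSober.sober hBi hBc
  obtain ⟨p, hp, hpc⟩ := hBc.exists_closed_singleton hBi.nonempty
  have hne : η ≠ p := fun e => by
    rw [← hη.def, e, hpc.closure_eq] at hC
    have := hC.ge.trans (Groth.L22.CurveThrough.dim_singleton_le p)
    exact absurd this (by norm_num)
  obtain ⟨y₀, hy₀⟩ := f.surjective η
  have himg : f.base '' closure {y₀} = closure {η} := by
    refine Set.Subset.antisymm ?_ (closure_minimal (Set.singleton_subset_iff.2 ⟨y₀, subset_closure rfl, hy₀⟩)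
      (f.isClosedMap _ isClosed_closure))
    rw [← hy₀, ← Set.image_singleton]
    exact image_closure_subset_closure_image f.continuous
  obtain ⟨q₀, hq₀, hq₀p⟩ := himg.ge (show p ∈ closure ({η} : Set X) by rw [hη.def]; exact hp)
  obtain ⟨q, ⟨hqy, hqp⟩, hqc⟩ := (isClosed_closure (s := ({y₀} : Set Y))).inter (hpc.preimage f.continuous)
    |>.exists_closed_singleton ⟨q₀, hq₀, hq₀p⟩
  obtain ⟨y, hy₀y, hyq, hyT, hyd⟩ := Groth.L22.CurveThrough.exists_curve_avoiding k Y
    (hpc.preimage f.continuous) (specializes_iff_mem_closure.2 hqy) hqc hqp (fun h => hne (hy₀.symm.trans h))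
  have hfy : f y = η := by
    by_contra h
    have hηy : η ⤳ f y := hy₀ ▸ hy₀y.map f.continuous
    exact hyT ((Groth.L22.CurveThrough.isClosed_of_dim_closure_le_one (y := η) (by rw [hη.def]; exact hC.le)
      hηy (Ne.symm h) ((show f q = p from hqp) ▸ hyq.map f.continuous)).symm)
  let Z : TopologicalSpace.Closeds Y := ⟨closure {y}, isClosed_closure⟩
  refine ⟨Scheme.IdealSheafData.vanishingIdeal Z,
    Groth.L08.Cube.isIntegral_vanishingIdeal Z isIrreducible_singleton.closure, ?_, ?_⟩
  · rw [Scheme.IdealSheafData.coe_support_vanishingIdeal]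
    exact hyd
  · rw [Scheme.IdealSheafData.coe_support_vanishingIdeal, ← hη.def, ← hfy]
    refine Set.Subset.antisymm ?_ (closure_minimal (Set.singleton_subset_iff.2 ⟨y, subset_closure rfl, rfl⟩)
      (f.isClosedMap _ isClosed_closure))
    rw [← Set.image_singleton]
    exact image_closure_subset_closure_image f.continuous

end Groth.Agent.S17287
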