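import Groth.Statements.S17288
import Groth.Agent.L22.Nakai.Integral
import Groth.Agent.L22.Inter.Point
import Groth.Agent.L18.LefConnected
import Groth.Agent.L21.RR.Twist
import Groth.Agent.L21.RR.Mul
import Groth.Agent.L03.Euler.Section
import Groth.Agent.L16.NegPow.Gen

set_option autoImplicit false
set_option backward.isDefEq.respectTransparency false
set_option linter.style.haveILetI false
universe u
open CategoryTheory CategoryTheory.Limits AlgebraicGeometry TopologicalSpace
open Variety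

namespace Groth.Agent.S17288

open Groth.L21.RR Groth.L16.Rees.FiniteAmple Groth.L22.Nakai
open Groth.L16.CohLinear (hmap hmap_comp overLin)

variable {X : Scheme.{u}}

/-- A power with a generating section at a point. -/
def Good (L : X.Modules) (n : ℕ) (x : X) : Prop :=
  ∃ φ : Coh.structureModule X ⟶ CohB1.tensorPow L n, x ∈ CohB1.genLocus _ φ

theorem Good.add {L : X.Modules} (hL : PicF.IsInvertible L) {a b : ℕ} {x : X} (ha : Good L a x) (hb : Good L b x) :
    Good L (a + b) x := by
  obtain ⟨φ, hφ⟩ := ha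
  obtain ⟨ψ, hψ⟩ := hb
  refine ⟨Groth.L18.GenLoc.tensHom φ ψ ≫ (Groth.L00.Tensor.tensorPowAdd L a b).hom, ?_⟩
  rw [Groth.L16.genLocus_comp_iso, Groth.L18.GenLoc.genLocus_tensHom (Groth.L18.Ample.isInvertible_tensorPow hL a)
    (Groth.L18.Ample.isInvertible_tensorPow hL b)]
  exact ⟨hφ, hψ⟩

theorem good_zero (L : X.Modules) (x : X) : Good L 0 x := by
  refine ⟨𝟙 _, ?_⟩
  show x ∈ CohB1.genLocus (Coh.structureModule X) (𝟙 _)
  rw [Groth.L18.Ample.genLocus_id]
  trivial

theorem Good.mul {L : X.Modules} (hL : PicF.IsInvertible L) {a : ℕ} {x : X} (ha : Good L a x) : ∀ i : ℕ, Good L (a * i) x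
  | 0 => by rw [mul_zero]; exact good_zero L x
  | i + 1 => by rw [mul_add, mul_one]; exact (Good.mul hL ha i).add hL ha

theorem mem_genLocus_iff' {L : X.Modules} (hL : PicF.IsInvertible L) (φ : Coh.structureModule X ⟶ L) (x : X) :
    x ∈ CohB1.genLocus L φ ↔ Function.Surjective (st φ x) := by
  obtain ⟨W, ε, hx, hε⟩ := Groth.L18.Frame.exists_frame hL x
  obtain ⟨b, hb, hb'⟩ := exists_coeff_secOf hε φ
  rw [surjective_st_iff (bijective_germ_frame hε hx) φ (hb' x hx), ← X.mem_basicOpen b x hx,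
    ← Groth.L18.GenLoc.genLocus_inf_eq φ hε hb]
  exact ⟨fun h => ⟨h, hx⟩, fun h => h.1⟩

variable {LD : X.Modules} (D : X.IdealSheafData)

theorem good_off (hLDi : PicF.IsInvertible LD) (hLD : ClSub.IsInverseOf LD (ClSub.idealMod D)) {x : X}
    (hx : x ∉ (D.support : Set X)) : Good LD 1 x := by
  obtain ⟨θ⟩ := hLD
  have hsurj : Function.Surjective (st (θ.inv ≫ twι LD D) x) := by
    have hex := shortExact_tw D hLDi
    obtain ⟨e, he⟩ := exists_frame_stalk hLDi x
    haveI := subsingleton_stalk_quotMod D hx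
    haveI h0 : Subsingleton ((CohB1.tensorMod LD (ClSub.quotMod D)).presheaf.stalk x) :=
      (tensorStalkEquiv _ he).toEquiv.subsingleton
    have h1 : Function.Surjective ((Groth.L00.Stk.F X x).map (twι LD D)) := by
      refine (Groth.L03.Euler.notMem_support_cokernel_iff (twι LD D)).1 fun h => ?_
      haveI := hex.epi_g
      refine (Groth.L21.Mod.support_mono
        (hex.gIsCokernel.coconePointUniqueUpToIso (cokernelIsCokernel (twι LD D))).inv h) ?_
      exact h0
    have h2 : Function.Surjective ((Groth.L00.Stk.F X x).map θ.inv) :=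
      (ConcreteCategory.bijective_of_isIso ((Groth.L00.Stk.F X x).map θ.inv)).2
    intro v
    obtain ⟨w, hw⟩ := h1 v
    obtain ⟨z, hz⟩ := h2 w
    refine ⟨z, ?_⟩
    show ((Groth.L00.Stk.F X x).map (θ.inv ≫ twι LD D)) z = v
    rw [Functor.map_comp, ModuleCat.comp_apply, hz, hw]
  have hm := (mem_genLocus_iff' hLDi _ x).2 hsurj
  refine ⟨(θ.inv ≫ twι LD D) ≫ (Groth.L00.Tensor.tensorPowOne LD).symm.hom, ?_⟩
  rw [Groth.L16.genLocus_comp_iso]
  exact hm

variable (k : Type u) [Field k] [X.Over (Spec (CommRingCat.of k))] [IsProper (X ↘ Spec (CommRingCat.of k))]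

include k in
/-- Sections of large powers restrict surjectively to `D`. -/
theorem exists_surjective (hLDi : PicF.IsInvertible LD) (hLD : ClSub.IsInverseOf LD (ClSub.idealMod D))
    (hamp : CohB1.IsAmple ((Scheme.Modules.pullback D.subschemeι).obj LD)) :
    ∃ N : ℕ, ∀ n, N ≤ n → Function.Surjective (hmap (twπ (CohB1.tensorPow LD n) D) 0) := by
  haveI := isNoetherian_of_proper (X := X) k
  obtain ⟨θ⟩ := hLD
  letI : D.subscheme.Over (Spec (CommRingCat.of k)) := ⟨D.subschemeι ≫ X ↘ Spec (CommRingCat.of k)⟩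
  haveI : IsProper (D.subscheme ↘ Spec (CommRingCat.of k)) :=
    inferInstanceAs (IsProper (D.subschemeι ≫ X ↘ Spec (CommRingCat.of k)))
  haveI := isNoetherian_of_proper (X := D.subscheme) k
  haveI : Coh.IsQCoh (Coh.structureModule D.subscheme) := Groth.L16.CohClosedPush.isCoh_structure.1
  obtain ⟨a, ha⟩ : Van LD (ClSub.quotMod D) 1 := Van.of_push hLDi D.subschemeι (Coh.structureModule D.subscheme)
    (van_of_isAmple k hamp Groth.L16.CohClosedPush.isCoh_structure one_pos)
  let f : ℕ → ℕ := fun j => Module.finrank k (Coh.HH X (CohB1.tensorPow LD (a + j)) 1)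
  let j₀ := Function.argmin f
  haveI hFin : ∀ M : X.Modules, Coh.IsCoh M → Module.Finite k (Coh.HH X M 1) :=
    fun M hM => Groth.L16.ProperFinite.finite_HH k hM 1
  let ψ : ∀ n, CohB1.tensorMod (CohB1.tensorPow LD (n + 1)) (ClSub.idealMod D) ≅ CohB1.tensorPow LD n := fun n =>
    Groth.L00.Tensor.tensorAssoc (CohB1.tensorPow LD n) LD (ClSub.idealMod D) ≪≫
      Groth.L00.Tensor.tensorIso (Iso.refl _) θ ≪≫ Groth.L00.Tensor.tensorUnitRight _
  have hcoh : ∀ n, Coh.IsCoh (CohB1.tensorPow LD n) := fun n =>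
    Groth.L18.Ample.isCoh_of_isInvertible (Groth.L18.Ample.isInvertible_tensorPow hLDi n)
  have step : ∀ n, a ≤ n →
      Module.finrank k (Coh.HH X (CohB1.tensorPow LD (n + 1)) 1) ≤ Module.finrank k (Coh.HH X (CohB1.tensorPow LD n) 1) ∧
      (Module.finrank k (Coh.HH X (CohB1.tensorPow LD (n + 1)) 1) = Module.finrank k (Coh.HH X (CohB1.tensorPow LD n) 1) →
        Function.Injective (hmap (twι (CohB1.tensorPow LD (n + 1)) D) 1)) := by
    intro n hn
    have hT := shortExact_tw D (Groth.L18.Ample.isInvertible_tensorPow hLDi (n + 1))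
    have hs := surjective_hmap_f hT 1 (ha (n + 1) (by omega))
    let φ := overLin k (hmap (twι (CohB1.tensorPow LD (n + 1)) D) 1)
    haveI := hFin _ (hcoh (n + 1))
    haveI := hFin _ (isCoh_twist D (Groth.L18.Ample.isInvertible_tensorPow hLDi (n + 1)))
    have e : Module.finrank k (Coh.HH X (CohB1.tensorMod (CohB1.tensorPow LD (n + 1)) (ClSub.idealMod D)) 1) =
        Module.finrank k (Coh.HH X (CohB1.tensorPow LD n) 1) :=
      Groth.L03.Euler.finrank_HH_of_iso (k := k) (ψ n) 1
    refine ⟨(φ.finrank_le_finrank_of_surjective hs).trans e.le, fun h => ?_⟩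
    exact (LinearMap.injective_iff_surjective_of_finrank_eq_finrank (f := φ) (e.trans h.symm)).2 hs
  have hmin : ∀ d, f (j₀ + d) = f j₀ := by
    intro d
    induction d with
    | zero => rfl
    | succ d ih =>
      refine le_antisymm ?_ (Function.argmin_le f _)
      rw [← ih]
      exact (step (a + (j₀ + d)) (by omega)).1
  refine ⟨a + j₀ + 1, fun n hn => ?_⟩
  obtain ⟨m, rfl⟩ : ∃ m, n = m + 1 := ⟨n - 1, by omega⟩
  obtain ⟨d, rfl⟩ : ∃ d, m = a + (j₀ + d) := ⟨m - (a + j₀), by omega⟩
  have hinj := (step (a + (j₀ + d)) (by omega)).2 ((hmin (d + 1)).trans (hmin d).symm)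
  exact fun y => surjective_hmap_g (shortExact_tw D (Groth.L18.Ample.isInvertible_tensorPow hLDi _)) 0 hinj y

include k in
/-- At a closed point of `D` all large powers have a generating section. -/
theorem good_on (hLDi : PicF.IsInvertible LD) (hamp : CohB1.IsAmple ((Scheme.Modules.pullback D.subschemeι).obj LD))
    {N : ℕ} (hN : ∀ n, N ≤ n → Function.Surjective (hmap (twπ (CohB1.tensorPow LD n) D) 0)) {z : X}
    (hz : IsClosed ({z} : Set X)) (hzD : z ∈ (D.support : Set X)) : ∃ N', ∀ n, N' ≤ n → Good LD n z := by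
  haveI := isNoetherian_of_proper (X := X) k
  set I := Scheme.IdealSheafData.vanishingIdeal (⟨{z}, hz⟩ : Closeds X) with hI
  have hle : D ≤ I := Scheme.IdealSheafData.le_support_iff_le_vanishingIdeal.1 (Set.singleton_subset_iff.2 hzD)
  have hIs : topologicalKrullDim (I.support : Set X) ≤ 0 := by
    rw [hI, Groth.L18.support_vanishingIdeal]
    haveI : DiscreteTopology ({z} : Set X) := inferInstance
    exact topologicalKrullDim_zero_of_discreteTopology ({z} : Set X)
  have hQs := suppClosed_quotMod I hIs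
  haveI := epi_toSubscheme I
  haveI : Epi (Lef.quotMap hle) := epi_of_epi_fac (Groth.L18.LefConnected.toSubscheme_quotMap hle)
  have hK := (Groth.L16.CohKernel.isCoh_kernel_cokernel (isCoh_quotMod D) (isCoh_quotMod I) (Lef.quotMap hle)).1
  obtain ⟨b, hb⟩ : Van LD (kernel (Lef.quotMap hle)) 1 := by
    refine van_of_subschemes k hLDi hK (fun C i _ _ hC => ?_) one_pos
    have hCD : Set.range i ⊆ (D.support : Set X) :=
      (hC.trans (Groth.L21.Mod.support_mono (kernel.ι (Lef.quotMap hle)))).trans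
        (Groth.L22.Inter.support_quotMod_subset D)
    have hker : D.subschemeι.ker ≤ i.ker := by
      rw [Scheme.IdealSheafData.ker_subschemeι]
      exact (Scheme.IdealSheafData.le_support_iff_le_vanishingIdeal.1 le_rfl).trans
        (Groth.L18.vanishingIdeal_le_ker i D.support hCD)
    let j : C ⟶ D.subscheme := IsClosedImmersion.lift D.subschemeι i hker
    have hj : j ≫ D.subschemeι = i := IsClosedImmersion.lift_fac _ _ _
    haveI : IsClosedImmersion (j ≫ D.subschemeι) := hj.symm ▸ inferInstance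
    haveI : IsClosedImmersion j := IsClosedImmersion.of_comp j D.subschemeι
    exact Groth.L18.Ample.isAmple_of_iso ((Scheme.Modules.pullbackComp j D.subschemeι).app LD ≪≫
      (Scheme.Modules.pullbackCongr hj).app LD) (Groth.L18.Ample.isAmple_pullback_of_isAffineHom j hamp)
  refine ⟨max N b, fun n hn => ?_⟩
  have hL := Groth.L18.Ample.isInvertible_tensorPow hLDi n
  have hq : (ShortComplex.mk (kernel.ι (Lef.quotMap hle)) (Lef.quotMap hle) (kernel.condition _)).ShortExact :=
    { exact := ShortComplex.exact_kernel _ }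
  have hTq := Groth.L16.FrameIso.shortExact_tensor_left (isFlat_of_isInvertible hL) _ hq
  have hsurj : Function.Surjective (hmap (twπ (CohB1.tensorPow LD n) I) 0) := by
    intro y
    obtain ⟨w, rfl⟩ := surjective_hmap_g hTq 0 (by
      haveI := hb n (le_of_max_le_right hn)
      exact fun a b _ => @Subsingleton.elim _ (hb n (le_of_max_le_right hn)) a b) y
    obtain ⟨v, rfl⟩ := hN n (le_of_max_le_left hn) w
    refine ⟨v, ?_⟩
    refine Eq.trans ?_ (hmap_comp _ _ 0 v)
    congr 2
    simp only [twπ, Category.assoc]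
    congr 1
    exact (congrArg (DCoh.tensorBi.obj (CohB1.tensorPow LD n)).map
      (Groth.L18.LefConnected.toSubscheme_quotMap hle)).symm.trans (Functor.map_comp _ _ _)
  obtain ⟨e', he'⟩ := exists_frame_stalk hL z
  haveI := (isSimple_quot_point hz).nontrivial
  obtain ⟨v, hv⟩ := exists_ne (0 : (ClSub.quotMod I).presheaf.stalk z)
  obtain ⟨q, hq', -⟩ := exists_section_germ (suppClosed_tensor hL hQs) z ((tensorStalkEquiv _ he').symm v)
  obtain ⟨t, htq⟩ := hsurj ((e0 _).symm q)
  have ht : hmap (twπ (CohB1.tensorPow LD n) I) 0 t ≠ 0 := fun h => by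
    rw [htq] at h
    have hq0 : q = 0 := (e0 _).symm.injective (h.trans (map_zero _).symm)
    rw [hq0, map_zero] at hq'
    exact hv ((tensorStalkEquiv _ he').symm.injective (hq'.symm.trans (map_zero _).symm))
  obtain ⟨φ, hφ⟩ := exists_hom_of_hh0 t
  refine ⟨φ, (mem_genLocus_iff' hL φ z).2 ?_⟩
  obtain ⟨W, e, hzW, he⟩ := Groth.L18.Frame.exists_frame hL z
  obtain ⟨a, ha⟩ := exists_coeff_st he φ
  refine (surjective_st_iff (bijective_germ_frame he hzW) φ (ha z hzW).symm).2 ?_
  by_contra hu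
  apply ht
  apply (e0 _).injective
  rw [e0_hmap, map_zero, ← hφ]
  refine germ_ext fun y hy => ?_
  rw [map_zero]
  rcases eq_or_ne y z with rfl | hne
  · rw [← st_germ (twπ (CohB1.tensorPow LD n) I) hy]
    change st (twπ (CohB1.tensorPow LD n) I) y ((CohB1.tensorPow LD n).presheaf.germ ⊤ y hy (φ.app ⊤ (oneSec X))) = 0
    rw [← Groth.L20.ModStalk.germ_rs (CohB1.tensorPow LD n) (le_top : W ≤ ⊤) hzW, ← st_one φ y hzW, ha y hzW, map_smul]
    haveI : IsSimpleModule (X.presheaf.stalk y) ((CohB1.tensorMod (CohB1.tensorPow LD n) (ClSub.quotMod I)).presheaf.stalk y) :=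
      haveI := isSimple_quot_point hz
      IsSimpleModule.congr (tensorStalkEquiv (ClSub.quotMod I) (bijective_germ_frame he hzW))
    by_contra hne0
    obtain ⟨c, hc⟩ := IsSimpleModule.toSpanSingleton_surjective (X.presheaf.stalk y) hne0
      (st (twπ (CohB1.tensorPow LD n) I) y ((CohB1.tensorPow LD n).presheaf.germ W y hzW e))
    rw [LinearMap.toSpanSingleton_apply] at hc
    rw [smul_smul] at hc
    have h3 : (1 - c * X.presheaf.germ W y hzW a) • st (twπ (CohB1.tensorPow LD n) I) y ((CohB1.tensorPow LD n).presheaf.germ W y hzW e) = 0 := by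
      rw [sub_smul, hc]
      exact sub_eq_zero.2 (one_smul _ _)
    have hmem : c * X.presheaf.germ W y hzW a ∈ IsLocalRing.maximalIdeal (X.presheaf.stalk y) :=
      Ideal.mul_mem_left _ _ hu
    obtain ⟨d, hd'⟩ := ((IsLocalRing.isUnit_or_isUnit_one_sub_self _).resolve_left hmem).exists_left_inv
    have h4 := congrArg (d • ·) h3
    simp only [smul_smul, hd', one_smul, smul_zero] at h4
    exact hne0 (by rw [h4, smul_zero])
  · haveI : Subsingleton ((CohB1.tensorMod (CohB1.tensorPow LD n) (ClSub.quotMod I)).presheaf.stalk y) := by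
      obtain ⟨e₂, he₂⟩ := exists_frame_stalk hL y
      haveI := subsingleton_stalk_quotMod I (x := y) (by
        rw [hI, Groth.L18.support_vanishingIdeal]; exact hne)
      exact (tensorStalkEquiv _ he₂).toEquiv.subsingleton
    exact Subsingleton.elim _ _

/-- Let X be a proper scheme over a field k, D ⊆ X an effective Cartier divisor, i.e. a closed subscheme
whose quasi-coherent ideal I_D is an invertible O_X-module, and O_X(D) an invertible module with
O_X(D) ⊗ I_D ≅ O_X. If the restriction of O_X(D) to D is ample on D, then O_X(mD) = O_X(D)^{⊗m} is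
generated by its global sections for all sufficiently large m. (The source states this for proper
algebraic spaces over k; this is the case of schemes.) -/
theorem result (k : Type u) [Field k] (X : Scheme.{u})
    [X.Over (Spec (CommRingCat.of k))] [IsProper (X ↘ (Spec (CommRingCat.of k)))] (D : X.IdealSheafData)
    (hD : PicF.IsInvertible (ClSub.idealMod D)) (LD : X.Modules) (hLD : ClSub.IsInverseOf LD (ClSub.idealMod D))
    (hample : CohB1.IsAmple ((Scheme.Modules.pullback D.subschemeι).obj LD)) :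
    ∀ᶠ m : ℕ in Filter.atTop, Curv2.IsGloballyGenerated (CohB1.tensorPow LD m) := by
  haveI := isNoetherian_of_proper (X := X) k
  have hLDi : PicF.IsInvertible LD := Groth.L16.NegPow.isInvertible_inverse hD (Groth.L00.Tensor.tensorComm _ _ ≪≫ hLD.some)
  obtain ⟨N, hN⟩ := exists_surjective D k hLDi hLD hample
  have hpt : ∀ x : X, ∃ N₀ : ℕ, 1 ≤ N₀ ∧ Good LD N₀ x ∧ Good LD (N₀ + 1) x := by
    intro x
    obtain ⟨z, hz, hxz⟩ := exists_closed_specialization x
    have key : ∃ N', ∀ n, N' ≤ n → Good LD n z := by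
      by_cases hzD : z ∈ (D.support : Set X)
      · exact good_on D k hLDi hample hN hz hzD
      · exact ⟨0, fun n _ => one_mul n ▸ (good_off D hLDi hLD hzD).mul hLDi n⟩
    obtain ⟨N', hN'⟩ := key
    refine ⟨N' + 1, by omega, ?_, ?_⟩
    · obtain ⟨φ, hφ⟩ := hN' (N' + 1) (by omega)
      exact ⟨φ, hxz.mem_open (CohB1.genLocus _ φ).2 hφ⟩
    · obtain ⟨φ, hφ⟩ := hN' (N' + 1 + 1) (by omega)
      exact ⟨φ, hxz.mem_open (CohB1.genLocus _ φ).2 hφ⟩
  choose N₀ h1 hφ₀ hψ₀ using hpt
  choose φ hφ using hφ₀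
  choose ψ hψ using hψ₀
  obtain ⟨T, hT⟩ := isCompact_univ.elim_finite_subcover
    (fun x : X => (CohB1.genLocus _ (φ x) : Set X) ∩ CohB1.genLocus _ (ψ x))
    (fun x => (CohB1.genLocus _ (φ x)).2.inter (CohB1.genLocus _ (ψ x)).2)
    (fun x _ => Set.mem_iUnion.2 ⟨x, hφ x, hψ x⟩)
  refine Filter.eventually_atTop.2 ⟨T.sup fun x => N₀ x * N₀ x, fun n hn => isGloballyGenerated_of_sections fun y => ?_⟩
  obtain ⟨x, hx, hy⟩ := Set.mem_iUnion₂.1 (hT (Set.mem_univ y))
  have hn' : N₀ x * N₀ x ≤ n := (Finset.le_sup (f := fun x => N₀ x * N₀ x) hx).trans hn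
  have hq : n % N₀ x ≤ n / N₀ x :=
    (Nat.mod_lt _ (h1 x)).le.trans ((Nat.le_div_iff_mul_le (h1 x)).2 hn')
  obtain ⟨i, hi⟩ := Nat.exists_eq_add_of_le hq
  have e : N₀ x * i + (N₀ x + 1) * (n % N₀ x) = n := by
    conv_rhs => rw [← Nat.div_add_mod n (N₀ x), hi]
    ring
  obtain ⟨σ, hσ⟩ : Good LD n y := e ▸ (Good.mul hLDi ⟨φ x, hy.1⟩ i).add hLDi (Good.mul hLDi ⟨ψ x, hy.2⟩ _)
  exact ⟨σ, (mem_genLocus_iff' (Groth.L18.Ample.isInvertible_tensorPow hLDi n) σ y).1 hσ⟩

end Groth.Agent.S17288
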