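import Groth.Statements.S17289
import Groth.Agent.L22.Chern.Tensor
import Groth.Agent.L18.Grass.MapEpi
import Groth.Agent.L18.AmplePull
import Groth.Agent.L29.DCoh.PCQCoh

set_option autoImplicit false
set_option backward.isDefEq.respectTransparency.types false
set_option backward.isDefEq.respectTransparency false
universe u
open CategoryTheory CategoryTheory.Limits AlgebraicGeometry TopologicalSpace
open Variety

namespace Groth.Agent.S17289

/-- Suppose X is a proper scheme over a field k, and E, F are finite locally free O_X-modules with E → F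
surjective. Assume E is ample, meaning that the fundamental module O(1) of the projective bundle
P(E) = Proj(Sym E) → X is ample (for any relative-Proj data of the graded symmetric algebra of E
with its O(1)); then F is ample in the same sense. (The source states this for proper algebraic
spaces over k, together with the analogous assertion for nef modules; this is the ample assertion in
the case of schemes.) -/
theorem result (k : Type u) [Field k] (X : Scheme.{u})
    [X.Over (Spec (CommRingCat.of k))] [IsProper (X ↘ (Spec (CommRingCat.of k)))] (E F : X.Modules)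
    (hE : FlatMod.IsFinLocFree E) (hF : FlatMod.IsFinLocFree F) (φ : E ⟶ F) [Epi φ]
    (hample : ∀ (𝒮 : RelProj.QCGrAlg X) (j : E ⟶ 𝒮.toModule) (P : Scheme.{u}) (p : P ⟶ X)
        (chart : ∀ (U : X.Opens) (hU : IsAffineOpen U),
          (((p ⁻¹ᵁ U : P.Opens) : Scheme.{u}) ≅ Proj (𝒮.deg U hU)))
        (O1 : P.Modules)
        (lam : ∀ (U : X.Opens) (hU : IsAffineOpen U),
          O1 ⟶ (Scheme.Modules.pushforward (RelProj.emb p chart U hU)).obj (GrTwist.twist (𝒮.deg U hU) 1)),
        RelProj.IsGrSymAlg E 𝒮 j → RelProj.IsRelProj 𝒮 p chart → RelProj.IsRelTwist 𝒮 p chart 1 O1 lam →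
        CohB1.IsAmple O1) :
    ∀ (𝒮 : RelProj.QCGrAlg X) (j : F ⟶ 𝒮.toModule) (P : Scheme.{u}) (p : P ⟶ X)
      (chart : ∀ (U : X.Opens) (hU : IsAffineOpen U),
        (((p ⁻¹ᵁ U : P.Opens) : Scheme.{u}) ≅ Proj (𝒮.deg U hU)))
      (O1 : P.Modules)
      (lam : ∀ (U : X.Opens) (hU : IsAffineOpen U),
        O1 ⟶ (Scheme.Modules.pushforward (RelProj.emb p chart U hU)).obj (GrTwist.twist (𝒮.deg U hU) 1)),
      RelProj.IsGrSymAlg F 𝒮 j → RelProj.IsRelProj 𝒮 p chart → RelProj.IsRelTwist 𝒮 p chart 1 O1 lam →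
      CohB1.IsAmple O1 := by
  intro 𝒮 j P p chart O1 lam hS hP hO
  haveI hqF : Coh.IsQCoh F := Groth.L29.DC.PCQCoh.isQCoh_of_isFinLocFree hF
  haveI hqE : Coh.IsQCoh E := Groth.L29.DC.PCQCoh.isQCoh_of_isFinLocFree hE
  obtain ⟨q, hB⟩ := Groth.L22.Bundle.exists_isProjBundle hqF hS hP hO
    (Groth.L18.RelTilde.isInvertible_of_genDegOne (Groth.L18.PBundle.isGenDegOne_of_isGrSymAlg hqF hS) hO)
  obtain ⟨𝒯, j', P', p', chart', O', lam', q', hS', hP', hO', hB'⟩ :=
    Groth.L22.Chern.exists_relProj_bundle hqE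
  have hA := hample 𝒯 j' P' p' chart' O' lam' hS' hP' hO'
  have hG := Grass.IsGrass.of_isProjBundle hB
  have hG' := Grass.IsGrass.of_isProjBundle hB'
  obtain ⟨hg, θ, -⟩ := Groth.L18.MapEpi.exists_iso hG' hG φ (𝟙 P) (g := p) (Category.id_comp p) _ (Category.id_comp _)
  haveI := Groth.L18.MapEpi.isClosedImmersion_mapOfEpi hG' hG φ
  exact Groth.L18.Ample.isAmple_of_iso (θ ≪≫ (Scheme.Modules.pullbackId P).app O1)
    (Groth.L18.Ample.isAmple_pullback_of_isAffineHom (hG'.mapOfEpi hG φ) hA)

end Groth.Agent.S17289
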