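import Groth.Statements.S1729
import Mathlib.RingTheory.Nakayama
import Mathlib.RingTheory.Finiteness.Basic
import Mathlib.LinearAlgebra.Finsupp.LinearCombination
import Mathlib.Algebra.Module.Projective
import Mathlib.LinearAlgebra.FreeModule.Basic

set_option autoImplicit false
universe u
open Dual2

namespace Groth.Agent.S1729

/-- Over a local ring, every finite module M admits a projective cover: a surjection from a projective
module P onto M such that no proper submodule of P maps onto M. -/
theorem result (R : Type u) [CommRing R] [IsLocalRing R] (M : Type u) [AddCommGroup M] [Module R M] [Module.Finite R M] : ∃ (P : Type u) (_ : AddCommGroup P) (_ : Module R P) (f : P →ₗ[R] M), Dual2.IsProjectiveCover f := by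
  classical
  have hex : ∃ n : ℕ, ∃ s : Fin n → M, Submodule.span R (Set.range s) = ⊤ := by
    obtain ⟨n, s, hs⟩ := Module.Finite.exists_fin (R := R) (M := M)
    exact ⟨n, s, hs⟩
  obtain ⟨n, hn⟩ : ∃ n, n = Nat.find hex := ⟨_, rfl⟩
  obtain ⟨s, hs⟩ : ∃ s : Fin n → M, Submodule.span R (Set.range s) = ⊤ := hn ▸ Nat.find_spec hex
  let f : (Fin n → R) →ₗ[R] M := Fintype.linearCombination R s
  have hsurj : Function.Surjective f := by
    rw [← LinearMap.range_eq_top, Fintype.range_linearCombination, hs]
  have hker : LinearMap.ker f ≤ IsLocalRing.maximalIdeal R • (⊤ : Submodule R (Fin n → R)) := by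
    intro a ha
    have hmem : ∀ i, a i ∈ IsLocalRing.maximalIdeal R := by
      intro i
      by_contra hi
      have hu : IsUnit (a i) := IsLocalRing.notMem_maximalIdeal.1 hi
      have hsum : ∑ j, a j • s j = 0 := by
        simpa [f, Fintype.linearCombination_apply] using ha
      have hsi : s i ∈ Submodule.span R (s '' {j | j ≠ i}) := by
        rw [← Finset.add_sum_erase _ _ (Finset.mem_univ i), add_eq_zero_iff_eq_neg] at hsum
        obtain ⟨u, hu⟩ := hu
        have hs' : s i = (↑u⁻¹ : R) • -(∑ j ∈ Finset.univ.erase i, a j • s j) := by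
          rw [← hsum, ← hu, smul_smul, Units.inv_mul, one_smul]
        rw [hs']
        refine Submodule.smul_mem _ _ (Submodule.neg_mem _ (Submodule.sum_mem _ fun j hj => ?_))
        exact Submodule.smul_mem _ _ (Submodule.subset_span ⟨j, (Finset.mem_erase.1 hj).1, rfl⟩)
      obtain ⟨m, hm⟩ : ∃ m, n = m + 1 := Nat.exists_eq_add_one.2 (Fin.pos i)
      refine Nat.find_min hex (show m < Nat.find hex by omega) ⟨fun j => s (Fin.cast hm.symm ((Fin.cast hm i).succAbove j)), ?_⟩
      rw [eq_top_iff, ← hs, Submodule.span_le]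
      rintro _ ⟨j, rfl⟩
      by_cases hji : j = i
      · subst hji
        refine (Submodule.span_mono ?_) hsi
        rintro _ ⟨l, hl, rfl⟩
        obtain ⟨l', hl'⟩ := Fin.exists_succAbove_eq (show Fin.cast hm l ≠ Fin.cast hm j by simpa using hl)
        exact ⟨l', by simp [hl']⟩
      · obtain ⟨l', hl'⟩ := Fin.exists_succAbove_eq (show Fin.cast hm j ≠ Fin.cast hm i by simpa using hji)
        exact Submodule.subset_span ⟨l', by simp [hl']⟩
    rw [pi_eq_sum_univ a]
    exact Submodule.sum_mem _ fun j _ => Submodule.smul_mem_smul (hmem j) trivial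
  refine ⟨(Fin n → R), inferInstance, inferInstance, f, inferInstance, hsurj, fun N hN => ?_⟩
  have hsup : (⊤ : Submodule R (Fin n → R)) ≤ N ⊔ IsLocalRing.maximalIdeal R • (⊤ : Submodule R (Fin n → R)) := by
    intro x _
    obtain ⟨y, hy, hyx⟩ := (hN ▸ (Submodule.mem_top : f x ∈ ⊤) : f x ∈ Submodule.map f N)
    have : x - y ∈ LinearMap.ker f := by simp [hyx]
    exact Submodule.mem_sup.2 ⟨y, hy, x - y, hker this, by abel⟩
  exact top_le_iff.1 (Submodule.le_of_le_smul_of_le_jacobson_bot Module.Finite.fg_top
    (IsLocalRing.maximalIdeal_le_jacobson _) hsup)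

end Groth.Agent.S1729
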