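import Groth.Statements.S17292
import Groth.Agent.L16.Rees.SpreadAmple
import Groth.Agent.L22.Bundle.BaseChange
import Groth.Agent.L22.Bundle.UPBridge
import Groth.Agent.L18.Grass.MapEpi
import Groth.Agent.L18.PBundle.SymMap
import Groth.Agent.L18.RelTilde.Frames
import Groth.Agent.L18.RelProj.Exists
import Groth.Agent.L27.Quot.ProjProper
import Groth.Agent.L16.NegPow.Gen
import Groth.Agent.L20.DescLocus.Main
import Groth.Agent.L18.AmplePull
import Groth.Agent.L18.PBundle.Embed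

set_option autoImplicit false
set_option backward.isDefEq.respectTransparency false
set_option linter.style.haveILetI false
universe u
open CategoryTheory CategoryTheory.Limits AlgebraicGeometry TopologicalSpace
open Variety

namespace Groth.Agent.S17292

theorem exists_bundle_iso {Y P₁ P₂ : Scheme.{u}} {π₁ : P₁ ⟶ Y} {π₂ : P₂ ⟶ Y} {E : Y.Modules}
    {O₁ : P₁.Modules} {O₂ : P₂.Modules} {q₁ : (Scheme.Modules.pullback π₁).obj E ⟶ O₁}
    {q₂ : (Scheme.Modules.pullback π₂).obj E ⟶ O₂} (hP₁ : KRR.IsProjBundle π₁ E O₁ q₁)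
    (hP₂ : KRR.IsProjBundle π₂ E O₂ q₂) :
    ∃ h : P₂ ⟶ P₁, IsIso h ∧ Nonempty ((Scheme.Modules.pullback h).obj O₁ ≅ O₂) := by
  have hG₁ := Grass.IsGrass.of_isProjBundle hP₁
  have hG₂ := Grass.IsGrass.of_isProjBundle hP₂
  haveI := Groth.L18.MapEpi.mono_mapOfEpi hG₁ hG₂ (𝟙 E)
  obtain ⟨a, ha⟩ := Groth.L18.MapEpi.exists_factor hG₁ hG₂ (𝟙 E) (𝟙 P₁) (by
    have hk : kernel.ι (𝟙 E) = 0 := by
      rw [← cancel_mono (𝟙 E), kernel.condition, zero_comp]
    rw [hk, Functor.map_zero, zero_comp, Functor.map_zero])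
  haveI : IsSplitEpi (hG₁.mapOfEpi hG₂ (𝟙 E)) := IsSplitEpi.mk' ⟨a, ha⟩
  exact ⟨hG₁.mapOfEpi hG₂ (𝟙 E), isIso_of_mono_of_isSplitEpi _, ⟨hG₁.liftIso _ _ _ _ _⟩⟩

theorem exists_data {S : Scheme.{u}} (E : S.Modules) (hE : FlatMod.IsFinLocFree E) :
    ∃ (𝒮 : RelProj.QCGrAlg S) (j : E ⟶ 𝒮.toModule) (P : Scheme.{u}) (p : P ⟶ S)
      (chart : ∀ (U : S.Opens) (hU : IsAffineOpen U), (((p ⁻¹ᵁ U : P.Opens) : Scheme.{u}) ≅ Proj (𝒮.deg U hU)))
      (O1 : P.Modules)
      (lam : ∀ (U : S.Opens) (hU : IsAffineOpen U),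
        O1 ⟶ (Scheme.Modules.pushforward (RelProj.emb p chart U hU)).obj (GrTwist.twist (𝒮.deg U hU) 1)),
      RelProj.IsGrSymAlg E 𝒮 j ∧ RelProj.IsRelProj 𝒮 p chart ∧ RelProj.IsRelTwist 𝒮 p chart 1 O1 lam ∧ IsProper p := by
  haveI := Groth.L29.DC.PCQCoh.isQCoh_of_isFinLocFree hE
  have hj := Groth.L18.SymSheaf.isGrSymAlg E
  obtain ⟨P, p, chart, hP⟩ := Groth.L18.RP.exists_isRelProj (Groth.L18.SymSheaf.symGr E)
  obtain ⟨O1, lam, hO1⟩ := Groth.L18.PBundle.exists_twist hP 1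
  have hgen := Groth.L18.PBundle.isGenDegOne_of_isGrSymAlg inferInstance hj
  have hft := Groth.L18.PBundle.isFTDeg_one_of_isGrSymAlg (Groth.L16.NegPow.isCoh_of_isFinLocFree hE) hj
  exact ⟨_, _, P, p, chart, O1, lam, hj, hP, hO1,
    Groth.L27.ProjProper.isProper_of_isProjective ⟨_, P, p, chart, Iso.refl _, hgen, hft, hP, Category.id_comp _⟩⟩

theorem exists_isProjBundle {S P : Scheme.{u}} {E : S.Modules} (hE : FlatMod.IsFinLocFree E)
    {𝒮 : RelProj.QCGrAlg S} {j : E ⟶ 𝒮.toModule} {p : P ⟶ S}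
    {chart : ∀ (U : S.Opens) (hU : IsAffineOpen U), (((p ⁻¹ᵁ U : P.Opens) : Scheme.{u}) ≅ Proj (𝒮.deg U hU))}
    {O1 : P.Modules} {lam : ∀ (U : S.Opens) (hU : IsAffineOpen U),
      O1 ⟶ (Scheme.Modules.pushforward (RelProj.emb p chart U hU)).obj (GrTwist.twist (𝒮.deg U hU) 1)}
    (hj : RelProj.IsGrSymAlg E 𝒮 j) (hP : RelProj.IsRelProj 𝒮 p chart)
    (hO1 : RelProj.IsRelTwist 𝒮 p chart 1 O1 lam) :
    PicF.IsInvertible O1 ∧ ∃ q : (Scheme.Modules.pullback p).obj E ⟶ O1, KRR.IsProjBundle p E O1 q := by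
  have hq := Groth.L29.DC.PCQCoh.isQCoh_of_isFinLocFree hE
  have hinv := Groth.L18.RelTilde.isInvertible_of_genDegOne
    (Groth.L18.PBundle.isGenDegOne_of_isGrSymAlg hq hj) hO1
  exact ⟨hinv, Groth.L22.Bundle.exists_isProjBundle hq hj hP hO1 hinv⟩

/-- Let Y be a Noetherian scheme, f : X → Y a proper morphism of schemes and E a finite locally free
O_X-module. Then the set of points y of Y such that the restriction E_y of E to the fibre X_y is
ample — meaning that the fundamental module O(1) of the projective bundle P(E_y) = Proj(Sym E_y) →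
X_y is ample, for any relative-Proj data of the graded symmetric algebra of E_y with its O(1) — is
open in Y: if E_y is ample then E_{y'} is ample for every y' in some open neighbourhood of y. (The
source allows X to be an algebraic space proper over Y; this is the case of schemes.) -/
theorem result (X Y : Scheme.{u}) [IsNoetherian Y] (f : X ⟶ Y) [IsProper f]
    (E : X.Modules) (hE : FlatMod.IsFinLocFree E) :
    IsOpen {y : Y | ∀ (𝒮 : RelProj.QCGrAlg (f.fiber y)) (j : ((Scheme.Modules.pullback (f.fiberι y)).obj E) ⟶ 𝒮.toModule) (P : Scheme.{u}) (p : P ⟶ (f.fiber y))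
        (chart : ∀ (U : (f.fiber y).Opens) (hU : IsAffineOpen U),
          (((p ⁻¹ᵁ U : P.Opens) : Scheme.{u}) ≅ Proj (𝒮.deg U hU)))
        (O1 : P.Modules)
        (lam : ∀ (U : (f.fiber y).Opens) (hU : IsAffineOpen U),
          O1 ⟶ (Scheme.Modules.pushforward (RelProj.emb p chart U hU)).obj (GrTwist.twist (𝒮.deg U hU) 1)),
        RelProj.IsGrSymAlg ((Scheme.Modules.pullback (f.fiberι y)).obj E) 𝒮 j → RelProj.IsRelProj 𝒮 p chart → RelProj.IsRelTwist 𝒮 p chart 1 O1 lam →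
        CohB1.IsAmple O1} := by
  obtain ⟨𝒮, j, P, p, chart, O1, lam, hj, hP, hO1, hp⟩ := exists_data E hE
  haveI := hp
  obtain ⟨hinv, q, hq⟩ := exists_isProjBundle hE hj hP hO1
  let g : P ⟶ Y := p ≫ f
  have key : ∀ y : Y, (∀ (𝒮' : RelProj.QCGrAlg (f.fiber y)) (j' : ((Scheme.Modules.pullback (f.fiberι y)).obj E) ⟶ 𝒮'.toModule)
      (P' : Scheme.{u}) (p' : P' ⟶ (f.fiber y))
        (chart' : ∀ (U : (f.fiber y).Opens) (hU : IsAffineOpen U),
          (((p' ⁻¹ᵁ U : P'.Opens) : Scheme.{u}) ≅ Proj (𝒮'.deg U hU)))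
        (O1' : P'.Modules)
        (lam' : ∀ (U : (f.fiber y).Opens) (hU : IsAffineOpen U),
          O1' ⟶ (Scheme.Modules.pushforward (RelProj.emb p' chart' U hU)).obj (GrTwist.twist (𝒮'.deg U hU) 1)),
        RelProj.IsGrSymAlg ((Scheme.Modules.pullback (f.fiberι y)).obj E) 𝒮' j' → RelProj.IsRelProj 𝒮' p' chart' →
          RelProj.IsRelTwist 𝒮' p' chart' 1 O1' lam' → CohB1.IsAmple O1') ↔
      CohB1.IsAmple ((Scheme.Modules.pullback (g.fiberι y)).obj O1) := by
    intro y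
    have w : (g.fiberι y ≫ p) ≫ f = g.fiberToSpecResidueField y ≫ Y.fromSpecResidueField y := by
      rw [Category.assoc]
      exact pullback.condition
    let π' : g.fiber y ⟶ f.fiber y := pullback.lift (g.fiberι y ≫ p) (g.fiberToSpecResidueField y) w
    have hsq : IsPullback (g.fiberι y) π' p (f.fiberι y) := by
      refine IsPullback.of_bot ?_ (pullback.lift_fst _ _ w).symm (IsPullback.of_hasPullback f (Y.fromSpecResidueField y))
      rw [show π' ≫ pullback.snd f (Y.fromSpecResidueField y) = g.fiberToSpecResidueField y from pullback.lift_snd _ _ w]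
      exact IsPullback.of_hasPullback g (Y.fromSpecResidueField y)
    have hEy : FlatMod.IsFinLocFree ((Scheme.Modules.pullback (f.fiberι y)).obj E) :=
      Groth.L20.DescLocus.isFinLocFree_pullback _ hE
    have hBy := Groth.L22.Bundle.isProjBundle_baseChange q hq hsq
    refine ⟨fun h => ?_, fun h 𝒮' j' P' p' chart' O1' lam' hj' hP' hO1' => ?_⟩
    · obtain ⟨𝒮', j', P', p', chart', O1', lam', hj', hP', hO1', -⟩ := exists_data _ hEy
      obtain ⟨-, q', hq'⟩ := exists_isProjBundle hEy hj' hP' hO1'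
      obtain ⟨e, he, ⟨ε⟩⟩ := exists_bundle_iso hq' hBy
      haveI := he
      exact Groth.L18.Ample.isAmple_of_iso ε
        ((Groth.L18.Ample.isAmple_pullback_iso_iff (asIso e)).2 (h 𝒮' j' P' p' chart' O1' lam' hj' hP' hO1'))
    · obtain ⟨-, q', hq'⟩ := exists_isProjBundle hEy hj' hP' hO1'
      obtain ⟨e, he, ⟨ε⟩⟩ := exists_bundle_iso hBy hq'
      haveI := he
      exact Groth.L18.Ample.isAmple_of_iso ε ((Groth.L18.Ample.isAmple_pullback_iso_iff (asIso e)).2 h)
  simp only [key]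
  refine isOpen_iff_forall_mem_open.2 fun y hy => ?_
  obtain ⟨V, hVa, hyV, ha⟩ := Groth.L16.Rees.SpreadAmple.exists_affine_isAmple g O1 hinv y hy
  refine ⟨(V : Set Y), fun y' hy' => ?_, V.2, hyV⟩
  have hr : Set.range (g.fiberι y') ⊆ Set.range (g ⁻¹ᵁ V).ι := by
    rw [Scheme.Hom.range_fiberι, Scheme.Opens.range_ι]
    intro x hx
    show g x ∈ V
    rw [show g x = y' from hx]
    exact hy'
  let i := IsOpenImmersion.lift (g ⁻¹ᵁ V).ι (g.fiberι y') hr
  have hi : i ≫ (g ⁻¹ᵁ V).ι = g.fiberι y' := IsOpenImmersion.lift_fac _ _ _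
  haveI : QuasiCompact (g.fiberToSpecResidueField y') := inferInstance
  haveI : CompactSpace (g.fiber y') := QuasiCompact.compactSpace_of_compactSpace (g.fiberToSpecResidueField y')
  have hind : Topology.IsInducing i := by
    refine Topology.IsInducing.of_comp i.continuous (g ⁻¹ᵁ V).ι.continuous ?_
    rw [show (g ⁻¹ᵁ V).ι.base ∘ i.base = (g.fiberι y').base from by rw [← hi]; rfl]
    exact (g.fiberι y').isEmbedding.isInducing
  have h := Groth.L18.Ample.isAmple_pullback_of_isInducing (u := i) hind ha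
  exact Groth.L18.Ample.isAmple_of_iso
    ((Scheme.Modules.pullback i).mapIso ((Scheme.Modules.restrictFunctorIsoPullback (g ⁻¹ᵁ V).ι).app O1) ≪≫
      (Scheme.Modules.pullbackComp i (g ⁻¹ᵁ V).ι).app O1 ≪≫ (Scheme.Modules.pullbackCongr hi).app O1) h

end Groth.Agent.S17292
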