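import Groth.Statements.S17294
import Groth.Agent.L21.OpenSt.Bridge
import Groth.Agent.L21.OpenSt.RedCond
import Groth.Agent.L21.OpenSt.LineFam
import Groth.Agent.L21.CurvFib.Basic
import Groth.Agent.L21.Smooth.Scheme

set_option autoImplicit false
set_option backward.isDefEq.respectTransparency false
set_option backward.isDefEq.respectTransparency.types false
universe u
open CurvSt

namespace Groth.Agent.S17294

open CategoryTheory AlgebraicGeometry in
/-- Assume the stack of curves over the base scheme S (families with algebraic-space total space, flat,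
proper, of finite presentation and of relative dimension at most 1, no marked points) is an
algebraic stack for the fppf topology. Then, inside it, the families all of whose geometric fibres
(realised as schemes over an algebraically closed field) are reduced form an open substack for the
fppf topology; moreover this substack has an object over every algebraically closed field point of
S. (The source says the fibres are geometrically reduced; testing all geometric fibres over
algebraically closed fields is the same condition. The source works over the integers; the statement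
over S is its form over a base.) -/
theorem result (S : Scheme.{u})
    (hC : AlgSt.IsAlgStack Scheme.fppfPrecoverage (CurvSt.Curves S 0)) :
    AlgSt.IsOpenSubstack (CurvSt.Curves S 0) (fun A => CurvSt.GeomFib (fun _ _ _ X' _ _ => IsReduced X') A.obj) Scheme.fppfPrecoverage ∧
      ∀ (Ω : Type u) [Field Ω] [IsAlgClosed Ω] (t : Spec (CommRingCat.of Ω) ⟶ S),
        Nonempty ((AlgSt.fullSub (CurvSt.Curves S 0) (fun A => CurvSt.GeomFib (fun _ _ _ X' _ _ => IsReduced X') A.obj)).p.Fiber (Over.mk t)) := by
  have hred : ∀ (Ω : Type u) [Field Ω] [IsAlgClosed Ω] (X' : Scheme.{u}) (q : X' ⟶ Spec (CommRingCat.of Ω)),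
      IsReduced X' ↔ ∀ x, Groth.L21.OpenSt.redCond q x := by
    intro Ω _ _ X' q
    refine ⟨fun h x => ?_, fun h => ?_⟩
    · haveI : IsIso (Spec.map (CommRingCat.ofHom (algebraMap Ω Ω))) := by
        rw [Algebra.algebraMap_self, show CommRingCat.ofHom (RingHom.id Ω) = 𝟙 _ from rfl, Spec.map_id]; infer_instance
      haveI : IsIso (FBase.bcπ q Ω) :=
        inferInstanceAs (IsIso (CategoryTheory.Limits.pullback.fst q (Spec.map (CommRingCat.ofHom (algebraMap Ω Ω)))))
      let x' : ↥(FBase.bc q Ω) := (inv (FBase.bcπ q Ω)) x
      haveI : IsReduced (FBase.bc q Ω) := isReduced_of_isOpenImmersion (FBase.bcπ q Ω)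
      refine (Groth.L21.OpenSt.redCond_iff_of_isPullback q x (i := 𝟙 _) (f₀ := q) (j := 𝟙 _)
        (IsPullback.of_horiz_isIso ⟨by simp⟩) x rfl (fun w hw => hw) fun K _ t _ =>
          ⟨Spec.preimage t, by rw [Spec.map_preimage, Category.comp_id]⟩).2 ?_
      refine Groth.Agent.S2521.result (Ω := Ω) q x x' ?_ (inferInstanceAs (_root_.IsReduced _))
      show (inv (FBase.bcπ q Ω) ≫ FBase.bcπ q Ω) x = x
      rw [IsIso.inv_hom_id]
      rfl
    · haveI : ∀ x, _root_.IsReduced (X'.presheaf.stalk x) := fun x =>
        Groth.L21.OpenSt.redCond_isPullback (h x) (a := 𝟙 X') (b := q) (t := 𝟙 _)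
          (IsPullback.of_horiz_isIso ⟨by simp⟩) x rfl
      exact isReduced_of_isReduced_stalk _
  refine ⟨Groth.L21.OpenSt.isOpenSubstack_of_iff Groth.L21.OpenSt.redCond_good hC fun A => ?_, fun Ω _ _ t => ?_⟩
  · rw [← Groth.L21.OpenSt.geomFib_iff_locP Groth.L21.OpenSt.redCond_good A.obj A.property]
    exact ⟨fun h Ω _ _ s X' q i hP => (hred Ω X' q).1 (h Ω s X' q i hP),
      fun h Ω _ _ s X' q i hP => (hred Ω X' q).2 (h Ω s X' q i hP)⟩
  · refine Groth.L21.OpenSt.nonempty_fiber Ω t _ ?_
    refine (Groth.L21.CurvFib.geomFib_iff Ω t (CohB1.ProjSpace 1 Ω) (CohB1.ProjSpace.toSpec 1 Ω)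
      fun _ _ _ X' _ => IsReduced X').2 fun K _ _ s X' q i hi => ?_
    haveI : Smooth (CohB1.ProjSpace.toSpec 1 Ω) := SmoothOfRelativeDimension.smooth 1 _
    haveI : Smooth q := MorphismProperty.of_isPullback hi inferInstance
    haveI : ∀ x, _root_.IsReduced (X'.presheaf.stalk x) := fun x => by
      haveI := Groth.L21.Smooth.regular_stalk q x
      haveI := Groth.L21.Smooth.isDomain_stalk q x
      infer_instance
    exact isReduced_of_isReduced_stalk _

end Groth.Agent.S17294
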