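import Groth.Statements.S17298
import Groth.Agent.L21.OpenSt.CM
import Groth.Agent.L21.OpenSt.LineFam
import Groth.Agent.L21.OpenSt.RelDim
import Groth.Agent.L02.CMMor.AffineChart
import Groth.Agent.S9374

set_option autoImplicit false
set_option backward.isDefEq.respectTransparency false
universe u
open CurvSt

namespace Groth.Agent.S17298

open CategoryTheory AlgebraicGeometry in
/-- Assume the stack of curves over the base scheme S (families with algebraic-space total space, flat,
proper, of finite presentation and of relative dimension at most 1, no marked points) is an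
algebraic stack for the fppf topology. Then, inside it, the families whose structure morphism is a
Cohen–Macaulay morphism (read etale locally on every chart diagram: flat with Cohen–Macaulay fibre
local rings at every point) and has relative dimension exactly 1 (at every point of the total space
some etale chart diagram through it has fibre of local dimension 1 there) form an open substack for
the fppf topology; moreover this substack has an object over every algebraically closed field point
of S. (The source works over the integers; the statement over S is its form over a base.) -/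
theorem result (S : Scheme.{u})
    (hC : AlgSt.IsAlgStack Scheme.fppfPrecoverage (CurvSt.Curves S 0)) :
    AlgSt.IsOpenSubstack (CurvSt.Curves S 0) (fun A => AlgSp.LocP (fun _ _ g => ∀ x, MoreMor.IsCMAt g x) A.obj.f ∧
          (∀ x : AlgSp.Points A.obj.X,
            AlgSp.HasAtMor (fun _ _ h u => FlatMor.fibreDimAt h u = ((1 : ℕ) : WithBot ℕ∞)) A.obj.f x)) Scheme.fppfPrecoverage ∧
      ∀ (Ω : Type u) [Field Ω] [IsAlgClosed Ω] (t : Spec (CommRingCat.of Ω) ⟶ S),
        Nonempty ((AlgSt.fullSub (CurvSt.Curves S 0) (fun A => AlgSp.LocP (fun _ _ g => ∀ x, MoreMor.IsCMAt g x) A.obj.f ∧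
          (∀ x : AlgSp.Points A.obj.X,
            AlgSp.HasAtMor (fun _ _ h u => FlatMor.fibreDimAt h u = ((1 : ℕ) : WithBot ℕ∞)) A.obj.f x))).p.Fiber (Over.mk t)) := by
  have hΦ := Groth.L21.OpenSt.dimCond_good Groth.L21.OpenSt.cmCond_good.{u} 1
    (fun g _ _ h => Groth.Agent.S9374.result g h)
  refine ⟨Groth.L21.OpenSt.isOpenSubstack_of_iff hΦ hC fun A =>
    Groth.L21.OpenSt.locP_dimCond_iff hΦ A.property.1 A.property.2.1 A.property.2.2.2.1.1, ?_⟩
  intro Ω _ _ t
  refine Groth.L21.OpenSt.nonempty_fiber Ω t _ ?_
  exact ⟨Groth.L21.OpenSt.locP_line Ω t Groth.L21.OpenSt.cmCond_good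
    (fun v => L02.CMMor.isCMAt_of_smooth _ v),
    fun x => Groth.L21.OpenSt.hasAtMor_line Ω t (fun v => Groth.L21.OpenSt.fibreDimAt_line Ω v) x⟩

end Groth.Agent.S17298
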