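import Groth.Statements.S17299
import Groth.Agent.L21.OpenSt.Gorenstein
import Groth.Agent.L21.OpenSt.LineFam
import Groth.Agent.L21.OpenSt.RelDim
import Groth.Agent.S9374

set_option autoImplicit false
set_option backward.isDefEq.respectTransparency false
universe u
open CurvSt

namespace Groth.Agent.S17299

open CategoryTheory AlgebraicGeometry in
/-- Assume the stack of curves over the base scheme S (families with algebraic-space total space, flat,
proper, of finite presentation and of relative dimension at most 1, no marked points) is an
algebraic stack for the fppf topology. Then, inside it, the families whose structure morphism is a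
Gorenstein morphism (read etale locally on every chart diagram: at every point flat with Gorenstein
fibre local ring) and has relative dimension exactly 1 (at every point of the total space some etale
chart diagram through it has fibre of local dimension 1 there) form an open substack for the fppf
topology; moreover this substack has an object over every algebraically closed field point of S.
(The source works over the integers; the statement over S is its form over a base.) -/
theorem result (S : Scheme.{u})
    (hC : AlgSt.IsAlgStack Scheme.fppfPrecoverage (CurvSt.Curves S 0)) :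
    AlgSt.IsOpenSubstack (CurvSt.Curves S 0) (fun A => AlgSp.LocP (fun _ _ g => ∀ x, (g.stalkMap x).hom.Flat ∧
            LocCoh.IsGorensteinLocalRing ((g.fiber (g x)).presheaf.stalk (g.asFiber x))) A.obj.f ∧
          (∀ x : AlgSp.Points A.obj.X,
            AlgSp.HasAtMor (fun _ _ h u => FlatMor.fibreDimAt h u = ((1 : ℕ) : WithBot ℕ∞)) A.obj.f x)) Scheme.fppfPrecoverage ∧
      ∀ (Ω : Type u) [Field Ω] [IsAlgClosed Ω] (t : Spec (CommRingCat.of Ω) ⟶ S),
        Nonempty ((AlgSt.fullSub (CurvSt.Curves S 0) (fun A => AlgSp.LocP (fun _ _ g => ∀ x, (g.stalkMap x).hom.Flat ∧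
            LocCoh.IsGorensteinLocalRing ((g.fiber (g x)).presheaf.stalk (g.asFiber x))) A.obj.f ∧
          (∀ x : AlgSp.Points A.obj.X,
            AlgSp.HasAtMor (fun _ _ h u => FlatMor.fibreDimAt h u = ((1 : ℕ) : WithBot ℕ∞)) A.obj.f x))).p.Fiber (Over.mk t)) := by
  have hΦ := Groth.L21.OpenSt.dimCond_good Groth.L21.OpenSt.gorCond_good.{u} 1 (fun g _ _ h =>
    Groth.Agent.S9374.result g fun x => Groth.L21.GorOpen.isCMAt_of_isGorensteinAt g x (h x))
  refine ⟨Groth.L21.OpenSt.isOpenSubstack_of_iff hΦ hC fun A =>
    Groth.L21.OpenSt.locP_dimCond_iff hΦ A.property.1 A.property.2.1 A.property.2.2.2.1.1, ?_⟩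
  intro Ω _ _ t
  refine Groth.L21.OpenSt.nonempty_fiber Ω t _ ?_
  exact ⟨Groth.L21.OpenSt.locP_line Ω t Groth.L21.OpenSt.gorCond_good
    (fun v => Groth.L21.GorOpen.isGorensteinAt_of_smooth _ v),
    fun x => Groth.L21.OpenSt.hasAtMor_line Ω t (fun v => Groth.L21.OpenSt.fibreDimAt_line Ω v) x⟩

end Groth.Agent.S17299
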