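import Groth.Statements.S5755
import Groth.Agent.S5752
import Groth.Agent.L01.DepthBasic
-- import your own Groth.Agent.* helpers here

set_option autoImplicit false
universe u
open EGA41

namespace Groth.Agent.S5755

/-- A reduced Noetherian local ring A has depth 0 if and only if A is a field. -/
theorem result (A : Type u) [CommRing A] [IsLocalRing A]
    [IsNoetherianRing A] [IsReduced A] : LocCoh.depth A A = 0 ↔ IsField A := by
  rw [Groth.Agent.S5752.result A A]
  refine ⟨fun h => ?_, fun h => ?_⟩
  · obtain ⟨-, w, hw⟩ := isAssociatedPrime_iff.1 h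
    have hw0 : w ≠ 0 := fun h0 => (IsLocalRing.maximalIdeal.isMaximal A).ne_top (by
      rw [hw, Ideal.eq_top_iff_one, Submodule.mem_colon_singleton, h0, smul_zero]
      exact Submodule.zero_mem _)
    have hwu : IsUnit w := by
      by_contra hnu
      have hm : w ∈ IsLocalRing.maximalIdeal A := hnu
      rw [hw, Submodule.mem_colon_singleton, Submodule.mem_bot, smul_eq_mul] at hm
      exact hw0 (IsReduced.eq_zero w ⟨2, by rw [pow_two]; exact hm⟩)
    refine IsLocalRing.isField_iff_maximalIdeal_eq.mpr ((Submodule.eq_bot_iff _).mpr fun x hx => ?_)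
    rw [hw, Submodule.mem_colon_singleton, Submodule.mem_bot, smul_eq_mul] at hx
    exact hwu.mul_left_eq_zero.mp hx
  · rw [IsLocalRing.isField_iff_maximalIdeal_eq] at h
    refine isAssociatedPrime_iff.2 ⟨inferInstance, 1, ?_⟩
    ext x
    rw [h, Submodule.mem_colon_singleton, smul_eq_mul, mul_one]

end Groth.Agent.S5755
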