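import Groth.Statements.S17303
import Groth.Agent.L21.OpenSt.Fibre
import Groth.Agent.L21.OpenSt.CM
import Groth.Agent.L21.Curve.SmoothDescent
import Groth.Agent.L21.Nodal.Reduced
import Groth.Agent.S5755

set_option autoImplicit false
set_option backward.isDefEq.respectTransparency false
set_option backward.isDefEq.respectTransparency.types false
universe u
open CurvSt

namespace Groth.Agent.S17303

open CategoryTheory AlgebraicGeometry in
/-- For a family of curves (algebraic-space total space, flat, proper, of finite presentation, relative
dimension at most 1, no marked points) over a scheme over S, if all geometric fibres (realised as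
schemes over an algebraically closed field) are reduced then the structure morphism is a
Cohen–Macaulay morphism (etale locally on every chart diagram the morphism of schemes is flat with
Cohen–Macaulay fibre local rings at every point). In the source this is the inclusion of the open
substack of curves with geometrically reduced fibres in the open substack of Cohen–Macaulay curves. -/
theorem result (S : Scheme.{u}) (A : (CurvSt.Curves S 0).obj)
    (h : CurvSt.GeomFib (fun _ _ _ X' _ _ => IsReduced X') A.obj) :
    AlgSp.LocP (fun _ _ g => ∀ x, MoreMor.IsCMAt g x) A.obj.f := by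
  refine (Groth.L21.OpenSt.geomFib_iff_locP Groth.L21.OpenSt.cmCond_good A.obj A.property).1
    fun Ω _ _ t X' q i hP x => ?_
  haveI : IsReduced X' := h Ω t X' q i hP
  haveI := Groth.L21.OpenSt.lfp_fibre A.obj A.property hP
  haveI := LocallyOfFiniteType.isLocallyNoetherian q
  have hd : ringKrullDim (X'.presheaf.stalk x) ≤ 1 :=
    (Groth.L21.SmoothDescent.ringKrullDim_stalk_le x).trans
      (Groth.L21.OpenSt.topologicalKrullDim_fibre A.obj A.property hP)
  haveI : _root_.IsReduced (X'.presheaf.stalk x) := inferInstance
  refine ⟨Flat.stalkMap q x, ?_⟩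
  haveI : Subsingleton ↥(Spec (CommRingCat.of Ω)) := inferInstanceAs (Subsingleton (PrimeSpectrum Ω))
  obtain ⟨e⟩ := Groth.L07.CIScheme.exists_fiberStalkEquiv q (q x) (q.asFiber x) x (q.fiberι_asFiber x)
  letI := (q.stalkMap x).hom.toAlgebra
  refine L02.CMMor.cm_of_ringEquiv e ?_
  have hb : EGA4.mB ((Spec (CommRingCat.of Ω)).presheaf.stalk (q x)) (X'.presheaf.stalk x) = ⊥ := by
    show (IsLocalRing.maximalIdeal _).map _ = _
    rw [IsLocalRing.isField_iff_maximalIdeal_eq.1 (Groth.L21.Nodal.isField_stalk_of_maximal (q x) fun y _ => Subsingleton.elim y _), Ideal.map_bot]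
  refine L02.CMMor.cm_of_ringEquiv
    ((Ideal.quotEquivOfEq hb).trans (RingEquiv.quotientBot _)).symm ?_
  by_cases hf : IsField (X'.presheaf.stalk x)
  · exact L02.CMMor.cm_of_dim_le_zero (ringKrullDim_eq_zero_of_isField hf).le
  · refine L02.CMMor.cm_mk (Groth.L04.isCohenMacaulayModule_iff_supportDim_le.mpr ?_)
    rw [Module.supportDim_self_eq_ringKrullDim]
    refine hd.trans ((WithBot.coe_le_coe (a := (1 : ℕ∞))).mpr ?_)
    exact Order.one_le_iff_pos.2 (pos_iff_ne_zero.2 fun h0 => hf ((Groth.Agent.S5755.result _).1 h0))

end Groth.Agent.S17303
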