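import Groth.Statements.S17307
import Groth.Agent.L21.GorensteinAscend
import Groth.Agent.L21.CurvFib.EtaleField

set_option autoImplicit false
universe u
open CurvSt

namespace Groth.Agent.S17307

open CategoryTheory AlgebraicGeometry in
/-- Let X be a proper scheme of dimension at most 1 over a field k, and Spec k → S a point of the base.
The classifying object of X in the stack of curves over S lies in the Gorenstein open substack — by
definition: the morphism of sheaves h_X → h_{Spec k} induced by X → Spec k is, in every etale chart
diagram, at every point flat with Gorenstein fibre local ring — if and only if X is Gorenstein, i.e.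
all local rings of X are Gorenstein local rings. -/
theorem result (S : Scheme.{u}) (k : Type u) [Field k] (t : Spec (CommRingCat.of k) ⟶ S)
    (X : Scheme.{u}) (p : X ⟶ Spec (CommRingCat.of k)) [IsProper p] (hdim : topologicalKrullDim ↥X ≤ 1) :
    AlgSp.LocP (fun _ _ g => ∀ x, (g.stalkMap x).hom.Flat ∧
        LocCoh.IsGorensteinLocalRing ((g.fiber (g x)).presheaf.stalk (g.asFiber x))) ((AlgSp.yon S).map (Over.homMk p rfl : Over.mk (p ≫ t) ⟶ Over.mk t)) ↔
      ∀ x : ↥X, LocCoh.IsGorensteinLocalRing (X.presheaf.stalk x) := by
  refine Groth.L21.CurvFib.locP_fibre_iff k t X p (fun R _ => LocCoh.IsGorensteinLocalRing R)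
    (fun {R R'} _ _ e h => Groth.L21.GorensteinAscend.isGorensteinLocalRing_of_ringEquiv e h) fun A B _ _ _ _ _ _ _ _ h h' =>
      haveI := h'
      Groth.L21.GorensteinAscend.isGorensteinLocalRing_of_map_maximalIdeal A B h

end Groth.Agent.S17307
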