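import Groth.Statements.S1731
import Groth.Agent.L01.TorsionBC
import Mathlib.Algebra.Homology.DerivedCategory.TStructure

set_option autoImplicit false
universe u
open CategoryTheory
open scoped TensorProduct
attribute [local instance] HasDerivedCategory.standard
open LocCoh

namespace Groth.Agent.S1731

section Helpers

open Limits Abelian
attribute [local instance] HasDerivedCategory.standard

theorem subsingleton_neg {A : Type u} [CommRing A] (X Y : ModuleCat.{u} A) (i : ℤ) (hi : i < 0) :
    Subsingleton ((DerivedCategory.singleFunctor _ 0).obj X ⟶
      ((DerivedCategory.singleFunctor _ 0).obj Y)⟦i⟧) := by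
  refine subsingleton_of_forall_eq 0 fun f => ?_
  haveI : (((DerivedCategory.singleFunctor _ 0).obj Y)⟦i⟧).IsGE (-i) :=
    DerivedCategory.TStructure.t.isGE_shift _ 0 i (-i) (by omega)
  exact DerivedCategory.TStructure.t.zero f 0 (-i) (by omega)

end Helpers

open CategoryTheory
open scoped TensorProduct
open LocCoh



/-- Statement for modules: let A → B be a flat ring map and I a finitely generated ideal of A such that
A → B/IB is surjective with kernel I (so A/I ≅ B/IB). If M is an I-power torsion A-module, then for
every A-module N and every integer i the group of maps M → N[i] in D(A) is isomorphic to the group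
of maps B ⊗_A M → (B ⊗_A N)[i] in D(B). (Only the existence of an isomorphism is asserted; the
published statement shows that the base-change map is one.) -/
theorem result (A B : Type u) [CommRing A] [CommRing B] [Algebra A B] [Module.Flat A B] (I : Ideal A) (hI : I.FG) (hs : Function.Surjective ((Ideal.Quotient.mk (I.map (algebraMap A B))).comp (algebraMap A B))) (hk : RingHom.ker ((Ideal.Quotient.mk (I.map (algebraMap A B))).comp (algebraMap A B)) = I) (M N : Type u) [AddCommGroup M] [Module A M] [AddCommGroup N] [Module A N] (hM : LocCoh.IsPowerTorsion I M) (i : ℤ) : Nonempty ((Dual.inD A M ⟶ (Dual.inD A N)⟦i⟧) ≃+ (Dual.inD B (B ⊗[A] M) ⟶ (Dual.inD B (B ⊗[A] N))⟦i⟧)) := by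
  rcases lt_or_ge i 0 with hi' | hi'
  · haveI := subsingleton_neg (ModuleCat.of A M) (ModuleCat.of A N) i hi'
    haveI := subsingleton_neg (ModuleCat.of B (B ⊗[A] M)) (ModuleCat.of B (B ⊗[A] N)) i hi'
    exact ⟨{ toFun := fun _ => 0
             invFun := fun _ => 0
             left_inv := fun x => Subsingleton.elim _ _
             right_inv := fun x => Subsingleton.elim _ _
             map_add' := fun _ _ => (add_zero _).symm }⟩
  · lift i to ℕ using hi'
    obtain ⟨e⟩ := Groth.L01.TorsionBC.nonempty_ext_equiv (B := B) hI hs hk M N hM i
    exact ⟨((Abelian.Ext.homAddEquiv).symm.trans e).trans Abelian.Ext.homAddEquiv⟩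


end Groth.Agent.S1731
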