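import Groth.Statements.S17310
import Groth.Agent.L21.CurvFib.Basic
import Groth.Agent.L21.CurvFib.DimExt

set_option autoImplicit false
universe u
open CurvSt

namespace Groth.Agent.S17310

open CategoryTheory AlgebraicGeometry in
/-- Let X be a proper scheme of dimension at most 1 over a field k with structure morphism p, and Spec k
→ S a point of the base. The classifying object of X in the stack of curves over S lies in the open
substack of curves with geometrically reduced, connected fibres of dimension 1 — by definition:
every geometric fibre of h_X → h_{Spec k}, realised as a scheme over an algebraically closed field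
through a cartesian square of sheaves, is reduced, connected and of Krull dimension 1 — if and only
if X is geometrically reduced and geometrically connected over k and has Krull dimension 1. -/
theorem result (S : Scheme.{u}) (k : Type u) [Field k] (t : Spec (CommRingCat.of k) ⟶ S)
    (X : Scheme.{u}) (p : X ⟶ Spec (CommRingCat.of k)) [IsProper p] (hdim : topologicalKrullDim ↥X ≤ 1) :
    CurvSt.GeomFib (fun _ _ _ X' _ _ => IsReduced X' ∧ ConnectedSpace ↥X' ∧ topologicalKrullDim ↥X' = 1) ((CurvSt.toSpFam S 0).obj ⟨Over.mk t, X, p, Fin.elim0, fun i => i.elim0⟩) ↔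
      GeometricallyReduced p ∧ GeometricallyConnected p ∧ topologicalKrullDim ↥X = 1 := by
  refine (Groth.L21.CurvFib.geomFib_iff k t X p fun _ _ _ X' _ =>
    IsReduced X' ∧ ConnectedSpace ↥X' ∧ topologicalKrullDim ↥X' = 1).trans ⟨fun h => ?_, fun h => ?_⟩
  · have h1 := (Groth.L21.CurvFib.forall_algClosed_iff_geometrically _
      (fun g _ _ h' => @Groth.L20.isReduced_of_surjective_of_flat _ _ g _ _ h') k p).mp
        fun Ω _ _ s X' q i hi => (h Ω s X' q i hi).1
    have h2 := (Groth.L21.CurvFib.forall_algClosed_iff_geometrically (fun Z => ConnectedSpace Z)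
      (fun g _ _ h' => @Groth.L20.connectedSpace_of_surjective _ _ g _ h') k p).mp
        fun Ω _ _ s X' q i hi => (h Ω s X' q i hi).2.1
    refine ⟨(geometricallyReduced_iff p).mpr h1, (geometricallyConnected_iff p).mpr h2, ?_⟩
    let s : Spec (CommRingCat.of (AlgebraicClosure k)) ⟶ Spec (CommRingCat.of k) :=
      Spec.map (CommRingCat.ofHom (algebraMap k (AlgebraicClosure k)))
    rw [← Groth.L21.CurvFib.topologicalKrullDim_eq_of_isPullback k (AlgebraicClosure k) p s
      (Limits.pullback.snd p s) (Limits.pullback.fst p s) (IsPullback.of_hasPullback p s)]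
    exact (h _ s _ _ _ (IsPullback.of_hasPullback p s)).2.2
  · intro Ω _ _ s X' q i hi
    exact ⟨(geometricallyReduced_iff p).mp h.1 s i q hi, (geometricallyConnected_iff p).mp h.2.1 s i q hi,
      (Groth.L21.CurvFib.topologicalKrullDim_eq_of_isPullback k Ω p s q i hi).trans h.2.2⟩

end Groth.Agent.S17310
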