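import Groth.Statements.S17314
import Groth.Agent.L23.RelGen.Family

set_option autoImplicit false
universe u
open CategoryTheory CategoryTheory.Limits AlgebraicGeometry
open ResProp

namespace Groth.Agent.S17314

/-- Let `f : 𝒳 → 𝒴` be a quasi-compact and quasi-separated morphism of algebraic stacks over a scheme
`S` (fppf topology; diagonals representable, separated and quasi-compact, the text's standing
convention), `E` a family of quasi-coherent modules of finite presentation on `𝒳`, and `u a : 𝒴' a →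
𝒴` a family of flat morphisms of algebraic stacks which is jointly surjective on points. Suppose
that for every `a` the family `E` pulled back to the fibre product `𝒳 ×_𝒴 𝒴' a` is generating
relative to the projection to `𝒴' a` (over every object of `𝒴' a` with affine scheme, a morphism of
quasi-coherent modules killed by every morphism from a member is zero). Then `E` is generating
relative to `f`. (The published statement is over an auxiliary base stack with the flat family
pulled back from it, and also covers weakly generating families; here the base stack is the target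
`𝒴` itself and only generating families in the strong sense are treated.) -/
theorem result (S : Scheme.{u}) (𝒳 𝒴 : AlgSt.Cat S)
    (h𝒳 : AlgSt.IsAlgStack Scheme.fppfPrecoverage 𝒳) (h𝒴 : AlgSt.IsAlgStack Scheme.fppfPrecoverage 𝒴)
    (hΔ𝒳 : AlgSt.RepByAlgSpWith (AlgSp.IsSeparatedMor ⊓ AlgSp.IsQuasiCompactMor) (FibCat.diag (FibCat.toSelf 𝒳)))
    (hΔ𝒴 : AlgSt.RepByAlgSpWith (AlgSp.IsSeparatedMor ⊓ AlgSp.IsQuasiCompactMor) (FibCat.diag (FibCat.toSelf 𝒴)))
    (f : 𝒳 ⥤ᵇ 𝒴) (hfqc : AlgSt.IsQuasiCompactMor Scheme.fppfPrecoverage f) (hfqs : AlgSt.IsQuasiSeparatedMor f)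
    {ι : Type u} (E : ι → StMod.QCoh 𝒳) (hE : ∀ i, (E i).obj.IsFinPres)
    {A : Type u} (𝒴' : A → AlgSt.Cat S) (h𝒴' : ∀ a, AlgSt.IsAlgStack Scheme.fppfPrecoverage (𝒴' a))
    (hΔ' : ∀ a, AlgSt.RepByAlgSpWith (AlgSp.IsSeparatedMor ⊓ AlgSp.IsQuasiCompactMor)
      (FibCat.diag (FibCat.toSelf (𝒴' a))))
    (u : ∀ a, 𝒴' a ⥤ᵇ 𝒴) (hfl : ∀ a, AlgSt.LocQ (AlgSp.LocP @Flat) (u a))
    (hsurj : ∀ p : AlgSt.Points 𝒴, ∃ (a : A) (q : AlgSt.Points (𝒴' a)), AlgSt.Points.map (u a) q = p)
    (hgen : ∀ a, StMod.IsRelGenFam (FibCat.fpSnd f (u a))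
      (fun i => (StMod.comapQ (FibCat.fpFst f (u a))).obj (E i))) :
    StMod.IsRelGenFam f E := by
  exact Groth.L23.RelGen.isRelGenFam_of_family h𝒳 h𝒴 f hfqc hfqs E hE 𝒴' h𝒴' u hfl hsurj hgen

end Groth.Agent.S17314
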