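import Groth.Statements.S17321
import Mathlib.RingTheory.Artinian.Module
import Mathlib.RingTheory.Artinian.Ring
import Mathlib.FieldTheory.IsAlgClosed.Basic
import Mathlib.RingTheory.Kaehler.Basic
import Mathlib.RingTheory.Unramified.Field
import Mathlib.RingTheory.Ideal.AssociatedPrime.Localization
import Mathlib.RingTheory.SimpleModule.Basic
import Mathlib.RingTheory.Nakayama

set_option autoImplicit false
universe u v
open CAlg

namespace Groth.Agent.S17321

/-- Let k be an algebraically closed field and A a commutative k-algebra which is finite-dimensional as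
a k-vector space (the coordinate ring of a finite k-scheme). Then the space Der(A) of k-derivations
A → A is zero if and only if A is reduced. -/
theorem result (k : Type u) [Field k] [IsAlgClosed k]
    (A : Type v) [CommRing A] [Algebra k A] [Module.Finite k A] :
    Subsingleton (Derivation k A A) ↔ IsReduced A := by
  classical
  haveI : IsArtinianRing A := IsArtinianRing.of_finite k A
  haveI : IsNoetherianRing A := IsNoetherianRing.of_finite k A
  constructor
  · intro hD
    suffices hΩ : Subsingleton Ω[A⁄k] by
      haveI : Algebra.FormallyUnramified k A := ⟨hΩ⟩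
      exact Algebra.FormallyUnramified.isReduced_of_field k A
    refine subsingleton_of_forall_eq 0 fun z => ?_
    by_contra hz
    obtain ⟨M, hM, hMle⟩ := Ideal.exists_le_maximal (Submodule.colon (⊥ : Submodule A Ω[A⁄k]) {z}) (by
      intro h
      have h1 : (1 : A) ∈ Submodule.colon (⊥ : Submodule A Ω[A⁄k]) {z} := h ▸ trivial
      rw [Submodule.mem_colon_singleton, one_smul, Submodule.mem_bot] at h1
      exact hz h1)
    let Q := Ω[A⁄k] ⧸ M • (⊤ : Submodule A Ω[A⁄k])
    haveI : Nontrivial Q := by
      rw [Submodule.Quotient.nontrivial_iff]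
      intro htop
      obtain ⟨r, hr, hr0⟩ := Submodule.exists_sub_one_mem_and_smul_eq_zero_of_fg_of_le_smul M ⊤
        Module.Finite.fg_top htop.ge
      have hrM : r ∈ M := hMle (Submodule.mem_colon_singleton.2 (by rw [hr0 z trivial]; exact zero_mem _))
      exact hM.ne_top ((Ideal.eq_top_iff_one _).2 (by simpa using sub_mem hrM hr))
    letI := Ideal.Quotient.field M
    obtain ⟨q, hq⟩ := exists_ne (0 : Q)
    obtain ⟨f, hf⟩ : ∃ f : Q →ₗ[A ⧸ M] A ⧸ M, f q ≠ 0 := by
      by_contra hcon
      push Not at hcon
      exact hq ((Module.forall_dual_apply_eq_zero_iff (A ⧸ M) q).1 hcon)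
    have hMass : M ∈ associatedPrimes A A := by
      refine Module.associatedPrimes.minimalPrimes_annihilator_subset_associatedPrimes A A ?_
      rw [Module.annihilator_eq_bot.mpr inferInstance]
      exact ⟨⟨hM.isPrime, bot_le⟩, fun P hP hPM => (by haveI := hP.1; exact ((IsArtinianRing.isMaximal_of_isPrime P).eq_of_le hM.ne_top hPM).ge)⟩
    obtain ⟨hMp, y, hy⟩ := isAssociatedPrime_iff.mp (show IsAssociatedPrime M A from hMass)
    let ι : (A ⧸ M) →ₗ[A] A := Submodule.liftQ M (LinearMap.toSpanSingleton A A y) fun a ha => by
      rw [hy, Submodule.mem_colon_singleton, Submodule.mem_bot] at ha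
      exact ha
    have hι : Function.Injective ι := by
      rw [injective_iff_map_eq_zero]
      intro w hw
      obtain ⟨a, rfl⟩ := Submodule.Quotient.mk_surjective M w
      refine (Submodule.Quotient.mk_eq_zero M).2 ?_
      rw [hy, Submodule.mem_colon_singleton, Submodule.mem_bot]
      exact hw
    let L : Ω[A⁄k] →ₗ[A] A := ι ∘ₗ (f.restrictScalars A) ∘ₗ (Submodule.mkQ _)
    have hD0 := Subsingleton.elim (L.compDer (KaehlerDifferential.D k A)) 0
    have hL : L = 0 := by
      refine LinearMap.ext_on_range (KaehlerDifferential.span_range_derivation k A) fun a => ?_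
      exact Derivation.congr_fun hD0 a
    obtain ⟨w, rfl⟩ := Submodule.Quotient.mk_surjective _ q
    refine hf (hι ?_)
    rw [map_zero]
    exact LinearMap.congr_fun hL w
  · intro hred
    haveI : IsSemisimpleRing A := IsArtinianRing.isSemisimpleRing_of_isReduced A
    refine subsingleton_of_forall_eq 0 fun D => Derivation.ext fun a => ?_
    have key : ∀ M : MaximalSpectrum A, D a ∈ M.asIdeal := fun M => by
      letI := Ideal.Quotient.field M.asIdeal
      obtain ⟨c, hc⟩ := (IsAlgClosed.algebraMap_bijective_of_isIntegral (k := k) (K := A ⧸ M.asIdeal)).2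
        (Ideal.Quotient.mk M.asIdeal a)
      have hm : a - algebraMap k A c ∈ M.asIdeal :=
        Ideal.Quotient.eq.1 (by rw [Ideal.Quotient.mk_algebraMap]; exact hc.symm)
      obtain ⟨e, he, heq⟩ := IsSemisimpleRing.ideal_eq_span_idempotent M.asIdeal
      obtain ⟨d, hd⟩ := Ideal.mem_span_singleton'.1 (heq ▸ hm)
      have he' : e ∈ M.asIdeal := heq ▸ Ideal.mem_span_singleton_self e
      have hde : D e ∈ M.asIdeal := by
        rw [← he.eq, D.leibniz]
        exact add_mem (Ideal.mul_mem_right _ _ he') (Ideal.mul_mem_right _ _ he')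
      have e1 : D a = D (a - algebraMap k A c) := by rw [map_sub, D.map_algebraMap, sub_zero]
      rw [e1, ← hd, D.leibniz]
      exact add_mem (Ideal.mul_mem_left _ _ hde) (Ideal.mul_mem_right _ _ he')
    refine (IsArtinianRing.equivPi A).injective ?_
    rw [Derivation.zero_apply, map_zero]
    exact funext fun M => Ideal.Quotient.eq_zero_iff_mem.2 (key M)


end Groth.Agent.S17321
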