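import Groth.Statements.S17323
import Groth.Agent.L01.FinAlgClosed

set_option autoImplicit false
universe u v
open CAlg

namespace Groth.Agent.S17323

/-- Let k be an algebraically closed field and A a commutative k-algebra which is finite-dimensional as
a k-vector space. Then A has a largest reduced subalgebra: a k-subalgebra B which is reduced and
contains every reduced k-subalgebra of A; moreover the composite of the inclusion B → A with the
projection A → A/nilradical(A) is bijective. -/
theorem result (k : Type u) [Field k] [IsAlgClosed k]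
    (A : Type v) [CommRing A] [Algebra k A] [Module.Finite k A] :
    ∃ B : Subalgebra k A, IsReduced ↥B ∧ (∀ C : Subalgebra k A, IsReduced ↥C → C ≤ B) ∧
      Function.Bijective ((Ideal.Quotient.mkₐ k (nilradical A)).comp B.val) := by
  let E := AlgHom.pi (R := k) (fun f : A →ₐ[k] k => f)
  obtain ⟨s, hs⟩ := Groth.L01.FinAlgClosed.exists_section k A
  have hsE : ∀ c, E (s c) = c := fun c => AlgHom.congr_fun hs c
  have hker : RingHom.ker E = nilradical A := Groth.L01.FinAlgClosed.ker_ev k A
  refine ⟨s.range, ⟨fun b hb => ?_⟩, fun C hC x hx => ?_, ?_, ?_⟩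
  · obtain ⟨c, hc⟩ := b.2
    obtain ⟨n, hn⟩ := hb
    refine Subtype.ext (hc.symm.trans ?_)
    have h1 : (E (b : A)) ^ n = 0 := by
      rw [← map_pow, show (b : A) ^ n = 0 from congrArg Subtype.val hn, map_zero]
    rw [← hc] at h1
    change (E (s c)) ^ n = 0 at h1
    rw [hsE] at h1
    show s c = 0
    rw [eq_zero_of_pow_eq_zero h1, map_zero]
  · haveI := Groth.L01.FinAlgClosed.finite_points k A
    obtain ⟨q, hq, hq0⟩ := Groth.L01.FinAlgClosed.exists_separable k (E x)
    refine ⟨E x, Groth.L01.FinAlgClosed.eq_of_isNilpotent_sub k A ⟨q, hq, ?_, ?_⟩ ?_⟩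
    · rw [show s.toRingHom (E x) = s (E x) from rfl, Polynomial.aeval_algHom_apply, hq0, map_zero]
    · let x' : C := ⟨x, hx⟩
      have h1 : IsNilpotent (Polynomial.aeval x q) := by
        rw [← mem_nilradical, ← hker, RingHom.mem_ker, ← Polynomial.aeval_algHom_apply, hq0]
      have h2 : (Polynomial.aeval x q) = C.val (Polynomial.aeval x' q) := Polynomial.aeval_algHom_apply C.val x' q
      rw [h2] at h1 ⊢
      rw [IsNilpotent.eq_zero ((IsNilpotent.map_iff (f := C.val) Subtype.val_injective).mp h1), map_zero]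
    · rw [← mem_nilradical, ← hker, RingHom.mem_ker, map_sub]
      exact sub_eq_zero.mpr (hsE (E x))
  · intro a b hab
    obtain ⟨c, hc⟩ := a.2
    obtain ⟨d, hd⟩ := b.2
    refine Subtype.ext ?_
    have h1 : E (a : A) = E (b : A) := by
      have := Ideal.Quotient.eq.mp hab
      rwa [← hker, RingHom.mem_ker, map_sub, sub_eq_zero] at this
    rw [← hc, ← hd] at h1 ⊢
    change E (s c) = E (s d) at h1
    rw [hsE, hsE] at h1
    rw [h1]
  · intro z
    obtain ⟨a, rfl⟩ := Ideal.Quotient.mk_surjective z
    refine ⟨⟨s (E a), E a, rfl⟩, Ideal.Quotient.eq.mpr ?_⟩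
    rw [← hker, RingHom.mem_ker, map_sub]
    exact sub_eq_zero.mpr (hsE (E a))

end Groth.Agent.S17323
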