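import Groth.Statements.S17324
import Mathlib.RingTheory.Artinian.Ring
import Mathlib.RingTheory.LocalRing.ResidueField.Basic
import Mathlib.FieldTheory.IsAlgClosed.Basic
import Mathlib.RingTheory.Finiteness.Basic
import Mathlib.RingTheory.Adjoin.Basic

set_option autoImplicit false
universe u v
open CAlg

namespace Groth.Agent.S17324

/-- (i) ⟺ (ii): let k be an algebraically closed field, A a commutative k-algebra which is
finite-dimensional as a k-vector space and is a local ring with maximal ideal m, and a_1, …, a_m ∈
m. Then A is generated as a k-algebra by a_1, …, a_m if and only if m is generated as an ideal by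
a_1, …, a_m. (The printed lemma has a third equivalent condition, that the images of the a_i span
m/m²; its equivalence with (ii) is Nakayama's lemma.) -/
theorem result (k : Type u) [Field k] [IsAlgClosed k]
    (A : Type v) [CommRing A] [Algebra k A] [Module.Finite k A] [IsLocalRing A]
    (m : ℕ) (a : Fin m → A) (ha : ∀ i, a i ∈ IsLocalRing.maximalIdeal A) :
    Algebra.adjoin k (Set.range a) = ⊤ ↔ Ideal.span (Set.range a) = IsLocalRing.maximalIdeal A := by
  haveI : IsArtinianRing A := IsArtinianRing.of_finite k A
  let m' := IsLocalRing.maximalIdeal A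
  constructor
  · intro h
    refine le_antisymm (Ideal.span_le.mpr (Set.range_subset_iff.mpr ha)) fun x hx => ?_
    have key : ∀ y ∈ Algebra.adjoin k (Set.range a), ∃ c : k, y - algebraMap k A c ∈ Ideal.span (Set.range a) := by
      intro y hy
      induction hy using Algebra.adjoin_induction with
      | mem z hz => exact ⟨0, by simpa using Ideal.subset_span hz⟩
      | algebraMap c => exact ⟨c, by simp⟩
      | add y z _ _ hy hz =>
        obtain ⟨c, hc⟩ := hy
        obtain ⟨d, hd⟩ := hz
        exact ⟨c + d, by rw [map_add, add_sub_add_comm]; exact add_mem hc hd⟩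
      | mul y z _ _ hy hz =>
        obtain ⟨c, hc⟩ := hy
        obtain ⟨d, hd⟩ := hz
        refine ⟨c * d, ?_⟩
        rw [map_mul, show y * z - algebraMap k A c * algebraMap k A d = (y - algebraMap k A c) * z + algebraMap k A c * (z - algebraMap k A d) by ring]
        exact add_mem (Ideal.mul_mem_right _ _ hc) (Ideal.mul_mem_left _ _ hd)
    obtain ⟨c, hc⟩ := key x (h ▸ Algebra.mem_top)
    by_cases hc0 : c = 0
    · simpa [hc0] using hc
    refine absurd (((IsUnit.mk0 c hc0).map (algebraMap k A))) ((IsLocalRing.mem_maximalIdeal _).mp ?_)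
    have := sub_mem hx (Ideal.span_le.mpr (Set.range_subset_iff.mpr ha) hc)
    simpa using this
  · intro h
    let B := Algebra.adjoin k (Set.range a)
    have hres : ∀ x : A, ∃ c : k, x - algebraMap k A c ∈ m' := fun x => by
      haveI : Algebra.IsIntegral k (A ⧸ m') := inferInstance
      obtain ⟨c, hc⟩ := (IsAlgClosed.algebraMap_bijective_of_isIntegral (k := k) (K := A ⧸ m')).2 (Ideal.Quotient.mk m' x)
      exact ⟨c, Ideal.Quotient.eq.mp hc.symm⟩
    have key : ∀ n : ℕ, ∀ x : A, ∃ b ∈ B, x - b ∈ m' ^ n := by
      intro n
      induction n with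
      | zero => exact fun x => ⟨0, B.zero_mem, by simp⟩
      | succ n ih =>
        intro x
        obtain ⟨c, hc⟩ := hres x
        obtain ⟨y, hy⟩ := Submodule.mem_span_range_iff_exists_fun A |>.mp (h ▸ hc : x - algebraMap k A c ∈ Ideal.span (Set.range a))
        choose b hbB hb using fun i => ih (y i)
        refine ⟨algebraMap k A c + ∑ i, b i * a i, B.add_mem (B.algebraMap_mem c) (B.sum_mem fun i _ => B.mul_mem (hbB i) (Algebra.subset_adjoin ⟨i, rfl⟩)), ?_⟩
        rw [← sub_sub, ← hy, ← Finset.sum_sub_distrib, pow_succ]
        refine sum_mem fun i _ => ?_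
        rw [smul_eq_mul, ← sub_mul]
        exact Ideal.mul_mem_mul (hb i) (ha i)
    obtain ⟨n, hn⟩ : IsNilpotent m' := by
      have := IsArtinianRing.isNilpotent_jacobson_bot (R := A)
      rwa [IsLocalRing.jacobson_eq_maximalIdeal _ bot_ne_top] at this
    rw [eq_top_iff]
    intro x _
    obtain ⟨b, hb, hxb⟩ := key n x
    rw [hn] at hxb
    rw [sub_eq_zero.mp (show x - b = 0 from hxb)]
    exact hb

end Groth.Agent.S17324
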