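import Groth.Statements.S17326
import Mathlib.RingTheory.Artinian.Module
import Mathlib.RingTheory.Artinian.Ring
import Mathlib.FieldTheory.IsAlgClosed.Basic
import Mathlib.Algebra.CharP.Algebra
import Mathlib.Algebra.CharP.Lemmas
import Mathlib.FieldTheory.Perfect

set_option autoImplicit false
universe u v
open CAlg

namespace Groth.Agent.S17326

/-- Let k be an algebraically closed field of characteristic p > 0, A a commutative k-algebra which is
finite-dimensional as a k-vector space (a finite k-scheme X), and n ≥ 1. The n-th iterated relative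
Frobenius morphism X → X^(p^n) is an isomorphism if and only if X is reduced; on rings: the map a ↦
a^(p^n) of A to itself (which is the ring homomorphism underlying the relative Frobenius, the twist
A^(p^n) having the same underlying ring as A) is bijective if and only if A is reduced. -/
theorem result (k : Type u) [Field k] [IsAlgClosed k]
    (p : ℕ) [Fact p.Prime] [CharP k p] (A : Type v) [CommRing A] [Algebra k A] [Module.Finite k A]
    (n : ℕ) (hn : 1 ≤ n) :
    Function.Bijective (fun a : A => a ^ p ^ n) ↔ IsReduced A := by
  constructor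
  · intro h
    constructor
    intro x ⟨m, hm⟩
    have hit : ∀ j : ℕ, x ^ (p ^ n) ^ j = 0 → x = 0 := by
      intro j
      induction j with
      | zero => simp
      | succ j ih =>
        intro hx
        refine ih (h.1 ?_)
        show (x ^ (p ^ n) ^ j) ^ p ^ n = (0 : A) ^ p ^ n
        rw [← pow_mul, ← pow_succ, hx, zero_pow (pow_ne_zero _ (Fact.out : p.Prime).ne_zero)]
    refine hit m (pow_eq_zero_of_le ?_ hm)
    exact (Nat.lt_pow_self (Nat.one_lt_pow (by omega) (Fact.out : p.Prime).one_lt)).le
  · intro hred
    have hq0 : p ^ n ≠ 0 := pow_ne_zero _ (Fact.out : p.Prime).ne_zero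
    rcases subsingleton_or_nontrivial A with hA | hA
    · exact ⟨fun _ _ _ => Subsingleton.elim _ _, fun b => ⟨b, Subsingleton.elim _ _⟩⟩
    haveI : CharP A p := charP_of_injective_algebraMap (algebraMap k A).injective p
    haveI : ExpChar A p := ExpChar.prime (Fact.out : p.Prime)
    haveI : IsArtinianRing A := IsArtinianRing.of_finite k A
    refine ⟨fun a b hab => sub_eq_zero.1 ((hred.eq_zero _ ⟨p ^ n, ?_⟩)), fun b => ?_⟩
    · rw [sub_pow_expChar_pow, sub_eq_zero]; exact hab
    let e := IsArtinianRing.equivPi A
    have hroot : ∀ I : MaximalSpectrum A, ∃ c : k, Ideal.Quotient.mk I.asIdeal (algebraMap k A c) ^ p ^ n = e b I := fun I => by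
      letI := Ideal.Quotient.field I.asIdeal
      obtain ⟨c, hc⟩ := (IsAlgClosed.algebraMap_bijective_of_isIntegral (k := k) (K := A ⧸ I.asIdeal)).2 (e b I)
      obtain ⟨d, hd⟩ := IsAlgClosed.exists_pow_nat_eq c (Nat.pos_of_ne_zero hq0)
      refine ⟨d, ?_⟩
      rw [← hc, ← hd, map_pow]; rfl
    choose c hc using hroot
    refine ⟨e.symm (fun I => Ideal.Quotient.mk I.asIdeal (algebraMap k A (c I))), e.injective ?_⟩
    rw [map_pow, e.apply_symm_apply]
    exact funext fun I => hc I


end Groth.Agent.S17326
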