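import Groth.Statements.S17327
import Groth.Agent.L08.DualSep
import Mathlib.RingTheory.Nullstellensatz
import Mathlib.RingTheory.Ideal.IdempotentFG

set_option autoImplicit false
universe u v
open Hopf

namespace Groth.Agent.S17327
open TensorProduct

/-- Let k be an algebraically closed field of characteristic p > 0, A a commutative Hopf algebra over k
which is finite-dimensional as a k-vector space (a finite group scheme G = Spec A), I the
augmentation ideal (kernel of the counit) and n ≥ 1. The n-th Frobenius kernel G_n is the closed
subgroup scheme cut out by the ideal generated by the p^n-th powers f^(p^n), f ∈ I; it is trivial,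
i.e. that ideal equals I, if and only if G is reduced. -/
theorem result (k : Type u) [Field k] [IsAlgClosed k]
    (p : ℕ) [Fact p.Prime] [CharP k p] (A : Type v) [CommRing A] [HopfAlgebra k A] [Module.Finite k A]
    (n : ℕ) (hn : 1 ≤ n) :
    Ideal.span ((fun f : A => f ^ p ^ n) '' (RingHom.ker (Bialgebra.counitAlgHom k A) : Set A)) =
      RingHom.ker (Bialgebra.counitAlgHom k A) ↔ IsReduced A := by
  classical
  haveI : IsArtinianRing A := IsArtinianRing.of_finite k A
  set I := RingHom.ker (Bialgebra.counitAlgHom k A) with hI
  have hp2 : 2 ≤ p ^ n := le_trans (Fact.out : p.Prime).two_le (Nat.le_self_pow (by omega) p)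
  constructor
  · intro h
    have hI2 : I * I = I := by
      refine le_antisymm Ideal.mul_le_left ?_
      conv_lhs => rw [← h]
      rw [Ideal.span_le]
      rintro _ ⟨f, hf, rfl⟩
      show f ^ p ^ n ∈ I * I
      rw [← Nat.sub_add_cancel hp2, pow_add, sq]
      exact Ideal.mul_mem_left _ _ (Ideal.mul_mem_mul hf hf)
    -- translations move the counit to any point
    have hidem : ∀ m : Ideal A, m.IsMaximal → IsIdempotentElem m := by
      intro m hm
      haveI := hm
      haveI : Module.Finite k (A ⧸ m) := inferInstance
      let π : A →ₐ[k] A ⧸ m := Ideal.Quotient.mkₐ k m
      letI := Ideal.Quotient.field m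
      let e : k ≃ₐ[k] A ⧸ m := AlgEquiv.ofBijective (Algebra.ofId k _)
        (IsAlgClosed.algebraMap_bijective_of_isIntegral)
      let P : WithConv (A →ₐ[k] k) := WithConv.toConv (e.symm.toAlgHom.comp π)
      have hker : RingHom.ker P.ofConv = m := by
        ext a
        simp [P, π, Ideal.Quotient.eq_zero_iff_mem]
      let τ : WithConv (A →ₐ[k] k) → A →ₐ[k] A := fun Q =>
        (Algebra.TensorProduct.rid k k A).toAlgHom.comp
          ((Algebra.TensorProduct.map (AlgHom.id k A) Q.ofConv).comp (Bialgebra.comulAlgHom k A))
      have hτe : ∀ (Q : WithConv (A →ₐ[k] k)) (a : A),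
          Bialgebra.counitAlgHom k A (τ Q a) = Q.ofConv a := by
        intro Q a
        conv_rhs => rw [← one_smul k (Q.ofConv a)]
        simp only [τ, AlgHom.comp_apply, Bialgebra.comulAlgHom_apply]
        have h1 := congrArg (fun z => Q.ofConv (TensorProduct.lid k A z))
          (LinearMap.congr_fun (Coalgebra.rTensor_counit_comp_comul (R := k) (A := A)) a)
        simp only [LinearMap.comp_apply, TensorProduct.mk_apply, TensorProduct.lid_tmul, one_smul] at h1
        rw [one_smul, ← h1]
        generalize Coalgebra.comul (R := k) a = t
        induction t using TensorProduct.induction_on with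
        | zero => simp
        | add x y hx hy => simp only [map_add, hx, hy]
        | tmul x y => simp [mul_comm]
      have hbij : Function.Bijective (τ P) := by
        have hinj : Function.Injective (τ P) := by
          refine (injective_iff_map_eq_zero _).2 fun a ha => ?_
          have hmul : ∀ (Q R : WithConv (A →ₐ[k] k)) (a : A), τ Q (τ R a) = τ (Q * R) a := by
            intro Q R a
            have h1 := congrArg (fun z => TensorProduct.rid k A (TensorProduct.map (LinearMap.id (R := k) (M := A))
              (LinearMap.mul' k k ∘ₗ TensorProduct.map Q.ofConv.toLinearMap R.ofConv.toLinearMap) z))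
              (LinearMap.congr_fun (Coalgebra.coassoc (R := k) (A := A)) a)
            simp only [LinearMap.comp_apply, LinearEquiv.coe_coe] at h1
            refine Eq.trans ?_ (h1.trans ?_)
            · simp only [τ, AlgHom.comp_apply, Bialgebra.comulAlgHom_apply]
              generalize Coalgebra.comul (R := k) a = t
              induction t using TensorProduct.induction_on with
              | zero => simp
              | add x y hx hy => simp only [map_add, hx, hy]
              | tmul x y =>
                simp only [Algebra.TensorProduct.map_tmul, AlgEquiv.coe_toAlgHom,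
                  Algebra.TensorProduct.rid_tmul, map_smul, LinearMap.rTensor_tmul, AlgHom.id_apply,
                  Bialgebra.comulAlgHom_apply]
                generalize Coalgebra.comul (R := k) x = s
                induction s using TensorProduct.induction_on with
                | zero => simp
                | add p q hp hq => simp only [map_add, smul_add, TensorProduct.add_tmul, hp, hq]
                | tmul p q => simp [smul_smul, mul_comm]
            · simp only [τ, AlgHom.comp_apply, Bialgebra.comulAlgHom_apply, AlgHom.convMul_def]
              generalize Coalgebra.comul (R := k) a = t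
              induction t using TensorProduct.induction_on with
              | zero => simp
              | add x y hx hy => simp only [map_add, hx, hy]
              | tmul x y =>
                simp only [LinearMap.lTensor_tmul, TensorProduct.map_tmul, LinearMap.id_apply,
                  TensorProduct.rid_tmul, Algebra.TensorProduct.map_tmul, AlgEquiv.coe_toAlgHom,
                  Algebra.TensorProduct.rid_tmul, AlgHom.id_apply]
                congr 1
          let Pi : WithConv (A →ₐ[k] k) := WithConv.toConv (P.ofConv.comp (HopfAlgebra.antipodeAlgHom k A))
          have hPi : Pi * P = 1 := by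
            refine WithConv.ofConv_injective (AlgHom.ext fun a => ?_)
            have h1 := congrArg P.ofConv
              (LinearMap.congr_fun (HopfAlgebra.mul_antipode_rTensor_comul (R := k) (A := A)) a)
            simp only [LinearMap.comp_apply, Algebra.linearMap_apply, AlgHom.commutes] at h1
            simp only [AlgHom.convMul_def, AlgHom.convOne_def, WithConv.ofConv_toConv, AlgHom.comp_apply,
              Bialgebra.comulAlgHom_apply]
            refine Eq.trans ?_ (h1.trans (by simp))
            generalize Coalgebra.comul (R := k) a = t
            induction t using TensorProduct.induction_on with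
            | zero => simp
            | add x y hx hy => simp only [map_add, hx, hy]
            | tmul x y => simp [Pi]
          have h3 : τ 1 a = a := by
            simp only [τ, AlgHom.comp_apply, AlgHom.convOne_def, Bialgebra.comulAlgHom_apply]
            have h1 := congrArg (TensorProduct.rid k A)
              (LinearMap.congr_fun (Coalgebra.lTensor_counit_comp_comul (R := k) (A := A)) a)
            simp only [LinearMap.comp_apply, LinearMap.flip_apply, TensorProduct.mk_apply, TensorProduct.rid_tmul,
              one_smul] at h1
            refine Eq.trans ?_ h1
            generalize Coalgebra.comul (R := k) a = t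
            induction t using TensorProduct.induction_on with
            | zero => simp
            | add x y hx hy => simp only [map_add, hx, hy]
            | tmul x y => simp
          rw [← h3, ← hPi, ← hmul, ha, map_zero]
        exact ⟨hinj, LinearMap.surjective_of_injective (f := (τ P).toLinearMap) hinj⟩
      have hm : m = Ideal.comap (AlgEquiv.ofBijective (τ P) hbij : A ≃ₐ[k] A).toRingEquiv I := by
        ext a
        rw [Ideal.mem_comap, ← hker, RingHom.mem_ker, hI, RingHom.mem_ker]
        exact Eq.congr_left (hτe P a).symm
      show m * m = m
      rw [hm, ← Ideal.map_symm, ← Ideal.map_mul, hI2]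
    refine ⟨fun x hx => ?_⟩
    by_contra hx0
    obtain ⟨m, hm, hle⟩ := Ideal.exists_le_maximal (Submodule.annihilator (Submodule.span A {x})) fun htop => by
      rw [Submodule.annihilator_eq_top_iff, Submodule.span_singleton_eq_bot] at htop
      exact hx0 htop
    haveI : IsNoetherianRing A := isNoetherianRing_iff.2 (isNoetherian_of_tower k inferInstance)
    obtain ⟨e, he, hme⟩ := (Ideal.isIdempotentElem_iff_of_fg m (IsNoetherian.noetherian m)).1 (hidem m hm)
    have hxm : x ∈ m := hm.isPrime.mem_of_pow_mem _ (show x ^ hx.choose ∈ m by rw [hx.choose_spec]; exact m.zero_mem)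
    rw [hme, Submodule.mem_span_singleton] at hxm
    obtain ⟨a, rfl⟩ := hxm
    have h1 : (1 - e) ∈ m := hle (by
      rw [Submodule.mem_annihilator_span_singleton, smul_eq_mul, smul_eq_mul]
      linear_combination -a * he.eq)
    have h2 : e ∈ m := by rw [hme]; exact Submodule.mem_span_singleton_self e
    exact hm.ne_top ((Ideal.eq_top_iff_one m).2 (by simpa using add_mem h1 h2))
  · intro hred
    refine le_antisymm (Ideal.span_le.2 ?_) fun a ha => ?_
    · rintro _ ⟨f, hf, rfl⟩
      exact Ideal.pow_mem_of_mem _ hf _ (by omega)
    obtain ⟨c, hc⟩ := Groth.L08.DualSep.exists_eq_sq_mul a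
    have hac : IsIdempotentElem (a * c) := by
      show a * c * (a * c) = a * c
      linear_combination -c * hc
    have h1 : a * c ∈ I := I.mul_mem_right c ha
    have h2 : a * c ∈ Ideal.span ((fun f : A => f ^ p ^ n) '' (I : Set A)) := by
      refine Ideal.subset_span ⟨a * c, h1, ?_⟩
      obtain ⟨j, hj⟩ : ∃ j, p ^ n = j + 1 := ⟨p ^ n - 1, by omega⟩
      show (a * c) ^ p ^ n = a * c
      rw [hj, hac.pow_succ_eq]
    have := Ideal.mul_mem_left _ a h2
    rwa [← mul_assoc, ← sq, ← hc] at this

end Groth.Agent.S17327
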