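import Groth.Statements.S17332
import Mathlib.Tactic

set_option autoImplicit false
universe u v w
open CAlg

namespace Groth.Agent.S17332

/-- Let k be a field, E and F finite sets, and O(E), O(F) the k-algebras of k-valued functions with
pointwise operations. Then every k-algebra homomorphism u : O(F) → O(E) is pull-back along a unique
map φ : E → F, i.e. u(g) = g ∘ φ for all g. (In the source k is algebraically closed; the printed
argument only uses that k is a field.) -/
theorem result (k : Type u) [Field k] (E : Type v) [Finite E]
    (F : Type w) [Finite F] (u : (F → k) →ₐ[k] (E → k)) :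
    ∃! φ : E → F, ∀ g : F → k, u g = g ∘ φ := by
  classical
  have := Fintype.ofFinite F
  set δ : F → (F → k) := fun f => Pi.single f 1 with hδ
  have hdecomp : ∀ g : F → k, g = ∑ f, g f • δ f := fun g => by
    funext x; simp [hδ, Finset.sum_apply, Pi.single_apply]
  have hsum : ∀ e, ∑ f, u (δ f) e = 1 := fun e => by
    have h := congrArg (fun g => u g e) (hdecomp 1)
    simp only [map_one, Pi.one_apply, one_smul, map_sum, Finset.sum_apply] at h
    exact h.symm
  have hex : ∀ e, ∃ f, u (δ f) e = 1 := fun e => by
    by_contra hc
    push Not at hc
    have : ∀ f, u (δ f) e = 0 := fun f => by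
      have hid : IsIdempotentElem (u (δ f) e) := by
        unfold IsIdempotentElem
        rw [← Pi.mul_apply, ← map_mul]
        rw [show δ f * δ f = δ f by funext x; by_cases hx : x = f <;> simp [hδ, Pi.single_apply, hx]]
      rcases IsIdempotentElem.iff_eq_zero_or_one.mp hid with h | h
      · exact h
      · exact absurd h (hc f)
    simpa [this] using hsum e
  choose φ hφ using hex
  have hzero : ∀ e f, f ≠ φ e → u (δ f) e = 0 := fun e f hf => by
    have h : δ f * δ (φ e) = 0 := by
      funext x; by_cases hx : x = f
      · subst hx; simp [hδ, Pi.single_apply, hf]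
      · simp [hδ, Pi.single_apply, hx]
    have := congrArg (fun g => u g e) h
    simpa [hφ] using this
  have key : ∀ g e, u g e = g (φ e) := fun g e => by
    conv_lhs => rw [hdecomp g]
    simp only [map_sum, Finset.sum_apply, map_smul, Pi.smul_apply, smul_eq_mul]
    rw [Finset.sum_eq_single (φ e)]
    · simp [hφ]
    · intro b _ hb; simp [hzero e b hb]
    · simp
  refine ⟨φ, fun g => funext (key g), fun ψ hψ => funext fun e => ?_⟩
  have h1 := congrFun (hψ (δ (φ e))) e
  rw [hφ] at h1
  by_contra hne
  simp [hδ, Pi.single_apply, hne] at h1

end Groth.Agent.S17332
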