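import Groth.Statements.S17333
import Mathlib.RingTheory.Derivation.Basic
import Mathlib.LinearAlgebra.Prod

set_option autoImplicit false
universe u v w
open CAlg

namespace Groth.Agent.S17333

/-- Let k be a field and A = B × C a decomposable commutative k-algebra. Then the natural map Der(B) ×
Der(C) → Der(A) is bijective: every k-derivation D : A → A is (b, c) ↦ (D₁ b, D₂ c) for a unique
pair of k-derivations D₁ : B → B, D₂ : C → C. Compatibility with brackets is not stated. (The
published statement takes k algebraically closed; this row takes any field.) -/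
theorem result (k : Type u) [Field k] (B : Type v) [CommRing B] [Algebra k B]
    (C : Type w) [CommRing C] [Algebra k C] (D : Derivation k (B × C) (B × C)) :
    ∃! P : Derivation k B B × Derivation k C C, ∀ (b : B) (c : C), D (b, c) = (P.1 b, P.2 c) := by
  have hD : D (1, 0) = 0 := by
    have h1 : ((1, 0) : B × C) * (1, 0) = (1, 0) := by simp
    have h := D.leibniz ((1, 0) : B × C) (1, 0)
    rw [h1, smul_eq_mul] at h
    refine Prod.ext ?_ ?_
    · have h2 := congrArg Prod.fst h
      simpa using h2
    · have h2 := congrArg Prod.snd h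
      simpa using h2
  have hl : ∀ x : B × C, D ((1, 0) * x) = (1, 0) * D x := fun x => by
    rw [D.leibniz, hD, smul_zero, add_zero, smul_eq_mul]
  have hr : ∀ x : B × C, D ((0, 1) * x) = (0, 1) * D x := fun x => by
    have e : ((0, 1) : B × C) = 1 - (1, 0) := by simp [Prod.ext_iff]
    rw [e, sub_mul, sub_mul, one_mul, one_mul, map_sub, hl]
  have hb : ∀ b, D (b, 0) = ((D (b, 0)).1, 0) := fun b => by
    have h := hl (b, 0)
    rw [show ((1, 0) : B × C) * (b, 0) = (b, 0) by simp] at h
    conv_lhs => rw [h]
    exact Prod.ext (one_mul _) (zero_mul _)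
  have hc : ∀ c, D (0, c) = (0, (D (0, c)).2) := fun c => by
    have h := hr (0, c)
    rw [show ((0, 1) : B × C) * (0, c) = (0, c) by simp] at h
    conv_lhs => rw [h]
    exact Prod.ext (zero_mul _) (one_mul _)
  have hbc : ∀ b c, D (b, c) = ((D (b, 0)).1, (D (0, c)).2) := fun b c => by
    rw [show ((b, c) : B × C) = (b, 0) + (0, c) by simp, map_add, hb b, hc c]
    simp
  let P1 : Derivation k B B := Derivation.mk' ((LinearMap.fst k B C).comp (D.toLinearMap.comp (LinearMap.inl k B C)))
    fun a b => by
      show (D (a * b, 0)).1 = a • (D (b, 0)).1 + b • (D (a, 0)).1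
      have h := congrArg Prod.fst (D.leibniz ((a, 0) : B × C) (b, 0))
      simpa using h
  let P2 : Derivation k C C := Derivation.mk' ((LinearMap.snd k B C).comp (D.toLinearMap.comp (LinearMap.inr k B C)))
    fun a b => by
      show (D (0, a * b)).2 = a • (D (0, b)).2 + b • (D (0, a)).2
      have h := congrArg Prod.snd (D.leibniz ((0, a) : B × C) (0, b))
      simpa using h
  refine ⟨(P1, P2), fun b c => hbc b c, fun Q hQ => Prod.ext ?_ ?_⟩
  · ext b
    exact (congrArg Prod.fst ((hQ b 0).symm.trans (hb b)))
  · ext c
    exact (congrArg Prod.snd ((hQ 0 c).symm.trans (hc c)))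


end Groth.Agent.S17333
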