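import Groth.Statements.S17334
import Mathlib.Tactic

set_option autoImplicit false
universe u v
open CAlg

namespace Groth.Agent.S17334

/-- Let k be a field and A a nonzero commutative k-algebra which is finite-dimensional as a k-vector
space. Then A is indecomposable (no decomposition as a product of two nonzero rings, i.e. no
idempotent other than 0 and 1) if and only if A is a local ring. (In the source k is algebraically
closed and the lemma adds that the maximal ideal is then the nilradical, is nilpotent, and has
residue field k; the equivalence itself uses only that k is a field, and the zero algebra is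
excluded here explicitly.) -/
theorem result (k : Type u) [Field k]
    (A : Type v) [CommRing A] [Algebra k A] [Module.Finite k A] [Nontrivial A] :
    (∀ e : A, IsIdempotentElem e → e = 0 ∨ e = 1) ↔ IsLocalRing A := by
  constructor
  · intro h
    have : IsArtinianRing A := IsArtinianRing.of_finite k A
    have key : ∀ a : A, IsUnit a ∨ IsNilpotent a := fun a => by
      obtain ⟨n, y, hy⟩ := IsArtinian.exists_pow_succ_smul_dvd a (1 : A)
      simp only [smul_eq_mul, mul_one] at hy
      have hk : ∀ j, a ^ n = a ^ (n + j) * y ^ j := fun j => by
        induction j with
        | zero => simp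
        | succ j ih =>
          rw [ih]
          calc a ^ (n + j) * y ^ j = (a ^ (n + 1) * y) * a ^ j * y ^ j * 1 := by
                rw [hy]; ring
            _ = _ := by ring
      have he : IsIdempotentElem (a ^ n * y ^ n) := by
        unfold IsIdempotentElem
        calc a ^ n * y ^ n * (a ^ n * y ^ n) = (a ^ (n + n) * y ^ n) * y ^ n := by ring
          _ = _ := by rw [← hk]
      rcases h _ he with h0 | h1
      · right; exact ⟨n, by rw [hk n, pow_add, mul_assoc, h0, mul_zero]⟩
      · rcases Nat.eq_zero_or_pos n with hn | hn
        · left; subst hn; simp only [pow_zero, zero_add, pow_one] at hy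
          exact IsUnit.of_mul_eq_one _ hy
        · left
          refine (isUnit_pow_iff hn.ne').mp (IsUnit.of_mul_eq_one _ h1)
    refine IsLocalRing.of_nonunits_add fun a b ha hb => ?_
    simp only [mem_nonunits_iff] at ha hb ⊢
    intro hu
    have := (Commute.all a b).isNilpotent_add ((key a).resolve_left ha) ((key b).resolve_left hb)
    exact this.not_isUnit hu
  · intro _ e he
    rcases IsLocalRing.isUnit_or_isUnit_one_sub_self e with h | h
    · exact Or.inr (IsIdempotentElem.iff_eq_one_of_isUnit h |>.mp he)
    · left
      have h0 : e * (1 - e) = 0 := by rw [mul_sub, mul_one, he.eq, sub_self]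
      exact h.mul_left_eq_zero.mp h0

end Groth.Agent.S17334
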