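import Groth.Statements.S17336
import Groth.Agent.L01.FinAlgClosed

set_option autoImplicit false
universe u v
open CAlg

namespace Groth.Agent.S17336

/-- Let k be an algebraically closed field and A a commutative k-algebra which is finite-dimensional as
a k-vector space (a finite scheme X = Spec A with largest reduced subscheme X_red = Spec
(A/nilradical A) and immersion i : X_red → X). Then there is a unique morphism r : X → X_red with r
∘ i = id; on rings: the projection A → A/nilradical(A) admits exactly one section that is a
k-algebra homomorphism. -/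
theorem result (k : Type u) [Field k]
    [IsAlgClosed k] (A : Type v) [CommRing A] [Algebra k A] [Module.Finite k A] :
    ∃! s : (A ⧸ nilradical A) →ₐ[k] A,
      (Ideal.Quotient.mkₐ k (nilradical A)).comp s = AlgHom.id k (A ⧸ nilradical A) := by
  let E := AlgHom.pi (R := k) (fun f : A →ₐ[k] k => f)
  let i : (A ⧸ nilradical A) ≃ₐ[k] ((A →ₐ[k] k) → k) :=
    (Ideal.quotientEquivAlgOfEq k (Groth.L01.FinAlgClosed.ker_ev k A).symm).trans
      (Ideal.quotientKerAlgEquivOfSurjective (Groth.L01.FinAlgClosed.ev_surjective k A))
  have hi : ∀ a, i (Ideal.Quotient.mkₐ k _ a) = E a := fun a => rfl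
  obtain ⟨s, hs⟩ := Groth.L01.FinAlgClosed.exists_section k A
  refine ⟨s.comp i.toAlgHom, AlgHom.ext fun x => i.injective ?_, fun t ht => ?_⟩
  · show i (Ideal.Quotient.mkₐ k _ (s (i x))) = i x
    rw [hi]
    exact AlgHom.congr_fun hs (i x)
  · refine AlgHom.ext fun x => ?_
    have := Groth.L01.FinAlgClosed.section_unique k A (t.comp i.symm.toAlgHom) s (fun c => by
      show E (t (i.symm c)) = c
      rw [← hi]
      have h1 := AlgHom.congr_fun ht (i.symm c)
      simp only [AlgHom.comp_apply, AlgHom.id_apply] at h1
      rw [h1, AlgEquiv.apply_symm_apply]) (fun c => AlgHom.congr_fun hs c)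
    simpa using AlgHom.congr_fun this (i x)

end Groth.Agent.S17336
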