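import Groth.Statements.S17337
import Groth.Agent.L08.UL.Restricted
import Mathlib.LinearAlgebra.Matrix.ToLin
import Mathlib.LinearAlgebra.Basis.VectorSpace
import Mathlib.LinearAlgebra.Dimension.Free

set_option autoImplicit false
universe u v
open PLie

namespace Groth.Agent.S17337
open Groth.L08

/-- Let k be a field of characteristic p > 0 and (L, x ↦ x^[p]) a finite-dimensional restricted Lie
algebra over k. Then L is isomorphic to a restricted Lie subalgebra of gl_n(k) for some n: there is
an injective k-linear map e : L → M_n(k) with e[x, y] = e(x)e(y) − e(y)e(x) and e(x^[p]) = e(x)^p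
for all x, y. (The published statement takes k algebraically closed; this row takes any field of
characteristic p.) -/
theorem result (k : Type u) [Field k] (p : ℕ) [Fact p.Prime] [CharP k p]
    (L : Type v) [LieRing L] [LieAlgebra k L] [Module.Finite k L] (φ : PLie.PMap k p L) :
    ∃ (n : ℕ) (e : L →ₗ[k] Matrix (Fin n) (Fin n) k), PLie.IsPSubOfAssoc φ e := by
  let b := Module.finBasis k L
  let B := (UL.basis φ b).reindex (Fintype.equivFin (Fin (Module.finrank k L) → Fin p))
  refine ⟨_, (Algebra.leftMulMatrix B).toLinearMap ∘ₗ UL.iota φ, ?_, fun x y => ?_, fun x => ?_⟩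
  · exact (Algebra.leftMulMatrix_injective B).comp (UL.iota_injective φ b)
  · simp only [LinearMap.comp_apply, AlgHom.toLinearMap_apply, UL.iota_lie, map_sub, map_mul]
  · simp only [LinearMap.comp_apply, AlgHom.toLinearMap_apply, UL.iota_pow, map_pow]

end Groth.Agent.S17337
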