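import Groth.Statements.S1734
import Groth.Agent.L04.Indep

set_option autoImplicit false
universe u
open LocCoh

namespace Groth.Agent.S1734

/-- Let f_1, …, f_r, g be elements of a ring A (r ≥ 1) such that f_1, …, f_{r-1}, f_r g is independent
and A/(f_1, …, f_{r-1}, f_r g) has finite length. Then length A/(f_1, …, f_{r-1}, f_r g) = length
A/(f_1, …, f_r) + length A/(f_1, …, f_{r-1}, g). -/
theorem result (A : Type u) [CommRing A] (r : ℕ) (f : Fin (r + 1) → A) (g : A) (h : Dual2.Independent (Function.update f (Fin.last r) (f (Fin.last r) * g))) (hfin : IsFiniteLength A (A ⧸ Ideal.span (Set.range (Function.update f (Fin.last r) (f (Fin.last r) * g))))) : Module.length A (A ⧸ Ideal.span (Set.range (Function.update f (Fin.last r) (f (Fin.last r) * g)))) = Module.length A (A ⧸ Ideal.span (Set.range f)) + Module.length A (A ⧸ Ideal.span (Set.range (Function.update f (Fin.last r) g))) := by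
  exact Groth.L04.length_update_mul h

end Groth.Agent.S1734
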