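import Groth.Statements.S17341
import Groth.Agent.L03.AdjLin.Main
import Groth.Agent.L03.BlowPt.PlaneBlow
import Groth.Agent.L16.ProjSpace.Ample

set_option autoImplicit false
set_option linter.style.haveILetI false
universe u
open CategoryTheory CategoryTheory.Limits AlgebraicGeometry
open AdjLin
open Groth.L03.AdjLin
open Groth.L00.Tensor (tensorUnitLeft tensorUnitRight tensorIso)

namespace Groth.Agent.S17341

/-- Let k be an algebraically closed field of characteristic zero and X a smooth projective surface over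
k (irreducible, proper, smooth of dimension 2, with an ample invertible module), ω a second exterior
power of Ω_{X/k}, L an invertible O_X-module and Z ⊆ X a finite set of closed points, viewed as a
reduced finite subscheme with ideal sheaf I_Z (the vanishing ideal of the closed set Z). Then the
following are equivalent: (a) there are a locally free O_X-module E of rank 2, a section s : O_X → E
and a map E → L ⊗ I_Z making 0 → O_X → E → L ⊗ I_Z → 0 a short exact sequence (the Koszul complex of
a rank-2 bundle of determinant L with a section vanishing exactly on Z); (b) for every point z of Z,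
every global section of L ⊗ ω whose zero scheme contains all the other points of Z also vanishes at
z. -/
theorem result (k : Type u) [Field k] [IsAlgClosed k] [CharZero k]
    (X : Scheme.{u}) [X.Over (Spec (CommRingCat.of k))] [IsProper (X ↘ (Spec (CommRingCat.of k)))]
    [Smooth (X ↘ (Spec (CommRingCat.of k)))] [IrreducibleSpace X] (hdim : topologicalKrullDim X = 2)
    (H : X.Modules) (hH : CohB1.IsAmple H)
    (L : X.Modules) (hL : PicF.IsInvertible L)
    (ω : X.Modules) (hω : ExtPow.IsExtPow 2 (Omega.sheaf (X ↘ (Spec (CommRingCat.of k)))) ω)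
    (Z : Finset X) (hZc : IsClosed ((Z : Set X))) (hZ : ∀ z ∈ Z, IsClosed ({z} : Set X)) :
    (∃ (E : X.Modules) (sE : Coh.structureModule X ⟶ E)
        (p : E ⟶ CohB1.tensorMod L (ClSub.idealMod (Scheme.IdealSheafData.vanishingIdeal ⟨(Z : Set X), hZc⟩)))
        (w : sE ≫ p = 0), FlatMod.IsFinLocFreeOfRank 2 E ∧ (ShortComplex.mk sE p w).ShortExact) ↔
      (∀ z ∈ Z, ∀ σ : Coh.structureModule X ⟶ CohB1.tensorMod L ω,
        (∀ z' ∈ Z, z' ≠ z → z' ∈ (PicF2.zeroScheme (CohB1.tensorMod L ω) σ).support) →
          z ∈ (PicF2.zeroScheme (CohB1.tensorMod L ω) σ).support) := by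
  classical
  haveI : IsReduced X := Groth.L16.SecComp.isReduced_of_smooth (X ↘ Spec (CommRingCat.of k))
  haveI : IsIntegral X := isIntegral_of_irreducibleSpace_of_isReduced X
  haveI := Groth.L21.RR.isNoetherian_of_proper (X := X) k
  have s := surf_of_smooth k hdim
  obtain ⟨n, ι, hι, hιk⟩ := Groth.L03.SurfAdj.exists_proj k hH
  haveI := hι
  let IZ := Scheme.IdealSheafData.vanishingIdeal (⟨(Z : Set X), hZc⟩ : TopologicalSpace.Closeds X)
  have hsupp : (IZ.support : Set X) = Z := Scheme.IdealSheafData.coe_support_vanishingIdeal _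
  have hfin : (IZ.support : Set X).Finite := hsupp ▸ Z.finite_toSet
  -- two generators
  have hlci : ∀ x : X, ∃ V : X.affineOpens, x ∈ (V : X.Opens) ∧
      ∃ a b : Γ(X, V), IZ.ideal V = Ideal.span {a, b} := fun x => by
    let P : Fin Z.card → X := fun i => (Z.equivFin.symm i : X)
    have hP : Set.range P = (Z : Set X) := by
      rw [show P = (Subtype.val : Z → X) ∘ Z.equivFin.symm from rfl, Set.range_comp,
        Z.equivFin.symm.surjective.range_eq, Set.image_univ]
      exact Subtype.range_coe_subtype.trans rfl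
    have hc : IsClosed (Set.range P) := hP ▸ hZc
    obtain ⟨V, f, hxV, hf⟩ := Groth.L03.BlowPt.exists_two_gen_points P (fun i => hZ _ (Z.equivFin.symm i).2) hc
      (fun i => s.reg _) (fun i => s.dimc _ (hZ _ (Z.equivFin.symm i).2)) x
    refine ⟨V, hxV, f 0, f 1, ?_⟩
    have he : (⟨Set.range P, hc⟩ : TopologicalSpace.Closeds X) = ⟨(Z : Set X), hZc⟩ :=
      TopologicalSpace.Closeds.ext hP
    rw [he] at hf
    refine hf.trans ?_
    show Ideal.span (Set.range f) = _
    congr 1
    ext r
    simp only [Set.mem_range, Fin.exists_fin_two, Set.mem_insert_iff, Set.mem_singleton_iff, eq_comm]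
  -- removing one point
  have hcl : ∀ S : Finset X, S ⊆ Z → IsClosed (S : Set X) := fun S hS => by
    rw [← Set.biUnion_of_singleton (S : Set X)]
    exact S.finite_toSet.isClosed_biUnion fun y hy => hZ y (hS hy)
  let J : X → X.IdealSheafData := fun z =>
    Scheme.IdealSheafData.vanishingIdeal ⟨((Z.erase z : Finset X) : Set X), hcl _ (Z.erase_subset z)⟩
  have hJle : ∀ (z : X) (I : X.IdealSheafData), IZ ≤ I → z ∉ I.support → J z ≤ I := fun z I hle hzI =>
    vanishingIdeal_le_of_le hZc Z.finite_toSet hZ (hcl _ (Z.erase_subset z)) hle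
      (fun x hx hxI => Finset.mem_coe.2 (Finset.mem_erase.2 ⟨fun h => hzI (h ▸ hxI), hx⟩))
      (Finset.coe_subset.2 (Z.erase_subset z))
  have hIJ : ∀ z, IZ ≤ J z := fun z => Scheme.IdealSheafData.le_support_iff_le_vanishingIdeal.1 (by
    show ((Z.erase z : Finset X) : Set X) ⊆ (IZ.support : Set X)
    rw [hsupp]
    exact Finset.coe_subset.2 (Z.erase_subset z))
  have hex : ∀ I : X.IdealSheafData, IZ < I → ∃ z ∈ Z, z ∉ I.support := fun I hlt => by
    by_contra hc
    push Not at hc
    exact hlt.not_ge (Scheme.IdealSheafData.le_support_iff_le_vanishingIdeal.1 fun x hx => hc x hx)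
  have hJsupp : ∀ z, ((J z).support : Set X) = ((Z.erase z : Finset X) : Set X) := fun z =>
    Scheme.IdealSheafData.coe_support_vanishingIdeal _
  have hlt : ∀ z ∈ Z, IZ < J z := fun z hz => lt_of_le_of_ne (hIJ z) fun h => by
    have h1 := congrArg (fun I : X.IdealSheafData => (I.support : Set X)) h
    simp only [hsupp, hJsupp] at h1
    exact (Z.notMem_erase z) (Finset.mem_coe.1 (h1 ▸ Finset.mem_coe.2 hz))
  have hcov : ∀ z ∈ Z, IZ ⋖ J z := fun z hz => ⟨hlt z hz, fun c h1 h2 => by
    obtain ⟨w, hw, hwc⟩ := hex c h1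
    obtain rfl : w = z := by
      by_contra hne
      refine hwc ?_
      have h3 := (Scheme.IdealSheafData.le_support_iff_le_vanishingIdeal (I := c)
        (Z := ⟨((Z.erase z : Finset X) : Set X), hcl _ (Z.erase_subset z)⟩)).2 h2.le
      exact h3 (Finset.mem_coe.2 (Finset.mem_erase.2 ⟨hne, hw⟩))
    exact h2.not_ge (hJle w c h1.le hwc)⟩
  have hO := Groth.L18.Ample.isInvertible_structureModule X
  have main := cayleyBacharach k hdim ι hιk hω hO (Uinv := Coh.structureModule X)
    ⟨tensorUnitLeft _⟩ hL IZ hfin hlci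
  refine main.trans ?_
  let e : CohB1.tensorMod (CohB1.tensorMod L (Coh.structureModule X)) ω ≅ CohB1.tensorMod L ω :=
    tensorIso (tensorUnitRight L) (Iso.refl ω)
  obtain ⟨hωi, -⟩ := Groth.L03.SurfExt.exists_dualizing_topDiff k hdim s.reg ⟨n, ι, hι, hιk⟩ hω
  have hN' := Groth.L18.GenLoc.isInvertible_tensor hL hωi
  have hN := Groth.L18.GenLoc.isInvertible_tensor (Groth.L18.GenLoc.isInvertible_tensor hL hO) hωi
  have hiso : ∀ σ : Coh.structureModule X ⟶ CohB1.tensorMod (CohB1.tensorMod L (Coh.structureModule X)) ω,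
      ∀ S : TopologicalSpace.Closeds X,
      PicF2.zeroScheme _ σ ≤ Scheme.IdealSheafData.vanishingIdeal S ↔
        (S : Set X) ⊆ ((PicF2.zeroScheme _ (σ ≫ e.hom)).support : Set X) := fun σ S => by
    rw [← Scheme.IdealSheafData.le_support_iff_le_vanishingIdeal, ← SetLike.coe_subset_coe,
      Groth.L22.ZeroScheme.support_zeroScheme hN, Groth.L22.ZeroScheme.support_zeroScheme hN',
      Groth.L16.genLocus_comp_iso]
  constructor
  · intro h z hz σ hσ
    have h1 := h (J z) (hcov z hz) (σ ≫ e.inv) ((hiso _ _).2 fun x hx => by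
      rw [Category.assoc, Iso.inv_hom_id, Category.comp_id]
      obtain ⟨hne, hxZ⟩ := Finset.mem_erase.1 (Finset.mem_coe.1 hx)
      exact hσ x hxZ hne)
    have h2 := (hiso _ _).1 h1 (Finset.mem_coe.2 hz)
    rwa [Category.assoc, Iso.inv_hom_id, Category.comp_id] at h2
  · intro h I' hI' σ hσ
    obtain ⟨z, hz, hzI⟩ := hex I' hI'.lt
    obtain rfl : J z = I' := (hI'.eq_or_eq (hIJ z) (hJle z I' hI'.le hzI)).resolve_left (hlt z hz).ne'
    refine (hiso _ _).2 fun x hx => ?_
    by_cases hxz : x = z
    · subst hxz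
      exact h x hz (σ ≫ e.hom) fun z' hz' hne =>
        (hiso _ _).1 hσ (Finset.mem_coe.2 (Finset.mem_erase.2 ⟨hne, hz'⟩))
    · exact (hiso _ _).1 hσ (Finset.mem_coe.2 (Finset.mem_erase.2 ⟨hxz, Finset.mem_coe.1 hx⟩))

end Groth.Agent.S17341
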