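import Groth.Statements.S17342
import Groth.Agent.L03.BlowPt.SeshadriSurf
import Groth.Agent.L03.BlowPt.RegularUp
import Groth.Agent.L03.SurfAdj.Tools
import Groth.Agent.L06.ImmImage
import Groth.Agent.L16.SecComp.Smooth
-- import your own Groth.Agent.* helpers here

set_option autoImplicit false
universe u
open CategoryTheory CategoryTheory.Limits AlgebraicGeometry
open LocPos

namespace Groth.Agent.S17342

open Groth.L22.Inter Groth.L22.Nef Groth.L22.Big Groth.L03.Euler Groth.L03.SurfNum

/-- Let k be an algebraically closed field of characteristic zero, X a smooth projective surface over k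
(irreducible, proper, smooth of dimension 2, with an ample invertible module), L a nef invertible
O_X-module, x a closed point with ideal sheaf m_x and f : Y → X a blow-up of X at x over k, with
exceptional ideal I_E = m_x · O_Y. For a real number ε ≥ 0 the following are equivalent: (a) the
ℝ-divisor class f^*L − ε E is nef, i.e. deg(f^*L|_{C'}) + ε · deg(I_E|_{C'}) ≥ 0 for every integral
one-dimensional closed subscheme C' ⊆ Y, degrees being χ(M|_{C'}) − χ(O_{C'}); (b) for every
integral one-dimensional closed subscheme C ⊆ X passing through x and every n such that the stalk at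
x of the ideal of C is contained in the n-th power of the maximal ideal of O_{X,x} (that is,
mult_x(C) ≥ n), one has ε · n ≤ deg(L|_C). In other words the Seshadri constant of L at x, the
supremum of the ε with f^*L − εE nef, is the infimum of (L·C)/mult_x(C) over the integral curves C
through x. -/
theorem result (k : Type u) [Field k] [IsAlgClosed k] [CharZero k]
    (X : Scheme.{u}) [X.Over (Spec (CommRingCat.of k))] [IsProper (X ↘ (Spec (CommRingCat.of k)))]
    [Smooth (X ↘ (Spec (CommRingCat.of k)))] [IrreducibleSpace X] (hdim : topologicalKrullDim X = 2)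
    (H : X.Modules) (hH : CohB1.IsAmple H)
    (L : X.Modules) (hL : PicF.IsInvertible L)
    (hnef : (∀ (C : Scheme.{u}) (i : C ⟶ X) [IsClosedImmersion i], IsIntegral C → topologicalKrullDim C = 1 →
      0 ≤ Pic13.curveDeg k (i ≫ (X ↘ (Spec (CommRingCat.of k)))) ((Scheme.Modules.pullback i).obj L)))
    (x : X) (hx : IsClosed ({x} : Set X))
    (Y : Scheme.{u}) [Y.Over (Spec (CommRingCat.of k))] (f : Y ⟶ X) (hf : f ≫ (X ↘ (Spec (CommRingCat.of k))) = Y ↘ (Spec (CommRingCat.of k)))
    (hbl : BlowUp.IsBlowUp f (W4c2seshadripos.pointIdeal x hx))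
    (ε : ℝ) (hε : 0 ≤ ε) :
    (∀ (C : Scheme.{u}) (i : C ⟶ Y) [IsClosedImmersion i], IsIntegral C → topologicalKrullDim C = 1 →
      (0 : ℝ) ≤ (Pic13.curveDeg k (i ≫ (Y ↘ (Spec (CommRingCat.of k))))
          ((Scheme.Modules.pullback i).obj ((Scheme.Modules.pullback f).obj L)) : ℝ) +
        ε * (Pic13.curveDeg k (i ≫ (Y ↘ (Spec (CommRingCat.of k))))
          ((Scheme.Modules.pullback i).obj
            (ClSub.idealMod (BlowUp.exceptional f (W4c2seshadripos.pointIdeal x hx)))) : ℝ)) ↔
    (∀ (C : Scheme.{u}) (j : C ⟶ X) [IsClosedImmersion j], IsIntegral C → topologicalKrullDim C = 1 →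
      x ∈ Set.range (fun c : C => j.base c) → ∀ n : ℕ,
        (∀ (V : X.affineOpens) (hxV : x ∈ (V : X.Opens)),
          (j.ker.ideal V).map (X.presheaf.germ V x hxV).hom ≤ (IsLocalRing.maximalIdeal (X.presheaf.stalk x)) ^ n) →
        ε * (n : ℝ) ≤ (Pic13.curveDeg k (j ≫ (X ↘ (Spec (CommRingCat.of k)))) ((Scheme.Modules.pullback j).obj L) : ℝ)) := by
  haveI : IsReduced X := Groth.L16.SecComp.isReduced_of_smooth (X ↘ Spec (CommRingCat.of k))
  haveI : IsIntegral X := isIntegral_of_irreducibleSpace_of_isReduced X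
  have hreg := Groth.L03.SurfAdj.reg_of_smooth k (X := X)
  have hd : topologicalKrullDim X = (2 : ℕ) := hdim.trans Nat.cast_ofNat.symm
  haveI := Groth.L21.RR.isNoetherian_of_proper (X := X) k
  haveI : IsProper f := Groth.L13.BU.isProper_blowUp hbl fun U =>
    haveI : IsNoetherianRing Γ(X, U.1) := IsLocallyNoetherian.component_noetherian U
    IsNoetherian.noetherian _
  haveI : IsIntegral Y := (Groth.L16.Blow.isIntegral_and_birational hbl (Groth.L03.BlowPt.ptI_ne_bot (hx := hx) hd)).1
  haveI : IsProper (Y ↘ Spec (CommRingCat.of k)) := by rw [← hf]; infer_instance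
  haveI := Groth.L21.RR.isNoetherian_of_proper (X := Y) k
  obtain ⟨D⟩ := Groth.L03.BlowPt.exists_echart hbl (hreg x) (Groth.L03.BlowPt.ringKrullDim_stalk_closed k hd hx)
  have hregY := Groth.L03.BlowPt.regular_up D hbl hreg
  have hdY := Groth.L03.BlowPt.dim_up k hd hbl
  have hker : ∀ {C Z : Scheme.{u}} (i : C ⟶ Z) [IsClosedImmersion i] [IsIntegral C],
      i.ker = pt (i (genericPoint C)) := fun {C Z} i _ _ => by
    rw [Groth.L06.ImmImage.ker_eq_vanishingIdeal i]
    refine congrArg Scheme.IdealSheafData.vanishingIdeal (TopologicalSpace.Closeds.ext ?_)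
    rw [Scheme.Hom.support_ker, i.isClosedEmbedding.isClosed_range.closure_eq]
    exact range_eq_closure i
  have hdeg : ∀ {C Z : Scheme.{u}} [Z.Over (Spec (CommRingCat.of k))] [IsIntegral Z]
      [IsProper (Z ↘ Spec (CommRingCat.of k))] (hZd : topologicalKrullDim Z = (2 : ℕ))
      (hZr : ∀ z : Z, IsRegularLocalRing (Z.presheaf.stalk z)) (i : C ⟶ Z) [IsClosedImmersion i] [IsIntegral C]
      (hC : topologicalKrullDim C = 1) {N : Z.Modules}, PicF.IsInvertible N →
      topologicalKrullDim (closure ({i (genericPoint C)} : Set Z)) = (1 : ℕ) ∧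
      ((Pic13.curveDeg k (i ≫ (Z ↘ Spec (CommRingCat.of k))) ((Scheme.Modules.pullback i).obj N) : ℤ) : ℝ) =
        ((-ii k (ClSub.idealMod (pt (i (genericPoint C)))) N : ℚ) : ℝ) := by
    intro C Z _ _ _ hZd hZr i _ _ hC N hN
    haveI := Groth.L21.RR.isNoetherian_of_proper (X := Z) k
    have hC' : topologicalKrullDim C = (1 : ℕ) := hC.trans Nat.cast_one.symm
    have hy := (dim_closure_image i).trans hC'
    refine ⟨hy, ?_⟩
    have h := curveDeg_eq k hN i hC'
    rw [altT_quotMod_eq k hN _ (Groth.L03.BlowPt.inv_curve (k := k) hZd hZr hy)] at h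
    rw [← Rat.cast_intCast, h]
  have key := Groth.L03.BlowPt.SeshadriSurf.nef_iff (k := k) hf hdim hreg hbl hL (fun y hy => by
    haveI := isIntegral_pt y
    obtain ⟨-, h⟩ := hdeg hd hreg (pt y).subschemeι (by
      rw [← dim_closure_image (pt y).subschemeι, genericPoint_pt, hy, Nat.cast_one]) hL
    have h0 := hnef (pt y).subscheme (pt y).subschemeι inferInstance (by
      rw [← dim_closure_image (pt y).subschemeι, genericPoint_pt, hy, Nat.cast_one])
    rw [genericPoint_pt] at h
    have : (0 : ℝ) ≤ ((-ii k (ClSub.idealMod (pt y)) L : ℚ) : ℝ) := h ▸ Int.cast_nonneg h0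
    exact neg_nonneg.1 (by exact_mod_cast this)) ε hε
  have hEi : PicF.IsInvertible (ClSub.idealMod (BlowUp.exceptional f (W4c2seshadripos.pointIdeal x hx))) :=
    (Groth.Agent.L19.IdealInvertible.isEffCartier_iff _).2 hbl.1
  have hLp := Groth.L18.Ample.isInvertible_pullback f hL
  constructor
  · intro h C j _ hC hC1 hxC n hn
    haveI := hC
    obtain ⟨hy, he⟩ := hdeg hd hreg j hC1 hL
    rw [he]
    refine key.1 (fun y hy' => ?_) _ hy ?_ n ?_
    · haveI := isIntegral_pt y
      have hd1 : topologicalKrullDim (pt y).subscheme = 1 := by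
        rw [← dim_closure_image (pt y).subschemeι, genericPoint_pt, hy', Nat.cast_one]
      obtain ⟨-, e1⟩ := hdeg hdY hregY (pt y).subschemeι hd1 hLp
      obtain ⟨-, e2⟩ := hdeg hdY hregY (pt y).subschemeι hd1 hEi
      have h' := h (pt y).subscheme (pt y).subschemeι inferInstance hd1
      rw [e1, e2, genericPoint_pt] at h'
      exact h'
    · rw [← range_eq_closure j]
      exact hxC
    · rw [← hker j]
      exact (Groth.L03.BlowPt.SeshadriSurf.le_pow_iff_stalk hx _ n).2 hn
  · intro h C i _ hC hC1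
    haveI := hC
    obtain ⟨hy, e1⟩ := hdeg hdY hregY i hC1 hLp
    obtain ⟨-, e2⟩ := hdeg hdY hregY i hC1 hEi
    rw [e1, e2]
    refine key.2 (fun ξ hξ hxξ n hn => ?_) _ hy
    haveI := isIntegral_pt ξ
    have hd1 : topologicalKrullDim (pt ξ).subscheme = 1 := by
      rw [← dim_closure_image (pt ξ).subschemeι, genericPoint_pt, hξ, Nat.cast_one]
    obtain ⟨-, e3⟩ := hdeg hd hreg (pt ξ).subschemeι hd1 hL
    have h' := h (pt ξ).subscheme (pt ξ).subschemeι inferInstance hd1 (by
      show x ∈ Set.range (pt ξ).subschemeι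
      rw [range_pt]; exact hxξ) n (by
      rw [Scheme.IdealSheafData.ker_subschemeι]
      exact (Groth.L03.BlowPt.SeshadriSurf.le_pow_iff_stalk hx _ n).1 hn)
    rw [e3, genericPoint_pt] at h'
    exact h'

end Groth.Agent.S17342
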