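import Groth.Statements.S17344
import Groth.Agent.L03.BlowPt.PushPow
import Groth.Agent.L03.BlowPt.MultiThick
import Groth.Agent.L03.Growth.GenFinite
import Groth.Agent.L03.SurfAdj.Tools
import Groth.Agent.L03.SurfDual.Numeric
import Groth.Agent.L22.SymSing.Main
import Groth.Agent.L17.Strat.Euler
import Groth.Agent.S8859

set_option autoImplicit false
set_option linter.style.haveILetI false
set_option backward.isDefEq.respectTransparency false
set_option maxHeartbeats 1000000
universe u
open CategoryTheory CategoryTheory.Limits AlgebraicGeometry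
open AdjLin

namespace Groth.Agent.S17344

/-- Let k be an algebraically closed field of characteristic zero, X a smooth projective surface over k
(irreducible, proper, smooth of dimension 2, with an ample invertible module), L an ample invertible
O_X-module with tensor inverse L⁻¹, and Z a finite set of closed points of X such that the
self-intersection number (L²), the alternating sum of Euler characteristics attached to two copies
of L⁻¹, exceeds 4 · #Z. Then for every sufficiently large m there is a non-zero global section of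
(⋂_{z ∈ Z} m_z^(2m+1)) ⊗ L^{⊗m}: a divisor in the linear series of L^{⊗m} with multiplicity greater
than 2m at every point of Z. (In the source L is the ample determinant of a globally generated
rank-2 bundle E and Z the reduced zero set of a section of E, so that (L²) = c_1(E)² and #Z =
c_2(E); the assertion is the dimension count under c_1(E)² > 4 c_2(E).) -/
theorem result (k : Type u) [Field k] [IsAlgClosed k] [CharZero k]
    (X : Scheme.{u}) [X.Over (Spec (CommRingCat.of k))] [IsProper (X ↘ (Spec (CommRingCat.of k)))]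
    [Smooth (X ↘ (Spec (CommRingCat.of k)))] [IrreducibleSpace X] (hdim : topologicalKrullDim X = 2)
    (H : X.Modules) (hH : CohB1.IsAmple H)
    (L Linv : X.Modules) (hL : CohB1.IsAmple L) (hLinv : ClSub.IsInverseOf Linv L)
    (Z : Finset X) (hZ : ∀ z ∈ Z, IsClosed ({z} : Set X))
    (hsq : 4 * (Z.card : ℤ) < FGA.intNum k X 2 (fun _ : Fin 2 => Linv) (Coh.structureModule X)) :
    ∃ m₀ : ℕ, ∀ m : ℕ, m₀ ≤ m →
      Nontrivial (Coh.HH X (CohB1.tensorMod
        (ClSub.idealMod (⨅ z : ↥Z, (W4c2seshadripos.pointIdeal (z : X) (hZ z z.2)) ^ (2 * m + 1)))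
        (CohB1.tensorPow L m)) 0) := by
  classical
  haveI := Groth.L21.RR.isNoetherian_of_proper (X := X) k
  haveI : X.IsSeparated := ⟨by rw [← terminal.comp_from (X ↘ Spec (CommRingCat.of k))]; infer_instance⟩
  haveI : AlgebraicGeometry.IsIntegral X := Groth.L22.SymSing.isIntegral_of_smooth (X ↘ Spec (CommRingCat.of k))
  have hd : topologicalKrullDim X = (2 : ℕ) := hdim.trans Nat.cast_ofNat.symm
  have hreg : ∀ y : X, IsRegularLocalRing (X.presheaf.stalk y) := Groth.L03.SurfAdj.reg_of_smooth k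
  let P : Fin (Fintype.card ↥Z) → X := fun j => (((Fintype.equivFin ↥Z).symm j : ↥Z) : X)
  have hP : Function.Injective P := Subtype.val_injective.comp (Fintype.equivFin ↥Z).symm.injective
  have hPc : ∀ j, IsClosed ({P j} : Set X) := fun j => hZ _ ((Fintype.equivFin ↥Z).symm j).2
  have hR : IsClosed (Set.range P) := by
    rw [← Set.biUnion_of_singleton (Set.range P)]
    exact (Set.finite_range P).isClosed_biUnion fun y hy => by obtain ⟨j, rfl⟩ := hy; exact hPc j
  obtain ⟨Y, σ, hσ⟩ := Groth.Agent.S8859.result X (Scheme.IdealSheafData.vanishingIdeal ⟨Set.range P, hR⟩)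
  letI : Y.Over (Spec (CommRingCat.of k)) := ⟨σ ≫ (X ↘ Spec (CommRingCat.of k))⟩
  obtain ⟨hYi, hσp⟩ := Groth.L03.BlowPt.MultiExc.integral_proper k hd hPc hσ
  haveI := hYi; haveI := hσp
  haveI : IsProper (Y ↘ Spec (CommRingCat.of k)) :=
    inferInstanceAs (IsProper (σ ≫ (X ↘ Spec (CommRingCat.of k))))
  haveI := Groth.L21.RR.isNoetherian_of_proper (X := Y) k
  have hu : IsIso (ClSub.unitToPush σ) := by
    rw [Scheme.Modules.Hom.isIso_iff_isIso_app]
    intro V
    rw [ConcreteCategory.isIso_iff_bijective]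
    refine Groth.L03.BlowAcyc.bijective_app (fun y => ?_) σ hσ ?_ V
    · haveI := hreg y
      haveI := Groth.L01.isDomain_of_regular (X.presheaf.stalk y)
      exact ⟨inferInstance, Groth.L03.RegularNormal.isIntegrallyClosed _⟩
    · refine IsOpen.dense (Scheme.IdealSheafData.support _).isClosed.isOpen_compl ?_
      by_contra he
      rw [Set.not_nonempty_iff_eq_empty, Set.compl_empty_iff] at he
      haveI : AlgebraicGeometry.IsReduced X := inferInstance
      exact Groth.L03.BlowPt.MultiExc.vanishingIdeal_ne_bot k hd hPc (hZ := hR)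
        (Scheme.IdealSheafData.support_eq_top_iff.1 (TopologicalSpace.Closeds.ext he))
  obtain ⟨d₀, hvan⟩ := Groth.L16.Rees.RelVanish.exists_vanishing (X ↘ Spec (CommRingCat.of k)) hL
    (Groth.L16.CohClosedPush.isCoh_structure (X := X))
  have hLi : PicF.IsInvertible Linv := Groth.L13.PointBlow.isInvertible_of_isInverseOf hL.1 hLinv
  obtain ⟨eL⟩ := hLinv
  have hq : (FGA.intNum k X 2 (fun _ : Fin 2 => Linv) (Coh.structureModule X) : ℚ) =
      Groth.L22.Big.ii k Linv Linv := by
    rw [show (fun _ : Fin 2 => Linv) = ![Linv, Linv] by funext j; fin_cases j <;> rfl]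
    exact Groth.L22.Big.intNum_eq_ii k hd.le Linv Linv
  set a := FGA.intNum k X 2 (fun _ : Fin 2 => Linv) (Coh.structureModule X) with ha
  set c := Curv2.euler k X (Coh.structureModule X) with hc
  set b := Curv2.euler k X L - c with hb
  set N : ℤ := (Z.card : ℤ) with hN
  refine ⟨d₀ + (a.natAbs + 2 * b.natAbs + 2 * c.natAbs + 6 * Z.card + 3), fun m hm => ?_⟩
  let T := CohB1.tensorPow L m
  have hT : PicF.IsInvertible T := Groth.L18.Ample.isInvertible_tensorPow hL.1 m
  have hχ : (Module.finrank k (Coh.HH X T 0) : ℚ) = c + m * b + (m : ℚ) * ((m : ℚ) - 1) / 2 * a := by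
    have h := Groth.L03.SurfDual.euler_negPow k hd.le hLi hL.1 eL m
    have hv : ∀ i : ℕ, 0 < i → Subsingleton (Coh.HH X T i) := fun i hi =>
      Groth.L14.LocHilbLift.subsingleton_HH_of_iso (Groth.L00.Tensor.tensorUnitLeft T) i (hvan m (by omega) i hi)
    rw [Groth.L17.Strat.euler_eq_finrank hv] at h
    rw [hq, hb, hc]
    push_cast at h ⊢
    linarith
  -- upstairs
  let e : Fin (Fintype.card ↥Z) → ℕ := fun _ => 2 * m + 1
  let J := ∏ l, Groth.L03.BlowPt.exc (hPc l) σ ^ e l
  let Q := (Scheme.Modules.pullback σ).obj T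
  have hQ : PicF.IsInvertible Q := Groth.L18.Ample.isInvertible_pullback σ hT
  have hdeg : ∀ l, Groth.L03.BlowPt.degOn k (Groth.L03.BlowPt.exc (hPc l) σ) Q = 0 := fun l => by
    obtain ⟨y, -, ey, -, hyI, hpull, -⟩ := Groth.L03.BlowPt.MultiExc.exc_facts k hd hreg hP hPc hσ rfl l
    have h := Groth.L03.BlowPt.degOn_cast k hyI hQ
    rw [hpull hT, neg_zero] at h
    rw [ey]
    exact_mod_cast h
  have hthick : Module.finrank k (Coh.HH Y (CohB1.tensorMod Q (ClSub.quotMod J)) 0) =
      Z.card * ((m + 1) * (2 * m + 1)) := by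
    rw [Groth.L03.BlowPt.MultiExc.h0_thick k hd hreg hP hPc hσ rfl hQ e,
      Finset.sum_congr rfl (fun l _ => Finset.sum_congr rfl fun (t : ℕ) _ =>
        show (Groth.L03.BlowPt.degOn k (Groth.L03.BlowPt.exc (hPc l) σ) Q + (t : ℤ) + 1).toNat = t + 1 by
          rw [hdeg l]; omega)]
    simp only [e]
    rw [Finset.sum_const, Finset.card_univ, Fintype.card_fin, Fintype.card_coe, smul_eq_mul]
    refine congrArg (Z.card * ·) ?_
    show ∑ t ∈ Finset.range (2 * m + 1), (t + 1) = _
    have h2 : ∀ n : ℕ, 2 * ∑ t ∈ Finset.range n, (t + 1) = n * (n + 1) := fun n => by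
      induction n with
      | zero => rfl
      | succ n ih => rw [Finset.sum_range_succ, Nat.mul_add, ih]; ring
    have := h2 (2 * m + 1)
    nlinarith
  -- left exactness
  have hupper := Groth.L22.Big.h0_le_add k (Groth.L21.RR.shortExact_tw J hQ)
    (Groth.L21.RR.isCoh_twist (I := J) hQ) (Groth.L18.Ample.isCoh_of_isInvertible hQ)
    (Groth.L21.RR.isCoh_twistQuot (I := J) hQ)
  simp only [Groth.L22.Big.h0_def] at hupper
  change Module.finrank k (Coh.HH Y Q 0) ≤ Module.finrank k (Coh.HH Y (CohB1.tensorMod Q (ClSub.idealMod J)) 0) +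
    Module.finrank k (Coh.HH Y (CohB1.tensorMod Q (ClSub.quotMod J)) 0) at hupper
  rw [hthick] at hupper
  haveI : Coh.IsQCoh (Coh.structureModule Y) := (Groth.L16.CohClosedPush.isCoh_structure (X := Y)).1
  haveI : Coh.IsQCoh (ClSub.idealMod J) := (Groth.L21.RR.isCoh_idealMod J).1
  have hpull : Module.finrank k (Coh.HH X T 0) = Module.finrank k (Coh.HH Y Q 0) := by
    haveI := hu
    have h := Groth.L03.Growth.hd_zero_push k σ rfl (G := Coh.structureModule Y) hT
    rw [← Groth.L11.Asymp.hd_iso k (Groth.L00.Tensor.tensorIso (asIso (ClSub.unitToPush σ)) (Iso.refl T)) 0,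
      Groth.L11.Asymp.hd_iso k (Groth.L00.Tensor.tensorUnitLeft T) 0,
      Groth.L11.Asymp.hd_iso k (Groth.L00.Tensor.tensorUnitLeft _) 0] at h
    rwa [Groth.L11.Asymp.hd_def, Groth.L11.Asymp.hd_def] at h
  -- downstairs
  set C := ⨅ z : ↥Z, (W4c2seshadripos.pointIdeal (z : X) (hZ z z.2)) ^ (2 * m + 1)
  have hle : J.map σ ≤ C := le_iInf fun z => by
    obtain ⟨l, hl⟩ : ∃ l, (Fintype.equivFin ↥Z).symm l = z := ⟨Fintype.equivFin ↥Z z, by simp⟩
    obtain ⟨⟨D⟩, -⟩ := Groth.L03.BlowPt.MultiExc.nonempty_echart k hd hreg hP hPc hσ l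
    subst hl
    refine Groth.L03.BlowPt.le_pow_of_comap_le D _ _ ((Scheme.IdealSheafData.comap_map_le _ _).trans ?_)
    show J ≤ _
    rw [show J = _ from (Finset.mul_prod_erase Finset.univ _ (Finset.mem_univ l)).symm]
    exact Groth.L03.BlowPt.QuotSeq.mul_le_left _ _
  obtain ⟨push⟩ := Groth.L03.BlowPt.nonempty_push_idealMod σ hu J
  have hlow : Module.finrank k (Coh.HH Y (CohB1.tensorMod Q (ClSub.idealMod J)) 0) ≤
      Module.finrank k (Coh.HH X (CohB1.tensorMod (ClSub.idealMod C) T) 0) := by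
    have h := Groth.L03.Growth.hd_zero_push k σ rfl (G := ClSub.idealMod J) hT
    rw [Groth.L11.Asymp.hd_iso k (Groth.L00.Tensor.tensorIso push (Iso.refl T)) 0,
      Groth.L11.Asymp.hd_iso k (Groth.L00.Tensor.tensorComm (ClSub.idealMod J) _) 0] at h
    rw [Groth.L11.Asymp.hd_def, Groth.L11.Asymp.hd_def] at h
    rw [← h]
    let ι := Groth.L04.KSh.inclMap (I := C) (J := J.map σ) fun V => hle V
    haveI : Mono ι := by
      haveI : Mono (ι ≫ ClSub.idealModι C) := by
        rw [Groth.L04.KSh.inclMap_ι]; exact inferInstanceAs (Mono (kernel.ι _))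
      exact mono_of_mono ι (ClSub.idealModι C)
    haveI : Mono ((Groth.L00.Tensor.tensorRightF T).map ι) :=
      (Groth.L03.Euler.shortExact_tensor hT (S := ShortComplex.mk ι (cokernel.π ι) (cokernel.condition ι))
        { exact := ShortComplex.exact_cokernel ι }).mono_f
    have h2 := Groth.L22.Big.h0_le_of_mono k ((Groth.L00.Tensor.tensorRightF T).map ι)
      (Groth.L03.Euler.isCoh_tensor hT (Groth.L21.RR.isCoh_idealMod C))
    simp only [Groth.L22.Big.h0_def] at h2
    exact h2
  refine Module.nontrivial_of_finrank_pos (R := k) ?_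
  have hM : (a.natAbs + 2 * b.natAbs + 2 * c.natAbs + 6 * Z.card + 3 : ℤ) ≤ m := by exact_mod_cast (show _ ≤ m by omega)
  have h1 : (Z.card : ℤ) * ((m + 1) * (2 * m + 1)) < Module.finrank k (Coh.HH X T 0) := by
    have hx : (2 : ℚ) * Module.finrank k (Coh.HH X T 0) = ((2 * c + 2 * m * b + m * (m - 1) * a : ℤ) : ℚ) := by
      push_cast; rw [hχ]; ring
    have hx' : (2 : ℤ) * Module.finrank k (Coh.HH X T 0) = 2 * c + 2 * m * b + m * (m - 1) * a := by
      exact_mod_cast hx
    have hm1 : (1 : ℤ) ≤ m := by omega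
    have q1 : (4 * N + 1) * ((m : ℤ) * (m - 1)) ≤ a * ((m : ℤ) * (m - 1)) :=
      mul_le_mul_of_nonneg_right (by omega) (mul_nonneg (by omega) (by omega))
    have q2 : -((b.natAbs : ℤ) * m) ≤ b * m := by
      have := mul_le_mul_of_nonneg_right (show -(b.natAbs : ℤ) ≤ b by omega) (show (0 : ℤ) ≤ m by omega)
      linarith
    have q3 := mul_le_mul_of_nonneg_left
      (show (2 * (c.natAbs : ℤ) + 3) ≤ (m : ℤ) - 10 * N - 1 - 2 * (b.natAbs : ℤ) by omega) (show (0 : ℤ) ≤ m by omega)
    have q4 := mul_nonneg (show (0:ℤ) ≤ m - 1 by omega) (Int.natCast_nonneg c.natAbs)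
    have q5 : -(c.natAbs : ℤ) ≤ c := by omega
    have q6 : 3 * N + 1 ≤ (m : ℤ) := by omega
    rw [← hN]
    nlinarith
  have h1' : Z.card * ((m + 1) * (2 * m + 1)) < Module.finrank k (Coh.HH X T 0) := by exact_mod_cast h1
  show 0 < Module.finrank k (Coh.HH X (CohB1.tensorMod (ClSub.idealMod C) T) 0)
  omega

end Groth.Agent.S17344
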