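import Groth.Statements.S17346
import Groth.Agent.L03.BlowPt.PushPow
import Groth.Agent.L03.BlowPt.Canonical
import Groth.Agent.L03.BlowPt.MultiExc
import Groth.Agent.L03.BlowPt.RegularUp
import Groth.Agent.L03.Growth.GenFinite
import Groth.Agent.L03.SurfAdj.Tools
import Groth.Agent.L22.SymSing.Main

set_option autoImplicit false
set_option linter.style.haveILetI false
set_option backward.isDefEq.respectTransparency false
universe u
open CategoryTheory CategoryTheory.Limits AlgebraicGeometry
open AdjLin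

namespace Groth.Agent.S17346

/-- Let k be an algebraically closed field of characteristic zero, X a smooth projective surface over k
(irreducible, proper, smooth of dimension 2, with an ample invertible module), ω_X a second exterior
power of Ω_{X/k}, L an invertible O_X-module, x a closed point with ideal sheaf m_x, r > 0 an
integer, f : Y → X a blow-up of X at x over k with exceptional ideal I_E = m_x · O_Y, and ω_Y a
second exterior power of Ω_{Y/k}. Then for every i the k-vector spaces H^i(X, m_x^r ⊗ (L ⊗ ω_X)) and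
H^i(Y, I_E^(r+1) ⊗ (f^*L ⊗ ω_Y)) have the same dimension; in divisor notation H^i(X, O_X(K_X + L) ⊗
m_x^r) ≅ H^i(Y, O_Y(K_Y + f^*L − (r+1)E)). (The published statement gives isomorphisms of these
cohomology groups; this row states only that their dimensions agree.) -/
theorem result (k : Type u) [Field k] [IsAlgClosed k] [CharZero k]
    (X : Scheme.{u}) [X.Over (Spec (CommRingCat.of k))] [IsProper (X ↘ (Spec (CommRingCat.of k)))]
    [Smooth (X ↘ (Spec (CommRingCat.of k)))] [IrreducibleSpace X] (hdim : topologicalKrullDim X = 2)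
    (H : X.Modules) (hH : CohB1.IsAmple H)
    (ωX : X.Modules) (hωX : ExtPow.IsExtPow 2 (Omega.sheaf (X ↘ (Spec (CommRingCat.of k)))) ωX)
    (L : X.Modules) (hL : PicF.IsInvertible L)
    (x : X) (hx : IsClosed ({x} : Set X)) (r : ℕ) (hr : 0 < r)
    (Y : Scheme.{u}) [Y.Over (Spec (CommRingCat.of k))] (f : Y ⟶ X) (hf : f ≫ (X ↘ (Spec (CommRingCat.of k))) = Y ↘ (Spec (CommRingCat.of k)))
    (hbl : BlowUp.IsBlowUp f (W4c2seshadripos.pointIdeal x hx))
    (ωY : Y.Modules) (hωY : ExtPow.IsExtPow 2 (Omega.sheaf (Y ↘ (Spec (CommRingCat.of k)))) ωY) (i : ℕ) :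
    Module.finrank k (Coh.HH X (CohB1.tensorMod (ClSub.idealMod ((W4c2seshadripos.pointIdeal x hx) ^ r))
        (CohB1.tensorMod L ωX)) i) =
      Module.finrank k (Coh.HH Y (CohB1.tensorMod
        (ClSub.idealMod ((BlowUp.exceptional f (W4c2seshadripos.pointIdeal x hx)) ^ (r + 1)))
        (CohB1.tensorMod ((Scheme.Modules.pullback f).obj L) ωY)) i) := by
  haveI := Groth.L21.RR.isNoetherian_of_proper (X := X) k
  haveI : X.IsSeparated := ⟨by rw [← terminal.comp_from (X ↘ Spec (CommRingCat.of k))]; infer_instance⟩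
  haveI : AlgebraicGeometry.IsIntegral X := Groth.L22.SymSing.isIntegral_of_smooth (X ↘ Spec (CommRingCat.of k))
  have hd : topologicalKrullDim X = (2 : ℕ) := hdim.trans Nat.cast_ofNat.symm
  have hreg : ∀ y : X, IsRegularLocalRing (X.presheaf.stalk y) := Groth.L03.SurfAdj.reg_of_smooth k
  let P : Fin 1 → X := fun _ => x
  have hP : Function.Injective P := Function.injective_of_subsingleton _
  have hr1 : Set.range P = {x} := Set.range_const
  have hZ : IsClosed (Set.range P) := hr1 ▸ hx
  have hσ : BlowUp.IsBlowUp f (Scheme.IdealSheafData.vanishingIdeal ⟨Set.range P, hZ⟩) := by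
    rw [show (⟨Set.range P, hZ⟩ : TopologicalSpace.Closeds X) = ⟨{x}, hx⟩ from TopologicalSpace.Closeds.ext hr1]
    exact hbl
  obtain ⟨hYi, hfp⟩ := Groth.L03.BlowPt.MultiExc.integral_proper k hd (fun _ => hx) hσ
  haveI := hYi; haveI := hfp
  haveI : IsProper (Y ↘ Spec (CommRingCat.of k)) := by rw [← hf]; infer_instance
  haveI := Groth.L17.PushQCoh.hasInjectiveResolutions Y
  obtain ⟨⟨D⟩, -⟩ := Groth.L03.BlowPt.MultiExc.nonempty_echart k hd hreg hP (fun _ => hx) hσ 0
  have hdY := Groth.L03.BlowPt.MultiExc.dim_up k hd (fun _ => hx) hσ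
  have hregY := Groth.L03.BlowPt.MultiExc.regular_up k hd hreg hP (fun _ => hx) hσ
  obtain ⟨hωi, hωYi, ⟨can⟩⟩ := Groth.L03.BlowPt.canonical_iso k (b := f) hf hdim hreg
    (hdY.trans Nat.cast_ofNat) hregY hbl hωX hωY
  have hlp := (Groth.L13.PairBlow.goodCentre_vanishingIdeal hx (Set.finite_singleton x)
    (fun y hy => (Set.mem_singleton_iff.1 hy) ▸ hx) (fun y _ => hreg y)
    (fun y hy => (Groth.L03.BlowPt.ringKrullDim_stalk_closed k hd
      ((Set.mem_singleton_iff.1 hy) ▸ hx)).trans (by norm_num))).locallyPair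
  have hu : IsIso (ClSub.unitToPush f) := by
    rw [Scheme.Modules.Hom.isIso_iff_isIso_app]
    intro V
    rw [ConcreteCategory.isIso_iff_bijective]
    refine Groth.L03.BlowAcyc.bijective_app (fun y => ?_) f hbl ?_ V
    · haveI := hreg y
      haveI := Groth.L01.isDomain_of_regular (X.presheaf.stalk y)
      exact ⟨inferInstance, Groth.L03.RegularNormal.isIntegrallyClosed _⟩
    · refine IsOpen.dense (Scheme.IdealSheafData.support _).isClosed.isOpen_compl ?_
      by_contra he
      rw [Set.not_nonempty_iff_eq_empty, Set.compl_empty_iff] at he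
      refine Groth.L03.BlowPt.MultiExc.vanishingIdeal_ne_bot k hd (fun _ => hx) (hZ := hZ) ?_
      have hs : Set.range P = Set.univ := by
        rw [hr1, ← he]; simp [W4c2seshadripos.pointIdeal]
      haveI : AlgebraicGeometry.IsReduced X := inferInstance
      refine Scheme.IdealSheafData.support_eq_top_iff.1 (TopologicalSpace.Closeds.ext ?_)
      simpa [hZ.closure_eq] using hr1.symm.trans hs
  set E := BlowUp.exceptional f (W4c2seshadripos.pointIdeal x hx)
  have hE : PicF.IsInvertible (ClSub.idealMod E) := (Groth.Agent.L19.IdealInvertible.isEffCartier_iff _).2 hbl.1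
  obtain ⟨hEr, ⟨er⟩⟩ := Groth.L13.PointBlow.nonempty_idealMod_pow hE r
  obtain ⟨-, ⟨er1⟩⟩ := Groth.L13.PointBlow.nonempty_idealMod_pow hE (r + 1)
  haveI := Groth.L21.Extend.isQCoh_of_isInvertible hEr
  obtain ⟨push⟩ := Groth.L03.BlowPt.nonempty_push_idealMod f hu (E ^ r)
  have hmap : (E ^ r).map f = W4c2seshadripos.pointIdeal x hx ^ r := Groth.L03.BlowPt.map_exc_pow D r
  rw [hmap] at push
  have h := Groth.L03.Growth.hd_push_of_acyclic k f hf (G := ClSub.idealMod (E ^ r))
    (fun q => Groth.L03.BlowPt.isZero_Rpush_exc_pow hbl hlp r (q + 1) q.succ_pos)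
    (Groth.L18.GenLoc.isInvertible_tensor hL hωi) i
  rw [← Groth.L11.Asymp.hd_def, ← Groth.L11.Asymp.hd_def,
    ← Groth.L11.Asymp.hd_iso k (Groth.L00.Tensor.tensorIso push (Iso.refl _)) i, h]
  refine Groth.L11.Asymp.hd_iso k ?_ i
  open Groth.L00.Tensor in
  exact tensorIso er ((Groth.L29.DC.PullTensor.pullTensor f L ωX).symm ≪≫
      tensorIso (Iso.refl _) (can.symm ≪≫ tensorComm _ _) ≪≫ (tensorAssoc _ _ _).symm ≪≫
      tensorIso (tensorComm _ _) (Iso.refl _) ≪≫ tensorAssoc _ _ _) ≪≫
    (tensorAssoc _ _ _).symm ≪≫ tensorIso er1.symm (Iso.refl _)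

end Groth.Agent.S17346
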