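import Groth.Statements.S17355
import Groth.Agent.L11.Az.PresLocal

set_option autoImplicit false
universe u v w
open scoped TensorProduct
open AzInv

namespace Groth.Agent.S17355

attribute [local instance] Algebra.TensorProduct.rightAlgebra

/-- Central elements of an Azumaya algebra are scalars. -/
theorem central_mem {R : Type*} {B : Type*} [CommRing R] [Ring B] [Algebra R B] [IsAzumaya R B] (c : B)
    (hc : ∀ y, c * y = y * c) : ∃ z, algebraMap R B z = c := by
  obtain ⟨ρ, hρ⟩ := Groth.L11.Az.exists_retraction (R := R) B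
  obtain ⟨w, hw⟩ := IsAzumaya.bij.2 (ρ.smulRight (1 : B))
  refine ⟨ρ c, ?_⟩
  have key : ∀ w, AlgHom.mulLeftRight R B w c = c * AlgHom.mulLeftRight R B w 1 := fun w => by
    induction w using TensorProduct.induction_on with
    | zero => simp
    | add y z hy hz => simp only [map_add, LinearMap.add_apply, hy, hz, mul_add]
    | tmul a b => simp [AlgHom.mulLeftRight_apply, ← mul_assoc, ← hc a]
  have := key w
  rw [hw] at this
  simpa [hρ, Algebra.algebraMap_eq_smul_one] using this

/-- Let `R` be a commutative ring with an involution `lam` whose fixed ring is exactly `S`, assume that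
units have square roots locally for the etale topology of `S` (every unit of an etale `S`-algebra
becomes a square in some etale faithfully flat extension), and let `A` be an Azumaya `R`-algebra of
degree `n ≥ 1` with a `lam`-involution `t`. Then every `R`-algebra automorphism `ψ` of `A` that
commutes with `t` is, locally for the etale topology of `S`, conjugation by a unitary element: there
are an etale faithfully flat `S`-algebra `S'` and a unit `u` of `S' ⊗_S A` with `(id ⊗ t)(u) * u =
1` such that `id ⊗ ψ` is `x ↦ u x u⁻¹` (the map from the unitary group to the automorphism sheaf of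
`(A, t)` is an epimorphism). This row states the surjectivity part only; the published statement
also identifies the kernel of the map from the unitary group as the group of norm-one elements of
`R` (the units `r` of `R` with `lam r * r = 1`), so that the projective unitary group of `(A, t)` is
its automorphism sheaf. (The source states this for an exact quotient of a locally ringed topos with
involution; the row is the affine case `Spec R → Spec S`, with etale coverings of `Spec S` replaced
by a single etale faithfully flat `S`-algebra.) -/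
theorem result (S : Type u) (R : Type v) [CommRing S] [CommRing R] [Algebra S R]
    (lam : R ≃ₐ[S] R) (hlam : ∀ r, lam (lam r) = r) (hfix : RInv.IsFixedRing S R lam.toRingEquiv)
    (hsq : ∀ (S₁ : Type u) [CommRing S₁] [Algebra S S₁] [Algebra.Etale S S₁] (x : S₁ˣ),
      ∃ (S₂ : Type u) (_ : CommRing S₂) (_ : Algebra S₁ S₂) (_ : Algebra.Etale S₁ S₂)
        (_ : Module.FaithfullyFlat S₁ S₂) (y : S₂), y * y = algebraMap S₁ S₂ ↑x)
    (A : Type w) [Ring A] [Algebra S A] [Algebra R A] [IsScalarTower S R A]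
    (n : ℕ) (hn : 0 < n) (hA : AzInv.IsAzumayaDeg R A n) (t : AzInv.LamInv R A lam)
    (ψ : A ≃ₐ[R] A) (hψ : AzInv.IsInvHom t t ψ) :
    ∃ (S' : Type u) (_ : CommRing S') (_ : Algebra S S') (_ : Algebra.Etale S S')
      (_ : Module.FaithfullyFlat S S') (u : (S' ⊗[S] A)ˣ),
      t.bc S lam S' (↑u : S' ⊗[S] A) * ↑u = 1 ∧
        ∀ x : S' ⊗[S] A,
          Algebra.TensorProduct.congr (AlgEquiv.refl : S' ≃ₐ[S'] S') (ψ.restrictScalars S) x =
            ↑u * x * ↑u⁻¹ := by
  haveI := hA.1
  obtain ⟨T, _, _, _, _, u₀, hu₀⟩ := Groth.L11.Az.exists_inner_base hlam hfix ψ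
  set ψT := Algebra.TensorProduct.congr (AlgEquiv.refl : T ≃ₐ[T] T) (ψ.restrictScalars S) with hψT
  have hbc : ∀ x, ψT (t.bc S lam T x) = t.bc S lam T (ψT x) := fun x => by
    induction x using TensorProduct.induction_on with
    | zero => simp
    | add y z hy hz => simp only [map_add, hy, hz]
    | tmul c a =>
      simp only [hψT, Algebra.TensorProduct.congr_apply, Algebra.TensorProduct.map_tmul, AzInv.LamInv.bc_tmul]
      exact congrArg _ (hψ a)
  have hi : t.bc S lam T (↑u₀ : T ⊗[S] A) * t.bc S lam T (↑u₀⁻¹ : T ⊗[S] A) = 1 := by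
    rw [← Groth.L11.Az.bc_mul, Units.inv_mul, Groth.L11.Az.bc_one]
  let c : T ⊗[S] A := t.bc S lam T (↑u₀ : T ⊗[S] A) * (↑u₀ : T ⊗[S] A)
  have hcomm : ∀ x : T ⊗[S] A, c * x = x * c := fun x => by
    have h1 := hbc (t.bc S lam T x)
    rw [Groth.L11.Az.bc_bc, hu₀, hu₀, Groth.L11.Az.bc_mul, Groth.L11.Az.bc_mul, Groth.L11.Az.bc_bc] at h1
    have h2 := congrArg (fun z => t.bc S lam T (↑u₀ : T ⊗[S] A) * z * (↑u₀ : T ⊗[S] A)) h1
    simp only [mul_assoc, Units.inv_mul, mul_one] at h2
    simp only [c, mul_assoc]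
    rw [h2, ← mul_assoc (t.bc S lam T (↑u₀ : T ⊗[S] A)) (t.bc S lam T (↑u₀⁻¹ : T ⊗[S] A)), hi, one_mul]
  obtain ⟨F, hF⟩ := Groth.L11.Az.exists_assoc (S := S) (A := A) (R := R) T
  haveI : IsAzumaya (T ⊗[S] R) ((T ⊗[S] R) ⊗[R] A) :=
    Groth.L11.Az.isAzumaya_baseChange (R := R) (T ⊗[S] R) A
  have hFc : ∀ z : T ⊗[S] R, F (Groth.L11.Az.Pres.centre T A z) = algebraMap (T ⊗[S] R) _ z := fun z => by
    induction z using TensorProduct.induction_on with
    | zero => simp
    | add y z hy hz => simp only [map_add, hy, hz]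
    | tmul d r =>
      rw [show Groth.L11.Az.Pres.centre T A (d ⊗ₜ[S] r) = d ⊗ₜ[S] algebraMap R A r from rfl, hF,
        Algebra.TensorProduct.algebraMap_apply, Algebra.algebraMap_eq_smul_one (A := A) r, TensorProduct.tmul_smul,
        TensorProduct.smul_tmul', Algebra.smul_def, Algebra.algebraMap_self, RingHom.id_apply]
      congr 1
      show ((1 : T) ⊗ₜ[S] r) * (d ⊗ₜ[S] (1 : R)) = _
      rw [Algebra.TensorProduct.tmul_mul_tmul, one_mul, mul_one]
  obtain ⟨z, hz⟩ := central_mem (R := T ⊗[S] R) (F c) fun y => by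
    obtain ⟨x, rfl⟩ := F.surjective y
    rw [← map_mul, ← map_mul, hcomm]
  have hinj : Function.Injective (algebraMap (T ⊗[S] R) ((T ⊗[S] R) ⊗[R] A)) :=
    FaithfulSMul.algebraMap_injective _ _
  have hzc : Groth.L11.Az.Pres.centre T A z = c := F.injective (by rw [hFc, hz])
  have hzfix : Groth.L09.RInvBranch.lamT T lam z = z := by
    refine hinj ?_
    rw [← hFc, ← hFc]
    congr 1
    have h3 := Groth.L11.Az.bc_centre_mul (t := t) z (1 : T ⊗[S] A)
    rw [mul_one, Groth.L11.Az.bc_one, mul_one, hzc] at h3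
    rw [← h3, hzc, Groth.L11.Az.bc_mul, Groth.L11.Az.bc_bc]
  have hT := Groth.L09.RInvBranch.isFixedRing_baseChange T hlam hfix (Or.inl inferInstance)
  have hzu : IsUnit z := by
    have hcu : IsUnit c := IsUnit.mul ⟨⟨_, _, hi, by
      rw [← Groth.L11.Az.bc_mul, Units.mul_inv, Groth.L11.Az.bc_one]⟩, rfl⟩ u₀.isUnit
    obtain ⟨c', hc', hc''⟩ := isUnit_iff_exists.1 (hcu.map F)
    obtain ⟨z', hz'⟩ := central_mem (R := T ⊗[S] R) c' fun y => by
      calc c' * y = c' * (y * (F c * c')) := by rw [hc', mul_one]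
        _ = c' * (F c * (y * c')) := by
          rw [← mul_assoc y (F c) c', show y * F c = F c * y by rw [← hz, Algebra.commutes], mul_assoc]
        _ = y * c' := by rw [← mul_assoc, hc'', one_mul]
    exact IsUnit.of_mul_eq_one z' (hinj (by rw [map_mul, map_one, hz, hz', hc']))
  obtain ⟨d, hd⟩ := (hT.2 z).1 hzfix
  have hdu : IsUnit d := Groth.L09.RInvBasic.isUnit_of_map hT (hd ▸ hzu)
  obtain ⟨T', _, _, _, _, y, hy⟩ := hsq T hdu.unit
  letI : Algebra S T' := ((algebraMap T T').comp (algebraMap S T)).toAlgebra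
  haveI : IsScalarTower S T T' := IsScalarTower.of_algebraMap_eq fun _ => rfl
  haveI : Algebra.Etale S T' := Algebra.Etale.comp S T T'
  haveI : Module.FaithfullyFlat S T' := Module.FaithfullyFlat.trans S T T'
  let m : T ⊗[S] A →ₐ[S] T' ⊗[S] A := Algebra.TensorProduct.map (IsScalarTower.toAlgHom S T T') (AlgHom.id S A)
  have hy2 : IsUnit y := isUnit_of_mul_isUnit_left (hy ▸ hdu.unit.isUnit.map (algebraMap T T') : IsUnit (y * y))
  obtain ⟨yi, hyi⟩ := hy2.exists_left_inv
  have hmc : m c = (y * y) • (1 : T' ⊗[S] A) := by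
    rw [← hzc, ← hd, hy, IsUnit.unit_spec]
    show m (Groth.L11.Az.Pres.centre T A (d ⊗ₜ[S] (1 : R))) = _
    simp [m, Groth.L11.Az.Pres.centre, Algebra.TensorProduct.one_def, TensorProduct.smul_tmul', Algebra.smul_def]
  have hmbc : ∀ x, t.bc S lam T' (m x) = m (t.bc S lam T x) := fun x => by
    induction x using TensorProduct.induction_on with
    | zero => simp
    | add a b ha hb => simp only [map_add, ha, hb]
    | tmul e a => simp [m, AzInv.LamInv.bc_tmul]
  let u : (T' ⊗[S] A)ˣ :=
    ⟨yi • m ↑u₀, y • m ↑u₀⁻¹, by rw [smul_mul_smul_comm, hyi, ← map_mul, Units.mul_inv, map_one, one_smul],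
      by rw [smul_mul_smul_comm, mul_comm y, hyi, ← map_mul, Units.inv_mul, map_one, one_smul]⟩
  refine ⟨T', inferInstance, inferInstance, inferInstance, inferInstance, u, ?_, fun x => ?_⟩
  · show t.bc S lam T' (yi • m ↑u₀) * (yi • m ↑u₀) = 1
    rw [map_smul, hmbc, smul_mul_smul_comm, ← map_mul, hmc, smul_smul, mul_mul_mul_comm, hyi, one_mul, one_smul]
  · show _ = (yi • m ↑u₀) * x * (y • m ↑u₀⁻¹)
    rw [smul_mul_assoc, smul_mul_smul_comm, hyi, one_smul]
    induction x using TensorProduct.induction_on with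
    | zero => simp
    | add a b ha hb => simp only [map_add, mul_add, add_mul, ha, hb]
    | tmul e a =>
      have h1 : ∀ b : A, e ⊗ₜ[S] b = e • m ((1 : T) ⊗ₜ[S] b) := fun b => by simp [m, TensorProduct.smul_tmul']
      rw [Algebra.TensorProduct.congr_apply, Algebra.TensorProduct.map_tmul]
      show e ⊗ₜ[S] (ψ a) = _
      rw [h1, h1 a, mul_smul_comm, smul_mul_assoc, ← map_mul, ← map_mul]
      congr 2
      rw [← hu₀]
      rfl

end Groth.Agent.S17355
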