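import Groth.Statements.S17358
import Groth.Agent.L11.Az.SelfPres

set_option autoImplicit false
universe u v w
open scoped TensorProduct
open AzInv

namespace Groth.Agent.S17358

/-- Let `R` be a commutative ring with an involution `lam` whose fixed ring is exactly `S`; assume that
units have square roots locally for the etale topology of `S` (every unit of an etale `S`-algebra
becomes a square in some etale faithfully flat extension), and that either `2` is a unit in `S` and
the quotient `Spec R → Spec S` is everywhere ramified (for no prime `p` of `S` is `S_p ⊗_S R` a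
quadratic etale `S_p`-algebra; the case `R = S` is included), or `R` is a quadratic etale
`S`-algebra (the unramified case). Then every `lam`-involution `t` of an Azumaya `R`-algebra `A` of
degree `n ≥ 1` is ordinary: there are a global invertible `n × n` matrix `w` over `R` and an element
`e` of `R` with `lam`-transpose of `w` equal to `e • w` and `lam e * e = 1`, such that `(A, t)`
becomes isomorphic, after an etale faithfully flat base change of `S`, to the matrix algebra over
`R` with the involution `x ↦ w * (lam-transpose of x) * w⁻¹` (equivalently `x ↦ (a x a⁻¹)` followed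
by the `lam`-transpose, for the global matrix `a` whose `lam`-transpose is `w⁻¹`). (The source
states this for an exact quotient of a locally ringed topos with involution; the row is the affine
case `Spec R → Spec S`, with etale coverings of `Spec S` replaced by a single etale faithfully flat
`S`-algebra.) -/
theorem result (S : Type u) (R : Type v) [CommRing S] [CommRing R] [Algebra S R]
    (lam : R ≃ₐ[S] R) (hlam : ∀ r, lam (lam r) = r) (hfix : RInv.IsFixedRing S R lam.toRingEquiv)
    (hsq : ∀ (S₁ : Type u) [CommRing S₁] [Algebra S S₁] [Algebra.Etale S S₁] (x : S₁ˣ),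
      ∃ (S₂ : Type u) (_ : CommRing S₂) (_ : Algebra S₁ S₂) (_ : Algebra.Etale S₁ S₂)
        (_ : Module.FaithfullyFlat S₁ S₂) (y : S₂), y * y = algebraMap S₁ S₂ ↑x)
    (hram : (IsUnit (2 : S) ∧ ∀ p : PrimeSpectrum S,
        ¬ RInv.IsQuadEtale (Localization.AtPrime p.asIdeal) (Localization.AtPrime p.asIdeal ⊗[S] R)) ∨
      RInv.IsQuadEtale S R)
    (A : Type w) [Ring A] [Algebra S A] [Algebra R A] [IsScalarTower S R A]
    (n : ℕ) (hn : 0 < n) (hA : AzInv.IsAzumayaDeg R A n) (t : AzInv.LamInv R A lam) :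
    ∃ (w : (Matrix (Fin n) (Fin n) R)ˣ) (e : R)
      (hw : AzInv.LamInv.transpose lam (Fin n) hlam (↑w : Matrix (Fin n) (Fin n) R) = e • (↑w : Matrix (Fin n) (Fin n) R))
      (he : lam e * e = 1),
      AzInv.LocIsoEt S lam t ((AzInv.LamInv.transpose lam (Fin n) hlam).conj w e hw he) := by
  classical
  have hp : ∀ p : PrimeSpectrum S, (2 : S) ∉ p.asIdeal ∨ ¬ Groth.L11.Az.Ram lam p ∨ Odd n := fun p => by
    rcases hram with ⟨h2, -⟩ | hq
    · exact Or.inl fun h => p.isPrime.ne_top (Ideal.eq_top_of_isUnit_mem _ h h2)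
    · exact Or.inr (Or.inl (Groth.L11.Az.not_ram_of_quad hlam hfix hq p))
  have nf := fun p => Groth.L11.Az.normalForm hlam hfix hsq hn hA t p (hp p)
  set t0 := AzInv.LamInv.transpose lam (Fin n) hlam with ht0
  by_cases hall : ∀ p, Groth.L11.Az.HasSym t n p
  · have hw : t0 ((1 : (Matrix (Fin n) (Fin n) R)ˣ) : Matrix (Fin n) (Fin n) R) =
        (1 : R) • ((1 : (Matrix (Fin n) (Fin n) R)ˣ) : Matrix (Fin n) (Fin n) R) := by
      rw [Units.val_one, AzInv.LamInv.map_one, one_smul]
    have he : lam (1 : R) * 1 = 1 := by rw [map_one, one_mul]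
    refine ⟨1, 1, hw, he, Groth.L11.Az.locIsoEt_of_isoAt fun p => Groth.L11.Az.IsoAt.of_sym (hall p) ?_⟩
    let N : Groth.L11.Az.Nbhd p := ⟨S, p, by rw [Algebra.algebraMap_self, PrimeSpectrum.comap_id]⟩
    obtain ⟨P, hP⟩ := Groth.L11.Az.exists_pres_transpose (lam := lam) hlam N.T (Fin n)
    obtain ⟨Q⟩ := P.exists_conj' 1 1 hw he
    exact ⟨N, ⟨Q.ofEq (by rw [Units.val_one, ← Algebra.TensorProduct.one_def, map_one, one_mul])⟩⟩
  obtain ⟨p₀, hp₀⟩ := not_forall.1 hall
  obtain ⟨-, m, rfl, -⟩ := ((nf p₀).resolve_left hp₀).2.2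
  have halt : (IsUnit (2 : S) ∧ ∀ p : PrimeSpectrum S, Groth.L11.Az.Ram lam p) := by
    rcases hram with ⟨h2, hnq⟩ | hq
    · refine ⟨h2, fun p r a ha => ?_⟩
      by_contra hap
      exact hnq p ((Groth.L09.RInvBranch.isQuadEtale_localization_iff (lam := lam.toRingEquiv) hlam hfix p).2
        ⟨r, a, ha, hap⟩)
    · exact absurd ((nf p₀).resolve_left hp₀).1 (Groth.L11.Az.not_ram_of_quad hlam hfix hq p₀)
  obtain ⟨h2, hr⟩ := halt
  have h2p : ∀ p : PrimeSpectrum S, (2 : S) ∉ p.asIdeal := fun p h =>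
    p.isPrime.ne_top (Ideal.eq_top_of_isUnit_mem _ h h2)
  have hcompl : {p | Groth.L11.Az.HasSym t (m * 2) p}ᶜ = {p | Groth.L11.Az.HasAlt t (m * 2) p} := by
    ext p
    exact ⟨fun h => (nf p).elim (fun h' => absurd h' h) fun h' => h'.2.2,
      fun h h' => Groth.L11.Az.not_sym_and_alt hlam hfix (hr p) (h2p p) hn h' h⟩
  have hclopen : IsClopen {p | Groth.L11.Az.HasSym t (m * 2) p} :=
    ⟨isOpen_compl_iff.1 (hcompl ▸ Groth.L11.Az.isOpen_hasAlt t _), Groth.L11.Az.isOpen_hasSym t _⟩
  obtain ⟨e₀, he₀, hU⟩ := PrimeSpectrum.exists_idempotent_basicOpen_eq_of_isClopen hclopen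
  set ε : R := algebraMap S R e₀ with hε
  have hεε : ε * ε = ε := by rw [hε, ← map_mul, he₀.eq]
  have hlε : lam ε = ε := lam.commutes e₀
  set eqv := finProdFinEquiv (m := m) (n := 2)
  set J : Matrix (Fin (m * 2)) (Fin (m * 2)) R := Matrix.reindex eqv eqv (Groth.L11.Az.stdAlt R m) with hJ
  have hJt : J.transpose = -J := by
    rw [hJ, Matrix.transpose_reindex, Groth.L11.Az.stdAlt_transpose]; rfl
  have hJJ : J * J = -1 := by
    rw [hJ, Matrix.reindex_apply, Matrix.submatrix_mul_equiv, Groth.L11.Az.stdAlt, Groth.L11.Az.blk_mul]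
    ext a b
    obtain ⟨⟨k, i⟩, rfl⟩ := eqv.surjective a
    obtain ⟨⟨l, j⟩, rfl⟩ := eqv.surjective b
    rw [Matrix.submatrix_apply, Equiv.symm_apply_apply, Equiv.symm_apply_apply, Groth.L11.Az.blk_apply,
      Matrix.neg_apply, Matrix.one_apply]
    simp only [EmbeddingLike.apply_eq_iff_eq, Prod.mk.injEq]
    rcases eq_or_ne k l with rfl | h
    · fin_cases i <;> fin_cases j <;> simp [Groth.L11.Az.J2, Matrix.mul_apply, Fin.sum_univ_two]
    · simp [h]
  have hlJ : J.map lam = J := by
    rw [hJ, Matrix.reindex_apply, ← Matrix.submatrix_map]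
    congr 1
    exact Groth.L11.Az.map_stdAlt lam.toAlgHom.toRingHom m
  have hone : ε * (1 - ε) = 0 := by rw [mul_sub, mul_one, hεε, sub_self]
  have hsq1 : (1 - ε) * (1 - ε) = 1 - ε := by linear_combination hεε
  let w : (Matrix (Fin (m * 2)) (Fin (m * 2)) R)ˣ :=
    ⟨ε • 1 + (1 - ε) • J, ε • 1 - (1 - ε) • J, by
      simp only [add_mul, mul_sub, Matrix.smul_mul, Matrix.mul_smul, one_mul, mul_one, smul_smul, hJJ, hεε, hsq1, hone,
        mul_comm (1 - ε) ε, zero_smul, smul_neg, add_zero, sub_zero, zero_sub, neg_neg]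
      rw [zero_add, sub_neg_eq_add, ← add_smul, add_sub_cancel, one_smul], by
      simp only [sub_mul, mul_add, Matrix.smul_mul, Matrix.mul_smul, one_mul, mul_one, smul_smul, hJJ, hεε, hsq1, hone,
        mul_comm (1 - ε) ε, zero_smul, smul_neg, add_zero, zero_add, sub_neg_eq_add, sub_zero]
      rw [← add_smul, add_sub_cancel, one_smul]⟩
  have hw : t0 (↑w : Matrix (Fin (m * 2)) (Fin (m * 2)) R) = (2 * ε - 1) • (↑w : Matrix (Fin (m * 2)) (Fin (m * 2)) R) := by
    rw [show (↑w : Matrix (Fin (m * 2)) (Fin (m * 2)) R) = ε • 1 + (1 - ε) • J from rfl, AzInv.LamInv.map_add,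
      AzInv.LamInv.map_smul, AzInv.LamInv.map_smul, AzInv.LamInv.map_one,
      show t0 J = (J.map lam).transpose from rfl, hlJ, hJt, map_sub, map_one, hlε, smul_add, smul_smul, smul_smul,
      show (2 * ε - 1) * ε = ε by linear_combination 2 * hεε,
      show (2 * ε - 1) * (1 - ε) = -(1 - ε) by linear_combination -2 * hεε, neg_smul, smul_neg]
  have he : lam (2 * ε - 1) * (2 * ε - 1) = 1 := by
    rw [map_sub, map_mul, map_ofNat, map_one, hlε]; linear_combination 4 * hεε
  refine ⟨w, 2 * ε - 1, hw, he, Groth.L11.Az.locIsoEt_of_isoAt fun p => ?_⟩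
  let N₀ : Groth.L11.Az.Nbhd p := ⟨S, p, by rw [Algebra.algebraMap_self, PrimeSpectrum.comap_id]⟩
  by_cases hpe : e₀ ∈ p.asIdeal
  · have hsym : ¬ Groth.L11.Az.HasSym t (m * 2) p := fun h => by
      have : p ∈ {p | Groth.L11.Az.HasSym t (m * 2) p} := h
      rw [hU] at this
      exact this hpe
    refine Groth.L11.Az.IsoAt.of_alt ((nf p).resolve_left hsym).2.2 ?_
    obtain ⟨N, φ, hu, -⟩ := N₀.exists_away (1 - e₀ : S) fun h =>
      p.isPrime.ne_top ((Ideal.eq_top_iff_one _).2 (by simpa [N₀] using add_mem hpe h))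
    have hzero : algebraMap S N.T e₀ = 0 := by
      refine hu.mul_right_eq_zero.1 ?_
      rw [show φ (1 - e₀ : S) = algebraMap S N.T (1 - e₀) from φ.commutes (1 - e₀), ← map_mul, sub_mul, one_mul,
        he₀.eq, sub_self, map_zero]
    obtain ⟨P, hP⟩ := Groth.L11.Az.exists_pres_transpose (lam := lam) hlam N.T (Fin (m * 2))
    obtain ⟨Q⟩ := P.exists_conj' w (2 * ε - 1) hw he
    refine ⟨N, m, rfl, ⟨(Q.reindex eqv.symm).ofEq ?_⟩⟩
    have hε0 : (1 : N.T) ⊗ₜ[S] ε = 0 := by
      rw [hε, ← Algebra.TensorProduct.includeRight_apply, AlgHom.commutes,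
        IsScalarTower.algebraMap_apply S N.T (N.T ⊗[S] R), hzero, map_zero]
    let inc : R →+* N.T ⊗[S] R := (Algebra.TensorProduct.includeRight : R →ₐ[S] N.T ⊗[S] R).toRingHom
    ext a b
    rw [mul_one, hP, Matrix.reindex_apply, Matrix.submatrix_apply, Equiv.symm_symm, Matrix.map_apply,
      ← Groth.L11.Az.map_stdAlt inc m, Matrix.map_apply]
    show inc ((ε • (1 : Matrix (Fin (m * 2)) (Fin (m * 2)) R) + (1 - ε) • J) (eqv a) (eqv b)) = _
    rw [Matrix.add_apply, Matrix.smul_apply, Matrix.smul_apply, hJ, Matrix.reindex_apply, Matrix.submatrix_apply,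
      Equiv.symm_apply_apply, Equiv.symm_apply_apply, map_add, smul_eq_mul, smul_eq_mul, map_mul, map_mul, map_sub,
      map_one, show inc ε = 0 from hε0]
    ring
  · have hsym : Groth.L11.Az.HasSym t (m * 2) p := by
      show p ∈ {p | Groth.L11.Az.HasSym t (m * 2) p}
      rw [hU]
      exact hpe
    refine Groth.L11.Az.IsoAt.of_sym hsym ?_
    obtain ⟨N, φ, hu, -⟩ := N₀.exists_away (e₀ : S) hpe
    have hone' : algebraMap S N.T e₀ = 1 := by
      rw [show φ (e₀ : S) = algebraMap S N.T e₀ from φ.commutes e₀] at hu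
      exact hu.mul_left_cancel (by rw [← map_mul, he₀.eq, mul_one])
    obtain ⟨P, hP⟩ := Groth.L11.Az.exists_pres_transpose (lam := lam) hlam N.T (Fin (m * 2))
    obtain ⟨Q⟩ := P.exists_conj' w (2 * ε - 1) hw he
    refine ⟨N, ⟨Q.ofEq ?_⟩⟩
    have hε1 : (1 : N.T) ⊗ₜ[S] ε = 1 := by
      rw [hε, ← Algebra.TensorProduct.includeRight_apply, AlgHom.commutes,
        IsScalarTower.algebraMap_apply S N.T (N.T ⊗[S] R), hone', map_one]
    let inc : R →+* N.T ⊗[S] R := (Algebra.TensorProduct.includeRight : R →ₐ[S] N.T ⊗[S] R).toRingHom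
    ext a b
    rw [mul_one, hP, Matrix.map_apply]
    show inc ((ε • (1 : Matrix (Fin (m * 2)) (Fin (m * 2)) R) + (1 - ε) • J) a b) = _
    rw [Matrix.add_apply, Matrix.smul_apply, Matrix.smul_apply, map_add, smul_eq_mul, smul_eq_mul, map_mul, map_mul,
      map_sub, map_one, show inc ε = 1 from hε1, one_mul, sub_self, zero_mul, add_zero, Matrix.one_apply,
      Matrix.one_apply, apply_ite inc, map_one, map_zero]

end Groth.Agent.S17358
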