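import Groth.Statements.S17359
import Groth.Agent.L11.Az.SelfPres

set_option autoImplicit false
universe u w
open scoped TensorProduct
open AzInv

namespace Groth.Agent.S17359

/-- Let `R` be a nontrivial commutative ring with connected spectrum in which `2` is a unit, with the
trivial involution (so that the involutions considered are of the first kind and the quotient is the
trivial one). Then there are exactly two types, the orthogonal and the symplectic one; this row
states the first half: every involution of the first kind `t` of an Azumaya `R`-algebra `A` of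
degree `n ≥ 1` has the same type either as the identity of `R` or as the standard symplectic
involution `x ↦ J xᵀ J⁻¹` of the `2 × 2` matrix algebra, `J` the matrix with rows `(0, -1)` and `(1,
0)` (same type: suitable matrix algebras over the two, with the induced involutions, become
isomorphic as `R`-algebras with involution after an etale faithfully flat base change of `R`). (The
source states that the monoid of types is isomorphic to the group of global square roots of `1`, for
a locally ringed topos with trivial involution and `2` invertible; the row is the affine case with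
connected spectrum, where that group is `{1, -1}`.) -/
theorem result (R : Type u) [CommRing R] (hlam : ∀ r : R, (AlgEquiv.refl : R ≃ₐ[R] R) ((AlgEquiv.refl : R ≃ₐ[R] R) r) = r)
    [Nontrivial R] [ConnectedSpace (PrimeSpectrum R)] (h2 : IsUnit (2 : R))
    (J : (Matrix (Fin 2) (Fin 2) R)ˣ) (hJ : (↑J : Matrix (Fin 2) (Fin 2) R) = Matrix.of ![![0, -1], ![1, 0]])
    (hJt : AzInv.LamInv.transpose (AlgEquiv.refl : R ≃ₐ[R] R) (Fin 2) hlam (↑J : Matrix (Fin 2) (Fin 2) R) = (-1 : R) • (↑J : Matrix (Fin 2) (Fin 2) R))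
    (hneg : (AlgEquiv.refl : R ≃ₐ[R] R) (-1) * (-1) = 1)
    (A : Type w) [Ring A] [Algebra R A]
    (n : ℕ) (hn : 0 < n) (hA : AzInv.IsAzumayaDeg R A n) (t : AzInv.LamInv R A (AlgEquiv.refl : R ≃ₐ[R] R)) :
    AzInv.SameType R (AlgEquiv.refl : R ≃ₐ[R] R) t (AzInv.LamInv.self (AlgEquiv.refl : R ≃ₐ[R] R) hlam) ∨
      AzInv.SameType R (AlgEquiv.refl : R ≃ₐ[R] R) t ((AzInv.LamInv.transpose (AlgEquiv.refl : R ≃ₐ[R] R) (Fin 2) hlam).conj J (-1) hJt hneg) := by
  have h2p : ∀ p : PrimeSpectrum R, (2 : R) ∉ p.asIdeal := fun p hp =>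
    p.isPrime.ne_top (Ideal.eq_top_of_isUnit_mem _ hp h2)
  have hfix : RInv.IsFixedRing R R (AlgEquiv.refl : R ≃ₐ[R] R).toRingEquiv :=
    ⟨fun a b h => h, fun r => iff_of_true rfl ⟨r, rfl⟩⟩
  have hram : ∀ p : PrimeSpectrum R, Groth.L11.Az.Ram (AlgEquiv.refl : R ≃ₐ[R] R) p := fun p r a ha => by
    rw [Algebra.algebraMap_self, RingHom.id_apply, AlgEquiv.coe_refl, id, sub_self, mul_zero] at ha
    rw [ha]; exact zero_mem _
  set t1 := AzInv.LamInv.self (AlgEquiv.refl : R ≃ₐ[R] R) hlam
  set t2 := (AzInv.LamInv.transpose (AlgEquiv.refl : R ≃ₐ[R] R) (Fin 2) hlam).conj J (-1) hJt hneg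
  have h1 : ∀ p, Groth.L11.Az.HasSym t1 1 p := Groth.L11.Az.hasSym_self hlam
  have h2' : ∀ p, Groth.L11.Az.HasAlt t2 2 p := fun p => by
    let N : Groth.L11.Az.Nbhd p := ⟨R, p, by rw [Algebra.algebraMap_self, PrimeSpectrum.comap_id]⟩
    obtain ⟨P, hP⟩ := Groth.L11.Az.exists_pres_transpose (lam := (AlgEquiv.refl : R ≃ₐ[R] R)) hlam N.T (Fin 2)
    obtain ⟨Q⟩ := P.exists_conj' J (-1) hJt hneg
    refine ⟨N, 1, rfl, ⟨((Q.reindex (finProdFinEquiv (m := 1) (n := 2)).symm).scale (-1) isUnit_one.neg).ofEq ?_⟩⟩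
    ext ⟨a, i⟩ ⟨b, j⟩
    obtain rfl : a = 0 := Subsingleton.elim _ _
    obtain rfl : b = 0 := Subsingleton.elim _ _
    rw [mul_one, hP, Matrix.smul_apply, Matrix.reindex_apply, Matrix.submatrix_apply, Equiv.symm_symm, hJ,
      Matrix.map_apply, Groth.L11.Az.stdAlt, Groth.L11.Az.blk_apply, if_pos rfl]
    fin_cases i <;> fin_cases j <;>
      simp [Groth.L11.Az.J2, finProdFinEquiv, Algebra.TensorProduct.one_def, TensorProduct.tmul_neg]
  have hsq := Groth.L11.Az.hasSqrt_of_isUnit_two h2
  have nf := fun p => Groth.L11.Az.normalForm hlam hfix hsq hn hA t p (Or.inl (h2p p))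
  have hcompl : {p | Groth.L11.Az.HasSym t n p}ᶜ = {p | Groth.L11.Az.HasAlt t n p} := by
    ext p
    exact ⟨fun h => (nf p).elim (fun h' => absurd h' h) fun h' => h'.2.2,
      fun h h' => Groth.L11.Az.not_sym_and_alt hlam hfix (hram p) (h2p p) hn h' h⟩
  have hclopen : IsClopen {p | Groth.L11.Az.HasSym t n p} :=
    ⟨isOpen_compl_iff.1 (hcompl ▸ Groth.L11.Az.isOpen_hasAlt t n), Groth.L11.Az.isOpen_hasSym t n⟩
  rcases isClopen_iff.1 hclopen with he | hu
  · refine Or.inr (Groth.L11.Az.sameType_of_signs hn two_pos fun p => Or.inr ⟨?_, h2' p⟩)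
    have : p ∈ {p | Groth.L11.Az.HasSym t n p}ᶜ := by rw [he]; exact not_false
    rwa [hcompl] at this
  · refine Or.inl (Groth.L11.Az.sameType_of_signs hn one_pos fun p => Or.inl ⟨?_, h1 p⟩)
    exact (Set.eq_univ_iff_forall.1 hu) p

end Groth.Agent.S17359
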