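import Groth.Statements.S1736
import Groth.Agent.L04.Canon.HLVGlobal

set_option autoImplicit false
universe u
open LocCoh

namespace Groth.Agent.S1736

/-- Let A be a Noetherian ring of finite dimension d and I ⊆ I' ideals with I' contained in the Jacobson
radical of A. If cd(A, I') < d, i.e. H^i_{I'}(M) = 0 for all A-modules M and all i ≥ d, then also
cd(A, I) < d: H^i_I(M) = 0 for all A-modules M and all i ≥ d. -/
theorem result (A : Type u) [CommRing A] [IsNoetherianRing A] (d : ℕ) (hd : ringKrullDim A = d) (I I' : Ideal A) (hII' : I ≤ I') (hJ : I' ≤ (⊥ : Ideal A).jacobson) (h : ∀ (M : Type u) [AddCommGroup M] [Module A M] (i : ℕ), d ≤ i → Subsingleton (LocCoh.H I' i M)) (M : Type u) [AddCommGroup M] [Module A M] (i : ℕ) (hi : d ≤ i) : Subsingleton (LocCoh.H I i M) := by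

    open IsLocalRing Groth.L04.LC in
    (haveI := h M i hi
     refine Function.Surjective.subsingleton (f := Hmap hII' i (ModuleCat.of A M))
       ((Hmap_surjective_injective M I' I hII' i).1 fun p _ hp => ?_)
     haveI : IsNoetherianRing (Localization.AtPrime p.asIdeal) :=
       IsLocalization.isNoetherianRing p.asIdeal.primeCompl _ inferInstance
     refine subsingleton_H_of_supportDim_lt _ _ _ ((Module.supportDim_le_ringKrullDim _ _).trans_lt ?_)
     rw [IsLocalization.AtPrime.ringKrullDim_eq_height p.asIdeal (Localization.AtPrime p.asIdeal)]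
     obtain ⟨m, hm, hpm⟩ := p.asIdeal.exists_le_maximal p.2.ne_top
     have hlt : p.asIdeal < m := lt_of_le_of_ne hpm fun he => hp
       (hJ.trans (sInf_le ⟨bot_le, he ▸ hm⟩))
     haveI : m.IsPrime := hm.isPrime
     have h1 := Ideal.height_strict_mono_of_isPrime hlt
     have h2 : (m.height : WithBot ℕ∞) ≤ d := hd ▸ Ideal.height_le_ringKrullDim_of_ne_top hm.ne_top
     exact lt_of_lt_of_le (WithBot.coe_lt_coe.2 h1) (h2.trans (by exact_mod_cast hi)))

end Groth.Agent.S1736
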