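import Groth.Statements.S17360
import Mathlib.RingTheory.Flat.FaithfullyFlat.Algebra
import Mathlib.RingTheory.MatrixAlgebra
import Mathlib.RingTheory.Nilpotent.Lemmas
import Mathlib.LinearAlgebra.Matrix.NonsingularInverse

set_option autoImplicit false
universe u
open scoped TensorProduct
open AzInv

namespace Groth.Agent.S17360

/-- Let `R` be a nontrivial commutative ring in which `2` is a unit, with the trivial involution. This
row states the second half of the count of types: the identity of `R` (the orthogonal type) and the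
standard symplectic involution `x ↦ J xᵀ J⁻¹` of the `2 × 2` matrix algebra, `J` the matrix with
rows `(0, -1)` and `(1, 0)`, do not have the same type, i.e. for no positive sizes do the matrix
algebras over `R` with the transpose and over `M_2(R)` with the involution induced by the symplectic
one become isomorphic as `R`-algebras with involution after an etale faithfully flat base change of
`R`. (The source states that the monoid of types is isomorphic to the group of global square roots
of `1`, for a locally ringed topos with trivial involution and `2` invertible; the row is the affine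
case.) -/
theorem result (R : Type u) [CommRing R] (hlam : ∀ r : R, (AlgEquiv.refl : R ≃ₐ[R] R) ((AlgEquiv.refl : R ≃ₐ[R] R) r) = r)
    [Nontrivial R] (h2 : IsUnit (2 : R))
    (J : (Matrix (Fin 2) (Fin 2) R)ˣ) (hJ : (↑J : Matrix (Fin 2) (Fin 2) R) = Matrix.of ![![0, -1], ![1, 0]])
    (hJt : AzInv.LamInv.transpose (AlgEquiv.refl : R ≃ₐ[R] R) (Fin 2) hlam (↑J : Matrix (Fin 2) (Fin 2) R) = (-1 : R) • (↑J : Matrix (Fin 2) (Fin 2) R))
    (hneg : (AlgEquiv.refl : R ≃ₐ[R] R) (-1) * (-1) = 1) :
    ¬ AzInv.SameType R (AlgEquiv.refl : R ≃ₐ[R] R) (AzInv.LamInv.self (AlgEquiv.refl : R ≃ₐ[R] R) hlam) ((AzInv.LamInv.transpose (AlgEquiv.refl : R ≃ₐ[R] R) (Fin 2) hlam).conj J (-1) hJt hneg) := by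
  classical
  rintro ⟨m, m', hm, hm', S', _, _, _, _, f, -, hft⟩
  haveI : Nontrivial S' := by
    refine nontrivial_of_ne (1 : S') 0 fun h => one_ne_zero (α := R) ?_
    exact FaithfulSMul.algebraMap_injective R S' (by rw [map_one, map_zero]; exact h)
  let i0 : Fin m := ⟨0, hm⟩
  let e : S' ⊗[R] Matrix (Fin m) (Fin m) R := 1 ⊗ₜ Matrix.single i0 i0 1
  have he0 : e ≠ 0 := fun h => by
    have h1 := congrArg (fun z => matrixEquivTensor (Fin m) R S' |>.symm z i0 i0) h
    simp [e, matrixEquivTensor_apply_symm] at h1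
  have hee : e * e = e := by simp [e]
  have het : ((AzInv.LamInv.self (AlgEquiv.refl : R ≃ₐ[R] R) hlam).matrix (Fin m)).bc R (AlgEquiv.refl : R ≃ₐ[R] R) S' e = e := by
    rw [AzInv.LamInv.bc_tmul]
    congr 1
    ext i j
    change Matrix.single i0 i0 (1 : R) j i = _
    simp [Matrix.single_apply, and_comm]
  have hcorner : ∀ z, ∃ c : S', e * z * e = c • e := fun z => by
    induction z using TensorProduct.induction_on with
    | zero => exact ⟨0, by simp⟩
    | tmul s M =>
      refine ⟨M i0 i0 • s, ?_⟩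
      simp only [e, Algebra.TensorProduct.tmul_mul_tmul, one_mul, mul_one, TensorProduct.smul_tmul', smul_eq_mul]
      rw [TensorProduct.smul_tmul]
      congr 1
      ext a b
      simp [Matrix.single_mul_mul_single, Matrix.single_apply]
    | add z z' hz hz' =>
      obtain ⟨c, hc⟩ := hz
      obtain ⟨c', hc'⟩ := hz'
      exact ⟨c + c', by rw [mul_add, add_mul, hc, hc', add_smul]⟩
  -- the matrix picture of the symplectic side
  let bar : Fin 2 → Fin 2 := ![1, 0]
  let eps : Fin 2 → Fin 2 → S' := fun p q => if p = q then 1 else -1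
  let Φ : S' ⊗[R] Matrix (Fin m') (Fin m') (Matrix (Fin 2) (Fin 2) R) ≃ₐ[S'] Matrix (Fin m' × Fin 2) (Fin m' × Fin 2) S' :=
    (Algebra.TensorProduct.congr AlgEquiv.refl (Matrix.compAlgEquiv (Fin m') (Fin 2) R R)).trans
      ({ (matrixEquivTensor (Fin m' × Fin 2) R S').symm with
          commutes' := fun s => by
            ext a b
            simp [Algebra.TensorProduct.algebraMap_apply, matrixEquivTensor_apply_symm, Matrix.one_apply,
              Matrix.algebraMap_matrix_apply] } :
        S' ⊗[R] Matrix (Fin m' × Fin 2) (Fin m' × Fin 2) R ≃ₐ[S'] Matrix (Fin m' × Fin 2) (Fin m' × Fin 2) S')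
  have hΦ : ∀ (s : S') (M : Matrix (Fin m') (Fin m') (Matrix (Fin 2) (Fin 2) R)) (a b : Fin m' × Fin 2),
      Φ (s ⊗ₜ M) a b = s * algebraMap R S' (M a.1 b.1 a.2 b.2) := fun s M a b => by
    simp [Φ, matrixEquivTensor_apply_symm]
  have hJinv : (↑J⁻¹ : Matrix (Fin 2) (Fin 2) R) = Matrix.of ![![0, 1], ![-1, 0]] := by
    refine Units.inv_eq_of_mul_eq_one_right ?_
    rw [hJ]
    ext p q
    fin_cases p <;> fin_cases q <;> simp [Matrix.mul_apply, Fin.sum_univ_two]
  have hsymp : ∀ (X : Matrix (Fin 2) (Fin 2) R) (p q : Fin 2),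
      algebraMap R S' ((AzInv.LamInv.transpose (AlgEquiv.refl : R ≃ₐ[R] R) (Fin 2) hlam).conj J (-1) hJt hneg X p q) =
        eps p q * algebraMap R S' (X (bar q) (bar p)) := fun X p q => by
    have ht : ∀ i j, (AzInv.LamInv.transpose (AlgEquiv.refl : R ≃ₐ[R] R) (Fin 2) hlam) X i j = X j i := fun _ _ => rfl
    rw [AzInv.LamInv.conj_apply, hJinv, hJ]
    fin_cases p <;> fin_cases q <;> simp [Matrix.mul_apply, Matrix.vecMul, dotProduct, Fin.sum_univ_two, eps, bar, ht] <;> exact ht _ _
  have hΦt : ∀ z a b, Φ ((((AzInv.LamInv.transpose (AlgEquiv.refl : R ≃ₐ[R] R) (Fin 2) hlam).conj J (-1) hJt hneg).matrix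
      (Fin m')).bc R (AlgEquiv.refl : R ≃ₐ[R] R) S' z) a b = eps a.2 b.2 * Φ z (b.1, bar b.2) (a.1, bar a.2) := fun z a b => by
    induction z using TensorProduct.induction_on with
    | zero => simp
    | tmul s M => rw [AzInv.LamInv.bc_tmul, hΦ, hΦ, AzInv.LamInv.matrix_apply, hsymp]; ring
    | add z z' hz hz' => simp only [_root_.map_add, Matrix.add_apply, hz, hz', mul_add]
  set N := Φ (f e) with hN
  have hNN : N * N = N := by rw [hN, ← map_mul, ← map_mul, hee]
  have hNfix : ∀ a b, N a b = eps a.2 b.2 * N (b.1, bar b.2) (a.1, bar a.2) := fun a b => by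
    conv_lhs => rw [hN, ← het, hft]
    exact hΦt _ a b
  have hNc : ∀ Y, ∃ c : S', N * Y * N = c • N := fun Y => by
    obtain ⟨y, rfl⟩ := Φ.surjective Y
    obtain ⟨z, rfl⟩ := f.surjective y
    obtain ⟨c, hc⟩ := hcorner z
    exact ⟨c, by rw [hN, ← map_mul, ← map_mul, ← map_mul, ← map_mul, hc, map_smul, map_smul]⟩
  have h2' : IsUnit (2 : S') := by
    have := h2.map (algebraMap R S')
    rwa [map_ofNat] at this
  have hbb : ∀ p, bar (bar p) = p := fun p => by fin_cases p <;> rfl
  have hdiag : ∀ a : Fin m' × Fin 2, N a (a.1, bar a.2) = 0 := fun a => by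
    have h := hNfix a (a.1, bar a.2)
    simp only [hbb] at h
    have hε : eps a.2 (bar a.2) = -1 := by
      rcases a with ⟨i, p⟩
      fin_cases p <;> simp [eps, bar]
    rw [hε, neg_one_mul, eq_neg_iff_add_eq_zero, ← two_mul] at h
    exact (h2'.mul_right_eq_zero).mp h
  have hnil : ∀ a b, IsNilpotent (N a b) := fun a b => by
    obtain ⟨c, hc⟩ := hNc (Matrix.single b (b.1, bar b.2) 1)
    have h := congrArg (fun Z : Matrix _ _ S' => Z a (a.1, bar a.2)) hc
    simp only [Matrix.smul_apply, hdiag, smul_zero] at h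
    rw [Matrix.mul_apply, Finset.sum_eq_single (b.1, bar b.2) (fun x _ hx => by
      simp [Matrix.mul_apply, Matrix.single_apply, Ne.symm hx]) (by simp), Matrix.mul_apply,
      Finset.sum_eq_single b (fun x _ hx => by simp [Matrix.single_apply, Ne.symm hx]) (by simp)] at h
    simp only [Matrix.single_apply, and_self, if_true, mul_one] at h
    have hε : eps a.2 b.2 * N (b.1, bar b.2) (a.1, bar a.2) = N a b := (hNfix a b).symm
    refine ⟨2, ?_⟩
    rw [sq]
    nth_rewrite 2 [← hε]
    rw [mul_left_comm, h, mul_zero]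
  have hu : IsUnit (1 - N) := by
    rw [Matrix.isUnit_iff_isUnit_det]
    let π := Ideal.Quotient.mk (nilradical S')
    have h1 : π (1 - N).det = 1 := by
      rw [RingHom.map_det, RingHom.mapMatrix_apply, show (1 - N).map π = 1 by
        ext a b
        have : π (N a b) = 0 := Ideal.Quotient.eq_zero_iff_mem.mpr (mem_nilradical.mpr (hnil a b))
        simp [Matrix.one_apply, this, apply_ite π], Matrix.det_one]
    rw [← map_one π, Ideal.Quotient.eq, mem_nilradical] at h1
    simpa using h1.isUnit_add_one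
  have hN0 : N = 0 := hu.mul_left_eq_zero.mp (by rw [mul_sub, mul_one, hNN, sub_self])
  exact he0 (f.injective (Φ.injective (by rw [← hN, hN0, map_zero, map_zero])))

end Groth.Agent.S17360
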