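import Groth.Statements.S17361
import Groth.Agent.L11.Az.Compare

set_option autoImplicit false
universe u v w w'
open scoped TensorProduct
open AzInv

namespace Groth.Agent.S17361

/-- Let `R` be a commutative ring with an involution `lam` whose fixed ring is exactly `S`, with `2` a
unit in `S`, and let `(A, t)` and `(A', t')` be Azumaya `R`-algebras of degrees `n, n' ≥ 1` with
`lam`-involutions. For a prime `q` of `R` in the ramification locus, i.e. such that `lam` is the
identity modulo `q`, the involution induced by `t` on the central simple algebra `k(q) ⊗_R A` is of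
the first kind, and it is orthogonal precisely when the images of the `t`-symmetric elements of `A`
span a subspace of dimension `n (n + 1) / 2` over `k(q)` (and symplectic otherwise). Then `t` and
`t'` have the same type (for some positive sizes, the matrix algebras over `A` and `A'` with the
induced involutions become isomorphic as `R`-algebras with involution after an etale faithfully flat
base change of `S`) if and only if at every prime of the ramification locus the involutions induced
by `t` and by `t'` are both orthogonal or both symplectic. (The source states this for a good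
quotient of schemes by an involution, with `2` invertible, through a locally constant sign function
on the ramification locus; the row is the affine case `Spec R → Spec S` with the signs spelled out
by dimensions of symmetric elements.) -/
theorem result (S : Type u) (R : Type v) [CommRing S] [CommRing R] [Algebra S R]
    (lam : R ≃ₐ[S] R) (hlam : ∀ r, lam (lam r) = r) (hfix : RInv.IsFixedRing S R lam.toRingEquiv)
    (h2 : IsUnit (2 : S))
    (A : Type w) [Ring A] [Algebra S A] [Algebra R A] [IsScalarTower S R A]
    (A' : Type w') [Ring A'] [Algebra S A'] [Algebra R A'] [IsScalarTower S R A']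
    (n n' : ℕ) (hn : 0 < n) (hn' : 0 < n') (hA : AzInv.IsAzumayaDeg R A n) (hA' : AzInv.IsAzumayaDeg R A' n')
    (t : AzInv.LamInv R A lam) (t' : AzInv.LamInv R A' lam) :
    AzInv.SameType S lam t t' ↔
      ∀ q : PrimeSpectrum R, (∀ r : R, lam r - r ∈ q.asIdeal) →
        (Module.finrank q.asIdeal.ResidueField
            (Submodule.span q.asIdeal.ResidueField
              (Set.range fun a : {a : A // t a = a} => (1 : q.asIdeal.ResidueField) ⊗ₜ[R] (a : A))) = Nat.choose (n + 1) 2 ↔
          Module.finrank q.asIdeal.ResidueField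
            (Submodule.span q.asIdeal.ResidueField
              (Set.range fun a : {a : A' // t' a = a} => (1 : q.asIdeal.ResidueField) ⊗ₜ[R] (a : A'))) = Nat.choose (n' + 1) 2) := by
  have h2p : ∀ p : PrimeSpectrum S, (2 : S) ∉ p.asIdeal := fun p hp =>
    p.isPrime.ne_top (Ideal.eq_top_of_isUnit_mem _ hp h2)
  have hsq := Groth.L11.Az.hasSqrt_of_isUnit_two h2
  have nf := fun p => Groth.L11.Az.normalForm hlam hfix hsq hn hA t p (Or.inl (h2p p))
  have nf' := fun p => Groth.L11.Az.normalForm hlam hfix hsq hn' hA' t' p (Or.inl (h2p p))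
  constructor
  · intro hst q hq
    obtain ⟨f1, f2⟩ := Groth.L11.Az.finrank_of_sign (t := t) hlam hfix q hq (h2p _) hn
    obtain ⟨g1, g2⟩ := Groth.L11.Az.finrank_of_sign (t := t') hlam hfix q hq (h2p _) hn'
    have hr := Groth.L11.Az.ram_of_fix (lam := lam) q hq
    obtain ⟨k1, k2⟩ := Groth.L11.Az.not_sym_alt_of_sameType hlam hfix hr (h2p _) hst hn hn'
    rcases nf (PrimeSpectrum.comap (algebraMap S R) q) with a | ⟨-, -, a⟩ <;>
      rcases nf' (PrimeSpectrum.comap (algebraMap S R) q) with b | ⟨-, -, b⟩
    · exact iff_of_true (f1 a) (g1 b)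
    · exact absurd ⟨a, b⟩ k1
    · exact absurd ⟨a, b⟩ k2
    · exact iff_of_false (f2 a) (g2 b)
  · intro hsign
    have hq : ∀ p : PrimeSpectrum S, Groth.L11.Az.Ram lam p →
        ∃ q : PrimeSpectrum R, PrimeSpectrum.comap (algebraMap S R) q = p ∧ ∀ r, lam r - r ∈ q.asIdeal := by
      intro p hp
      haveI := Groth.L09.RInvBasic.isIntegral (lam := lam.toRingEquiv) hlam hfix
      obtain ⟨Q, -, hQ, hQp⟩ := Ideal.exists_ideal_over_prime_of_isIntegral p.asIdeal (⊥ : Ideal R)
        (by rw [← RingHom.ker_eq_comap_bot, (RingHom.injective_iff_ker_eq_bot _).1 hfix.1]; exact bot_le)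
      refine ⟨⟨Q, hQ⟩, PrimeSpectrum.ext hQp, fun r => ?_⟩
      obtain ⟨a, ha⟩ : ∃ a : S, algebraMap S R a = (r - lam r) * (r - lam r) :=
        (hfix.2 _).1 (show lam ((r - lam r) * (r - lam r)) = _ by simp only [map_mul, map_sub, hlam r]; ring)
      have h1 : (r - lam r) * (r - lam r) ∈ Q := by
        rw [← ha, ← Ideal.mem_comap, hQp]; exact hp r a ha
      rw [← neg_sub]
      exact neg_mem ((hQ.mem_or_mem h1).elim id id)
    refine Groth.L11.Az.sameType_of_signs hn hn' fun p => ?_
    rcases nf p with a | ⟨hr, -, a⟩ <;> rcases nf' p with b | ⟨hr', -, b⟩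
    · exact Or.inl ⟨a, b⟩
    · obtain ⟨q, rfl, hqf⟩ := hq p hr'
      exact absurd ((hsign q hqf).1 ((Groth.L11.Az.finrank_of_sign hlam hfix q hqf (h2p _) hn).1 a))
        ((Groth.L11.Az.finrank_of_sign hlam hfix q hqf (h2p _) hn').2 b)
    · obtain ⟨q, rfl, hqf⟩ := hq p hr
      exact absurd ((hsign q hqf).2 ((Groth.L11.Az.finrank_of_sign hlam hfix q hqf (h2p _) hn').1 b))
        ((Groth.L11.Az.finrank_of_sign hlam hfix q hqf (h2p _) hn).2 a)
    · exact Or.inr ⟨a, b⟩

end Groth.Agent.S17361
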