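import Groth.Statements.S17364
import Groth.Agent.L09.RInvSpread

set_option autoImplicit false
universe u v
open scoped TensorProduct
open RInv

namespace Groth.Agent.S17364

open Groth.L09.RInvSpread

lemma exists_hom {B Q₀ R' : Type u} [CommRing B] [CommRing Q₀] [Algebra B Q₀] [CommRing R'] [Algebra B R']
    (ρ : Q₀ →+* R') (hρ : ∀ x : B, ρ (algebraMap B Q₀ x) = algebraMap B R' x) (g : Q₀)
    (C : Type u) [CommRing C] [Algebra B C] [Algebra R' C] [IsScalarTower B R' C] [IsLocalization.Away (ρ g) C] :
    Nonempty (Localization.Away g →ₐ[B] C) := by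
  have hu : IsUnit (((algebraMap R' C).comp ρ) g) := IsLocalization.Away.algebraMap_isUnit (ρ g)
  exact ⟨{ (IsLocalization.Away.lift g hu : Localization.Away g →+* C) with
    commutes' := fun x => by
      show IsLocalization.Away.lift g hu (algebraMap B (Localization.Away g) x) = _
      rw [IsScalarTower.algebraMap_apply B Q₀ (Localization.Away g), IsLocalization.Away.lift_eq,
        RingHom.comp_apply, hρ, ← IsScalarTower.algebraMap_apply B R' C] }⟩


set_option backward.isDefEq.respectTransparency false in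
/-- Let `A` be a commutative ring with an involution `lam` whose fixed ring is `B`, let `ε = ±1`, and
let `h, h'` be invertible `n × n` matrices over `A` with `h = ε (lam h)ᵀ` and `h' = ε (lam h')ᵀ`.
Let `p` be a prime of `B` and suppose there are units `s_1, …, s_l` of the local ring `B_p`,
elements `f_1, …, f_r` of `B_p[X_1, …, X_l]/(X_k² - s_k)` (square roots of the `s_k` adjoined)
generating the unit ideal, and for each `i` an invertible matrix `v` over `C ⊗_B A` for the
localisation `C` of that ring at `f_i` (any `B`-algebra with the universal property of that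
localisation) (`lam` extended so as to fix the square roots and `B_p`) with `(lam v)ᵀ h v = h'`.
Then there is `b ∉ p` in `B` such that the same kind of data exists with `B_p` replaced by `B_b`:
units of `B_b`, a finite family generating the unit ideal of `B_b[X_1, …, X_l]/(X_k² - s_k)`, and
invertible matrices over the corresponding localisations tensored with `A` congruating `h` to `h'`. -/
theorem result (B : Type u) (A : Type v) [CommRing B] [CommRing A]
    [Algebra B A] (lam : A ≃ₐ[B] A) (hlam : ∀ a, lam (lam a) = a) (hB : RInv.IsFixedRing B A lam.toRingEquiv)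
    (n : ℕ) (ε : A) (hε : ε = 1 ∨ ε = -1) (h h' : Matrix (Fin n) (Fin n) A) (hh : IsUnit h) (hh' : IsUnit h')
    (herm : ε • (h.map lam).transpose = h) (herm' : ε • (h'.map lam).transpose = h')
    (p : Ideal B) [p.IsPrime]
    (hdata : (∃ (l : ℕ) (s : Fin l → (Localization.AtPrime p)ˣ) (r : ℕ) (f : Fin r → (MvPolynomial (Fin l) (Localization.AtPrime p) ⧸ Ideal.span (Set.range fun k : Fin l => MvPolynomial.X k ^ 2 - MvPolynomial.C (s k : Localization.AtPrime p)))),
        Ideal.span (Set.range f) = ⊤ ∧
        ∀ (i : Fin r) (C : Type u) [CommRing C] [Algebra B C]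
          [Algebra (MvPolynomial (Fin l) (Localization.AtPrime p) ⧸ Ideal.span (Set.range fun k : Fin l => MvPolynomial.X k ^ 2 - MvPolynomial.C (s k : Localization.AtPrime p))) C]
          [IsScalarTower B (MvPolynomial (Fin l) (Localization.AtPrime p) ⧸ Ideal.span (Set.range fun k : Fin l => MvPolynomial.X k ^ 2 - MvPolynomial.C (s k : Localization.AtPrime p))) C]
          [IsLocalization.Away (f i) C],
          ∃ v : Matrix (Fin n) (Fin n) (C ⊗[B] A), IsUnit v ∧
            (v.map (Algebra.TensorProduct.congr (AlgEquiv.refl : C ≃ₐ[C] C) lam)).transpose * h.map (Algebra.TensorProduct.includeRight : A →ₐ[B] C ⊗[B] A) * v = h'.map (Algebra.TensorProduct.includeRight : A →ₐ[B] C ⊗[B] A))) :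
    ∃ b : B, b ∉ p ∧
      (∃ (l : ℕ) (s : Fin l → (Localization.Away b)ˣ) (r : ℕ) (f : Fin r → (MvPolynomial (Fin l) (Localization.Away b) ⧸ Ideal.span (Set.range fun k : Fin l => MvPolynomial.X k ^ 2 - MvPolynomial.C (s k : Localization.Away b)))),
        Ideal.span (Set.range f) = ⊤ ∧
        ∀ (i : Fin r) (C : Type u) [CommRing C] [Algebra B C]
          [Algebra (MvPolynomial (Fin l) (Localization.Away b) ⧸ Ideal.span (Set.range fun k : Fin l => MvPolynomial.X k ^ 2 - MvPolynomial.C (s k : Localization.Away b))) C]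
          [IsScalarTower B (MvPolynomial (Fin l) (Localization.Away b) ⧸ Ideal.span (Set.range fun k : Fin l => MvPolynomial.X k ^ 2 - MvPolynomial.C (s k : Localization.Away b))) C]
          [IsLocalization.Away (f i) C],
          ∃ v : Matrix (Fin n) (Fin n) (C ⊗[B] A), IsUnit v ∧
            (v.map (Algebra.TensorProduct.congr (AlgEquiv.refl : C ≃ₐ[C] C) lam)).transpose * h.map (Algebra.TensorProduct.includeRight : A →ₐ[B] C ⊗[B] A) * v = h'.map (Algebra.TensorProduct.includeRight : A →ₐ[B] C ⊗[B] A)) := by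
  classical
  obtain ⟨l, s, r, f, hspan, hv⟩ := hdata
  let M := p.primeCompl
  choose a d had using fun k => IsLocalization.exists_mk'_eq M (s k : Localization.AtPrime p)
  have ha : ∀ k, a k ∈ M := fun k => by
    intro h
    have h1 := (s k).isUnit
    rw [← had k, IsLocalization.AtPrime.isUnit_mk'_iff] at h1
    exact h1 h
  have hads : ∀ k, algebraMap B (Localization.AtPrime p) (d k) * (s k : Localization.AtPrime p) = algebraMap B _ (a k) :=
    fun k => by rw [← had k, mul_comm, IsLocalization.mk'_spec]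
  let I₀ : Ideal (MvPolynomial (Fin l) B) := Ideal.span (Set.range fun k =>
    MvPolynomial.C (d k : B) * MvPolynomial.X k ^ 2 - MvPolynomial.C (a k))
  let Q₀ := MvPolynomial (Fin l) B ⧸ I₀
  let x₀ : Fin l → Q₀ := fun k => Ideal.Quotient.mk I₀ (MvPolynomial.X k)
  have hx₀ : ∀ k, algebraMap B Q₀ (d k) * x₀ k ^ 2 = algebraMap B Q₀ (a k) := fun k => by
    show Ideal.Quotient.mk I₀ (MvPolynomial.C _) * Ideal.Quotient.mk I₀ _ ^ 2 = Ideal.Quotient.mk I₀ (MvPolynomial.C _)
    rw [← map_pow, ← map_mul, Ideal.Quotient.eq]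
    exact Ideal.subset_span ⟨k, rfl⟩
  let P₀ := Localization (Algebra.algebraMapSubmonoid Q₀ M)
  have hM₀ : ∀ m : M, IsUnit (algebraMap B P₀ m) := fun m => by
    rw [IsScalarTower.algebraMap_apply B Q₀ P₀]
    exact IsLocalization.map_units P₀ (⟨_, m, m.2, rfl⟩ : Algebra.algebraMapSubmonoid Q₀ M)
  let g₀ : Localization.AtPrime p →+* P₀ := IsLocalization.lift (M := p.primeCompl) (S := Localization.AtPrime p) (P := P₀) (g := algebraMap B P₀) hM₀
  have hg₀ : ∀ b : B, g₀ (algebraMap B _ b) = algebraMap B P₀ b := IsLocalization.lift_eq hM₀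
  let ψ₀ : (MvPolynomial (Fin l) (Localization.AtPrime p) ⧸ Ideal.span (Set.range fun k : Fin l =>
      MvPolynomial.X k ^ 2 - MvPolynomial.C (s k : Localization.AtPrime p))) →+* P₀ :=
    Ideal.Quotient.lift _ (MvPolynomial.eval₂Hom g₀ (fun k => algebraMap Q₀ P₀ (x₀ k))) (by
      intro z hz
      rw [← RingHom.mem_ker]
      revert z hz
      rw [← SetLike.le_def, Ideal.span_le]
      rintro _ ⟨k, rfl⟩
      rw [SetLike.mem_coe, RingHom.mem_ker, map_sub, map_pow, MvPolynomial.eval₂Hom_X', MvPolynomial.eval₂Hom_C,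
        sub_eq_zero]
      refine (hM₀ (d k)).mul_left_cancel ?_
      rw [← hg₀, ← map_mul g₀, hads, hg₀, hg₀, IsScalarTower.algebraMap_apply B Q₀ P₀,
        IsScalarTower.algebraMap_apply B Q₀ P₀, ← map_pow, ← map_mul, hx₀])
  have hψ₀ : ∀ b : B, ψ₀ (algebraMap B _ b) = algebraMap B P₀ b := fun b => by
    rw [IsScalarTower.algebraMap_apply B (Localization.AtPrime p) (MvPolynomial _ _ ⧸ _),
      IsScalarTower.algebraMap_apply (Localization.AtPrime p) (MvPolynomial (Fin l) (Localization.AtPrime p)) (MvPolynomial _ _ ⧸ _),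
      Ideal.Quotient.algebraMap_eq, Ideal.Quotient.lift_mk, MvPolynomial.algebraMap_eq, MvPolynomial.eval₂Hom_C, hg₀]
  choose fc hfc using fun i => IsLocalization.surj (Algebra.algebraMapSubmonoid Q₀ M) (ψ₀ (f i))
  let f₀ : Fin r → Q₀ := fun i => (fc i).1
  -- the elements generate after inverting one element of `M`
  obtain ⟨m, hm, hmf⟩ : ∃ m ∈ M, algebraMap B Q₀ m ∈ Ideal.span (Set.range f₀) := by
    have h1 : (1 : P₀) ∈ (Ideal.span (Set.range f₀)).map (algebraMap Q₀ P₀) := by
      have h2 : (1 : P₀) ∈ (Ideal.span (Set.range f)).map ψ₀ := by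
        rw [hspan, ← map_one ψ₀]; exact Ideal.mem_map_of_mem _ trivial
      refine (Ideal.map_le_iff_le_comap.2 (Ideal.span_le.2 ?_)) h2
      rintro _ ⟨i, rfl⟩
      rw [SetLike.mem_coe, Ideal.mem_comap, ← Ideal.mul_unit_mem_iff_mem _ (IsLocalization.map_units P₀ (fc i).2), hfc i]
      exact Ideal.mem_map_of_mem _ (Ideal.subset_span ⟨i, rfl⟩)
    obtain ⟨_, ⟨m, hm, rfl⟩, h3⟩ := (IsLocalization.algebraMap_mem_map_algebraMap_iff (S := P₀)
      (Algebra.algebraMapSubmonoid Q₀ M) (Ideal.span (Set.range f₀)) 1).1 (by rw [map_one]; exact h1)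
    exact ⟨m, hm, by rwa [mul_one] at h3⟩
  -- spreading out each congruence
  have hsp : ∀ i, ∃ c ∈ M, ∀ (C : Type u) [CommRing C] [Algebra B C] (_ : Localization.Away (f₀ i) →ₐ[B] C),
      IsUnit (algebraMap B C c) → Congr lam h h' C := by
    intro i
    let C₀ := Localization.Away (f₀ i)
    let P := Localization (Algebra.algebraMapSubmonoid C₀ M)
    let χ : Q₀ →+* P := (algebraMap C₀ P).comp (algebraMap Q₀ C₀)
    have hχB : ∀ b : B, χ (algebraMap B Q₀ b) = algebraMap B P b := fun b => by
      show algebraMap C₀ P (algebraMap Q₀ C₀ (algebraMap B Q₀ b)) = _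
      rw [← IsScalarTower.algebraMap_apply B Q₀ C₀, ← IsScalarTower.algebraMap_apply B C₀ P]
    have hχM : ∀ y : Algebra.algebraMapSubmonoid Q₀ M, IsUnit (χ y) := by
      rintro ⟨_, m, hm, rfl⟩
      rw [hχB, IsScalarTower.algebraMap_apply B C₀ P]
      exact IsLocalization.map_units P (⟨_, m, hm, rfl⟩ : Algebra.algebraMapSubmonoid C₀ M)
    let χ₀ : P₀ →+* P := IsLocalization.lift (M := Algebra.algebraMapSubmonoid Q₀ M) (S := P₀) (P := P) (g := χ) hχM
    have hu : IsUnit ((χ₀.comp ψ₀) (f i)) := by
      have h1 := congrArg χ₀ (hfc i)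
      rw [map_mul, IsLocalization.lift_eq, IsLocalization.lift_eq] at h1
      refine isUnit_of_mul_isUnit_left (y := χ (fc i).2) ?_
      rw [RingHom.comp_apply, h1]
      exact (IsLocalization.Away.algebraMap_isUnit (S := C₀) (f₀ i)).map (algebraMap C₀ P)
    let ψ : Localization.Away (f i) →+* P := IsLocalization.Away.lift (f i) hu
    haveI : IsScalarTower B (MvPolynomial (Fin l) (Localization.AtPrime p) ⧸ Ideal.span (Set.range fun k : Fin l =>
        MvPolynomial.X k ^ 2 - MvPolynomial.C (s k : Localization.AtPrime p))) (Localization.Away (f i)) :=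
      OreLocalization.instIsScalarTower
    let ψA : Localization.Away (f i) →ₐ[B] P :=
      { ψ with
        commutes' := fun b => by
          show ψ (algebraMap B (Localization.Away (f i)) b) = _
          rw [IsScalarTower.algebraMap_apply B (MvPolynomial (Fin l) (Localization.AtPrime p) ⧸ Ideal.span (Set.range
              fun k : Fin l => MvPolynomial.X k ^ 2 - MvPolynomial.C (s k : Localization.AtPrime p))) (Localization.Away (f i)),
            IsLocalization.Away.lift_eq, RingHom.comp_apply, hψ₀, IsScalarTower.algebraMap_apply B Q₀ P₀,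
            IsLocalization.lift_eq, hχB] }
    have hC : Congr lam h h' (Localization.Away (f i)) :=
      hv i (Localization.Away (f i))
    exact spread lam M (C₀ := C₀) (P := P) (hC.map lam ψA)
  choose c hc hcC using hsp
  let b : B := (∏ k, a k * d k) * (∏ i, c i) * m
  have hb : b ∈ M := mul_mem (mul_mem (prod_mem fun k _ => mul_mem (ha k) (d k).2) (prod_mem fun i _ => hc i)) hm
  have hub : ∀ x : B, x ∣ b → IsUnit (algebraMap B (Localization.Away b) x) := fun x hx =>
    isUnit_of_dvd_unit (map_dvd _ hx) (IsLocalization.Away.algebraMap_isUnit b)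
  have had' : ∀ k, a k ∣ b ∧ (d k : B) ∣ b := fun k => by
    have : a k * d k ∣ b := Dvd.dvd.mul_right (Dvd.dvd.mul_right (Finset.dvd_prod_of_mem _ (Finset.mem_univ k)) _) _
    exact ⟨(dvd_mul_right _ _).trans this, (dvd_mul_left _ _).trans this⟩
  let sb : Fin l → (Localization.Away b)ˣ := fun k =>
    (hub _ (had' k).1).unit * (hub _ (had' k).2).unit⁻¹
  have hsb : ∀ k, algebraMap B (Localization.Away b) (d k) * (sb k : Localization.Away b) = algebraMap B _ (a k) :=
    fun k => by
      show _ * (algebraMap B (Localization.Away b) (a k) * _) = _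
      rw [mul_left_comm, IsUnit.mul_val_inv, mul_one]
  let Qb := MvPolynomial (Fin l) (Localization.Away b) ⧸ Ideal.span (Set.range fun k : Fin l =>
    MvPolynomial.X k ^ 2 - MvPolynomial.C (sb k : Localization.Away b))
  let ρ : Q₀ →+* Qb := Ideal.Quotient.lift I₀
    (MvPolynomial.aeval (R := B) (S₁ := Qb) fun k => Ideal.Quotient.mk _ (MvPolynomial.X k : MvPolynomial (Fin l) (Localization.Away b))).toRingHom (by
      intro z hz
      rw [← RingHom.mem_ker]
      revert z hz
      rw [← SetLike.le_def, Ideal.span_le]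
      rintro _ ⟨k, rfl⟩
      rw [SetLike.mem_coe, RingHom.mem_ker, AlgHom.toRingHom_eq_coe, RingHom.coe_coe, map_sub, map_mul, map_pow, MvPolynomial.aeval_C, MvPolynomial.aeval_C,
        MvPolynomial.aeval_X, sub_eq_zero, IsScalarTower.algebraMap_apply B (Localization.Away b) Qb,
        IsScalarTower.algebraMap_apply B (Localization.Away b) Qb, ← hsb k, map_mul]
      congr 1
      rw [← map_pow, IsScalarTower.algebraMap_apply (Localization.Away b) (MvPolynomial (Fin l) (Localization.Away b)) Qb,
        Ideal.Quotient.algebraMap_eq, Ideal.Quotient.eq]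
      exact Ideal.subset_span ⟨k, rfl⟩)
  have hρ : ∀ x : B, ρ (algebraMap B Q₀ x) = algebraMap B Qb x := fun x => MvPolynomial.aeval_C _ x
  refine ⟨b, hb, l, sb, r, fun i => ρ (f₀ i), ?_, ?_⟩
  · refine Ideal.eq_top_of_isUnit_mem _ (x := ρ (algebraMap B Q₀ m)) ?_ ?_
    · have := Ideal.mem_map_of_mem ρ hmf
      rw [Ideal.map_span, ← Set.range_comp] at this
      exact this
    · rw [hρ, IsScalarTower.algebraMap_apply B (Localization.Away b) Qb]
      exact (hub _ (dvd_mul_left _ _)).map _
  · intro i C _ _ _ _ _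
    obtain ⟨θ⟩ := exists_hom (R' := Qb) ρ hρ (f₀ i) C
    refine hcC i C θ ?_
    rw [IsScalarTower.algebraMap_apply B Qb C, IsScalarTower.algebraMap_apply B (Localization.Away b) Qb]
    exact ((hub _ (Dvd.dvd.mul_right (Dvd.dvd.mul_left (Finset.dvd_prod_of_mem _ (Finset.mem_univ i)) _) _)).map _).map _

end Groth.Agent.S17364
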