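import Groth.Statements.S17366
import Groth.Agent.S17365
import Groth.Agent.L15.Ref.FreeLocus
import Groth.Agent.L17.Strat.GenBase
import Groth.Agent.L20.RG.FibreFreeFlat
import Groth.Agent.L20.FibreFree
import Groth.Agent.L21.Curve.SmoothDescent
import Groth.Agent.L21.Smooth.Scheme
import Groth.Agent.L07.CIScheme
import Mathlib.RingTheory.Flat.TorsionFree
import Mathlib.AlgebraicGeometry.Fiber

set_option autoImplicit false
set_option linter.style.haveILetI false
set_option backward.isDefEq.respectTransparency.types false
set_option maxSynthPendingDepth 3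
set_option linter.style.haveILetI false
universe u
open CategoryTheory CategoryTheory.Limits AlgebraicGeometry TopologicalSpace
open CInt

namespace Groth.Agent.S17366

/-- Let k be an algebraically closed field, X a smooth proper k-scheme admitting an ample invertible
sheaf, and S a locally Noetherian k-scheme. Let E be a coherent module on S ×_k X, flat over S,
whose restriction to every fibre {s} × X is torsion-free, let F be a finite locally free module on S
×_k X, and let U be the largest open subset of S ×_k X over which E is finite locally free. Then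
every homomorphism E|_U ⟶ F|_U is the restriction of a unique homomorphism E ⟶ F. (The published
statement also asserts the compatibility of this extension with base change along morphisms S' ⟶ S;
that clause is not restated here.) -/
theorem result
    (k : Type u) [Field k] [IsAlgClosed k] (S X : Scheme.{u})
    (b : S ⟶ Spec (CommRingCat.of k)) (a : X ⟶ Spec (CommRingCat.of k))
    [IsLocallyNoetherian S] [Smooth a] [IsProper a]
    (hproj : ∃ H : X.Modules, CohB1.IsAmple H)
    (E F : (pullback b a).Modules) (hEcoh : Coh.IsCoh E)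
    (hEfl : FlatMod.IsFlatOver (pullback.fst b a) E)
    (hEtf : ∀ s : ↥S, TorSh.IsTorsionFree
      ((Scheme.Modules.pullback ((pullback.fst b a).fiberι s)).obj E))
    (hF : FlatMod.IsFinLocFree F)
    (U : (pullback b a).Opens)
    (hU : ∀ x : ↥(pullback b a), x ∈ U ↔
      ∃ (V : (pullback b a).Opens) (n : ℕ), x ∈ V ∧ Nonempty (E.restrict V.ι ≅ FlatMod.freeMod (↑V) n))
    (ψ : E.restrict U.ι ⟶ F.restrict U.ι) :
    ∃! φ : E ⟶ F, (Scheme.Modules.restrictFunctor U.ι).map φ = ψ := by
  haveI : LocallyOfFiniteType (pullback.fst b a) := inferInstance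
  haveI : IsLocallyNoetherian (pullback b a) := LocallyOfFiniteType.isLocallyNoetherian (pullback.fst b a)
  have hFP : CohB1.IsFP E := Groth.L15.Ref.isFP_of_isCoh hEcoh
  haveI : Coh.IsQCoh E := Groth.L17.Strat.isQCoh_of_isFP E hFP
  have hlow : ∀ x, ringKrullDim ↑(CInt.fiberStalk (pullback.fst b a) x) ≤ 1 → x ∈ U := by
    intro x hx
    rw [hU]
    set f := pullback.fst b a with hf
    obtain ⟨s, z, rfl⟩ : ∃ s z, f.fiberι s z = x := ⟨_, _, f.fiberι_asFiber x⟩
    haveI hsm : Smooth (f.fiberToSpecResidueField s) := MorphismProperty.pullback_snd f _ inferInstance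
    haveI := @Groth.L21.Smooth.regular_stalk _ _ _ (f.fiberToSpecResidueField s) hsm z
    let B := (f.fiber s).presheaf.stalk z
    haveI : IsDomain B := Groth.L01.isDomain_of_regular B
    obtain ⟨e₁⟩ := Groth.L07.CIScheme.exists_fiberStalkEquiv f s z _ rfl
    obtain ⟨e₂⟩ := Groth.L07.CIScheme.exists_fiberStalkEquiv f (f (f.fiberι s z)) (f.asFiber _) _
      (f.fiberι_asFiber (f.fiberι s z))
    have hd : ringKrullDim B ≤ 1 := by
      rw [show ringKrullDim B = ringKrullDim ↑(CInt.fiberStalk f (f.fiberι s z)) from
        ringKrullDim_eq_of_ringEquiv (e₁.symm.trans e₂)]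
      exact hx
    haveI : IsPrincipalIdealRing B := (tfae_of_isNoetherianRing_of_isLocalRing_of_isDomain B).out 4 0 |>.mp
      (Groth.L21.SmoothDescent.isPrincipal_of_dim_le_one hd)
    let G := (Scheme.Modules.pullback (f.fiberι s)).obj E
    haveI : Module.IsTorsionFree B (G.presheaf.stalk z) := hEtf s z
    have hflat : FlatMod.IsFlatAt G z :=
      Module.Flat.flat_iff_torsion_eq_bot_of_isBezout.2 (Submodule.isTorsionFree_iff_torsion_eq_bot.1 (hEtf s z))
    exact Groth.L20.FibreFree.exists_free_nhd E hFP _
      (Groth.L20.RG.FibreFree.isFlatAt_of_fibre f E hFP s z (hEfl _) hflat)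
  let Z : TopologicalSpace.Closeds ↥(pullback b a) := ⟨(U : Set ↥(pullback b a))ᶜ, U.2.isClosed_compl⟩
  have hZU : (Z.compl : (pullback b a).Opens) = U := by
    ext x; exact not_not
  have hunit : IsIso ((Scheme.Modules.restrictAdjunction U.ι).unit.app F) := by
    have h := Groth.Agent.S17365.result k S X b a hproj F hF Z fun x hx => by
      have h1 : ¬ ringKrullDim ↑(CInt.fiberStalk (pullback.fst b a) x) ≤ 1 := fun h => hx (hlow x h)
      revert h1
      generalize ringKrullDim ↑(CInt.fiberStalk (pullback.fst b a) x) = d
      intro h1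
      cases d with
      | bot => exact absurd bot_le h1
      | coe d =>
        have h2 : (1 : ℕ∞) < d := WithBot.coe_lt_coe.1 (not_le.1 h1)
        exact WithBot.coe_le_coe.2 (Order.add_one_le_of_lt h2)
    rwa [hZU] at h
  let adj := Scheme.Modules.restrictAdjunction U.ι
  refine ⟨adj.homEquiv E (F.restrict U.ι) ψ ≫ inv (adj.unit.app F), ?_, fun φ hφ => ?_⟩
  · apply (adj.homEquiv E (F.restrict U.ι)).injective
    rw [Adjunction.homEquiv_unit, adj.unit_naturality]
    simp
  · rw [IsIso.eq_comp_inv]
    rw [← hφ, Adjunction.homEquiv_unit]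
    exact (adj.unit_naturality φ).symm

end Groth.Agent.S17366
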