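import Groth.Statements.S17369
import Groth.Agent.L12.FunBasic


set_option autoImplicit false
universe u v
open CategoryTheory ArtFun ArtFun.Art
open ArtFun

namespace Groth.Agent.S17369

/-- Transitivity of the tangent action on lifts, for functors and a small extension. Let k be an
algebraically closed field and F a set-valued functor on local Artinian k-algebras with residue
field k such that F(k) is a single point and Schlessinger's condition (H₂) holds (the comparison map
of every square A' ×_k k[ε] is bijective). Let p : B → A be a small extension (surjective, kernel
the nonzero principal ideal (t), killed by the maximal ideal), P with projections p₁, p₂ a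
realisation of the fibre product B ×_A B, and g : P → k[ε] the morphism determined by snd(g z)·t =
p₂ z - p₁ z, so that (p₁, g) also realises P as B ×_k k[ε]. For x in F(A) and a lift y of x to F(B),
the tangent space F(k[ε]) acts on lifts by sending θ to the image under F(p₂) of the element of F(P)
with components (y, θ). If moreover (H₁) holds (the comparison map of every fibre-product square
along a small extension is surjective), then for any second lift y' of x there is a θ carried to y':
the action is transitive. (The published statement is for prestacks in groupoids and any square-zero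
kernel I, with the group T ⊗ I; this row is the set-valued case for a small extension with kernel
(t), where the group is the tangent space itself.) -/
theorem result (k : Type u) [Field k] [IsAlgClosed k]
    (F : Art k k ⥤ Type v) (h0 : H0 F) (h2 : Heps F) (h1 : Hbar F)
    {B A P : Art k k} (p : B ⟶ A) (hp : IsSmallExt p) (t : B)
    (ht : RingHom.ker p.toAlgHom = Ideal.span {t})
    (p₁ p₂ : P ⟶ B) (hP : IsFibreProd p₁ p₂ p p)
    (g : P ⟶ dual k k) (hg : ∀ z : P, (TrivSqZeroExt.snd (g z) : k) • t = p₂ z - p₁ z)
    (h' : IsFibreProd p₁ g (toBase B) (toBase (dual k k)))
    (x : F.obj A) (y : F.obj B) (hy : F.map p y = x) (y' : F.obj B) (hy' : F.map p y' = x) :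
    ∃ θ : F.obj (dual k k),
      F.map p₂ ((Equiv.ofBijective (cmp F h') (h2 p₁ g h')).symm
        ⟨(y, θ), @Subsingleton.elim _ h0.2 _ _⟩) = y' := by
  obtain ⟨z, hz₁, hz₂⟩ := (Groth.L12.cmp_surj_iff F hP).1 (h1 _ _ _ _ hP hp) y y' (hy.trans hy'.symm)
  refine ⟨F.map g z, (congrArg (fun w => F.map p₂ w) ((Equiv.symm_apply_eq _).2 ?_)).trans hz₂⟩
  exact FibProd.ext hz₁.symm rfl
end Groth.Agent.S17369
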