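import Groth.Statements.S1737
import Groth.Prelude.Def_CAlg
import Groth.Agent.L01.DepthBasic
import Mathlib.RingTheory.Ideal.AssociatedPrime.Localization
import Mathlib.RingTheory.Ideal.AssociatedPrime.Finiteness
import Mathlib.RingTheory.Regular.IsSMulRegular
import Mathlib.Algebra.Module.LocalizedModule.AtPrime
import Mathlib.RingTheory.Spectrum.Prime.Topology

set_option autoImplicit false
universe u
open LocCoh

namespace Groth.Agent.S1737

variable {_unused : Unit}

/-- The sections of `M` supported in `T`. -/
def gam {A : Type u} [CommRing A] (T : Set (PrimeSpectrum A)) (M : Type u) [AddCommGroup M] [Module A M] : Submodule A M where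
  carrier := {m | ∀ p ∉ T, ∃ s ∉ p.asIdeal, s • m = 0}
  zero_mem' := fun p _ => ⟨1, p.asIdeal.ne_top_iff_one.mp p.isPrime.ne_top, smul_zero _⟩
  add_mem' := fun {a b} ha hb p hp => by
    obtain ⟨s, hs, h1⟩ := ha p hp
    obtain ⟨t, ht, h2⟩ := hb p hp
    exact ⟨s * t, fun h => (p.isPrime.mem_or_mem h).elim hs ht, by rw [smul_add, mul_smul, mul_smul, h2, smul_zero, smul_comm, h1, smul_zero, add_zero]⟩
  smul_mem' := fun c a ha p hp => by
    obtain ⟨s, hs, h1⟩ := ha p hp
    exact ⟨s, hs, by rw [smul_comm, h1, smul_zero]⟩

open LocCoh in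

/-- Let A be a Noetherian ring, T ⊆ Spec A stable under specialization and M a finite A-module. There
are a finite A-module M' and a surjection M → M' which is bijective after localizing at every prime
outside T and such that M'_p has depth ≥ 1 over A_p for every p in T. (The source states this for
coherent modules on a Noetherian scheme, with uniqueness.) -/
theorem result (A : Type u) [CommRing A] [IsNoetherianRing A] (T : Set (PrimeSpectrum A)) (hT : StableUnderSpecialization T) (M : Type u) [AddCommGroup M] [Module A M] [Module.Finite A M] : ∃ (M' : Type u) (_ : AddCommGroup M') (_ : Module A M') (_ : Module.Finite A M') (f : M →ₗ[A] M'), Function.Surjective f ∧ (∀ p : PrimeSpectrum A, p ∉ T → Function.Bijective (LocalizedModule.map p.asIdeal.primeCompl f)) ∧ ∀ p : PrimeSpectrum A, p ∈ T → 1 ≤ LocCoh.depth (Localization.AtPrime p.asIdeal) (LocalizedModule p.asIdeal.primeCompl M') := by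
  classical
  refine ⟨M ⧸ gam T M, inferInstance, inferInstance, inferInstance, (gam T M).mkQ, Submodule.mkQ_surjective _, ?_, ?_⟩
  · intro p hp
    refine ⟨?_, LocalizedModule.map_surjective _ _ (Submodule.mkQ_surjective _)⟩
    rw [injective_iff_map_eq_zero]
    intro x hx
    induction x using LocalizedModule.induction_on with
    | _ m s =>
      rw [LocalizedModule.map_mk, ← LocalizedModule.zero_mk (S := p.asIdeal.primeCompl) 1, LocalizedModule.mk_eq] at hx
      obtain ⟨⟨t, ht⟩, h⟩ := hx
      simp only [Submonoid.mk_smul, one_smul, smul_zero] at h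
      rw [← map_smul, Submodule.mkQ_apply, Submodule.Quotient.mk_eq_zero] at h
      obtain ⟨u, hu, h'⟩ := h p hp
      rw [← LocalizedModule.zero_mk (S := p.asIdeal.primeCompl) 1, LocalizedModule.mk_eq]
      exact ⟨⟨u * t, fun hh => (p.isPrime.mem_or_mem hh).elim hu ht⟩, by
        simp only [Submonoid.smul_def, Submonoid.coe_one, one_smul, smul_zero]; rw [mul_smul]; exact h'⟩
  · intro p hp
    have hnot : p.asIdeal ∉ associatedPrimes A (M ⧸ gam T M) := by
      intro hass
      obtain ⟨-, m, hm⟩ := isAssociatedPrime_iff.mp hass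
      obtain ⟨m, rfl⟩ := Submodule.mkQ_surjective _ m
      have hmem : m ∈ gam T M := by
        intro q hq
        obtain ⟨a, hap, haq⟩ : ∃ a ∈ p.asIdeal, a ∉ q.asIdeal := by
          by_contra hc
          push Not at hc
          exact hq (hT ((PrimeSpectrum.le_iff_specializes p q).mp hc) hp)
        rw [hm, Submodule.mem_colon_singleton, Submodule.mem_bot, ← map_smul, Submodule.mkQ_apply, Submodule.Quotient.mk_eq_zero] at hap
        obtain ⟨s, hs, h⟩ := hap q hq
        exact ⟨s * a, fun hh => (q.isPrime.mem_or_mem hh).elim hs haq, by rw [mul_smul]; exact h⟩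
      have h1 : (1 : A) ∈ p.asIdeal := by
        rw [hm, Submodule.mem_colon_singleton, Submodule.mem_bot, one_smul, Submodule.mkQ_apply, Submodule.Quotient.mk_eq_zero]
        exact hmem
      exact p.asIdeal.ne_top_iff_one.mp p.isPrime.ne_top h1
    by_contra hd
    haveI : IsNoetherianRing (Localization.AtPrime p.asIdeal) := IsLocalization.isNoetherianRing p.asIdeal.primeCompl _ inferInstance
    set L := LocalizedModule p.asIdeal.primeCompl (M ⧸ gam T M)
    haveI : Module.Finite (Localization.AtPrime p.asIdeal) L :=
      Module.Finite.of_isLocalizedModule p.asIdeal.primeCompl (LocalizedModule.mkLinearMap p.asIdeal.primeCompl (M ⧸ gam T M))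
    have hfin := associatedPrimes.finite (Localization.AtPrime p.asIdeal) L
    have hsub : (IsLocalRing.maximalIdeal (Localization.AtPrime p.asIdeal) : Set (Localization.AtPrime p.asIdeal)) ⊆
        ⋃ q ∈ hfin.toFinset, (q : Set (Localization.AtPrime p.asIdeal)) := by
      intro x hx
      by_contra hc
      refine hd (Groth.L01.one_le_depth hx ?_)
      by_contra hr
      have : x ∈ ⋃ q ∈ associatedPrimes (Localization.AtPrime p.asIdeal) L, (q : Set (Localization.AtPrime p.asIdeal)) := by
        rw [biUnion_associatedPrimes_eq_compl_regular]; exact hr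
      exact hc (by simpa using this)
    obtain ⟨q, hq, hle⟩ := (Ideal.subset_union_prime (R := Localization.AtPrime p.asIdeal) (f := id) ⊥ ⊥
      (fun i hi _ _ => ((Set.Finite.mem_toFinset hfin).mp hi).1)).mp hsub
    have hq' := (Set.Finite.mem_toFinset hfin).mp hq
    obtain rfl : IsLocalRing.maximalIdeal _ = q :=
      (IsLocalRing.maximalIdeal.isMaximal _).eq_of_le hq'.1.ne_top hle
    have h := (Module.associatedPrimes.preimage_comap_associatedPrimes_eq_associatedPrimes_of_isLocalizedModule p.asIdeal.primeCompl
      (Localization.AtPrime p.asIdeal) (LocalizedModule.mkLinearMap p.asIdeal.primeCompl (M ⧸ gam T M))).ge hq'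
    rw [Set.mem_preimage] at h
    rw [← Ideal.under_def, IsLocalization.AtPrime.under_maximalIdeal (Localization.AtPrime p.asIdeal) p.asIdeal] at h
    exact hnot h

end Groth.Agent.S1737
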