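import Groth.Prelude.Def_Coh
import Groth.Prelude.Def_Pic
import Groth.Prelude.Def_CohB1
import Groth.Prelude.Def_Pic13
import Mathlib.AlgebraicGeometry.Morphisms.Proper
import Mathlib.LinearAlgebra.Dimension.Finrank
import Mathlib.AlgebraicGeometry.Geometrically.Integral
import Groth.Agent.L02.NTVanish.Vol

set_option autoImplicit false
set_option linter.style.haveILetI false
namespace Variety
end Variety
universe u
open CategoryTheory CategoryTheory.Limits AlgebraicGeometry
open Variety

namespace Groth.Agent.S17373

/-- Let X be a geometrically integral scheme proper over a field k and L an ample invertible module on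
X. Then there is an integer m₀ such that for all m ≥ m₀ and every numerically trivial invertible
module N (degree zero on every integral closed one-dimensional subscheme), H^0(X, L^m ⊗ N) has the
same k-dimension as H^0(X, L^m), and that dimension is positive. (The published statement is for a
big divisor D and asserts that every invertible module numerically equivalent to O(mD) comes from an
effective divisor for m large; its argument reduces to ample D and establishes exactly the equality
of dimensions stated here.) -/
theorem result (k : Type u) [Field k] (X : Scheme.{u})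
    [X.Over (Spec (CommRingCat.of k))] [IsIntegral X] [GeometricallyIntegral (X ↘ Spec (CommRingCat.of k))]
    [IsProper (X ↘ Spec (CommRingCat.of k))]
    (L : X.Modules) (hL : CohB1.IsAmple L) :
    ∃ m₀ : ℕ, ∀ m : ℕ, m₀ ≤ m → ∀ N : X.Modules, PicF.IsInvertible N → Pic13.IsNumEquivZero k X N →
      Module.finrank k (Coh.HH X (CohB1.tensorMod (CohB1.tensorPow L m) N) 0) =
          Module.finrank k (Coh.HH X (CohB1.tensorPow L m) 0) ∧
        0 < Module.finrank k (Coh.HH X (CohB1.tensorPow L m) 0) := by
  obtain ⟨m₀, h₀⟩ := Groth.L02.NTVanish.exists_h0_eq k hL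
  obtain ⟨e, he⟩ := Groth.L02.NTVanish.exists_pow_section k hL
  refine ⟨max m₀ e, fun m hm N hN h0N => ?_⟩
  obtain ⟨s, hs⟩ := he m (le_of_max_le_right hm)
  have h1 := h₀ m (le_of_max_le_left hm) N hN h0N
  have h2 := Groth.L02.NTVanish.h0_pos_of_section k (Groth.L18.Ample.isInvertible_tensorPow hL.1 m) hs
  rw [Groth.L22.Big.h0_def, Groth.L22.Big.h0_def] at h1
  rw [Groth.L22.Big.h0_def] at h2
  exact ⟨h1, h2⟩

end Groth.Agent.S17373
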