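import Groth.Prelude.Def_Coh
import Groth.Prelude.Def_Pic
import Groth.Prelude.Def_CohB1
import Groth.Prelude.Def_Pic13
import Mathlib.AlgebraicGeometry.Morphisms.Proper
import Mathlib.LinearAlgebra.Dimension.Finrank
import Mathlib.Topology.KrullDimension
import Mathlib.Order.LiminfLimsup
import Mathlib.Data.ENNReal.Basic
import Mathlib.Topology.Instances.ENNReal.Lemmas
import Mathlib.AlgebraicGeometry.Geometrically.Integral
import Groth.Agent.L02.NTVanish.Vol

set_option autoImplicit false
set_option linter.style.haveILetI false
namespace ENNReal
end ENNReal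
namespace Variety
end Variety
universe u
open CategoryTheory CategoryTheory.Limits AlgebraicGeometry
open scoped ENNReal
open Variety

namespace Groth.Agent.S17374

/-- Let X be a geometrically integral scheme of dimension d, proper over a field k and admitting an
ample invertible module, and let L, N be invertible modules on X with N numerically trivial (degree
zero on every integral closed one-dimensional subscheme). Then the upper limits of dim_k H^0(X, (L ⊗
N)^m) / m^d and of dim_k H^0(X, L^m) / m^d as m → ∞, taken in the extended non-negative reals,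
agree; that is, the volume of an invertible module depends only on its numerical equivalence class. -/
theorem result (k : Type u) [Field k] (X : Scheme.{u})
    [X.Over (Spec (CommRingCat.of k))] [IsIntegral X] [GeometricallyIntegral (X ↘ Spec (CommRingCat.of k))]
    [IsProper (X ↘ Spec (CommRingCat.of k))]
    (hproj : ∃ A : X.Modules, CohB1.IsAmple A) (d : ℕ) (hd : topologicalKrullDim X = d)
    (L N : X.Modules) (hL : PicF.IsInvertible L) (hN : PicF.IsInvertible N) (hNum : Pic13.IsNumEquivZero k X N) :
    Filter.limsup (fun m : ℕ => (Module.finrank k (Coh.HH X (CohB1.tensorPow (CohB1.tensorMod L N) m) 0) : ℝ≥0∞) /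
        (m : ℝ≥0∞) ^ d) Filter.atTop =
      Filter.limsup (fun m : ℕ => (Module.finrank k (Coh.HH X (CohB1.tensorPow L m) 0) : ℝ≥0∞) /
        (m : ℝ≥0∞) ^ d) Filter.atTop := by
  obtain ⟨H, hH⟩ := hproj
  have h := Groth.L02.NTVanish.vol_eq_of_numTriv k hH hL (N := N) ⟨hN, hNum⟩ hd
  simp only [Groth.L22.Big.vol, Groth.L22.Big.h0_def] at h
  exact h

end Groth.Agent.S17374
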