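import Groth.Statements.S17375
import Groth.Agent.L03.Growth.GenFinite
import Groth.Agent.L03.ShStab.QuadricCoh

set_option autoImplicit false
set_option linter.style.haveILetI false
set_option backward.isDefEq.respectTransparency false
set_option backward.isDefEq.respectTransparency.types false
universe u
open CategoryTheory CategoryTheory.Limits AlgebraicGeometry Asymptotics
open Variety
open Groth.L11.Asymp (hd_def hd_iso)

namespace Groth.Agent.S17375

/-- Let X and Y be geometrically integral schemes proper over a field k, each admitting an ample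
invertible module, with X of dimension d, and let f : Y → X be a k-morphism which is dominant and
generically finite of degree n ≥ 1: f maps the generic point of Y to the generic point of X and the
induced extension of function fields has finite degree n. Then for every invertible module L on X
the difference dim_k H^0(Y, (f^*L)^m) − n · dim_k H^0(X, L^m) is O(m^(d−1)) as m → ∞ (so the volume
of f^*L is n times that of L). -/
theorem result (k : Type u) [Field k] (X Y : Scheme.{u})
    [X.Over (Spec (CommRingCat.of k))] [Y.Over (Spec (CommRingCat.of k))] [IsIntegral X] [IsIntegral Y]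
    [GeometricallyIntegral (X ↘ Spec (CommRingCat.of k))] [GeometricallyIntegral (Y ↘ Spec (CommRingCat.of k))]
    [IsProper (X ↘ Spec (CommRingCat.of k))] [IsProper (Y ↘ Spec (CommRingCat.of k))]
    (hXproj : ∃ A : X.Modules, CohB1.IsAmple A) (hYproj : ∃ B : Y.Modules, CohB1.IsAmple B)
    (d : ℕ) (hd : topologicalKrullDim X = d)
    (f : Y ⟶ X) (hf : f ≫ (X ↘ Spec (CommRingCat.of k)) = Y ↘ Spec (CommRingCat.of k))
    (hdom : f.base (genericPoint Y) = genericPoint X) (n : ℕ) (hn : f.residueDegree (genericPoint Y) = n) (hn0 : 0 < n)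
    (L : X.Modules) (hL : PicF.IsInvertible L) :
    (fun m : ℕ => (Module.finrank k (Coh.HH Y (CohB1.tensorPow ((Scheme.Modules.pullback f).obj L) m) 0) : ℝ) -
        n * Module.finrank k (Coh.HH X (CohB1.tensorPow L m) 0)) =O[Filter.atTop]
      (fun m : ℕ => (m : ℝ) ^ (d - 1)) := by
  haveI := Groth.L21.RR.isNoetherian_of_proper (X := X) k
  haveI : IsProper (f ≫ (X ↘ Spec (CommRingCat.of k))) := by rw [hf]; infer_instance
  haveI : IsProper f := IsProper.of_comp f (X ↘ Spec (CommRingCat.of k))
  obtain ⟨A, hA⟩ := hXproj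
  have hOY := Groth.L18.Ample.isInvertible_structureModule Y
  let F := (Scheme.Modules.pushforward f).obj (Coh.structureModule Y)
  haveI := (Groth.L18.Ample.isCoh_of_isInvertible hOY).1
  have hFc : Coh.IsCoh F := Groth.L16.Exist.isCoh_pushforward f (Groth.L18.Ample.isCoh_of_isInvertible hOY)
  let D : X.Modules := ∐ fun _ : Fin n => Coh.structureModule X
  have hO : Coh.IsCoh (Coh.structureModule X) := Groth.L16.CohClosedPush.isCoh_structure
  have hD : Coh.IsCoh D := Groth.L16.Devissage.isCoh_sigma _ fun _ => hO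
  have hdeq : Groth.L17.GenericTrivPush.dim F = Groth.L17.GenericTrivPush.dim D := by
    rw [Groth.L03.Growth.dim_push f hdom (by omega) hOY, hn]
    exact ((Groth.L17.GenericTrivPush.dim_sigma (r := n) (Coh.structureModule X) hO).trans
      (by rw [Groth.L17.GenericTrivFree.dim_unit, mul_one])).symm
  obtain ⟨C, hC⟩ := Groth.L03.Growth.exists_bound_of_dim k hA hL hd.le hFc hD hdeq 0
  have hY : ∀ m, Module.finrank k (Coh.HH Y (CohB1.tensorPow ((Scheme.Modules.pullback f).obj L) m) 0) =
      Groth.L11.Asymp.hd k 0 (CohB1.tensorMod F (CohB1.tensorPow L m)) := fun m => by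
    obtain ⟨π⟩ := Groth.L05.EulerDiv.nonempty_pullback_tensorPow f L m
    rw [Groth.L03.Growth.hd_zero_push k f hf (Groth.L18.Ample.isInvertible_tensorPow hL m), ← hd_def]
    exact hd_iso k (π.symm ≪≫ (Groth.L00.Tensor.tensorUnitLeft _).symm) 0
  have hX : ∀ m, Groth.L11.Asymp.hd k 0 (CohB1.tensorMod D (CohB1.tensorPow L m)) =
      n * Module.finrank k (Coh.HH X (CohB1.tensorPow L m) 0) := fun m => by
    have hP := Groth.L18.Ample.isInvertible_tensorPow hL m
    let T := Groth.L00.Tensor.tensorRightF (CohB1.tensorPow L m)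
    haveI : PreservesColimitsOfSize.{u, u} T := Groth.L00.Tensor.preservesColimits_tensorRightF _
    haveI : PreservesColimitsOfSize.{0, 0} T := preservesColimitsOfSize_shrink.{0, u, 0, u} _
    let M : Fin n → X.Modules := fun _ => CohB1.tensorMod (Coh.structureModule X) (CohB1.tensorPow L m)
    have hfin : ∀ j, Module.Finite k (Coh.HH X (M j) 0) := fun _ =>
      Groth.L16.ProperFinite.finite_HH k (Groth.L03.Euler.isCoh_tensor hP hO) 0
    rw [hd_iso k (show CohB1.tensorMod D (CohB1.tensorPow L m) ≅ ∐ M from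
      PreservesCoproduct.iso T fun _ : Fin n => Coh.structureModule X) 0, hd_def,
      @Groth.L03.ShStab.QuadricCoh.finrank_sigma X k _ _ n M 0 hfin]
    simp only [← hd_def, M, hd_iso k (Groth.L00.Tensor.tensorUnitLeft (CohB1.tensorPow L m)) 0]
    rw [Finset.sum_const, Finset.card_fin, smul_eq_mul]
  refine Asymptotics.IsBigO.of_bound ((C : ℝ) * 2 ^ (d - 1)) ?_
  filter_upwards [Filter.eventually_ge_atTop 1] with m hm
  obtain ⟨h1, h2⟩ := hC m
  rw [← hY, hX] at h1 h2
  have h1' := (Nat.cast_le (α := ℝ)).2 h1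
  have h2' := (Nat.cast_le (α := ℝ)).2 h2
  push_cast at h1' h2'
  have hm1 : (1 : ℝ) ≤ m := by exact_mod_cast hm
  have h3 : ((m : ℝ) + 1) ^ (d - 1) ≤ 2 ^ (d - 1) * (m : ℝ) ^ (d - 1) := by
    rw [← mul_pow]
    exact pow_le_pow_left₀ (by positivity) (by linarith) _
  have h4 : (C : ℝ) * ((m : ℝ) + 1) ^ (d - 1) ≤ C * 2 ^ (d - 1) * (m : ℝ) ^ (d - 1) := by
    rw [mul_assoc]; exact mul_le_mul_of_nonneg_left h3 (Nat.cast_nonneg _)
  rw [Real.norm_eq_abs, Real.norm_eq_abs, abs_of_nonneg (by positivity : (0 : ℝ) ≤ (m : ℝ) ^ (d - 1)), abs_le]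
  constructor <;> linarith

end Groth.Agent.S17375
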