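import Groth.Statements.S1738
import Groth.Agent.L04.LC.AnnihDuality
import Groth.Agent.L04.LC.SupportsLocal
import Groth.Agent.L04.LC.CompletionDim
import Groth.Agent.L04.Depth2
import Groth.Agent.L04.Essential

set_option autoImplicit false
universe u
open CategoryTheory
attribute [local instance] HasDerivedCategory.standard
open LocCoh

namespace Groth.Agent.S1738

open Groth.L04.HTsupp Groth.L04.HTlocal Groth.L04.LC in
open scoped Pointwise in

/-- Let A be a Noetherian ring with a dualizing complex, T' ⊆ Spec A stable under specialization, and M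
a finite A-module such that depth(M_p) ≥ 1 whenever q covers p in Spec A with q in T' and p outside
T'. Then there are a finite A-module M'' and a map M → M'' which is bijective after localizing at
every prime outside T' and such that M''_p has depth ≥ 2 for every p in T'. (The source: coherent
modules on a Noetherian scheme locally having a dualizing complex, with uniqueness and a pullback
clause.) -/
theorem result (A : Type u) [CommRing A] [IsNoetherianRing A] (hA : ∃ ω : Dual.D A, Dual.IsDualizing A ω) (T' : Set (PrimeSpectrum A)) (hT : StableUnderSpecialization T') (M : Type u) [AddCommGroup M] [Module A M] [Module.Finite A M] (hM : ∀ p q : PrimeSpectrum A, p ⋖ q → q ∈ T' → p ∉ T' → 1 ≤ LocCoh.depth (Localization.AtPrime p.asIdeal) (LocalizedModule p.asIdeal.primeCompl M)) : ∃ (M'' : Type u) (_ : AddCommGroup M'') (_ : Module A M'') (_ : Module.Finite A M'') (f : M →ₗ[A] M''), (∀ p : PrimeSpectrum A, p ∉ T' → Function.Bijective (LocalizedModule.map p.asIdeal.primeCompl f)) ∧ ∀ p : PrimeSpectrum A, p ∈ T' → 2 ≤ LocCoh.depth (Localization.AtPrime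 p.asIdeal) (LocalizedModule p.asIdeal.primeCompl M'') := by

    obtain ⟨ω, hω⟩ := hA
    -- primes in `T'` give ideals of the family
    let KT : ∀ p ∈ T', Dual2.IdealsIn T' := fun p hp => ⟨p.asIdeal, fun q hq =>
      hT ((PrimeSpectrum.le_iff_specializes p q).1 ((PrimeSpectrum.mem_zeroLocus _ _).1 hq)) hp⟩
    have hout : ∀ (K : Dual2.IdealsIn T') (p : PrimeSpectrum A), p ∉ T' → ∃ s ∈ K.obj, s ∉ p.asIdeal := fun K p hp =>
      Set.not_subset.1 fun h => hp (K.property h)
    -- criterion for bijectivity of localized maps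
    have hbij : ∀ {P : Type u} [AddCommGroup P] [Module A P] (f : M →ₗ[A] P) (p : PrimeSpectrum A),
        (∀ m, f m = 0 → ∃ s : A, s ∉ p.asIdeal ∧ s • m = 0) →
        (∀ y, ∃ s : A, s ∉ p.asIdeal ∧ ∃ m, f m = s • y) →
        Function.Bijective (LocalizedModule.map p.asIdeal.primeCompl f) := by
      intro P _ _ f p hi hs
      constructor
      · rw [injective_iff_map_eq_zero]
        intro x hx
        induction x using LocalizedModule.induction_on with
        | _ m t =>
          rw [LocalizedModule.map_mk, ← LocalizedModule.zero_mk (S := p.asIdeal.primeCompl) 1, LocalizedModule.mk_eq] at hx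
          obtain ⟨⟨v, hv⟩, h⟩ := hx
          simp only [Submonoid.mk_smul, one_smul, smul_zero] at h
          obtain ⟨w, hw, h'⟩ := hi (v • m) (by rw [map_smul]; exact h)
          rw [← LocalizedModule.zero_mk (S := p.asIdeal.primeCompl) 1, LocalizedModule.mk_eq]
          exact ⟨⟨w * v, fun hh => (p.isPrime.mem_or_mem hh).elim hw hv⟩, by
            simp only [Submonoid.smul_def, Submonoid.coe_one, one_smul, smul_zero]; rw [mul_smul]; exact h'⟩
      · intro x
        induction x using LocalizedModule.induction_on with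
        | _ y t =>
          obtain ⟨s, hs', m, hm⟩ := hs y
          refine ⟨LocalizedModule.mk m (⟨s, hs'⟩ * t), ?_⟩
          rw [LocalizedModule.map_mk, hm]
          exact LocalizedModule.mk_cancel_common_left (⟨s, hs'⟩ : p.asIdeal.primeCompl) t y
    let N := M ⧸ torsT T' M
    have hN0 : torsT T' N = ⊥ := torsT_quotient T' M
    have hMN : ∀ p ∉ T', Function.Bijective (LocalizedModule.map p.asIdeal.primeCompl (torsT T' M).mkQ) := fun p hp =>
      hbij _ p (fun m hm => by
        obtain ⟨K, hK⟩ := (Submodule.Quotient.mk_eq_zero _).1 hm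
        obtain ⟨s, hs, hsp⟩ := hout K p hp
        exact ⟨s, hsp, hK s hs⟩) (fun y => by
        obtain ⟨m, rfl⟩ := Submodule.mkQ_surjective _ y
        exact ⟨1, p.asIdeal.ne_top_iff_one.1 p.isPrime.ne_top, m, by rw [one_smul]⟩)
    -- an ideal killing `HT¹`
    obtain ⟨J, hJT, hJ⟩ := (Groth.L04.AnnihDual.annihilator_iff hω T' T' hT hT 1 N).2 (by
      intro p q hp hq hpq
      have hlt : p < q := lt_of_le_of_ne hpq fun h => hp (h ▸ hq)
      let a : Set.Icc p q := ⟨p, le_rfl, hpq⟩
      let b : Set.Icc p q := ⟨q, hpq, le_rfl⟩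
      by_cases hc : p ⋖ q
      · have h1 : (1 : WithBot ℕ∞) ≤ ((LocCoh.depth (Localization.AtPrime p.asIdeal)
            (LocalizedModule p.asIdeal.primeCompl N) : ℕ∞) : WithBot ℕ∞) := by
          rw [← Groth.L04.CplDim.depth_congr (LinearEquiv.ofBijective _ (hMN p hp))]
          exact WithBot.coe_le_coe.2 (hM p q hc hq hp)
        have h2 : (1 : WithBot ℕ∞) ≤ Order.krullDim (Set.Icc p q) :=
          (Order.LTSeries.length_le_krullDim (RelSeries.fromListIsChain [a, b] (by simp) (by
            exact List.isChain_pair.mpr (show a < b from hlt))) :)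
        exact lt_of_lt_of_le (show ((1 : ℕ) : WithBot ℕ∞) < 1 + 1 by decide) (add_le_add h1 h2)
      · obtain ⟨r, hr1, hr2⟩ := exists_lt_lt_of_not_covBy hlt hc
        let c : Set.Icc p q := ⟨r, hr1.le, hr2.le⟩
        have h2 : (2 : WithBot ℕ∞) ≤ Order.krullDim (Set.Icc p q) :=
          (Order.LTSeries.length_le_krullDim (RelSeries.fromListIsChain [a, c, b] (by simp) (by
            simp only [List.isChain_cons, List.head?_cons, List.head?_nil, Option.mem_def, Option.some.injEq,
              forall_eq', List.isChain_nil, and_true, reduceCtorEq, false_implies, implies_true]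
            exact ⟨hr1, hr2⟩)) :)
        exact lt_of_lt_of_le (show ((1 : ℕ) : WithBot ℕ∞) < 0 + 2 by decide)
          (add_le_add (WithBot.coe_le_coe.2 (zero_le : (0 : ℕ∞) ≤ _)) h2))
    obtain ⟨E, _, _, i, hi⟩ := Groth.L04.exists_injectiveHull (R := A) N
    have hE0 : torsT T' E = ⊥ := torsT_eq_bot_of_essential T' hi.toIsEssentialInj hN0
    let π := (LinearMap.range i).mkQ
    let P : Submodule A E := (torsT T' (E ⧸ LinearMap.range i)).comap π
    have hS := Groth.L04.LC.ses_shortExact i π hi.injective (Submodule.mkQ_surjective _) (LinearMap.exact_map_mkQ_range i)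
    have hkill : ∀ r ∈ J, ∀ x : Dual2.HT T' 0 (E ⧸ LinearMap.range i), r • x = 0 := by
      intro r hr x
      haveI := subsingleton_HT_zero T' hE0
      have hinj : Function.Injective (δ A (XT T') hS 0) := (injective_iff_map_eq_zero _).2 fun z hz => by
        obtain ⟨y, rfl⟩ := (exact₃ A (XT T') hS 0 z).1 hz
        exact (congrArg _ (Subsingleton.elim (α := Dual2.HT T' 0 E) y 0)).trans (map_zero _)
      apply hinj
      refine ((δ A (XT T') hS 0).map_smul r x).trans ?_
      refine Eq.trans ?_ (δ A (XT T') hS 0).map_zero.symm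
      exact hJ 1 le_rfl r hr _
    have hJP : ∀ r ∈ J, ∀ x : P, r • (x : E) ∈ LinearMap.range i := fun r hr x => by
      have h := smul_torsT_eq_zero T' (hkill r hr) x.2
      rw [← map_smul] at h
      exact (Submodule.Quotient.mk_eq_zero _).1 h
    let e := LinearEquiv.ofInjective i hi.injective
    let Φ : P →ₗ[A] (J →ₗ[A] N) :=
      { toFun := fun x =>
          { toFun := fun r => e.symm ⟨(r : A) • (x : E), hJP r r.2 x⟩
            map_add' := fun r s => by rw [← map_add]; exact congrArg e.symm (Subtype.ext (add_smul _ _ _))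
            map_smul' := fun c r => by
              rw [RingHom.id_apply, ← map_smul]
              exact congrArg e.symm (Subtype.ext (mul_smul c (r : A) (x : E))) }
        map_add' := fun x y => LinearMap.ext fun r => by
          show e.symm _ = e.symm _ + e.symm _
          rw [← map_add]
          exact congrArg e.symm (Subtype.ext (smul_add _ _ _))
        map_smul' := fun c x => LinearMap.ext fun r => by
          show e.symm _ = c • e.symm _
          rw [← map_smul]
          exact congrArg e.symm (Subtype.ext (smul_comm _ _ _)) }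
    haveI : Module.Finite A P := Module.Finite.of_injective Φ ((injective_iff_map_eq_zero Φ).2 fun x hx =>
      Subtype.ext ((Submodule.mem_bot A).1 (hE0 ▸ (⟨⟨J, hJT⟩, fun r hr => by
        have h : e.symm ⟨r • (x : E), hJP r hr x⟩ = 0 := LinearMap.congr_fun hx ⟨r, hr⟩
        rw [LinearEquiv.map_eq_zero_iff] at h
        exact congrArg Subtype.val h⟩ : (x : E) ∈ torsT T' E))))
    have hiP : LinearMap.range i ≤ P := fun y hy => by
      show π y ∈ torsT T' _
      rw [Submodule.mkQ_apply, (Submodule.Quotient.mk_eq_zero _).2 hy]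
      exact zero_mem _
    let f : M →ₗ[A] P := (i.codRestrict P fun m => hiP ⟨m, rfl⟩) ∘ₗ (torsT T' M).mkQ
    refine ⟨P, inferInstance, inferInstance, inferInstance, f, fun p hp => ?_, fun p hp => ?_⟩
    · refine hbij f p (fun m hm => ?_) (fun y => ?_)
      · have h0 : (torsT T' M).mkQ m = 0 := hi.injective ((congrArg Subtype.val hm).trans (map_zero i).symm)
        obtain ⟨K, hK⟩ := (Submodule.Quotient.mk_eq_zero _).1 h0
        obtain ⟨s, hs, hsp⟩ := hout K p hp
        exact ⟨s, hsp, hK s hs⟩
      · obtain ⟨s, hs, hsp⟩ := hout ⟨J, hJT⟩ p hp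
        obtain ⟨n, hn⟩ := hJP s hs y
        obtain ⟨m, rfl⟩ := Submodule.mkQ_surjective _ n
        exact ⟨s, hsp, m, Subtype.ext hn⟩
    · obtain ⟨x, hxp, hx⟩ : ∃ x ∈ p.asIdeal, IsSMulRegular E x := by
        rcases Groth.L04.exists_regular_or_killed p.asIdeal P with ⟨x, hxp, hx⟩ | ⟨z, hz0, hz⟩
        · refine ⟨x, hxp, (injective_iff_map_eq_zero (LinearMap.lsmul A E x)).2 fun z hz => ?_⟩
          by_contra hne
          obtain ⟨y, ⟨hy, ⟨n, rfl⟩⟩, hy0⟩ := Submodule.exists_mem_ne_zero_of_ne_bot
            (hi.essential (LinearMap.ker (LinearMap.lsmul A E x))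
              (fun h => hne ((Submodule.mem_bot A).1 (h ▸ LinearMap.mem_ker.2 hz))))
          have : (⟨i n, hiP ⟨n, rfl⟩⟩ : P) = 0 := hx (show x • (⟨i n, hiP ⟨n, rfl⟩⟩ : P) = x • 0 by
            rw [smul_zero]; exact Subtype.ext (LinearMap.mem_ker.1 hy))
          exact hy0 (congrArg Subtype.val this)
        · exact absurd (Subtype.ext ((Submodule.mem_bot A).1 (hE0 ▸
            (⟨KT p hp, fun r hr => congrArg Subtype.val (hz r hr)⟩ : (z : E) ∈ torsT T' E)))) hz0
      have hdiv : ∀ y : E, ∃ z, x • z = y := fun y => by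
        obtain ⟨h, hh⟩ := hi.isInjective.out (LinearMap.lsmul A E x) hx LinearMap.id
        exact ⟨h y, by rw [← map_smul]; exact hh y⟩
      have hxP : IsSMulRegular P x := fun a b hab => Subtype.ext (hx (congrArg Subtype.val hab))
      obtain ⟨y, hyp, hy⟩ : ∃ y ∈ p.asIdeal, IsSMulRegular (QuotSMulTop x P) y := by
        refine (Groth.L04.exists_regular_or_killed p.asIdeal (QuotSMulTop x P)).resolve_right ?_
        rintro ⟨w, hw0, hw⟩
        obtain ⟨y, rfl⟩ := Submodule.mkQ_surjective _ w
        obtain ⟨z, hz⟩ := hdiv y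
        have hzP : z ∈ P := by
          suffices hzp : ∀ r ∈ p.asIdeal, r • z ∈ P by
            show π z ∈ torsT T' _
            rw [← Submodule.Quotient.mk_eq_zero, ← (Submodule.mem_bot A), ← torsT_quotient T']
            refine ⟨KT p hp, fun r hr => ?_⟩
            rw [← Submodule.Quotient.mk_smul, Submodule.Quotient.mk_eq_zero, ← map_smul]
            exact hzp r hr
          intro r hr
          have h := hw r hr
          rw [← map_smul, Submodule.mkQ_apply, Submodule.Quotient.mk_eq_zero, Submodule.mem_smul_pointwise_iff_exists] at h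
          obtain ⟨w, -, hw⟩ := h
          have h' : x • (r • z) = x • (w : E) := by
            rw [smul_comm, hz]
            exact (congrArg Subtype.val hw).symm
          exact (hx h') ▸ w.2
        refine hw0 ((Submodule.Quotient.mk_eq_zero _).2 ?_)
        rw [Submodule.mem_smul_pointwise_iff_exists]
        exact ⟨⟨z, hzP⟩, trivial, Subtype.ext hz⟩
      have h2 : (2 : ℕ∞) ≤ LocCoh.idealDepth p.asIdeal P :=
        Groth.L04.length_le_idealDepth (rs := [x, y]) ((RingTheory.Sequence.isWeaklyRegular_cons_iff P x [y]).2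
          ⟨hxP, (RingTheory.Sequence.isWeaklyRegular_cons_iff _ y []).2 ⟨hy, .nil _ _⟩⟩) (by simp [hxp, hyp])
      exact h2.trans ((Groth.L04.idealDepth_eq_iInf_depth p.asIdeal).trans_le (iInf₂_le p le_rfl))

end Groth.Agent.S1738
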