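import Groth.Statements.S17386
import Groth.Agent.L20.StrictSep

set_option autoImplicit false
universe u
open BlowUp

set_option backward.isDefEq.respectTransparency.types false
namespace Groth.Agent.S17386

open AlgebraicGeometry CategoryTheory Limits in
/-- Let X be any scheme, J_1, …, J_n quasi-coherent ideals on X with closed subschemes Y_i, and b : X' →
X a blowing up of X in the ideal J_1 + ⋯ + J_n of the intersection of the Y_i. For each i let b_i' :
Y_i' → Y_i be a blowing up of Y_i in the inverse image of J_1 + ⋯ + J_n and k_i : Y_i' → X' the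
morphism with k_i ≫ b = b_i' ≫ (Y_i → X), so that the image of k_i is the strict transform of Y_i.
Then the strict transforms have empty common intersection: no point of X' lies in the image of every
k_i. -/
theorem result
    {X X' : Scheme.{u}} {n : ℕ} (𝓙 : Fin n → X.IdealSheafData) (b : X' ⟶ X)
    (hb : BlowUp.IsBlowUp b (⨆ i, 𝓙 i))
    (Y' : Fin n → Scheme.{u}) (b' : ∀ i, Y' i ⟶ (𝓙 i).subscheme)
    (hb' : ∀ i, BlowUp.IsBlowUp (b' i) ((⨆ j, 𝓙 j).comap (𝓙 i).subschemeι))
    (k : ∀ i, Y' i ⟶ X') (hk : ∀ i, k i ≫ b = b' i ≫ (𝓙 i).subschemeι) :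
    (⋂ i, Set.range (fun y => k i y)) = (∅ : Set X') := by
  open Groth.L20.StrictSep Groth.L13.MP in
  refine Set.eq_empty_iff_forall_notMem.2 fun z hz => ?_
  let I : X.IdealSheafData := ⨆ i, 𝓙 i
  have hle : ∀ i, (𝓙 i).comap b ≤ I.comap b := fun i =>
    Scheme.IdealSheafData.comap_mono b (le_iSup 𝓙 i)
  set K : Fin n → X'.IdealSheafData := fun i =>
    colon ((𝓙 i).comap b) (LocFG.of_isEffCartier hb.1) with hK
  have htop : (⨆ i, K i) = ⊤ := by
    refine top_le_iff.1 (le_of_mul_le hb.1 ?_)
    rw [Scheme.IdealSheafData.top_mul]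
    show (⨆ i, 𝓙 i).comap b ≤ _ * I.comap b
    refine ((Scheme.IdealSheafData.map_gc b).l_iSup (f := 𝓙)).le.trans (iSup_le fun i => ?_)
    refine (colon_mul hb.1 (hle i)).ge.trans ?_
    exact mul_mono' (le_iSup K i) le_rfl
  have hz' : z ∈ (⨆ i, K i).support := by
    rw [Scheme.IdealSheafData.support_iSup]
    simp only [TopologicalSpace.Closeds.mem_iInf]
    intro i
    obtain ⟨y, hy⟩ := Set.mem_iInter.1 hz i
    refine range_subset_colon (k i) hb.1 (hle i) ?_ ?_ ⟨y, hy⟩
    · rw [← Scheme.IdealSheafData.comap_comp, hk i]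
      exact comap_subschemeι_eq_bot _ _
    · rw [← Scheme.IdealSheafData.comap_comp, hk i, Scheme.IdealSheafData.comap_comp]
      exact (hb' i).1
  rw [htop, Scheme.IdealSheafData.support_top] at hz'
  exact hz'


end Groth.Agent.S17386
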