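import Groth.Statements.S17389
import Groth.Agent.L13.Nagata.Pair
import Groth.Agent.L13.Nagata.CommonMany

set_option autoImplicit false
universe u
open FlatMor

set_option backward.isDefEq.respectTransparency.types false
set_option linter.style.haveILetI false
set_option backward.isDefEq.respectTransparency.types false
open AlgebraicGeometry CategoryTheory CategoryTheory.Limits

namespace Groth.Agent.S17389

/-- A piece of the common target restricted to a closed subscheme properly quasi-dominates. -/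
theorem exists_piece {U X₁ X₁' Y X S : Scheme.{u}} (g₁ : X₁ ⟶ S) (j₁ : U ⟶ X₁) (q₀ : Y ⟶ S) [IsSeparated q₀]
    (o : X₁' ⟶ Y) [IsOpenImmersion o] (b : X₁' ⟶ X₁) [IsProper b] (hob : o ≫ q₀ = b ≫ g₁)
    (u : U ⟶ X₁') (hu : u ≫ b = j₁) (ι : X ⟶ Y) [IsClosedImmersion ι] (j : U ⟶ X) (hj : j ≫ ι = u ≫ o) :
    ∃ (W : X.Opens) (l : U ⟶ (W : Scheme.{u})) (p : (W : Scheme.{u}) ⟶ X₁) (hp : W.ι ≫ ι ≫ q₀ = p ≫ g₁),
      l ≫ W.ι = j ∧ l ≫ p = j₁ ∧ IsProper p ∧
        IsClosed (Set.range (fun x => pullback.lift (f := ι ≫ q₀) W.ι p hp x)) := by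
  let W : X.Opens := ι ⁻¹ᵁ o.opensRange
  let k : (W : Scheme.{u}) ⟶ X₁' := (ι ∣_ o.opensRange) ≫ o.isoOpensRange.inv
  have hk : k ≫ o = W.ι ≫ ι := by
    simp only [k, Category.assoc, Scheme.Hom.isoOpensRange_inv_comp, W, morphismRestrict_ι]
  haveI : IsClosedImmersion (ι ∣_ o.opensRange) := inferInstance
  haveI : IsClosedImmersion k := inferInstanceAs (IsClosedImmersion ((ι ∣_ o.opensRange) ≫ o.isoOpensRange.inv))
  let l : U ⟶ (W : Scheme.{u}) := IsOpenImmersion.lift W.ι j (by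
    rw [Scheme.Opens.range_ι]
    rintro _ ⟨z, rfl⟩
    show ι (j z) ∈ o.opensRange
    rw [← Scheme.Hom.comp_apply, hj, Scheme.Hom.comp_apply]
    exact ⟨u z, rfl⟩)
  have hl : l ≫ W.ι = j := IsOpenImmersion.lift_fac _ _ _
  have hp : W.ι ≫ ι ≫ q₀ = (k ≫ b) ≫ g₁ := by rw [← reassoc_of% hk, hob]; simp only [k, Category.assoc]
  refine ⟨W, l, k ≫ b, hp, hl, ?_, inferInstance, ?_⟩
  · have e : l ≫ k = u := by rw [← cancel_mono o, Category.assoc, hk, reassoc_of% hl, hj]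
    rw [← Category.assoc, e, hu]
  · let Γ : (W : Scheme.{u}) ⟶ pullback (ι ≫ q₀) g₁ := pullback.lift W.ι (k ≫ b) hp
    haveI : IsSeparated (pullback.snd (ι ≫ q₀) g₁) := MorphismProperty.pullback_snd _ _ inferInstance
    haveI : IsProper (Γ ≫ pullback.snd (ι ≫ q₀) g₁) := by rw [pullback.lift_snd]; infer_instance
    haveI : IsProper Γ := IsProper.of_comp Γ (pullback.snd (ι ≫ q₀) g₁)
    exact Γ.isClosedMap.isClosed_range

end Groth.Agent.S17389

namespace Groth.Agent.S17389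

open AlgebraicGeometry CategoryTheory Limits in
/-- Let S be a quasi-compact quasi-separated scheme, U, X₁, X₂ separated S-schemes of finite type (so U
is quasi-compact), and j₁ : U → X₁, j₂ : U → X₂ open immersions over S with dense image (necessarily
quasi-compact). Then there are a separated S-scheme X of finite type and a schematically dense open
immersion j : U → X over S such that X properly quasi-dominates each X_i in a manner extending j_i:
for i = 1, 2 there are an open W_i ⊆ X containing the image of j, a proper S-morphism p_i : W_i →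
X_i whose composite with the factorisation U → W_i of j is j_i, and the graph morphism W_i → X ×_S
X_i of p_i has closed image. -/
theorem result
    {S U X₁ X₂ : Scheme.{u}} [CompactSpace S] [QuasiSeparatedSpace S]
    (g₁ : X₁ ⟶ S) (g₂ : X₂ ⟶ S)
    [IsSeparated g₁] [QuasiCompact g₁] [LocallyOfFiniteType g₁]
    [IsSeparated g₂] [QuasiCompact g₂] [LocallyOfFiniteType g₂]
    (j₁ : U ⟶ X₁) (j₂ : U ⟶ X₂) [IsOpenImmersion j₁] [IsOpenImmersion j₂] [IsDominant j₁] [IsDominant j₂]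
    [CompactSpace U]
    (h : j₁ ≫ g₁ = j₂ ≫ g₂) :
    ∃ (X : Scheme.{u}) (q : X ⟶ S) (_ : IsSeparated q) (_ : QuasiCompact q) (_ : LocallyOfFiniteType q)
      (j : U ⟶ X) (_ : IsOpenImmersion j) (_ : IsSchemeTheoreticallyDominant j) (_ : j ≫ q = j₁ ≫ g₁),
      (∃ (W : X.Opens) (l : U ⟶ (W : Scheme.{u})) (p : (W : Scheme.{u}) ⟶ X₁) (hp : W.ι ≫ q = p ≫ g₁),
        l ≫ W.ι = j ∧ l ≫ p = j₁ ∧ IsProper p ∧
        IsClosed (Set.range (fun x => pullback.lift W.ι p hp x))) ∧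
      (∃ (W : X.Opens) (l : U ⟶ (W : Scheme.{u})) (p : (W : Scheme.{u}) ⟶ X₂) (hp : W.ι ≫ q = p ≫ g₂),
        l ≫ W.ι = j ∧ l ≫ p = j₂ ∧ IsProper p ∧
        IsClosed (Set.range (fun x => pullback.lift W.ι p hp x))) := by
  haveI : QuasiSeparatedSpace X₁ := quasiSeparatedSpace_of_quasiSeparated g₁
  haveI : QuasiCompact (j₁ ≫ g₁) := quasiCompact_of_compactSpace (j₁ ≫ g₁)
  obtain ⟨Y, q₀, hq1, hq2, hq3, K₁, K₂, X₁', X₂', b₁, b₂, o₁, o₂, u₁, u₂, hb₁, hK₁, hb₂, hK₂, ho₁, ho₂, e₁, e₂,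
    hu₁, hu₂, hu, -⟩ := Groth.L13.Nagata.exists_common_target (j₁ ≫ g₁) g₁ g₂ j₁ j₂ rfl h.symm
  haveI := Groth.L13.BU.isProper_blowUp hb₁ hK₁.1
  haveI := Groth.L13.BU.isProper_blowUp hb₂ hK₂.1
  haveI := (Groth.L13.Nagata.lift_openImmersion hb₁ j₁ hK₁.2 u₁ hu₁).1
  let t := u₁ ≫ o₁
  haveI : QuasiSeparatedSpace Y := quasiSeparatedSpace_of_quasiSeparated q₀
  haveI : QuasiCompact t := quasiCompact_of_compactSpace t
  have ht : t.toImage ≫ t.imageι = t := t.toImage_imageι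
  have hq : t.toImage ≫ t.imageι ≫ q₀ = j₁ ≫ g₁ := by
    rw [reassoc_of% ht]; simp only [t, Category.assoc, e₁, reassoc_of% hu₁]
  refine ⟨t.image, t.imageι ≫ q₀, inferInstance, inferInstance, inferInstance, t.toImage, inferInstance,
    inferInstance, hq, ?_, ?_⟩
  · exact exists_piece g₁ j₁ q₀ o₁ b₁ e₁ u₁ hu₁ t.imageι t.toImage ht
  · exact exists_piece g₂ j₂ q₀ o₂ b₂ e₂ u₂ hu₂ t.imageι t.toImage (ht.trans hu)


end Groth.Agent.S17389
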