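import Groth.Statements.S1739
import Groth.Agent.L04.TorUniformKill

set_option autoImplicit false
universe u
open CategoryTheory
attribute [local instance] HasDerivedCategory.standard
open LocCoh

namespace Groth.Agent.S1739

/-- Let A be a Noetherian ring and I an ideal generated by at most t elements. There is an integer c ≥ 0
such that for every A-module M, every i > t and every q ≥ 0, the module Tor_i^A(M, A/I^q) is
annihilated by I^c. -/
theorem result (A : Type u) [CommRing A] [IsNoetherianRing A] (I : Ideal A) (t : ℕ) (s : Finset A) (hs : I = Ideal.span (s : Set A)) (ht : s.card ≤ t) : ∃ c : ℕ, ∀ (M : Type u) [AddCommGroup M] [Module A M] (i q : ℕ), t < i → ∀ a ∈ I ^ c, ∀ x : DRing.Tor A i M (A ⧸ I ^ q), a • x = 0 := by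

    let f : Fin t → A := fun i => if h : (i : ℕ) < s.card then (s.equivFin.symm ⟨i, h⟩ : A) else 0
    have hI : I = Ideal.span (Set.range f) := by
      refine hs.trans (le_antisymm (Ideal.span_le.2 fun x hx => Ideal.subset_span ?_) (Ideal.span_le.2 ?_))
      · refine ⟨Fin.castLE ht (s.equivFin ⟨x, hx⟩), ?_⟩
        simp [f]
      · rintro _ ⟨i, rfl⟩
        simp only [f]
        split_ifs with h
        · exact Ideal.subset_span (s.equivFin.symm ⟨i, h⟩).2
        · exact zero_mem _
    obtain ⟨c, hc⟩ := Groth.L04.TorUniform.tor_killed f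
    subst hI
    exact ⟨c, fun M _ _ i q hi a ha x => hc M i q hi a ha x⟩

end Groth.Agent.S1739
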