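import Groth.Statements.S17391
import Groth.Agent.L20.StrictSep

set_option autoImplicit false
universe u
open BlowUp

set_option backward.isDefEq.respectTransparency.types false
namespace Groth.Agent.S17391

open AlgebraicGeometry CategoryTheory Limits in
/-- Let X and Z be schemes, p : Z → X a morphism, U ⊆ V ⊆ X open subschemes, and f : Y → Z a
quasi-compact immersion whose composite with p lands in U. Let I₁ be a quasi-coherent ideal on X
whose support contains V ∖ U and is disjoint from U, and I₂ a quasi-coherent ideal whose support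
lies in supp(I₁) ∖ V. Assume that the closed subscheme p⁻¹(V(I₁²)) ∩ Ȳ of Z, where Ȳ is the
scheme-theoretic image of f, is contained in p⁻¹(V(I₂)) as a closed subscheme: the inverse image
ideal of I₂ on Z lies in the sum of the inverse image ideal of I₁² and the kernel ideal of f. Then
for every blowing up q : X' → X of X in I₁ + I₂, writing Z' = Z ×_X X' → X' and Y' = Y ×_Z Z' → Z'
for the base changes, the closure in Z' of the image of Y' is disjoint from the preimage in Z' of
the closure in X' of q⁻¹(V ∖ U). (The blowing up is an isomorphism over V, since the support of I₁ +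
I₂ is that of I₂ and lies in X ∖ V; the point is that the closure of q⁻¹(V ∖ U) in X', which may
reach over X ∖ V, still misses the closure of Y'.) -/
theorem result
    {X Y Z X' : Scheme.{u}} (p : Z ⟶ X) (U V : X.Opens) (hUV : U ≤ V)
    (f : Y ⟶ Z) [IsImmersion f] [QuasiCompact f] (hY : Set.range (fun y => p (f y)) ⊆ (U : Set X))
    (𝓘₁ 𝓘₂ : X.IdealSheafData)
    (h₁ : (V : Set X) \ (U : Set X) ⊆ (𝓘₁.support : Set X)) (h₁' : Disjoint (𝓘₁.support : Set X) (U : Set X))
    (h₂ : (𝓘₂.support : Set X) ⊆ (𝓘₁.support : Set X) \ (V : Set X))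
    (hincl : 𝓘₂.comap p ≤ (𝓘₁ * 𝓘₁).comap p ⊔ f.ker)
    (q : X' ⟶ X) (hq : BlowUp.IsBlowUp q (𝓘₁ ⊔ 𝓘₂)) :
    Disjoint (closure (Set.range (fun y => (pullback.snd f (pullback.fst p q)) y)))
      ((fun z => (pullback.snd p q) z) ⁻¹'
        closure ((fun x' => q x') ⁻¹' ((V : Set X) \ (U : Set X)))) := by
  open Groth.L20.StrictSep in
  have hq1 := hq.1
  refine Set.disjoint_left.2 fun z hz hz' => ?_
  set g := pullback.snd p q
  set pr := pullback.fst p q
  have hle : 𝓘₁.comap q ≤ (𝓘₁ ⊔ 𝓘₂).comap q := Scheme.IdealSheafData.comap_mono q le_sup_left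
  refine sep g hq1 hle (f.ker.comap pr) ?_ (z := z) ?_ (closure_mono ?_ hz')
  · rw [Scheme.IdealSheafData.comap_sup, Scheme.IdealSheafData.comap_sup]
    refine sup_le le_sup_left ?_
    rw [← Scheme.IdealSheafData.comap_comp, ← Scheme.IdealSheafData.comap_comp,
      ← show pr ≫ p = g ≫ q from pullback.condition, Scheme.IdealSheafData.comap_comp,
      Scheme.IdealSheafData.comap_comp]
    refine (Scheme.IdealSheafData.comap_mono pr (hincl.trans (sup_le_sup_right
      (Scheme.IdealSheafData.comap_mono p (Groth.L13.MP.mul_le_left 𝓘₁ 𝓘₁)) _))).trans ?_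
    exact (Scheme.IdealSheafData.comap_sup _ _ _).le
  · refine closure_mono ?_ hz
    rintro _ ⟨y, rfl⟩
    set f' := pullback.snd f pr
    have e : pr (f' y) = f (pullback.fst f pr y) := by
      rw [← Scheme.Hom.comp_apply, ← Scheme.Hom.comp_apply, pullback.condition]
    refine ⟨?_, fun h => ?_⟩
    · rw [Scheme.IdealSheafData.support_comap]
      show pr (f' y) ∈ (f.ker.support : Set Z)
      rw [e]
      exact f.range_subset_ker_support ⟨_, rfl⟩
    · rw [Set.mem_preimage, Scheme.IdealSheafData.support_comap] at h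
      have hU : p (pr (f' y)) ∈ (U : Set X) := e ▸ hY ⟨_, rfl⟩
      have h' : q (g (f' y)) ∈ ((𝓘₁ ⊔ 𝓘₂).support : Set X) := h
      rw [← Scheme.Hom.comp_apply, ← show pr ≫ p = g ≫ q from pullback.condition,
        Scheme.Hom.comp_apply, Scheme.IdealSheafData.support_sup] at h'
      exact Set.disjoint_left.1 h₁' h'.1 hU
  · intro x hx
    simp only [Scheme.IdealSheafData.support_comap]
    refine ⟨h₁ hx, fun h => ?_⟩
    have h' : q x ∈ ((𝓘₁ ⊔ 𝓘₂).support : Set X) := h
    rw [Scheme.IdealSheafData.support_sup] at h'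
    exact (h₂ h'.2).2 hx.1


end Groth.Agent.S17391
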