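import Groth.Statements.S17392
import Groth.Agent.L20.StrictSep

set_option autoImplicit false
universe u
open BlowUp

set_option backward.isDefEq.respectTransparency.types false
namespace Groth.Agent.S17392

open AlgebraicGeometry CategoryTheory Limits in
/-- Let X₁ and X₂ be quasi-compact quasi-separated schemes, q : X₂ → X₁ a quasi-compact separated
morphism, V₁ ⊆ X₁ a quasi-compact open subscheme and U ⊆ q⁻¹(V₁) an open subscheme of X₂ on which q
restricts to an open immersion (so U is identified with an open of V₁). Let Z₁ ⊆ X₁ be a closed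
subset whose open complement is quasi-compact, put Y₁ = Z₁ ∩ V₁, and let Z₂ ⊆ X₂ be a closed subset
whose open complement is also quasi-compact, with q⁻¹(Y₁) ⊆ Z₂. Then there is a quasi-coherent ideal
E of finite type on X₁ with support contained in Z₁ ∖ V₁ (so that blowing up E is V₁-admissible)
such that, for every blowing up c : X₁' → X₁ of X₁ in E with base change q' : X₂' = X₂ ×_{X₁} X₁' →
X₁' and c₂ : X₂' → X₂, one has q'⁻¹(closure of c⁻¹(Y₁)) ∩ closure(c₂⁻¹(U)) ⊆ c₂⁻¹(Z₂) as subsets of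
X₂'. -/
theorem result
    {X₁ X₂ : Scheme.{u}} [CompactSpace X₁] [QuasiSeparatedSpace X₁] [CompactSpace X₂] [QuasiSeparatedSpace X₂]
    (q : X₂ ⟶ X₁) [QuasiCompact q] [IsSeparated q]
    (V₁ : X₁.Opens) (hV₁ : IsCompact (V₁ : Set X₁))
    (U : X₂.Opens) (hU : U ≤ q ⁻¹ᵁ V₁) [IsOpenImmersion (U.ι ≫ q)]
    (Z₁ : Set X₁) (hZ₁ : IsClosed Z₁) (hZ₁c : IsCompact Z₁ᶜ)
    (Z₂ : Set X₂) (hZ₂ : IsClosed Z₂) (hZ₂c : IsCompact Z₂ᶜ)
    (hYZ : (fun x => q x) ⁻¹' (Z₁ ∩ (V₁ : Set X₁)) ⊆ Z₂) :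
    ∃ 𝓔 : X₁.IdealSheafData, BlowUp.IsFiniteTypeIdeal 𝓔 ∧ (𝓔.support : Set X₁) ⊆ Z₁ \ (V₁ : Set X₁) ∧
      ∀ (X₁' : Scheme.{u}) (c : X₁' ⟶ X₁), BlowUp.IsBlowUp c 𝓔 →
        (fun z => (pullback.snd q c) z) ⁻¹' closure ((fun x => c x) ⁻¹' (Z₁ ∩ (V₁ : Set X₁))) ∩
            closure ((fun z => (pullback.fst q c) z) ⁻¹' (U : Set X₂)) ⊆
          (fun z => (pullback.fst q c) z) ⁻¹' Z₂ := by
  open Groth.L20.StrictSep Groth.L13.MP in
  let Q : X₁.Opens := ⟨Z₁ᶜ, hZ₁.isOpen_compl⟩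
  obtain ⟨I, hI, hIs, -⟩ := Groth.L18.IdealModule.exists_finiteType_of_isCompact Q hZ₁c
  obtain ⟨J, hJ, hJs, -⟩ := Groth.L18.IdealModule.exists_finiteType_of_isCompact V₁ hV₁
  replace hIs : ∀ x, x ∈ I.support ↔ x ∈ Z₁ := fun x => by
    rw [← SetLike.mem_coe, hIs]; simp [Q]
  let W : X₂.Opens := ⟨Z₂ᶜ, hZ₂.isOpen_compl⟩
  have : QuasiCompact W.ι := ⟨fun V hV hVc => by
    rw [W.ι.isOpenEmbedding.isInducing.isCompact_iff, Set.image_preimage_eq_inter_range,
      Scheme.Opens.range_ι]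
    exact QuasiSeparatedSpace.inter_isCompact _ _ hV hVc W.2 hZ₂c⟩
  let qW := W.ι ≫ q
  set B := (I.comap qW).map qW
  have hBs : (B.support : Set X₁) ⊆ (J.support : Set X₁) := by
    rw [Scheme.IdealSheafData.support_map, hJs]
    refine closure_minimal ?_ V₁.2.isClosed_compl
    rintro _ ⟨w, hw, rfl⟩ hwV
    rw [Scheme.IdealSheafData.support_comap] at hw
    exact w.2 (hYZ ⟨(hIs _).1 hw, hwV⟩)
  obtain ⟨n, hn⟩ := exists_pow_le hJ hBs
  have hft : BlowUp.IsFiniteTypeIdeal (I ⊔ J ^ (n + 1)) := by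
    refine fun V => (LocFG.sup (LocFG.of_fg hI) (LocFG.of_fg fun V => ?_)).fg V
    rw [Scheme.IdealSheafData.ideal_pow, Pi.pow_apply]
    exact (hJ V).pow
  have hsupp : ∀ x, x ∈ (I ⊔ J ^ (n + 1)).support ↔ x ∈ Z₁ ∧ x ∉ V₁ := fun x => by
    rw [Scheme.IdealSheafData.support_sup, Scheme.IdealSheafData.support_pow_succ]
    refine and_congr (hIs x) ?_
    rw [← SetLike.mem_coe, hJs]; rfl
  refine ⟨I ⊔ J ^ (n + 1), hft, fun x hx => (hsupp x).1 hx, fun X₁' c hc z hz => ?_⟩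
  by_contra hz2
  set pr := pullback.fst q c
  set g := pullback.snd q c
  let P := pr ⁻¹ᵁ W
  let w : P := ⟨z, hz2⟩
  refine sep (P.ι ≫ g) hc.1 (Scheme.IdealSheafData.comap_mono c le_sup_left) ⊥ ?_ (z := w) ?_
    (closure_mono ?_ hz.1)
  · rw [sup_bot_eq, ← Scheme.IdealSheafData.comap_comp, ← Scheme.IdealSheafData.comap_comp]
    have e : (P.ι ≫ g) ≫ c = (pr ∣_ W) ≫ qW := by
      rw [Category.assoc, ← show pr ≫ q = g ≫ c from pullback.condition, morphismRestrict_ι_assoc]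
    rw [e, Scheme.IdealSheafData.comap_comp, Scheme.IdealSheafData.comap_comp _ (pr ∣_ W)]
    refine Scheme.IdealSheafData.comap_mono _ ?_
    rw [Scheme.IdealSheafData.comap_sup]
    exact sup_le le_rfl ((Scheme.IdealSheafData.comap_mono qW hn).trans
      (Scheme.IdealSheafData.comap_map_le _ _))
  · have h := hz.2
    have hw : w ∈ closure (Subtype.val ⁻¹' ((fun z => pr z) ⁻¹' (U : Set X₂))) := by
      exact ((P.2.isOpenEmbedding_subtypeVal.isOpenMap.preimage_closure_eq_closure_preimage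
        continuous_subtype_val _).subset) h
    refine closure_mono ?_ hw
    intro y hy
    refine ⟨by rw [Scheme.IdealSheafData.support_bot]; trivial, fun h' => ?_⟩
    rw [Set.mem_preimage, Scheme.IdealSheafData.support_comap] at h'
    have h'' : q (pr y.1) ∈ (I ⊔ J ^ (n + 1)).support := by
      rw [← Scheme.Hom.comp_apply, show pr ≫ q = g ≫ c from pullback.condition]
      exact h'
    exact ((hsupp _).1 h'').2 (hU hy)
  · intro x hx
    simp only [Scheme.IdealSheafData.support_comap]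
    exact ⟨(hIs _).2 hx.1, fun h => ((hsupp _).1 h).2 hx.2⟩


end Groth.Agent.S17392
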