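import Groth.Statements.S17393
import Groth.Agent.L20.StrictSep

set_option autoImplicit false
universe u
open BlowUp

set_option backward.isDefEq.respectTransparency.types false
namespace Groth.Agent.S17393

open AlgebraicGeometry CategoryTheory Limits in
/-- Let X be any scheme, I and I' quasi-coherent ideals on X (of closed subschemes Y and Y'), b : X' → X
a blowing up of X in I + I' (the ideal of Y ∩ Y'), b' : Ỹ → Y a blowing up of Y = V(I) in the
inverse image of I + I' and k : Ỹ → X' the morphism with k ≫ b = b' ≫ (Y → X), whose image is the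
strict transform of Y. For an affine open V of X, a section s of I over V, and an affine open V' ⊆
b⁻¹(V) of X' which meets the image of k, the ideal of the inverse image ideal sheaf (I + I')·O_X' on
V' is not the principal ideal generated by the pullback of s. Equivalently the strict transform of Y
does not meet the open locus U(s) where s generates the (invertible) inverse image ideal; since the
U(s) for s ranging over local sections of I and of I' cover X', the strict transform of Y lies in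
the union of the U(s) with s a local section of I'. -/
theorem result
    {X X' Yt : Scheme.{u}} (𝓘 𝓘' : X.IdealSheafData) (b : X' ⟶ X) (hb : BlowUp.IsBlowUp b (𝓘 ⊔ 𝓘'))
    (b' : Yt ⟶ 𝓘.subscheme) (hb' : BlowUp.IsBlowUp b' ((𝓘 ⊔ 𝓘').comap 𝓘.subschemeι))
    (k : Yt ⟶ X') (hk : k ≫ b = b' ≫ 𝓘.subschemeι)
    (V : X.affineOpens) (s : Γ(X, V.1)) (hs : s ∈ 𝓘.ideal V)
    (V' : X'.affineOpens) (hV' : V'.1 ≤ b ⁻¹ᵁ V.1)
    (hmeet : (Set.range (fun y => k y) ∩ (V'.1 : Set X')).Nonempty) :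
    ((𝓘 ⊔ 𝓘').comap b).ideal V' ≠ Ideal.span {(b.appLE V.1 V'.1 hV').hom s} := by
  intro he
  obtain ⟨_, ⟨y, rfl⟩, hy⟩ := hmeet
  have hcart : BlowUp.IsEffCartierIdeal (((𝓘 ⊔ 𝓘').comap b).comap k) := by
    rw [← Scheme.IdealSheafData.comap_comp, hk, Scheme.IdealSheafData.comap_comp]
    exact hb'.1
  obtain ⟨_, ⟨W, hW, rfl⟩, hyW, hWle⟩ := Yt.isBasis_affineOpens.exists_subset_of_mem_open
    (show y ∈ ((k ⁻¹ᵁ V'.1 : Yt.Opens) : Set Yt) from hy) (k ⁻¹ᵁ V'.1).2
  have hWV : W ≤ k ⁻¹ᵁ (b ⁻¹ᵁ V.1) := (show W ≤ k ⁻¹ᵁ V'.1 from hWle).trans (k.preimage_mono hV')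
  have hbot : 𝓘.comap (k ≫ b) = ⊥ := by
    rw [hk]; exact Groth.L20.StrictSep.comap_subschemeι_eq_bot _ _
  have hz : ((k ≫ b).appLE V.1 W hWV).hom s = 0 := by
    have h := Groth.L22.Ideals.comap_ideal (k ≫ b) 𝓘 V ⟨W, hW⟩ hWV
    rw [hbot, Scheme.IdealSheafData.ideal_bot] at h
    exact (Submodule.mem_bot _).1 (h.symm ▸ Ideal.mem_map_of_mem _ hs)
  have h0 : (((𝓘 ⊔ 𝓘').comap b).comap k).ideal ⟨W, hW⟩ = Ideal.span {0} := by
    rw [Groth.L22.Ideals.comap_ideal k _ V' ⟨W, hW⟩ hWle, he, Ideal.map_span, Set.image_singleton,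
      ← CommRingCat.comp_apply, Scheme.Hom.appLE_comp_appLE]
    exact congrArg (fun a => Ideal.span {a}) hz
  have h1 : (0 : Γ(Yt, W)) ∈ nonZeroDivisors Γ(Yt, W) := Groth.L13.BU.nzd_of_span hcart ⟨W, hW⟩ 0 h0
  haveI : Subsingleton Γ(Yt, W) :=
    ⟨fun a c => ((mul_cancel_right_mem_nonZeroDivisors h1).1 (by simp))⟩
  have : IsUnit ((Yt.presheaf.germ W y hyW).hom 0) := by
    rw [show (0 : Γ(Yt, W)) = 1 from Subsingleton.elim _ _, map_one]; exact isUnit_one
  rw [map_zero, isUnit_zero_iff] at this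
  exact zero_ne_one this


end Groth.Agent.S17393
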