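import Groth.Statements.S17394
import Groth.Agent.L20.WideSep

set_option autoImplicit false
universe u
open FlatMor

set_option backward.isDefEq.respectTransparency.types false
namespace Groth.Agent.S17394

open AlgebraicGeometry CategoryTheory Limits in
/-- Let S be a quasi-compact quasi-separated scheme, X → S separated of finite type, and for i = 1, …, m
let X̄_i → S be proper, o_i : X_i → X̄_i a quasi-compact open immersion and q_i : X_i → X a proper
S-morphism; let U be a scheme with quasi-compact open immersions jU : U → X and v_i : U → X_i such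
that v_i ≫ q_i = jU, with U dense in X, in each X_i and in each X̄_i (via v_i ≫ o_i). Let Y_i ⊆ X_i
be closed subschemes of finite presentation. Let Ū ⊆ X̄_1 ×_S ⋯ ×_S X̄_m be the closure of the image
of U (the scheme-theoretic closure, the morphism being quasi-compact) with projections π_i : Ū →
X̄_i, and assume ⋂_i π_i⁻¹(Y_i) = ∅. Then there are blowing ups c_i : X̄_i' → X̄_i in quasi-coherent
ideals of finite type with support disjoint from X_i (X_i-admissible), with the lifts v_i' : U →
X̄_i' of v_i ≫ o_i, such that, writing Ū' for the closure of the image of U in X̄_1' ×_S ⋯ ×_S X̄_m'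
with projections π_i' and Ȳ_i' for the closure in X̄_i' of c_i⁻¹(Y_i), one has ⋂_i (π_i')⁻¹(Ȳ_i') =
∅. -/
theorem result
    {S X U : Scheme.{u}} [CompactSpace S] [QuasiSeparatedSpace S] {m : ℕ}
    (gX : X ⟶ S) [IsSeparated gX] [QuasiCompact gX] [LocallyOfFiniteType gX]
    (Xi Xb : Fin m → Scheme.{u}) (gb : ∀ i, Xb i ⟶ S) [∀ i, IsProper (gb i)]
    (o : ∀ i, Xi i ⟶ Xb i) [∀ i, IsOpenImmersion (o i)] [∀ i, QuasiCompact (o i)]
    (q : ∀ i, Xi i ⟶ X) [∀ i, IsProper (q i)] (hq : ∀ i, q i ≫ gX = o i ≫ gb i)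
    (jU : U ⟶ X) [IsOpenImmersion jU] [QuasiCompact jU] [IsDominant jU]
    (v : ∀ i, U ⟶ Xi i) [∀ i, IsOpenImmersion (v i)] [∀ i, QuasiCompact (v i)] [∀ i, IsDominant (v i)]
    [∀ i, IsDominant (v i ≫ o i)]
    (hv : ∀ i, v i ≫ q i = jU) (w : ∀ i, (v i ≫ o i) ≫ gb i = jU ≫ gX)
    (Y : ∀ i, (Xi i).IdealSheafData) (hY : ∀ i, BlowUp.IsFiniteTypeIdeal (Y i))
    (hempty : ∀ z ∈ closure (Set.range (fun x => (WidePullback.lift (jU ≫ gX) (fun i => v i ≫ o i) w) x)),
      ∃ i, (WidePullback.π gb i) z ∉ (fun x => o i x) '' ((Y i).support : Set (Xi i))) :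
    ∃ (𝓔 : ∀ i, (Xb i).IdealSheafData) (Xb' : Fin m → Scheme.{u}) (c : ∀ i, Xb' i ⟶ Xb i)
      (v' : ∀ i, U ⟶ Xb' i) (w' : ∀ i, v' i ≫ c i ≫ gb i = jU ≫ gX),
      (∀ i, BlowUp.IsBlowUp (c i) (𝓔 i) ∧ BlowUp.IsAdmissibleFor (o i).opensRange (𝓔 i) ∧
        v' i ≫ c i = v i ≫ o i) ∧
      ∀ z ∈ closure (Set.range (fun x => (WidePullback.lift (jU ≫ gX) (fun i => v' i) w') x)),
        ∃ i, (WidePullback.π (fun i => c i ≫ gb i) i) z ∉
          closure ((fun y => c i y) ⁻¹' ((fun x => o i x) '' ((Y i).support : Set (Xi i)))) := by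
  classical
  open Groth.L20.StrictSep Groth.L20.WideSep Groth.L13.MP in
  haveI : ∀ i, CompactSpace (Xb i) := fun i => QuasiCompact.compactSpace_of_compactSpace (gb i)
  haveI : ∀ i, QuasiSeparatedSpace (Xb i) := fun i => quasiSeparatedSpace_of_quasiSeparated (gb i)
  haveI : ∀ i, CompactSpace (Xi i) := fun i => QuasiCompact.compactSpace_of_compactSpace (o i)
  haveI : ∀ i, QuasiCompact (WidePullback.π gb i) := fun i => quasiCompact_π Xb gb i
  -- the ideals cutting out the closed subschemes inside the open parts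
  have hI : ∀ i, ∃ I : (Xb i).IdealSheafData, BlowUp.IsFiniteTypeIdeal I ∧
      ∀ y : Xi i, (o i y ∈ I.support ↔ y ∈ (Y i).support) := fun i => by
    have hc : IsCompact (((Y i).support : Set (Xi i))ᶜ) := by
      exact Groth.L18.IdealModule.isCompact_compl_support (Y i) (hY i)
        ⟨((Y i).support : Set (Xi i))ᶜ, (Y i).support.isClosed.isOpen_compl⟩ (compl_compl _).symm
    let Q : (Xb i).Opens := ⟨(fun x => o i x) '' ((Y i).support : Set (Xi i))ᶜ,
      (o i).isOpenEmbedding.isOpenMap _ (Y i).support.isClosed.isOpen_compl⟩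
    obtain ⟨I, hI, hs, -⟩ := Groth.L18.IdealModule.exists_finiteType_of_isCompact Q
      (hc.image (o i).continuous)
    refine ⟨I, hI, fun y => ?_⟩
    rw [← SetLike.mem_coe, hs]
    show o i y ∉ (fun x => o i x) '' ((Y i).support : Set (Xi i))ᶜ ↔ _
    rw [(o i).isOpenEmbedding.injective.mem_set_image]
    exact Classical.not_not
  choose I hIft hIs using hI
  have hJ : ∀ i, ∃ J : (Xb i).IdealSheafData, BlowUp.IsFiniteTypeIdeal J ∧
      (J.support : Set (Xb i)) = ((o i).opensRange : Set (Xb i))ᶜ := fun i => by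
    obtain ⟨J, hJ, hs, -⟩ := Groth.L18.IdealModule.exists_finiteType_of_isCompact (o i).opensRange
      (isCompact_range (o i).continuous)
    exact ⟨J, hJ, hs⟩
  choose J hJft hJs using hJ
  -- the closure of `U` in the product
  set u := WidePullback.lift (jU ≫ gX) (fun i => v i ≫ o i) w
  let C : TopologicalSpace.Closeds _ := TopologicalSpace.Closeds.closure (Set.range (fun x => u x))
  let N : (widePullback S Xb gb).IdealSheafData := Scheme.IdealSheafData.vanishingIdeal C
  -- over one open part means over all of them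
  have hall : ∀ z ∈ closure (Set.range (fun x => u x)), ∀ i,
      WidePullback.π gb i z ∈ Set.range (fun x => o i x) →
      ∀ l, WidePullback.π gb l z ∈ Set.range (fun x => o l x) := by
    intro z hz i hzi l
    let O := WidePullback.π gb i ⁻¹ᵁ (o i).opensRange
    let r : (O : Scheme.{u}) ⟶ Xi i := IsOpenImmersion.lift (o i) (O.ι ≫ WidePullback.π gb i) (by
      rintro _ ⟨a, rfl⟩
      exact a.2)
    have hr : r ≫ o i = O.ι ≫ WidePullback.π gb i := IsOpenImmersion.lift_fac _ _ _
    let Φ : (O : Scheme.{u}) ⟶ pullback (gb l) gX :=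
      pullback.lift (O.ι ≫ WidePullback.π gb l) (r ≫ q i) (by
        rw [Category.assoc, Category.assoc, WidePullback.π_arrow, hq, ← Category.assoc, hr,
          Category.assoc, WidePullback.π_arrow])
    let d : Xi l ⟶ pullback (gb l) gX := pullback.lift (o l) (q l) (hq l).symm
    haveI : IsProper (d ≫ pullback.snd (gb l) gX) := by
      rw [pullback.lift_snd]; infer_instance
    haveI : IsProper d := IsProper.of_comp d (pullback.snd (gb l) gX)
    have hR : IsClosed (Set.range (fun x => d x)) := d.isClosedMap.isClosed_range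
    have hsub : closure (Subtype.val ⁻¹' Set.range (fun x => u x)) ⊆
        (fun a : O => Φ a) ⁻¹' Set.range (fun x => d x) := by
      refine closure_minimal ?_ (hR.preimage Φ.continuous)
      rintro a ⟨x, hx⟩
      refine ⟨v l x, ?_⟩
      have hui : ∀ j, u ≫ WidePullback.π gb j = v j ≫ o j := fun j => WidePullback.lift_π _ _ _ _ _
      let s : U ⟶ O := IsOpenImmersion.lift O.ι u (by
        rw [Scheme.Opens.range_ι]
        rintro _ ⟨y, rfl⟩
        show WidePullback.π gb i (u y) ∈ Set.range (fun x => o i x)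
        rw [← Scheme.Hom.comp_apply, hui]
        exact ⟨v i y, rfl⟩)
      have hs : s ≫ O.ι = u := IsOpenImmersion.lift_fac _ _ _
      have hsa : s x = a := O.ι.isOpenEmbedding.injective (by
        rw [← Scheme.Hom.comp_apply, hs]; exact hx)
      have hsr : s ≫ r = v i := (cancel_mono (o i)).1 (by rw [Category.assoc, hr, reassoc_of% hs, hui])
      have e : v l ≫ d = s ≫ Φ := by
        apply pullback.hom_ext
        · simp only [Category.assoc, d, Φ, pullback.lift_fst]
          rw [reassoc_of% hs, hui]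
        · simp only [Category.assoc, d, Φ, pullback.lift_snd]
          rw [reassoc_of% hsr, hv, hv]
      show d (v l x) = Φ a
      rw [← Scheme.Hom.comp_apply, e, Scheme.Hom.comp_apply, hsa]
    have hzO : (⟨z, hzi⟩ : O) ∈ closure (Subtype.val ⁻¹' Set.range (fun x => u x)) :=
      (O.2.isOpenEmbedding_subtypeVal.isOpenMap.preimage_closure_eq_closure_preimage
        continuous_subtype_val _).subset hz
    obtain ⟨y, hy⟩ := hsub hzO
    refine ⟨y, ?_⟩
    have h1 := congrArg (fun a => pullback.fst (gb l) gX a) hy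
    simp only [d, Φ, ← Scheme.Hom.comp_apply, pullback.lift_fst] at h1
    exact h1
  -- the locus where all conditions hold
  set B : (widePullback S Xb gb).IdealSheafData := (⨆ l, (I l).comap (WidePullback.π gb l)) ⊔ N with hB
  have hBsupp : ∀ z ∈ B.support, ∀ i, WidePullback.π gb i z ∉ Set.range (fun x => o i x) := by
    intro z hz i hi
    rw [hB, Scheme.IdealSheafData.support_sup] at hz
    have hzC : z ∈ closure (Set.range (fun x => u x)) := hz.2
    obtain ⟨l, hl⟩ := hempty z hzC
    obtain ⟨y, hy⟩ := hall z hzC i hi l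
    have h1 : z ∈ ((I l).comap (WidePullback.π gb l)).support :=
      Scheme.IdealSheafData.support_antitone (le_iSup (fun l => (I l).comap (WidePullback.π gb l)) l) hz.1
    rw [Scheme.IdealSheafData.support_comap] at h1
    have h2 : WidePullback.π gb l z ∈ (I l).support := h1
    rw [← hy] at h2
    exact hl ⟨y, (hIs l y).1 h2, hy⟩
  have hn : ∀ i, ∃ n : ℕ, J i ^ (n + 1) ≤ B.map (WidePullback.π gb i) := fun i => by
    refine exists_pow_le (hJft i) ?_
    rw [Scheme.IdealSheafData.support_map, hJs]
    refine closure_minimal ?_ (o i).opensRange.2.isClosed_compl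
    rintro _ ⟨z, hz, rfl⟩
    exact hBsupp z hz i
  choose n hn using hn
  let E : ∀ i, (Xb i).IdealSheafData := fun i => I i ⊔ J i ^ (n i + 1)
  have hEft : ∀ i, BlowUp.IsFiniteTypeIdeal (E i) := fun i => by
    refine fun V => (LocFG.sup (LocFG.of_fg (hIft i)) (LocFG.of_fg fun V => ?_)).fg V
    rw [Scheme.IdealSheafData.ideal_pow, Pi.pow_apply]
    exact (hJft i V).pow
  have hEd : ∀ i, Disjoint ((E i).support : Set (Xb i)) ((o i).opensRange : Set (Xb i)) := fun i => by
    refine Set.disjoint_left.2 fun x hx hx' => ?_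
    simp only [E, Scheme.IdealSheafData.support_sup, Scheme.IdealSheafData.support_pow_succ] at hx
    have h := hx.2
    simp only [SetLike.mem_coe] at h
    have h : x ∈ ((J i).support : Set (Xb i)) := h
    rw [hJs] at h
    exact h hx'
  choose Xb' c hc using fun i => Groth.L13.BU.exists_isBlowUp (E i)
  have hv' : ∀ i, ∃ v' : U ⟶ Xb' i, v' ≫ c i = v i ≫ o i := fun i => by
    refine ((hc i).2 U (v i ≫ o i) ?_).exists
    rw [Groth.L22.Ideals.comap_eq_top (E i) (v i ≫ o i)
      (fun y h => Set.disjoint_left.1 (hEd i) h ⟨v i y, rfl⟩)]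
    exact Groth.L22.Ideals.isEffCartier_top
  choose v' hv' using hv'
  have w' : ∀ i, v' i ≫ c i ≫ gb i = jU ≫ gX := fun i => by rw [reassoc_of% (hv' i)]; simpa using w i
  refine ⟨E, Xb', c, v', w', fun i => ⟨hc i, ⟨hEft i, hEd i⟩, hv' i⟩, fun z hz => ?_⟩
  by_contra hcon
  push Not at hcon
  -- pass to the product of the blow-ups
  let gb' := fun i => c i ≫ gb i
  let Φ : widePullback S Xb' gb' ⟶ widePullback S Xb gb :=
    WidePullback.lift (WidePullback.base gb') (fun i => WidePullback.π gb' i ≫ c i)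
      (fun i => by rw [Category.assoc]; exact WidePullback.π_arrow gb' i)
  have hΦπ : ∀ i, Φ ≫ WidePullback.π gb i = WidePullback.π gb' i ≫ c i := fun i =>
    WidePullback.lift_π _ _ _ _ _
  set u' := WidePullback.lift (jU ≫ gX) (fun i => v' i) w'
  have hu' : ∀ i, u' ≫ WidePullback.π gb' i = v' i := fun i => WidePullback.lift_π _ _ _ _ _
  have hu : u' ≫ Φ = u := by
    refine WidePullback.hom_ext gb _ _ (fun i => ?_) ?_
    · rw [Category.assoc, hΦπ, reassoc_of% (hu' i), hv']
      exact (WidePullback.lift_π gb (jU ≫ gX) (fun i => v i ≫ o i) w i).symm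
    · have h1 : Φ ≫ WidePullback.base gb = WidePullback.base gb' :=
        WidePullback.lift_base gb _ _ _
      have h2 : u' ≫ WidePullback.base gb' = jU ≫ gX := WidePullback.lift_base gb' _ _ _
      rw [Category.assoc, h1, h2]
      exact (WidePullback.lift_base gb _ _ _).symm
  have hzC : Φ z ∈ closure (Set.range (fun x => u x)) := by
    have h1 : (fun a => Φ a) '' closure (Set.range (fun x => u' x)) ⊆
        closure (Set.range (fun x => u x)) := by
      refine (image_closure_subset_closure_image Φ.continuous).trans (closure_mono ?_)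
      rintro _ ⟨_, ⟨x, rfl⟩, rfl⟩
      exact ⟨x, by rw [← hu]; rfl⟩
    exact h1 ⟨z, hz, rfl⟩
  obtain ⟨i₀, -⟩ := hempty _ hzC
  let e := fun i => ((E i).comap (c i)).comap (WidePullback.π gb' i)
  let K : ∀ i, (Xb' i).IdealSheafData := fun i =>
    colon ((I i).comap (c i)) (LocFG.of_isEffCartier (hc i).1)
  let k := fun i => (K i).comap (WidePullback.π gb' i)
  have hIE : ∀ i, (I i).comap (c i) ≤ (E i).comap (c i) := fun i =>
    Scheme.IdealSheafData.comap_mono (c i) le_sup_left
  have hkl : ∀ l, ((I l).comap (WidePullback.π gb l)).comap Φ ≤ (⨆ i, k i) * ⨆ i, e i := by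
    intro l
    rw [← Scheme.IdealSheafData.comap_comp, hΦπ, Scheme.IdealSheafData.comap_comp,
      ← colon_mul (hc l).1 (hIE l), Groth.L22.Ideals.comap_mul]
    exact mul_mono' (le_iSup k l) (le_iSup e l)
  have hle : (⨆ i, e i) ≤ (⨆ i, k i) * (⨆ i, e i) ⊔ N.comap Φ := by
    refine iSup_le fun i => ?_
    show ((E i).comap (c i)).comap _ ≤ _
    rw [← Scheme.IdealSheafData.comap_comp, ← hΦπ, Scheme.IdealSheafData.comap_comp]
    refine (Scheme.IdealSheafData.comap_mono Φ
      (show (E i).comap (WidePullback.π gb i) ≤ B from ?_)).trans ?_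
    · simp only [E, Scheme.IdealSheafData.comap_sup]
      exact sup_le ((le_iSup (fun l => (I l).comap (WidePullback.π gb l)) i).trans le_sup_left)
        ((Scheme.IdealSheafData.comap_mono _ (hn i)).trans (Scheme.IdealSheafData.comap_map_le _ _))
    · rw [hB]
      refine (Scheme.IdealSheafData.comap_sup _ _ _).le.trans (sup_le ?_ le_sup_right)
      refine ((Scheme.IdealSheafData.map_gc Φ).l_iSup
        (f := fun l => (I l).comap (WidePullback.π gb l))).le.trans (iSup_le fun l => ?_)
      exact (hkl l).trans le_sup_left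
  have hefg : LocFG (⨆ i, e i) := LocFG.of_fg fun V => by
    rw [Scheme.IdealSheafData.ideal_iSup, iSup_apply]
    exact Submodule.fg_iSup _ fun i =>
      (LocFG.comap (LocFG.comap (LocFG.of_fg (hEft i)) (c i)) (WidePullback.π gb' i)).fg V
  refine notMem_closure hefg hle (z := z) ?_ ?_
  · rw [Scheme.IdealSheafData.support_iSup]
    simp only [TopologicalSpace.Closeds.mem_iInf]
    intro i
    simp only [k, Scheme.IdealSheafData.support_comap]
    refine closure_subset_colon (hc i).1 (hIE i) (closure_mono ?_ (hcon i))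
    rintro y ⟨a, ha, hay⟩
    simp only [Scheme.IdealSheafData.support_comap]
    refine ⟨?_, fun h => Set.disjoint_left.1 (hEd i) h ⟨a, hay⟩⟩
    show c i y ∈ (I i).support
    rw [← show o i a = c i y from hay]
    exact (hIs i a).2 ha
  · refine closure_mono ?_ hz
    rintro _ ⟨x, rfl⟩
    refine ⟨?_, fun h => ?_⟩
    · rw [Scheme.IdealSheafData.support_comap]
      show Φ (u' x) ∈ N.support
      rw [← Scheme.Hom.comp_apply, hu]
      exact subset_closure ⟨x, rfl⟩
    · have h1 : u' x ∈ (e i₀).support := Scheme.IdealSheafData.support_antitone (le_iSup e i₀) h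
      simp only [e, Scheme.IdealSheafData.support_comap] at h1
      have h2 : c i₀ (WidePullback.π gb' i₀ (u' x)) ∈ (E i₀).support := h1
      rw [← Scheme.Hom.comp_apply (u') (WidePullback.π gb' i₀), hu', ← Scheme.Hom.comp_apply, hv'] at h2
      exact Set.disjoint_left.1 (hEd i₀) h2 ⟨v i₀ x, rfl⟩


end Groth.Agent.S17394
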