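import Groth.Statements.S17395
import Groth.Agent.L16.CycCov.LogConn

set_option autoImplicit false
universe u
open CycCov

namespace Groth.Agent.S17395

open CategoryTheory AlgebraicGeometry in
/-- Let X be an integral scheme smooth over an algebraically closed field k with a universal derivation
d, D = Σ α_j D_j an effective divisor whose components form a strict normal crossing divisor, L an
invertible module, N ≥ 1 invertible in k and s a section of the N-th tensor power of L with divisor
of zeros D. For 0 ≤ i < N, any tensor inverse M of the module L^{(i)} = L^i ⊗ O_X(−[iD/N]) and any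
module of differentials with logarithmic poles along the reduced divisor D^{(i)} (the components D_j
with N not dividing i·α_j), M carries a logarithmic connection along D^{(i)} admitting residues, and
N times its residue along D_j is (i·α_j mod N) times the canonical map from M to M ⊗ O_{D_j}.
(Integrability of the connection is not asserted here. The published statement assumes X projective;
part (a) is local on X and is stated without properness.) -/
theorem result {k : Type u} [Field k] [IsAlgClosed k] {X : Scheme.{u}}
    (f : X ⟶ Spec (CommRingCat.of k)) [Smooth f] [IsIntegral X]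
    {Ω' : X.Modules} (d : OmegaSh.Der f Ω') (hd : OmegaSh.IsUniversal d)
    (L : X.Modules) (hL : PicF.IsInvertible L) (N : ℕ) (hN : 0 < N) (hNk : (N : k) ≠ 0)
    {r : ℕ} (D : Fin r → X.IdealSheafData) (α : Fin r → ℕ) (hD : LogNCD.IsNCD D f)
    (s : Coh.structureModule X ⟶ CohB1.tensorPow L N) (hs : CycCov.IsZeroDiv (CohB1.tensorPow L N) s (CycCov.divIdeal D α))
    (i : ℕ) (hi : i < N) (M : X.Modules) (hM : ClSub.IsInverseOf (CycCov.intPart L D α N i) M)
    (hDi : LogNCD.IsNCD (CycCov.poleDiv D α N i) f) (Λ : LogNCD.LogMod d (CycCov.poleDiv D α N i)) :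
    ∃ nabla : Coh.toAb M ⟶ Coh.toAb (CohB1.tensorMod M Λ.L),
      ConnSh.IsConn (LogNCD.der Λ) M nabla ∧
      ∀ j : Fin r, ∃ ρ : M ⟶ CohB1.tensorMod M (ClSub.quotMod (CycCov.poleDiv D α N i j)),
        LogNCD.IsResidue Λ M nabla j ρ ∧
        N • ρ = CycCov.resNum α N i j • ((SecTwist.unitorR M).inv ≫ KoszTw.tensorMap (𝟙 M) (ClSub.toSubscheme (CycCov.poleDiv D α N i j))) := by
  obtain ⟨θ⟩ := hM
  exact Groth.L16.CycCov.exists_logConn (Λ := Λ) (θ := θ.hom) hL hN hNk hD hs
end Groth.Agent.S17395
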