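import Groth.Statements.S17410
import Mathlib.RingTheory.AdjoinRoot
import Mathlib.RingTheory.Localization.Integral

set_option autoImplicit false
universe u
open Prym5

namespace Groth.Agent.S17410

/-- Over a perfect field K of characteristic different from 2 and 3, let h be an irreducible polynomial
of degree 2 in the variable z with coefficients in K[x, y] and A = K[x, y][z]/(h). For every
multiplicative subset S of K[x, y], the localisation S⁻¹A is integral over S⁻¹K[x, y] if and only if
the leading coefficient of h is invertible in S⁻¹K[x, y]; and K(x, y) ⊗ A is a K(x, y)-vector space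
of dimension 2. (Geometrically: for a quartic surface with an ordinary double point, written u₂ x₃²
+ 2 u₃ x₃ + u₄ = 0 with the node at (0:0:0:1), the projection from the node restricted to a standard
affine chart of the plane is given by such an algebra A with leading coefficient the dehomogenised
u₂, so the projection is finite of degree two exactly over the locus u₂ ≠ 0. Stated for any
irreducible h of degree 2, which is all the argument uses.) -/
theorem result (K : Type u) [Field K]
    [PerfectField K] (h2 : (2 : K) ≠ 0) (h3 : (3 : K) ≠ 0)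
    (h : Polynomial (MvPolynomial (Fin 2) K)) (hirr : Irreducible h) (hdeg : h.natDegree = 2)
    (S : Submonoid (MvPolynomial (Fin 2) K)) :
    (Algebra.IsIntegral (Localization S) (Localization (Algebra.algebraMapSubmonoid (AdjoinRoot h) S))
        ↔ IsUnit (algebraMap (MvPolynomial (Fin 2) K) (Localization S) h.leadingCoeff))
      ∧ Module.finrank (FractionRing (MvPolynomial (Fin 2) K))
          (TensorProduct (MvPolynomial (Fin 2) K) (FractionRing (MvPolynomial (Fin 2) K)) (AdjoinRoot h)) = 2 := by
  classical
  set R := MvPolynomial (Fin 2) K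
  set K' := FractionRing R
  have hinj : Function.Injective (algebraMap R K') := IsFractionRing.injective R K'
  refine ⟨?_, ?_⟩
  · set R' := Localization S
    set A' := Localization (Algebra.algebraMapSubmonoid (AdjoinRoot h) S)
    set α : A' := algebraMap (AdjoinRoot h) A' (AdjoinRoot.root h) with hα
    have hroot : ∀ g : Polynomial R, Polynomial.aeval α (g.map (algebraMap R R')) = algebraMap (AdjoinRoot h) A' (AdjoinRoot.mk h g) := by
      intro g
      rw [Polynomial.aeval_map_algebraMap, hα, Polynomial.aeval_algebraMap_apply, AdjoinRoot.aeval_eq]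
    constructor
    · intro hint
      by_cases h0 : (0 : R) ∈ S
      · haveI : Subsingleton R' := IsLocalization.subsingleton (M := S) h0
        exact isUnit_of_subsingleton _
      obtain ⟨q, hqm, hq0⟩ := hint.isIntegral α
      set q0 := IsLocalization.integerNormalization S q with hq0def
      obtain ⟨b, hb, hbq⟩ := IsLocalization.integerNormalization_spec S q
      have h1 : Polynomial.aeval α (q0.map (algebraMap R R')) = 0 := by
        rw [hq0def, hbq, ← algebraMap_smul R' b q, map_smul, Polynomial.aeval_def, hq0]
        exact smul_zero (A := Localization (Algebra.algebraMapSubmonoid (AdjoinRoot h) S)) (algebraMap R R' b)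
      rw [hroot, IsLocalization.map_eq_zero_iff (Algebra.algebraMapSubmonoid (AdjoinRoot h) S)] at h1
      obtain ⟨⟨_, c, hc, rfl⟩, hc0⟩ := h1
      have hc1 : AdjoinRoot.mk h (Polynomial.C c) * AdjoinRoot.mk h q0 = 0 := hc0
      rw [← map_mul, AdjoinRoot.mk_eq_zero] at hc1
      clear hc0; rename' hc1 => hc0
      obtain ⟨g, hg⟩ := hc0
      set N := q.natDegree
      have hcoef : algebraMap R R' (q0.coeff N) = algebraMap R R' b := by
        rw [← Polynomial.coeff_map, hq0def, hbq, Polynomial.coeff_smul, Polynomial.Monic.coeff_natDegree hqm,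
          Algebra.smul_def, mul_one]
      obtain ⟨⟨c', hc'⟩, hcc⟩ := (IsLocalization.eq_iff_exists S R').1 hcoef
      simp only at hcc
      have hbc : c' * b ≠ 0 := fun e => h0 (e ▸ S.mul_mem hc' hb)
      have hN : q0.coeff N ≠ 0 := fun e => hbc (by rw [← hcc, e, mul_zero])
      have hdeg : q0.natDegree = N := le_antisymm
        (Polynomial.natDegree_le_iff_coeff_eq_zero.2 fun i hi => Polynomial.notMem_support_iff.1 fun hmem =>
          Polynomial.mem_support_iff.1 (IsLocalization.integerNormalization_support S q hmem)
            (Polynomial.coeff_eq_zero_of_natDegree_lt hi))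
        (Polynomial.le_natDegree_of_ne_zero hN)
      have hc'' : c ≠ 0 := fun e => h0 (e ▸ hc)
      have hlead : h.leadingCoeff * g.leadingCoeff = c * q0.coeff N := by
        rw [← Polynomial.leadingCoeff_mul, ← hg, Polynomial.leadingCoeff_mul, Polynomial.leadingCoeff_C,
          Polynomial.leadingCoeff, hdeg]
      have hu : IsUnit (algebraMap R R' (h.leadingCoeff * (g.leadingCoeff * c'))) := by
        rw [show h.leadingCoeff * (g.leadingCoeff * c') = c * (c' * b) by
          rw [← mul_assoc, hlead, ← hcc]; ring]
        exact IsLocalization.map_units R' ⟨_, S.mul_mem hc (S.mul_mem hc' hb)⟩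
      rw [map_mul] at hu
      exact isUnit_of_mul_isUnit_left hu
    · intro hu
      obtain ⟨w, hw⟩ := hu
      have hαint : IsIntegral R' α := by
        refine ⟨Polynomial.C (↑w⁻¹ : R') * h.map (algebraMap R R'), ?_, ?_⟩
        · refine Polynomial.monic_of_natDegree_le_of_coeff_eq_one h.natDegree
            ((Polynomial.natDegree_C_mul_le _ _).trans Polynomial.natDegree_map_le) ?_
          rw [Polynomial.coeff_C_mul, Polynomial.coeff_map, Polynomial.coeff_natDegree, ← hw, Units.inv_mul]
        · rw [← Polynomial.aeval_def, map_mul, hroot, AdjoinRoot.mk_self, map_zero, mul_zero]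
      refine ⟨fun x => ?_⟩
      obtain ⟨a, ⟨_, s, hs, rfl⟩, rfl⟩ := IsLocalization.exists_mk'_eq (Algebra.algebraMapSubmonoid (AdjoinRoot h) S) x
      obtain ⟨g, rfl⟩ := AdjoinRoot.mk_surjective a
      have hga : IsIntegral R' (algebraMap (AdjoinRoot h) A' (AdjoinRoot.mk h g)) := by
        rw [← hroot]
        exact IsIntegral.of_mem_of_fg _ hαint.fg_adjoin_singleton _ (Polynomial.aeval_mem_adjoin_singleton R' α)
      obtain ⟨w', hw'⟩ := IsLocalization.map_units R' (⟨s, hs⟩ : S)
      have : IsLocalization.mk' A' (AdjoinRoot.mk h g)
          (⟨algebraMap R (AdjoinRoot h) s, s, hs, rfl⟩ : Algebra.algebraMapSubmonoid (AdjoinRoot h) S) =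
          algebraMap R' A' (↑w'⁻¹ : R') * algebraMap (AdjoinRoot h) A' (AdjoinRoot.mk h g) := by
        rw [IsLocalization.mk'_eq_iff_eq_mul]
        simp only [← IsScalarTower.algebraMap_apply R (AdjoinRoot h) A']
        rw [IsScalarTower.algebraMap_apply R R' A', mul_right_comm, ← map_mul, ← hw', Units.inv_mul, map_one, one_mul]
      rw [this]
      exact isIntegral_algebraMap.mul hga
  · let e1 := AdjoinRoot.tensorAlgEquiv (R := R) (T := K') h _ rfl
    let e2 := AdjoinRoot.mapAlgEquiv (Algebra.TensorProduct.rid R K' K')
      (h.map (Algebra.TensorProduct.includeRight (R := R) (A := K') (B := R)).toRingHom)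
      (h.map (algebraMap R K')) (Associated.of_eq (by
        rw [Polynomial.map_map]
        congr 1
        apply RingHom.ext
        intro r
        simp [Algebra.smul_def]))
    have hne : h.map (algebraMap R K') ≠ 0 := (Polynomial.map_ne_zero_iff hinj).2 hirr.ne_zero
    rw [(e1.trans e2).toLinearEquiv.finrank_eq, (AdjoinRoot.powerBasis hne).finrank, AdjoinRoot.powerBasis_dim,
      Polynomial.natDegree_map_eq_of_injective hinj, hdeg]

end Groth.Agent.S17410
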