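import Groth.Statements.S17411
import Groth.Agent.L22.FibreIrr

set_option autoImplicit false
universe u
open CategoryTheory AlgebraicGeometry
open Prym5

namespace Groth.Agent.S17411

/-- Let k be an algebraically closed field of characteristic zero and X, Y, Z schemes of finite type
over k, with Y and Z irreducible of the same dimension, η : Y → Z a dominant k-morphism and ρ : X →
Y a k-morphism. Then the composite ρ ≫ η is dominant exactly when ρ is dominant. (The published
statement concerns the forgetful map from the moduli space of étale double covers of genus-five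
curves to the moduli space of genus-five curves, both irreducible of dimension 12, and a morphism
into the former; its argument uses only the hypotheses kept here.) -/
theorem result (k : Type u) [Field k] [IsAlgClosed k]
    [CharZero k] (X Y Z : Scheme.{u}) [X.Over (Spec (CommRingCat.of k))] [Y.Over (Spec (CommRingCat.of k))]
    [Z.Over (Spec (CommRingCat.of k))]
    [LocallyOfFiniteType (X ↘ Spec (CommRingCat.of k))] [QuasiCompact (X ↘ Spec (CommRingCat.of k))]
    [LocallyOfFiniteType (Y ↘ Spec (CommRingCat.of k))] [QuasiCompact (Y ↘ Spec (CommRingCat.of k))]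
    [LocallyOfFiniteType (Z ↘ Spec (CommRingCat.of k))] [QuasiCompact (Z ↘ Spec (CommRingCat.of k))]
    [IrreducibleSpace Y] [IrreducibleSpace Z] (hdim : topologicalKrullDim Y = topologicalKrullDim Z)
    (ρ : X ⟶ Y) [ρ.IsOver (Spec (CommRingCat.of k))] (η : Y ⟶ Z) [η.IsOver (Spec (CommRingCat.of k))]
    [IsDominant η] :
    IsDominant (ρ ≫ η) ↔ IsDominant ρ := by
  refine ⟨fun h => ?_, fun h => inferInstance⟩
  have : CompactSpace X := QuasiCompact.compactSpace_of_compactSpace (X ↘ Spec (CommRingCat.of k))
  have : IsLocallyNoetherian X := LocallyOfFiniteType.isLocallyNoetherian (X ↘ Spec (CommRingCat.of k))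
  have : AlgebraicGeometry.IsNoetherian X := {}
  have hη : η ≫ (Z ↘ Spec (CommRingCat.of k)) = (Y ↘ Spec (CommRingCat.of k)) := comp_over η _
  have : LocallyOfFiniteType η := by
    have : LocallyOfFiniteType (η ≫ (Z ↘ Spec (CommRingCat.of k))) := by rw [hη]; infer_instance
    exact locallyOfFiniteType_of_comp η (Z ↘ Spec (CommRingCat.of k))
  have hζ : ∀ z : Z, z ⤳ genericPoint Z → z = genericPoint Z := fun z hz =>
    ((genericPoint_specializes z).antisymm hz).eq.symm
  obtain ⟨x, hx⟩ := Groth.L22.FibreDim.exists_map_eq_of_maximal (ρ ≫ η) h.denseRange hζ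
  obtain ⟨a, b, ha, -, hab⟩ := Groth.L22.FibreDim.exists_dim_closure_add k η hη (ρ x)
  rw [show η (ρ x) = genericPoint Z from hx, genericPoint_closure] at ha
  rw [(Homeomorph.Set.univ Z).isHomeomorph.topologicalKrullDim_eq] at ha
  have hξ : ρ x = genericPoint Y := by
    by_contra hne
    have hlt := Groth.L22.FibreIrr.dim_lt_of_specializes (genericPoint_specializes (ρ x))
      (fun h' => hne ((genericPoint_specializes (ρ x)).antisymm h').eq.symm)
    rw [genericPoint_closure, (Homeomorph.Set.univ Y).isHomeomorph.topologicalKrullDim_eq, hdim, ha, hab] at hlt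
    norm_cast at hlt
    omega
  refine ⟨?_⟩
  rw [denseRange_iff_closure_range, Set.eq_univ_iff_forall]
  intro y
  have : closure ({ρ x} : Set Y) ⊆ closure (Set.range ρ) := closure_mono (Set.singleton_subset_iff.2 ⟨x, rfl⟩)
  exact this (hξ ▸ (genericPoint_specializes y).mem_closure)

end Groth.Agent.S17411
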