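import Groth.Statements.S17413
import Groth.Agent.L13.CotInj
import Groth.Agent.L21.Nodal.Node
import Groth.Agent.L21.Smooth.Scheme
import Groth.Agent.L20.SmoothAt.Global
import Groth.Agent.L22.FibreDim

set_option autoImplicit false
universe u
open CategoryTheory AlgebraicGeometry
open Prym5

namespace Groth.Agent.S17413

open IsLocalRing TopologicalSpace

theorem exists_sub_stalkMap_mem {k : Type u} [Field k] [IsAlgClosed k] {X Y : Scheme.{u}}
    [X.Over (Spec (CommRingCat.of k))] [Y.Over (Spec (CommRingCat.of k))]
    [LocallyOfFiniteType (X ↘ Spec (CommRingCat.of k))] (u : X ⟶ Y)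
    (hu : u ≫ (Y ↘ Spec (CommRingCat.of k)) = X ↘ Spec (CommRingCat.of k))
    (P : X) (hP : IsClosed ({P} : Set X)) (b : X.presheaf.stalk P) :
    ∃ a : Y.presheaf.stalk (u P), b - (u.stalkMap P).hom a ∈ maximalIdeal (X.presheaf.stalk P) := by
  obtain ⟨c, hc⟩ := Groth.L21.Nodal.resMap_surjective (k := k) P hP ((X.residue P).hom b)
  refine ⟨Curv2.stalkMap k Y (u P) c, ?_⟩
  rw [Groth.L21.Nodal.stalkMap_comp_stalkMap u hu P c, ← IsLocalRing.residue_eq_zero_iff]
  change (X.residue P).hom (b - Curv2.stalkMap k X P c) = 0
  rw [map_sub, sub_eq_zero, ← hc]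
  rfl


/-- Let k be an algebraically closed field of characteristic zero, X a reduced scheme of finite type
over k, Y an integral scheme of finite type over k and u : X → Y a k-morphism. Then u is dominant if
and only if there is a closed point P of X such that X is regular at P and the differential of u at
P is surjective onto the tangent space of Y at u(P); surjectivity of the differential is written
dually as injectivity of the map of cotangent spaces m_{u(P)}/m_{u(P)}² → m_P/m_P² induced by the
local homomorphism of u at P. (The published statement asks only that Y be irreducible, puts no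
condition on P and concludes that the scheme-theoretic image is all of Y. Without regularity at P
the backward implication fails: the inclusion of the union of the two coordinate axes into the
affine plane induces a bijection of tangent spaces at the origin and is not dominant. Without
reducedness of Y the forward implication fails: the reduced line inside the doubled line y² = 0 is
dominant but its differential is nowhere surjective. For Y integral and u quasi-compact, dominance
is the same as the scheme-theoretic image being Y.) -/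
theorem result (k : Type u) [Field k]
    [IsAlgClosed k] [CharZero k] (X Y : Scheme.{u})
    [X.Over (Spec (CommRingCat.of k))] [Y.Over (Spec (CommRingCat.of k))]
    [LocallyOfFiniteType (X ↘ Spec (CommRingCat.of k))] [QuasiCompact (X ↘ Spec (CommRingCat.of k))]
    [LocallyOfFiniteType (Y ↘ Spec (CommRingCat.of k))] [QuasiCompact (Y ↘ Spec (CommRingCat.of k))]
    [AlgebraicGeometry.IsReduced X] [AlgebraicGeometry.IsIntegral Y] (u : X ⟶ Y) [u.IsOver (Spec (CommRingCat.of k))] :
    IsDominant u ↔
      ∃ P : X, IsClosed ({P} : Set X) ∧ IsRegularLocalRing (X.presheaf.stalk P) ∧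
        ∀ a ∈ IsLocalRing.maximalIdeal (Y.presheaf.stalk (u P)),
          (u.stalkMap P).hom a ∈ IsLocalRing.maximalIdeal (X.presheaf.stalk P) ^ 2 →
            a ∈ IsLocalRing.maximalIdeal (Y.presheaf.stalk (u P)) ^ 2 := by
  have hu : u ≫ (Y ↘ Spec (CommRingCat.of k)) = X ↘ Spec (CommRingCat.of k) := comp_over u _
  haveI : IsLocallyNoetherian X :=
    LocallyOfFiniteType.isLocallyNoetherian (X ↘ Spec (CommRingCat.of k))
  haveI : IsLocallyNoetherian Y :=
    LocallyOfFiniteType.isLocallyNoetherian (Y ↘ Spec (CommRingCat.of k))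
  haveI : CompactSpace X := QuasiCompact.compactSpace_of_compactSpace (X ↘ Spec (CommRingCat.of k))
  haveI : IsNoetherian X := {}
  haveI hlft : LocallyOfFiniteType u := by
    haveI : LocallyOfFiniteType (u ≫ (Y ↘ Spec (CommRingCat.of k))) := by rw [hu]; infer_instance
    exact locallyOfFiniteType_of_comp u (Y ↘ Spec (CommRingCat.of k))
  haveI : JacobsonSpace X := LocallyOfFiniteType.jacobsonSpace (X ↘ Spec (CommRingCat.of k))
  have hmax : ∀ y : Y, y ⤳ genericPoint Y → y = genericPoint Y := fun y hy =>
    (hy.antisymm (genericPoint_specializes y)).eq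
  constructor
  · intro hdom
    obtain ⟨x', hx'⟩ := Groth.L22.FibreDim.exists_map_eq_of_maximal u hdom.denseRange hmax
    obtain ⟨x₀, hspec, hx₀⟩ := Groth.L22.FibreDim.exists_maximal_specializes x'
    have hη : u x₀ = genericPoint Y := hmax _ (hx' ▸ hspec.map u.continuous)
    have hx₀s : x₀ ∈ u.smoothLocus := by
      have hf1 : IsField (X.presheaf.stalk x₀) := by
        haveI : Subsingleton (PrimeSpectrum (X.presheaf.stalk x₀)) := ⟨fun p q => by
          have hr : ∀ r : PrimeSpectrum (X.presheaf.stalk x₀), X.fromSpecStalk x₀ r = x₀ := fun r =>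
            hx₀ _ (by
              have hmem : X.fromSpecStalk x₀ r ∈ Set.range (X.fromSpecStalk x₀) := ⟨r, rfl⟩
              rw [Scheme.range_fromSpecStalk] at hmem
              exact hmem)
          exact (X.fromSpecStalk x₀).isEmbedding.injective ((hr p).trans (hr q).symm)⟩
        rw [IsLocalRing.isField_iff_maximalIdeal_eq, ← le_bot_iff,
          ← Ideal.zero_eq_bot, ← nilradical_eq_zero (X.presheaf.stalk x₀)]
        intro a ha
        rw [nilradical_eq_sInf, Submodule.mem_sInf]
        intro J hJ
        have := Subsingleton.elim (⟨J, hJ⟩ : PrimeSpectrum (X.presheaf.stalk x₀))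
          ⟨maximalIdeal _, inferInstance⟩
        exact (congrArg PrimeSpectrum.asIdeal this).ge ha
      have hf2 : IsField (Y.presheaf.stalk (u x₀)) := by
        rw [hη]; exact Field.toIsField Y.functionField
      have hess := LocallyOfFiniteType.stalkMap u x₀
      rw [Scheme.Hom.mem_smoothLocus]
      letI := hf1.toField
      letI := hf2.toField
      haveI : CharZero (Y.presheaf.stalk (u x₀)) :=
        charZero_of_injective_ringHom (Curv2.stalkMap k Y (u x₀)).injective
      algebraize [(u.stalkMap x₀).hom]
      exact Algebra.FormallySmooth.of_perfectField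
    obtain ⟨W, hW1, hW2⟩ : ∃ W : X.Opens, (W : Set X).Nonempty ∧
        W ≤ u.smoothLocus ⊓ (X ↘ Spec (CommRingCat.of k)).smoothLocus :=
      ⟨_, ((X ↘ Spec (CommRingCat.of k)).dense_smoothLocus_of_perfectField).inter_open_nonempty _
        u.smoothLocus.2 ⟨x₀, hx₀s⟩, le_rfl⟩
    obtain ⟨P, hPW, hP⟩ := nonempty_inter_closedPoints hW1 W.2.isLocallyClosed
    rw [mem_closedPoints_iff] at hP
    refine ⟨P, hP, ?_, fun a ha h2 => ?_⟩
    · have hs := Groth.L20.SmoothAt.smooth_ι_smoothLocus (X ↘ Spec (CommRingCat.of k))
      let Q : ((X ↘ Spec (CommRingCat.of k)).smoothLocus : X.Opens) := ⟨P, (hW2 hPW).2⟩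
      haveI := Groth.L21.Smooth.regular_stalk (((X ↘ Spec (CommRingCat.of k)).smoothLocus.ι) ≫
        (X ↘ Spec (CommRingCat.of k))) Q
      exact IsRegularLocalRing.of_ringEquiv
        ((X ↘ Spec (CommRingCat.of k)).smoothLocus.stalkIso Q).commRingCatIsoToRingEquiv
    · exact Groth.L13.CotInj.mem_sq_of_formallySmooth _ (Scheme.Hom.mem_smoothLocus.mp (hW2 hPW).1)
        (fun c hc => map_nonunit _ c hc) (exists_sub_stalkMap_mem u hu P hP) ha h2
  · rintro ⟨P, hP, hreg, hcot⟩
    have hinj := Groth.L13.CotInj.injective_of_mem_sq _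
      (fun c hc => map_nonunit (u.stalkMap P).hom c hc)
      (exists_sub_stalkMap_mem u hu P hP) hcot
    haveI : IsDomain (X.presheaf.stalk P) := Groth.L01.isDomain_of_regular _
    haveI : IsDomain (Y.presheaf.stalk (u P)) := hinj.isDomain _
    let p : Spec (X.presheaf.stalk P) := (⟨⊥, Ideal.isPrime_bot⟩ : PrimeSpectrum _)
    have hu0 : u (X.fromSpecStalk P p) = genericPoint Y := by
      refine hmax _ ?_
      have hmem : genericPoint Y ∈ Set.range (Y.fromSpecStalk (u P)) := by
        rw [Scheme.range_fromSpecStalk]
        exact genericPoint_specializes _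
      obtain ⟨q, hq⟩ := hmem
      have h1 : Spec.map (u.stalkMap P) p ⤳ q := by
        refine (PrimeSpectrum.le_iff_specializes _ _).mp ?_
        show (⊥ : Ideal _).comap (u.stalkMap P).hom ≤ q.asIdeal
        rw [← RingHom.ker_eq_comap_bot, (RingHom.injective_iff_ker_eq_bot _).mp hinj]
        exact bot_le
      have h3 : u (X.fromSpecStalk P p) = Y.fromSpecStalk (u P) (Spec.map (u.stalkMap P) p) := by
        rw [← Scheme.Hom.comp_apply, ← Scheme.Hom.comp_apply,
          Scheme.SpecMap_stalkMap_fromSpecStalk]
      rw [h3, ← hq]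
      exact h1.map (Y.fromSpecStalk (u P)).continuous
    refine ⟨fun y => ?_⟩
    exact closure_mono (show ({genericPoint Y} : Set Y) ⊆ Set.range u from Set.singleton_subset_iff.mpr ⟨_, hu0⟩)
      (genericPoint_specializes y).mem_closure

end Groth.Agent.S17413
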