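import Groth.Statements.S17414
import Mathlib.Tactic.Ring
import Mathlib.Tactic.LinearCombination
import Mathlib.Tactic.Linarith
import Mathlib.Tactic.FieldSimp
import Mathlib.RingTheory.MvPolynomial.Ideal
import Mathlib.Algebra.Polynomial.Basic
import Mathlib.RingTheory.Ideal.Maps
import Mathlib.Algebra.MvPolynomial.Rename

set_option autoImplicit false
universe u
open Prym5

namespace Groth.Agent.S17414

open MvPolynomial

theorem mem_m_iff {σ : Type*} {R : Type*} [CommRing R] (f : MvPolynomial σ R) :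
    f ∈ Ideal.span (Set.range (X : σ → MvPolynomial σ R)) ↔ constantCoeff f = 0 := by
  constructor
  · intro h
    refine Submodule.span_induction ?_ (map_zero _) (fun a b _ _ ha hb => by rw [map_add, ha, hb, add_zero])
      (fun a b _ hb => by rw [smul_eq_mul, map_mul, hb, mul_zero]) h
    rintro _ ⟨i, rfl⟩
    exact constantCoeff_X (R := R) i
  · intro h
    rw [← Set.image_univ, mem_ideal_span_X_image]
    intro m hm
    by_contra hc
    push Not at hc
    obtain rfl : m = 0 := Finsupp.ext fun i => hc i (Set.mem_univ i)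
    exact (mem_support_iff.mp hm) (by rwa [constantCoeff_eq] at h)

theorem mem_of_quad {K : Type*} [Field K] (h2 : (2 : K) ≠ 0) (G₂ G₃ G₄ : MvPolynomial (Fin 2) K)
    (h : rename (Fin.castSucc : Fin 2 → Fin 3) G₂ * X (2 : Fin 3) ^ 2
        + 2 * rename (Fin.castSucc : Fin 2 → Fin 3) G₃ * X (2 : Fin 3)
        + rename (Fin.castSucc : Fin 2 → Fin 3) G₄
        ∈ (Ideal.span (Set.range (X : Fin 3 → MvPolynomial (Fin 3) K))) ^ 2) :
    G₃ ∈ Ideal.span (Set.range (X : Fin 2 → MvPolynomial (Fin 2) K)) ∧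
      G₄ ∈ (Ideal.span (Set.range (X : Fin 2 → MvPolynomial (Fin 2) K))) ^ 2 := by
  constructor
  · let e : MvPolynomial (Fin 3) K →ₐ[K] Polynomial K := aeval ![0, 0, Polynomial.X]
    have hcomp : ∀ G : MvPolynomial (Fin 2) K,
        e (rename (Fin.castSucc : Fin 2 → Fin 3) G) = Polynomial.C (constantCoeff G) := fun G => by
      have : e.comp (rename (Fin.castSucc : Fin 2 → Fin 3)) =
          (IsScalarTower.toAlgHom K K (Polynomial K)).comp
            (aeval (fun _ : Fin 2 => (0 : K))) := by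
        refine algHom_ext fun i => ?_
        fin_cases i <;> simp [e]
      have h' := DFunLike.congr_fun this G
      simpa using h'
    have hmem : e _ ∈ (Ideal.span {(Polynomial.X : Polynomial K)}) ^ 2 :=
      Ideal.pow_right_mono (by
        rw [Ideal.map_le_iff_le_comap, Ideal.span_le]
        rintro _ ⟨i, rfl⟩
        fin_cases i <;> simp [e, Ideal.mem_span_singleton_self]) 2
        ((Ideal.map_pow (e : MvPolynomial (Fin 3) K →+* Polynomial K) _ 2) ▸ Ideal.mem_map_of_mem _ h)
    rw [Ideal.span_singleton_pow, Ideal.mem_span_singleton, Polynomial.X_pow_dvd_iff] at hmem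
    have h1 := hmem 1 one_lt_two
    have hz : e (X (2 : Fin 3)) = Polynomial.X := by simp [e]
    simp only [map_add, map_mul, map_pow, map_ofNat, hcomp, hz] at h1
    rw [show (2 : Polynomial K) = Polynomial.C 2 from (map_ofNat Polynomial.C 2).symm, ← map_mul] at h1
    simp only [Polynomial.coeff_add, Polynomial.coeff_C_mul, Polynomial.coeff_X_pow, Polynomial.coeff_X_one,
      Polynomial.coeff_C_succ, OfNat.one_ne_ofNat, if_false, mul_zero, zero_add, add_zero, mul_one] at h1
    rw [mem_m_iff]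
    exact (mul_eq_zero.mp h1).resolve_left h2
  · let e : MvPolynomial (Fin 3) K →ₐ[K] MvPolynomial (Fin 2) K := aeval ![X 0, X 1, 0]
    have hcomp : ∀ G : MvPolynomial (Fin 2) K, e (rename (Fin.castSucc : Fin 2 → Fin 3) G) = G := fun G => by
      have : e.comp (rename (Fin.castSucc : Fin 2 → Fin 3)) = AlgHom.id K _ := by
        refine algHom_ext fun i => ?_
        fin_cases i <;> simp [e]
      exact DFunLike.congr_fun this G
    have hmem : e _ ∈ (Ideal.span (Set.range (X : Fin 2 → MvPolynomial (Fin 2) K))) ^ 2 :=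
      Ideal.pow_right_mono (by
        rw [Ideal.map_le_iff_le_comap, Ideal.span_le]
        rintro _ ⟨i, rfl⟩
        fin_cases i <;> simp [e] <;> exact Ideal.subset_span ⟨_, rfl⟩) 2
        ((Ideal.map_pow (e : MvPolynomial (Fin 3) K →+* MvPolynomial (Fin 2) K) _ 2) ▸ Ideal.mem_map_of_mem _ h)
    have hz : e (X (2 : Fin 3)) = 0 := by simp [e]
    simpa [map_add, map_mul, map_pow, hcomp, hz] using hmem


/-- Over a perfect field K of characteristic different from 2 and 3, let G₂, G₃, G₄ be polynomials in x,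
y, let h = G₂ z² + 2 G₃ z + G₄ in K[x, y, z] and D = G₃² − G₂ G₄ in K[x, y]. Suppose h ∈ (x, y, z) —
the origin Q lies on the surface h = 0 — and D ∈ (x, y) — the image of Q under (x, y, z) ↦ (x, y)
lies on the discriminant curve D = 0. Then D ∈ (x, y)², i.e. the image point is singular on the
discriminant curve, if and only if either h ∈ (x, y, z)², i.e. Q is a singular point of the surface,
or G₂, G₃, G₄ ∈ (x, y), i.e. Q lies on all three cones G₂ = G₃ = G₄ = 0. (Affine-local form, in a
chart where the node projected from sits at infinity on the z-axis and Q at the origin, of the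
published claim: for a point Q ≠ P of the nodal quartic whose projection lies on the branch sextic,
the projection is singular on the sextic exactly when Q is singular on the quartic or lies on the
cones u₂ = u₃ = u₄ = 0.) -/
theorem result (K : Type u) [Field K] [PerfectField K]
    (h2 : (2 : K) ≠ 0) (h3 : (3 : K) ≠ 0) (G₂ G₃ G₄ : MvPolynomial (Fin 2) K)
    (hQ : MvPolynomial.rename (Fin.castSucc : Fin 2 → Fin 3) G₂ * MvPolynomial.X (2 : Fin 3) ^ 2
        + 2 * MvPolynomial.rename (Fin.castSucc : Fin 2 → Fin 3) G₃ * MvPolynomial.X (2 : Fin 3)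
        + MvPolynomial.rename (Fin.castSucc : Fin 2 → Fin 3) G₄
        ∈ Ideal.span (Set.range (MvPolynomial.X : Fin 3 → MvPolynomial (Fin 3) K)))
    (hD : G₃ ^ 2 - G₂ * G₄ ∈ Ideal.span (Set.range (MvPolynomial.X : Fin 2 → MvPolynomial (Fin 2) K))) :
    G₃ ^ 2 - G₂ * G₄ ∈ (Ideal.span (Set.range (MvPolynomial.X : Fin 2 → MvPolynomial (Fin 2) K))) ^ 2 ↔
      (MvPolynomial.rename (Fin.castSucc : Fin 2 → Fin 3) G₂ * MvPolynomial.X (2 : Fin 3) ^ 2
          + 2 * MvPolynomial.rename (Fin.castSucc : Fin 2 → Fin 3) G₃ * MvPolynomial.X (2 : Fin 3)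
          + MvPolynomial.rename (Fin.castSucc : Fin 2 → Fin 3) G₄
          ∈ (Ideal.span (Set.range (MvPolynomial.X : Fin 3 → MvPolynomial (Fin 3) K))) ^ 2 ∨
        (G₂ ∈ Ideal.span (Set.range (MvPolynomial.X : Fin 2 → MvPolynomial (Fin 2) K)) ∧
          G₃ ∈ Ideal.span (Set.range (MvPolynomial.X : Fin 2 → MvPolynomial (Fin 2) K)) ∧
          G₄ ∈ Ideal.span (Set.range (MvPolynomial.X : Fin 2 → MvPolynomial (Fin 2) K)))) := by
  set M := Ideal.span (Set.range (MvPolynomial.X : Fin 3 → MvPolynomial (Fin 3) K))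
  set m := Ideal.span (Set.range (MvPolynomial.X : Fin 2 → MvPolynomial (Fin 2) K)) with hm
  have hmap : m.map (rename (Fin.castSucc : Fin 2 → Fin 3) : MvPolynomial (Fin 2) K →ₐ[K] _) ≤ M := by
    rw [hm, Ideal.map_le_iff_le_comap, Ideal.span_le]
    rintro _ ⟨i, rfl⟩
    show rename (Fin.castSucc : Fin 2 → Fin 3) (X i) ∈ M
    rw [rename_X]
    exact Ideal.subset_span ⟨_, rfl⟩
  have hG₄ : G₄ ∈ m := by
    rw [hm, mem_m_iff]
    have h := (mem_m_iff _).mp hQ
    simpa [constantCoeff_rename] using h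
  have hG₃ : G₃ ∈ m := by
    rw [hm, mem_m_iff] at hD hG₄ ⊢
    rw [map_sub, map_mul, map_pow, hG₄, mul_zero, sub_zero] at hD
    exact pow_eq_zero_iff two_ne_zero |>.mp hD
  constructor
  · intro h
    by_cases hG₂ : G₂ ∈ m
    · exact Or.inr ⟨hG₂, hG₃, hG₄⟩
    · left
      have hprod : G₂ * G₄ ∈ m ^ 2 := by
        have := Ideal.sub_mem _ (Ideal.pow_mem_pow hG₃ 2) h
        simpa using this
      have hc : constantCoeff G₂ ≠ 0 := fun h0 => hG₂ ((mem_m_iff _).mpr h0)
      have h1 : MvPolynomial.C (constantCoeff G₂) * G₄ ∈ m ^ 2 := by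
        have h2' : (G₂ - MvPolynomial.C (constantCoeff G₂)) * G₄ ∈ m ^ 2 := by
          rw [pow_two m]; exact Ideal.mul_mem_mul ((mem_m_iff _).mpr (by simp)) hG₄
        have := Ideal.sub_mem _ hprod h2'
        rwa [sub_mul, sub_sub_cancel] at this
      have hG₄2 : G₄ ∈ m ^ 2 := by
        have := Ideal.mul_mem_left _ (MvPolynomial.C (constantCoeff G₂)⁻¹) h1
        rwa [← mul_assoc, ← map_mul, inv_mul_cancel₀ hc, map_one, one_mul] at this
      have hzM : (X (2 : Fin 3) : MvPolynomial (Fin 3) K) ∈ M := Ideal.subset_span ⟨_, rfl⟩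
      refine Ideal.add_mem _ (Ideal.add_mem _ (Ideal.mul_mem_left _ _ (Ideal.pow_mem_pow hzM 2)) ?_) ?_
      · rw [pow_two M]
        exact Ideal.mul_mem_mul (Ideal.mul_mem_left _ _ (hmap (Ideal.mem_map_of_mem _ hG₃))) hzM
      · exact Ideal.pow_right_mono hmap 2
          ((Ideal.map_pow (rename (Fin.castSucc : Fin 2 → Fin 3) :
            MvPolynomial (Fin 2) K →ₐ[K] MvPolynomial (Fin 3) K) m 2) ▸ Ideal.mem_map_of_mem _ hG₄2)
  · rintro (h | ⟨hG₂, -, -⟩)
    · obtain ⟨h₃, h₄⟩ := mem_of_quad h2 G₂ G₃ G₄ h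
      exact Ideal.sub_mem _ (Ideal.pow_mem_pow h₃ 2) (Ideal.mul_mem_left _ _ h₄)
    · exact Ideal.sub_mem _ (Ideal.pow_mem_pow hG₃ 2) (pow_two m ▸ Ideal.mul_mem_mul hG₂ hG₄)

end Groth.Agent.S17414
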