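import Groth.Statements.S17417
import Groth.Agent.L17.FlatPair.Flat
import Groth.Agent.L05.Prufer.Sheaf
import Groth.Agent.L16.AffineBC.Pullback
import Groth.Agent.L20.ModStalk

set_option autoImplicit false
open CategoryTheory CategoryTheory.Limits AlgebraicGeometry
universe u
open ModSt

namespace Groth.Agent.S17417

section Helpers

theorem isFP_pullback {X Y : Scheme.{u}} (f : X ⟶ Y) (M : Y.Modules) (hM : CohB1.IsFP M) :
    CohB1.IsFP ((Scheme.Modules.pullback f).obj M) := by
  haveI := Groth.L05.Prufer.isQCoh_of_isFP hM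
  haveI := Groth.L16.AffineBC.isQCoh_pullback f M
  refine Groth.L05.Prufer.isFP_of_sections _ fun x => ?_
  obtain ⟨V, hV, hxV, -⟩ := exists_isAffineOpen_mem_and_subset (x := f x) (U := (⊤ : Y.Opens)) trivial
  obtain ⟨W, hW, hxW, hWV⟩ := exists_isAffineOpen_mem_and_subset (x := x) (U := f ⁻¹ᵁ V) hxV
  refine ⟨W, hW, hxW, ?_⟩
  letI : Algebra Γ(Y, V) Γ(X, W) := (f.appLE V W hWV).hom.toAlgebra
  letI := Module.compHom Γ((Scheme.Modules.pullback f).obj M, W) (f.appLE V W hWV).hom
  haveI : IsScalarTower Γ(Y, V) Γ(X, W) Γ((Scheme.Modules.pullback f).obj M, W) :=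
    IsScalarTower.of_algebraMap_smul fun _ _ => rfl
  haveI := Groth.L20.ModStalk.finitePresentation_sections M hM hV
  exact Module.FinitePresentation.of_equiv (Groth.L16.AffineBC.isBaseChange_pull f M hV hW hWV).equiv

theorem cart_factor {Y Z W : Scheme.{u}} {h₁ : Y ⟶ Z} {h₂ : Z ⟶ W} {P : W.Modules} {N : Z.Modules}
    {M : Y.Modules} {c₂ : P ⟶ (Scheme.Modules.pushforward h₂).obj N} (hc₂ : ModSt.IsCart h₂ c₂)
    {t : Y ⟶ W} (ht : t = h₁ ≫ h₂) {c₃ : P ⟶ (Scheme.Modules.pushforward t).obj M}
    (hc₃ : ModSt.IsCart t c₃) :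
    ∃ c : N ⟶ (Scheme.Modules.pushforward h₁).obj M, ModSt.IsCart h₁ c ∧
      HEq (c₂ ≫ (Scheme.Modules.pushforward h₂).map c ≫ (Scheme.Modules.pushforwardComp h₁ h₂).hom.app M) c₃ ∧
      ∀ c' : N ⟶ (Scheme.Modules.pushforward h₁).obj M,
        HEq (c₂ ≫ (Scheme.Modules.pushforward h₂).map c' ≫
          (Scheme.Modules.pushforwardComp h₁ h₂).hom.app M) c₃ → c' = c := by
  subst ht
  obtain ⟨c, hc⟩ := (hc₂ _).2 (c₃ ≫ (Scheme.Modules.pushforwardComp h₁ h₂).inv.app M)
  dsimp only at hc
  have hc' : c₂ ≫ (Scheme.Modules.pushforward h₂).map c ≫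
      (Scheme.Modules.pushforwardComp h₁ h₂).hom.app M = c₃ := by
    rw [← Category.assoc, hc, Category.assoc, Iso.inv_hom_id_app]
    exact Category.comp_id c₃
  refine ⟨c, fun M' => ?_, heq_of_eq hc', fun c' hc'' => (hc₂ _).1 ?_⟩
  · have heq : (fun v : M ⟶ M' => c₃ ≫ (Scheme.Modules.pushforward (h₁ ≫ h₂)).map v) =
        ((Scheme.Modules.pushforwardComp h₁ h₂).app M').homToEquiv ∘
          (fun w : N ⟶ (Scheme.Modules.pushforward h₁).obj M' =>
            c₂ ≫ (Scheme.Modules.pushforward h₂).map w) ∘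
          (fun v : M ⟶ M' => c ≫ (Scheme.Modules.pushforward h₁).map v) := by
      funext v
      simp only [Function.comp_apply, Iso.homToEquiv_apply, Iso.app_hom, Category.assoc, Functor.map_comp]
      rw [← hc']
      simp only [Category.assoc]
      rw [← (Scheme.Modules.pushforwardComp h₁ h₂).hom.naturality v]
      rfl
    have h3 := hc₃ M'
    rw [heq] at h3
    exact ((hc₂ _).of_comp_iff' _).1 (((Equiv.bijective _).of_comp_iff' _).1 h3)
  · dsimp only
    rw [hc, ← eq_of_heq hc'', Category.assoc, Category.assoc, Iso.hom_inv_id_app]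
    exact congrArg (c₂ ≫ ·) (Category.comp_id _).symm

variable {X S : Scheme.{u}} {f : X ⟶ S}

theorem homExt {A B : ModSt.Obj f} {φ ψ : A ⟶ B} (hb : φ.base = ψ.base) (ht : φ.top = ψ.top)
    (hc : HEq φ.c ψ.c) : φ = ψ := by
  change ModSt.Obj.Hom A B at φ ψ
  obtain ⟨b, t, wp, wq, c, h⟩ := φ
  obtain ⟨b', t', wp', wq', c', h'⟩ := ψ
  cases hb
  cases ht
  cases hc
  rfl

theorem lift_unique {z y x : ModSt.Obj f} (φ : y ⟶ x) (ψ : z ⟶ x) (χ χ' : z ⟶ y)
    (hb : χ.base = χ'.base) (ht : χ.top = χ'.top)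
    (hu : ∃ c : y.E ⟶ (Scheme.Modules.pushforward χ.top).obj z.E,
      (∀ c' : y.E ⟶ (Scheme.Modules.pushforward χ.top).obj z.E,
        HEq (φ.c ≫ (Scheme.Modules.pushforward φ.top).map c' ≫
          (Scheme.Modules.pushforwardComp χ.top φ.top).hom.app z.E) ψ.c → c' = c) ∧ HEq χ.c c)
    (h : χ' ≫ φ = ψ) : χ' = χ := by
  obtain ⟨c, hu, hc⟩ := hu
  subst h
  change ModSt.Obj.Hom z y at χ χ'
  obtain ⟨b, t, wp, wq, cc, hh⟩ := χ
  obtain ⟨b', t', wp', wq', c', hh'⟩ := χ'
  cases hb
  cases ht
  obtain rfl := eq_of_heq hc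
  obtain rfl : c' = cc := hu c' HEq.rfl
  rfl

theorem existsUnique_lift {z y x : ModSt.Obj f} (φ : y ⟶ x) (ψ : z ⟶ x) (g : z.base ⟶ y.base)
    (hg : g ≫ φ.base = ψ.base) : ∃! χ : z ⟶ y, χ.base = g ∧ χ ≫ φ = ψ := by
  have hsq := ModSt.Obj.Hom.isPullback_top φ
  have hw : ψ.top ≫ x.q = (z.q ≫ g.left) ≫ φ.base.left := by
    rw [ψ.w_q, Category.assoc, ← Over.comp_left, hg]
  let top := hsq.lift ψ.top (z.q ≫ g.left) hw
  have ht : ψ.top = top ≫ φ.top := (hsq.lift_fst _ _ _).symm
  obtain ⟨c, hcart, hc, huniq⟩ := cart_factor φ.cart ht ψ.cart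
  let χ : z ⟶ y :=
    { base := g
      top := top
      w_p := by rw [← φ.w_p, ← Category.assoc, ← ht, ψ.w_p]
      w_q := hsq.lift_snd _ _ _
      c := c
      cart := hcart }
  refine ⟨χ, ⟨rfl, homExt hg ht.symm hc⟩, fun χ' h => ?_⟩
  obtain ⟨hb, hc''⟩ := h
  have e : χ'.top = top := by
    apply hsq.hom_ext
    · rw [← ht, ← hc'']
      rfl
    · rw [χ'.w_q, hsq.lift_snd, hb]
  exact lift_unique φ ψ χ χ' hb.symm e.symm ⟨c, fun c' h => huniq c' h, HEq.rfl⟩ hc''

/-- Base change of an object. -/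
noncomputable def pull (A : ModSt.Obj f) {T : Over S} (g : T ⟶ A.base) : ModSt.Obj f where
  base := T
  XT := pullback A.q g.left
  p := pullback.fst A.q g.left ≫ A.p
  q := pullback.snd A.q g.left
  isPullback := by
    have h := (IsPullback.of_hasPullback A.q g.left).flip.paste_vert A.isPullback.flip
    rw [Over.w g] at h
    exact h.flip
  E := (Scheme.Modules.pullback (pullback.fst A.q g.left)).obj A.E

/-- The morphism from the base change. -/
noncomputable def pullHom (A : ModSt.Obj f) {T : Over S} (g : T ⟶ A.base) : pull A g ⟶ A where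
  base := g
  top := pullback.fst A.q g.left
  w_p := rfl
  w_q := pullback.condition
  c := (Scheme.Modules.pullbackPushforwardAdjunction (pullback.fst A.q g.left)).unit.app A.E
  cart := fun M' => by
    have heq : (fun v : (pull A g).E ⟶ M' =>
        (Scheme.Modules.pullbackPushforwardAdjunction (pullback.fst A.q g.left)).unit.app A.E ≫
          (Scheme.Modules.pushforward (pullback.fst A.q g.left)).map v) =
        (Scheme.Modules.pullbackPushforwardAdjunction (pullback.fst A.q g.left)).homEquiv A.E M' := by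
      funext v
      exact ((Scheme.Modules.pullbackPushforwardAdjunction
        (pullback.fst A.q g.left)).homEquiv_unit A.E M' v).symm
    exact heq ▸ Equiv.bijective _

theorem isFibGrpd_coh : FibCat.IsFibGrpd (ModSt.Coh f).p where
  exists_lift {x V} g := by
    have hc : IsPullback (pullback.fst x.obj.q g.left) (pullback.snd x.obj.q g.left) x.obj.q g.left :=
      IsPullback.of_hasPullback _ _
    refine ⟨⟨pull x.obj g, Groth.L17.FlatPair.isFlatOver_pullback hc x.property.1,
      isFP_pullback _ _ x.property.2⟩, ObjectProperty.homMk (pullHom x.obj g), ?_⟩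
    exact Functor.IsHomLift.map (p := (ModSt.Coh f).p)
      (ObjectProperty.homMk (pullHom x.obj g) :
        (⟨pull x.obj g, Groth.L17.FlatPair.isFlatOver_pullback hc x.property.1,
          isFP_pullback _ _ x.property.2⟩ : (ModSt.Coh f).obj) ⟶ x)
  isStronglyCartesian {y x} φ :=
    { universal_property' := fun {z} g φ' hφ' => by
        have hg : g ≫ φ.hom.base = φ'.hom.base :=
          IsHomLift.eq_of_isHomLift (ModSt.Coh f).p (g ≫ (ModSt.Coh f).p.map φ) φ'
        obtain ⟨χ, ⟨hb, hc⟩, huniq⟩ := existsUnique_lift φ.hom φ'.hom g hg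
        subst hb
        refine ⟨ObjectProperty.homMk χ, ⟨Functor.IsHomLift.map (p := (ModSt.Coh f).p)
          (ObjectProperty.homMk χ : z ⟶ y), InducedCategory.hom_ext hc⟩, ?_⟩
        rintro χ' ⟨hχ', hc'⟩
        exact InducedCategory.hom_ext (huniq χ'.hom ⟨(IsHomLift.eq_of_isHomLift (ModSt.Coh f).p
          χ.base χ').symm, congrArg InducedCategory.Hom.hom hc'⟩) }

end Helpers


/-- Let `f : X ⟶ S` be a morphism of schemes. The category over `(Sch/S)` of finitely presented modules
flat over the base (objects over `T`: a cartesian square `X_T` over `T` and a finitely presented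
`T`-flat module on `X_T`; morphisms: cartesian comparison maps over morphisms of bases) is fibred in
groupoids. (The source states this for a morphism of finite presentation of algebraic spaces `X → B`
over a base scheme and for modules whose support is moreover proper over the base; this row is the
case of schemes with base `S = B`, for the category without the support condition, and for any
morphism `f`.) -/
theorem result {X S : Scheme.{u}} (f : X ⟶ S) :
    FibCat.IsFibGrpd (ModSt.Coh f).p := by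
  exact isFibGrpd_coh

end Groth.Agent.S17417
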