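import Groth.Statements.S1742
import Groth.Agent.L04.RegularOpen

set_option autoImplicit false
set_option maxSynthPendingDepth 3
set_option linter.style.haveILetI false
universe u
open LocCoh

namespace Groth.Agent.S1742

/-- Let A be a Noetherian ring, I an ideal, M a finite A-module and p a prime containing I such that the
IA_p-depth of M_p is a finite number e. Then there is an open subset U of Spec A meeting V(p) such
that the IA_q-depth of M_q is at least e for every q in U ∩ V(p). -/
theorem result (A : Type u) [CommRing A] [IsNoetherianRing A] (I : Ideal A) (M : Type u) [AddCommGroup M] [Module A M] [Module.Finite A M] (p : PrimeSpectrum A) (hp : I ≤ p.asIdeal) (e : ℕ) (he : LocCoh.idealDepth (I.map (algebraMap A (Localization.AtPrime p.asIdeal))) (LocalizedModule p.asIdeal.primeCompl M) = e) : ∃ U : Set (PrimeSpectrum A), IsOpen U ∧ (U ∩ PrimeSpectrum.zeroLocus (p.asIdeal : Set A)).Nonempty ∧ ∀ q : PrimeSpectrum A, q ∈ U → p ≤ q → (e : ℕ∞) ≤ LocCoh.idealDepth (I.map (algebraMap A (Localization.AtPrime q.asIdeal)))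 (LocalizedModule q.asIdeal.primeCompl M) := by
  let P := p.asIdeal
  let Rp := Localization.AtPrime P
  let Mp := LocalizedModule P.primeCompl M
  have hne : I.map (algebraMap A Rp) • (⊤ : Submodule Rp Mp) ≠ ⊤ := fun h => by
    rw [Groth.L04.idealDepth_eq_top h] at he
    exact ENat.natCast_ne_top e he.symm
  haveI : IsNoetherianRing Rp := IsLocalization.isNoetherianRing P.primeCompl Rp inferInstance
  haveI : Module.Finite Rp Mp := Module.Finite.of_isLocalizedModule P.primeCompl (LocalizedModule.mkLinearMap _ M)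
  obtain ⟨rs, hlen, hrs, hI⟩ := Groth.L04.exists_of_le_idealDepth hne he.ge
  obtain ⟨bs, hbs, hassoc⟩ : ∃ bs : List A, (∀ b ∈ bs, b ∈ I) ∧
      List.Forall₂ Associated rs (bs.map (algebraMap A Rp)) := by
    clear hrs hlen
    induction rs with
    | nil => exact ⟨[], by simp, List.Forall₂.nil⟩
    | cons r rs ih =>
      rw [List.forall_mem_cons] at hI
      obtain ⟨bs, h1, h2⟩ := ih hI.2
      obtain ⟨⟨⟨b, hb⟩, t⟩, hbt⟩ := (IsLocalization.mem_map_algebraMap_iff P.primeCompl _).1 hI.1
      exact ⟨b :: bs, List.forall_mem_cons.2 ⟨hb, h1⟩,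
        List.Forall₂.cons ⟨(IsLocalization.map_units Rp t).unit, hbt⟩ h2⟩
  obtain ⟨f, hf, hreg⟩ := Groth.L04.exists_isWeaklyRegular_nhd P bs M Mp (LocalizedModule.mkLinearMap _ M)
    ((RingTheory.Sequence.isWeaklyRegular_map_algebraMap_iff _ _ bs).1 (Groth.L04.isWeaklyRegular_of_associated hassoc hrs))
  refine ⟨PrimeSpectrum.basicOpen f, (PrimeSpectrum.basicOpen f).2, ⟨p, hf, fun x hx => hx⟩, fun q hq hpq => ?_⟩
  have h1 := Groth.L04.length_le_idealDepth (I := I.map (algebraMap A (Localization.AtPrime q.asIdeal)))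
    ((RingTheory.Sequence.isWeaklyRegular_map_algebraMap_iff (Localization.AtPrime q.asIdeal)
        (LocalizedModule q.asIdeal.primeCompl M) bs).2
      (hreg q.asIdeal.primeCompl ⟨f, hq, dvd_rfl⟩ _ (LocalizedModule.mkLinearMap q.asIdeal.primeCompl M)))
    (fun r hr => by
      obtain ⟨r, hr', rfl⟩ := List.mem_map.1 hr
      exact Ideal.mem_map_of_mem _ (hbs r hr'))
  rwa [List.length_map, show bs.length = e by rw [← hlen, hassoc.length_eq, List.length_map]] at h1

end Groth.Agent.S1742
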