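import Groth.Statements.S17421
import Groth.Agent.L21.OpenSt.Engine
import Groth.Agent.L09.StackBG.Crit
import Groth.Agent.L09.ModStack.Kap
import Groth.Agent.L12.StabLimit
import Groth.Agent.L02.Cons.FibFree
import Groth.Agent.L22.Inter.FlatTwist
import Groth.Agent.S9769

set_option linter.style.haveILetI false
set_option backward.isDefEq.respectTransparency false
set_option backward.isDefEq.respectTransparency.types false

set_option autoImplicit false
open CategoryTheory CategoryTheory.Limits AlgebraicGeometry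
universe u
open ModSt

namespace Groth.Agent.S17421

open Groth.L27.Assoc (Mo) in
/-- A restriction of a module to an open free of rank one pulls back to such. -/
theorem isFinLocFreeOfRank_of_nhds {X : Scheme.{u}} (M : X.Modules) (n : ℕ)
    (h : ∀ x : X, ∃ V : X.Opens, x ∈ V ∧ Nonempty (M.restrict V.ι ≅ FlatMod.freeMod (V : Scheme.{u}) n)) :
    FlatMod.IsFinLocFreeOfRank n M := h

theorem isFinLocFreeOfRank_of_iso {X : Scheme.{u}} {M N : X.Modules} (e : M ≅ N) {n : ℕ}
    (h : FlatMod.IsFinLocFreeOfRank n M) : FlatMod.IsFinLocFreeOfRank n N := fun x => by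
  obtain ⟨V, hx, ⟨i⟩⟩ := h x
  exact ⟨V, hx, ⟨(Scheme.Modules.restrictFunctor V.ι).mapIso e.symm ≪≫ i⟩⟩

variable {X S : Scheme.{u}} {f : X ⟶ S}

theorem rank_of_hom {A B : ModSt.Obj f} (φ : A ⟶ B) (h : FlatMod.IsFinLocFreeOfRank 1 B.E) :
    FlatMod.IsFinLocFreeOfRank 1 A.E :=
  isFinLocFreeOfRank_of_iso (asIso (Groth.L09.ModStack.tr φ)) (Groth.L12.StabLimit.isFinLocFreeOfRank_pullback φ.top h)

/-- The locus where a module is free of rank one. -/
def locus {Y : Scheme.{u}} (M : Y.Modules) : Y.Opens :=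
  ⨆ (V : Y.Opens) (_ : Nonempty (M.restrict V.ι ≅ FlatMod.freeMod (V : Scheme.{u}) 1)), V

theorem mem_locus {Y : Scheme.{u}} (M : Y.Modules) (x : Y) :
    x ∈ locus M ↔ ∃ V : Y.Opens, x ∈ V ∧ Nonempty (M.restrict V.ι ≅ FlatMod.freeMod (V : Scheme.{u}) 1) := by
  simp only [locus, TopologicalSpace.Opens.mem_iSup]
  exact ⟨fun ⟨V, hV, hx⟩ => ⟨V, hx, hV⟩, fun ⟨V, hx, hV⟩ => ⟨V, hV, hx⟩⟩

theorem rank_iff [LocallyOfFinitePresentation f] {A B : ModSt.Obj f} (φ : A ⟶ B) (hB : ModSt.IsCohObj B) :
    FlatMod.IsFinLocFreeOfRank 1 A.E ↔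
      ∀ x : B.XT, B.q x ∈ Set.range φ.base.left → x ∈ locus B.E := by
  have hsq := φ.isPullback_top
  haveI : LocallyOfFinitePresentation B.q :=
    MorphismProperty.of_isPullback (P := @LocallyOfFinitePresentation) B.isPullback inferInstance
  constructor
  · rintro hA x ⟨w, hw⟩
    obtain ⟨z, hz, -⟩ := Scheme.Pullback.exists_preimage_pullback x w hw.symm
    obtain ⟨x', rfl⟩ : ∃ x', φ.top x' = x := ⟨hsq.isoPullback.inv z, by
      rw [← Scheme.Hom.comp_apply, IsPullback.isoPullback_inv_fst, hz]⟩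
    have hP : FlatMod.IsFinLocFreeOfRank 1 ((Scheme.Modules.pullback φ.top).obj B.E) :=
      isFinLocFreeOfRank_of_iso (asIso (Groth.L09.ModStack.tr φ)).symm hA
    obtain ⟨e⟩ := Groth.L22.CurveDeg.nonempty_stalk_equiv hP x'
    have hfree : Module.Free (A.XT.presheaf.stalk x') (((Scheme.Modules.pullback φ.top).obj B.E).presheaf.stalk x') :=
      Module.Free.of_equiv e
    have hx : Module.Free (B.XT.presheaf.stalk (φ.top x')) (B.E.presheaf.stalk (φ.top x')) :=
      Set.ext_iff.1 (Groth.L20.FreeLocus.main B.q B.E hB.2 hB.1 φ.base.left A.q φ.top hsq) x' |>.1 hfree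
    obtain ⟨V, n, hV, ⟨i⟩⟩ := Groth.L20.FibreFree.exists_free_nhd B.E hB.2 (φ.top x') inferInstance
    obtain ⟨i'⟩ := Groth.L29.LocFree.restrict_pullback φ.top i
    obtain rfl := _root_.L02.Cons.eq_of_stalk_equiv _ i' hV e
    exact (mem_locus _ _).2 ⟨V, hV, ⟨i⟩⟩
  · intro h
    refine isFinLocFreeOfRank_of_iso (asIso (Groth.L09.ModStack.tr φ)) fun x' => ?_
    obtain ⟨V, hV, ⟨i⟩⟩ := (mem_locus _ _).1 (h (φ.top x') ⟨A.q x', by
      rw [← Scheme.Hom.comp_apply, ← φ.w_q, Scheme.Hom.comp_apply]⟩)
    exact ⟨φ.top ⁻¹ᵁ V, hV, Groth.L29.LocFree.restrict_pullback φ.top i⟩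

/-- Let `f : X ⟶ S` be a flat proper morphism of schemes, locally of finite presentation. The inclusion,
into the stack of finitely presented flat modules on the base changes of `X`, of its full
subcategory on the objects whose module is finite locally free of rank `1` is representable by
algebraic spaces and an open immersion. (The source states this for algebraic spaces `X → B` over a
base scheme, with the Picard stack of invertible modules as the source of the functor and modules
with proper support in the target; this row is the case of schemes with `S = B`: as `f` is flat and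
proper, an invertible module on a base change `X_T`, i.e. one finite locally free of rank `1`, is
finitely presented, flat over `T` and of proper support, so the Picard stack is rendered as this
full subcategory.) -/
theorem result {X S : Scheme.{u}} (f : X ⟶ S)
    [Flat f] [IsProper f] [LocallyOfFinitePresentation f] :
    AlgSt.IsOpenImm (AlgSt.subIncl (ModSt.Coh f) fun A => FlatMod.IsFinLocFreeOfRank 1 A.obj.E) := by
  refine Groth.L21.OpenSt.isOpenImm_of_chart (fun B A φ h => rank_of_hom φ.hom h) fun U y => ?_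
  let A₀ := y.obj (Groth.L09.StackBG.idOver U)
  haveI : IsProper A₀.obj.q := MorphismProperty.of_isPullback (P := @IsProper) A₀.obj.isPullback inferInstance
  let e : U ⟶ A₀.obj.base := eqToHom (y.w_obj (Groth.L09.StackBG.idOver U)).symm
  have hcl : IsClosed (A₀.obj.q '' (locus A₀.obj.E : Set A₀.obj.XT)ᶜ) :=
    A₀.obj.q.isClosedMap _ (locus A₀.obj.E).2.isClosed_compl
  refine ⟨e.left ⁻¹ᵁ ⟨(A₀.obj.q '' (locus A₀.obj.E : Set A₀.obj.XT)ᶜ)ᶜ, hcl.isOpen_compl⟩, fun a => ?_⟩
  let φ := y.map (Groth.L09.StackBG.toId a)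
  have hb : φ.hom.base = eqToHom (y.w_obj a) ≫ a.hom ≫ e := by
    have h := Groth.L09.StackBG.toId_base y a
    rw [← cancel_mono (eqToHom (y.w_obj (Groth.L09.StackBG.idOver U)))]
    refine h.trans ?_
    simp only [Category.assoc, e, eqToHom_trans, eqToHom_refl]
    exact congrArg (eqToHom (y.w_obj a) ≫ ·) (Category.comp_id a.hom).symm
  refine (rank_iff φ.hom A₀.property).trans ⟨fun h v => ?_, fun h x ⟨w, hw⟩ => ?_⟩
  · rintro ⟨x, hx, hxv⟩
    refine hx (h x ⟨(eqToHom (y.w_obj a).symm).left v, ?_⟩)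
    have he : eqToHom (y.w_obj a).symm ≫ φ.hom.base = a.hom ≫ e := by
      rw [hb, ← Category.assoc]
      erw [eqToHom_trans, eqToHom_refl]
      exact Category.id_comp _
    rw [hxv]
    exact (Scheme.Hom.comp_apply _ _ _).symm.trans (congr($(congrArg CommaMorphism.left he) v))
  · by_contra hx
    refine h ((eqToHom (y.w_obj a)).left w) ⟨x, hx, ?_⟩
    rw [← hw, hb]
    rfl

end Groth.Agent.S17421
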