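import Groth.Statements.S17423
import Groth.Agent.L17.LocDual.Main
import Groth.Agent.L17.LocDual.Corep
import Groth.Agent.L17.LocDual.Twist
import Groth.Agent.L17.SheafHomCoh
import Groth.Agent.L16.NegPow.Gen
import Groth.Agent.L16.Rees.RelVanish
import Groth.Agent.L16.Existence.Vanishing
import Groth.Agent.L04.Essential
import Groth.Agent.L04.Matlis

set_option autoImplicit false
set_option backward.isDefEq.respectTransparency false
set_option backward.isDefEq.respectTransparency.types false
set_option linter.style.haveILetI false
universe u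
open CategoryTheory CategoryTheory.Limits AlgebraicGeometry
attribute [local instance] HasDerivedCategory.standard
open Dual

namespace Groth.Agent.S17423

/-- Let (R, m) be a Noetherian local ring with a dualizing complex ω_R (given in D(R), and as the object
W of D_QCoh(Spec R)), let E be an injective hull of R's residue field, and let f : X → Spec R be
proper (f is the structure morphism of X over Spec R; Rf_*, its preservation of D_QCoh and its right
adjoint f^! are carried as hypotheses). Assume every local ring of X is Cohen–Macaulay, X has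
dimension n, and the relative dualizing complex f^!ω_R has zero cohomology sheaves outside a single
degree d (as happens when X is moreover equidimensional and connected); write ω_X for its degree-d
cohomology sheaf. Let L be a finite locally free O_X-module, L^∨ = Hom(L, O_X) its dual (the
internal Hom is carried as the right adjoint of L ⊗ −), and Z ⊆ X the closed fibre (the complement
of the preimage of the punctured spectrum). Then for all natural numbers i, j with i + j = n the
local cohomology group H^i_Z(X, L^∨) is isomorphic, as an additive group, to Hom_R(H^j(X, ω_X ⊗ L),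
E), where H^j(X, ω_X ⊗ L) = R^j f_*(ω_X ⊗ L) carries its R-module structure through f (existence of
an additive isomorphism only; the published statement gives an R-linear isomorphism, functorial in
L, for every i). -/
theorem result (R : Type u) [CommRing R] [IsNoetherianRing R] [IsLocalRing R]
    (ωR : Dual.D R) (hω : Dual.IsDualizing R ωR)
    [PreservesFiniteLimits (tilde.functor (CommRingCat.of R))]
    (W : DCoh.DQCoh (Spec (CommRingCat.of R))) (hW : Nonempty (W.obj ≅ (DCoh.tildeD (CommRingCat.of R)).obj ωR))
    (X : Scheme.{u}) [X.Over (Spec (CommRingCat.of R))] [IsProper (X ↘ Spec (CommRingCat.of R))]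
    [DCoh.HasRpush (X ↘ Spec (CommRingCat.of R))] (h : DCoh.RpushPreservesQCoh (X ↘ Spec (CommRingCat.of R))) [DCoh.HasShriek (X ↘ Spec (CommRingCat.of R)) h]
    (hCM : ∀ x : X, LocCoh.IsCohenMacaulayLocalRing (X.presheaf.stalk x))
    (d : ℤ) (hconc : ∀ j : ℤ, j ≠ d → IsZero (DCoh.HD (DCoh.dualizingCx (X ↘ Spec (CommRingCat.of R)) h W) j))
    (n : ℕ) (hn : topologicalKrullDim X = n)
    (E : Type u) [AddCommGroup E] [Module R E] (ι : IsLocalRing.ResidueField R →ₗ[R] E) (hE : InjHull.IsInjectiveHull ι)
    (L : X.Modules) (hL : FlatMod.IsFinLocFree L) [DCoh.HasSheafHom L]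
    (i j : ℕ) (hij : i + j = n) :
    Nonempty (LocCohZ.HZM X ((DCoh.sheafHom L).obj (Coh.structureModule X)) i ((X ↘ Spec (CommRingCat.of R)) ⁻¹ᵁ (LocCoh.puncturedOpen R (IsLocalRing.maximalIdeal R))) ≃+
      (Coh.HH X ((DCoh.tensorBi.obj (DCoh.HD (DCoh.dualizingCx (X ↘ Spec (CommRingCat.of R)) h W) d)).obj L) j →ₗ[R] E)) := by
  let f := X ↘ Spec (CommRingCat.of R)
  haveI : IsLocallyNoetherian X := LocallyOfFiniteType.isLocallyNoetherian f
  haveI := Groth.L00.Tensor.grothendieckAbelian_modules X
  haveI : HasExt.{u} X.Modules := inferInstance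
  obtain ⟨Φ, hΦ, -⟩ := Groth.L17.LocDual.exists_pairing_main ωR hω W hW h (DCoh.shriekAdj f h) hCM d hconc n hn
    ι hE i j hij
  obtain ⟨T⟩ := Groth.L17.LocDual.exists_dual_twist_equiv (A := R) L hL
    (DCoh.HD (DCoh.dualizingCx f h W) d) j
  have hD := Groth.L17.SheafHomCoh.isCoh_sheafHom L (Coh.structureModule X)
    (Groth.L16.NegPow.isCoh_of_isFinLocFree hL) (Groth.L16.Rees.RelVanish.isCoh_structureModule X)
  exact ⟨(AddEquiv.ofBijective _ (Groth.L17.LocDual.bijective_cmpZ (Groth.L17.LocDual.punX R X) i _)).symm.trans
    ((AddEquiv.ofBijective _ (hΦ _ hD)).trans (T.arrowCongr (LinearEquiv.refl R E)).toAddEquiv)⟩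

end Groth.Agent.S17423
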