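import Groth.Statements.S17424
import Groth.Agent.L17.LocDual.Main
import Groth.Agent.L17.LocDual.Corep
import Groth.Agent.L17.LocDual.Twist
import Groth.Agent.L17.SheafHomCoh
import Groth.Agent.L16.NegPow.Gen
import Groth.Agent.L16.Rees.RelVanish
import Groth.Agent.L16.Existence.Vanishing
import Groth.Agent.L04.Essential
import Groth.Agent.L04.Matlis

set_option autoImplicit false
set_option backward.isDefEq.respectTransparency false
set_option backward.isDefEq.respectTransparency.types false
set_option linter.style.haveILetI false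
universe u
open CategoryTheory CategoryTheory.Limits AlgebraicGeometry
attribute [local instance] HasDerivedCategory.standard
open Dual
open CategoryTheory.Abelian Groth.L17.LocDual Groth.L00.Tensor

namespace Groth.Agent.S17424

/-- Let (R, m) be a Noetherian local ring with a dualizing complex ω_R (given in D(R), and as the object
W of D_QCoh(Spec R)), and let f : X → Spec R be proper (f is the structure morphism of X over Spec
R; Rf_*, its preservation of D_QCoh and its right adjoint f^! are carried as hypotheses). Assume
every local ring of X is Cohen–Macaulay, X has dimension n, and the relative dualizing complex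
f^!ω_R has zero cohomology sheaves outside a single degree d (as happens when X is moreover
equidimensional and connected); write ω_X for its degree-d cohomology sheaf. Let L be an invertible
O_X-module and M an O_X-module with L ⊗ M ≅ O_X, and let Z ⊆ X be the closed fibre (the complement
of the preimage of the punctured spectrum). Then for all natural numbers i, j with i + j = n: H^i(X,
ω_X ⊗ L) = 0 (equivalently R^i f_*(ω_X ⊗ L) = 0, the base being affine) if and only if the local
cohomology group H^j_Z(X, M) vanishes. (The published statement is over an arbitrary Noetherian base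
Y at a point y, after base change to Spec O_{Y,y}; this is that local form.) -/
theorem result (R : Type u) [CommRing R] [IsNoetherianRing R] [IsLocalRing R]
    (ωR : Dual.D R) (hω : Dual.IsDualizing R ωR)
    [PreservesFiniteLimits (tilde.functor (CommRingCat.of R))]
    (W : DCoh.DQCoh (Spec (CommRingCat.of R))) (hW : Nonempty (W.obj ≅ (DCoh.tildeD (CommRingCat.of R)).obj ωR))
    (X : Scheme.{u}) [X.Over (Spec (CommRingCat.of R))] [IsProper (X ↘ Spec (CommRingCat.of R))]
    [DCoh.HasRpush (X ↘ Spec (CommRingCat.of R))] (h : DCoh.RpushPreservesQCoh (X ↘ Spec (CommRingCat.of R))) [DCoh.HasShriek (X ↘ Spec (CommRingCat.of R)) h]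
    (hCM : ∀ x : X, LocCoh.IsCohenMacaulayLocalRing (X.presheaf.stalk x))
    (d : ℤ) (hconc : ∀ j : ℤ, j ≠ d → IsZero (DCoh.HD (DCoh.dualizingCx (X ↘ Spec (CommRingCat.of R)) h W) j))
    (n : ℕ) (hn : topologicalKrullDim X = n)
    (L M : X.Modules) (hL : PicF.IsInvertible L) (e : (DCoh.tensorBi.obj L).obj M ≅ Coh.structureModule X)
    (i j : ℕ) (hij : i + j = n) :
    Subsingleton (Coh.HH X ((DCoh.tensorBi.obj (DCoh.HD (DCoh.dualizingCx (X ↘ Spec (CommRingCat.of R)) h W) d)).obj L) i) ↔
      Subsingleton (LocCohZ.HZM X M j ((X ↘ Spec (CommRingCat.of R)) ⁻¹ᵁ (LocCoh.puncturedOpen R (IsLocalRing.maximalIdeal R)))) := by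
  let f := X ↘ Spec (CommRingCat.of R)
  haveI : IsLocallyNoetherian X := LocallyOfFiniteType.isLocallyNoetherian f
  haveI := Groth.L00.Tensor.grothendieckAbelian_modules X
  haveI : HasExt.{u} X.Modules := inferInstance
  obtain ⟨E, _, _, ι, hE⟩ := Groth.L04.exists_injectiveHull (R := R) (IsLocalRing.ResidueField R)
  let Ω := DCoh.HD (DCoh.dualizingCx f h W) d
  obtain ⟨Φ, hΦ, -⟩ := exists_pairing_main ωR hω W hW h (DCoh.shriekAdj f h) hCM d hconc n hn
    ι hE j i (by omega)
  have hM : Coh.IsCoh M := by
    obtain ⟨N, hN, ⟨eN⟩⟩ := Groth.L08.Cube.exists_inverse hL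
    let eM : M ≅ N := (tensorUnitLeft M).symm ≪≫ tensorIso ((tensorComm N L ≪≫ eN).symm) (Iso.refl M) ≪≫
      tensorAssoc N L M ≪≫ tensorIso (Iso.refl N) e ≪≫ tensorUnitRight N
    exact Groth.L16.CohSupport.isCoh_of_iso eM.symm
      (Groth.L16.NegPow.isCoh_of_isFinLocFree (Groth.L16.Existence.isFinLocFree_of_isInvertible hN))
  let e' : CohB1.tensorMod L M ≅ Coh.structureModule X := e
  obtain ⟨-, _, _, _⟩ := preserves_of_inverse e'
  have hev := Groth.L10.TopDual.ev_bijective i (CohB1.tensorMod Ω L)
  show Subsingleton (Coh.HH X (CohB1.tensorMod Ω L) i) ↔ Subsingleton (LocCohZ.HZM X M j (punX R X))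
  rw [← (Equiv.ofBijective _ hev).subsingleton_congr,
    (Equiv.ofBijective _ (bijective_theta Ω e'.hom i)).subsingleton_congr,
    ← (Equiv.ofBijective _ (bijective_cmpZ (punX R X) j M)).subsingleton_congr,
    (Equiv.ofBijective _ (hΦ M hM)).subsingleton_congr]
  refine ⟨fun _ => inferInstance, fun hs => subsingleton_of_forall_eq 0 fun x => ?_⟩
  by_contra hx
  obtain ⟨φ, hφ⟩ := Groth.L04.exists_hom_ne_zero hE hx
  exact hφ (by rw [Subsingleton.elim φ 0, LinearMap.zero_apply])

end Groth.Agent.S17424
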