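import Groth.Statements.S17425
import Groth.Agent.L17.LocDual.Main
import Groth.Agent.L17.LocDual.Corep
import Groth.Agent.L17.LocDual.Twist
import Groth.Agent.L17.SheafHomCoh
import Groth.Agent.L16.NegPow.Gen
import Groth.Agent.L16.Rees.RelVanish
import Groth.Agent.L16.Existence.Vanishing
import Groth.Agent.L04.Essential
import Groth.Agent.L04.Matlis

set_option autoImplicit false
set_option backward.isDefEq.respectTransparency false
set_option backward.isDefEq.respectTransparency.types false
set_option linter.style.haveILetI false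
universe u
open CategoryTheory CategoryTheory.Limits AlgebraicGeometry
attribute [local instance] HasDerivedCategory.standard
open Dual
open CategoryTheory.Abelian Groth.L17.LocDual Groth.L00.Tensor

namespace Groth.Agent.S17425

theorem conj_injective {α α' β β' : Type*} {p : α → α'} {q : β → β'} (hp : Function.Bijective p)
    (hq : Function.Bijective q) {f : α → β} {g : α' → β'} (h : ∀ x, q (f x) = g (p x)) :
    Function.Injective f ↔ Function.Injective g := by
  rw [← Function.Injective.of_comp_iff' g hp, show g ∘ p = q ∘ f from funext fun x => (h x).symm,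
    Function.Injective.of_comp_iff hq.1]

theorem conj_surjective {α α' β β' : Type*} {p : α → α'} {q : β → β'} (hp : Function.Bijective p)
    (hq : Function.Bijective q) {f : α → β} {g : α' → β'} (h : ∀ x, q (f x) = g (p x)) :
    Function.Surjective f ↔ Function.Surjective g := by
  rw [← Function.Surjective.of_comp_iff g hp.2, show g ∘ p = q ∘ f from funext fun x => (h x).symm,
    Function.Surjective.of_comp_iff' hq]

/-- Let (R, m) be a Noetherian local ring with a dualizing complex ω_R (given in D(R), and as the object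
W of D_QCoh(Spec R)), and let f : X → Spec R be proper (f is the structure morphism of X over Spec
R; Rf_*, its preservation of D_QCoh and its right adjoint f^! are carried as hypotheses). Assume
every local ring of X is Cohen–Macaulay, X has dimension n, and the relative dualizing complex
f^!ω_R has zero cohomology sheaves outside a single degree d (as happens when X is moreover
equidimensional and connected); write ω_X for its degree-d cohomology sheaf, and let Z ⊆ X be the
closed fibre (the complement of the preimage of the punctured spectrum). Let a : L₁ → L₂ be a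
monomorphism of invertible O_X-modules (equivalently L₂ = L₁(D) for an effective Cartier divisor D,
a the canonical inclusion) and let a^∨ : L₂^∨ → L₁^∨ be the dual map on L_k^∨ = Hom(L_k, O_X) (the
internal Homs are carried as right adjoints of L_k ⊗ −, and a^∨ is the adjunct of (a ⊗ id) followed
by evaluation). Then for all natural numbers i, j with i + j = n: the map H^i(X, ω_X ⊗ L₁) → H^i(X,
ω_X ⊗ L₂) induced by a (that is, R^i f_*(ω_X ⊗ L₁) → R^i f_*(ω_X ⊗ L₁(D))) is injective if and only
if the map of local cohomology groups H^j_Z(X, L₂^∨) → H^j_Z(X, L₁^∨) induced by a^∨ is surjective.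
(The published statement is over an arbitrary Noetherian base Y at a point y, after base change to
Spec O_{Y,y}, for the inclusion O_X → O_X(D) of an effective Cartier divisor; this is that local
form.) -/
theorem result (R : Type u) [CommRing R] [IsNoetherianRing R] [IsLocalRing R]
    (ωR : Dual.D R) (hω : Dual.IsDualizing R ωR)
    [PreservesFiniteLimits (tilde.functor (CommRingCat.of R))]
    (W : DCoh.DQCoh (Spec (CommRingCat.of R))) (hW : Nonempty (W.obj ≅ (DCoh.tildeD (CommRingCat.of R)).obj ωR))
    (X : Scheme.{u}) [X.Over (Spec (CommRingCat.of R))] [IsProper (X ↘ Spec (CommRingCat.of R))]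
    [DCoh.HasRpush (X ↘ Spec (CommRingCat.of R))] (h : DCoh.RpushPreservesQCoh (X ↘ Spec (CommRingCat.of R))) [DCoh.HasShriek (X ↘ Spec (CommRingCat.of R)) h]
    (hCM : ∀ x : X, LocCoh.IsCohenMacaulayLocalRing (X.presheaf.stalk x))
    (d : ℤ) (hconc : ∀ j : ℤ, j ≠ d → IsZero (DCoh.HD (DCoh.dualizingCx (X ↘ Spec (CommRingCat.of R)) h W) j))
    (n : ℕ) (hn : topologicalKrullDim X = n)
    (L₁ L₂ : X.Modules) (hL₁ : PicF.IsInvertible L₁) (hL₂ : PicF.IsInvertible L₂) [DCoh.HasSheafHom L₁] [DCoh.HasSheafHom L₂]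
    (a : L₁ ⟶ L₂) [Mono a]
    (i j : ℕ) (hij : i + j = n) :
    Function.Injective (Sheaf.H.map ((SheafOfModules.toSheaf X.ringCatSheaf).map ((DCoh.tensorBi.obj (DCoh.HD (DCoh.dualizingCx (X ↘ Spec (CommRingCat.of R)) h W) d)).map a)) i) ↔
      Function.Surjective (LocCohZ.map (X := X.carrier) ((SheafOfModules.toSheaf X.ringCatSheaf).map ((DCoh.sheafHomAdj L₁).homEquiv ((DCoh.sheafHom L₂).obj (Coh.structureModule X)) (Coh.structureModule X) ((DCoh.tensorBi.map a).app ((DCoh.sheafHom L₂).obj (Coh.structureModule X)) ≫ (DCoh.sheafHomAdj L₂).counit.app (Coh.structureModule X)))) j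
        (le_top : ((X ↘ Spec (CommRingCat.of R)) ⁻¹ᵁ (LocCoh.puncturedOpen R (IsLocalRing.maximalIdeal R))) ≤ ⊤)) := by
  let f := X ↘ Spec (CommRingCat.of R)
  haveI : IsLocallyNoetherian X := LocallyOfFiniteType.isLocallyNoetherian f
  haveI := Groth.L00.Tensor.grothendieckAbelian_modules X
  haveI : HasExt.{u} X.Modules := inferInstance
  obtain ⟨E, _, _, ι, hE⟩ := Groth.L04.exists_injectiveHull (R := R) (IsLocalRing.ResidueField R)
  let Ω := DCoh.HD (DCoh.dualizingCx f h W) d
  obtain ⟨Φ, hΦ, hnat⟩ := exists_pairing_main ωR hω W hW h (DCoh.shriekAdj f h) hCM d hconc n hn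
    ι hE j i (by omega)
  let D₁ := (DCoh.sheafHom L₁).obj (Coh.structureModule X)
  let D₂ := (DCoh.sheafHom L₂).obj (Coh.structureModule X)
  have hD : ∀ (L : X.Modules) (hL : PicF.IsInvertible L) [DCoh.HasSheafHom L],
      Coh.IsCoh ((DCoh.sheafHom L).obj (Coh.structureModule X)) := fun L hL _ =>
    Groth.L17.SheafHomCoh.isCoh_sheafHom L _ (Groth.L16.NegPow.isCoh_of_isFinLocFree
      (Groth.L16.Existence.isFinLocFree_of_isInvertible hL)) (Groth.L16.Rees.RelVanish.isCoh_structureModule X)
  let ε₁ : CohB1.tensorMod L₁ D₁ ⟶ Coh.structureModule X := (DCoh.sheafHomAdj L₁).counit.app _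
  let ε₂ : CohB1.tensorMod L₂ D₂ ⟶ Coh.structureModule X := (DCoh.sheafHomAdj L₂).counit.app _
  haveI : IsIso ε₁ := isIso_counit hL₁
  haveI : IsIso ε₂ := isIso_counit hL₂
  obtain ⟨-, _, _, _⟩ := preserves_of_inverse (asIso ε₁)
  obtain ⟨-, _, _, _⟩ := preserves_of_inverse (asIso ε₂)
  let b : D₂ ⟶ D₁ := (DCoh.sheafHomAdj L₁).homEquiv D₂ (Coh.structureModule X)
    ((DCoh.tensorBi.map a).app D₂ ≫ (DCoh.sheafHomAdj L₂).counit.app (Coh.structureModule X))
  let β : Ext.{u} D₁ Ω i →ₗ[R] Ext.{u} D₂ Ω i :=
    ⟨⟨fun y => (Ext.mk₀ b).comp y (zero_add i), fun y y' => Ext.comp_add _ _ _ _⟩,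
      fun r y => Ext.comp_smul _ _ (zero_add i) r⟩
  have h1 : Function.Injective (Groth.L16.CohLinear.hmap (X := X) (tensorMap (𝟙 Ω) a) i) ↔ Function.Injective β :=
    (conj_injective (Groth.L10.TopDual.ev_bijective i (CohB1.tensorMod Ω L₁))
      (Groth.L10.TopDual.ev_bijective i (CohB1.tensorMod Ω L₂))
      (f := fun z => z.comp (Ext.mk₀ (tensorMap (𝟙 Ω) a)) (add_zero i))
      (fun z => Groth.L21.CurveDual.ev_natural _ i z)).symm.trans
      (conj_injective (bijective_theta Ω ε₁ i) (bijective_theta Ω ε₂ i)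
        (fun z => theta_natural Ω ε₁ ε₂ a b (dualMap_spec a) i z))
  have h2 : Function.Surjective (LocCohZ.map (X := X.carrier) ((SheafOfModules.toSheaf X.ringCatSheaf).map b) j
      (le_top : punX R X ≤ ⊤)) ↔ Function.Surjective (fun ν : Ext.{u} D₂ Ω i →ₗ[R] E => ν ∘ₗ β) :=
    (conj_surjective (bijective_cmpZ (punX R X) j D₂) (bijective_cmpZ (punX R X) j D₁)
      (f := fun x => x.comp (Ext.mk₀ b) (add_zero j)) (fun x => cmpZ_natural (punX R X) b j x)).symm.trans
      (conj_surjective (hΦ D₂ (hD L₂ hL₂)) (hΦ D₁ (hD L₁ hL₁))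
        (fun x => LinearMap.ext fun y => hnat D₂ D₁ b x y))
  have h3 : Function.Surjective (fun ν : Ext.{u} D₂ Ω i →ₗ[R] E => ν ∘ₗ β) ↔ Function.Injective β := by
    refine ⟨fun hs => (injective_iff_map_eq_zero β).2 fun y hy => ?_, fun hi ν => ?_⟩
    · by_contra hy0
      obtain ⟨φ, hφ⟩ := Groth.L04.exists_hom_ne_zero hE hy0
      obtain ⟨ν, hν⟩ := hs φ
      exact hφ (by rw [← hν]; simp [hy])
    · obtain ⟨ν', hν'⟩ := hE.isInjective.out β hi ν
      exact ⟨ν', LinearMap.ext hν'⟩
  rw [← Groth.L29.DC.Assoc.obj_map_eq] at h1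
  exact h1.trans (h3.symm.trans h2.symm)

end Groth.Agent.S17425
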