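import Groth.Statements.S17426
import Groth.Agent.L19.LimMod.Generated
import Groth.Agent.L21.Extend.Semilocal

set_option autoImplicit false
set_option backward.isDefEq.respectTransparency.types false
set_option backward.isDefEq.respectTransparency false
set_option linter.style.haveILetI false
universe u
open CategoryTheory AlgebraicGeometry
open Lim

namespace Groth.Agent.S17426

/-- Let S = lim S_i be a cofiltered limit of schemes with affine transition morphisms, with S_{i₀} a
quasi-compact quasi-separated stage; let X₀ and Y₀ be schemes of finite presentation over S_{i₀}, f₀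
: X₀ → Y₀ an S_{i₀}-morphism and L₀ an invertible O_{X₀}-module. Let f : X → Y be the base change of
f₀ along S → S_{i₀} and L the pullback of L₀ to X (base changes are expressed by pullback squares).
Call an invertible module generated relative to a morphism when the counit of the
pullback–pushforward adjunction, f^*f_*L → L, is an epimorphism. If L is generated relative to f,
then there is an index j over i₀ such that for every index k over j and every base change f_k : X_k
→ Y_k of f₀ along S_k → S_{i₀}, the pullback L_k of L₀ to X_k is generated relative to f_k. (Stated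
for X₀, Y₀ of finite presentation over the quasi-compact quasi-separated stage, the setting in which
all the schemes involved are quasi-compact and quasi-separated; the semi-ample variant of the
source, some positive tensor power generated, is not restated.) -/
theorem result {I : Type u} [SmallCategory I] [IsCofiltered I]
    (D : I ⥤ Scheme.{u}) (c : Limits.Cone D) (hc : Limits.IsLimit c)
    [∀ (i j : I) (u : i ⟶ j), IsAffineHom (D.map u)] (i₀ : I) [CompactSpace (D.obj i₀)] [QuasiSeparatedSpace (D.obj i₀)]
    {X₀ Y₀ : Scheme.{u}} (f₀ : X₀ ⟶ Y₀) (g₀ : Y₀ ⟶ D.obj i₀)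
    [LocallyOfFinitePresentation g₀] [QuasiCompact g₀] [QuasiSeparated g₀]
    [LocallyOfFinitePresentation (f₀ ≫ g₀)] [QuasiCompact (f₀ ≫ g₀)] [QuasiSeparated (f₀ ≫ g₀)]
    (L₀ : X₀.Modules) (hL₀ : PicF.IsInvertible L₀)
    {X Y : Scheme.{u}} (f : X ⟶ Y) (g : Y ⟶ c.pt) (qY : Y ⟶ Y₀) (qX : X ⟶ X₀)
    (hY : IsPullback qY g g₀ (c.π.app i₀)) (hX : IsPullback qX f f₀ qY)
    (hgen : Epi ((Scheme.Modules.pullbackPushforwardAdjunction f).counit.app ((Scheme.Modules.pullback qX).obj L₀))) :
    ∃ (j : I) (φ : j ⟶ i₀), ∀ (k : I) (ψ : k ⟶ j) (Xk Yk : Scheme.{u}) (fk : Xk ⟶ Yk) (gk : Yk ⟶ D.obj k)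
      (pY : Yk ⟶ Y₀) (pX : Xk ⟶ X₀), IsPullback pY gk g₀ (D.map (ψ ≫ φ)) → IsPullback pX fk f₀ pY →
        Epi ((Scheme.Modules.pullbackPushforwardAdjunction fk).counit.app ((Scheme.Modules.pullback pX).obj L₀)) := by
  haveI := Groth.L21.Extend.isQCoh_of_isInvertible hL₀
  exact Groth.L19.LimMod.exists_stage_epi_counit D c hc f₀ g₀ L₀ (Groth.L18.Ample.isFT_of_isInvertible hL₀)
    f g qY qX hY hX hgen

end Groth.Agent.S17426
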