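import Groth.Statements.S17428
import Mathlib.RingTheory.AdicCompletion.AsTensorProduct
import Mathlib.RingTheory.AdicCompletion.Algebra

set_option autoImplicit false
universe u
open FrobAlg TensorProduct

namespace Groth.Agent.S17428


section
variable (p : ℕ) [Fact p.Prime] (A : Type u) [CommRing A] [CharP A p]

/-- `I ^ n • ⊤` in the twisted copy of `A` is the ideal generated by `p`-th powers. -/
lemma mem_smul_top_twist (J : Ideal A) (x : A) :
    toTwist p A x ∈ (J • ⊤ : Submodule A (Twist p A)) ↔ x ∈ J.map (frobenius A p) := by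
  rw [Ideal.smul_top_eq_map, Submodule.restrictScalars_mem]
  have h : (algebraMap A (Twist p A)) = ((toTwist p A : A →+* Twist p A).comp (frobenius A p)) := rfl
  rw [h, ← Ideal.map_map, Ideal.map_comap_of_equiv, Ideal.mem_comap]
  rfl

lemma map_frobenius_le (J : Ideal A) : J.map (frobenius A p) ≤ J := by
  rw [Ideal.map_le_iff_le_comap]
  intro x hx
  rw [Ideal.mem_comap, frobenius_def]
  exact Ideal.pow_mem_of_mem _ hx _ (Fact.out : p.Prime).pos

lemma exists_pow_le_map_frobenius [IsNoetherianRing A] (I : Ideal A) (n : ℕ) :
    ∃ N : ℕ, I ^ N ≤ (I ^ n).map (frobenius A p) := by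
  refine Ideal.exists_pow_le_of_le_radical_of_fg ?_ (IsNoetherian.noetherian I)
  intro x hx
  refine ⟨n * p, ?_⟩
  rw [pow_mul, ← frobenius_def (p := p)]
  exact Ideal.mem_map_of_mem _ (Ideal.pow_mem_pow hx n)

variable (I : Ideal A)

/-- The comparison at level `n`. -/
noncomputable def levelMap (n : ℕ) :
    (Twist p A ⧸ (I ^ n • ⊤ : Submodule A (Twist p A))) →+ (A ⧸ (I ^ n • ⊤ : Submodule A A)) :=
  QuotientAddGroup.map _ _ ((toTwist p A).symm.toAddMonoidHom) (by
    intro t ht
    obtain ⟨x, rfl⟩ := (toTwist p A).surjective t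
    change x ∈ (I ^ n • ⊤ : Submodule A A)
    rw [smul_eq_mul, Ideal.mul_top]
    exact map_frobenius_le p A _ ((mem_smul_top_twist p A _ x).1 ht))

@[simp]
lemma levelMap_mk (n : ℕ) (x : A) :
    levelMap p A I n (Submodule.Quotient.mk (toTwist p A x)) = Submodule.Quotient.mk x := rfl

lemma levelMap_transition {m n : ℕ} (h : m ≤ n)
    (z : Twist p A ⧸ (I ^ n • ⊤ : Submodule A (Twist p A))) :
    AdicCompletion.transitionMap I A h (levelMap p A I n z) =
      levelMap p A I m (AdicCompletion.transitionMap I (Twist p A) h z) := by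
  obtain ⟨t, rfl⟩ := Submodule.Quotient.mk_surjective _ z
  obtain ⟨x, rfl⟩ := (toTwist p A).surjective t
  rfl

/-- The comparison of completions. -/
noncomputable def psi : AdicCompletion I (Twist p A) →+ AdicCompletion I A where
  toFun x := ⟨fun n => levelMap p A I n (x.val n), fun {m n} h => by
    rw [levelMap_transition]
    exact congrArg _ (x.2 h)⟩
  map_zero' := AdicCompletion.ext fun n => map_zero (levelMap p A I n)
  map_add' x y := AdicCompletion.ext fun n => map_add (levelMap p A I n) (x.val n) (y.val n)

lemma psi_injective [IsNoetherianRing A] : Function.Injective (psi p A I) := by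
  rw [injective_iff_map_eq_zero]
  intro x hx
  ext n
  obtain ⟨N, hN⟩ := exists_pow_le_map_frobenius p A I n
  obtain ⟨t, ht⟩ := Submodule.Quotient.mk_surjective _ (x.val (max n N))
  obtain ⟨a, rfl⟩ := (toTwist p A).surjective t
  have h0 : levelMap p A I (max n N) (x.val (max n N)) = 0 :=
    congrArg (fun z : AdicCompletion I A => z.val (max n N)) hx
  rw [← ht, levelMap_mk, Submodule.Quotient.mk_eq_zero, smul_eq_mul, Ideal.mul_top] at h0
  have ha := (mem_smul_top_twist p A (I ^ n) a).2 (hN (Ideal.pow_le_pow_right (le_max_right n N) h0))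
  rw [AdicCompletion.val_zero_apply, ← x.2 (le_max_left n N), ← ht]
  change Submodule.Quotient.mk (toTwist p A a) = 0
  exact (Submodule.Quotient.mk_eq_zero _).2 ha

lemma psi_surjective [IsNoetherianRing A] : Function.Surjective (psi p A I) := by
  intro y
  choose N hN using exists_pow_le_map_frobenius p A I
  let M : ℕ → ℕ := fun n => n + ∑ i ∈ Finset.range (n + 1), N i
  have hM : Monotone M := fun a b h => add_le_add h
    (Finset.sum_le_sum_of_subset (Finset.range_mono (by omega)))
  have hNM : ∀ n, N n ≤ M n := fun n =>
    le_add_left (Finset.single_le_sum (fun i _ => Nat.zero_le (N i)) (Finset.self_mem_range_succ n))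
  choose r hr using fun n => Submodule.Quotient.mk_surjective _ (y.val (M n))
  refine ⟨⟨fun n => Submodule.Quotient.mk (toTwist p A (r n)), fun {m n} h => ?_⟩, ?_⟩
  · change Submodule.Quotient.mk (toTwist p A (r n)) = Submodule.Quotient.mk (toTwist p A (r m))
    rw [Submodule.Quotient.eq, ← map_sub, mem_smul_top_twist]
    refine hN m (Ideal.pow_le_pow_right (hNM m) ?_)
    have h1 : AdicCompletion.transitionMap I A (hM h) (y.val (M n)) = y.val (M m) := y.2 (hM h)
    rw [← hr n, ← hr m] at h1
    change Submodule.Quotient.mk (r n) = Submodule.Quotient.mk (r m) at h1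
    rwa [Submodule.Quotient.eq, smul_eq_mul, Ideal.mul_top] at h1
  · ext n
    have h1 : AdicCompletion.transitionMap I A (show n ≤ M n by simp [M]) (y.val (M n)) = y.val n :=
      y.2 _
    rw [← h1, ← hr n]
    rfl

lemma val_pow' (b : AdicCompletion I A) (m n : ℕ) : (b ^ m).val n = b.val n ^ m := by
  induction m with
  | zero => rw [pow_zero, pow_zero]; rfl
  | succ m ih => rw [pow_succ, pow_succ, AdicCompletion.val_mul, ih]

lemma relFrob_eq [CharP (AdicCompletion I A) p] (z : AdicCompletion I A ⊗[A] Twist p A) :
    FrobAlg.relFrob p A (AdicCompletion I A) z =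
      psi p A I (AdicCompletion.ofTensorProduct I (Twist p A) z) := by
  induction z using TensorProduct.induction_on with
  | zero => simp
  | add x y hx hy =>
    rw [map_add (FrobAlg.relFrob p A (AdicCompletion I A)), hx, hy, map_add, map_add]
  | tmul b t =>
    obtain ⟨a, rfl⟩ := (toTwist p A).surjective t
    have h : FrobAlg.relFrob p A (AdicCompletion I A) (b ⊗ₜ toTwist p A a) =
        b ^ p * algebraMap A (AdicCompletion I A) a := rfl
    rw [h, AdicCompletion.ofTensorProduct_tmul]
    ext n
    obtain ⟨c, hc⟩ := Submodule.Quotient.mk_surjective _ (b.val n)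
    change _ = levelMap p A I n ((b • AdicCompletion.of I (Twist p A) (toTwist p A a)).val n)
    rw [AdicCompletion.smul_eval, ← hc, AdicCompletion.val_mul, val_pow', ← hc]
    simp only [AdicCompletion.of_apply, ← hc]
    change Submodule.Quotient.mk (c ^ p * a) = levelMap p A I n (Submodule.Quotient.mk (toTwist p A (c ^ p * a)))
    rfl

end

/-- Let p be a prime, A a regular local ring of characteristic p whose absolute Frobenius a ↦ a^p is a
finite ring homomorphism, I an ideal of A and Â the I-adic completion of A. Then Spec Â → Spec A is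
relatively perfect: the relative Frobenius Â ⊗_{A,Frob} A → Â, b ⊗ a ↦ b^p a, is bijective. (Â is
also flat over A since A is Noetherian, so the morphism is flat and relatively perfect. The instance
hypothesis that Â has characteristic p holds as soon as I ≠ A.) -/
theorem result (p : ℕ) [Fact p.Prime]
    (A : Type u) [CommRing A] [IsRegularLocalRing A] [CharP A p] (hF : (frobenius A p).Finite)
    (I : Ideal A) [CharP (AdicCompletion I A) p] :
    Function.Bijective (FrobAlg.relFrob p A (AdicCompletion I A)) := by
  haveI : Module.Finite A (Twist p A) := hF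
  have h2 := AdicCompletion.ofTensorProduct_bijective_of_finite_of_isNoetherian I (Twist p A)
  have h3 : ⇑(FrobAlg.relFrob p A (AdicCompletion I A)) =
      psi p A I ∘ AdicCompletion.ofTensorProduct I (Twist p A) := funext (relFrob_eq p A I)
  rw [h3]
  exact Function.Bijective.comp ⟨psi_injective p A I, psi_surjective p A I⟩ h2

end Groth.Agent.S17428
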