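import Groth.Statements.S17429
import Groth.Agent.L04.FlatKaehler
import Groth.Agent.L04.Koszul.Compare
import Groth.Agent.L06.RegularPow

set_option autoImplicit false
universe u
open LocCoh

namespace Groth.Agent.S17429

open Groth.L04.Koszul RingTheory.Sequence
open scoped TensorProduct

theorem flat_kaehler_int (p : ℕ) [Fact p.Prime] (A : Type u) [CommRing A] [IsRegularLocalRing A] [CharP A p] :
    Module.Flat A (KaehlerDifferential ℤ A) := by
  let k : Type u := ULift.{u} (ZMod p)
  letI : Algebra k A := ((ZMod.castHom (dvd_refl p) A).comp ULift.ringEquiv.toRingHom).toAlgebra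
  haveI : PerfectField k := inferInstance
  haveI := Groth.L04.FlatKaehler.flat_kaehler k (Groth.L06.CplGeom.isGeometricallyRegular_of_perfect k A)
  let D' : Derivation k A (KaehlerDifferential ℤ A) :=
    { toFun := KaehlerDifferential.D ℤ A
      map_add' := map_add _
      map_smul' := fun c a => by
        obtain ⟨z, hz⟩ : ∃ z : ℤ, algebraMap k A c = (z : A) := by
          obtain ⟨z, hz⟩ := ZMod.intCast_surjective c.down
          exact ⟨z, by show ZMod.castHom (dvd_refl p) A c.down = _; rw [← hz, map_intCast]⟩
        show KaehlerDifferential.D ℤ A (c • a) = c • KaehlerDifferential.D ℤ A a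
        rw [Algebra.smul_def, hz, ← algebraMap_smul A c (KaehlerDifferential.D ℤ A a), hz,
          Derivation.leibniz, Derivation.map_intCast, smul_zero, add_zero]
      map_one_eq_zero' := Derivation.map_one_eq_zero _
      leibniz' := fun a b => Derivation.leibniz _ a b }
  let φ : KaehlerDifferential k A →ₗ[A] KaehlerDifferential ℤ A := D'.liftKaehlerDifferential
  let D0 : Derivation ℤ A (KaehlerDifferential k A) := (KaehlerDifferential.D k A).restrictScalars ℤ
  let ψ : KaehlerDifferential ℤ A →ₗ[A] KaehlerDifferential k A := D0.liftKaehlerDifferential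
  have h1 : φ ∘ₗ ψ = LinearMap.id := Derivation.liftKaehlerDifferential_unique _ _ (Derivation.ext fun a => by
    simp [φ, ψ, D', D0] <;> rfl)
  exact Module.Flat.of_retract ψ φ h1

theorem subsingleton_HLim_flat (A : Type u) [CommRing A] (ts : List A) (h : IsWeaklyRegular A ts)
    (M : ModuleCat.{u} A) [Module.Flat A M] (j : ℤ) (hj : j ≠ 0) : Subsingleton (HLim ts M j) := by
  refine subsingleton_HLim ts M j fun n c => ⟨max n 1, le_max_left _ _, ?_⟩
  have h1 : IsWeaklyRegular (M : Type u) ts :=
    ((TensorProduct.rid A M).isWeaklyRegular_congr ts).1 (h.isWeaklyRegular_lTensor (M₂ := (M : Type u)))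
  have h2 := Groth.L06.RegularPow.isWeaklyRegular_pow (M := (M : Type u)) ts.length (fun i => ts[(i : ℕ)])
    (fun _ => max n 1) (fun _ => le_max_right _ _) (by rwa [List.ofFn_getElem])
  have h3 : (List.ofFn fun i : Fin ts.length => ts[(i : ℕ)] ^ max n 1) = ts.map (· ^ max n 1) := by
    conv_rhs => rw [← List.ofFn_getElem (xs := ts), List.map_ofFn]
    rfl
  rw [h3] at h2
  exact @Subsingleton.elim _ (ModuleCat.subsingleton_of_isZero (isZero_of_isWeaklyRegular _ M h2 j hj)) _ _


/-- Let p be a prime, A a regular local ring of characteristic p, t_1, …, t_r an A-regular sequence such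
that A/(t_1, …, t_r) is again a regular local ring (a regular closed immersion Z ↪ X = Spec A of
codimension r with Z regular and non-empty), and I = (t_1, …, t_r). Then for every i and every j ≠ r
the local cohomology module H^j_I(Ω^i_A) vanishes, where Ω^i_A is the i-th exterior power over A of
the module of Kähler differentials of A over ℤ (the same module as over the prime field). (Module
form, for X local, of the vanishing of the local cohomology sheaves H^j_Z(X, Ω^i_X), j ≠ r; the same
vanishing holds more generally for the de Rham–Witt sheaves W_mΩ^i_X and their quotients by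
dV^{m-1}Ω^{i-1}_X on the étale site of a regular F_p-scheme, a form not stated here.) -/
theorem result (p : ℕ) [Fact p.Prime]
    (A : Type u) [CommRing A] [IsRegularLocalRing A] [CharP A p]
    (ts : List A) (hreg : RingTheory.Sequence.IsRegular A ts)
    (hZ : IsRegularLocalRing (A ⧸ Ideal.ofList ts))
    (i j : ℕ) (hj : j ≠ ts.length) :
    Subsingleton (LocCoh.H (Ideal.ofList ts) j
      ↥(ExteriorAlgebra.exteriorPower A i (KaehlerDifferential ℤ A))) := by
  haveI := flat_kaehler_int p A
  haveI := Groth.L04.FlatKaehler.flat_exteriorPower (A := A) (M := KaehlerDifferential ℤ A) i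
  obtain ⟨e⟩ := nonempty_H_equiv_HLim ts j (ModuleCat.of A ↥(ExteriorAlgebra.exteriorPower A i (KaehlerDifferential ℤ A)))
  haveI := subsingleton_HLim_flat A ts hreg.toIsWeaklyRegular
    (ModuleCat.of A ↥(ExteriorAlgebra.exteriorPower A i (KaehlerDifferential ℤ A))) ((j : ℤ) - ts.length) (by omega)
  exact e.toEquiv.subsingleton

end Groth.Agent.S17429
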