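import Groth.Statements.S17431
import Groth.Agent.L13.AdjVar.BorelStable

set_option autoImplicit false
universe u v w
open LieAlgebra LieModule
open AdjVar

namespace Groth.Agent.S17431

/-- Let L be a finite-dimensional simple Lie algebra over an algebraically closed field K of
characteristic zero, H a Cartan subalgebra and b a basis of (L, H) in Mathlib's sense (Chevalley
generators h_i, e_i, f_i indexed by a finite type, with simple roots α_i = b.baseSupp i and upper
Borel subalgebra 𝔟 = H + the Lie subalgebra generated by the e_i). Let ρ be the highest root: a root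
of H on L whose root space is nonzero and such that no ρ + α_i is a root (the root space of ρ + α_i
is zero for every i). Assume that exactly one simple root α_j is not orthogonal to ρ (ρ(h_i) ≠ 0 if
and only if i = j) and that ρ(h_j) = 1; for simple L these two conditions say precisely that L is
not of type A_r or C_r (r ≥ 1), the case excluded in the source. Then every three-dimensional linear
subspace W of L that is stable under 𝔟 contains the sum of the root spaces of ρ and ρ − α_j, and
there is a simple root α_i adjacent to α_j in the Dynkin diagram (i ≠ j and the matrix entry A i j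
of b is nonzero) such that W is the sum of the root spaces of ρ, ρ − α_j and ρ − α_j − α_i. In the
source's words: every Borel-stable plane of P(L) contains the Borel-stable line and is spanned by
root vectors of ρ, ρ − α_j, ρ − α_j − β for a neighbour β of α_j (stability under the connected
Borel subgroup being the same as stability under 𝔟). -/
theorem result {ι : Type u} {K : Type v} {L : Type w} [Fintype ι] [Field K] [CharZero K]
    [IsAlgClosed K] [LieRing L] [LieAlgebra K L] [FiniteDimensional K L] [LieAlgebra.IsSimple K L]
    (H : LieSubalgebra K L) [H.IsCartanSubalgebra] (b : LieAlgebra.Basis ι H)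
    (ρ : Module.Dual K H) (hρ : rootSpace H ρ ≠ ⊥) (htop : ∀ i, rootSpace H (ρ + b.baseSupp i) = ⊥)
    (j : ι) (hN : ∀ i, ρ (b.h' i) ≠ 0 ↔ i = j) (hj : ρ (b.h' j) = 1)
    (W : Submodule K L) (hW : Module.finrank K W = 3)
    (hst : ∀ x ∈ H.toSubmodule ⊔ (b.borelUpper : Submodule K L), ∀ w ∈ W, ⁅x, w⁆ ∈ W) :
    (rootSpace H ρ : Submodule K L) ⊔ (rootSpace H (ρ - b.baseSupp j) : Submodule K L) ≤ W ∧
      ∃ i : ι, i ≠ j ∧ b.A i j ≠ 0 ∧
        W = (rootSpace H ρ : Submodule K L) ⊔ (rootSpace H (ρ - b.baseSupp j) : Submodule K L) ⊔
          (rootSpace H (ρ - b.baseSupp j - b.baseSupp i) : Submodule K L) := by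
  classical
  have h : Groth.Agent.L13.AdjVar.Hyp b ρ j :=
    ⟨⟨fun e => hρ ((Groth.Agent.L13.AdjVar.sp_eq_bot_iff ρ).mp e),
      fun i => (Groth.Agent.L13.AdjVar.sp_eq_bot_iff _).mpr (htop i)⟩,
      fun i hi => not_not.mp fun e => hi ((hN i).mp e), hj⟩
  exact Groth.Agent.L13.AdjVar.three_dim h hst hW

end Groth.Agent.S17431
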