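import Groth.Statements.S17432
import Groth.Agent.L13.AdjVar.Conic

set_option autoImplicit false
universe u v w
open LieAlgebra LieModule
open AdjVar

namespace Groth.Agent.S17432

/-- Let L be a finite-dimensional simple Lie algebra over an algebraically closed field K of
characteristic zero, H a Cartan subalgebra and b a basis of (L, H) in Mathlib's sense (Chevalley
generators h_i, e_i, f_i indexed by a finite type, with simple roots α_i = b.baseSupp i and upper
Borel subalgebra 𝔟 = H + the Lie subalgebra generated by the e_i). Let ρ be the highest root: a root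
of H on L whose root space is nonzero and such that no ρ + α_i is a root (the root space of ρ + α_i
is zero for every i). Assume that exactly one simple root α_j is not orthogonal to ρ (ρ(h_i) ≠ 0 if
and only if i = j) and that ρ(h_j) = 1; for simple L these two conditions say precisely that L is
not of type A_r or C_r (r ≥ 1), the case excluded in the source. Let W be a three-dimensional linear
subspace of L stable under 𝔟 and q a quadratic form on W which is semi-invariant under 𝔟: for every
x in 𝔟 there is a scalar c with polar_q([x, w], w) = c q(w) for all w in W (this is the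
infinitesimal condition for the line spanned by q, equivalently the conic q = 0 of the plane P(W),
to be stable under the Borel subgroup). Then q is a scalar multiple of the square of a linear form
on W. In the source's words: P(L) contains no Borel-stable conic which is smooth or reducible (a
pair of distinct lines); only double lines occur. (Over the complex numbers a conic of rank at least
two is Borel-stable exactly when its plane is 𝔟-stable and its equation is 𝔟-semi-invariant, which
is the form stated here.) -/
theorem result {ι : Type u} {K : Type v} {L : Type w} [Fintype ι] [Field K] [CharZero K]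
    [IsAlgClosed K] [LieRing L] [LieAlgebra K L] [FiniteDimensional K L] [LieAlgebra.IsSimple K L]
    (H : LieSubalgebra K L) [H.IsCartanSubalgebra] (b : LieAlgebra.Basis ι H)
    (ρ : Module.Dual K H) (hρ : rootSpace H ρ ≠ ⊥) (htop : ∀ i, rootSpace H (ρ + b.baseSupp i) = ⊥)
    (j : ι) (hN : ∀ i, ρ (b.h' i) ≠ 0 ↔ i = j) (hj : ρ (b.h' j) = 1)
    (W : Submodule K L) (hW : Module.finrank K W = 3)
    (hst : ∀ x ∈ H.toSubmodule ⊔ (b.borelUpper : Submodule K L), ∀ w ∈ W, ⁅x, w⁆ ∈ W)
    (q : QuadraticForm K W)
    (hq : ∀ (x : L) (hx : x ∈ H.toSubmodule ⊔ (b.borelUpper : Submodule K L)), ∃ c : K, ∀ w : W,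
      QuadraticMap.polar q ⟨⁅x, (w : L)⁆, hst x hx w w.property⟩ w = c * q w) :
    ∃ (ℓ : Module.Dual K W) (c : K), ∀ w : W, q w = c * ℓ w ^ 2 := by
  classical
  have h : Groth.Agent.L13.AdjVar.Hyp b ρ j :=
    ⟨⟨fun e => hρ ((Groth.Agent.L13.AdjVar.sp_eq_bot_iff ρ).mp e),
      fun i => (Groth.Agent.L13.AdjVar.sp_eq_bot_iff _).mpr (htop i)⟩,
      fun i hi => not_not.mp fun e => hi ((hN i).mp e), hj⟩
  exact Groth.Agent.L13.AdjVar.conic h W hW hst q hq

end Groth.Agent.S17432
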