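import Groth.Statements.S17438
import Groth.Agent.L15.DefoTwo.Main
-- import your own Groth.Agent.* helpers here

set_option autoImplicit false
universe u
open CategoryTheory AlgebraicGeometry
open DefoSh

namespace Groth.Agent.S17438

/-- Let k be a field, X a scheme over k, U₀ and U₁ two affine opens covering X, and E an O_X-module free
of the same finite rank n on U₀ and on U₁ (a vector bundle given by one transition matrix). Then the
isomorphism classes of deformations of E over the dual numbers k[ε] (O_X-modules with a k[ε]-action,
flat stalkwise, with reduction identified with E) are in bijection with the first Čech cohomology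
group of the cover (U₀, U₁) with coefficients in the sheaf End(E), by a bijection taking the class
of the trivial deformation E ⊕ εE to 0 (existence of such a bijection only: the cocycle attached to
a deformation depends on chosen trivializations over U₀ and U₁). The assertion on deformations with
fixed determinant is not stated. The published statement is for a curve and uses the sheaf
cohomology H¹(C, End(E)); this row takes any scheme over k covered by two affine opens on which E is
free, as the printed proof uses, and the Čech cohomology of that cover. -/
theorem result (k : Type u) [Field k] (X : Scheme.{u})
    [X.Over (Spec (CommRingCat.of k))] (U : ULift.{u} (Fin 2) → X.Opens)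
    (hU : ∀ i, IsAffineOpen (U i)) (hcov : ⨆ i, U i = ⊤) (E : X.Modules) (n : ℕ)
    (hfree : ∀ i, Nonempty (E.restrict (U i).ι ≅ FlatMod.freeMod ↑(U i) n)) :
    ∃ e : DefoSh.FirstOrder k E ≃ ↑(CohB1.cechH U (RefHull.homSh E E) 1),
      e (DefoSh.Defo.trivDual k E).cl = 0 := by
  exact Groth.L15.DefoTwo.exists_equiv U hcov hU E n hfree

end Groth.Agent.S17438
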