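import Groth.Statements.S17439
import Groth.Agent.L12.DefoSh.Conn

set_option autoImplicit false
universe u
open CategoryTheory AlgebraicGeometry
open DefoSh

namespace Groth.Agent.S17439

/-- Let k be a field, X a scheme over k with a receptacle of differentials (Ω′, δ) over k, Ω′
quasi-coherent, and E a finite locally free O_X-module with a connection ∇ : E → E ⊗ Ω′. Then ∇ has
at least one deformation over the trivial first-order deformation E ⊕ εE of E (a connection on E ⊕
εE commuting with k[ε] and reducing to ∇), so the set of deformations of ∇ over the trivial
deformation (the set that corresponds to H⁰(End(E) ⊗ Ω′)) is not empty. The published statement is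
for a curve with its sheaf of differentials; this row takes any scheme over k with any
quasi-coherent receptacle of differentials, which the printed computation does not use. -/
theorem result (k : Type u) [Field k] (X : Scheme.{u})
    [X.Over (Spec (CommRingCat.of k))] (Ω' : X.Modules) (δ : OmegaSh.Der (X ↘ Spec (CommRingCat.of k)) Ω')
    (hΩ' : Coh.IsQCoh Ω') (E : X.Modules) (hE : FlatMod.IsFinLocFree E)
    (nabla : Coh.toAb E ⟶ Coh.toAb (CohB1.tensorMod E Ω')) (hn : ConnSh.IsConn δ E nabla) :
    Nonempty (DefoSh.DefoConn δ nabla (DefoSh.Defo.trivDual k E)) := by
  exact Groth.L12.DefoSh.nonempty_trivDual hn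

end Groth.Agent.S17439
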