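import Groth.Statements.S17441
import Groth.Agent.L12.DefoSh.Basic

set_option autoImplicit false
universe u
open CategoryTheory AlgebraicGeometry
open DefoSh

namespace Groth.Agent.S17441

/-- Let k be a field, X a scheme over k, E an O_X-module and A a local Artinian k-algebra with residue
field k. If D and D′ are deformations of E over A (O_X-modules with an action of A, flat over A
stalkwise, with reductions π, π′ to E whose stalkwise kernels are m_A times the stalk), then every
O_X-linear map φ : D.sheaf → D′.sheaf that commutes with the actions of A and satisfies φ ≫ π′ = π
is an isomorphism. The printed remark is the first-order case A = k[ε]; this row states it for every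
local Artinian k-algebra A with residue field k. -/
theorem result (k : Type u) [Field k] (X : Scheme.{u})
    [X.Over (Spec (CommRingCat.of k))] (E : X.Modules) (A : ArtFun.Art k k)
    (D D' : DefoSh.Defo E A) (φ : D.sheaf ⟶ D'.sheaf)
    (hact : ∀ a : A, D.act a ≫ φ = φ ≫ D'.act a) (hπ : φ ≫ D'.π = D.π) :
    IsIso φ := by
  exact Groth.L12.DefoSh.isIso_of_comm D D' φ hact hπ

end Groth.Agent.S17441
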