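import Groth.Statements.S17442
import Groth.Agent.L26.AbDual.Additive

set_option autoImplicit false
universe u
open CategoryTheory CategoryTheory.Limits MonoidalCategory CartesianMonoidalCategory MonObj GrpObj AlgebraicGeometry
open AbVar

namespace Groth.Agent.S17442

open Groth.Agent.AbDualLib

/-- Let k be a field, A an abelian variety over k (a proper smooth k-group scheme with geometrically
connected fibres), (A^t, φ) a given dual abelian variety of A for the fppf topology with A^t itself
an abelian variety, and P an invertible module on A ×_k A^t whose class is a Poincaré class (it lies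
in Pic⁰ fibrewise over A^t, corresponds to the identity of A^t under φ, and is rigidified along the
unit section of A). For a natural number n write [n] for the n-th power of the identity in the group
of endomorphisms of A, resp. of A^t. Then the pull back of P along id_A × [n] and the pull back of P
along [n] × id_{A^t} both have the same isomorphism class as the n-th tensor power of P. (The
published statement covers every integer n; only n ≥ 0 is stated here.) -/
theorem result (k : Type u) [Field k]
    (A At : Over (Spec (CommRingCat.of k))) [GrpObj A] [IsProper A.hom] [Smooth A.hom] [GeometricallyConnected A.hom]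
    [GrpObj At] [IsProper At.hom] [Smooth At.hom] [GeometricallyConnected At.hom]
    (φ : ∀ T : Over (Spec (CommRingCat.of k)), PicF.Cl (PicF.XT A.hom T) → (T ⟶ At))
    (hφ : AbDual.IsDualAV Scheme.fppfPrecoverage A At φ)
    (P : (PicF.XT A.hom At).Modules) (hP : PicF.IsInvertible P)
    (hξ : AbDual.IsPoincareCl A At φ (PicF.cl P)) (n : ℕ) :
    PicF.cl ((Scheme.Modules.pullback (PicF.XTmap A.hom (𝟙 At ^ n))).obj P) = PicF.cl (CohB1.tensorPow P n) ∧
      PicF.cl ((Scheme.Modules.pullback (AbDual.bcMap (𝟙 A ^ n) At)).obj P) = PicF.cl (CohB1.tensorPow P n) := by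
  set ξ := PicF.cl P
  have hrig : PicF.pullCl (PicF.secT A.hom η[A].left (Over.w η[A]) At) ξ = oneCl _ := hξ.2.2
  have h2 : ∀ m : ℕ, PicF.pullCl (AbDual.bcMap (𝟙 A ^ m) At) ξ = PicF.cl (CohB1.tensorPow P m) := by
    intro m
    induction m with
    | zero => rw [pow_zero]; exact pullCl_one_eq hrig
    | succ m ih =>
      rw [pow_succ, pullCl_mul_eq hφ _ _ hξ.1 hrig, ih, bcMap_id, PicLoc.pullCl_id]
      rfl
  have hφn : ∀ m : ℕ, φ At (PicF.cl (CohB1.tensorPow P m)) = 𝟙 At ^ m := by
    intro m
    induction m with
    | zero => rw [pow_zero]; exact map_oneCl hφ At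
    | succ m ih =>
      rw [pow_succ, ← ih]
      show φ At (PicGrp.mulCl (PicF.cl (CohB1.tensorPow P m)) ξ) = _
      refine (map_mulCl hφ ?_ hξ.1).trans (congrArg _ hξ.2.1)
      rw [← h2 m]
      exact isPicZeroCl_bcMap _ _ hξ.1
  refine ⟨?_, h2 n⟩
  show PicF.pullCl (PicF.XTmap A.hom (𝟙 At ^ n)) ξ = _
  refine eq_of_map_eq hφ (isPicZeroCl_XTmap _ _ hξ.1) (h2 n ▸ isPicZeroCl_bcMap _ _ hξ.1)
    (rig_pullCl _ ξ (by rw [hrig]; exact pullCl_oneCl _)) ?_ ?_
  · rw [← h2 n, ← PicLoc.pullCl_comp]
    have e : PicF.secT A.hom η[A].left (Over.w η[A]) At ≫ AbDual.bcMap (𝟙 A ^ n) At =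
        PicF.secT A.hom η[A].left (Over.w η[A]) At := by
      rw [secT_eq_lift, bcMap_eq_whiskerRight, ← Over.comp_left]
      refine congrArg CommaMorphism.left ?_
      apply CartesianMonoidalCategory.hom_ext
      · simp [MonObj.comp_pow, ← Hom.one_def]
      · simp
    rw [e]
    exact hrig
  · rw [hφ.relPic.natural At At _ ξ hξ.1, hξ.2.1, Category.comp_id, hφn]

end Groth.Agent.S17442
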