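import Groth.Statements.S17443
import Groth.Agent.L26.AbDual.Additive

set_option autoImplicit false
universe u
open CategoryTheory CategoryTheory.Limits MonoidalCategory CartesianMonoidalCategory MonObj GrpObj AlgebraicGeometry
open AbVar

namespace Groth.Agent.S17443

open Groth.Agent.AbDualLib

/-- Let k be a field, A an abelian variety over k (a proper smooth k-group scheme with geometrically
connected fibres), (A^t, φ) a given dual abelian variety of A for the fppf topology with A^t itself
an abelian variety, and P an invertible module on A ×_k A^t whose class is a Poincaré class (it lies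
in Pic⁰ fibrewise over A^t, corresponds to the identity of A^t under φ, and is rigidified along the
unit section of A). Write [-1] for the inverse of the identity in the group of endomorphisms of A,
resp. of A^t (the inversion). Then the pull back of P along id_A × [-1] and the pull back of P along
[-1] × id_{A^t} are both inverse to P: their tensor products with P have the class of the structure
sheaf. (This is the case n = -1 of the published statement, which asserts (id_A × [n])^*P ≅ P^{⊗n} ≅
([n] × id_{A^t})^*P for every integer n; together with the case n ≥ 0 it yields every integer n.) -/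
theorem result (k : Type u) [Field k]
    (A At : Over (Spec (CommRingCat.of k))) [GrpObj A] [IsProper A.hom] [Smooth A.hom] [GeometricallyConnected A.hom]
    [GrpObj At] [IsProper At.hom] [Smooth At.hom] [GeometricallyConnected At.hom]
    (φ : ∀ T : Over (Spec (CommRingCat.of k)), PicF.Cl (PicF.XT A.hom T) → (T ⟶ At))
    (hφ : AbDual.IsDualAV Scheme.fppfPrecoverage A At φ)
    (P : (PicF.XT A.hom At).Modules) (hP : PicF.IsInvertible P)
    (hξ : AbDual.IsPoincareCl A At φ (PicF.cl P)) :
    PicF.IsTrivialCl (PicF.cl (CohB1.tensorMod ((Scheme.Modules.pullback (PicF.XTmap A.hom (𝟙 At)⁻¹)).obj P) P)) ∧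
      PicF.IsTrivialCl (PicF.cl (CohB1.tensorMod ((Scheme.Modules.pullback (AbDual.bcMap (𝟙 A)⁻¹ At)).obj P) P)) := by
  set ξ := PicF.cl P
  have hrig : PicF.pullCl (PicF.secT A.hom η[A].left (Over.w η[A]) At) ξ = oneCl _ := hξ.2.2
  have h2 : PicGrp.mulCl (PicF.pullCl (AbDual.bcMap (𝟙 A)⁻¹ At) ξ) ξ = oneCl _ := by
    have := pullCl_inv_mul hφ (𝟙 A) hξ.1 hrig
    rwa [bcMap_id, PicLoc.pullCl_id] at this
  refine ⟨?_, h2⟩
  show PicGrp.mulCl (PicF.pullCl (PicF.XTmap A.hom (𝟙 At)⁻¹) ξ) ξ = oneCl _
  have e : PicF.pullCl (PicF.XTmap A.hom (𝟙 At)⁻¹) ξ = PicF.pullCl (AbDual.bcMap (𝟙 A)⁻¹ At) ξ := by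
    refine eq_of_map_eq hφ (isPicZeroCl_XTmap _ _ hξ.1) (isPicZeroCl_bcMap _ _ hξ.1)
      (rig_pullCl _ ξ (by rw [hrig]; exact pullCl_oneCl _)) ?_ ?_
    · rw [← PicLoc.pullCl_comp]
      have e' : PicF.secT A.hom η[A].left (Over.w η[A]) At ≫ AbDual.bcMap (𝟙 A)⁻¹ At =
          PicF.secT A.hom η[A].left (Over.w η[A]) At := by
        rw [secT_eq_lift, bcMap_eq_whiskerRight, ← Over.comp_left]
        refine congrArg CommaMorphism.left ?_
        apply CartesianMonoidalCategory.hom_ext
        · simp [GrpObj.comp_inv, ← Hom.one_def]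
        · simp
      rw [e']
      exact hrig
    · rw [hφ.relPic.natural At At _ ξ hξ.1, map_pullCl_inv hφ hφ (𝟙 A) At hξ.1, bcMap_id, PicLoc.pullCl_id,
        hξ.2.1, Category.comp_id]
  rw [e]
  exact h2

end Groth.Agent.S17443
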