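import Groth.Statements.S17444
import Groth.Prelude.Def_W4c2gerbepatchBitors
import Groth.Prelude.Def_W4c6defoisocp1TwistExt
import Mathlib.CategoryTheory.Monoidal.Rigid.Basic
import Mathlib.CategoryTheory.Monoidal.Preadditive
import Mathlib.CategoryTheory.Idempotents.Basic
import Mathlib.CategoryTheory.Preadditive.Biproducts
import Mathlib.CategoryTheory.Sites.CoversTop.Basic
import Mathlib.LinearAlgebra.FiniteDimensional.Lemmas
import Mathlib.GroupTheory.Index
import Mathlib.RingTheory.Nilpotent.Exp
import Mathlib.RingTheory.Nilpotent.Lemmas
import Mathlib.Algebra.Algebra.Bilinear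
import Mathlib.Algebra.Ring.GeomSum
import Mathlib.RingTheory.Polynomial.Cyclotomic.Eval
import Mathlib.RingTheory.RootsOfUnity.CyclotomicUnits

set_option autoImplicit false
universe u v
open SSRed

namespace Groth.Agent.S17444
open CategoryTheory CategoryTheory.Limits MonoidalCategory Opposite

/-- Let K be a field of characteristic zero, V a K-vector space and g a K-linear endomorphism of V such
that g - 1 is nilpotent (a unipotent automorphism). Then for every integer n > 0 the endomorphisms
gⁿ - 1 and g - 1 have the same kernel: a vector fixed by gⁿ is fixed by g. (The published statement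
assumes V finite-dimensional; this row allows any V.) -/
theorem result (K : Type u) (V : Type v) [Field K] [CharZero K]
    [AddCommGroup V] [Module K V] (g : Module.End K V) (hg : IsNilpotent (g - 1)) (n : ℕ) (hn : 0 < n) :
    LinearMap.ker (g ^ n - 1) = LinearMap.ker (g - 1) := by
  let U : Module.End K V := ∑ i ∈ Finset.range n, g ^ i
  have hU : U * (g - 1) = g ^ n - 1 := geom_sum_mul g n
  have hn' : IsUnit ((n : Module.End K V)) := by
    rw [← map_natCast (algebraMap K (Module.End K V))]
    exact (IsUnit.mk0 _ (Nat.cast_ne_zero.mpr hn.ne')).map _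
  have hd : IsNilpotent (U - n) := by
    have : U - (n : Module.End K V) = ∑ i ∈ Finset.range n, (g ^ i - 1) := by simp [U, Finset.sum_sub_distrib]
    rw [this]
    refine Commute.isNilpotent_sum (fun i _ => ?_) (fun i j _ _ => ?_)
    · rw [← geom_sum_mul g i]
      exact Commute.isNilpotent_mul_left (Commute.sum_left _ _ _ fun k _ =>
        (((Commute.refl g).pow_left k).sub_right (Commute.one_right _))) hg
    · exact ((Commute.pow_pow_self g i j).sub_right (Commute.one_right _)).sub_left (Commute.one_left _)
  have hunit : IsUnit U := by
    rw [show U = (n : Module.End K V) + (U - n) by abel]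
    exact hd.isUnit_add_left_of_commute hn' (Nat.cast_commute _ _).symm
  ext x
  rw [← hU, LinearMap.mem_ker, LinearMap.mem_ker, Module.End.mul_apply]
  exact map_eq_zero_iff _ ((Module.End.isUnit_iff U).mp hunit).injective

end Groth.Agent.S17444
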