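import Groth.Statements.S17445
import Mathlib.NumberTheory.Multiplicity
import Mathlib.NumberTheory.LSeries.PrimesInAP
import Mathlib.RingTheory.ZMod.UnitsCyclic
import Mathlib.Data.Nat.Factorization.Basic

set_option autoImplicit false
open Finset
open SSRed

namespace Groth.Agent.S17445

lemma pow_sub_one_ne_zero {ℓ n : ℕ} (hℓ : 1 < ℓ) (hn : n ≠ 0) : ℓ ^ n - 1 ≠ 0 :=
  Nat.sub_ne_zero_of_lt (Nat.one_lt_pow hn hℓ)

lemma prod_ne_zero {ℓ g : ℕ} (hℓ : 1 < ℓ) : (∏ a ∈ Icc 1 g, (ℓ ^ (2 * a) - 1)) ≠ 0 :=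
  Finset.prod_ne_zero_iff.2 fun a ha => pow_sub_one_ne_zero hℓ (by simp at ha; omega)

lemma val_prod {p ℓ g : ℕ} (hp : p.Prime) (hℓ : 1 < ℓ) :
    padicValNat p (∏ a ∈ Icc 1 g, (ℓ ^ (2 * a) - 1)) =
      ∑ a ∈ Icc 1 g, padicValNat p (ℓ ^ (2 * a) - 1) := by
  rw [← Nat.factorization_def _ hp, Nat.factorization_prod (fun a ha => pow_sub_one_ne_zero hℓ (by simp at ha; omega))]
  simp [Finsupp.finset_sum_apply, Nat.factorization_def _ hp]

lemma val_two_factorial (g : ℕ) : ∑ a ∈ Icc 1 g, padicValNat 2 a = padicValNat 2 g.factorial := by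
  rw [← Nat.factorization_def _ Nat.prime_two, ← Finset.prod_Ico_id_eq_factorial, show Ico 1 (g + 1) = Icc 1 g by ext a; simp,
    Nat.factorization_prod (fun a ha => by simp at ha; omega)]
  simp [Finsupp.finset_sum_apply, Nat.factorization_def _ Nat.prime_two]

lemma two_lower {ℓ g : ℕ} (hℓ : 1 < ℓ) (h2 : ¬ 2 ∣ ℓ) :
    3 * g + padicValNat 2 g.factorial ≤ padicValNat 2 (∏ a ∈ Icc 1 g, (ℓ ^ (2 * a) - 1)) := by
  rw [val_prod Nat.prime_two hℓ, ← val_two_factorial]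
  calc 3 * g + ∑ a ∈ Icc 1 g, padicValNat 2 a = ∑ a ∈ Icc 1 g, (3 + padicValNat 2 a) := by
        simp [Finset.sum_add_distrib, mul_comm]
    _ ≤ _ := Finset.sum_le_sum fun a ha => by
        simp at ha
        have h := padicValNat.pow_two_sub_one_ge hℓ h2 (n := 2 * a) (by omega) (by simp)
        rw [padicValNat.mul (by omega) (by omega)] at h
        simp at h
        omega

lemma two_exact {ℓ g : ℕ} (h8 : ℓ % 8 = 3) :
    padicValNat 2 (∏ a ∈ Icc 1 g, (ℓ ^ (2 * a) - 1)) = 3 * g + padicValNat 2 g.factorial := by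
  rw [val_prod Nat.prime_two (by omega), ← val_two_factorial]
  calc ∑ a ∈ Icc 1 g, padicValNat 2 (ℓ ^ (2 * a) - 1) = ∑ a ∈ Icc 1 g, (3 + padicValNat 2 a) :=
        Finset.sum_congr rfl fun a ha => by
        simp at ha
        have h := padicValNat.pow_two_sub_one (x := ℓ) (n := 2 * a) (by omega) (by omega) (by omega) (by simp)
        have e1 : padicValNat 2 (ℓ - 1) = 1 := by
          have l1 := (padicValNat_dvd_iff_le (p := 2) (a := ℓ - 1) (n := 1) (by omega)).1 (by omega)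
          have l2 := mt (padicValNat_dvd_iff_le (p := 2) (a := ℓ - 1) (n := 2) (by omega)).2 (by omega)
          omega
        have e2 : padicValNat 2 (ℓ + 1) = 2 := by
          have l1 := (padicValNat_dvd_iff_le (p := 2) (a := ℓ + 1) (n := 2) (by omega)).1 (by omega)
          have l2 := mt (padicValNat_dvd_iff_le (p := 2) (a := ℓ + 1) (n := 3) (by omega)).2 (by omega)
          omega
        rw [e1, e2, padicValNat.mul (by omega) (by omega)] at h
        simp at h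
        omega
    _ = _ := by simp [Finset.sum_add_distrib, mul_comm]

lemma filter_eq (g h : ℕ) (hh : 0 < h) :
    (Icc 1 g).filter (h ∣ ·) = (Icc 1 (g / h)).image (h * ·) := by
  ext a
  simp only [mem_filter, mem_Icc, mem_image]
  constructor
  · rintro ⟨⟨h1, h2⟩, i, rfl⟩
    refine ⟨i, ⟨?_, (Nat.le_div_iff_mul_le hh).2 (by linarith)⟩, rfl⟩
    rcases Nat.eq_zero_or_pos i with rfl | hi
    · simp at h1
    · exact hi
  · rintro ⟨i, ⟨h1, h2⟩, rfl⟩
    have := (Nat.le_div_iff_mul_le hh).1 h2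
    exact ⟨⟨Nat.mul_pos hh h1, by linarith⟩, Dvd.intro i rfl⟩

lemma exists_half {p : ℕ} (hp : p.Prime) (hp2 : p ≠ 2) : ∃ h, 0 < h ∧ p - 1 = 2 * h := by
  have := hp.eq_two_or_odd
  have := hp.two_le
  exact ⟨(p - 1) / 2, by omega, by omega⟩

lemma fermat {p ℓ : ℕ} (hp : p.Prime) (h : ¬ p ∣ ℓ) (hℓ : 1 ≤ ℓ) : p ∣ ℓ ^ (p - 1) - 1 := by
  haveI := Fact.mk hp
  rw [← ZMod.natCast_eq_zero_iff, Nat.cast_sub (Nat.one_le_pow _ _ hℓ), sub_eq_zero]
  push_cast
  exact ZMod.pow_card_sub_one_eq_one (by rwa [Ne, ZMod.natCast_eq_zero_iff])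

/-- valuation formula at an odd prime, in terms of `x = ℓ ^ (p - 1)`. -/
lemma term_eq {p ℓ i : ℕ} (hp : p.Prime) (hp2 : p ≠ 2) (hl : ¬ p ∣ ℓ) (hℓ : 1 < ℓ) (hi : i ≠ 0) :
    padicValNat p (ℓ ^ ((p - 1) * i) - 1) = padicValNat p (ℓ ^ (p - 1) - 1) + padicValNat p i := by
  haveI := Fact.mk hp
  have := hp.two_le
  have h := padicValNat.pow_sub_pow (p := p) (x := ℓ ^ (p - 1)) (y := 1) (hp.odd_of_ne_two hp2)
    (Nat.one_lt_pow (by omega) hℓ) (fermat hp hl hℓ.le) (fun h => hl (hp.dvd_of_dvd_pow h)) hi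
  simpa [← pow_mul] using h

lemma odd_sum {p g : ℕ} (hp : p.Prime) (hp2 : p ≠ 2) :
    ∃ h, 0 < h ∧ p - 1 = 2 * h ∧ (2 * g) / (p - 1) + ∑ i ∈ Icc 1 ((2 * g) / (p - 1)), padicValNat p i =
      ∑ a ∈ (Icc 1 g).filter (h ∣ ·), (1 + padicValNat p (a / h)) := by
  obtain ⟨h, hh, he⟩ := exists_half hp hp2
  refine ⟨h, hh, he, ?_⟩
  rw [filter_eq g h hh, Finset.sum_image (fun a _ b _ e => Nat.eq_of_mul_eq_mul_left hh e), he,
    Nat.mul_div_mul_left g h two_pos, Finset.sum_add_distrib]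
  simp [Nat.mul_div_cancel_left _ hh]

lemma odd_lower {p ℓ g : ℕ} (hp : p.Prime) (hp2 : p ≠ 2) (hl : ¬ p ∣ ℓ) (hℓ : 1 < ℓ) :
    (2 * g) / (p - 1) + ∑ i ∈ Icc 1 ((2 * g) / (p - 1)), padicValNat p i ≤
      padicValNat p (∏ a ∈ Icc 1 g, (ℓ ^ (2 * a) - 1)) := by
  haveI := Fact.mk hp
  obtain ⟨h, hh, he, e⟩ := odd_sum (g := g) hp hp2
  rw [val_prod hp hℓ, e]
  refine le_trans (Finset.sum_le_sum fun a ha => ?_) (Finset.sum_le_sum_of_subset (Finset.filter_subset _ _))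
  simp at ha
  obtain ⟨⟨ha1, ha2⟩, i, rfl⟩ := ha
  have hi : i ≠ 0 := by rintro rfl; simp at ha1
  rw [Nat.mul_div_cancel_left _ hh, ← mul_assoc, ← he, term_eq hp hp2 hl hℓ hi]
  have hp1 : p - 1 ≠ 0 := by omega
  have := (padicValNat_dvd_iff_le (p := p) (n := 1) (pow_sub_one_ne_zero hℓ hp1)).1
    (by simpa using fermat hp hl hℓ.le)
  omega

lemma odd_exact {p g : ℕ} (B : ℕ) (hp : p.Prime) (hp2 : p ≠ 2) :
    ∃ ℓ, ℓ.Prime ∧ B < ℓ ∧ padicValNat p (∏ a ∈ Icc 1 g, (ℓ ^ (2 * a) - 1)) =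
      (2 * g) / (p - 1) + ∑ i ∈ Icc 1 ((2 * g) / (p - 1)), padicValNat p i := by
  haveI := Fact.mk hp
  haveI : NeZero (p ^ 2) := ⟨pow_ne_zero _ hp.ne_zero⟩
  haveI := ZMod.isCyclic_units_of_prime_pow p hp hp2 2
  obtain ⟨r, hr⟩ := IsCyclic.exists_generator (α := (ZMod (p ^ 2))ˣ)
  have hord : orderOf r = p * (p - 1) := by
    rw [orderOf_eq_card_of_forall_mem_zpowers hr, Nat.card_eq_fintype_card, ZMod.card_units_eq_totient,
      Nat.totient_prime_pow hp (by norm_num)]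
    simp
  obtain ⟨ℓ, hB, hℓp, hℓr⟩ := Nat.forall_exists_prime_gt_and_eq_mod r.isUnit (max B p)
  have hℓ := hℓp.one_lt
  have hl : ¬ p ∣ ℓ := fun h => by
    have := (Nat.prime_dvd_prime_iff_eq hp hℓp).1 h
    omega
  have key : ∀ m, p ^ 2 ∣ ℓ ^ m - 1 ↔ p * (p - 1) ∣ m := fun m => by
    rw [← hord, orderOf_dvd_iff_pow_eq_one, ← ZMod.natCast_eq_zero_iff,
      Nat.cast_sub (Nat.one_le_pow _ _ hℓp.pos), sub_eq_zero, Units.ext_iff]
    push_cast
    rw [hℓr]
  have := hp.two_le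
  obtain ⟨h, hh, he, e⟩ := odd_sum (g := g) hp hp2
  refine ⟨ℓ, hℓp, by omega, ?_⟩
  rw [val_prod hp hℓ, e, Finset.sum_filter]
  refine Finset.sum_congr rfl fun a ha => ?_
  simp at ha
  split_ifs with hd
  · obtain ⟨i, rfl⟩ := hd
    have hi : i ≠ 0 := by rintro rfl; simp at ha
    rw [Nat.mul_div_cancel_left _ hh, ← mul_assoc, ← he, term_eq hp hp2 hl hℓ hi]
    have l1 := (padicValNat_dvd_iff_le (p := p) (n := 1) (pow_sub_one_ne_zero hℓ (by omega : p - 1 ≠ 0))).1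
      (by simpa using fermat hp hl hℓ.le)
    have l2 := mt (padicValNat_dvd_iff_le (p := p) (n := 2) (pow_sub_one_ne_zero hℓ (by omega : p - 1 ≠ 0))).2
      (fun h2 => by
        have := Nat.le_of_dvd (by omega) ((key _).1 h2)
        nlinarith)
    omega
  · refine padicValNat.eq_zero_of_not_dvd fun h1 => hd ?_
    have hne := pow_sub_one_ne_zero hℓ (by omega : 2 * a ≠ 0)
    have h2 := padicValNat.pow_sub_pow (p := p) (x := ℓ ^ (2 * a)) (y := 1) (hp.odd_of_ne_two hp2)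
      (Nat.one_lt_pow (by omega) hℓ) h1 (fun h => hl (hp.dvd_of_dvd_pow h)) hp.ne_zero
    rw [padicValNat_self, one_pow, ← pow_mul] at h2
    have h3 := (padicValNat_dvd_iff_le (p := p) (n := 1) hne).1 (by simpa using h1)
    have h4 : p ^ 2 ∣ ℓ ^ (2 * a * p) - 1 :=
      (padicValNat_dvd_iff_le (pow_sub_one_ne_zero hℓ (Nat.mul_ne_zero (by omega) hp.ne_zero))).2 (by omega)
    rw [key, mul_comm (2 * a) p] at h4
    have h5 := Nat.dvd_of_mul_dvd_mul_left hp.pos h4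
    rw [he] at h5
    exact Nat.dvd_of_mul_dvd_mul_left two_pos h5


/-- For natural numbers g and B with B ≥ 2g + 1, a natural number d divides ∏_{a=1}^{g} (ℓ^{2a} - 1) for
every prime ℓ > B if and only if d divides N(g) = 2^{3g + v₂(g!)} · ∏_{3 ≤ p ≤ 2g+1, p prime}
p^{[2g/(p-1)] + Σ_{1 ≤ i ≤ [2g/(p-1)]} v_p(i)}. In words: N(g) is the greatest common divisor of
these products as ℓ runs through the primes beyond any bound that is at least 2g + 1; its prime
factors are the primes p ≤ 2g + 1. (This is the number N(g) of the published result, which bounds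
the degree of the field of semistable reduction of a g-dimensional abelian variety over a strictly
henselian discretely valued field; the printed phrase is the greatest common divisor over all large
primes, made precise here by the bound 2g + 1, below which a prime ℓ ≤ 2g + 1 divides N(g) but not
its own product.) -/
theorem result (g B d : ℕ) (hB : 2 * g + 1 ≤ B) :
    (∀ ℓ : ℕ, ℓ.Prime → B < ℓ → d ∣ ∏ a ∈ Icc 1 g, (ℓ ^ (2 * a) - 1)) ↔
      d ∣ 2 ^ (3 * g + padicValNat 2 g.factorial) *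
        ∏ p ∈ (Icc 3 (2 * g + 1)).filter Nat.Prime,
          p ^ ((2 * g) / (p - 1) + ∑ i ∈ Icc 1 ((2 * g) / (p - 1)), padicValNat p i) := by
  constructor
  · intro H
    rw [Nat.dvd_iff_prime_pow_dvd_dvd]
    intro p k hp hk
    haveI := Fact.mk hp
    rcases eq_or_ne p 2 with rfl | hp2
    · obtain ⟨ℓ, hBl, hℓ, h8⟩ := Nat.forall_exists_prime_gt_and_modEq (q := 8) (a := 3) B (by norm_num) (by norm_num)
      have h := (padicValNat_dvd_iff_le (prod_ne_zero hℓ.one_lt)).1 (hk.trans (H ℓ hℓ hBl))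
      rw [two_exact h8] at h
      exact Dvd.dvd.mul_right (pow_dvd_pow 2 h) _
    · obtain ⟨ℓ, hℓ, hBl, e⟩ := odd_exact (g := g) B hp hp2
      have h := (padicValNat_dvd_iff_le (prod_ne_zero hℓ.one_lt)).1 (hk.trans (H ℓ hℓ hBl))
      rw [e] at h
      by_cases hpg : p ≤ 2 * g + 1
      · refine Dvd.dvd.mul_left ?_ _
        refine (pow_dvd_pow p h).trans (Finset.dvd_prod_of_mem (fun p => p ^ _) ?_)
        have := hp.two_le
        simp [hp]
        omega
      · have h0 : (2 * g) / (p - 1) = 0 := Nat.div_eq_of_lt (by omega)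
        rw [h0] at h
        simp at h
        simp [h]
  · intro hd ℓ hℓ hBl
    rcases Nat.eq_zero_or_pos g with rfl | hg
    · simpa [Finset.filter_singleton, Nat.not_prime_one] using hd
    refine hd.trans (Nat.Coprime.mul_dvd_of_dvd_of_dvd (Nat.Coprime.prod_right fun p hp => ?_) ?_
      (Finset.prod_dvd_of_isRelPrime (fun p hp q hq hne => ?_) fun p hp => ?_))
    · simp at hp
      exact Nat.Coprime.pow _ _ ((Nat.coprime_primes Nat.prime_two hp.2).2 (by omega))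
    · haveI := Fact.mk Nat.prime_two
      refine (padicValNat_dvd_iff_le (prod_ne_zero hℓ.one_lt)).2 (two_lower hℓ.one_lt fun h => ?_)
      have := (Nat.prime_dvd_prime_iff_eq Nat.prime_two hℓ).1 h
      omega
    · simp at hp hq
      exact Nat.coprime_iff_isRelPrime.1 (Nat.Coprime.pow _ _ ((Nat.coprime_primes hp.2 hq.2).2 hne))
    · simp at hp
      haveI := Fact.mk hp.2
      refine (padicValNat_dvd_iff_le (prod_ne_zero hℓ.one_lt)).2
        (odd_lower hp.2 (by omega) (fun h => ?_) hℓ.one_lt)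
      have := (Nat.prime_dvd_prime_iff_eq hp.2 hℓ).1 h
      omega

end Groth.Agent.S17445
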