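import Groth.Statements.S17446
import Mathlib.Tactic.Group
import Mathlib.Tactic.Abel
import Mathlib.Algebra.Group.Subgroup.Lattice
import Mathlib.LinearAlgebra.FiniteDimensional.Defs

set_option autoImplicit false
universe u v
open SSRed

namespace Groth.Agent.S17446

/-- Let K be a field, V a finite-dimensional K-vector space and H₁, H₂ subgroups of the group of
K-linear automorphisms of V such that H₂ normalizes H₁. Call the action of a subgroup H unipotent
when, for some n, every product (h₁ - 1)(h₂ - 1)⋯(hₙ - 1) with all hᵢ in H is the zero endomorphism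
(equivalently, V has an H-stable flag on whose successive quotients H acts trivially). If H₁ and H₂
act unipotently, then the subgroup generated by H₁ and H₂ acts unipotently. (In the published result
H₁ and H₂ are the absolute Galois groups of two finite Galois extensions of a strictly henselian
discretely valued field over which an abelian variety becomes semistable, acting on its rational
ℓ-adic Tate module, and the conclusion is semistability over the intersection of the two fields; the
printed argument uses only that H₂ normalizes H₁.) -/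
theorem result (K : Type u) (V : Type v) [Field K]
    [AddCommGroup V] [Module K V] [FiniteDimensional K V]
    (H₁ H₂ : Subgroup (V ≃ₗ[K] V)) (hnorm : ∀ g ∈ H₂, ∀ h ∈ H₁, g * h * g⁻¹ ∈ H₁)
    (h₁ : ∃ n : ℕ, ∀ f : Fin n → ↥H₁,
      (List.ofFn fun i => (((f i : ↥H₁) : V ≃ₗ[K] V) : Module.End K V) - 1).prod = 0)
    (h₂ : ∃ n : ℕ, ∀ f : Fin n → ↥H₂,
      (List.ofFn fun i => (((f i : ↥H₂) : V ≃ₗ[K] V) : Module.End K V) - 1).prod = 0) :
    ∃ n : ℕ, ∀ f : Fin n → ↥(H₁ ⊔ H₂),
      (List.ofFn fun i => (((f i : ↥(H₁ ⊔ H₂)) : V ≃ₗ[K] V) : Module.End K V) - 1).prod = 0 := by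
  obtain ⟨n₁, hn₁⟩ := h₁
  obtain ⟨n₂, hn₂⟩ := h₂
  let d : (V ≃ₗ[K] V) → Module.End K V := fun x => ((x : V ≃ₗ[K] V) : Module.End K V) - 1
  obtain ⟨W, hW0, hWs⟩ : ∃ W : ℕ → Submodule K V, W 0 = ⊥ ∧
      ∀ k, W (k + 1) = ⨅ h : H₁, (W k).comap (d h) :=
    ⟨fun k => Nat.rec (⊥ : Submodule K V) (fun _ W => ⨅ h : H₁, W.comap (d h)) k, rfl, fun _ => rfl⟩
  have memW : ∀ k v, v ∈ W (k + 1) ↔ ∀ h ∈ H₁, d h v ∈ W k := fun k v => by
    rw [hWs]; simp
  have dapp : ∀ x v, d x v = x v - v := fun x v => rfl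
  have mono : ∀ k v, v ∈ W k → v ∈ W (k + 1) := by
    intro k
    induction k with
    | zero => intro v hv; rw [memW]; intro h _; rw [hW0, Submodule.mem_bot] at hv; simp [hv]
    | succ k ih => intro v hv; rw [memW]; intro h hh; exact ih _ ((memW k v).1 hv h hh)
  have stab1 : ∀ k v, v ∈ W k → ∀ h ∈ H₁, d h v ∈ W k := fun k v hv => (memW k v).1 (mono k v hv)
  have stab2 : ∀ k, ∀ g ∈ H₂, ∀ v, v ∈ W k → g v ∈ W k := by
    intro k
    induction k with
    | zero => intro g _ v hv; rw [hW0, Submodule.mem_bot] at hv; simp [hv]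
    | succ k ih =>
      intro g hg v hv
      rw [memW]; intro h hh
      have h' : g⁻¹ * h * g ∈ H₁ := by simpa using hnorm g⁻¹ (inv_mem hg) h hh
      have e := ih g hg _ ((memW k v).1 hv _ h')
      convert e using 1
      simp [dapp, map_sub]
  have form : ∀ x ∈ H₁ ⊔ H₂, ∃ h ∈ H₁, ∃ g ∈ H₂, x = h * g := by
    intro x hx
    rw [Subgroup.sup_eq_closure] at hx
    induction hx using Subgroup.closure_induction with
    | mem y hy =>
      rcases hy with hy | hy
      · exact ⟨y, hy, 1, one_mem _, (mul_one y).symm⟩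
      · exact ⟨1, one_mem _, y, hy, (one_mul y).symm⟩
    | one => exact ⟨1, one_mem _, 1, one_mem _, (one_mul 1).symm⟩
    | mul a b _ _ ha hb =>
      obtain ⟨p, hp, q, hq, rfl⟩ := ha
      obtain ⟨p', hp', q', hq', rfl⟩ := hb
      exact ⟨p * (q * p' * q⁻¹), mul_mem hp (hnorm q hq p' hp'), q * q', mul_mem hq hq', by group⟩
    | inv a _ ha =>
      obtain ⟨p, hp, q, hq, rfl⟩ := ha
      exact ⟨q⁻¹ * p⁻¹ * q, by simpa using hnorm q⁻¹ (inv_mem hq) p⁻¹ (inv_mem hp), q⁻¹, inv_mem hq,
        by group⟩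
  have topW : ∀ k v, (∀ l : List (V ≃ₗ[K] V), l.length = k → (∀ x ∈ l, x ∈ H₁) →
      (l.map d).prod v = 0) → v ∈ W k := by
    intro k
    induction k with
    | zero => intro v hv; simpa [hW0] using hv [] rfl (by simp)
    | succ k ih =>
      intro v hv; rw [memW]; intro h hh
      refine ih _ (fun l hl hmem => ?_)
      have := hv (l ++ [h]) (by simp [hl]) (by simpa [or_imp, forall_and, hh] using hmem)
      simpa using this
  have toList : ∀ {n : ℕ} {H : Subgroup (V ≃ₗ[K] V)}, (∀ f : Fin n → ↥H,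
      (List.ofFn fun i => (((f i : ↥H) : V ≃ₗ[K] V) : Module.End K V) - 1).prod = 0) →
      ∀ l : List (V ≃ₗ[K] V), l.length = n → (∀ x ∈ l, x ∈ H) → (l.map d).prod = 0 := by
    intro n H hf l hl hmem
    subst hl
    rw [← hf (fun i => ⟨l.get i, hmem _ (l.get_mem i)⟩)]
    congr 1
    conv_lhs => rw [← List.ofFn_get l, List.map_ofFn]
    rfl
  have top₁ : ∀ v, v ∈ W n₁ := fun v => topW n₁ v (fun l hl hm => by simp [toList hn₁ l hl hm])
  have step : ∀ k (l : List (V ≃ₗ[K] V)), (∀ x ∈ l, x ∈ H₁ ⊔ H₂) → ∀ v ∈ W (k + 1),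
      ∃ l' : List (V ≃ₗ[K] V), l'.length = l.length ∧ (∀ x ∈ l', x ∈ H₂) ∧
        (l.map d).prod v - (l'.map d).prod v ∈ W k ∧ (l'.map d).prod v ∈ W (k + 1) := by
    intro k l
    induction l with
    | nil => intro _ v hv; exact ⟨[], rfl, by simp, by simp, by simpa using hv⟩
    | cons x l ih =>
      intro hmem v hv
      obtain ⟨l', hl', hm', hsub, hin⟩ := ih (fun y hy => hmem y (List.mem_cons_of_mem _ hy)) v hv
      obtain ⟨h, hh, g, hg, rfl⟩ := form x (hmem x (List.mem_cons_self ..))
      refine ⟨g :: l', by simp [hl'], by simpa [hg] using hm', ?_, ?_⟩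
      · simp only [List.map_cons, List.prod_cons]
        generalize hP : (l.map d).prod v = p at hsub
        generalize hQ : (l'.map d).prod v = q at hsub hin
        show d (h * g) ((l.map d).prod v) - d g ((l'.map d).prod v) ∈ W k
        rw [hP, hQ]
        have e : d (h * g) p - d g q = d h (g (p - q)) + (g (p - q) - (p - q)) + d h (g q) := by
          simp [dapp, map_sub]; abel
        rw [e]
        exact add_mem (add_mem (stab1 k _ (stab2 k g hg _ hsub) h hh)
          (sub_mem (stab2 k g hg _ hsub) hsub)) ((memW k _).1 (stab2 _ g hg _ hin) h hh)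
      · simp only [List.map_cons, List.prod_cons]
        show d g ((l'.map d).prod v) ∈ W (k + 1)
        rw [dapp]
        exact sub_mem (stab2 _ g hg _ hin) hin
  have main : ∀ k (l : List (V ≃ₗ[K] V)), l.length = k * n₂ → (∀ x ∈ l, x ∈ H₁ ⊔ H₂) →
      ∀ v ∈ W k, (l.map d).prod v = 0 := by
    intro k
    induction k with
    | zero => intro l _ _ v hv; rw [hW0, Submodule.mem_bot] at hv; simp [hv]
    | succ k ih =>
      intro l hl hmem v hv
      have hsplit := List.take_append_drop (k * n₂) l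
      rw [← hsplit, List.map_append, List.prod_append]
      show ((l.take (k * n₂)).map d).prod (((l.drop (k * n₂)).map d).prod v) = 0
      obtain ⟨l', hl', hm', hsub, -⟩ := step k (l.drop (k * n₂))
        (fun x hx => hmem x (List.mem_of_mem_drop hx)) v hv
      have hlen : (l.drop (k * n₂)).length = n₂ := by
        rw [List.length_drop, hl, Nat.succ_mul]; omega
      rw [toList hn₂ l' (hl'.trans hlen) hm', LinearMap.zero_apply, sub_zero] at hsub
      exact ih _ (by rw [List.length_take, hl, Nat.succ_mul]; omega)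
        (fun x hx => hmem x (List.mem_of_mem_take hx)) _ hsub
  refine ⟨n₁ * n₂, fun f => LinearMap.ext fun v => ?_⟩
  have := main n₁ (List.ofFn fun i => (f i : V ≃ₗ[K] V)) (by simp) (by
    intro x hx; rw [List.mem_ofFn] at hx; obtain ⟨i, rfl⟩ := hx; exact (f i).2) v (top₁ v)
  rwa [List.map_ofFn] at this

end Groth.Agent.S17446
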