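import Groth.Statements.S17449
import Groth.Agent.L16.Connected.OpenCase
import Groth.Agent.L21.Smooth.Scheme
import Groth.Agent.L02.SchDom.GeomFibre
import Mathlib.AlgebraicGeometry.Morphisms.Flat

set_option autoImplicit false
universe u
open CategoryTheory CategoryTheory.Limits AlgebraicGeometry
open Stein

namespace Groth.Agent.S17449

/-- Let S be a Noetherian scheme and f : X → S a proper, flat and surjective morphism. Suppose that for
every generic point η of an irreducible component of S the fibre of f at η is geometrically
connected and smooth over the residue field κ(η). Then every fibre of f is geometrically connected. -/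
theorem result {X S : Scheme.{u}}
    (f : X ⟶ S) [IsProper f] [Flat f] [Surjective f] [IsNoetherian S]
    (h : ∀ (Z : Set ↑S) (η : ↑S), Z ∈ irreducibleComponents ↑S → IsGenericPoint η Z →
      GeometricallyConnected (f.fiberToSpecResidueField η) ∧ Smooth (f.fiberToSpecResidueField η)) :
    GeometricallyConnected f := by
  refine (GeometricallyConnected.iff_geometricallyConnected_fiber f).2 fun y => ?_
  obtain ⟨η, hη⟩ := QuasiSober.sober (isIrreducible_irreducibleComponent (x := y)) isClosed_irreducibleComponent
  obtain ⟨hgc, hsm⟩ := h _ η (irreducibleComponent_mem_irreducibleComponents y) hη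
  by_cases hne : η = y
  · subst hne; exact hgc
  haveI := hgc
  haveI := hsm
  have hirr : IrreducibleSpace ↥(f.fiber η) := by
    haveI : ConnectedSpace ↥(pullback (f.fiberToSpecResidueField η) (𝟙 _)) :=
      hgc.geometrically_connectedSpace _ _ _ (IsPullback.of_hasPullback _ (𝟙 _))
    haveI : ConnectedSpace ↥(f.fiber η) := (pullback.fst (f.fiberToSpecResidueField η) (𝟙 _)).homeomorph.surjective.connectedSpace
      (pullback.fst (f.fiberToSpecResidueField η) (𝟙 _)).continuous
    haveI : IsLocallyNoetherian (f.fiber η) := LocallyOfFiniteType.isLocallyNoetherian (f.fiberToSpecResidueField η)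
    exact Groth.L02.SchDom.irreducibleSpace_of_connected (fun z => @Groth.L21.Smooth.isDomain_stalk _ _ _ (f.fiberToSpecResidueField η) hsm z)
  refine Groth.L16.Connected.geometricallyConnected_of_dvr f (hη.specializes mem_irreducibleComponent) hne hirr hgc ?_
  intro W t hW ht Z hZ
  haveI : IsDomain (CommRingCat.of W) := inferInstanceAs (IsDomain W)
  haveI : Flat (pullback.snd f t) := MorphismProperty.pullback_snd _ _ inferInstance
  obtain ⟨w, hw⟩ := QuasiSober.sober hZ.1 (isClosed_of_mem_irreducibleComponents _ hZ)
  obtain ⟨v, hv, hv'⟩ := Flat.generalizingMap (pullback.snd f t) (genericPoint_specializes (pullback.snd f t w))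
  refine ⟨v, hv', ?_⟩
  exact hZ.2 isIrreducible_singleton.closure
    (by rw [← hw.def]; exact closure_minimal (Set.singleton_subset_iff.2 hv.mem_closure) isClosed_closure) (subset_closure rfl)
end Groth.Agent.S17449
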