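import Groth.Statements.S1745
import Mathlib.RingTheory.Flat.Basic
import Mathlib.RingTheory.Noetherian.Basic
import Mathlib.RingTheory.Localization.AtPrime.Basic
import Mathlib.Algebra.Module.Injective
import Mathlib.LinearAlgebra.TensorProduct.Pi
-- import your own Groth.Agent.* helpers here

set_option autoImplicit false
universe u
open scoped TensorProduct
open InjHull

namespace Groth.Agent.S1745

/-- Homomorphisms out of an extended ideal extend. -/
theorem extend_map {A B : Type u} [CommRing A] [CommRing B] [Algebra A B] [IsNoetherianRing A] [Module.Flat A B]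
    (I : Type u) [AddCommGroup I] [Module A I] [Module.Injective A I] (p : Ideal A)
    (f : (p.map (algebraMap A B) : Ideal B) →ₗ[B] B ⊗[A] I) :
    ∃ n : B ⊗[A] I, ∀ (x : B) (hx : x ∈ p.map (algebraMap A B)), f ⟨x, hx⟩ = x • n := by
  classical
  obtain ⟨r, a, ha⟩ := Submodule.fg_iff_exists_fin_generating_family.mp (IsNoetherian.noetherian p)
  let σ : (Fin r → A) →ₗ[A] A := Fintype.linearCombination A a
  obtain ⟨m, w, hw⟩ := Submodule.fg_iff_exists_fin_generating_family.mp (IsNoetherian.noetherian (LinearMap.ker σ))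
  let α : I →ₗ[A] (Fin r → I) := LinearMap.pi fun i => a i • LinearMap.id
  let β : (Fin r → I) →ₗ[A] (Fin m → I) := LinearMap.pi fun j => ∑ i, w j i • LinearMap.proj i
  have hex : Function.Exact α β := by
    intro t
    constructor
    · intro ht
      let ψ : (Fin r → A) →ₗ[A] I := Fintype.linearCombination A t
      have hk : LinearMap.ker σ.rangeRestrict ≤ LinearMap.ker ψ := by
        rw [LinearMap.ker_rangeRestrict, ← hw, Submodule.span_le]
        rintro _ ⟨j, rfl⟩
        have := congrFun ht j
        simpa [β, ψ, Fintype.linearCombination_apply] using this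
      let φ : LinearMap.range σ →ₗ[A] I :=
        (LinearMap.ker σ.rangeRestrict).liftQ ψ hk ∘ₗ
          (σ.rangeRestrict.quotKerEquivOfSurjective σ.surjective_rangeRestrict).symm.toLinearMap
      obtain ⟨g, hg⟩ := (Module.Baer.of_injective (inferInstance : Module.Injective A I)).extension_property
        (LinearMap.range σ).subtype Subtype.val_injective φ
      refine ⟨g 1, funext fun i => ?_⟩
      have h1 : σ.rangeRestrict (Pi.single i 1) = ⟨a i, by
          refine ⟨Pi.single i 1, ?_⟩; simp [σ]⟩ := Subtype.ext (by simp [σ])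
      have h2 := LinearMap.congr_fun hg (σ.rangeRestrict (Pi.single i 1))
      have h3 : φ (σ.rangeRestrict (Pi.single i 1)) = t i := by
        simp only [φ, LinearMap.comp_apply, LinearEquiv.coe_coe,
          LinearMap.quotKerEquivOfSurjective_symm_apply, Submodule.liftQ_apply]
        simp [ψ]
      rw [h3, LinearMap.comp_apply, h1] at h2
      rw [← h2, Submodule.subtype_apply, show α (g 1) i = a i • g 1 from rfl, ← map_smul, smul_eq_mul, mul_one]
    · rintro ⟨v, rfl⟩
      funext j
      have hj : σ (w j) = 0 := by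
        have : w j ∈ LinearMap.ker σ := hw ▸ Submodule.subset_span ⟨j, rfl⟩
        exact this
      simp only [β, α, LinearMap.pi_apply, LinearMap.sum_apply, LinearMap.smul_apply, LinearMap.proj_apply,
        LinearMap.id_apply, Pi.zero_apply, ← mul_smul, ← Finset.sum_smul]
      rw [show ∑ i, w j i * a i = σ (w j) by simp [σ, Fintype.linearCombination_apply], hj, zero_smul]
  have hexT := Module.Flat.lTensor_exact B hex
  have hmemB : ∀ i, algebraMap A B (a i) ∈ p.map (algebraMap A B) := fun i =>
    Ideal.mem_map_of_mem _ (ha ▸ Submodule.subset_span ⟨i, rfl⟩)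
  let v : Fin r → B ⊗[A] I := fun i => f ⟨_, hmemB i⟩
  let z : B ⊗[A] (Fin r → I) := (TensorProduct.piRight A A B fun _ : Fin r => I).symm v
  have hproj : ∀ (q : ℕ) (y : B ⊗[A] (Fin q → I)) (i : Fin q),
      TensorProduct.piRight A A B (fun _ : Fin q => I) y i = (LinearMap.proj i).lTensor B y := by
    intro q y i
    induction y using TensorProduct.induction_on with
    | zero => simp
    | tmul b t => simp
    | add x y hx hy => simp only [map_add, Pi.add_apply, hx, hy]
  have hz : ∀ i, (LinearMap.proj i).lTensor B z = v i := fun i => by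
    rw [← hproj, LinearEquiv.apply_symm_apply]
  have hzero : β.lTensor B z = 0 := by
    refine (TensorProduct.piRight A A B fun _ : Fin m => I).injective (funext fun j => ?_)
    rw [hproj, ← LinearMap.comp_apply, ← LinearMap.lTensor_comp, map_zero, Pi.zero_apply]
    have e : (LinearMap.proj j : (Fin m → I) →ₗ[A] I) ∘ₗ β = ∑ i, w j i • LinearMap.proj i :=
      LinearMap.ext fun t => by simp [β]
    rw [e]
    simp only [← LinearMap.coe_lTensorHom, map_sum, map_smul, LinearMap.sum_apply, LinearMap.smul_apply]
    simp only [LinearMap.coe_lTensorHom, hz, v]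
    simp only [← algebraMap_smul B (w j _), ← map_smul, ← map_sum]
    have hj : σ (w j) = 0 := by
      have : w j ∈ LinearMap.ker σ := hw ▸ Submodule.subset_span ⟨j, rfl⟩
      exact this
    have e2 : (∑ i, algebraMap A B (w j i) • (⟨_, hmemB i⟩ : (p.map (algebraMap A B) : Ideal B))) = 0 := by
      refine Subtype.ext ?_
      rw [Fintype.linearCombination_apply] at hj
      simp only [Submodule.coe_sum, Submodule.coe_smul, ZeroMemClass.coe_zero, smul_eq_mul, ← map_mul, ← map_sum]
      simp only [smul_eq_mul] at hj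
      rw [hj, map_zero]
    rw [e2, map_zero]
  obtain ⟨n, hn⟩ := (hexT z).mp hzero
  refine ⟨n, fun x hx => ?_⟩
  have key : ∀ i, f ⟨_, hmemB i⟩ = algebraMap A B (a i) • n := fun i => by
    show v i = _
    rw [← hz, ← hn, ← LinearMap.comp_apply, ← LinearMap.lTensor_comp,
      show (LinearMap.proj i : (Fin r → I) →ₗ[A] I) ∘ₗ α = a i • LinearMap.id from rfl,
      LinearMap.lTensor_smul, LinearMap.lTensor_id, LinearMap.smul_apply, LinearMap.id_apply, algebraMap_smul]
  have hle : p.map (algebraMap A B) = Submodule.span B (Set.range fun i => algebraMap A B (a i)) := by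
    rw [← ha, ← Ideal.span, Ideal.map_span, ← Set.range_comp]
    rfl
  have hcl : ∀ y ∈ Submodule.span B (Set.range fun i => algebraMap A B (a i)), ∀ hy, f ⟨y, hy⟩ = y • n := by
    intro y hy
    induction hy using Submodule.span_induction with
    | mem y hy => obtain ⟨i, rfl⟩ := hy; exact fun _ => key i
    | zero => exact fun _ => by rw [zero_smul, ← map_zero f]; rfl
    | add y y' hy hy' h h' =>
      intro _
      rw [add_smul, ← h (hle ▸ hy), ← h' (hle ▸ hy'), ← map_add]
      rfl
    | smul c y hy h =>
      intro _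
      rw [smul_assoc, ← h (hle ▸ hy), ← map_smul]
      rfl
  exact hcl x (hle ▸ hx) hx


/-- Let A → B be a flat homomorphism of Noetherian rings such that for every prime q of B with
contraction p, the ideal p B_q equals the maximal ideal q B_q of B_q (for instance an étale map).
Then for every injective A-module I the B-module B ⊗_A I is injective. -/
theorem result (A B : Type u) [CommRing A] [CommRing B] [Algebra A B] [IsNoetherianRing A] [IsNoetherianRing B] [Module.Flat A B] (h : ∀ q : PrimeSpectrum B, Ideal.map (algebraMap B (Localization.AtPrime q.asIdeal)) ((q.asIdeal.comap (algebraMap A B)).map (algebraMap A B)) = IsLocalRing.maximalIdeal (Localization.AtPrime q.asIdeal)) (I : Type u) [AddCommGroup I] [Module A I] [Module.Injective A I] : Module.Injective B (B ⊗[A] I) := by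
  classical
  refine Module.Baer.injective fun J => ?_
  induction J using WellFoundedGT.induction with
  | _ J ih =>
    intro f
    suffices H : ∃ n : B ⊗[A] I, ∀ (x : B) (hx : x ∈ J), f ⟨x, hx⟩ = x • n by
      obtain ⟨n, hn⟩ := H
      exact ⟨LinearMap.toSpanSingleton B _ n, fun x hx => (hn x hx).symm⟩
    have ih' : ∀ (J' : Ideal B), J < J' → ∀ g : J' →ₗ[B] B ⊗[A] I,
        ∃ n : B ⊗[A] I, ∀ (x : B) (hx : x ∈ J'), g ⟨x, hx⟩ = x • n := by
      intro J' hJ' g
      obtain ⟨g', hg'⟩ := ih J' hJ' g
      exact ⟨g' 1, fun x hx => by rw [← map_smul, smul_eq_mul, mul_one, hg' x hx]⟩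
    -- glue along `J + (a)`
    have glue : ∀ (a : B) (hlt : a ∉ J) (n₀ : B ⊗[A] I),
        (∀ c (hc : c * a ∈ J), f ⟨c * a, hc⟩ = c • n₀) → ∃ n : B ⊗[A] I, ∀ (x : B) (hx : x ∈ J), f ⟨x, hx⟩ = x • n := by
      intro a hlt n₀ hn₀
      let F : ↥(J ⊔ Ideal.span {a}) → B ⊗[A] I := fun y =>
        f ⟨_, (Submodule.mem_sup.mp y.2).choose_spec.1⟩ +
          (Ideal.mem_span_singleton'.mp (Submodule.mem_sup.mp y.2).choose_spec.2.choose_spec.1).choose • n₀
      have hF : ∀ (j : B) (hj : j ∈ J) (c : B) (h : j + c * a ∈ J ⊔ Ideal.span {a}),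
          F ⟨j + c * a, h⟩ = f ⟨j, hj⟩ + c • n₀ := by
        intro j hj c h
        obtain ⟨hj', hsp⟩ := (Submodule.mem_sup.mp h).choose_spec
        obtain ⟨hw', heq⟩ := hsp.choose_spec
        have hc' := (Ideal.mem_span_singleton'.mp hw').choose_spec
        have e : (c - (Ideal.mem_span_singleton'.mp hw').choose) * a = (Submodule.mem_sup.mp h).choose - j := by
          rw [sub_mul, hc']
          linear_combination -heq
        have hm : (c - (Ideal.mem_span_singleton'.mp hw').choose) * a ∈ J := e ▸ J.sub_mem hj' hj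
        have := (hn₀ _ hm).trans (sub_smul c _ n₀)
        rw [show (⟨_, hm⟩ : J) = ⟨_, hj'⟩ - ⟨j, hj⟩ from Subtype.ext e, map_sub] at this
        show f ⟨_, hj'⟩ + (Ideal.mem_span_singleton'.mp hw').choose • n₀ = _
        rw [eq_add_of_sub_eq this]
        abel
      have hrep : ∀ y : ↥(J ⊔ Ideal.span {a}), ∃ j ∈ J, ∃ c, (y : B) = j + c * a := fun y => by
        obtain ⟨j, hj, w, hw, e⟩ := Submodule.mem_sup.mp y.2
        obtain ⟨c, rfl⟩ := Ideal.mem_span_singleton'.mp hw
        exact ⟨j, hj, c, e.symm⟩
      let g : ↥(J ⊔ Ideal.span {a}) →ₗ[B] B ⊗[A] I :=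
        { toFun := F
          map_add' := fun y y' => by
            obtain ⟨j, hj, c, e⟩ := hrep y
            obtain ⟨j', hj', c', e'⟩ := hrep y'
            obtain ⟨y, hy⟩ := y
            obtain ⟨y', hy'⟩ := y'
            dsimp only at e e'
            subst e e'
            rw [hF j hj c, hF j' hj' c']
            have e2 : j + c * a + (j' + c' * a) = (j + j') + (c + c') * a := by ring
            rw [show (⟨j + c * a, hy⟩ : ↥(J ⊔ Ideal.span {a})) + ⟨j' + c' * a, hy'⟩ =
              ⟨(j + j') + (c + c') * a, e2 ▸ (J ⊔ Ideal.span {a}).add_mem hy hy'⟩ from Subtype.ext e2,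
              hF _ (J.add_mem hj hj') _,
              show (⟨j + j', J.add_mem hj hj'⟩ : J) = ⟨j, hj⟩ + ⟨j', hj'⟩ from rfl, map_add, add_smul]
            abel
          map_smul' := fun r y => by
            obtain ⟨j, hj, c, e⟩ := hrep y
            obtain ⟨y, hy⟩ := y
            dsimp only at e
            subst e
            rw [hF j hj c]
            have e2 : r • (j + c * a) = r * j + r * c * a := by rw [smul_eq_mul]; ring
            rw [show r • (⟨j + c * a, hy⟩ : ↥(J ⊔ Ideal.span {a})) =
              ⟨r * j + r * c * a, e2 ▸ (J ⊔ Ideal.span {a}).smul_mem r hy⟩ from Subtype.ext e2,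
              hF _ (J.mul_mem_left r hj) _,
              show (⟨r * j, J.mul_mem_left r hj⟩ : J) = r • ⟨j, hj⟩ from rfl, map_smul, RingHom.id_apply,
              smul_add, mul_smul] }
      obtain ⟨n, hn⟩ := ih' _ (lt_of_le_of_ne le_sup_left fun h =>
        hlt (h ▸ Submodule.mem_sup_right (Ideal.mem_span_singleton_self a))) g
      refine ⟨n, fun x hx => ?_⟩
      have h0 : x + 0 * a ∈ J ⊔ Ideal.span {a} := by rw [zero_mul, add_zero]; exact Submodule.mem_sup_left hx
      have := (hF x hx 0 h0).symm.trans (hn _ h0)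
      rwa [zero_smul, add_zero, zero_mul, add_zero] at this
    by_cases hJ : J.IsPrime
    · haveI := hJ
      let p := J.comap (algebraMap A B)
      have hpJ : p.map (algebraMap A B) ≤ J := Ideal.map_comap_le
      obtain ⟨n, hn⟩ := extend_map I p (f ∘ₗ Submodule.inclusion hpJ)
      obtain ⟨G, hG⟩ := (IsNoetherian.noetherian J : J.FG)
      have hloc : ∀ x ∈ J, ∃ s, s ∉ J ∧ s * x ∈ p.map (algebraMap A B) := by
        intro x hx
        have h1 : algebraMap B (Localization.AtPrime J) x ∈ IsLocalRing.maximalIdeal (Localization.AtPrime J) :=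
          (IsLocalization.AtPrime.to_map_mem_maximal_iff (Localization.AtPrime J) J x).mpr hx
        rw [← h ⟨J, hJ⟩, IsLocalization.algebraMap_mem_map_algebraMap_iff J.primeCompl] at h1
        obtain ⟨s, hs, hsx⟩ := h1
        exact ⟨s, hs, hsx⟩
      choose! s hs hsx using hloc
      have hS : ∏ x ∈ G, s x ∉ J := fun hh => by
        obtain ⟨x, hx, hxs⟩ := hJ.prod_mem_iff.mp hh
        exact hs x (hG ▸ Submodule.subset_span hx) hxs
      have hSJ : ∀ x ∈ J, (∏ x ∈ G, s x) * x ∈ p.map (algebraMap A B) := by
        intro x hx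
        rw [← hG] at hx
        induction hx using Submodule.span_induction with
        | mem x hx =>
          rw [← Finset.prod_erase_mul _ _ (Finset.mem_coe.mp hx), mul_assoc]
          exact Ideal.mul_mem_left _ _ (hsx x (hG ▸ Submodule.subset_span hx))
        | zero => rw [mul_zero]; exact Submodule.zero_mem _
        | add y y' _ _ h h' => rw [mul_add]; exact Submodule.add_mem _ h h'
        | smul c y _ h => rw [smul_eq_mul, mul_left_comm]; exact Ideal.mul_mem_left _ _ h
      obtain ⟨n₁, hn₁⟩ : ∃ n₁, n₁ = (∏ x ∈ G, s x) • n := ⟨_, rfl⟩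
      refine glue _ hS n₁ fun c hc => ?_
      have hcJ : c ∈ J := (hJ.mem_or_mem hc).resolve_right hS
      have hm : c * (∏ x ∈ G, s x) ∈ p.map (algebraMap A B) := mul_comm c _ ▸ hSJ c hcJ
      rw [hn₁, ← mul_smul, ← hn _ hm]
      rfl
    · by_cases htop : J = ⊤
      · exact ⟨f ⟨1, htop ▸ Submodule.mem_top⟩, fun x hx => by
          rw [← map_smul]; exact congrArg f (Subtype.ext (mul_one x).symm)⟩
      obtain ⟨a, ha, b, hb, hab⟩ := (Ideal.not_isPrime_iff.mp hJ).resolve_left htop
      -- the colon ideal
      let K : Ideal B := Submodule.comap (LinearMap.mulRight B a) J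
      have hK : J < K := lt_of_le_of_ne (fun x hx => J.mul_mem_right a hx) fun e =>
        hb (e ▸ (show b * a ∈ J by rwa [mul_comm]))
      obtain ⟨n₀, hn₀⟩ := ih' K hK (f ∘ₗ (LinearMap.mulRight B a).restrict fun x hx => hx)
      exact glue a ha n₀ fun c hc => hn₀ c hc

end Groth.Agent.S1745
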