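import Groth.Statements.S17450
import Groth.Agent.L19.SpecSub.SabTorsion

set_option autoImplicit false
set_option backward.isDefEq.respectTransparency.types false
universe u
open CategoryTheory MonoidalCategory CartesianMonoidalCategory MonObj GrpObj AlgebraicGeometry CategoryTheory.Limits
open AlgGrp

namespace Groth.Agent.S17450

/-- Let k be a field with algebraic closure K and G a semi-abelian variety over k, that is, a smooth
connected commutative k-group scheme of finite type whose base change to K is an extension of an
abelian variety by a torus (there are a closed subgroup scheme T of G_K which is a torus and a flat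
surjective homomorphism from G_K onto a proper smooth connected K-group scheme with kernel T). Let H
be a closed subgroup scheme of G and ℓ a prime number such that the ℓ-torsion subgroup scheme H[ℓ]
is trivial: every point h of H with values in any k-scheme satisfying h^ℓ = 1 is the unit. Then H is
finite over k. -/
theorem result (k : Type u) [Field k]
    (G : Over (Spec (CommRingCat.of k))) [GrpObj G] [IsCommMonObj G] [Smooth G.hom] [QuasiCompact G.hom]
    [ConnectedSpace ↥G.left]
    (hK : (∃ (T : Over (Spec (CommRingCat.of (AlgebraicClosure k)))) (_ : GrpObj T) (i : T ⟶ Red.bc (Spec.map (CommRingCat.ofHom (algebraMap k (AlgebraicClosure k)))) G) (A : Over (Spec (CommRingCat.of (AlgebraicClosure k)))) (_ : GrpObj A) (q : Red.bc (Spec.map (CommRingCat.ofHom (algebraMap k (AlgebraicClosure k)))) G ⟶ A),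
        IsMonHom i ∧ IsClosedImmersion i.left ∧ Red.IsTorus T ∧ IsMonHom q ∧ Surjective q.left ∧ Flat q.left ∧
        AlgGrp.IsKernel i q ∧ IsProper A.hom ∧ Smooth A.hom ∧ ConnectedSpace ↥A.left))
    (H : Over (Spec (CommRingCat.of k))) [GrpObj H] (j : H ⟶ G) [IsMonHom j] [IsClosedImmersion j.left]
    (ℓ : ℕ) (hℓ : ℓ.Prime)
    (htors : ∀ (Y : Over (Spec (CommRingCat.of k))) (h : Y ⟶ H), h ^ ℓ = 1 → h = 1) :
    IsFinite H.hom := by
  have hS : Groth.L19.SpecSub.IsSemiab G :=
    Groth.Agent.S14592.result k G hK
  haveI : IsCommMonObj H := by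
    haveI : Mono j := (Over.forget _).mono_of_mono_map (inferInstanceAs (Mono j.left))
    exact ⟨by
      rw [← cancel_mono j, Category.assoc, IsMonHom.mul_hom j, ← Category.assoc, ← BraidedCategory.braiding_naturality,
        Category.assoc, IsCommMonObj.mul_comm]⟩
  refine hS.isFinite_of_mono_pow j ℓ hℓ.two_le ⟨fun {Y} a b hab => ?_⟩
  refine mul_inv_eq_one.1 (htors Y (a * b⁻¹) ?_)
  rw [MonObj.comp_pow, MonObj.comp_pow, Category.comp_id, Category.comp_id] at hab
  rw [mul_pow, inv_pow, hab, mul_inv_cancel]

end Groth.Agent.S17450
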