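import Groth.Statements.S17453
import Groth.Agent.L19.SpecSub.SemiabOps

set_option autoImplicit false
set_option backward.isDefEq.respectTransparency.types false
universe u
open CategoryTheory MonoidalCategory CartesianMonoidalCategory MonObj GrpObj AlgebraicGeometry CategoryTheory.Limits
open AlgGrp

namespace Groth.Agent.S17453

/-- Let k be a field with algebraic closure K and 1 → G' → G → G'' → 1 a short exact sequence of smooth
connected k-group schemes of finite type: G' → G is a homomorphism and a closed immersion, G → G''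
is a flat surjective homomorphism, and G' is its kernel. Say that such a group is semi-abelian when
its base change to K, modulo a suitable torus, is an abelian variety (there are a closed subgroup
scheme of the base change which is a torus and a flat surjective homomorphism onto a proper smooth
connected K-group scheme with that kernel); commutativity is not assumed, it follows. Then G is
semi-abelian exactly when both G' and G'' are semi-abelian. -/
theorem result (k : Type u) [Field k]
    (G' G G'' : Over (Spec (CommRingCat.of k))) [GrpObj G'] [GrpObj G] [GrpObj G'']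
    [Smooth G'.hom] [QuasiCompact G'.hom] [ConnectedSpace ↥G'.left]
    [Smooth G.hom] [QuasiCompact G.hom] [ConnectedSpace ↥G.left]
    [Smooth G''.hom] [QuasiCompact G''.hom] [ConnectedSpace ↥G''.left]
    (j : G' ⟶ G) [IsMonHom j] [IsClosedImmersion j.left]
    (p : G ⟶ G'') [IsMonHom p] [Surjective p.left] [Flat p.left] (hex : AlgGrp.IsKernel j p) :
    (∃ (T : Over (Spec (CommRingCat.of (AlgebraicClosure k)))) (_ : GrpObj T) (i : T ⟶ Red.bc (Spec.map (CommRingCat.ofHom (algebraMap k (AlgebraicClosure k)))) G) (A : Over (Spec (CommRingCat.of (AlgebraicClosure k)))) (_ : GrpObj A) (q : Red.bc (Spec.map (CommRingCat.ofHom (algebraMap k (AlgebraicClosure k)))) G ⟶ A),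
        IsMonHom i ∧ IsClosedImmersion i.left ∧ Red.IsTorus T ∧ IsMonHom q ∧ Surjective q.left ∧ Flat q.left ∧
        AlgGrp.IsKernel i q ∧ IsProper A.hom ∧ Smooth A.hom ∧ ConnectedSpace ↥A.left) ↔
    ((∃ (T : Over (Spec (CommRingCat.of (AlgebraicClosure k)))) (_ : GrpObj T) (i : T ⟶ Red.bc (Spec.map (CommRingCat.ofHom (algebraMap k (AlgebraicClosure k)))) G') (A : Over (Spec (CommRingCat.of (AlgebraicClosure k)))) (_ : GrpObj A) (q : Red.bc (Spec.map (CommRingCat.ofHom (algebraMap k (AlgebraicClosure k)))) G' ⟶ A),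
        IsMonHom i ∧ IsClosedImmersion i.left ∧ Red.IsTorus T ∧ IsMonHom q ∧ Surjective q.left ∧ Flat q.left ∧
        AlgGrp.IsKernel i q ∧ IsProper A.hom ∧ Smooth A.hom ∧ ConnectedSpace ↥A.left) ∧
     (∃ (T : Over (Spec (CommRingCat.of (AlgebraicClosure k)))) (_ : GrpObj T) (i : T ⟶ Red.bc (Spec.map (CommRingCat.ofHom (algebraMap k (AlgebraicClosure k)))) G'') (A : Over (Spec (CommRingCat.of (AlgebraicClosure k)))) (_ : GrpObj A) (q : Red.bc (Spec.map (CommRingCat.ofHom (algebraMap k (AlgebraicClosure k)))) G'' ⟶ A),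
        IsMonHom i ∧ IsClosedImmersion i.left ∧ Red.IsTorus T ∧ IsMonHom q ∧ Surjective q.left ∧ Flat q.left ∧
        AlgGrp.IsKernel i q ∧ IsProper A.hom ∧ Smooth A.hom ∧ ConnectedSpace ↥A.left)) := by
  let K := AlgebraicClosure k
  let t := AbVar.ext k K
  have hbc : ∀ (X : Over (Spec (CommRingCat.of k))) [GrpObj X] [Smooth X.hom] [QuasiCompact X.hom] [ConnectedSpace ↥X.left],
      Smooth (Red.bc t X).hom ∧ QuasiCompact (Red.bc t X).hom ∧ ConnectedSpace ↥(Red.bc t X).left :=
    fun X _ _ _ _ => ⟨MorphismProperty.pullback_snd _ _ ‹Smooth X.hom›,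
      MorphismProperty.pullback_snd _ _ ‹QuasiCompact X.hom›, Groth.L08.ChevPerf.connectedSpace_bc X⟩
  obtain ⟨h1, h2, h3⟩ := hbc G'; obtain ⟨h4, h5, h6⟩ := hbc G; obtain ⟨h7, h8, h9⟩ := hbc G''
  haveI : IsClosedImmersion ((Over.pullback t).map j).left :=
    MorphismProperty.of_isPullback (P := @IsClosedImmersion) (Groth.L08.Albanese.isPullback_bc_map (K := K) j).flip ‹_›
  haveI : Surjective ((Over.pullback t).map p).left :=
    MorphismProperty.of_isPullback (P := @Surjective) (Groth.L08.Albanese.isPullback_bc_map (K := K) p).flip ‹_›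
  haveI : Flat ((Over.pullback t).map p).left :=
    MorphismProperty.of_isPullback (P := @Flat) (Groth.L08.Albanese.isPullback_bc_map (K := K) p).flip ‹_›
  haveI : Mono ((Over.pullback t).map j) :=
    (Over.forget _).mono_of_mono_map (inferInstanceAs (Mono ((Over.pullback t).map j).left))
  have hker := Groth.L08.SmallNorm.isKernel_bc t hex
  constructor
  · intro h
    have hG : Groth.L19.SpecSub.IsSemiab (Red.bc t G) := h
    exact ⟨Groth.L19.SpecSub.isSemiab_of_lineConst (hG.lineConst.of_mono ((Over.pullback t).map j)),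
      hG.of_quotient ((Over.pullback t).map j) ((Over.pullback t).map p) hker⟩
  · rintro ⟨h', h''⟩
    have hG' : Groth.L19.SpecSub.IsSemiab (Red.bc t G') := h'
    have hG'' : Groth.L19.SpecSub.IsSemiab (Red.bc t G'') := h''
    exact Groth.L19.SpecSub.isSemiab_of_lineConst (Groth.L19.SpecSub.LineConst.of_isKernel hker hG'.lineConst hG''.lineConst)

end Groth.Agent.S17453
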