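import Groth.Statements.S17455
import Groth.Agent.L19.AlgGrpBasic.GmProper

set_option autoImplicit false
set_option backward.isDefEq.respectTransparency.types false
set_option backward.isDefEq.respectTransparency false
set_option linter.style.haveILetI false
universe u
open CategoryTheory MonoidalCategory CartesianMonoidalCategory MonObj GrpObj AlgebraicGeometry CategoryTheory.Limits
open AlgGrp

namespace Groth.Agent.S17455

/-- Let k be a field and G a k-group scheme of finite type. If i₁ : T₁ → G and i₂ : T₂ → G are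
homomorphisms and closed immersions from tori, and each is the kernel of a flat surjective
homomorphism from G onto a proper smooth connected k-group scheme, then the two subgroups coincide:
there is an isomorphism e : T₁ ≅ T₂ with e ≫ i₂ = i₁. (So the structure of extension of an abelian
variety by a torus on G, when it exists, is unique.) -/
theorem result (k : Type u) [Field k]
    (G : Over (Spec (CommRingCat.of k))) [GrpObj G] [LocallyOfFiniteType G.hom] [QuasiCompact G.hom]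
    (T₁ T₂ A₁ A₂ : Over (Spec (CommRingCat.of k))) [GrpObj T₁] [GrpObj T₂] [GrpObj A₁] [GrpObj A₂]
    (i₁ : T₁ ⟶ G) [IsMonHom i₁] [IsClosedImmersion i₁.left] (h₁ : Red.IsTorus T₁)
    (i₂ : T₂ ⟶ G) [IsMonHom i₂] [IsClosedImmersion i₂.left] (h₂ : Red.IsTorus T₂)
    (q₁ : G ⟶ A₁) [IsMonHom q₁] [Surjective q₁.left] [Flat q₁.left] (hk₁ : AlgGrp.IsKernel i₁ q₁)
    [IsProper A₁.hom] [Smooth A₁.hom] [ConnectedSpace ↥A₁.left]
    (q₂ : G ⟶ A₂) [IsMonHom q₂] [Surjective q₂.left] [Flat q₂.left] (hk₂ : AlgGrp.IsKernel i₂ q₂)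
    [IsProper A₂.hom] [Smooth A₂.hom] [ConnectedSpace ↥A₂.left] :
    ∃ e : T₁ ≅ T₂, e.hom ≫ i₂ = i₁ := by
  haveI : Mono i₁ := Over.mono_of_mono_left i₁
  haveI : Mono i₂ := Over.mono_of_mono_left i₂
  have h12 : i₁ ≫ q₂ = 1 := Groth.L19.AlgGrpBasic.hom_torus_to_proper_eq_one h₁ _
  have h21 : i₂ ≫ q₁ = 1 := Groth.L19.AlgGrpBasic.hom_torus_to_proper_eq_one h₂ _
  obtain ⟨a, ha⟩ : ∃ a : T₁ ⟶ T₂, a ≫ i₂ = i₁ :=
    ⟨hk₂.lift i₁ (toUnit T₁) (by rw [h12, Hom.one_def]), hk₂.lift_fst _ _ _⟩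
  obtain ⟨b, hb⟩ : ∃ b : T₂ ⟶ T₁, b ≫ i₁ = i₂ :=
    ⟨hk₁.lift i₂ (toUnit T₂) (by rw [h21, Hom.one_def]), hk₁.lift_fst _ _ _⟩
  exact ⟨⟨a, b, by rw [← cancel_mono i₁, Category.assoc, hb, ha, Category.id_comp],
    by rw [← cancel_mono i₂, Category.assoc, ha, hb, Category.id_comp]⟩, ha⟩

end Groth.Agent.S17455
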