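import Groth.Statements.S17459
import Groth.Agent.L08.Albanese.Isogeny
import Groth.Agent.L08.Albanese.Basic
import Groth.Agent.L08.AbelianGrp
import Groth.Agent.L26.AV.DimQF
import Mathlib.AlgebraicGeometry.ZariskisMainTheorem

set_option autoImplicit false
universe u
open CategoryTheory CategoryTheory.Limits MonoidalCategory CartesianMonoidalCategory AlgebraicGeometry MonObj
open SGA7

namespace Groth.Agent.S17459

set_option backward.isDefEq.respectTransparency.types false
set_option backward.isDefEq.respectTransparency false
set_option linter.style.haveILetI false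

/-- The unit of a base change, composed with the projection. -/
theorem one_bc {T S : Scheme.{u}} (q : T ⟶ S) (X : Over S) [GrpObj X] :
    η[(Over.pullback q).obj X].left ≫ pullback.fst X.hom q = q ≫ η[X].left := by
  change (Functor.LaxMonoidal.ε (Over.pullback q) ≫ (Over.pullback q).map η[X]).left ≫ pullback.fst X.hom q = _
  have h1 : ((Over.pullback q).map η[X]).left ≫ pullback.fst X.hom q = pullback.fst (𝟙_ (Over S)).hom q ≫ η[X].left :=
    pullback.lift_fst _ _ _
  have h2 : (Functor.LaxMonoidal.ε (Over.pullback q)).left ≫ pullback.fst (𝟙_ (Over S)).hom q = q := by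
    have := Over.w (Functor.LaxMonoidal.ε (Over.pullback q))
    refine (Category.comp_id _).symm.trans ?_
    show ((Functor.LaxMonoidal.ε (Over.pullback q)).left ≫ pullback.fst (𝟙_ (Over S)).hom q) ≫ (𝟙_ (Over S)).hom = q
    rw [Category.assoc, pullback.condition]
    exact (Category.assoc _ _ _).symm.trans ((congrArg (· ≫ q) this).trans (Category.id_comp q))
  rw [Over.comp_left, Category.assoc, h1]
  exact (Category.assoc _ _ _).symm.trans (congrArg (· ≫ η[X].left) h2)

/-- Let R be a discrete valuation ring with fraction field K, let N and N' be group schemes over Spec R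
which are Néron models of their generic fibres A = N_K and B = N'_K, abelian varieties (proper and
geometrically integral) of the same dimension, and let u : N → N' be a homomorphism (the extension
of u_K : A → B). If the homomorphism induced by u on the special fibres is locally quasi-finite — as
it is when it restricts to an isogeny between the identity components, the printed hypothesis, which
also forces dim A = dim B — then u_K is an isogeny: its underlying map is surjective and its kernel
is finite. -/
theorem result (R K : Type u) [CommRing R] [IsDomain R]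
    [IsDiscreteValuationRing R] [Field K] [Algebra R K] [IsFractionRing R K]
    (N N' : Over (Spec (CommRingCat.of R))) [GrpObj N] [GrpObj N']
    (hN : SGA7.IsNeron R K N) (hN' : SGA7.IsNeron R K N')
    [IsProper ((SGA7.genFib R K).obj N).hom] [GeometricallyIntegral ((SGA7.genFib R K).obj N).hom]
    [IsProper ((SGA7.genFib R K).obj N').hom] [GeometricallyIntegral ((SGA7.genFib R K).obj N').hom]
    (hdim : topologicalKrullDim ↥((SGA7.genFib R K).obj N).left = topologicalKrullDim ↥((SGA7.genFib R K).obj N').left)
    (u : N ⟶ N') [IsMonHom u]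
    [LocallyQuasiFinite (SGA7.fibreHom (IsLocalRing.closedPoint R) u).left] :
    SGA7.IsIsogenyOver ((SGA7.genFib R K).map u) := by
  classical
  haveI : Smooth N.hom := hN.1
  haveI : IsSeparated N.hom := hN.2.1
  haveI : QuasiCompact N.hom := hN.2.2.1
  haveI : IsSeparated N'.hom := hN'.2.1
  let S : Scheme.{u} := Spec (CommRingCat.of R)
  let c : Spec (CommRingCat.of K) ⟶ Spec (CommRingCat.of R) := Spec.map (CommRingCat.ofHom (algebraMap R K))
  haveI : IsPreimmersion c := IsPreimmersion.of_isLocalization (R := R) (S := K) (nonZeroDivisors R)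
  let A := (SGA7.genFib R K).obj N
  let B := (SGA7.genFib R K).obj N'
  let uK : A ⟶ B := (SGA7.genFib R K).map u
  haveI : LocallyOfFiniteType A.hom := inferInstance
  haveI : AlgebraicGeometry.IsIntegral B.left := GeometricallyIntegral.isIntegral_of_subsingleton B.hom
  haveI : ConnectedSpace B.left := inferInstance
  haveI : IsMonHom uK := inferInstanceAs (IsMonHom ((SGA7.genFib R K).map u))
  haveI hp : IsProper (uK.left ≫ B.hom) := (Over.w uK).symm ▸ (inferInstanceAs (IsProper A.hom))
  haveI : IsProper uK.left := IsProper.of_comp uK.left B.hom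
  -- the kernel over `R`
  let e' : S ⟶ N'.left := η[N'].left
  have he' : e' ≫ N'.hom = 𝟙 _ := Over.w η[N']
  let Kr := pullback u.left e'
  let π : Kr ⟶ S := pullback.snd u.left e'
  have hcomm : η[N].left ≫ u.left = 𝟙 S ≫ e' := by
    rw [← Over.comp_left, IsMonHom.one_hom]
    exact (Category.id_comp _).symm
  let σ : S ⟶ Kr := pullback.lift η[N].left (𝟙 S) hcomm
  have hσ : σ ≫ π = 𝟙 S := pullback.lift_snd _ _ _
  haveI : LocallyOfFiniteType u.left := by
    haveI : LocallyOfFiniteType (u.left ≫ N'.hom) := by rw [Over.w]; infer_instance
    exact locallyOfFiniteType_of_comp u.left N'.hom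
  haveI : LocallyOfFiniteType π := MorphismProperty.pullback_snd _ _ (inferInstance : LocallyOfFiniteType u.left)
  -- the special fibre of the kernel
  let s : S := IsLocalRing.closedPoint R
  let fs := S.fromSpecResidueField s
  haveI : LocallyQuasiFinite (π.fiberToSpecResidueField s) := by
    have h1 : IsPullback (pullback.fst π fs ≫ pullback.fst u.left e') (pullback.snd π fs) u.left (fs ≫ e') :=
      (IsPullback.of_hasPullback π fs).paste_horiz (IsPullback.of_hasPullback u.left e')
    let us := (SGA7.fibreHom (IsLocalRing.closedPoint R) u).left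
    have husf : us ≫ pullback.fst N'.hom fs = pullback.fst N.hom fs ≫ u.left := pullback.lift_fst _ _ _
    have huss : us ≫ pullback.snd N'.hom fs = pullback.snd N.hom fs := pullback.lift_snd _ _ _
    have h2 : IsPullback (pullback.fst N.hom fs) us u.left (pullback.fst N'.hom fs) := by
      refine IsPullback.of_bot ?_ husf.symm (IsPullback.of_hasPullback N'.hom fs)
      rw [huss, Over.w]
      exact IsPullback.of_hasPullback N.hom fs
    let τ : Spec (S.residueField s) ⟶ pullback N'.hom fs :=
      pullback.lift (fs ≫ e') (𝟙 _) (by rw [Category.assoc, he', Category.comp_id, Category.id_comp])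
    have hτ : τ ≫ pullback.fst N'.hom fs = fs ≫ e' := pullback.lift_fst _ _ _
    let t := h2.lift (pullback.fst π fs ≫ pullback.fst u.left e') (pullback.snd π fs ≫ τ)
      (by rw [h1.w, Category.assoc, hτ])
    have ht : t ≫ us = pullback.snd π fs ≫ τ := h2.lift_snd _ _ _
    have h3 : IsPullback t (pullback.snd π fs) us τ := by
      refine IsPullback.of_right ?_ ht h2
      rw [h2.lift_fst, hτ]
      exact h1
    exact MorphismProperty.of_isPullback (P := @LocallyQuasiFinite) h3 (inferInstance : LocallyQuasiFinite us)
  -- the unit is quasi-finite in the special, hence in the generic fibre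
  have hqs : π.QuasiFiniteAt (σ s) := by
    rw [Scheme.Hom.quasiFiniteAt_iff_isOpen_singleton_asFiber]
    have hs : π (σ s) = s := by
      rw [← Scheme.Hom.comp_apply, hσ]
      rfl
    haveI : LocallyQuasiFinite (π.fiberToSpecResidueField (π (σ s))) := by rw [hs]; assumption
    haveI : DiscreteTopology ↥(π.fiber (π (σ s))) := by
      have hd := (π.fiberToSpecResidueField (π (σ s))).isDiscrete_preimage_singleton
        (IsLocalRing.closedPoint (S.residueField (π (σ s))))
      refine isDiscrete_univ_iff.1 (?_ : _root_.IsDiscrete (Set.univ : Set ↥(π.fiber (π (σ s)))))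
      convert hd using 1
      exact (Set.eq_univ_of_forall fun z => Set.mem_preimage.2
        (Set.mem_singleton_iff.2 (Subsingleton.elim (α := PrimeSpectrum _) _ _))).symm
    exact isOpen_discrete _
  let pt : S := c (IsLocalRing.closedPoint K)
  have hsp : pt ⤳ s := IsLocalRing.specializes_closedPoint _
  have hqη : π.QuasiFiniteAt (σ pt) :=
    (hsp.map σ.continuous).mem_open π.isOpen_quasiFiniteAt hqs
  rw [Scheme.Hom.quasiFiniteAt_iff_isOpen_singleton_asFiber, ← (π.fiberHomeo _).isOpen_image] at hqη
  simp only [Set.image_singleton, Scheme.Hom.asFiber, Homeomorph.apply_symm_apply] at hqη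
  obtain ⟨U, hU, hUeq⟩ := isOpen_induced_iff.1 hqη
  -- the kernel over `K`
  obtain ⟨E, gE, i, _, _, -, sq⟩ := Groth.L08.AbelianGrp.exists_kernel uK
  haveI : Mono i := Over.mono_of_mono_left i
  haveI : LocallyOfFiniteType E.hom := by rw [← Over.w i]; infer_instance
  haveI : QuasiCompact E.hom := by rw [← Over.w i]; infer_instance
  have hone : ∀ (M : Over (Spec (CommRingCat.of R))) [GrpObj M],
      η[(SGA7.genFib R K).obj M].left ≫ pullback.fst M.hom c = c ≫ η[M].left := fun M _ =>
    Groth.Agent.S17459.one_bc c M
  let g : E.left ⟶ Kr := pullback.lift (i.left ≫ pullback.fst N.hom c) (E.hom ≫ c) (by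
    have h1 : uK.left ≫ pullback.fst N'.hom c = pullback.fst N.hom c ≫ u.left := pullback.lift_fst _ _ _
    have h2 : i.left ≫ uK.left = (toUnit E).left ≫ η[B].left := by
      rw [← Over.comp_left, ← Over.comp_left]
      exact congrArg (·.left) sq.w
    have h3 : (toUnit E).left = E.hom := (Category.comp_id _).symm.trans (Over.w (toUnit E))
    rw [Category.assoc, ← h1, ← Category.assoc, h2, Category.assoc, Category.assoc]
    show (toUnit E).left ≫ η[B].left ≫ pullback.fst N'.hom c = E.hom ≫ c ≫ e'
    rw [hone N', h3])
  have hg1 : g ≫ pullback.fst u.left e' = i.left ≫ pullback.fst N.hom c := pullback.lift_fst _ _ _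
  have hg2 : g ≫ π = E.hom ≫ c := pullback.lift_snd _ _ _
  have hginj : Function.Injective g := by
    haveI : IsPreimmersion (pullback.fst N.hom c) := inferInstance
    refine Function.Injective.of_comp (f := pullback.fst u.left e') ?_
    have : Function.Injective (g ≫ pullback.fst u.left e') := by
      rw [hg1]
      exact (i.left ≫ pullback.fst N.hom c).isEmbedding.injective
    simpa [Scheme.Hom.comp_base, TopCat.coe_comp] using this
  have hg0 : η[E].left ≫ g = c ≫ σ := by
    apply pullback.hom_ext
    · show (η[E].left ≫ g) ≫ pullback.fst u.left e' = (c ≫ σ) ≫ pullback.fst u.left e'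
      rw [Category.assoc, hg1, Category.assoc, pullback.lift_fst, ← hone N, ← IsMonHom.one_hom (f := i),
        Over.comp_left, Category.assoc]
    · show (η[E].left ≫ g) ≫ π = (c ≫ σ) ≫ π
      rw [Category.assoc, hg2, Category.assoc, hσ, ← Category.assoc]
      exact (congrArg (· ≫ c) (Over.w η[E])).trans ((Category.id_comp c).trans (Category.comp_id c).symm)
  have hg0' : g (Groth.L25.Component.one E) = σ pt := by
    show g (η[E].left (IsLocalRing.closedPoint K)) = σ (c (IsLocalRing.closedPoint K))
    rw [← Scheme.Hom.comp_apply, hg0, Scheme.Hom.comp_apply]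
    rfl
  have hEfin : IsFinite E.hom := by
    refine Groth.L08.Albanese.isFinite_of_isOpen_one E ?_
    have hset : ({Groth.L25.Component.one E} : Set E.left) = g ⁻¹' U := by
      ext z
      have hz : π (g z) = π (σ pt) := by
        have h1 : π (g z) = pt := by
          rw [← Scheme.Hom.comp_apply, hg2, Scheme.Hom.comp_apply]
          exact congrArg c (Subsingleton.elim (α := PrimeSpectrum K) _ _)
        have h2 : π (σ pt) = pt := by
          rw [← Scheme.Hom.comp_apply, hσ]
          rfl
        exact h1.trans h2.symm
      have hh := Set.ext_iff.1 hUeq ⟨g z, hz⟩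
      rw [Set.mem_preimage] at hh
      constructor
      · rintro rfl
        exact hh.2 (Subtype.ext hg0')
      · intro hz'
        exact hginj ((congrArg Subtype.val (hh.1 hz')).trans hg0'.symm)
    rw [hset]
    exact hU.preimage g.continuous
  -- the image
  obtain ⟨C, gC, p, iC, _, _, hpi, _, _, _, _⟩ := Groth.L08.AbelianGrp.exists_image uK
  haveI : Mono iC := Over.mono_of_mono_left iC
  have sqp : AlgGrp.IsKernel i p := by
    refine IsPullback.mk' ?_ (fun T a b h _ => (cancel_mono i).1 h) (fun T a b h => ?_)
    · rw [← cancel_mono iC, Category.assoc, hpi, sq.w, Category.assoc, IsMonHom.one_hom]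
    · obtain ⟨d, hd, -⟩ := sq.exists_lift a b (by
        rw [← hpi, ← Category.assoc, h, Category.assoc, IsMonHom.one_hom])
      exact ⟨d, hd, toUnit_unique _ _⟩
  haveI : IsFinite p.left := Groth.L08.Albanese.isFinite_of_kernel p i sqp
  haveI : IsFinite uK.left := by
    rw [← hpi, Over.comp_left]
    infer_instance
  refine ⟨Groth.Agent.AV.surjective_of_isFinite_of_dim_eq A B uK hdim, fun M j hj => ?_⟩
  have h : IsFinite (toUnit M).left :=
    MorphismProperty.of_isPullback (P := @IsFinite) (hj.map (Over.forget _)) (inferInstance : IsFinite uK.left)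
  rwa [show (toUnit M).left = M.hom from (Category.comp_id _).symm.trans (Over.w (toUnit M))] at h

end Groth.Agent.S17459
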