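import Groth.Statements.S17460
import Groth.Agent.L26.Neron.HomSpecialMain
import Groth.Agent.L26.AV.SmoothField

set_option autoImplicit false
universe u
open CategoryTheory CategoryTheory.Limits AlgebraicGeometry MonObj MonoidalCategory
open SGA7

namespace Groth.Agent.S17460

open CategoryTheory.MonoidalCategory CategoryTheory.CartesianMonoidalCategory

/-- Let R be a discrete valuation ring with fraction field K and let N and N' be group schemes over Spec
R which are Néron models of their generic fibres A = N_K and B = N'_K, abelian varieties (proper and
geometrically integral), both with semistable reduction: the geometric fibres of N and of N' contain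
no copy of the additive group. Let u : N → N' be a homomorphism (equivalently a homomorphism A → B,
by the Néron property). If u is constant on the connected component of the unit in the special fibre
of N (any two of its points have the same image; equivalently, since u is a homomorphism, they all
go to the unit point of the special fibre of N'), then u is the trivial homomorphism. (Since the
special fibre is reduced this says that the restriction map Hom_K(A, B) → Hom_k(N_k^0, N'_k^0) is
injective; without semistability it fails, e.g. for multiplication by p on an elliptic curve with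
additive reduction in residue characteristic p.) -/
theorem result (R K : Type u) [CommRing R] [IsDomain R]
    [IsDiscreteValuationRing R] [Field K] [Algebra R K] [IsFractionRing R K]
    (N N' : Over (Spec (CommRingCat.of R))) [GrpObj N] [GrpObj N']
    (hN : SGA7.IsNeron R K N) (hN' : SGA7.IsNeron R K N')
    [IsProper ((SGA7.genFib R K).obj N).hom] [GeometricallyIntegral ((SGA7.genFib R K).obj N).hom]
    [IsProper ((SGA7.genFib R K).obj N').hom] [GeometricallyIntegral ((SGA7.genFib R K).obj N').hom]
    (hss : SGA7.FibresUnipotentRankZero N) (hss' : SGA7.FibresUnipotentRankZero N')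
    (u : N ⟶ N') [IsMonHom u]
    (hu : ∀ x ∈ SGA7.secComp R N η[N], ∀ y ∈ SGA7.secComp R N η[N], u.left.base x = u.left.base y) :
    u = 1 := by
  haveI : Smooth N.hom := hN.1
  haveI : Smooth N'.hom := hN'.1
  have hcomm : ∀ M : Over (Spec (CommRingCat.of R)), ∀ [GrpObj M], SGA7.IsNeron R K M →
      ∀ [IsProper ((SGA7.genFib R K).obj M).hom] [GeometricallyIntegral ((SGA7.genFib R K).obj M).hom],
      IsCommMonObj M := fun M _ hM _ _ => by
    haveI : Smooth M.hom := hM.1
    let A := (SGA7.genFib R K).obj M
    haveI : Smooth A.hom := inferInstanceAs (Smooth (CategoryTheory.Limits.pullback.snd M.hom _))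
    haveI : IsCommMonObj A := Groth.Agent.AV.isCommMonObj_base A
    refine ⟨?_⟩
    have e1 : (μ[M] : M ⊗ M ⟶ M) = fst M M * snd M M := by rw [Hom.mul_def, lift_fst_snd, Category.id_comp]
    rw [e1, MonObj.comp_mul, braiding_hom_fst, braiding_hom_snd]
    refine Groth.L26.PseudoNeron.eq_of_map hM (Groth.L26.PseudoNeron.smooth_tensor M) ?_
    rw [Functor.map_mul, Functor.map_mul]
    exact mul_comm _ _
  haveI := hcomm N hN
  haveI := hcomm N' hN'
  exact Groth.L26.HomSpecial.eq_one_of_fibre (IsLocalRing.closedPoint R) rfl N N' hN hN' (hss _) u hu

end Groth.Agent.S17460
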