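import Groth.Statements.S17462
import Groth.Agent.L05.Hensel.FinPart
import Mathlib.AlgebraicGeometry.PullbackCarrier

set_option autoImplicit false
universe u
open CategoryTheory CategoryTheory.Limits AlgebraicGeometry
open Hensel

namespace Groth.Agent.S17462

/-- Let R be a henselian local ring and let X and Y be quasi-finite separated schemes over Spec R
(locally of finite type, quasi-compact, with discrete fibres, separated), with finite parts W_X ⊆ X
and W_Y ⊆ Y (open and closed subsets, finite over Spec R as open subschemes, containing every point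
over the closed point). If W ⊆ X ×_R Y is the finite part of the fibre product (same three
conditions, for the structure morphism of X ×_R Y), then W = W_X ×_R W_Y: a point of X ×_R Y lies in
W if and only if its first projection lies in W_X and its second projection lies in W_Y. -/
theorem result (R : Type u) [CommRing R] [HenselianLocalRing R]
    {X Y : Scheme.{u}} (f : X ⟶ Spec (CommRingCat.of R)) (f' : Y ⟶ Spec (CommRingCat.of R))
    [LocallyQuasiFinite f] [LocallyOfFiniteType f] [QuasiCompact f] [IsSeparated f]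
    [LocallyQuasiFinite f'] [LocallyOfFiniteType f'] [QuasiCompact f'] [IsSeparated f']
    (WX : X.Opens) (hWX : (IsClosed (WX : Set ↥X) ∧ IsFinite (WX.ι ≫ f) ∧ ∀ x : ↥X, f.base x = IsLocalRing.closedPoint R → x ∈ WX))
    (WY : Y.Opens) (hWY : (IsClosed (WY : Set ↥Y) ∧ IsFinite (WY.ι ≫ f') ∧ ∀ x : ↥Y, f'.base x = IsLocalRing.closedPoint R → x ∈ WY))
    (W : (pullback f f').Opens)
    (hW : (IsClosed (W : Set ↥(pullback f f')) ∧ IsFinite (W.ι ≫ (pullback.fst f f' ≫ f)) ∧ ∀ x : ↥(pullback f f'), (pullback.fst f f' ≫ f).base x = IsLocalRing.closedPoint R → x ∈ W))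
    (z : ↥(pullback f f')) :
    z ∈ W ↔ ((pullback.fst f f').base z ∈ WX ∧ (pullback.snd f f').base z ∈ WY) := by
  let q := pullback.fst f f' ≫ f
  constructor
  · intro hz
    refine ⟨Groth.L05.FinPart.subset_of_closedFibre q W hW.2.1 (WX.2.preimage (pullback.fst f f').continuous)
      (fun y _ hy => hWX.2.2 _ hy) hz, Groth.L05.FinPart.subset_of_closedFibre q W hW.2.1
      (WY.2.preimage (pullback.snd f f').continuous) (fun y _ hy => hWY.2.2 _ ?_) hz⟩
    rw [← Scheme.Hom.comp_apply, ← pullback.condition]
    exact hy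
  · rintro ⟨h1, h2⟩
    haveI := hWX.2.1
    haveI := hWY.2.1
    let m := pullback.map (WX.ι ≫ f) (WY.ι ≫ f') f f' WX.ι WY.ι (𝟙 _) (by simp) (by simp)
    have hm : m ≫ q = pullback.fst (WX.ι ≫ f) (WY.ι ≫ f') ≫ WX.ι ≫ f := by
      simp [m, q, pullback.lift_fst_assoc]
    have hfin : IsClosedMap (m ≫ q).base := by
      rw [hm]
      exact Scheme.Hom.isClosedMap _
    have huniv := Groth.L05.FinPart.eq_univ_of_closedFibre (m ≫ q) hfin (W.2.preimage m.continuous)
      (fun w hw => hW.2.2 _ hw)
    obtain ⟨w, rfl⟩ : z ∈ Set.range m.base := by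
      rw [Scheme.Pullback.range_map]
      exact ⟨by rw [Scheme.Opens.range_ι]; exact h1, by rw [Scheme.Opens.range_ι]; exact h2⟩
    exact huniv.ge (Set.mem_univ w)

end Groth.Agent.S17462
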