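import Groth.Statements.S17463
import Groth.Prelude.Def_W4c2gerbepatchBitors
import Groth.Prelude.Def_W4c6defoisocp1TwistExt
import Mathlib.CategoryTheory.Monoidal.Rigid.Basic
import Mathlib.CategoryTheory.Monoidal.Preadditive
import Mathlib.CategoryTheory.Idempotents.Basic
import Mathlib.CategoryTheory.Preadditive.Biproducts
import Mathlib.CategoryTheory.Sites.CoversTop.Basic
import Mathlib.LinearAlgebra.FiniteDimensional.Lemmas
import Mathlib.GroupTheory.Index
import Mathlib.RingTheory.Nilpotent.Exp
import Mathlib.RingTheory.Nilpotent.Lemmas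
import Mathlib.Algebra.Algebra.Bilinear
import Mathlib.Algebra.Ring.GeomSum
import Mathlib.RingTheory.Polynomial.Cyclotomic.Eval
import Mathlib.RingTheory.RootsOfUnity.CyclotomicUnits
import Groth.Agent.S17444

set_option autoImplicit false
universe u v w
open SSRed

namespace Groth.Agent.S17463
open CategoryTheory CategoryTheory.Limits MonoidalCategory Opposite

/-- Let K be a field of characteristic zero, V a K-vector space, G a group with a K-linear action ρ : G
→ GL(V) such that every ρ(g) is unipotent (ρ(g) - 1 is nilpotent), and H a subgroup of G of finite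
index. Then the H-invariants equal the G-invariants: a vector fixed by every element of H is fixed
by every element of G. (In the source G and H are the absolute Galois groups of K and of a finite
extension K', acting unipotently on the rational ℓ-adic Tate module of an abelian variety.) -/
theorem result (K : Type u) (V : Type v) (G : Type w) [Field K] [CharZero K]
    [AddCommGroup V] [Module K V] [Group G] (ρ : G →* (V ≃ₗ[K] V))
    (hunip : ∀ g : G, IsNilpotent (((ρ g : V ≃ₗ[K] V) : Module.End K V) - 1))
    (H : Subgroup G) [H.FiniteIndex] (v : V) (hv : ∀ h ∈ H, ρ h v = v) (g : G) :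
    ρ g v = v := by
  obtain ⟨n, hn, -, hgn⟩ := H.exists_pow_mem_of_index_ne_zero Subgroup.FiniteIndex.index_ne_zero g
  have key := Groth.Agent.S17444.result K V ((ρ g : V ≃ₗ[K] V) : Module.End K V) (hunip g) n hn
  have e : ∀ m : ℕ, ((ρ g : V ≃ₗ[K] V) : Module.End K V) ^ m = ((ρ (g ^ m) : V ≃ₗ[K] V) : Module.End K V) := by
    intro m
    induction m with
    | zero => simp; rfl
    | succ m ih => rw [pow_succ, ih, pow_succ, map_mul]; rfl
  have h1 : v ∈ LinearMap.ker (((ρ g : V ≃ₗ[K] V) : Module.End K V) ^ n - 1) := by
    rw [e, LinearMap.mem_ker, LinearMap.sub_apply]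
    show ρ (g ^ n) v - v = 0
    rw [hv _ hgn, sub_self]
  rw [key, LinearMap.mem_ker, LinearMap.sub_apply] at h1
  simpa [sub_eq_zero] using h1

end Groth.Agent.S17463
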