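import Groth.Statements.S17464
import Groth.Agent.L19.AlgGrpBasic.GaTorus
import Groth.Agent.L19.AlgGrpBasic.Descent

set_option autoImplicit false
set_option backward.isDefEq.respectTransparency.types false
set_option linter.style.haveILetI false
universe u
open CategoryTheory MonoidalCategory CartesianMonoidalCategory MonObj GrpObj AlgebraicGeometry CategoryTheory.Limits
open AlgGrp

namespace Groth.Agent.S17464

/-- Let k be an algebraically closed field, T a k-torus and U a smooth connected affine k-group scheme
of finite type with a composition series whose successive quotients are additive groups: closed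
subgroup schemes U_0 → U_1 → … → U_n = U (homomorphisms which are closed immersions, U_i ↦ U_{i+1}),
with U_0 the trivial group, U_n identified with U by an isomorphism of group schemes, and each U_i
the kernel of a flat surjective homomorphism from U_{i+1} onto the additive group. Then every
homomorphism from U to T is the trivial one. (The published statement is over an arbitrary field for
a torus and a smooth connected unipotent group, unipotent meaning that such a composition series
exists over an algebraic closure; this row states the case of an algebraically closed base field.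
The companion assertion, that homomorphisms from T to U are trivial, is an existing statement about
groups of multiplicative type.) -/
theorem result (k : Type u) [Field k] [IsAlgClosed k]
    (T U : Over (Spec (CommRingCat.of k))) [GrpObj T] [GrpObj U] (hT : Red.IsTorus T)
    [Smooth U.hom] [QuasiCompact U.hom] [ConnectedSpace ↥U.left] [IsAffine U.left]
    (n : ℕ) (Us : Fin (n + 1) → Over (Spec (CommRingCat.of k))) [∀ i, GrpObj (Us i)]
    (h0 : Red.IsTrivialGrp (Us 0))
    (e : Us (Fin.last n) ≅ U) [IsMonHom e.hom]
    (incl : ∀ i : Fin n, Us i.castSucc ⟶ Us i.succ) [∀ i, IsMonHom (incl i)]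
    [∀ i, IsClosedImmersion (incl i).left]
    (quot : ∀ i : Fin n, Us i.succ ⟶ Red.Ga (Spec (CommRingCat.of k))) [∀ i, IsMonHom (quot i)]
    [∀ i, Surjective (quot i).left] [∀ i, Flat (quot i).left]
    (hker : ∀ i : Fin n, AlgGrp.IsKernel (incl i) (quot i))
    (f : U ⟶ T) [IsMonHom f] :
    f = 1 := by
  suffices h : ∀ (i : Fin (n + 1)) (g : Us i ⟶ T) [IsMonHom g], g = 1 by
    have h' := h (Fin.last n) (e.hom ≫ f)
    rw [← cancel_epi e.hom, h', MonObj.comp_one]
  have hqc : ∀ i : Fin (n + 1), QuasiCompact (Us i).hom := by
    intro i
    induction i using Fin.reverseInduction with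
    | last =>
      haveI : IsIso e.hom.left := inferInstanceAs (IsIso ((Over.forget _).map e.hom))
      rw [← Over.w e.hom]
      infer_instance
    | cast i ih =>
      haveI := ih
      rw [← Over.w (incl i)]
      infer_instance
  intro i
  induction i using Fin.induction with
  | zero =>
    intro g _
    haveI : IsIso (Us 0).hom := h0
    haveI : IsIso (toUnit (Us 0)).left := by rw [Over.toUnit_left]; exact ‹_›
    haveI : IsIso ((Over.forget (Spec (CommRingCat.of k))).map (toUnit (Us 0))) := ‹IsIso (toUnit (Us 0)).left›
    haveI : IsIso (toUnit (Us 0)) := isIso_of_reflects_iso _ (Over.forget _)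
    rw [← cancel_epi (inv (toUnit (Us 0))), MonObj.comp_one]
    have : inv (toUnit (Us 0)) = η[Us 0] := IsIso.inv_eq_of_hom_inv_id (by
      rw [← cancel_mono (toUnit (Us 0)), Category.assoc]
      simp)
    rw [this, IsMonHom.one_hom, Hom.one_def]
    simp
  | succ i ih =>
    intro g _
    have h1 : incl i ≫ g = 1 := ih (incl i ≫ g)
    haveI : QuasiCompact (Us i.succ).hom := hqc i.succ
    let q := quot i
    haveI : IsMonHom q := inferInstanceAs (IsMonHom (quot i))
    haveI : Flat q.left := inferInstanceAs (Flat (quot i).left)
    haveI : Surjective q.left := inferInstanceAs (Surjective (quot i).left)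
    haveI : QuasiCompact q.left := by
      haveI : IsAffineHom Red.GaZ.{u}.hom := inferInstanceAs (IsAffineHom (Spec.map _))
      haveI : IsAffineHom (Red.Ga (Spec (CommRingCat.of k))).hom := inferInstanceAs (IsAffineHom (pullback.snd _ _))
      haveI : QuasiSeparated (Red.Ga (Spec (CommRingCat.of k))).hom := inferInstance
      exact Groth.L19.AlgGrpBasic.qc_left q
    obtain ⟨g', hg', -⟩ := Groth.L19.AlgGrpBasic.existsUnique_desc q g (fun W x y exy => by
      have hd : (x / y) ≫ q = 1 := by rw [GrpObj.div_comp _ _ q, exy, div_self']
      obtain ⟨l, hl⟩ : ∃ l : W ⟶ Us i.castSucc, l ≫ incl i = x / y :=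
        ⟨(hker i).lift (x / y) (toUnit W) (by rw [hd, Hom.one_def]), (hker i).lift_fst _ _ _⟩
      have h2 : (x / y) ≫ g = 1 := by rw [← hl, Category.assoc, h1, MonObj.comp_one]
      rw [GrpObj.div_comp _ _ g] at h2
      exact div_eq_one.1 h2)
    haveI : Epi q := Groth.L19.AlgGrpBasic.epi_cover q
    haveI : Flat (q ⊗ₘ q).left :=
      MorphismProperty.pullbackMap (P := @Flat) ‹Flat q.left› ‹Flat q.left› (Over.w q).symm (Over.w q).symm
    haveI : Surjective (q ⊗ₘ q).left :=
      MorphismProperty.pullbackMap (P := @Surjective) ‹Surjective q.left› ‹Surjective q.left› (Over.w q).symm (Over.w q).symm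
    haveI : QuasiCompact (q ⊗ₘ q).left :=
      MorphismProperty.pullbackMap (P := @QuasiCompact) ‹QuasiCompact q.left› ‹QuasiCompact q.left› (Over.w q).symm (Over.w q).symm
    haveI : Epi (q ⊗ₘ q) := Groth.L19.AlgGrpBasic.epi_cover _
    haveI : IsMonHom g' :=
      { one_hom := by rw [← IsMonHom.one_hom (f := q), Category.assoc, hg', IsMonHom.one_hom]
        mul_hom := by
          rw [← cancel_epi (q ⊗ₘ q), ← IsMonHom.mul_hom_assoc, hg', IsMonHom.mul_hom, tensorHom_comp_tensorHom_assoc, hg'] }
    rw [← hg', Groth.L19.AlgGrpBasic.hom_Ga_torus_eq_one hT g', MonObj.comp_one]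

end Groth.Agent.S17464
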