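import Groth.Statements.S17466
import Mathlib.RingTheory.GradedAlgebra.HomogeneousLocalization
import Mathlib.Algebra.Algebra.Operations
import Mathlib.RingTheory.Adjoin.Basic
set_option linter.style.haveILetI false
-- import your own Groth.Agent.* helpers here

set_option autoImplicit false
universe u v
open BigOperators
open NRGIT

namespace Groth.Agent.S17466

/-- Let A be a commutative algebra graded by the natural numbers, let σ_1, …, σ_n be homogeneous
elements of degree 1 and let s ≥ 1 be an integer such that, for every i, the degree-zero homogeneous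
localisation of A away from σ_i is generated over A_0 by the fractions f / σ_i ^ s with f
homogeneous of degree s. Then for every exponent vector K = (k_1, …, k_n) with k_1 + ⋯ + k_n = s,
the degree-zero homogeneous localisation of A away from the monomial σ^K = ∏ σ_i ^ (k_i) is
generated over A_0 by the fractions f / σ^K with f homogeneous of degree s. (Equivalently: the
natural map from the degree-zero localisation of the symmetric algebra on A_s, taken away from σ^K
viewed as an element of degree one, to the degree-zero localisation of A away from σ^K is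
surjective. The published lemma concerns the algebra of invariant sections of the powers of a
linearised line bundle on an irreducible projective scheme over a field, with the σ_i a basis of a
weight space of sections, and concludes a closed immersion of a quotient into an open piece of a
projective space; this row keeps only the graded-algebra step, for any commutative graded algebra,
with the base field replaced by A_0, which generates nothing new since a / 1 = a σ^s / σ^s for a of
degree zero.) -/
theorem result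
    {R : Type u} {A : Type v} [CommRing R] [CommRing A] [Algebra R A]
    (𝒜 : ℕ → Submodule R A) [GradedAlgebra 𝒜]
    {n : ℕ} (σ : Fin n → A) (hσ : ∀ i, σ i ∈ 𝒜 1) {s : ℕ} (hs : 0 < s)
    (hgen : ∀ i, Algebra.adjoin (𝒜 0)
      {z : HomogeneousLocalization.Away 𝒜 (σ i) |
        ∃ f ∈ 𝒜 s, z.val = Localization.mk f ⟨σ i ^ s, Submonoid.pow_mem _ (Submonoid.mem_powers (σ i)) s⟩} = ⊤)
    (K : Fin n → ℕ) (hK : ∑ i, K i = s) :
    Algebra.adjoin (𝒜 0)
      {z : HomogeneousLocalization.Away 𝒜 (∏ i, σ i ^ K i) |
        ∃ f ∈ 𝒜 s, z.val = Localization.mk f ⟨∏ i, σ i ^ K i, Submonoid.mem_powers _⟩} = ⊤ := by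
  classical
  have hle : ∀ N, (𝒜 s) ^ N ≤ 𝒜 (s * N) := by
    intro N
    induction N with
    | zero =>
      rw [pow_zero, Submodule.one_le, Nat.mul_zero]
      exact SetLike.one_mem_graded 𝒜
    | succ N ih =>
      rw [pow_succ, Submodule.mul_le]
      exact fun x hx y hy => Nat.mul_succ s N ▸ SetLike.mul_mem_graded (ih hx) hy
  have hle1 : ∀ N, (𝒜 1) ^ N ≤ 𝒜 N := by
    intro N
    induction N with
    | zero => rw [pow_zero, Submodule.one_le]; exact SetLike.one_mem_graded 𝒜
    | succ N ih => rw [pow_succ, Submodule.mul_le]; exact fun x hx y hy => SetLike.mul_mem_graded (ih hx) hy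
  have hσs : ∀ i, σ i ^ s ∈ 𝒜 s := fun i => hle1 s (Submodule.pow_mem_pow _ (hσ i) s)
  have hkey : ∀ i, ∀ t : ℕ, ∀ f ∈ 𝒜 (s * t), ∃ L : ℕ, f * (σ i ^ s) ^ L ∈ (𝒜 s) ^ (t + L) := by
    intro i t f hf
    let z : HomogeneousLocalization.Away 𝒜 (σ i) := HomogeneousLocalization.Away.mk 𝒜 (hσ i) (s * t) f (by simpa using hf)
    have hz : z ∈ Algebra.adjoin (𝒜 0) {z : HomogeneousLocalization.Away 𝒜 (σ i) |
        ∃ f ∈ 𝒜 s, z.val = Localization.mk f ⟨σ i ^ s, Submonoid.pow_mem _ (Submonoid.mem_powers (σ i)) s⟩} := by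
      rw [hgen i]; exact Algebra.mem_top
    let S : Submonoid A := Submonoid.powers (σ i)
    let den : ℕ → S := fun M => ⟨(σ i ^ s) ^ M, Submonoid.pow_mem _ (Submonoid.pow_mem _ (Submonoid.mem_powers (σ i)) s) M⟩
    have hQ : ∀ w ∈ Algebra.adjoin (𝒜 0) {z : HomogeneousLocalization.Away 𝒜 (σ i) |
        ∃ f ∈ 𝒜 s, z.val = Localization.mk f ⟨σ i ^ s, Submonoid.pow_mem _ (Submonoid.mem_powers (σ i)) s⟩},
        ∃ M, ∃ g ∈ (𝒜 s) ^ M, w.val = Localization.mk g (den M) := by
      intro w hw
      induction hw using Algebra.adjoin_induction with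
      | mem w hw =>
        obtain ⟨g, hg, hw⟩ := hw
        exact ⟨1, g, by rwa [pow_one], hw.trans (congrArg (Localization.mk g) (Subtype.ext (pow_one _).symm))⟩
      | algebraMap a =>
        refine ⟨1, (a : A) * σ i ^ s, ?_, ?_⟩
        · rw [pow_one]
          simpa using SetLike.mul_mem_graded a.2 (hσs i)
        · refine Eq.trans (show _ = Localization.mk (a : A) 1 from rfl) ?_
          rw [Localization.mk_eq_mk_iff, Localization.r_iff_exists]
          exact ⟨1, by simp [den, mul_comm]⟩
      | add x y _ _ hx hy =>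
        obtain ⟨M, g, hg, hx⟩ := hx
        obtain ⟨M', g', hg', hy⟩ := hy
        refine ⟨M + M', g * (σ i ^ s) ^ M' + (σ i ^ s) ^ M * g', ?_, ?_⟩
        · refine Submodule.add_mem _ ?_ ?_
          · rw [pow_add]; exact Submodule.mul_mem_mul hg (Submodule.pow_mem_pow _ (hσs i) M')
          · rw [pow_add]; exact Submodule.mul_mem_mul (Submodule.pow_mem_pow _ (hσs i) M) hg'
        · rw [HomogeneousLocalization.val_add, hx, hy, Localization.add_mk, Localization.mk_eq_mk_iff,
            Localization.r_iff_exists]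
          exact ⟨1, by simp only [den, Submonoid.coe_one, Submonoid.coe_mul, one_mul, pow_add]; ring⟩
      | mul x y _ _ hx hy =>
        obtain ⟨M, g, hg, hx⟩ := hx
        obtain ⟨M', g', hg', hy⟩ := hy
        refine ⟨M + M', g * g', by rw [pow_add]; exact Submodule.mul_mem_mul hg hg', ?_⟩
        rw [HomogeneousLocalization.val_mul, hx, hy, Localization.mk_mul]
        exact congrArg _ (Subtype.ext (pow_add _ _ _).symm)
    obtain ⟨M, g, hg, hzv⟩ := hQ z hz
    rw [HomogeneousLocalization.Away.val_mk, Localization.mk_eq_mk_iff, Localization.r_iff_exists] at hzv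
    obtain ⟨⟨_, c, rfl⟩, hc⟩ := hzv
    refine ⟨M + c, ?_⟩
    have h1 : f * (σ i ^ s) ^ (M + c) = g * (σ i ^ s) ^ (t + c) := by
      have h2 := congrArg (fun y => y * σ i ^ ((s - 1) * c)) hc
      simp only [den] at h2
      have e : c + (s - 1) * c = s * c := by
        obtain ⟨s', rfl⟩ : ∃ s', s = s' + 1 := ⟨s - 1, by omega⟩
        simp; ring
      calc f * (σ i ^ s) ^ (M + c) = σ i ^ c * ((σ i ^ s) ^ M * f) * σ i ^ ((s - 1) * c) := by
            rw [pow_add, ← pow_mul (σ i) s c, ← e, pow_add (σ i) c]; ring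
        _ = σ i ^ c * (σ i ^ (s * t) * g) * σ i ^ ((s - 1) * c) := h2
        _ = g * (σ i ^ s) ^ (t + c) := by
            rw [pow_add (σ i ^ s), ← pow_mul (σ i) s c, ← e, pow_add (σ i) c, ← pow_mul]; ring
    rw [h1, show t + (M + c) = M + (t + c) by omega, pow_add]
    exact Submodule.mul_mem_mul hg (Submodule.pow_mem_pow _ (hσs i) (t + c))
  let m := ∏ i, σ i ^ K i
  have hm : m ∈ 𝒜 s := by
    have : ∀ T : Finset (Fin n), ∏ i ∈ T, σ i ^ K i ∈ 𝒜 (∑ i ∈ T, K i) := by
      intro T
      induction T using Finset.induction_on with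
      | empty => simpa using SetLike.one_mem_graded 𝒜
      | insert a T ha ih =>
        rw [Finset.prod_insert ha, Finset.sum_insert ha]
        exact SetLike.mul_mem_graded (hle1 _ (Submodule.pow_mem_pow _ (hσ a) _)) ih
    simpa [hK, m] using this Finset.univ
  rw [_root_.eq_top_iff]
  rintro z -
  obtain ⟨t, f, hf, rfl⟩ := HomogeneousLocalization.Away.mk_surjective 𝒜 hm z
  have hf' : f ∈ 𝒜 (s * t) := by rw [Nat.mul_comm]; simpa using hf
  -- choose a variable occurring in the monomial
  obtain ⟨i, hi⟩ : ∃ i, 0 < K i := by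
    by_contra h
    push Not at h
    have : ∑ i, K i = 0 := Finset.sum_eq_zero fun i _ => Nat.le_zero.1 (h i)
    omega
  obtain ⟨L, hL⟩ := hkey i t f hf'
  let N := s * L
  have hN : s * L ≤ K i * N := Nat.le_mul_of_pos_left _ hi
  have hsplit : ∃ rest ∈ (𝒜 1) ^ (s * (N - L)), m ^ N = (σ i ^ s) ^ L * rest := by
    refine ⟨σ i ^ (K i * N - s * L) * ∏ j ∈ Finset.univ.erase i, σ j ^ (K j * N), ?_, ?_⟩
    · have hdeg : K i * N - s * L + ∑ j ∈ Finset.univ.erase i, K j * N = s * (N - L) := by
        have h1 : ∑ j, K j * N = s * N := by rw [← Finset.sum_mul, hK]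
        rw [← Finset.add_sum_erase _ _ (Finset.mem_univ i)] at h1
        rw [Nat.mul_sub]
        omega
      rw [← hdeg, pow_add]
      refine Submodule.mul_mem_mul (Submodule.pow_mem_pow _ (hσ i) _) ?_
      induction (Finset.univ.erase i) using Finset.induction_on with
      | empty => exact (by simpa using Submodule.one_le.1 (le_refl (1 : Submodule R A)))
      | insert a T ha ih =>
        rw [Finset.prod_insert ha, Finset.sum_insert ha, pow_add]
        exact Submodule.mul_mem_mul (Submodule.pow_mem_pow _ (hσ a) _) ih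
    · rw [← mul_assoc, ← pow_mul (σ i), ← pow_add, Nat.add_sub_cancel' hN,
        Finset.mul_prod_erase Finset.univ (fun j => σ j ^ (K j * N)) (Finset.mem_univ i)]
      simp only [m, ← Finset.prod_pow, pow_mul]
  obtain ⟨rest, hrest, hmN⟩ := hsplit
  have hLN : L ≤ N := Nat.le_mul_of_pos_left _ hs
  have hg : f * m ^ N ∈ (𝒜 s) ^ (t + N) := by
    rw [hmN, ← mul_assoc, show t + N = (t + L) + (N - L) by omega, pow_add]
    refine Submodule.mul_mem_mul hL ?_
    rw [pow_mul] at hrest
    exact pow_le_pow_left' (hle1 s) _ hrest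
  have hmain : ∀ M g, g ∈ (𝒜 s) ^ M → ∀ hg' : g ∈ 𝒜 (M • s),
      HomogeneousLocalization.Away.mk 𝒜 hm M g hg' ∈ Algebra.adjoin (𝒜 0)
        {z : HomogeneousLocalization.Away 𝒜 m | ∃ f ∈ 𝒜 s, z.val = Localization.mk f ⟨m, Submonoid.mem_powers _⟩} := by
    intro M
    induction M with
    | zero =>
      intro g _ hg'
      have hg0 : g ∈ 𝒜 0 := by simpa using hg'
      convert Subalgebra.algebraMap_mem _ (⟨g, hg0⟩ : 𝒜 0) using 1
      apply HomogeneousLocalization.val_injective
      rw [HomogeneousLocalization.Away.val_mk, HomogeneousLocalization.algebraMap_eq]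
      simp only [HomogeneousLocalization.fromZeroRingHom, RingHom.coe_mk, MonoidHom.coe_mk, OneHom.coe_mk,
        HomogeneousLocalization.val_mk]
      exact congrArg _ (Subtype.ext (pow_zero _))
    | succ M ih =>
      intro g hg hg'
      rw [pow_succ] at hg
      have hdeg : ∀ x ∈ (𝒜 s) ^ M * 𝒜 s, x ∈ 𝒜 ((M + 1) • s) := fun x hx => by
        rw [smul_eq_mul, Nat.mul_comm]; exact hle _ ((pow_succ (𝒜 s) M).symm ▸ hx)
      suffices h : ∃ hx : g ∈ 𝒜 ((M + 1) • s), HomogeneousLocalization.Away.mk 𝒜 hm (M + 1) g hx ∈ Algebra.adjoin (𝒜 0)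
          {z : HomogeneousLocalization.Away 𝒜 m | ∃ f ∈ 𝒜 s, z.val = Localization.mk f ⟨m, Submonoid.mem_powers _⟩} from
        h.2
      refine Submodule.mul_induction_on hg (fun x hx y hy => ⟨hdeg _ (Submodule.mul_mem_mul hx hy), ?_⟩)
        (fun x y ⟨hxm, hx⟩ ⟨hym, hy⟩ => ⟨add_mem hxm hym, ?_⟩)
      · have hx' : x ∈ 𝒜 (M • s) := by rw [smul_eq_mul, Nat.mul_comm]; exact hle _ hx
        convert Subalgebra.mul_mem _ (ih x hx hx') (Algebra.subset_adjoin (R := 𝒜 0)
          (s := {z : HomogeneousLocalization.Away 𝒜 m | ∃ f ∈ 𝒜 s, z.val = Localization.mk f ⟨m, Submonoid.mem_powers _⟩})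
          (show HomogeneousLocalization.Away.mk 𝒜 hm 1 y (by rwa [one_smul]) ∈ _ from
            ⟨y, hy, by rw [HomogeneousLocalization.Away.val_mk]; exact congrArg _ (Subtype.ext (pow_one _))⟩)) using 1
        apply HomogeneousLocalization.val_injective
        rw [HomogeneousLocalization.val_mul]
        simp only [HomogeneousLocalization.Away.val_mk, Localization.mk_mul]
        exact congrArg _ (Subtype.ext (by simp [pow_succ]))
      · convert Subalgebra.add_mem _ hx hy using 1
        apply HomogeneousLocalization.val_injective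
        rw [HomogeneousLocalization.val_add]
        simp only [HomogeneousLocalization.Away.val_mk]
        rw [Localization.add_mk_self]
  have hg' : f * m ^ N ∈ 𝒜 ((t + N) • s) := by rw [smul_eq_mul, Nat.mul_comm]; exact hle _ hg
  convert hmain (t + N) (f * m ^ N) hg hg' using 1
  apply HomogeneousLocalization.val_injective
  rw [HomogeneousLocalization.Away.val_mk, HomogeneousLocalization.Away.val_mk, Localization.mk_eq_mk_iff,
    Localization.r_iff_exists]
  exact ⟨1, by simp only [m, Submonoid.coe_one, one_mul, pow_add]; ring⟩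

end Groth.Agent.S17466
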