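import Groth.Statements.S17467
import Groth.Agent.L28.FibConst.Alg
import Groth.Agent.L27.PuncNormal.Finite
import Groth.Agent.L18.NormalExtend
import Mathlib.RingTheory.DedekindDomain.PID
import Mathlib.RingTheory.Valuation.ValuationRing

set_option autoImplicit false
set_option linter.style.haveILetI false
universe u
open CategoryTheory AlgebraicGeometry
open Variety

namespace Groth.L28.FibConst

theorem val_or_inv_of_height_le_one {A : Type u} [CommRing A] [IsDomain A] [IsNoetherianRing A]
    [IsIntegrallyClosed A] (K : Type u) [Field K] [Algebra A K] [IsFractionRing A K] (z : K)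
    (p : Ideal A) [p.IsPrime] (hp : p.height ≤ 1) :
    ∃ t, t ∉ p ∧ ∃ a, algebraMap A K t * z = algebraMap A K a ∨ algebraMap A K a * z = algebraMap A K t := by
  let O := Localization.AtPrime p
  haveI : IsDomain O := IsLocalization.isDomain_localization p.primeCompl_le_nonZeroDivisors
  haveI : IsIntegrallyClosed O :=
    isIntegrallyClosed_of_isLocalization O p.primeCompl p.primeCompl_le_nonZeroDivisors
  haveI : IsNoetherianRing O := IsLocalization.isNoetherianRing p.primeCompl O inferInstance
  haveI : Ring.KrullDimLE 1 O := by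
    rw [Ring.krullDimLE_iff, IsLocalization.AtPrime.ringKrullDim_eq_height p O]
    exact_mod_cast hp
  haveI : Ring.DimensionLEOne O := ⟨fun hne hpr => Ring.krullDimLE_one_iff_of_noZeroDivisors.1 inferInstance _ hne hpr⟩
  haveI : IsDedekindDomain O := { (inferInstance : IsIntegrallyClosed O) with }
  haveI : IsPrincipalIdealRing O := IsPrincipalIdealRing.of_finite_primes (by
    refine (Set.finite_singleton (IsLocalRing.maximalIdeal O)).insert ⊥ |>.subset fun q hq => ?_
    by_cases h : q = ⊥
    · exact Or.inl h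
    · exact Or.inr (IsLocalRing.eq_maximalIdeal (Ring.DimensionLEOne.maximalOfPrime h hq)))
  haveI : ValuationRing O := inferInstance
  letI : Algebra O K := (IsLocalization.lift (M := p.primeCompl) (S := O) (g := algebraMap A K) fun y =>
    isUnit_iff_ne_zero.2 ((map_ne_zero_iff _ (IsFractionRing.injective A K)).2 fun h => y.2 (by rw [h]; exact p.zero_mem))).toAlgebra
  haveI : IsScalarTower A O K := IsScalarTower.of_algebraMap_eq fun a => (IsLocalization.lift_eq _ a).symm
  haveI : IsFractionRing O K :=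
    IsFractionRing.isFractionRing_of_isDomain_of_isLocalization p.primeCompl O K
  by_cases hz : z = 0
  · exact ⟨1, fun h => (‹p.IsPrime›).ne_top ((Ideal.eq_top_iff_one p).2 h), 0, Or.inl (by rw [hz, mul_zero, map_zero])⟩
  rcases ValuationRing.isInteger_or_isInteger O z with ⟨w, hw⟩ | ⟨w, hw⟩
  all_goals obtain ⟨⟨a, t⟩, hat⟩ := IsLocalization.surj p.primeCompl w
  all_goals refine ⟨t, t.2, a, ?_⟩
  all_goals have h1 := congrArg (algebraMap O K) hat
  all_goals rw [map_mul, hw, ← IsScalarTower.algebraMap_apply, ← IsScalarTower.algebraMap_apply] at h1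
  · left; rw [mul_comm, h1]
  · right
    rw [← h1]; field_simp

end Groth.L28.FibConst

namespace Groth.Agent.S17467
open Groth.L28.FibConst

theorem result
    (k : Type u) [Field k] [IsAlgClosed k] [CharZero k]
    (X Y : Over (Spec (CommRingCat.of k)))
    [AlgebraicGeometry.IsIntegral X.left] [AlgebraicGeometry.IsIntegral Y.left]
    [LocallyOfFiniteType X.hom] [QuasiCompact X.hom] [IsSeparated X.hom]
    [LocallyOfFiniteType Y.hom] [QuasiCompact Y.hom] [IsSeparated Y.hom]
    (hY : Pi1.IsNormalScheme Y.left)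
    (f : X ⟶ Y) (hf : Function.Surjective f.left.base)
    (s : Γ(X.left, ⊤))
    (hs : ∀ x₁ x₂ : Spec (CommRingCat.of k) ⟶ X.left,
      x₁ ≫ X.hom = 𝟙 _ → x₂ ≫ X.hom = 𝟙 _ → x₁ ≫ f.left = x₂ ≫ f.left →
        x₁.appTop.hom s = x₂.appTop.hom s) :
    ∃ r : Γ(Y.left, ⊤), f.left.appTop.hom r = s := by
  classical
  let g : X.left ⟶ Y.left := f.left
  have hw : g ≫ Y.hom = X.hom := Over.w f
  haveI : IsLocallyNoetherian Y.left := LocallyOfFiniteType.isLocallyNoetherian Y.hom
  haveI : IsDominant g := ⟨hf.denseRange⟩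
  let η : Y.left := genericPoint Y.left
  let ξ : X.left := genericPoint X.left
  have hξ : g.base ξ = η :=
    ((genericPoint_spec X.left).image g.base.hom.continuous).eq
      (by rw [Set.image_univ, hf.range_eq, closure_univ]; exact genericPoint_spec Y.left)
  have hspec : g.base ξ ⤳ η := specializes_of_eq hξ
  let θ : Y.left.functionField ⟶ X.left.functionField :=
    Y.left.presheaf.stalkSpecializes hspec ≫ g.stalkMap ξ
  have hθ : ∀ (V : Y.left.Opens) (hV : η ∈ V) (hV' : ξ ∈ g ⁻¹ᵁ V) (a : Γ(Y.left, V)),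
      θ.hom (Y.left.presheaf.germ V η hV a) = X.left.presheaf.germ (g ⁻¹ᵁ V) ξ hV' ((g.app V).hom a) := by
    intro V hV hV' a
    have e : Y.left.presheaf.germ V η hV ≫ θ = g.app V ≫ X.left.presheaf.germ (g ⁻¹ᵁ V) ξ hV' := by
      simp only [θ, ← Category.assoc, TopCat.Presheaf.germ_stalkSpecializes]
      exact g.germ_stalkMap V ξ hV'
    exact ConcreteCategory.congr_hom e a
  let sξ : X.left.functionField := X.left.presheaf.germ ⊤ ξ trivial s
  obtain ⟨r₀, hr₀⟩ : ∃ r₀, θ.hom r₀ = sξ := by
    obtain ⟨_, ⟨V, hV, rfl⟩, hηV, -⟩ :=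
      Y.left.isBasis_affineOpens.exists_subset_of_mem_open (show η ∈ (⊤ : Y.left.Opens) from trivial) (⊤ : Y.left.Opens).2
    obtain ⟨_, ⟨U, hU, rfl⟩, hξU, hUV⟩ :=
      X.left.isBasis_affineOpens.exists_subset_of_mem_open (show ξ ∈ g ⁻¹ᵁ V from show g.base ξ ∈ V by rw [hξ]; exact hηV) (g ⁻¹ᵁ V).2
    haveI : Nonempty V := ⟨⟨η, hηV⟩⟩
    haveI : Nonempty U := ⟨⟨ξ, hξU⟩⟩
    let kA : CommRingCat.of k ⟶ Γ(Y.left, V) := (Scheme.ΓSpecIso _).inv ≫ Y.hom.appLE ⊤ V le_top
    let kR : CommRingCat.of k ⟶ Γ(X.left, U) := (Scheme.ΓSpecIso _).inv ≫ X.hom.appLE ⊤ U le_top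
    let gA : Γ(Y.left, V) ⟶ Γ(X.left, U) := g.appLE V U hUV
    letI : Algebra k Γ(Y.left, V) := kA.hom.toAlgebra
    letI : Algebra k Γ(X.left, U) := kR.hom.toAlgebra
    letI : Algebra Γ(Y.left, V) Γ(X.left, U) := gA.hom.toAlgebra
    have hk : kA ≫ gA = kR := by
      simp only [kA, kR, gA, Category.assoc, Scheme.Hom.appLE_comp_appLE, hw]
    haveI : IsScalarTower k Γ(Y.left, V) Γ(X.left, U) :=
      IsScalarTower.of_algebraMap_eq fun c => (ConcreteCategory.congr_hom hk c).symm
    haveI : Algebra.FiniteType k Γ(X.left, U) := by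
      have h1 := LocallyOfFiniteType.finiteType_appLE X.hom (isAffineOpen_top (Spec (CommRingCat.of k))) hU le_top
      exact h1.comp (RingHom.FiniteType.of_surjective _
        (Scheme.ΓSpecIso (CommRingCat.of k)).commRingCatIsoToRingEquiv.symm.surjective)
    haveI : IsFractionRing Γ(Y.left, V) Y.left.functionField := functionField_isFractionRing_of_isAffineOpen Y.left V hV
    letI : Algebra Y.left.functionField X.left.functionField := θ.hom.toAlgebra
    letI : Algebra Γ(Y.left, V) X.left.functionField :=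
      (θ.hom.comp (algebraMap Γ(Y.left, V) Y.left.functionField)).toAlgebra
    haveI : IsScalarTower Γ(Y.left, V) Y.left.functionField X.left.functionField :=
      IsScalarTower.of_algebraMap_eq fun _ => rfl
    haveI : IsScalarTower Γ(Y.left, V) Γ(X.left, U) X.left.functionField :=
      IsScalarTower.of_algebraMap_eq fun a => by
        show θ.hom (Y.left.presheaf.germ V η hηV a) = X.left.presheaf.germ U ξ hξU (g.appLE V U hUV a)
        rw [hθ V hηV (hUV hξU)]
        simp only [Scheme.Hom.appLE, CommRingCat.comp_apply]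
        exact (TopCat.Presheaf.germ_res_apply _ _ _ _ _).symm
    let sU : Γ(X.left, U) := X.left.presheaf.map (homOfLE le_top).op s
    have key := exists_fraction_of_forall_algHom_eq k (A := Γ(Y.left, V)) (F := Y.left.functionField)
      (L := X.left.functionField) sU (fun φ₁ φ₂ hφ => by
        let x : (Γ(X.left, U) →ₐ[k] k) → (Spec (CommRingCat.of k) ⟶ X.left) :=
          fun φ => Spec.map (CommRingCat.ofHom φ.toRingHom) ≫ hU.fromSpec
        have happ : ∀ φ, (x φ).appTop = X.left.presheaf.map (homOfLE le_top).op ≫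
            CommRingCat.ofHom φ.toRingHom ≫ (Scheme.ΓSpecIso (CommRingCat.of k)).inv := by
          intro φ
          have e : hU.fromSpec.appTop = X.left.presheaf.map (homOfLE le_top).op ≫ (Scheme.ΓSpecIso Γ(X.left, U)).inv := by
            show hU.fromSpec.app ⊤ = _
            rw [hU.fromSpec_app_of_le ⊤ le_top]
            simp
          show (Spec.map _ ≫ hU.fromSpec).appTop = _
          rw [Scheme.Hom.comp_appTop, e, Category.assoc, Scheme.ΓSpecIso_inv_naturality]
        have hx : ∀ φ, x φ ≫ X.hom = 𝟙 _ := by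
          intro φ
          refine ext_of_isAffine ?_
          have e2 : kR ≫ CommRingCat.ofHom φ.toRingHom = 𝟙 _ := by
            ext c; exact φ.commutes c
          have e3 : X.hom.appTop ≫ X.left.presheaf.map (homOfLE le_top).op = (Scheme.ΓSpecIso _).hom ≫ kR := by
            simp only [kR, Iso.hom_inv_id_assoc]; rfl
          rw [Scheme.Hom.comp_appTop, happ, ← Category.assoc, e3, Category.assoc, reassoc_of% e2,
            Iso.hom_inv_id, Scheme.Hom.id_appTop]
        have hg : ∀ φ, x φ ≫ g = Spec.map (gA ≫ CommRingCat.ofHom φ.toRingHom) ≫ hV.fromSpec := by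
          intro φ
          rw [Spec.map_comp, Category.assoc, Category.assoc, hV.SpecMap_appLE_fromSpec g hU hUV]
        have h12 := hs (x φ₁) (x φ₂) (hx φ₁) (hx φ₂) (by
          show x φ₁ ≫ g = x φ₂ ≫ g
          rw [hg, hg]
          congr 2
          ext a; exact hφ a)
        rw [happ, happ] at h12
        exact (Scheme.ΓSpecIso (CommRingCat.of k)).commRingCatIsoToRingEquiv.symm.injective h12)
    obtain ⟨r₀, hr₀⟩ := key
    refine ⟨r₀, hr₀.trans ?_⟩
    show X.left.presheaf.germ U (genericPoint X.left) _ (X.left.presheaf.map (homOfLE le_top).op s) = _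
    rw [TopCat.Presheaf.germ_res_apply]
  -- the rational function has no poles
  let ι := {V : Y.left.affineOpens // (V.1 : Set Y.left).Nonempty}
  have hη : ∀ i : ι, η ∈ i.1.1 := fun i =>
    ((genericPoint_spec Y.left).mem_open_set_iff i.1.1.2).2 (by simpa using i.2)
  have hex : ∀ i : ι, ∃ r : Γ(Y.left, i.1.1), Y.left.presheaf.germ i.1.1 η (hη i) r = r₀ := by
    rintro ⟨⟨V, hV⟩, hne⟩
    have hηV : η ∈ V := hη ⟨⟨V, hV⟩, hne⟩
    haveI : Nonempty V := ⟨⟨η, hηV⟩⟩
    haveI : IsFractionRing Γ(Y.left, V) Y.left.functionField := functionField_isFractionRing_of_isAffineOpen Y.left V hV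
    haveI : IsIntegrallyClosed Γ(Y.left, V) := Groth.L18.isIntegrallyClosed_of_isNormalScheme hY hV
    haveI : IsNoetherianRing Γ(Y.left, V) := IsLocallyNoetherian.component_noetherian ⟨V, hV⟩
    obtain ⟨r, hr⟩ := Groth.L27.PuncNormal.mem_range_of_forall_height_le_one (R := Γ(Y.left, V))
      Y.left.functionField r₀ fun p hp hp1 => by
        obtain ⟨t, ht, a, h | h⟩ := val_or_inv_of_height_le_one Y.left.functionField r₀ p hp1
        · exact ⟨t, ht, a, h⟩
        · by_cases ha : a ∈ p
          · exfalso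
            let y : Y.left := hV.fromSpec ⟨p, hp⟩
            have hyV : y ∈ V := hV.range_fromSpec.le ⟨_, rfl⟩
            obtain ⟨x, hx⟩ := hf y
            have hxV : x ∈ g ⁻¹ᵁ V := show g.base x ∈ V by rw [show g.base x = y from hx]; exact hyV
            have hξV : ξ ∈ g ⁻¹ᵁ V := show g.base ξ ∈ V by rw [hξ]; exact hηV
            have h' := congrArg θ.hom h
            rw [map_mul, hr₀] at h'
            have e : ∀ c, θ.hom (algebraMap Γ(Y.left, V) Y.left.functionField c) =
                algebraMap (X.left.presheaf.stalk x) X.left.functionField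
                  (X.left.presheaf.germ (g ⁻¹ᵁ V) x hxV ((g.app V).hom c)) := by
              intro c
              haveI : Nonempty (g ⁻¹ᵁ V : X.left.Opens) := ⟨⟨x, hxV⟩⟩
              rw [Scheme.algebraMap_germ_eq_germToFunctionField]
              exact hθ V hηV hξV c
            have es : sξ = algebraMap (X.left.presheaf.stalk x) X.left.functionField
                (X.left.presheaf.germ ⊤ x trivial s) := by
              haveI : Nonempty (⊤ : X.left.Opens) := ⟨⟨x, trivial⟩⟩
              rw [Scheme.algebraMap_germ_eq_germToFunctionField]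
            rw [e, e, es, ← map_mul] at h'
            have h'' : _ = _ := IsFractionRing.injective (X.left.presheaf.stalk x) X.left.functionField h'
            have hu : ∀ c : Γ(Y.left, V), IsUnit (X.left.presheaf.germ (g ⁻¹ᵁ V) x hxV ((g.app V).hom c)) ↔ c ∉ p := by
              intro c
              have e4 : g.stalkMap x (Y.left.presheaf.germ V (g.base x) hxV c) =
                  X.left.presheaf.germ (g ⁻¹ᵁ V) x hxV ((g.app V).hom c) := g.germ_stalkMap_apply V x hxV c
              rw [← e4, isUnit_map_iff]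
              rw [← Scheme.mem_basicOpen Y.left c (g.base x) hxV, show g.base x = y from hx]
              show (⟨p, hp⟩ : PrimeSpectrum Γ(Y.left, V)) ∈ hV.fromSpec ⁻¹ᵁ Y.left.basicOpen c ↔ _
              rw [hV.fromSpec_preimage_basicOpen]
              rfl
            have h3 := (hu t).2 ht
            rw [← h''] at h3
            exact (hu a).1 (isUnit_of_mul_isUnit_left h3) ha
          · exact ⟨a, ha, t, h⟩
    exact ⟨r, hr⟩
  choose rr hrr using hex
  obtain ⟨r, hr, -⟩ := Y.left.sheaf.existsUnique_gluing' (fun i : ι => i.1.1) ⊤ (fun i => homOfLE le_top)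
    (fun y _ => by
      obtain ⟨_, ⟨V, hV, rfl⟩, hyV, -⟩ :=
        Y.left.isBasis_affineOpens.exists_subset_of_mem_open (show y ∈ (⊤ : Y.left.Opens) from trivial) (⊤ : Y.left.Opens).2
      exact TopologicalSpace.Opens.mem_iSup.2 ⟨⟨⟨V, hV⟩, ⟨y, hyV⟩⟩, hyV⟩) rr
    (fun i j => by
      have hij : η ∈ i.1.1 ⊓ j.1.1 := ⟨hη i, hη j⟩
      apply germ_injective_of_isIntegral Y.left η hij
      exact ((TopCat.Presheaf.germ_res_apply _ _ _ _ _).trans (hrr i)).trans
        ((TopCat.Presheaf.germ_res_apply _ _ _ _ _).trans (hrr j)).symm)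
  refine ⟨r, germ_injective_of_isIntegral X.left ξ (show ξ ∈ g ⁻¹ᵁ ⊤ from trivial) ?_⟩
  refine (hθ ⊤ trivial trivial r).symm.trans (Eq.trans ?_ hr₀)
  congr 1
  obtain ⟨_, ⟨V, hV, rfl⟩, hyV, -⟩ :=
    Y.left.isBasis_affineOpens.exists_subset_of_mem_open (show η ∈ (⊤ : Y.left.Opens) from trivial) (⊤ : Y.left.Opens).2
  have := hr ⟨⟨V, hV⟩, ⟨η, hyV⟩⟩
  rw [← hrr ⟨⟨V, hV⟩, ⟨η, hyV⟩⟩, ← this]
  exact (TopCat.Presheaf.germ_res_apply _ _ _ _ _).symm

end Groth.Agent.S17467
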