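import Groth.Statements.S17468
import Mathlib.Algebra.Lie.Sl2
import Mathlib.Algebra.Lie.Semisimple.Defs
import Mathlib.Algebra.Lie.Weights.Basic
import Mathlib.Algebra.DirectSum.LinearMap
import Mathlib.LinearAlgebra.Eigenspace.Basic
import Mathlib.LinearAlgebra.Trace
import Mathlib.Tactic.Linarith
import Mathlib.Tactic.Ring

set_option autoImplicit false
universe u v w
open LieRep

namespace Groth.Agent.S17468

theorem six_mul_choose (n : ℕ) : 6 * (n + 2).choose 3 = (n + 2) * (n + 1) * n := by
  have h := Nat.choose_succ_right_eq (n + 2) 2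
  have h2 := Nat.choose_succ_right_eq (n + 2) 1
  simp only [Nat.choose_one_right, show n + 2 - 1 = n + 1 by omega, show n + 2 - 2 = n by omega] at h h2
  calc 6 * (n + 2).choose 3 = 2 * ((n + 2).choose (2 + 1) * (2 + 1)) := by ring
    _ = (n + 2).choose (1 + 1) * (1 + 1) * n := by rw [h]; ring
    _ = _ := by rw [h2]

theorem sum_sq {k : Type*} [CommRing k] (a : k) (m : ℕ) :
    3 * ∑ i ∈ Finset.range m, (a - 2 * (i : k)) ^ 2 =
      3 * m * a ^ 2 - 6 * a * m * (m - 1) + 2 * m * (m - 1) * (2 * m - 1) := by
  induction m with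
  | zero => simp
  | succ m ih => rw [Finset.sum_range_succ, mul_add, ih]; push_cast; ring

open LieModule in
theorem trace_irreducible (k : Type*) [Field k] [IsAlgClosed k] [CharZero k]
    (L : Type*) [LieRing L] [LieAlgebra k L] (h e f : L) (t : IsSl2Triple h e f)
    (hspan : t.toLieSubalgebra k = ⊤) (W : Type*) [AddCommGroup W] [Module k W] [LieRingModule L W]
    [LieModule k L W] [FiniteDimensional k W] [IsIrreducible k L W] :
    LinearMap.trace k W ((toEnd k L W h) ^ 2) = 2 * (((Module.finrank k W + 1).choose 3 : ℕ) : k) := by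
  have hnt : Nontrivial W := (LieSubmodule.nontrivial_iff k L W).1 inferInstance
  obtain ⟨μ, m, -, P⟩ := t.exists_hasPrimitiveVectorWith (R := k) (M := W)
  obtain ⟨n, rfl⟩ := P.exists_nat
  let v : Fin (n + 1) → W := fun i => ((toEnd k L W f) ^ (i : ℕ)) m
  have hh : ∀ i : Fin (n + 1), ⁅h, v i⁆ = ((n : k) - 2 * (i : ℕ)) • v i := fun i => P.lie_h_pow_toEnd_f i
  have hli : LinearIndependent k v := Module.End.eigenvectors_linearIndependent' (toEnd k L W h)
    (fun i : Fin (n + 1) => (n : k) - 2 * (i : ℕ)) (fun i j hij => Fin.ext (by simpa using hij)) v fun i =>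
      ⟨Module.End.mem_eigenspace_iff.2 (hh i), P.pow_toEnd_f_ne_zero_of_eq_nat rfl (Nat.le_of_lt_succ i.2)⟩
  set S := Submodule.span k (Set.range v)
  have hv : ∀ i, v i ∈ S := fun i => Submodule.subset_span ⟨i, rfl⟩
  have key : ∀ (x : L), (∀ i, ⁅x, v i⁆ ∈ S) → S ≤ S.comap (toEnd k L W x) := fun x hx => by
    rw [Submodule.span_le]
    rintro _ ⟨i, rfl⟩
    exact hx i
  have hH : S ≤ S.comap (toEnd k L W h) := key h fun i => hh i ▸ S.smul_mem _ (hv i)
  have hF : S ≤ S.comap (toEnd k L W f) := key f fun i => by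
    rw [P.lie_f_pow_toEnd_f]
    by_cases hi : (i : ℕ) + 1 < n + 1
    · exact hv ⟨_, hi⟩
    · rw [show (i : ℕ) + 1 = n + 1 by omega, P.pow_toEnd_f_eq_zero_of_eq_nat rfl]
      exact S.zero_mem
  have hE : S ≤ S.comap (toEnd k L W e) := key e fun i => by
    obtain ⟨i, hi⟩ := i
    cases i with
    | zero => simp only [v, pow_zero, Module.End.one_apply, P.lie_e]; exact S.zero_mem
    | succ j => rw [P.lie_e_pow_succ_toEnd_f]; exact S.smul_mem _ (hv ⟨j, by omega⟩)
  let N : LieSubmodule k L W :=
    { S with
      lie_mem := fun {x w} hw => by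
        have hx : x ∈ t.toLieSubalgebra k := hspan ▸ LieSubalgebra.mem_top x
        obtain ⟨a, b, c, rfl⟩ := IsSl2Triple.mem_toLieSubalgebra_iff.1 hx
        rw [t.lie_e_f]
        simp only [add_lie, smul_lie]
        exact S.add_mem (S.add_mem (S.smul_mem _ (hE hw)) (S.smul_mem _ (hF hw))) (S.smul_mem _ (hH hw)) }
  have hN : N = ⊤ := (eq_bot_or_eq_top N).resolve_left fun hN => by
    have h1 : m ∈ N := by
      show m ∈ S
      exact (by simp [v] : v 0 = m) ▸ hv 0
    rw [hN, LieSubmodule.mem_bot] at h1
    exact P.ne_zero h1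
  have hS : ⊤ ≤ S := fun w _ => (show w ∈ N from hN ▸ LieSubmodule.mem_top w)
  let b : Module.Basis (Fin (n + 1)) k W := Module.Basis.mk hli hS
  have hpow : ∀ i, ((toEnd k L W h) ^ 2) (b i) = (((n : k) - 2 * (i : ℕ)) ^ 2) • b i := fun i => by
    simp only [b, Module.Basis.mk_apply, pow_two, Module.End.mul_apply, toEnd_apply_apply, hh, lie_smul,
      smul_smul]
  rw [Module.finrank_eq_card_basis b, Fintype.card_fin, LinearMap.trace_eq_matrix_trace k b, Matrix.trace]
  simp only [Matrix.diag, LinearMap.toMatrix_apply, hpow, map_smul, Module.Basis.repr_self,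
    Finsupp.smul_single, smul_eq_mul, mul_one, Finsupp.single_eq_same]
  rw [Fin.sum_univ_eq_sum_range (fun i => ((n : k) - 2 * (i : k)) ^ 2)]
  refine mul_left_cancel₀ (show (3 : k) ≠ 0 by norm_num) ?_
  rw [sum_sq]
  have h6 : (6 : k) * (((n + 2).choose 3 : ℕ) : k) = ((n : k) + 2) * ((n : k) + 1) * n := by
    exact_mod_cast six_mul_choose n
  push_cast
  linear_combination -h6

end Groth.Agent.S17468

namespace Groth.Agent.S17468

/-- Let k be an algebraically closed field of characteristic zero, L a Lie algebra over k spanned by an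
sl_2-triple (h, e, f), and V a finite-dimensional L-module written as an internal direct sum of
finitely many irreducible Lie submodules V_i. Then the trace on V of the square of the action of h
is 2 Σ_i C(dim V_i + 1, 3). (The published statement concerns a finite-dimensional representation V
of a simple Lie algebra restricted to the copy of sl_2 attached to the highest root θ, with h the
coroot θ^∨; there Σ_i C(dim V_i + 1, 3) is the index of V, and the trace is the sum over the weights
λ of V, with multiplicity, of ⟨λ, θ^∨⟩².) -/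
theorem result
    (k : Type u) [Field k] [IsAlgClosed k] [CharZero k]
    (L : Type v) [LieRing L] [LieAlgebra k L]
    (h e f : L) (t : IsSl2Triple h e f) (hspan : t.toLieSubalgebra k = ⊤)
    (V : Type w) [AddCommGroup V] [Module k V] [LieRingModule L V] [LieModule k L V]
    [FiniteDimensional k V]
    (ι : Type) [Fintype ι] [DecidableEq ι] (W : ι → LieSubmodule k L V)
    (hW : DirectSum.IsInternal fun i => (W i).toSubmodule)
    (hirr : ∀ i, LieModule.IsIrreducible k L (W i)) :
    LinearMap.trace k V ((LieModule.toEnd k L V h) ^ 2) =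
      2 * ∑ i, (((Module.finrank k (W i) + 1).choose 3 : ℕ) : k) := by
  have hmap : ∀ i, Set.MapsTo (⇑((LieModule.toEnd k L V h) ^ 2)) ((W i).toSubmodule : Set V)
      ((W i).toSubmodule : Set V) := fun i x hx => by
      simp only [pow_two, Module.End.mul_apply, LieModule.toEnd_apply_apply]
      exact (W i).lie_mem ((W i).lie_mem hx)
  rw [LinearMap.trace_eq_sum_trace_restrict hW hmap, Finset.mul_sum]
  refine Finset.sum_congr rfl fun i _ => ?_
  haveI := hirr i
  rw [← trace_irreducible k L h e f t hspan (W i)]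
  rfl

end Groth.Agent.S17468
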