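import Groth.Statements.S17469
-- import your own Groth.Agent.* helpers here

set_option autoImplicit false
universe u
open CategoryTheory AlgebraicGeometry
open Variety

namespace Groth.Agent.S17469

/-- Let X be a locally Noetherian integral scheme all of whose local rings are integrally closed domains
and U an open subset of X. A section of O_X over U that is integral over the ring of global sections
of X, the latter acting through restriction, is itself the restriction of a global section. (The
published lemma is stated for an irreducible normal variety and for the graded ring of sections over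
U of all non-negative powers of a line bundle, integral over the corresponding ring of sections over
X; for the trivial line bundle its homogeneous components are the present statement, which is made
here for any locally Noetherian normal integral scheme.) -/
theorem result
    (X : Scheme.{u}) [AlgebraicGeometry.IsIntegral X] [IsLocallyNoetherian X]
    (hX : Pi1.IsNormalScheme X) (U : X.Opens) (b : Γ(X, U))
    (hb : (X.presheaf.map (homOfLE le_top : U ⟶ ⊤).op).hom.IsIntegralElem b) :
    b ∈ Set.range (X.presheaf.map (homOfLE le_top : U ⟶ ⊤).op).hom := by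
  classical
  by_cases hU : Nonempty U
  swap
  · have hbot : U = ⊥ := by
      refine eq_bot_iff.mpr fun x hx => (hU ⟨⟨x, hx⟩⟩).elim
    subst hbot
    haveI : Subsingleton Γ(X, ⊥) := CommRingCat.subsingleton_of_isTerminal X.sheaf.isTerminalOfEmpty
    exact ⟨0, Subsingleton.elim _ _⟩
  haveI : Nonempty (⊤ : X.Opens) := ⟨⟨Classical.arbitrary X, trivial⟩⟩
  let β := X.germToFunctionField U b
  have hcomp : (X.germToFunctionField U).hom.comp (X.presheaf.map (homOfLE le_top : U ⟶ ⊤).op).hom =
      (X.germToFunctionField ⊤).hom := by
    rw [← CommRingCat.hom_comp]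
    congr 1
    exact X.presheaf.germ_res _ _ _
  have hβ : (X.germToFunctionField ⊤).hom.IsIntegralElem β := by
    obtain ⟨p, hp, hp'⟩ := hb
    refine ⟨p, hp, ?_⟩
    rw [← hcomp, ← Polynomial.hom_eval₂, hp', map_zero]
  have hloc : ∀ x : X, ∃ (V : X.Opens) (_ : x ∈ V) (s : Γ(X, V)),
      ∀ hg : genericPoint X ∈ V, X.presheaf.germ V (genericPoint X) hg s = β := fun x => by
    haveI := (hX x).1
    haveI := (hX x).2
    have hfac : (X.germToFunctionField ⊤).hom =
        (algebraMap (X.presheaf.stalk x) X.functionField).comp (X.presheaf.germ ⊤ x trivial).hom :=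
      RingHom.ext fun r => (X.algebraMap_germ_eq_germToFunctionField (U := ⊤) trivial r).symm
    have hint : IsIntegral (X.presheaf.stalk x) β := by
      obtain ⟨p, hp, hp'⟩ := hβ
      refine ⟨p.map (X.presheaf.germ ⊤ x trivial).hom, hp.map _, ?_⟩
      rwa [Polynomial.eval₂_map, ← hfac]
    obtain ⟨y, hy⟩ := IsIntegrallyClosed.isIntegral_iff.mp hint
    obtain ⟨V, hxV, s, rfl⟩ := X.presheaf.exists_germ_eq y
    refine ⟨V, hxV, s, fun hg => ?_⟩
    haveI : Nonempty V := ⟨⟨x, hxV⟩⟩
    rw [← hy, X.algebraMap_germ_eq_germToFunctionField]
  choose V hxV s hs using hloc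
  have hgen : ∀ (W : X.Opens), (W : Set X).Nonempty → genericPoint X ∈ W := fun W hW =>
    ((genericPoint_spec X).mem_open_set_iff W.2).mpr (by simpa using hW)
  have hcompat : TopCat.Presheaf.IsCompatible X.presheaf V s := fun i j => by
    by_cases hne : ((V i ⊓ V j : X.Opens) : Set X).Nonempty
    · haveI : Nonempty (V i ⊓ V j : X.Opens) := hne.to_subtype
      apply X.germToFunctionField_injective (V i ⊓ V j)
      show X.presheaf.germ _ (genericPoint X) (hgen _ hne) _ = X.presheaf.germ _ (genericPoint X) (hgen _ hne) _
      rw [X.presheaf.germ_res_apply, X.presheaf.germ_res_apply, hs i, hs j]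
    · have hbot : V i ⊓ V j = ⊥ := eq_bot_iff.mpr fun x hx => (hne ⟨x, hx⟩).elim
      haveI : Subsingleton Γ(X, V i ⊓ V j) := by
        rw [hbot]; exact CommRingCat.subsingleton_of_isTerminal X.sheaf.isTerminalOfEmpty
      exact Subsingleton.elim _ _
  obtain ⟨t, ht, -⟩ := X.sheaf.existsUnique_gluing' V ⊤ (fun i => homOfLE le_top)
    (fun x _ => TopologicalSpace.Opens.mem_iSup.mpr ⟨x, hxV x⟩) s hcompat
  refine ⟨t, X.germToFunctionField_injective U ?_⟩
  show X.presheaf.germ U (genericPoint X) _ _ = β
  erw [X.presheaf.germ_res_apply]
  let η := genericPoint X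
  rw [← hs η (hxV η), ← ht η]
  exact (X.presheaf.germ_res_apply (homOfLE (le_top : V η ≤ ⊤)) η (hxV η) t).symm

end Groth.Agent.S17469
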