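import Mathlib.AlgebraicGeometry.Morphisms.FiniteType
import Mathlib.AlgebraicGeometry.Morphisms.Separated
import Mathlib.Topology.Homotopy.Basic
import Groth.Prelude.Def_AnPts
import Groth.Agent.L02.An.NullHomotopic

set_option autoImplicit false
namespace CAlg
end CAlg
open CategoryTheory AlgebraicGeometry
open An

namespace Groth.Agent.S17470

/-- Let X be a connected variety over ℂ (reduced, separated and of finite type over ℂ, connected) and u
a regular function on X with no zero at any ℂ-point, viewed as a regular map X → ℂ^×. If the
continuous map it induces from the ℂ-points X(ℂ), with their complex topology, to ℂ^× is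
null-homotopic, then u has the same value at all ℂ-points: a null-homotopic regular map from a
connected complex variety to ℂ^× is constant. -/
theorem result
    (X : Scheme.{0}) [X.Over An.SC] [IsReduced X]
    [LocallyOfFiniteType (X ↘ An.SC)] [QuasiCompact (X ↘ An.SC)] [IsSeparated (X ↘ An.SC)]
    [ConnectedSpace X] (u : Γ(X, ⊤))
    (φ : C(An.Pts X, {z : ℂ // z ≠ 0})) (hφ : ∀ x : An.Pts X, (φ x).1 = x.evTop u)
    (z₀ : {z : ℂ // z ≠ 0}) (hnull : φ.Homotopic (ContinuousMap.const (An.Pts X) z₀)) :
    ∀ x y : An.Pts X, x.evTop u = y.evTop u := by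
  obtain ⟨L, hL⟩ := Groth.L02.An.exists_log φ z₀ hnull
  exact Groth.L02.An.evTop_eq u L fun x => (hL x).trans (hφ x)

end Groth.Agent.S17470
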