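import Groth.Statements.S17471


set_option autoImplicit false
universe u v w x
open RootCh

namespace Groth.Agent.S17471

/-- Let Φ be a finite, reduced, crystallographic, irreducible root system with a base, and θ a positive
root such that θ + β is a root for no positive root β (so θ is the highest root). Then Σ_{β>0} ⟨β,
θ^∨⟩² = 2 + Σ_{β>0} ⟨β, θ^∨⟩ = 2(1 + ⟨ρ, θ^∨⟩), ρ being half the sum of the positive roots; in the
source the left side is the index of the adjoint representation obtained from its formal character,
and 1 + ⟨ρ, θ^∨⟩ is the dual Coxeter number. -/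
theorem result
    {ι : Type u} {R : Type v} {M : Type w} {N : Type x}
    [Field R] [LinearOrder R] [IsStrictOrderedRing R]
    [AddCommGroup M] [Module R M] [AddCommGroup N] [Module R N] [Fintype ι]
    (P : RootPairing ι R M N) [P.IsRootSystem] [P.IsCrystallographic] [P.IsReduced]
    [P.IsIrreducible] (b : P.Base) (θ : ι) (hθ : b.IsPos θ)
    (hmax : ∀ i : ι, b.IsPos i → P.root θ + P.root i ∉ Set.range P.root) :
    ∑ i ∈ Finset.univ.filter (fun i => 0 < b.height i), P.pairing i θ ^ 2 =
      2 + ∑ i ∈ Finset.univ.filter (fun i => 0 < b.height i), P.pairing i θ := by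
  have hint : ∀ i, P.pairing i θ = (P.pairingIn ℤ i θ : R) := fun i => by
    rw [← P.algebraMap_pairingIn ℤ i θ]; simp
  have key : ∀ i, b.IsPos i → i ≠ θ → P.pairingIn ℤ i θ = 0 ∨ P.pairingIn ℤ i θ = 1 := by
    intro i hi hne
    by_contra hcon
    rcases lt_trichotomy (P.pairingIn ℤ i θ) 0 with h | h | h
    · have h' : P.root i ≠ -P.root θ := by
        intro he
        have hi' : i = P.reflectionPerm θ θ := P.root.injective (by simp [he])
        rw [hi'] at hi
        exact (RootPairing.Base.IsPos.neg_iff_not b θ).1 hi hθ
      exact hmax i hi (by rw [add_comm]; exact P.root_add_root_mem_of_pairingIn_neg h h')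
    · exact hcon (Or.inl h)
    · obtain ⟨g, hg⟩ := P.root_sub_root_mem_of_pairingIn_pos h hne
      by_cases hgp : b.IsPos g
      · exact hmax g hgp ⟨i, by rw [hg]; abel⟩
      have hng : b.IsPos (P.reflectionPerm g g) := (RootPairing.Base.IsPos.neg_iff_not b g).2 hgp
      have hgθ : g ≠ θ := fun he => hgp (he ▸ hθ)
      have hn : ∀ e, P.root (P.reflectionPerm e e) = -P.root e := fun e => by simp
      have hp : P.pairingIn ℤ g θ = P.pairingIn ℤ i θ - 2 := by
        apply FaithfulSMul.algebraMap_injective ℤ R
        have h2 := P.root_coroot_two θ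
        rw [map_sub, P.algebraMap_pairingIn, P.algebraMap_pairingIn, RootPairing.pairing,
          RootPairing.root', hg, map_sub, LinearMap.sub_apply, h2, map_ofNat]
        rfl
      rcases eq_or_ne (P.pairingIn ℤ i θ) 2 with h2 | h2
      · refine hmax _ hng ⟨P.reflectionPerm (P.reflectionPerm θ i) (P.reflectionPerm θ i), ?_⟩
        have hr : P.root (P.reflectionPerm θ i) = P.root i - (2 : R) • P.root θ := by
          rw [P.root_reflectionPerm, P.reflection_apply_root, hint, h2, Int.cast_ofNat]
        rw [hn, hn, hr, hg]
        module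
      · obtain ⟨e, he⟩ := P.root_sub_root_mem_of_pairingIn_pos (i := g) (j := θ) (by omega) hgθ
        refine hmax _ hng ⟨P.reflectionPerm e e, ?_⟩
        rw [hn, hn, he, hg]
        module
  have hmem : θ ∈ Finset.univ.filter (fun i => 0 < b.height i) :=
    Finset.mem_filter.2 ⟨Finset.mem_univ _, hθ⟩
  classical
  rw [← Finset.insert_erase hmem, Finset.sum_insert (Finset.notMem_erase _ _),
    Finset.sum_insert (Finset.notMem_erase _ _), RootPairing.pairing_same]
  rw [Finset.sum_congr rfl (g := fun i => P.pairing i θ) fun i hi => ?_]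
  · ring
  simp only [Finset.mem_erase, Finset.mem_filter, Finset.mem_univ, true_and] at hi
  rw [hint]
  rcases key i hi.2 hi.1 with h | h <;> rw [h] <;> simp

end Groth.Agent.S17471
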