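import Groth.Statements.S17472
import Groth.Agent.L08.KrullHopf

set_option autoImplicit false
universe u
open HopfAlg

namespace Groth.Agent.S17472

/-- Let k be an algebraically closed field and A a commutative Hopf algebra over k, finitely generated
as a k-algebra, whose only idempotents are 0 and 1 (so that Spec A is a connected affine algebraic
group over k, possibly non-reduced). Let m be the kernel of the counit, the ideal of the neutral
element. Then the intersection of the powers m^n, n ≥ 0, is the zero ideal; equivalently the
infinitesimal neighbourhoods Spec (A/m^n) of the neutral element are jointly schematically dense.
(The published statement assumes the group smooth, that is, a connected linear algebraic group; the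
statement here allows any connected affine algebraic group, possibly non-reduced, a case the
published argument also treats.) -/
theorem result (k : Type u) [Field k] [IsAlgClosed k]
    (A : Type u) [CommRing A] [HopfAlgebra k A] [Algebra.FiniteType k A]
    (hconn : ∀ e : A, IsIdempotentElem e → e = 0 ∨ e = 1) :
    (⨅ n : ℕ, RingHom.ker (Bialgebra.counitAlgHom k A) ^ n) = ⊥ := by
  exact Groth.L08.KrullHopf.iInf_pow_eq_bot k hconn _ (RingHom.ker_ne_top _)

end Groth.Agent.S17472
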