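import Groth.Statements.S17473
import Groth.Agent.L08.DescAction
-- import your own Groth.Agent.* helpers here

set_option autoImplicit false
set_option backward.isDefEq.respectTransparency.types false
set_option linter.style.haveILetI false
universe u
open CategoryTheory MonoidalCategory CartesianMonoidalCategory MonObj GrpObj AlgebraicGeometry CategoryTheory.Limits
open AlgGrp

namespace Groth.Agent.S17473

/-- Let k be a field, G a k-group scheme locally of finite type, X and Y separated k-schemes, f : X → Y
a proper k-morphism such that O_Y → f_*O_X is an isomorphism (on sections over every open subset of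
Y), and a an action of G on X. The following are equivalent: (i) some action of G on Y makes f
equivariant; (ii) X ×_Y X is stable under G acting diagonally on X × X, i.e. for every k-scheme T,
every T-point g of G and all T-points x₁, x₂ of X with f x₁ = f x₂ one has f (g · x₁) = f (g · x₂);
(iii) the underlying map of the composite G × X → X → Y is constant on the topological fibres of G ×
X → G × Y. (The published text works over an algebraically closed field; any field is allowed here.) -/
theorem result (k : Type u) [Field k]
    (G X Y : Over (Spec (CommRingCat.of k))) [GrpObj G] [LocallyOfFiniteType G.hom]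
    [IsSeparated X.hom] [IsSeparated Y.hom]
    (f : X ⟶ Y) [IsProper f.left] (hf : ∀ U : Y.left.Opens, IsIso (f.left.app U))
    (a : AlgGrp.Action G X) :
    [∃ b : AlgGrp.Action G Y, (G ◁ f) ≫ b.act = a.act ≫ f,
      ∀ (T : Over (Spec (CommRingCat.of k))) (g : T ⟶ G) (x₁ x₂ : T ⟶ X),
        x₁ ≫ f = x₂ ≫ f → lift g x₁ ≫ a.act ≫ f = lift g x₂ ≫ a.act ≫ f,
      ∀ p q : ↥(G ⊗ X).left, (G ◁ f).left.base p = (G ◁ f).left.base q →
        (a.act ≫ f).left.base p = (a.act ≫ f).left.base q].TFAE := by
  tfae_have 1 → 2 := by
    rintro ⟨b, hb⟩ T g x₁ x₂ hx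
    have e : ∀ x : T ⟶ X, lift g x ≫ a.act ≫ f = lift g (x ≫ f) ≫ b.act := fun x => by
      rw [← hb, lift_whiskerLeft_assoc]
    rw [e, e, hx]
  tfae_have 2 → 3 := by
    intro h p q hpq
    let F := G ◁ f
    let T := CategoryTheory.Limits.pullback F F
    let t₁ : T ⟶ G ⊗ X := CategoryTheory.Limits.pullback.fst F F
    let t₂ : T ⟶ G ⊗ X := CategoryTheory.Limits.pullback.snd F F
    have hw : t₁ ≫ F = t₂ ≫ F := CategoryTheory.Limits.pullback.condition
    have h1 := congrArg (· ≫ fst G Y) hw
    have h2 := congrArg (· ≫ snd G Y) hw
    simp only [F, Category.assoc, whiskerLeft_fst, whiskerLeft_snd] at h1 h2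
    have h3 : t₁ ≫ a.act ≫ f = t₂ ≫ a.act ≫ f := by
      have := h T (t₁ ≫ fst G X) (t₁ ≫ snd G X) (t₂ ≫ snd G X) (by simpa only [Category.assoc] using h2)
      rw [← comp_lift_assoc, lift_fst_snd, Category.id_comp] at this
      rw [h1, ← comp_lift_assoc, lift_fst_snd, Category.id_comp] at this
      exact this
    have sq := (IsPullback.of_hasPullback F F).map (Over.forget _)
    obtain ⟨r, hr1, hr2⟩ := AlgebraicGeometry.Scheme.Pullback.exists_preimage_pullback (f := F.left) (g := F.left) p q hpq
    let s := sq.isoPullback.inv r
    have e1 : t₁.left s = p := (congr(($(sq.isoPullback_inv_fst)) r)).trans hr1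
    have e2 : t₂.left s = q := (congr(($(sq.isoPullback_inv_snd)) r)).trans hr2
    rw [← e1, ← e2]
    exact congr(($h3).left s)
  tfae_have 3 → 1 := by
    intro h
    obtain ⟨b, hb, -⟩ := Groth.L08.DescAction.existsUnique_action f hf a h
    exact ⟨b, hb⟩
  tfae_finish

end Groth.Agent.S17473
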