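import Groth.Statements.S17474
import Groth.Agent.L08.Cube.NP.AlgEquiv

set_option autoImplicit false
universe u
open CategoryTheory MonoidalCategory CartesianMonoidalCategory MonObj GrpObj AlgebraicGeometry CategoryTheory.Limits
open AlgGrp

namespace Groth.Agent.S17474
set_option backward.isDefEq.respectTransparency false
attribute [local instance] Groth.L08.Cube.clMonoid
open Groth.L08.Cube Groth.Agent.AbDualLib

/-- Over an algebraically closed field k, let X be a projective variety (an integral k-scheme admitting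
a closed immersion into some projective space over k) and let a connected k-group scheme of finite
type G act on X. For a k-point g of G write t_g : X → X, x ↦ g · x. Then for every invertible
O_X-module L and every invertible M with L ⊗ M ≅ O_X (an inverse of L), the invertible module
t_g^*(L) ⊗ M is algebraically equivalent to zero. Equivalently, the neutral component of the
automorphism group scheme of X acts trivially on the Néron–Severi group of X. -/
theorem result (k : Type u) [Field k] [IsAlgClosed k]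
    (G X : Over (Spec (CommRingCat.of k))) [GrpObj G] [LocallyOfFiniteType G.hom] [QuasiCompact G.hom]
    [ConnectedSpace ↥G.left] [IsIntegral X.left] (hX : RelProj.IsHProjective X.hom)
    (a : AlgGrp.Action G X) (g : 𝟙_ (Over (Spec (CommRingCat.of k))) ⟶ G)
    (L M : X.left.Modules) (hL : PicF.IsInvertible L) (hM : PicF.IsInvertible M)
    (hLM : Nonempty (CohB1.tensorMod L M ≅ Coh.structureModule X.left)) :
    @Pic13.IsAlgEquivZero k _ X.left ⟨X.hom⟩
      (CohB1.tensorMod ((Scheme.Modules.pullback (lift (toUnit X ≫ g) (𝟙 X) ≫ a.act).left).obj L) M) := by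
  let pr : X ⊗ G ⟶ X := fst X G
  let act' : X ⊗ G ⟶ X := lift (snd X G) (fst X G) ≫ a.act
  let N := CohB1.tensorMod ((Scheme.Modules.pullback act'.left).obj L) ((Scheme.Modules.pullback pr.left).obj M)
  have hN : PicF.IsInvertible N :=
    Groth.L18.GenLoc.isInvertible_tensor (PicLoc.isInvertible_pullback _ hL) (PicLoc.isInvertible_pullback _ hM)
  have hsl : ∀ (p : 𝟙_ (Over (Spec (CommRingCat.of k))) ⟶ G),
      (letI : X.left.Over (Spec (CommRingCat.of k)) := ⟨X.hom⟩
       Pic13.sliceAt k X.left G.hom p.left (Over.w p)) = (lift (𝟙 X) (toUnit X ≫ p)).left := by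
    intro p
    letI : X.left.Over (Spec (CommRingCat.of k)) := ⟨X.hom⟩
    apply pullback.hom_ext
    · refine (pullback.lift_fst _ _ _).trans ?_
      exact (congr(($(lift_fst (𝟙 X) (toUnit X ≫ p))).left)).symm
    · refine (pullback.lift_snd _ _ _).trans ?_
      exact (congr(($(lift_snd (𝟙 X) (toUnit X ≫ p))).left)).symm
  have hcl : ∀ (p : 𝟙_ (Over (Spec (CommRingCat.of k))) ⟶ G),
      PicF.pullCl (lift (𝟙 X) (toUnit X ≫ p)).left (PicF.cl N) =
        PicF.pullCl (lift (toUnit X ≫ p) (𝟙 X) ≫ a.act).left (PicF.cl L) * PicF.cl M := by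
    intro p
    show PicF.pullCl _ (PicF.pullCl act'.left (PicF.cl L) * PicF.pullCl pr.left (PicF.cl M)) = _
    rw [pullCl_mul, ← PicLoc.pullCl_comp, ← PicLoc.pullCl_comp, ← Over.comp_left, ← Over.comp_left]
    refine congrArg₂ (· * ·) ?_ ?_
    · congr 2
      simp [act', comp_lift_assoc]
    · rw [show lift (𝟙 X) (toUnit X ≫ p) ≫ pr = 𝟙 X from lift_fst _ _]
      exact cl_congr ((Scheme.Modules.pullbackId _).app M)
  refine ⟨G.left, G.hom, inferInstance, inferInstance, inferInstance, N, hN, g.left,
    (1 : 𝟙_ (Over (Spec (CommRingCat.of k))) ⟶ G).left, Over.w g, Over.w _, ?_, ?_⟩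
  · refine (PicGrp.cl_eq_cl_iff _ _).1 ?_
    show PicF.pullCl _ (PicF.cl N) = _
    rw [hsl, hcl]
    rfl
  · refine (PicGrp.cl_eq_cl_iff _ _).1 ?_
    show PicF.pullCl _ (PicF.cl N) = _
    rw [hsl, hcl, show lift (toUnit X ≫ (1 : 𝟙_ (Over (Spec (CommRingCat.of k))) ⟶ G)) (𝟙 X) ≫ a.act = 𝟙 X by
      have h : lift (toUnit X ≫ (1 : 𝟙_ (Over (Spec (CommRingCat.of k))) ⟶ G)) (𝟙 X) =
          lift (toUnit X) (𝟙 X) ≫ (η[G] ▷ X) := by
        simp [lift_whiskerRight, MonObj.one_eq_one]
      rw [h, Category.assoc, a.one_act]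
      simp]
    refine Eq.trans (congrArg (· * _) (cl_congr ((Scheme.Modules.pullbackId _).app L))) ?_
    exact (PicGrp.cl_eq_cl_iff _ _).2 hLM

end Groth.Agent.S17474
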