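import Groth.Statements.S17482
import Groth.Agent.L03.ConnH0
import Groth.Agent.L03.Euler.Push
import Groth.Agent.L21.RR.Twist
-- import your own Groth.Agent.* helpers here

set_option autoImplicit false
universe u
open CategoryTheory CategoryTheory.Limits AlgebraicGeometry
open Surf

namespace Groth.Agent.S17482

/-- Let k be an algebraically closed field of characteristic zero and X a smooth projective surface over
k (an integral scheme of dimension two with all local rings regular, admitting a closed immersion
into some P^n_k over k) such that H^1(X, O_X) = 0. Let D be a nonempty closed subscheme of X, given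
by a quasi-coherent ideal sheaf whose associated O_X-module I_D is invertible (a nonzero effective
divisor). If H^1(X, I_D) = 0, then D is connected. (The published statement is for rational
surfaces; this row assumes only H^1(X, O_X) = 0. Since H^1(X, I_D) depends only on the isomorphism
class of I_D, the same holds for every effective divisor linearly equivalent to D.) -/
theorem result
    (k : Type u) [Field k] [IsAlgClosed k] [CharZero k]
    (X : Scheme.{u}) [X.Over (Spec (CommRingCat.of k))] [AlgebraicGeometry.IsIntegral X]
    (hdim : topologicalKrullDim X = 2) (hreg : ∀ x : X, IsRegularLocalRing (X.presheaf.stalk x))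
    (hproj : ∃ (n : ℕ) (ι : X ⟶ CohB1.ProjSpace n k), IsClosedImmersion ι ∧
      ι ≫ CohB1.ProjSpace.toSpec n k = (X ↘ (Spec (CommRingCat.of k))))
    (hH1 : Subsingleton (Coh.HH X (Coh.structureModule X) 1))
    (D : X.IdealSheafData) (hD : PicF.IsInvertible (ClSub.idealMod D)) (hne : Nonempty ↥D.subscheme)
    (hvan : Subsingleton (Coh.HH X (ClSub.idealMod D) 1)) :
    ConnectedSpace ↥D.subscheme := by
  obtain ⟨n, ι, hι, hιk⟩ := hproj
  haveI : IsProper (X ↘ (Spec (CommRingCat.of k))) := by
    rw [← hιk]
    haveI := Groth.L16.ProjSpace.isProper_toSpec n k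
    infer_instance
  haveI := Groth.L21.RR.isNoetherian_of_proper (X := X) k
  haveI : X.IsSeparated := ⟨by rw [← terminal.comp_from (X ↘ Spec (CommRingCat.of k))]; infer_instance⟩
  letI : D.subscheme.Over (Spec (CommRingCat.of k)) := ⟨D.subschemeι ≫ (X ↘ Spec (CommRingCat.of k))⟩
  haveI : IsProper (D.subscheme ↘ Spec (CommRingCat.of k)) :=
    inferInstanceAs (IsProper (D.subschemeι ≫ (X ↘ Spec (CommRingCat.of k))))
  haveI : IsLocallyNoetherian D.subscheme := LocallyOfFiniteType.isLocallyNoetherian D.subschemeι
  obtain ⟨e⟩ := Groth.L03.Euler.exists_HH_push_linearEquiv (k := k) D.subschemeι (Coh.structureModule _)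
    (Groth.L16.CohClosedPush.isCoh_structure (X := D.subscheme)).1 rfl 0
  have hS := Groth.L21.RR.shortExact_idealSeq D
  haveI : Module.Finite k (Coh.HH X (Coh.structureModule X) 0) :=
    Groth.L16.ProperFinite.finite_HH k (Groth.L16.CohClosedPush.isCoh_structure (X := X)) 0
  let φ : Coh.HH X (Coh.structureModule X) 0 →ₗ[k] Coh.HH X (ClSub.quotMod D) 0 :=
    Groth.L16.CohLinear.overLin k (Groth.L16.CohLinear.hmap (Groth.L21.RR.idealSeq D).g 0)
  have hX1 : Module.finrank k (Coh.HH X (Coh.structureModule X) 0) = 1 := Groth.L03.ConnH0.h0_structure_eq_one k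
  have hφ : Function.Surjective φ := fun w =>
    (Groth.L16.CohLinear.exact_hmap_delta hS 0 w).1 (@Subsingleton.elim _ hvan _ _)
  have hle := LinearMap.finrank_le_finrank_of_surjective hφ
  rw [hX1, ← e.finrank_eq] at hle
  haveI := hne
  exact Groth.L03.ConnH0.connectedSpace_of_le k hle

end Groth.Agent.S17482
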