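import Groth.Statements.S17483
import Groth.Agent.L03.ConnH0
import Groth.Agent.L03.Euler.Push
import Groth.Agent.L21.RR.Twist
-- import your own Groth.Agent.* helpers here

set_option autoImplicit false
universe u
open CategoryTheory CategoryTheory.Limits AlgebraicGeometry
open Surf

namespace Groth.Agent.S17483

/-- Let k be an algebraically closed field of characteristic zero and X a smooth projective surface over
k (an integral scheme of dimension two with all local rings regular, admitting a closed immersion
into some P^n_k over k) such that H^1(X, O_X) = 0. Let D be a closed subscheme of X, given by a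
quasi-coherent ideal sheaf whose associated O_X-module I_D is invertible (an effective divisor). If
D is connected and reduced, then H^1(X, I_D) = 0. (The published statement asserts H^1(X, I_D) = 0
as soon as the linear system of D contains a connected curve, without reducedness; that fails: on
the blow-up of the projective plane at a point, with exceptional curve E, the divisor D = 2E is
connected and is the only member of its linear system, yet H^0(O_{2E}) is three-dimensional, so
H^1(X, I_{2E}) is two-dimensional. The published statement is for rational surfaces; this row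
assumes H^1(X, O_X) = 0 instead.) -/
theorem result
    (k : Type u) [Field k] [IsAlgClosed k] [CharZero k]
    (X : Scheme.{u}) [X.Over (Spec (CommRingCat.of k))] [AlgebraicGeometry.IsIntegral X]
    (hdim : topologicalKrullDim X = 2) (hreg : ∀ x : X, IsRegularLocalRing (X.presheaf.stalk x))
    (hproj : ∃ (n : ℕ) (ι : X ⟶ CohB1.ProjSpace n k), IsClosedImmersion ι ∧
      ι ≫ CohB1.ProjSpace.toSpec n k = (X ↘ (Spec (CommRingCat.of k))))
    (hH1 : Subsingleton (Coh.HH X (Coh.structureModule X) 1))
    (D : X.IdealSheafData) (hD : PicF.IsInvertible (ClSub.idealMod D))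
    [ConnectedSpace ↥D.subscheme] [IsReduced D.subscheme] :
    Subsingleton (Coh.HH X (ClSub.idealMod D) 1) := by
  obtain ⟨n, ι, hι, hιk⟩ := hproj
  haveI : IsProper (X ↘ (Spec (CommRingCat.of k))) := by
    rw [← hιk]
    haveI := Groth.L16.ProjSpace.isProper_toSpec n k
    infer_instance
  haveI := Groth.L21.RR.isNoetherian_of_proper (X := X) k
  haveI : X.IsSeparated := ⟨by rw [← terminal.comp_from (X ↘ Spec (CommRingCat.of k))]; infer_instance⟩
  letI : D.subscheme.Over (Spec (CommRingCat.of k)) := ⟨D.subschemeι ≫ (X ↘ Spec (CommRingCat.of k))⟩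
  haveI : IsProper (D.subscheme ↘ Spec (CommRingCat.of k)) :=
    inferInstanceAs (IsProper (D.subschemeι ≫ (X ↘ Spec (CommRingCat.of k))))
  haveI : IsLocallyNoetherian D.subscheme := LocallyOfFiniteType.isLocallyNoetherian D.subschemeι
  obtain ⟨e⟩ := Groth.L03.Euler.exists_HH_push_linearEquiv (k := k) D.subschemeι (Coh.structureModule _)
    (Groth.L16.CohClosedPush.isCoh_structure (X := D.subscheme)).1 rfl 0
  have hS := Groth.L21.RR.shortExact_idealSeq D
  haveI : Module.Finite k (Coh.HH X (Coh.structureModule X) 0) :=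
    Groth.L16.ProperFinite.finite_HH k (Groth.L16.CohClosedPush.isCoh_structure (X := X)) 0
  let φ : Coh.HH X (Coh.structureModule X) 0 →ₗ[k] Coh.HH X (ClSub.quotMod D) 0 :=
    Groth.L16.CohLinear.overLin k (Groth.L16.CohLinear.hmap (Groth.L21.RR.idealSeq D).g 0)
  have hX1 : Module.finrank k (Coh.HH X (Coh.structureModule X) 0) = 1 := Groth.L03.ConnH0.h0_structure_eq_one k
  have hD1 : Module.finrank k (Coh.HH X (ClSub.quotMod D) 0) = 1 := by
    rw [← e.finrank_eq]
    exact Groth.L03.ConnH0.h0_structure_eq_one k
  haveI : Module.Finite k (Coh.HH X (ClSub.quotMod D) 0) := Module.finite_of_finrank_eq_succ hD1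
  let v₁ : Coh.HH X (Coh.structureModule X) 0 :=
    (Groth.L21.RR.e0 (Coh.structureModule X)).symm (Groth.L21.RR.oneSec X)
  have hv₁ : φ v₁ ≠ 0 := by
    intro h0
    have h1 : Groth.L21.RR.e0 (ClSub.quotMod D) (Groth.L16.CohLinear.hmap (Groth.L21.RR.idealSeq D).g 0 v₁) = 0 :=
      (congrArg (Groth.L21.RR.e0 (ClSub.quotMod D)) h0).trans (map_zero _)
    erw [Groth.L21.RR.e0_hmap, AddEquiv.apply_symm_apply] at h1
    have h2 : (D.subschemeι.app ⊤ (1 : Γ(X, ⊤))) = 0 := h1
    rw [map_one] at h2
    obtain ⟨z⟩ := (inferInstance : Nonempty D.subscheme)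
    haveI : Nontrivial Γ(D.subscheme, ⊤) := (D.subscheme.presheaf.germ ⊤ z trivial).hom.domain_nontrivial
    exact one_ne_zero (α := Γ(D.subscheme, ⊤)) h2
  have hφ : Function.Surjective φ := fun w => by
    obtain ⟨c, hc⟩ := exists_smul_eq_of_finrank_eq_one hD1 hv₁ w
    exact ⟨c • v₁, by rw [map_smul, hc]⟩
  refine subsingleton_of_forall_eq 0 fun z => ?_
  obtain ⟨w, hw⟩ := (Groth.L16.CohLinear.exact_delta_hmap hS 0 z).1 (@Subsingleton.elim _ hH1 _ _)
  obtain ⟨v, hv⟩ := hφ w
  rw [← hw]
  exact (Groth.L16.CohLinear.exact_hmap_delta hS 0 w).2 ⟨v, hv⟩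

end Groth.Agent.S17483
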