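import Groth.Statements.S17487
-- import your own Groth.Agent.* helpers here

set_option autoImplicit false
universe u
open CategoryTheory CategoryTheory.Limits AlgebraicGeometry
open Coherent

set_option maxHeartbeats 400000
set_option backward.isDefEq.respectTransparency false
set_option backward.isDefEq.respectTransparency.types false

namespace Groth.Agent.S17487

/-- Let k be an algebraically closed field of characteristic zero and Y a smooth projective variety over
k (an integral scheme, smooth over k, with a closed immersion into some P^n_k over k). Let E_1, …,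
E_n be coherent O_Y-modules forming a strong exceptional sequence, expressed through Ext groups in
the category of O_Y-modules (the Ext instance is the stated hypothesis; it holds): End(E_i) is
one-dimensional over k, Ext^p(E_i, E_j) = 0 for all p when i > j, and Ext^p(E_i, E_j) = 0 for all i,
j when p ≥ 1 (indices here run over 0, …, n-1). Let d ≤ n and let 0 → K → M → F → 0 be a short exact
sequence of O_Y-modules in which K is isomorphic to a finite direct sum of copies of members E_i
with i < d and M to a finite direct sum of copies of members E_i with i ≥ d (a two-term resolution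
of F by the sequence, split at d). Then Ext^p(E_i, F) = 0 for every i and every p ≥ 1, and Ext^p(F,
E_i) = 0 for every i < d and every p ≠ 1. (The published criterion also asks that the sequence
generate the derived category, states the first vanishing only for i ≥ d, and adds conditions on
terms of the associated filtration and cofiltration of F, which are not restated here; the
vanishings above follow from the resolution alone.) -/
theorem result
    (k : Type u) [Field k] [IsAlgClosed k] [CharZero k]
    (Y : Scheme.{u}) [Y.Over (Spec (CommRingCat.of k))] [AlgebraicGeometry.IsIntegral Y]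
    [Smooth (Y ↘ Spec (CommRingCat.of k))]
    (hproj : ∃ (N : ℕ) (ι : Y ⟶ CohB1.ProjSpace N k), IsClosedImmersion ι ∧
      ι ≫ CohB1.ProjSpace.toSpec N k = (Y ↘ (Spec (CommRingCat.of k))))
    [HasExt.{u} Y.Modules]
    (n d : ℕ) (hdn : d ≤ n) (E : Fin n → Y.Modules) (hEcoh : ∀ i, Coh.IsCoh (E i))
    (hend : ∀ i, Module.finrank k (E i ⟶ E i) = 1)
    (hexc : ∀ i j : Fin n, j < i → ∀ p : ℕ, Subsingleton (Abelian.Ext (E i) (E j) p))
    (hstr : ∀ (i j : Fin n) (p : ℕ), 1 ≤ p → Subsingleton (Abelian.Ext (E i) (E j) p))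
    (S : ShortComplex Y.Modules) (hS : S.ShortExact)
    (m₁ : ℕ) (c₁ : Fin m₁ → Fin n) (hc₁ : ∀ t, (c₁ t : ℕ) < d) (e₁ : S.X₁ ≅ ∐ fun t => E (c₁ t))
    (m₂ : ℕ) (c₂ : Fin m₂ → Fin n) (hc₂ : ∀ t, d ≤ (c₂ t : ℕ)) (e₂ : S.X₂ ≅ ∐ fun t => E (c₂ t)) :
    (∀ (i : Fin n) (p : ℕ), 1 ≤ p → Subsingleton (Abelian.Ext (E i) S.X₃ p)) ∧
      (∀ i : Fin n, (i : ℕ) < d → ∀ p : ℕ, p ≠ 1 → Subsingleton (Abelian.Ext S.X₃ (E i) p)) := by
  classical
  haveI hb : ∀ {m : ℕ} (f : Fin m → Y.Modules), HasBiproduct f := fun f => HasBiproduct.of_hasProduct f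
  have hR : ∀ {m : ℕ} (f : Fin m → Y.Modules) (Z : Y.Modules) (e : Z ≅ ∐ f) (X : Y.Modules) (p : ℕ),
      (∀ t, Subsingleton (Abelian.Ext X (f t) p)) → Subsingleton (Abelian.Ext X Z p) := by
    intro m f Z e X p h
    haveI := hb f
    have e' : Z ≅ (biproduct.bicone f).pt := e ≪≫ (biproduct.isoCoproduct f).symm
    haveI : ∀ t, Subsingleton (Abelian.Ext X (f t) p) := h
    refine ⟨fun a b => ?_⟩
    have h1 : a.comp (Abelian.Ext.mk₀ e'.hom) (add_zero p) = b.comp (Abelian.Ext.mk₀ e'.hom) (add_zero p) :=
      (Abelian.Ext.addEquivBiproduct X (biproduct.isBilimit f) p).injective (Subsingleton.elim _ _)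
    have h2 := congrArg (fun z => z.comp (Abelian.Ext.mk₀ e'.inv) (add_zero p)) h1
    simpa [Abelian.Ext.comp_assoc_of_second_deg_zero] using h2
  have hL : ∀ {m : ℕ} (f : Fin m → Y.Modules) (Z : Y.Modules) (e : Z ≅ ∐ f) (X : Y.Modules) (p : ℕ),
      (∀ t, Subsingleton (Abelian.Ext (f t) X p)) → Subsingleton (Abelian.Ext Z X p) := by
    intro m f Z e X p h
    haveI := hb f
    have e' : Z ≅ (biproduct.bicone f).pt := e ≪≫ (biproduct.isoCoproduct f).symm
    haveI : ∀ t, Subsingleton (Abelian.Ext (f t) X p) := h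
    refine ⟨fun a b => ?_⟩
    have h1 : (Abelian.Ext.mk₀ e'.inv).comp a (zero_add p) = (Abelian.Ext.mk₀ e'.inv).comp b (zero_add p) :=
      (Abelian.Ext.biproductAddEquiv (biproduct.isBilimit f) X p).injective (Subsingleton.elim _ _)
    have h2 := congrArg (fun z => (Abelian.Ext.mk₀ e'.hom).comp z (zero_add p)) h1
    simpa [← Abelian.Ext.comp_assoc_of_second_deg_zero] using h2
  constructor
  · intro i p hp
    haveI hK : Subsingleton (Abelian.Ext (E i) S.X₁ (p + 1)) :=
      hR _ _ e₁ _ _ (fun t => hstr i (c₁ t) (p + 1) (by omega))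
    haveI hM : Subsingleton (Abelian.Ext (E i) S.X₂ p) := hR _ _ e₂ _ _ (fun t => hstr i (c₂ t) p hp)
    refine subsingleton_of_forall_eq 0 (fun x => ?_)
    have h := Abelian.Ext.covariant_sequence_exact₃ (X := E i) hS x rfl (Subsingleton.elim _ _)
    obtain ⟨y, hy⟩ := h
    rw [← hy, Subsingleton.elim y 0, Abelian.Ext.zero_comp]
  · intro i hi p hp
    haveI hM : ∀ q : ℕ, Subsingleton (Abelian.Ext S.X₂ (E i) q) := fun q =>
      hL _ _ e₂ _ _ (fun t => hexc (c₂ t) i (Fin.lt_def.2 (lt_of_lt_of_le hi (hc₂ t))) q)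
    refine subsingleton_of_forall_eq 0 (fun x => ?_)
    rcases Nat.eq_zero_or_pos p with hp0 | hp0
    · subst hp0
      haveI := hS.epi_g
      exact Abelian.Ext.precomp_mk₀_injective_of_epi (E i) S.g (Subsingleton.elim _ _)
    · obtain ⟨q, rfl⟩ : ∃ q, p = q + 1 := ⟨p - 1, by omega⟩
      haveI hK : Subsingleton (Abelian.Ext S.X₁ (E i) q) :=
        hL _ _ e₁ _ _ (fun t => hstr (c₁ t) i q (by omega))
      have h := Abelian.Ext.contravariant_sequence_exact₃ hS (E i) x (Subsingleton.elim _ _) (n₀ := q) (by omega)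
      obtain ⟨y, hy⟩ := h
      rw [← hy, Subsingleton.elim y 0, Abelian.Ext.comp_zero]

end Groth.Agent.S17487
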