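import Groth.Statements.S1749
import Groth.Agent.L29.Dual.Normalized

set_option autoImplicit false
universe u
open CategoryTheory
attribute [local instance] HasDerivedCategory.standard
open Dual

namespace Groth.Agent.S1749

/-- Let A be a Noetherian local ring with a normalized dualizing complex ω and κ → E an injective hull
of the residue field. For every A-module N of finite length, the maps N → ω[i] in D(A) vanish for i
≠ 0, and the A-module of maps N → ω is isomorphic to Hom_A(N, E). (The source gives this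
functorially in N; here only the existence of the isomorphism for each N is asserted.) -/
theorem result (A : Type u) [CommRing A] [IsLocalRing A] [IsNoetherianRing A] (ω : Dual.D A) (hω : Dual.IsDualizing A ω) (hn : Dual.IsNormalized A ω) (E : Type u) [AddCommGroup E] [Module A E] (f : IsLocalRing.ResidueField A →ₗ[A] E) (hf : InjHull.IsInjectiveHull f) (N : Type u) [AddCommGroup N] [Module A N] (hN : IsFiniteLength A N) : (∀ i : ℤ, i ≠ 0 → Subsingleton (Dual.inD A N ⟶ ω⟦i⟧)) ∧ Nonempty ((Dual.inD A N ⟶ ω) ≃ₗ[A] (N →ₗ[A] E)) := by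
  obtain ⟨_, _⟩ := isFiniteLength_iff_isNoetherian_isArtinian.1 hN
  let m := IsLocalRing.maximalIdeal A
  obtain ⟨k, hk⟩ := IsArtinian.monotone_stabilizes (R := A) (M := N)
    ⟨fun k => OrderDual.toDual ((m ^ k) • (⊤ : Submodule A N)), fun k l hkl =>
      Submodule.smul_mono_left (Ideal.pow_le_pow_right hkl)⟩
  have hbot : (m ^ k) • (⊤ : Submodule A N) = ⊥ := by
    refine Submodule.eq_bot_of_le_smul_of_le_jacobson_bot m _ (IsNoetherian.noetherian _) ?_
      (IsLocalRing.maximalIdeal_le_jacobson _)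
    have := congrArg OrderDual.ofDual (hk (k + 1) k.le_succ)
    change (m ^ k) • (⊤ : Submodule A N) = (m ^ (k + 1)) • ⊤ at this
    exact this.le.trans (by rw [pow_succ', Submodule.mul_smul])
  have hkill : ∀ a ∈ m ^ k, ∀ x : N, a • x = 0 := fun a ha x => by
    have : a • x ∈ (m ^ k) • (⊤ : Submodule A N) := Submodule.smul_mem_smul ha trivial
    rwa [hbot, Submodule.mem_bot] at this
  refine ⟨fun i hi => Groth.L29.HomD.subsingleton_hom_of_kills hω hn N k hkill i hi, ?_⟩
  obtain ⟨I, a, hGE, hinj, hK, hc, ⟨eI⟩, ⟨e⟩⟩ := Groth.L29.HomD.exists_gamma_hull hω hn f hf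
  obtain ⟨e2⟩ := Groth.L29.HomD.nonempty_hom_GH hinj a hc (ModuleCat.of A N) k hkill
  exact ⟨Linear.homCongr A (Iso.refl _) eI.symm ≪≫ₗ e2 ≪≫ₗ
    (LinearEquiv.congrRight e : (N →ₗ[A] _) ≃ₗ[A] (N →ₗ[A] E))⟩

end Groth.Agent.S1749
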