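import Mathlib.AlgebraicGeometry.Morphisms.FiniteType
import Mathlib.AlgebraicGeometry.Restrict
import Mathlib.FieldTheory.IsAlgClosed.Basic
import Groth.Prelude.Def_K0Var
import Groth.Agent.L02.SymZeta.Fibration

set_option autoImplicit false
set_option linter.style.haveILetI false
namespace RelQuot
end RelQuot
universe u
open RelQuot

namespace Groth.Agent.S17499

open CategoryTheory CategoryTheory.Limits AlgebraicGeometry in
/-- Let k be an algebraically closed field of characteristic zero, X, Y and F schemes of finite type
over k, and f : X → Y a morphism over k which is a Zariski locally trivial fibration with fibre F: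
every point of Y has an open neighbourhood U together with an isomorphism from f⁻¹(U) to U ×_k F
whose composite with the first projection is the restriction of f. Then in the Grothendieck ring of
k-schemes of finite type the class of X equals [Y] · [F]. The published statement is for varieties;
it is stated here for schemes of finite type over k, which present the same ring. -/
theorem result
    (k : Type u) [Field k] [IsAlgClosed k] [CharZero k] {X Y F : Scheme.{u}}
    (pY : Y ⟶ Spec (CommRingCat.of k)) [LocallyOfFiniteType pY] [QuasiCompact pY]
    (pF : F ⟶ Spec (CommRingCat.of k)) [LocallyOfFiniteType pF] [QuasiCompact pF]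
    (f : X ⟶ Y) [LocallyOfFiniteType f] [QuasiCompact f]
    (hf : ∀ y : Y, ∃ (U : Y.Opens) (e : (f ⁻¹ᵁ U).toScheme ≅ pullback (U.ι ≫ pY) pF),
      y ∈ U ∧ e.hom ≫ pullback.fst (U.ι ≫ pY) pF = f ∣_ U) :
    K0Var.cl (f ≫ pY) = K0Var.cl pY * K0Var.cl pF := by
  haveI : IsLocallyNoetherian Y := LocallyOfFiniteType.isLocallyNoetherian pY
  haveI : CompactSpace Y := QuasiCompact.compactSpace_of_compactSpace pY
  haveI : IsNoetherian Y := { }
  exact Groth.L02.SymZeta.cl_eq_of_locallyTrivial pY pF f hf

end Groth.Agent.S17499
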