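import Groth.Statements.S1750
import Groth.Agent.L04.MatlisHull

set_option autoImplicit false
universe u
open InjHull

namespace Groth.Agent.S1750

/-- Let R → S be a flat local homomorphism of Noetherian local rings with m_R S = m_S inducing a
bijection on residue fields. If κ_S → E is an injective hull of the residue field of S over S, then
E regarded as an R-module is an injective hull of the residue field of R (for a suitable R-linear
map κ_R → E). -/
theorem result (R S : Type u) [CommRing R] [CommRing S] [IsLocalRing R] [IsLocalRing S] [IsNoetherianRing R] [IsNoetherianRing S] [Algebra R S] [IsLocalHom (algebraMap R S)] [Module.Flat R S] (hm : (IsLocalRing.maximalIdeal R).map (algebraMap R S) = IsLocalRing.maximalIdeal S) (hk : Function.Bijective (IsLocalRing.ResidueField.map (algebraMap R S))) (E : Type u) [AddCommGroup E] [Module S E] [Module R E] [IsScalarTower R S E] (f : IsLocalRing.ResidueField S →ₗ[S] E) (hf : InjHull.IsInjectiveHull f) : ∃ g : IsLocalRing.ResidueField R →ₗ[R] E, InjHull.IsInjectiveHull g := by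
  have hinj := Groth.L04.injective_of_flat (R := R) hf.isInjective
  have hfx : ∀ r : R, r ∈ IsLocalRing.maximalIdeal R → algebraMap R S r ∈ IsLocalRing.maximalIdeal S :=
    fun r hr => hm ▸ Ideal.mem_map_of_mem _ hr
  have hx0 : f 1 ≠ 0 := Groth.L04.hull_one_ne_zero hf
  obtain ⟨g, hg, hg'⟩ := Groth.L04.exists_hom_residueField (R := R) hx0 fun r hr => by
    rw [← algebraMap_smul S r (f 1), ← map_smul,
      Groth.L04.smul_residueField_eq_zero (hfx r hr), map_zero]
  refine ⟨g, Groth.L04.isInjectiveHull_of_injective (n := IsLocalRing.maximalIdeal R) g hg hinj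
    (fun x => ?_) fun x hx => ?_⟩
  · obtain ⟨k, hk⟩ := Groth.L04.hull_isPowerTorsion hf x
    refine ⟨k, fun r hr => ?_⟩
    rw [← algebraMap_smul S r x]
    refine hk _ ?_
    rw [← hm, ← Ideal.map_pow]
    exact Ideal.mem_map_of_mem _ hr
  · obtain ⟨s, rfl⟩ := Groth.L04.exists_smul_of_killed hf (x := x) fun c hc => by
      have hle : (IsLocalRing.maximalIdeal R).map (algebraMap R S) ≤
          (LinearMap.ker (LinearMap.toSpanSingleton S E x)) := by
        rw [Ideal.map_le_iff_le_comap]
        intro r hr
        simpa [algebraMap_smul] using hx r hr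
      simpa using hle (hm.ge hc)
    obtain ⟨c, hc⟩ := hk.2 (IsLocalRing.residue S s)
    obtain ⟨r, rfl⟩ := IsLocalRing.residue_surjective c
    refine ⟨IsLocalRing.residue R r, ?_⟩
    rw [hg', ← algebraMap_smul S r (f 1), ← map_smul, ← map_smul, Groth.L04.residue_smul_eq,
      Groth.L04.residue_smul_eq]
    exact congrArg f (by simpa using hc)

end Groth.Agent.S1750
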