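import Groth.Statements.S17500
import Mathlib.RingTheory.Flat.Tensor
import Mathlib.RingTheory.Int.Basic
import Mathlib.RingTheory.PrincipalIdealDomain
import Mathlib.LinearAlgebra.TensorProduct.RightExactness

set_option autoImplicit false
universe u
open TorsMod

namespace Groth.Agent.S17500

/-- Let p be a prime number, n a natural number and H a module over ℤ/p^nℤ. Then H is flat over ℤ/p^nℤ
if and only if, for every i with 0 ≤ i ≤ n, the kernel of multiplication by p^i on H coincides with
the image of multiplication by p^(n-i) on H. (The published item is phrased for an fppf sheaf of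
ℤ/p^nℤ-modules on a scheme; this is the case of a single module, which is the case the argument
treats.) -/
theorem result (p n : ℕ) [Fact p.Prime]
    (H : Type u) [AddCommGroup H] [Module (ZMod (p ^ n)) H] :
    Module.Flat (ZMod (p ^ n)) H ↔
      ∀ i : ℕ, i ≤ n →
        LinearMap.ker ((p ^ i : ZMod (p ^ n)) • (LinearMap.id : H →ₗ[ZMod (p ^ n)] H)) =
          LinearMap.range ((p ^ (n - i) : ZMod (p ^ n)) • (LinearMap.id : H →ₗ[ZMod (p ^ n)] H)) := by
  set R := ZMod (p ^ n)
  have hp0 : (p : R) ^ n = 0 := by
    rw [← Nat.cast_pow]; exact ZMod.natCast_self _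
  have hrange : ∀ i, i ≤ n → LinearMap.range ((p ^ (n - i) : R) • (LinearMap.id : H →ₗ[R] H)) ≤
      LinearMap.ker ((p ^ i : R) • (LinearMap.id : H →ₗ[R] H)) := by
    rintro i hi _ ⟨y, rfl⟩
    simp [smul_smul, ← pow_add, Nat.sub_add_cancel hi, Nat.add_sub_cancel' hi, hp0]
  constructor
  · intro hflat i hi
    refine le_antisymm ?_ (hrange i hi)
    let μ : ℕ → R →ₗ[R] R := fun j => (p ^ j : R) • LinearMap.id
    have hex : Function.Exact (μ (n - i)) (μ i) := by
      intro x
      constructor
      · intro hx
        obtain ⟨z, rfl⟩ := ZMod.intCast_surjective x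
        simp only [μ, LinearMap.smul_apply, LinearMap.id_apply, smul_eq_mul] at hx
        have hx' : ((((p : ℤ) ^ i * z) : ℤ) : R) = 0 := by
          rw [Int.cast_mul, Int.cast_pow, Int.cast_natCast]; exact hx
        rw [ZMod.intCast_zmod_eq_zero_iff_dvd] at hx'
        push_cast at hx'
        rw [show n = i + (n - i) by omega, pow_add] at hx'
        obtain ⟨y, rfl⟩ := (mul_dvd_mul_iff_left
          (pow_ne_zero i (Int.natCast_ne_zero.mpr (Nat.Prime.ne_zero Fact.out)))).mp hx'
        exact ⟨(y : R), by simp [μ]⟩
      · rintro ⟨y, rfl⟩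
        simp [μ, ← mul_assoc, ← pow_add, Nat.add_sub_cancel' hi, hp0]
    have hex' := Module.Flat.rTensor_exact H hex
    intro x hx
    have h1 : (μ i).rTensor H ((TensorProduct.lid R H).symm x) = 0 := by
      apply (TensorProduct.lid R H).injective
      simp only [LinearMap.mem_ker, LinearMap.smul_apply, LinearMap.id_apply] at hx
      simp [μ, hx]
    obtain ⟨z, hz⟩ := (hex' _).mp h1
    refine ⟨TensorProduct.lid R H z, ?_⟩
    have hcomm : ∀ z, TensorProduct.lid R H ((μ (n - i)).rTensor H z) =
        (p ^ (n - i) : R) • TensorProduct.lid R H z := fun z => by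
      induction z using TensorProduct.induction_on with
      | zero => simp
      | tmul r y => simp [μ, smul_smul]
      | add a b ha hb => simp only [map_add, ha, hb, smul_add]
    have := congr_arg (TensorProduct.lid R H) hz
    rw [hcomm, LinearEquiv.apply_symm_apply] at this
    simpa using this
  · intro h
    rw [Module.Flat.iff_lift_lsmul_comp_subtype_injective]
    intro I _
    let J : Ideal ℤ := I.comap (Int.castRingHom R)
    obtain ⟨e, he⟩ := (IsPrincipalIdealRing.principal J).principal
    have hpn : (p : ℤ) ^ n ∈ J := by simp [J, hp0]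
    rw [he, Submodule.mem_span_singleton] at hpn
    obtain ⟨t, ht⟩ := hpn
    obtain ⟨i, hi, hie⟩ := (dvd_prime_pow (Nat.prime_iff_prime_int.mp Fact.out) _).mp
      (Dvd.intro_left t ht : e ∣ (p : ℤ) ^ n)
    have hI : I = Ideal.span {(p : R) ^ i} := by
      have hJ : J = Ideal.span {(p : ℤ) ^ i} := he.trans (Ideal.span_singleton_eq_span_singleton.mpr hie)
      rw [← Ideal.map_comap_of_surjective (Int.castRingHom R) ZMod.intCast_surjective I]
      show J.map _ = _
      rw [hJ, Ideal.map_span, Set.image_singleton, map_pow, map_natCast]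
    subst hI
    rw [injective_iff_map_eq_zero]
    intro z hz
    let g : Ideal.span {(p : R) ^ i} := ⟨(p : R) ^ i, Ideal.mem_span_singleton_self _⟩
    obtain ⟨y, rfl⟩ : ∃ y : H, z = g ⊗ₜ y := by
      clear hz
      induction z using TensorProduct.induction_on with
      | zero => exact ⟨0, (TensorProduct.tmul_zero _ _).symm⟩
      | tmul a y =>
        obtain ⟨r, hr⟩ := Ideal.mem_span_singleton'.mp a.2
        refine ⟨r • y, ?_⟩
        rw [TensorProduct.tmul_smul, TensorProduct.smul_tmul']
        exact congr_arg (· ⊗ₜ y) (Subtype.ext hr.symm)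
      | add a b ha hb =>
        obtain ⟨ya, rfl⟩ := ha
        obtain ⟨yb, rfl⟩ := hb
        exact ⟨ya + yb, (TensorProduct.tmul_add _ _ _).symm⟩
    have hy : y ∈ LinearMap.ker ((p ^ i : R) • (LinearMap.id : H →ₗ[R] H)) := by
      simpa [g] using hz
    rw [h i hi] at hy
    obtain ⟨y', rfl⟩ := hy
    rw [LinearMap.smul_apply, LinearMap.id_apply, TensorProduct.tmul_smul, TensorProduct.smul_tmul']
    have : (p ^ (n - i) : R) • g = 0 := by
      apply Subtype.ext
      show (p : R) ^ (n - i) * (p : R) ^ i = 0
      rw [← pow_add, Nat.sub_add_cancel hi, hp0]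
    rw [this, TensorProduct.zero_tmul]

end Groth.Agent.S17500
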