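import Groth.Statements.S17502
import Groth.Agent.L17.UBound.Bound
import Groth.Agent.L08.Cube.Inverse
import Groth.Agent.L21.RR.BaseChange
import Groth.Agent.L16.ProjSpace.Basic

set_option autoImplicit false
universe u
open CategoryTheory CategoryTheory.Limits MonoidalCategory CartesianMonoidalCategory MonObj GrpObj AlgebraicGeometry
open Coherent

set_option linter.style.haveILetI false
set_option backward.isDefEq.respectTransparency false
set_option backward.isDefEq.respectTransparency.types false

namespace Groth.Agent.S17502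

open Groth.L00.Tensor Groth.L17.UBound

/-- Fibre ranks over a field are dimensions of cohomology. -/
theorem fiberRank_eq_h {K : Type u} [Field K] {Y : Scheme.{u}} [Y.Over (Spec (CommRingCat.of K))]
    [IsProper (Y ↘ Spec (CommRingCat.of K))] {M : Y.Modules} (hM : Coh.IsCoh M) (p : ℕ)
    (t : ↥(Spec (CommRingCat.of K))) :
    CohIII.fiberRank (Y ↘ Spec (CommRingCat.of K)) M p t = Groth.L21.RR.h K p M := by
  let q := Y ↘ Spec (CommRingCat.of K)
  let s := (Spec (CommRingCat.of K)).fromSpecResidueField t
  letI : Algebra K ((Spec (CommRingCat.of K)).residueField t) := (Spec.preimage s).hom.toAlgebra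
  letI : (q.fiber t).Over (Spec (CommRingCat.of ((Spec (CommRingCat.of K)).residueField t))) :=
    ⟨q.fiberToSpecResidueField t⟩
  have hs : Spec.map (CommRingCat.ofHom (algebraMap K ((Spec (CommRingCat.of K)).residueField t))) = s :=
    Spec.map_preimage s
  have sq : IsPullback (q.fiberι t) (q.fiber t ↘ Spec (CommRingCat.of ((Spec (CommRingCat.of K)).residueField t)))
      q (Spec.map (CommRingCat.ofHom (algebraMap K ((Spec (CommRingCat.of K)).residueField t)))) := by
    rw [hs]
    exact IsPullback.of_hasPullback q s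
  exact Groth.L21.RR.h_pullback (k := K) (q.fiberι t) sq hM p

/-- Every member of the family is invertible. -/
theorem isInvertible_family {Y : Scheme.{u}} {r : ℕ} {Lb : Fin r → Y.Modules} (hLb : ∀ j, PicF.IsInvertible (Lb j))
    {F : (Fin r → ℤ) → Y.Modules} (hF0 : Nonempty (F 0 ≅ Coh.structureModule Y))
    (hF : ∀ (a : Fin r → ℤ) (j : Fin r), Nonempty (F (a + Pi.single j 1) ≅ CohB1.tensorMod (F a) (Lb j))) :
    ∀ (s : ℕ) (a : Fin r → ℤ), size a = s → PicF.IsInvertible (F a) := by
  intro s
  induction s with
  | zero =>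
    intro a ha
    rw [size_eq_zero ha]
    exact Groth.L18.Ample.isInvertible_of_iso hF0.some.symm (Groth.L18.Ample.isInvertible_structureModule Y)
  | succ s ih =>
    intro a ha
    obtain ⟨j, hj⟩ : ∃ j, a j ≠ 0 := by
      by_contra hc
      push Not at hc
      simp [size, hc] at ha
    rcases lt_or_gt_of_ne hj with hneg | hpos
    · have hs : size (a + Pi.single j 1) = s := by
        have := size_update a j 1
        omega
      obtain ⟨L', hL', ⟨u⟩⟩ := Groth.L08.Cube.exists_inverse (hLb j)
      exact Groth.L18.Ample.isInvertible_of_iso (tensorIso (hF a j).some (Iso.refl L') ≪≫ tensorAssoc _ _ _ ≪≫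
        tensorIso (Iso.refl (F a)) u ≪≫ tensorUnitRight _)
        (Groth.L18.GenLoc.isInvertible_tensor (ih _ hs) hL')
    · have e : a + Pi.single j (-1) + Pi.single j 1 = a := by
        rw [add_assoc, ← Pi.single_add]; simp
      have hs : size (a + Pi.single j (-1)) = s := by
        have := size_update a j (-1)
        omega
      rw [← e]
      exact Groth.L18.Ample.isInvertible_of_iso (hF _ j).some.symm
        (Groth.L18.GenLoc.isInvertible_tensor (ih _ hs) (hLb j))


/-- Let k be a field, Y a projective k-scheme of dimension d (a k-scheme with a closed immersion c into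
projective N-space over k, compatible with the structure morphisms, whose underlying topological
space has Krull dimension d), L_1, …, L_r invertible O_Y-modules, and F a family of O_Y-modules
indexed by a ∈ ℤ^r with F(0) ≅ O_Y and F(a + e_j) ≅ F(a) ⊗ L_j for all a and j, so that F(a) ≅
L_1^{⊗ a_1} ⊗ ⋯ ⊗ L_r^{⊗ a_r} for every a. Then there is a real constant C > 0, depending only on Y
and the L_j, such that dim_k H^i(Y, F(a)) ≤ C · (1 + |a|^d) for every i and every a, where |a| =
|a_1| + ⋯ + |a_r|. (The published statement prints the exponent as the number r of line bundles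
instead of the dimension d of Y; that bound fails as soon as r < d — on the projective plane with r
= 1 and L_1 = O(1) the dimension of H^0(O(a)) grows like a²/2 — while the printed induction on d + r
over hyperplane sections yields the exponent d, which is what is stated here.) -/
theorem result
    (k : Type u) [Field k] (Y : Scheme.{u}) [Y.Over (Spec (CommRingCat.of k))]
    (N : ℕ) (c : Y ⟶ CohB1.ProjSpace N k) [IsClosedImmersion c]
    (hc : c ≫ CohB1.ProjSpace.toSpec N k = Y ↘ Spec (CommRingCat.of k))
    (d : ℕ) (hd : topologicalKrullDim ↥Y = d)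
    (r : ℕ) (Lb : Fin r → Y.Modules) (hLb : ∀ j, PicF.IsInvertible (Lb j))
    (F : (Fin r → ℤ) → Y.Modules) (hF0 : Nonempty (F 0 ≅ Coh.structureModule Y))
    (hF : ∀ (a : Fin r → ℤ) (j : Fin r), Nonempty (F (a + Pi.single j 1) ≅ CohB1.tensorMod (F a) (Lb j))) :
    ∃ C : ℝ, 0 < C ∧ ∀ (i : ℕ) (a : Fin r → ℤ),
      (Module.finrank k (Coh.HH Y (F a) i) : ℝ) ≤ C * (1 + (∑ j, |(a j : ℝ)|) ^ d) := by
  haveI : IsProper (CohB1.ProjSpace.toSpec N k) := by
    exact Groth.L16.ProjSpace.isProper_toSpec N k
  haveI : IsProper (Y ↘ Spec (CommRingCat.of k)) := hc ▸ inferInstance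
  haveI : IsLocallyNoetherian Y := LocallyOfFiniteType.isLocallyNoetherian (Y ↘ Spec (CommRingCat.of k))
  have hN : ∀ a, PicF.IsInvertible (F a) := fun a => isInvertible_family hLb hF0 hF _ a rfl
  have hO : Coh.IsCoh (Coh.structureModule Y) := Groth.L16.ProperFinite.isCoh_of_isInvertible
    (Groth.L18.Ample.isInvertible_structureModule Y)
  obtain ⟨U, hU, C, hC⟩ := exists_open_bound (f := Y ↘ Spec (CommRingCat.of k)) hN hF hLb hO
    (d := d) (((Y ↘ Spec (CommRingCat.of k)).fiberι _).isEmbedding.isInducing.topologicalKrullDim_le.trans hd.le)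
  refine ⟨(C * 2 ^ d : ℕ) + 1, by positivity, fun i a => ?_⟩
  have h := hC _ hU a i
  rw [fiberRank_eq_h (Groth.L03.Euler.isCoh_tensor (hN a) hO)] at h
  have he : Module.finrank k (Coh.HH Y (CohB1.tensorMod (Coh.structureModule Y) (F a)) i) =
      Module.finrank k (Coh.HH Y (F a) i) :=
    Groth.L03.Euler.finrank_HH_of_iso (tensorComm _ _ ≪≫ tensorUnitRight _) i
  have hb : Module.finrank k (Coh.HH Y (F a) i) ≤ C * (2 ^ d * (1 + size a ^ d)) := by
    rw [← he]
    refine h.trans (Nat.mul_le_mul_left _ ?_)
    rcases Nat.eq_zero_or_pos (size a) with hs | hs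
    · rw [hs]
      simp only [zero_add, one_pow]
      exact Nat.one_le_iff_ne_zero.2 (by positivity)
    · refine le_trans ?_ (Nat.mul_le_mul_left _ (Nat.le_add_left _ _))
      rw [← mul_pow]
      exact Nat.pow_le_pow_left (by omega) d
  have hsum : ((size a : ℕ) : ℝ) = ∑ j, |(a j : ℝ)| := by
    simp [size, Nat.cast_natAbs, Int.cast_abs]
  rw [← hsum]
  have hb' : (Module.finrank k (Coh.HH Y (F a) i) : ℝ) ≤ (C : ℝ) * (2 ^ d * (1 + (size a : ℝ) ^ d)) := by
    exact_mod_cast hb
  refine hb'.trans ?_
  push_cast
  nlinarith [show (0 : ℝ) ≤ (size a : ℝ) ^ d by positivity]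

end Groth.Agent.S17502
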