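import Groth.Statements.S17506
import Groth.Agent.L15.WeightOne
import Mathlib.Tactic.Ring
import Mathlib.Tactic.LinearCombination
import Mathlib.Tactic.FieldSimp
import Mathlib.Algebra.BigOperators.Ring.Finset

set_option autoImplicit false
universe u
open CategoryTheory
open ThetaRep

namespace Groth.Agent.S17506

/-- Let k be an algebraically closed field and Γ a group given with an injective homomorphism ι from the
multiplicative group kˣ onto the centre of Γ, such that the quotient K = Γ/ι(kˣ) is a finite
commutative group (every commutator lies in ι(kˣ)) whose order is prime to the characteristic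
exponent of k — the group of k-points of a non-degenerate theta group 1 → G_m → G → K → 1 with
rank(K) prime to char(k), non-degeneracy of the commutator pairing being the condition that ι(kˣ) is
the whole centre. A finite-dimensional representation of Γ over k has weight 1 when ι(z) acts as
multiplication by z for every z. Then Γ has an irreducible finite-dimensional representation of
weight 1; any two irreducible finite-dimensional representations of weight 1 are equivalent; and
every irreducible finite-dimensional representation V of weight 1 satisfies (dim_k V)² = |K|. (The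
published statement is about representations of the theta group scheme; under its hypotheses K is a
constant group scheme and the statement is rendered here for the group of k-points.) -/
theorem result (k : Type u) [Field k] [IsAlgClosed k]
    (Γ : Type u) [Group Γ] (ι : kˣ →* Γ) (hι : Function.Injective ι)
    (hcent : ι.range = Subgroup.center Γ) (hcomm : commutator Γ ≤ ι.range)
    [Finite (Γ ⧸ ι.range)] (hcop : (Nat.card (Γ ⧸ ι.range)).Coprime (ringExpChar k)) :
    (∃ V : FDRep k Γ, Representation.IsIrreducible V.ρ ∧ ∀ (z : kˣ) (v : V), V.ρ (ι z) v = (z : k) • v) ∧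
    (∀ V W : FDRep k Γ, Representation.IsIrreducible V.ρ → Representation.IsIrreducible W.ρ →
      (∀ (z : kˣ) (v : V), V.ρ (ι z) v = (z : k) • v) → (∀ (z : kˣ) (w : W), W.ρ (ι z) w = (z : k) • w) →
      Nonempty (Representation.Equiv V.ρ W.ρ)) ∧
    (∀ V : FDRep k Γ, Representation.IsIrreducible V.ρ → (∀ (z : kˣ) (v : V), V.ρ (ι z) v = (z : k) • v) →
      Module.finrank k V ^ 2 = Nat.card (Γ ⧸ ι.range)) := by
  have hN : Nat.card (Γ ⧸ ι.range) = Nat.card (Γ ⧸ Subgroup.center Γ) := by
    show ι.range.index = (Subgroup.center Γ).index
    rw [hcent]
  have : Finite (Γ ⧸ Subgroup.center Γ) := Nat.finite_of_card_ne_zero (hN ▸ Nat.card_pos.ne')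
  have hK : (Nat.card (Γ ⧸ Subgroup.center Γ) : k) ≠ 0 :=
    hN ▸ Groth.L15.WeightOne.natCast_ne_zero_of_coprime Nat.card_pos.ne' hcop
  refine ⟨?_, fun V W hV hW h1 h2 => ?_, fun V hV h1 => ?_⟩
  · obtain ⟨U, hfd, hirr, hw⟩ := Groth.L15.WeightOne.exists_irreducible hι hcent
    let V0 := U.toSubmodule
    let ρ0 : Representation k Γ V0 := U.toRepresentation
    refine ⟨FDRep.of (V := V0) ρ0, ?_, ?_⟩
    · rw [FDRep.of_ρ']
      exact hirr
    · intro z v
      rw [FDRep.of_ρ']
      exact hw z v
  · exact Groth.L15.WeightOne.nonempty_equiv hcent hcomm hK h1 h2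
  · rw [hN]
    exact Groth.L15.WeightOne.finrank_sq hcent hcomm hK h1

end Groth.Agent.S17506
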