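import Groth.Statements.S1751
import Groth.Agent.L04.LC.SupportsT

set_option autoImplicit false
universe u
open LocCoh

namespace Groth.Agent.S1751

/-- (1)⇔(2) for a general subset T ⊆ Spec A stable under specialization. Let A be a Noetherian ring, M a
finite A-module and n ≥ 0. Then H^i_T(M) is a finite A-module for all i ≤ n if and only if there is
an ideal J with V(J) ⊆ T annihilating H^i_T(M) for all i ≤ n. -/
theorem result (A : Type u) [CommRing A] [IsNoetherianRing A] (T : Set (PrimeSpectrum A)) (hT : StableUnderSpecialization T) (M : Type u) [AddCommGroup M] [Module A M] [Module.Finite A M] (n : ℕ) : (∀ i : ℕ, i ≤ n → Module.Finite A (Dual2.HT T i M)) ↔ ∃ J : Ideal A, PrimeSpectrum.zeroLocus (J : Set A) ⊆ T ∧ ∀ i : ℕ, i ≤ n → ∀ a ∈ J, ∀ x : Dual2.HT T i M, a • x = 0 := by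

    exact Groth.L04.HTsupp.finite_iff_killed T M n

end Groth.Agent.S1751
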