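import Groth.Statements.S17511
import Groth.Agent.L17.BC.Fibre
import Groth.Agent.L12.StabLimit
import Groth.Agent.L26.Pic0.Support
import Groth.Agent.L16.ProperFinite

set_option autoImplicit false
universe u
open CategoryTheory CategoryTheory.Limits MonoidalCategory CartesianMonoidalCategory MonObj GrpObj AlgebraicGeometry
open AbVar

namespace Groth.Agent.S17511

/-- In an algebraic family of line bundles the index cannot jump locally. Let X be an abelian variety
over a field k (a proper, geometrically integral k-group scheme), let T be a locally Noetherian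
k-scheme, M an invertible module on X ×_k T, and for each point t of T let M_t be the pull-back of M
to the fibre X ×_k Spec k(t). Suppose every M_t is non-degenerate, with index idx(t): H^j(X ×_k Spec
k(t), M_t) = 0 for j ≠ idx(t) and H^{idx(t)} ≠ 0. Then t ↦ idx(t) is a locally constant function on
T. (Non-degeneracy with index i is expressed by the equivalent condition that the cohomology is
concentrated in degree i and non-zero there.) -/
theorem result
    (k : Type u) [Field k] (X : Over (Spec (CommRingCat.of k))) [GrpObj X] [IsProper X.hom] [GeometricallyIntegral X.hom]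
    (T : Over (Spec (CommRingCat.of k))) [IsLocallyNoetherian T.left]
    (M : (X ⊗ T).left.Modules) (hM : PicF.IsInvertible M)
    (idx : ↥T.left → ℕ)
    (hidx : ∀ t : ↥T.left,
      (∀ j : ℕ, j ≠ idx t →
        Subsingleton (Coh.HH (pullback (snd X T).left (T.left.fromSpecResidueField t))
          ((Scheme.Modules.pullback (pullback.fst (snd X T).left (T.left.fromSpecResidueField t))).obj M) j)) ∧
      Nontrivial (Coh.HH (pullback (snd X T).left (T.left.fromSpecResidueField t))
          ((Scheme.Modules.pullback (pullback.fst (snd X T).left (T.left.fromSpecResidueField t))).obj M) (idx t))) :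
    IsLocallyConstant idx := by
  classical
  let f := (snd X T).left
  haveI : IsProper f := inferInstanceAs (IsProper (pullback.snd X.hom T.hom))
  haveI : Flat f := inferInstanceAs (Flat (pullback.snd X.hom T.hom))
  haveI : IsLocallyNoetherian (X ⊗ T).left := LocallyOfFiniteType.isLocallyNoetherian f
  refine (IsLocallyConstant.iff_eventually_eq _).2 fun t => ?_
  obtain ⟨_, ⟨V, hV, rfl⟩, htV, -⟩ :=
    T.left.isBasis_affineOpens.exists_subset_of_mem_open (Set.mem_univ t) isOpen_univ
  haveI : IsNoetherianRing Γ(T.left, V) := IsLocallyNoetherian.component_noetherian ⟨V, hV⟩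
  obtain ⟨m⟩ := Groth.L17.BC.nonempty_local f hV M (Groth.L18.Ample.isCoh_of_isInvertible hM)
    (Groth.Agent.Pic0.isFlatOver_of_isInvertible f hM)
  have hsub : ∀ (y : ↥T.left) (hy : y ∈ V) (p : ℕ),
      1 ≤ CohIII.dRank m.L (p : ℤ) (hV.primeIdealOf ⟨y, hy⟩) ↔ p = idx y := by
    intro y hy p
    rw [← m.fiberRank_eq y hy p]
    constructor
    · intro h
      by_contra hne
      haveI : Subsingleton (CohIII.fiberH f M y p) := (hidx y).1 p hne
      have h0 : CohIII.fiberRank f M p y = 0 := Module.finrank_zero_of_subsingleton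
      omega
    · rintro rfl
      haveI := m.finite_fiberH y hy (idx y)
      haveI : Nontrivial (CohIII.fiberH f M y (idx y)) := (hidx y).2
      exact Module.finrank_pos
  let S : Set (PrimeSpectrum Γ(T.left, V)) :=
    ⋃ p ∈ (Finset.range (m.top.toNat + 1)).erase (idx t), {z | 1 ≤ CohIII.dRank m.L (p : ℤ) z}
  have hS : IsClosed S := Set.Finite.isClosed_biUnion (Finset.finite_toSet _) fun p _ => by
    rw [show (p : ℤ) = ((p : ℤ) - 1) + 1 by ring]
    exact Groth.L12.StabLimit.isClosed_le_dRank m.L m.finiteFree _ 1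
  haveI := hV.isOpenImmersion_fromSpec
  let W := hV.fromSpec '' Sᶜ
  have hW : IsOpen W := hV.fromSpec.isOpenEmbedding.isOpenMap _ hS.isOpen_compl
  have htW : t ∈ W := ⟨hV.primeIdealOf ⟨t, htV⟩, fun hmem => by
    obtain ⟨p, hp, hp'⟩ := Set.mem_iUnion₂.1 hmem
    exact (Finset.mem_erase.1 hp).1 ((hsub t htV p).1 hp'), hV.fromSpec_primeIdealOf ⟨t, htV⟩⟩
  filter_upwards [hW.mem_nhds htW] with y hy
  obtain ⟨(z : PrimeSpectrum Γ(T.left, V)), hz, rfl⟩ := hy
  have hyV : hV.fromSpec z ∈ V := hV.range_fromSpec.le ⟨z, rfl⟩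
  have hzz : hV.primeIdealOf ⟨hV.fromSpec z, hyV⟩ = z :=
    hV.fromSpec.isOpenEmbedding.injective (hV.fromSpec_primeIdealOf _)
  by_contra hne
  refine hz (Set.mem_iUnion₂.2 ⟨idx (hV.fromSpec z), Finset.mem_erase.2 ⟨hne, Finset.mem_range.2 ?_⟩, ?_⟩)
  · by_contra hlt
    have hz0 : IsZero (m.L.X ((idx (hV.fromSpec z) : ℕ) : ℤ)) := m.isZero_above _ (by omega)
    have h1 := (hsub _ hyV (idx (hV.fromSpec z))).2 rfl
    rw [hzz] at h1
    have h0 : CohIII.dRank m.L ((idx (hV.fromSpec z) : ℕ) : ℤ) z = 0 := by
      unfold CohIII.dRank CohIII.bcCx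
      let P' := ((ModuleCat.extendScalars (algebraMap Γ(T.left, V) z.asIdeal.ResidueField)).mapHomologicalComplex
        (ComplexShape.up ℤ)).obj m.L
      have hzero : IsZero (P'.X ((idx (hV.fromSpec z) : ℕ) : ℤ)) :=
        (ModuleCat.extendScalars (algebraMap Γ(T.left, V) z.asIdeal.ResidueField)).map_isZero hz0
      haveI : Subsingleton (P'.homology ((idx (hV.fromSpec z) : ℕ) : ℤ)) := ModuleCat.subsingleton_of_isZero
        ((HomologicalComplex.exactAt_iff_isZero_homology P' _).1 (ShortComplex.exact_of_isZero_X₂ _ hzero))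
      exact Module.finrank_zero_of_subsingleton
    omega
  · have h1 := (hsub _ hyV (idx (hV.fromSpec z))).2 rfl
    rw [hzz] at h1
    exact h1

end Groth.Agent.S17511
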