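import Groth.Statements.S17512
import Groth.Agent.L15.WeightOne
import Mathlib.GroupTheory.FiniteAbelian.Duality
import Mathlib.RingTheory.RootsOfUnity.AlgebraicallyClosed
import Mathlib.GroupTheory.Index
import Mathlib.Tactic.TFAE

set_option autoImplicit false
universe u
open ThetaRep

set_option linter.style.haveILetI false

namespace Groth.Agent.S17512

/-- For the group of k-points of a non-degenerate theta group with constant K, let k be an algebraically
closed field and Γ a group given with an injective homomorphism ι from kˣ onto the centre of Γ such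
that K = Γ/ι(kˣ) is finite and commutative (all commutators lie in ι(kˣ)) of order prime to the
characteristic exponent of k — the group of k-points of a non-degenerate theta group 1 → G_m → G → K
→ 1 with rank(K) prime to char(k). Subgroups of K correspond to subgroups H of Γ containing ι(kˣ);
such an H is totally isotropic for the commutator pairing exactly when it is commutative, and its
orthogonal corresponds to the centralizer of H. For a subgroup H ⊇ ι(kˣ) the following are
equivalent: (i) H is commutative and maximal among commutative subgroups of Γ; (ii) H is commutative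
and [H : ι(kˣ)]² = [Γ : ι(kˣ)]; (iii) H is its own centralizer. (The published lemma is for an
arbitrary non-degenerate theta group scheme, where (iii) ⇔ (ii) ⇒ (i) always and (i) ⇒ (iii) needs k
algebraically closed; this row is the case of the group of k-points with K constant.) -/
theorem result
    (k : Type u) [Field k] [IsAlgClosed k]
    (Γ : Type u) [Group Γ] (ι : kˣ →* Γ) (hι : Function.Injective ι)
    (hcent : ι.range = Subgroup.center Γ) (hcomm : commutator Γ ≤ ι.range)
    [Finite (Γ ⧸ ι.range)] (hcop : (Nat.card (Γ ⧸ ι.range)).Coprime (ringExpChar k))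
    (H : Subgroup Γ) (hH : ι.range ≤ H) :
    List.TFAE [
      IsMulCommutative H ∧ ∀ H' : Subgroup Γ, IsMulCommutative H' → H ≤ H' → H' = H,
      IsMulCommutative H ∧ (ι.range.relIndex H) ^ 2 = ι.range.index,
      H = Subgroup.centralizer (H : Set Γ)] := by
  classical
  let Z := ι.range
  haveI hZn : Z.Normal := by
    show ι.range.Normal
    rw [hcent]; infer_instance
  letI : CommGroup (Γ ⧸ Z) :=
    { (inferInstance : Group (Γ ⧸ Z)) with
      mul_comm := by
        intro a b
        obtain ⟨x, rfl⟩ := QuotientGroup.mk_surjective a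
        obtain ⟨y, rfl⟩ := QuotientGroup.mk_surjective b
        obtain ⟨z, hz⟩ := Groth.L15.WeightOne.exists_pair hcomm x y
        rw [← QuotientGroup.mk_mul, ← QuotientGroup.mk_mul, hz, QuotientGroup.mk_mul, QuotientGroup.mk_mul,
          (QuotientGroup.eq_one_iff (N := Z) (ι z)).2 ⟨z, rfl⟩, one_mul, ← QuotientGroup.mk_mul] }
  have hN0 : (Nat.card (Γ ⧸ Z) : k) ≠ 0 :=
    Groth.L15.WeightOne.natCast_ne_zero_of_coprime Nat.card_pos.ne' hcop
  haveI : NeZero (Monoid.exponent (Γ ⧸ Z) : k) := ⟨fun h => hN0 (by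
    obtain ⟨c, hc⟩ := Group.exponent_dvd_nat_card (G := Γ ⧸ Z)
    rw [hc, Nat.cast_mul, h, zero_mul])⟩
  haveI : IsSepClosed k := inferInstance
  choose pr hpr using fun γ δ => Groth.L15.WeightOne.exists_pair hcomm (ι := ι) γ δ
  have hpr1 : ∀ γ δ, pr γ δ = 1 ↔ γ * δ = δ * γ := fun γ δ => by
    refine ⟨fun h => by rw [hpr γ δ, h, map_one, one_mul], fun h => hι ?_⟩
    rw [map_one]
    have := hpr γ δ
    rwa [h, mul_assoc, eq_comm, mul_eq_right] at this
  have hmul : ∀ γ a b, pr γ (a * b) = pr γ a * pr γ b := fun γ a b =>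
    hι (mul_right_cancel (b := (a * b) * γ) (by
      rw [← mul_assoc, ← mul_assoc, ← mul_assoc, mul_assoc (ι (pr γ (a * b))) a b, ← hpr γ (a * b), ← mul_assoc,
        hpr γ a, mul_assoc (ι (pr γ a) * a) γ b, hpr γ b, map_mul]
      simp only [← mul_assoc]
      rw [mul_assoc (ι (pr γ a)) a (ι (pr γ b)), ← Groth.L15.WeightOne.iota_comm hcent (pr γ b) a]
      simp only [← mul_assoc]))
  have hmul' : ∀ a b δ, pr (a * b) δ = pr a δ * pr b δ := fun a b δ =>
    hι (mul_right_cancel (b := δ * (a * b)) (by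
      rw [← mul_assoc, ← hpr (a * b) δ, mul_assoc a b δ, hpr b δ, ← mul_assoc, ← mul_assoc,
        ← Groth.L15.WeightOne.iota_comm hcent (pr b δ) a, mul_assoc (ι (pr b δ)) a δ, hpr a δ, map_mul]
      simp only [← mul_assoc]
      rw [← map_mul, ← map_mul, mul_comm (pr b δ)]))
  let χ : Γ → (Γ →* kˣ) := fun γ => MonoidHom.mk' (pr γ) (hmul γ)
  have hχZ : ∀ γ, Z ≤ (χ γ).ker := fun γ z hz =>
    MonoidHom.mem_ker.2 ((hpr1 γ z).2 (Subgroup.mem_center_iff.1 (hcent ▸ hz) γ))
  let φ : Γ →* (Γ ⧸ Z →* kˣ) := MonoidHom.mk' (fun γ => QuotientGroup.lift Z (χ γ) (hχZ γ))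
    fun a b => by
      refine MonoidHom.ext fun x => ?_
      obtain ⟨δ, rfl⟩ := QuotientGroup.mk_surjective x
      exact hmul' a b δ
  have hkerφ : φ.ker = Z := by
    ext γ
    refine ⟨fun h => ?_, fun h => ?_⟩
    · show γ ∈ ι.range
      rw [hcent, Subgroup.mem_center_iff]
      exact fun δ => ((hpr1 γ δ).1 (DFunLike.congr_fun (MonoidHom.mem_ker.1 h) (δ : Γ ⧸ Z))).symm
    · refine MonoidHom.mem_ker.2 (MonoidHom.ext fun x => ?_)
      obtain ⟨δ, rfl⟩ := QuotientGroup.mk_surjective x
      exact (hpr1 γ δ).2 ((Subgroup.mem_center_iff.1 (hcent ▸ h)) δ).symm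
  have hcard := CommGroup.card_monoidHom_of_hasEnoughRootsOfUnity (Γ ⧸ Z) k
  haveI : Finite (Γ ⧸ Z →* kˣ) := Nat.finite_of_card_ne_zero (hcard ▸ Nat.card_pos.ne')
  have hφ : Function.Surjective φ := by
    rw [← MonoidHom.range_eq_top]
    refine Subgroup.eq_top_of_card_eq _ ?_
    rw [← Subgroup.index_ker, hkerφ, hcard]; rfl
  -- index of a centralizer
  have key : ∀ H' : Subgroup Γ, Z ≤ H' → (Subgroup.centralizer (H' : Set Γ)).index = Z.relIndex H' := by
    intro H' hH'
    let M : Subgroup (Γ ⧸ Z) := H'.map (QuotientGroup.mk' Z)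
    let ψ : Γ →* (M →* kˣ) := (MonoidHom.domRestrictHom M kˣ).comp φ
    have hψ : ψ.ker = Subgroup.centralizer (H' : Set Γ) := by
      ext γ
      refine ⟨fun h => Subgroup.mem_centralizer_iff.2 fun δ hδ => ?_, fun h => ?_⟩
      · exact ((hpr1 γ δ).1 (DFunLike.congr_fun (MonoidHom.mem_ker.1 h)
          (⟨δ, Subgroup.mem_map_of_mem _ hδ⟩ : M))).symm
      · refine MonoidHom.mem_ker.2 (MonoidHom.ext fun ⟨x, δ, hδ, hx⟩ => ?_)
        subst hx
        exact (hpr1 γ δ).2 (Subgroup.mem_centralizer_iff.1 h δ hδ).symm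
    haveI : HasEnoughRootsOfUnity k (Monoid.exponent M) :=
      HasEnoughRootsOfUnity.of_dvd k (Monoid.exponent_submonoid_dvd M.toSubmonoid)
    rw [← hψ, Subgroup.index_ker, MonoidHom.range_eq_top.2 (show Function.Surjective ψ from
      Function.Surjective.comp (g := MonoidHom.domRestrictHom M kˣ) (MonoidHom.domRestrict_surjective k M) hφ),
      Subgroup.card_top, CommGroup.card_monoidHom_of_hasEnoughRootsOfUnity M k]
    have h1 := Subgroup.card_mul_index M
    have h2 : M.index = H'.index := Subgroup.index_map_eq _ (QuotientGroup.mk'_surjective Z)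
      (by rwa [QuotientGroup.ker_mk'])
    have h3 := Subgroup.relIndex_mul_index hH'
    have h4 : Nat.card (Γ ⧸ Z) = Z.index := rfl
    rw [h2, h4, ← h3] at h1
    refine Nat.eq_of_mul_eq_mul_right ?_ h1
    exact Nat.pos_of_ne_zero fun h => by
      rw [h, mul_zero] at h3
      exact (Nat.card_pos (α := Γ ⧸ Z)).ne' h3.symm
  have hidx := Subgroup.relIndex_mul_index hH
  have hfi : Z.index ≠ 0 := (Nat.card_pos (α := Γ ⧸ Z)).ne'
  tfae_have 3 → 2 := fun h => by
    refine ⟨⟨⟨fun a b => Subtype.ext ?_⟩⟩, ?_⟩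
    · have ha : (a : Γ) ∈ Subgroup.centralizer (H : Set Γ) := by rw [← h]; exact a.2
      exact (Subgroup.mem_centralizer_iff.1 ha b b.2).symm
    · have := key H hH
      rw [← h] at this
      rw [sq]
      calc _ = ι.range.relIndex H * H.index := by rw [this]
        _ = _ := hidx
  tfae_have 2 → 3 := fun ⟨hc, hsq⟩ => by
    have hle : H ≤ Subgroup.centralizer (H : Set Γ) := fun a ha => Subgroup.mem_centralizer_iff.2 fun b hb =>
      congrArg Subtype.val (hc.is_comm.comm (⟨b, hb⟩ : H) ⟨a, ha⟩)
    refine le_antisymm hle (Subgroup.relIndex_eq_one.1 ?_)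
    have h1 := Subgroup.relIndex_mul_index hle
    rw [key H hH] at h1
    have ha : ι.range.relIndex H ≠ 0 := fun h => hfi (by rw [h, zero_mul] at hidx; exact hidx.symm)
    have h2 : H.index = ι.range.relIndex H :=
      Nat.eq_of_mul_eq_mul_left (Nat.pos_of_ne_zero ha) (by rw [hidx, ← sq, hsq])
    rw [h2] at h1
    exact Nat.eq_of_mul_eq_mul_right (Nat.pos_of_ne_zero ha) (by rw [one_mul]; exact h1)
  tfae_have 3 → 1 := fun h => by
    refine ⟨⟨⟨fun a b => Subtype.ext ?_⟩⟩, fun H' hH'c hle => le_antisymm (fun a ha => ?_) hle⟩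
    · have ha : (a : Γ) ∈ Subgroup.centralizer (H : Set Γ) := by rw [← h]; exact a.2
      exact (Subgroup.mem_centralizer_iff.1 ha b b.2).symm
    · rw [h, Subgroup.mem_centralizer_iff]
      exact fun b hb => congrArg Subtype.val (hH'c.is_comm.comm (⟨b, hle hb⟩ : H') ⟨a, ha⟩)
  tfae_have 1 → 3 := fun ⟨hc, hmax⟩ => by
    have hle : H ≤ Subgroup.centralizer (H : Set Γ) := fun a ha => Subgroup.mem_centralizer_iff.2 fun b hb =>
      congrArg Subtype.val (hc.is_comm.comm (⟨b, hb⟩ : H) ⟨a, ha⟩)
    refine le_antisymm hle fun γ hγ => ?_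
    have hcl : IsMulCommutative (Subgroup.closure ((H : Set Γ) ∪ {γ})) :=
      Subgroup.isMulCommutative_closure fun a ha b hb => by
        rcases ha with ha | rfl <;> rcases hb with hb | rfl
        · exact congrArg Subtype.val (hc.is_comm.comm (⟨a, ha⟩ : H) ⟨b, hb⟩)
        · exact Subgroup.mem_centralizer_iff.1 hγ a ha
        · exact (Subgroup.mem_centralizer_iff.1 hγ b hb).symm
        · rfl
    have := hmax _ hcl fun a ha => Subgroup.subset_closure (Or.inl ha)
    rw [← this]
    exact Subgroup.subset_closure (Or.inr rfl)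
  tfae_finish

end Groth.Agent.S17512
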