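import Groth.Statements.S17513
import Groth.Agent.L26.Poincare.Product
import Groth.Agent.L26.AV.SimpleSubalg
import Mathlib.RingTheory.MatrixAlgebra
import Mathlib.Algebra.Central.Matrix

set_option autoImplicit false
universe u
open CategoryTheory CategoryTheory.Limits MonoidalCategory CartesianMonoidalCategory MonObj GrpObj AlgebraicGeometry
open AbVar

namespace Groth.Agent.S17513

set_option backward.isDefEq.respectTransparency false
open CategoryTheory.Limits Groth.Agent.AV Groth.Agent.Poincare Polynomial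
open scoped TensorProduct

theorem toHom_sum {k : Type u} [Field k] {X Y : Over (Spec (CommRingCat.of k))} [GrpObj X] [IsCommMonObj X] [GrpObj Y]
    [IsCommMonObj Y] {J : Type} (s : Finset J) (f : J → EndAV.Hom X Y) :
    EndAV.Hom.toHom (∑ t ∈ s, f t) = ∏ t ∈ s, (f t).toHom := by
  classical
  induction s using Finset.induction with
  | empty => rw [Finset.sum_empty, Finset.prod_empty, EndAV.Hom.toHom_zero]
  | insert b s hb ih => rw [Finset.sum_insert hb, Finset.prod_insert hb, EndAV.Hom.toHom_add, ih]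

variable {k : Type u} [Field k]

/-- Degree data of the endomorphism attached to an integral matrix. -/
theorem exists_model (X : Over (Spec (CommRingCat.of k))) [GrpObj X] [IsCommMonObj X]
    [IsProper X.hom] [GeometricallyIntegral X.hom] (g : ℕ) (hg : topologicalKrullDim ↥X.left = g)
    (r : ℕ) (hr : 0 < r) (α : Matrix (Fin r) (Fin r) ℤ) (hα : α.det ≠ 0) :
    ∃ (P : Over (Spec (CommRingCat.of k))) (pr : Fin r → (P ⟶ X)) (φ : P ⟶ P),
      (∀ (T : Over (Spec (CommRingCat.of k))) (f : Fin r → (T ⟶ X)), ∃ ψ, ∀ i, ψ ≫ pr i = f i) ∧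
      (∀ (T : Over (Spec (CommRingCat.of k))) (a b : T ⟶ P), (∀ i, a ≫ pr i = b ≫ pr i) → a = b) ∧
      (∀ i, φ ≫ pr i = ∏ j, pr j ^ α i j) ∧
      IsFinite φ.left ∧ Flat φ.left ∧ ∀ y, Scheme.Hom.finrank φ.left y = α.det.natAbs ^ (2 * g) := by
  classical
  obtain ⟨P, gP, pr₀, hPc, hPp, hPg, hPd, hprm, hlift, hext⟩ :=
    Product.exists_pi (fun _ : Fin r => X) (fun _ => g) (fun _ => hg) Finset.univ
  letI := gP
  haveI := hPc
  haveI := hPp
  haveI := hPg
  let pr : Fin r → (P ⟶ X) := fun i => pr₀ i (Finset.mem_univ i)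
  haveI : ∀ i, IsMonHom (pr i) := fun i => hprm i _
  have hext' : ∀ {T : Over (Spec (CommRingCat.of k))} (a b : T ⟶ P), (∀ i, a ≫ pr i = b ≫ pr i) → a = b :=
    fun a b h => hext _ a b fun i _ => h i
  have hone : IsMonHom (1 : X ⟶ X) := by
    have h := EndAV.Hom.isMonHom_toHom (0 : EndAV.Hom X X)
    rwa [EndAV.Hom.toHom_zero] at h
  have hinc : ∀ s : Fin r, ∃ i : X ⟶ P, IsMonHom i ∧ ∀ t, i ≫ pr t = if s = t then 𝟙 X else 1 := by
    intro s
    obtain ⟨i, hi⟩ := hlift X fun t _ => if s = t then 𝟙 X else 1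
    refine ⟨i, Groth.Agent.AV.isMonHom_of_one i (hext' _ _ fun t => ?_), fun t => hi t _⟩
    rw [Category.assoc, show i ≫ pr t = _ from hi t _, IsMonHom.one_hom (f := pr t)]
    split_ifs
    · rw [Category.comp_id]
    · exact hone.one_hom
  choose inc hincm hincp using hinc
  haveI := hincm
  let e : Fin r → Fin r → EndAV.End P := fun i j => EndAV.End.of (pr j ≫ inc i)
  have hee : ∀ i j i' j', e i j * e i' j' = if j = i' then e i j' else 0 := by
    intro i j i' j'
    refine EndAV.End.ext ?_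
    rw [EndAV.End.toHom_mul, EndAV.End.toHom_of, EndAV.End.toHom_of, Category.assoc, ← Category.assoc (inc i'), hincp]
    by_cases h : j = i'
    · subst h
      rw [if_pos rfl, if_pos rfl, Category.id_comp, EndAV.End.toHom_of]
    · rw [if_neg (Ne.symm h), if_neg h, MonObj.one_comp, MonObj.comp_one, EndAV.End.toHom_zero]
  let ρ : Matrix (Fin r) (Fin r) ℤ →+ EndAV.End P :=
    AddMonoidHom.mk' (fun M => ∑ i, ∑ j, M i j • e i j) fun M M' => by
      simp only [Matrix.add_apply, add_smul, Finset.sum_add_distrib]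
  have hρpr : ∀ M i, (ρ M).toHom ≫ pr i = ∏ j, pr j ^ M i j := by
    intro M i
    have h : (show EndAV.Hom P P from ρ M) ≫ EndAV.Hom.of (pr i) = ∑ j, M i j • EndAV.Hom.of (pr j) := by
      show (∑ a, ∑ j, M a j • (show EndAV.Hom P P from e a j)) ≫ EndAV.Hom.of (pr i) = _
      simp only [Preadditive.sum_comp, Preadditive.zsmul_comp]
      rw [Finset.sum_eq_single i]
      · refine Finset.sum_congr rfl fun j _ => congrArg (fun z => M i j • z) (EndAV.Hom.ext ?_)
        show (pr j ≫ inc i) ≫ pr i = pr j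
        rw [Category.assoc, hincp, if_pos rfl, Category.comp_id]
      · intro a _ ha
        refine Finset.sum_eq_zero fun j _ => ?_
        have h0 : (show EndAV.Hom P P from e a j) ≫ EndAV.Hom.of (pr i) = 0 := EndAV.Hom.ext (by
          show (pr j ≫ inc a) ≫ pr i = 1
          rw [Category.assoc, hincp, if_neg ha, MonObj.comp_one])
        rw [h0, smul_zero]
      · exact fun h => absurd (Finset.mem_univ i) h
    have h' := congrArg EndAV.Hom.toHom h
    rw [toHom_sum] at h'
    simp only [EndAV.Hom.toHom_zsmul, EndAV.Hom.toHom_of, EndAV.Hom.toHom_comp] at h'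
    exact h'
  have hρ1 : ρ 1 = 1 := by
    refine EndAV.End.ext (hext' _ _ fun i => ?_)
    rw [hρpr, EndAV.End.toHom_one, Category.id_comp, Finset.prod_eq_single i]
    · rw [Matrix.one_apply_eq, zpow_one]
    · intro j _ hj
      rw [Matrix.one_apply_ne (Ne.symm hj), zpow_zero]
    · exact fun h => absurd (Finset.mem_univ i) h
  have hρmul : ∀ M M', ρ (M * M') = ρ M * ρ M' := by
    intro M M'
    refine EndAV.End.ext (hext' _ _ fun i => ?_)
    have hcp : ∀ S : Finset (Fin r), (ρ M').toHom ≫ (∏ j ∈ S, pr j ^ M i j) =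
        ∏ j ∈ S, ((ρ M').toHom ≫ pr j) ^ M i j := by
      intro S
      induction S using Finset.induction with
      | empty => rw [Finset.prod_empty, Finset.prod_empty, MonObj.comp_one]
      | insert b S hb ih => rw [Finset.prod_insert hb, Finset.prod_insert hb, MonObj.comp_mul, GrpObj.comp_zpow, ih]
    have hsum : ∀ (x : P ⟶ X) (n : Fin r → ℤ) (S : Finset (Fin r)), x ^ (∑ j ∈ S, n j) = ∏ j ∈ S, x ^ n j := by
      intro x n S
      induction S using Finset.induction with
      | empty => rw [Finset.sum_empty, Finset.prod_empty, zpow_zero]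
      | insert b S hb ih => rw [Finset.sum_insert hb, Finset.prod_insert hb, zpow_add, ih]
    rw [EndAV.End.toHom_mul, Category.assoc, hρpr M i, hρpr, hcp]
    simp only [hρpr, ← Finset.prod_zpow, ← zpow_mul, Matrix.mul_apply, hsum]
    rw [Finset.prod_comm]
    exact Finset.prod_congr rfl fun j _ => Finset.prod_congr rfl fun j' _ => by rw [_root_.mul_comm]
  let ρ' : Matrix (Fin r) (Fin r) ℤ →ₐ[ℤ] EndAV.End P :=
    { (({ ρ with map_one' := hρ1, map_mul' := hρmul } : Matrix (Fin r) (Fin r) ℤ →+* EndAV.End P)) with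
      commutes' := fun z => DFunLike.congr_fun
        (RingHom.ext_int ((({ ρ with map_one' := hρ1, map_mul' := hρmul } :
          Matrix (Fin r) (Fin r) ℤ →+* EndAV.End P)).comp (algebraMap ℤ _)) (algebraMap ℤ _)) z }
  let Fm : ℚ ⊗[ℤ] Matrix (Fin r) (Fin r) ℤ →ₐ[ℚ] EndAV.End0 P :=
    Algebra.TensorProduct.map (AlgHom.id ℚ ℚ) ρ'
  let em : Matrix (Fin r) (Fin r) ℚ →+* EndAV.End0 P :=
    Fm.toRingHom.comp (matrixEquivTensor (Fin r) ℤ ℚ).toAlgHom.toRingHom
  have hem : em (α.map (algebraMap ℤ ℚ)) = EndAV.toEnd0 (ρ α) := by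
    have h : matrixEquivTensor (Fin r) ℤ ℚ (α.map (algebraMap ℤ ℚ)) = (1 : ℚ) ⊗ₜ[ℤ] α := by
      rw [matrixEquivTensor_apply]
      conv_rhs => rw [Matrix.matrix_eq_sum_single α]
      rw [← Finset.univ_product_univ, Finset.sum_product, TensorProduct.tmul_sum]
      refine Finset.sum_congr rfl fun i _ => ?_
      rw [TensorProduct.tmul_sum]
      refine Finset.sum_congr rfl fun j _ => ?_
      rw [Matrix.map_apply, Algebra.algebraMap_eq_smul_one, TensorProduct.smul_tmul, Matrix.smul_single,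
        smul_eq_mul, _root_.mul_one]
    show Fm (matrixEquivTensor (Fin r) ℤ ℚ _) = _
    rw [h]
    rfl
  haveI : Nonempty (Fin r) := ⟨⟨0, hr⟩⟩
  let K := AlgebraicClosure k
  obtain ⟨l, hl2, hlk⟩ : ∃ l : ℕ, l.Prime ∧ (l : k) ≠ 0 := by
    by_cases h2 : ((2 : ℕ) : k) = 0
    · refine ⟨3, Nat.prime_three, fun h3 => one_ne_zero (α := k) ?_⟩
      push_cast at h2 h3
      linear_combination h3 - h2
    · exact ⟨2, Nat.prime_two, h2⟩
  haveI : Fact l.Prime := ⟨hl2⟩
  obtain ⟨i1, i2⟩ := SimpleSubalg.tate_instances (A := P) K l hlk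
  haveI := i1
  haveI := i2
  have hPd' : topologicalKrullDim P.left = ((r * g : ℕ) : WithBot ℕ∞) := by
    rw [hPd, Finset.sum_const, Finset.card_univ, Fintype.card_fin, smul_eq_mul]
  obtain ⟨c, hc, hchar⟩ := SimpleSubalg.exists_rank K l hlk hPd' ℚ em
  let ψ : ℚ ⊗[ℚ] Matrix (Fin r) (Fin r) ℚ ≃ₐ[ℚ] Matrix (Fin r) (Fin r) ℚ := Algebra.TensorProduct.lid ℚ _
  have hdeg : Groth.L11.RN.deg ℚ (Matrix (Fin r) (Fin r) ℚ) = r :=
    Nat.pow_left_injective two_ne_zero (Groth.L11.RN.finrank_eq_deg_sq.symm.trans (Groth.L11.RN.size_eq ψ))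
  rw [Module.finrank_self, hdeg, _root_.one_mul] at hc
  obtain rfl : c = 2 * g := Nat.eq_of_mul_eq_mul_left hr (by rw [← hc]; ring)
  have h := hchar (α.map (algebraMap ℤ ℚ)) (ρ α) hem
  obtain ⟨Q, -, hQ, hT, -⟩ := CharTateExt.exists_char K (ρ α).toHom
  rw [show (EndAV.End.tateRep l (Isogeny.geomPt k K) (ρ α)).charpoly = Q.map (Int.castRingHom ℤ_[l]) from (hT l hlk).1,
    Polynomial.map_map] at h
  have h0 := congrArg (fun p => p.eval 0) h
  have hrcp : Groth.L11.RN.rcp ℚ (α.map (algebraMap ℤ ℚ)) = (α.map (algebraMap ℤ ℚ)).charpoly := by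
    have h1 := Groth.L11.RN.rcp_spec ψ (α.map (algebraMap ℤ ℚ))
    rw [Algebra.algebraMap_self, Polynomial.map_id] at h1
    rw [h1, Groth.L11.CSA.repr_apply]
    simp [ψ]
  simp only [hrcp, eval_pow, eval_prod, eval_zero_map, Matrix.charpoly_map, ← Polynomial.map_map] at h0
  haveI : Subsingleton (ℚ →ₐ[ℚ] AlgebraicClosure ℚ_[l]) := inferInstance
  rw [Fintype.prod_subsingleton _ (Algebra.ofId ℚ (AlgebraicClosure ℚ_[l])), Matrix.eval_charpoly,
    map_zero, zero_sub, Matrix.det_neg, Fintype.card_fin] at h0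
  have hval : Q.eval 0 = α.det ^ (2 * g) := by
    apply (algebraMap ℤ (AlgebraicClosure ℚ_[l])).injective_int
    have hdet : ((α.map (algebraMap ℤ ℚ)).map (Algebra.ofId ℚ (AlgebraicClosure ℚ_[l])).toRingHom).det =
        algebraMap ℤ (AlgebraicClosure ℚ_[l]) α.det := by
      rw [Matrix.map_map, RingHom.map_det]
      congr 1
    rw [map_pow, ← hdet, ← RingHom.congr_fun (RingHom.ext_int ((SimpleSubalg.cst l).comp (Int.castRingHom ℤ_[l]))
      (algebraMap ℤ _)) (Q.eval 0)]
    rw [RingHom.comp_apply]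
    refine h0.trans ?_
    rw [hdet, map_mul, map_mul, _root_.mul_pow, map_pow, map_pow, map_neg, map_neg, map_one, map_one, ← pow_mul,
      ((even_two_mul g).mul_left r).neg_one_pow, _root_.one_mul]
    exact congrArg (· ^ (2 * g)) (RingHom.congr_fun (RingHom.ext_int ((Algebra.ofId ℚ (AlgebraicClosure ℚ_[l])).toRingHom.comp
      (algebraMap ℤ ℚ)) (algebraMap ℤ _)) _)
  haveI hmon : IsMonHom (ρ α).toHom := inferInstance
  have htoHom : (ρ α).toHom * 𝟙 P ^ (-(0 : ℤ)) = (ρ α).toHom := by rw [neg_zero, zpow_zero, _root_.mul_one]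
  obtain ⟨hQ1, hQ2⟩ := hQ 0
  rw [htoHom] at hQ1 hQ2
  have hfin : IsFinite (ρ α).toHom.left := by
    by_contra hn
    exact pow_ne_zero (2 * g) hα (hval.symm.trans (hQ2 hn))
  haveI := hfin
  haveI : IsIntegral P.left := GeometricallyIntegral.isIntegral_of_subsingleton P.hom
  haveI : Surjective (ρ α).toHom.left := surjective_of_isFinite_of_dim_eq P P _ rfl
  refine ⟨P, pr, (ρ α).toHom, fun T f => ?_, fun T a b => hext' a b, hρpr α, hfin,
    Groth.L08.FlatHom.flat_of_surjective P P _, fun y => ?_⟩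
  · obtain ⟨ψ', hψ⟩ := hlift T fun i _ => f i
    exact ⟨ψ', fun i => hψ i _⟩
  · have := hQ1 hfin y
    rw [hval] at this
    have h2 := congrArg Int.natAbs this
    rwa [Int.natAbs_natCast, Int.natAbs_pow] at h2

/-- Let X be an abelian variety over a field k (a proper, geometrically integral, commutative k-group
scheme) whose underlying space has Krull dimension g, let r be a natural number and α an r × r
matrix with integer entries. Write X^r for the r-fold product of X over k and [α]_X : X^r → X^r for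
the homomorphism (x_1, …, x_r) ↦ (Σ_j α_{1j} x_j, …, Σ_j α_{rj} x_j), i.e. the map whose i-th
component is the product, in the commutative group of maps X^r → X, of the powers pr_j^{α_{ij}}. If
det α ≠ 0 then [α]_X is finite and flat of constant degree |det α|^{2g} = det(α)^{2g}. (The
published statement covers det α = 0 too, with the convention that a non-finite homomorphism has
degree 0; that case says only that [α]_X is not finite and is not part of this row.) -/
theorem result
    (k : Type u) [Field k] (X : Over (Spec (CommRingCat.of k))) [GrpObj X] [IsCommMonObj X]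
    [IsProper X.hom] [GeometricallyIntegral X.hom]
    (g : ℕ) (hg : topologicalKrullDim ↥X.left = g)
    (r : ℕ) (α : Matrix (Fin r) (Fin r) ℤ) (hα : α.det ≠ 0)
    (φ : (∏ᶜ fun _ : Fin r => X) ⟶ (∏ᶜ fun _ : Fin r => X))
    (hφ : φ = Pi.lift (fun i => ∏ j : Fin r, (Pi.π (fun _ : Fin r => X) j) ^ (α i j))) :
    IsFinite φ.left ∧ Flat φ.left ∧
      ∀ y : ↥(∏ᶜ fun _ : Fin r => X).left, Scheme.Hom.finrank φ.left y = α.det.natAbs ^ (2 * g) := by
  classical
  rcases Nat.eq_zero_or_pos r with rfl | hr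
  · obtain rfl : φ = 𝟙 _ := Pi.hom_ext _ _ fun i => i.elim0
    refine ⟨inferInstance, inferInstance, fun y => ?_⟩
    show Scheme.Hom.finrank (𝟙 _) y = _
    rw [Scheme.Hom.finrank_eq_one_of_isIso]
    simp [Matrix.det_fin_zero]
  obtain ⟨P, pr, φ', hlift, hext, hφ', hfin, hflat, hrank⟩ := exists_model X g hg r hr α hα
  obtain ⟨u, hu⟩ := hlift (∏ᶜ fun _ : Fin r => X) fun i => Pi.π (fun _ : Fin r => X) i
  let v : P ⟶ ∏ᶜ fun _ : Fin r => X := Pi.lift pr
  have huv : u ≫ v = 𝟙 _ := Pi.hom_ext _ _ fun i => by rw [Category.assoc, Pi.lift_π, hu, Category.id_comp]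
  have hvu : v ≫ u = 𝟙 _ := hext _ _ _ fun i => by rw [Category.assoc, hu, Pi.lift_π, Category.id_comp]
  haveI : IsIso u := ⟨⟨v, huv, hvu⟩⟩
  haveI : IsIso v := ⟨⟨u, hvu, huv⟩⟩
  haveI : IsIso u.left := inferInstanceAs (IsIso ((Over.forget _).map u))
  haveI : IsIso v.left := inferInstanceAs (IsIso ((Over.forget _).map v))
  have key : ∀ (S : Finset (Fin r)) (f : Fin r → (P ⟶ X)) (i : Fin r),
      u ≫ (∏ j ∈ S, f j ^ α i j) = ∏ j ∈ S, (u ≫ f j) ^ α i j := by
    intro S f i
    induction S using Finset.induction with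
    | empty => rw [Finset.prod_empty, Finset.prod_empty, MonObj.comp_one]
    | insert b S hb ih => rw [Finset.prod_insert hb, Finset.prod_insert hb, MonObj.comp_mul, GrpObj.comp_zpow, ih]
  have hsq : φ ≫ u = u ≫ φ' := hext _ _ _ fun i => by
    rw [Category.assoc, hu, Category.assoc, hφ', hφ, Pi.lift_π, key]
    simp only [hu]
  have hφeq : φ = u ≫ φ' ≫ v := by rw [← reassoc_of% hsq, huv, Category.comp_id]
  haveI := hfin
  haveI := hflat
  have hl : φ.left = u.left ≫ φ'.left ≫ v.left := congrArg CommaMorphism.left hφeq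
  refine ⟨by rw [hl]; infer_instance, by rw [hl]; infer_instance, fun y => ?_⟩
  have hP : IsPullback u.left φ.left φ'.left u.left :=
    IsPullback.of_horiz_isIso ⟨(congrArg CommaMorphism.left hsq).symm⟩
  rw [Scheme.Hom.finrank_of_isPullback u.left φ.left φ'.left u.left hP y, hrank]

end Groth.Agent.S17513
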