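import Groth.Statements.S17514
import Groth.Agent.L26.AV.TateFinite
import Groth.Agent.L26.Misc.TateSnake
import Groth.Agent.L15.KerFlat.Basic

set_option autoImplicit false
universe u
open CategoryTheory CategoryTheory.Limits MonoidalCategory CartesianMonoidalCategory MonObj GrpObj AlgebraicGeometry
open AbVar

namespace Groth.Agent.S17514

open CategoryTheory CategoryTheory.Limits MonoidalCategory CartesianMonoidalCategory MonObj AbDual

/-- Let k be a field with algebraic closure k̄, ℓ a prime number invertible in k, X and Y abelian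
varieties over k (proper, geometrically integral, commutative k-group schemes), f : X → Y an isogeny
(a homomorphism which is finite and surjective) and i : N → X its kernel (the square formed by i, f,
the unit of Y and the structure map of N is cartesian). Let T_ℓ denote the Tate module formed with
k̄-valued points and T_ℓ f : T_ℓ X → T_ℓ Y the induced ℤ_ℓ-linear map. Then T_ℓ f is injective and
its cokernel is isomorphic, as a group, to the ℓ-primary part of the finite group N(k̄) of k̄-valued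
points of N (existence of an isomorphism; the published sequence 0 → T_ℓ X → T_ℓ Y → N_ℓ(k_s) → 0 is
moreover Galois-equivariant with a specific connecting map, and uses points over a separable
closure, which for ℓ-power torsion gives the same groups). -/
theorem result
    (k : Type u) [Field k] (ℓ : ℕ) [Fact ℓ.Prime] (hℓ : (ℓ : k) ≠ 0)
    (X Y : Over (Spec (CommRingCat.of k)))
    [GrpObj X] [IsCommMonObj X] [IsProper X.hom] [GeometricallyIntegral X.hom]
    [GrpObj Y] [IsCommMonObj Y] [IsProper Y.hom] [GeometricallyIntegral Y.hom]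
    (f : X ⟶ Y) [IsMonHom f] [IsFinite f.left] [Surjective f.left]
    (N : Over (Spec (CommRingCat.of k))) [GrpObj N] [IsCommMonObj N] (i : N ⟶ X) [IsMonHom i]
    (hN : AlgGrp.IsKernel i f) :
    Function.Injective (AbDual.tateMapₗ (l := ℓ)
        (T := Over.mk (Spec.map (CommRingCat.ofHom (algebraMap k (AlgebraicClosure k))))) f) ∧
      Nonempty ((AbDual.TateMod Y ℓ (Over.mk (Spec.map (CommRingCat.ofHom (algebraMap k (AlgebraicClosure k))))) ⧸
          LinearMap.range (AbDual.tateMapₗ (l := ℓ)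
            (T := Over.mk (Spec.map (CommRingCat.ofHom (algebraMap k (AlgebraicClosure k))))) f)) ≃+
        Additive ↥(CommGroup.primaryComponent
          (Over.mk (Spec.map (CommRingCat.ofHom (algebraMap k (AlgebraicClosure k)))) ⟶ N) ℓ)) := by
  let T : Over (Spec (CommRingCat.of k)) :=
    Over.mk (Spec.map (CommRingCat.ofHom (algebraMap k (AlgebraicClosure k))))
  let F : Additive (T ⟶ X) →+ Additive (T ⟶ Y) :=
    { toFun := fun a => Additive.ofMul (a.toMul ≫ f)
      map_zero' := congrArg Additive.ofMul (MonObj.one_comp f)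
      map_add' := fun a b => congrArg Additive.ofMul (MonObj.mul_comp a.toMul b.toMul f) }
  have hiw : i ≫ f = 1 := by rw [Hom.one_def]; exact hN.w
  haveI : LocallyOfFiniteType f.left := inferInstance
  have hFsurj : Function.Surjective F := fun b => by
    obtain ⟨P, hP⟩ := Groth.Agent.AV.Isogeny.exists_lift_point (K := AlgebraicClosure k) f b.toMul
    exact ⟨Additive.ofMul P, congrArg Additive.ofMul hP⟩
  have hdiv : ∀ a : Additive (T ⟶ X), ∃ b : Additive (T ⟶ X), ℓ • b = a := fun a => by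
    obtain ⟨P, hP⟩ := Groth.Agent.AV.Isogeny.exists_pow_eq (K := AlgebraicClosure k) (A := X) ℓ hℓ a.toMul
    exact ⟨Additive.ofMul P, congrArg Additive.ofMul hP⟩
  have hlift : ∀ a : Additive (T ⟶ X), F a = 0 → ∃ b : T ⟶ N, b ≫ i = a.toMul := fun a ha => by
    have hw : a.toMul ≫ f = toUnit T ≫ η[Y] := by rw [← Hom.one_def]; exact Additive.ofMul.injective ha
    exact ⟨hN.lift a.toMul (toUnit T) hw, hN.lift_fst _ _ _⟩
  have hmono : ∀ b b' : T ⟶ N, b ≫ i = b' ≫ i → b = b' := fun b b' h =>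
    hN.hom_ext h (toUnit_unique _ _)
  haveI : Finite (T ⟶ N) := by
    haveI : IsIso (𝟙_ (Over (Spec (CommRingCat.of k)))).hom := inferInstanceAs (IsIso (𝟙 _))
    haveI : IsFinite N.hom := by
      rw [← Over.w (toUnit N)]
      exact (MorphismProperty.cancel_right_of_respectsIso @IsFinite _
        (𝟙_ (Over (Spec (CommRingCat.of k)))).hom).2
        (MorphismProperty.of_isPullback (hN.map (Over.forget _)) ‹IsFinite f.left›)
    exact Groth.Agent.AV.FinitePts.finite_points (L := AlgebraicClosure k) N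
  haveI : Finite F.ker := by
    refine Finite.of_surjective (fun b : T ⟶ N => (⟨Additive.ofMul (b ≫ i), by
      show Additive.ofMul ((b ≫ i) ≫ f) = 0
      rw [Category.assoc, hiw, MonObj.comp_one]; rfl⟩ : F.ker)) fun a => ?_
    obtain ⟨b, hb⟩ := hlift a.1 a.2
    exact ⟨b, Subtype.ext (congrArg Additive.ofMul hb)⟩
  obtain ⟨hinj, Φ, c, hc, hmem, hadd, hsurj, hker, hrange⟩ :=
    Groth.Agent.TateSnake.main (Fact.out : ℓ.Prime) F hFsurj hdiv
  have hTf : ∀ (x : TateMod X ℓ T) (n : ℕ),
      ((tateMapₗ (l := ℓ) (T := T) f x : TateMod Y ℓ T) : ℕ → Additive (T ⟶ Y)) n =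
        F ((x : ℕ → Additive (T ⟶ X)) n) := fun x n => rfl
  refine ⟨fun x x' h => ?_, ?_⟩
  · refine sub_eq_zero.1 (TateMod.ext fun n => hinj ((x - x' : TateMod X ℓ T) : ℕ → Additive (T ⟶ X))
      (x - x').2 (fun m => ?_) n)
    rw [← hTf, map_sub, h, sub_self]
    rfl
  have hprim : ∀ y : TateMod Y ℓ T, ∃ b : ↥(CommGroup.primaryComponent (T ⟶ N) ℓ),
      b.1 ≫ i = (Φ (y : ℕ → Additive (T ⟶ Y))).toMul := fun y => by
    obtain ⟨h1, j, hj⟩ := hmem _ y.2
    obtain ⟨b, hb⟩ := hlift _ h1
    refine ⟨⟨b, j, hmono _ _ ?_⟩, hb⟩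
    rw [MonObj.one_comp i, MonObj.pow_comp, hb]
    exact congrArg Additive.toMul hj
  choose ψ hψ using hprim
  let Ψ : TateMod Y ℓ T →+ Additive ↥(CommGroup.primaryComponent (T ⟶ N) ℓ) :=
    AddMonoidHom.mk' (fun y => Additive.ofMul (ψ y)) fun y y' =>
      congrArg Additive.ofMul (Subtype.ext (hmono _ _ (by
        show (ψ (y + y')).1 ≫ i = ((ψ y).1 * (ψ y').1) ≫ i
        rw [hψ, MonObj.mul_comp, hψ, hψ]
        exact congrArg Additive.toMul (hadd _ _ y.2 y'.2))))
  let M := LinearMap.range (tateMapₗ (l := ℓ) (T := T) f)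
  have hΨ0 : ∀ y, Ψ y = 0 ↔ y ∈ M := by
    intro y
    constructor
    · intro h
      have hz : Φ (y : ℕ → Additive (T ⟶ Y)) = 0 := by
        have h' : (ψ y).1 = 1 := congrArg Subtype.val (Additive.ofMul.injective h)
        refine Additive.toMul.injective ?_
        rw [← hψ, h', MonObj.one_comp i]
        rfl
      obtain ⟨x, hx, hxy⟩ := hker _ y.2 hz
      have hcy : (c : ℤ_[ℓ]) • y ∈ M := ⟨⟨x, hx⟩, TateMod.ext fun n => by
        rw [hTf, Nat.cast_smul_eq_nsmul, Groth.Agent.AV.TateSat.component_nsmul]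
        exact hxy n⟩
      have hu : IsUnit (c : ℤ_[ℓ]) := by
        by_contra hne
        have h1 : (c : ℤ_[ℓ]) ∈ IsLocalRing.maximalIdeal ℤ_[ℓ] := hne
        rw [PadicInt.maximalIdeal_eq_span_p] at h1
        obtain ⟨d, hd⟩ := Ideal.mem_span_singleton'.1 h1
        have h2 := congrArg PadicInt.toZMod hd
        rw [map_mul, map_natCast, map_natCast, ZMod.natCast_self, MulZeroClass.mul_zero] at h2
        exact hc ((ZMod.natCast_eq_zero_iff c ℓ).1 h2.symm)
      obtain ⟨u, hu'⟩ := hu
      have := Submodule.smul_mem M (↑u⁻¹ : ℤ_[ℓ]) hcy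
      rwa [← hu', smul_smul, Units.inv_mul, one_smul] at this
    · rintro ⟨x, rfl⟩
      refine congrArg Additive.ofMul (Subtype.ext (hmono _ _ ?_))
      show (ψ _).1 ≫ i = (1 : T ⟶ N) ≫ i
      rw [hψ, MonObj.one_comp i]
      exact congrArg Additive.toMul ((congrArg Φ (funext fun n => hTf x n)).trans (hrange _ x.2))
  let Ψbar : (TateMod Y ℓ T ⧸ M) →+ Additive ↥(CommGroup.primaryComponent (T ⟶ N) ℓ) :=
    QuotientAddGroup.lift M.toAddSubgroup Ψ fun y hy => (hΨ0 y).2 hy
  refine ⟨AddEquiv.ofBijective Ψbar ⟨(injective_iff_map_eq_zero Ψbar).2 fun q hq => ?_, fun b => ?_⟩⟩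
  · obtain ⟨y, rfl⟩ := Submodule.mkQ_surjective M q
    exact (Submodule.Quotient.mk_eq_zero M).2 ((hΨ0 y).1 hq)
  · obtain ⟨j, hj⟩ := (b.toMul).2
    have hF : F (Additive.ofMul (b.toMul.1 ≫ i)) = 0 := by
      show Additive.ofMul ((b.toMul.1 ≫ i) ≫ f) = 0
      rw [Category.assoc, hiw, MonObj.comp_one]; rfl
    obtain ⟨y, hy, hΦ⟩ := hsurj _ hF ⟨j, by
      refine Additive.toMul.injective ?_
      show (b.toMul.1 ≫ i) ^ (ℓ ^ j) = 1
      rw [← MonObj.pow_comp, hj, MonObj.one_comp i]⟩
    refine ⟨M.mkQ ⟨y, hy⟩, congrArg Additive.ofMul (Subtype.ext (hmono _ _ ?_))⟩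
    show (ψ ⟨y, hy⟩).1 ≫ i = b.toMul.1 ≫ i
    rw [hψ]
    exact congrArg Additive.toMul hΦ

end Groth.Agent.S17514
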