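import Groth.Statements.S17516
import Groth.Agent.L26.AbDual.LamPull
import Groth.Agent.S14133
import Groth.Agent.S1843

set_option autoImplicit false
universe u
open CategoryTheory CategoryTheory.Limits MonoidalCategory CartesianMonoidalCategory MonObj GrpObj AlgebraicGeometry
open AbVar

namespace Groth.Agent.S17516

attribute [local instance] Groth.L08.Cube.clMonoid Groth.Agent.AV.InterPic.picLaw
open Groth.Agent Groth.Agent.Poincare

/-- Let X and Y be abelian varieties over a field k (proper, geometrically integral, commutative k-group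
schemes) with given dual abelian varieties (X^t, φ_X) and (Y^t, φ_Y) for the fppf topology, let f :
X → Y be an isogeny — a homomorphism which is finite, flat and surjective — of constant degree d,
with transpose f^t : Y^t → X^t, and let λ : Y → Y^t be a polarization of Y (a homomorphism whose
base change to every algebraically closed field is the homomorphism φ_M attached to some ample
invertible module M) which is finite and flat of constant degree e. Then f^*λ := f^t ∘ λ ∘ f : X →
X^t is a polarization of X, and it is finite and flat of constant degree d² · e = deg(f)² · deg(λ). -/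
theorem result
    (k : Type u) [Field k] (X Xt Y Yt : Over (Spec (CommRingCat.of k)))
    [GrpObj X] [IsCommMonObj X] [IsProper X.hom] [GeometricallyIntegral X.hom] [GrpObj Xt] [IsCommMonObj Xt] [IsProper Xt.hom] [GeometricallyIntegral Xt.hom]
    [GrpObj Y] [IsCommMonObj Y] [IsProper Y.hom] [GeometricallyIntegral Y.hom] [GrpObj Yt] [IsCommMonObj Yt] [IsProper Yt.hom] [GeometricallyIntegral Yt.hom]
    (φX : AgPol.DualMap X Xt) (hX : AbDual.IsDualAV Scheme.fppfPrecoverage X Xt φX)
    (φY : AgPol.DualMap Y Yt) (hY : AbDual.IsDualAV Scheme.fppfPrecoverage Y Yt φY)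
    (f : X ⟶ Y) [IsMonHom f] [IsFinite f.left] [Flat f.left] [Surjective f.left]
    (d : ℕ) (hd : ∀ y : ↥Y.left, Scheme.Hom.finrank f.left y = d)
    (ft : Yt ⟶ Xt) (hft : AbDual.IsTranspose f φX φY ft)
    (lam : Y ⟶ Yt) (hlam : AgPol.IsPolarization Y Yt φY lam)
    [IsFinite lam.left] [Flat lam.left] (e : ℕ) (he : ∀ y : ↥Yt.left, Scheme.Hom.finrank lam.left y = e) :
    AgPol.IsPolarization X Xt φX (f ≫ lam ≫ ft) ∧ IsFinite (f ≫ lam ≫ ft).left ∧ Flat (f ≫ lam ≫ ft).left ∧
      ∀ x : ↥Xt.left, Scheme.Hom.finrank (f ≫ lam ≫ ft).left x = d ^ 2 * e := by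
  haveI : Smooth X.hom := Groth.Agent.S1843.smooth_hom X
  haveI : Smooth Y.hom := Groth.Agent.S1843.smooth_hom Y
  haveI : Smooth Xt.hom := Groth.Agent.S1843.smooth_hom Xt
  haveI : Smooth Yt.hom := Groth.Agent.S1843.smooth_hom Yt
  haveI : GeometricallyConnected X.hom := Groth.Agent.AV.Isogeny.geometricallyConnected X.hom
  haveI : GeometricallyConnected Y.hom := Groth.Agent.AV.Isogeny.geometricallyConnected Y.hom
  haveI : GeometricallyConnected Xt.hom := Groth.Agent.AV.Isogeny.geometricallyConnected Xt.hom
  haveI : GeometricallyConnected Yt.hom := Groth.Agent.AV.Isogeny.geometricallyConnected Yt.hom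
  obtain ⟨htf, htflat, -, htd⟩ := Groth.Agent.S14133.result k X Xt Y Yt φX hX φY hY f d hd ft hft
  haveI := htf
  haveI := htflat
  haveI hlM : IsMonHom lam := hlam.1
  haveI : IsMonHom ft := LamPull.isMonHom_transpose hX hY f ft hft
  haveI : IsFinite (lam ≫ ft).left := inferInstanceAs (IsFinite (lam.left ≫ ft.left))
  haveI : Flat (lam ≫ ft).left := inferInstanceAs (Flat (lam.left ≫ ft.left))
  haveI hfin : IsFinite (f ≫ lam ≫ ft).left := inferInstanceAs (IsFinite (f.left ≫ (lam ≫ ft).left))
  haveI hflat : Flat (f ≫ lam ≫ ft).left := inferInstanceAs (Flat (f.left ≫ (lam ≫ ft).left))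
  refine ⟨⟨inferInstance, ?_⟩, hfin, hflat, fun x => ?_⟩
  · intro Ω _ _ t
    obtain ⟨M, hM, hML⟩ := hlam.2 Ω t
    let X' := Red.bc t X
    let Y' := Red.bc t Y
    haveI : IsProper X'.hom := inferInstanceAs (IsProper (pullback.snd X.hom t))
    haveI : IsProper Y'.hom := inferInstanceAs (IsProper (pullback.snd Y.hom t))
    haveI : GeometricallyIntegral X'.hom := inferInstanceAs (GeometricallyIntegral (pullback.snd X.hom t))
    haveI : GeometricallyIntegral Y'.hom := inferInstanceAs (GeometricallyIntegral (pullback.snd Y.hom t))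
    haveI : IsCommMonObj X' := isCommMonObj_of_isProper_of_geometricallyIntegral X'
    haveI : IsCommMonObj Y' := isCommMonObj_of_isProper_of_geometricallyIntegral Y'
    let Xt' := Red.bc t Xt
    let Yt' := Red.bc t Yt
    haveI : IsProper Xt'.hom := inferInstanceAs (IsProper (pullback.snd Xt.hom t))
    haveI : GeometricallyIntegral Xt'.hom := inferInstanceAs (GeometricallyIntegral (pullback.snd Xt.hom t))
    haveI : IsCommMonObj Xt' := isCommMonObj_of_isProper_of_geometricallyIntegral Xt'
    haveI : IsProper Yt'.hom := inferInstanceAs (IsProper (pullback.snd Yt.hom t))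
    haveI : GeometricallyIntegral Yt'.hom := inferInstanceAs (GeometricallyIntegral (pullback.snd Yt.hom t))
    haveI : IsCommMonObj Yt' := isCommMonObj_of_isProper_of_geometricallyIntegral Yt'
    let f' : X' ⟶ Y' := (Over.pullback t).map f
    haveI : IsMonHom f' := Functor.map.instIsMonHom (F := Over.pullback t) (f := f)
    haveI : IsFinite f'.left :=
      MorphismProperty.of_isPullback (P := @IsFinite) (Groth.L08.MulEtale.isPullback_map t f).flip ‹_›
    have hLa : CohB1.IsAmple ((Scheme.Modules.pullback f'.left).obj M) :=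
      Groth.L18.Ample.isAmple_pullback_of_isAffineHom f'.left hM
    refine ⟨_, hLa, ?_⟩
    have h := LamSurj.isLambda_lamOf (AgPol.bcDual t X Xt φX) _ hLa.1
    rw [LamPull.lamOf_pullback (AbDualBC.isDualAV_bc t hY) f' ((Over.pullback t).map ft)
      (LamPull.isTranspose_bc t f ft hft) M hM.1 hLa.1,
      ← Pairing.eq_lamOf (φ := AgPol.bcDual t Y Yt φY) M hM.1 hML] at h
    rw [Functor.map_comp, Functor.map_comp]
    exact h
  · rw [LamPull.finrank_const (f ≫ lam ≫ ft) x, DegTower.finrank_comp_one f hd (lam ≫ ft),
      DegTower.finrank_comp_one lam he ft, htd]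
    ring

end Groth.Agent.S17516
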