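import Groth.Statements.S17517
import Mathlib.Algebra.Module.ZLattice.Basic
import Mathlib.Analysis.InnerProductSpace.Projection.Minimal
import Mathlib.Analysis.InnerProductSpace.Dual
import Mathlib.Analysis.InnerProductSpace.Projection.FiniteDimensional
import Mathlib.Topology.Algebra.Module.FiniteDimension
-- import your own Groth.Agent.* helpers here

set_option autoImplicit false
universe u
open GIT

namespace Groth.Agent.S17517

open scoped RealInnerProductSpace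

variable {E : Type u} [NormedAddCommGroup E] [InnerProductSpace ℝ E] [FiniteDimensional ℝ E]

/-- A point which is `ℚ`-rational for the lattice. -/
def IsRat (L : Submodule ℤ E) (x : E) : Prop := ∃ N : ℤ, N ≠ 0 ∧ (N : ℝ) • x ∈ L

theorem smul_int_mem (L : Submodule ℤ E) (n : ℤ) {x : E} (hx : x ∈ L) : (n : ℝ) • x ∈ L := by
  rw [Int.cast_smul_eq_zsmul]
  exact L.smul_mem n hx

theorem IsRat.sum_rat_smul (L : Submodule ℤ E) {ι : Type*} (s : Finset ι) (q : ι → ℚ) (v : ι → E)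
    (hv : ∀ i ∈ s, IsRat L (v i)) : IsRat L (∑ i ∈ s, (q i : ℝ) • v i) := by
  refine Finset.sum_induction _ (IsRat L) ?_ ⟨1, one_ne_zero, by simp⟩ fun i hi => ?_
  · rintro a b ⟨M, hM, ha⟩ ⟨N, hN, hb⟩
    refine ⟨M * N, mul_ne_zero hM hN, ?_⟩
    rw [smul_add]
    refine add_mem ?_ ?_
    · rw [Int.cast_mul, mul_comm, mul_smul]; exact smul_int_mem L N ha
    · rw [Int.cast_mul, mul_smul]; exact smul_int_mem L M hb
  · obtain ⟨N, hN, h⟩ := hv i hi
    refine ⟨(q i).den * N, mul_ne_zero (by exact_mod_cast (q i).den_ne_zero) hN, ?_⟩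
    have e : (((q i).den * N : ℤ) : ℝ) • ((q i : ℝ) • v i) = ((q i).num : ℝ) • ((N : ℝ) • v i) := by
      rw [smul_smul, smul_smul]
      congr 1
      have h2 : ((q i).num : ℝ) = (q i : ℝ) * ((q i).den : ℝ) := by
        exact_mod_cast ((q i).mul_den_eq_num).symm
      push_cast
      rw [h2]; ring
    rw [e]
    exact smul_int_mem L _ h

/-- A rational system of inner product equations inside a rational span has a rational solution. -/
theorem isRat_of_span (L : Submodule ℤ E) {ι : Type*} [Fintype ι] (r : ι → E) (hr : ∀ i, IsRat L (r i))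
    (hrat : ∀ i j, ∃ q : ℚ, ⟪r i, r j⟫ = (q : ℝ)) (v : E) (hv : v ∈ Submodule.span ℝ (Set.range r))
    (hval : ∀ i, ∃ q : ℚ, ⟪r i, v⟫ = (q : ℝ)) : IsRat L v := by
  obtain ⟨π, hπ⟩ := LinearMap.exists_leftInverse_of_injective (Algebra.linearMap ℚ ℝ)
    (LinearMap.ker_eq_bot.mpr Rat.cast_injective)
  have hπq : ∀ q : ℚ, π (q : ℝ) = q := fun q => LinearMap.congr_fun hπ q
  obtain ⟨l, rfl⟩ := (Submodule.mem_span_range_iff_exists_fun ℝ).mp hv
  have hu : IsRat L (∑ i, ((π (l i) : ℚ) : ℝ) • r i) :=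
    IsRat.sum_rat_smul L _ _ _ fun i _ => hr i
  convert hu using 1
  rw [← sub_eq_zero, ← Finset.sum_sub_distrib]
  simp only [← sub_smul]
  have key : ∀ j, ⟪r j, ∑ i, (l i - ((π (l i) : ℚ) : ℝ)) • r i⟫ = 0 := by
    intro j
    choose q hq using hrat j
    obtain ⟨c, hc⟩ := hval j
    simp only [inner_sum, real_inner_smul_right, hq] at hc ⊢
    have h2 : ∑ i, (π (l i)) * q i = c := by
      rw [← hπq c, ← hc, map_sum]
      refine Finset.sum_congr rfl fun i _ => ?_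
      rw [mul_comm (l i), ← Rat.smul_def, map_smul, smul_eq_mul, mul_comm]
    simp only [sub_mul, Finset.sum_sub_distrib, hc, ← h2]
    push_cast
    exact sub_self _
  apply inner_self_eq_zero (𝕜 := ℝ).mp
  rw [sum_inner]
  exact Finset.sum_eq_zero fun i _ => by rw [real_inner_smul_left, key i, mul_zero]

/-- The Riesz vector of an integral functional is rational. -/
theorem exists_riesz (L : Submodule ℤ E) [DiscreteTopology L] [IsZLattice ℝ L]
    (hint : ∀ x ∈ L, ∀ y ∈ L, ∃ n : ℤ, ⟪x, y⟫ = (n : ℝ))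
    (f : Module.Dual ℝ E) (hf : ∀ x ∈ L, ∃ n : ℤ, f x = (n : ℝ)) :
    ∃ r : E, IsRat L r ∧ ∀ x, ⟪r, x⟫ = f x := by
  have : Module.Finite ℤ L := ZLattice.module_finite ℝ L
  have : Module.Free ℤ L := ZLattice.module_free ℝ L
  let b := Module.Free.chooseBasis ℤ L
  let r := (InnerProductSpace.toDual ℝ E).symm (LinearMap.toContinuousLinearMap f)
  have hr : ∀ x, ⟪r, x⟫ = f x := fun x => InnerProductSpace.toDual_symm_apply
  refine ⟨r, isRat_of_span L (fun i => (b i : E)) (fun i => ⟨1, one_ne_zero, by simp⟩) (fun i j => ?_) r ?_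
    (fun i => ?_), hr⟩
  · obtain ⟨n, hn⟩ := hint _ (b i).2 _ (b j).2
    exact ⟨n, by rw [hn]; simp⟩
  · have : Set.range (fun i => (b i : E)) = Set.range (b.ofZLatticeBasis ℝ L) := by
      ext x; simp [Module.Basis.ofZLatticeBasis_apply]
    rw [this, (b.ofZLatticeBasis ℝ L).span_eq]
    trivial
  · obtain ⟨n, hn⟩ := hf _ (b i).2
    exact ⟨n, by rw [real_inner_comm, hr, hn]; simp⟩

/-- The point of least norm of a rational polyhedron is rational. -/
theorem isRat_of_min (L : Submodule ℤ E) [DiscreteTopology L] [IsZLattice ℝ L]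
    (hint : ∀ x ∈ L, ∀ y ∈ L, ∃ n : ℤ, ⟪x, y⟫ = (n : ℝ))
    (F G : Finset (Module.Dual ℝ E))
    (hFi : ∀ f ∈ F, ∀ x ∈ L, ∃ n : ℤ, f x = (n : ℝ)) (hGi : ∀ g ∈ G, ∀ x ∈ L, ∃ n : ℤ, g x = (n : ℝ))
    (v : E) (hF : ∀ f ∈ F, 0 ≤ f v) (hG : ∀ g ∈ G, 1 ≤ g v)
    (hmin : ∀ w, (∀ f ∈ F, 0 ≤ f w) → (∀ g ∈ G, 1 ≤ g w) → ‖v‖ ≤ ‖w‖) : IsRat L v := by
  classical
  let S := F.filter (fun f => f v = 0) ∪ G.filter (fun g => g v = 1)
  have hS : ∀ h : S, (∀ x ∈ L, ∃ n : ℤ, (h : Module.Dual ℝ E) x = (n : ℝ)) ∧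
      ∃ q : ℚ, (h : Module.Dual ℝ E) v = (q : ℝ) := by
    rintro ⟨h, hh⟩
    rcases Finset.mem_union.mp hh with hh | hh <;> rw [Finset.mem_filter] at hh
    · exact ⟨hFi h hh.1, 0, by simpa using hh.2⟩
    · exact ⟨hGi h hh.1, 1, by simpa using hh.2⟩
  choose r hr hrf using fun h : S => exists_riesz L hint h.1 (hS h).1
  refine isRat_of_span L r hr (fun i j => ?_) v ?_ (fun i => by simpa [hrf] using (hS i).2)
  · rw [hrf]
    obtain ⟨N, hN, hNr⟩ := hr j
    obtain ⟨n, hn⟩ := (hS i).1 _ hNr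
    refine ⟨n / N, ?_⟩
    rw [map_smul, smul_eq_mul] at hn
    push_cast
    rw [eq_div_iff (Int.cast_ne_zero.mpr hN), mul_comm, hn]
  · rw [← Submodule.orthogonal_orthogonal (Submodule.span ℝ (Set.range r))]
    intro w hw
    have hw0 : ∀ h : S, (h : Module.Dual ℝ E) w = 0 := fun h => by
      rw [← hrf h w]
      exact Submodule.inner_right_of_mem_orthogonal (Submodule.subset_span (Set.mem_range_self h)) hw
    have hev : ∀ᶠ t : ℝ in nhds 0, ∀ h ∈ F, 0 ≤ h (v + t • w) := by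
      rw [Filter.eventually_all_finset]
      intro h hh
      rcases (hF h hh).lt_or_eq with hl | he
      · have hc : Continuous fun t : ℝ => h (v + t • w) := by
          simp only [map_add, map_smul, smul_eq_mul]; fun_prop
        filter_upwards [Filter.Tendsto.eventually_const_lt (show _ < h (v + (0 : ℝ) • w) by simpa using hl) hc.continuousAt] with t ht using ht.le
      · refine Filter.Eventually.of_forall fun t => ?_
        have h0 : h w = 0 := hw0 ⟨h, Finset.mem_union_left _ (Finset.mem_filter.mpr ⟨hh, he.symm⟩)⟩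
        simp [h0, ← he]
    have hev' : ∀ᶠ t : ℝ in nhds 0, ∀ h ∈ G, 1 ≤ h (v + t • w) := by
      rw [Filter.eventually_all_finset]
      intro h hh
      rcases (hG h hh).lt_or_eq with hl | he
      · have hc : Continuous fun t : ℝ => h (v + t • w) := by
          simp only [map_add, map_smul, smul_eq_mul]; fun_prop
        filter_upwards [Filter.Tendsto.eventually_const_lt (show _ < h (v + (0 : ℝ) • w) by simpa using hl) hc.continuousAt] with t ht using ht.le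
      · refine Filter.Eventually.of_forall fun t => ?_
        have h0 : h w = 0 := hw0 ⟨h, Finset.mem_union_right _ (Finset.mem_filter.mpr ⟨hh, he.symm⟩)⟩
        simp [h0, ← he]
    have hsq : ∀ᶠ t : ℝ in nhds 0, 0 ≤ 2 * t * ⟪v, w⟫ + t ^ 2 * ‖w‖ ^ 2 := by
      filter_upwards [hev, hev'] with t h1 h2
      have h3 := hmin _ h1 h2
      have h4 : ‖v‖ ^ 2 ≤ ‖v + t • w‖ ^ 2 := pow_le_pow_left₀ (norm_nonneg _) h3 2
      rw [norm_add_sq_real, real_inner_smul_right, norm_smul, mul_pow, Real.norm_eq_abs, sq_abs] at h4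
      linarith
    obtain ⟨ε, hε, hball⟩ := Metric.eventually_nhds_iff.mp hsq
    rw [real_inner_comm]
    by_contra hne
    have hpos : 0 < |⟪v, w⟫| := abs_pos.mpr hne
    let t := min (ε / 2) (|⟪v, w⟫| / (‖w‖ ^ 2 + 1))
    have ht : 0 < t := lt_min (by linarith) (by positivity)
    have htε : t < ε := lt_of_le_of_lt (min_le_left _ _) (by linarith)
    have ht2 : t * (‖w‖ ^ 2 + 1) ≤ |⟪v, w⟫| := (le_div_iff₀ (by positivity)).mp (min_le_right _ _)
    have h5 := hball (y := t) (by simpa [abs_of_pos ht] using htε)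
    have h6 := hball (y := -t) (by simpa [abs_of_pos ht] using htε)
    have h7 : 2 * t * |⟪v, w⟫| ≤ t ^ 2 * ‖w‖ ^ 2 := by
      rcases abs_cases ⟪v, w⟫ with ⟨e, _⟩ | ⟨e, _⟩ <;> rw [e] <;> nlinarith
    nlinarith

/-- Let `E` be a finite-dimensional real inner product space and `L` a full lattice in `E` (a discrete
subgroup spanning `E`) on which the inner product is integer valued; let `F` and `G` be nonempty
finite sets of real linear functionals on `E` taking integer values on `L`, with `f_min v = min_{f ∈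
F} f v` and `g_min v = min_{g ∈ G} g v`. If some vector `v` has `f_min v ≥ 0` and `g_min v > 0`,
then on the set `C_F` of nonzero `v` with `f_min v ≥ 0` the function `v ↦ g_min v / ‖v‖` attains a
greatest value `M`, and there is exactly one lattice vector `v₀ ∈ C_F` with `g_min v₀ / ‖v₀‖ = M` of
which every lattice vector `v ∈ C_F` with `g_min v / ‖v‖ = M` is an integer multiple. -/
theorem result
    (E : Type u) [NormedAddCommGroup E] [InnerProductSpace ℝ E] [FiniteDimensional ℝ E]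
    (L : Submodule ℤ E) [DiscreteTopology L] [IsZLattice ℝ L]
    (hint : ∀ x ∈ L, ∀ y ∈ L, ∃ n : ℤ, inner ℝ x y = (n : ℝ))
    (F G : Finset (Module.Dual ℝ E)) (hF : F.Nonempty) (hG : G.Nonempty)
    (hFi : ∀ f ∈ F, ∀ x ∈ L, ∃ n : ℤ, f x = (n : ℝ)) (hGi : ∀ g ∈ G, ∀ x ∈ L, ∃ n : ℤ, g x = (n : ℝ))
    (hpos : ∃ v : E, 0 ≤ F.inf' hF (fun f => f v) ∧ 0 < G.inf' hG (fun g => g v)) :
    ∃ M : ℝ, IsGreatest ((fun v => G.inf' hG (fun g => g v) / ‖v‖) ''
        {v : E | v ≠ 0 ∧ 0 ≤ F.inf' hF (fun f => f v)}) M ∧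
      ∃! v₀ : E, v₀ ∈ L ∧ v₀ ≠ 0 ∧ 0 ≤ F.inf' hF (fun f => f v₀) ∧
        G.inf' hG (fun g => g v₀) / ‖v₀‖ = M ∧
        ∀ v ∈ L, v ≠ 0 → 0 ≤ F.inf' hF (fun f => f v) → G.inf' hG (fun g => g v) / ‖v‖ = M →
          ∃ n : ℤ, v = n • v₀ := by
  classical
  let P : Set E := {v | (∀ f ∈ F, 0 ≤ f v) ∧ ∀ g ∈ G, 1 ≤ g v}
  have hmem : ∀ v : E, 0 ≤ F.inf' hF (fun f => f v) ↔ ∀ f ∈ F, 0 ≤ f v := fun v => Finset.le_inf'_iff hF _
  obtain ⟨v₁, hv₁F, hv₁G⟩ := hpos
  have hscale : ∀ v : E, (∀ f ∈ F, 0 ≤ f v) → 0 < G.inf' hG (fun g => g v) →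
      (G.inf' hG (fun g => g v))⁻¹ • v ∈ P := by
    intro v hv hs
    refine ⟨fun f hf => ?_, fun g hg => ?_⟩
    · rw [map_smul, smul_eq_mul]; exact mul_nonneg (inv_nonneg.mpr hs.le) (hv f hf)
    · rw [map_smul, smul_eq_mul, le_inv_mul_iff₀ hs, mul_one]
      exact Finset.inf'_le (fun g => g v) hg
  have hne : P.Nonempty := ⟨_, hscale v₁ ((hmem v₁).mp hv₁F) hv₁G⟩
  have hconv : Convex ℝ P := by
    intro x hx y hy a b ha hb hab
    refine ⟨fun f hf => ?_, fun g hg => ?_⟩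
    · have h1 := hx.1 f hf; have h2 := hy.1 f hf
      rw [map_add, map_smul, map_smul, smul_eq_mul, smul_eq_mul]; positivity
    · have h1 := hx.2 g hg; have h2 := hy.2 g hg
      rw [map_add, map_smul, map_smul, smul_eq_mul, smul_eq_mul]; nlinarith
  have hclosed : IsClosed P := by
    have : P = (⋂ f ∈ F, {v : E | 0 ≤ f v}) ∩ ⋂ g ∈ G, {v : E | 1 ≤ g v} := by ext v; simp [P]
    rw [this]
    exact (isClosed_biInter fun f _ => isClosed_le continuous_const f.continuous_of_finiteDimensional).inter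
      (isClosed_biInter fun f _ => isClosed_le continuous_const f.continuous_of_finiteDimensional)
  obtain ⟨v, hvP, hvmin⟩ := exists_norm_eq_iInf_of_complete_convex hne hclosed.isComplete hconv 0
  have hmin : ∀ w ∈ P, ‖v‖ ≤ ‖w‖ := fun w hw => by
    have h1 : ‖(0 : E) - v‖ ≤ ‖(0 : E) - w‖ := hvmin ▸
      ciInf_le (f := fun w : P => ‖(0 : E) - w‖) ⟨0, Set.forall_mem_range.2 fun _ => norm_nonneg _⟩ ⟨w, hw⟩
    simpa using h1
  have huniq : ∀ w ∈ P, ‖w‖ ≤ ‖v‖ → w = v := by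
    intro w hw hle
    have h1 := hmin _ (hconv hvP hw (by norm_num : (0 : ℝ) ≤ 1 / 2) (by norm_num : (0 : ℝ) ≤ 1 / 2) (by norm_num))
    rw [← smul_add, norm_smul] at h1
    norm_num at h1
    have h2 := parallelogram_law_with_norm ℝ v w
    have h3 : ‖v - w‖ = 0 := by nlinarith [norm_nonneg (v - w), norm_nonneg v, norm_nonneg w]
    exact (sub_eq_zero.mp (norm_eq_zero.mp h3)).symm
  have hv0 : v ≠ 0 := by
    intro h
    obtain ⟨g, hg⟩ := hG
    have := hvP.2 g hg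
    rw [h, map_zero] at this
    linarith
  have hvn : 0 < ‖v‖ := norm_pos_iff.mpr hv0
  have hvF : 0 ≤ F.inf' hF (fun f => f v) := (hmem v).mpr hvP.1
  have hvG : 1 ≤ G.inf' hG (fun g => g v) := (Finset.le_inf'_iff hG _).mpr hvP.2
  have hbound : ∀ w : E, w ≠ 0 → 0 ≤ F.inf' hF (fun f => f w) →
      G.inf' hG (fun g => g w) / ‖w‖ ≤ ‖v‖⁻¹ ∧
      (G.inf' hG (fun g => g w) / ‖w‖ = ‖v‖⁻¹ → ∃ t : ℝ, 0 < t ∧ w = t • v) := by
    intro w hw hwF
    have hwn : 0 < ‖w‖ := norm_pos_iff.mpr hw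
    rcases le_or_gt (G.inf' hG (fun g => g w)) 0 with hs | hs
    · refine ⟨(div_nonpos_of_nonpos_of_nonneg hs hwn.le).trans (inv_nonneg.mpr hvn.le), fun h => ?_⟩
      have := div_nonpos_of_nonpos_of_nonneg hs hwn.le
      rw [h] at this
      exact absurd this (not_le.mpr (inv_pos.mpr hvn))
    have hP := hscale w ((hmem w).mp hwF) hs
    have h1 := hmin _ hP
    rw [norm_smul, norm_inv, Real.norm_of_nonneg hs.le, le_inv_mul_iff₀ hs] at h1
    refine ⟨by rw [div_le_iff₀ hwn, le_inv_mul_iff₀ hvn]; linarith, fun h => ?_⟩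
    refine ⟨G.inf' hG (fun g => g w), hs, ?_⟩
    rw [div_eq_iff hwn.ne'] at h
    have h2 : ‖(G.inf' hG (fun g => g w))⁻¹ • w‖ ≤ ‖v‖ := by
      rw [norm_smul, norm_inv, Real.norm_of_nonneg hs.le, inv_mul_le_iff₀ hs, h]
      field_simp
      exact le_rfl
    rw [← huniq _ hP h2, smul_inv_smul₀ hs.ne']
  have hval : G.inf' hG (fun g => g v) / ‖v‖ = ‖v‖⁻¹ :=
    le_antisymm (hbound v hv0 hvF).1 (by rw [inv_eq_one_div]; exact div_le_div_of_nonneg_right hvG hvn.le)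
  refine ⟨‖v‖⁻¹, ⟨⟨v, ⟨hv0, hvF⟩, hval⟩, ?_⟩, ?_⟩
  · rintro _ ⟨w, ⟨hw, hwF⟩, rfl⟩
    exact (hbound w hw hwF).1
  -- a lattice point on the optimal ray
  obtain ⟨N, hN, hNv⟩ := isRat_of_min L hint F G hFi hGi v hvP.1 hvP.2 fun w h1 h2 => hmin w ⟨h1, h2⟩
  obtain ⟨t₁, ht₁, ht₁L⟩ : ∃ t : ℝ, 0 < t ∧ t • v ∈ L := by
    refine ⟨|(N : ℝ)|, abs_pos.mpr (Int.cast_ne_zero.mpr hN), ?_⟩
    rcases abs_choice (N : ℝ) with e | e <;> rw [e]
    · exact hNv
    · rw [neg_smul]; exact L.neg_mem hNv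
  haveI : DiscreteTopology L.toAddSubgroup := ‹DiscreteTopology L›
  have hfin : (Metric.closedBall (0 : E) ‖t₁ • v‖ ∩ (L : Set E)).Finite :=
    Metric.finite_isBounded_inter_isClosed DiscreteTopology.isDiscrete Metric.isBounded_closedBall
      (AddSubgroup.isClosed_of_discrete (H := L.toAddSubgroup))
  let T : Set ℝ := {t | 0 < t ∧ t ≤ t₁ ∧ t • v ∈ L}
  have hT : T.Finite := by
    refine Set.Finite.of_finite_image (f := fun t : ℝ => t • v) (hfin.subset ?_) (smul_left_injective ℝ hv0).injOn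
    rintro _ ⟨t, ⟨h1, h2, h3⟩, rfl⟩
    refine ⟨?_, h3⟩
    rw [Metric.mem_closedBall, dist_zero_right, norm_smul, norm_smul, Real.norm_of_nonneg h1.le,
      Real.norm_of_nonneg ht₁.le]
    exact mul_le_mul_of_nonneg_right h2 (norm_nonneg _)
  obtain ⟨t₀, ⟨ht₀, ht₀₁, ht₀L⟩, ht₀min⟩ :=
    Set.exists_min_image T (fun t => t) hT ⟨t₁, ht₁, le_rfl, ht₁L⟩
  have hgen : ∀ t : ℝ, t • v ∈ L → ∃ n : ℤ, t • v = n • (t₀ • v) := by
    intro t ht
    refine ⟨⌊t / t₀⌋, ?_⟩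
    have hr : (t - ⌊t / t₀⌋ * t₀) • v ∈ L := by
      rw [sub_smul, mul_smul]; exact L.sub_mem ht (smul_int_mem L _ ht₀L)
    have h0 : 0 ≤ t - ⌊t / t₀⌋ * t₀ := by
      have := Int.floor_le (t / t₀)
      rw [le_div_iff₀ ht₀] at this
      linarith
    have h1 : t - ⌊t / t₀⌋ * t₀ < t₀ := by
      have := Int.lt_floor_add_one (t / t₀)
      rw [div_lt_iff₀ ht₀] at this
      linarith
    rcases h0.lt_or_eq with hl | he
    · exact absurd (ht₀min _ ⟨hl, h1.le.trans ht₀₁, hr⟩) (not_le.mpr h1)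
    · rw [← Int.cast_smul_eq_zsmul ℝ, smul_smul]
      congr 1
      linarith
  have hinf : ∀ (c : ℝ), 0 < c → ∀ (S : Finset (Module.Dual ℝ E)) (hS : S.Nonempty),
      S.inf' hS (fun h => h (c • v)) = c * S.inf' hS (fun h => h v) := by
    intro c hc S hS
    refine le_antisymm ?_ (Finset.le_inf' _ _ fun h hh => ?_)
    · obtain ⟨h, hh, he⟩ := Finset.exists_mem_eq_inf' hS (fun h => h v)
      rw [he]
      exact (Finset.inf'_le (fun h => h (c • v)) hh).trans_eq (by rw [map_smul, smul_eq_mul])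
    · rw [map_smul, smul_eq_mul]
      exact mul_le_mul_of_nonneg_left (Finset.inf'_le (fun h => h v) hh) hc.le
  have h0F : 0 ≤ F.inf' hF (fun f => f (t₀ • v)) := by rw [hinf t₀ ht₀]; exact mul_nonneg ht₀.le hvF
  have h0M : G.inf' hG (fun g => g (t₀ • v)) / ‖t₀ • v‖ = ‖v‖⁻¹ := by
    rw [hinf t₀ ht₀, norm_smul, Real.norm_of_nonneg ht₀.le, mul_div_mul_left _ _ ht₀.ne', hval]
  have hall : ∀ w ∈ L, w ≠ 0 → 0 ≤ F.inf' hF (fun f => f w) →
      G.inf' hG (fun g => g w) / ‖w‖ = ‖v‖⁻¹ → ∃ n : ℤ, w = n • (t₀ • v) := by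
    intro w hwL hw hwF hwM
    obtain ⟨t, -, rfl⟩ := (hbound w hw hwF).2 hwM
    exact hgen t hwL
  refine ⟨t₀ • v, ⟨ht₀L, smul_ne_zero ht₀.ne' hv0, h0F, h0M, hall⟩, ?_⟩
  rintro w ⟨hwL, hw, hwF, hwM, hwall⟩
  obtain ⟨t, ht, rfl⟩ := (hbound w hw hwF).2 hwM
  obtain ⟨n, hn⟩ := hgen t hwL
  obtain ⟨m, hm⟩ := hwall _ ht₀L (smul_ne_zero ht₀.ne' hv0) h0F h0M
  rw [← Int.cast_smul_eq_zsmul ℝ, smul_smul] at hn hm
  have hn' : t = (n : ℝ) * t₀ := smul_left_injective ℝ hv0 hn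
  have hm' : t₀ = (m : ℝ) * t := smul_left_injective ℝ hv0 hm
  have hmn : m * n = 1 := by
    have : ((m * n : ℤ) : ℝ) * t₀ = 1 * t₀ := by push_cast; rw [one_mul, mul_assoc, ← hn', ← hm']
    exact_mod_cast mul_right_cancel₀ ht₀.ne' this
  have hnpos : 0 < n := by
    have : (0 : ℝ) < (n : ℝ) * t₀ := hn' ▸ ht
    exact_mod_cast pos_of_mul_pos_left this ht₀.le
  have : n = 1 := Int.eq_one_of_mul_eq_one_left hnpos.le hmn
  rw [hn', this, Int.cast_one, one_mul]

end Groth.Agent.S17517
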