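import Groth.Statements.S17525
import Groth.Agent.L08.LinRed
import Groth.Agent.L25.UnipExt

set_option autoImplicit false
universe u
open HopfRep

namespace Groth.Agent.S17525

open TensorProduct Groth.L08

section

variable {k : Type u} [Field k]

/-- An invariant integral gives linear reductivity. -/
theorem lr_of_isIntegral {A : Type u} [CommRing A] [HopfAlgebra k A] {α : A →ₗ[k] k}
    (hα : IsIntegral α) : HopfRep.IsLinearlyReductive k A := by
  refine isLinearlyReductive_of_lift fun V _ _ cV _ π hπ hπc => ?_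
  letI := HopfRep.Comod.trivial k A k
  obtain ⟨v, hv, hv1⟩ := hα.exists_fixed_lift (f := π) (LinearMap.ext fun v => (hπc v).symm) hπ
    (w := (1 : k)) rfl
  exact ⟨v, hv, by rw [hv1]; exact one_ne_zero⟩

variable {AQ AG AK : Type u} [CommRing AQ] [HopfAlgebra k AQ] [CommRing AG] [HopfAlgebra k AG]
  [CommRing AK] [HopfAlgebra k AK]

theorem comp_apply_eq (φ : AQ →ₐc[k] AG) (ψ : AG →ₐc[k] AK)
    (hker : RingHom.ker (ψ : AG →ₐ[k] AK) =
      Ideal.map (φ : AQ →ₐ[k] AG) (RingHom.ker (Bialgebra.counitAlgHom k AQ))) (c : AQ) :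
    ψ (φ c) = algebraMap k AK (Coalgebra.counit (R := k) c) := by
  have h : (φ : AQ →ₐ[k] AG) (c - algebraMap k AQ (Coalgebra.counit (R := k) c)) ∈
      RingHom.ker (ψ : AG →ₐ[k] AK) := by
    rw [hker]
    refine Ideal.mem_map_of_mem _ ?_
    rw [RingHom.mem_ker, map_sub, AlgHom.commutes]
    exact sub_self _
  rw [RingHom.mem_ker, map_sub, AlgHom.commutes, map_sub, AlgHom.commutes, sub_eq_zero] at h
  exact h

theorem fAct_map (φ : AQ →ₐc[k] AG) (θ : AG →ₗ[k] k) (c : AQ) :
    fAct AG θ (φ c) = φ (fAct AQ (θ ∘ₗ (φ : AQ →ₗ[k] AG)) c) := by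
  change TensorProduct.rid k AG (θ.lTensor AG (Coalgebra.comul (R := k) (φ c))) = _
  rw [← CoalgHomClass.map_comp_comul_apply φ c]
  change _ = φ (TensorProduct.rid k AQ (LinearMap.lTensor _ _ (Coalgebra.comul (R := k) c)))
  induction Coalgebra.comul (R := k) c with
  | zero => simp
  | add p q hp hq => simp only [map_add, hp, hq]
  | tmul p q => simp [map_smul]

theorem fixed_of_range (φ : AQ →ₐc[k] AG) (ψ : AG →ₐc[k] AK)
    (hker : RingHom.ker (ψ : AG →ₐ[k] AK) =
      Ideal.map (φ : AQ →ₐ[k] AG) (RingHom.ker (Bialgebra.counitAlgHom k AQ))) (c : AQ)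
    (θ : AK →ₗ[k] k) : fAct AG (θ ∘ₗ (ψ : AG →ₗ[k] AK)) (φ c) = θ 1 • φ c := by
  have h1 : (θ ∘ₗ (ψ : AG →ₗ[k] AK)) ∘ₗ (φ : AQ →ₗ[k] AG) =
      θ 1 • Coalgebra.counit (R := k) (A := AQ) := LinearMap.ext fun x => by
    change θ (ψ (φ x)) = θ 1 * Coalgebra.counit (R := k) x
    rw [comp_apply_eq φ ψ hker, Algebra.algebraMap_eq_smul_one, map_smul, smul_eq_mul, mul_comm]
  rw [fAct_map, h1, show fAct AQ (θ 1 • Coalgebra.counit (R := k) (A := AQ)) =
    θ 1 • fAct AQ (Coalgebra.counit (R := k)) from map_smul (fActL AQ) _ _, LinearMap.smul_apply,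
    fAct_counit, LinearMap.id_apply, map_smul]

theorem range_of_fixed (φ : AQ →ₐc[k] AG) (ψ : AG →ₐc[k] AK) (hψ : Function.Surjective ψ)
    (hker : RingHom.ker (ψ : AG →ₐ[k] AK) =
      Ideal.map (φ : AQ →ₐ[k] AG) (RingHom.ker (Bialgebra.counitAlgHom k AQ))) {a : AG}
    (h : ∀ θ : AK →ₗ[k] k, fAct AG (θ ∘ₗ (ψ : AG →ₗ[k] AK)) a = θ 1 • a) :
    ∃ c, φ c = a := by
  classical
  let J : Ideal AG := RingHom.ker (ψ : AG →ₐ[k] AK)
  let e : (AG ⧸ J) ≃ₐ[k] AK := Ideal.quotientKerAlgEquivOfSurjective (f := (ψ : AG →ₐ[k] AK)) hψ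
  refine Groth.L25.UnipExt.mem_range_of_fixed φ (J := J) hker ?_
  have h0 : TensorProduct.map LinearMap.id (ψ : AG →ₗ[k] AK) (Coalgebra.comul (R := k) a) =
      a ⊗ₜ[k] (1 : AK) := by
    let b := Module.Basis.ofVectorSpace k AK
    refine (TensorProduct.equivFinsuppOfBasisRight b).injective (Finsupp.ext fun i => ?_)
    rw [TensorProduct.equivFinsuppOfBasisRight_apply, TensorProduct.equivFinsuppOfBasisRight_apply,
      LinearMap.lTensor_tmul, TensorProduct.rid_tmul, ← h (b.coord i), fAct_apply,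
      ← LinearMap.lTensor_def, ← LinearMap.lTensor_comp_apply]
    rfl
  have h1 := congrArg (TensorProduct.map LinearMap.id e.symm.toLinearMap) h0
  rw [TensorProduct.map_tmul, ← LinearMap.comp_apply, ← TensorProduct.map_comp] at h1
  have he : e.symm.toLinearMap ∘ₗ (ψ : AG →ₗ[k] AK) = (Ideal.Quotient.mkₐ k J).toLinearMap :=
    LinearMap.ext fun x => e.symm_apply_eq.2 rfl
  rw [he, LinearMap.id_comp, LinearMap.id_apply] at h1
  refine h1.trans ?_
  rw [AlgEquiv.toLinearMap_apply, map_one]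

theorem cf_congr {A V : Type u} [CommRing A] [HopfAlgebra k A] [AddCommGroup V] [Module k V]
    [HopfRep.Comod k A V] {M : Submodule k V} (hM : HopfRep.IsSubcomod (k := k) (A := A) M)
    {f g : Module.Dual k V} (h : ∀ x ∈ M, f x = g x) {m : V} (hm : m ∈ M) :
    cf (A := A) f m = cf g m := by
  rw [← sub_eq_zero, ← Module.forall_dual_apply_eq_zero_iff k]
  intro θ
  rw [map_sub, apply_cf, apply_cf, h _ (fAct_mem_of_isSubcomod hM θ hm), sub_self]

theorem fAct_antipode {A : Type u} [CommRing A] [HopfAlgebra k A] (θ : A →ₗ[k] k) (a : A) :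
    fAct A θ (HopfAlgebraStruct.antipode (R := k) a) =
      HopfAlgebraStruct.antipode (R := k) (cf (A := A) (θ ∘ₗ HopfAlgebraStruct.antipode (R := k)) a) := by
  change TensorProduct.rid k A (θ.lTensor A (Coalgebra.comul (R := k) (HopfAlgebraStruct.antipode (R := k) a))) = _
  rw [comul_antipode]
  change _ = HopfAlgebraStruct.antipode (R := k)
    (TensorProduct.lid k A (LinearMap.rTensor A _ (Coalgebra.comul (R := k) a)))
  induction Coalgebra.comul (R := k) a with
  | zero => simp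
  | add p q hp hq => simp only [map_add, hp, hq]
  | tmul p q => simp [map_smul]

theorem lr_extension (φ : AQ →ₐc[k] AG) (hφ : Function.Injective φ) (ψ : AG →ₐc[k] AK)
    (hψ : Function.Surjective ψ)
    (hker : RingHom.ker (ψ : AG →ₐ[k] AK) =
      Ideal.map (φ : AQ →ₐ[k] AG) (RingHom.ker (Bialgebra.counitAlgHom k AQ)))
    (hK : HopfRep.IsLinearlyReductive k AK) (hQ : HopfRep.IsLinearlyReductive k AQ) :
    HopfRep.IsLinearlyReductive k AG := by
  classical
  obtain ⟨αK, hαK⟩ := exists_isIntegral hK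
  obtain ⟨αQ, hαQ⟩ := exists_isIntegral hQ
  refine isLinearlyReductive_of_lift fun V _ _ cV hfin π hπ hπc => ?_
  have hv0 : ∃ v0 : V, π v0 = 1 ∧ ∀ θ : AK →ₗ[k] k,
      fAct V (θ ∘ₗ (ψ : AG →ₗ[k] AK)) v0 = θ 1 • v0 := by
    let cK : HopfRep.Comod k AK V := push (ψ : AG →ₗc[k] AK) cV
    letI := HopfRep.Comod.trivial k AK k
    have hπK : @Hoch.IsComodHom k _ AK _ _ _ V _ _ cK k _ _ _ π := LinearMap.ext fun v => by
      change (π v) ⊗ₜ[k] (1 : AK) = π.rTensor AK ((ψ : AG →ₗ[k] AK).lTensor V (cV.coact v))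
      rw [← LinearMap.comp_apply, LinearMap.rTensor_comp_lTensor, ← LinearMap.lTensor_comp_rTensor,
        LinearMap.comp_apply, hπc, LinearMap.lTensor_tmul]
      exact congrArg _ (map_one ψ).symm
    obtain ⟨v0, hv0, hv01⟩ := hαK.exists_fixed_lift (f := π) hπK hπ (w := (1 : k)) rfl
    refine ⟨v0, hv01, fun θ => ?_⟩
    have h1 := (@mem_fixedPts_iff_fAct k _ AK _ _ V _ _ cK v0).1 hv0 θ
    refine Eq.trans ?_ h1
    rw [fAct_apply, LinearMap.lTensor_comp_apply]
    exact (@fAct_apply k _ AK _ _ _ V _ _ cK θ v0).symm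
  obtain ⟨v0, hπv0, hv0⟩ := hv0
  obtain ⟨θ, hθ⟩ := exists_extend_inj (f := (φ : AQ →ₗ[k] AG)) (LinearMap.ker_eq_bot.2 hφ)
    (αQ ∘ₗ HopfAlgebraStruct.antipode (R := k))
  have hθ1 : θ 1 = 1 := by
    have := LinearMap.congr_fun hθ 1
    rw [LinearMap.comp_apply, LinearMap.comp_apply, HopfAlgebra.antipode_one, hαQ.2] at this
    rwa [show (φ : AQ →ₗ[k] AG) 1 = 1 from map_one φ] at this
  have hv' : π (fAct V θ v0) = 1 := by
    rw [← apply_cf, show cf (A := AG) π v0 = (1 : AG) by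
      rw [cf_apply, hπc, TensorProduct.lid_tmul, hπv0, one_smul], hθ1]
  refine ⟨fAct V θ v0, mem_fixedPts_iff_fAct.2 fun θ' => ?_, by rw [hv']; exact one_ne_zero⟩
  rw [← sub_eq_zero, ← Module.forall_dual_apply_eq_zero_iff k]
  intro f
  obtain ⟨c, hc⟩ := range_of_fixed φ ψ hψ hker (a := cf (A := AG) f v0) fun θ'' => by
    rw [← fAct_comm_of_isComodHom (isComodHom_cf f), hv0, map_smul]
  have hrey : fAct AQ (αQ ∘ₗ HopfAlgebraStruct.antipode (R := k)) c =
      algebraMap k AQ (Coalgebra.counit (R := k)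
        (fAct AQ (αQ ∘ₗ HopfAlgebraStruct.antipode (R := k)) c)) := by
    have h1 : rey AQ αQ c = fAct AQ (αQ ∘ₗ HopfAlgebraStruct.antipode (R := k)) c := by
      rw [rey_apply, fAct_apply]
    have h2 : Coalgebra.comul (R := k) (rey AQ αQ c) = (rey AQ αQ c) ⊗ₜ[k] (1 : AQ) := hαQ.rey_mem c
    rw [← h1]
    have h3 := congrArg (TensorProduct.lid k AQ)
      (congrArg ((Coalgebra.counit (R := k) (A := AQ)).rTensor AQ) h2)
    rwa [Coalgebra.rTensor_counit_comul, LinearMap.rTensor_tmul, TensorProduct.lid_tmul,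
      TensorProduct.lid_tmul, one_smul, ← Algebra.algebraMap_eq_smul_one] at h3
  obtain ⟨r, hr⟩ : ∃ r : k, cf (A := AG) f (fAct V θ v0) = algebraMap k AG r := by
    refine ⟨Coalgebra.counit (R := k) (fAct AQ (αQ ∘ₗ HopfAlgebraStruct.antipode (R := k)) c), ?_⟩
    rw [fAct_comm_of_isComodHom (isComodHom_cf f), ← hc, fAct_map, hθ]
    conv_lhs => rw [hrey]
    exact (φ : AQ →ₐ[k] AG).commutes _
  have hr' : f (fAct V θ v0) = r := by
    have := apply_cf (A := AG) Coalgebra.counit f (fAct V θ v0)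
    rw [hr, Bialgebra.counit_algebraMap, fAct_counit, LinearMap.id_apply] at this
    exact this.symm
  rw [map_sub, map_smul, ← apply_cf, hr, hr', Algebra.algebraMap_eq_smul_one, map_smul, smul_eq_mul,
    smul_eq_mul, mul_comm, sub_self]

theorem lr_quotient (φ : AQ →ₐc[k] AG) (hφ : Function.Injective φ)
    (hG : HopfRep.IsLinearlyReductive k AG) : HopfRep.IsLinearlyReductive k AQ := by
  obtain ⟨α, hα⟩ := exists_isIntegral hG
  refine lr_of_isIntegral (α := α ∘ₗ (φ : AQ →ₗ[k] AG)) ⟨fun c => ?_, ?_⟩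
  · have h := hα.1 (φ c)
    rw [← CoalgHomClass.map_comp_comul_apply φ c] at h
    refine Module.Flat.lTensor_preserves_injective_linearMap (M := k) (φ : AQ →ₗ[k] AG) hφ ?_
    rw [LinearMap.lTensor_tmul, show (φ : AQ →ₗ[k] AG) 1 = 1 from map_one φ,
      show (α ∘ₗ (φ : AQ →ₗ[k] AG)) c = α (φ c) from rfl, ← h]
    induction Coalgebra.comul (R := k) c with
    | zero => simp
    | add p q hp hq => simp only [map_add, hp, hq]
    | tmul p q => simp
  · change α (φ 1) = 1
    rw [map_one, hα.2]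

theorem lr_kernel (φ : AQ →ₐc[k] AG) (ψ : AG →ₐc[k] AK) (hψ : Function.Surjective ψ)
    (hker : RingHom.ker (ψ : AG →ₐ[k] AK) =
      Ideal.map (φ : AQ →ₐ[k] AG) (RingHom.ker (Bialgebra.counitAlgHom k AQ)))
    (hG : HopfRep.IsLinearlyReductive k AG) : HopfRep.IsLinearlyReductive k AK := by
  classical
  let P : Submodule k AG := LinearMap.range (φ : AQ →ₗ[k] AG)
  have hP : HopfRep.IsSubcomod (k := k) (A := AG) P := isSubcomod_iff.2 fun θ v hv => by
    obtain ⟨c, rfl⟩ := hv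
    exact ⟨_, (fAct_map φ θ c).symm⟩
  obtain ⟨M, hM, hc⟩ := isSemisimpleComod_of_isLinearlyReductive hG AG P hP
  -- right invariant functionals vanish on the complement
  have hvan : ∀ f : Module.Dual k AG,
      (∀ x ∈ M, ∀ θ : AK →ₗ[k] k, f (fAct AG (θ ∘ₗ (ψ : AG →ₗ[k] AK)) x) = θ 1 * f x) →
      ∀ m ∈ M, f m = 0 := by
    intro f hf
    have hrange : ∀ m ∈ M, ∃ c, φ c = cf (A := AG) f m := by
      intro m hm
      have hleft : ∀ g : AK →ₗ[k] k, cf (A := AG) (g ∘ₗ (ψ : AG →ₗ[k] AK)) (cf (A := AG) f m) =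
          g 1 • cf (A := AG) f m := by
        intro g
        have h1 : cf (A := AG) (g ∘ₗ (ψ : AG →ₗ[k] AK)) (cf (A := AG) f m) =
            cf (A := AG) ((g ∘ₗ (ψ : AG →ₗ[k] AK)) ∘ₗ cf (A := AG) f) m := by
          have h2 : Coalgebra.comul (R := k) (cf (A := AG) f m) =
              (cf (A := AG) f).rTensor AG (HopfRep.Comod.coact (k := k) (A := AG) m) :=
            LinearMap.congr_fun (isComodHom_cf f) m
          change TensorProduct.lid k AG ((g ∘ₗ (ψ : AG →ₗ[k] AK)).rTensor AG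
            (Coalgebra.comul (R := k) (cf (A := AG) f m))) = _
          rw [h2, ← LinearMap.rTensor_comp_apply]
          rfl
        rw [h1, ← LinearMap.smul_apply, ← cf_smul]
        refine cf_congr hM (fun x hx => ?_) hm
        rw [LinearMap.comp_apply, apply_cf, hf x hx g]
        rfl
      obtain ⟨c, hc'⟩ := range_of_fixed φ ψ hψ hker
        (a := HopfAlgebraStruct.antipode (R := k) (cf (A := AG) f m)) fun θ => by
        have h3 : (θ ∘ₗ (ψ : AG →ₗ[k] AK)) ∘ₗ HopfAlgebraStruct.antipode (R := k) =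
            (θ ∘ₗ HopfAlgebraStruct.antipode (R := k)) ∘ₗ (ψ : AG →ₗ[k] AK) :=
          LinearMap.ext fun x => congrArg θ (Groth.L25.Char.bialgHom_antipode ψ x)
        rw [fAct_antipode, h3, hleft, map_smul, LinearMap.comp_apply, HopfAlgebra.antipode_one]
      exact ⟨HopfAlgebraStruct.antipode (R := k) c, by
        refine (Groth.L25.Char.bialgHom_antipode φ c).trans ?_
        rw [hc']
        exact antipode_antipode_apply _⟩
    have hK0 : HopfRep.IsSubcomod (k := k) (A := AG) (M ⊓ LinearMap.ker (cf (A := AG) f)) :=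
      isSubcomod_iff.2 fun θ v hv => ⟨fAct_mem_of_isSubcomod hM θ hv.1,
        fAct_mem_of_isSubcomod (isSubcomod_ker (isComodHom_cf f)) θ hv.2⟩
    obtain ⟨H, hH, hcH⟩ := isSemisimpleComod_of_isLinearlyReductive hG AG _ hK0
    intro m hm
    have hmem : m ∈ (M ⊓ LinearMap.ker (cf (A := AG) f)) ⊔ H := by
      rw [hcH.sup_eq_top]
      exact Submodule.mem_top
    obtain ⟨y, hy, h, hh, rfl⟩ := Submodule.mem_sup.1 hmem
    have hhM : h ∈ M := (Submodule.add_mem_iff_right M hy.1).1 hm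
    have hfix : ∀ θ : AK →ₗ[k] k, fAct AG (θ ∘ₗ (ψ : AG →ₗ[k] AK)) h = θ 1 • h := by
      intro θ
      rw [← sub_eq_zero]
      have hz : fAct AG (θ ∘ₗ (ψ : AG →ₗ[k] AK)) h - θ 1 • h ∈
          (M ⊓ LinearMap.ker (cf (A := AG) f)) ⊓ H := by
        refine ⟨⟨sub_mem (fAct_mem_of_isSubcomod hM _ hhM) (M.smul_mem _ hhM), ?_⟩,
          sub_mem (fAct_mem_of_isSubcomod hH _ hh) (H.smul_mem _ hh)⟩
        obtain ⟨c, hc'⟩ := hrange h hhM
        rw [SetLike.mem_coe, LinearMap.mem_ker, map_sub, map_smul,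
          fAct_comm_of_isComodHom (isComodHom_cf f), ← hc', fixed_of_range φ ψ hker, sub_self]
      rwa [hcH.inf_eq_bot, Submodule.mem_bot] at hz
    have hh0 : h = 0 := by
      obtain ⟨c, hc'⟩ := range_of_fixed φ ψ hψ hker hfix
      have : h ∈ P ⊓ M := ⟨⟨c, hc'⟩, hhM⟩
      rwa [hc.inf_eq_bot, Submodule.mem_bot] at this
    rw [hh0, add_zero]
    have h1 := apply_cf (A := AG) Coalgebra.counit f y
    rw [show cf (A := AG) f y = 0 from hy.2, map_zero, fAct_counit, LinearMap.id_apply] at h1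
    exact h1.symm
  let γ : AG →ₗ[k] k := Coalgebra.counit ∘ₗ P.subtype ∘ₗ P.projectionOnto M hc
  have hγP : ∀ c, γ (φ c) = Coalgebra.counit (R := k) c := fun c => by
    simp only [γ, LinearMap.comp_apply]
    rw [show P.projectionOnto M hc (φ c) = ⟨φ c, c, rfl⟩ from
      Submodule.projectionOnto_apply_left hc (⟨φ c, c, rfl⟩ : P)]
    exact CoalgHomClass.counit_comp_apply φ c
  have hγM : ∀ m ∈ M, γ m = 0 := fun m hm => by
    simp [γ, (Submodule.projectionOnto_apply_eq_zero_iff hc).2 hm]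
  have hdec : ∀ a : AG, ∃ c, ∃ m ∈ M, a = φ c + m := fun a => by
    obtain ⟨p, hp, m, hm, h⟩ := Submodule.mem_sup.1 (hc.sup_eq_top.symm ▸ Submodule.mem_top (x := a))
    obtain ⟨c, rfl⟩ := hp
    exact ⟨c, m, hm, h.symm⟩
  have hγinv : ∀ (θ : AK →ₗ[k] k) (a : AG),
      γ (fAct AG (θ ∘ₗ (ψ : AG →ₗ[k] AK)) a) = θ 1 * γ a := by
    intro θ a
    obtain ⟨c, m, hm, rfl⟩ := hdec a
    rw [map_add, map_add, fixed_of_range φ ψ hker, map_smul, hγM _ (fAct_mem_of_isSubcomod hM _ hm),
      map_add, hγM m hm, add_zero, add_zero, smul_eq_mul]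
  have hγJ : ∀ x ∈ RingHom.ker (ψ : AG →ₐ[k] AK), ∀ a, γ (x * a) = 0 := by
    intro x hx
    rw [hker, Ideal.map] at hx
    induction hx using Submodule.span_induction with
    | zero => simp
    | add p q _ _ hp hq => intro a; rw [add_mul, map_add, hp, hq, add_zero]
    | smul r p _ hp => intro a; rw [smul_eq_mul, mul_comm r p, mul_assoc]; exact hp _
    | mem p hp =>
      obtain ⟨b, hb, rfl⟩ := hp
      have hb0 : Coalgebra.counit (R := k) b = 0 := hb
      intro a
      obtain ⟨c, m, hm, rfl⟩ := hdec a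
      change γ (φ b * (φ c + m)) = 0
      rw [mul_add, map_add, ← map_mul, hγP, Bialgebra.counit_mul, hb0, zero_mul, zero_add]
      refine hvan (γ ∘ₗ LinearMap.mulLeft k (φ b)) (fun x _ θ => ?_) m hm
      change γ (φ b * fAct AG (θ ∘ₗ (ψ : AG →ₗ[k] AK)) x) = θ 1 * γ (φ b * x)
      rw [← hγinv θ]
      congr 1
      rw [fAct_apply, fAct_apply]
      change φ b * _ = TensorProduct.rid k AG (LinearMap.lTensor AG _ (Coalgebra.comul (R := k) (φ b * x)))
      have h4 : TensorProduct.map LinearMap.id (ψ : AG →ₗ[k] AK) (Coalgebra.comul (R := k) (φ b)) =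
          φ b ⊗ₜ[k] (1 : AK) := by
        let bK := Module.Basis.ofVectorSpace k AK
        refine (TensorProduct.equivFinsuppOfBasisRight bK).injective (Finsupp.ext fun i => ?_)
        rw [TensorProduct.equivFinsuppOfBasisRight_apply, TensorProduct.equivFinsuppOfBasisRight_apply,
          LinearMap.lTensor_tmul, TensorProduct.rid_tmul, ← fixed_of_range φ ψ hker b (bK.coord i),
          fAct_apply, ← LinearMap.lTensor_def, ← LinearMap.lTensor_comp_apply]
        rfl
      let Ψ : AG ⊗[k] AG →ₐ[k] AG ⊗[k] AK :=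
        Algebra.TensorProduct.map (AlgHom.id k AG) (ψ : AG →ₐ[k] AK)
      have hΨ : ∀ y, (θ ∘ₗ (ψ : AG →ₗ[k] AK)).lTensor AG y = θ.lTensor AG (Ψ y) := fun y =>
        LinearMap.lTensor_comp_apply _ _ _ _
      rw [hΨ, hΨ, Bialgebra.comul_mul, map_mul,
        show Ψ (Coalgebra.comul (R := k) (φ b)) = φ b ⊗ₜ[k] (1 : AK) from h4]
      induction Ψ (Coalgebra.comul (R := k) x) with
      | zero => simp
      | add p q hp hq => simp only [map_add, mul_add, hp, hq]
      | tmul p q => simp [mul_smul_comm]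
  have hkill : LinearMap.ker (ψ : AG →ₗ[k] AK) ≤ LinearMap.ker γ := fun x hx => by
    have := hγJ x hx 1
    rwa [mul_one] at this
  let β : AK →ₗ[k] k := (LinearMap.ker (ψ : AG →ₗ[k] AK)).liftQ γ hkill ∘ₗ
    ((ψ : AG →ₗ[k] AK).quotKerEquivOfSurjective hψ).symm.toLinearMap
  have hβ : ∀ a, β (ψ a) = γ a := fun a => by
    have : ((ψ : AG →ₗ[k] AK).quotKerEquivOfSurjective hψ).symm (ψ a) = Submodule.Quotient.mk a :=
      (LinearEquiv.symm_apply_eq _).2 rfl
    simp only [β, LinearMap.comp_apply, LinearEquiv.coe_coe, this]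
    rfl
  refine lr_of_isIntegral (α := β) ⟨fun x => ?_, ?_⟩
  · obtain ⟨a, rfl⟩ := hψ x
    apply (TensorProduct.lid k AK).injective
    rw [TensorProduct.lid_tmul, ← sub_eq_zero, ← Module.forall_dual_apply_eq_zero_iff k]
    intro θ
    rw [map_sub, map_smul, smul_eq_mul, hβ, mul_comm, ← hγinv θ a, ← CoalgHomClass.map_comp_comul_apply ψ a,
      fAct_apply, sub_eq_zero]
    change _ = γ (TensorProduct.rid k AG (LinearMap.lTensor AG _ (Coalgebra.comul (R := k) a)))
    induction Coalgebra.comul (R := k) a with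
    | zero => simp
    | add p q hp hq => simp only [map_add, hp, hq]
    | tmul p q => simp [hβ, mul_comm]
  · rw [← map_one ψ, hβ, ← map_one φ, hγP, Bialgebra.counit_one]

end


/-- Let `k` be a field and `1 → K → G → Q → 1` an exact sequence of affine group schemes of finite type
over `k`, written on coordinate rings: `AQ`, `AG`, `AK` are commutative Hopf algebras of finite type
over `k`, `φ : AQ → AG` is an injective bialgebra map (so `G → Q` is faithfully flat) and `ψ : AG →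
AK` is a surjective bialgebra map (so `K` is a closed subgroup of `G`) whose kernel is the ideal
generated by the image under `φ` of the augmentation ideal of `AQ` (so `K` is the kernel of `G →
Q`). Then `G` is linearly reductive — every finite-dimensional comodule is semisimple — if and only
if both `K` and `Q` are. -/
theorem result
    (k : Type u) [Field k]
    (AQ AG AK : Type u) [CommRing AQ] [HopfAlgebra k AQ] [Algebra.FiniteType k AQ]
    [CommRing AG] [HopfAlgebra k AG] [Algebra.FiniteType k AG]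
    [CommRing AK] [HopfAlgebra k AK] [Algebra.FiniteType k AK]
    (φ : AQ →ₐc[k] AG) (hφ : Function.Injective φ)
    (ψ : AG →ₐc[k] AK) (hψ : Function.Surjective ψ)
    (hker : RingHom.ker (ψ : AG →ₐ[k] AK) =
      Ideal.map (φ : AQ →ₐ[k] AG) (RingHom.ker (Bialgebra.counitAlgHom k AQ))) :
    HopfRep.IsLinearlyReductive k AG ↔
      HopfRep.IsLinearlyReductive k AK ∧ HopfRep.IsLinearlyReductive k AQ := by
  exact ⟨fun hG => ⟨lr_kernel φ ψ hψ hker hG, lr_quotient φ hφ hG⟩,
    fun h => lr_extension φ hφ ψ hψ hker h.1 h.2⟩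


end Groth.Agent.S17525
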