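import Groth.Statements.S1753
import Groth.Agent.L10.TopDual.Lichtenbaum

set_option autoImplicit false
set_option linter.style.haveILetI false
set_option backward.defeqAttrib.useBackward true
set_option backward.isDefEq.respectTransparency.types false
set_option backward.isDefEq.respectTransparency false
set_option backward.defeqAttrib.useBackward true
set_option backward.isDefEq.respectTransparency false
universe u
open CategoryTheory AlgebraicGeometry
open Dual

namespace Groth.Agent.S1753

/-- Let U be a variety over a field k (integral, separated and of finite type over k) and F a coherent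
O_U-module with H^d(U, F) ≠ 0. Then dim U ≥ d, and if dim U = d then U is proper over k. -/
theorem result (k : Type u) [Field k] (U : Scheme.{u}) (f : U ⟶ Spec (CommRingCat.of k)) [IsIntegral U] [IsSeparated f] [LocallyOfFiniteType f] [QuasiCompact f] (F : U.Modules) (hF : Coh.IsCoh F) (d : ℕ) (h : Nontrivial (Coh.HH U F d)) : (d : WithBot ℕ∞) ≤ topologicalKrullDim U ∧ (topologicalKrullDim U = d → IsProper f) := by
  letI : U.Over (Spec (CommRingCat.of k)) := ⟨f⟩
  haveI : LocallyOfFiniteType (U ↘ Spec (CommRingCat.of k)) := inferInstanceAs (LocallyOfFiniteType f)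
  haveI : IsLocallyNoetherian U := LocallyOfFiniteType.isLocallyNoetherian f
  haveI : CompactSpace U := QuasiCompact.compactSpace_of_compactSpace f
  haveI : AlgebraicGeometry.IsNoetherian U := {}
  obtain ⟨n, hn, -⟩ := Groth.L22.SchemeDim.exists_dim_closure_eq_trdeg k U (genericPoint U)
  rw [genericPoint_spec U] at hn
  replace hn : topologicalKrullDim U = n :=
    (Groth.L22.SchemeDim.topologicalKrullDim_eq_of_isEmbedding Topology.IsEmbedding.id Set.range_id).symm.trans hn
  have hdn : d ≤ n := by
    by_contra hlt
    haveI := Groth.L10.FMK.subsingleton_HH_of_codim hn.le F 0 (fun y _ => by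
      simpa using ringKrullDim_nonneg_of_nontrivial) d (by omega) (by omega)
    exact not_nontrivial _ h
  refine ⟨hn ▸ (by exact_mod_cast hdn), fun hd => ?_⟩
  by_contra hp
  haveI := Groth.L10.TopDual.subsingleton_top_of_no_proper k f d hd (fun Z i _ _ hZ hpZ => ?_) F hF.1
  · exact not_nontrivial _ h
  · refine hp ?_
    haveI : Surjective i := ⟨Set.range_eq_univ.1 (by
      by_contra hne
      have h1 := Groth.L03.Euler.topologicalKrullDim_add_one_le i.isClosedEmbedding.isClosed_range
        (IrreducibleSpace.isIrreducible_univ U) (Set.subset_univ _) hne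
      rw [Groth.L22.SchemeDim.topologicalKrullDim_eq_of_isEmbedding i.isEmbedding rfl, hZ,
        Groth.L22.SchemeDim.topologicalKrullDim_eq_of_isEmbedding Topology.IsEmbedding.id Set.range_id, hd] at h1
      change (((d + 1 : ℕ) : ℕ∞) : WithBot ℕ∞) ≤ ((d : ℕ∞) : WithBot ℕ∞) at h1
      norm_cast at h1
      omega)⟩
    haveI := isIso_of_isClosedImmersion_of_surjective i
    haveI := hpZ
    have := (inferInstance : IsProper (inv i ≫ i ≫ f))
    rwa [IsIso.inv_hom_id_assoc] at this

end Groth.Agent.S1753
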