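import Groth.Statements.S17535
import Groth.Agent.L09.GoodTop.Closure
-- import your own Groth.Agent.* helpers here

set_option autoImplicit false
universe u
open CategoryTheory AlgebraicGeometry
open StMod

namespace Groth.Agent.S17535

/-- Let `k` be an algebraically closed field, `𝒳` an algebraic stack over `(Sch/Spec k)` for the fppf
topology, `M` an algebraic space over `k` that is quasi-separated over `k`, and `π : 𝒳 ⟶ M` a
quasi-compact and quasi-separated good moduli space. For `k`-points `x₁, x₂` of `𝒳` (functors
`(Sch/Spec k) ⟶ 𝒳` over `(Sch/Spec k)`), the `k`-points `π ∘ x₁` and `π ∘ x₂` of `M` coincide if and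
only if the closures in `|𝒳|` of the points defined by `x₁` and `x₂` have a common point. Here a
good moduli space is a morphism to an algebraic space along which pushforward takes surjections of
quasi-coherent modules to maps surjective on sections over every affine scheme etale over the
target, and for which the canonical map from the functions on any scheme etale over the target to
the sections of the pushforward of the structure sheaf is bijective; cohomologically affine means
the first of these two conditions. (The published statement is for geometric points over an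
arbitrary base, with closures taken in the base change of `𝒳` to the algebraically closed field;
this row is its case where the base is already that field. The published result assumes `𝒳`
quasi-separated; `M` quasi-separated, which its proof uses, is assumed instead.) -/
theorem result
    (k : Type u) [Field k] [IsAlgClosed k]
    (𝒳 : AlgSt.Cat (Spec (CommRingCat.of k))) (h𝒳 : AlgSt.IsAlgStack Scheme.fppfPrecoverage 𝒳)
    (M : AlgSp.Space (Spec (CommRingCat.of k))) (hM : AlgSp.IsQuasiSeparatedSp M.obj)
    (π : 𝒳 ⥤ᵇ AlgSt.ofSp M.obj)
    (hqc : AlgSt.IsQuasiCompactMor Scheme.fppfPrecoverage π) (hqs : AlgSt.IsQuasiSeparatedMor π)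
    (h : StMod.IsGoodModuli π)
    (x₁ x₂ : FibCat.overCat (Over.mk (𝟙 (Spec (CommRingCat.of k)))) ⥤ᵇ 𝒳)
    (t : ↥(Spec (CommRingCat.of k))) :
    BasedFunctor.comp x₁ π = BasedFunctor.comp x₂ π ↔
      (closure {AlgSt.Points.ofChart x₁ t} ∩ closure {AlgSt.Points.ofChart x₂ t}).Nonempty := by
  let τ := Groth.L09.GoodTop.toBase 𝒳
  exact (Groth.L09.GoodTop.comp_eq_iff_closure_inter h𝒳 τ hM π hqc hqs h (𝟙 _) x₁ x₂
    (Groth.L09.GoodTop.isoToBase _ _) (Groth.L09.GoodTop.isoToBase _ _) t).trans
    (Groth.L09.GoodTop.closure_inter_toBase_iff h𝒳 x₁ x₂ _ _ t).symm

end Groth.Agent.S17535
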