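import Mathlib.RingTheory.AdicCompletion.Basic
import Groth.Agent.L02.CAlg.AdicDecay.Completion

set_option autoImplicit false
namespace CAlg
end CAlg
universe u v
open CAlg

namespace Groth.Agent.S17537

/-- For a commutative ring A, an ideal I and an A-module M, the I-adic completion M^ of M is itself
I-adically complete if and only if, for every n, every element of M^ is congruent modulo I^n M^ to
the image of an element of M (the maps M/I^n M → M^/I^n M^ are surjective). -/
theorem result {A : Type u} [CommRing A] (I : Ideal A)
    (M : Type v) [AddCommGroup M] [Module A M] :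
    IsAdicComplete I (AdicCompletion I M) ↔
      ∀ (n : ℕ) (x : AdicCompletion I M), ∃ y : M,
        x - AdicCompletion.of I M y ∈ (I ^ n • ⊤ : Submodule A (AdicCompletion I M)) := by
  exact ⟨fun h n x => L02.CAlg.AdicDecay.exists_sub_of_mem_pow I n x,
    L02.CAlg.AdicDecay.isAdicComplete_of_forall_exists_sub I⟩

end Groth.Agent.S17537
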