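import Groth.Prelude.Def_W4c5adicflatcomplDec
import Mathlib.RingTheory.AdicCompletion.Basic
import Mathlib.RingTheory.AdicCompletion.Functoriality
import Mathlib.LinearAlgebra.Finsupp.Defs
import Groth.Agent.L02.CAlg.AdicDecay.Finsupp

set_option autoImplicit false
namespace CAlg
end CAlg
universe u v w
open W4c5adicflatcompl
open CAlg

namespace Groth.Agent.S17539

/-- For a commutative ring A, an ideal I, a set Z and an A-module M whose I-adic completion M^ is itself
I-adically complete, the canonical map from the I-adic completion of Z →₀ M to the functions Z → M^,
whose z-th coordinate is the completion of evaluation at z, is injective with image the I-adically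
decaying functions Z → M^. (The source states bijectivity of the inverse map, from decaying
functions to the limit of the finitely supported functions Z → M/I^n M, induced by the projections
M^ → M/I^n M; the two formulations are equivalent.) -/
theorem result {A : Type u} [CommRing A] (I : Ideal A) (Z : Type v)
    (M : Type w) [AddCommGroup M] [Module A M] [IsAdicComplete I (AdicCompletion I M)] :
    Function.Injective
        (LinearMap.pi fun z : Z =>
          (AdicCompletion.map I (Finsupp.lapply (M := M) (R := A) z)).restrictScalars A) ∧
      LinearMap.range
        (LinearMap.pi fun z : Z =>
          (AdicCompletion.map I (Finsupp.lapply (M := M) (R := A) z)).restrictScalars A) =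
        decaying I Z (AdicCompletion I M) := by
  exact ⟨L02.CAlg.AdicDecay.coords_injective I, L02.CAlg.AdicDecay.range_coords I⟩

end Groth.Agent.S17539
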