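import Groth.Statements.S1754
import Groth.Agent.L04.H1Kollar
import Groth.Agent.S2725

set_option autoImplicit false
universe u
open LocCoh

namespace Groth.Agent.S1754

theorem finite_H1_of_ass_completion (L : Type u) [CommRing L] [IsDomain L] [IsNoetherianRing L] [IsLocalRing L]
    (h : ∀ P ∈ associatedPrimes (AdicCompletion (IsLocalRing.maximalIdeal L) L) (AdicCompletion (IsLocalRing.maximalIdeal L) L),
      (2 : WithBot ℕ∞) ≤ ringKrullDim (AdicCompletion (IsLocalRing.maximalIdeal L) L ⧸ P)) :
    Module.Finite L (LocCoh.H (IsLocalRing.maximalIdeal L) 1 L) := by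
  refine (Groth.L10.H1Finite.isCoherentPushCompl_iff (J := IsLocalRing.maximalIdeal L) L).1
    ((Groth.Agent.S2725.result L L).2 fun P hP _ => h P ?_)
  rwa [LinearEquiv.AssociatedPrimes.eq (TensorProduct.AlgebraTensorModule.rid L (EGA4.Cpl L) (EGA4.Cpl L))] at hP

/-- Let A be a Noetherian domain and I a nonzero ideal. Suppose that for every prime q containing I and
every associated prime P of the completion B of the local ring A_q, the quotient B/P has dimension
at least 2. Then the local cohomology module H^1_I(A) is a finite A-module. (This is the affine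
form, with coherence of j_*O_U for U = Spec A ∖ V(I) expressed as finiteness of H^1_I(A).) -/
theorem result (A : Type u) [CommRing A] [IsDomain A] [IsNoetherianRing A] (I : Ideal A) (hI : I ≠ ⊥) (h : ∀ (q : PrimeSpectrum A), I ≤ q.asIdeal → ∀ P ∈ associatedPrimes (AdicCompletion (IsLocalRing.maximalIdeal (Localization.AtPrime q.asIdeal)) (Localization.AtPrime q.asIdeal)) (AdicCompletion (IsLocalRing.maximalIdeal (Localization.AtPrime q.asIdeal)) (Localization.AtPrime q.asIdeal)), (2 : WithBot ℕ∞) ≤ ringKrullDim (AdicCompletion (IsLocalRing.maximalIdeal (Localization.AtPrime q.asIdeal)) (Localization.AtPrime q.asIdeal) ⧸ P)) : Module.Finite A (LocCoh.H I 1 A) := by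

    refine Groth.L04.H1Kollar.finite_H1 hI fun q _ hIq =>
      ⟨Localization.AtPrime q, inferInstance, inferInstance, inferInstance, inferInstance, inferInstance, inferInstance,
        finite_H1_of_ass_completion _ (h ⟨q, inferInstance⟩ hIq)⟩

end Groth.Agent.S1754
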