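import Groth.Prelude.Def_W4c5adicflatcomplDec
import Mathlib.RingTheory.AdicCompletion.Basic
import Mathlib.RingTheory.Noetherian.Basic
import Mathlib.RingTheory.Finiteness.Defs
import Mathlib.LinearAlgebra.TensorProduct.Pi
import Groth.Agent.L02.CAlg.AdicDecay.Finite

set_option autoImplicit false
namespace CAlg
end CAlg
universe u v w
open W4c5adicflatcompl
open CAlg

namespace Groth.Agent.S17543

/-- Over a Noetherian ring A which is I-adically complete, for a finitely generated A-module M and a set
Z, the canonical map from M ⊗ (decaying functions Z → A) to functions Z → M is injective and its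
image is the module of decaying functions Z → M. -/
theorem result {A : Type u} [CommRing A] [IsNoetherianRing A] (I : Ideal A)
    [IsAdicComplete I A] (Z : Type v) (M : Type w) [AddCommGroup M] [Module A M]
    [Module.Finite A M] :
    Function.Injective
        ((TensorProduct.piScalarRightHom A A M Z) ∘ₗ ((decaying I Z A).subtype.lTensor M)) ∧
      LinearMap.range
        ((TensorProduct.piScalarRightHom A A M Z) ∘ₗ ((decaying I Z A).subtype.lTensor M)) =
        decaying I Z M := by
  exact ⟨L02.CAlg.AdicDecay.tensorToPi_injective I, L02.CAlg.AdicDecay.range_tensorToPi I⟩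

end Groth.Agent.S17543
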