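import Groth.Prelude.Def_W4c5adicflatcomplDec
import Mathlib.RingTheory.AdicCompletion.Basic
import Mathlib.RingTheory.Noetherian.Basic
import Mathlib.RingTheory.Ideal.Quotient.Operations
import Mathlib.LinearAlgebra.Finsupp.Defs
import Groth.Agent.L02.CAlg.AdicDecay.Finite

set_option autoImplicit false
namespace CAlg
end CAlg
universe u v w
open W4c5adicflatcompl
open CAlg

namespace Groth.Agent.S17544

/-- For a Noetherian ring A which is I-adically complete, a set Z and n ≥ 0, reduction modulo I^n maps
the decaying functions Z → A onto the finitely supported functions Z → A/I^n, and its kernel, the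
decaying functions with all values in I^n, equals I^n times the module of decaying functions; so
(A/I^n) ⊗ F_dec(Z, A) → F_fin(Z, A/I^n) is bijective. -/
theorem result {A : Type u} [CommRing A] [IsNoetherianRing A]
    (I : Ideal A) [IsAdicComplete I A] (Z : Type v) (n : ℕ) :
    (∀ g : Z →₀ A ⧸ I ^ n, ∃ f : decaying I Z A,
        ∀ z, Ideal.Quotient.mk (I ^ n) ((f : Z → A) z) = g z) ∧
      ∀ f : decaying I Z A,
        f ∈ (I ^ n • ⊤ : Submodule A (decaying I Z A)) ↔ ∀ z, (f : Z → A) z ∈ I ^ n := by
  exact ⟨L02.CAlg.AdicDecay.reduction_surjective I n,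
    L02.CAlg.AdicDecay.mem_pow_smul_decaying_iff I n⟩

end Groth.Agent.S17544
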