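import Groth.Prelude.Def_W4c5adicflatcomplDec
import Mathlib.RingTheory.AdicCompletion.Basic
import Mathlib.RingTheory.AdicCompletion.Algebra
import Mathlib.RingTheory.Noetherian.Basic
import Groth.Agent.L02.CAlg.AdicDecay.Finsupp

set_option autoImplicit false
namespace CAlg
end CAlg
universe u v w
open W4c5adicflatcompl
open CAlg

namespace Groth.Agent.S17548

/-- For a Noetherian ring A with I-adic completion Â, a set Z, an I-adically complete A-module M and any
function f : Z → M, there is a unique A-linear map from the module of I-adically decaying functions
Z → Â to M taking, for every z, the function supported at z with value 1 to f z. -/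
theorem result {A : Type u} [CommRing A] [IsNoetherianRing A]
    (I : Ideal A) (Z : Type v) [DecidableEq Z] (M : Type w) [AddCommGroup M] [Module A M]
    [IsAdicComplete I M] (f : Z → M) :
    ∃! φ : decaying I Z (AdicCompletion I A) →ₗ[A] M,
      ∀ z, φ (single I z (1 : AdicCompletion I A)) = f z := by
  exact L02.CAlg.AdicDecay.existsUnique_of_single I (IsNoetherian.noetherian I) f

end Groth.Agent.S17548
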