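import Groth.Prelude.Def_W4c5adicflatcomplDec
import Mathlib.RingTheory.AdicCompletion.Basic
import Mathlib.RingTheory.Noetherian.Basic
import Groth.Agent.L02.CAlg.AdicDecay.Projective

set_option autoImplicit false
namespace CAlg
end CAlg
universe u
open W4c5adicflatcompl
open CAlg

namespace Groth.Agent.S17549

/-- Over a Noetherian ring A with I-adic completion Â, an A-module P is I-adically projective
(I-adically complete, and every A-linear map from P to the target of a surjection between I-adically
complete modules lifts along that surjection) exactly when P is a retract of some module of
I-adically decaying functions Z → Â: there are a set Z, an A-linear map i from P to the decaying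
functions Z → Â and an A-linear map r back with r ∘ i the identity of P. Test modules, P and Z live
in the universe of A. -/
theorem result {A : Type u} [CommRing A] [IsNoetherianRing A]
    (I : Ideal A) (P : Type u) [AddCommGroup P] [Module A P] :
    IsAdicProjective I P ↔
      ∃ (Z : Type u) (i : P →ₗ[A] decaying I Z (AdicCompletion I A))
        (r : decaying I Z (AdicCompletion I A) →ₗ[A] P), r ∘ₗ i = LinearMap.id := by
  exact L02.CAlg.AdicDecay.isAdicProjective_iff_exists_split I (IsNoetherian.noetherian I) P

end Groth.Agent.S17549
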