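import Groth.Statements.S1755
import Groth.Agent.L04.H1Kollar
import Groth.Agent.S2725

set_option autoImplicit false
universe u
open LocCoh

namespace Groth.Agent.S1755

theorem finite_H1_of_ass_completion (L : Type u) [CommRing L] [IsDomain L] [IsNoetherianRing L] [IsLocalRing L]
    (h : ∀ P ∈ associatedPrimes (AdicCompletion (IsLocalRing.maximalIdeal L) L) (AdicCompletion (IsLocalRing.maximalIdeal L) L),
      (2 : WithBot ℕ∞) ≤ ringKrullDim (AdicCompletion (IsLocalRing.maximalIdeal L) L ⧸ P)) :
    Module.Finite L (LocCoh.H (IsLocalRing.maximalIdeal L) 1 L) := by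
  refine (Groth.L10.H1Finite.isCoherentPushCompl_iff (J := IsLocalRing.maximalIdeal L) L).1
    ((Groth.Agent.S2725.result L L).2 fun P hP _ => h P ?_)
  rwa [LinearEquiv.AssociatedPrimes.eq (TensorProduct.AlgebraTensorModule.rid L (EGA4.Cpl L) (EGA4.Cpl L))] at hP

/-- Kollár's criterion for finiteness of first local cohomology, sufficiency direction, in affine form.
Let A be a Noetherian ring, I an ideal and M a finite A-module. Suppose that for every associated
prime p of M not containing I, every prime q containing both p and I, and every associated prime P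
of the completion C of the local ring A_q/pA_q at its maximal ideal, the quotient C/P has Krull
dimension at least 2. Then H¹_I(M) is a finite A-module. (The criterion is an equivalence; only this
implication is asserted here.) -/
theorem result (A : Type u) [CommRing A] [IsNoetherianRing A] (I : Ideal A) (M : Type u) [AddCommGroup M] [Module A M] [Module.Finite A M] (h : ∀ p : Ideal A, p ∈ associatedPrimes A M → ¬ I ≤ p → ∀ (q : PrimeSpectrum A), p ≤ q.asIdeal → I ≤ q.asIdeal → ∀ P ∈ associatedPrimes (AdicCompletion ((IsLocalRing.maximalIdeal (Localization.AtPrime q.asIdeal)).map (Ideal.Quotient.mk (p.map (algebraMap A (Localization.AtPrime q.asIdeal))))) (Localization.AtPrime q.asIdeal ⧸ p.map (algebraMap A (Localization.AtPrime q.asIdeal)))) (AdicCompletion ((IsLocalRing.maximalIdeal (Localization.AtPrime q.asIdeal)).map (Ideal.Quotient.mk (p.map (algebraMap A (Localization.AtPrime q.asIdeal))))) (Localization.AtPrime q.asIdeal ⧸ p.map (algebraMap A (Localization.AtPrime q.asIdeal)))), (2 : WithBot ℕ∞) ≤ ringKrullDim (AdicCompletion ((IsLocalRing.maximalIdeal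 (Localization.AtPrime q.asIdeal)).map (Ideal.Quotient.mk (p.map (algebraMap A (Localization.AtPrime q.asIdeal))))) (Localization.AtPrime q.asIdeal ⧸ p.map (algebraMap A (Localization.AtPrime q.asIdeal))) ⧸ P)) : Module.Finite A (LocCoh.H I 1 M) := by

    refine Groth.L10.H1Finite.finite_H1_of_ass I _ M le_rfl fun p hp hpI => ?_
    haveI := hp.1
    rw [← Groth.L10.H1Finite.finite_H1_quot_iff]
    refine Groth.L04.H1Kollar.finite_H1 ?_ fun Q _ hQ => ?_
    · exact fun h0 => hpI fun x hx => Ideal.Quotient.eq_zero_iff_mem.1 (by
        simpa [h0] using Ideal.mem_map_of_mem (Ideal.Quotient.mk p) hx)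
    let q : PrimeSpectrum A := ⟨Q.comap (Ideal.Quotient.mk p), inferInstance⟩
    have hpq : p ≤ q.asIdeal := Ideal.mk_ker.ge.trans (Ideal.comap_mono bot_le)
    let L := Localization.AtPrime q.asIdeal ⧸ p.map (algebraMap A (Localization.AtPrime q.asIdeal))
    letI : Algebra (A ⧸ p) L := (Ideal.quotientMap (p.map (algebraMap A (Localization.AtPrime q.asIdeal)))
      (algebraMap A (Localization.AtPrime q.asIdeal)) Ideal.le_comap_map).toAlgebra
    haveI : IsLocalization (q.asIdeal.primeCompl.map (Ideal.Quotient.mk p)) L := by
      haveI : IsScalarTower A (A ⧸ p) L := IsScalarTower.of_algebraMap_eq fun _ => rfl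
      exact IsLocalization.of_surjective q.asIdeal.primeCompl (Localization.AtPrime q.asIdeal) (Ideal.Quotient.mk p)
        Ideal.Quotient.mk_surjective (Ideal.Quotient.mk _) Ideal.Quotient.mk_surjective rfl
        (by rw [Ideal.mk_ker, Ideal.mk_ker])
    have hmap : q.asIdeal.primeCompl.map (Ideal.Quotient.mk p) = Q.primeCompl := by
      ext x
      obtain ⟨a, rfl⟩ := Ideal.Quotient.mk_surjective x
      exact ⟨fun ⟨b, hb, he⟩ => he ▸ hb, fun ha => ⟨a, ha, rfl⟩⟩
    haveI : IsLocalization.AtPrime L Q := by
      unfold IsLocalization.AtPrime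
      rw [← hmap]
      infer_instance
    haveI : IsLocalRing L := IsLocalization.AtPrime.isLocalRing L Q
    haveI : IsDomain L := IsLocalization.isDomain_of_le_nonZeroDivisors (R := A ⧸ p) (M := Q.primeCompl) L Q.primeCompl_le_nonZeroDivisors
    refine ⟨L, inferInstance, inferInstance, inferInstance, inferInstance, inferInstance, inferInstance,
      finite_H1_of_ass_completion L ?_⟩
    have hm : IsLocalRing.maximalIdeal L = (IsLocalRing.maximalIdeal (Localization.AtPrime q.asIdeal)).map
        (Ideal.Quotient.mk (p.map (algebraMap A (Localization.AtPrime q.asIdeal)))) :=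
      (IsLocalRing.map_maximalIdeal_of_surjective _ Ideal.Quotient.mk_surjective).symm
    rw [hm]
    exact h p hp hpI q hpq (Ideal.map_le_iff_le_comap.1 hQ)

end Groth.Agent.S1755
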