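import Groth.Prelude.Def_W4c5adicflatcomplDec
import Mathlib.RingTheory.AdicCompletion.Basic
import Groth.Agent.L02.CAlg.AdicDecay.Sum

set_option autoImplicit false
namespace CAlg
end CAlg
universe u v w
open W4c5adicflatcompl
open CAlg

namespace Groth.Agent.S17553

/-- Let A be I-adically complete, M an I-adically complete A-module, Z a set and f : Z → M a function.
There is an A-linear map from the I-adically decaying functions Z → A to M whose value on g is the
I-adically convergent sum of the g z • f z. -/
theorem result {A : Type u} [CommRing A] (I : Ideal A) [IsAdicComplete I A]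
    (Z : Type v) (M : Type w) [AddCommGroup M] [Module A M] [IsAdicComplete I M] (f : Z → M) :
    ∃ φ : decaying I Z A →ₗ[A] M, ∀ (g : decaying I Z A) (n : ℕ), ∃ S : Finset Z,
      (∀ z, z ∉ S → (g : Z → A) z • f z ∈ (I ^ n • ⊤ : Submodule A M)) ∧
      φ g - (∑ z ∈ S, (g : Z → A) z • f z) ∈ (I ^ n • ⊤ : Submodule A M) := by
  exact ⟨L02.CAlg.AdicDecay.sumMap I f, fun g => L02.CAlg.AdicDecay.isAdicSum_sumMap I f g⟩

end Groth.Agent.S17553
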