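import Groth.Statements.S17554
import Groth.Agent.L06.RootLines.CentRed

set_option linter.style.haveILetI false
set_option backward.isDefEq.respectTransparency.types false
set_option maxHeartbeats 1000000

set_option autoImplicit false
set_option maxSynthPendingDepth 3
set_option linter.style.haveILetI false
universe u v
open CategoryTheory MonoidalCategory CartesianMonoidalCategory MonObj GrpObj AlgebraicGeometry
open LieWt

namespace Groth.Agent.S17554

/-- Let k be an algebraically closed field, G an affine, smooth, connected k-group scheme and i : T ⟶ G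
a maximal torus (maximal among the subtori of G) which is its own scheme-theoretic centralizer.
Suppose that for every root α of (G, T), that is every non-trivial character of T whose weight space
for the adjoint action of T on the Lie algebra of G over k is non-zero, and for the largest subtorus
j : T_α ⟶ T killed by α (a subtorus on which α is trivial and through which every subtorus of T
killed by α factors), every scheme-theoretic centralizer of T_α in G is a reductive k-group (affine,
smooth, connected reductive geometric fibre). Then G is reductive. (The direct implication,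
reductivity of torus centralizers in a reductive group, is not restated here.) -/
theorem result (k : Type u) [Field k] [IsAlgClosed k]
    (G : Over (Spec (CommRingCat.of k))) [GrpObj G] [IsAffine G.left] [Smooth G.hom] [ConnectedSpace ↥G.left]
    (T : Over (Spec (CommRingCat.of k))) [GrpObj T] (i : T ⟶ G) (hT : AGF.IsMaxTorus i)
    (hZT : Red.IsCentralizerOf i i)
    (h : ∀ (α : T ⟶ Red.Gm (Spec (CommRingCat.of k))), LieWt.IsRoot i α →
      ∀ (Ta : Over (Spec (CommRingCat.of k))) [GrpObj Ta] (j : Ta ⟶ T) [IsMonHom j] [Mono j],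
      Red.IsTorus Ta → j ≫ α = 1 →
      (∀ (T' : Over (Spec (CommRingCat.of k))) [GrpObj T'] (j' : T' ⟶ T) [IsMonHom j'] [Mono j'],
        Red.IsTorus T' → j' ≫ α = 1 → ∃ f : T' ⟶ Ta, f ≫ j = j') →
        ∀ (Z : Over (Spec (CommRingCat.of k))) [GrpObj Z] (z : Z ⟶ G), Red.IsCentralizerOf (j ≫ i) z → Red.IsReductive Z) :
    Red.IsReductive G := by
  classical
  haveI := hT.1
  haveI := hT.2.1
  haveI : IsAffineHom G.hom := isAffineHom_of_isAffine _
  -- coordinates
  obtain ⟨r, hr⟩ := Groth.L08.Borel.exists_split_rank hT.2.2.1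
  obtain ⟨e, he, he'⟩ := Groth.L06.RootLines.exists_isoTT hr
  haveI := he
  haveI := he'
  obtain ⟨A, _, _, ⟨eA⟩⟩ := Groth.L25.Bridge.exists_hopf (R := k) G
  let eq : G ≅ Groth.L25.Bridge.P k A := (Grp.forget _).mapIso eA
  haveI : IsMonHom eq.hom := eA.hom.hom.isMonHom_hom
  haveI : IsIso eq.hom := eq.isIso_hom
  obtain ⟨hft, -⟩ := Groth.L06.RootLines.smooth_props eq.hom
  haveI := hft
  obtain ⟨φ, hφ⟩ := Groth.L08.TorusQuot.exists_sp (e.hom ≫ i ≫ eq.hom)
  let D : Groth.L06.RootLines.Coords G T i := { r := r, A := A, eq := eq, e := e, φ := φ, hφ := hφ }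
  obtain ⟨R, gR, u, hR⟩ := Groth.L25.RedField.exists_unipotentRadical G
  obtain ⟨hum, huc, hun, hRs, hRc, hRns⟩ := Groth.L14.Luna.unipotentRadical_data hR
  haveI := hum; haveI := huc; haveI := hRs; haveI := hRc
  haveI : IsAffine R.left := isAffine_of_isAffineHom u.left
  haveI : Mono u := Groth.L08.mono_of_closedImmersion u
  have hR1 : 𝟙 R = 1 := by
    by_cases hw : ∀ a, a ≠ 0 → Groth.L06.RootLines.Wt D.φ a = ⊥
    · haveI := Groth.L06.RootLines.isIso_of_no_weight D hT hZT hw
      haveI : IsMonHom (CategoryTheory.inv i) := inferInstanceAs (IsMonHom (asIso i).inv)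
      have hsol : Red.IsSolvableGrp R := Groth.L08.Borel.isSolvableGrp_of_mono (u ≫ CategoryTheory.inv i)
        (Groth.L06.RootLines.isSolvableGrp_split hr)
      have h1 : u ≫ CategoryTheory.inv i = 1 := Groth.L14.Luna.hom_torus_eq_one hsol hRns hT.2.2.1 _
      rw [← cancel_mono (u ≫ CategoryTheory.inv i), Category.id_comp, h1, MonObj.comp_one]
    push Not at hw
    obtain ⟨a₁, ha₁, hW₁⟩ := hw
    refine Groth.L06.RootLines.id_eq_one_of_traces D ha₁ hW₁ u hun fun a ha hW => ?_
    obtain ⟨r', p, a₀, hp, ha₀, hker, hpa, -⟩ := Groth.L14.Luna.SemiRank.exists_line_proj ha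
    refine ⟨r', p, hpa, fun X x hx => ?_⟩
    haveI := Groth.L06.CoxeterElt.isClosedImmersion_dP k p hp
    haveI : Mono (Groth.L06.CoxeterElt.dP k p) := Groth.L08.mono_of_closedImmersion _
    haveI : IsMonHom (Groth.L06.CoxeterElt.dP k p ≫ D.e.hom) := inferInstance
    haveI : Mono (Groth.L06.CoxeterElt.dP k p ≫ D.e.hom) := inferInstance
    let j : Groth.L06.CoxeterElt.TT k r' ⟶ T := Groth.L06.CoxeterElt.dP k p ≫ D.e.hom
    have hjS := Groth.L06.CoxeterElt.isTorus_TT k r'
    have hjch : ∀ {r'' : ℕ} (q : (Fin D.r → ℤ) →+ (Fin r'' → ℤ)) (m : Fin D.r → ℤ),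
        (Groth.L06.CoxeterElt.dP k q ≫ D.e.hom) ≫ D.ch m = Groth.L06.RootLines.chT k (q m) := fun q m => by
      rw [Groth.L06.RootLines.Coords.ch, Category.assoc, Iso.hom_inv_id_assoc, Groth.L06.RootLines.chT,
        ← Category.assoc, Groth.L06.RootLines.dP_toDS, Category.assoc, Groth.L06.RootLines.chT, Red.chi,
        Groth.L25.TorusTorsion.DSmap_comp]
      congr 2
      exact AddMonoidHom.ext_int (by simp)
    have hjα : j ≫ D.ch a = 1 := by rw [hjch, hpa, Groth.L06.RootLines.chT_zero]
    haveI : IsMonHom (j ≫ i) := inferInstance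
    haveI : Mono (j ≫ i) := mono_comp _ _
    obtain ⟨Z, gZ, z, hz⟩ := Groth.L08.Borel.exists_centralizer_torus (j ≫ i) hjS
    obtain ⟨hzc, hZa, hZs, hZc, -, -⟩ := Groth.L08.Borel.centralizer_props hjS hz
    haveI := hzc; haveI := hZa; haveI := hZs; haveI := hZc; haveI := hz.1; haveI := hz.2.1
    have hmax : ∀ (T' : Over (Spec (CommRingCat.of k))) [GrpObj T'] (j' : T' ⟶ T) [IsMonHom j'] [Mono j'],
        Red.IsTorus T' → j' ≫ D.ch a = 1 → ∃ f : T' ⟶ Groth.L06.CoxeterElt.TT k r', f ≫ j = j' := by
      intro T' _ j' _ _ hT' hj'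
      obtain ⟨r'', e2, he2, he2'⟩ := Groth.L06.CoxeterElt.exists_iso_TT k hT'
      haveI := he2'
      obtain ⟨q, hq⟩ := Groth.L06.CoxeterElt.exists_dP k (e2.inv ≫ j' ≫ D.e.inv)
      have hqa : q a = 0 := by
        refine Groth.L06.RootLines.chT_injective (k := k) ?_
        rw [← hjch, Groth.L06.RootLines.chT_zero, ← hq]
        simp only [Category.assoc, Iso.inv_hom_id_assoc, hj', MonObj.comp_one]
      have hqker : ∀ x, p x = 0 → q x = 0 := fun x hx => by
        obtain ⟨n, rfl⟩ := (hker x).1 hx
        obtain ⟨n₀, rfl⟩ := (hker a).1 hpa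
        rw [map_zsmul] at hqa ⊢
        have hn₀ : n₀ ≠ 0 := fun h0 => ha (by rw [h0, zero_smul])
        rw [(smul_eq_zero.1 hqa).resolve_left hn₀, smul_zero]
      let q' : (Fin r' → ℤ) →+ (Fin r'' → ℤ) :=
        AddMonoidHom.liftOfSurjective p hp ⟨q, fun x hx => hqker x hx⟩
      have hqq : q'.comp p = q := AddMonoidHom.ext fun x => by
        simp [q']
      refine ⟨e2.hom ≫ Groth.L06.CoxeterElt.dP k q', ?_⟩
      show (e2.hom ≫ _) ≫ Groth.L06.CoxeterElt.dP k p ≫ D.e.hom = j'
      rw [Category.assoc, ← Category.assoc (Groth.L06.CoxeterElt.dP k q'), Groth.L06.CoxeterElt.dP_comp, hqq, ← hq]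
      simp
    have hroot : LieWt.IsRoot i (D.ch a) := (D.isRoot_ch a).2 ⟨ha, hW⟩
    have hZred := Groth.L25.RedField.isReductiveOver_of_isReductive
      (h (D.ch a) hroot _ j hjS hjα hmax Z z hz)
    have hpb : IsPullback (Limits.pullback.fst u z) (Limits.pullback.snd u z) u z := IsPullback.of_hasPullback _ _
    haveI : Mono (Limits.pullback.fst u z) := inferInstance
    obtain ⟨gV, hVm⟩ := Groth.L14.Luna.exists_grpObj_pullback hpb
    letI := gV
    haveI := hVm
    haveI : IsMonHom (Limits.pullback.snd u z) :=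
      Groth.L08.Borel.isMonHom_of_comp_mono (Limits.pullback.snd u z) z (Limits.pullback.fst u z ≫ u) hpb.w.symm
    have hV := Groth.L14.Luna.isUnipotentRadical_trace hjS hz hR hpb
    obtain ⟨hvm, hvc, hvn, hVs, hVc, hVns⟩ := Groth.L14.Luna.unipotentRadical_data hV
    have hV1 : 𝟙 _ = (1 : Limits.pullback u z ⟶ Limits.pullback u z) := Groth.L14.Luna.id_eq_one_of_isTrivialGrp
      (hZred.2.2.2 _ (Limits.pullback.snd u z) hvc hVs hVc hvn hVns)
    obtain ⟨y, hy⟩ := (hz.2.2 X (x ≫ u)).2 fun Y y s => by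
      have h := hx Y y s
      simp only [j, Category.assoc]
      exact h
    have hl : hpb.lift x y hy.symm = 1 := by rw [← Category.comp_id (hpb.lift x y hy.symm), hV1, MonObj.comp_one]
    rw [← hpb.lift_fst x y hy.symm, hl, MonObj.one_comp]
  refine _root_.isReductive_of_isReductiveOver fun U _ n _ hnc hUs hUc hnn hns => ?_
  haveI := hnc; haveI := hUs; haveI := hUc
  haveI : IsAffine U.left := isAffine_of_isAffineHom n.left
  haveI : QuasiCompact U.hom := quasiCompact_of_compactSpace _
  obtain ⟨f, hf⟩ := Groth.L14.Luna.exists_factor_unipotentRadical hR n hnn hUc hns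
  haveI : Mono n := Groth.L08.mono_of_closedImmersion n
  refine Groth.L14.Luna.isTrivialGrp_of_id_eq_one ?_
  have hn1 : n = 1 := by rw [← hf, ← Category.id_comp u, hR1, MonObj.one_comp, MonObj.comp_one]
  rw [← cancel_mono n, Category.id_comp, MonObj.one_comp, hn1]

end Groth.Agent.S17554
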