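import Groth.Statements.S17555
import Groth.Agent.L06.RootLines.Roots

set_option autoImplicit false
set_option maxSynthPendingDepth 3
set_option linter.style.haveILetI false
universe u v
open CategoryTheory MonoidalCategory CartesianMonoidalCategory MonObj GrpObj AlgebraicGeometry
open LieWt

namespace Groth.Agent.S17555

/-- Let k be a field, G a reductive k-group scheme (affine, smooth, with connected reductive geometric
fibre) which is not solvable, and i : T ⟶ G a maximal torus which is split. Then the set of roots of
(G, T) is non-empty: there is a homomorphism α from T to the multiplicative group, different from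
the trivial character, whose weight space for the adjoint action of T on the Lie algebra of G over k
is not reduced to zero. -/
theorem result (k : Type u) [Field k]
    (G T : Over (Spec (CommRingCat.of k))) [GrpObj G] [GrpObj T] (hG : Red.IsReductive G) (hns : ¬ Red.IsSolvableGrp G)
    (i : T ⟶ G) (hT : Red.IsMaximalTorus i) (M : Type) [AddCommGroup M] (hM : Red.IsSplitTorusWith M T) :
    ∃ α : T ⟶ Red.Gm (Spec (CommRingCat.of k)), LieWt.IsRoot i α := by
  classical
  haveI := hT.1; haveI := hT.2.1
  obtain ⟨D⟩ := Groth.L06.RootLines.exists_coords hG hT hM
  obtain ⟨a, ha, hW⟩ := D.exists_weight hG hT fun hi => hns <| by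
    haveI := hi
    haveI : IsMonHom (CategoryTheory.inv i) := inferInstanceAs (IsMonHom (asIso i).inv)
    exact Groth.L08.Borel.isSolvableGrp_of_mono (CategoryTheory.inv i) (Groth.L06.RootLines.isSolvableGrp_split hM)
  exact ⟨D.ch a, (D.isRoot_ch a).2 ⟨ha, hW⟩⟩

end Groth.Agent.S17555
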