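import Groth.Statements.S17557
import Groth.Agent.L06.RootLines.Roots

set_option autoImplicit false
set_option maxSynthPendingDepth 3
set_option linter.style.haveILetI false
universe u v
open CategoryTheory MonoidalCategory CartesianMonoidalCategory MonObj GrpObj AlgebraicGeometry
open LieWt

namespace Groth.Agent.S17557

/-- Let k be a field, G a reductive k-group scheme (affine, smooth, with connected reductive geometric
fibre), i : T ⟶ G a maximal torus which is split, L a Lie algebra over k identified with the Lie
algebra of G over k by a model m, and α a root of (G, T) (a homomorphism to the multiplicative group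
other than the trivial character, with non-zero weight space). Then the weight space of α in L is
one-dimensional over k. (A connected reductive group having a root is not solvable, so
non-solvability is not assumed separately here.) -/
theorem result (k : Type u) [Field k]
    (G T : Over (Spec (CommRingCat.of k))) [GrpObj G] [GrpObj T] (hG : Red.IsReductive G)
    (i : T ⟶ G) (hT : Red.IsMaximalTorus i) (M : Type) [AddCommGroup M] (hM : Red.IsSplitTorusWith M T)
    (L : Type v) [LieRing L] [LieAlgebra k L]
    (m : LieS.Model G k (Spec.map (CommRingCat.ofHom (algebraMap k k))) L)
    (α : T ⟶ Red.Gm (Spec (CommRingCat.of k))) (hα : LieWt.IsRoot i α) :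
    Module.finrank k ↥(LieWt.modelWeightSpOf m i α) = 1 := by
  obtain ⟨D⟩ := Groth.L06.RootLines.exists_coords hG hT hM
  haveI := hα.1
  obtain ⟨a, rfl⟩ := D.exists_ch α
  obtain ⟨ha, hW⟩ := (D.isRoot_ch a).1 hα
  rw [D.finrank_modelWeightSpOf]
  exact (D.root_line hG hT ha hW).1

end Groth.Agent.S17557
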