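import Groth.Statements.S17558
import Groth.Agent.L06.RootLines.Roots

set_option autoImplicit false
set_option maxSynthPendingDepth 3
set_option linter.style.haveILetI false
universe u v
open CategoryTheory MonoidalCategory CartesianMonoidalCategory MonObj GrpObj AlgebraicGeometry
open LieWt

namespace Groth.Agent.S17558

/-- Let k be a field, G a reductive k-group scheme (affine, smooth, with connected reductive geometric
fibre), i : T ⟶ G a maximal torus which is split, and α, β two roots of (G, T) (homomorphisms to the
multiplicative group other than the trivial character, with non-zero weight spaces on the Lie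
algebra of G over k). If β is a rational multiple of α in the character group, that is α ^ m = β ^ n
for some non-zero integers m and n (characters written multiplicatively), then β = α or β = α⁻¹: the
only rational multiples of a root which are roots are the root and its negative. (A connected
reductive group having a root is not solvable, so non-solvability is not assumed separately here.) -/
theorem result (k : Type u) [Field k]
    (G T : Over (Spec (CommRingCat.of k))) [GrpObj G] [GrpObj T] (hG : Red.IsReductive G)
    (i : T ⟶ G) (hT : Red.IsMaximalTorus i) (M : Type) [AddCommGroup M] (hM : Red.IsSplitTorusWith M T)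
    (α β : T ⟶ Red.Gm (Spec (CommRingCat.of k))) (hα : LieWt.IsRoot i α) (hβ : LieWt.IsRoot i β)
    (m n : ℤ) (hm : m ≠ 0) (hn : n ≠ 0) (hmn : α ^ m = β ^ n) :
    β = α ∨ β = α⁻¹ := by
  obtain ⟨D⟩ := Groth.L06.RootLines.exists_coords hG hT hM
  haveI := hα.1
  haveI := hβ.1
  obtain ⟨a, rfl⟩ := D.exists_ch α
  obtain ⟨b, rfl⟩ := D.exists_ch β
  obtain ⟨ha, hW⟩ := (D.isRoot_ch a).1 hα
  obtain ⟨hb, hWb⟩ := (D.isRoot_ch b).1 hβ
  rw [← D.ch_zsmul, ← D.ch_zsmul] at hmn
  have e := D.ch_injective hmn
  have hab : Groth.L06.RootLines.Prop' a b := fun f hf => by
    have h := congrArg f e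
    rw [map_zsmul, map_zsmul, hf, smul_zero, eq_comm, smul_eq_zero] at h
    exact h.resolve_left hn
  rcases (D.root_line hG hT ha hW).2.2 b hb hWb hab with h | h
  · exact Or.inl (congrArg D.ch h)
  · exact Or.inr (by rw [h, D.ch_neg])

end Groth.Agent.S17558
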