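import Groth.Statements.S17559
import Groth.Agent.L06.RootLines.Roots
import Groth.Agent.L25.RedField.WeylInvariant

set_option linter.style.haveILetI false
set_option backward.isDefEq.respectTransparency.types false
set_option maxHeartbeats 1000000

set_option autoImplicit false
set_option maxSynthPendingDepth 3
set_option linter.style.haveILetI false
universe u v
open CategoryTheory MonoidalCategory CartesianMonoidalCategory MonObj GrpObj AlgebraicGeometry
open LieWt

namespace Groth.Agent.S17559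

/-- Let k be an algebraically closed field, H a reductive k-group scheme (affine, smooth, with connected
reductive geometric fibre) which is not solvable, and i : S ⟶ H a maximal torus (maximal among the
subtori of H) such that any two roots of (H, S), that is non-trivial characters of S whose weight
spaces for the adjoint action of S on the Lie algebra of H over k are non-zero, are rational
multiples of each other in the character group. Then S lies in exactly two Borel subgroups of H: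
Borel subgroups b₁ : B₁ ⟶ H and b₂ : B₂ ⟶ H through which i factors, with B₁ not contained in B₂,
such that every Borel subgroup of H through which i factors is contained in B₁ or in B₂; and B₁, B₂
generate H: every closed subgroup scheme of H containing B₁ and B₂ is all of H. (The set of roots is
allowed to be empty in the hypothesis.) -/
theorem result (k : Type u) [Field k] [IsAlgClosed k]
    (H S : Over (Spec (CommRingCat.of k))) [GrpObj H] [GrpObj S] (hH : Red.IsReductive H) (hns : ¬ Red.IsSolvableGrp H)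
    (i : S ⟶ H) (hS : AGF.IsMaxTorus i)
    (hprop : ∀ α β : S ⟶ Red.Gm (Spec (CommRingCat.of k)), LieWt.IsRoot i α → LieWt.IsRoot i β →
      ∃ m n : ℤ, m ≠ 0 ∧ n ≠ 0 ∧ α ^ m = β ^ n) :
    ∃ (B₁ B₂ : Over (Spec (CommRingCat.of k))) (_ : GrpObj B₁) (_ : GrpObj B₂) (b₁ : B₁ ⟶ H) (b₂ : B₂ ⟶ H)
      (t₁ : S ⟶ B₁) (t₂ : S ⟶ B₂),
      Red.IsBorelOver k b₁ ∧ Red.IsBorelOver k b₂ ∧ t₁ ≫ b₁ = i ∧ t₂ ≫ b₂ = i ∧
      (¬ ∃ e : B₁ ⟶ B₂, e ≫ b₂ = b₁) ∧
      (∀ (B : Over (Spec (CommRingCat.of k))) [GrpObj B] (b : B ⟶ H) (t : S ⟶ B), Red.IsBorelOver k b → t ≫ b = i →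
        (∃ e : B ⟶ B₁, e ≫ b₁ = b) ∨ (∃ e : B ⟶ B₂, e ≫ b₂ = b)) ∧
      (∀ (C : Over (Spec (CommRingCat.of k))) [GrpObj C] (c : C ⟶ H) [IsMonHom c], IsClosedImmersion c.left →
        (∃ f₁ : B₁ ⟶ C, f₁ ≫ c = b₁) → (∃ f₂ : B₂ ⟶ C, f₂ ≫ c = b₂) → IsIso c) := by
  classical
  have hC := Groth.L25.RedField.isReductiveOver_of_isReductive hH
  haveI := hC.1; haveI := hC.2.1; haveI := hC.2.2.1
  haveI := hS.1; haveI := hS.2.1
  haveI : IsAffineHom H.hom := isAffineHom_of_isAffine _
  haveI : LocallyOfFiniteType H.hom := inferInstance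
  haveI : IsLocallyNoetherian H.left := LocallyOfFiniteType.isLocallyNoetherian H.hom
  haveI : IrreducibleSpace H.left := Groth.L25.Component.irreducibleSpace H
  haveI : IsReduced H.left := Groth.Agent.AV.isReduced_of_smooth_field H.hom
  -- coordinates
  obtain ⟨r, hr⟩ := Groth.L08.Borel.exists_split_rank hS.2.2.1
  obtain ⟨e, he, he'⟩ := Groth.L06.RootLines.exists_isoTT hr
  haveI := he
  haveI := he'
  obtain ⟨A, _, _, ⟨eA⟩⟩ := Groth.L25.Bridge.exists_hopf (R := k) H
  let eq : H ≅ Groth.L25.Bridge.P k A := (Grp.forget _).mapIso eA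
  haveI : IsMonHom eq.hom := eA.hom.hom.isMonHom_hom
  haveI : IsIso eq.hom := eq.isIso_hom
  obtain ⟨hft, -⟩ := Groth.L06.RootLines.smooth_props eq.hom
  haveI := hft
  obtain ⟨φ, hφ⟩ := Groth.L08.TorusQuot.exists_sp (e.hom ≫ i ≫ eq.hom)
  let D : Groth.L06.RootLines.Coords H S i := { r := r, A := A, eq := eq, e := e, φ := φ, hφ := hφ }
  haveI : IsIso e.hom := e.isIso_hom
  let iT : Groth.L06.CoxeterElt.TT k r ⟶ H := e.hom ≫ i
  have hT : AGF.IsMaxTorus iT := ⟨inferInstance, inferInstance, Groth.L06.CoxeterElt.isTorus_TT k r,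
    fun T' _ j _ _ f hT' hf => by
      haveI := hS.2.2.2 T' j (e.inv ≫ f) hT' (by rw [Category.assoc, hf, Iso.inv_hom_id_assoc])
      exact IsIso.of_isIso_comp_left e.inv f⟩
  haveI := hT.1; haveI := hT.2.1
  have hne : ¬ IsIso iT := fun hi => hns <| by
    haveI := hi
    haveI : IsIso i := IsIso.of_isIso_comp_left e.hom i
    haveI : IsMonHom (CategoryTheory.inv i) := inferInstanceAs (IsMonHom (asIso i).inv)
    exact Groth.L08.Borel.isSolvableGrp_of_mono (CategoryTheory.inv i) (Groth.L06.RootLines.isSolvableGrp_split hr)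
  -- all weights lie on one line
  obtain ⟨a, ha, hW⟩ := Groth.L06.RootLines.exists_weight_ne eq.hom hC hT
    (by rw [hφ, Category.assoc]) hne
  obtain ⟨r', p, a₀, hp, ha₀, hker, hpa, -⟩ := Groth.L14.Luna.SemiRank.exists_line_proj ha
  have hline : ∀ b, b ≠ 0 → Groth.L06.RootLines.Wt φ b ≠ ⊥ → p b = 0 := fun b hb hWb => by
    obtain ⟨m, n, hm, hn, hmn⟩ := hprop (D.ch a) (D.ch b) ((D.isRoot_ch a).2 ⟨ha, hW⟩)
      ((D.isRoot_ch b).2 ⟨hb, hWb⟩)
    rw [← D.ch_zsmul, ← D.ch_zsmul] at hmn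
    have h := congrArg p (D.ch_injective hmn)
    rw [map_zsmul, map_zsmul, hpa, smul_zero, eq_comm, smul_eq_zero] at h
    exact h.resolve_left hn
  haveI : IsDomain A := Groth.L25.Observable.isDomain eq.hom
  haveI : IsNoetherianRing A := Algebra.FiniteType.isNoetherianRing k A
  have hzero : ∀ m b, p m ≠ 0 → Groth.L06.CoxeterElt.piece φ m b = 0 := fun m b hm => by
    obtain ⟨l, hl⟩ := Function.ne_iff.1 hm
    by_contra hx
    obtain ⟨c, y, hc, hy⟩ := Groth.L06.CoxeterElt.exists_weight φ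
      ((Pi.evalAddMonoidHom (fun _ => ℤ) l).comp p) (m := m) (by simpa using hl) hx
    have hc0 : c ≠ 0 := fun e => hc (by simp [e])
    exact hc (by simp [hline c hc0 ((Groth.L06.RootLines.Wt_ne_bot_iff φ hc0).2 ⟨y, hy⟩)])
  have hcom : Groth.L25.Dyn.TorCommutes ((Groth.L06.CoxeterElt.md k p).comp φ) (AlgHom.id k A) :=
    Groth.L06.CoxeterElt.torCommutes_of_pieces φ p _ fun i b hi => hzero i b hi
  -- semisimple rank one
  let Δ : Groth.L14.Luna.SemiRank.Setup H (Groth.L06.CoxeterElt.TT k r) iT :=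
    { M := Fin r → ℤ
      e := Groth.L06.RootLines.toDS k r
      isIso_e := inferInstance
      isMonHom_e := inferInstance
      r := r'
      φ := p
      a₀ := a₀
      ne := ha₀
      ker := hker
      max := hT
      self_centralizing := fun g hg => Groth.L06.CoxeterElt.exists_lift_of_centralizes hC hT hg
      central := fun g => by
        have e1 : Red.DSmap _ p ≫ CategoryTheory.inv (Groth.L06.RootLines.toDS k r) =
            CategoryTheory.inv (Groth.L06.RootLines.toDS k r') ≫ Groth.L06.CoxeterElt.dP k p := by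
          rw [IsIso.eq_inv_comp, ← Category.assoc, IsIso.comp_inv_eq, Groth.L06.RootLines.dP_toDS]
        rw [← Category.assoc, e1, Category.assoc, ← Groth.L08.Borel.comp_conjBy]
        congr 1
        have h1 := Groth.L06.CoxeterElt.commute_of_torCommutes φ p hcom (toUnit _ ≫ g ≫ eq.hom)
          (𝟙 (Groth.L06.CoxeterElt.TT k r'))
        have e2 : Groth.L08.TorusQuot.toPt (WithConv.toConv (AlgHom.id k A)) = 𝟙 (Groth.L25.Bridge.P k A) :=
          Over.OverMorphism.ext (Spec.map_id _)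
        rw [e2, Category.comp_id, Category.id_comp, hφ] at h1
        rw [← cancel_mono eq.hom]
        simp only [AGF.conjBy, MonObj.mul_comp, GrpObj.inv_comp, iT, Category.assoc]
        rw [h1, mul_inv_cancel_right] }
  obtain ⟨B₁, B₂, g₁, g₂, b₁, b₂, u₁, u₂, hB₁, hB₂, hu₁, hu₂, hdist⟩ :=
    Groth.L06.CoxeterElt.exists_two_borels hC hT hne
  haveI := hB₁.1; haveI := hB₂.1
  have hall : ∀ (B : Over (Spec (CommRingCat.of k))) [GrpObj B] (b : B ⟶ H) (t : Groth.L06.CoxeterElt.TT k r ⟶ B),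
      Red.IsBorelOver k b → t ≫ b = iT → (∃ f : B ⟶ B₁, f ≫ b₁ = b) ∨ (∃ f : B ⟶ B₂, f ≫ b₂ = b) := by
    intro B _ b t hB ht
    rcases Δ.trichotomy hB₁ hB₂ hB hu₁ hu₂ ht with h | ⟨f, hf⟩ | ⟨f, hf⟩
    · exact absurd h hdist
    · exact Or.inl ⟨f.inv, by rw [← hf, Iso.inv_hom_id_assoc]⟩
    · exact Or.inr ⟨f.inv, by rw [← hf, Iso.inv_hom_id_assoc]⟩
  refine ⟨B₁, B₂, g₁, g₂, b₁, b₂, e.inv ≫ u₁, e.inv ≫ u₂, hB₁, hB₂, ?_, ?_, ?_, fun B _ b t hB ht =>
    hall B b (e.hom ≫ t) hB (by rw [Category.assoc, ht]), ?_⟩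
  · rw [Category.assoc, hu₁, Iso.inv_hom_id_assoc]
  · rw [Category.assoc, hu₂, Iso.inv_hom_id_assoc]
  · rintro ⟨f, hf⟩
    haveI := hB₁.2.2.2.2.2 B₂ b₂ f hB₂.2.1 hB₂.2.2.1 hB₂.2.2.2.1 hB₂.2.2.2.2.1 hf
    exact hdist ⟨asIso f, hf⟩
  · intro C _ c _ hcl h₁ h₂
    obtain ⟨B, B', gB, gB', iB, iB', v, v', O, hB, hB', hv, hv', hO, hOB⟩ :=
      Groth.L14.Luna.exists_general_position hT
    have hfac : ∀ (B : Over (Spec (CommRingCat.of k))) [GrpObj B] (b : B ⟶ H)
        (t : Groth.L06.CoxeterElt.TT k r ⟶ B), Red.IsBorelOver k b → t ≫ b = iT → ∃ f : B ⟶ C, f ≫ c = b := by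
      intro B _ b t hB ht
      rcases hall B b t hB ht with ⟨f, hf⟩ | ⟨f, hf⟩
      · obtain ⟨f₁, hf₁⟩ := h₁
        exact ⟨f ≫ f₁, by rw [Category.assoc, hf₁, hf]⟩
      · obtain ⟨f₂, hf₂⟩ := h₂
        exact ⟨f ≫ f₂, by rw [Category.assoc, hf₂, hf]⟩
    obtain ⟨f, hf⟩ := hfac B iB v hB hv
    obtain ⟨f', hf'⟩ := hfac B' iB' v' hB' hv'
    have hr : Set.range c.left = Set.univ := by
      have hclr : IsClosed (Set.range c.left) := c.left.isClosedEmbedding.isClosed_range
      have h1 : (Set.univ : Set H.left) ⊆ Set.range c.left ∪ (O : Set H.left)ᶜ :=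
        Groth.L08.Borel.subset_of_pts (X := H) isClosed_univ (hclr.union O.isOpen.isClosed_compl) fun x _ => by
          by_cases hx : Groth.L08.Borel.ptOf x ∈ O
          · obtain ⟨b', b, rfl⟩ := hOB x hx
            refine Or.inl ⟨Groth.L08.Borel.ptOf ((b' ≫ f') * (b ≫ f)), ?_⟩
            have e3 : ((b' ≫ f') * (b ≫ f)) ≫ c = (b' ≫ iB') * (b ≫ iB) := by
              rw [MonObj.mul_comp, Category.assoc, Category.assoc, hf, hf']
            rw [← e3]
            rfl
          · exact Or.inr hx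
      have h2 : (O : Set H.left) ⊆ Set.range c.left := fun x hx => (h1 trivial).resolve_right (not_not.2 hx)
      exact Set.univ_subset_iff.1 ((O.isOpen.dense hO).closure_eq.symm.le.trans (closure_minimal h2 hclr))
    haveI : Surjective c.left := ⟨Set.range_eq_univ.1 hr⟩
    haveI : IsIso c.left := isIso_of_isClosedImmersion_of_surjective _
    haveI : IsIso ((Over.forget _).map c) := ‹IsIso c.left›
    exact isIso_of_reflects_iso c (Over.forget _)

end Groth.Agent.S17559
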