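import Groth.Statements.S1756
import Groth.Agent.S1755
import Groth.Agent.L06.StrictS1
import Groth.Agent.L06.Ratliff
import Groth.Agent.S9126
import Groth.Agent.L04.LC.Codim

set_option autoImplicit false
universe u
open LocCoh

namespace Groth.Agent.S1756

theorem isNoetherianRing_of_loc (A : Type u) [CommRing A] [IsNoetherianRing A] (q : PrimeSpectrum A) :
    IsNoetherianRing (Localization.AtPrime q.asIdeal) :=
  IsLocalization.isNoetherianRing q.asIdeal.primeCompl _ inferInstance

theorem dim_loc (A : Type u) [CommRing A] (p : Ideal A) [p.IsPrime] (q : PrimeSpectrum A) (hpq : p ≤ q.asIdeal) :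
    ringKrullDim (Localization.AtPrime q.asIdeal ⧸ p.map (algebraMap A (Localization.AtPrime q.asIdeal))) =
      ((q.asIdeal.map (Ideal.Quotient.mk p)).height : WithBot ℕ∞) := by
  let L := Localization.AtPrime q.asIdeal ⧸ p.map (algebraMap A (Localization.AtPrime q.asIdeal))
  letI : Algebra (A ⧸ p) L := (Ideal.quotientMap (p.map (algebraMap A (Localization.AtPrime q.asIdeal)))
    (algebraMap A (Localization.AtPrime q.asIdeal)) Ideal.le_comap_map).toAlgebra
  let Q := q.asIdeal.map (Ideal.Quotient.mk p)
  haveI : Q.IsPrime := Ideal.map_isPrime_of_surjective Ideal.Quotient.mk_surjective (by rwa [Ideal.mk_ker])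
  have hmap : q.asIdeal.primeCompl.map (Ideal.Quotient.mk p) = Q.primeCompl := by
    ext x
    obtain ⟨a, rfl⟩ := Ideal.Quotient.mk_surjective x
    refine ⟨fun ⟨b, hb, he⟩ hx => hb ?_, fun ha => ⟨a, fun h => ha (Ideal.mem_map_of_mem _ h), rfl⟩⟩
    rw [← he] at hx
    have : b ∈ (q.asIdeal.map (Ideal.Quotient.mk p)).comap (Ideal.Quotient.mk p) := hx
    rwa [Ideal.comap_map_of_surjective' _ Ideal.Quotient.mk_surjective, Ideal.mk_ker, sup_eq_left.2 hpq] at this
  haveI : IsLocalization.AtPrime L Q := by
    unfold IsLocalization.AtPrime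
    rw [← hmap]
    exact IsLocalization.of_surjective q.asIdeal.primeCompl (Localization.AtPrime q.asIdeal) (Ideal.Quotient.mk p)
      Ideal.Quotient.mk_surjective (Ideal.Quotient.mk _) Ideal.Quotient.mk_surjective
      (RingHom.ext fun _ => rfl) (by rw [Ideal.mk_ker, Ideal.mk_ker])
  exact IsLocalization.AtPrime.ringKrullDim_eq_height Q L

/-- Let A be a universally catenary Noetherian ring and I an ideal such that for every prime q
containing I the formal fibres of A_q satisfy (S_1), and let M be a finite A-module. If for every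
associated prime p of M not containing I and every prime q containing both p and I the longest chain
of primes from p to q has length at least 2, then the local cohomology module H^1_I(M) is a finite
A-module. (Affine form: finiteness of H^1_I(M) stands in for coherence of the pushforward of the
restriction of M~ to Spec A ∖ V(I).) -/
theorem result (A : Type u) [CommRing A] [IsNoetherianRing A] (hA : CAlg.IsUniversallyCatenary A) (I : Ideal A) (hF : ∀ q : PrimeSpectrum A, I ≤ q.asIdeal → EGA4.HasSnFormalFibres 1 (Localization.AtPrime q.asIdeal)) (M : Type u) [AddCommGroup M] [Module A M] [Module.Finite A M] (h : ∀ (p q : PrimeSpectrum A) (hpq : p ≤ q), p.asIdeal ∈ associatedPrimes A M → ¬ I ≤ p.asIdeal → I ≤ q.asIdeal → (2 : ℕ∞) ≤ Order.height (⟨q, hpq⟩ : Set.Ici p)) : Module.Finite A (LocCoh.H I 1 M) := by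

    refine Groth.Agent.S1755.result A I M fun p hp hpI q hpq hIq P hP => ?_
    haveI := hp.1
    haveI := isNoetherianRing_of_loc A q
    let B := Localization.AtPrime q.asIdeal
    let pB := p.map (algebraMap A B)
    haveI : pB.IsPrime := IsLocalization.isPrime_of_isPrime_disjoint q.asIdeal.primeCompl B p inferInstance
      (Set.disjoint_left.mpr fun x hx hxp => hx (hpq hxp))
    haveI : IsLocalRing (B ⧸ pB) := Groth.L01.isLocalRing_quotient (Ideal.IsPrime.ne_top inferInstance)
    have hm : IsLocalRing.maximalIdeal (B ⧸ pB) = (IsLocalRing.maximalIdeal B).map (Ideal.Quotient.mk pB) :=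
      (IsLocalRing.map_maximalIdeal_of_surjective _ Ideal.Quotient.mk_surjective).symm
    have hS : EGA4.IsFormallyStrictlyCatenary B :=
      Groth.L06.StrictS1.main.2 ⟨Groth.L06.Ratliff.main (Groth.Agent.S9126.result A B hA), hF q hIq⟩
    have hd := hS pB
    have h2 : (2 : WithBot ℕ∞) ≤ ringKrullDim (AdicCompletion (IsLocalRing.maximalIdeal (B ⧸ pB)) (B ⧸ pB)) := by
      rw [Groth.L01.CompletionReg.ringKrullDim_completion]
      refine le_of_le_of_eq ?_ (dim_loc A p q hpq).symm
      have := le_of_le_of_eq (h ⟨p, inferInstance⟩ q hpq hp hpI hIq)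
        (Groth.L04.LC.orderHeight_Ici ⟨p, inferInstance⟩ q hpq)
      exact WithBot.coe_le_coe.2 this
    revert hd h2
    rw [hm]
    intro hd h2
    rw [hd P hP]
    exact h2

end Groth.Agent.S1756
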