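import Groth.Statements.S17560
import Groth.Agent.L14.Splitting.CorootSub

set_option autoImplicit false
set_option backward.isDefEq.respectTransparency.types false
set_option linter.style.haveILetI false
universe u v
open CategoryTheory MonoidalCategory CartesianMonoidalCategory MonObj GrpObj AlgebraicGeometry
open LieWt

namespace Groth.Agent.S17560

/-- Let k be a field, G a reductive k-group scheme (affine, smooth, with connected reductive geometric
fibre), i : T ⟶ G a maximal torus which is split, α a root of (G, T) (a homomorphism to the
multiplicative group other than the trivial character, with non-zero weight space on the Lie algebra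
of G over k), j : T_α ⟶ T the largest subtorus of T killed by α (a subtorus on which α is trivial
and through which every subtorus of T killed by α factors), z : Z ⟶ G the scheme-theoretic
centralizer of T_α in G, and d : D ⟶ Z the derived group of Z, pinned as the kernel of a
homomorphism from Z to a commutative k-group scheme which is killed by every homomorphism from Z to
a commutative k-group scheme. Then there is a unique homomorphism λ : 𝔾_m ⟶ T whose composite with i
factors through D (so that λ lands in the subtorus S_α = T ∩ D) and whose composite with α is the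
character t ↦ t² of 𝔾_m: the coroot α^∨, with ⟨α, α^∨⟩ = 2. (The equivalent description through the
conjugation action of α^∨ on a parametrised root group, and the description of α^∨ as an isomorphism
onto S_α when D is isomorphic to SL_2 and as an isogeny of degree 2 onto S_α when D is isomorphic to
the quotient of SL_2 by its centre, are not restated.) -/
theorem result (k : Type u) [Field k]
    (G T : Over (Spec (CommRingCat.of k))) [GrpObj G] [GrpObj T] (hG : Red.IsReductive G)
    (i : T ⟶ G) (hT : Red.IsMaximalTorus i) (M : Type) [AddCommGroup M] (hM : Red.IsSplitTorusWith M T)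
    (α : T ⟶ Red.Gm (Spec (CommRingCat.of k))) (hα : LieWt.IsRoot i α)
    (Ta : Over (Spec (CommRingCat.of k))) [GrpObj Ta] (j : Ta ⟶ T) [IsMonHom j] [Mono j] (hTa : Red.IsTorus Ta) (hjα : j ≫ α = 1)
    (hmax : ∀ (T' : Over (Spec (CommRingCat.of k))) [GrpObj T'] (j' : T' ⟶ T) [IsMonHom j'] [Mono j'],
      Red.IsTorus T' → j' ≫ α = 1 → ∃ f : T' ⟶ Ta, f ≫ j = j')
    (Z : Over (Spec (CommRingCat.of k))) [GrpObj Z] (z : Z ⟶ G) (hz : Red.IsCentralizerOf (j ≫ i) z)
    (D : Over (Spec (CommRingCat.of k))) [GrpObj D] (d : D ⟶ Z) [IsMonHom d]
    (hker : ∃ (C : Over (Spec (CommRingCat.of k))) (_ : GrpObj C) (f₀ : Z ⟶ C), IsMonHom f₀ ∧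
      (∀ (X : Over (Spec (CommRingCat.of k))) (a b : X ⟶ C), a * b = b * a) ∧ AlgGrp.IsKernel d f₀)
    (hkill : RedSub.KilledByCommutative d) :
    ∃! lam : Red.Gm (Spec (CommRingCat.of k)) ⟶ T, IsMonHom lam ∧ (∃ c : Red.Gm (Spec (CommRingCat.of k)) ⟶ D, c ≫ d ≫ z = lam ≫ i) ∧
      lam ≫ α = Red.chi (Spec (CommRingCat.of k)) (2 : ℤ) :=
  Groth.L14.Splitting.existsUnique_coroot hG i hT hM α hα j hTa hjα hmax z hz d hker hkill

end Groth.Agent.S17560
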