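import Groth.Statements.S17561
import Groth.Agent.L14.SL2.Quot

set_option autoImplicit false
set_option backward.isDefEq.respectTransparency.types false
set_option linter.style.haveILetI false
universe u v
open CategoryTheory MonoidalCategory CartesianMonoidalCategory MonObj GrpObj AlgebraicGeometry
open LieWt

namespace Groth.Agent.S17561

/-- Let k be an algebraically closed field, H a reductive k-group scheme (affine, smooth, with connected
reductive geometric fibre) which is not solvable, i : S ⟶ H a maximal torus (maximal among the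
subtori of H) such that any two roots of (H, S), that is non-trivial characters of S with non-zero
weight spaces for the adjoint action on the Lie algebra of H over k, are rational multiples of each
other, r : R ⟶ H the largest central subtorus of H (a subtorus whose points are central and through
which every central subtorus of H factors), and q : H ⟶ Q the quotient of H by R, a homomorphism of
k-group schemes representing the fppf quotient. Then either Q is isomorphic to SL_2 as a k-group
scheme, or Q is the quotient of SL_2 by its scheme-theoretic centre (this is how the projective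
linear group PGL_2 is described here: there are a homomorphism p : SL_2 ⟶ Q and the centre C of SL_2
such that p represents the fppf quotient of SL_2 by C). (The set of roots is allowed to be empty in
the hypothesis.) -/
theorem result (k : Type u) [Field k]
    [IsAlgClosed k]
    (H S : Over (Spec (CommRingCat.of k))) [GrpObj H] [GrpObj S] (hH : Red.IsReductive H) (hns : ¬ Red.IsSolvableGrp H)
    (i : S ⟶ H) (hS : AGF.IsMaxTorus i)
    (hprop : ∀ α β : S ⟶ Red.Gm (Spec (CommRingCat.of k)), LieWt.IsRoot i α → LieWt.IsRoot i β →
      ∃ m n : ℤ, m ≠ 0 ∧ n ≠ 0 ∧ α ^ m = β ^ n)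
    (R : Over (Spec (CommRingCat.of k))) [GrpObj R] (r : R ⟶ H) [IsMonHom r] [Mono r] (hR : Red.IsTorus R)
    (hRc : (∀ (X : Over (Spec (CommRingCat.of k))) (x : X ⟶ R) (X' : Over (Spec (CommRingCat.of k))) (y : X' ⟶ X) (h : X' ⟶ H),
        (y ≫ x ≫ r) * h = h * (y ≫ x ≫ r)))
    (hRmax : ∀ (R' : Over (Spec (CommRingCat.of k))) [GrpObj R'] (r' : R' ⟶ H) [IsMonHom r'] [Mono r'], Red.IsTorus R' →
      (∀ (X : Over (Spec (CommRingCat.of k))) (x : X ⟶ R') (X' : Over (Spec (CommRingCat.of k))) (y : X' ⟶ X) (h : X' ⟶ H),
        (y ≫ x ≫ r') * h = h * (y ≫ x ≫ r')) →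
      ∃ f : R' ⟶ R, f ≫ r = r')
    (Q : Over (Spec (CommRingCat.of k))) [GrpObj Q] (q : H ⟶ Q) [IsMonHom q] (hq : RedSub.IsQuotient r q) :
    ((Nonempty (Grp.mk Q ≅ Grp.mk ((Spec (CommRingCat.of (CoordGrp.SLn 2 k))).asOver (Spec (CommRingCat.of k))))) ∨
      ∃ (p : (Spec (CommRingCat.of (CoordGrp.SLn 2 k))).asOver (Spec (CommRingCat.of k)) ⟶ Q) (_ : IsMonHom p) (C : Over (Spec (CommRingCat.of k))) (_ : GrpObj C)
        (c : C ⟶ (Spec (CommRingCat.of (CoordGrp.SLn 2 k))).asOver (Spec (CommRingCat.of k))), Red.IsCentre c ∧ RedSub.IsQuotient c p) :=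
  Groth.L14.SL2.quotient_main hH hns i hS hprop r hR hRc hRmax q hq

end Groth.Agent.S17561
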