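import Groth.Statements.S17562
import Groth.Agent.L14.SL2.CentMain

set_option autoImplicit false
set_option backward.isDefEq.respectTransparency.types false
set_option linter.style.haveILetI false
universe u v
open CategoryTheory MonoidalCategory CartesianMonoidalCategory MonObj GrpObj AlgebraicGeometry
open LieWt

namespace Groth.Agent.S17562

/-- Let k be a field, G a reductive k-group scheme (affine, smooth, with connected reductive geometric
fibre), i : T ⟶ G a maximal torus which is split, α a root of (G, T) (a homomorphism to the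
multiplicative group other than the trivial character, with non-zero weight space on the Lie algebra
of G over k), j : T_α ⟶ T the largest subtorus of T killed by α (a subtorus on which α is trivial
and through which every subtorus of T killed by α factors), z : Z ⟶ G the scheme-theoretic
centralizer of T_α in G together with the inclusion j_Z : T_α ⟶ Z (so j_Z ≫ z = j ≫ i), and d : D ⟶
Z the derived group of Z, pinned as the kernel of a homomorphism from Z to a commutative k-group
scheme which is killed by every such homomorphism. Then the multiplication morphism T_α × D ⟶ Z, (t,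
g) ↦ j_Z(t) · d(g), is a central isogeny: it is surjective and the scheme-theoretic intersection T_α
∩ D, its anti-diagonally embedded kernel, has finitely many points; and D is isomorphic to SL_2 as a
k-group scheme, or D is the quotient of SL_2 by its scheme-theoretic centre (the projective linear
group PGL_2 is described here as that quotient: a homomorphism p : SL_2 ⟶ D and the centre C of SL_2
with p representing the fppf quotient of SL_2 by C). (A connected reductive group having a root is
not solvable, so non-solvability is not assumed separately here.) -/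
theorem result (k : Type u) [Field k]
    (G T : Over (Spec (CommRingCat.of k))) [GrpObj G] [GrpObj T] (hG : Red.IsReductive G)
    (i : T ⟶ G) (hT : Red.IsMaximalTorus i) (M : Type) [AddCommGroup M] (hM : Red.IsSplitTorusWith M T)
    (α : T ⟶ Red.Gm (Spec (CommRingCat.of k))) (hα : LieWt.IsRoot i α)
    (Ta : Over (Spec (CommRingCat.of k))) [GrpObj Ta] (j : Ta ⟶ T) [IsMonHom j] [Mono j] (hTa : Red.IsTorus Ta) (hjα : j ≫ α = 1)
    (hmax : ∀ (T' : Over (Spec (CommRingCat.of k))) [GrpObj T'] (j' : T' ⟶ T) [IsMonHom j'] [Mono j'],
      Red.IsTorus T' → j' ≫ α = 1 → ∃ f : T' ⟶ Ta, f ≫ j = j')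
    (Z : Over (Spec (CommRingCat.of k))) [GrpObj Z] (z : Z ⟶ G) (hz : Red.IsCentralizerOf (j ≫ i) z)
    (jZ : Ta ⟶ Z) [IsMonHom jZ] (hjZ : jZ ≫ z = j ≫ i)
    (D : Over (Spec (CommRingCat.of k))) [GrpObj D] (d : D ⟶ Z) [IsMonHom d]
    (hker : ∃ (C : Over (Spec (CommRingCat.of k))) (_ : GrpObj C) (f₀ : Z ⟶ C), IsMonHom f₀ ∧
      (∀ (X : Over (Spec (CommRingCat.of k))) (a b : X ⟶ C), a * b = b * a) ∧ AlgGrp.IsKernel d f₀)
    (hkill : RedSub.KilledByCommutative d) :
    Surjective ((fst Ta D ≫ jZ) * (snd Ta D ≫ d)).left ∧
      (∀ (I : Over (Spec (CommRingCat.of k))) (p₁ : I ⟶ Ta) (p₂ : I ⟶ D), IsPullback p₁ p₂ jZ d → Finite ↥I.left) ∧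
      ((Nonempty (Grp.mk D ≅ Grp.mk ((Spec (CommRingCat.of (CoordGrp.SLn 2 k))).asOver (Spec (CommRingCat.of k))))) ∨
      ∃ (p : (Spec (CommRingCat.of (CoordGrp.SLn 2 k))).asOver (Spec (CommRingCat.of k)) ⟶ D) (_ : IsMonHom p) (C : Over (Spec (CommRingCat.of k))) (_ : GrpObj C)
        (c : C ⟶ (Spec (CommRingCat.of (CoordGrp.SLn 2 k))).asOver (Spec (CommRingCat.of k))), Red.IsCentre c ∧ RedSub.IsQuotient c p) :=
  Groth.L14.SL2.centralizer_main hG i hT hM α hα j hTa hjα hmax z hz jZ hjZ d hker hkill

end Groth.Agent.S17562
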