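import Groth.Statements.S17563
import Groth.Agent.L06.RootOver.Main


set_option autoImplicit false
set_option maxSynthPendingDepth 3
set_option linter.style.haveILetI false
universe u v
open CategoryTheory MonoidalCategory CartesianMonoidalCategory MonObj GrpObj AlgebraicGeometry
open LieWt

namespace Groth.Agent.S17563

/-- Let R be a non-zero commutative ring, G a reductive group scheme over Spec R (affine, smooth,
connected reductive geometric fibres), i : T ⟶ G a maximal torus with a splitting T ≅ D(M) for a
finite free ℤ-module M, a ∈ M a non-zero element with character α of T, and L a Lie algebra over R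
given as a model of the Lie algebra of G over R. Suppose a is a root: the weight space of α in L is
an invertible R-module (a line bundle). Then −a is a root as well: the weight space of the inverse
character α⁻¹ in L is an invertible R-module. (One implication; the converse is the same statement
for −a.) -/
theorem result (R : Type u) [CommRing R] [Nontrivial R]
    (G T : Over (Spec (CommRingCat.of R))) [GrpObj G] [GrpObj T] (hG : Red.IsReductive G)
    (i : T ⟶ G) [IsMonHom i] (hT : Red.IsMaximalTorus i)
    (M : Type) [AddCommGroup M] [Module.Finite ℤ M] [Module.Free ℤ M]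
    (split : Grp.mk T ≅ Grp.mk (Red.DS (Spec (CommRingCat.of R)) M)) (a : M) (ha : a ≠ 0)
    (α : T ⟶ Red.Gm (Spec (CommRingCat.of R))) (hα : α = split.hom.hom.hom ≫ Red.chi (Spec (CommRingCat.of R)) a)
    (L : Type v) [LieRing L] [LieAlgebra R L]
    (mdl : LieS.Model G R (Spec.map (CommRingCat.ofHom (algebraMap R R))) L)
    (hroot : Module.Invertible R ↥(LieWt.modelWeightSpOf mdl i α)) :
    Module.Invertible R ↥(LieWt.modelWeightSpOf mdl i α⁻¹) := by
  haveI := hG.1
  haveI := hG.2.1
  haveI : IsAffine G.left := isAffine_of_isAffineHom G.hom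
  let d : T ≅ Red.DS (Spec (CommRingCat.of R)) M := (Grp.forget _).mapIso split
  haveI : IsMonHom d.hom := split.hom.hom.isMonHom_hom
  obtain ⟨hfin, hproj, -⟩ := Groth.L06.RootOver.exists_lieEquiv mdl
  haveI := hfin
  haveI := hproj
  have H : Groth.L06.RootOver.Hyp i d := ⟨hG, hT⟩
  subst hα
  have hpos : ∀ (B' : Type u) [CommRing B'] [Algebra R B'] (t : VecGrp.pt R B' ⟶ T),
      VecGrp.chiVal (split.hom.hom.hom ≫ Red.chi (Spec (CommRingCat.of R)) a) t =
        Groth.L06.RootOver.valS d t (Multiplicative.ofAdd a) :=
    fun B' _ _ t => Groth.L06.RootOver.chiVal_eq d a t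
  rw [Groth.L06.RootOver.modelWeightSpOf_eq d i mdl a hpos] at hroot
  haveI := hroot
  have hneg : ∀ (B' : Type u) [CommRing B'] [Algebra R B'] (t : VecGrp.pt R B' ⟶ T),
      VecGrp.chiVal (split.hom.hom.hom ≫ Red.chi (Spec (CommRingCat.of R)) a)⁻¹ t =
        Groth.L06.RootOver.valS d t (Multiplicative.ofAdd (-a)) :=
    fun B' _ _ t => Groth.L06.RootOver.chiVal_inv d a t
  rw [Groth.L06.RootOver.modelWeightSpOf_eq d i mdl (-a) hneg]
  exact Groth.L06.RootOver.invertible_neg d i mdl H ha

end Groth.Agent.S17563
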