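import Groth.Statements.S17564
import Groth.Agent.L06.RootOver.Main


set_option autoImplicit false
set_option maxSynthPendingDepth 3
set_option linter.style.haveILetI false
universe u v
open CategoryTheory MonoidalCategory CartesianMonoidalCategory MonObj GrpObj AlgebraicGeometry
open LieWt

namespace Groth.Agent.S17564

/-- Let R be a non-zero commutative ring, G a reductive group scheme over Spec R (affine, smooth,
connected reductive geometric fibres), i : T ⟶ G a maximal torus with a splitting T ≅ D(M) for a
finite free ℤ-module M, a ∈ M a non-zero element with character α of T, and L a Lie algebra over R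
given as a model of the Lie algebra of G over R. Suppose a is a root: the weight space of α in L is
an invertible R-module (a line bundle). Let j : T_a ⟶ T be the largest subtorus of T killed by α (a
subtorus on which α is trivial and through which every subtorus of T killed by α factors) and z : Z
⟶ G the scheme-theoretic centralizer of T_a in G. Then for every R-algebra B the Lie algebra of Z
over B, as a subgroup of the Lie algebra of G over B, is the direct sum t ⊕ g_a ⊕ g_{-a}: it equals
the join of the image of the Lie algebra of T, the weight space of α and the weight space of α⁻¹,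
and these three subgroups are independent. (The uniqueness of T_a as the subtorus of relative
codimension one in the kernel of α, asserted in the same published statement, is not restated; T_a
is pinned here by maximality.) -/
theorem result (R : Type u) [CommRing R] [Nontrivial R]
    (G T : Over (Spec (CommRingCat.of R))) [GrpObj G] [GrpObj T] (hG : Red.IsReductive G)
    (i : T ⟶ G) [IsMonHom i] (hT : Red.IsMaximalTorus i)
    (M : Type) [AddCommGroup M] [Module.Finite ℤ M] [Module.Free ℤ M]
    (split : Grp.mk T ≅ Grp.mk (Red.DS (Spec (CommRingCat.of R)) M)) (a : M) (ha : a ≠ 0)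
    (α : T ⟶ Red.Gm (Spec (CommRingCat.of R))) (hα : α = split.hom.hom.hom ≫ Red.chi (Spec (CommRingCat.of R)) a)
    (L : Type v) [LieRing L] [LieAlgebra R L]
    (mdl : LieS.Model G R (Spec.map (CommRingCat.ofHom (algebraMap R R))) L)
    (hroot : Module.Invertible R ↥(LieWt.modelWeightSpOf mdl i α))
    (Ta : Over (Spec (CommRingCat.of R))) [GrpObj Ta] (j : Ta ⟶ T) [IsMonHom j] [Mono j] (hTa : Red.IsTorus Ta) (hjα : j ≫ α = 1)
    (hmax : ∀ (T' : Over (Spec (CommRingCat.of R))) [GrpObj T'] (j' : T' ⟶ T) [IsMonHom j'] [Mono j'],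
      Red.IsTorus T' → j' ≫ α = 1 → ∃ f : T' ⟶ Ta, f ≫ j = j')
    (Z : Over (Spec (CommRingCat.of R))) [GrpObj Z] (z : Z ⟶ G) [IsMonHom z] (hz : Red.IsCentralizerOf (j ≫ i) z)
    (B : Type u) [CommRing B] [Algebra R B] :
    Subgroup.map (LieS.map B _ z) ⊤ =
        Subgroup.map (LieS.map B _ i) ⊤ ⊔ LieWt.weightSpOf i α B ⊔ LieWt.weightSpOf i α⁻¹ B ∧
      iSupIndep ![Subgroup.map (LieS.map B _ i) ⊤, LieWt.weightSpOf i α B, LieWt.weightSpOf i α⁻¹ B] := by
  haveI := hG.1
  haveI := hG.2.1
  haveI : IsAffine G.left := isAffine_of_isAffineHom G.hom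
  let d : T ≅ Red.DS (Spec (CommRingCat.of R)) M := (Grp.forget _).mapIso split
  haveI : IsMonHom d.hom := split.hom.hom.isMonHom_hom
  obtain ⟨hfin, hproj, -⟩ := Groth.L06.RootOver.exists_lieEquiv mdl
  haveI := hfin
  haveI := hproj
  have H : Groth.L06.RootOver.Hyp i d := ⟨hG, hT⟩
  subst hα
  have hpos : ∀ (B' : Type u) [CommRing B'] [Algebra R B'] (t : VecGrp.pt R B' ⟶ T),
      VecGrp.chiVal (split.hom.hom.hom ≫ Red.chi (Spec (CommRingCat.of R)) a) t =
        Groth.L06.RootOver.valS d t (Multiplicative.ofAdd a) :=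
    fun B' _ _ t => Groth.L06.RootOver.chiVal_eq d a t
  rw [Groth.L06.RootOver.modelWeightSpOf_eq d i mdl a hpos] at hroot
  haveI := hroot
  have hneg : ∀ (B' : Type u) [CommRing B'] [Algebra R B'] (t : VecGrp.pt R B' ⟶ T),
      VecGrp.chiVal (split.hom.hom.hom ≫ Red.chi (Spec (CommRingCat.of R)) a)⁻¹ t =
        Groth.L06.RootOver.valS d t (Multiplicative.ofAdd (-a)) :=
    fun B' _ _ t => Groth.L06.RootOver.chiVal_inv d a t
  classical
  let D := Groth.L06.RootOver.torAct d i mdl
  let E := Groth.L06.RootOver.lieE mdl B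
  have hna := Groth.L06.RootOver.neg_ne_self ha
  let w : LieS.LieR G B → TensorProduct R B L := fun x => E.symm ⟨x⟩
  have hw : ∀ x, (E (w x)).pnt = x := fun x => congrArg Groth.L06.Lie.LA.pnt (E.apply_symm_apply _)
  let P : M → TensorProduct R B L →ₗ[B] TensorProduct R B L := fun m => (D.pi m).baseChange B
  let W : M → Subgroup (LieS.LieR G B) := fun m =>
    { carrier := {x | P m (w x) = w x}
      mul_mem' := fun {x y} hx hy => by
        show P m (w (x * y)) = w (x * y)
        have e : w (x * y) = w x + w y := E.symm.map_add ⟨x⟩ ⟨y⟩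
        rw [e, map_add, hx, hy]
      one_mem' := by
        show P m (w 1) = w 1
        rw [show w 1 = 0 from E.symm.map_zero, map_zero]
      inv_mem' := fun {x} hx => by
        show P m (w x⁻¹) = w x⁻¹
        have e : w x⁻¹ = -w x := E.symm.map_neg ⟨x⟩
        rw [e, map_neg, hx] }
  have hT0 : Subgroup.map (LieS.map B _ i) ⊤ = W 0 := by
    ext x
    constructor
    · rintro ⟨y, -, rfl⟩
      exact Groth.L06.RootOver.P_zero_of_image d i mdl ⟨y⟩ _ (E.apply_symm_apply _)
    · intro hx
      obtain ⟨y, hy⟩ := Groth.L06.RootOver.exists_preimage d i mdl H ha (w x) hx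
      exact ⟨y.pnt, trivial, (congrArg Groth.L06.Lie.LA.pnt hy).trans (hw x)⟩
  have hWa : LieWt.weightSpOf i (split.hom.hom.hom ≫ Red.chi (Spec (CommRingCat.of R)) a) B = W a := by
    ext x
    conv_lhs => rw [← hw x]
    exact Groth.L06.RootOver.mem_weightSpOf_iff d i mdl B a hpos (w x)
  have hWn : LieWt.weightSpOf i (split.hom.hom.hom ≫ Red.chi (Spec (CommRingCat.of R)) a)⁻¹ B = W (-a) := by
    ext x
    conv_lhs => rw [← hw x]
    exact Groth.L06.RootOver.mem_weightSpOf_iff d i mdl B (-a) hneg (w x)
  have hZ : ∀ x, x ∈ Subgroup.map (LieS.map B _ z) ⊤ ↔ P 0 (w x) + P a (w x) + P (-a) (w x) = w x := fun x => by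
    conv_lhs => rw [← hw x]
    exact Groth.L06.RootOver.mem_centralizer_iff d i mdl H ha j z hz hjα hmax (w x)
  rw [hT0, hWa, hWn]
  refine ⟨le_antisymm (fun x hx => ?_) (sup_le (sup_le ?_ ?_) ?_), ?_⟩
  · have hmem : ∀ m, (E (P m (w x))).pnt ∈ W m := fun m => by
      show P m (w (E (P m (w x))).pnt) = w (E (P m (w x))).pnt
      rw [show w (E (P m (w x))).pnt = P m (w x) from E.symm_apply_apply _]
      exact D.piB_self B m (w x)
    have e : x = (E (P 0 (w x))).pnt * (E (P a (w x))).pnt * (E (P (-a) (w x))).pnt := by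
      conv_lhs => rw [← hw x, ← (hZ x).1 hx, map_add, map_add]
      rfl
    rw [e]
    exact Subgroup.mul_mem_sup (Subgroup.mul_mem_sup (hmem 0) (hmem a)) (hmem (-a))
  · intro x hx
    refine (hZ x).2 ?_
    rw [← hx]
    simp only [P]
    rw [D.piB_self B, D.piB_ne B ha, D.piB_ne B (neg_ne_zero.2 ha), add_zero, add_zero]
  · intro x hx
    refine (hZ x).2 ?_
    rw [← hx]
    simp only [P]
    rw [D.piB_self B, D.piB_ne B ha.symm, D.piB_ne B hna.symm, zero_add, add_zero]
  · intro x hx
    refine (hZ x).2 ?_
    rw [← hx]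
    simp only [P]
    rw [D.piB_self B, D.piB_ne B (neg_ne_zero.2 ha).symm, D.piB_ne B hna, zero_add, zero_add]
  · let ker : M → Subgroup (LieS.LieR G B) := fun m =>
      { carrier := {x | P m (w x) = 0}
        mul_mem' := fun {x y} hx hy => by
          show P m (w (x * y)) = 0
          rw [show w (x * y) = w x + w y from E.symm.map_add ⟨x⟩ ⟨y⟩, map_add, hx, hy, add_zero]
        one_mem' := by
          show P m (w 1) = 0
          rw [show w 1 = 0 from E.symm.map_zero, map_zero]
        inv_mem' := fun {x} hx => by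
          show P m (w x⁻¹) = 0
          rw [show w x⁻¹ = -w x from E.symm.map_neg ⟨x⟩, map_neg, hx, neg_zero] }
    have hle : ∀ m n, m ≠ n → W n ≤ ker m := fun m n hmn x hx => by
      show P m (w x) = 0
      rw [← hx]
      exact D.piB_ne B hmn (w x)
    let idx : Fin 3 → M := ![0, a, -a]
    have hidx : Function.Injective idx := by
      intro p q
      fin_cases p <;> fin_cases q <;>
        simp [idx, ha, ha.symm, hna, hna.symm, neg_ne_zero.2 ha, (neg_ne_zero.2 ha).symm]
    rw [show (![W 0, W a, W (-a)] : Fin 3 → Subgroup (LieS.LieR G B)) = fun p => W (idx p) from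
      funext fun p => by fin_cases p <;> rfl]
    refine iSupIndep_def.2 fun p => disjoint_iff_inf_le.2 fun x hx => ?_
    have h1 : P (idx p) (w x) = w x := hx.1
    have h2 : P (idx p) (w x) = 0 :=
      (iSup₂_le fun q hq => hle (idx p) (idx q) fun e => hq (hidx e).symm) hx.2
    rw [Subgroup.mem_bot, ← hw x, ← h1, h2, map_zero]
    rfl

end Groth.Agent.S17564
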