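import Groth.Statements.S17566
import Groth.Agent.L14.RootGrp.Main
import Groth.Agent.L14.Splitting.General

set_option autoImplicit false
set_option backward.isDefEq.respectTransparency.types false
set_option linter.style.haveILetI false
universe u v
open CategoryTheory MonoidalCategory CartesianMonoidalCategory MonObj GrpObj AlgebraicGeometry
open LieWt

namespace Groth.Agent.S17566

/-- Let k be a field, G a reductive k-group scheme (affine, smooth, with connected reductive geometric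
fibre), i : T ⟶ G a maximal torus which is split, α a root of (G, T) (a homomorphism to the
multiplicative group other than the trivial character, with non-zero weight space on the Lie algebra
of G over k), and u₁ : U₁ ⟶ G, u₂ : U₂ ⟶ G two closed subgroup schemes which are smooth and
connected, normalized by T (conjugates of points of U_j by points of T are points of U_j), and whose
Lie algebras over k, as subgroups of the Lie algebra of G over k, are both equal to the weight space
of α. Then U₁ and U₂ are the same subgroup of G (there is an isomorphism U₁ ≅ U₂ over G), and U₁ is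
isomorphic to the additive group 𝔾_a as a k-group scheme (existence of an isomorphism). The
existence of such a subgroup, the root group U_a, is not restated here. -/
theorem result (k : Type u) [Field k]
    (G T : Over (Spec (CommRingCat.of k))) [GrpObj G] [GrpObj T] (hG : Red.IsReductive G)
    (i : T ⟶ G) (hT : Red.IsMaximalTorus i) (M : Type) [AddCommGroup M] (hM : Red.IsSplitTorusWith M T)
    (α : T ⟶ Red.Gm (Spec (CommRingCat.of k))) (hα : LieWt.IsRoot i α)
    (U₁ U₂ : Over (Spec (CommRingCat.of k))) [GrpObj U₁] [GrpObj U₂] (u₁ : U₁ ⟶ G) (u₂ : U₂ ⟶ G) [IsMonHom u₁] [IsMonHom u₂]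
    (hc₁ : IsClosedImmersion u₁.left) (hc₂ : IsClosedImmersion u₂.left)
    [Smooth U₁.hom] [Smooth U₂.hom] [ConnectedSpace ↥U₁.left] [ConnectedSpace ↥U₂.left]
    (hn₁ : ∀ (X : Over (Spec (CommRingCat.of k))) (t : X ⟶ T) (x : X ⟶ U₁), ∃ x' : X ⟶ U₁,
      (t ≫ i) * (x ≫ u₁) * (t ≫ i)⁻¹ = x' ≫ u₁)
    (hn₂ : ∀ (X : Over (Spec (CommRingCat.of k))) (t : X ⟶ T) (x : X ⟶ U₂), ∃ x' : X ⟶ U₂,
      (t ≫ i) * (x ≫ u₂) * (t ≫ i)⁻¹ = x' ≫ u₂)
    (hl₁ : Subgroup.map (LieS.map k _ u₁) ⊤ = LieWt.weightSpOf i α k)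
    (hl₂ : Subgroup.map (LieS.map k _ u₂) ⊤ = LieWt.weightSpOf i α k) :
    (∃ e : U₁ ≅ U₂, e.hom ≫ u₂ = u₁) ∧ Nonempty (Grp.mk U₁ ≅ Grp.mk (Red.Ga (Spec (CommRingCat.of k)))) := by
  haveI := hT.1
  haveI : IsClosedImmersion u₁.left := hc₁
  haveI : IsClosedImmersion u₂.left := hc₂
  haveI : IsMonHom α := hα.1
  obtain ⟨r, ⟨e⟩⟩ := Groth.L06.RootLines.exists_splitRank hT.2.2.1 hM
  obtain ⟨R⟩ := Groth.L14.Splitting.exists_rootData_local hG i hT e
  let D := R.splitRed (fun _ => trivial) hG hT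
  let α' : D.T ⟶ Red.Gm (Spec (CommRingCat.of k)) := α
  haveI : IsMonHom α' := hα.1
  obtain ⟨a₁, ha₁, w₁, hw₁, he₁⟩ := Groth.L14.RootGrp.exists_eq_rootGroup D u₁ hn₁ α' hα.2.1 hα.2.2 hl₁
  obtain ⟨a₂, ha₂, w₂, hw₂, he₂⟩ := Groth.L14.RootGrp.exists_eq_rootGroup D u₂ hn₂ α' hα.2.1 hα.2.2 hl₂
  obtain rfl := Groth.L14.RootGrp.root_char_injective D (ha₁.symm.trans ha₂)
  haveI := hw₁
  exact ⟨⟨w₁.symm ≪≫ w₂, by rw [Iso.trans_hom, Category.assoc, he₂, Iso.symm_hom, Iso.inv_comp_eq, he₁]⟩,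
    ⟨(Grp.mkIso' w₁).symm⟩⟩

end Groth.Agent.S17566
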