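import Groth.Statements.S1757
import Groth.Agent.L04.Indep
import Mathlib.RingTheory.LocalRing.MaximalIdeal.Basic

set_option autoImplicit false
universe u
open LocCoh

namespace Groth.Agent.S1757

theorem aux {A : Type u} [CommRing A] [IsLocalRing A] {r : ℕ} (x : Fin r → A)
    (hx : Ideal.span (Set.range x) = IsLocalRing.maximalIdeal A) (e : Fin r → ℕ) (he : ∀ i, 0 < e i)
    (hind : Dual2.Independent (fun i => x i ^ e i)) :
    Module.length A (A ⧸ Ideal.span (Set.range (fun i => x i ^ e i))) = ∏ i, (e i : ℕ∞) := by
  classical
  induction hn : ∑ i, e i using Nat.strong_induction_on generalizing e with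
  | _ n ih =>
    by_cases h1 : ∀ i, e i = 1
    · have hsimp : (fun i => x i ^ e i) = x := funext fun i => by rw [h1 i, pow_one]
      have : IsSimpleModule A (A ⧸ IsLocalRing.maximalIdeal A) :=
        isSimpleModule_iff_isCoatom.2 (IsLocalRing.maximalIdeal.isMaximal A).out
      rw [hsimp, hx, Module.length_eq_one, Finset.prod_eq_one fun i _ => by rw [h1 i, Nat.cast_one]]
    · push Not at h1
      obtain ⟨i, hi⟩ := h1
      obtain ⟨k, hk⟩ : ∃ k, e i = k + 2 := ⟨e i - 2, by have := he i; omega⟩
      have hupd : ∀ v : ℕ, (fun j => x j ^ Function.update e i v j) =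
          Function.update (fun j => x j ^ e j) i (x i ^ v) := fun v => funext fun j => by
        rcases eq_or_ne j i with rfl | hne
        · simp
        · simp [Function.update_of_ne hne]
      set F := fun j => x j ^ Function.update e i (k + 1) j with hF
      have hFi : F i = x i ^ (k + 1) := by simp [hF]
      have hmul : (fun j => x j ^ e j) = Function.update F i (F i * x i) := funext fun j => by
        rcases eq_or_ne j i with rfl | hne
        · rw [Function.update_self, hFi, ← pow_succ, hk]
        · simp [hF, Function.update_of_ne hne]
      have hmul' : (fun j => x j ^ e j) =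
          Function.update (Function.update F i (x i)) i (Function.update F i (x i) i * x i ^ (k + 1)) := by
        rw [hmul, Function.update_idem, Function.update_self, hFi, mul_comm]
      have hG : Function.update F i (x i) = fun j => x j ^ Function.update e i 1 j := funext fun j => by
        rcases eq_or_ne j i with rfl | hne
        · simp
        · simp [hF, Function.update_of_ne hne]
      have hsum : ∀ v : ℕ, v < e i → ∑ j, Function.update e i v j < n := fun v hv => by
        rw [Finset.sum_update_of_mem (Finset.mem_univ i), ← hn,
          ← Finset.add_sum_erase _ e (Finset.mem_univ i), Finset.sdiff_singleton_eq_erase]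
        omega
      have hpos : ∀ v : ℕ, 0 < v → ∀ j, 0 < Function.update e i v j := fun v hv j => by
        rcases eq_or_ne j i with rfl | hne
        · simpa
        · simpa [Function.update_of_ne hne] using he j
      rw [hmul] at hind
      have hl := Groth.L04.length_update_mul hind
      have hi2 : Dual2.Independent (Function.update F i (x i)) := by
        rw [← hmul, hmul'] at hind
        exact Groth.L04.independent_of_update_mul hind
      rw [hmul, hl, ih _ (hsum (k + 1) (by omega)) _ (hpos _ k.succ_pos)
        (Groth.L04.independent_of_update_mul hind) rfl, hG,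
        ih _ (hsum 1 (by omega)) _ (hpos 1 one_pos) (hG ▸ hi2) rfl]
      have hcast : ∀ v : ℕ, ∏ j, ((Function.update e i v j : ℕ) : ℕ∞) =
          (v : ℕ∞) * ∏ j ∈ Finset.univ.erase i, (e j : ℕ∞) := fun v => by
        rw [← Finset.mul_prod_erase _ _ (Finset.mem_univ i), Function.update_self]
        congr 1
        exact Finset.prod_congr rfl fun j hj => by rw [Function.update_of_ne (Finset.ne_of_mem_erase hj)]
      rw [hcast, hcast, ← Finset.mul_prod_erase _ (fun j => (e j : ℕ∞)) (Finset.mem_univ i), hk,
        ← add_mul]
      push_cast
      ring

/-- Let A be a local ring whose maximal ideal is generated by x_1, …, x_r, and let e_1, …, e_r be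
positive integers such that x_1^{e_1}, …, x_r^{e_r} are independent. Then the length of
A/(x_1^{e_1}, …, x_r^{e_r}) equals the product e_1 ⋯ e_r. -/
theorem result (A : Type u) [CommRing A] [IsLocalRing A] (r : ℕ) (x : Fin r → A) (hx : Ideal.span (Set.range x) = IsLocalRing.maximalIdeal A) (e : Fin r → ℕ) (he : ∀ i, 0 < e i) (hind : Dual2.Independent (fun i => x i ^ e i)) : Module.length A (A ⧸ Ideal.span (Set.range (fun i => x i ^ e i))) = ∏ i, (e i : ℕ∞) := by
  exact aux x hx e he hind

end Groth.Agent.S1757
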