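import Groth.Statements.S17570
import Groth.Agent.L16.Bivar.C1Class

set_option autoImplicit false
universe u
open CategoryTheory AlgebraicGeometry
open Bivar

namespace Groth.Agent.S17570

/-- Let L be an invertible O_X-module. Then the rule assigning to every g : Y → X locally of finite type
the operation c_1(g^*L) ∩ − : CH_k(Y) → CH_{k−1}(Y) is a bivariant class of degree 1: there is an
operational class c ∈ A^1(X) such that on every test scheme g : Y → X (with its induced dimension
function) and every k-cycle α on Y, c ∩ [α] is the class of any cycle whose coefficients are those
of c_1(g^*L) ∩ α computed from any nowhere-zero choice of rational sections of g^*L (the binder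
Bivar.IsC1Class, which also records invertibility of L). In particular the operation passes to
rational equivalence and does not depend on the sections. Here a pair (X, δ) with Cyc.IsSetup plays
the role of a scheme locally of finite type over the base (S, δ) (X locally Noetherian with
universally catenary local rings, δ a dimension function), Cyc.DeltaCompat records that a dimension
function is the induced one, and bivariant classes are taken in the operational sense of the
prelude: additive operations on the Chow groups CH_k (k-cycles modulo rational equivalence) of all
test schemes, compatible with proper pushforward, flat pullback and the Gysin maps of zero schemes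
of sections of invertible modules in representative form (Bivar.Cl for A^p(X → Y), Bivar.OpCl for
A^p(X)). -/
theorem result (X : Scheme.{u}) (δX : X → ℤ) (hX : Cyc.IsSetup X δX) (L : X.Modules) (hL : PicF.IsInvertible L) : ∃ c : Bivar.OpCl 1 X δX, Bivar.IsC1Class L c := by
  exact ⟨_, Groth.L16.BivarC1.isC1Class_c1Class hX hL⟩
end Groth.Agent.S17570
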