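import Groth.Statements.S17571
import Groth.Agent.L22.Chern.Classes
-- import your own Groth.Agent.* helpers here

set_option autoImplicit false
universe u
open CategoryTheory AlgebraicGeometry
open Bivar

namespace Groth.Agent.S17571

/-- Suppose E is an O_X-module that is finite locally free, of rank r. Then for 0 ≤ p ≤ r the rule
assigning to g : Y → X locally of finite type the operation c_p(g^*E) ∩ − : CH_k(Y) → CH_{k−p}(Y) is
a bivariant class of degree p, the p-th Chern class of E. Stated through the characterisation of the
Chern class operations by the projective bundle: there is a family of operational classes c_j ∈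
A^j(X), j ≥ 0, with c_0 = 1 and c_j = 0 for j > r (a convention for j > r), such that on every test
scheme g : Y → X (with induced dimension function), for every projective bundle (π : P → Y, O_P(1),
π^*g^*E → O_P(1)) of g^*E with its induced dimension function and every k-cycle α on Y, any cycles
ζ_0 = α, ζ_1, …, ζ_r representing the classes c_j ∩ [α] satisfy Σ_{i=0}^r (−1)^i c_1(O_P(1))^i ∩
π^*(ζ_{r−i}) ∼_rat 0 on P for every nowhere-zero choice of rational sections of O_P(1) (the binder
Bivar.IsChernClasses, which also records the rank of E). Here a pair (X, δ) with Cyc.IsSetup plays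
the role of a scheme locally of finite type over the base (S, δ) (X locally Noetherian with
universally catenary local rings, δ a dimension function), Cyc.DeltaCompat records that a dimension
function is the induced one, and bivariant classes are taken in the operational sense of the
prelude: additive operations on the Chow groups CH_k (k-cycles modulo rational equivalence) of all
test schemes, compatible with proper pushforward, flat pullback and the Gysin maps of zero schemes
of sections of invertible modules in representative form (Bivar.Cl for A^p(X → Y), Bivar.OpCl for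
A^p(X)). -/
theorem result (X : Scheme.{u}) (δX : X → ℤ) (hX : Cyc.IsSetup X δX) (E : X.Modules) (r : ℕ) (hE : FlatMod.IsFinLocFreeOfRank r E) : ∃ c : (j : ℕ) → Bivar.OpCl (j : ℤ) X δX, Bivar.IsChernClasses E r c := by
  cases r with
  | zero =>
    let c : (j : ℕ) → Bivar.OpCl (j : ℤ) X δX := fun j => match j with
      | 0 => Bivar.OpCl.one X δX
      | _ + 1 => 0
    refine ⟨c, hE, rfl, fun j hj => ?_, fun s P π O1 q hP δP hδP k α hα ζ hζ0 hζ _ => ⟨hζ0, hζ, fun t ht β hβ => ?_⟩⟩
    · cases j with
      | zero => omega
      | succ m => rfl
    · haveI := Groth.L22.Chern.isEmpty_bundle hP (Groth.L22.Chern.rank_pullback s.g hE)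
      exact ⟨PEmpty.{u + 1}, fun i => i.elim, fun i => i.elim, fun i => i.elim, fun i => i.elim,
        fun y => (IsEmpty.false y).elim, fun y => (IsEmpty.false y).elim⟩
  | succ n =>
    let c : (j : ℕ) → Bivar.OpCl (j : ℤ) X δX := fun j => match j with
      | 0 => Bivar.OpCl.one X δX
      | m + 1 => if h : m + 1 < n + 1 + 1 then Groth.L22.Chern.cls hX hE ⟨m + 1, h⟩ else 0
    refine ⟨c, hE, rfl, fun j hj => ?_, fun s P π O1 q hP δP hδP k α hα ζ hζ0 hζ hop => ?_⟩
    · cases j with
      | zero => omega
      | succ m => exact dif_neg (by omega)
    · have hs := Groth.L22.Chern.setupY hX s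
      haveI := hs.1
      have hγ := Groth.L22.Chern.tuple_spec hX hE s hα
      have hm := Groth.L22.Chern.rep_mem hX hE s hγ
      refine Groth.L22.Chern.rep_congr hX hE s hs.2.2 hγ hζ0 hζ (fun j => ?_) P π O1 q hP δP hδP
      obtain ⟨j, hj⟩ := j
      cases j with
      | zero =>
        show ζ 0 - _ ∈ _
        rw [hζ0, show Groth.L22.Chern.tuple hX hE s hα ⟨0, hj⟩ = α from hm.1, sub_self]
        exact zero_mem _
      | succ m =>
        refine (Groth.L22.Chern.cl_eq_iff hs.2.2 (hζ ⟨m + 1, hj⟩) (hm.2 ⟨m + 1, hj⟩)).1 ?_
        rw [← hop ⟨m + 1, hj⟩]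
        have e : c (m + 1) = Groth.L22.Chern.cls hX hE ⟨m + 1, hj⟩ := dif_pos hj
        show (c (m + 1)).op s k _ = _
        rw [e]
        exact Groth.L22.Chern.opC_cl hX hE _ s hα hγ

end Groth.Agent.S17571
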