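import Groth.Statements.S17572
import Groth.Agent.L22.Chern.Classes
-- import your own Groth.Agent.* helpers here

set_option autoImplicit false
universe u
open CategoryTheory AlgebraicGeometry
open Bivar

namespace Groth.Agent.S17572

/-- Fix a finite locally free O_X-module E whose rank is r. Let π : P → X denote the projective bundle
attached to E and put ξ := c_1(O_P(1)); then the c_j(E) ∩ α form the only sequence of classes α_j,
starting with α_0 = α, such that the alternating sum, taken over indices i from 0 up to r, of the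
terms (−1)^i ξ^i ∩ π^*α_{r−i} vanishes in CH_*(P). Consequently two families of operational classes
c, c' : ℕ → A^*(X) which both are Chern classes of E in the sense of the binder Bivar.IsChernClasses
E r (c_0 = 1, c_j = 0 for j > r, and on every test scheme g : Y → X, every projective bundle of g^*E
with induced dimension function and every k-cycle α on Y, all representatives of the c_j ∩ [α]
satisfy that relation up to rational equivalence on P) coincide. Here a pair (X, δ) with Cyc.IsSetup
plays the role of a scheme locally of finite type over the base (S, δ) (X locally Noetherian with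
universally catenary local rings, δ a dimension function), Cyc.DeltaCompat records that a dimension
function is the induced one, and bivariant classes are taken in the operational sense of the
prelude: additive operations on the Chow groups CH_k (k-cycles modulo rational equivalence) of all
test schemes, compatible with proper pushforward, flat pullback and the Gysin maps of zero schemes
of sections of invertible modules in representative form (Bivar.Cl for A^p(X → Y), Bivar.OpCl for
A^p(X)). -/
theorem result (X : Scheme.{u}) (δX : X → ℤ) (hX : Cyc.IsSetup X δX) (E : X.Modules) (r : ℕ) (hE : FlatMod.IsFinLocFreeOfRank r E) (c c' : (j : ℕ) → Bivar.OpCl (j : ℤ) X δX) (hc : Bivar.IsChernClasses E r c) (hc' : Bivar.IsChernClasses E r c') : c = c' := by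
  obtain ⟨-, h0, hgt, hrel⟩ := hc
  obtain ⟨-, h0', hgt', hrel'⟩ := hc'
  funext j
  rcases Nat.lt_or_ge r j with hj | hj
  · rw [hgt j hj, hgt' j hj]
  rcases Nat.eq_zero_or_pos j with rfl | hpos
  · rw [h0, h0']
  obtain ⟨n, rfl⟩ : ∃ n, r = n + 1 := ⟨r - 1, by omega⟩
  refine Bivar.OpCl.ext (funext fun s => funext fun k => AddMonoidHom.ext fun z => ?_)
  obtain ⟨α, hα, rfl⟩ := Bivar.exists_rep z
  have hs := Groth.L22.Chern.setupY hX s
  haveI := hs.1
  have key : ∀ d : (i : ℕ) → Bivar.OpCl (i : ℤ) X δX, d 0 = Bivar.OpCl.one X δX →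
      ∀ i : Fin (n + 1 + 1), ∃ (γ : AlgebraicCycle s.Y ℤ) (hγ : γ ∈ Cyc.Zk s.Y s.δ (k - ((i : ℕ) : ℤ))),
        ((i : ℕ) = 0 → γ = α) ∧ (d i).op s k (ChowOps.cl α hα) = ChowOps.cl γ hγ := by
    intro d hd i
    obtain ⟨i, hi⟩ := i
    cases i with
    | zero =>
      have hα0 : α ∈ Cyc.Zk s.Y s.δ (k - ((0 : ℕ) : ℤ)) := by simpa using hα
      refine ⟨α, hα0, fun _ => rfl, ?_⟩
      show (d 0).op s k _ = _
      rw [hd]
      exact Bivar.chCast_cl s.Y s.δ _ α hα
    | succ m =>
      obtain ⟨γ, hγ, e⟩ := Bivar.exists_rep ((d (m + 1)).op s k (ChowOps.cl α hα))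
      exact ⟨γ, hγ, fun h => (Nat.succ_ne_zero m h).elim, e.symm⟩
  choose γ hγ g0 ge using key c h0
  choose γ' hγ' g0' ge' using key c' h0'
  have R : Groth.L22.Chern.Rep n E s k α γ := fun P π O1 q hP δP hδ =>
    hrel s P π O1 q hP δP hδ k α hα γ (g0 0 rfl) hγ ge
  have R' : Groth.L22.Chern.Rep n E s k α γ' := fun P π O1 q hP δP hδ =>
    hrel' s P π O1 q hP δP hδ k α hα γ' (g0' 0 rfl) hγ' ge'
  refine (ge ⟨j, by omega⟩).trans (Eq.trans ?_ (ge' ⟨j, by omega⟩).symm)
  exact (Groth.L22.Chern.cl_eq_iff hs.2.2 _ _).2
    (Groth.L22.Chern.rep_unique hX hE s hs.2.2 (by rw [sub_self]; exact zero_mem _) R R' _)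

end Groth.Agent.S17572
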