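import Groth.Statements.S17574
import Groth.Agent.L16.Bivar.C1Class
import Groth.Agent.L16.Bivar.Apply
import Groth.Agent.L16.Bivar.Line
import Groth.Agent.L22.Cyc.P1Zero

set_option autoImplicit false
universe u
open CategoryTheory AlgebraicGeometry
open Bivar

namespace Groth.Agent.S17574

/-- Let f : X' → X be locally of finite type, L an invertible O_X-module, and c ∈ A^p(X' → X) a
bivariant class. Then c ∘ c_1(L) = c_1(f^*L) ∘ c in A^{p+1}(X' → X): for every cartesian square (g :
Y → X, Y' = Y ×_X X', g' : Y' → X') with g locally of finite type and every x ∈ CH_k(Y), c ∩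
(c_1(g^*L) ∩ x) = c_1((g')^*f^*L) ∩ (c ∩ x) in CH_{k−1−p}(Y'). Here the first Chern classes of L on
X and of f^*L on X' are given as operational classes cX ∈ A^1(X), cX' ∈ A^1(X') through the binder
Bivar.IsC1Class, evaluated on the test schemes Y → X and Y' → X' of the square (Y' → X' is locally
of finite type as a base change of g), and the two sides, of weights k − p − 1 and k − 1 − p, are
compared through the transport Bivar.chCast. Here a pair (X, δ) with Cyc.IsSetup plays the role of a
scheme locally of finite type over the base (S, δ) (X locally Noetherian with universally catenary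
local rings, δ a dimension function), Cyc.DeltaCompat records that a dimension function is the
induced one, and bivariant classes are taken in the operational sense of the prelude: additive
operations on the Chow groups CH_k (k-cycles modulo rational equivalence) of all test schemes,
compatible with proper pushforward, flat pullback and the Gysin maps of zero schemes of sections of
invertible modules in representative form (Bivar.Cl for A^p(X → Y), Bivar.OpCl for A^p(X)). -/
theorem result (X X' : Scheme.{u}) (δX : X → ℤ) (δX' : X' → ℤ) (hX : Cyc.IsSetup X δX) (hX' : Cyc.IsSetup X' δX') (f : X' ⟶ X) [LocallyOfFiniteType f] (hδ : Cyc.DeltaCompat f δX' δX) (L : X.Modules) (cX : Bivar.OpCl 1 X δX) (hcX : Bivar.IsC1Class L cX) (cX' : Bivar.OpCl 1 X' δX') (hcX' : Bivar.IsC1Class ((Scheme.Modules.pullback f).obj L) cX') (p : ℤ) (c : Bivar.Cl p f δX' δX) (s : Bivar.Sq f δX' δX) (k : ℤ) (x : ChowOps.CH s.Y' s.δY' k) : c.op s (k - 1) (cX.op ⟨s.Y', s.g, s.lft, s.δY', s.compatY⟩ k x) = Bivar.chCast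 s.X' s.δX' (sub_right_comm k p 1) (cX'.op ⟨s.X', s.g', MorphismProperty.of_isPullback s.isPullback s.lft, s.δX', s.compatX⟩ (k - p) (c.op s k x)) := by
  haveI := s.lft
  haveI : LocallyOfFiniteType s.g' := MorphismProperty.of_isPullback s.isPullback s.lft
  have hs : Cyc.IsSetup s.Y' s.δY' := Groth.L16.BivarOps.setup_of_compat s.g hX s.compatY
  have hs' : Cyc.IsSetup s.X' s.δX' := Groth.L16.BivarOps.setup_of_compat s.g' hX' s.compatX
  have hN := Groth.L18.Ample.isInvertible_pullback s.g hcX.1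
  have hN' := Groth.L18.Ample.isInvertible_pullback s.g' hcX'.1
  obtain ⟨P, p₀, z, M, σ, hp, hz, hzp, hM, hσ, ⟨e⟩⟩ := Groth.L16.BivarLine.exists_zeroSection hN
  haveI := hp
  haveI := hz
  obtain ⟨δP, hP, hcP⟩ := Groth.L22.Cyc.exists_setup p₀ hs
  let T := Limits.pullback s.f' p₀
  let a : T ⟶ s.X' := Limits.pullback.fst s.f' p₀
  let b : T ⟶ P := Limits.pullback.snd s.f' p₀
  obtain ⟨δT, hT, hcT⟩ := Groth.L22.Cyc.exists_setup a hs'
  let s' : Bivar.Sq f δX' δX :=
    { Y' := P, X' := T, g := p₀ ≫ s.g, f' := b, g' := a ≫ s.g'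
      isPullback := (IsPullback.of_hasPullback s.f' p₀).flip.paste_vert s.isPullback
      lft := inferInstance
      δY' := δP, δX' := δT
      compatY := Bivar.deltaCompat_comp p₀ s.g δP s.δY' δX hcP s.compatY
      compatX := Bivar.deltaCompat_comp a s.g' δT s.δX' δX' hcT s.compatX }
  let z' : s.X' ⟶ T := Limits.pullback.lift (𝟙 _) (s.f' ≫ z) (by rw [Category.id_comp, Category.assoc, hzp, Category.comp_id])
  have hza : z' ≫ a = 𝟙 _ := Limits.pullback.lift_fst _ _ _
  have hzb : z' ≫ b = s.f' ≫ z := Limits.pullback.lift_snd _ _ _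
  have hsq : IsPullback z' s.f' b z := by
    refine IsPullback.of_right ?_ hzb (IsPullback.of_hasPullback s.f' p₀)
    rw [hza, hzp]
    exact IsPullback.id_horiz s.f'
  haveI hz' : IsClosedImmersion z' := MorphismProperty.of_isPullback hsq.flip hz
  have hzδ : Cyc.DeltaCompat z s.δY' δP :=
    Groth.L22.Bundle.deltaCompat_cancel z p₀ (hzp.symm ▸ Bivar.deltaCompat_id s.δY') hcP
  have hzδ' : Cyc.DeltaCompat z' s.δX' δT :=
    Groth.L22.Bundle.deltaCompat_cancel z' a (hza.symm ▸ Bivar.deltaCompat_id s.δX') hcT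
  have hi := Groth.L16.BivarOps.delta_closedImmersion z hzδ
  have hj := Groth.L16.BivarOps.delta_closedImmersion z' hzδ'
  have hM' := Groth.L18.Ample.isInvertible_pullback b hM
  obtain ⟨τ, hτ⟩ : ∃ τ, Cyc.IsZeroSchemeOf z' ((Scheme.Modules.pullback b).obj M) τ :=
    ⟨_, Groth.L22.P1Zero.isZeroSchemeOf_iso z' (Limits.pullback.fst b z) hsq.isoPullback.hom hsq.isoPullback_hom_fst
      (Groth.L22.C1.isZeroScheme_base b z hM σ hσ)⟩
  have hzM := Groth.L18.Ample.isInvertible_pullback z hM
  have hzM' := Groth.L18.Ample.isInvertible_pullback z' hM'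
  have e' : (Scheme.Modules.pullback z').obj ((Scheme.Modules.pullback b).obj M) ≅
      (Scheme.Modules.pullback s.g').obj ((Scheme.Modules.pullback f).obj L) :=
    (Scheme.Modules.pullbackComp z' b).app M ≪≫ (Scheme.Modules.pullbackCongr hzb).app M ≪≫
      ((Scheme.Modules.pullbackComp s.f' z).app M).symm ≪≫ (Scheme.Modules.pullback s.f').mapIso e ≪≫
      (Scheme.Modules.pullbackComp s.f' s.g).app L ≪≫ (Scheme.Modules.pullbackCongr s.isPullback.w).app L ≪≫
      ((Scheme.Modules.pullbackComp s.g' f).app L).symm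
  have key : ∀ (j : ℤ) (y : ChowOps.CH s.Y' s.δY' j),
      cX.op ⟨s.Y', s.g, s.lft, s.δY', s.compatY⟩ j y = Groth.L16.BivarOps.gysinOp z hP hi hM hσ j
        (Groth.L16.BivarOps.pushOp z hs hP hzδ j y) := by
    intro j y
    rw [Groth.L16.BivarC1.op_eq hX hcX ⟨s.Y', s.g, s.lft, s.δY', s.compatY⟩ j y,
      Groth.L16.BivarOps.gysinOp_pushOp z hP hi hM hσ hs hzδ hzM, Groth.L16.BivarOps.c1Op_iso hs hzM e hN]
  have key' : ∀ (j : ℤ) (y : ChowOps.CH s.X' s.δX' j),
      cX'.op ⟨s.X', s.g', MorphismProperty.of_isPullback s.isPullback s.lft, s.δX', s.compatX⟩ j y =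
        Groth.L16.BivarOps.gysinOp z' hT hj hM' hτ j (Groth.L16.BivarOps.pushOp z' hs' hT hzδ' j y) := by
    intro j y
    rw [Groth.L16.BivarC1.op_eq hX' hcX' ⟨s.X', s.g', MorphismProperty.of_isPullback s.isPullback s.lft, s.δX', s.compatX⟩ j y,
      Groth.L16.BivarOps.gysinOp_pushOp z' hT hj hM' hτ hs' hzδ' hzM', Groth.L16.BivarOps.c1Op_iso hs' hzM' e' hN']
  have w₁ : z ≫ s'.g = s.g := by
    show z ≫ p₀ ≫ s.g = s.g
    rw [← Category.assoc, hzp, Category.id_comp]
  have w₃ : z' ≫ s'.g' = s.g' := by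
    show z' ≫ a ≫ s.g' = s.g'
    rw [← Category.assoc, hza, Category.id_comp]
  rw [key, key', Groth.L16.BivarOps.gysin_apply hP hi hM hσ hT hj hM' hτ
      (c.gysin s' s z z' w₁ hzb w₃ M hM σ hσ τ hτ k) (sub_right_comm k p 1),
    Groth.L16.BivarOps.push_apply hs hP hzδ hs' hT hzδ' (c.push s' s z z' w₁ hzb w₃ k)]
end Groth.Agent.S17574
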