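import Groth.Statements.S17577
import Groth.Agent.L16.Bivar.Vanish

set_option autoImplicit false
universe u
open CategoryTheory AlgebraicGeometry
open Bivar

namespace Groth.Agent.S17577

/-- (3) ⇒ (1): let f : X → Y be locally of finite type and c ∈ A^p(X → Y) a bivariant class. Suppose
that for every cartesian square whose test scheme Y' is integral (Y' → Y locally of finite type, X'
= Y' ×_Y X) there is a proper birational morphism Y'' → Y' (Y'' irreducible, not necessarily
reduced, its generic point mapping to the generic point of Y' with an isomorphism of local rings
there) such that c ∩ [Y''] = 0 in CH_*(X''), where X'' = Y'' ×_Y X and [Y''] is the cycle with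
coefficient 1 at the generic point of Y'' and 0 elsewhere. Then c = 0. Taking Y'' = Y' shows in
particular that c vanishes as soon as c ∩ [Y'] = 0 for every such square with Y' integral. The
squares are the prelude's Bivar.Sq (any fibre products), the second one pasted onto the first. Here
a pair (X, δ) with Cyc.IsSetup plays the role of a scheme locally of finite type over the base (S,
δ) (X locally Noetherian with universally catenary local rings, δ a dimension function),
Cyc.DeltaCompat records that a dimension function is the induced one, and bivariant classes are
taken in the operational sense of the prelude: additive operations on the Chow groups CH_k (k-cycles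
modulo rational equivalence) of all test schemes, compatible with proper pushforward, flat pullback
and the Gysin maps of zero schemes of sections of invertible modules in representative form
(Bivar.Cl for A^p(X → Y), Bivar.OpCl for A^p(X)). -/
theorem result (X Y : Scheme.{u}) (δX : X → ℤ) (δY : Y → ℤ) (hX : Cyc.IsSetup X δX) (hY : Cyc.IsSetup Y δY) (f : X ⟶ Y) [LocallyOfFiniteType f] (hδ : Cyc.DeltaCompat f δX δY) (p : ℤ) (c : Bivar.Cl p f δX δY) (h3 : ∀ (s : Bivar.Sq f δX δY) [AlgebraicGeometry.IsIntegral s.Y'], ∃ (t : Bivar.Sq s.f' s.δX' s.δY') (_ : IrreducibleSpace t.Y') (_ : IsProper t.g), t.g (genericPoint t.Y') = genericPoint s.Y' ∧ IsIso (t.g.stalkMap (genericPoint t.Y')) ∧ ∀ (k : ℤ) (α : AlgebraicCycle t.Y' ℤ) (hα : α ∈ Cyc.Zk t.Y' t.δY' k), α (genericPoint t.Y') = 1 → (∀ y : t.Y', y ≠ genericPoint t.Y' → α y = 0) → c.op (s.paste t) k (ChowOps.cl α hα) = 0) : c = 0 := by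
  exact Groth.L16.BivarVanish.eq_zero hX hY c h3
end Groth.Agent.S17577
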