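import Groth.Agent.L18.PosLin.BaseLocus
import Groth.Agent.L21.RR.Coh
import Groth.Statements.S17581
-- import your own Groth.Agent.* helpers here

set_option autoImplicit false
open CategoryTheory CategoryTheory.Limits AlgebraicGeometry
open PosLin

namespace Groth.Agent.S17581

/-- Let X be a projective variety over the complex numbers (an integral scheme, proper over ℂ, with an
ample invertible module) and L an invertible O_X-module; for m ≥ 1 let Bs(L^⊗m) be the base locus of
L^⊗m (the points lying in no open X_s over which a global section s : O_X → L^⊗m is an isomorphism)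
and B(L) = ⋂_{m ≥ 1} Bs(L^⊗m) the stable base locus. Then, among the closed sets Bs(L^⊗m) with m ≥
1, B(L) occurs and is the only minimal one: B(L) = Bs(L^⊗m) for some m ≥ 1, and for each m ≥ 1,
Bs(L^⊗m) is minimal in this family if and only if it coincides with B(L). -/
theorem result (X : Scheme.{0}) [X.Over (Spec (CommRingCat.of ℂ))] [IsIntegral X]
    [IsProper (X ↘ Spec (CommRingCat.of ℂ))] (H : X.Modules) (hH : CohB1.IsAmple H)
    (L : X.Modules) (hL : PicF.IsInvertible L) :
    (∃ m : ℕ, 0 < m ∧ {x : X | ∀ s : Coh.structureModule X ⟶ CohB1.tensorPow L m, x ∉ CohB1.genLocus (CohB1.tensorPow L m) s} = {x : X | ∀ m : ℕ, 0 < m → ∀ s : Coh.structureModule X ⟶ CohB1.tensorPow L m, x ∉ CohB1.genLocus (CohB1.tensorPow L m) s}) ∧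
    ∀ m : ℕ, 0 < m →
      ((∀ m' : ℕ, 0 < m' →
          {x : X | ∀ s : Coh.structureModule X ⟶ CohB1.tensorPow L m', x ∉ CohB1.genLocus (CohB1.tensorPow L m') s} ⊆ {x : X | ∀ s : Coh.structureModule X ⟶ CohB1.tensorPow L m, x ∉ CohB1.genLocus (CohB1.tensorPow L m) s} →
          {x : X | ∀ s : Coh.structureModule X ⟶ CohB1.tensorPow L m', x ∉ CohB1.genLocus (CohB1.tensorPow L m') s} = {x : X | ∀ s : Coh.structureModule X ⟶ CohB1.tensorPow L m, x ∉ CohB1.genLocus (CohB1.tensorPow L m) s}) ↔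
        {x : X | ∀ s : Coh.structureModule X ⟶ CohB1.tensorPow L m, x ∉ CohB1.genLocus (CohB1.tensorPow L m) s} = {x : X | ∀ m : ℕ, 0 < m → ∀ s : Coh.structureModule X ⟶ CohB1.tensorPow L m, x ∉ CohB1.genLocus (CohB1.tensorPow L m) s}) := by
  haveI := Groth.L21.RR.isNoetherian_of_proper (X := X) ℂ
  refine ⟨?_, fun m hm => Groth.L18.BaseLocus.bs_minimal_iff hL hm⟩
  obtain ⟨n₀, hn₀, hn⟩ := Groth.L18.BaseLocus.exists_bs_eq_sbs (X := X) hL
  exact ⟨1 * n₀, by omega, hn 1 Nat.one_pos⟩

end Groth.Agent.S17581
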