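import Groth.Agent.L02.Canon.Pushforward
import Groth.Statements.S17583
-- import your own Groth.Agent.* helpers here

set_option autoImplicit false
open CategoryTheory CategoryTheory.Limits AlgebraicGeometry
open PosLin

namespace Groth.Agent.S17583

/-- Let X and Y each be a projective variety over the complex numbers (an integral scheme, proper over
ℂ, with an ample invertible module), and let f : X → Y be an algebraic fibre space: a surjective
morphism over ℂ such that the canonical map O_Y → f_*O_X is an isomorphism. Then for every
invertible O_Y-module L the unit L → f_* f^* L of the pullback–pushforward adjunction is an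
isomorphism; taking global sections, H^0(X, f^*L) = H^0(Y, L) (the printed statement is this
equality for the powers L^⊗m, m > 0, and adds the equality of Iitaka dimensions, which is not stated
here). -/
theorem result (X : Scheme.{0}) [X.Over (Spec (CommRingCat.of ℂ))] [IsIntegral X] [IsProper (X ↘ Spec (CommRingCat.of ℂ))]
    (HX : X.Modules) (hHX : CohB1.IsAmple HX)
    (Y : Scheme.{0}) [Y.Over (Spec (CommRingCat.of ℂ))] [IsIntegral Y] [IsProper (Y ↘ Spec (CommRingCat.of ℂ))]
    (HY : Y.Modules) (hHY : CohB1.IsAmple HY)
    (f : X ⟶ Y) (hf : f ≫ (Y ↘ Spec (CommRingCat.of ℂ)) = X ↘ Spec (CommRingCat.of ℂ)) [Surjective f]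
    (hfs : IsIso (ClSub.unitToPush f))
    (L : Y.Modules) (hL : PicF.IsInvertible L) :
    IsIso ((Scheme.Modules.pullbackPushforwardAdjunction f).unit.app L) := by
  refine Groth.L02.Canon.isIso_unit_of_isInvertible f (fun U => ?_) L hL
  haveI := hfs
  have h : IsIso ((ClSub.unitToPush f).mapPresheaf.app (Opposite.op U)) :=
    inferInstanceAs (IsIso (((Scheme.Modules.toPresheaf Y).map (ClSub.unitToPush f)).app (Opposite.op U)))
  exact (ConcreteCategory.isIso_iff_bijective ((ClSub.unitToPush f).mapPresheaf.app (Opposite.op U))).1 h

end Groth.Agent.S17583
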