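import Groth.Agent.L18.LineBundleNormal
import Groth.Agent.L19.NormalSections
import Groth.Statements.S17584
-- import your own Groth.Agent.* helpers here

set_option autoImplicit false
open CategoryTheory CategoryTheory.Limits AlgebraicGeometry
open PosLin

namespace Groth.Agent.S17584

/-- Let X and Y each be a projective variety over the complex numbers (an integral scheme, proper over
ℂ, with an ample invertible module), and f : X → Y an algebraic fibre space (a surjective morphism
over ℂ with O_Y → f_*O_X an isomorphism). If X is normal, then Y is normal. -/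
theorem result (X : Scheme.{0}) [X.Over (Spec (CommRingCat.of ℂ))] [IsIntegral X] [IsProper (X ↘ Spec (CommRingCat.of ℂ))]
    (HX : X.Modules) (hHX : CohB1.IsAmple HX)
    (Y : Scheme.{0}) [Y.Over (Spec (CommRingCat.of ℂ))] [IsIntegral Y] [IsProper (Y ↘ Spec (CommRingCat.of ℂ))]
    (HY : Y.Modules) (hHY : CohB1.IsAmple HY)
    (f : X ⟶ Y) (hf : f ≫ (Y ↘ Spec (CommRingCat.of ℂ)) = X ↘ Spec (CommRingCat.of ℂ)) [Surjective f]
    (hfs : IsIso (ClSub.unitToPush f))
    (hX : Pi1.IsNormalScheme X) : Pi1.IsNormalScheme Y := by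
  have hbij : ∀ U : Y.Opens, Function.Bijective (f.app U) := fun U => by
    haveI := hfs
    have h : IsIso ((ClSub.unitToPush f).mapPresheaf.app (Opposite.op U)) :=
      inferInstanceAs (IsIso (((Scheme.Modules.toPresheaf Y).map (ClSub.unitToPush f)).app (Opposite.op U)))
    exact (ConcreteCategory.isIso_iff_bijective ((ClSub.unitToPush f).mapPresheaf.app (Opposite.op U))).1 h
  intro y
  obtain ⟨W, hW, hyW, -⟩ := exists_isAffineOpen_mem_and_subset (TopologicalSpace.Opens.mem_top y)
  haveI : Nonempty W := ⟨⟨y, hyW⟩⟩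
  haveI : Nonempty (f ⁻¹ᵁ W : X.Opens) := by
    obtain ⟨x, rfl⟩ := f.surjective y
    exact ⟨⟨x, hyW⟩⟩
  haveI := Groth.L19.NormalSec.isIntegrallyClosed_sections (X := X) (fun x => (hX x).2) (f ⁻¹ᵁ W)
  haveI : IsIntegrallyClosed Γ(Y, W) := IsIntegrallyClosed.of_equiv (RingEquiv.ofBijective (f.app W).hom (hbij W)).symm
  letI := (Y.presheaf.germ W y hyW).hom.toAlgebra
  haveI := hW.isLocalization_stalk ⟨y, hyW⟩
  exact Groth.L18.LBNormal.good_of_isLocalization (S := Y.presheaf.stalk y) (hW.primeIdealOf ⟨y, hyW⟩).asIdeal.primeCompl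
    fun h => h (Ideal.zero_mem _)

end Groth.Agent.S17584
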