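import Groth.Statements.S17588
import Groth.Agent.L22.Big.Nef
-- import your own Groth.Agent.* helpers here

set_option autoImplicit false
open CategoryTheory CategoryTheory.Limits AlgebraicGeometry
open PosLin

namespace Groth.Agent.S17588

/-- Let X be a projective variety over the complex numbers (an integral scheme, proper over ℂ, with an
ample invertible module) of dimension n, L an invertible O_X-module which is numerically effective
(its restriction to every integral one-dimensional closed subscheme has non-negative degree), and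
L⁻¹ a tensor inverse of L. Then L is big, bigness being expressed through the equivalent growth
condition dim_ℂ H^0(X, L^⊗m) ≥ C·m^n for some constant C > 0 and all sufficiently large m, if and
only if the self-intersection number (L^n) = ∫ c_1(L)^n · [O_X] (the alternating sum of Euler
characteristics attached to n copies of L⁻¹) is positive. -/
theorem result (X : Scheme.{0}) [X.Over (Spec (CommRingCat.of ℂ))] [IsIntegral X]
    [IsProper (X ↘ Spec (CommRingCat.of ℂ))] (H : X.Modules) (hH : CohB1.IsAmple H)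
    (n : ℕ) (hn : topologicalKrullDim X = n)
    (L Linv : X.Modules) (hL : PicF.IsInvertible L) (hLinv : ClSub.IsInverseOf Linv L)
    (hnef : ∀ (Z : Scheme.{0}) (i : Z ⟶ X) [IsClosedImmersion i], IsIntegral Z → topologicalKrullDim Z = 1 →
      0 ≤ Pic13.curveDeg ℂ (i ≫ (X ↘ Spec (CommRingCat.of ℂ))) ((Scheme.Modules.pullback i).obj L)) :
    (∃ C : ℝ, 0 < C ∧ ∃ m₁ : ℕ, ∀ m : ℕ, m₁ ≤ m →
        C * (m : ℝ) ^ n ≤ (Module.finrank ℂ (Coh.HH X (CohB1.tensorPow L m) 0) : ℝ)) ↔
      0 < FGA.intNum ℂ X n (fun _ : Fin n => Linv) (Coh.structureModule X) := by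
  haveI := Groth.L21.RR.isNoetherian_of_proper (X := X) ℂ
  have hN : Groth.L22.Nef.IsNef ℂ L := (Groth.L22.Nef.isNef_iff_curveDeg ℂ hL).2 hnef
  have key := Groth.L22.Big.intNum_inv_eq ℂ hn.le (L := fun _ : Fin n => L) (L' := fun _ => Linv)
    (fun _ => hL) (fun _ => Groth.L22.Big.isInvertible_inv hL hLinv) fun _ => hLinv
  have e : 0 < FGA.intNum ℂ X n (fun _ : Fin n => Linv) (Coh.structureModule X) ↔
      0 < Groth.L22.Inter.altT ℂ (fun _ : Fin n => L) (Coh.structureModule X) := by
    rw [← key, Int.cast_pos]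
  rw [e]
  refine ⟨fun ⟨C, hC, m₁, hm⟩ => ?_, fun hpos => ?_⟩
  · obtain ⟨ν, A, φ, _, hA, hφ⟩ := Groth.L22.Big.exists_mono_of_growth ℂ hH hL hn
      (Groth.L22.Big.exists_gt_of_growth (f := fun m => Groth.L22.Big.h0 ℂ (CohB1.tensorPow L m)) hC
        fun m h => by simpa only [Groth.L22.Big.h0_def] using hm m h)
    haveI := hφ
    exact Groth.L22.Big.altT_pos_of_mono ℂ hA hN hn φ
  obtain ⟨C, hC, m₁, hm⟩ := Groth.L22.Big.exists_growth ℂ hH hN hn hpos
  refine ⟨(C : ℝ), by exact_mod_cast hC, m₁, fun m h => ?_⟩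
  rw [← Groth.L22.Big.h0_def]
  exact_mod_cast hm m h


end Groth.Agent.S17588
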