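import Groth.Statements.S17592
import Groth.Agent.L05.Henselization.Nbhd

set_option autoImplicit false
universe u
open Hensel

namespace Groth.Agent.S17592

/-- Let R → S be an étale ring map and I an ideal of R such that the induced map R/I → S/IS is
bijective. Then a Henselization of the pair (S, IS), regarded as an R-algebra, is a Henselization of
the pair (R, I). -/
theorem result (R : Type u) [CommRing R] (I : Ideal R)
    (S : Type u) [CommRing S] [Algebra R S] [Algebra.Etale R S]
    (hq : Function.Bijective
      (Ideal.quotientMap (I.map (algebraMap R S)) (algebraMap R S) Ideal.le_comap_map))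
    (H : Type u) [CommRing H] [Algebra S H] [Algebra R H] [IsScalarTower R S H]
    (hH : Hens2.IsPairHenselization S (I.map (algebraMap R S)) H) :
    Hens2.IsPairHenselization R I H := by
  obtain ⟨σ, hσ⟩ := (Groth.L05.Henselization.exists_section_iff I).mp hq
  exact Groth.L05.Henselization.isPairHenselization_of_section I hσ hH

end Groth.Agent.S17592
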