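import Groth.Statements.S17595
import Groth.Agent.L05.Hfp.OpenLoci

set_option autoImplicit false
universe u
open Hensel

namespace Groth.Agent.S17595

/-- Suppose (A, I) is a Henselian pair, and R is an A-algebra of finite presentation for which A → R is
quasi-finite at each prime of R that contains IR. Then there is an étale R-algebra R' such that R/IR
→ R'/IR' is bijective and A → R' is quasi-finite. -/
theorem result (A : Type u) [CommRing A] (I : Ideal A) [HenselianRing A I]
    (R : Type u) [CommRing R] [Algebra A R] [Algebra.FinitePresentation A R]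
    (h : ∀ (p : Ideal R) [p.IsPrime], I.map (algebraMap A R) ≤ p → Algebra.QuasiFiniteAt A p)
    : ∃ (R' : Type u) (_ : CommRing R') (_ : Algebra R R') (_ : Algebra A R') (_ : IsScalarTower A R R'),
      Algebra.Etale R R' ∧
      Function.Bijective (Ideal.quotientMap ((I.map (algebraMap A R)).map (algebraMap R R'))
        (algebraMap R R') Ideal.le_comap_map) ∧ Algebra.QuasiFinite A R' := by
  let U : Set (PrimeSpectrum R) :=
    ⋃ g ∈ {g : R | Algebra.QuasiFinite A (Localization.Away g)}, (PrimeSpectrum.basicOpen g : Set _)
  obtain ⟨f, hf, hsub⟩ := Groth.L05.Hfp.exists_sub_one_mem_basicOpen_subset (I.map (algebraMap A R))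
    U (isOpen_biUnion fun g _ => (PrimeSpectrum.basicOpen g).2) (fun q hq => by
      haveI := h q.asIdeal hq
      obtain ⟨g, hg, hqf⟩ := Groth.L05.Hfp.exists_quasiFinite_away (A := A) q.asIdeal
      exact Set.mem_biUnion (show g ∈ {g : R | Algebra.QuasiFinite A (Localization.Away g)} from hqf) hg)
  refine ⟨Localization.Away f, inferInstance, inferInstance, inferInstance, inferInstance,
    Algebra.Etale.of_isLocalizationAway f, Groth.L05.Hfp.bijective_quotientMap_away _ f hf, ?_⟩
  haveI : Algebra.FiniteType R (Localization.Away f) := inferInstance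
  haveI : Algebra.FiniteType A (Localization.Away f) :=
    Algebra.FiniteType.trans (inferInstance : Algebra.FiniteType A R) inferInstance
  refine Groth.L05.Hfp.quasiFinite_of_forall fun P hP => ?_
  have hfP : f ∉ P.comap (algebraMap R (Localization.Away f)) := fun hfP =>
    hP.ne_top (P.eq_top_of_isUnit_mem hfP (IsLocalization.Away.algebraMap_isUnit f))
  obtain ⟨g, hg, hgP⟩ := Set.mem_iUnion₂.mp
    (@hsub ⟨P.comap (algebraMap R (Localization.Away f)), inferInstance⟩ hfP)
  haveI : Algebra.QuasiFinite A (Localization.Away g) := hg
  haveI := Groth.L05.Hfp.quasiFiniteAt_of_away (A := A) g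
    (P.comap (algebraMap R (Localization.Away f))) hgP
  haveI : P.LiesOver (P.comap (algebraMap R (Localization.Away f))) := ⟨rfl⟩
  exact Algebra.QuasiFiniteAt.of_surjectiveOnStalks_of_liesOver
    (P.comap (algebraMap R (Localization.Away f)))
    (RingHom.surjectiveOnStalks_of_isLocalization (Submonoid.powers f) _) P

end Groth.Agent.S17595
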