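import Groth.Statements.S17597
import Groth.Agent.L05.Hfp.Finite

set_option autoImplicit false
universe u
open Hensel

namespace Groth.Agent.S17597

/-- Let (A, I) be a Henselian pair and let B be a Henselization of the pair (R, IR) for a finitely
presented A-algebra R (so A → B is Henselian finitely presented). If the induced map A/I → B/IB is
surjective, then A → B is surjective. -/
theorem result (A : Type u) [CommRing A] (I : Ideal A)
    [HenselianRing A I] (R : Type u) [CommRing R] [Algebra A R] [Algebra.FinitePresentation A R]
    (B : Type u) [CommRing B] [Algebra R B] [Algebra A B] [IsScalarTower A R B]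
    (hB : Hens2.IsPairHenselization R (I.map (algebraMap A R)) B)
    (hsurj : Function.Surjective
      (Ideal.quotientMap (I.map (algebraMap A B)) (algebraMap A B) Ideal.le_comap_map)) :
    Function.Surjective (algebraMap A B) := by
  obtain ⟨e, hf, ⟨φ⟩⟩ := Groth.L05.Hfp.exists_algEquiv_of_quotient_finite I hB
    (RingHom.Finite.of_surjective _ hsurj)
  haveI := hf
  haveI : Module.Finite A B := Module.Finite.equiv φ.toLinearEquiv
  exact Groth.L05.Hfp.surjective_of_finite I hsurj

end Groth.Agent.S17597
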