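import Groth.Statements.S17598
import Groth.Agent.L05.Hfp.Lift
import Groth.Agent.L23.EtaleLift

set_option autoImplicit false
universe u
open Hensel

namespace Groth.Agent.S17598

/-- Let (A, I) be a Henselian pair and let B be a Henselization of the pair (R₀, IR₀) for a finitely
presented A-algebra R₀ (so A → B is a Henselian finitely presented map of Henselian pairs). Assume
that A/I^r → B/I^rB is étale for every r ≥ 1 (for Henselian finitely presented maps this is
equivalent to the h-formally étale lifting property). Then there exist an étale A-algebra R, a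
Henselization H of the pair (R, IR) and a surjective A-algebra map H → B whose kernel is a finitely
generated ideal contained in I^n H for every n. -/
theorem result (A : Type u) [CommRing A] (I : Ideal A)
    [HenselianRing A I] (R₀ : Type u) [CommRing R₀] [Algebra A R₀] [Algebra.FinitePresentation A R₀]
    (B : Type u) [CommRing B] [Algebra R₀ B] [Algebra A B] [IsScalarTower A R₀ B]
    (hB : Hens2.IsPairHenselization R₀ (I.map (algebraMap A R₀)) B)
    (het : ∀ r : ℕ, 1 ≤ r → Algebra.Etale (A ⧸ I ^ r) (B ⧸ (I ^ r).map (algebraMap A B))) :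
    ∃ (R : Type u) (_ : CommRing R) (_ : Algebra A R) (H : Type u) (_ : CommRing H) (_ : Algebra R H)
      (_ : Algebra A H) (_ : IsScalarTower A R H),
      Algebra.Etale A R ∧ Hens2.IsPairHenselization R (I.map (algebraMap A R)) H ∧
      ∃ φ : H →ₐ[A] B, Function.Surjective φ ∧ (RingHom.ker φ).FG ∧
        ∀ n : ℕ, RingHom.ker φ ≤ (I ^ n).map (algebraMap A H) := by
  haveI := het 1 le_rfl
  obtain ⟨R, _, _, ψ, _, hψ, hker⟩ := Groth.L23.exists_etale_lift (P := A) (B := A ⧸ I ^ 1)
    (C := B ⧸ (I ^ 1).map (algebraMap A B)) Ideal.Quotient.mk_surjective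
  rw [Ideal.Quotient.algebraMap_eq, Ideal.mk_ker] at hker
  obtain ⟨H, _, _, _, _, φ, h₁, h₂, h₃, h₄⟩ :=
    Groth.L05.Hfp.exists_surjection_of_smooth I hB ψ hψ hker
  refine ⟨R, inferInstance, inferInstance, H, inferInstance, inferInstance, inferInstance,
    inferInstance, inferInstance, h₁, φ, h₂, h₃, fun n => ?_⟩
  rcases Nat.eq_zero_or_pos n with rfl | hn
  · simp [Ideal.one_eq_top, Ideal.map_top]
  haveI := het n hn
  exact Groth.L05.Hfp.ker_le_pow_map I φ h₂ h₄ n inferInstance

end Groth.Agent.S17598
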