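import Groth.Statements.S1760
import Groth.Agent.L21.GorensteinFieldExt

set_option autoImplicit false
universe u
open scoped TensorProduct
open Goren

namespace Groth.Agent.S1760

/-- First assertion, written for the local ring B = O_{X,x}. Let k'/k be a finitely generated field
extension, B a Noetherian local k-algebra, and q a prime of B ⊗_k k' lying over the maximal ideal of
B. Then B is Gorenstein if and only if the localization of B ⊗_k k' at q is Gorenstein. -/
theorem result (k k' : Type u) [Field k] [Field k'] [Algebra k k'] (hfg : ∃ s : Finset k', IntermediateField.adjoin k (s : Set k') = ⊤) (B : Type u) [CommRing B] [IsLocalRing B] [IsNoetherianRing B] [Algebra k B] (q : PrimeSpectrum (B ⊗[k] k')) (hq : q.asIdeal.comap (algebraMap B (B ⊗[k] k')) = IsLocalRing.maximalIdeal B) : LocCoh.IsGorensteinLocalRing B ↔ LocCoh.IsGorensteinLocalRing (Localization.AtPrime q.asIdeal) := by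
  haveI : IsNoetherianRing (B ⊗[k] k') := by
    haveI := Groth.L21.GorensteinFieldExt.isNoetherianRing_baseChange k k' B hfg
    exact isNoetherianRing_of_ringEquiv _ (Algebra.TensorProduct.comm k k' B).toRingEquiv
  haveI : q.asIdeal.LiesOver (IsLocalRing.maximalIdeal B) := ⟨hq.symm⟩
  rw [Groth.L21.GorensteinFieldExt.gorenstein_iff_fieldExt (k := k) B k'
    (fun p _ => Groth.L21.GorensteinFieldExt.locGor_tensor_field k _ k' hfg) q.asIdeal (IsLocalRing.maximalIdeal B)]
  let e : B ≃+* Localization.AtPrime (IsLocalRing.maximalIdeal B) :=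
    (IsLocalization.atUnits B (IsLocalRing.maximalIdeal B).primeCompl
      (fun x hx => IsLocalRing.notMem_maximalIdeal.1 hx)).toRingEquiv
  exact ⟨Groth.L21.GorensteinAscend.isGorensteinLocalRing_of_ringEquiv e,
    Groth.L21.GorensteinAscend.isGorensteinLocalRing_of_ringEquiv e.symm⟩

end Groth.Agent.S1760
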