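import Groth.Statements.S17604
import Groth.Agent.L05.Henselization.FormEtale

set_option autoImplicit false
universe u
open Hensel

namespace Groth.Agent.S17604

/-- Let (A, I) be a Henselian pair, R and R' étale A-algebras, and B, B' Henselizations of the pairs (R,
IR), (R', IR') with their induced A-algebra structures (so B and B' are h-étale over A). Then
reduction modulo I is a bijection from A-algebra maps B → B' to A-algebra maps B/IB → B'/IB': two
A-algebra maps B → B' that agree modulo IB' are equal, and every A-algebra map B/IB → B'/IB' is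
induced by an A-algebra map B → B'. -/
theorem result (A : Type u) [CommRing A]
    (I : Ideal A) [HenselianRing A I]
    (R : Type u) [CommRing R] [Algebra A R] [Algebra.Etale A R]
    (B : Type u) [CommRing B] [Algebra R B] [Algebra A B] [IsScalarTower A R B]
    (hB : Hens2.IsPairHenselization R (I.map (algebraMap A R)) B)
    (R' : Type u) [CommRing R'] [Algebra A R'] [Algebra.Etale A R']
    (B' : Type u) [CommRing B'] [Algebra R' B'] [Algebra A B'] [IsScalarTower A R' B']
    (hB' : Hens2.IsPairHenselization R' (I.map (algebraMap A R')) B') :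
    (∀ φ ψ : B →ₐ[A] B', (∀ b : B, φ b - ψ b ∈ I.map (algebraMap A B')) → φ = ψ) ∧
    ∀ χ : (B ⧸ I.map (algebraMap A B)) →ₐ[A] (B' ⧸ I.map (algebraMap A B')),
      ∃ φ : B →ₐ[A] B', ∀ b : B,
        Ideal.Quotient.mk (I.map (algebraMap A B')) (φ b) = χ (Ideal.Quotient.mk (I.map (algebraMap A B)) b) := by
  have e : (I.map (algebraMap A R')).map (algebraMap R' B') = I.map (algebraMap A B') := by
    rw [Ideal.map_map, ← IsScalarTower.algebraMap_eq]
  haveI : HenselianRing B' (I.map (algebraMap A B')) := e ▸ hB'.1
  exact Groth.L05.Henselization.pairHens_etale_lift I hB _ le_rfl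

end Groth.Agent.S17604
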