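import Groth.Statements.S17605
import Groth.Agent.L05.Hfp.Basic

set_option autoImplicit false
universe u
open Hensel

namespace Groth.Agent.S17605

/-- Let A be a ring with an ideal I and let f₁, f₂ be elements of A such that D(f₂) ∩ V(I) ⊆ D(f₁) ∩
V(I) in Spec A. If H₁ is a Henselization of the pair (A_{f₁}, IA_{f₁}) and H₂ a Henselization of the
pair (A_{f₂}, IA_{f₂}), with their induced A-algebra structures, then there is exactly one A-algebra
map H₁ → H₂. -/
theorem result (A : Type u) [CommRing A]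
    (I : Ideal A) (f₁ f₂ : A)
    (h : (PrimeSpectrum.basicOpen f₂ : Set (PrimeSpectrum A)) ∩ PrimeSpectrum.zeroLocus (I : Set A) ⊆
      (PrimeSpectrum.basicOpen f₁ : Set (PrimeSpectrum A)) ∩ PrimeSpectrum.zeroLocus (I : Set A))
    (H₁ : Type u) [CommRing H₁] [Algebra (Localization.Away f₁) H₁] [Algebra A H₁]
    [IsScalarTower A (Localization.Away f₁) H₁]
    (hH₁ : Hens2.IsPairHenselization (Localization.Away f₁)
      (I.map (algebraMap A (Localization.Away f₁))) H₁)
    (H₂ : Type u) [CommRing H₂] [Algebra (Localization.Away f₂) H₂] [Algebra A H₂]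
    [IsScalarTower A (Localization.Away f₂) H₂]
    (hH₂ : Hens2.IsPairHenselization (Localization.Away f₂)
      (I.map (algebraMap A (Localization.Away f₂))) H₂) :
    Nonempty (H₁ →ₐ[A] H₂) ∧ Subsingleton (H₁ →ₐ[A] H₂) := by
  haveI h2 : HenselianRing H₂ (I.map (algebraMap A H₂)) := Groth.L05.Hfp.henselianRing_hens I hH₂
  have hu : IsUnit (algebraMap A H₂ f₁) := by
    have ht : Ideal.span ({algebraMap A H₂ f₁} : Set H₂) ⊔ I.map (algebraMap A H₂) = ⊤ := by
      by_contra hne
      obtain ⟨P, hP, hle⟩ := Ideal.exists_le_maximal _ hne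
      let p : PrimeSpectrum A := PrimeSpectrum.comap (algebraMap A H₂) ⟨P, hP.isPrime⟩
      have hpI : p ∈ PrimeSpectrum.zeroLocus (I : Set A) := fun x hx =>
        hle (Ideal.mem_sup_right (Ideal.mem_map_of_mem _ hx))
      have hp2 : p ∈ (PrimeSpectrum.basicOpen f₂ : Set (PrimeSpectrum A)) := fun hf => by
        refine hP.ne_top (P.eq_top_of_isUnit_mem hf ?_)
        rw [IsScalarTower.algebraMap_apply A (Localization.Away f₂) H₂]
        exact (IsLocalization.Away.algebraMap_isUnit f₂).map _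
      exact (h ⟨hp2, hpI⟩).1 (hle (Ideal.mem_sup_left (Ideal.mem_span_singleton_self _)))
    obtain ⟨a, ha, b, hb, hab⟩ := Submodule.mem_sup.mp ((Ideal.eq_top_iff_one _).mp ht)
    have hua : IsUnit a := Ideal.isUnit_of_sub_one_mem_jacobson_bot _ (h2.jac (by
      rw [← hab, sub_add_cancel_left]; exact neg_mem hb))
    obtain ⟨c, rfl⟩ := Ideal.mem_span_singleton'.mp ha
    exact isUnit_of_mul_isUnit_right hua
  let φ₀ : Localization.Away f₁ →ₐ[A] H₂ :=
    IsLocalization.Away.liftAlgHom f₁ (f := Algebra.ofId A H₂) hu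
  obtain ⟨φ, hφ, huniq⟩ := Groth.L05.Hfp.existsUnique_extend I hH₁ (I.map (algebraMap A H₂)) le_rfl φ₀
  refine ⟨⟨φ⟩, ⟨fun ψ₁ ψ₂ => ?_⟩⟩
  exact (huniq ψ₁ (IsLocalization.algHom_ext (Submonoid.powers f₁) (Subsingleton.elim _ _))).trans
    (huniq ψ₂ (IsLocalization.algHom_ext (Submonoid.powers f₁) (Subsingleton.elim _ _))).symm

end Groth.Agent.S17605
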