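import Groth.Statements.S17609
import Groth.Agent.L05.Hfp.Stage

set_option autoImplicit false
universe u
open Hensel

namespace Groth.Agent.S17609

/-- Let (A, I) be a Henselian pair and let B, C be Henselizations of the pairs (R, IR), (S, IS) for
finitely presented A-algebras R and S, with their induced A-algebra structures (so A → B and A → C
are Henselian finitely presented). Then every A-algebra map B → C (encoded as a B-algebra structure
on C compatible with that of A) is Henselian finitely presented: there are a finitely presented
B-algebra T and a T-algebra structure on C compatible with that of B for which C is a Henselization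
of the pair (T, IBT). -/
theorem result (A : Type u) [CommRing A] (I : Ideal A) [HenselianRing A I]
    (R : Type u) [CommRing R] [Algebra A R] [Algebra.FinitePresentation A R]
    (B : Type u) [CommRing B] [Algebra R B] [Algebra A B] [IsScalarTower A R B]
    (hB : Hens2.IsPairHenselization R (I.map (algebraMap A R)) B)
    (S : Type u) [CommRing S] [Algebra A S] [Algebra.FinitePresentation A S]
    (C : Type u) [CommRing C] [Algebra S C] [Algebra A C] [IsScalarTower A S C]
    (hC : Hens2.IsPairHenselization S (I.map (algebraMap A S)) C)
    [Algebra B C] [IsScalarTower A B C] :
    ∃ (T : Type u) (_ : CommRing T) (_ : Algebra B T) (_ : Algebra T C) (_ : IsScalarTower B T C),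
      Algebra.FinitePresentation B T ∧
      Hens2.IsPairHenselization T ((I.map (algebraMap A B)).map (algebraMap B T)) C := by
  exact Groth.L05.Hfp.exists_stage_relative I hB hC

end Groth.Agent.S17609
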