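import Groth.Statements.S17613
import Groth.Agent.L05.Hfp.Presentation

set_option autoImplicit false
universe u
open Hensel

namespace Groth.Agent.S17613

/-- Let (A, I) be a Henselian pair and let B be a Henselization of the pair (R₀, IR₀) for a finitely
presented A-algebra R₀ (so A → B is Henselian finitely presented). Let (R_a) be a directed system of
A-algebras with A-compatible transition maps such that each (R_a, IR_a) is a Henselian pair, and let
L be its direct limit with the induced A-algebra structure. Then the canonical map from the colimit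
of the Hom_A(B, R_a) to Hom_A(B, L) is bijective: every A-algebra map B → L factors through some
R_a, and two A-algebra maps B → R_a whose composites with R_a → L agree become equal after passing
to some R_b. (Index set in the universe of the rings.) -/
theorem result (A : Type u) [CommRing A] (I : Ideal A)
    [HenselianRing A I] (R₀ : Type u) [CommRing R₀] [Algebra A R₀] [Algebra.FinitePresentation A R₀]
    (B : Type u) [CommRing B] [Algebra R₀ B] [Algebra A B] [IsScalarTower A R₀ B]
    (hB : Hens2.IsPairHenselization R₀ (I.map (algebraMap A R₀)) B)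
    {κ : Type u} [Preorder κ] [IsDirectedOrder κ] [Nonempty κ]
    (Ra : κ → Type u) [∀ a, CommRing (Ra a)] [∀ a, Algebra A (Ra a)]
    [∀ a, HenselianRing (Ra a) (I.map (algebraMap A (Ra a)))]
    (t : ∀ a b : κ, a ≤ b → (Ra a →+* Ra b)) [DirectedSystem Ra (fun a b h => t a b h)]
    (ht : ∀ (a b : κ) (h : a ≤ b), (t a b h).comp (algebraMap A (Ra a)) = algebraMap A (Ra b))
    [Algebra A (DirectLimit Ra t)]
    (halg : ∀ (a : κ) (x : A), algebraMap A (DirectLimit Ra t) x =
      DirectLimit.Ring.of Ra t a (algebraMap A (Ra a) x)) :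
    (∀ χ : B →ₐ[A] DirectLimit Ra t, ∃ (a : κ) (φ : B →ₐ[A] Ra a),
        ∀ x : B, DirectLimit.Ring.of Ra t a (φ x) = χ x) ∧
    ∀ (a : κ) (φ ψ : B →ₐ[A] Ra a),
      (∀ x : B, DirectLimit.Ring.of Ra t a (φ x) = DirectLimit.Ring.of Ra t a (ψ x)) →
      ∃ (b : κ) (h : a ≤ b), ∀ x : B, t a b h (φ x) = t a b h (ψ x) := by
  exact Groth.L05.Hfp.bijective_dirLim_of_hens I hB ht halg

end Groth.Agent.S17613
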