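import Groth.Statements.S17615
import Groth.Agent.L05.Hfp.Basic
import Groth.Agent.L05.Hfp.OpenLoci
import Groth.Agent.L19.FlatComp
import Mathlib.RingTheory.Etale.Basic

set_option autoImplicit false
universe u
open Hensel

namespace Groth.Agent.S17615

/-- Let (A, I) be a Henselian pair and let B be a Henselization of the pair (R₀, IR₀) for a finitely
presented A-algebra R₀ (so A → B is a Henselian finitely presented map of Henselian pairs). If B is
flat over A, then there are a finitely presented A-algebra S that is flat over A and an S-algebra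
structure on B compatible with that of A for which B is a Henselization of the pair (S, IS). -/
theorem result (A : Type u) [CommRing A]
    (I : Ideal A) [HenselianRing A I]
    (R₀ : Type u) [CommRing R₀] [Algebra A R₀] [Algebra.FinitePresentation A R₀]
    (B : Type u) [CommRing B] [Algebra R₀ B] [Algebra A B] [IsScalarTower A R₀ B]
    (hB : Hens2.IsPairHenselization R₀ (I.map (algebraMap A R₀)) B) [Module.Flat A B] :
    ∃ (S : Type u) (_ : CommRing S) (_ : Algebra A S) (_ : Algebra S B) (_ : IsScalarTower A S B),
      Algebra.FinitePresentation A S ∧ Module.Flat A S ∧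
      Hens2.IsPairHenselization S (I.map (algebraMap A S)) B := by
  classical
  let K : Ideal R₀ := I.map (algebraMap A R₀)
  haveI : Module.Flat R₀ B := Groth.L05.Henselization.flat_of_isPairHenselization R₀ K hB
  have hflat : ∀ q : PrimeSpectrum R₀, K ≤ q.asIdeal → Module.Flat A (Localization.AtPrime q.asIdeal) := by
    intro q hq
    let e := RingEquiv.ofBijective _ (Groth.L05.Henselization.quotientMap_pow_bijective R₀ K hB 1)
    haveI hp : (q.asIdeal.map (Ideal.Quotient.mk (K ^ 1))).IsPrime :=
      Ideal.map_isPrime_of_surjective Ideal.Quotient.mk_surjective (by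
        rw [Ideal.mk_ker, pow_one]; exact hq)
    let Q : Ideal B := ((q.asIdeal.map (Ideal.Quotient.mk (K ^ 1))).comap e.symm.toRingHom).comap
      (Ideal.Quotient.mk _)
    haveI : Q.IsPrime := inferInstanceAs (Ideal.IsPrime (Ideal.comap _ _))
    have hQ : Q.comap (algebraMap R₀ B) = q.asIdeal := by
      ext x
      show e.symm (e (Ideal.Quotient.mk (K ^ 1) x)) ∈ q.asIdeal.map (Ideal.Quotient.mk (K ^ 1)) ↔ _
      rw [RingEquiv.symm_apply_apply,
        ← Ideal.mem_comap, Ideal.comap_map_of_surjective _ Ideal.Quotient.mk_surjective,
        ← RingHom.ker_eq_comap_bot, Ideal.mk_ker, sup_of_le_left (by rw [pow_one]; exact hq)]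
    haveI : Q.LiesOver q.asIdeal := ⟨hQ.symm⟩
    let φ : Localization.AtPrime q.asIdeal →+* Localization.AtPrime Q :=
      Localization.localRingHom q.asIdeal Q (algebraMap R₀ B) hQ.symm
    letI : Algebra (Localization.AtPrime q.asIdeal) (Localization.AtPrime Q) := φ.toAlgebra
    haveI : IsScalarTower R₀ (Localization.AtPrime q.asIdeal) (Localization.AtPrime Q) :=
      IsScalarTower.of_algebraMap_eq fun x => by
        rw [IsScalarTower.algebraMap_apply R₀ B (Localization.AtPrime Q)]
        exact (Localization.localRingHom_to_map _ _ _ hQ.symm x).symm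
    haveI : IsScalarTower A (Localization.AtPrime q.asIdeal) (Localization.AtPrime Q) :=
      IsScalarTower.of_algebraMap_eq fun x => by
        rw [IsScalarTower.algebraMap_apply A R₀ (Localization.AtPrime q.asIdeal),
          ← IsScalarTower.algebraMap_apply R₀ (Localization.AtPrime q.asIdeal),
          ← IsScalarTower.algebraMap_apply A R₀ (Localization.AtPrime Q)]
    haveI : Module.Flat R₀ (Localization.AtPrime Q) := Module.Flat.trans R₀ B _
    haveI : Module.Flat (Localization.AtPrime q.asIdeal) (Localization.AtPrime Q) :=
      (Module.flat_iff_of_isLocalization (R := R₀) (Localization.AtPrime q.asIdeal)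
        q.asIdeal.primeCompl (M := Localization.AtPrime Q)).mpr inferInstance
    haveI : IsLocalHom (algebraMap (Localization.AtPrime q.asIdeal) (Localization.AtPrime Q)) :=
      Localization.isLocalHom_localRingHom _ _ _ hQ.symm
    haveI := Module.FaithfullyFlat.of_flat_of_isLocalHom
      (A := Localization.AtPrime q.asIdeal) (B := Localization.AtPrime Q)
    haveI : Module.Flat A (Localization.AtPrime Q) := Module.Flat.trans A B _
    exact Groth.L19.flat_of_flat_of_faithfullyFlat A (Localization.AtPrime q.asIdeal) (Localization.AtPrime Q)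
  let U : Set (PrimeSpectrum R₀) := {q | Module.Flat A (Localization.AtPrime q.asIdeal)}
  obtain ⟨f, hf, hsub⟩ := Groth.L05.Hfp.exists_sub_one_mem_basicOpen_subset K U
    (isOpen_iff_forall_mem_open.mpr fun q (hq : Module.Flat A _) => by
      haveI := (Groth.L05.Hfp.flat_atPrime_iff q.asIdeal).mpr hq
      obtain ⟨g, hg, hgf⟩ := Groth.L20.exists_flat_away (R := A) (S := R₀) (M := R₀) q.asIdeal.primeCompl
      refine ⟨PrimeSpectrum.basicOpen g, fun q' hq' => ?_, (PrimeSpectrum.basicOpen g).2, hg⟩
      show Module.Flat A (Localization.AtPrime q'.asIdeal)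
      haveI : Module.Flat A (Localization.Away g) :=
        Module.Flat.of_linearEquiv ((IsLocalizedModule.iso (Submonoid.powers g)
          (Algebra.linearMap R₀ (Localization.Away g))).restrictScalars A).symm
      let φ : Localization.Away g →ₐ[R₀] Localization.AtPrime q'.asIdeal :=
        IsLocalization.Away.liftAlgHom g (f := Algebra.ofId R₀ (Localization.AtPrime q'.asIdeal))
          (IsLocalization.map_units (M := q'.asIdeal.primeCompl) _ ⟨g, hq'⟩)
      letI := φ.toRingHom.toAlgebra
      haveI : IsScalarTower R₀ (Localization.Away g) (Localization.AtPrime q'.asIdeal) :=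
        IsScalarTower.of_algebraMap_eq fun x => (φ.commutes x).symm
      haveI : IsScalarTower A (Localization.Away g) (Localization.AtPrime q'.asIdeal) :=
        IsScalarTower.to₁₃₄ A R₀ (Localization.Away g) _
      haveI : Module.Flat R₀ (Localization.AtPrime q'.asIdeal) := IsLocalization.flat _ q'.asIdeal.primeCompl
      haveI : Module.Flat (Localization.Away g) (Localization.AtPrime q'.asIdeal) :=
        (Module.flat_iff_of_isLocalization (R := R₀) (Localization.Away g)
          (Submonoid.powers g) (M := Localization.AtPrime q'.asIdeal)).mpr inferInstance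
      exact Module.Flat.trans A (Localization.Away g) _)
    (fun q hq => hflat q hq)
  let S := Localization.Away f
  haveI : Algebra.FinitePresentation R₀ S := IsLocalization.Away.finitePresentation f
  haveI : Algebra.Etale R₀ S := Algebra.Etale.of_isLocalizationAway f
  obtain ⟨σ, hσ⟩ := (Groth.L05.Henselization.exists_section_iff K).mp
    (Groth.L05.Hfp.bijective_quotientMap_away K f hf)
  haveI := hB.1
  obtain ⟨g, -, -⟩ := Groth.L05.Henselization.existsUnique_algHom_of_section K hσ
    (K.map (algebraMap R₀ B)) le_rfl
  letI : Algebra S B := g.toRingHom.toAlgebra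
  haveI : IsScalarTower R₀ S B := IsScalarTower.of_algebraMap_eq fun x => (g.commutes x).symm
  haveI : IsScalarTower A S B := IsScalarTower.of_algebraMap_eq fun x => by
    rw [IsScalarTower.algebraMap_apply A R₀ S, ← IsScalarTower.algebraMap_apply R₀ S B,
      ← IsScalarTower.algebraMap_apply A R₀ B]
  refine ⟨S, inferInstance, inferInstance, inferInstance, inferInstance,
    Algebra.FinitePresentation.trans A R₀ S,
    Groth.L05.Hfp.flat_away_of_forall f fun p hp hfp => hsub (show (⟨p, hp⟩ : PrimeSpectrum R₀) ∈
      (PrimeSpectrum.basicOpen f : Set (PrimeSpectrum R₀)) from hfp), ?_⟩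
  have h := Groth.L05.Hfp.isPairHenselization_nbhd hB hσ
  rwa [Ideal.map_map, ← IsScalarTower.algebraMap_eq] at h

end Groth.Agent.S17615
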