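import Groth.Statements.S17617
import Groth.Agent.L05.HensExact

set_option autoImplicit false
universe u
open Hensel

namespace Groth.Agent.S17617

/-- Let (A, I) be a Henselian pair and let M' → M → M'' be A-linear maps with zero composite. Then M' →
M → M'' is exact if and only if for every prime ideal p of A containing I and every Henselization H
of the pair (A_p, IA_p), the sequence H ⊗_A M' → H ⊗_A M → H ⊗_A M'' is exact. (The modules H ⊗_A M
are the stalks at p of the sheaf associated to M on the affine Henselian scheme of (A, I), and
exactness of a sequence of such sheaves is exactness at every stalk, so this is the statement that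
the sequence of modules is exact exactly when the associated sequence of sheaves is.) -/
theorem result (A : Type u) [CommRing A]
    (I : Ideal A) [HenselianRing A I]
    (M' M M'' : Type u) [AddCommGroup M'] [Module A M'] [AddCommGroup M] [Module A M]
    [AddCommGroup M''] [Module A M''] (f : M' →ₗ[A] M) (g : M →ₗ[A] M'') (hfg : g.comp f = 0) :
    Function.Exact f g ↔
    ∀ (p : Ideal A) [p.IsPrime], I ≤ p →
      ∀ (H : Type u) [CommRing H] [Algebra (Localization.AtPrime p) H] [Algebra A H]
        [IsScalarTower A (Localization.AtPrime p) H],
        Hens2.IsPairHenselization (Localization.AtPrime p)
          (I.map (algebraMap A (Localization.AtPrime p))) H →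
        Function.Exact (f.baseChange H) (g.baseChange H) := by
  exact Groth.L05.exact_iff_forall_pairHenselization I hfg

end Groth.Agent.S17617
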