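import Groth.Prelude.Def_FlatCA
import Mathlib.RingTheory.Smooth.Basic
import Mathlib.RingTheory.AdicCompletion.Basic
import Mathlib.RingTheory.Noetherian.Defs
import Mathlib.RingTheory.Ideal.Quotient.Operations
import Groth.Agent.L02.SchDom.Content
import Mathlib.Algebra.TrivSqZeroExt.Basic
import Mathlib.AlgebraicGeometry.Geometrically.Integral

set_option autoImplicit false
namespace FlatMor
end FlatMor
universe u
open FlatMor AlgebraicGeometry CategoryTheory
open scoped TensorProduct

namespace Groth.Agent.S17619

/-- Let A be a Noetherian ring and B a smooth A-algebra whose fibres are geometrically integral, and let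
u : B → A be an A-algebra retraction with kernel I (the situation reached, after a faithfully flat
base change, in the proof that flat and pure modules are projective). Let B̂ be the I-adic
completion of B, presented as a B-algebra, compatibly an A-algebra, that is I B̂-adically complete
and for which every truncation B/I^n → B̂/I^n B̂ is bijective. Then the canonical map B → B̂ is
universally injective over A: it remains injective after tensoring over A with any A-module (modules
in the universe of A). -/
theorem result (A : Type u) [CommRing A]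
    [IsNoetherianRing A] (B : Type u) [CommRing B] [Algebra A B] [Algebra.Smooth A B]
    (hfib : FlatCA.GeomIntegralFibres A B) (u : B →ₐ[A] A)
    (Bh : Type u) [CommRing Bh] [Algebra B Bh] [Algebra A Bh] [IsScalarTower A B Bh]
    [IsAdicComplete ((RingHom.ker u).map (algebraMap B Bh)) Bh]
    (hq : ∀ n : ℕ, Function.Bijective (Ideal.quotientMap ((RingHom.ker u ^ n).map (algebraMap B Bh))
      (algebraMap B Bh) Ideal.le_comap_map)) :
    FlatCA.UnivInj A (IsScalarTower.toAlgHom A B Bh).toLinearMap := by
  intro Q _ _
  letI : Module Aᵐᵒᵖ Q := Module.compHom Q ((RingHom.id A).fromOpposite mul_comm)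
  haveI : IsCentralScalar A Q := ⟨fun r q => rfl⟩
  let R := TrivSqZeroExt A Q
  let inr : Q →ₗ[A] R := TrivSqZeroExt.inrHom A Q
  let pr : R →ₗ[A] Q := TrivSqZeroExt.sndHom A Q
  rw [injective_iff_map_eq_zero]
  intro z hz
  have hz0 : inr.rTensor B z = 0 := by
    refine Groth.L02.SchDom.eq_zero_of_forall_pow u (fun K _ _ _ => ?_) _ fun n => ?_
    · let ψ := Spec.map (CommRingCat.ofHom (algebraMap A K))
      have hint : AlgebraicGeometry.IsIntegral
          (Limits.pullback (Spec.map (CommRingCat.ofHom (algebraMap A B))) ψ) :=
        hfib.geometrically_isIntegral ψ _ _ (CategoryTheory.IsPullback.of_hasPullback _ _)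
      haveI := hint
      let E := (pullbackSpecIso A K B).inv ≫ (Limits.pullbackSymmetry _ _).hom
      haveI : Nonempty (Spec (CommRingCat.of (K ⊗[A] B))) :=
        ⟨(asIso E).inv (Classical.arbitrary _)⟩
      haveI : AlgebraicGeometry.IsIntegral (Spec (CommRingCat.of (K ⊗[A] B))) :=
        isIntegral_of_isOpenImmersion E
      haveI := (affine_isIntegral_iff _).1 this
      exact IsDomain.to_noZeroDivisors _
    · let κ := RingHom.ker u ^ n
      let qb : (B ⧸ κ) →ₗ[A] Bh ⧸ κ.map (algebraMap B Bh) :=
        (Ideal.quotientMapₐ (κ.map (algebraMap B Bh)) (IsScalarTower.toAlgHom A B Bh)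
          Ideal.le_comap_map).toLinearMap
      let e := LinearEquiv.ofBijective qb (hq n)
      have h1 : qb ∘ₗ (Ideal.Quotient.mkₐ A κ).toLinearMap =
          (Ideal.Quotient.mkₐ A (κ.map (algebraMap B Bh))).toLinearMap ∘ₗ
            (IsScalarTower.toAlgHom A B Bh).toLinearMap := by
        ext b
        rfl
      have h2 : (Ideal.Quotient.mkₐ A κ).toLinearMap.lTensor Q z = 0 := by
        refine (e.lTensor Q).injective ?_
        show qb.lTensor Q _ = _
        rw [map_zero, ← LinearMap.lTensor_comp_apply, h1, LinearMap.lTensor_comp_apply, hz, map_zero]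
      show (Ideal.Quotient.mkₐ A κ).toLinearMap.lTensor R (inr.rTensor B z) = 0
      rw [← LinearMap.comp_apply, LinearMap.lTensor_comp_rTensor, ← LinearMap.rTensor_comp_lTensor,
        LinearMap.comp_apply, h2, map_zero]
  have h3 : pr ∘ₗ inr = LinearMap.id := LinearMap.ext fun q => rfl
  have := congrArg (pr.rTensor B) hz0
  rw [← LinearMap.rTensor_comp_apply, h3, LinearMap.rTensor_id, LinearMap.id_apply, map_zero] at this
  exact this

end Groth.Agent.S17619
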