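import Groth.Statements.S17620
import Groth.Agent.L05.Henselization.StrictUniq

set_option autoImplicit false
universe u
open Hensel

namespace Groth.Agent.S17620

/-- Let R be a local ring and J an ideal of R contained in the maximal ideal, let H be a Henselization
of the pair (R, J) which is a local ring with local structure map R → H, and let S be a strict
Henselization of the local ring H. Then S, with its composite R-algebra structure, is a strict
Henselization of the local ring R. (This is the identification of the strict Henselization of the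
local ring of a scheme at a point with that of the local ring of its Henselization along a closed
subscheme through the point.) -/
theorem result
    (R : Type u) [CommRing R] [IsLocalRing R] (J : Ideal R) (hJ : J ≤ IsLocalRing.maximalIdeal R)
    (H : Type u) [CommRing H] [IsLocalRing H] [Algebra R H] [IsLocalHom (algebraMap R H)]
    (hH : Hens2.IsPairHenselization R J H)
    (S : Type u) [CommRing S] [IsLocalRing S] [Algebra H S] [IsLocalHom (algebraMap H S)]
    [Hensel.IsStrictHenselization H S]
    [Algebra R S] [IsScalarTower R H S] [IsLocalHom (algebraMap R S)] :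
    Hensel.IsStrictHenselization R S := by
  have hS : Hensel.IsStrictHenselization H S := inferInstance
  have hJm : J.map (algebraMap R H) ≤ IsLocalRing.maximalIdeal H :=
    (Ideal.map_mono hJ).trans (((IsLocalRing.local_hom_TFAE (algebraMap R H)).out 0 2 rfl rfl).mp
      inferInstance)
  have hb := (Groth.L05.Henselization.quotientMap_pow_bijective R J hH 1).2
  have happ : ∀ x : H, ∃ r : R, x - algebraMap R H r ∈ J.map (algebraMap R H) := by
    intro x
    obtain ⟨q, hq⟩ := hb (Ideal.Quotient.mk _ x)
    obtain ⟨r, rfl⟩ := Ideal.Quotient.mk_surjective q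
    rw [Ideal.quotientMap_mk, Ideal.Quotient.eq] at hq
    refine ⟨r, ?_⟩
    simp only [pow_one] at hq
    simpa using Submodule.neg_mem _ hq
  have hres : Function.Surjective (IsLocalRing.ResidueField.map (algebraMap R H)) := by
    intro y
    obtain ⟨x, rfl⟩ := IsLocalRing.residue_surjective y
    obtain ⟨r, hr⟩ := happ x
    exact ⟨IsLocalRing.residue R r, (Ideal.Quotient.eq.mpr (hJm hr)).symm⟩
  refine ⟨hS.henselian, ⟨hS.isSepClosure.sep_closed, ?_⟩, ?_⟩
  · haveI := hS.isSepClosure.separable
    haveI : Algebra.IsSeparable (IsLocalRing.ResidueField R) (IsLocalRing.ResidueField H) :=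
      ⟨fun x => by
        obtain ⟨y, rfl⟩ := hres x
        exact isSeparable_algebraMap (K := IsLocalRing.ResidueField H) y⟩
    haveI : IsScalarTower (IsLocalRing.ResidueField R) (IsLocalRing.ResidueField H)
        (IsLocalRing.ResidueField S) := IsScalarTower.of_algebraMap_eq fun y => by
      obtain ⟨r, rfl⟩ := IsLocalRing.residue_surjective y
      exact congrArg (IsLocalRing.residue S) (IsScalarTower.algebraMap_apply R H S r)
    exact Algebra.IsSeparable.trans (IsLocalRing.ResidueField R) (IsLocalRing.ResidueField H) _
  · intro T _ _ f hf τ hτ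
    have hfm : J.map f ≤ IsLocalRing.maximalIdeal T :=
      (Ideal.map_mono hJ).trans (((IsLocalRing.local_hom_TFAE f).out 0 2 rfl rfl).mp hf)
    obtain ⟨h, hh, hhu⟩ := hH.2 T (IsLocalRing.maximalIdeal T) f inferInstance hfm
    have hJh : ∀ x ∈ J.map (algebraMap R H), h x ∈ IsLocalRing.maximalIdeal T := by
      intro x hx
      have := Ideal.mem_map_of_mem h hx
      rw [Ideal.map_map, hh] at this
      exact hfm this
    have hres' : ∀ x : H, IsLocalRing.residue T (h x) =
        τ (IsLocalRing.residue S (algebraMap H S x)) := by
      intro x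
      obtain ⟨r, hr⟩ := happ x
      have e1 : IsLocalRing.residue T (h x) = IsLocalRing.residue T (f r) := by
        refine Ideal.Quotient.eq.mpr ?_
        have := hJh _ hr
        rwa [map_sub, ← RingHom.comp_apply h, hh] at this
      have e2 : IsLocalRing.residue H x = IsLocalRing.residue H (algebraMap R H r) :=
        Ideal.Quotient.eq.mpr (hJm hr)
      have e3 := congrArg (IsLocalRing.ResidueField.map (algebraMap H S)) e2
      rw [IsLocalRing.ResidueField.map_residue, IsLocalRing.ResidueField.map_residue,
        ← IsScalarTower.algebraMap_apply R H S] at e3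
      rw [e1, e3]
      exact (DFunLike.congr_fun hτ (IsLocalRing.residue R r)).symm
    haveI : IsLocalHom h := ((IsLocalRing.local_hom_TFAE h).out 0 4 rfl rfl).mpr (by
      ext x
      rw [Ideal.mem_comap, ← IsLocalRing.residue_eq_zero_iff, hres', map_eq_zero,
        IsLocalRing.residue_eq_zero_iff]
      exact Ideal.ext_iff.mp (((IsLocalRing.local_hom_TFAE (algebraMap H S)).out 0 4 rfl rfl).mp
        inferInstance) x)
    obtain ⟨g, ⟨hg, hgr⟩, hgu⟩ := hS.universal T h τ (RingHom.ext fun y => by
      obtain ⟨x, rfl⟩ := IsLocalRing.residue_surjective y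
      exact (hres' x).symm)
    refine ⟨g, ⟨?_, hgr⟩, fun g₂ hg₂ => hgu g₂ ⟨hhu _ ?_, hg₂.2⟩⟩
    · rw [IsScalarTower.algebraMap_eq R H S, ← RingHom.comp_assoc, hg, hh]
    · show (g₂.comp (algebraMap H S)).comp (algebraMap R H) = f
      rw [RingHom.comp_assoc, ← IsScalarTower.algebraMap_eq, hg₂.1]

end Groth.Agent.S17620
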