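import Groth.Prelude.Def_Coh
import Groth.Prelude.Def_CohB1
import Groth.Prelude.Def_Pic
import Groth.Prelude.Def_W4c5asymptcohfnACF
import Mathlib.AlgebraicGeometry.Morphisms.Proper
import Mathlib.AlgebraicGeometry.Properties
import Mathlib.Topology.KrullDimension
import Mathlib.FieldTheory.IsAlgClosed.Basic
import Groth.Agent.L11.Asymp.Apps
-- import your own Groth.Agent.* helpers here

set_option autoImplicit false
set_option backward.isDefEq.respectTransparency false
set_option backward.isDefEq.respectTransparency.types false
universe u
open CategoryTheory CategoryTheory.Limits AlgebraicGeometry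
open Variety

namespace Groth.Agent.S17621

/-- Let X be an integral scheme, proper over an algebraically closed field k of characteristic zero and
admitting an ample invertible module, of dimension n (stated in the source over the complex
numbers), L an invertible O_X-module and a ≥ 1. Then ĥ^i(X, L^{⊗a}) = a^n · ĥ^i(X, L) for every i ≥
0, where ĥ^i(X, L) = limsup_m dim_k H^i(X, L^{⊗m}) · n!/m^n is the i-th asymptotic cohomological
function. -/
theorem result (k : Type u) [Field k] [IsAlgClosed k] [CharZero k] (X : Scheme.{u})
    [X.Over (Spec (CommRingCat.of k))] [AlgebraicGeometry.IsIntegral X]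
    [IsProper (X ↘ Spec (CommRingCat.of k))] (hproj : ∃ A : X.Modules, CohB1.IsAmple A)
    (n : ℕ) (hn : topologicalKrullDim X = n)
    (L : X.Modules) (hL : PicF.IsInvertible L) (a : ℕ) (ha : 1 ≤ a) (i : ℕ) :
    W4c5asymptcohfn.hhat k X n i (CohB1.tensorPow L a) = (a : ℝ) ^ n * W4c5asymptcohfn.hhat k X n i L := by
  exact Groth.L11.Asymp.hhat_pow k hproj hn hL ha i
end Groth.Agent.S17621
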