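import Groth.Statements.S17623
import Groth.Agent.L03.Growth.GenFinite
import Groth.Agent.L03.ShStab.QuadricCoh

set_option autoImplicit false
set_option linter.style.haveILetI false
set_option backward.isDefEq.respectTransparency false
set_option backward.isDefEq.respectTransparency.types false
universe u
open CategoryTheory CategoryTheory.Limits AlgebraicGeometry
open Variety
open Groth.L11.Asymp (hd_def hd_iso)

namespace Groth.Agent.S17623

/-- Let X and Y be integral schemes, proper over an algebraically closed field k of characteristic zero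
and each admitting an ample invertible module (stated in the source over the complex numbers), with
X of dimension n, and let f : Y → X be a k-morphism which is dominant and generically finite of
degree d ≥ 1: f maps the generic point of Y to the generic point of X and the residue-field
extension there has finite degree d (so f is proper and surjective and Y has dimension n). Then for
every invertible O_X-module L and every i ≥ 0, ĥ^i(Y, f^*L) = d · ĥ^i(X, L), where ĥ^i(−, L) =
limsup_m dim_k H^i(−, L^{⊗m}) · n!/m^n. -/
theorem result (k : Type u) [Field k] [IsAlgClosed k] [CharZero k]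
    (X Y : Scheme.{u}) [X.Over (Spec (CommRingCat.of k))] [Y.Over (Spec (CommRingCat.of k))]
    [AlgebraicGeometry.IsIntegral X] [AlgebraicGeometry.IsIntegral Y]
    [IsProper (X ↘ Spec (CommRingCat.of k))] [IsProper (Y ↘ Spec (CommRingCat.of k))]
    (hXproj : ∃ A : X.Modules, CohB1.IsAmple A) (hYproj : ∃ B : Y.Modules, CohB1.IsAmple B)
    (n : ℕ) (hn : topologicalKrullDim X = n)
    (f : Y ⟶ X) (hf : f ≫ (X ↘ Spec (CommRingCat.of k)) = Y ↘ Spec (CommRingCat.of k))
    (hdom : f.base (genericPoint Y) = genericPoint X) (d : ℕ) (hd : f.residueDegree (genericPoint Y) = d)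
    (hd0 : 1 ≤ d) (L : X.Modules) (hL : PicF.IsInvertible L) (i : ℕ) :
    W4c5asymptcohfn.hhat k Y n i ((Scheme.Modules.pullback f).obj L) =
      (d : ℝ) * W4c5asymptcohfn.hhat k X n i L := by
  haveI := Groth.L21.RR.isNoetherian_of_proper (X := X) k
  haveI : X.IsSeparated := ⟨by rw [← terminal.comp_from (X ↘ Spec (CommRingCat.of k))]; infer_instance⟩
  haveI := Groth.L21.RR.isNoetherian_of_proper (X := Y) k
  haveI : IsProper (f ≫ (X ↘ Spec (CommRingCat.of k))) := by rw [hf]; infer_instance
  haveI : IsProper f := IsProper.of_comp f (X ↘ Spec (CommRingCat.of k))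
  haveI := Groth.L17.PushQCoh.hasInjectiveResolutions Y
  obtain ⟨B, hB⟩ := hYproj
  have hdeg : 0 < f.residueDegree (genericPoint Y) := by omega
  have hY := Groth.L03.Growth.dim_source k f hf hdom hdeg hn
  obtain ⟨a, ha⟩ := Groth.L22.Inter.exists_acyclic_twist f (F := Coh.structureModule Y)
    Groth.L16.CohClosedPush.isCoh_structure hB
  let G := CohB1.tensorMod (Coh.structureModule Y) (CohB1.tensorPow B a)
  have hG : PicF.IsInvertible G := Groth.L18.GenLoc.isInvertible_tensor
    (Groth.L18.Ample.isInvertible_structureModule Y) (Groth.L18.Ample.isInvertible_tensorPow hB.1 a)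
  have hGc := Groth.L18.Ample.isCoh_of_isInvertible hG
  haveI := hGc.1
  let N := (Scheme.Modules.pullback f).obj L
  have hN : PicF.IsInvertible N := Groth.L18.Ample.isInvertible_pullback f hL
  have e1 := Groth.L11.Asymp.hhatF_eq_rank k ⟨B, hB⟩ hY hN hGc i
  have e2 := Groth.L11.Asymp.hhatF_eq_rank k hXproj hn hL (Groth.L16.Exist.isCoh_pushforward f hGc) i
  have r1 : Module.finrank (Y.presheaf.stalk (genericPoint Y)) (G.presheaf.stalk (genericPoint Y)) = 1 :=
    Groth.L03.Growth.dim_invertible hG
  have r2 : Module.finrank (X.presheaf.stalk (genericPoint X))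
      (((Scheme.Modules.pushforward f).obj G).presheaf.stalk (genericPoint X)) = d :=
    (Groth.L03.Growth.dim_push f hdom hdeg hG).trans hd
  rw [r1, Nat.cast_one, one_mul] at e1
  rw [r2] at e2
  rw [← e1, ← e2]
  refine congrArg (fun s => Filter.limsup s Filter.atTop) (funext fun m => ?_)
  obtain ⟨π⟩ := Groth.L05.EulerDiv.nonempty_pullback_tensorPow f L m
  have h := (Groth.L03.Growth.hd_push_of_acyclic k f hf (G := G) (ha a le_rfl)
    (Groth.L18.Ample.isInvertible_tensorPow hL m) i).trans
    (hd_iso k (Groth.L00.Tensor.tensorIso (Iso.refl G) π) i)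
  rw [hd_def, hd_def] at h
  simp only [W4c5asymptcohfn.cohSeq]
  rw [h]

end Groth.Agent.S17623
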