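import Groth.Prelude.Def_Coh
import Groth.Prelude.Def_CohB1
import Groth.Prelude.Def_Pic
import Groth.Prelude.Def_W4c5asymptcohfnACF
import Mathlib.AlgebraicGeometry.Morphisms.Proper
import Mathlib.AlgebraicGeometry.Properties
import Mathlib.Topology.KrullDimension
import Mathlib.FieldTheory.IsAlgClosed.Basic
import Mathlib.Algebra.Homology.ShortComplex.ShortExact
import Groth.Agent.L11.Asymp.Sheaf
-- import your own Groth.Agent.* helpers here

set_option autoImplicit false
set_option backward.isDefEq.respectTransparency false
set_option backward.isDefEq.respectTransparency.types false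
universe u
open CategoryTheory CategoryTheory.Limits AlgebraicGeometry
open Variety

namespace Groth.Agent.S17628

/-- Let X be an integral scheme, proper over an algebraically closed field k of characteristic zero and
admitting an ample invertible module, of dimension n (stated in the source over the complex
numbers), let 0 → A → B → C → 0 be a short exact sequence of coherent O_X-modules and L an
invertible O_X-module. If the support of A has dimension < n, then limsup_m dim_k H^i(X, B ⊗ L^{⊗m})
· n!/m^n = limsup_m dim_k H^i(X, C ⊗ L^{⊗m}) · n!/m^n for every i ≥ 0. -/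
theorem result (k : Type u) [Field k] [IsAlgClosed k] [CharZero k] (X : Scheme.{u})
    [X.Over (Spec (CommRingCat.of k))] [AlgebraicGeometry.IsIntegral X]
    [IsProper (X ↘ Spec (CommRingCat.of k))] (hproj : ∃ A : X.Modules, CohB1.IsAmple A)
    (n : ℕ) (hn : topologicalKrullDim X = n)
    (S : ShortComplex X.Modules) (hS : S.ShortExact)
    (hA : Coh.IsCoh S.X₁) (hB : Coh.IsCoh S.X₂) (hC : Coh.IsCoh S.X₃)
    (hdim : topologicalKrullDim (CohB1.support S.X₁) < (n : WithBot ℕ∞))
    (L : X.Modules) (hL : PicF.IsInvertible L) (i : ℕ) :
    W4c5asymptcohfn.hhatF k X n i S.X₂ L = W4c5asymptcohfn.hhatF k X n i S.X₃ L := by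
  exact Groth.L11.Asymp.hhatF_mid_eq_right k hproj hn hL hS hA hB hC
    (Groth.L11.Asymp.add_one_le_of_lt hdim) i
end Groth.Agent.S17628
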