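import Groth.Statements.S17630
import Groth.Agent.L16.EulerLength

set_option autoImplicit false
universe u
open CategoryTheory CategoryTheory.Limits AlgebraicGeometry
open Coherent

namespace Groth.Agent.S17630

/-- Let X be a scheme proper over a field k and 0 → C_0 → C_1 → C_2 → ⋯ an exact sequence of coherent
O_X-modules: the composite of consecutive maps is zero, the sequence is exact at every C_j with j ≥
1, and C_0 → C_1 is a monomorphism (the source numbers the sequence from C_{−1}; its argument and
its application use that the first map is injective). Then for every i ≥ 0, |dim_k H^i(X, C_0) −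
dim_k H^i(X, C_1)| ≤ Σ_{j=1}^{i+1} dim_k H^{i+1−j}(X, C_{j+1}) + Σ_{j=1}^{i} dim_k H^{i−j}(X,
C_{j+1}). (The published bound is 2 · Σ_{j=1}^{i+1} dim_k H^{i+1−j}(X, C_{j+1}); the argument given
yields the two sums here, and the published form fails for the sequence 0 → O(−3) → O(−1) → O_Z → 0
on the projective line, Z a subscheme of length 2, with i = 1: the left side is 2 and the published
right side is 0.) -/
theorem result (k : Type u) [Field k] (X : Scheme.{u})
    [X.Over (Spec (CommRingCat.of k))] [IsProper (X ↘ Spec (CommRingCat.of k))]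
    (C : ℕ → X.Modules) (hC : ∀ j, Coh.IsCoh (C j)) (d : ∀ j, C j ⟶ C (j + 1))
    (hd : ∀ j, d j ≫ d (j + 1) = 0) [Mono (d 0)]
    (hex : ∀ j, (ShortComplex.mk (d j) (d (j + 1)) (hd j)).Exact) (i : ℕ) :
    |(Module.finrank k (Coh.HH X (C 0) i) : ℤ) - (Module.finrank k (Coh.HH X (C 1) i) : ℤ)| ≤
      (Finset.Icc 1 (i + 1)).sum (fun j => ((Module.finrank k (Coh.HH X (C (j + 1)) (i + 1 - j))) : ℤ)) +
        (Finset.Icc 1 i).sum (fun j => ((Module.finrank k (Coh.HH X (C (j + 1)) (i - j))) : ℤ)) := Groth.L16.EulerLength.abs_sub_le hC d hd hex i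

end Groth.Agent.S17630
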