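import Groth.Statements.S17631
import Groth.Agent.L17.UBound.Noeth
import Groth.Agent.L08.Cube.Inverse

set_option autoImplicit false
universe u
open CategoryTheory CategoryTheory.Limits AlgebraicGeometry
open Coherent

set_option backward.isDefEq.respectTransparency false
set_option backward.isDefEq.respectTransparency.types false

namespace Groth.Agent.S17631

open Groth.L00.Tensor


/-- Let T be a Noetherian scheme and f : 𝒳 → T a projective morphism, given here as a closed immersion 𝒳
→ P^r_T followed by the projection, let F be a coherent O_𝒳-module and L an invertible O_𝒳-module.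
Then there is a constant C, depending only on f, F and L, such that for every point t of T, with 𝒳_t
the fibre and e its dimension, every m ≥ 1 and every i ≥ 0, dim_{k(t)} H^i(𝒳_t, (F ⊗ L^{⊗m})|_{𝒳_t})
≤ C · m^e. -/
theorem result (T XX : Scheme.{u}) [IsNoetherian T]
    (f : XX ⟶ T) (r : ℕ) (ι : XX ⟶ CohB1.ProjSpaceOver r T) [IsClosedImmersion ι]
    (hι : ι ≫ CohB1.ProjSpaceOver.toBase r T = f)
    (F : XX.Modules) (hF : Coh.IsCoh F) (L : XX.Modules) (hL : PicF.IsInvertible L) :
    ∃ C : ℝ, ∀ (t : T) (e : ℕ), topologicalKrullDim ↥(f.fiber t) = e →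
      ∀ (m : ℕ), 1 ≤ m → ∀ i : ℕ,
        (CohIII.fiberRank f (CohB1.tensorMod F (CohB1.tensorPow L m)) i t : ℝ) ≤ C * (m : ℝ) ^ e := by
  haveI : IsProper (CohB1.ProjSpaceOver.toBase r T) := by
    show IsProper (Limits.pullback.snd _ _)
    infer_instance
  subst hι
  obtain ⟨L', hL', ⟨u⟩⟩ := Groth.L08.Cube.exists_inverse hL
  let pw : XX.Modules → ℕ → XX.Modules := CohB1.tensorPow
  let N : (Fin 1 → ℤ) → XX.Modules := fun a => CohB1.tensorMod (pw L (a 0).toNat) (pw L' (-a 0).toNat)
  have hN : ∀ a, PicF.IsInvertible (N a) := fun a => Groth.L18.GenLoc.isInvertible_tensor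
    (Groth.L18.Ample.isInvertible_tensorPow hL _) (Groth.L18.Ample.isInvertible_tensorPow hL' _)
  have hNL : ∀ (a : Fin 1 → ℤ) (j : Fin 1), Nonempty (N (a + Pi.single j 1) ≅ CohB1.tensorMod (N a) L) := by
    intro a j
    obtain rfl : j = 0 := Subsingleton.elim _ _
    have e0 : (a + Pi.single 0 1 : Fin 1 → ℤ) 0 = a 0 + 1 := by simp
    rcases le_or_gt 0 (a 0) with h | h
    · have e1 : (a 0 + 1).toNat = (a 0).toNat + 1 := by omega
      have e2 : (-(a 0 + 1)).toNat = 0 := by omega
      have e3 : (-a 0).toNat = 0 := by omega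
      simp only [N, e0, e1, e2, e3]
      exact ⟨tensorAssoc _ _ _ ≪≫ tensorIso (Iso.refl _) (tensorComm _ _) ≪≫ (tensorAssoc _ _ _).symm⟩
    · have e1 : (a 0 + 1).toNat = 0 := by omega
      have e2 : (a 0).toNat = 0 := by omega
      have e3 : (-a 0).toNat = (-(a 0 + 1)).toNat + 1 := by omega
      simp only [N, e0, e1, e2, e3]
      exact ⟨tensorIso (Iso.refl _) ((tensorUnitRight (pw L' _)).symm ≪≫
        tensorIso (Iso.refl _) (u.symm ≪≫ tensorComm _ _) ≪≫ (tensorAssoc _ _ _).symm) ≪≫
          (tensorAssoc _ _ _).symm⟩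
  obtain ⟨C, hC⟩ := Groth.L17.UBound.bddOn_univ (f := ι ≫ CohB1.ProjSpaceOver.toBase r T) (L := fun _ => L)
    hN (fun _ => hL) hNL hF
  refine ⟨C, fun t e he m hm i => ?_⟩
  have hs : Groth.L17.UBound.size (fun _ : Fin 1 => (m : ℤ)) = m := by simp [Groth.L17.UBound.size]
  have h := hC t trivial e he.le (fun _ => (m : ℤ)) (hs.symm ▸ hm) i
  rw [hs] at h
  have he' : N (fun _ => (m : ℤ)) ≅ CohB1.tensorPow L m := by
    have e2 : (-(m : ℤ)).toNat = 0 := by omega
    simp only [N, Int.toNat_natCast, e2]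
    exact tensorUnitRight _
  rw [← Groth.L17.UBound.rk_congr _ (tensorIso (Iso.refl F) he') i t]
  exact_mod_cast h

end Groth.Agent.S17631
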