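
import Groth.Statements.S17635
import Mathlib.Analysis.Normed.Group.Constructions
import Mathlib.Analysis.Normed.Module.Basic

set_option autoImplicit false
open Finset
open Variety

namespace Groth.Agent.S17635

/-- Let r and n be natural numbers and f : ℚ^r → ℝ a nonnegative function which is homogeneous of degree
n for positive rational scalars, f(q · v) = q^n · f(v) for q > 0; give ℚ^r the maximum norm ‖v‖ =
max_j |v_j| of its standard basis. Suppose that for every standard basis vector e_i there is a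
constant C_i with |f(v − b · e_i) − f(v)| ≤ C_i · Σ_{q=1}^{n} ‖v‖^{n−q} · b^q for all v ∈ ℚ^r and
all integers b ≥ 1. Then there is a constant C > 0 such that |f(v) − f(w)| ≤ C · Σ_{q=1}^{n}
max(‖v‖, ‖w‖)^{n−q} · ‖v − w‖^q for all v, w ∈ ℚ^r. (The source allows any norm on an r-dimensional
rational vector space with a chosen basis and argues with the maximum norm of that basis, which is
the case stated here.) -/
theorem result (r n : ℕ) (f : (Fin r → ℚ) → ℝ)
    (hf0 : ∀ v, 0 ≤ f v)
    (hhom : ∀ (q : ℚ) (v : Fin r → ℚ), 0 < q → f (q • v) = (q : ℝ) ^ n * f v)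
    (hdir : ∀ i : Fin r, ∃ Ci : ℝ, ∀ (v : Fin r → ℚ) (b : ℕ), 1 ≤ b →
      |f (v - (b : ℚ) • Pi.single i 1) - f v| ≤
        Ci * (Finset.Icc 1 n).sum (fun q => ‖(fun j => ((v j : ℚ) : ℝ))‖ ^ (n - q) * (b : ℝ) ^ q)) :
    ∃ C : ℝ, 0 < C ∧ ∀ v w : Fin r → ℚ,
      |f v - f w| ≤ C * (Finset.Icc 1 n).sum (fun q =>
        (max ‖(fun j => ((v j : ℚ) : ℝ))‖ ‖(fun j => ((w j : ℚ) : ℝ))‖) ^ (n - q) *
          ‖(fun j => ((v j - w j : ℚ) : ℝ))‖ ^ q) := by
  classical
  choose Ci hCi using hdir
  let N : (Fin r → ℚ) → ℝ := fun v => ‖(fun j => ((v j : ℚ) : ℝ))‖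
  let E : ℝ → ℝ → ℝ := fun M t => (Finset.Icc 1 n).sum fun q => M ^ (n - q) * t ^ q
  have hN0 : ∀ v, 0 ≤ N v := fun v => norm_nonneg _
  have hEnn : ∀ {M t}, 0 ≤ M → 0 ≤ t → 0 ≤ E M t := fun hM ht =>
    Finset.sum_nonneg fun q _ => mul_nonneg (pow_nonneg hM _) (pow_nonneg ht _)
  have hEmono : ∀ {M M' t t'}, 0 ≤ M → M ≤ M' → 0 ≤ t → t ≤ t' → E M t ≤ E M' t' :=
    fun hM hMM ht htt => Finset.sum_le_sum fun q _ =>
      mul_le_mul (pow_le_pow_left₀ hM hMM _) (pow_le_pow_left₀ ht htt _) (pow_nonneg ht _)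
        (pow_nonneg (hM.trans hMM) _)
  -- positive rational steps
  have hpos : ∀ (i : Fin r) (v : Fin r → ℚ) (b : ℚ), 0 < b →
      |f (v - b • Pi.single i 1) - f v| ≤ |Ci i| * E (N v) (b : ℝ) := by
    intro i v b hb
    have hden : (0 : ℚ) < (b.den : ℚ) := by exact_mod_cast b.den_pos
    have hdenR : (0 : ℝ) < (b.den : ℝ) := by exact_mod_cast b.den_pos
    have hnum : 1 ≤ b.num.natAbs := Int.natAbs_pos.2 (Rat.num_pos.2 hb).ne'
    have hcast : ((b.num.natAbs : ℕ) : ℚ) = (b.den : ℚ) * b := by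
      rw [mul_comm, Rat.mul_den_eq_num, Nat.cast_natAbs, abs_of_pos (Rat.num_pos.2 hb)]
    have h := hCi i ((b.den : ℚ) • v) b.num.natAbs hnum
    have hvec : ((b.den : ℚ) • v - (b.num.natAbs : ℚ) • Pi.single i (1 : ℚ)) =
        (b.den : ℚ) • (v - b • Pi.single i 1) := by
      rw [hcast, mul_smul, smul_sub]
    rw [hvec, hhom _ _ hden, hhom _ _ hden, ← mul_sub, abs_mul,
      abs_of_nonneg (pow_nonneg (by simp) _)] at h
    have hnorm : ‖(fun j => ((((b.den : ℚ) • v) j : ℚ) : ℝ))‖ = (b.den : ℝ) * N v := by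
      have : (fun j => ((((b.den : ℚ) • v) j : ℚ) : ℝ)) =
          (b.den : ℝ) • (fun j => ((v j : ℚ) : ℝ)) := by
        funext j; simp
      rw [this, norm_smul, Real.norm_natCast]
    have hcR : ((b.num.natAbs : ℕ) : ℝ) = (b.den : ℝ) * (b : ℝ) := by
      have := congrArg (fun x : ℚ => (x : ℝ)) hcast
      push_cast at this
      exact_mod_cast this
    rw [hnorm, hcR] at h
    have hsum : (Finset.Icc 1 n).sum (fun q => ((b.den : ℝ) * N v) ^ (n - q) *
        ((b.den : ℝ) * (b : ℝ)) ^ q) = (b.den : ℝ) ^ n * E (N v) (b : ℝ) := by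
      simp only [E, Finset.mul_sum]
      refine Finset.sum_congr rfl fun q hq => ?_
      obtain ⟨-, hqn⟩ := Finset.mem_Icc.1 hq
      have hqn' : (b.den : ℝ) ^ n = (b.den : ℝ) ^ (n - q) * (b.den : ℝ) ^ q := by
        rw [← pow_add, Nat.sub_add_cancel hqn]
      rw [mul_pow, mul_pow, hqn']; ring
    rw [hsum, Rat.cast_natCast] at h
    have hd : (0 : ℝ) < (b.den : ℝ) ^ n := pow_pos hdenR n
    refine le_of_mul_le_mul_left (h.trans ?_) hd
    rw [mul_left_comm]
    exact mul_le_mul_of_nonneg_left (mul_le_mul_of_nonneg_right (le_abs_self _)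
      (hEnn (hN0 v) (by exact_mod_cast hb.le))) hd.le
  have hstep : ∀ (i : Fin r) (v : Fin r → ℚ) (c : ℚ),
      |f (Function.update v i c) - f v| ≤
        |Ci i| * E (max (N v) (N (Function.update v i c))) |((c - v i : ℚ) : ℝ)| := by
    intro i v c
    have hupd : ∀ x : ℚ, Function.update v i x = v - (v i - x) • Pi.single i 1 := by
      intro x; funext j
      by_cases hj : j = i
      · subst hj; simp
      · simp [hj]
    rcases lt_trichotomy c (v i) with hc | hc | hc
    · rw [hupd c]
      refine (hpos i v _ (sub_pos.2 hc)).trans (mul_le_mul_of_nonneg_left ?_ (abs_nonneg _))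
      refine hEmono (hN0 v) (le_max_left _ _) (by exact_mod_cast (sub_pos.2 hc).le) (le_of_eq ?_)
      rw [abs_of_neg (by exact_mod_cast sub_neg.2 hc)]
      push_cast; ring
    · subst hc
      rw [Function.update_eq_self, sub_self, abs_zero]
      exact mul_nonneg (abs_nonneg _) (hEnn (le_max_of_le_left (hN0 v)) (abs_nonneg _))
    · set u := Function.update v i c
      have hv : v = u - (c - v i) • Pi.single i 1 := by
        funext j
        by_cases hj : j = i
        · subst hj; simp [u]
        · simp [u, hj]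
      rw [abs_sub_comm]
      conv_lhs => rw [hv]
      refine (hpos i u _ (sub_pos.2 hc)).trans (mul_le_mul_of_nonneg_left ?_ (abs_nonneg _))
      refine hEmono (hN0 u) (le_max_right _ _) (by exact_mod_cast (sub_pos.2 hc).le) (le_of_eq ?_)
      rw [abs_of_pos (by exact_mod_cast sub_pos.2 hc)]
  refine ⟨(∑ i, |Ci i|) + 1, add_pos_of_nonneg_of_pos (Finset.sum_nonneg fun i _ => abs_nonneg _) one_pos, fun v w => ?_⟩
  let M := max (N v) (N w)
  have hMcoord : ∀ (z : Fin r → ℚ), (∀ j, z j = v j ∨ z j = w j) → N z ≤ M := by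
    intro z hz
    refine (pi_norm_le_iff_of_nonneg (le_max_of_le_left (hN0 v))).2 fun j => ?_
    rcases hz j with h | h <;> simp only [h]
    · exact (norm_le_pi_norm (fun j => ((v j : ℚ) : ℝ)) j).trans (le_max_left _ _)
    · exact (norm_le_pi_norm (fun j => ((w j : ℚ) : ℝ)) j).trans (le_max_right _ _)
  let T := ‖(fun j => ((v j - w j : ℚ) : ℝ))‖
  have key : ∀ s : Finset (Fin r), |f v - f (s.piecewise w v)| ≤ (∑ i ∈ s, |Ci i|) * E M T := by
    intro s
    induction s using Finset.induction with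
    | empty => simp
    | insert i s hi ih =>
      rw [Finset.piecewise_insert, Finset.sum_insert hi, add_mul]
      set z := s.piecewise w v with hz
      have hzc : ∀ j, z j = v j ∨ z j = w j := fun j => by
        by_cases hj : j ∈ s <;> simp [hz, hj]
      have hzc' : ∀ j, Function.update z i (w i) j = v j ∨ Function.update z i (w i) j = w j :=
        fun j => by
        by_cases hj : j = i
        · subst hj; simp
        · simp [hj, hzc j]
      have h1 : |f z - f (Function.update z i (w i))| ≤ |Ci i| * E M T := by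
        rw [abs_sub_comm]
        refine (hstep i z (w i)).trans (mul_le_mul_of_nonneg_left ?_ (abs_nonneg _))
        refine hEmono (le_max_of_le_left (hN0 z)) (max_le (hMcoord z hzc) (hMcoord _ hzc'))
          (abs_nonneg _) ?_
        have : z i = v i := by simp [hz, hi]
        rw [this, ← abs_neg, ← Rat.cast_neg, neg_sub]
        exact norm_le_pi_norm (fun j => ((v j - w j : ℚ) : ℝ)) i
      calc |f v - f (Function.update z i (w i))|
          ≤ |f v - f z| + |f z - f (Function.update z i (w i))| := abs_sub_le _ _ _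
        _ ≤ _ := by linarith
  have h := key Finset.univ
  rw [Finset.piecewise_univ] at h
  refine h.trans (mul_le_mul_of_nonneg_right (by linarith) ?_)
  exact hEnn (le_max_of_le_left (hN0 v)) (norm_nonneg _)

end Groth.Agent.S17635
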