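import Groth.Prelude.Def_Coh
import Groth.Prelude.Def_CohB1
import Groth.Prelude.Def_Pic
import Groth.Prelude.Def_W4c5asymptcohfnACF
import Mathlib.AlgebraicGeometry.Morphisms.Proper
import Mathlib.AlgebraicGeometry.Properties
import Mathlib.Topology.KrullDimension
import Mathlib.FieldTheory.IsAlgClosed.Basic
import Groth.Prelude.Def_Pic13
import Groth.Prelude.Def_LCI2
import Groth.Agent.L11.NumOrth.Chi
import Groth.Agent.L18.AmpleGG
import Groth.Agent.L22.Nakai.Finite
import Groth.Agent.L18.VeryAmpleSum
import Groth.Agent.L12.GenusZero.Apps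
import Groth.Agent.S9710
import Groth.Agent.L11.Bdd.Tau
import Groth.Agent.L11.NumOrth.Bounded
-- import your own Groth.Agent.* helpers here

set_option autoImplicit false
set_option backward.isDefEq.respectTransparency false
set_option backward.isDefEq.respectTransparency.types false
universe u
open CategoryTheory CategoryTheory.Limits AlgebraicGeometry
open Variety

namespace Groth.Agent.S17637

/-- Let X be an integral scheme, proper over an algebraically closed field k of characteristic zero and
admitting an ample invertible module (the published statement is over the complex numbers). Then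
there is a very ample invertible O_X-module A — A ≅ i^*O(1) for an immersion i : X → P^N_k over k —
such that A ⊗ N is again very ample for every invertible O_X-module N which is numerically
equivalent to zero. (The published statement also provides one flat family over a quasi-projective
base whose fibres include every divisor of every |A ⊗ N|; that clause is not stated here.) -/
theorem result (k : Type u) [Field k] [IsAlgClosed k] [CharZero k] (X : Scheme.{u})
    [X.Over (Spec (CommRingCat.of k))] [AlgebraicGeometry.IsIntegral X]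
    [IsProper (X ↘ Spec (CommRingCat.of k))] (hproj : ∃ A : X.Modules, CohB1.IsAmple A) :
    ∃ A : X.Modules, PicF.IsInvertible A ∧
      RelAmple.IsRelVeryAmplePn (X ↘ Spec (CommRingCat.of k)) A ∧
      ∀ N : X.Modules, PicF.IsInvertible N → Pic13.IsNumEquivZero k X N →
        RelAmple.IsRelVeryAmplePn (X ↘ Spec (CommRingCat.of k)) (CohB1.tensorMod A N) := by
  obtain ⟨A₀, hA₀⟩ := hproj
  haveI := Groth.L21.RR.isNoetherian_of_proper (X := X) k
  obtain ⟨d, -, hd⟩ := Groth.Agent.S9710.result (X ↘ Spec (CommRingCat.of k)) A₀ hA₀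
  obtain ⟨n, i, hi, hiq, ⟨τ⟩⟩ := Groth.L12.GenusZero.exists_closedImmersion_projSpace (hd d le_rfl)
  haveI := hi
  obtain ⟨D, hD, -⟩ := Groth.L11.NumOrth.exists_nat_dim_le k k (X := X)
  obtain ⟨m, hm⟩ := (Groth.L11.NumOrth.chi_reg_bdd k i hiq (D + 1)).2.1 (Coh.structureModule X)
    Groth.L16.CohClosedPush.isCoh_structure
    (Groth.L11.NumOrth.dim_succ_iff.2 (Topology.IsInducing.subtypeVal.topologicalKrullDim_le.trans hD))
  let O1 := (Scheme.Modules.pullback i).obj (Twist.twistProjSpace n k 1)
  let Om := (Scheme.Modules.pullback i).obj (Twist.twistProjSpace n k m)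
  have hO1 : PicF.IsInvertible O1 := Groth.L11.NumOrth.isInvertible_OX i 1
  have hOm : PicF.IsInvertible Om := Groth.L11.NumOrth.isInvertible_OX i m
  have hva1 : RelAmple.IsRelVeryAmplePn (X ↘ Spec (CommRingCat.of k)) O1 := by
    obtain ⟨N, j, hj, hjq, ⟨e⟩⟩ := hd d le_rfl
    exact ⟨N, j, hj, hjq, ⟨τ ≪≫ e⟩⟩
  have key : ∀ N : X.Modules, Groth.L11.NumOrth.NT k N →
      RelAmple.IsRelVeryAmplePn (X ↘ Spec (CommRingCat.of k))
        (CohB1.tensorMod O1 (Pic13.twistOn k i (CohB1.tensorMod (Coh.structureModule X) N) m)) := by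
    intro N hN
    have hinv : PicF.IsInvertible (Pic13.twistOn k i (CohB1.tensorMod (Coh.structureModule X) N) m) :=
      Groth.L18.GenLoc.isInvertible_tensor
        (Groth.L18.GenLoc.isInvertible_tensor (Groth.L18.Ample.isInvertible_structureModule X) hN.1) hOm
    have hgg := (Groth.Agent.S12111.result k n i (CohB1.tensorMod (Coh.structureModule X) N)
      (Groth.L03.Euler.isCoh_tensor hN.1 Groth.L16.CohClosedPush.isCoh_structure) m (hm N hN) m le_rfl).2
    obtain ⟨c, s, hs⟩ := Groth.L22.Nakai.exists_generatedBy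
      (fun x => Groth.L18.Ample.exists_genLocus_mem_of_gg hinv hgg x)
    exact Groth.L18.VASum.isRelVeryAmplePn_tensor _ _ _ hva1 hinv s hs
  have e : ∀ N : X.Modules, CohB1.tensorMod O1 (Pic13.twistOn k i (CohB1.tensorMod (Coh.structureModule X) N) m) ≅
      CohB1.tensorMod (CohB1.tensorMod O1 Om) N := fun N =>
    Groth.L00.Tensor.tensorIso (Iso.refl O1)
        (Groth.L00.Tensor.tensorIso (Groth.L00.Tensor.tensorUnitLeft N) (Iso.refl Om) ≪≫ Groth.L00.Tensor.tensorComm N Om) ≪≫
      (Groth.L00.Tensor.tensorAssoc O1 Om N).symm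
  have of_iso : ∀ {P Q : X.Modules}, (P ≅ Q) → RelAmple.IsRelVeryAmplePn (X ↘ Spec (CommRingCat.of k)) P →
      RelAmple.IsRelVeryAmplePn (X ↘ Spec (CommRingCat.of k)) Q := by
    rintro P Q e ⟨N, j, hj, hjq, ⟨e'⟩⟩
    exact ⟨N, j, hj, hjq, ⟨e.symm ≪≫ e'⟩⟩
  refine ⟨CohB1.tensorMod O1 Om, Groth.L18.GenLoc.isInvertible_tensor hO1 hOm, ?_,
    fun N hN hnum => of_iso (e N) (key N ⟨hN, hnum⟩)⟩
  exact of_iso (e (Coh.structureModule X) ≪≫ Groth.L00.Tensor.tensorUnitRight _) (key _ Groth.L11.NumOrth.NT.unit)
end Groth.Agent.S17637
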