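import Groth.Statements.S17639
import Groth.Agent.L10.GammaZ.Restrict

set_option autoImplicit false
set_option backward.defeqAttrib.useBackward true
set_option backward.isDefEq.respectTransparency false
set_option backward.isDefEq.respectTransparency.types false
set_option backward.defeqAttrib.useBackward true
set_option backward.isDefEq.respectTransparency false
universe u
open CategoryTheory CategoryTheory.Limits AlgebraicGeometry
attribute [local instance] HasDerivedCategory.standard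
open Dual3

namespace Groth.Agent.S17639

/-- Let f : X ⟶ Y be a separated morphism of finite type of Noetherian schemes, factored as f = f̄ ∘ j
with j : X ⟶ X̄ an open immersion and f̄ : X̄ ⟶ Y proper. Let Z ⊆ Y be a closed subset with open
complement U, and Z' ⊆ X a closed subset which is proper over Y and contained in f⁻¹(Z); such a Z'
has closed image in X̄, and it is given here as Z' = j⁻¹(X̄ ∖ W) for an open W ⊆ X̄ with X̄ ∖ W ⊆
j(X) and f⁻¹(U) ⊆ j⁻¹(W). Let Rf̄_* and Rj_* exist and preserve complexes with quasi-coherent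
cohomology, let a be a right adjoint of Rf̄_* on D_qc with its adjunction (whose counit is the trace
map of f̄), let an adjunction j^* ⊣ Rj_* be given, put f^!G = (a G)|_X, and let θ : RΓ_{Z'}(j^* aG)
⟶ j^*RΓ_{j(Z')}(aG) be the comparison morphism compatible with the two maps to j^*(aG), the unit
RΓ_{j(Z')}(aG) ⟶ Rj_* j^* RΓ_{j(Z')}(aG) being an isomorphism. Then for every F in D(O_X) with
quasi-coherent cohomology sheaves, bounded above and supported on Z', and every G in D_qc(O_Y),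
bounded below with cohomology supported on Z, the map sending φ : F ⟶ RΓ_{Z'}(f^!G) to the composite
Rf̄_* Rj_* F ⟶ Rf̄_* Rj_* RΓ_{Z'}(f^!G) ⟶ Rf̄_* Rj_* j^* RΓ_{j(Z')}(aG) ⟶ Rf̄_* RΓ_{j(Z')}(aG) ⟶
Rf̄_*(aG) ⟶ G (Rf̄_*Rj_* of φ and θ, inverse of the unit, the canonical map out of RΓ, the trace) is
a bijection from Hom(F, RΓ_{Z'} f^!G) onto Hom(Rf_* F, G), with Rf_* computed as Rf̄_* ∘ Rj_*: the
functor Rf_* is left adjoint to RΓ_{Z'} f^! on these objects. (Throughout, RΓ with support is the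
total right derived functor of the sheaf of sections supported in the closed subset. The published
statement derives instead the functor of sections killed by some power of a defining ideal; on
complexes with quasi-coherent cohomology sheaves over a Noetherian scheme the two derived functors
agree.) -/
theorem result {X Y : Scheme.{u}} [IsNoetherian X] [IsNoetherian Y]
    (f : X ⟶ Y) [IsSeparated f] [LocallyOfFiniteType f] (c : DEt.Compactification f)
    (U : Y.Opens) (W : c.Xbar.Opens) (hW : (W : Set c.Xbar)ᶜ ⊆ Set.range c.j.base) (hZ : f ⁻¹ᵁ U ≤ c.j ⁻¹ᵁ W)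
    [DCoh.HasRpush c.fbar] [DCoh.HasRpush c.j] (hfbar : DCoh.RpushPreservesQCoh c.fbar) (hj : DCoh.RpushPreservesQCoh c.j)
    (a : DCoh.DQCoh Y ⥤ DCoh.DQCoh c.Xbar) (adj : DCoh.RpushQ c.fbar hfbar ⊣ a)
    (adjj : DCoh.restrictD c.j ⊣ DCoh.Rpush c.j)
    [CxOX.HasRgammaZ W.ι] [CxOX.HasRgammaZ (c.j ⁻¹ᵁ W).ι]
    (G : DCoh.DQCoh Y) (n : ℤ) (hGn : DerivedCategory.IsGE G.obj n) (hGZ : CxOX.IsSuppD U.ι G.obj)
    (θ : (CxOX.RgammaZ (c.j ⁻¹ᵁ W).ι).obj ((Dual3.shriekC c a).obj G) ⟶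
      (DCoh.restrictD c.j).obj ((CxOX.RgammaZ W.ι).obj (a.obj G).obj))
    (hθ : θ ≫ (DCoh.restrictD c.j).map ((CxOX.RgammaZToId W.ι).app (a.obj G).obj) =
      (CxOX.RgammaZToId (c.j ⁻¹ᵁ W).ι).app ((Dual3.shriekC c a).obj G))
    [IsIso (adjj.unit.app ((CxOX.RgammaZ W.ι).obj (a.obj G).obj))]
    (F : DCoh.D X) (hF : DCoh.IsQCohD F) (m : ℤ) (hFm : DerivedCategory.IsLE F m)
    (hFZ : CxOX.IsSuppD (c.j ⁻¹ᵁ W).ι F) :
    Function.Bijective (fun φ : F ⟶ (CxOX.RgammaZ (c.j ⁻¹ᵁ W).ι).obj ((Dual3.shriekC c a).obj G) =>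
      (DCoh.Rpush c.fbar).map ((DCoh.Rpush c.j).map (φ ≫ θ) ≫
          inv (adjj.unit.app ((CxOX.RgammaZ W.ι).obj (a.obj G).obj)) ≫
          (CxOX.RgammaZToId W.ι).app (a.obj G).obj) ≫
        (adj.counit.app G).hom) := by
  haveI := Groth.L29.DC.Gen.hasRpush' W.ι
  haveI := Groth.L29.DC.Gen.hasRpush' (c.j ⁻¹ᵁ W).ι
  let K := (a.obj G).obj
  let G' := (CxOX.RgammaZ W.ι).obj K
  let p := (DCoh.restrictD c.j).map ((CxOX.RgammaZToId W.ι).app K)
  have hG' : IsZero ((DCoh.restrictD W.ι).obj G') := Groth.L10.GammaZ.isZero_restrict W.ι K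
  have hP : IsZero ((DCoh.restrictD (c.j ⁻¹ᵁ W).ι).obj ((DCoh.restrictD c.j).obj G')) :=
    IsZero.of_iso ((Groth.L29.DC.Gen.isZero_restrictD_iff ((c.j ⁻¹ᵁ W).ι ≫ c.j) _).2 fun i x hx hxU => by
      obtain ⟨w, rfl⟩ := hxU
      exact (Groth.L29.DC.Gen.isZero_restrictD_iff W.ι _).1 hG' i hx ⟨⟨_, w.2⟩, rfl⟩)
      ((Groth.L29.DC.resTransD c.j (c.j ⁻¹ᵁ W).ι ((c.j ⁻¹ᵁ W).ι ≫ c.j) rfl).app _)
  have hA : ∀ {A : DCoh.D X}, IsZero ((DCoh.restrictD (c.j ⁻¹ᵁ W).ι).obj A) →
      Function.Bijective fun φ : A ⟶ (DCoh.restrictD c.j).obj G' => φ ≫ p := by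
    intro A hA
    exact Groth.L10.GammaZ.bijective_restrict c.j W K hA
  haveI : IsIso θ := Groth.L10.GammaZ.isIso_of_bijective (c.j ⁻¹ᵁ W).ι _ _ θ hθ
    (Groth.L10.GammaZ.isZero_restrict _ _) hP (fun h => Groth.L10.GammaZ.bijective _ h _) hA
  have hFz : IsZero ((DCoh.restrictD W.ι).obj ((DCoh.Rpush c.j).obj F)) :=
    Groth.L10.GammaZ.isZero_restrict_push c.j W F ((Groth.L29.DC.Gen.isZero_restrictD_iff _ F).2 hFZ)
  haveI := Groth.L10.GammaZ.isIso_counit c.j adjj
  let F' : DCoh.DQCoh c.Xbar := ⟨(DCoh.Rpush c.j).obj F, hj F hF⟩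
  have h1 : Function.Bijective fun φ : F ⟶ (CxOX.RgammaZ (c.j ⁻¹ᵁ W).ι).obj ((Dual3.shriekC c a).obj G) => φ ≫ θ :=
    ⟨fun x y h => (cancel_mono θ).1 h, fun y => ⟨y ≫ inv θ, by simp⟩⟩
  have h2 : Function.Bijective fun ψ : F ⟶ (DCoh.restrictD c.j).obj G' => (DCoh.Rpush c.j).map ψ :=
    adjj.fullyFaithfulROfIsIsoCounit.map_bijective _ _
  have h3 : Function.Bijective fun ψ : (DCoh.Rpush c.j).obj F ⟶ (DCoh.Rpush c.j).obj ((DCoh.restrictD c.j).obj G') =>
      ψ ≫ inv (adjj.unit.app G') :=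
    ⟨fun x y h => (cancel_mono (inv (adjj.unit.app G'))).1 h, fun y => ⟨y ≫ adjj.unit.app G', by simp⟩⟩
  have h4 := Groth.L10.GammaZ.bijective W.ι hFz K
  have h5 : Function.Bijective fun χ : (DCoh.Rpush c.j).obj F ⟶ K =>
      (DCoh.Rpush c.fbar).map χ ≫ (adj.counit.app G).hom := by
    constructor
    · intro x y h
      have := (adj.homEquiv F' G).symm.injective (a₁ := ObjectProperty.homMk x) (a₂ := ObjectProperty.homMk y) (by
        rw [Adjunction.homEquiv_counit, Adjunction.homEquiv_counit]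
        exact ObjectProperty.hom_ext _ h)
      exact congrArg (fun t => t.hom) this
    · intro y
      refine ⟨((adj.homEquiv F' G) (ObjectProperty.homMk y)).hom, ?_⟩
      have := (adj.homEquiv F' G).symm_apply_apply (ObjectProperty.homMk y)
      rw [Adjunction.homEquiv_counit] at this
      exact congrArg (fun t => t.hom) this
  have h := (((h5.comp h4).comp h3).comp h2).comp h1
  convert h using 1
  funext φ
  simp [Function.comp, G', K, Category.assoc]

end Groth.Agent.S17639
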