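import Groth.Statements.S17641
import Groth.Agent.L29.Sib.InjSub
import Groth.Agent.L21.Mod.Locality

set_option autoImplicit false
set_option backward.isDefEq.respectTransparency false
universe u
open CategoryTheory CategoryTheory.Limits AlgebraicGeometry
attribute [local instance] HasDerivedCategory.standard
open DCoh

namespace Groth.Agent.S17641

/-- Let X be a Noetherian scheme, j : U ⟶ X an open immersion with closed complement Z = X ∖ j(U), and I
a quasi-coherent O_X-module which is injective as an O_X-module. Then Γ_Z(I), the kernel of I ⟶
j_*(I|_U) (the subsheaf of sections supported in Z), is an injective O_X-module. (Injectivity is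
taken in the category of all O_X-modules; on a Noetherian scheme a quasi-coherent module is
injective there exactly when it is injective among quasi-coherent modules. The published statement
works with the functor of sections killed by some power of a defining ideal, which agrees with Γ_Z
on quasi-coherent modules over a Noetherian scheme.) -/
theorem result {U X : Scheme.{u}} [IsNoetherian X]
    (j : U ⟶ X) [IsOpenImmersion j] (I : X.Modules) (hI : Coh.IsQCoh I) [Injective I] :
    Injective ((DCoh.gammaZ j).obj I) := by
  haveI : Coh.IsQCoh I := hI
  let R := Scheme.Modules.restrictFunctor j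
  let η := (Scheme.Modules.restrictAdjunction j).unit.app I
  haveI : QuasiCompact j := inferInstance
  haveI : Coh.IsQCoh (R.obj I) := Scheme.Modules.isQuasicoherent_restrictFunctor j I
  have hpush : Coh.IsQCoh ((Scheme.Modules.pushforward j).obj (R.obj I)) :=
    Groth.L16.QcqsPush.isQCoh_push (R.obj I) j
  haveI : Coh.IsQCoh ((DCoh.gammaZ j).obj I) := Groth.L29.DC.isQCoh_kernel' η hI hpush
  let k : (DCoh.gammaZ j).obj I ⟶ I := kernel.ι η
  haveI : Mono k := inferInstanceAs (Mono (kernel.ι η))
  refine Groth.L29.InjSub.injective_of_maximal (Set.range j.base)ᶜ (fun a b hab ha hb => ha ?_)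
    k ?_ fun S s hS => ?_
  · exact hab.mem_open j.opensRange.2 hb
  · intro z hz
    obtain ⟨w, rfl⟩ : ∃ w, j.base w = z := by simpa using hz
    have h0 : IsZero (R.obj (kernel η)) := by
      have h := congrArg (fun t => R.map t ≫ (Scheme.Modules.restrictAdjunction j).counit.app _) (kernel.condition η)
      simp only [Functor.map_zero, zero_comp, Functor.map_comp, Category.assoc] at h
      rw [show R.map η ≫ (Scheme.Modules.restrictAdjunction j).counit.app (R.obj I) = 𝟙 _ from
        (Scheme.Modules.restrictAdjunction j).left_triangle_components I, Category.comp_id] at h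
      exact IsZero.of_mono_eq_zero _ h
    have h1 := (Groth.L21.Mod.stalkF U w).map_isZero h0
    exact AddCommGrpCat.subsingleton_of_isZero (h1.of_iso ((Groth.L21.Mod.restrictStalkF j w).symm.app (kernel η)))
  · have h0 : IsZero (R.obj S) := (Groth.L21.Mod.isZero_iff_stalk _).2 fun w => by
      haveI : Subsingleton (S.presheaf.stalk (j w)) := hS (j w) (fun h => h ⟨w, rfl⟩)
      exact (AddCommGrpCat.isZero_of_subsingleton _ : IsZero (AddCommGrpCat.of (S.presheaf.stalk (j w)))).of_iso
        ((Groth.L21.Mod.restrictStalkF j w).app S)
    have hs : s ≫ η = 0 := by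
      apply ((Scheme.Modules.restrictAdjunction j).homEquiv _ _).symm.injective
      exact h0.eq_of_src _ _
    exact ⟨kernel.lift η s hs, kernel.lift_ι η s hs⟩

end Groth.Agent.S17641
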