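import Groth.Statements.S17643
import Groth.Agent.L16.FiniteTorFactor.Main

set_option autoImplicit false
universe u
open CategoryTheory AlgebraicGeometry
attribute [local instance] HasDerivedCategory.standard
open DerSch

namespace Groth.Agent.S17643

/-- Let f : X ⟶ Y be a morphism of finite type between Noetherian schemes which is of finite
Tor-dimension (the structure sheaf of X, placed in degree 0, has finite tor amplitude stalkwise over
the local rings of Y), U ⊆ X an affine open subset and V ⊆ Y an affine open subset with f(U) ⊆ V.
Then the restriction of f to U factors as U ⟶ W ⟶ Y with U ⟶ W a closed immersion of finite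
Tor-dimension and W ⟶ Y smooth. The published section's standing conventions also take all morphisms
separated; the printed argument does not use this, so separatedness is not assumed here. -/
theorem result {X Y : Scheme.{u}}
    [IsNoetherian X] [IsNoetherian Y] (f : X ⟶ Y) [LocallyOfFiniteType f] (hf : DerSch.HasFiniteTorDim f)
    (U : X.Opens) (hU : IsAffineOpen U) (V : Y.Opens) (hV : IsAffineOpen V) (hUV : U ≤ f ⁻¹ᵁ V) :
    ∃ (W : Scheme.{u}) (g : (U : Scheme.{u}) ⟶ W) (h : W ⟶ Y),
      IsClosedImmersion g ∧ DerSch.HasFiniteTorDim g ∧ Smooth h ∧ g ≫ h = U.ι ≫ f := by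
  exact Groth.L16.FiniteTorFactor.exists_factor f hf U hU V hV hUV
end Groth.Agent.S17643
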