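import Groth.Statements.S17645
import Groth.Agent.L04.GabLoc.Closed

set_option autoImplicit false
universe w v u
open CategoryTheory CategoryTheory.Limits
open GabLoc

namespace Groth.Agent.S17645

/-- Let C be a Grothendieck abelian category, Q and S two localizing classes of objects (Serre classes
closed under coproducts), and M an object which is Q-closed and S-closed: Hom(X, M) = 0 and every
short exact sequence 0 ⟶ M ⟶ N ⟶ X ⟶ 0 splits, for every X in Q and for every X in S. Then M is
closed, in the same sense, for the localizing closure of Q ⊔ S (the join of Q and S: the smallest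
localizing class containing both). -/
theorem result {C : Type u} [Category.{v} C] [Abelian C]
    [IsGrothendieckAbelian.{w} C] (Q S : ObjectProperty C) (hQ : GabLoc.IsLocalizing.{w} Q)
    (hS : GabLoc.IsLocalizing.{w} S) (M : C) (hMQ : GabLoc.IsClosedFor Q M) (hMS : GabLoc.IsClosedFor S M) :
    GabLoc.IsClosedFor (GabLoc.locClosure.{w} (Q ⊔ S)) M := by

    haveI := hQ.isSerreClass
    haveI := hS.isSerreClass
    haveI : (Q ⊔ S).IsClosedUnderSubobjects := ⟨fun f _ h => h.elim
      (fun h => Or.inl (Q.prop_of_mono f h)) (fun h => Or.inr (S.prop_of_mono f h))⟩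
    haveI : (Q ⊔ S).IsClosedUnderQuotients := ⟨fun f _ h => h.elim
      (fun h => Or.inl (Q.prop_of_epi f h)) (fun h => Or.inr (S.prop_of_epi f h))⟩
    exact Groth.L04.GabLoc.isClosedFor_locClosure (Q ⊔ S) M
      ⟨fun Y hY => hY.elim (fun h => hMQ.1 h) (fun h => hMS.1 h),
        fun N Y i p hp hY => hY.elim (fun h => hMQ.2 i p hp h) (fun h => hMS.2 i p hp h)⟩

end Groth.Agent.S17645
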