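import Groth.Statements.S17647
import Groth.Agent.L16.QcqsPush
import Groth.Agent.L21.Mod.Locality
import Groth.Prelude.Def_CohB1
import Mathlib.CategoryTheory.Localization.Adjunction
import Mathlib.CategoryTheory.Adjunction.Restrict
import Mathlib.CategoryTheory.Adjunction.FullyFaithful

set_option autoImplicit false
universe u
open CategoryTheory CategoryTheory.Limits AlgebraicGeometry
open QCohCat

namespace Groth.Agent.S17647

/-- Let X be a scheme and U ⊆ X an open subset whose inclusion U ⟶ X is quasi-compact, Z = X ∖ U. Then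
the restriction functor QCoh(X) ⥤ QCoh(U) between the categories of quasi-coherent modules is a
localization functor for the class of morphisms of quasi-coherent O_X-modules whose kernel and
cokernel (computed in O_X-modules) have support contained in Z: the category QCoh(U) is the quotient
of QCoh(X) by the localizing subcategory of quasi-coherent modules supported in Z, the direct image
along U ⟶ X being the fully faithful right adjoint. No hypothesis is made on X beyond the
quasi-compactness of U ⟶ X. -/
theorem result (X : Scheme.{u})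
    (U : X.Opens) [QuasiCompact U.ι] :
    (ObjectProperty.lift (QCohCat.isQCoh (↑U : Scheme.{u}))
        (ObjectProperty.ι (QCohCat.isQCoh X) ⋙ Scheme.Modules.restrictFunctor U.ι)
        (fun M => @Scheme.Modules.isQuasicoherent_restrictFunctor (↑U : Scheme.{u}) X U.ι
          inferInstance M.obj M.property)).IsLocalization
      (fun (A B : QCohCat.QCoh X) (f : A ⟶ B) =>
        CohB1.support (kernel f.hom) ⊆ (↑U : Set X)ᶜ ∧
          CohB1.support (cokernel f.hom) ⊆ (↑U : Set X)ᶜ) := by
  let r := Scheme.Modules.restrictFunctor U.ι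
  let L : QCohCat.QCoh X ⥤ QCohCat.QCoh (↑U : Scheme.{u}) := ObjectProperty.lift (QCohCat.isQCoh (↑U : Scheme.{u}))
    (ObjectProperty.ι (QCohCat.isQCoh X) ⋙ Scheme.Modules.restrictFunctor U.ι)
    (fun M => @Scheme.Modules.isQuasicoherent_restrictFunctor (↑U : Scheme.{u}) X U.ι
      inferInstance M.obj M.property)
  let R : QCohCat.QCoh (↑U : Scheme.{u}) ⥤ QCohCat.QCoh X := (QCohCat.isQCoh X).lift
    (ObjectProperty.ι (QCohCat.isQCoh (↑U : Scheme.{u})) ⋙ Scheme.Modules.pushforward U.ι)
    (fun M => haveI : Coh.IsQCoh M.obj := M.property; Groth.L16.QcqsPush.isQCoh_push M.obj U.ι)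
  let adj : L ⊣ R := (Scheme.Modules.restrictAdjunction U.ι).restrictFullyFaithful
    (QCohCat.isQCoh X).fullyFaithfulι (QCohCat.isQCoh _).fullyFaithfulι
    ((QCohCat.isQCoh _).liftCompιIso _ _).symm ((QCohCat.isQCoh X).liftCompιIso _ _).symm
  haveI : IsIso (Scheme.Modules.restrictAdjunction U.ι).counit := inferInstance
  haveI hR : (Scheme.Modules.pushforward U.ι).Full ∧ (Scheme.Modules.pushforward U.ι).Faithful :=
    ⟨(Scheme.Modules.restrictAdjunction U.ι).fullyFaithfulROfIsIsoCounit.full,
      (Scheme.Modules.restrictAdjunction U.ι).fullyFaithfulROfIsIsoCounit.faithful⟩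
  haveI := hR.1
  haveI := hR.2
  haveI : R.Full := inferInstance
  haveI : R.Faithful := inferInstance
  have hL := adj.isLocalization
  convert hL using 1
  funext A B f
  refine propext (Iff.trans ?_ (isIso_iff_of_reflects_iso (L.map f) (QCohCat.isQCoh _).ι))
  show _ ↔ IsIso (r.map f.hom)
  have hzero : ∀ M : X.Modules, CohB1.support M ⊆ (↑U : Set X)ᶜ ↔ IsZero (r.obj M) := fun M => by
    rw [Groth.L21.Mod.isZero_iff_stalk]
    refine ⟨fun h y => ?_, fun h x hx hxU => ?_⟩
    · haveI : Subsingleton ((Groth.L21.Mod.stalkF X (U.ι y)).obj M) := not_not.1 fun hy => h hy y.2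
      exact (AddCommGrpCat.isZero_of_subsingleton _).of_iso ((Groth.L21.Mod.restrictStalkF U.ι y).app M)
    · exact hx (AddCommGrpCat.subsingleton_of_isZero
        ((h ⟨x, hxU⟩).of_iso ((Groth.L21.Mod.restrictStalkF U.ι ⟨x, hxU⟩).app M).symm))
  rw [hzero, hzero]
  refine ⟨fun h => ?_, fun h => ?_⟩
  · haveI : Mono (r.map f.hom) :=
      Preadditive.mono_of_isZero_kernel _ (h.1.of_iso (PreservesKernel.iso r f.hom).symm)
    haveI : Epi (r.map f.hom) :=
      Preadditive.epi_of_isZero_cokernel _ (h.2.of_iso (PreservesCokernel.iso r f.hom).symm)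
    exact isIso_of_mono_of_epi _
  · exact ⟨(isZero_kernel_of_mono (r.map f.hom)).of_iso (PreservesKernel.iso r f.hom),
      (isZero_cokernel_of_epi (r.map f.hom)).of_iso (PreservesCokernel.iso r f.hom)⟩

end Groth.Agent.S17647
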