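import Groth.Statements.S17648
import Groth.Agent.L04.GabLoc.Closed
import Mathlib.CategoryTheory.Abelian.GrothendieckCategory.EnoughInjectives

set_option autoImplicit false
universe w v u
open CategoryTheory CategoryTheory.Limits
open GabLoc

namespace Groth.Agent.S17648

open CategoryTheory.Abelian ZeroObject

variable {C : Type u} [Category.{v} C] [Abelian C] [IsGrothendieckAbelian.{w} C] (P : ObjectProperty C)

theorem sqc_of_epi {X Y : C} (f : X ⟶ Y) [Epi f] (h : GabLoc.subquotCoprod.{w} P X) :
    GabLoc.subquotCoprod.{w} P Y := by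
  obtain ⟨J, Z, hZ, B, i, p, hi, hp⟩ := h
  exact ⟨J, Z, hZ, B, i, p ≫ f, hi, epi_comp _ _⟩

theorem sqc_of_mono {X Y : C} (f : X ⟶ Y) [Mono f] (h : GabLoc.subquotCoprod.{w} P Y) :
    GabLoc.subquotCoprod.{w} P X := by
  obtain ⟨J, Z, hZ, B, i, p, hi, hp⟩ := h
  exact ⟨J, Z, hZ, pullback p f, pullback.fst p f ≫ i, pullback.snd p f, mono_comp _ _, inferInstance⟩

theorem le_sqc {Y : C} (hY : P Y) : GabLoc.subquotCoprod.{w} P Y := by
  refine ⟨PUnit.{w + 1}, fun _ => Y, fun _ => hY, ∐ (fun _ : PUnit.{w + 1} => Y), 𝟙 _,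
    Sigma.desc (fun _ => 𝟙 Y), inferInstance, ?_⟩
  exact epi_of_epi_fac (Sigma.ι_desc (fun _ : PUnit.{w + 1} => 𝟙 Y) PUnit.unit)

theorem sqc_zero {Y : C} (hY : IsZero Y) : GabLoc.subquotCoprod.{w} P Y := by
  refine ⟨PEmpty.{w + 1}, PEmpty.elim, fun j => j.elim, ∐ (PEmpty.elim : PEmpty.{w + 1} → C), 𝟙 _, 0,
    inferInstance, ⟨fun g h _ => hY.eq_of_src g h⟩⟩

/-- A nonzero quotient of an object in the localizing closure has a nonzero subquotient of `P` inside. -/
theorem exists_sub {X M : C} (hX : GabLoc.locClosure.{w} P X) (π : X ⟶ M) [Epi π] (hM : ¬ IsZero M) :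
    ∃ (S : C) (ι : S ⟶ M), Mono ι ∧ ¬ IsZero S ∧ GabLoc.subquotCoprod.{w} P S := by
  by_contra hcon
  obtain ⟨E, i, hi, hE, hess⟩ := Groth.L04.GabLoc.exists_envelope.{w} M
  haveI := hi; haveI := hE
  haveI : ObjectProperty.IsClosedUnderSubobjects (GabLoc.subquotCoprod.{w} P) := ⟨fun f _ h => sqc_of_mono P f h⟩
  haveI : ObjectProperty.IsClosedUnderQuotients (GabLoc.subquotCoprod.{w} P) := ⟨fun f _ h => sqc_of_epi P f h⟩
  have hhom : ∀ ⦃Y : C⦄, GabLoc.subquotCoprod.{w} P Y → ∀ f : Y ⟶ M, f = 0 := fun Y hY f => by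
    by_contra hf
    refine hcon ⟨Abelian.image f, Abelian.image.ι f, inferInstance, fun h0 => hf ?_,
      sqc_of_epi P (Abelian.factorThruImage f) hY⟩
    rw [← Abelian.image.fac f, h0.eq_of_src (Abelian.image.ι f) 0, comp_zero]
  have hle : P ≤ Groth.L04.GabLoc.orth E E := fun Y hY =>
    ⟨fun f => Groth.L04.GabLoc.hom_envelope_eq_zero i hess (GabLoc.subquotCoprod.{w} P) hhom (le_sqc P hY) f,
     fun f => Groth.L04.GabLoc.hom_envelope_eq_zero i hess (GabLoc.subquotCoprod.{w} P) hhom (le_sqc P hY) f⟩
  have := (hX _ (Groth.L04.GabLoc.isLocalizing_orth E E) hle).1 (π ≫ i)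
  refine hM ((IsZero.iff_id_eq_zero M).2 ?_)
  rw [← cancel_epi π, ← cancel_mono i]
  simp [this]

theorem exists_larger {X : C} (hX : GabLoc.locClosure.{w} P X) (A : Subobject X) :
    ∃ (A' : Subobject X) (h : A ≤ A'), (A ≠ ⊤ → A < A') ∧
      GabLoc.monoModSubquot.{w} P (Subobject.ofLE A A' h) := by
  by_cases hA : A = ⊤
  · refine ⟨A, le_rfl, fun h => absurd hA h, inferInstance, sqc_zero P ?_⟩
    have : Epi (Subobject.ofLE A A le_rfl) := by rw [Subobject.ofLE_refl]; infer_instance
    exact isZero_cokernel_of_epi _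
  have hM : ¬ IsZero (cokernel A.arrow) := fun h => hA (by
    haveI : Epi A.arrow := Abelian.epi_of_cokernel_π_eq_zero _ (h.eq_of_tgt _ _)
    haveI : IsIso A.arrow := isIso_of_mono_of_epi _
    exact Subobject.eq_top_of_isIso_arrow A)
  obtain ⟨S, ι, hι, hS, hSP⟩ := exists_sub P hX (cokernel.π A.arrow) hM
  haveI := hι
  let p' := pullback.fst (cokernel.π A.arrow) ι
  let i : (A : C) ⟶ pullback (cokernel.π A.arrow) ι := pullback.lift A.arrow 0 (by simp)
  have hi : i ≫ pullback.snd _ _ = 0 := pullback.lift_snd _ _ _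
  haveI : Mono i := mono_of_mono_fac (pullback.lift_fst _ _ _ : i ≫ pullback.fst _ _ = A.arrow)
  have hex : (ShortComplex.mk i (pullback.snd (cokernel.π A.arrow) ι) hi).Exact := by
    refine ShortComplex.exact_of_f_is_kernel _ (KernelFork.IsLimit.ofι' i hi fun {W} x hx => ?_)
    have hx' : (x ≫ pullback.fst (cokernel.π A.arrow) ι) ≫ cokernel.π A.arrow = 0 := by
      rw [Category.assoc, pullback.condition, ← Category.assoc, hx, zero_comp]
    refine ⟨Abelian.monoLift A.arrow _ hx', pullback.hom_ext ?_ ?_⟩
    · rw [Category.assoc, pullback.lift_fst, Abelian.monoLift_comp]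
    · rw [Category.assoc, hi, comp_zero]; exact hx.symm
  let e : cokernel i ≅ S := (colimit.isColimit _).coconePointUniqueUpToIso
    ((ShortComplex.ShortExact.mk' hex inferInstance inferInstance).gIsCokernel)
  have hle : A ≤ Subobject.mk p' := Subobject.le_mk_of_comm i (pullback.lift_fst _ _ _)
  have hfac : Subobject.ofLE A (Subobject.mk p') hle = i ≫ (Subobject.underlyingIso p').inv := by
    rw [← cancel_mono (Subobject.mk p').arrow, Subobject.ofLE_arrow, Category.assoc,
      Subobject.underlyingIso_arrow, pullback.lift_fst]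
  refine ⟨Subobject.mk p', hle, fun _ => lt_of_le_of_ne hle fun h => hS ?_, inferInstance,
    sqc_of_epi P (e.inv ≫ (cokernelCompIsIso i (Subobject.underlyingIso p').inv).inv ≫
      eqToHom (by rw [hfac])) hSP⟩
  have hsnd : pullback.snd (cokernel.π A.arrow) ι ≫ ι = 0 := by
    rw [← pullback.condition]
    rw [← cancel_epi (Subobject.underlyingIso p').hom, comp_zero, ← Category.assoc,
      show (Subobject.underlyingIso p').hom ≫ pullback.fst _ _ = (Subobject.mk p').arrow from
        Subobject.underlyingIso_hom_comp_eq_mk p', ← Subobject.ofLE_arrow h.ge, Category.assoc,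
      cokernel.condition, comp_zero]
  refine (IsZero.iff_id_eq_zero S).2 ?_
  rw [← cancel_epi (pullback.snd (cokernel.π A.arrow) ι), ← cancel_mono ι]
  simp [hsnd]

variable {P} {X : C} (hX : GabLoc.locClosure.{w} P X)

/-- One step of the filtration. -/
noncomputable def next (A : Subobject X) : Subobject X := (exists_larger P hX A).choose

theorem le_next (A : Subobject X) : A ≤ next hX A := (exists_larger P hX A).choose_spec.choose

theorem lt_next (A : Subobject X) (hA : A ≠ ⊤) : A < next hX A :=
  (exists_larger P hX A).choose_spec.choose_spec.1 hA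

theorem next_mem {A B B' : Subobject X} (h : B ≤ B') (hB : B = A) (hB' : B' = next hX A) :
    GabLoc.monoModSubquot.{w} P (Subobject.ofLE B B' h) := by
  subst hB; subst hB'
  exact (exists_larger P hX B).choose_spec.choose_spec.2

variable (J : Type w) [LinearOrder J] [OrderBot J] [SuccOrder J] [WellFoundedLT J]

/-- The filtration. -/
@[simps]
noncomputable def filM : J ⥤ MonoOver X where
  obj j := MonoOver.mk (transfiniteIterate (next hX) j (⊥ : Subobject X)).arrow
  map {j j'} f := MonoOver.homMk (Subobject.ofLE _ _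
      (monotone_transfiniteIterate _ _ (le_next hX) (leOfHom f))) (Subobject.ofLE_arrow _)
  map_id _ := Subsingleton.elim _ _
  map_comp _ _ := Subsingleton.elim _ _

/-- The filtration in `C`. -/
noncomputable abbrev fil : J ⥤ C := filM hX J ⋙ MonoOver.forget _ ⋙ Over.forget _

set_option backward.defeqAttrib.useBackward true in
instance : (fil hX J).IsWellOrderContinuous where
  nonempty_isColimit m hm := ⟨by
    have := hm.nonempty_Iio.to_subtype
    let c := (Set.principalSegIio m).cocone (filM hX J ⋙ MonoOver.forget _)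
    have : Mono c.pt.hom := by dsimp [c]; infer_instance
    apply IsGrothendieckAbelian.isColimitMapCoconeOfSubobjectMkEqISup
      ((Set.principalSegIio m).monotone.functor ⋙ filM hX J) c
    dsimp [c]
    simp only [Subobject.mk_arrow]
    exact transfiniteIterate_limit (next hX) (⊥ : Subobject X) m hm⟩

variable {J}

set_option backward.defeqAttrib.useBackward true in
set_option backward.isDefEq.respectTransparency false in
include hX in
theorem forward : MorphismProperty.transfiniteCompositions.{w} (GabLoc.monoModSubquot.{w} P) (0 : (0 : C) ⟶ X) := by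
  obtain ⟨J, instL, instB, instS, instW, j, hj⟩ :
      ∃ (J : Type w) (_ : LinearOrder J) (_ : OrderBot J) (_ : SuccOrder J) (_ : WellFoundedLT J) (j : J),
        transfiniteIterate (next hX) j (⊥ : Subobject X) = ⊤ := by
    let κ := Order.succ (Cardinal.mk (Shrink.{w} (Subobject X)))
    have : Nonempty κ.ord.ToType := by simp [κ]
    have := WellFoundedLT.toOrderBot κ.ord.ToType
    have htop : next hX (⊤ : Subobject X) = ⊤ := top_le_iff.1 (le_next hX ⊤)
    refine ⟨κ.ord.ToType, inferInstance, inferInstance, inferInstance, inferInstance, ?_⟩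
    have hJ : HasCardinalLT (Subobject X) (Cardinal.mk κ.ord.ToType) :=
      lt_of_lt_of_le (Order.lt_succ _) (by simp [κ])
    exact top_mem_range_transfiniteIterate (next hX) (⊥ : Subobject X) (lt_next hX) htop
      (fun h => by simpa [hasCardinalLT_iff_cardinal_mk_lt] using hJ.of_injective _ h)
  refine (MorphismProperty.transfiniteCompositions_iff _ _).2 ⟨Set.Iic j, _, inferInstance, inferInstance, inferInstance, ?_⟩
  have h1 : (GabLoc.monoModSubquot.{w} P).TransfiniteCompositionOfShape (Set.Iic j)
      ((fil hX J).map (homOfLE bot_le : ⊥ ⟶ j)) :=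
    { F := (Set.initialSegIic j).monotone.functor ⋙ fil hX J
      isoBot := Iso.refl _
      incl :=
        { app := fun k => (fil hX J).map (homOfLE k.2)
          naturality := fun k k' h => by simp [MonoOver.forget] }
      isColimit := colimitOfDiagramTerminal isTerminalTop _
      map_mem := fun k hk => by
        refine next_mem hX _ rfl ?_
        show transfiniteIterate (next hX) (Order.succ k).1 ⊥ = _
        rw [Set.Iic.succ_eq_of_not_isMax hk, transfiniteIterate_succ _ _ _ (Set.not_isMax_coe _ hk)]
        rfl }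
  haveI hiso : IsIso (transfiniteIterate (next hX) j (⊥ : Subobject X)).arrow := (Subobject.isIso_arrow_iff_eq_top _).2 hj
  refine ⟨h1.ofArrowIso (Arrow.isoMk (Subobject.isoOfEq _ _ (transfiniteIterate_bot _ _) ≪≫ Subobject.botCoeIsoZero)
    (asIso (transfiniteIterate (next hX) j (⊥ : Subobject X)).arrow) ?_)⟩
  refine IsZero.eq_of_src ?_ _ _
  exact IsZero.of_iso (isZero_zero C) (Subobject.isoOfEq _ _ (transfiniteIterate_bot _ _) ≪≫ Subobject.botCoeIsoZero)

omit hX in
theorem backward (h : MorphismProperty.transfiniteCompositions.{w} (GabLoc.monoModSubquot.{w} P) (0 : (0 : C) ⟶ X)) :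
    GabLoc.locClosure.{w} P X := by
  intro Q hQ hPQ
  haveI := hQ.isSerreClass
  haveI := hQ.isClosedUnderCoproducts
  have hcol : ∀ {K : Type w} [SmallCategory K] {F : K ⥤ C} (c : Cocone F), IsColimit c →
      (∀ k, Q (F.obj k)) → Q c.pt := fun {K} _ {F} c hc hF => by
    haveI : Epi (Sigma.desc c.ι.app) := ⟨fun a b hab => hc.hom_ext fun k => by
      have := Sigma.ι F.obj k ≫= hab
      simpa using this⟩
    exact Q.prop_of_epi (Sigma.desc c.ι.app) (Q.prop_colimit _ fun k => hF k.as)
  have hsqc : ∀ Y, GabLoc.subquotCoprod.{w} P Y → Q Y := fun Y hY => by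
    obtain ⟨J, Z, hZ, B, i, p, hi, hp⟩ := hY
    exact Q.prop_of_epi p (Q.prop_of_mono i (Q.prop_colimit _ fun k => hPQ _ (hZ k.as)))
  obtain ⟨J, _, _, _, _, ⟨t⟩⟩ := (MorphismProperty.transfiniteCompositions_iff _ _).1 h
  haveI := t.isWellOrderContinuous
  have key : ∀ j, Q (t.F.obj j) := fun j => by
    induction j using SuccOrder.limitRecOn with
    | isMin j hj =>
      obtain rfl := hj.eq_bot
      exact Q.prop_of_epi t.isoBot.inv (Q.prop_of_isZero (isZero_zero C))
    | succ j hj ih =>
      obtain ⟨hm, hc⟩ := t.map_mem j hj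
      haveI := hm
      exact Q.prop_X₂_of_shortExact (S := ShortComplex.mk _ (cokernel.π (t.F.map (homOfLE (Order.le_succ j))))
        (cokernel.condition _)) (ShortComplex.ShortExact.mk' (ShortComplex.exact_cokernel _) hm inferInstance)
        ih (hsqc _ hc)
    | isSuccLimit j hj ih =>
      exact hcol _ (t.F.isColimitOfIsWellOrderContinuous j hj) fun k => ih k.1 k.2
  exact hcol _ t.isColimit key

open ZeroObject in
/-- Let C be a Grothendieck abelian category, P a class of objects and X an object of C. Then X belongs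
to the localizing closure of P (the smallest Serre class containing P and closed under coproducts)
if and only if the morphism 0 ⟶ X is a transfinite composition — indexed by a small well-ordered
type, continuous at limit stages — of monomorphisms whose cokernels are subquotients of coproducts
of objects of P. Equivalently: X has an exhaustive continuous transfinite filtration 0 = X₀ ⊆ X₁ ⊆ ⋯
by subobjects with every X_{β+1}/X_β a subquotient of a direct sum of objects of P. -/
theorem result {C : Type u} [Category.{v} C] [Abelian C]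
    [IsGrothendieckAbelian.{w} C] (P : ObjectProperty C) (X : C) :
    GabLoc.locClosure.{w} P X ↔
      MorphismProperty.transfiniteCompositions.{w} (GabLoc.monoModSubquot.{w} P) (0 : (0 : C) ⟶ X) := by
  exact ⟨fun h => forward h, backward⟩

end Groth.Agent.S17648
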