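import Groth.Statements.S17649
import Groth.Agent.L29.DCoh.QCohOps
import Groth.Agent.L16.QcqsPush
-- import your own Groth.Agent.* helpers here

set_option autoImplicit false
universe u
open CategoryTheory CategoryTheory.Limits AlgebraicGeometry
open QCohCat

namespace Groth.Agent.S17649

open CategoryTheory CategoryTheory.Limits AlgebraicGeometry

theorem subsingleton_of_isZero {X : Scheme.{u}} {M : X.Modules} (h : IsZero M) (W : X.Opens) :
    Subsingleton Γ(M, W) :=
  ⟨fun a b => by
    have e := congrArg (fun φ => φ.app W) (h.eq_of_src (𝟙 M) 0)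
    simp only [Scheme.Modules.Hom.id_app, Scheme.Modules.Hom.zero_app] at e
    exact ((congrArg (fun φ => φ a) e).trans (congrArg (fun φ => φ b) e).symm)⟩

theorem isZero_of_subsingleton {X : Scheme.{u}} {M : X.Modules} (h : ∀ W : X.Opens, Subsingleton Γ(M, W)) :
    IsZero M := by
  rw [IsZero.iff_id_eq_zero]
  ext W a
  exact (h W).elim _ _

theorem subsingleton_restrict {X : Scheme.{u}} {F : X.Modules} (O W : X.Opens) (hW : W ≤ O)
    (h : IsZero ((Scheme.Modules.restrictFunctor O.ι).obj F)) : Subsingleton Γ(F, W) := by
  have := subsingleton_of_isZero h (O.ι ⁻¹ᵁ W)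
  change Subsingleton Γ(F, O.ι ''ᵁ (O.ι ⁻¹ᵁ W)) at this
  rw [Scheme.Hom.image_preimage_eq_opensRange_inf, Scheme.Opens.opensRange_ι, inf_eq_right.2 hW] at this
  exact this


/-- Suppose the scheme X is quasi-compact and quasi-separated, and take two quasi-compact opens U, V ⊆
X. Given a quasi-compact open W, denote by S_W the class of quasi-coherent O_X-modules that restrict
to zero on W. Then S_{U ∩ V} is the smallest localizing subcategory of Qcoh(X) that contains both
S_U and S_V; concretely (this is the inclusion that is not formal): any quasi-coherent O_X-module F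
satisfying F|_{U ∩ V} = 0 arises as an extension of a quasi-coherent module that is zero on V by a
quasi-coherent submodule that is zero on U — one can find a monomorphism A ⟶ F where A is
quasi-coherent, A|_U = 0 and (F/A)|_V = 0. -/
theorem result {X : Scheme.{u}}
    [CompactSpace X] [QuasiSeparatedSpace X] (U V : X.Opens) [QuasiCompact U.ι] [QuasiCompact V.ι]
    (F : X.Modules) (hF : Coh.IsQCoh F) (h : IsZero ((Scheme.Modules.restrictFunctor (U ⊓ V).ι).obj F)) :
    ∃ (A : X.Modules) (i : A ⟶ F), Mono i ∧ Coh.IsQCoh A ∧
      IsZero ((Scheme.Modules.restrictFunctor U.ι).obj A) ∧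
      IsZero ((Scheme.Modules.restrictFunctor V.ι).obj (cokernel i)) := by
  let R := Scheme.Modules.restrictFunctor U.ι
  let adj := Scheme.Modules.restrictAdjunction U.ι
  haveI := hF
  haveI : Coh.IsQCoh (R.obj F) := Scheme.Modules.isQuasicoherent_restrictFunctor U.ι F
  have hQ : Coh.IsQCoh ((Scheme.Modules.pushforward U.ι).obj (R.obj F)) :=
    Groth.L16.QcqsPush.isQCoh_push (R.obj F) U.ι
  let η := adj.unit.app F
  refine ⟨kernel η, kernel.ι η, inferInstance, Groth.L29.DC.isQCoh_kernel' η hF hQ, ?_, ?_⟩
  · haveI : IsIso (R.map η) := by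
      have := adj.left_triangle_components F
      haveI : IsIso (R.map η ≫ adj.counit.app (R.obj F)) := by
        rw [this]
        exact inferInstanceAs (IsIso (𝟙 (R.obj F)))
      exact IsIso.of_isIso_comp_right (R.map η) (adj.counit.app (R.obj F))
    exact IsZero.of_iso (isZero_kernel_of_mono _) (PreservesKernel.iso R η)
  · let R' := Scheme.Modules.restrictFunctor V.ι
    have hz : IsZero (R'.obj ((Scheme.Modules.pushforward U.ι).obj (R.obj F))) := by
      refine isZero_of_subsingleton fun W => ?_
      refine subsingleton_restrict (F := F) (U ⊓ V) (U.ι ''ᵁ (U.ι ⁻¹ᵁ (V.ι ''ᵁ W))) ?_ h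
      rw [Scheme.Hom.image_preimage_eq_opensRange_inf, Scheme.Opens.opensRange_ι]
      exact inf_le_inf_left U (Scheme.Opens.ι_image_le V W)
    haveI : Mono (R'.map (Abelian.factorThruCoimage η)) := inferInstance
    exact hz.of_mono (R'.map (Abelian.factorThruCoimage η))

end Groth.Agent.S17649
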