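import Groth.Statements.S1765
import Groth.Agent.L04.LC.AnnihDuality

set_option autoImplicit false
universe u
open CategoryTheory
attribute [local instance] HasDerivedCategory.standard
open LocCoh

namespace Groth.Agent.S1765

/-- Let A be a Noetherian ring with a dualizing complex, I an ideal, M a finite A-module, p a prime not
containing I and s ≥ 0. Suppose that for all primes p' ⊆ p and all primes q ⊇ I with p' ⊆ q,
depth(M_{p'}) plus the Krull dimension of the interval of primes [p', q] exceeds s. Then there is f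
∉ p annihilating H^i_I(M) for all i ≤ s. -/
theorem result (A : Type u) [CommRing A] [IsNoetherianRing A] (hA : ∃ ω : Dual.D A, Dual.IsDualizing A ω) (I : Ideal A) (M : Type u) [AddCommGroup M] [Module A M] [Module.Finite A M] (p : PrimeSpectrum A) (hp : ¬ I ≤ p.asIdeal) (s : ℕ) (h : ∀ p' q : PrimeSpectrum A, p' ≤ p → I ≤ q.asIdeal → p' ≤ q → (s : WithBot ℕ∞) < ((LocCoh.depth (Localization.AtPrime p'.asIdeal) (LocalizedModule p'.asIdeal.primeCompl M) : ℕ∞) : WithBot ℕ∞) + Order.krullDim (Set.Icc p' q)) : ∃ f : A, f ∉ p.asIdeal ∧ ∀ i : ℕ, i ≤ s → ∀ x : LocCoh.H I i M, f • x = 0 := by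

    obtain ⟨ω, hω⟩ := hA
    exact Groth.L04.AnnihDual.exists_annihilator_away hω I M p hp s h

end Groth.Agent.S1765
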