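import Groth.Statements.S17650
import Groth.Agent.L21.RR.Equality
import Groth.Agent.L21.RR.Sections
import Groth.Agent.L18.AmpleGG
import Groth.Agent.L16.NegPow.Gen

set_option autoImplicit false
set_option backward.isDefEq.respectTransparency false
universe u
open CategoryTheory CategoryTheory.Limits AlgebraicGeometry TopologicalSpace
open Curves

namespace Groth.Agent.S17650

/-- Let k be an algebraically closed field and B a connected scheme, proper over k, of dimension one,
with at-worst-nodal singularities and with H^1(B, O_B) = 0 (a connected proper prestable curve of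
arithmetic genus zero). If E is a finite locally free O_B-module generated by its global sections,
then H^1(B, E) = 0. (The source works over the complex numbers; the statement and its proof are
unchanged over any algebraically closed field.) -/
theorem result (k : Type u) [Field k] [IsAlgClosed k]
    (B : Scheme.{u}) [B.Over (Spec (CommRingCat.of k))] [IsProper (B ↘ Spec (CommRingCat.of k))]
    [ConnectedSpace ↥B] (hdim : topologicalKrullDim ↥B = 1) (hnod : Curv2.AtWorstNodal k B)
    (hg : Subsingleton (Coh.HH B (Coh.structureModule B) 1))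
    (E : B.Modules) (hE : FlatMod.IsFinLocFree E) (hgg : Curv2.IsGloballyGenerated E) :
    Subsingleton (Coh.HH B E 1) := by
  haveI := Groth.L21.RR.isNoetherian_of_proper (X := B) k
  have hEc : Coh.IsCoh E := Groth.L16.NegPow.isCoh_of_isFinLocFree hE
  haveI := Groth.L21.RR.finite_HH' k hEc 0
  let b := Module.finBasis k (Coh.HH B E 0)
  let φ : Fin (Module.finrank k (Coh.HH B E 0)) → (Coh.structureModule B ⟶ E) :=
    fun i => Groth.L16.homOfSection E (Groth.L21.RR.e0 E (b i))
  let p := biproduct.desc φ
  haveI : Epi p := by
    refine Preadditive.epi_of_cancel_zero _ fun {G} g hg => ?_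
    refine Groth.L18.Ample.eq_zero_of_killsGlobal hgg g fun t => ?_
    obtain ⟨y, rfl⟩ := (Groth.L21.RR.e0 E).surjective t
    rw [← Groth.L21.RR.e0_hmap]
    have hz : Groth.L21.RR.hk k g 0 = 0 := by
      refine b.ext fun i => (Groth.L21.RR.e0 G).injective ?_
      show Groth.L21.RR.e0 G (Groth.L16.CohLinear.hmap g 0 (b i)) = _
      rw [Groth.L21.RR.e0_hmap, LinearMap.zero_apply, map_zero,
        ← Groth.L21.RR.app_homOfSection_one (Groth.L21.RR.e0 E (b i))]
      have h2 : φ i ≫ g = 0 := by
        rw [← biproduct.ι_desc φ i, Category.assoc]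
        exact (congrArg (biproduct.ι _ i ≫ ·) hg).trans comp_zero
      exact (congr($h2 |>.app ⊤ (Groth.L21.RR.oneSec B)))
    show Groth.L21.RR.e0 G (Groth.L21.RR.hk k g 0 y) = 0
    rw [hz, LinearMap.zero_apply, map_zero]
  haveI hsrc : Subsingleton (Coh.HH B (⨁ fun _ : Fin (Module.finrank k (Coh.HH B E 0)) => Coh.structureModule B) 1) := by
    refine ⟨fun x y => ?_⟩
    suffices h : ∀ x : Coh.HH B (⨁ fun _ : Fin (Module.finrank k (Coh.HH B E 0)) => Coh.structureModule B) 1, x = 0 from
      (h x).trans (h y).symm
    intro x
    rw [← Groth.L16.CohLinear.hmap_id 1 x, ← biproduct.total, Groth.L21.RR.hmap_sum']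
    refine Finset.sum_eq_zero fun j _ => ?_
    rw [Groth.L16.CohLinear.hmap_comp, Subsingleton.elim (Groth.L16.CohLinear.hmap (biproduct.π _ j) 1 x) 0, map_zero]
  refine (Groth.L21.RR.surjective_hmap_one_of_suppClosed hdim.le p ?_).subsingleton
  intro x _
  exact AddCommGrpCat.subsingleton_of_isZero ((Groth.L21.Mod.isZero_iff_stalk _).1 (isZero_cokernel_of_epi p) x)

end Groth.Agent.S17650
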