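import Groth.Statements.S17651
import Groth.Agent.L21.CurveAdj.RatComp
import Groth.Agent.L02.Quot.ProjTotal
import Groth.Agent.L18.RelProjCounit
import Groth.Agent.L16.NegPow.Gen
import Groth.Agent.L03.ShStab.QuadricCoh
import Groth.Agent.L21.RedCurve.Basic

set_option autoImplicit false
set_option backward.isDefEq.respectTransparency false
universe u
open CategoryTheory CategoryTheory.Limits AlgebraicGeometry TopologicalSpace
open Curves

namespace Groth.Agent.S17651

/-- Let k be an algebraically closed field and B a connected scheme, proper over k, of dimension one,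
with at-worst-nodal singularities and with H^1(B, O_B) = 0. Let E be a finite locally free
O_B-module generated by its global sections and p a closed point of B, with I_p the ideal sheaf of
functions vanishing at p. Then H^1(B, E ⊗ I_p) = 0; since E is locally free, E ⊗ I_p is the
submodule I_p E of sections vanishing at p. (The source works over the complex numbers; the
statement and its proof are unchanged over any algebraically closed field.) -/
theorem result (k : Type u) [Field k] [IsAlgClosed k]
    (B : Scheme.{u}) [B.Over (Spec (CommRingCat.of k))] [IsProper (B ↘ Spec (CommRingCat.of k))]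
    [ConnectedSpace ↥B] (hdim : topologicalKrullDim ↥B = 1) (hnod : Curv2.AtWorstNodal k B)
    (hg : Subsingleton (Coh.HH B (Coh.structureModule B) 1))
    (E : B.Modules) (hE : FlatMod.IsFinLocFree E) (hgg : Curv2.IsGloballyGenerated E)
    (p : ↥B) (hp : IsClosed ({p} : Set ↥B)) :
    Subsingleton (Coh.HH B (CohB1.tensorMod E
      (ClSub.idealMod (Scheme.IdealSheafData.vanishingIdeal (⟨{p}, hp⟩ : Closeds ↥B)))) 1) := by
  haveI : IsProper (B ↘ Spec (CommRingCat.of k)) := inferInstance
  haveI := Groth.L21.RR.isNoetherian_of_proper (X := B) k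
  obtain ⟨hred, -⟩ := Groth.L21.CurveAdj.isReduced_of_nodal (k := k) hdim hnod
  haveI := hred
  have hd := hdim.le
  let P := Scheme.IdealSheafData.vanishingIdeal (⟨{p}, hp⟩ : TopologicalSpace.Closeds ↥B)
  have hI : Subsingleton (Coh.HH B (ClSub.idealMod P) 1) := by
    haveI : AlgebraicGeometry.IsReduced P.subscheme := Groth.L18.isReduced_vanishingIdeal_subscheme _
    have hr : Set.range P.subschemeι = {p} := by
      rw [Scheme.IdealSheafData.range_subschemeι, Scheme.IdealSheafData.coe_support_vanishingIdeal]; rfl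
    haveI : Nonempty P.subscheme := by
      obtain ⟨y, -⟩ : p ∈ Set.range P.subschemeι := hr ▸ rfl
      exact ⟨y⟩
    haveI : Subsingleton P.subscheme := ⟨fun a b => P.subschemeι.isClosedEmbedding.injective
      (((hr.subset ⟨a, rfl⟩ : P.subschemeι a = p)).trans (hr.subset ⟨b, rfl⟩ : P.subschemeι b = p).symm)⟩
    haveI : PreconnectedSpace P.subscheme := ⟨Set.subsingleton_univ.isPreconnected⟩
    haveI : ConnectedSpace P.subscheme := { toNonempty := inferInstance }
    letI : P.subscheme.Over (Spec (CommRingCat.of k)) := ⟨P.subschemeι ≫ (B ↘ Spec (CommRingCat.of k))⟩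
    haveI : IsProper (P.subscheme ↘ Spec (CommRingCat.of k)) :=
      inferInstanceAs (IsProper (P.subschemeι ≫ (B ↘ Spec (CommRingCat.of k))))
    have hQ : Groth.L21.RR.h k 0 (ClSub.quotMod P) = 1 :=
      (Groth.L21.CurveAdj.h0_quotMod_eq P 0).symm.trans Groth.L21.CurveAdj.h0_eq_one_of_connected
    have hS := Groth.L21.RR.shortExact_idealSeq P
    have hne : ∃ c, Groth.L16.CohLinear.hmap (ClSub.toSubscheme P) 0 c ≠ 0 := by
      by_contra hh
      push Not at hh
      obtain ⟨x, hx⟩ := (Groth.L16.CohLinear.exact_hmap_hmap hS 0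
        ((Groth.L21.RR.e0 (Coh.structureModule B)).symm (Groth.L21.RR.oneSec B))).1 (hh _)
      obtain ⟨φ, hφ⟩ := Groth.L21.RR.exists_hom_of_hh0 x
      have h1 : φ ≫ ClSub.idealModι P = 𝟙 _ := Groth.L21.RR.hom_ext_one (by
        rw [Scheme.Modules.Hom.comp_app, ConcreteCategory.comp_apply, hφ, ← Groth.L21.RR.e0_hmap]
        exact (congrArg (Groth.L21.RR.e0 _) hx).trans (AddEquiv.apply_symm_apply _ _))
      have h2 : ClSub.toSubscheme P = 0 := by
        rw [← Category.id_comp (ClSub.toSubscheme P), ← h1, Category.assoc]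
        exact (congrArg (φ ≫ ·) (Groth.L21.RR.idealSeq P).zero).trans comp_zero
      haveI : Epi (0 : Coh.structureModule B ⟶ ClSub.quotMod P) := h2 ▸ Groth.L21.RR.epi_toSubscheme P
      have hz : IsZero (ClSub.quotMod P) := IsZero.of_epi_zero (Coh.structureModule B) _
      have := Groth.L21.RR.h_eq_zero_of_subsingleton k (Groth.L03.Euler.subsingleton_HH_of_isZero hz 0)
      omega
    have hsur : Function.Surjective (Groth.L16.CohLinear.hmap (ClSub.toSubscheme P) 0) := fun y => by
      obtain ⟨c, hc⟩ := hne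
      obtain ⟨a, ha⟩ := exists_smul_eq_of_finrank_eq_one (K := k) hQ hc y
      exact ⟨a • c, ((Groth.L21.RR.hk k (ClSub.toSubscheme P) 0).map_smul a c).trans ha⟩
    haveI := hg
    refine ⟨fun x y => ?_⟩
    suffices key : ∀ z : Coh.HH B (ClSub.idealMod P) 1, z = 0 by rw [key x, key y]
    intro z
    obtain ⟨q, hq⟩ := (Groth.L16.CohLinear.exact_delta_hmap hS 0 z).1 (@Subsingleton.elim (Coh.HH B (Coh.structureModule B) 1) hg _ _)
    obtain ⟨c, hc⟩ := hsur q
    rw [← hq]
    exact (Groth.L16.CohLinear.exact_hmap_delta hS 0 _).2 ⟨c, hc⟩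
  obtain ⟨b, π, hπ⟩ := Groth.L02.Quot.exists_epi_free_of_gg
    (Groth.L16.NegPow.isCoh_of_isFinLocFree hE) hgg
  haveI := hπ
  haveI := Groth.L18.RelCounit.epi_tensorMap_right π (ClSub.idealMod P)
  haveI : Subsingleton (Coh.HH B (CohB1.tensorMod (∐ fun _ : Fin b => Coh.structureModule B) (ClSub.idealMod P)) 1) :=
    Groth.L03.ShStab.QuadricCoh.subsingleton_sigma_tensor _ _ 1 fun _ =>
      haveI := hI
      Function.Surjective.subsingleton
        (f := Groth.L16.CohLinear.hmap (Groth.L00.Tensor.tensorUnitLeft (ClSub.idealMod P)).inv 1) fun y =>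
        ⟨Groth.L16.CohLinear.hmap (Groth.L00.Tensor.tensorUnitLeft (ClSub.idealMod P)).hom 1 y,
          by rw [← Groth.L16.CohLinear.hmap_comp, Iso.hom_inv_id, Groth.L16.CohLinear.hmap_id]⟩
  exact (Groth.L21.RedCurve.surjective_hmap_one_of_epi hd
    (Groth.L00.Tensor.tensorMap π (𝟙 (ClSub.idealMod P)))).subsingleton

end Groth.Agent.S17651
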