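import Groth.Statements.S17652
import Groth.Agent.L20.GeomIrrUsc

set_option autoImplicit false
universe u
open CategoryTheory CategoryTheory.Limits AlgebraicGeometry TopologicalSpace
open FlatMor

set_option backward.isDefEq.respectTransparency.types false
set_option linter.style.haveILetI false
namespace Groth.Agent.S17652

/-- Let k be a field, X and Y schemes of finite type over k and f : X → Y a k-morphism which is flat and
proper and whose fibres over the closed points of Y are geometrically reduced. For y in Y let N(y)
be the number of irreducible components of the geometric fibre of f at y (the base change of the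
fibre to an algebraic closure of the residue field κ(y)). Then N is upper semicontinuous on Y: every
point y has a neighbourhood on which N ≤ N(y). -/
theorem result (k : Type u) [Field k]
    (X Y : Scheme.{u}) [X.Over (Spec (CommRingCat.of k))] [Y.Over (Spec (CommRingCat.of k))]
    [LocallyOfFiniteType (X ↘ Spec (CommRingCat.of k))] [CompactSpace ↥X]
    [LocallyOfFiniteType (Y ↘ Spec (CommRingCat.of k))] [CompactSpace ↥Y]
    (f : X ⟶ Y) (hf : f ≫ (Y ↘ Spec (CommRingCat.of k)) = X ↘ Spec (CommRingCat.of k))
    [Flat f] [IsProper f]
    (hred : ∀ y : ↥Y, IsClosed ({y} : Set ↥Y) → GeometricallyReduced (f.fiberToSpecResidueField y)) :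
    UpperSemicontinuous (fun y : ↥Y =>
      Nat.card ↥(irreducibleComponents (↥(pullback f
        (Spec.map (CommRingCat.ofHom (algebraMap (Y.residueField y) (AlgebraicClosure (Y.residueField y)))) ≫
          Y.fromSpecResidueField y)) : Type u))) := by
  exact Groth.L20.GeomIrrUsc.upperSemicontinuous_card (Y ↘ Spec (CommRingCat.of k)) f hred


end Groth.Agent.S17652
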