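import Groth.Statements.S17653
import Groth.Agent.L22.IsolatedDim
-- import your own Groth.Agent.* helpers here

set_option autoImplicit false
universe u
open CategoryTheory CategoryTheory.Limits AlgebraicGeometry TopologicalSpace
open Variety

namespace Groth.Agent.S17653

/-- Suppose X and Y are locally Noetherian schemes of the same pure dimension d (every irreducible
component of X and every irreducible component of Y has topological Krull dimension d), and π : X →
Y is a proper morphism between them. If there is a point x of X which is isolated in its fibre
π⁻¹(π(x)), i.e. some open neighbourhood of x meets that fibre only in x, then the image of π, with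
the subspace topology, has the same dimension as Y. -/
theorem result
    (X Y : Scheme.{u}) [IsLocallyNoetherian X] [IsLocallyNoetherian Y] (π : X ⟶ Y) [IsProper π]
    (d : WithBot ℕ∞) (hX : ∀ Z ∈ irreducibleComponents ↥X, topologicalKrullDim ↥Z = d)
    (hY : ∀ Z ∈ irreducibleComponents ↥Y, topologicalKrullDim ↥Z = d)
    (x : ↥X) (hx : ∃ U : X.Opens, x ∈ U ∧ ∀ x' ∈ U, π x' = π x → x' = x) :
    topologicalKrullDim ↥(Set.range (fun z : ↥X => π z)) = topologicalKrullDim ↥Y := by
  refine le_antisymm (topologicalKrullDim_subspace_le _ _) ?_
  have hdY : topologicalKrullDim ↥Y ≤ d := by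
    rw [Groth.L22.FibreDim.topologicalKrullDim_eq_iSup_closure]
    refine iSup_le fun y => ?_
    have hy : closure ({y} : Set ↥Y) ⊆ irreducibleComponent y :=
      closure_minimal (Set.singleton_subset_iff.2 mem_irreducibleComponent) isClosed_irreducibleComponent
    exact (Groth.L22.SchemeDim.topologicalKrullDim_mono hy).trans
      (hY _ (irreducibleComponent_mem_irreducibleComponents y)).le
  refine hdY.trans ?_
  have hC := irreducibleComponent_mem_irreducibleComponents x
  obtain ⟨ξ, hξ⟩ := QuasiSober.sober hC.1 isClosed_irreducibleComponent
  rw [← hX _ hC, ← hξ.def]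
  exact Groth.L22.IsolatedDim.dim_closure_le_range π π.isClosedMap.isClosed_range
    (hξ.specializes mem_irreducibleComponent) hx

end Groth.Agent.S17653
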