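import Groth.Statements.S17658
import Mathlib.RingTheory.MvPolynomial.MonomialOrder
import Mathlib.Algebra.Algebra.Operations
-- import your own Groth.Agent.* helpers here

set_option autoImplicit false
universe u
open Surf

namespace Groth.Agent.S17658

/-- In the polynomial ring k[T₀,T₁,U,V] over a field k, bigraded by deg T₀ = deg T₁ = (0,1), deg U =
(1,−1), deg V = (1,0) (the Cox ring of the Hirzebruch surface F₁; its piece of bidegree (a,b) is the
space of sections of O(a(E+F)+bF)), let S_(a,b) denote the k-span of the monomials of bidegree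
(a,b), so that S_(0,c) is the space of forms of degree c in T₀, T₁. A subspace W ⊆ S_(a,b) is called
c-generating when W·S_(0,c) = S_(a,b+c). Fix a monomial order and natural numbers a, b, c, and let
W₀(a,b,c) be the set of monomials U^i V^(a−i) T₀^(b+i−j(c+1)) T₁^(j(c+1)) with 0 ≤ i ≤ a, j ≥ 0 and
j(c+1) < b+i, together with the monomials U^i V^(a−i) T₁^(b+i) with 0 ≤ i ≤ a. If every monomial of
W₀(a,b,c) is the leading monomial of some nonzero element of W, then W is c-generating. (The source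
fixes the graded lexicographic order with U > V > T₀ > T₁ and works over the complex numbers; its
argument uses only that leading monomials are multiplicative and that W₀(a,b,c)·S_(0,c) contains
every monomial of S_(a,b+c), so any monomial order and any field are allowed here. The printed index
j runs from 1; with that range the statement fails already for a = 0, b = c = 1 and W spanned by T₁,
and the range from 0 used here is the one matching the accompanying dimension count.) Variables are
indexed T₀ = 0, T₁ = 1, U = 2, V = 3. -/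
theorem result (k : Type u) [Field k]
    (mo : MonomialOrder (Fin 4)) (a b c : ℕ) (W : Submodule k (MvPolynomial (Fin 4) k))
    (hW : W ≤ Submodule.span k {f : MvPolynomial (Fin 4) k | ∃ e : Fin 4 →₀ ℕ, e 2 + e 3 = a ∧ e 0 + e 1 = b + e 2 ∧ f = MvPolynomial.monomial e 1})
    (h₁ : ∀ i j : ℕ, i ≤ a → j * (c + 1) < b + i → ∃ w ∈ W, w ≠ 0 ∧
      mo.degree w = Finsupp.single 0 (b + i - j * (c + 1)) + Finsupp.single 1 (j * (c + 1)) +
        Finsupp.single 2 i + Finsupp.single 3 (a - i))
    (h₂ : ∀ i : ℕ, i ≤ a → ∃ w ∈ W, w ≠ 0 ∧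
      mo.degree w = Finsupp.single 1 (b + i) + Finsupp.single 2 i + Finsupp.single 3 (a - i)) :
    W * Submodule.span k {f : MvPolynomial (Fin 4) k | ∃ e : Fin 4 →₀ ℕ, e 2 + e 3 = 0 ∧ e 0 + e 1 = c + e 2 ∧ f = MvPolynomial.monomial e 1} =
      Submodule.span k {f : MvPolynomial (Fin 4) k | ∃ e : Fin 4 →₀ ℕ, e 2 + e 3 = a ∧ e 0 + e 1 = (b + c) + e 2 ∧ f = MvPolynomial.monomial e 1} := by
  classical
  let S : ℕ → ℕ → Set (Fin 4 →₀ ℕ) := fun a b => {e | e 2 + e 3 = a ∧ e 0 + e 1 = b + e 2}
  let V : ℕ → ℕ → Submodule k (MvPolynomial (Fin 4) k) := fun a b =>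
    Submodule.span k {f | ∃ e : Fin 4 →₀ ℕ, e 2 + e 3 = a ∧ e 0 + e 1 = b + e 2 ∧ f = MvPolynomial.monomial e 1}
  show W * V 0 c = V a (b + c)
  have hVmem : ∀ {a b : ℕ} {f : MvPolynomial (Fin 4) k}, f ∈ V a b → ↑f.support ⊆ S a b := by
    intro a b f hf
    induction hf using Submodule.span_induction with
    | mem x hx =>
      obtain ⟨e, h2, h3, rfl⟩ := hx
      intro d hd
      rw [Finset.mem_coe, MvPolynomial.support_monomial, if_neg one_ne_zero, Finset.mem_singleton] at hd
      exact hd ▸ ⟨h2, h3⟩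
    | zero => simp
    | add x y _ _ hx hy =>
      intro d hd
      rcases Finset.mem_union.1 (MvPolynomial.support_add hd) with h | h
      · exact hx h
      · exact hy h
    | smul r x _ hx => exact fun d hd => hx (MvPolynomial.support_smul hd)
  have hsum : ∀ {p q : Fin 4 →₀ ℕ}, p ∈ S a b → q ∈ S 0 c → p + q ∈ S a (b + c) := by
    rintro p q ⟨p1, p2⟩ ⟨q1, q2⟩
    constructor <;> simp only [Finsupp.add_apply] <;> omega
  have hle : W * V 0 c ≤ V a (b + c) := by
    refine (mul_le_mul_left hW (V 0 c)).trans ?_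
    rw [Submodule.span_mul_span, Submodule.span_le]
    rintro _ ⟨f, ⟨e, h2, h3, rfl⟩, g, ⟨e', h2', h3', rfl⟩, rfl⟩
    refine Submodule.subset_span ⟨e + e', (hsum ⟨h2, h3⟩ ⟨h2', h3'⟩).1, (hsum ⟨h2, h3⟩ ⟨h2', h3'⟩).2, ?_⟩
    simp [MvPolynomial.monomial_mul]
  refine le_antisymm hle (Submodule.span_le.2 ?_)
  rintro _ ⟨e, h2, h3, rfl⟩
  -- a product with the wanted leading exponent
  have key : ∀ e ∈ S a (b + c), ∃ f ∈ W * V 0 c, f ≠ 0 ∧ mo.degree f = e := by
    rintro e ⟨e23, e01⟩
    have hmk : ∀ (w : MvPolynomial (Fin 4) k) (d : Fin 4 →₀ ℕ), w ∈ W → w ≠ 0 → d ∈ S 0 c →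
        mo.degree w + d = e → ∃ f ∈ W * V 0 c, f ≠ 0 ∧ mo.degree f = e := by
      intro w d hw hw0 hd he
      have hm : (MvPolynomial.monomial d (1 : k)) ≠ 0 := by simp
      refine ⟨w * MvPolynomial.monomial d 1, Submodule.mul_mem_mul hw (Submodule.subset_span ⟨d, hd.1, hd.2, rfl⟩),
        mul_ne_zero hw0 hm, ?_⟩
      rw [mo.degree_mul hw0 hm, MonomialOrder.degree_monomial, if_neg one_ne_zero, he]
    have hext : ∀ {p : Fin 4 →₀ ℕ}, p 0 = e 0 → p 1 = e 1 → p 2 = e 2 → p 3 = e 3 → p = e := by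
      intro p a0 a1 a2 a3
      ext x; fin_cases x <;> assumption
    have h3' : e 3 = a - e 2 := by omega
    by_cases hq : b + e 2 ≤ e 1
    · obtain ⟨w, hw, hw0, hdeg⟩ := h₂ (e 2) (by omega)
      refine hmk w (Finsupp.single 0 (e 0) + Finsupp.single 1 (e 1 - (b + e 2))) hw hw0 ⟨by simp, by simp; omega⟩ ?_
      rw [hdeg]
      refine hext ?_ ?_ ?_ ?_ <;> simp <;> omega
    · obtain ⟨w, hw, hw0, hdeg⟩ := h₁ (e 2) (e 1 / (c + 1)) (by omega)
        (lt_of_le_of_lt (Nat.div_mul_le_self _ _) (by omega))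
      have hr : e 1 % (c + 1) < c + 1 := Nat.mod_lt _ (by omega)
      have hdm : e 1 / (c + 1) * (c + 1) + e 1 % (c + 1) = e 1 := Nat.div_add_mod' _ _
      refine hmk w (Finsupp.single 0 (c - e 1 % (c + 1)) + Finsupp.single 1 (e 1 % (c + 1))) hw hw0
        ⟨by simp, by simp; omega⟩ ?_
      rw [hdeg]
      generalize e 1 / (c + 1) * (c + 1) = J at hdm
      refine hext ?_ ?_ ?_ ?_ <;> simp <;> omega
  have main : ∀ s : mo.syn, ∀ e ∈ S a (b + c), mo.toSyn e = s → MvPolynomial.monomial e (1 : k) ∈ W * V 0 c := by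
    intro s
    induction s using WellFoundedLT.induction with
    | _ s ih =>
      intro e he hs
      obtain ⟨f, hf, hf0, hdeg⟩ := key e he
      have hlc : f.coeff e ≠ 0 := hdeg ▸ mo.coeff_degree_ne_zero_iff.2 hf0
      have hrest : ∀ d ∈ f.support.erase e, MvPolynomial.monomial d (f.coeff d) ∈ W * V 0 c := by
        intro d hd
        obtain ⟨hde, hd⟩ := Finset.mem_erase.1 hd
        have hlt : mo.toSyn d < s := by
          rw [← hs, ← hdeg]
          exact lt_of_le_of_ne (mo.le_degree hd) fun h => hde (hdeg ▸ mo.toSyn.injective h)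
        have h := (W * V 0 c).smul_mem (f.coeff d) (ih _ hlt d (hVmem (hle hf) hd) rfl)
        rwa [MvPolynomial.smul_monomial, smul_eq_mul, mul_one] at h
      have hsplit : MvPolynomial.monomial e (f.coeff e) = f - ∑ d ∈ f.support.erase e, MvPolynomial.monomial d (f.coeff d) := by
        rw [eq_sub_iff_add_eq, Finset.add_sum_erase _ (fun d => MvPolynomial.monomial d (f.coeff d)) (MvPolynomial.mem_support_iff.2 hlc)]
        exact f.support_sum_monomial_coeff
      have h := (W * V 0 c).smul_mem (f.coeff e)⁻¹ (hsplit ▸ sub_mem hf (Submodule.sum_mem _ hrest))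
      rwa [MvPolynomial.smul_monomial, smul_eq_mul, inv_mul_cancel₀ hlc] at h
  exact main _ e ⟨h2, h3⟩ rfl

end Groth.Agent.S17658
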