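import Groth.Statements.S17659
import Groth.Agent.S1641
import Groth.Agent.L21.NormRed.Euler

set_option autoImplicit false
set_option backward.isDefEq.respectTransparency.types false
set_option backward.isDefEq.respectTransparency false
set_option linter.style.haveILetI false
universe u
open CategoryTheory CategoryTheory.Limits AlgebraicGeometry
open CIDisc

namespace Groth.Agent.S17659

/-- Let X be a proper scheme over a field k all of whose irreducible components have dimension one, E a
finite locally free O_X-module of constant rank n and F a coherent O_X-module. Then χ(X, E ⊗ F) =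
Σ_Z r_Z(F) · deg(E|_{Z_red}) + n · χ(X, F), the sum running over the irreducible components Z of X,
where r_Z(F) is the length of the stalk of F at the generic point ξ_Z of Z as a module over
O_{X,ξ_Z}, and Z_red is Z with its reduced induced structure (the closed subscheme cut out by the
radical of the ideal of the component). The Noetherian hypothesis on X is a consequence of
properness over k and is stated for convenience. -/
theorem result (k : Type u) [Field k] (X : Scheme.{u}) [X.Over (Spec (CommRingCat.of k))]
    [IsProper (X ↘ (Spec (CommRingCat.of k)))] [IsNoetherian X]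
    (hdim : ∀ Z ∈ irreducibleComponents (X : Type u), topologicalKrullDim Z = 1)
    (n : ℕ) (E : X.Modules) (hE : FlatMod.IsFinLocFreeOfRank n E) (F : X.Modules) (hF : Coh.IsCoh F) :
    Curv2.euler k X (CohB1.tensorMod E F) =
      (∑ᶠ Z : irreducibleComponents (X : Type u),
        ((Module.length (X.presheaf.stalk Z.2.1.genericPoint) (F.presheaf.stalk Z.2.1.genericPoint)).toNat : ℤ) *
          @Curv2.deg k _ (X.irreducibleComponentIdeal Z.1 Z.2).radical.subscheme
            ⟨(X.irreducibleComponentIdeal Z.1 Z.2).radical.subschemeι ≫ (X ↘ (Spec (CommRingCat.of k)))⟩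
            ((Scheme.Modules.pullback (X.irreducibleComponentIdeal Z.1 Z.2).radical.subschemeι).obj E) n) +
        (n : ℤ) * Curv2.euler k X F := by
  classical
  haveI : X.IsSeparated := ⟨by rw [← terminal.comp_from (X ↘ Spec (CommRingCat.of k))]; infer_instance⟩
  have hdim' : topologicalKrullDim X ≤ 1 := Groth.L21.NormRed.dim_le_one_of_components hdim
  have hfin := Groth.L22.CurveDeg.finite_nonclosed (X := X) hdim'
  let S := hfin.toFinset
  have hS : ∀ x, x ∈ S ↔ ¬ IsClosed ({x} : Set X) := fun x => Set.Finite.mem_toFinset _
  have hcomp : ∀ y : X, ¬ IsClosed ({y} : Set X) → closure ({y} : Set X) ∈ irreducibleComponents (X : Type u) := by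
    intro y hy
    refine ⟨isIrreducible_singleton.closure, fun T hT hle => ?_⟩
    obtain ⟨g, hg⟩ := QuasiSober.sober hT.closure isClosed_closure
    have hgy : g ⤳ y := hg.specializes (subset_closure (hle (subset_closure rfl)))
    exact subset_closure.trans_eq (by rw [← hg.def, Groth.L22.CurveDeg.eq_of_specializes_nonclosed hdim' hy hgy])
  have hG : ∀ (y : X) (hy : ¬ IsClosed ({y} : Set X)),
      Coh.IsCoh ((Coh.push (X.irreducibleComponentIdeal _ (hcomp y hy)).radical.subschemeι).obj (Coh.structureModule _)) ∧
      CohB1.support ((Coh.push (X.irreducibleComponentIdeal _ (hcomp y hy)).radical.subschemeι).obj (Coh.structureModule _)) ⊆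
        closure {y} ∧
      Groth.L16.CohSupport.len y
        ((Coh.push (X.irreducibleComponentIdeal _ (hcomp y hy)).radical.subschemeι).obj (Coh.structureModule _)) = 1 ∧
      Groth.L22.CurveDeg.phi k E n
        ((Coh.push (X.irreducibleComponentIdeal _ (hcomp y hy)).radical.subschemeι).obj (Coh.structureModule _)) =
      @Curv2.deg k _ (X.irreducibleComponentIdeal _ (hcomp y hy)).radical.subscheme
        ⟨(X.irreducibleComponentIdeal _ (hcomp y hy)).radical.subschemeι ≫ (X ↘ (Spec (CommRingCat.of k)))⟩
        ((Scheme.Modules.pullback (X.irreducibleComponentIdeal _ (hcomp y hy)).radical.subschemeι).obj E) n := by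
    intro y hy
    obtain ⟨hr, hint⟩ := Groth.Agent.S1641.isIntegral_comp _ (hcomp y hy)
    haveI := hint
    exact Groth.Agent.S1641.comp_facts k _ n E hE y hr
  let G : X → X.Modules := fun y => if hy : ¬ IsClosed ({y} : Set X) then
    (Coh.push (X.irreducibleComponentIdeal _ (hcomp y hy)).radical.subschemeι).obj (Coh.structureModule _)
    else Coh.structureModule X
  have hsum := Groth.L22.CurveDeg.phi_eq_sum k hdim' hE S hS G (fun y hy => by
      have hy' := (hS y).1 hy
      simp only [G, dif_pos hy']
      exact ⟨(hG y hy').1, (hG y hy').2.1, (hG y hy').2.2.1⟩) hF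
  rw [← sub_eq_iff_eq_add]
  refine Eq.trans (show _ = Groth.L22.CurveDeg.phi k E n F from rfl) ?_
  rw [hsum]
  let c : {y // y ∈ S} → irreducibleComponents (X : Type u) :=
    fun y => ⟨closure {y.1}, hcomp y.1 ((hS y.1).1 y.2)⟩
  have hcinj : Function.Injective c := fun a b hab => Subtype.ext
    ((show IsGenericPoint a.1 (closure {b.1}) from congrArg Subtype.val hab).eq isGenericPoint_closure)
  rw [finsum_eq_sum_of_support_subset _ (s := S.attach.image c) ?_, Finset.sum_image (fun a _ b _ h => hcinj h),
    ← Finset.sum_attach S]
  · refine Finset.sum_congr rfl fun y _ => ?_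
    have hy' := (hS y.1).1 y.2
    have hgp : (c y).2.1.genericPoint = y.1 := by
      have h1 := (c y).2.1.isGenericPoint_genericPoint_closure
      rw [show closure ((c y).1) = closure ({y.1} : Set X) from closure_closure] at h1
      exact h1.eq isGenericPoint_closure
    have hlen : Groth.L16.CohSupport.len y.1 F =
        Module.length (X.presheaf.stalk (c y).2.1.genericPoint) (F.presheaf.stalk (c y).2.1.genericPoint) := by
      rw [hgp]
      rfl
    rw [hlen]
    congr 1
    simp only [G, dif_pos hy']
    exact (hG y.1 hy').2.2.2
  · intro Z hZ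
    have hZc := isClosed_of_mem_irreducibleComponents Z.1 Z.2
    obtain ⟨ζ, hζ⟩ := QuasiSober.sober Z.2.1 hZc
    have hζn : ¬ IsClosed ({ζ} : Set X) := fun hc => by
      have hZe : Z.1 = {ζ} := by rw [← hζ.def, hc.closure_eq]
      haveI : Subsingleton Z.1 := by rw [hZe]; infer_instance
      haveI : DiscreteTopology Z.1 := Subsingleton.discreteTopology
      haveI : _root_.Nonempty Z.1 := ⟨⟨ζ, hζ.mem⟩⟩
      have := topologicalKrullDim_zero_of_discreteTopology Z.1
      rw [hdim Z.1 Z.2] at this
      exact absurd this (by decide)
    rw [Finset.coe_image]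
    exact ⟨⟨ζ, (hS ζ).2 hζn⟩, Finset.mem_attach _ _, Subtype.ext hζ.def⟩

end Groth.Agent.S17659
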