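import Groth.Statements.S17660
import Groth.Agent.L12.LineLift.IdealKer
import Groth.Agent.L22.CurveDeg.Devissage
import Groth.Agent.L22.Reg.Chi
import Groth.Agent.L21.RR.Twist
import Groth.Agent.L16.Rees.ClosedFibre
import Groth.Agent.L03.Euler.Basic
-- import your own Groth.Agent.* helpers here

set_option autoImplicit false
universe u
open CategoryTheory CategoryTheory.Limits AlgebraicGeometry
open Ribbon

namespace Groth.Agent.S17660

/-- Let C be a proper scheme over a field k and I ⊂ O_C a quasi-coherent ideal with I² = 0 whose closed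
subscheme D ⊂ C is isomorphic over k to the projective line, and suppose that I, regarded as an
O_D-module, is isomorphic to O_{P^1}(-g-1) (so C is a ribbon of arithmetic genus g on P^1 with
conormal bundle I). If L is an invertible O_C-module whose restriction to D is isomorphic to
O_{P^1}(n), then the degree χ(C, L) - χ(C, O_C) of L equals 2n. (Stated over an arbitrary ground
field; the source works with rational ribbons over an algebraically closed field, and also
identifies I·L with O_{P^1}(n-g-1), which is not asserted here.) -/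
theorem result (k : Type u) [Field k] (C : Scheme.{u}) [C.Over (Spec (CommRingCat.of k))]
    [IsProper (C ↘ (Spec (CommRingCat.of k)))]
    (I : C.IdealSheafData) (hI : I ^ 2 = ⊥)
    (e : I.subscheme ≅ CohB1.ProjSpace 1 k)
    (he : e.hom ≫ CohB1.ProjSpace.toSpec 1 k = I.subschemeι ≫ (C ↘ (Spec (CommRingCat.of k))))
    (g : ℕ)
    (hconormal : Nonempty ((Scheme.Modules.pullback I.subschemeι).obj (ClSub.idealMod I) ≅
      (Scheme.Modules.pullback e.hom).obj (Twist.twistProjSpace 1 k (-((g : ℤ) + 1)))))
    (L : C.Modules) (hL : PicF.IsInvertible L) (n : ℤ)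
    (hLD : Nonempty ((Scheme.Modules.pullback I.subschemeι).obj L ≅
      (Scheme.Modules.pullback e.hom).obj (Twist.twistProjSpace 1 k n))) :
    Curv2.deg k C L 1 = 2 * n := by
  haveI := Groth.L21.RR.isNoetherian_of_proper (X := C) k
  letI : (CohB1.ProjSpace 1 k).Over (Spec (CommRingCat.of k)) := ⟨CohB1.ProjSpace.toSpec 1 k⟩
  haveI : IsProper ((CohB1.ProjSpace 1 k) ↘ Spec (CommRingCat.of k)) := Groth.L16.ProjSpace.isProper_toSpec 1 k
  let ι := I.subschemeι
  letI : I.subscheme.Over (Spec (CommRingCat.of k)) := ⟨ι ≫ (C ↘ Spec (CommRingCat.of k))⟩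
  haveI : IsProper (I.subscheme ↘ Spec (CommRingCat.of k)) :=
    inferInstanceAs (IsProper (ι ≫ (C ↘ Spec (CommRingCat.of k))))
  haveI : C.IsSeparated :=
    ⟨by rw [← Limits.terminal.comp_from (C ↘ Spec (CommRingCat.of k))]; infer_instance⟩
  haveI : (CohB1.ProjSpace 1 k).IsSeparated :=
    ⟨by rw [← Limits.terminal.comp_from ((CohB1.ProjSpace 1 k) ↘ Spec (CommRingCat.of k))]; infer_instance⟩
  haveI := Groth.L21.RR.isNoetherian_of_proper (X := I.subscheme) k
  have hflf : ∀ {Z : Scheme.{u}} {M : Z.Modules}, PicF.IsInvertible M → FlatMod.IsFinLocFree M :=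
    fun h => Groth.L16.Existence.isFinLocFree_of_isInvertible h
  -- Euler characteristics on the reduced line
  have hline : ∀ (M : I.subscheme.Modules) (d : ℤ),
      Nonempty (M ≅ (Scheme.Modules.pullback e.hom).obj (Twist.twistProjSpace 1 k d)) →
      Curv2.euler k I.subscheme M = d + 1 := by
    rintro M d ⟨θ⟩
    obtain ⟨ω⟩ := Groth.L16.Rees.ClosedFibre.nonempty_push_structure e.hom
    have h := Groth.L22.CurveDeg.euler_tensor_push k e.hom he
      (hflf (Groth.L16.ProjTwist.isInvertible_twistProjSpace 1 k d)) (Coh.structureModule I.subscheme)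
      (Groth.L19.Conormal.isQCoh_structureModule _)
    rw [Groth.L03.Euler.euler_iso (Groth.L00.Tensor.tensorIso (Iso.refl _) ω.symm ≪≫ Groth.L00.Tensor.tensorUnitRight _),
      Groth.L03.Euler.euler_iso (Groth.L00.Tensor.tensorUnitRight ((Scheme.Modules.pullback e.hom).obj (Twist.twistProjSpace 1 k d)))] at h
    rw [Groth.L03.Euler.euler_iso θ, ← h]
    refine (Groth.L22.Reg.euler_O (k := k) (n := 1) one_pos d).trans ?_
    simp
  haveI := Groth.L17.KilledUnit.isIso_of_killed ι (ClSub.idealMod I) (Groth.L12.LineLift.killed_idealMod I hI)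
  let P := (Scheme.Modules.pullback ι).obj (ClSub.idealMod I)
  haveI hP : Coh.IsQCoh P :=
    Groth.L17.KilledUnit.isQCoh_pullback_of_killed ι (ClSub.idealMod I) (Groth.L12.LineLift.killed_idealMod I hI)
  -- the Euler characteristic of a line bundle on the double line
  have key : ∀ (M : C.Modules) (m : ℤ), PicF.IsInvertible M →
      Nonempty ((Scheme.Modules.pullback ι).obj M ≅ (Scheme.Modules.pullback e.hom).obj (Twist.twistProjSpace 1 k m)) →
      Curv2.euler k C M = (m - ((g : ℤ) + 1) + 1) + (m + 1) := by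
    intro M m hM hMm
    have h1 := Groth.L03.Euler.euler_add (k := k) (Groth.L21.RR.shortExact_tw I hM) (Groth.L21.RR.isCoh_twist I hM)
      (Groth.L16.ProperFinite.isCoh_of_isInvertible hM) (Groth.L21.RR.isCoh_twistQuot I hM)
    refine h1.trans (congrArg₂ (· + ·) ?_ ?_)
    · show Curv2.euler k C (CohB1.tensorMod M (ClSub.idealMod I)) = _
      refine (Groth.L03.Euler.euler_iso (Groth.L00.Tensor.tensorIso (Iso.refl M)
          (asIso ((Scheme.Modules.pullbackPushforwardAdjunction ι).unit.app (ClSub.idealMod I))))).trans ?_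
      refine (Groth.L22.CurveDeg.euler_tensor_push k ι rfl (hflf hM) P hP).trans (hline _ _ ?_)
      obtain ⟨a⟩ := hMm
      obtain ⟨b⟩ := hconormal
      obtain ⟨c⟩ := Groth.L22.Reg.nonempty_O_add (n := 1) (R := k)
        (show m + -((g : ℤ) + 1) = m - ((g : ℤ) + 1) by ring)
      exact ⟨Groth.L00.Tensor.tensorIso a b ≪≫ Groth.L29.DC.PullTensor.pullTensor e.hom _ _ ≪≫
        (Scheme.Modules.pullback e.hom).mapIso c⟩
    · refine (Groth.L22.CurveDeg.euler_tensor_push k ι rfl (hflf hM) (Coh.structureModule I.subscheme)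
        (Groth.L19.Conormal.isQCoh_structureModule _)).trans (hline _ _ ?_)
      exact hMm.map fun a => Groth.L00.Tensor.tensorUnitRight _ ≪≫ a
  obtain ⟨z⟩ := Groth.L16.ProjTwist.nonempty_twist_zero_iso (CohB1.polyGrading 1 k)
  show Curv2.euler k C L - ((1 : ℕ) : ℤ) * Curv2.euler k C (Coh.structureModule C) = 2 * n
  rw [key L n hL hLD, key _ 0 (Groth.L18.Ample.isInvertible_structureModule C) (⟨Groth.L29.LocFree.pullbackUnitIso ι ≪≫
    (Groth.L29.LocFree.pullbackUnitIso e.hom).symm ≪≫ (Scheme.Modules.pullback e.hom).mapIso z.symm⟩ :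
    Nonempty ((Scheme.Modules.pullback ι).obj (Coh.structureModule C) ≅ _))]
  push_cast
  ring

end Groth.Agent.S17660
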