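import Groth.Statements.S17661
import Groth.Agent.L20.ThickAffine
import Mathlib.RingTheory.Smooth.Basic
import Mathlib.RingTheory.RingHom.Smooth
-- import your own Groth.Agent.* helpers here

set_option autoImplicit false
universe u
open CategoryTheory CategoryTheory.Limits AlgebraicGeometry
open Ribbon

namespace Groth.Agent.S17661

/-- Let k be a field, C a scheme locally of finite type over k and I ⊂ O_C a quasi-coherent ideal with
I² = 0, with closed subscheme D ⊂ C; suppose D is affine, connected and smooth over k and that I,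
regarded as an O_D-module, is invertible (so C is a ribbon on the smooth affine scheme D, and D is
the reduced scheme underlying C). Then the ribbon is split: the inclusion D → C admits a retraction
C → D over k. -/
theorem result (k : Type u) [Field k] (C : Scheme.{u}) [C.Over (Spec (CommRingCat.of k))]
    [LocallyOfFiniteType (C ↘ (Spec (CommRingCat.of k)))]
    (I : C.IdealSheafData) (hI : I ^ 2 = ⊥) [IsAffine I.subscheme] [ConnectedSpace I.subscheme]
    [Smooth (I.subschemeι ≫ (C ↘ (Spec (CommRingCat.of k))))]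
    (hconormal : PicF.IsInvertible ((Scheme.Modules.pullback I.subschemeι).obj (ClSub.idealMod I))) :
    ∃ r : C ⟶ I.subscheme, I.subschemeι ≫ r = 𝟙 I.subscheme ∧
      r ≫ I.subschemeι ≫ (C ↘ (Spec (CommRingCat.of k))) = C ↘ (Spec (CommRingCat.of k)) := by
  classical
  let ι := I.subschemeι
  let q := C ↘ (Spec (CommRingCat.of k))
  have hsupp : I.support = ⊤ := by
    rw [← Scheme.IdealSheafData.support_pow I 2 (by norm_num), hI, Scheme.IdealSheafData.support_bot]
  have hι : Function.Surjective ι := fun c => by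
    have hc : c ∈ Set.range ι := by
      rw [I.range_subschemeι, hsupp]; trivial
    exact hc
  haveI : IsAffine C := Groth.L20.ThickAffine.isAffine_of_surjective ι hι
  let φ : CommRingCat.of k ⟶ Γ(C, ⊤) := (Scheme.ΓSpecIso (CommRingCat.of k)).inv ≫ q.appTop
  let ψ : CommRingCat.of k ⟶ Γ(I.subscheme, ⊤) := φ ≫ ι.appTop
  have hψ : ψ.hom.Smooth := by
    have h := HasRingHomProperty.appTop @Smooth (ι ≫ q) inferInstance
    have h2 := RingHom.Smooth.respectsIso.2 (ι ≫ q).appTop.hom
      (Scheme.ΓSpecIso (CommRingCat.of k)).symm.commRingCatIsoToRingEquiv h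
    have e : ψ.hom = (ι ≫ q).appTop.hom.comp
        (Scheme.ΓSpecIso (CommRingCat.of k)).symm.commRingCatIsoToRingEquiv.toRingHom := by
      rw [Scheme.Hom.comp_appTop]
      rfl
    rw [e]
    exact h2
  letI := φ.hom.toAlgebra
  letI := ψ.hom.toAlgebra
  haveI : Algebra.Smooth k Γ(I.subscheme, ⊤) := RingHom.smooth_algebraMap.mp hψ
  let g : Γ(C, ⊤) →ₐ[k] Γ(I.subscheme, ⊤) := ⟨ι.appTop.hom, fun _ => rfl⟩
  have hker : RingHom.ker g.toRingHom = I.ideal ⟨⊤, isAffineOpen_top C⟩ :=
    I.ker_subschemeι_app ⟨⊤, isAffineOpen_top C⟩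
  have hg : Function.Surjective g := ι.app_surjective ⊤ (isAffineOpen_top C)
  have hnil : IsNilpotent (RingHom.ker g.toRingHom) := ⟨2, by
    rw [hker, ← Pi.pow_apply, ← Scheme.IdealSheafData.ideal_pow, hI]
    rfl⟩
  let s := Algebra.FormallySmooth.liftOfSurjective (AlgHom.id k Γ(I.subscheme, ⊤)) g hg hnil
  have hs : ∀ a, g (s a) = a := fun a => Algebra.FormallySmooth.liftOfSurjective_apply _ _ _ _ a
  let r : C ⟶ I.subscheme := C.isoSpec.hom ≫ Spec.map (CommRingCat.ofHom s.toRingHom) ≫ I.subscheme.isoSpec.inv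
  have hr : r.appTop = CommRingCat.ofHom s.toRingHom := by
    refine Spec.map_injective ?_
    rw [← cancel_epi C.isoSpec.hom, ← cancel_mono I.subscheme.isoSpec.inv, Category.assoc, Category.assoc,
      ← Category.assoc C.isoSpec.hom (Spec.map r.appTop), Scheme.isoSpec_hom_naturality, Category.assoc,
      Iso.hom_inv_id, Category.comp_id]
  refine ⟨r, ext_of_isAffine ?_, ext_of_isAffine ?_⟩
  · rw [Scheme.Hom.comp_appTop, hr, Scheme.Hom.id_appTop]
    exact CommRingCat.hom_ext (RingHom.ext hs)
  · rw [Scheme.Hom.comp_appTop, hr, Scheme.Hom.comp_appTop,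
      ← cancel_epi (Scheme.ΓSpecIso (CommRingCat.of k)).inv]
    exact CommRingCat.hom_ext (RingHom.ext fun c => s.commutes c)

end Groth.Agent.S17661
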