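import Groth.Statements.S17662
import Groth.Agent.L00.CauchyBinet
import Mathlib.LinearAlgebra.Matrix.NonsingularInverse
import Mathlib.RingTheory.Ideal.Operations
-- import your own Groth.Agent.* helpers here

set_option autoImplicit false
universe u
open CIDisc

namespace Groth.Agent.S17662

/-- Let R be a commutative ring, M an r × n matrix over R and e ≥ 0; for each e-element set L of row
indices let A_L be an e × r matrix over R, and form the square matrix, indexed by the e-element sets
of row indices, whose (L, L') entry is the e × e minor of A_L on the columns L'. If the determinant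
of that square matrix is a unit, then the sum over L of the ideals generated by the e × e minors of
the products A_L · M is the ideal generated by all e × e minors of M. (In the source R is the
coordinate ring of an affine scheme X of codimension e cut out by f_1, …, f_r in affine n-space, M
is the image of the Jacobian matrix of the f_j, the A_L have entries in the ground field and cut out
complete intersections Z_L = V(A_L · f), so that the two sides are Σ_L Jac(Z_L) and Jac(X); the
source states the equality for general A_L and establishes it under the present invertibility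
condition, which it shows to be generic.) -/
theorem result {R : Type u} [CommRing R] (e r n : ℕ)
    (M : Matrix (Fin r) (Fin n) R)
    (A : {s : Finset (Fin r) // s.card = e} → Matrix (Fin e) (Fin r) R)
    (hA : IsUnit (Matrix.det (Matrix.of fun i j : {s : Finset (Fin r) // s.card = e} =>
      ((A i).submatrix id (j.1.orderEmbOfFin j.2)).det))) :
    (⨆ i, Ideal.span (Set.range fun t : {s : Finset (Fin n) // s.card = e} =>
        ((A i * M).submatrix id (t.1.orderEmbOfFin t.2)).det)) =
      Ideal.span (Set.range fun p : {s : Finset (Fin r) // s.card = e} × {s : Finset (Fin n) // s.card = e} =>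
        (M.submatrix (p.1.1.orderEmbOfFin p.1.2) (p.2.1.orderEmbOfFin p.2.2)).det) := by
  classical
  let D : Matrix {s : Finset (Fin r) // s.card = e} {s : Finset (Fin r) // s.card = e} R :=
    Matrix.of fun i j => ((A i).submatrix id (j.1.orderEmbOfFin j.2)).det
  have cb : ∀ (i : {s : Finset (Fin r) // s.card = e}) (t : {s : Finset (Fin n) // s.card = e}),
      ((A i * M).submatrix id (t.1.orderEmbOfFin t.2)).det =
        D.mulVec (fun j => (M.submatrix (j.1.orderEmbOfFin j.2) (t.1.orderEmbOfFin t.2)).det) i := by
    intro i t
    rw [Matrix.submatrix_mul (A i) M id id (t.1.orderEmbOfFin t.2) Function.bijective_id,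
      Matrix.submatrix_id_id, Groth.L00.CB.det_mul_eq_sum_subsets]
    exact Finset.sum_congr rfl fun s _ => by simp [D]
  refine le_antisymm (iSup_le fun i => Ideal.span_le.2 ?_) (Ideal.span_le.2 ?_)
  · rintro _ ⟨t, rfl⟩
    simp only [SetLike.mem_coe, cb]
    simp only [Matrix.mulVec, dotProduct]
    exact sum_mem fun j _ => Ideal.mul_mem_left _ _ (Ideal.subset_span (Set.mem_range_self (f := fun p : {s : Finset (Fin r) // s.card = e} × {s : Finset (Fin n) // s.card = e} => (M.submatrix (p.1.1.orderEmbOfFin p.1.2) (p.2.1.orderEmbOfFin p.2.2)).det) (j, t)))
  · rintro _ ⟨⟨j, t⟩, rfl⟩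
    let v := fun j : {s : Finset (Fin r) // s.card = e} => (M.submatrix (j.1.orderEmbOfFin j.2) (t.1.orderEmbOfFin t.2)).det
    have : v = D⁻¹.mulVec (D.mulVec v) := by rw [Matrix.mulVec_mulVec, Matrix.nonsing_inv_mul _ hA, Matrix.one_mulVec]
    show v j ∈ _
    rw [this]
    rw [SetLike.mem_coe]
    simp only [Matrix.mulVec, dotProduct]
    refine sum_mem fun i _ => Ideal.mul_mem_left _ _ ?_
    exact
      Submodule.mem_iSup_of_mem i (Ideal.subset_span (Set.mem_range.2 ⟨t, cb i t⟩))

end Groth.Agent.S17662
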