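import Groth.Statements.S17663
import Groth.Agent.L19.SplitExt.Spec

set_option autoImplicit false
set_option backward.isDefEq.respectTransparency.types false
set_option backward.isDefEq.respectTransparency false
set_option linter.style.haveILetI false
universe u
open CategoryTheory CategoryTheory.Limits AlgebraicGeometry
open Ribbon

namespace Groth.Agent.S17663

/-- Let D be a reduced connected scheme of finite type over a field k and 𝓛 an invertible O_D-module.
Then some split ribbon on D has conormal bundle 𝓛: there are a k-scheme C locally of finite type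
together with a quasi-coherent ideal I ⊂ O_C with I² = 0, a k-isomorphism from the closed subscheme
V(I) to D, a retraction C → V(I) over k of the inclusion, and an isomorphism of O_D-modules between
I (regarded as a module on V(I) ≅ D) and 𝓛. -/
theorem result (k : Type u) [Field k] (D : Scheme.{u}) [D.Over (Spec (CommRingCat.of k))]
    [LocallyOfFiniteType (D ↘ (Spec (CommRingCat.of k)))] [QuasiCompact (D ↘ (Spec (CommRingCat.of k)))]
    [AlgebraicGeometry.IsReduced D] [ConnectedSpace D]
    (𝓛 : D.Modules) (h𝓛 : PicF.IsInvertible 𝓛) :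
    ∃ (C : Scheme.{u}) (sC : C ⟶ (Spec (CommRingCat.of k))) (I : C.IdealSheafData) (φ : I.subscheme ≅ D) (r : C ⟶ I.subscheme),
      LocallyOfFiniteType sC ∧ I ^ 2 = ⊥ ∧ φ.hom ≫ (D ↘ (Spec (CommRingCat.of k))) = I.subschemeι ≫ sC ∧ I.subschemeι ≫ r = 𝟙 I.subscheme ∧
        r ≫ I.subschemeι ≫ sC = sC ∧
        Nonempty ((Scheme.Modules.pullback (φ.inv ≫ I.subschemeι)).obj (ClSub.idealMod I) ≅ 𝓛) := by
  haveI : IsLocallyNoetherian D := LocallyOfFiniteType.isLocallyNoetherian (D ↘ (Spec (CommRingCat.of k)))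
  haveI : Coh.IsQCoh 𝓛 := Groth.L21.Extend.isQCoh_of_isInvertible h𝓛
  have hfin : ∀ U : D.Opens, IsAffineOpen U → Module.Finite Γ(D, U) Γ(𝓛, U) := fun U hU =>
    Groth.L20.ModStalk.finite_sections 𝓛 (Groth.L18.Ample.isCoh_of_isInvertible h𝓛) hU
  haveI := Groth.L19.SplitExt.locallyOfFiniteType_ret 𝓛 hfin
  let t := Groth.L19.SplitExt.toSub 𝓛
  let π := Groth.L19.SplitExt.ret 𝓛
  have hs : t ≫ (Groth.L19.SplitExt.ideal 𝓛).subschemeι ≫ π = 𝟙 D := by
    rw [← Category.assoc, Groth.L19.SplitExt.toSub_ι, Groth.L19.SplitExt.sec_ret]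
  refine ⟨Groth.L19.SplitExt.spec 𝓛, π ≫ (D ↘ (Spec (CommRingCat.of k))), Groth.L19.SplitExt.ideal 𝓛,
    (asIso t).symm, π ≫ t, inferInstance, Groth.L19.SplitExt.ideal_sq 𝓛, ?_, ?_, ?_,
    ⟨Groth.L19.SplitExt.idealIso 𝓛⟩⟩
  · rw [← cancel_epi t, Iso.symm_hom, asIso_inv, IsIso.hom_inv_id_assoc, ← Category.assoc,
      ← Category.assoc, Category.assoc t, hs, Category.id_comp]
  · rw [← cancel_epi t, Category.comp_id, ← Category.assoc, ← Category.assoc, Category.assoc t, hs,
      Category.id_comp]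
  · rw [Category.assoc, ← Category.assoc _ π, ← Category.assoc t, hs, Category.id_comp]

end Groth.Agent.S17663
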