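import Groth.Statements.S17664
import Groth.Agent.L19.SplitExt.Unique

set_option autoImplicit false
set_option backward.isDefEq.respectTransparency.types false
set_option backward.isDefEq.respectTransparency false
set_option linter.style.haveILetI false
universe u
open CategoryTheory CategoryTheory.Limits AlgebraicGeometry
open Ribbon

namespace Groth.Agent.S17664

/-- Let D be a reduced connected scheme of finite type over a field k. Let C and C' be two split ribbons
on D with isomorphic conormal bundles: k-schemes with quasi-coherent ideals I ⊂ O_C, I' ⊂ O_{C'} of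
square zero, k-isomorphisms φ : V(I) ≅ D, φ' : V(I') ≅ D, retractions C → V(I), C' → V(I') over k,
with I and I' invertible when regarded as O_D-modules and an isomorphism θ between them. Then C and
C' are isomorphic over D: there is an isomorphism ψ : C ≅ C' with (V(I) → C → C') = (V(I) ≅ D ≅
V(I') → C'). -/
theorem result (k : Type u) [Field k] (D : Scheme.{u}) [D.Over (Spec (CommRingCat.of k))]
    [LocallyOfFiniteType (D ↘ (Spec (CommRingCat.of k)))] [QuasiCompact (D ↘ (Spec (CommRingCat.of k)))]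
    [AlgebraicGeometry.IsReduced D] [ConnectedSpace D]
    (C : Scheme.{u}) (sC : C ⟶ (Spec (CommRingCat.of k))) (I : C.IdealSheafData) (hI : I ^ 2 = ⊥)
    (φ : I.subscheme ≅ D) (hφ : φ.hom ≫ (D ↘ (Spec (CommRingCat.of k))) = I.subschemeι ≫ sC)
    (r : C ⟶ I.subscheme) (hr : I.subschemeι ≫ r = 𝟙 I.subscheme) (hrk : r ≫ I.subschemeι ≫ sC = sC)
    (C' : Scheme.{u}) (sC' : C' ⟶ (Spec (CommRingCat.of k))) (I' : C'.IdealSheafData) (hI' : I' ^ 2 = ⊥)
    (φ' : I'.subscheme ≅ D) (hφ' : φ'.hom ≫ (D ↘ (Spec (CommRingCat.of k))) = I'.subschemeι ≫ sC')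
    (r' : C' ⟶ I'.subscheme) (hr' : I'.subschemeι ≫ r' = 𝟙 I'.subscheme) (hrk' : r' ≫ I'.subschemeι ≫ sC' = sC')
    (h𝓛 : PicF.IsInvertible ((Scheme.Modules.pullback (φ.inv ≫ I.subschemeι)).obj (ClSub.idealMod I)))
    (h𝓛' : PicF.IsInvertible ((Scheme.Modules.pullback (φ'.inv ≫ I'.subschemeι)).obj (ClSub.idealMod I')))
    (θ : (Scheme.Modules.pullback (φ.inv ≫ I.subschemeι)).obj (ClSub.idealMod I) ≅
      (Scheme.Modules.pullback (φ'.inv ≫ I'.subschemeι)).obj (ClSub.idealMod I')) :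
    ∃ ψ : C ≅ C', I.subschemeι ≫ ψ.hom = φ.hom ≫ φ'.inv ≫ I'.subschemeι ∧ ψ.hom ≫ sC' = sC := by
  have e1 : (φ.inv ≫ I.subschemeι) ≫ r ≫ φ.hom = 𝟙 D := by
    rw [Category.assoc, ← Category.assoc I.subschemeι, hr, Category.id_comp, Iso.inv_hom_id]
  have e2 : (φ'.inv ≫ I'.subschemeι) ≫ r' ≫ φ'.hom = 𝟙 D := by
    rw [Category.assoc, ← Category.assoc I'.subschemeι, hr', Category.id_comp, Iso.inv_hom_id]
  let T : Groth.L19.SplitExt.Unique.Thick D := ⟨C, I, hI, φ.inv, r ≫ φ.hom, e1⟩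
  let T' : Groth.L19.SplitExt.Unique.Thick D := ⟨C', I', hI', φ'.inv, r' ≫ φ'.hom, e2⟩
  obtain ⟨ψ, h1, h2⟩ := T.exists_iso T' θ
  have h1' : (φ.inv ≫ I.subschemeι) ≫ ψ.hom = φ'.inv ≫ I'.subschemeι := h1
  have h2' : ψ.hom ≫ r' ≫ φ'.hom = r ≫ φ.hom := h2
  refine ⟨ψ, ?_, ?_⟩
  · rw [← cancel_epi φ.inv, ← Category.assoc, h1', ← Category.assoc φ.inv, Iso.inv_hom_id,
      Category.id_comp]
  · have h := congrArg (· ≫ D ↘ Spec (CommRingCat.of k)) h2'
    simp only [Category.assoc] at h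
    rw [hφ, hφ', hrk, hrk'] at h
    exact h

end Groth.Agent.S17664
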