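import Groth.Statements.S17667
import Groth.Agent.L12.LineLift.IdealKer
import Groth.Agent.L22.CurveDeg.Devissage
import Groth.Agent.L22.Reg.Chi
import Groth.Agent.L16.Rees.ClosedFibre
import Groth.Agent.L03.Euler.Basic
import Groth.Agent.L03.Euler.Push
import Groth.Agent.L02.PicH1.Thick
import Groth.Agent.L26.AV.InterPic
import Groth.Agent.L20.PnPic.Main
import Groth.Agent.L13.PairBlow.PnTwist
import Groth.Agent.L16.ProjSpace.Sections
-- import your own Groth.Agent.* helpers here

set_option autoImplicit false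
universe u
open CategoryTheory CategoryTheory.Limits AlgebraicGeometry
open Ribbon

namespace Groth.Agent.S17667

/-- Let C be a ribbon of arithmetic genus g on the projective line over a field k — a proper k-scheme
with a quasi-coherent ideal I ⊂ O_C, I² = 0, whose closed subscheme D is k-isomorphic to P^1 and
such that I, as an O_D-module, is isomorphic to O_{P^1}(-g-1) — and take the group law on Pic C
given by the tensor product. Then H^1(C, I) = H^1(P^1, O(-g-1)) is a k-vector space of dimension g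
and Pic C ≅ H^1(C, I) × ℤ as abelian groups, by an isomorphism whose ℤ-component on the class of an
invertible O_C-module L is the degree χ(L|_D) - χ(O_D) of the restriction of L to D. (Existence of
such an isomorphism; the source derives it from the units sequence 0 → I → O_C^× → O_D^× → 1. Stated
over an arbitrary field.) -/
theorem result (k : Type u) [Field k] (C : Scheme.{u}) [C.Over (Spec (CommRingCat.of k))]
    [IsProper (C ↘ (Spec (CommRingCat.of k)))]
    (I : C.IdealSheafData) (hI : I ^ 2 = ⊥)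
    (e : I.subscheme ≅ CohB1.ProjSpace 1 k)
    (he : e.hom ≫ CohB1.ProjSpace.toSpec 1 k = I.subschemeι ≫ (C ↘ (Spec (CommRingCat.of k))))
    (g : ℕ)
    (hconormal : Nonempty ((Scheme.Modules.pullback I.subschemeι).obj (ClSub.idealMod I) ≅
      (Scheme.Modules.pullback e.hom).obj (Twist.twistProjSpace 1 k (-((g : ℤ) + 1)))))
    [PicGrp.Law C] :
    Module.finrank k (Coh.HH C (ClSub.idealMod I) 1) = g ∧
    ∃ φ : Additive (PicLoc.PicSet C) ≃+ Coh.HH C (ClSub.idealMod I) 1 × ℤ,
      ∀ (L : C.Modules) (hL : PicF.IsInvertible L),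
        (φ (Additive.ofMul (PicGrp.cls L hL))).2 =
          @Curv2.deg k _ I.subscheme ⟨I.subschemeι ≫ (C ↘ (Spec (CommRingCat.of k)))⟩
            ((Scheme.Modules.pullback I.subschemeι).obj L) 1 := by
  haveI := Groth.L21.RR.isNoetherian_of_proper (X := C) k
  letI : (CohB1.ProjSpace 1 k).Over (Spec (CommRingCat.of k)) := ⟨CohB1.ProjSpace.toSpec 1 k⟩
  haveI : IsProper ((CohB1.ProjSpace 1 k) ↘ Spec (CommRingCat.of k)) := Groth.L16.ProjSpace.isProper_toSpec 1 k
  let ι := I.subschemeι
  letI : I.subscheme.Over (Spec (CommRingCat.of k)) := ⟨ι ≫ (C ↘ Spec (CommRingCat.of k))⟩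
  haveI : IsProper (I.subscheme ↘ Spec (CommRingCat.of k)) :=
    inferInstanceAs (IsProper (ι ≫ (C ↘ Spec (CommRingCat.of k))))
  haveI : C.IsSeparated :=
    ⟨by rw [← Limits.terminal.comp_from (C ↘ Spec (CommRingCat.of k))]; infer_instance⟩
  haveI : (CohB1.ProjSpace 1 k).IsSeparated :=
    ⟨by rw [← Limits.terminal.comp_from ((CohB1.ProjSpace 1 k) ↘ Spec (CommRingCat.of k))]; infer_instance⟩
  haveI := Groth.L21.RR.isNoetherian_of_proper (X := I.subscheme) k
  have hflf : ∀ {Z : Scheme.{u}} {M : Z.Modules}, PicF.IsInvertible M → FlatMod.IsFinLocFree M :=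
    fun h => Groth.L16.Existence.isFinLocFree_of_isInvertible h
  -- Euler characteristics on the reduced line
  have hline : ∀ (M : I.subscheme.Modules) (d : ℤ),
      Nonempty (M ≅ (Scheme.Modules.pullback e.hom).obj (Twist.twistProjSpace 1 k d)) →
      Curv2.euler k I.subscheme M = d + 1 := by
    rintro M d ⟨θ⟩
    obtain ⟨ω⟩ := Groth.L16.Rees.ClosedFibre.nonempty_push_structure e.hom
    have h := Groth.L22.CurveDeg.euler_tensor_push k e.hom he
      (hflf (Groth.L16.ProjTwist.isInvertible_twistProjSpace 1 k d)) (Coh.structureModule I.subscheme)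
      (Groth.L19.Conormal.isQCoh_structureModule _)
    rw [Groth.L03.Euler.euler_iso (Groth.L00.Tensor.tensorIso (Iso.refl _) ω.symm ≪≫ Groth.L00.Tensor.tensorUnitRight _),
      Groth.L03.Euler.euler_iso (Groth.L00.Tensor.tensorUnitRight ((Scheme.Modules.pullback e.hom).obj (Twist.twistProjSpace 1 k d)))] at h
    rw [Groth.L03.Euler.euler_iso θ, ← h]
    refine (Groth.L22.Reg.euler_O (k := k) (n := 1) one_pos d).trans ?_
    simp
  haveI := Groth.L17.KilledUnit.isIso_of_killed ι (ClSub.idealMod I) (Groth.L12.LineLift.killed_idealMod I hI)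
  let P := (Scheme.Modules.pullback ι).obj (ClSub.idealMod I)
  have hP : Coh.IsQCoh P :=
    Groth.L17.KilledUnit.isQCoh_pullback_of_killed ι (ClSub.idealMod I) (Groth.L12.LineLift.killed_idealMod I hI)
  -- cohomology of the conormal twist on the line
  have hvan : ∀ q, q ≠ 1 → Subsingleton (Coh.HH C (ClSub.idealMod I) q) := fun q hq => by
    refine Groth.L12.LineLift.subsingleton_HH_idealMod I hI q ?_
    obtain ⟨θ⟩ := hconormal
    haveI := Groth.L16.ProjSpace.subsingleton_HH_twist 1 k (-((g : ℤ) + 1)) q (by omega) (by omega)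
    have hT := Groth.L16.ProjTwist.isInvertible_twistProjSpace 1 k (-((g : ℤ) + 1))
    haveI : Coh.IsQCoh (Twist.twistProjSpace 1 k (-((g : ℤ) + 1))) :=
      (Groth.L16.ProperFinite.isCoh_of_isInvertible hT).1
    haveI := Groth.L17.KilledUnit.isIso_of_killed e.hom (Twist.twistProjSpace 1 k (-((g : ℤ) + 1)))
      (fun U a ha m => by
        have h0 : a = 0 := by
          rw [e.hom.ker_apply, RingHom.mem_ker] at ha
          exact (ConcreteCategory.bijective_of_isIso (e.hom.app U.1)).1 (ha.trans (map_zero _).symm)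
        rw [h0]; exact zero_smul _ m)
    obtain ⟨φ⟩ := Groth.L17.nonempty_HH_push_of_isClosedImmersion e.hom
      ((Scheme.Modules.pullback e.hom).obj (Twist.twistProjSpace 1 k (-((g : ℤ) + 1)))) q
    haveI : Subsingleton (Coh.HH I.subscheme ((Scheme.Modules.pullback e.hom).obj (Twist.twistProjSpace 1 k (-((g : ℤ) + 1)))) q) :=
      ((Groth.L17.BC.HHequiv (asIso ((Scheme.Modules.pullbackPushforwardAdjunction e.hom).unit.app
        (Twist.twistProjSpace 1 k (-((g : ℤ) + 1))))) q).toAddEquiv.trans φ.symm).symm.toEquiv.subsingleton (β := Coh.HH (CohB1.ProjSpace 1 k) (Twist.twistProjSpace 1 k (-((g : ℤ) + 1))) q)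
    exact (Groth.L17.BC.HHequiv θ q).toAddEquiv.toEquiv.subsingleton
  refine ⟨?_, ?_⟩
  · have h2 : Curv2.euler k C (ClSub.idealMod I) = -((g : ℤ) + 1) + 1 :=
      ((Groth.L03.Euler.euler_iso (asIso ((Scheme.Modules.pullbackPushforwardAdjunction ι).unit.app (ClSub.idealMod I)))).trans
        (Groth.L03.Euler.euler_push ι P hP rfl)).trans (hline P _ hconormal)
    rw [Groth.L03.Euler.euler_eq_sum (k := k) (N := 2) (fun n hn => hvan n (by omega)), Finset.sum_range_succ,
      Finset.sum_range_one] at h2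
    haveI := hvan 0 zero_ne_one
    rw [Module.finrank_zero_of_subsingleton] at h2
    simp only [pow_zero, pow_one, Nat.cast_zero, mul_zero, neg_mul, one_mul, zero_add] at h2
    omega
  · letI : PicGrp.Law I.subscheme := Groth.Agent.AV.InterPic.picLaw _
    let β := PicGrp.pullHom ι (Groth.Agent.AV.InterPic.pullMul ι)
    obtain ⟨ε, δ₀, α, δ₁, -, -, hδ₀, hα, hβker, hδ₁⟩ :=
      Groth.L02.PicH1.exists_units_sequence (X := C) I (by rw [← pow_two]; exact hI) (Groth.Agent.AV.InterPic.pullMul ι)
    haveI := hvan 2 (by omega)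
    have hsurj : ∀ q, ∃ p, β p = q := fun q => by
      have hq : q ∈ δ₁.ker := Subsingleton.elim (α := Coh.HH C (ClSub.idealMod I) 2) _ _
      rwa [hδ₁] at hq
    have hinj : Function.Injective α := by
      rw [← MonoidHom.ker_eq_bot_iff, hα, MonoidHom.range_eq_bot_iff]
      refine MonoidHom.ext fun v => MonoidHom.mem_ker.1 ?_
      rw [hδ₀]
      -- global units of the line are constants
      have hfac : ∀ c : k, ι.appTop (Coh.toGlobal (C ↘ Spec (CommRingCat.of k)) c) =
          e.hom.appTop (Coh.toGlobal (CohB1.ProjSpace.toSpec 1 k) c) := fun c => by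
        show ((C ↘ Spec (CommRingCat.of k)).appTop ≫ ι.appTop) _ = ((CohB1.ProjSpace.toSpec 1 k).appTop ≫ e.hom.appTop) _
        rw [← Scheme.Hom.comp_appTop, ← Scheme.Hom.comp_appTop, he]
      haveI : IsIso e.hom.appTop := inferInstanceAs (IsIso (e.hom.app ⊤))
      obtain ⟨y, hy⟩ := (ConcreteCategory.bijective_of_isIso e.hom.appTop).2 (v : Γ(I.subscheme, ⊤))
      obtain ⟨c, rfl⟩ := (Groth.L16.ProjSpace.toGlobal_bijective (n := 1) (R := k)).2 y
      rw [← hfac] at hy
      by_cases hc : c = 0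
      · subst hc
        have h0 : (v : Γ(I.subscheme, ⊤)) = 0 :=
          hy.symm.trans ((congrArg ι.appTop.hom (map_zero _)).trans (map_zero ι.appTop.hom))
        haveI : Subsingleton Γ(I.subscheme, ⊤) := subsingleton_of_zero_eq_one (by
          have h1 := v.mul_inv; rw [h0, zero_mul] at h1; exact h1)
        exact ⟨1, Subsingleton.elim _ _⟩
      · exact ⟨Units.map (Coh.toGlobal (C ↘ Spec (CommRingCat.of k))).toMonoidHom (Units.mk0 c hc), Units.ext hy⟩
    -- degree on the line
    let deg' : PicLoc.PicSet I.subscheme → ℤ := fun q => Curv2.deg k I.subscheme (Groth.Agent.AV.InterPic.rep q) 1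
    have hrep : ∀ (M : I.subscheme.Modules) (hM : PicF.IsInvertible M), deg' (PicGrp.cls M hM) = Curv2.deg k I.subscheme M 1 := by
      intro M hM
      obtain ⟨φ⟩ := (PicGrp.cl_eq_cl_iff _ _).1 (Groth.Agent.AV.InterPic.cl_rep (PicGrp.cls M hM))
      show Curv2.euler k I.subscheme _ - _ = _
      rw [Groth.L03.Euler.euler_iso φ]
      rfl
    have hdeg : ∀ (M : I.subscheme.Modules) (d : ℤ),
        Nonempty (M ≅ (Scheme.Modules.pullback e.hom).obj (Twist.twistProjSpace 1 k d)) → Curv2.deg k I.subscheme M 1 = d := by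
      intro M d h
      obtain ⟨z⟩ := Groth.L13.PnTwist.twist_zero (k := k)
      show Curv2.euler k I.subscheme M - ((1 : ℕ) : ℤ) * Curv2.euler k I.subscheme (Coh.structureModule I.subscheme) = d
      rw [hline M d h, hline (Coh.structureModule I.subscheme) 0
        ⟨(Groth.L29.LocFree.pullbackUnitIso e.hom).symm ≪≫ (Scheme.Modules.pullback e.hom).mapIso z.symm⟩]
      ring
    have hcls : ∀ q : PicLoc.PicSet I.subscheme, ∃ d : ℤ, q = PicGrp.cls _ (Groth.L18.Ample.isInvertible_pullback e.hom
        (Groth.L16.ProjTwist.isInvertible_twistProjSpace 1 k d)) := by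
      intro q
      obtain ⟨M, hM, rfl⟩ := PicGrp.exists_eq_cls q
      obtain ⟨d, ⟨φ⟩⟩ := Groth.L20.PnPic.exists_iso_twist (n := 1) (R := k) ((Scheme.Modules.pullback e.inv).obj M)
        (Groth.L18.Ample.isInvertible_pullback e.inv hM)
      refine ⟨d, (PicGrp.cls_eq_cls_iff hM _).2 ⟨?_⟩⟩
      exact (Scheme.Modules.pullbackId _).symm.app M ≪≫ (Scheme.Modules.pullbackCongr e.hom_inv_id.symm).app M ≪≫
        (Scheme.Modules.pullbackComp e.hom e.inv).symm.app M ≪≫ (Scheme.Modules.pullback e.hom).mapIso φ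
    have hmul : ∀ q q', deg' (q * q') = deg' q + deg' q' := by
      intro q q'
      obtain ⟨d, rfl⟩ := hcls q
      obtain ⟨d', rfl⟩ := hcls q'
      have hT := Groth.L18.Ample.isInvertible_pullback e.hom (Groth.L16.ProjTwist.isInvertible_twistProjSpace 1 k (d + d'))
      obtain ⟨c⟩ := Groth.L13.PnTwist.twist_add (k := k) d d'
      have h : PicGrp.cls _ (Groth.L18.Ample.isInvertible_pullback e.hom (Groth.L16.ProjTwist.isInvertible_twistProjSpace 1 k d)) *
          PicGrp.cls _ (Groth.L18.Ample.isInvertible_pullback e.hom (Groth.L16.ProjTwist.isInvertible_twistProjSpace 1 k d')) =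
          PicGrp.cls _ hT := by
        apply Subtype.ext
        rw [PicGrp.cls_mul_cls_val]
        exact (PicGrp.cl_eq_cl_iff _ _).2 ⟨Groth.L29.DC.PullTensor.pullTensor e.hom _ _ ≪≫
          (Scheme.Modules.pullback e.hom).mapIso c⟩
      rw [h, hrep, hrep, hrep, hdeg _ _ ⟨Iso.refl _⟩, hdeg _ _ ⟨Iso.refl _⟩, hdeg _ _ ⟨Iso.refl _⟩]
    let ψ : Additive (PicLoc.PicSet C) →+ ℤ := AddMonoidHom.mk' (fun p => deg' (β p.toMul))
      (fun p p' => by rw [toMul_add, map_mul, hmul])
    obtain ⟨a, ha⟩ : ∃ a, ψ a = 1 := by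
      obtain ⟨p, hp⟩ := hsurj (PicGrp.cls _ (Groth.L18.Ample.isInvertible_pullback e.hom
        (Groth.L16.ProjTwist.isInvertible_twistProjSpace 1 k 1)))
      exact ⟨Additive.ofMul p, by
        show deg' (β p) = 1
        rw [hp, hrep, hdeg _ _ ⟨Iso.refl _⟩]⟩
    let αA : Coh.HH C (ClSub.idealMod I) 1 →+ Additive (PicLoc.PicSet C) := MonoidHom.toAdditiveRight α
    have hψα : ∀ h, ψ (αA h) = 0 := fun h => by
      have h1 : β (α (Multiplicative.ofAdd h)) = 1 := MonoidHom.mem_ker.1 (by rw [hβker]; exact ⟨_, rfl⟩)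
      have h2 := hmul 1 1
      rw [one_mul] at h2
      show deg' (β (α (Multiplicative.ofAdd h))) = 0
      rw [h1]
      omega
    have hzero : ∀ p, ψ p = 0 → ∃ h, αA h = p := fun p hp => by
      obtain ⟨d, hd⟩ := hcls (β p.toMul)
      have hd0 : d = 0 := by
        have : deg' (β p.toMul) = 0 := hp
        rwa [hd, hrep, hdeg _ _ ⟨Iso.refl _⟩] at this
      subst hd0
      obtain ⟨z⟩ := Groth.L13.PnTwist.twist_zero (k := k)
      have h1 : β p.toMul = 1 := hd.trans ((PicGrp.cls_eq_one_iff _).2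
        ⟨(Scheme.Modules.pullback e.hom).mapIso z ≪≫ Groth.L29.LocFree.pullbackUnitIso e.hom⟩)
      have h2 : p.toMul ∈ α.range := by rw [← hβker]; exact MonoidHom.mem_ker.2 h1
      obtain ⟨x, hx⟩ := h2
      exact ⟨x.toAdd, congrArg Additive.ofMul hx⟩
    let f : Coh.HH C (ClSub.idealMod I) 1 × ℤ →+ Additive (PicLoc.PicSet C) := αA.coprod (zmultiplesHom _ a)
    have hψf : ∀ x, ψ (f x) = x.2 := fun x => by
      show ψ (αA x.1 + x.2 • a) = x.2
      rw [map_add, hψα, map_zsmul, ha, zero_add, smul_eq_mul, mul_one]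
    have hf : Function.Bijective f := by
      refine ⟨(injective_iff_map_eq_zero f).2 fun x hx => ?_, fun p => ?_⟩
      · have h2 : x.2 = 0 := by rw [← hψf x, hx, map_zero]
        have h1 : α (Multiplicative.ofAdd x.1) = 1 := by
          have : αA x.1 + x.2 • a = 0 := hx
          rw [h2, zero_smul, add_zero] at this
          exact congrArg Additive.toMul this
        exact Prod.ext (congrArg Multiplicative.toAdd (hinj (h1.trans (map_one α).symm))) h2
      · obtain ⟨h, hh⟩ := hzero (p - ψ p • a) (by rw [map_sub, map_zsmul, ha, smul_eq_mul, mul_one, sub_self])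
        exact ⟨(h, ψ p), by show αA h + ψ p • a = p; rw [hh, sub_add_cancel]⟩
    refine ⟨(AddEquiv.ofBijective f hf).symm, fun L hL => ?_⟩
    have h1 : ψ (Additive.ofMul (PicGrp.cls L hL)) = ((AddEquiv.ofBijective f hf).symm (Additive.ofMul (PicGrp.cls L hL))).2 := by
      rw [← hψf]
      exact congrArg ψ ((AddEquiv.ofBijective f hf).apply_symm_apply _).symm
    rw [← h1]
    show deg' (β (PicGrp.cls L hL)) = _
    rw [show β (PicGrp.cls L hL) = PicGrp.cls _ (PicLoc.isInvertible_pullback ι hL) from Subtype.ext rfl, hrep]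


end Groth.Agent.S17667
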