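import Groth.Statements.S17669
import Groth.Agent.L22.Ribbon.Dual
import Groth.Agent.L21.CurveDual.Trace
-- import your own Groth.Agent.* helpers here

set_option autoImplicit false
universe u
open CategoryTheory CategoryTheory.Limits AlgebraicGeometry
attribute [local instance] HasDerivedCategory.standard
open Ribbon

namespace Groth.Agent.S17669

/-- Let C be a hyperelliptic, i.e. split, ribbon of arithmetic genus g ≥ 2 on the projective line over a
field k — a proper k-scheme with a quasi-coherent ideal I ⊂ O_C, I² = 0, whose closed subscheme D is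
k-isomorphic to P^1, with I as an O_D-module isomorphic to O_{P^1}(-g-1), together with a retraction
r : C → D over k of the inclusion — and let ω_C be its dualizing module (the cohomology sheaf in
degree -1 of f^! O for f : C → Spec k, existence of Rf_* on D_QCoh and of its right adjoint carried
as hypotheses), assumed invertible. Then ω_C ≅ r^* O_{P^1}(g-1): the canonical map of C is the
two-to-one projection r followed by the embedding of P^1 in P^{g-1} as the degree-(g-1) rational
normal curve. (Existence of an isomorphism; the source's statement is about the canonical morphism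
itself. Invertibility of ω_C is asserted in the source without proof and carried here as a
hypothesis.) (Stated over an arbitrary field k; the published setting is an algebraically closed
field; the argument uses only χ(O_{P^1}(m)) = m+1, duality and Pic P^1 = ℤ by degree.) -/
theorem result (k : Type u) [Field k] (C : Scheme.{u}) [C.Over (Spec (CommRingCat.of k))]
    [IsProper (C ↘ (Spec (CommRingCat.of k)))]
    (I : C.IdealSheafData) (hI : I ^ 2 = ⊥)
    (e : I.subscheme ≅ CohB1.ProjSpace 1 k)
    (he : e.hom ≫ CohB1.ProjSpace.toSpec 1 k = I.subschemeι ≫ (C ↘ (Spec (CommRingCat.of k))))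
    (g : ℕ) (hg : 2 ≤ g)
    (hconormal : Nonempty ((Scheme.Modules.pullback I.subschemeι).obj (ClSub.idealMod I) ≅
      (Scheme.Modules.pullback e.hom).obj (Twist.twistProjSpace 1 k (-((g : ℤ) + 1)))))
    (r : C ⟶ I.subscheme) (hr : I.subschemeι ≫ r = 𝟙 I.subscheme)
    (hrk : r ≫ I.subschemeι ≫ (C ↘ (Spec (CommRingCat.of k))) = C ↘ (Spec (CommRingCat.of k)))
    [DCoh.HasRpush (C ↘ (Spec (CommRingCat.of k)))] (h : DCoh.RpushPreservesQCoh (C ↘ (Spec (CommRingCat.of k))))
    [DCoh.HasShriek (C ↘ (Spec (CommRingCat.of k))) h]
    (OY : DCoh.DQCoh (Spec (CommRingCat.of k)))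
    (hOY : Nonempty (OY.obj ≅ DCoh.inD (Spec (CommRingCat.of k)) (Coh.structureModule (Spec (CommRingCat.of k)))))
    (hω : PicF.IsInvertible (DCoh.dualizingMod (C ↘ (Spec (CommRingCat.of k))) h OY 1)) :
    Nonempty (DCoh.dualizingMod (C ↘ (Spec (CommRingCat.of k))) h OY 1 ≅
      (Scheme.Modules.pullback (r ≫ e.hom)).obj (Twist.twistProjSpace 1 k ((g : ℤ) - 1))) := by
  obtain ⟨t, ht⟩ := Groth.L21.CurveDual.exists_isRDual k (Groth.L22.Ribbon.dim_le I hI e) h OY hOY
  exact Groth.L22.Ribbon.iso_pullback_dualizing I hI e he hconormal hω ht r hr hrk hg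


end Groth.Agent.S17669
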