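import Groth.Statements.S17677

set_option autoImplicit false
universe u
open Hoch

namespace Groth.Agent.S17677

/-- Let k be a commutative ring, M a commutative monoid and V a right comodule over the monoid bialgebra
k[M] (a quasi-coherent module with an action of the diagonalizable monoid scheme Spec k[M]). Then
every 1-cocycle of the Hochschild complex of V is a 1-coboundary, i.e. the first Hochschild
cohomology module of the diagonalizable monoid with coefficients in V is zero. (The source works
over an algebraic space with M finitely generated and cancellative, hypotheses it uses only to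
identify modules under the monoid with comodules; the cocycle computation, which is the affine
statement given here, uses neither.) -/
theorem result (k : Type u) [CommRing k] (M : Type u)
    [AddCommMonoid M] (V : Type u) [AddCommGroup V] [Module k V]
    [HopfRep.Comod k (AddMonoidAlgebra k M) V] :
    Hoch.cocycles k (AddMonoidAlgebra k M) V 1 ≤ Hoch.coboundaries k (AddMonoidAlgebra k M) V 1 := by
  intro c hc
  let A := AddMonoidAlgebra k M
  let f : A →ₗ[k] k := (Finsupp.lapply 0).comp (AddMonoidAlgebra.coeffLinearEquiv k).toLinearMap
  let ψ : TensorProduct k V A →ₗ[k] V := (TensorProduct.rid k V).toLinearMap ∘ₗ f.lTensor V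
  let φ : TensorProduct k (TensorProduct k V A) A →ₗ[k] TensorProduct k V A :=
    (TensorProduct.rid k _).toLinearMap ∘ₗ f.lTensor _
  have f1 : f 1 = 1 := by
    show (1 : A).coeff 0 = 1
    rw [AddMonoidAlgebra.one_def, AddMonoidAlgebra.coeff_single, Finsupp.single_eq_same]
  have key : ∀ z : TensorProduct k V A,
      φ (Hoch.d k A V 1 z) = Hoch.d k A V 0 (ψ z) + z := by
    intro z
    induction z using TensorProduct.induction_on with
    | zero => simp
    | add x y hx hy => simp only [map_add, hx, hy]; abel
    | tmul v a =>
      induction a using AddMonoidAlgebra.induction_linear with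
      | zero => simp
      | add x y hx hy => simp only [TensorProduct.tmul_add, map_add, hx, hy]; abel
      | single m r =>
        have hd : Hoch.d k A V 1 = (Hoch.d k A V 0).rTensor A + ((-1 : k) ^ 1) • Hoch.tail k A V := rfl
        have hf : f (AddMonoidAlgebra.single m r) = Finsupp.single m r 0 := rfl
        have hcom : Coalgebra.comul (R := k) (AddMonoidAlgebra.single m r : A) =
            AddMonoidAlgebra.single m r ⊗ₜ[k] AddMonoidAlgebra.single m (1 : k) := by
          show Coalgebra.comul (R := k) (AddMonoidAlgebra.single m r : AddMonoidAlgebra k M) = _
          rw [AddMonoidAlgebra.comul_single]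
          simp only [CommSemiring.comul_apply, TensorProduct.map_tmul, AddMonoidAlgebra.lsingle_apply]
          rw [show (AddMonoidAlgebra.single m r : AddMonoidAlgebra k M) = r • AddMonoidAlgebra.single m 1 by simp,
            TensorProduct.smul_tmul]
        rw [hd]
        simp only [LinearMap.add_apply, LinearMap.smul_apply, LinearMap.rTensor_tmul, map_add, map_smul, pow_one,
          Hoch.tail_tmul, TensorProduct.tmul_sub, map_sub, hcom, TensorProduct.assoc_symm_tmul]
        have hf1 : f (AddMonoidAlgebra.single m (1 : k)) = Finsupp.single m (1 : k) 0 := rfl
        simp only [φ, ψ, LinearMap.comp_apply, LinearEquiv.coe_coe, LinearMap.lTensor_tmul, TensorProduct.rid_tmul,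
          f1, hf, hf1, one_smul, map_smul]
        by_cases hm : m = 0
        · subst hm
          have h1 : (AddMonoidAlgebra.single (0 : M) r : A) = r • 1 := by
            rw [AddMonoidAlgebra.one_def, AddMonoidAlgebra.smul_single', mul_one]
          simp [Finsupp.single_eq_same, h1, AddMonoidAlgebra.one_def.symm, TensorProduct.tmul_smul, sub_eq_add_neg]
        · simp [Finsupp.single_eq_of_ne' hm, AddMonoidAlgebra.one_def.symm]
  refine ⟨-(ψ c), ?_⟩
  have h := key c
  rw [show Hoch.d k A V 1 c = 0 from hc, map_zero] at h
  rw [map_neg]
  exact neg_eq_of_add_eq_zero_right h.symm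

end Groth.Agent.S17677
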