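import Groth.Statements.S17679
import Mathlib.LinearAlgebra.Dimension.Constructions
import Mathlib.LinearAlgebra.Dimension.StrongRankCondition
import Mathlib.RingTheory.Noetherian.Basic
import Mathlib.Algebra.BigOperators.Pi
import Mathlib.LinearAlgebra.FreeModule.Finite.Basic
import Mathlib.RingTheory.PrincipalIdealDomain
import Mathlib.LinearAlgebra.InvariantBasisNumber
import Mathlib.RingTheory.OrzechProperty
import Mathlib.LinearAlgebra.Dimension.Finite
import Mathlib.LinearAlgebra.FreeModule.StrongRankCondition

set_option autoImplicit false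
open DiagMon

namespace Groth.Agent.S17679

/-- For n ≥ 1 the minimal number of generators of ℤ^n as an additive monoid is n + 1: some n + 1
elements generate ℤ^n as a monoid, and every finite set generating ℤ^n as a monoid has at least n +
1 elements. (For n = 0 the empty set generates the zero monoid, so the count n + 1 is stated for n ≥
1 only.) -/
theorem result (n : ℕ) (hn : 1 ≤ n) :
    (∃ s : Finset (Fin n → ℤ), s.card = n + 1 ∧ AddSubmonoid.closure (s : Set (Fin n → ℤ)) = ⊤) ∧
    ∀ s : Finset (Fin n → ℤ), AddSubmonoid.closure (s : Set (Fin n → ℤ)) = ⊤ → n + 1 ≤ s.card := by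
  classical
  constructor
  · let neg : Fin n → ℤ := fun _ => -1
    let f : Fin n → (Fin n → ℤ) := fun i => Pi.single i 1
    have hfinj : Function.Injective f := fun i j h => by
      by_contra hne
      have := congrFun h i
      simp [f, hne] at this
    have hnot : neg ∉ Finset.univ.image f := by
      simp only [Finset.mem_image, Finset.mem_univ, true_and, not_exists]
      intro i h
      have := congrFun h i
      simp [f, neg] at this
    refine ⟨insert neg (Finset.univ.image f), by rw [Finset.card_insert_of_notMem hnot, Finset.card_image_of_injective _ hfinj, Finset.card_univ, Fintype.card_fin], ?_⟩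
    refine eq_top_iff.mpr fun v _ => ?_
    let M : ℕ := ∑ i, (v i).natAbs
    have hM : ∀ i, 0 ≤ v i + M := fun i => by
      have : (v i).natAbs ≤ M := Finset.single_le_sum (f := fun i => (v i).natAbs) (fun _ _ => Nat.zero_le _) (Finset.mem_univ i)
      omega
    have e : v = (∑ i, (v i + M).toNat • f i) + M • neg := by
      funext j
      simp only [Pi.add_apply, Finset.sum_apply, Pi.smul_apply, nsmul_eq_mul, Pi.mul_apply, Pi.natCast_apply, f, neg, Pi.single_apply, mul_ite, mul_one, mul_zero,
        Finset.sum_ite_eq, Finset.mem_univ, if_true]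
      have := hM j
      rw [Int.toNat_of_nonneg this]
      ring
    rw [e]
    refine add_mem (sum_mem fun i _ => nsmul_mem (AddSubmonoid.subset_closure ?_) _) (nsmul_mem (AddSubmonoid.subset_closure ?_) _) <;> simp
  · intro s hs
    let L : ({x // x ∈ s} → ℤ) →ₗ[ℤ] (Fin n → ℤ) := Fintype.linearCombination ℤ (fun x : {x // x ∈ s} => (x : Fin n → ℤ))
    let N : AddSubmonoid (Fin n → ℤ) :=
      { carrier := {v | ∃ c, (∀ x, 0 ≤ c x) ∧ L c = v}
        zero_mem' := ⟨0, fun _ => le_rfl, map_zero L⟩
        add_mem' := fun {a b} ⟨c, hc, ha⟩ ⟨d, hd, hb⟩ => ⟨c + d, fun x => add_nonneg (hc x) (hd x), by rw [map_add, ha, hb]⟩ }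
    have hle : AddSubmonoid.closure (s : Set (Fin n → ℤ)) ≤ N := by
      rw [AddSubmonoid.closure_le]
      intro x hx
      refine ⟨Pi.single ⟨x, hx⟩ 1, fun y => ?_, ?_⟩
      · by_cases h : y = (⟨x, hx⟩ : {x // x ∈ s}) <;> simp [Pi.single_apply, h]
      · simp [L, Fintype.linearCombination_apply_single]
    have hsurj : Function.Surjective L := fun v => by
      obtain ⟨c, -, hc⟩ := hle (hs ▸ AddSubmonoid.mem_top v)
      exact ⟨c, hc⟩
    have hr := L.finrank_range_le
    rw [LinearMap.range_eq_top.mpr hsurj, finrank_top, Module.finrank_pi, Module.finrank_pi, Fintype.card_fin, Fintype.card_coe] at hr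
    by_contra hlt
    have hc : s.card = n := by omega
    let e : ({x // x ∈ s} → ℤ) ≃ₗ[ℤ] (Fin n → ℤ) := LinearEquiv.funCongrLeft ℤ ℤ ((Fintype.equivFinOfCardEq (by rw [Fintype.card_coe, hc])).symm)
    have hinj : Function.Injective L := by
      have h1 := OrzechProperty.injective_of_surjective_endomorphism (e.symm.toLinearMap.comp L)
        (e.symm.surjective.comp hsurj)
      exact Function.Injective.of_comp (f := e.symm) h1
    obtain ⟨x, hx⟩ : s.Nonempty := Finset.card_pos.mp (by omega)
    obtain ⟨c, hc0, hc⟩ := hle (hs ▸ AddSubmonoid.mem_top (-x))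
    have h2 : c = -Pi.single ⟨x, hx⟩ 1 := hinj (by rw [hc, map_neg]; simp [L, Fintype.linearCombination_apply_single])
    have h3 := hc0 ⟨x, hx⟩
    rw [h2] at h3
    simp at h3

end Groth.Agent.S17679
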