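import Groth.Statements.S17683


set_option autoImplicit false
universe u
open DiagMon

namespace Groth.Agent.S17683

variable {_unused : Unit}

lemma cd_zero {M N R : Type*} [Semiring R] {f : M → N} {n : N} {r : R} (hn : n ∉ Set.range f) {hf : Function.Injective f} :
    AddMonoidAlgebra.comapDomain f hf (AddMonoidAlgebra.single n r) = 0 := by ext; simp [*]

open DiagMon

/-- Let N be a commutative monoid and F a submonoid of N. The additive projection ℤ[N] → ℤ[F] of monoid
algebras keeping the monomials with exponent in F and killing the others is multiplicative, i.e. F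
is a face of N, if and only if for all x, y in N the sum x + y lies in F exactly when both x and y
do. -/
theorem result {N : Type u} [AddCommMonoid N] (F : AddSubmonoid N) :
    (∀ a b : AddMonoidAlgebra ℤ N,
        AddMonoidAlgebra.comapDomain ((↑) : F → N) Subtype.val_injective (a * b) =
          AddMonoidAlgebra.comapDomain ((↑) : F → N) Subtype.val_injective a *
            AddMonoidAlgebra.comapDomain ((↑) : F → N) Subtype.val_injective b) ↔
      ∀ x y : N, x + y ∈ F ↔ (x ∈ F ∧ y ∈ F) := by
  classical
  constructor
  · intro h x y
    refine ⟨fun hxy => ?_, fun hh => F.add_mem hh.1 hh.2⟩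
    by_contra hne
    have h2 := h (AddMonoidAlgebra.single x 1) (AddMonoidAlgebra.single y 1)
    rw [AddMonoidAlgebra.single_mul_single, one_mul] at h2
    have h3 := congrArg (fun q => q.coeff ⟨x + y, hxy⟩) h2
    simp only [AddMonoidAlgebra.coeff_comapDomain, Finsupp.comapDomain_apply, AddMonoidAlgebra.coeff_single, Finsupp.single_eq_same] at h3
    rcases not_and_or.1 hne with hx | hy
    · rw [cd_zero (f := ((↑) : F → N)) (n := x) (by simpa using hx)] at h3
      simp at h3
    · rw [cd_zero (f := ((↑) : F → N)) (n := y) (by simpa using hy)] at h3
      simp at h3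
  · intro h a b
    induction a using AddMonoidAlgebra.induction_linear with
    | zero => simp
    | add p q hp hq => simp only [add_mul, AddMonoidAlgebra.comapDomain_add, hp, hq]
    | single x r =>
      induction b using AddMonoidAlgebra.induction_linear with
      | zero => simp
      | add p q hp hq => simp only [mul_add, AddMonoidAlgebra.comapDomain_add, hp, hq]
      | single y s =>
        rw [AddMonoidAlgebra.single_mul_single]
        by_cases hx : x ∈ F <;> by_cases hy : y ∈ F
        · rw [← show ((⟨x, hx⟩ : F) : N) = x from rfl, ← show ((⟨y, hy⟩ : F) : N) = y from rfl, ← AddSubmonoid.coe_add,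
            AddMonoidAlgebra.comapDomain_single_map ((↑) : F → N), AddMonoidAlgebra.comapDomain_single_map ((↑) : F → N), AddMonoidAlgebra.comapDomain_single_map ((↑) : F → N),
            AddMonoidAlgebra.single_mul_single]
        all_goals
          rw [cd_zero (f := ((↑) : F → N)) (n := x + y) (by simp [h, hx, hy])]
        · rw [cd_zero (f := ((↑) : F → N)) (n := y) (by simp [hy]), mul_zero]
        · rw [cd_zero (f := ((↑) : F → N)) (n := x) (by simp [hx]), zero_mul]
        · rw [cd_zero (f := ((↑) : F → N)) (n := x) (by simp [hx]), zero_mul]

end Groth.Agent.S17683
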