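import Groth.Prelude.Def_AlgGrp
import Mathlib.AlgebraicGeometry.Morphisms.Flat
import Mathlib.AlgebraicGeometry.Morphisms.FinitePresentation
import Mathlib.AlgebraicGeometry.Morphisms.QuasiSeparated
import Mathlib.AlgebraicGeometry.Morphisms.QuasiCompact
import Mathlib.AlgebraicGeometry.Morphisms.ClosedImmersion
import Mathlib.AlgebraicGeometry.Morphisms.Etale
import Mathlib.AlgebraicGeometry.Noetherian
import Mathlib.AlgebraicGeometry.Fiber
import Mathlib.CategoryTheory.Monoidal.Cartesian.Over
import Mathlib.CategoryTheory.Monoidal.Grp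
import Mathlib.AlgebraicGeometry.Morphisms.Finite
import Groth.Agent.L02.SchDom.WeilApps
import Mathlib.AlgebraicGeometry.Morphisms.Immersion

set_option autoImplicit false
namespace CAlg
end CAlg
universe u
open CategoryTheory MonoidalCategory CartesianMonoidalCategory MonObj GrpObj AlgebraicGeometry
open AlgGrp

namespace Groth.Agent.S17685

/-- Let S be a scheme, F an S-scheme that is finite locally free over S (finite, flat and locally of
finite presentation) with a section e of F over S which is a surjective closed immersion (an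
infinitesimal pointed S-scheme), and X an S-scheme with an action of the pointed scheme F, i.e. an
S-morphism F ×_S X → X through which e acts as the identity. Then the subfunctor of F-fixed points
of X, whose T-points are the T-points x of X with g · x_{T'} = x_{T'} for every S-scheme T' over T
and every T'-point g of F, is represented by a closed subscheme of X. (The source allows F and X to
be algebraic spaces over S; this row is the case of schemes.) -/
theorem result (S : Scheme.{u})
    (F X : Over S) (e : 𝟙_ (Over S) ⟶ F) (act : F ⊗ X ⟶ X) (he : (e ▷ X) ≫ act = (λ_ X).hom)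
    [IsFinite F.hom] [Flat F.hom] [LocallyOfFinitePresentation F.hom]
    [IsClosedImmersion e.left] [Surjective e.left] :
    ∃ (Z : Scheme.{u}) (i : Z ⟶ X.left), IsClosedImmersion i ∧
      ∀ (T : Over S) (x : T ⟶ X), (∃ y : T.left ⟶ Z, y ≫ i = x.left) ↔
        ∀ (T' : Over S) (t : T' ⟶ T) (g : T' ⟶ F), lift g (t ≫ x) ≫ act = t ≫ x := by
  let δ : X ⟶ X ⊗ X := lift (𝟙 X) (𝟙 X)
  let c : F ⊗ X ⟶ X ⊗ X := lift act (snd F X)
  let P : Over S := Over.mk (Limits.pullback.snd δ.left c.left ≫ (F ⊗ X).hom)
  let y : P ⟶ F ⊗ X := Over.homMk (Limits.pullback.snd δ.left c.left)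
  haveI hδ : IsImmersion δ.left := inferInstanceAs (IsImmersion (Limits.pullback.diagonal X.hom))
  haveI : IsImmersion y.left :=
    (inferInstance : IsImmersion (Limits.pullback.snd δ.left c.left))
  haveI : Surjective y.left := ⟨fun z => by
    let w : X ⟶ F ⊗ X := (λ_ X).inv ≫ e ▷ X
    obtain ⟨s, hs⟩ := ‹Surjective e.left›.surj ((fst F X).left z)
    haveI : Surjective (e ▷ X).left :=
      MorphismProperty.of_isPullback (Groth.L02.SchDom.isPullback_whiskerRight e X).flip ‹Surjective e.left›
    haveI : IsIso (λ_ X).inv.left := ((Over.forget S).mapIso (λ_ X).symm).isIso_hom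
    haveI : Surjective w.left := by
      show Surjective ((λ_ X).inv.left ≫ (e ▷ X).left)
      infer_instance
    obtain ⟨x, hx⟩ := w.left.surjective z
    have hw : w ≫ act = 𝟙 X := by simp [w, he]
    have hfac : 𝟙 X ≫ δ = w ≫ c := by
      apply CartesianMonoidalCategory.hom_ext
      · simp [δ, c, hw]
      · simp [δ, c, w]
    exact ⟨Limits.pullback.lift (𝟙 X.left) w.left (congrArg CommaMorphism.left hfac) x, by
      rw [← Scheme.Hom.comp_apply]
      show (Limits.pullback.lift _ w.left _ ≫ Limits.pullback.snd δ.left c.left) x = z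
      rw [Limits.pullback.lift_snd, hx]⟩⟩
  haveI : IsClosedImmersion y.left := .of_isPreimmersion _ (by
    rw [Set.range_eq_univ.2 y.left.surjective]; exact isClosed_univ)
  haveI : IsClosedImmersion (y ≫ (β_ F X).hom).left := by
    haveI : IsIso (β_ F X).hom.left := ((Over.forget S).mapIso (β_ F X)).isIso_hom
    show IsClosedImmersion (y.left ≫ (β_ F X).hom.left)
    infer_instance
  obtain ⟨Z, i, hi, -, hZ⟩ := Groth.L02.SchDom.exists_finitePointLocus (G := X) (Y := F)
    (y ≫ (β_ F X).hom) (𝟙 (X ⊗ F))
  refine ⟨Z.left, i.left, hi, fun T x => Iff.trans ?_ ((hZ T x).trans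
    (forall_congr' fun T' => forall_congr' fun t => forall_congr' fun g => ?_))⟩
  · constructor
    · rintro ⟨w, hw⟩
      exact ⟨Over.homMk w (by rw [← Over.w i, reassoc_of% hw, Over.w x]), Over.OverMorphism.ext hw⟩
    · rintro ⟨w, rfl⟩
      exact ⟨w.left, rfl⟩
  · constructor
    · rintro ⟨p, hp⟩
      have h0 : p ≫ y = lift g (t ≫ x) := by
        rw [← cancel_mono (β_ F X).hom, Category.assoc, hp]
        apply CartesianMonoidalCategory.hom_ext <;> simp
      let q : T' ⟶ X := Over.homMk (p.left ≫ Limits.pullback.fst δ.left c.left) (by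
        rw [← Over.w δ, Category.assoc, Limits.pullback.condition_assoc, Over.w c]
        exact Over.w p)
      have h1 : q ≫ δ = lift g (t ≫ x) ≫ c := by
        rw [← h0]
        apply Over.OverMorphism.ext
        show (p.left ≫ Limits.pullback.fst δ.left c.left) ≫ δ.left = (p.left ≫ y.left) ≫ c.left
        rw [Category.assoc, Category.assoc, Limits.pullback.condition]
        rfl
      have e1 := congrArg (· ≫ fst X X) h1
      have e2 := congrArg (· ≫ snd X X) h1
      simp [δ, c] at e1 e2
      exact e1.symm.trans e2
    · intro hfix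
      have h1 : (t ≫ x) ≫ δ = lift g (t ≫ x) ≫ c := by
        apply CartesianMonoidalCategory.hom_ext
        · simp [δ, c, hfix]
        · simp [δ, c]
      let p : T' ⟶ P := Over.homMk
        (Limits.pullback.lift (t ≫ x).left (lift g (t ≫ x)).left (congrArg CommaMorphism.left h1)) (by
          show _ ≫ Limits.pullback.snd δ.left c.left ≫ (F ⊗ X).hom = _
          rw [Limits.pullback.lift_snd_assoc, Over.w (lift g (t ≫ x))])
      have hp : p ≫ y = lift g (t ≫ x) := Over.OverMorphism.ext (by
        show Limits.pullback.lift _ _ _ ≫ Limits.pullback.snd δ.left c.left = _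
        rw [Limits.pullback.lift_snd])
      refine ⟨p, ?_⟩
      rw [← Category.assoc, hp]
      apply CartesianMonoidalCategory.hom_ext <;> simp

end Groth.Agent.S17685
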