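import Mathlib.RingTheory.GradedAlgebra.Basic
import Mathlib.RingTheory.Ideal.Span
import Mathlib.RingTheory.FiniteType

set_option autoImplicit false
set_option linter.style.haveILetI false
namespace DiagMon
end DiagMon
universe u v w
open DiagMon

namespace Groth.Agent.S17687

/-- Let R be a commutative ring and A a commutative R-algebra of finite type graded by a commutative
monoid M. Then the set of ideals J_N, N running over all submonoids of M, where J_N is generated by
the homogeneous elements of degree not in N (the ideal of the attractor of Spec A for the magnet N),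
is finite: Spec A has finitely many attractors and hence finitely many pure magnets. (The source
assumes Spec A of finite presentation over the base; its proof uses only a finite set of homogeneous
algebra generators, so finite type is assumed here.) -/
theorem result (R : Type u) [CommRing R] (A : Type v) [CommRing A]
    [Algebra R A] [Algebra.FiniteType R A] (M : Type w) [AddCommMonoid M] [DecidableEq M]
    (𝒜 : M → Submodule R A) [GradedAlgebra 𝒜] :
    (Set.range fun N : AddSubmonoid M => Ideal.span {a : A | ∃ m : M, m ∉ N ∧ a ∈ 𝒜 m}).Finite := by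
  classical
  obtain ⟨S, hS⟩ := (inferInstance : Algebra.FiniteType R A).out
  -- the finitely many degrees occurring in the generators
  let D : Finset M := S.biUnion fun g => (DirectSum.decompose 𝒜 g).support
  let J : Set M → Ideal A := fun T =>
    Ideal.span {a : A | ∃ g ∈ S, ∃ d ∈ T, a = ((DirectSum.decompose 𝒜 g) d : A)}
  have key : ∀ N : AddSubmonoid M,
      Ideal.span {a : A | ∃ m : M, m ∉ N ∧ a ∈ 𝒜 m} = J {d | d ∈ D ∧ d ∉ N} := by
    intro N
    apply le_antisymm
    · rw [Ideal.span_le]
      rintro a ⟨m, hm, ha⟩
      have hall : ∀ b ∈ Algebra.adjoin R (S : Set A), ∀ n : M, n ∉ N →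
          ((DirectSum.decompose 𝒜 b) n : A) ∈ J {d | d ∈ D ∧ d ∉ N} := by
        intro b hb
        induction hb using Algebra.adjoin_induction with
        | mem g hg =>
          intro n hn
          by_cases hd : n ∈ D
          · exact Ideal.subset_span ⟨g, hg, n, ⟨hd, hn⟩, rfl⟩
          · have : n ∉ (DirectSum.decompose 𝒜 g).support := fun h => hd (Finset.mem_biUnion.2 ⟨g, hg, h⟩)
            simp [DFinsupp.notMem_support_iff.1 this]
        | algebraMap r =>
          intro n hn
          have h0 : algebraMap R A r ∈ 𝒜 0 := SetLike.algebraMap_mem_graded _ r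
          rw [DirectSum.decompose_of_mem_ne 𝒜 h0 (fun h => hn (by rw [← h]; exact N.zero_mem))]
          exact zero_mem _
        | add x y _ _ hx hy =>
          intro n hn
          rw [DirectSum.decompose_add, DirectSum.add_apply, Submodule.coe_add]
          exact add_mem (hx n hn) (hy n hn)
        | mul x y _ _ hx hy =>
          intro n hn
          rw [DirectSum.decompose_mul, DirectSum.coe_mul_apply]
          refine sum_mem fun ij hij => ?_
          simp only [Finset.mem_filter, Finset.mem_product] at hij
          by_cases h1 : ij.1 ∈ N
          · have h2 : ij.2 ∉ N := fun h => hn (hij.2 ▸ N.add_mem h1 h)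
            exact Ideal.mul_mem_left _ _ (hy _ h2)
          · exact Ideal.mul_mem_right _ _ (hx _ h1)
      have := hall a (hS ▸ Algebra.mem_top) m hm
      rwa [DirectSum.decompose_of_mem_same 𝒜 ha] at this
    · rw [Ideal.span_le]
      rintro a ⟨g, -, d, ⟨-, hd⟩, rfl⟩
      exact Ideal.subset_span ⟨d, hd, SetLike.coe_mem _⟩
  refine ((D.powerset.finite_toSet).image fun T : Finset M => J ↑T).subset ?_
  rintro _ ⟨N, rfl⟩
  refine ⟨D.filter (· ∉ N), Finset.mem_coe.2 (Finset.mem_powerset.2 (Finset.filter_subset (fun d => d ∉ N) D)), ?_⟩
  show _ = Ideal.span {a | ∃ m ∉ N, a ∈ 𝒜 m}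
  rw [key N]
  simp [Finset.coe_filter]

end Groth.Agent.S17687
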