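import Groth.Statements.S17688
import Groth.Agent.L26.Neron.Basic
import Mathlib.RingTheory.DedekindDomain.Dvr
import Mathlib.Data.Int.GCD

set_option autoImplicit false
universe u
open CategoryTheory CategoryTheory.Limits AlgebraicGeometry MonObj
open Neron

namespace Groth.Agent.S17688

/-- Let R be a discrete valuation ring whose fraction field K has characteristic p > 0, and let U be a
flat, separated, commutative group scheme over Spec R whose generic fibre U_K is annihilated by a
power p^N of p (in the group of endomorphisms of U_K as a K-scheme, the p^N-th power of the identity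
is the unit). Then for every prime ℓ invertible in R the ℓ-th power map of U (the ℓ-th power of the
identity in the group of R-morphisms U → U) is an isomorphism. -/
theorem result
    (R : Type u) [CommRing R] [IsDomain R] [IsDiscreteValuationRing R]
    (p : ℕ) (hp : p.Prime) [CharP (FractionRing R) p]
    (U : Over (Spec (CommRingCat.of R))) [GrpObj U] [IsCommMonObj U] [Flat U.hom] [IsSeparated U.hom]
    (N : ℕ) (hN : (𝟙 (Red.bc (Neron.genPt R) U) : Red.bc (Neron.genPt R) U ⟶ Red.bc (Neron.genPt R) U) ^ (p ^ N) = 1)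
    (ℓ : ℕ) (hℓ : ℓ.Prime) (hℓu : IsUnit (ℓ : R)) :
    IsIso ((𝟙 U : U ⟶ U) ^ ℓ) := by
  have hcop : Nat.Coprime ℓ (p ^ N) := by
    refine Nat.Coprime.pow_right N ((Nat.coprime_primes hℓ hp).2 ?_)
    rintro rfl
    have := hℓu.map (algebraMap R (FractionRing R))
    rw [map_natCast, CharP.cast_eq_zero] at this
    exact not_isUnit_zero this
  obtain ⟨a, -, ha⟩ := Nat.exists_mul_mod_eq_of_coprime 1 hcop (pow_ne_zero N hp.pos.ne')
  have hgen : (Neron.genericFibre R).map ((𝟙 U : U ⟶ U) ^ (ℓ * a)) = (Neron.genericFibre R).map (𝟙 U) := by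
    have h1 : ∀ n : ℕ, (Neron.genericFibre R).map ((𝟙 U : U ⟶ U) ^ n) =
        (𝟙 (Red.bc (Neron.genPt R) U) : Red.bc (Neron.genPt R) U ⟶ Red.bc (Neron.genPt R) U) ^ n := by
      intro n
      induction n with
      | zero =>
        rw [pow_zero, pow_zero]
        exact Functor.map_one (Neron.genericFibre R)
      | succ n ih =>
        rw [pow_succ, pow_succ, ← ih]
        refine (Functor.map_mul (Neron.genericFibre R) _ _).trans ?_
        rw [CategoryTheory.Functor.map_id]
    have key := pow_eq_pow_mod (M := Red.bc (Neron.genPt R) U ⟶ Red.bc (Neron.genPt R) U) (ℓ * a) hN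
    rw [ha, ← pow_eq_pow_mod 1 hN, pow_one] at key
    exact (h1 _).trans (key.trans (CategoryTheory.Functor.map_id _ _).symm)
  have hpow : (𝟙 U : U ⟶ U) ^ (ℓ * a) = 𝟙 U := Groth.Agent.NeronL.eq_of_genericFibre R U U _ _ hgen
  refine ⟨(𝟙 U : U ⟶ U) ^ a, ?_, ?_⟩
  · rw [MonObj.comp_pow, Category.comp_id, ← pow_mul]; exact hpow
  · rw [MonObj.comp_pow, Category.comp_id, ← pow_mul, Nat.mul_comm]; exact hpow

end Groth.Agent.S17688
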