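import Groth.Statements.S17689
import Groth.Agent.L20.UnivHomeo
import Mathlib.AlgebraicGeometry.Morphisms.Finite
import Mathlib.AlgebraicGeometry.Morphisms.UniversallyInjective
import Mathlib.RingTheory.IntegralClosure.IntegrallyClosed
import Mathlib.RingTheory.PrincipalIdealDomain
import Mathlib.RingTheory.Polynomial.RationalRoot
import Mathlib.RingTheory.Kaehler.Basic
import Mathlib.Algebra.CharP.Lemmas
import Mathlib.FieldTheory.PurelyInseparable.Basic

set_option autoImplicit false
universe u
open CategoryTheory AlgebraicGeometry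
open Neron

namespace Groth.Agent.S17689

open scoped TensorProduct

theorem add_pow_pow {S : Type*} [CommRing S] {p : ℕ} (hp : p.Prime) (h0 : (p : S) = 0) (x y : S) (n : ℕ) :
    (x + y) ^ p ^ n = x ^ p ^ n + y ^ p ^ n := by
  induction n with
  | zero => simp
  | succ n ih =>
    obtain ⟨r, hr⟩ := exists_add_pow_prime_eq hp (x ^ p ^ n) (y ^ p ^ n)
    rw [pow_succ, pow_mul, pow_mul, pow_mul, ih, hr, h0, zero_mul, zero_mul, zero_mul, _root_.add_zero]

theorem univInj {R S : Type u} [CommRing R] [CommRing S] [Algebra R S] {p : ℕ} (hp : p.Prime) (h0 : (p : S) = 0)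
    (h : ∀ s : S, ∃ n r, algebraMap R S r = s ^ p ^ n) :
    UniversallyInjective (Spec.map (CommRingCat.ofHom (algebraMap R S))) := by
  rw [UniversallyInjective.iff_diagonal, diagonal_SpecMap]
  have h0' : (p : S ⊗[R] S) = 0 := by rw [← map_natCast (algebraMap S (S ⊗[R] S)), h0, map_zero]
  let μ := (Algebra.TensorProduct.lmul' R : S ⊗[R] S →ₐ[R] S)
  have hker : RingHom.ker μ.toRingHom ≤ nilradical (S ⊗[R] S) := by
    change KaehlerDifferential.ideal R S ≤ _
    rw [← KaehlerDifferential.span_range_eq_ideal, Ideal.span_le]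
    rintro _ ⟨s, rfl⟩
    obtain ⟨n, r, hr⟩ := h s
    refine ⟨p ^ n, ?_⟩
    have e := add_pow_pow hp h0' ((1 : S) ⊗ₜ[R] s - s ⊗ₜ[R] (1 : S)) (s ⊗ₜ[R] (1 : S)) n
    rw [sub_add_cancel, Algebra.TensorProduct.tmul_pow, Algebra.TensorProduct.tmul_pow, one_pow, ← hr,
      ← Algebra.TensorProduct.algebraMap_apply', Algebra.TensorProduct.algebraMap_apply] at e
    exact add_eq_right.1 e.symm
  have : Surjective (Spec.map (CommRingCat.ofHom μ.toRingHom)) := by
    refine ⟨Set.range_eq_univ.1 ?_⟩
    refine (_root_.range_comap_of_surjective _ μ.toRingHom (fun s => ⟨s ⊗ₜ 1, by simp [μ]⟩)).trans ?_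
    exact Set.eq_univ_of_forall fun q x hx => (nilradical_le_prime q.asIdeal) (hker hx)
  infer_instance

/-- Let R ⊆ S be a finite extension of discrete valuation rings (the structure map R → S is injective
and S is a finite R-module) such that the induced extension K ⊆ L of fraction fields is purely
inseparable. Then the morphism Spec S → Spec R is a universal homeomorphism: every base change of it
is a homeomorphism on underlying spaces. (No excellence hypothesis is needed here.) -/
theorem result
    (R S K L : Type u) [CommRing R] [IsDomain R] [IsDiscreteValuationRing R]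
    [CommRing S] [IsDomain S] [IsDiscreteValuationRing S] [Algebra R S] [Module.Finite R S] [FaithfulSMul R S]
    [Field K] [Field L] [Algebra R K] [IsFractionRing R K] [Algebra S L] [IsFractionRing S L]
    [Algebra K L] [Algebra R L] [IsScalarTower R S L] [IsScalarTower R K L] [IsPurelyInseparable K L] :
    FlatMor.IsUnivHomeo (Spec.map (CommRingCat.ofHom (algebraMap R S))) := by
  set f := Spec.map (CommRingCat.ofHom (algebraMap R S)) with hf
  have hfin : IsFinite f := by
    rw [hf, IsFinite.SpecMap_iff, CommRingCat.hom_ofHom, RingHom.finite_algebraMap]; infer_instance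
  have hsurj : Surjective f := ⟨Algebra.IsIntegral.comap_surjective R S
    ⟩
  refine (Groth.L20.isUnivHomeo_iff f).2 ⟨inferInstance, ?_, hsurj⟩
  obtain ⟨q, hq⟩ := ExpChar.exists K
  have hpow : ∀ s : S, ∃ n r, algebraMap R S r = s ^ q ^ n := fun s => by
    obtain ⟨n, k, hk⟩ := IsPurelyInseparable.pow_mem K q (algebraMap S L s)
    have hk1 : IsIntegral R (algebraMap K L k) := by
      rw [hk, ← map_pow]; exact ((Algebra.IsIntegral.isIntegral (s ^ q ^ n)).map (IsScalarTower.toAlgHom R S L))
    have hk2 : IsIntegral R k := (isIntegral_algHom_iff (IsScalarTower.toAlgHom R K L) (algebraMap K L).injective).1 hk1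
    obtain ⟨r, rfl⟩ := _root_.IsIntegrallyClosed.isIntegral_iff.1 hk2
    refine ⟨n, r, IsFractionRing.injective S L ?_⟩
    rw [map_pow, ← hk, ← IsScalarTower.algebraMap_apply, ← IsScalarTower.algebraMap_apply]
  cases hq with
  | zero =>
    have : IsClosedImmersion f := IsClosedImmersion.spec_of_surjective _ fun s => by
      obtain ⟨n, r, hr⟩ := hpow s
      exact ⟨r, by simpa using hr⟩
    infer_instance
  | prime hp =>
    refine univInj hp (IsFractionRing.injective S L ?_) hpow
    rw [map_natCast, map_zero, ← map_natCast (algebraMap K L), CharP.cast_eq_zero, map_zero]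

end Groth.Agent.S17689
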