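import Groth.Statements.S17690
import Groth.Agent.S2654
import Groth.Agent.L00.NagataNorm
import Mathlib.RingTheory.DiscreteValuationRing.TFAE
import Mathlib.FieldTheory.PurelyInseparable.Basic
-- import your own Groth.Agent.* helpers here

set_option autoImplicit false
universe u
open Neron

namespace Groth.Agent.S17690

/-- Let R be an excellent discrete valuation ring (Noetherian, universally catenary, G-ring, J-2) with
fraction field K, and let L be a finite purely inseparable field extension of K. Then the integral
closure S of R in L is a discrete valuation ring, and S is a finite R-module. -/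
theorem result
    (R K L : Type u) [CommRing R] [IsDomain R] [IsDiscreteValuationRing R] (hR : EGA4.IsExcellent R)
    [Field K] [Algebra R K] [IsFractionRing R K] [Field L] [Algebra K L] [FiniteDimensional K L]
    [IsPurelyInseparable K L] [Algebra R L] [IsScalarTower R K L] :
    IsDiscreteValuationRing ↥(integralClosure R L) ∧ Module.Finite R ↥(integralClosure R L) := by
  haveI : Algebra.EssFiniteType R K := Algebra.EssFiniteType.of_isLocalization K (nonZeroDivisors R)
  haveI : Algebra.EssFiniteType R L := Algebra.EssFiniteType.comp R K L
  have hfin : Module.Finite R (integralClosure R L) :=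
    Groth.L00.NagataNorm.finite_integralClosure_field (Groth.Agent.S2654.result R ⟨hR.1, hR.2.2.1, hR.2.2.2⟩) L
  refine ⟨?_, hfin⟩
  haveI := hfin
  let C := integralClosure R L
  haveI : IsNoetherianRing C := IsNoetherianRing.of_finite R C
  haveI : IsFractionRing C L := integralClosure.isFractionRing_of_finite_extension K L
  haveI : IsIntegrallyClosed C := integralClosure.isIntegrallyClosedOfFiniteExtension K
  have hinj : Function.Injective (algebraMap R C) := fun a b h => IsFractionRing.injective R K
    ((algebraMap K L).injective (by
      rw [← IsScalarTower.algebraMap_apply R K L, ← IsScalarTower.algebraMap_apply R K L]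
      exact congrArg Subtype.val h))
  haveI : Algebra.IsIntegral R C := inferInstance
  haveI : Ring.DimensionLEOne C := Ring.DimensionLEOne.of_isIntegral R C
  haveI : IsDedekindDomain C := { }
  have huniq : ∀ P : Ideal C, P.IsMaximal → ∀ x : C, x ∈ P ↔
      ∃ n : ℕ, ∃ r : R, r ∈ IsLocalRing.maximalIdeal R ∧ algebraMap R C r = x ^ (ringExpChar K) ^ n := by
    intro P hP x
    have hc : P.comap (algebraMap R C) = IsLocalRing.maximalIdeal R :=
      IsLocalRing.eq_maximalIdeal (Ideal.isMaximal_comap_of_isIntegral_of_isMaximal P)
    refine ⟨fun hx => ?_, fun ⟨n, r, hr, hrx⟩ => hP.isPrime.mem_of_pow_mem (ringExpChar K ^ n) (by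
      rw [← hc] at hr; rw [← hrx]; exact hr)⟩
    obtain ⟨n, q, hq⟩ := IsPurelyInseparable.pow_mem K (ringExpChar K) (x : L)
    have hqi : IsIntegral R q := by
      rw [← isIntegral_algebraMap_iff (B := L) (algebraMap K L).injective, hq]
      exact x.2.pow _
    obtain ⟨r, hr⟩ := IsIntegrallyClosed.isIntegral_iff.mp hqi
    have hrx : algebraMap R C r = x ^ (ringExpChar K) ^ n := Subtype.ext (by
      show algebraMap R L r = (x : L) ^ _
      rw [IsScalarTower.algebraMap_apply R K L, hr, hq])
    refine ⟨n, r, hc ▸ ?_, hrx⟩
    show algebraMap R C r ∈ P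
    rw [hrx]
    exact P.pow_mem_of_mem hx _ (pow_pos (expChar_pos K (ringExpChar K)) n)
  obtain ⟨P, hP⟩ := Ideal.exists_maximal C
  haveI : IsLocalRing C := IsLocalRing.of_unique_max_ideal ⟨P, hP, fun P' hP' =>
    Ideal.ext fun x => (huniq P' hP' x).trans (huniq P hP x).symm⟩
  have hnf : ¬ IsField C := fun h =>
    IsDiscreteValuationRing.not_isField R (isField_of_isIntegral_of_isField hinj h)
  exact ((IsDiscreteValuationRing.TFAE C hnf).out 0 2).mpr (inferInstance : IsDedekindDomain C)

end Groth.Agent.S17690
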