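import Groth.Statements.S17694
import Groth.Agent.L08.P1Hom.TorusRel
import Groth.Agent.L25.Locus.FixedConn

set_option autoImplicit false
set_option backward.isDefEq.respectTransparency.types false

set_option linter.style.haveILetI false
universe u
open CategoryTheory CategoryTheory.Limits AlgebraicGeometry MonObj
open WeilRes

namespace Groth.Agent.S17694

/-- `𝔾ₘ` is the split torus of rank one. -/
noncomputable def gmSplitIso (S : Scheme.{u}) : Grp.mk (Red.DS S ℤ) ≅ Grp.mk (Red.DS S (Fin 1 → ℤ)) :=
  haveI : IsMonHom (⟨Red.DSmap S (Pi.evalAddMonoidHom (fun _ : Fin 1 => ℤ) 0),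
      Red.DSmap S (zmultiplesHom (Fin 1 → ℤ) (fun _ => 1)), by
        rw [Groth.L25.TorusTorsion.DSmap_comp, ← Groth.L25.TorusTorsion.DSmap_id]
        congr 1
        ext
        simp, by
        rw [Groth.L25.TorusTorsion.DSmap_comp, ← Groth.L25.TorusTorsion.DSmap_id]
        congr 1
        refine AddMonoidHom.ext fun f => funext fun j => ?_
        simp [Subsingleton.elim j 0]⟩ : Red.DS S ℤ ≅ Red.DS S (Fin 1 → ℤ)).hom :=
    Groth.L25.TorusTorsion.isMonHom_DSmap S _
  Grp.mkIso' (⟨Red.DSmap S (Pi.evalAddMonoidHom (fun _ : Fin 1 => ℤ) 0),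
      Red.DSmap S (zmultiplesHom (Fin 1 → ℤ) (fun _ => 1)), _, _⟩ : Red.DS S ℤ ≅ Red.DS S (Fin 1 → ℤ))

/-- Let κ be a field, B a finite κ-algebra and E an abelian scheme over B, that is a proper smooth
B-group scheme whose geometric fibres are connected. Let R be a κ-group scheme which, with the
homomorphism q : R ×_κ Spec B → E, is the Weil restriction of E along Spec B → Spec κ. Then the
maximal torus of R is trivial; precisely, as the proof establishes, for every algebraically closed
field Ω over κ every homomorphism of Ω-group schemes from the multiplicative group over Ω to the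
base change of R to Ω is trivial. -/
theorem result
    (κ B : Type u) [Field κ] [CommRing B] [Algebra κ B] [Module.Finite κ B]
    (E : Over (Spec (CommRingCat.of B))) [GrpObj E] [IsProper E.hom] [Smooth E.hom]
    (hEc : ∀ (Ω' : Type u) [Field Ω'] (t : Spec (CommRingCat.of Ω') ⟶ Spec (CommRingCat.of B)),
      ConnectedSpace ↥(pullback E.hom t))
    (R : Over (Spec (CommRingCat.of κ))) [GrpObj R]
    (q : Red.bc (Spec.map (CommRingCat.ofHom (algebraMap κ B))) R ⟶ E) [IsMonHom q]
    (hR : WeilRes.IsWeilRes (Spec.map (CommRingCat.ofHom (algebraMap κ B))) E R q)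
    (Ω : Type u) [Field Ω] [IsAlgClosed Ω] [Algebra κ Ω]
    (φ : Red.Gm (Spec (CommRingCat.of Ω)) ⟶ Red.bc (Spec.map (CommRingCat.ofHom (algebraMap κ Ω))) R)
    [IsMonHom φ] :
    φ = 1 := by
  let tΩ := Spec.map (CommRingCat.ofHom (algebraMap κ Ω))
  let t := Spec.map (CommRingCat.ofHom (algebraMap κ B))
  let c1 : pullback tΩ t ⟶ Spec (CommRingCat.of Ω) := pullback.fst tΩ t
  let c2 : pullback tΩ t ⟶ Spec (CommRingCat.of B) := pullback.snd tΩ t
  let d := c1 ≫ tΩ
  let Gm := Red.Gm (Spec (CommRingCat.of Ω))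
  -- the multiplicative group is a torus
  have hGm : Red.IsTorus Gm := by
    refine ⟨Spec (CommRingCat.of Ω), 𝟙 _, inferInstance, inferInstance, fun V hV => ⟨V, hV.isCompact, by simp⟩,
      fun s' => ⟨⊤, trivial, 1, ⟨?_⟩⟩⟩
    refine Grp.mkIso' (ActBC.bcCompIso ((⊤ : (Spec (CommRingCat.of Ω)).Opens).ι ≫ 𝟙 _)
      (GmPts.toBaseZ (Spec (CommRingCat.of Ω))) (Red.diag (ULift.{u} ℤ) ℤ)
      (d := GmPts.toBaseZ _) (specULiftZIsTerminal.hom_ext _ _)) ≪≫ ?_
    exact gmSplitIso _
  let i1 := ActBC.bcCompIso c1 tΩ R (d := d) rfl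
  let i2 := ActBC.bcCompIso c2 t R (d := d) pullback.condition.symm
  let ψ : Red.bc c1 Gm ⟶ Red.bc c2 E := (Over.pullback c1).map φ ≫ i1.hom ≫ i2.inv ≫ (Over.pullback c2).map q
  haveI : IsMonHom i1.hom := inferInstance
  haveI : IsMonHom i2.inv := inferInstance
  haveI : IsProper (Red.bc c2 E).hom := MorphismProperty.pullback_snd (P := @IsProper) E.hom c2 ‹_›
  haveI : LocallyOfFinitePresentation (Red.bc c2 E).hom :=
    MorphismProperty.pullback_snd (P := @LocallyOfFinitePresentation) E.hom c2 inferInstance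
  have hψ : ψ = 1 := Groth.L08.P1Hom.hom_torus_eq_one_rel (Groth.L25.Locus.isTorus_bc hGm c1) ψ
  let T : Over (Spec (CommRingCat.of κ)) := (Over.map tΩ).obj Gm
  let g : T ⟶ R := ((Over.mapPullbackAdj tΩ).homEquiv Gm R).symm φ
  have hgl : g.left = φ.left ≫ pullback.fst R.hom tΩ := by
    simp only [g, Adjunction.homEquiv_counit]
    rfl
  let k : Red.bc t T ⟶ (Over.map c2).obj (Red.bc c1 Gm) :=
    Over.homMk (pullback.lift (pullback.fst T.hom t) (pullback.lift (pullback.fst T.hom t ≫ Gm.hom) (pullback.snd T.hom t)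
      (by rw [Category.assoc]; exact pullback.condition)) (by exact (pullback.lift_fst _ _ _).symm))
      (by
        show pullback.lift _ _ _ ≫ pullback.snd Gm.hom c1 ≫ c2 = _
        rw [pullback.lift_snd_assoc]
        exact pullback.lift_snd _ _ _)
  have hi2 : i2.inv.left ≫ pullback.fst _ c2 ≫ pullback.fst R.hom t = pullback.fst R.hom d := by
    rw [← ActBC.bcCompIso_hom_left_fst c2 t R pullback.condition.symm, ← Category.assoc, ← Over.comp_left, i2.inv_hom_id]
    exact Category.id_comp _
  have hq : (Over.pullback t).map g ≫ q = 1 := by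
    -- the map to the Weil restriction data factors through `ψ`
    have key : ((Over.pullback t).map g).left = k.left ≫ ((Over.pullback c1).map φ).left ≫ i1.hom.left ≫ i2.inv.left ≫
        pullback.fst (Red.bc t R).hom c2 := by
      apply pullback.hom_ext
      · simp only [Category.assoc]
        rw [hi2, ActBC.bcCompIso_hom_left_fst c1 tΩ R rfl, ActBC.pullback_map_left_fst_assoc, ActBC.pullback_map_left_fst, hgl]
        show _ = pullback.lift _ _ _ ≫ pullback.fst Gm.hom c1 ≫ _
        rw [pullback.lift_fst_assoc]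
      · simp only [Category.assoc]
        rw [show pullback.fst (Red.bc t R).hom c2 ≫ pullback.snd R.hom t = pullback.snd (Red.bc t R).hom c2 ≫ c2 from
          pullback.condition]
        rw [show i2.inv.left ≫ pullback.snd (Red.bc t R).hom c2 ≫ c2 = pullback.snd R.hom d ≫ c2 from
          congrArg (· ≫ c2) (Over.w i2.inv)]
        rw [show i1.hom.left ≫ pullback.snd R.hom d ≫ c2 = pullback.snd (Red.bc tΩ R).hom c1 ≫ c2 from
          congrArg (· ≫ c2) (Over.w i1.hom)]
        rw [show ((Over.pullback c1).map φ).left ≫ pullback.snd (Red.bc tΩ R).hom c1 ≫ c2 = pullback.snd Gm.hom c1 ≫ c2 from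
          congrArg (· ≫ c2) (Over.w ((Over.pullback c1).map φ))]
        exact ((Over.w ((Over.pullback t).map g)).trans (Over.w k).symm)
    have h1 : (Over.pullback t).map g ≫ q = k ≫ ((Over.mapPullbackAdj c2).homEquiv (Red.bc c1 Gm) E).symm ψ := by
      apply Over.OverMorphism.ext
      rw [Over.comp_left, Over.comp_left, Adjunction.homEquiv_counit, key]
      simp only [Category.assoc]
      show _ = k.left ≫ (ψ.left ≫ pullback.fst E.hom c2)
      simp only [ψ, Over.comp_left, Category.assoc]
      rw [ActBC.pullback_map_left_fst]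
    have h2 : ((Over.mapPullbackAdj c2).homEquiv (Red.bc c1 Gm) E).symm ψ = 1 := by
      rw [hψ, Equiv.symm_apply_eq, Adjunction.homEquiv_unit, CategoryTheory.Functor.map_one, MonObj.comp_one]
    rw [h1, h2, MonObj.comp_one]
  have hg : g = 1 := (hR T).1 (show (Over.pullback t).map g ≫ q = (Over.pullback t).map 1 ≫ q by
    rw [hq, CategoryTheory.Functor.map_one, MonObj.one_comp])
  have : φ = ((Over.mapPullbackAdj tΩ).homEquiv Gm R) g := ((Equiv.apply_symm_apply _ _)).symm
  rw [this, hg, Adjunction.homEquiv_unit, CategoryTheory.Functor.map_one, MonObj.comp_one]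

end Groth.Agent.S17694
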