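import Groth.Statements.S17700
import Groth.Agent.L26.Neron.PseudoChev

set_option autoImplicit false
universe u
open CategoryTheory CategoryTheory.Limits MonoidalCategory CartesianMonoidalCategory AlgebraicGeometry MonObj
open Neron

namespace Groth.Agent.S17700

open Groth.L27.FEtField Groth.L26.PseudoChev

/-- Let k be a field and P a pseudo-abelian variety over k, that is a smooth connected commutative
k-group scheme of finite type all of whose smooth connected affine closed subgroup schemes are
trivial (unit section an isomorphism). Then there are a finite purely inseparable field extension L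
of k and, over L, a closed subgroup scheme H of the base change P_L which is smooth, connected,
affine and unipotent (rendered as: its base change to an algebraic closure of L contains no
non-trivial subtorus), together with an abelian variety A over L (a proper smooth geometrically
integral L-group scheme) and a surjective homomorphism P_L → A whose kernel is H. (Only the
existence part is stated; the published statement adds that for a given L the sequence is unique.) -/
theorem result
    (k : Type u) [Field k]
    (P : Over (Spec (CommRingCat.of k))) [GrpObj P] [IsCommMonObj P]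
    [Smooth P.hom] [LocallyOfFiniteType P.hom] [QuasiCompact P.hom] [ConnectedSpace ↥P.left]
    (hP : ∀ (H : Over (Spec (CommRingCat.of k))) [GrpObj H] (j : H ⟶ P) [IsMonHom j],
      IsClosedImmersion j.left → Smooth H.hom → ConnectedSpace ↥H.left → IsAffine H.left → IsIso η[H]) :
    ∃ (L : Type u) (_ : Field L) (_ : Algebra k L) (_ : FiniteDimensional k L) (_ : IsPurelyInseparable k L)
      (H A : Over (Spec (CommRingCat.of L))) (_ : GrpObj H) (_ : GrpObj A)
      (i : H ⟶ Red.bc (Spec.map (CommRingCat.ofHom (algebraMap k L))) P) (π : Red.bc (Spec.map (CommRingCat.ofHom (algebraMap k L))) P ⟶ A),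
      IsMonHom i ∧ IsMonHom π ∧ IsClosedImmersion i.left ∧ AlgGrp.IsKernel i π ∧ Surjective π.left ∧
      Smooth H.hom ∧ ConnectedSpace ↥H.left ∧ IsAffine H.left ∧
      Red.HasNoSubtorus (AlgebraicClosure L) (Red.bc (Spec.map (CommRingCat.ofHom (algebraMap L (AlgebraicClosure L)))) H) ∧
      IsProper A.hom ∧ Smooth A.hom ∧ GeometricallyIntegral A.hom := by
  obtain ⟨q, hq⟩ := ExpChar.exists k
  haveI := hq
  haveI : ExpChar (AlgebraicClosure k) q := expChar_of_injective_algebraMap (algebraMap k _).injective q
  let K := ↥(perfectClosure k (AlgebraicClosure k))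
  haveI : Algebra.IsAlgebraic k K := Algebra.IsAlgebraic.tower_bot k K (AlgebraicClosure k)
  obtain ⟨S, H, A, gH, gA, l, π, hl, hπ, hlc, hker, hπs, hHs, hHc, hHa, hAp, hAs, hAc⟩ :=
    exists_chevalley_stage (K := K) P
  haveI : FiniteDimensional k S.1 := S.2
  haveI : IsPurelyInseparable k S.1 := IsPurelyInseparable.tower_bot k S.1 K
  refine ⟨↥S.1, inferInstance, inferInstance, inferInstance, inferInstance, H, A, gH, gA, l, π, hl, hπ, hlc, hker,
    hπs, hHs, hHc, hHa, ?_, hAp, hAs, Groth.L08.Albanese.geometricallyIntegral_of_smooth A⟩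
  let Ω := AlgebraicClosure S.1
  haveI : IsScalarTower k S.1 Ω := inferInstance
  haveI : Algebra.IsAlgebraic k Ω := Algebra.IsAlgebraic.trans k S.1 Ω
  haveI : IsAlgClosure k Ω := ⟨inferInstance, inferInstance⟩
  have hc : AbVar.ext S.1 Ω ≫ sp S = AbVar.ext k Ω := by
    show Spec.map _ ≫ Spec.map _ = Spec.map _
    rw [← Spec.map_comp, ← CommRingCat.ofHom_comp, ← IsScalarTower.algebraMap_eq]
  obtain ⟨φ, _, _, -⟩ := Groth.L08.SmallNorm.exists_comparison_gen (AbVar.ext S.1 Ω) (sp S) (AbVar.ext k Ω) hc P
  haveI : IsMonHom ((Over.pullback (AbVar.ext S.1 Ω)).map l) := inferInstance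
  haveI : Mono l := Over.mono_of_mono_left l
  haveI : Mono ((Over.pullback (AbVar.ext S.1 Ω)).map l ≫ φ) := mono_comp _ _
  exact noSubtorus_of_mono ((Over.pullback (AbVar.ext S.1 Ω)).map l ≫ φ) (noSubtorus_algClosure P hP Ω)

end Groth.Agent.S17700
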