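import Groth.Statements.S17701
import Groth.Agent.L26.Neron.PseudoTate
import Groth.Agent.L26.AV.TateRankGeom
import Groth.Agent.L26.Poincare.Reducibility
import Groth.Agent.L20.Unir.HopfData

set_option autoImplicit false
universe u
open CategoryTheory CategoryTheory.Limits MonoidalCategory CartesianMonoidalCategory AlgebraicGeometry MonObj
open Neron

namespace Groth.Agent.S17701

set_option backward.isDefEq.respectTransparency false
set_option linter.style.haveILetI false
set_option synthInstance.maxHeartbeats 200000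
open MonoidalCategory CartesianMonoidalCategory
open scoped MonObj
open Groth.L26.PseudoTate

/-- Let k be a field, Ω a separable closure of k, ℓ a prime invertible in k and P a pseudo-abelian
variety over k, that is a smooth connected commutative k-group scheme of finite type all of whose
smooth connected affine closed subgroup schemes are trivial (unit section an isomorphism). Suppose
L/k is a finite purely inseparable field extension and H is a smooth connected affine closed
subgroup scheme of P_L, unipotent in the sense that after base change to an algebraic closure of L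
it has no non-trivial subtorus, such that the quotient P_L → A (a surjective homomorphism with
kernel H) is an abelian variety A over L of dimension g; g is then the virtual abelian rank of P.
Then the ℓ-adic Tate module of P built from Ω-points (compatible sequences of ℓ-power torsion
Ω-points) is a finitely generated free ℤ_ℓ-module of rank 2g. -/
theorem result
    (k Ω : Type u) [Field k] [Field Ω] [Algebra k Ω] [IsSepClosure k Ω] (ℓ : ℕ) [Fact ℓ.Prime] (hℓ : (ℓ : k) ≠ 0)
    (P : Over (Spec (CommRingCat.of k))) [GrpObj P] [IsCommMonObj P]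
    [Smooth P.hom] [LocallyOfFiniteType P.hom] [QuasiCompact P.hom] [ConnectedSpace ↥P.left]
    (hP : ∀ (H : Over (Spec (CommRingCat.of k))) [GrpObj H] (j : H ⟶ P) [IsMonHom j],
      IsClosedImmersion j.left → Smooth H.hom → ConnectedSpace ↥H.left → IsAffine H.left → IsIso η[H])
    (L : Type u) [Field L] [Algebra k L] [FiniteDimensional k L] [IsPurelyInseparable k L]
    (H A : Over (Spec (CommRingCat.of L))) [GrpObj H] [GrpObj A]
    (i : H ⟶ Red.bc (Spec.map (CommRingCat.ofHom (algebraMap k L))) P) [IsMonHom i] (π : Red.bc (Spec.map (CommRingCat.ofHom (algebraMap k L))) P ⟶ A) [IsMonHom π]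
    (hi : IsClosedImmersion i.left) (hker : AlgGrp.IsKernel i π) (hπ : Surjective π.left)
    [Smooth H.hom] [ConnectedSpace ↥H.left] [IsAffine H.left]
    (hH : Red.HasNoSubtorus (AlgebraicClosure L) (Red.bc (Spec.map (CommRingCat.ofHom (algebraMap L (AlgebraicClosure L)))) H))
    [IsProper A.hom] [Smooth A.hom] [GeometricallyIntegral A.hom]
    (g : ℕ) (hg : topologicalKrullDim ↥A.left = g) :
    Module.Free ℤ_[ℓ] (AbDual.TateMod P ℓ (SGA7.pt Ω)) ∧ Module.Finite ℤ_[ℓ] (AbDual.TateMod P ℓ (SGA7.pt Ω)) ∧
      Module.finrank ℤ_[ℓ] (AbDual.TateMod P ℓ (SGA7.pt Ω)) = 2 * g := by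
  haveI := hi
  haveI := hπ
  haveI : IsSepClosed Ω := IsSepClosure.sep_closed k
  haveI : Algebra.IsAlgebraic k Ω := inferInstance
  let K := AlgebraicClosure L
  letI : Algebra Ω K := (IsAlgClosed.lift (R := k) (S := Ω) (M := K)).toRingHom.toAlgebra
  haveI : IsScalarTower k Ω K :=
    IsScalarTower.of_algebraMap_eq fun c => ((IsAlgClosed.lift (R := k) (S := Ω) (M := K)).commutes c).symm
  let jL : Spec (CommRingCat.of L) ⟶ Spec (CommRingCat.of k) := Spec.map (CommRingCat.ofHom (algebraMap k L))
  let PL := Red.bc jL P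
  haveI : IsCommMonObj PL := inferInstanceAs (IsCommMonObj ((Over.pullback jL).obj P))
  haveI : Smooth PL.hom := inferInstanceAs (Smooth (pullback.snd P.hom jL))
  haveI : Mono i := Over.mono_of_mono_left i
  haveI : IsCommMonObj H := Groth.Agent.Poincare.Reducibility.isCommMonObj_of_mono i
  haveI : IsCommMonObj A := isCommMonObj_of_isProper_of_geometricallyIntegral A
  haveI : IsAffineHom H.hom := isAffineHom_of_isAffine _
  haveI : ConnectedSpace (Groth.Agent.AV.TateBaseChange.bc K H).left :=
    Groth.L20.Unirat.connectedSpace_bc_field _ H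
  haveI : LocallyOfFiniteType (π.left ≫ A.hom) := by rw [Over.w π]; infer_instance
  haveI : LocallyOfFiniteType π.left := locallyOfFiniteType_of_comp π.left A.hom
  have hlL : ∀ n : ℕ, ((ℓ ^ n : ℕ) : L) ≠ 0 := fun n => by
    rw [Nat.cast_pow, ← map_natCast (algebraMap k L) ℓ]
    exact pow_ne_zero _ ((map_ne_zero _).2 hℓ)
  have hlk : ∀ n : ℕ, ((ℓ ^ n : ℕ) : k) ≠ 0 := fun n => by
    rw [Nat.cast_pow]
    exact pow_ne_zero _ hℓ
  let σ := sig (k := k) Ω K
  let θ₁ : (SGA7.pt (K := k) Ω ⟶ P) →* (SGA7.pt (K := k) K ⟶ P) :=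
    { toFun := fun x => σ ≫ x
      map_one' := MonObj.comp_one σ
      map_mul' := fun a b => MonObj.comp_mul σ a b }
  let θ₃ : (SGA7.pt (K := L) K ⟶ PL) →* (SGA7.pt (K := L) K ⟶ A) :=
    { toFun := fun x => x ≫ π
      map_one' := MonObj.one_comp π
      map_mul' := fun a b => MonObj.mul_comp a b π }
  let e := Φ (k := k) (L := L) K P
  let θ := (θ₃.comp e.toMonoidHom).comp θ₁
  have hH0 : ∀ n : ℕ, ∀ h : SGA7.pt (K := L) K ⟶ H, h ^ ℓ ^ n = 1 → h = 1 := fun n h hh =>
    eq_one_of_pow H K hH (hlL n) h hh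
  obtain ⟨E⟩ := nonempty_tateEquiv (A := P) (B := A) ℓ θ
    (fun n x hx hθ => by
      have hy : e (θ₁ x) ^ ℓ ^ n = 1 := by rw [← map_pow, ← map_pow, hx, map_one, map_one]
      obtain ⟨h, hh, -⟩ := hker.exists_lift (e (θ₁ x)) (toUnit _) ((hθ : e (θ₁ x) ≫ π = 1).trans Hom.one_def)
      have h1 : h = 1 := hH0 n h (by
        rw [← cancel_mono i, MonObj.pow_comp, hh, hy, MonObj.one_comp])
      have h2 : θ₁ x = 1 := e.injective (by rw [map_one, ← hh, h1, MonObj.one_comp])
      exact (cancel_epi σ).1 (h2.trans (MonObj.comp_one σ).symm))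
    (fun n a ha => by
      obtain ⟨y, hy⟩ := Groth.L08.WeilInsep.exists_lift_algClosed π a
      obtain ⟨h, hh, -⟩ := hker.exists_lift (y ^ ℓ ^ n) (toUnit _)
        (((MonObj.pow_comp y _ π).trans (hy.symm ▸ ha)).trans Hom.one_def)
      haveI := surjective_pow H (hlL n)
      haveI : LocallyOfFiniteType ((𝟙 H ^ ℓ ^ n : H ⟶ H).left ≫ H.hom) := by rw [Over.w]; infer_instance
      haveI : LocallyOfFiniteType (𝟙 H ^ ℓ ^ n : H ⟶ H).left := locallyOfFiniteType_of_comp _ H.hom
      obtain ⟨h', hh'⟩ := Groth.L08.WeilInsep.exists_lift_algClosed (𝟙 H ^ ℓ ^ n : H ⟶ H) h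
      rw [MonObj.comp_pow, Category.comp_id] at hh'
      let y' := y * (h' ≫ i)⁻¹
      have hy' : y' ^ ℓ ^ n = 1 := by
        rw [mul_pow, inv_pow, ← MonObj.pow_comp, hh', hh, mul_inv_cancel]
      have hyπ : y' ≫ π = a := by
        rw [MonObj.mul_comp, GrpObj.inv_comp, Category.assoc, hker.w, ← Category.assoc,
          toUnit_unique (h' ≫ toUnit H) (toUnit _), ← Hom.one_def, _root_.inv_one, _root_.mul_one, hy]
      obtain ⟨x, hx, hx'⟩ := exists_torsion_point Ω K (hlk n) (e.symm y') (by rw [← map_pow, hy', map_one])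
      refine ⟨x, hx, ?_⟩
      show e (σ ≫ x) ≫ π = a
      rw [hx', MulEquiv.apply_symm_apply, hyπ])
  obtain ⟨b⟩ := Groth.Agent.AV.TateRankGeom.nonempty_basis K ℓ
    (by rw [← map_natCast (algebraMap k L) ℓ]; exact (map_ne_zero _).2 hℓ) hg
  let b' := b.map E.symm
  haveI := Module.Free.of_basis b'
  exact ⟨inferInstance, Module.Finite.of_basis b', by rw [Module.finrank_eq_card_basis b', Fintype.card_fin]⟩

end Groth.Agent.S17701
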