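import Groth.Statements.S17705
import Groth.Agent.L26.Neron.PseudoNeron

set_option autoImplicit false
universe u
open CategoryTheory CategoryTheory.Limits MonoidalCategory CartesianMonoidalCategory AlgebraicGeometry MonObj
open Neron

namespace Groth.Agent.S17705

open Groth.L26.CompGroup Groth.L26.PseudoNeron

/-- Let R be an excellent discrete valuation ring of equal characteristic p > 0 which is strictly
henselian (henselian with separably closed residue field), K its fraction field, and P a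
pseudo-abelian variety over K, that is a smooth connected commutative K-group scheme of finite type
all of whose smooth connected affine closed subgroup schemes are trivial (unit section an
isomorphism). Let 0 → E → P → V → 0 be an exact sequence of K-group schemes in which E is an abelian
variety, embedded as a closed subgroup and equal to the kernel of the surjective homomorphism P → V,
and V is smooth, connected, affine and unipotent (no non-trivial subtorus over an algebraic closure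
of K); E is then the maximal abelian subvariety of P. Let N_E and N_P be the Néron models of E and P
over R, with group isomorphisms of their generic fibres onto E and P, and g : N_E → N_P the
homomorphism whose generic fibre is the inclusion E → P. Then for every prime ℓ invertible in R the
map induced by g on groups of connected components is an isomorphism on ℓ-primary parts; since R is
strictly henselian this reads on R-points, writing N⁰(R) for the sections meeting the connected
component of the unit in the special fibre: (a) if x ∈ N_E(R) has some x^(ℓ^m) in N_E⁰(R) and g(x) ∈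
N_P⁰(R) then x ∈ N_E⁰(R); (b) every y ∈ N_P(R) with some y^(ℓ^m) in N_P⁰(R) satisfies y · g(x)⁻¹ ∈
N_P⁰(R) for some x ∈ N_E(R) with some x^(ℓ^m') in N_E⁰(R). (The published statement is for any
excellent R, as an isomorphism of étale κ-group schemes; it reduces to this case by Galois descent.) -/
theorem result
    (R K : Type u) [CommRing R] [IsDomain R] [IsDiscreteValuationRing R] (hR : EGA4.IsExcellent R)
    (p : ℕ) (hp : p.Prime) [CharP R p] [HenselianLocalRing R] [IsSepClosed (IsLocalRing.ResidueField R)]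
    [Field K] [Algebra R K] [IsFractionRing R K]
    (P : Over (Spec (CommRingCat.of K))) [GrpObj P] [IsCommMonObj P]
    [Smooth P.hom] [LocallyOfFiniteType P.hom] [QuasiCompact P.hom] [ConnectedSpace ↥P.left]
    (hP : ∀ (H : Over (Spec (CommRingCat.of K))) [GrpObj H] (j : H ⟶ P) [IsMonHom j],
      IsClosedImmersion j.left → Smooth H.hom → ConnectedSpace ↥H.left → IsAffine H.left → IsIso η[H])
    (E V : Over (Spec (CommRingCat.of K))) [GrpObj E] [GrpObj V]
    [IsProper E.hom] [GeometricallyIntegral E.hom]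
    (jE : E ⟶ P) [IsMonHom jE] (πV : P ⟶ V) [IsMonHom πV]
    (hjE : IsClosedImmersion jE.left) (hker : AlgGrp.IsKernel jE πV) (hπV : Surjective πV.left)
    [Smooth V.hom] [ConnectedSpace ↥V.left] [IsAffine V.left]
    (hV : Red.HasNoSubtorus (AlgebraicClosure K) (Red.bc (Spec.map (CommRingCat.ofHom (algebraMap K (AlgebraicClosure K)))) V))
    (NE NP : Over (Spec (CommRingCat.of R))) [GrpObj NE] [GrpObj NP]
    (hNE : SGA7.IsNeron R K NE) (hNP : SGA7.IsNeron R K NP)
    (eE : Red.bc (Spec.map (CommRingCat.ofHom (algebraMap R K))) NE ≅ E) [IsMonHom eE.hom] (eP : Red.bc (Spec.map (CommRingCat.ofHom (algebraMap R K))) NP ≅ P) [IsMonHom eP.hom]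
    (g : NE ⟶ NP) [IsMonHom g] (hg : (Over.pullback (Spec.map (CommRingCat.ofHom (algebraMap R K)))).map g ≫ eP.hom = eE.hom ≫ jE)
    (ℓ : ℕ) (hℓ : ℓ.Prime) (hℓu : IsUnit (ℓ : R)) :
    (∀ x : 𝟙_ (Over (Spec (CommRingCat.of R))) ⟶ NE, (∃ m : ℕ, x ^ (ℓ ^ m) ∈ SGA7.secUnitComp R NE) →
        x ≫ g ∈ SGA7.secUnitComp R NP → x ∈ SGA7.secUnitComp R NE) ∧
      ∀ y : 𝟙_ (Over (Spec (CommRingCat.of R))) ⟶ NP, (∃ m : ℕ, y ^ (ℓ ^ m) ∈ SGA7.secUnitComp R NP) →
        ∃ x : 𝟙_ (Over (Spec (CommRingCat.of R))) ⟶ NE, (∃ m : ℕ, x ^ (ℓ ^ m) ∈ SGA7.secUnitComp R NE) ∧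
          y * (x ≫ g)⁻¹ ∈ SGA7.secUnitComp R NP := by
  haveI : Fact p.Prime := ⟨hp⟩
  haveI : CharP K p := charP_of_injective_algebraMap (IsFractionRing.injective R K) p
  haveI : Smooth NP.hom := hNP.1
  haveI : IsClosedImmersion jE.left := hjE
  obtain ⟨N, h, hh, hhj, hjh⟩ := Groth.L26.PPow.exists_retract p jE πV hker hV
  haveI := hh
  haveI : IsMonHom eE.inv := inferInstance
  obtain ⟨H, hH, hHK⟩ := exists_extend hNE (eP.hom ≫ h ≫ eE.inv)
  haveI := hH
  have hg' := (Iso.eq_comp_inv eP).2 hg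
  rw [Category.assoc] at hg'
  have hgH : g ≫ H = (𝟙 NE) ^ (p ^ N) := comp_eq_pow hNE eE eP hg' hHK hjh
  have hHg : H ≫ g = (𝟙 NP) ^ (p ^ N) := comp_eq_pow hNP eP eE hHK hg' hhj
  have hlp : ℓ ≠ p := by
    rintro rfl
    exact hℓu.ne_zero (CharP.cast_eq_zero R ℓ)
  have hbez : ∀ m : ℕ, ∃ a b : ℤ, (1 : ℤ) = ((p ^ N : ℕ) : ℤ) * a + ((ℓ ^ m : ℕ) : ℤ) * b := fun m => by
    refine ⟨Nat.gcdA (p ^ N) (ℓ ^ m), Nat.gcdB (p ^ N) (ℓ ^ m), ?_⟩
    rw [← Nat.gcd_eq_gcd_ab, Nat.Coprime.gcd_eq_one (Nat.Coprime.pow N m ((Nat.coprime_primes hp hℓ).2 hlp.symm))]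
    rfl
  let G : (𝟙_ (Over (Spec (CommRingCat.of R))) ⟶ NE) →* (𝟙_ (Over (Spec (CommRingCat.of R))) ⟶ NP) :=
    MonoidHom.mk' (fun z => z ≫ g) fun a b => MonObj.mul_comp _ _ _
  let G' : (𝟙_ (Over (Spec (CommRingCat.of R))) ⟶ NP) →* (𝟙_ (Over (Spec (CommRingCat.of R))) ⟶ NE) :=
    MonoidHom.mk' (fun z => z ≫ H) fun a b => MonObj.mul_comp _ _ _
  have hGG : ∀ z, G' (G z) = z ^ (p ^ N) := fun z => by
    show (z ≫ g) ≫ H = _
    rw [Category.assoc, hgH, MonObj.comp_pow, Category.comp_id]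
  have hGG' : ∀ z, G (G' z) = z ^ (p ^ N) := fun z => by
    show (z ≫ H) ≫ g = _
    rw [Category.assoc, hHg, MonObj.comp_pow, Category.comp_id]
  have hGm : ∀ z ∈ unitSub NE, G z ∈ unitSub NP := fun z hz => comp_mem NE g hz
  have hG'm : ∀ z ∈ unitSub NP, G' z ∈ unitSub NE := fun z hz => comp_mem NP H hz
  refine ⟨fun x ⟨m, hm⟩ hx => ?_, fun y ⟨m, hm⟩ => ?_⟩
  · obtain ⟨a, b, hab⟩ := hbez m
    show x ∈ unitSub NE
    rw [← zpow_one x, hab, zpow_add, zpow_mul, zpow_mul, zpow_natCast, zpow_natCast]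
    refine mul_mem (zpow_mem ?_ a) (zpow_mem hm b)
    rw [← hGG x]
    exact hG'm _ hx
  · obtain ⟨a, b, hab⟩ := hbez m
    refine ⟨(G' y) ^ a, ⟨m, ?_⟩, ?_⟩
    · show ((G' y) ^ a) ^ (ℓ ^ m) ∈ unitSub NE
      rw [← zpow_natCast, ← zpow_mul, mul_comm, zpow_mul, zpow_natCast, ← map_pow]
      exact zpow_mem (hG'm _ hm) a
    · show y * (G ((G' y) ^ a))⁻¹ ∈ unitSub NP
      rw [map_zpow, hGG']
      have hc : y * ((y ^ (p ^ N)) ^ a)⁻¹ = (y ^ (ℓ ^ m)) ^ b := by
        rw [← zpow_natCast y (p ^ N), ← zpow_natCast y (ℓ ^ m), ← zpow_mul, ← zpow_mul, ← zpow_neg, ← zpow_one_add]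
        congr 1
        linarith
      rw [hc]
      exact zpow_mem hm b

end Groth.Agent.S17705
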