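import Groth.Statements.S1771
import Groth.Agent.L10.H1Finite
-- import your own Groth.Agent.* helpers here

set_option autoImplicit false
universe u
open LocCoh

namespace Groth.Agent.S1771

/-- Let A be a Noetherian ring which is Nagata and universally catenary, I an ideal of A and M a finite
A-module. Suppose that for every associated prime p of M not containing I and every prime q
containing both p and I, the longest chain of primes from p to q has length at least 2. Then the
local cohomology module H^1_I(M) is a finite A-module. The published statement asserts that the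
pushforward of a coherent sheaf from the open complement of V(I) is coherent; this is its affine
form, stated as finiteness of H^1_I(M). -/
theorem result (A : Type u) [CommRing A] [IsNoetherianRing A] (hN : CAlg.IsNagata A) (hU : CAlg.IsUniversallyCatenary A) (I : Ideal A) (M : Type u) [AddCommGroup M] [Module A M] [Module.Finite A M] (h : ∀ (p q : PrimeSpectrum A) (hpq : p ≤ q), p.asIdeal ∈ associatedPrimes A M → ¬ I ≤ p.asIdeal → I ≤ q.asIdeal → (2 : ℕ∞) ≤ Order.height (⟨q, hpq⟩ : Set.Ici p)) : Module.Finite A (LocCoh.H I 1 M) := by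
  refine Groth.L10.H1Finite.finite_H1_of_ass I _ M le_rfl fun p hp hI => ?_
  haveI := hp.1
  rw [← Groth.L10.H1Finite.finite_H1_quot_iff]
  haveI : Module.Finite (A ⧸ p) (integralClosure (A ⧸ p) (FractionRing (A ⧸ p))) :=
    hN.2 p (FractionRing (A ⧸ p)) inferInstance
  refine Groth.L10.H1Finite.finite_H1_of_finite_normalization ⟨inferInstance, fun S _ _ hS => ?_⟩ _ ?_
  · letI : Algebra A S := ((algebraMap (A ⧸ p) S).comp (Ideal.Quotient.mk p)).toAlgebra
    haveI : IsScalarTower A (A ⧸ p) S := IsScalarTower.of_algebraMap_eq fun _ => rfl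
    exact hU.2 S (Algebra.FiniteType.trans
      (Algebra.FiniteType.of_surjective (Algebra.ofId A (A ⧸ p)) Ideal.Quotient.mk_surjective) hS)
  rcases eq_or_ne (I.map (Ideal.Quotient.mk p)) ⊤ with ht | ht
  · rw [ht, Ideal.height_top]
    exact le_top
  rw [Ideal.height_eq_inf_minimalPrimes]
  refine le_iInf₂ fun Q hQ => ?_
  haveI := hQ.1.1
  let q : PrimeSpectrum A := ⟨Q.comap (Ideal.Quotient.mk p), inferInstance⟩
  have hpq : p ≤ q.asIdeal := Ideal.mk_ker.ge.trans (Ideal.comap_mono bot_le)
  refine (h ⟨p, hp.1⟩ q hpq hp hI (Ideal.map_le_iff_le_comap.1 hQ.1.2)).trans (le_of_eq ?_)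
  have hh := (Groth.L04.LC.orderHeight_Ici ⟨p, hp.1⟩ q hpq)
  rw [show q.asIdeal.map (Ideal.Quotient.mk p) = Q from Ideal.map_comap_of_surjective _ Ideal.Quotient.mk_surjective Q] at hh
  exact hh

end Groth.Agent.S1771
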