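import Groth.Statements.S17719
import Groth.Agent.L01.NodeUnits
import Mathlib.RingTheory.Localization.BaseChange
import Mathlib.RingTheory.RegularLocalRing.Defs
import Mathlib.RingTheory.Localization.FractionRing

set_option autoImplicit false
universe u
open scoped TensorProduct
open CAlg

namespace Groth.Agent.S17719

open MvPowerSeries in
variable {_unused : Unit}
open scoped TensorProduct

theorem exists_mul_eq {R A : Type u} [CommRing R] [IsDomain R] [CommRing A] [Algebra R A] (a : A)
    (ha : IsUnit (a ⊗ₜ[R] (1 : FractionRing R) : A ⊗[R] FractionRing R)) :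
    ∃ (g : A) (d : R), d ≠ 0 ∧ a * g = algebraMap R A d := by
  let φ : A →ₗ[R] A ⊗[R] FractionRing R := (TensorProduct.mk R A (FractionRing R)).flip 1
  haveI : IsLocalizedModule (nonZeroDivisors R) φ := by
    have h := TensorProduct.isBaseChange R A (FractionRing R)
    have h1 := (isLocalizedModule_iff_isBaseChange (nonZeroDivisors R) (FractionRing R) _).mpr h
    rw [show φ = (TensorProduct.comm R (FractionRing R) A).toLinearMap ∘ₗ (TensorProduct.mk R (FractionRing R) A 1) from rfl]
    exact IsLocalizedModule.of_linearEquiv (nonZeroDivisors R) _ _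
  obtain ⟨w, hw⟩ := ha.exists_right_inv
  obtain ⟨⟨g, e⟩, he⟩ := IsLocalizedModule.surj (nonZeroDivisors R) φ w
  have h : φ (a * g) = φ (algebraMap R A (e : R)) := by
    show (a * g) ⊗ₜ[R] (1 : FractionRing R) = algebraMap R A (e : R) ⊗ₜ[R] 1
    rw [show (a * g) ⊗ₜ[R] (1 : FractionRing R) = (a ⊗ₜ 1) * φ g by
      show _ = (a ⊗ₜ[R] (1 : FractionRing R)) * (g ⊗ₜ 1)
      rw [Algebra.TensorProduct.tmul_mul_tmul, one_mul], ← he, Submonoid.smul_def, mul_smul_comm, hw,
      Algebra.algebraMap_eq_smul_one, ← TensorProduct.smul_tmul']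
    rfl
  obtain ⟨c, hc⟩ := IsLocalizedModule.exists_of_eq (S := nonZeroDivisors R) h
  refine ⟨(c : R) • g, (c : R) * (e : R), mul_ne_zero (nonZeroDivisors.ne_zero c.2) (nonZeroDivisors.ne_zero e.2), ?_⟩
  rw [mul_smul_comm, map_mul, ← Algebra.smul_def]
  exact hc

open scoped TensorProduct
open MvPowerSeries in

/-- Let R be a regular local ring, complete for its maximal ideal, with fraction field K; let r be a
non-zero element of R and A the quotient of the power series ring in two variables x, y over R by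
the ideal generated by xy − r. If an element a of A maps to a unit of A ⊗_R K, then there are an
element s of R, natural numbers m and n with mn = 0 and a unit u of A with a = s xⁿ yᵐ u. -/
theorem result
    (R : Type u) [CommRing R] [IsRegularLocalRing R]
    [IsAdicComplete (IsLocalRing.maximalIdeal R) R]
    (r : R) (hr : r ≠ 0)
    (a : (MvPowerSeries (Fin 2) R ⧸ Ideal.span {(X 0 * X 1 - C r : MvPowerSeries (Fin 2) R)}))
    (ha : IsUnit (a ⊗ₜ[R] (1 : FractionRing R) :
      (MvPowerSeries (Fin 2) R ⧸ Ideal.span {(X 0 * X 1 - C r : MvPowerSeries (Fin 2) R)}) ⊗[R] FractionRing R)) :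
    ∃ (s : R) (m n : ℕ) (u : (MvPowerSeries (Fin 2) R ⧸ Ideal.span {(X 0 * X 1 - C r : MvPowerSeries (Fin 2) R)})ˣ),
      m * n = 0 ∧ a = Ideal.Quotient.mk _ (C s * X 0 ^ n * X 1 ^ m) * (u : (MvPowerSeries (Fin 2) R ⧸ Ideal.span {(X 0 * X 1 - C r : MvPowerSeries (Fin 2) R)})) := by
  by_cases hru : IsUnit r
  · have htop : (Ideal.span {(X 0 * X 1 - C r : MvPowerSeries (Fin 2) R)}) = ⊤ :=
      Ideal.span_singleton_eq_top.mpr (MvPowerSeries.isUnit_iff_constantCoeff.mpr (by simpa using hru))
    haveI := Ideal.Quotient.subsingleton_iff.mpr htop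
    exact ⟨0, 0, 0, 1, rfl, Subsingleton.elim _ _⟩
  obtain ⟨hdom, hufd⟩ : ∃ _ : IsDomain R, UniqueFactorizationMonoid R :=
    haveI := Groth.L01.isDomain_of_regular R
    ⟨inferInstance, Groth.L10.RegUFD.isUFD R⟩
  obtain ⟨g, d, hd, hg⟩ := exists_mul_eq a ha
  obtain ⟨F, rfl⟩ := Ideal.Quotient.mk_surjective a
  obtain ⟨G, rfl⟩ := Ideal.Quotient.mk_surjective g
  rw [← map_mul, show algebraMap R (MvPowerSeries (Fin 2) R ⧸ Ideal.span {(X 0 * X 1 - C r : MvPowerSeries (Fin 2) R)}) d =
    Ideal.Quotient.mk _ (C d) from rfl, Ideal.Quotient.eq] at hg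
  obtain ⟨s, m, n, U, hU, hmn, hF⟩ := Groth.L01.NodeUnits.main (R := R) (r := r) hru hr hd hg
  refine ⟨s, m, n, (hU.map (Ideal.Quotient.mk _)).unit, hmn, ?_⟩
  rw [IsUnit.unit_spec, ← map_mul, Ideal.Quotient.eq]
  exact hF

end Groth.Agent.S17719
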