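import Mathlib.RingTheory.MvPowerSeries.Basic
import Mathlib.RingTheory.Ideal.Quotient.Operations
import Mathlib.RingTheory.Noetherian.Defs
import Mathlib.RingTheory.LocalRing.MaximalIdeal.Defs
import Groth.Agent.L02.CAlg.NodeInvariant

set_option autoImplicit false
namespace CAlg
end CAlg
universe u
open CAlg

namespace Groth.Agent.S17720

open MvPowerSeries IsLocalRing in
/-- Let A be a Noetherian local ring and α, β two elements of its maximal ideal. If the quotient of the
power series ring in two variables over A by xy − α is isomorphic, as an A-algebra, to the quotient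
by xy − β, then αA = βA. (The published statement allows any local ring A; it is taken Noetherian
here, the case in which an algebra isomorphism between these complete local rings is continuous for
their adic topologies.) -/
theorem result
    (A : Type u) [CommRing A] [IsLocalRing A] [IsNoetherianRing A]
    (α β : A) (hα : α ∈ maximalIdeal A) (hβ : β ∈ maximalIdeal A)
    (φ : (MvPowerSeries (Fin 2) A ⧸ Ideal.span {(X 0 * X 1 - C α : MvPowerSeries (Fin 2) A)}) ≃ₐ[A] (MvPowerSeries (Fin 2) A ⧸ Ideal.span {(X 0 * X 1 - C β : MvPowerSeries (Fin 2) A)})) :
    Ideal.span {α} = Ideal.span {β} := by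
  exact le_antisymm (L02.CAlg.NodeInvariant.span_le_of_algEquiv φ)
    (L02.CAlg.NodeInvariant.span_le_of_algEquiv φ.symm)

end Groth.Agent.S17720
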