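import Mathlib.RingTheory.DiscreteValuationRing.Basic
import Mathlib.RingTheory.AdicCompletion.Basic
import Mathlib.RingTheory.PowerSeries.Basic
import Mathlib.RingTheory.Localization.FractionRing
import Mathlib.Algebra.Polynomial.Eval.Defs
import Mathlib.RingTheory.Polynomial.UniqueFactorization
import Mathlib.RingTheory.DiscreteValuationRing.Basic
import Mathlib.Tactic.Ring
import Mathlib.RingTheory.PowerSeries.NoZeroDivisors
import Mathlib.RingTheory.LocalRing.ResidueField.Basic
import Mathlib.RingTheory.UniqueFactorizationDomain.Multiplicity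

set_option autoImplicit false
namespace CAlg
end CAlg
universe u
open CAlg

namespace Groth.Agent.S17721

open Polynomial IsLocalRing in
/-- Let R be a complete discrete valuation ring with fraction field K, and f a polynomial over R with
non-zero constant term a₀ such that a₀ does not divide some coefficient of f of positive degree
(equivalently, the Newton polygon of f has a side of negative slope). Let b be the power series over
K with b · f = a₀, the expansion of the geometric series in 1 − f/a₀. Then the valuations of the
coefficients b_j are not bounded below: for every non-zero c in R there is an index j with c · b_j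
outside R. -/
theorem result
    (R : Type u) [CommRing R] [IsDomain R] [IsDiscreteValuationRing R]
    [IsAdicComplete (maximalIdeal R) R]
    (K : Type u) [Field K] [Algebra R K] [IsFractionRing R K]
    (f : R[X]) (h0 : f.coeff 0 ≠ 0) (hslope : ∃ i : ℕ, 0 < i ∧ ¬ (f.coeff 0 ∣ f.coeff i))
    (b : PowerSeries K)
    (hb : b * ((f.map (algebraMap R K) : K[X]) : PowerSeries K) = PowerSeries.C (algebraMap R K (f.coeff 0))) :
    ∀ c : R, c ≠ 0 → ∃ j : ℕ, algebraMap R K c * PowerSeries.coeff j b ∉ (algebraMap R K).range := by
  intro c hc
  by_contra! hall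
  choose g hg using fun j => RingHom.mem_range.mp (hall j)
  obtain ⟨π, hπ⟩ := IsDiscreteValuationRing.exists_irreducible R
  have hm : maximalIdeal R = Ideal.span {π} := (IsDiscreteValuationRing.irreducible_iff_uniformizer π).mp hπ
  have hf0 : f ≠ 0 := fun h => h0 (by simp [h])
  have hCπ : ¬ IsUnit (Polynomial.C π) := fun h => hπ.not_isUnit (Polynomial.isUnit_C.mp h)
  obtain ⟨v, f₁, hf₁, rfl⟩ := WfDvdMonoid.max_power_factor' hf0 hCπ
  have hf₁0 : f₁.coeff 0 ∈ maximalIdeal R := by
    intro hu
    obtain ⟨i, _, hi⟩ := hslope
    simp only [← map_pow, coeff_C_mul] at hi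
    exact hi (mul_dvd_mul_left _ hu.dvd)
  obtain ⟨i₁, hi₁⟩ : ∃ i, f₁.coeff i ∉ maximalIdeal R := by
    by_contra! h
    exact hf₁ ((Polynomial.C_dvd_iff_dvd_coeff _ _).mpr fun i => Ideal.mem_span_singleton.mp (hm ▸ h i))
  let F : PowerSeries R := (f₁ : PowerSeries R)
  let Γ : PowerSeries R := PowerSeries.C (π ^ v) * PowerSeries.mk g
  have hinj := IsFractionRing.injective R K
  have hΓ : Γ * F = PowerSeries.C (c * ((Polynomial.C π) ^ v * f₁).coeff 0) := by
    apply PowerSeries.map_injective (algebraMap R K) hinj
    have h1 : PowerSeries.map (algebraMap R K) (PowerSeries.mk g) = PowerSeries.C (algebraMap R K c) * b := by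
      ext n; simp [hg]
    simp only [Γ, F, map_mul, PowerSeries.map_C, h1, ← Polynomial.polynomial_map_coe]
    rw [← hb, Polynomial.map_mul, Polynomial.map_pow, Polynomial.map_C, Polynomial.coe_mul,
      Polynomial.coe_pow, Polynomial.coe_C, map_pow, map_pow]
    ring
  have key : ∀ n, ∃ (G : PowerSeries R) (e : R), Γ = PowerSeries.C (π ^ n) * G ∧ G * F = PowerSeries.C e := by
    intro n
    induction n with
    | zero => exact ⟨Γ, _, by simp, hΓ⟩
    | succ n ih =>
      obtain ⟨G, e, hG, he⟩ := ih
      have hmap := congrArg (PowerSeries.map (residue R)) he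
      rw [map_mul, PowerSeries.map_C] at hmap
      have hFne : PowerSeries.map (residue R) F ≠ 0 := fun h => by
        have := congrArg (PowerSeries.coeff i₁) h
        rw [PowerSeries.coeff_map, map_zero, residue_eq_zero_iff, Polynomial.coeff_coe] at this
        exact hi₁ this
      have he0 : residue R e = 0 := by
        have := congrArg PowerSeries.constantCoeff hmap
        rw [map_mul, PowerSeries.constantCoeff_C, ← PowerSeries.coeff_zero_eq_constantCoeff_apply,
          ← PowerSeries.coeff_zero_eq_constantCoeff_apply, PowerSeries.coeff_map (residue R) 0 F,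
          Polynomial.coeff_coe, (residue_eq_zero_iff _).mpr hf₁0, mul_zero] at this
        exact this.symm
      rw [he0, map_zero] at hmap
      have hG0 := (mul_eq_zero.mp hmap).resolve_right hFne
      have hd : ∀ j, π ∣ PowerSeries.coeff j G := fun j => by
        have := congrArg (PowerSeries.coeff j) hG0
        rw [PowerSeries.coeff_map, map_zero, residue_eq_zero_iff, hm, Ideal.mem_span_singleton] at this
        exact this
      choose G' hG' using hd
      have hGG : G = PowerSeries.C π * PowerSeries.mk G' := by ext j; simp [hG']
      refine ⟨PowerSeries.mk G', PowerSeries.coeff 0 (PowerSeries.mk G' * F), ?_, ?_⟩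
      · rw [hG, hGG, pow_succ, map_mul, mul_assoc]
      · ext j
        rw [PowerSeries.coeff_C]
        split_ifs with hj
        · rw [hj]
        · have := congrArg (PowerSeries.coeff j) he
          rw [hGG, mul_assoc, PowerSeries.coeff_C_mul, PowerSeries.coeff_C, if_neg hj] at this
          exact (mul_eq_zero.mp this).resolve_left hπ.ne_zero
  have hΓ0 : Γ = 0 := PowerSeries.ext fun j => by
    rw [map_zero]
    refine IsHausdorff.haus (inferInstance : IsHausdorff (maximalIdeal R) R) _ fun n => ?_
    obtain ⟨G, e, hG, _⟩ := key n
    rw [SModEq.zero, smul_eq_mul, Ideal.mul_top, hG, PowerSeries.coeff_C_mul, hm, Ideal.span_singleton_pow]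
    exact Ideal.mul_mem_right _ _ (Ideal.mem_span_singleton_self _)
  rw [hΓ0, zero_mul] at hΓ
  exact mul_ne_zero hc h0 (by simpa using (congrArg (PowerSeries.coeff 0) hΓ).symm)

end Groth.Agent.S17721
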