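import Groth.Statements.S17722
import Mathlib.RingTheory.Flat.FaithfullyFlat.Algebra
import Mathlib.RingTheory.LocalRing.MaximalIdeal.Basic
import Mathlib.RingTheory.Noetherian.Basic
import Mathlib.RingTheory.PrincipalIdealDomain

set_option autoImplicit false
universe u
open CAlg

namespace Groth.Agent.S17722

/-- Let R → R' be a faithfully flat ring map between Noetherian integrally closed local domains, and p
an ideal of R. If the ideal pR' generated by the image of p is principal, then p is principal. (The
second assertion of the published lemma, descent of unique factorization, is not part of this row.) -/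
theorem result
    (R R' : Type u) [CommRing R] [CommRing R'] [IsDomain R] [IsDomain R']
    [IsNoetherianRing R] [IsNoetherianRing R'] [IsLocalRing R] [IsLocalRing R']
    [IsIntegrallyClosed R] [IsIntegrallyClosed R']
    [Algebra R R'] [Module.FaithfullyFlat R R']
    (p : Ideal R) (hp : (p.map (algebraMap R R')).IsPrincipal) :
    p.IsPrincipal := by
  classical
  obtain ⟨a, ha⟩ := hp.principal
  have ha' : p.map (algebraMap R R') = Ideal.span {a} := ha
  by_cases ha0 : a = 0
  · subst ha0
    rw [Ideal.span_singleton_zero, Ideal.map_eq_bot_iff_of_injective (FaithfulSMul.algebraMap_injective R R')] at ha'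
    subst ha'
    exact ⟨⟨0, by simp⟩⟩
  obtain ⟨x, hx, u, hu⟩ : ∃ x ∈ p, ∃ u : R', IsUnit u ∧ algebraMap R R' x = u * a := by
    by_contra hcon
    push Not at hcon
    have h1 : p.map (algebraMap R R') ≤ IsLocalRing.maximalIdeal R' * Ideal.span {a} := by
      rw [Ideal.map_le_iff_le_comap]
      intro x hx
      obtain ⟨u, hu⟩ := Ideal.mem_span_singleton'.1 (ha' ▸ Ideal.mem_map_of_mem _ hx)
      rw [Ideal.mem_comap, ← hu]
      refine Ideal.mul_mem_mul ?_ (Ideal.mem_span_singleton_self a)
      exact fun hunit => hcon x hx u hunit hu.symm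
    have h2 : a ∈ IsLocalRing.maximalIdeal R' * Ideal.span {a} := h1 (ha' ▸ Ideal.mem_span_singleton_self a)
    obtain ⟨c, hc, hca⟩ := Ideal.mem_mul_span_singleton.1 h2
    have hc1 : c = 1 := mul_right_cancel₀ ha0 (by rw [hca, one_mul])
    exact (IsLocalRing.maximalIdeal.isMaximal R').ne_top ((Ideal.eq_top_iff_one _).2 (hc1 ▸ hc))
  refine ⟨⟨x, ?_⟩⟩
  show p = Ideal.span {x}
  refine le_antisymm ?_ ((Ideal.span_singleton_le_iff_mem _).2 hx)
  rw [← Ideal.comap_map_eq_self_of_faithfullyFlat (B := R') (Ideal.span {x})]
  intro y hy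
  rw [Ideal.mem_comap, Ideal.map_span, Set.image_singleton, hu.2, Ideal.span_singleton_mul_left_unit hu.1, ← ha']
  exact Ideal.mem_map_of_mem _ hy


end Groth.Agent.S17722
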