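import Groth.Statements.S17723
import Groth.Agent.L15.BlowUp
import Mathlib.Tactic.Ring
import Mathlib.Tactic.LinearCombination
import Mathlib.Tactic.FieldSimp
import Mathlib.Algebra.BigOperators.Ring.Finset

set_option autoImplicit false
universe u
open LabGraph

namespace Groth.Agent.S17723

/-- Let G be a finite connected multigraph with endpoint map ends and edge labels l taking positive
integer values. We say g : V → ℤ is elementary-Cartier if, for some integer n ≥ 1, all values of g
are multiples of n and, for each edge whose label fails to divide n, g agrees at its two endpoints
(equivalently, once the edges with label dividing n are removed, g takes a single value on each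
connected piece of what remains). Then every Cartier function f (for each edge, the label divides
the difference of the values of f at its endpoints) lies in the ℤ-span of the elementary-Cartier
functions. -/
theorem result
    {V E : Type u} [Fintype V] [Fintype E] [DecidableEq V] [DecidableEq E]
    (ends : E → V × V) (l : E → ℕ) (hl : ∀ e, 0 < l e) (hconn : LabGraph.Connected ends)
    (f : V → ℤ) (hf : LabGraph.IsCartier ends l f) :
    f ∈ Submodule.span ℤ {g : V → ℤ | ∃ n : ℕ, 0 < n ∧ (∀ v, (n : ℤ) ∣ g v) ∧
      ∀ e, ¬ (l e ∣ n) → g (ends e).1 = g (ends e).2} := by
  exact Groth.L15.Cycles.mem_span_elementary hl hf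

end Groth.Agent.S17723
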