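import Groth.Statements.S17725
import Mathlib.AlgebraicGeometry.Noetherian
import Mathlib.Topology.Sober
import Mathlib.AlgebraicGeometry.Properties

set_option autoImplicit false
universe u
open SpecSp

namespace Groth.Agent.S17725

open AlgebraicGeometry in
variable {_unused : Unit}

theorem eqvGen_specializes {X : Type u} [TopologicalSpace X] [TopologicalSpace.NoetherianSpace X] [QuasiSober X]
    [ConnectedSpace X] (p q : X) : Relation.EqvGen (fun x y : X => x ⤳ y) p q := by
  classical
  let C : Set X := {z | Relation.EqvGen (fun x y : X => x ⤳ y) p z}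
  have hgen : ∀ Z ∈ irreducibleComponents X, ∀ z ∈ Z, ∀ w ∈ Z, Relation.EqvGen (fun x y : X => x ⤳ y) z w := by
    intro Z hZ z hz w hw
    have hη := hZ.1.isGenericPoint_genericPoint_closure
    rw [(isClosed_of_mem_irreducibleComponents Z hZ).closure_eq] at hη
    exact .trans _ _ _ (.symm _ _ (.rel _ _ (hη.specializes hz))) (.rel _ _ (hη.specializes hw))
  have hfin := TopologicalSpace.NoetherianSpace.finite_irreducibleComponents (α := X)
  have key : ∀ D : Set X, (∀ z ∈ D, ∀ w, Relation.EqvGen (fun x y : X => x ⤳ y) z w → w ∈ D) → IsClosed D := by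
    intro D hD
    have : D = ⋃ Z ∈ {Z ∈ irreducibleComponents X | Z ⊆ D}, Z := by
      refine Set.Subset.antisymm (fun z hz => ?_) (Set.iUnion₂_subset fun Z hZ => hZ.2)
      refine Set.mem_biUnion ⟨irreducibleComponent_mem_irreducibleComponents z, fun w hw => hD z hz w
        (hgen _ (irreducibleComponent_mem_irreducibleComponents z) z mem_irreducibleComponent w hw)⟩ mem_irreducibleComponent
    rw [this]
    exact (hfin.subset fun Z hZ => hZ.1).isClosed_biUnion fun Z hZ => isClosed_of_mem_irreducibleComponents Z hZ.1
  have h1 : IsClosed C := key C fun z hz w hw => .trans _ _ _ hz hw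
  have h2 : IsClosed Cᶜ := key Cᶜ fun z hz w hw hwC => hz (.trans _ _ _ hwC (.symm _ _ hw))
  rcases isClopen_iff.mp ⟨h1, isClosed_compl_iff.mp h2⟩ with h | h
  · exact absurd (show p ∈ C from .refl _) (h ▸ Set.notMem_empty p)
  · exact (h ▸ Set.mem_univ q : q ∈ C)

open SpecSp in
open AlgebraicGeometry in

/-- In a connected Noetherian scheme any two points p, q are linked by a finite chain of points p = x₁,
…, xₙ = q such that for each i one of x_i, x_{i+1} is a specialization of the other; equivalently, p
and q are related by the equivalence relation generated by the specialization relation. -/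
theorem result
    (X : Scheme.{u}) [IsNoetherian X] [ConnectedSpace X] (p q : X) :
    Relation.EqvGen (fun x y : X => x ⤳ y) p q := by
  exact eqvGen_specializes p q

end Groth.Agent.S17725
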