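import Groth.Statements.S17726
import Mathlib.Tactic

set_option autoImplicit false
universe u
open CAlg

namespace Groth.Agent.S17726

/-- Let f and g be non-zero-divisors of a commutative ring A, not both units; think of them as local
equations, at a point of the union of the supports, of two effective Cartier divisors E and D. If
the ideals generated by g^{m₁} and f^{n₁} coincide, and likewise for g^{m₂} and f^{n₂}, then m₁ n₂ =
m₂ n₁. So all pairs (m, n) with m D = n E locally at the point are proportional, and the saturation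
of the monoid they form is generated by a single element. -/
theorem result
    (A : Type u) [CommRing A] (f g : A)
    (hf : f ∈ nonZeroDivisors A) (hg : g ∈ nonZeroDivisors A) (hfg : ¬ (IsUnit f ∧ IsUnit g))
    (m₁ n₁ m₂ n₂ : ℕ)
    (h₁ : Ideal.span {g ^ m₁} = Ideal.span {f ^ n₁})
    (h₂ : Ideal.span {g ^ m₂} = Ideal.span {f ^ n₂}) :
    m₁ * n₂ = m₂ * n₁ := by
  have key : ∀ m n : ℕ, Ideal.span {g ^ m} = Ideal.span {f ^ n} → ∃ a, IsUnit a ∧ g ^ m = f ^ n * a := by
    intro m n h
    obtain ⟨a, ha⟩ := Ideal.span_singleton_le_span_singleton.mp h.le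
    obtain ⟨c, hc⟩ := Ideal.span_singleton_le_span_singleton.mp h.ge
    refine ⟨a, IsUnit.of_mul_eq_one c ((mul_cancel_left_mem_nonZeroDivisors (pow_mem hf n)).mp ?_), ha⟩
    rw [← mul_assoc, ← ha, ← hc, mul_one]
  obtain ⟨a, ha, ha'⟩ := key _ _ h₁
  obtain ⟨b, hb, hb'⟩ := key _ _ h₂
  have he : f ^ (n₁ * m₂) * a ^ m₂ = f ^ (n₂ * m₁) * b ^ m₁ := by
    rw [pow_mul, ← mul_pow, ← ha', pow_mul, ← mul_pow, ← hb', ← pow_mul, ← pow_mul, mul_comm m₁]
  by_contra hne
  have hfu : IsUnit f := by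
    have aux : ∀ (p q : ℕ) (c d : A), IsUnit c → p < q → f ^ p * c = f ^ q * d → IsUnit f := by
      intro p q c d hc hpq h
      obtain ⟨r, rfl⟩ : ∃ r, q = p + (r + 1) := ⟨q - p - 1, by omega⟩
      rw [pow_add, mul_assoc] at h
      have h' : c = f ^ (r + 1) * d := (mul_cancel_left_mem_nonZeroDivisors (pow_mem hf p)).mp h
      rw [h'] at hc
      exact (isUnit_pow_iff (by omega)).mp (isUnit_of_mul_isUnit_left hc)
    rcases lt_or_gt_of_ne (show n₁ * m₂ ≠ n₂ * m₁ by rw [mul_comm n₁, mul_comm n₂]; exact Ne.symm hne) with h | h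
    · exact aux _ _ _ _ (ha.pow _) h he
    · exact aux _ _ _ _ (hb.pow _) h he.symm
  refine hfg ⟨hfu, ?_⟩
  rcases Nat.eq_zero_or_pos m₁ with hm | hm
  · rcases Nat.eq_zero_or_pos m₂ with hm' | hm'
    · simp [hm, hm'] at hne
    · exact (isUnit_pow_iff hm'.ne').mp (hb' ▸ (hfu.pow _).mul hb)
  · exact (isUnit_pow_iff hm.ne').mp (ha' ▸ (hfu.pow _).mul ha)

end Groth.Agent.S17726
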