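import Groth.Statements.S17728
import Groth.Agent.L05.Birat.FlatSection
-- import your own Groth.Agent.* helpers here

set_option autoImplicit false
universe u
open Neron

namespace Groth.Agent.S17728

open CategoryTheory AlgebraicGeometry in
/-- Let S be a Noetherian scheme, U ⊆ S a dense open subscheme and f : X → S a morphism locally of
finite type which restricts to an isomorphism over U and for which the preimage of U is
schematically dense in X. For a point x of X the following are equivalent: f is étale on some open
neighbourhood of x; f is flat at x, that is, the local ring of X at x is flat over the local ring of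
S at f(x); some open neighbourhood V of f(x) carries a section σ of f over V passing through x. -/
theorem result
    {X S : Scheme.{u}} [IsNoetherian S] (f : X ⟶ S) [LocallyOfFiniteType f]
    (U : S.Opens) (hU : Dense (U : Set S))
    (hiso : IsIso (morphismRestrict f U)) (hdense : CInt.IsSchematicallyDense (f ⁻¹ᵁ U))
    (x : X) :
    List.TFAE [
      ∃ W : X.Opens, x ∈ W ∧ Etale (W.ι ≫ f),
      (f.stalkMap x).hom.Flat,
      ∃ (V : S.Opens) (hV : f.base x ∈ V) (σ : (V : Scheme.{u}) ⟶ X),
        σ ≫ f = V.ι ∧ σ.base ⟨f.base x, hV⟩ = x] := by
  haveI := hiso
  tfae_have 1 → 2 := Groth.L05.Birat.flat_of_etale_nhd f x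
  tfae_have 2 → 3 := Groth.L05.Birat.exists_section_of_flat f U hdense x
  tfae_have 3 → 1 := fun ⟨V, hV, σ, hσ, hσx⟩ => Groth.L05.Birat.exists_etale_of_section f U hdense x V hV σ hσ hσx
  tfae_finish

end Groth.Agent.S17728
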