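import Groth.Statements.S17729
import Groth.Agent.L13.ThickNode.Core
import Mathlib.AlgebraicGeometry.Morphisms.Smooth
import Mathlib.AlgebraicGeometry.Noetherian

set_option autoImplicit false
universe u
open DualGr

namespace Groth.Agent.S17729

open CategoryTheory AlgebraicGeometry IsLocalRing in
/-- Let R be a complete Noetherian local ring and C → Spec R a morphism locally of finite type, smooth
over a schematically dense open subscheme U of Spec R. Let c be a point of C over the closed point
whose local ring is formally a node of thickness (a) over R for an element a of R: the completion of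
the local ring at c is isomorphic, compatibly with R, to R̂[[x,y]]/(xy − a). Then a is a
non-zero-divisor in R. (The published statement is for a semistable curve over a locally Noetherian
base and a non-smooth point over a separably closed field, with the node presentation supplied by
the local structure of such curves; it is stated here over the spectrum of a complete Noetherian
local ring with the node presentation as a hypothesis, the case to which the argument reduces, and
semistability plays no further role.) -/
theorem result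
    (R : Type u) [CommRing R] [IsNoetherianRing R] [IsLocalRing R]
    [IsAdicComplete (maximalIdeal R) R]
    {C : Scheme.{u}} (f : C ⟶ Spec (CommRingCat.of R)) [LocallyOfFiniteType f]
    (U : (Spec (CommRingCat.of R)).Opens) (hU : CInt.IsSchematicallyDense U)
    (hsm : Smooth (morphismRestrict f U))
    (c : C) (hc : f.base c = closedPoint R) (a : R)
    (hnode : DualGr.IsThickNode (DualGr.stalkHom f c) a) :
    a ∈ nonZeroDivisors R := by
  classical
  have key : ∀ x ∈ U, a ∉ x.asIdeal := by
    intro x hxU hax
    obtain ⟨W, hW, hcW, -⟩ := exists_isAffineOpen_mem_and_subset (x := c) (U := (⊤ : C.Opens)) trivial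
    let ψ : R →+* Γ(C, W) := (f.appLE ⊤ W le_top).hom.comp (Scheme.ΓSpecIso (CommRingCat.of R)).inv.hom
    letI := ψ.toAlgebra
    letI := C.presheaf.algebra_section_stalk ⟨c, hcW⟩
    haveI := hW.isLocalization_stalk ⟨c, hcW⟩
    haveI : IsLocallyNoetherian C := LocallyOfFiniteType.isLocallyNoetherian f
    have hφ : ∀ r, DualGr.stalkHom f c r = algebraMap Γ(C, W) (C.presheaf.stalk c) (algebraMap R Γ(C, W) r) := by
      intro r
      show C.presheaf.germ ⊤ c trivial (f.appTop ((Scheme.ΓSpecIso (CommRingCat.of R)).inv r)) =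
        C.presheaf.germ W c hcW (f.appLE ⊤ W le_top ((Scheme.ΓSpecIso (CommRingCat.of R)).inv r))
      rw [Scheme.Hom.appLE, CommRingCat.comp_apply]
      exact (C.presheaf.germ_res_apply (homOfLE (le_top : W ≤ ⊤)) c hcW _).symm
    obtain ⟨Q, hQ, hQp, hns⟩ := L13.ThickNode.exists_prime_forall_not_smooth x.asIdeal
      (hW.primeIdealOf ⟨c, hcW⟩).asIdeal hφ hnode hax
    let ζ : C := hW.fromSpec.base ⟨Q, hQ⟩
    have hζW : ζ ∈ W := by
      rw [← SetLike.mem_coe, ← hW.range_fromSpec]; exact ⟨_, rfl⟩
    have hfζ : f.base ζ = x := by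
      apply PrimeSpectrum.ext
      ext r
      rw [← hQp]
      have h1 : ∀ y : ↥(Spec (CommRingCat.of R)), r ∉ y.asIdeal ↔
          y ∈ (Spec (CommRingCat.of R)).basicOpen ((Scheme.ΓSpecIso (CommRingCat.of R)).inv r) := by
        intro y
        rw [basicOpen_eq_of_affine]
        rfl
      have h2 : (f.base ζ ∈ (Spec (CommRingCat.of R)).basicOpen ((Scheme.ΓSpecIso (CommRingCat.of R)).inv r)) ↔
          ζ ∈ C.basicOpen (f.appLE ⊤ W le_top ((Scheme.ΓSpecIso (CommRingCat.of R)).inv r)) := by
        rw [Scheme.Hom.appLE, CommRingCat.comp_apply, Scheme.basicOpen_res]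
        rw [← Scheme.preimage_basicOpen f]
        exact ⟨fun h => ⟨hζW, h⟩, fun h => h.2⟩
      have h3 : ζ ∈ C.basicOpen (ψ r) ↔ ψ r ∉ Q := by
        show (⟨Q, hQ⟩ : PrimeSpectrum Γ(C, W)) ∈ hW.fromSpec ⁻¹ᵁ C.basicOpen (ψ r) ↔ _
        rw [hW.fromSpec_preimage_basicOpen]
        rfl
      exact not_iff_not.1 ((h1 _).trans (h2.trans h3))
    obtain ⟨g, hgle, hζg⟩ := hW.exists_basicOpen_le (V := f ⁻¹ᵁ U)
      ⟨ζ, show f.base ζ ∈ U from hfζ.symm ▸ hxU⟩ hζW
    have hgQ : g ∉ Q := by
      have : (⟨Q, hQ⟩ : PrimeSpectrum Γ(C, W)) ∈ hW.fromSpec ⁻¹ᵁ C.basicOpen g := hζg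
      rwa [hW.fromSpec_preimage_basicOpen] at this
    refine hns g hgQ ?_
    have hsm' : Smooth ((C.basicOpen g).ι ≫ f) := by
      rw [← C.homOfLE_ι hgle, Category.assoc, ← morphismRestrict_ι]
      haveI := hsm
      infer_instance
    have hD : IsAffineOpen (C.basicOpen g) := hW.basicOpen g
    haveI : IsAffine (C.basicOpen g).toScheme := hD
    haveI : IsIso (isAffineOpen_top (Spec (CommRingCat.of R))).fromSpec := by
      rw [IsAffineOpen.fromSpec_top]; infer_instance
    have hspec : Smooth (Spec.map (f.appLE ⊤ (C.basicOpen g) le_top)) := by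
      rw [← MorphismProperty.cancel_right_of_respectsIso @Smooth _
        (isAffineOpen_top (Spec (CommRingCat.of R))).fromSpec,
        (isAffineOpen_top (Spec (CommRingCat.of R))).SpecMap_appLE_fromSpec f hD le_top,
        IsAffineOpen.fromSpec, Category.assoc]
      infer_instance
    letI := ((f.appLE ⊤ (C.basicOpen g) le_top).hom.comp (Scheme.ΓSpecIso (CommRingCat.of R)).inv.hom).toAlgebra
    haveI := hW.isLocalization_basicOpen g
    haveI : IsScalarTower R Γ(C, W) Γ(C, C.basicOpen g) := IsScalarTower.of_algebraMap_eq fun r => by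
      have hm := Scheme.Hom.appLE_map f (U := ⊤) (V := W) le_top (homOfLE (C.basicOpen_le g)).op
      show f.appLE ⊤ (C.basicOpen g) le_top ((Scheme.ΓSpecIso (CommRingCat.of R)).inv r) =
        C.presheaf.map (homOfLE (C.basicOpen_le g)).op (f.appLE ⊤ W le_top ((Scheme.ΓSpecIso (CommRingCat.of R)).inv r))
      rw [← hm]
      rfl
    have hS : Algebra.Smooth R Γ(C, C.basicOpen g) := by
      rw [← RingHom.smooth_algebraMap]
      have h' : (f.appLE ⊤ (C.basicOpen g) le_top).hom.Smooth :=
        (HasRingHomProperty.Spec_iff (P := @Smooth)).1 hspec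
      exact RingHom.Smooth.respectsIso.2 _
        (Scheme.ΓSpecIso (CommRingCat.of R)).symm.commRingCatIsoToRingEquiv h'
    exact Algebra.Smooth.of_equiv
      ((IsLocalization.algEquiv (Submonoid.powers g) Γ(C, C.basicOpen g) (Localization.Away g)).restrictScalars R)
  rw [mem_nonZeroDivisors_iff_right]
  intro b hb
  let γ := (Scheme.ΓSpecIso (CommRingCat.of R)).inv
  have hzero : (Spec (CommRingCat.of R)).presheaf.map
      (homOfLE (inf_le_left : (⊤ : (Spec (CommRingCat.of R)).Opens) ⊓ U ≤ ⊤)).op (γ b) = 0 := by
    refine TopCat.Presheaf.section_ext (Spec (CommRingCat.of R)).sheaf _ _ _ fun x hx => ?_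
    refine Eq.trans ?_ (map_zero _).symm
    show (Spec (CommRingCat.of R)).presheaf.germ _ x hx _ = 0
    rw [(Spec (CommRingCat.of R)).presheaf.germ_res_apply]
    have hu : IsUnit ((Spec (CommRingCat.of R)).presheaf.germ ⊤ x trivial (γ a)) := by
      rw [← Scheme.mem_basicOpen, basicOpen_eq_of_affine]
      exact key x hx.2
    refine hu.mul_left_eq_zero.1 ?_
    rw [← map_mul, ← map_mul, hb, map_zero, map_zero]
  have h0 : γ b = 0 := hU ⊤ (hzero.trans (map_zero _).symm)
  have := congr_arg (Scheme.ΓSpecIso (CommRingCat.of R)).hom h0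
  rwa [← CommRingCat.comp_apply, Iso.inv_hom_id, CommRingCat.id_apply, map_zero] at this

end Groth.Agent.S17729
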