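import Groth.Statements.S1773
import Groth.Agent.L29.Dual.Coind

set_option autoImplicit false
universe u
open CategoryTheory
attribute [local instance] HasDerivedCategory.standard
open Dual

namespace Groth.Agent.S1773

/-- Let A → B be a finite local homomorphism of Noetherian local rings and ω a normalized dualizing
complex for A. If R : D(A) → D(B) is right adjoint to restriction of scalars, then R(ω) is a
normalized dualizing complex for B. -/
theorem result (A B : Type u) [CommRing A] [CommRing B] [IsLocalRing A] [IsLocalRing B] [Algebra A B] [IsLocalHom (algebraMap A B)] [IsNoetherianRing A] [IsNoetherianRing B] [Module.Finite A B] (R : Dual.D A ⥤ Dual.D B) (adj : DRing.restrictD (algebraMap A B) ⊣ R) (ω : Dual.D A) (hω : Dual.IsDualizing A ω) (hn : Dual.IsNormalized A ω) : Dual.IsDualizing B (R.obj ω) ∧ Dual.IsNormalized B (R.obj ω) := by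
  let M : ModuleCat.{u} A := Groth.L29.RestrictAdj.ringRes (algebraMap A B)
  let e : B →ₗ[A] M :=
    { toFun := fun b => b
      map_add' := fun _ _ => rfl
      map_smul' := fun a b => Algebra.smul_def a b }
  haveI hM : Module.Finite A M := Module.Finite.of_surjective e fun b => ⟨b, rfl⟩
  refine ⟨Groth.L29.RestrictAdj.isDualizing_rightAdjoint (algebraMap A B) adj hM hω, fun i hi => ?_⟩
  let k : ModuleCat.{u} A := (ModuleCat.restrictScalars.{u} (algebraMap A B)).obj
    (ModuleCat.of B (IsLocalRing.ResidueField B))
  let q : B →ₗ[A] k :=
    { toFun := fun b => IsLocalRing.residue B b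
      map_add' := fun x y => map_add (IsLocalRing.residue B) x y
      map_smul' := fun a b => by
        rw [Algebra.smul_def, map_mul]
        rfl }
  haveI : Module.Finite A k := Module.Finite.of_surjective q IsLocalRing.residue_surjective
  have hdim : Module.supportDim A k ≤ ((0 : ℕ) : WithBot ℕ∞) := by
    rw [Nat.cast_zero, Module.supportDim]
    haveI : Subsingleton (Module.support A k) := by
      refine ⟨fun p p' => Subtype.ext ?_⟩
      have key : ∀ p ∈ Module.support A k, p = IsLocalRing.closedPoint A := fun p hp => by
        refine PrimeSpectrum.ext (le_antisymm (IsLocalRing.le_maximalIdeal p.2.ne_top) fun a ha => ?_)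
        obtain ⟨x, hx⟩ := Module.mem_support_iff'.1 hp
        by_contra hap
        refine hx a hap ?_
        obtain ⟨b, rfl⟩ := IsLocalRing.residue_surjective x
        change IsLocalRing.residue B (algebraMap A B a) * IsLocalRing.residue B b = 0
        rw [(IsLocalRing.residue_eq_zero_iff _).2 (map_nonunit (algebraMap A B) a ha), zero_mul]
      rw [key _ p.2, key _ p'.2]
    exact Order.krullDim_nonpos_of_subsingleton
  refine (Groth.L29.RestrictAdj.subsingleton_hom_iff (algebraMap A B) adj
    (ModuleCat.of B (IsLocalRing.ResidueField B)) ω i).2 ?_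
  exact (Groth.L29.HomD.bound ω (Groth.L29.HomD.good_of_isDualizing hω) hn 0 k hdim i).1 (by omega)

end Groth.Agent.S1773
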