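import Groth.Statements.S17732
import Mathlib.AlgebraicGeometry.IdealSheaf.Basic
import Mathlib.Tactic.Ring
import Mathlib.Topology.LocallyConstant.Basic
import Mathlib.AlgebraicGeometry.Noetherian

set_option autoImplicit false
universe u
open CDiv

namespace Groth.Agent.S17732

open AlgebraicGeometry in
open AlgebraicGeometry
open AlgebraicGeometry

private lemma cross {a b c d e f : ℕ} (hw : (c, d) ≠ (0, 0)) (h1 : a * d = c * b) (h2 : c * f = e * d) :
    a * f = e * b := by
  rcases Nat.eq_zero_or_pos d with hd | hd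
  · have hc : 0 < c := Nat.pos_of_ne_zero fun h => hw (by rw [h, hd])
    subst hd
    simp only [Nat.mul_zero] at h1 h2
    rcases Nat.mul_eq_zero.mp h1.symm with hb | hb
    · omega
    rcases Nat.mul_eq_zero.mp h2 with hf | hf
    · omega
    rw [hb, hf, Nat.mul_zero, Nat.mul_zero]
  · apply Nat.eq_of_mul_eq_mul_right hd
    calc a * f * d = (a * d) * f := by ring
      _ = (c * f) * b := by rw [h1]; ring
      _ = e * b * d := by rw [h2]; ring

private lemma pow_inj {R : Type u} [CommRing R] {g : R} (hg : g ∈ nonZeroDivisors R)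
    (hne : Ideal.span {g} ≠ ⊤) {a b : ℕ} (h : Ideal.span {g} ^ a = Ideal.span {g} ^ b) : a = b := by
  wlog hab : a ≤ b generalizing a b
  · exact (this h.symm (le_of_not_ge hab)).symm
  obtain ⟨c, rfl⟩ := Nat.exists_eq_add_of_le hab
  rw [Ideal.span_singleton_pow, Ideal.span_singleton_pow] at h
  obtain ⟨t, ht⟩ := Ideal.mem_span_singleton.mp (h.le (Ideal.mem_span_singleton_self _))
  rcases c with _ | c
  · rfl
  have : g ^ a * (g ^ (c + 1) * t) = g ^ a * 1 := by rw [mul_one]; exact ((mul_assoc _ _ _).symm.trans (by rw [← pow_add])).trans ht.symm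
  have h1 := (mul_cancel_left_mem_nonZeroDivisors (pow_mem hg a)).mp this
  exact absurd (Ideal.span_singleton_eq_top.mpr (IsUnit.of_mul_eq_one (a := g) (g ^ c * t) (by rw [← mul_assoc, ← pow_succ', h1]))) hne

private noncomputable def st {X : Scheme.{u}} (D : X.IdealSheafData) (U : X.affineOpens) (x : X)
    (hx : x ∈ (U : X.Opens)) : Ideal (X.presheaf.stalk x) :=
  (D.ideal U).map (X.presheaf.germ (U : X.Opens) x hx).hom

private lemma st_eq {X : Scheme.{u}} (D : X.IdealSheafData) (U V : X.affineOpens) (x : X)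
    (hU : x ∈ (U : X.Opens)) (hV : x ∈ (V : X.Opens)) : st D U x hU = st D V x hV := by
  obtain ⟨f, g, hfg, hxf⟩ := exists_basicOpen_le_affine_inter U.2 V.2 x ⟨hU, hV⟩
  let W : X.affineOpens := X.affineBasicOpen f
  have h1 : W ≤ U := X.affineBasicOpen_le f
  have h2 : W ≤ V := (hfg.trans_le (X.basicOpen_le g) : X.basicOpen f ≤ V)
  have hW : x ∈ (W : X.Opens) := hxf
  have key : ∀ (Z : X.affineOpens) (h : W ≤ Z) (hZ : x ∈ (Z : X.Opens)), st D Z x hZ = st D W x hW := by
    intro Z h hZ
    rw [st, st, ← D.map_ideal h, Ideal.map_map, ← CommRingCat.hom_comp]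
    congr 2
    exact (X.presheaf.germ_res (CategoryTheory.homOfLE h) x hW).symm
  exact (key U h1 hU).trans (key V h2 hV).symm

private lemma mem_support_iff {X : Scheme.{u}} (D : X.IdealSheafData) (U : X.affineOpens) (x : X)
    (hx : x ∈ (U : X.Opens)) : x ∈ D.support ↔ st D U x hx ≠ ⊤ := by
  rw [Scheme.IdealSheafData.mem_support_iff_of_mem hx, Scheme.mem_zeroLocus_iff]
  constructor
  · intro h htop
    have hle : st D U x hx ≤ IsLocalRing.maximalIdeal _ := by
      rw [st, Ideal.map_le_iff_le_comap]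
      intro s hs
      rw [Ideal.mem_comap, IsLocalRing.mem_maximalIdeal, mem_nonunits_iff]
      exact fun hu => h s hs ((X.mem_basicOpen s x hx).mpr hu)
    rw [htop] at hle
    exact (IsLocalRing.maximalIdeal.isMaximal _).ne_top (top_le_iff.mp hle)
  · intro h s hs hxs
    exact h (Ideal.eq_top_of_isUnit_mem _ (Ideal.mem_map_of_mem _ hs) ((X.mem_basicOpen s x hx).mp hxs))

private lemma st_principal {X : Scheme.{u}} (D : X.IdealSheafData)
    (hD : ∀ x : X, ∃ U : X.affineOpens, x ∈ (U : X.Opens) ∧ ∃ g : Γ(X, U), g ∈ nonZeroDivisors Γ(X, U) ∧ D.ideal U = Ideal.span {g})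
    (U : X.affineOpens) (x : X) (hx : x ∈ (U : X.Opens)) :
    ∃ g ∈ nonZeroDivisors (X.presheaf.stalk x), st D U x hx = Ideal.span {g} := by
  obtain ⟨V, hV, g, hg, hgD⟩ := hD x
  refine ⟨X.presheaf.germ (V : X.Opens) x hV g, ?_, ?_⟩
  · letI := (X.presheaf.germ (V : X.Opens) x hV).hom.toAlgebra
    haveI := V.2.isLocalization_stalk ⟨x, hV⟩
    exact IsLocalization.map_nonZeroDivisors_le (V.2.primeIdealOf ⟨x, hV⟩).asIdeal.primeCompl
      (X.presheaf.stalk x) ⟨g, hg, rfl⟩
  · rw [st_eq D U V x hx hV, st, hgD, Ideal.map_span, Set.image_singleton]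


/-- Let X be a Noetherian scheme and D, E effective Cartier divisors on X, encoded by their ideal
sheaves, each locally generated on an affine open by a single non-zero-divisor. Assume that the
union of the supports of D and E is connected (or empty) and that every point of X has an affine
open neighbourhood on which the m-th power of the ideal of D equals the n-th power of the ideal of E
for some (m, n) ≠ (0, 0). Then there is a pair (m, n) ≠ (0, 0) for which this equality holds on
every affine open of X, that is, m D = n E globally. -/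
theorem result
    (X : Scheme.{u}) [IsNoetherian X] (D E : X.IdealSheafData)
    (hD : (∀ x : X, ∃ U : X.affineOpens, x ∈ (U : X.Opens) ∧ ∃ g : Γ(X, U), g ∈ nonZeroDivisors Γ(X, U) ∧ D.ideal U = Ideal.span {g}))
    (hE : (∀ x : X, ∃ U : X.affineOpens, x ∈ (U : X.Opens) ∧ ∃ g : Γ(X, U), g ∈ nonZeroDivisors Γ(X, U) ∧ E.ideal U = Ideal.span {g}))
    (hconn : IsPreconnected ((D.support : Set X) ∪ (E.support : Set X)))
    (hloc : ∀ x : X, ∃ U : X.affineOpens, x ∈ (U : X.Opens) ∧
      ∃ m n : ℕ, (m, n) ≠ (0, 0) ∧ D.ideal U ^ m = E.ideal U ^ n) :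
    ∃ m n : ℕ, (m, n) ≠ (0, 0) ∧ ∀ U : X.affineOpens, D.ideal U ^ m = E.ideal U ^ n := by
  classical
  let Rel : X → ℕ → ℕ → Prop := fun x m n => ∀ (U : X.affineOpens) (hx : x ∈ (U : X.Opens)),
    st D U x hx ^ m = st E U x hx ^ n
  have hRel : ∀ (U : X.affineOpens) (m n : ℕ), D.ideal U ^ m = E.ideal U ^ n → ∀ x ∈ (U : X.Opens), Rel x m n := by
    intro U m n h x hxU V hxV
    rw [st_eq D V U x hxV hxU, st_eq E V U x hxV hxU, st, st, ← Ideal.map_pow, ← Ideal.map_pow, h]
  have huniq : ∀ x ∈ (D.support : Set X) ∪ (E.support : Set X), ∀ m n m' n', Rel x m n → Rel x m' n' →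
      m * n' = m' * n := by
    intro x hxS m n m' n' h h'
    obtain ⟨U, hU, -⟩ := hloc x
    have ha := h U hU
    have ha' := h' U hU
    rcases hxS with hxS | hxS
    · obtain ⟨g, hg, hgD⟩ := st_principal D hD U x hU
      have hne : Ideal.span {g} ≠ ⊤ := hgD ▸ (mem_support_iff D U x hU).mp hxS
      refine pow_inj hg hne ?_
      rw [← hgD, pow_mul, ha, ← pow_mul, mul_comm n n', pow_mul, ← ha', ← pow_mul]
    · obtain ⟨g, hg, hgE⟩ := st_principal E hE U x hU
      have hne : Ideal.span {g} ≠ ⊤ := hgE ▸ (mem_support_iff E U x hU).mp hxS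
      have := pow_inj hg hne (a := n * m') (b := n' * m) (by
        rw [← hgE, pow_mul, ← ha, ← pow_mul, mul_comm m m', pow_mul, ha', ← pow_mul])
      calc m * n' = n' * m := Nat.mul_comm _ _
        _ = n * m' := this.symm
        _ = m' * n := Nat.mul_comm _ _
  choose U hxU m n hne heq using hloc
  suffices hglob : ∃ M K : ℕ, (M, K) ≠ (0, 0) ∧ ∀ y : X, Rel y M K by
    obtain ⟨M, K, hMK, h⟩ := hglob
    refine ⟨M, K, hMK, fun W => W.2.ideal_ext_iff.mpr fun y hy => ?_⟩
    rw [Ideal.map_pow, Ideal.map_pow]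
    exact h y W hy
  by_cases hS : ((D.support : Set X) ∪ (E.support : Set X)).Nonempty
  swap
  · refine ⟨1, 1, by simp, fun y V hy => ?_⟩
    have hy' : y ∉ D.support ∧ y ∉ E.support := ⟨fun h => hS ⟨y, Or.inl h⟩, fun h => hS ⟨y, Or.inr h⟩⟩
    rw [mem_support_iff D V y hy, not_not, mem_support_iff E V y hy, not_not] at hy'
    rw [hy'.1, hy'.2]
  obtain ⟨x₀, hx₀⟩ := hS
  have hslope : ∀ y ∈ (D.support : Set X) ∪ (E.support : Set X), m y * n x₀ = m x₀ * n y := by
    intro y hy
    haveI := Subtype.preconnectedSpace hconn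
    have hlc : IsLocallyConstant (fun z : ((D.support : Set X) ∪ (E.support : Set X) : Set X) =>
        m z * n x₀ = m x₀ * n z) := by
      rw [IsLocallyConstant.iff_exists_open]
      intro z
      refine ⟨Subtype.val ⁻¹' ((U z : X.Opens) : Set X), (U z : X.Opens).2.preimage continuous_subtype_val, hxU _, ?_⟩
      intro z' hz'
      have hu := huniq z' z'.2 (m z) (n z) (m z') (n z') (hRel _ _ _ (heq z) z' hz') (hRel _ _ _ (heq z') z' (hxU _))
      apply propext
      constructor
      · intro h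
        exact cross (hne z') hu h
      · intro h
        exact cross (hne z) hu.symm h
    exact (iff_of_eq (hlc.apply_eq_of_preconnectedSpace ⟨y, hy⟩ ⟨x₀, hx₀⟩)).mpr rfl
  obtain ⟨t, ht⟩ := isCompact_univ.elim_finite_subcover (fun y : X => ((U y : X.Opens) : Set X))
    (fun y => (U y : X.Opens).2) (fun y _ => Set.mem_iUnion.mpr ⟨y, hxU y⟩)
  let N := ∏ y ∈ t, (m y + n y)
  have hpos : ∀ y, 0 < m y + n y := fun y => Nat.pos_of_ne_zero fun h => hne y (by
    rw [Nat.add_eq_zero_iff] at h; rw [h.1, h.2])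
  refine ⟨m x₀ * N, n x₀ * N, ?_, fun y V hyV => ?_⟩
  · intro h
    have hN : 0 < N := Finset.prod_pos fun y _ => hpos y
    simp only [Prod.mk.injEq, Nat.mul_eq_zero, hN.ne', or_false] at h
    exact hne x₀ (by rw [h.1, h.2])
  · by_cases hy : y ∈ (D.support : Set X) ∪ (E.support : Set X)
    swap
    · have hy' : y ∉ D.support ∧ y ∉ E.support := ⟨fun h => hy (Or.inl h), fun h => hy (Or.inr h)⟩
      rw [mem_support_iff D V y hyV, not_not, mem_support_iff E V y hyV, not_not] at hy'
      rw [hy'.1, hy'.2, Ideal.top_pow, Ideal.top_pow]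
    obtain ⟨i, hit, hyi⟩ := Set.mem_iUnion₂.mp (ht (Set.mem_univ y))
    have hr := hRel _ _ _ (heq i) y hyi V hyV
    have hi := huniq y hy (m i) (n i) (m y) (n y) (hRel _ _ _ (heq i) y hyi) (hRel _ _ _ (heq y) y (hxU y))
    have hi0 : m i * n x₀ = m x₀ * n i := cross (hne y) hi (hslope y hy)
    have e : N = (m i + n i) * ∏ z ∈ t.erase i, (m z + n z) := (Finset.mul_prod_erase t _ hit).symm
    have e1 : m x₀ * N = m i * ((m x₀ + n x₀) * ∏ z ∈ t.erase i, (m z + n z)) := by
      rw [e]
      calc _ = (m x₀ * m i + m x₀ * n i) * ∏ z ∈ t.erase i, (m z + n z) := by ring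
        _ = _ := by rw [← hi0]; ring
    have e2 : n x₀ * N = n i * ((m x₀ + n x₀) * ∏ z ∈ t.erase i, (m z + n z)) := by
      rw [e]
      calc _ = (m i * n x₀ + n x₀ * n i) * ∏ z ∈ t.erase i, (m z + n z) := by ring
        _ = _ := by rw [hi0]; ring
    rw [e1, e2, pow_mul, hr, ← pow_mul]

end Groth.Agent.S17732
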