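import Groth.Statements.S17734
import Groth.Agent.L07.StalkNbhdSystem
import Groth.Agent.S4788
import Groth.Agent.S4792
import Groth.Agent.L18.AmplePull
import Groth.Agent.L18.LocFreeFP
import Groth.Agent.L12.FinCov.Frame
import Groth.Agent.L03.ShStab.ExtTwistPn
import Groth.Agent.L21.Extend.Semilocal

set_option autoImplicit false
set_option linter.style.haveILetI false
set_option backward.isDefEq.respectTransparency.types false
universe u
open PicF

namespace Groth.Agent.S17734

open CategoryTheory AlgebraicGeometry Limits in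
/-- Let f : X → S be a proper morphism of finite presentation, s a point of S, and L an invertible
module on the base change X^s of X to the spectrum of the local ring of S at s. Then there are an
open neighbourhood V of s in S and an invertible module L' on the open subscheme f⁻¹(V) = X ×_S V
such that the pullback of L' along the canonical morphism X^s → f⁻¹(V) (the unique one compatible
with the projection X^s → X) is isomorphic to L. -/
theorem result
    {X S : Scheme.{u}} (f : X ⟶ S) [IsProper f] [LocallyOfFinitePresentation f] (s : S)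
    (L : (pullback f (S.fromSpecStalk s)).Modules) (hL : PicF.IsInvertible L) :
    ∃ (V : S.Opens) (_ : s ∈ V) (L' : (↑(f ⁻¹ᵁ V) : Scheme.{u}).Modules), PicF.IsInvertible L' ∧
      ∀ (ι : pullback f (S.fromSpecStalk s) ⟶ ↑(f ⁻¹ᵁ V)),
        ι ≫ (f ⁻¹ᵁ V).ι = pullback.fst f (S.fromSpecStalk s) →
        Nonempty ((Scheme.Modules.pullback ι).obj L' ≅ L) := by
  obtain ⟨σ⟩ := Groth.L07.StalkNbhdSystem.nonempty_system f s
  haveI := σ.affine
  haveI := IsCofiltered.nonempty (C := σ.I)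
  let i₀ : σ.I := Classical.arbitrary σ.I
  haveI := σ.compact i₀
  haveI := σ.qs i₀
  haveI := Groth.L21.Extend.isQCoh_of_isInvertible (Groth.L18.Ample.isInvertible_pullback σ.e.inv hL)
  have hrk := Groth.L12.FinCov.isFinLocFreeOfRank_one_of_isInvertible
    (Groth.L18.Ample.isInvertible_pullback σ.e.inv hL)
  have hfp := Groth.L18.LFP.isFP_of_isFinLocFree _ (fun x => by
    obtain ⟨U, hx, hU⟩ := hrk x
    exact ⟨U, 1, hx, hU⟩)
  obtain ⟨j, -, Fj, hjq, hjfp, ⟨ej⟩⟩ :=
    Groth.Agent.S4788.result σ.D σ.c σ.isLimit i₀ ((Scheme.Modules.pullback σ.e.inv).obj L) hfp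
  haveI := hjq
  haveI := σ.compact j
  have hrk' : FlatMod.IsFinLocFreeOfRank 1 ((Scheme.Modules.pullback (σ.c.π.app j)).obj Fj) :=
    Groth.L12.FinCov.isFinLocFreeOfRank_one_of_isInvertible
      (Groth.L18.Ample.isInvertible_of_iso ej.symm (Groth.L18.Ample.isInvertible_pullback σ.e.inv hL))
  obtain ⟨k, φ, hk⟩ := (Groth.Agent.S4792.result σ.D σ.c σ.isLimit j Fj hjfp 1).mp hrk'
  have hinv := Groth.L03.ShStab.ExtTwistPn.isInvertible_of_rank_one hk
  haveI := σ.isOpenImmersion k
  let θ : σ.D.obj k ≅ ↑(f ⁻¹ᵁ σ.V k) :=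
    IsOpenImmersion.isoOfRangeEq (σ.a k) (f ⁻¹ᵁ σ.V k).ι (by rw [σ.range_a k, Scheme.Opens.range_ι]; rfl)
  refine ⟨σ.V k, σ.mem k, (Scheme.Modules.pullback θ.inv).obj ((Scheme.Modules.pullback (σ.D.map φ)).obj Fj),
    Groth.L18.Ample.isInvertible_pullback θ.inv hinv, fun ι hι => ?_⟩
  have hι' : ι = σ.e.hom ≫ σ.c.π.app k ≫ θ.hom := by
    rw [← cancel_mono (f ⁻¹ᵁ σ.V k).ι, hι, Category.assoc, Category.assoc,
      IsOpenImmersion.isoOfRangeEq_hom_fac, σ.π_a]
  have hcomp : ι ≫ θ.inv ≫ σ.D.map φ = σ.e.hom ≫ σ.c.π.app j := by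
    rw [hι', Category.assoc, Category.assoc, θ.hom_inv_id_assoc, σ.c.w]
  exact ⟨(Scheme.Modules.pullback ι).mapIso ((Scheme.Modules.pullbackComp θ.inv (σ.D.map φ)).app Fj) ≪≫
    (Scheme.Modules.pullbackComp ι (θ.inv ≫ σ.D.map φ)).app Fj ≪≫
    (Scheme.Modules.pullbackCongr hcomp).app Fj ≪≫
    ((Scheme.Modules.pullbackComp σ.e.hom (σ.c.π.app j)).app Fj).symm ≪≫
    (Scheme.Modules.pullback σ.e.hom).mapIso ej ≪≫
    (Scheme.Modules.pullbackComp σ.e.hom σ.e.inv).app L ≪≫
    (Scheme.Modules.pullbackCongr σ.e.hom_inv_id).app L ≪≫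
    (Scheme.Modules.pullbackId _).app L⟩

end Groth.Agent.S17734
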