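import Groth.Statements.S17735
import Groth.Agent.L01.NodePrimes
import Mathlib.RingTheory.Localization.AtPrime.Basic
import Mathlib.RingTheory.RegularLocalRing.Defs
import Mathlib.RingTheory.Polynomial.Basic
import Mathlib.RingTheory.MvPowerSeries.Basic
import Mathlib.RingTheory.PowerSeries.Inverse

set_option autoImplicit false
universe u
open CAlg

namespace Groth.Agent.S17735

open IsLocalRing in
variable {_unused : Unit}
open IsLocalRing Groth.L01.NodeUnits Groth.L01.NodePrimes

section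
variable {R : Type u} [CommRing R] [IsLocalRing R] [IsNoetherianRing R] [IsDomain R]
  [IsPrecomplete (maximalIdeal R) R] [UniqueFactorizationMonoid R] {r : R}

omit [IsLocalRing R] [IsNoetherianRing R] [IsDomain R] [IsPrecomplete (maximalIdeal R) R] [UniqueFactorizationMonoid R] in
theorem swap_swap (F : MvPowerSeries (Fin 2) R) : swap (swap F) = F := by
  have h := (MvPowerSeries.renameEquiv R (Equiv.swap (0 : Fin 2) 1)).symm_apply_apply F
  refine Eq.trans ?_ h
  show MvPowerSeries.rename (Equiv.swap (0 : Fin 2) 1) _ = MvPowerSeries.rename (Equiv.swap (0 : Fin 2) 1).symm _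
  rw [Equiv.symm_swap]; rfl

theorem domain_rel (hr : r ∈ maximalIdeal R) (hr0 : r ≠ 0) : (Ideal.span {(rel r : MvPowerSeries (Fin 2) R)}).IsPrime := by
  constructor
  · intro h
    have h1 := (Ideal.span_singleton_eq_top.mp h).map (MvPowerSeries.constantCoeff (σ := Fin 2) (R := R))
    simp [rel] at h1
    exact hr h1
  intro F G h
  obtain ⟨π, hπ, hπr⟩ := WfDvdMonoid.exists_irreducible_factor (hr : ¬ IsUnit r) hr0
  have hp : Prime π := UniqueFactorizationMonoid.irreducible_iff_prime.mp hπ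
  obtain ⟨a, b, h0, hF⟩ := exists_canon hr F
  obtain ⟨a', b', h0', hG⟩ := exists_canon hr G
  have hab : canon a b * canon a' b' - MvPowerSeries.C (0 : R) ∈ Ideal.span {rel r} := by
    rw [map_zero, sub_zero, show canon a b * canon a' b' = F * G - ((F - canon a b) * G + canon a b * (G - canon a' b')) by ring]
    exact Ideal.sub_mem _ h (Ideal.add_mem _ (Ideal.mul_mem_right _ _ hF) (Ideal.mul_mem_left _ _ hG))
  have hz : canon (fun _ => (0 : R)) (fun _ => 0) = 0 := by
    refine MvPowerSeries.ext fun D => ?_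
    show (if D 0 = 0 then (0 : R) else if D 1 = 0 then 0 else 0) = 0
    split_ifs <;> rfl
  have hzero : ∀ a b : ℕ → R, a 0 = b 0 → (∀ n, cc r a b n = 0) → canon a b = 0 := fun a b h0 h => by
    rw [← hz]
    congr 1
    · funext i; simpa [cc_natCast] using h (i : ℤ)
    · funext i
      have := h (-(i : ℤ))
      rw [cc_neg _ _ _ h0] at this
      simpa [hr0] using this
  by_cases hA : ∀ n, cc r a b n = 0
  · left; simpa [hzero a b h0 hA] using hF
  right
  push Not at hA
  obtain ⟨n, hn⟩ := hA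
  suffices ∀ m, cc r a' b' m = 0 by simpa [hzero a' b' h0' this] using hG
  intro m
  refine (mul_eq_zero.mp (eq_zero_of_forall_pow_dvd hp.not_unit fun k => ?_)).resolve_left hn
  exact pow_dvd_mul hp (RingHom.id R) hπr hab (dvd_zero (π ^ k)) n m

omit [UniqueFactorizationMonoid R] in
theorem poly_mem (hr : r ∈ maximalIdeal R) (hr0 : r ≠ 0) {f : MvPolynomial (Fin 2) R} {c : R}
    {H : MvPowerSeries (Fin 2) R} (hf : (f : MvPowerSeries (Fin 2) R) - MvPowerSeries.C c * H ∈ Ideal.span {rel r})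
    (hc : ∀ i x, c ∣ r ^ i * x → c ∣ x) :
    f ∈ Ideal.span {MvPolynomial.C c} ⊔
      Ideal.span {(MvPolynomial.X 0 * MvPolynomial.X 1 - MvPolynomial.C r : MvPolynomial (Fin 2) R)} := by
  obtain ⟨p, q, hpq⟩ := exists_poly_canon r f
  obtain ⟨w, hw⟩ := Ideal.mem_span_singleton'.mp hpq
  obtain ⟨a, b, h0, hH⟩ := exists_canon hr H
  have h : canon (fun i => p.coeff i) (bseq p q) - canon (fun i => c * a i) (fun i => c * b i) ∈ Ideal.span {rel r} := by
    have hw' : (w : MvPowerSeries (Fin 2) R) * rel r = (f : MvPowerSeries (Fin 2) R) - canon (fun i => p.coeff i) (bseq p q) := by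
      rw [← coe_canon]
      have := congrArg (MvPolynomial.coeToMvPowerSeries.ringHom : MvPolynomial (Fin 2) R →+* _) hw
      simp only [map_mul, map_sub, MvPolynomial.coeToMvPowerSeries.ringHom_apply, MvPolynomial.coe_X, MvPolynomial.coe_C] at this
      exact this
    rw [canon_mul, show canon (fun i => p.coeff i) (bseq p q) - MvPowerSeries.C c * canon a b =
      ((f : MvPowerSeries (Fin 2) R) - MvPowerSeries.C c * H) + MvPowerSeries.C c * (H - canon a b) -
      ((f : MvPowerSeries (Fin 2) R) - canon (fun i => p.coeff i) (bseq p q)) by ring]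
    exact Ideal.sub_mem _ (Ideal.add_mem _ hf (Ideal.mul_mem_left _ _ hH)) (hw' ▸ Ideal.mul_mem_left _ _ (Ideal.mem_span_singleton_self _))
  have hp : Polynomial.C c ∣ p := Polynomial.C_dvd_iff_dvd_coeff _ _ |>.mpr fun i => by
    have := cc_eq_of_sub_mem hr h (i : ℤ)
    rw [cc_natCast, cc_natCast] at this
    exact Dvd.intro _ this.symm
  have hq : Polynomial.C c ∣ q := Polynomial.C_dvd_iff_dvd_coeff _ _ |>.mpr fun i => by
    have := cc_eq_of_sub_mem hr h (-((i + 1 : ℕ) : ℤ))
    rw [cc_neg _ _ _ (by simp [bseq]), cc_neg _ _ _ (by simp [h0])] at this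
    refine hc (i + 1) _ ⟨r ^ (i + 1) * b (i + 1), ?_⟩
    simpa [bseq, mul_left_comm] using this
  obtain ⟨p', rfl⟩ := hp
  obtain ⟨q', rfl⟩ := hq
  refine Submodule.mem_sup.mpr ⟨_, Ideal.mem_span_singleton'.mpr
    ⟨Polynomial.aeval (MvPolynomial.X 1) p' + MvPolynomial.X 0 * Polynomial.aeval (MvPolynomial.X 0) q', rfl⟩, _, hpq, ?_⟩
  simp only [map_mul, Polynomial.aeval_C, MvPolynomial.algebraMap_eq]
  ring

omit [UniqueFactorizationMonoid R] in
theorem poly_mem_res (hr : r ∈ maximalIdeal R) (hr0 : r ≠ 0) {π : R} (hπr : π ∣ r) (f : MvPolynomial (Fin 2) R)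
    (t : Fin 2) (hf : res0 (Ideal.Quotient.mk (Ideal.span {π}))
      ((if t = 0 then AlgHom.id R _ else swap) (f : MvPowerSeries (Fin 2) R)) = 0) :
    f ∈ Ideal.span {MvPolynomial.C π, MvPolynomial.X t} ⊔
      Ideal.span {(MvPolynomial.X 0 * MvPolynomial.X 1 - MvPolynomial.C r : MvPolynomial (Fin 2) R)} := by
  obtain ⟨p, q, hpq⟩ := exists_poly_canon r f
  obtain ⟨w, hw⟩ := Ideal.mem_span_singleton'.mp hpq
  have hF : (f : MvPowerSeries (Fin 2) R) - canon (fun i => p.coeff i) (bseq p q) ∈ Ideal.span {rel r} := by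
    refine Ideal.mem_span_singleton'.mpr ⟨(w : MvPowerSeries (Fin 2) R), ?_⟩
    rw [← coe_canon]
    have := congrArg (MvPolynomial.coeToMvPowerSeries.ringHom : MvPolynomial (Fin 2) R →+* _) hw
    simp only [map_mul, map_sub, MvPolynomial.coeToMvPowerSeries.ringHom_apply, MvPolynomial.coe_X, MvPolynomial.coe_C] at this
    exact this
  refine Submodule.mem_sup.mpr ⟨_, ?_, _, hpq, add_sub_cancel _ _⟩
  fin_cases t
  · simp only [Fin.zero_eta, if_pos] at hf ⊢
    obtain ⟨p', rfl⟩ := Polynomial.C_dvd_iff_dvd_coeff _ _ |>.mpr ((dvd_coeff_of_res0 hr hr0 hπr hF).mp hf)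
    refine Ideal.mem_span_pair.mpr ⟨Polynomial.aeval (MvPolynomial.X 1) p', Polynomial.aeval (MvPolynomial.X 0) q, ?_⟩
    simp only [map_mul, Polynomial.aeval_C, MvPolynomial.algebraMap_eq]
    ring
  · simp only [Fin.mk_one, one_ne_zero, if_false] at hf ⊢
    have hF' := swap_mem hF
    rw [map_sub, swap_canon (by simp [bseq])] at hF'
    have hb := (dvd_coeff_of_res0 hr hr0 hπr hF').mp hf
    obtain ⟨c, hc⟩ : π ∣ p.coeff 0 := by simpa [bseq] using hb 0
    obtain ⟨q', rfl⟩ := Polynomial.C_dvd_iff_dvd_coeff _ _ |>.mpr fun i => by simpa [bseq] using hb (i + 1)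
    have hp := congrArg (Polynomial.aeval (MvPolynomial.X 1 : MvPolynomial (Fin 2) R)) (Polynomial.X_mul_divX_add p)
    simp only [map_add, map_mul, Polynomial.aeval_X, Polynomial.aeval_C, MvPolynomial.algebraMap_eq, hc] at hp
    refine Ideal.mem_span_pair.mpr ⟨MvPolynomial.C c + MvPolynomial.X 0 * Polynomial.aeval (MvPolynomial.X 0) q',
      Polynomial.aeval (MvPolynomial.X 1) p.divX, ?_⟩
    simp only [map_mul, Polynomial.aeval_C, MvPolynomial.algebraMap_eq]
    linear_combination hp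

end

theorem main (R : Type u) [CommRing R] [IsRegularLocalRing R] [IsAdicComplete (maximalIdeal R) R] (r : R) (hr : r ≠ 0)
    (ι : (MvPolynomial (Fin 2) R ⧸ Ideal.span {(MvPolynomial.X 0 * MvPolynomial.X 1 - MvPolynomial.C r : MvPolynomial (Fin 2) R)}) →+* (MvPowerSeries (Fin 2) R ⧸ Ideal.span {(MvPowerSeries.X 0 * MvPowerSeries.X 1 - MvPowerSeries.C r : MvPowerSeries (Fin 2) R)}))
    (hι : ι.comp (Ideal.Quotient.mk _) =
      (Ideal.Quotient.mk _).comp (MvPolynomial.coeToMvPowerSeries.ringHom : MvPolynomial (Fin 2) R →+* MvPowerSeries (Fin 2) R))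
    (P : Ideal (MvPolynomial (Fin 2) R ⧸ Ideal.span {(MvPolynomial.X 0 * MvPolynomial.X 1 - MvPolynomial.C r : MvPolynomial (Fin 2) R)})) [P.IsPrime]
    (hP : P = Ideal.span {Ideal.Quotient.mk _ (MvPolynomial.X 0), Ideal.Quotient.mk _ (MvPolynomial.X 1)} ⊔
      (maximalIdeal R).map (algebraMap R _))
    (S : Type u) [CommRing S] [IsNoetherianRing S] [Algebra (MvPolynomial (Fin 2) R ⧸ Ideal.span {(MvPolynomial.X 0 * MvPolynomial.X 1 - MvPolynomial.C r : MvPolynomial (Fin 2) R)}) S] [IsLocalization.AtPrime S P] [Algebra R S]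
    [IsScalarTower R (MvPolynomial (Fin 2) R ⧸ Ideal.span {(MvPolynomial.X 0 * MvPolynomial.X 1 - MvPolynomial.C r : MvPolynomial (Fin 2) R)}) S]
    (φ : S →+* (MvPowerSeries (Fin 2) R ⧸ Ideal.span {(MvPowerSeries.X 0 * MvPowerSeries.X 1 - MvPowerSeries.C r : MvPowerSeries (Fin 2) R)})) (hφ : φ.comp (algebraMap _ S) = ι) :
    Set.BijOn (fun Q => Ideal.comap φ Q)
      {Q | Q.IsPrime ∧ Q.height = 1 ∧ Ideal.comap (algebraMap R _) Q ≠ ⊥}
      {q : Ideal S | q.IsPrime ∧ q.height = 1 ∧ Ideal.comap (algebraMap R S) q ≠ ⊥} := by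
  obtain ⟨hdom, hufd⟩ : ∃ _ : IsDomain R, UniqueFactorizationMonoid R :=
    haveI := Groth.L01.isDomain_of_regular R
    ⟨inferInstance, Groth.L10.RegUFD.isUFD R⟩
  let mB : MvPolynomial (Fin 2) R →+* (MvPolynomial (Fin 2) R ⧸ Ideal.span {(MvPolynomial.X 0 * MvPolynomial.X 1 - MvPolynomial.C r : MvPolynomial (Fin 2) R)}) := Ideal.Quotient.mk _
  let aL : (MvPolynomial (Fin 2) R ⧸ Ideal.span {(MvPolynomial.X 0 * MvPolynomial.X 1 - MvPolynomial.C r : MvPolynomial (Fin 2) R)}) →+* S := algebraMap _ _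
  let g : MvPolynomial (Fin 2) R →+* S := (algebraMap (MvPolynomial (Fin 2) R ⧸ Ideal.span {(MvPolynomial.X 0 * MvPolynomial.X 1 - MvPolynomial.C r : MvPolynomial (Fin 2) R)}) (S)).comp (Ideal.Quotient.mk _)
  let ψ : MvPowerSeries (Fin 2) R →+* (MvPowerSeries (Fin 2) R ⧸ Ideal.span {(MvPowerSeries.X 0 * MvPowerSeries.X 1 - MvPowerSeries.C r : MvPowerSeries (Fin 2) R)}) := Ideal.Quotient.mk _
  have hψ : Function.Surjective ψ := Ideal.Quotient.mk_surjective
  have hψker : RingHom.ker ψ = Ideal.span {rel r} := Ideal.mk_ker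
  have hg : ∀ f, φ (g f) = ψ (f : MvPowerSeries (Fin 2) R) := fun f => by
    show (φ.comp aL) (mB f) = _
    rw [hφ]
    exact RingHom.congr_fun hι f
  have hgC : ∀ c : R, g (MvPolynomial.C c) = algebraMap R (S) c := fun c => (IsScalarTower.algebraMap_apply R _ S c).symm
  have hgrel : g (MvPolynomial.X 0) * g (MvPolynomial.X 1) = g (MvPolynomial.C r) := by
    rw [← map_mul]
    exact congrArg aL ((Ideal.Quotient.eq.mpr (Ideal.mem_span_singleton_self _) : mB (MvPolynomial.X 0 * MvPolynomial.X 1) = mB (MvPolynomial.C r)))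
  have hgg : g (MvPolynomial.X 0 * MvPolynomial.X 1 - MvPolynomial.C r) = 0 := by
    rw [map_sub, map_mul, hgrel, sub_self]
  -- r is in the maximal ideal
  have hrm : r ∈ maximalIdeal R := by
    intro hu
    refine (inferInstance : P.IsPrime).ne_top (Ideal.eq_top_of_isUnit_mem P (x := mB (MvPolynomial.C r)) ?_
      ((hu.map MvPolynomial.C).map mB))
    rw [← (Ideal.Quotient.eq.mpr (Ideal.mem_span_singleton_self _) : mB (MvPolynomial.X 0 * MvPolynomial.X 1) = mB (MvPolynomial.C r)), map_mul, hP]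
    exact Ideal.mem_sup_left (Ideal.mul_mem_right _ _ (Ideal.subset_span (Set.mem_insert _ _)))
  haveI hA : IsDomain (MvPowerSeries (Fin 2) R ⧸ Ideal.span {(MvPowerSeries.X 0 * MvPowerSeries.X 1 - MvPowerSeries.C r : MvPowerSeries (Fin 2) R)}) :=
    (Ideal.Quotient.isDomain_iff_prime _).mpr (domain_rel hrm hr)
  -- elements of the localization
  have hred : ∀ (x : S) (I : Ideal (S)) (I' : Ideal (MvPowerSeries (Fin 2) R ⧸ Ideal.span {(MvPowerSeries.X 0 * MvPowerSeries.X 1 - MvPowerSeries.C r : MvPowerSeries (Fin 2) R)})),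
      (∀ f : MvPolynomial (Fin 2) R, ψ (f : MvPowerSeries (Fin 2) R) ∈ I' → g f ∈ I) → φ x ∈ I' → x ∈ I := by
    intro x I I' h hx
    obtain ⟨b, s, rfl⟩ := IsLocalization.exists_mk'_eq P.primeCompl x
    obtain ⟨f, rfl⟩ := Ideal.Quotient.mk_surjective b
    refine (IsLocalization.mk'_mem_iff (S := S)).mpr (h f ?_)
    rw [← hg, show g f = aL (mB f) from rfl,
      ← IsLocalization.mk'_spec' (S) _ s, map_mul]
    exact Ideal.mul_mem_left _ _ hx
  have hinj : Function.Injective φ := (RingHom.injective_iff_ker_eq_bot φ).mpr <| eq_bot_iff.mpr fun x hx =>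
    hred x ⊥ ⊥ (fun f hf => by
      have h1 : (f : MvPowerSeries (Fin 2) R) - MvPowerSeries.C 0 * 0 ∈ Ideal.span {rel r} := by
        rw [mul_zero, sub_zero]; exact Ideal.Quotient.eq_zero_iff_mem.mp (Ideal.mem_bot.mp hf)
      have := poly_mem hrm hr h1 (fun i x h => by
        rw [zero_dvd_iff] at h ⊢; simpa [hr] using h)
      rw [map_zero, Ideal.span_singleton_zero, bot_sup_eq] at this
      obtain ⟨w, rfl⟩ := Ideal.mem_span_singleton'.mp this
      rw [map_mul, hgg, mul_zero]; exact Ideal.zero_mem _) hx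
  classical
  let 𝒥 : R → Set (Ideal (S)) := fun π => if π ∣ r then
    {Ideal.span {g (MvPolynomial.C π), g (MvPolynomial.X 0)}, Ideal.span {g (MvPolynomial.C π), g (MvPolynomial.X 1)}}
    else {Ideal.span {g (MvPolynomial.C π)}}
  have hmapJ : ∀ (π : R) (t : Fin 2), (Ideal.span {g (MvPolynomial.C π), g (MvPolynomial.X t)}).map φ =
      (Ideal.span {MvPowerSeries.C π, MvPowerSeries.X t} ⊔ Ideal.span {rel r}).map ψ := fun π t => by
    rw [Ideal.map_sup, Ideal.map_span, Ideal.map_span, Ideal.map_span, Set.image_pair, Set.image_pair, Set.image_singleton,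
      hg, hg, MvPolynomial.coe_C, MvPolynomial.coe_X, show ψ (rel r) = 0 from Ideal.Quotient.eq_zero_iff_mem.mpr
        (Ideal.mem_span_singleton_self _), Ideal.span_singleton_zero, sup_bot_eq]
  have hker : ∀ (π : R), π ∣ r → ∀ t : Fin 2, Ideal.span {MvPowerSeries.C π, MvPowerSeries.X t} ⊔ Ideal.span {rel r} =
      RingHom.ker ((res0 (Ideal.Quotient.mk (Ideal.span {π}))).comp
        (if t = 0 then AlgHom.id R (MvPowerSeries (Fin 2) R) else swap).toRingHom) := by
    intro π hπr t
    ext F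
    rw [RingHom.mem_ker, RingHom.comp_apply]
    fin_cases t
    · exact mem_span_pair_iff hrm hr hπr F
    · refine Iff.trans ?_ (mem_span_pair_iff hrm hr hπr (swap F))
      have hmap : ∀ (a b : Fin 2), Equiv.swap (0 : Fin 2) 1 a = b → ∀ G : MvPowerSeries (Fin 2) R,
          G ∈ Ideal.span {MvPowerSeries.C π, MvPowerSeries.X a} ⊔ Ideal.span {rel r} →
          swap G ∈ Ideal.span {MvPowerSeries.C π, MvPowerSeries.X b} ⊔ Ideal.span {rel r} := by
        intro a b hab G hG
        obtain ⟨u, hu, v, hv, rfl⟩ := Submodule.mem_sup.mp hG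
        obtain ⟨s, t, rfl⟩ := Ideal.mem_span_pair.mp hu
        rw [map_add, map_add, map_mul, map_mul, swap_C, swap_X, hab]
        exact Ideal.add_mem _ (Ideal.mem_sup_left (Ideal.mem_span_pair.mpr ⟨_, _, rfl⟩)) (Ideal.mem_sup_right (swap_mem hv))
      exact ⟨hmap 1 0 (Equiv.swap_apply_right _ _) F, fun h => swap_swap F ▸ hmap 0 1 (Equiv.swap_apply_left _ _) _ h⟩
  have hpair : ∀ (π : R), Prime π → π ∣ r → ∀ t : Fin 2,
      ((Ideal.span {g (MvPolynomial.C π), g (MvPolynomial.X t)}).map φ).IsPrime ∧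
      ((Ideal.span {g (MvPolynomial.C π), g (MvPolynomial.X t)}).map φ).comap φ =
        Ideal.span {g (MvPolynomial.C π), g (MvPolynomial.X t)} := by
    intro π hπ hπr t
    haveI : (Ideal.span {π}).IsPrime := (Ideal.span_singleton_prime hπ.ne_zero).mpr hπ
    refine ⟨?_, le_antisymm (fun x hx => hred x (Ideal.span {g (MvPolynomial.C π), g (MvPolynomial.X t)})
      ((Ideal.span {g (MvPolynomial.C π), g (MvPolynomial.X t)}).map φ) (fun f hf => ?_) hx) Ideal.le_comap_map⟩
    · rw [hmapJ]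
      refine Ideal.map_isPrime_of_surjective (H := ?_) hψ (hψker.trans_le le_sup_right)
      rw [hker π hπr t]
      exact RingHom.ker_isPrime _
    · rw [hmapJ, ← Ideal.mem_comap, Ideal.comap_map_of_surjective _ hψ, ← RingHom.ker_eq_comap_bot, hψker,
        sup_eq_left.mpr le_sup_right, hker π hπr t] at hf
      obtain ⟨u, hu, v, hv, rfl⟩ := Submodule.mem_sup.mp (poly_mem_res hrm hr hπr f t (RingHom.mem_ker.mp hf))
      obtain ⟨s, s', rfl⟩ := Ideal.mem_span_pair.mp hu
      obtain ⟨w, rfl⟩ := Ideal.mem_span_singleton'.mp hv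
      rw [map_add, map_mul g w, hgg, mul_zero, add_zero, map_add, map_mul, map_mul]
      exact Ideal.mem_span_pair.mpr ⟨_, _, rfl⟩
  have hmapP : ∀ π : R, (Ideal.span {g (MvPolynomial.C π)}).map φ = (Ideal.span {MvPowerSeries.C π} ⊔ Ideal.span {rel r}).map ψ :=
    fun π => by
      rw [Ideal.map_sup, Ideal.map_span, Ideal.map_span, Ideal.map_span, Set.image_singleton, Set.image_singleton, Set.image_singleton,
        hg, MvPolynomial.coe_C, show ψ (rel r) = 0 from Ideal.Quotient.eq_zero_iff_mem.mpr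
          (Ideal.mem_span_singleton_self _), Ideal.span_singleton_zero, sup_bot_eq]
  have hsingle : ∀ (π : R), Prime π → ¬ π ∣ r →
      ((Ideal.span {g (MvPolynomial.C π)}).map φ).IsPrime ∧
      ((Ideal.span {g (MvPolynomial.C π)}).map φ).comap φ = Ideal.span {g (MvPolynomial.C π)} := by
    intro π hπ hπr
    refine ⟨?_, le_antisymm (fun x hx => hred x (Ideal.span {g (MvPolynomial.C π)})
      ((Ideal.span {g (MvPolynomial.C π)}).map φ) (fun f hf => ?_) hx) Ideal.le_comap_map⟩
    · rw [hmapP]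
      refine Ideal.map_isPrime_of_surjective (H := ?_) hψ (hψker.trans_le le_sup_right)
      refine ⟨fun h => ?_, fun {F G} h => ?_⟩
      · have h1 : Ideal.span {MvPowerSeries.C π} ⊔ Ideal.span {rel r} ≤
            (maximalIdeal R).comap (MvPowerSeries.constantCoeff (σ := Fin 2) (R := R)) :=
          sup_le ((Ideal.span_singleton_le_iff_mem _).mpr (by simpa [Ideal.mem_comap] using hπ.not_unit))
            ((Ideal.span_singleton_le_iff_mem _).mpr (by simpa [Ideal.mem_comap, rel] using hrm))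
        rw [h, top_le_iff] at h1
        exact (Ideal.IsPrime.comap _).ne_top h1
      · obtain ⟨u, hu, v, hv, huv⟩ := Submodule.mem_sup.mp h
        obtain ⟨H, rfl⟩ := Ideal.mem_span_singleton'.mp hu
        obtain ⟨a, b, h0, hF⟩ := exists_canon hrm F
        obtain ⟨a', b', h0', hG⟩ := exists_canon hrm G
        have hab : canon a b * canon a' b' - MvPowerSeries.C π * H ∈ Ideal.span {rel r} := by
          rw [show canon a b * canon a' b' - MvPowerSeries.C π * H =
            v - ((F - canon a b) * G + canon a b * (G - canon a' b')) by linear_combination -huv]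
          exact Ideal.sub_mem _ hv (Ideal.add_mem _ (Ideal.mul_mem_right _ _ hF) (Ideal.mul_mem_left _ _ hG))
        have key : ∀ (F : MvPowerSeries (Fin 2) R) (a b : ℕ → R), a 0 = b 0 → F - canon a b ∈ Ideal.span {rel r} →
            (∀ n, π ∣ cc r a b n) → F ∈ Ideal.span {MvPowerSeries.C π} ⊔ Ideal.span {rel r} := by
          intro F a b h0 hF h
          obtain ⟨ha, hb⟩ := span_pi_mem hr hπ hπr h0 h
          choose a₁ ha₁ using ha
          choose b₁ hb₁ using hb
          rw [show F = canon a b + (F - canon a b) by ring, funext ha₁, funext hb₁, canon_mul]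
          refine Ideal.add_mem _ (Ideal.mem_sup_left (Ideal.mem_span_singleton'.mpr ⟨_, mul_comm _ _⟩)) (Ideal.mem_sup_right ?_)
          rw [← canon_mul, ← funext ha₁, ← funext hb₁]; exact hF
        exact (exists_dvd_of_mul hrm hπ hπr hab).imp (key F a b h0 hF) (key G a' b' h0' hG)
    · rw [hmapP, ← Ideal.mem_comap, Ideal.comap_map_of_surjective _ hψ, ← RingHom.ker_eq_comap_bot, hψker,
        sup_eq_left.mpr le_sup_right] at hf
      obtain ⟨u, hu, v, hv, huv⟩ := Submodule.mem_sup.mp hf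
      obtain ⟨H, rfl⟩ := Ideal.mem_span_singleton'.mp hu
      have h1 : (f : MvPowerSeries (Fin 2) R) - MvPowerSeries.C π * H ∈ Ideal.span {rel r} := by
        rw [← huv]; simpa [mul_comm] using hv
      obtain ⟨u', hu', v', hv', rfl⟩ := Submodule.mem_sup.mp (poly_mem hrm hr h1 fun i x h =>
        (hπ.dvd_or_dvd h).resolve_left fun hh => hπr (hπ.dvd_of_dvd_pow hh))
      obtain ⟨s, rfl⟩ := Ideal.mem_span_singleton'.mp hu'
      obtain ⟨w, rfl⟩ := Ideal.mem_span_singleton'.mp hv'
      rw [map_add, map_mul g w, hgg, mul_zero, add_zero, map_mul]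
      exact Ideal.mem_span_singleton'.mpr ⟨_, rfl⟩
  have hcompat : ∀ c, φ (algebraMap R (S) c) = ψ (MvPowerSeries.C c) := fun c => by
    rw [← hgC, hg, MvPolynomial.coe_C]
  refine bijOn_comap φ (fun c => hcompat c) hinj (fun c hc h => ?_) 𝒥 ?_ ?_ ?_ ?_
  · have h2 : MvPowerSeries.C c * 1 ∈ Ideal.span {rel r} := by
      rw [mul_one]; exact Ideal.Quotient.eq_zero_iff_mem.mp h
    exact (domain_rel hrm hr).ne_top ((Ideal.eq_top_iff_one _).mpr (mem_rel_of_C_mul hrm hr hc h2))
  · intro π hπ J hJ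
    by_cases hπr : π ∣ r
    · simp only [𝒥, if_pos hπr] at hJ
      rcases hJ with rfl | rfl
      · exact ⟨hgC π ▸ Ideal.subset_span (Set.mem_insert _ _), hpair π hπ hπr 0⟩
      · exact ⟨hgC π ▸ Ideal.subset_span (Set.mem_insert _ _), hpair π hπ hπr 1⟩
    · simp only [𝒥, if_neg hπr] at hJ
      subst hJ
      exact ⟨hgC π ▸ Ideal.mem_span_singleton_self _, hsingle π hπ hπr⟩
  · intro π hπ q hq hπq
    rw [← hgC] at hπq
    by_cases hπr : π ∣ r
    · obtain ⟨c, hc⟩ := hπr
      have : g (MvPolynomial.X 0) * g (MvPolynomial.X 1) ∈ q := by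
        rw [hgrel, (congrArg (fun z => g (MvPolynomial.C z)) hc : g (MvPolynomial.C r) = g (MvPolynomial.C (π * c))), map_mul, map_mul]; exact q.mul_mem_right _ hπq
      simp only [𝒥, if_pos (Dvd.intro c hc.symm)]
      rcases hq.mem_or_mem this with h | h
      · exact ⟨_, Or.inl rfl, Ideal.span_le.mpr (Set.insert_subset hπq (Set.singleton_subset_iff.mpr h))⟩
      · exact ⟨_, Or.inr rfl, Ideal.span_le.mpr (Set.insert_subset hπq (Set.singleton_subset_iff.mpr h))⟩
    · exact ⟨_, by simp only [𝒥, if_neg hπr]; exact rfl, (Ideal.span_singleton_le_iff_mem _).mpr hπq⟩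
  · intro π hπ Q hQ hπQ
    have hπQ' : φ (g (MvPolynomial.C π)) ∈ Q := by
      rw [hg, MvPolynomial.coe_C]; exact hπQ
    by_cases hπr : π ∣ r
    · obtain ⟨c, hc⟩ := hπr
      have : φ (g (MvPolynomial.X 0)) * φ (g (MvPolynomial.X 1)) ∈ Q := by
        rw [← map_mul, hgrel, (congrArg (fun z => g (MvPolynomial.C z)) hc : g (MvPolynomial.C r) = g (MvPolynomial.C (π * c))), map_mul, map_mul, map_mul]; exact Q.mul_mem_right _ hπQ'
      simp only [𝒥, if_pos (Dvd.intro c hc.symm)]
      rcases hQ.mem_or_mem this with h | h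
      · exact ⟨_, Or.inl rfl, Ideal.map_le_iff_le_comap.mpr (Ideal.span_le.mpr (Set.insert_subset hπQ' (Set.singleton_subset_iff.mpr h)))⟩
      · exact ⟨_, Or.inr rfl, Ideal.map_le_iff_le_comap.mpr (Ideal.span_le.mpr (Set.insert_subset hπQ' (Set.singleton_subset_iff.mpr h)))⟩
    · exact ⟨_, by simp only [𝒥, if_neg hπr]; exact rfl,
        Ideal.map_le_iff_le_comap.mpr ((Ideal.span_singleton_le_iff_mem _).mpr hπQ')⟩
  · intro π hπ J hJ J' hJ' hle
    by_cases hπr : π ∣ r
    · haveI : (Ideal.span {π}).IsPrime := (Ideal.span_singleton_prime hπ.ne_zero).mpr hπ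
      simp only [𝒥, if_pos hπr] at hJ hJ'
      have key : ∀ t t' : Fin 2, t ≠ t' → ¬ (Ideal.span {g (MvPolynomial.C π), g (MvPolynomial.X t')}).map φ ≤
          (Ideal.span {g (MvPolynomial.C π), g (MvPolynomial.X t)}).map φ := by
        intro t t' htt h
        have hm := h (Ideal.mem_map_of_mem φ (Ideal.subset_span (Set.mem_insert_of_mem _ rfl)))
        rw [hmapJ, hg, MvPolynomial.coe_X, ← Ideal.mem_comap, Ideal.comap_map_of_surjective _ hψ,
          ← RingHom.ker_eq_comap_bot, hψker, sup_eq_left.mpr le_sup_right, hker π hπr t, RingHom.mem_ker] at hm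
        have h1 := congrArg (PowerSeries.coeff 1) hm
        rw [RingHom.comp_apply, coeff_res0, map_zero] at h1
        fin_cases t <;> fin_cases t' <;> first | exact htt rfl | (simp [swap_X, MvPowerSeries.coeff_X, ex] at h1)
      rcases hJ with rfl | rfl <;> rcases hJ' with rfl | rfl
      · rfl
      · exact absurd hle (key 0 1 (by decide))
      · exact absurd hle (key 1 0 (by decide))
      · rfl
    · simp only [𝒥, if_neg hπr] at hJ hJ'
      subst hJ; exact hJ'

open CAlg
open IsLocalRing in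

/-- Let R be a regular local ring complete for its maximal ideal, r a non-zero element of R, A the
quotient of the power series ring in x, y over R by xy − r, B the quotient of the polynomial ring in
x, y over R by xy − r, ι : B → A the natural map, P the ideal of B generated by x, y and the maximal
ideal of R, à the localization of B at P and φ : à → A the map extending ι. Call a prime of height
one of A (or of Ã) fibral when it contains a non-zero element of R. Then contraction along φ is a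
bijection from the set of fibral height-one primes of A onto the set of fibral height-one primes of
Ã; equivalently it induces an isomorphism between the free abelian groups of fibral Weil divisors. -/
theorem result
    (R : Type u) [CommRing R] [IsRegularLocalRing R]
    [IsAdicComplete (maximalIdeal R) R]
    (r : R) (hr : r ≠ 0)
    (ι : (MvPolynomial (Fin 2) R ⧸ Ideal.span {(MvPolynomial.X 0 * MvPolynomial.X 1 - MvPolynomial.C r : MvPolynomial (Fin 2) R)}) →+*
      (MvPowerSeries (Fin 2) R ⧸ Ideal.span {(MvPowerSeries.X 0 * MvPowerSeries.X 1 - MvPowerSeries.C r : MvPowerSeries (Fin 2) R)}))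
    (hι : ι.comp (Ideal.Quotient.mk _) =
      (Ideal.Quotient.mk _).comp (MvPolynomial.coeToMvPowerSeries.ringHom : MvPolynomial (Fin 2) R →+* MvPowerSeries (Fin 2) R))
    (P : Ideal (MvPolynomial (Fin 2) R ⧸ Ideal.span {(MvPolynomial.X 0 * MvPolynomial.X 1 - MvPolynomial.C r : MvPolynomial (Fin 2) R)})) [P.IsPrime]
    (hP : P = Ideal.span {Ideal.Quotient.mk _ (MvPolynomial.X 0), Ideal.Quotient.mk _ (MvPolynomial.X 1)} ⊔
      (maximalIdeal R).map (algebraMap R _))
    (φ : Localization.AtPrime P →+* (MvPowerSeries (Fin 2) R ⧸ Ideal.span {(MvPowerSeries.X 0 * MvPowerSeries.X 1 - MvPowerSeries.C r : MvPowerSeries (Fin 2) R)}))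
    (hφ : φ.comp (algebraMap _ (Localization.AtPrime P)) = ι) :
    Set.BijOn (fun 𝔓 => Ideal.comap φ 𝔓)
      {𝔓 | 𝔓.IsPrime ∧ 𝔓.height = 1 ∧ Ideal.comap (algebraMap R _) 𝔓 ≠ ⊥}
      {𝔮 : Ideal (Localization.AtPrime P) | 𝔮.IsPrime ∧ @Ideal.height (Localization.AtPrime P) _ 𝔮 = 1 ∧ Ideal.comap (algebraMap R (Localization.AtPrime P)) 𝔮 ≠ ⊥} := by
  exact main R r hr ι hι P hP (Localization.AtPrime P) φ hφ

end Groth.Agent.S17735
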