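import Groth.Statements.S17737
import Groth.Agent.L13.ThickNode.Tangent
import Mathlib.RingTheory.AdicCompletion.Completeness
import Mathlib.RingTheory.Filtration
import Mathlib.Tactic.LinearCombination
import Mathlib.Tactic.Abel
import Mathlib.Tactic.FinCases

set_option autoImplicit false
universe u
open DualGr

namespace Groth.Agent.S17737

open IsLocalRing in
open TrivSqZeroExt in
/-- One-sided comparison. -/
theorem mem_span_of_node (R A : Type u) [CommRing R] [IsLocalRing R] [IsNoetherianRing R]
    [CommRing A] [IsLocalRing A] (φ : R →+* A) (a b : R) (hb : b ∈ IsLocalRing.maximalIdeal R)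
    (h₁ : DualGr.IsThickNode φ a) (h₂ : DualGr.IsThickNode φ b) : a ∈ Ideal.span {b} := by
  classical
  obtain ⟨ea, hea⟩ := h₁
  obtain ⟨eb, heb⟩ := h₂
  let m := IsLocalRing.maximalIdeal R
  suffices h : ∀ n, 1 ≤ n → a ∈ Ideal.span {b} ⊔ m ^ n by
    have hle : Ideal.span {b} ≤ m := (Ideal.span_singleton_le_iff_mem _).2 hb
    haveI : Nontrivial (R ⧸ Ideal.span {b}) := Ideal.Quotient.nontrivial_iff.2
      (ne_top_of_le_ne_top (IsLocalRing.maximalIdeal.isMaximal R).ne_top hle)
    haveI : IsLocalRing (R ⧸ Ideal.span {b}) :=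
      IsLocalRing.of_surjective' (Ideal.Quotient.mk _) Ideal.Quotient.mk_surjective
    rw [← Ideal.Quotient.eq_zero_iff_mem, ← Ideal.mem_bot,
      ← Ideal.iInf_pow_eq_bot_of_isLocalRing (R := R ⧸ Ideal.span {b})
        (IsLocalRing.maximalIdeal (R ⧸ Ideal.span {b})) (IsLocalRing.maximalIdeal.isMaximal _).ne_top, Submodule.mem_iInf]
    intro n
    rcases Nat.eq_zero_or_pos n with rfl | hn
    · simp
    obtain ⟨u, hu, v, hv, huv⟩ := Submodule.mem_sup.1 (h n hn)
    rw [← huv, map_add, Ideal.Quotient.eq_zero_iff_mem.2 hu, zero_add]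
    refine Ideal.pow_right_mono ?_ n (Ideal.map_pow (Ideal.Quotient.mk (Ideal.span {b})) m n ▸ Ideal.mem_map_of_mem _ hv)
    exact IsLocalRing.le_maximalIdeal (ne_top_of_le_ne_top
      (Ideal.IsMaximal.ne_top (Ideal.IsMaximal.map_of_surjective_of_ker_le Ideal.Quotient.mk_surjective
        (by rw [Ideal.mk_ker]; exact hle))) le_rfl)
  intro n hn
  let I : Ideal R := Ideal.span {b} ⊔ m ^ n
  have hIm : I ≤ m := sup_le ((Ideal.span_singleton_le_iff_mem _).2 hb) (Ideal.pow_le_self (by omega))
  let K := R ⧸ I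
  haveI : Nontrivial K := Ideal.Quotient.nontrivial_iff.2
    (ne_top_of_le_ne_top (IsLocalRing.maximalIdeal.isMaximal R).ne_top hIm)
  haveI : IsLocalRing K := IsLocalRing.of_surjective' (Ideal.Quotient.mk I) Ideal.Quotient.mk_surjective
  let q : Curv2.cpl R →+* K :=
    (Ideal.Quotient.factor (le_sup_right : m ^ n ≤ I)).comp (AdicCompletion.evalₐ m n).toRingHom
  have hq : ∀ r, q (algebraMap R (Curv2.cpl R) r) = Ideal.Quotient.mk I r := by
    intro r
    show Ideal.Quotient.factor (le_sup_right : m ^ n ≤ I) (AdicCompletion.evalₐ m n (algebraMap R (Curv2.cpl R) r)) = _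
    rw [AlgHom.commutes]; rfl
  let lin : MvPowerSeries (Fin 2) K → K × K := fun f =>
    (MvPowerSeries.coeff (Finsupp.single 0 1) f, MvPowerSeries.coeff (Finsupp.single 1 1) f)
  let tay : MvPowerSeries (Fin 2) K →+* TrivSqZeroExt K (K × K) :=
    { toFun := fun f => inl (MvPowerSeries.constantCoeff f) + inr (lin f)
      map_one' := by
        refine TrivSqZeroExt.ext (by simp) ?_
        simp [lin, MvPowerSeries.coeff_one, Finsupp.single_eq_zero]
      map_mul' := fun f g => by
        refine TrivSqZeroExt.ext (by simp) (Prod.ext ?_ ?_) <;>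
          simp [lin, L13.ThickNode.coeff_single_one_mul, mul_comm]
      map_zero' := by refine TrivSqZeroExt.ext (by simp) (by simp [lin])
      map_add' := fun f g => by refine TrivSqZeroExt.ext (by simp) (Prod.ext ?_ ?_) <;> simp [lin] }
  have hb0 : Ideal.Quotient.mk I b = 0 :=
    Ideal.Quotient.eq_zero_iff_mem.2 (Submodule.mem_sup_left (Ideal.mem_span_singleton_self b))
  let ψ : DualGr.nodeRing R b →+* TrivSqZeroExt K (K × K) :=
    Ideal.Quotient.lift _ (tay.comp (MvPowerSeries.map q)) (fun x hx => by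
      refine (Ideal.span_singleton_le_iff_mem (I := RingHom.ker (tay.comp (MvPowerSeries.map q)))).2 ?_ hx
      show tay (MvPowerSeries.map q _) = 0
      rw [map_sub, map_mul, MvPowerSeries.map_C, MvPowerSeries.map_X, MvPowerSeries.map_X, hq, hb0, map_zero,
        sub_zero, map_mul]
      refine TrivSqZeroExt.ext ?_ ?_ <;> simp [tay, lin])
  let Φ : MvPowerSeries (Fin 2) (Curv2.cpl R) →+* TrivSqZeroExt K (K × K) :=
    ((ψ.comp (eb : Curv2.cpl A →+* DualGr.nodeRing R b)).comp
      (ea.symm : DualGr.nodeRing R a →+* Curv2.cpl A)).comp (Ideal.Quotient.mk _)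
  have hCr : ∀ r : R, Φ (MvPowerSeries.C (algebraMap R (Curv2.cpl R) r)) = inl (Ideal.Quotient.mk I r) := by
    intro r
    show ψ (eb (ea.symm (Ideal.Quotient.mk _ _))) = _
    rw [← hea, ea.symm_apply_apply, heb]
    show tay (MvPowerSeries.map q _) = _
    rw [MvPowerSeries.map_C, hq]
    refine TrivSqZeroExt.ext ?_ ?_ <;> simp [tay, lin, MvPowerSeries.coeff_C, Finsupp.single_eq_zero]
  have hC : ∀ z, Φ (MvPowerSeries.C z) = inl (q z) := by
    intro z
    obtain ⟨r, hr⟩ := Submodule.mkQ_surjective _ (AdicCompletion.eval m R n z)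
    have hz : z - algebraMap R (Curv2.cpl R) r ∈ m ^ n • (⊤ : Submodule R (Curv2.cpl R)) := by
      rw [AdicCompletion.pow_smul_top_eq_ker_eval (IsNoetherian.noetherian m), LinearMap.mem_ker, map_sub, ← hr,
        sub_eq_zero]
      rfl
    let δ : Curv2.cpl R → TrivSqZeroExt K (K × K) := fun z => Φ (MvPowerSeries.C z) - TrivSqZeroExt.inlHom K (K × K) (q z)
    have hδ : ∀ w ∈ m ^ n • (⊤ : Submodule R (Curv2.cpl R)), δ w = 0 := by
      intro w hw
      refine Submodule.smul_induction_on hw (fun c hc y _ => ?_) (fun y z hy hz => ?_)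
      · simp only [δ, Algebra.smul_def, map_mul, hCr, hq]
        rw [Ideal.Quotient.eq_zero_iff_mem.2 (Submodule.mem_sup_right hc)]
        simp
      · simp only [δ, map_add] at hy hz ⊢
        linear_combination hy + hz
    have := hδ _ hz
    simp only [δ, map_sub, hCr, hq, inlHom_apply] at this
    have e1 := congr_arg fst this
    have e2 := congr_arg snd this
    simp only [fst_sub, fst_inl, fst_zero, snd_sub, snd_inl, snd_zero, sub_zero] at e1 e2
    refine TrivSqZeroExt.ext ?_ ?_
    · rw [fst_inl]; linear_combination e1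
    · rw [snd_inl]; exact e2
  let ξ : Fin 2 → TrivSqZeroExt K (K × K) := fun i => Φ (MvPowerSeries.X i)
  have hξ0 : ∀ i, (ξ i).fst ∈ IsLocalRing.maximalIdeal K := by
    intro i hu
    have h1 : IsUnit (ξ i) := TrivSqZeroExt.isUnit_iff_isUnit_fst.2 hu
    let Z := ea.symm (Ideal.Quotient.mk _ (MvPowerSeries.X i))
    obtain ⟨f, hf⟩ := Ideal.Quotient.mk_surjective (eb Z)
    have h2 : IsUnit (tay (MvPowerSeries.map q f)) := by
      have : ξ i = tay (MvPowerSeries.map q f) := by
        show ψ (eb Z) = _
        rw [← hf]; rfl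
      exact this ▸ h1
    have h3 : IsUnit (q (MvPowerSeries.constantCoeff f)) := by
      have := TrivSqZeroExt.isUnit_iff_isUnit_fst.1 h2
      simpa [tay] using this
    haveI : IsLocalHom q := by
      constructor
      intro z hz
      by_contra hzu
      have hz' : z ∈ IsLocalRing.maximalIdeal (Curv2.cpl R) := hzu
      rw [AdicCompletion.maximalIdeal_eq_map] at hz'
      have := Ideal.mem_map_of_mem q hz'
      rw [Ideal.map_map, show q.comp (algebraMap R (Curv2.cpl R)) = Ideal.Quotient.mk I from RingHom.ext hq] at this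
      have hle : m.map (Ideal.Quotient.mk I) ≤ IsLocalRing.maximalIdeal K :=
        IsLocalRing.le_maximalIdeal (Ideal.IsMaximal.ne_top
          (Ideal.IsMaximal.map_of_surjective_of_ker_le Ideal.Quotient.mk_surjective (by rw [Ideal.mk_ker]; exact hIm)))
      exact hle this hz
    have h4 : IsUnit Z := by
      have : IsUnit (eb Z) := hf ▸ (MvPowerSeries.isUnit_iff_constantCoeff.2 (h3.of_map q)).map _
      simpa using this.map eb.symm
    have h5 : IsUnit (Ideal.Quotient.mk (Ideal.span {(MvPowerSeries.X 0 * MvPowerSeries.X 1 -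
        MvPowerSeries.C (algebraMap R (Curv2.cpl R) a) : MvPowerSeries (Fin 2) (Curv2.cpl R))})
        (MvPowerSeries.X i)) := by
      have := h4.map ea
      simpa [Z] using this
    obtain ⟨g, hg⟩ := h5.exists_right_inv
    obtain ⟨g, rfl⟩ := Ideal.Quotient.mk_surjective g
    rw [← map_mul, ← map_one (Ideal.Quotient.mk _), Ideal.Quotient.eq, Ideal.mem_span_singleton'] at hg
    obtain ⟨c, hc⟩ := hg
    have := congr_arg MvPowerSeries.constantCoeff hc
    simp only [map_mul, map_sub, MvPowerSeries.constantCoeff_X, MvPowerSeries.constantCoeff_C,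
      map_one, zero_mul, zero_sub, mul_neg] at this
    -- then `a` would be a unit and the node ring trivial
    have hau : IsUnit (algebraMap R (Curv2.cpl R) a) :=
      .of_mul_eq_one (MvPowerSeries.constantCoeff c) (by linear_combination -this)
    have : IsUnit (MvPowerSeries.X 0 * MvPowerSeries.X 1 -
        MvPowerSeries.C (algebraMap R (Curv2.cpl R) a) : MvPowerSeries (Fin 2) (Curv2.cpl R)) :=
      MvPowerSeries.isUnit_iff_constantCoeff.2 (by simpa using hau.neg)
    haveI : Subsingleton (DualGr.nodeRing R a) :=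
      Ideal.Quotient.subsingleton_iff.2 (Ideal.span_singleton_eq_top.2 this)
    haveI : Nontrivial (Curv2.cpl A) :=
      (AdicCompletion.evalOneₐ_surjective (IsLocalRing.maximalIdeal A)).nontrivial
    exact not_subsingleton (Curv2.cpl A) ea.toEquiv.subsingleton
  let M : Submodule K (K × K) := Submodule.span K (Set.range fun i => (ξ i).snd)
  have hM : M = ⊤ := by
    refine top_le_iff.1 (Submodule.le_of_le_smul_of_le_jacobson_bot (I := IsLocalRing.maximalIdeal K)
      Module.Finite.fg_top (IsLocalRing.jacobson_eq_maximalIdeal ⊥ bot_ne_top).ge ?_)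
    intro w _
    obtain ⟨f, hf⟩ : ∃ f, (Φ f).snd = w := by
      obtain ⟨c, hc⟩ : ∃ c : MvPowerSeries (Fin 2) (Curv2.cpl R), (tay (MvPowerSeries.map q c)).snd = w := by
        obtain ⟨r0, h0⟩ := Ideal.Quotient.mk_surjective w.1
        obtain ⟨r1, h1⟩ := Ideal.Quotient.mk_surjective w.2
        refine ⟨MvPowerSeries.C (algebraMap R _ r0) * MvPowerSeries.X 0 +
          MvPowerSeries.C (algebraMap R _ r1) * MvPowerSeries.X 1, ?_⟩
        refine Prod.ext ?_ ?_ <;>
          simp [tay, lin, L13.ThickNode.coeff_single_one_mul, MvPowerSeries.coeff_X,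
            MvPowerSeries.coeff_C, Finsupp.single_eq_single_iff, Finsupp.single_eq_zero, hq, h0, h1]
      obtain ⟨f, hf⟩ := Ideal.Quotient.mk_surjective (ea (eb.symm (Ideal.Quotient.mk _ c)))
      refine ⟨f, ?_⟩
      show (ψ (eb (ea.symm (Ideal.Quotient.mk _ f)))).snd = w
      rw [hf, ea.symm_apply_apply, eb.apply_symm_apply]
      exact hc
    rw [← hf]
    have hmem : f - MvPowerSeries.C (MvPowerSeries.constantCoeff f) ∈
        Ideal.span (MvPowerSeries.X '' ((Finset.univ : Finset (Fin 2)) : Set (Fin 2))) := by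
      rw [Groth.L06.CTens.mem_span_X_iff]
      intro d hd
      obtain rfl : d = 0 := Finsupp.ext fun i => hd i (Finset.mem_univ i)
      simp
    rw [← sub_add_cancel f (MvPowerSeries.C (MvPowerSeries.constantCoeff f)), map_add, snd_add, hC, snd_inl,
      add_zero]
    suffices ∀ y ∈ Ideal.span (MvPowerSeries.X '' ((Finset.univ : Finset (Fin 2)) : Set (Fin 2))),
        (Φ y).fst ∈ IsLocalRing.maximalIdeal K ∧
          (Φ y).snd ∈ M ⊔ IsLocalRing.maximalIdeal K • (⊤ : Submodule K (K × K)) from (this _ hmem).2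
    intro y hy
    induction hy using Submodule.span_induction with
    | mem y hy =>
      obtain ⟨i, -, rfl⟩ := hy
      exact ⟨hξ0 i, Submodule.mem_sup_left (Submodule.subset_span ⟨i, rfl⟩)⟩
    | zero => simp
    | add y z _ _ hy hz => rw [map_add, fst_add, snd_add]; exact ⟨add_mem hy.1 hz.1, add_mem hy.2 hz.2⟩
    | smul c y _ hy =>
      rw [smul_eq_mul, map_mul, fst_mul, snd_mul, op_smul_eq_smul]
      exact ⟨Ideal.mul_mem_left _ _ hy.1, add_mem (Submodule.smul_mem _ _ hy.2)
        (Submodule.mem_sup_right (Submodule.smul_mem_smul hy.1 Submodule.mem_top))⟩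
  let L : (K × K) →ₗ[K] (K × K) :=
    (LinearMap.fst K K K).smulRight (ξ 0).snd + (LinearMap.snd K K K).smulRight (ξ 1).snd
  have hLs : Function.Surjective L := by
    rw [← LinearMap.range_eq_top, eq_top_iff, ← hM, Submodule.span_le]
    rintro _ ⟨i, rfl⟩
    fin_cases i
    · exact ⟨(1, 0), by simp [L]⟩
    · exact ⟨(0, 1), by simp [L]⟩
  have hrel : ξ 0 * ξ 1 = inl (Ideal.Quotient.mk I a) := by
    rw [← map_mul, ← hCr]
    show ψ (eb (ea.symm (Ideal.Quotient.mk _ _))) = ψ (eb (ea.symm (Ideal.Quotient.mk _ _)))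
    rw [Ideal.Quotient.eq.2 (Ideal.mem_span_singleton_self _)]
  have h1 := congr_arg snd hrel
  rw [snd_mul, op_smul_eq_smul, snd_inl] at h1
  have h2 : L ((ξ 1).fst, (ξ 0).fst) = L 0 := by
    rw [map_zero, ← h1]
    simp [L]; abel
  have h3 := congr_arg Prod.fst (OrzechProperty.injective_of_surjective_endomorphism L hLs h2)
  have h4 := congr_arg fst hrel
  simp only [Prod.fst_zero] at h3
  rw [fst_mul, fst_inl, h3, mul_zero] at h4
  exact Ideal.Quotient.eq_zero_iff_mem.1 h4.symm

open IsLocalRing in

/-- Let R be a Noetherian local ring, A a local ring with a ring map φ : R → A, and a, b two elements of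
the maximal ideal of R such that A is formally a node over R both of thickness (a) and of thickness
(b): the completion of A is isomorphic, compatibly with R, to R̂[[x,y]]/(xy − a) and also to
R̂[[x,y]]/(xy − b). Then aR = bR. (This is the uniqueness assertion: the element in a node
presentation is not unique but the principal ideal it generates is; it is stated for presentations
with the element taken in R, whose ideal in R is then determined.) -/
theorem result
    (R A : Type u) [CommRing R] [IsLocalRing R] [IsNoetherianRing R] [CommRing A] [IsLocalRing A]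
    (φ : R →+* A) (a b : R) (ha : a ∈ maximalIdeal R) (hb : b ∈ maximalIdeal R)
    (h₁ : DualGr.IsThickNode φ a) (h₂ : DualGr.IsThickNode φ b) :
    Ideal.span {a} = Ideal.span {b} := by
  exact le_antisymm
    ((Ideal.span_singleton_le_iff_mem _).2 (mem_span_of_node R A φ a b hb h₁ h₂))
    ((Ideal.span_singleton_le_iff_mem _).2 (mem_span_of_node R A φ b a ha h₂ h₁))

end Groth.Agent.S17737
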