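import Groth.Statements.S1774
import Groth.Agent.L29.Dual.RestrictAdj

set_option autoImplicit false
universe u
open CategoryTheory
attribute [local instance] HasDerivedCategory.standard
open Dual

namespace Groth.Agent.S1774

/-- Let A → B be a finite homomorphism of Noetherian rings and R : D(A) → D(B) a right adjoint to
restriction of scalars D(B) → D(A). If K in D(A) is bounded below (its cohomology modules vanish
below some degree) and all its cohomology modules are finite A-modules, then all cohomology modules
of R(K) are finite B-modules. -/
theorem result (A B : Type u) [CommRing A] [CommRing B] [Algebra A B] [IsNoetherianRing A] [IsNoetherianRing B] [Module.Finite A B] (R : Dual.D A ⥤ Dual.D B) (adj : DRing.restrictD (algebraMap A B) ⊣ R) (K : Dual.D A) (a : ℤ) (hKa : ∀ i : ℤ, i < a → Subsingleton (Dual.HD A K i)) (hK : ∀ i : ℤ, Module.Finite A (Dual.HD A K i)) (i : ℤ) : Module.Finite B (Dual.HD B (R.obj K) i) := by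
  let M : ModuleCat.{u} A := (ModuleCat.restrictScalars.{u} (algebraMap A B)).obj (ModuleCat.of B B)
  let e : B →ₗ[A] M :=
    { toFun := fun b => b
      map_add' := fun _ _ => rfl
      map_smul' := fun a b => Algebra.smul_def a b }
  haveI : Module.Finite A M := Module.Finite.of_surjective e fun b => ⟨b, rfl⟩
  haveI := Groth.L29.RestrictAdj.finite_hom_shift (algebraMap A B) adj (ModuleCat.of B B) K i
    (Groth.L29.HomD.finite_hom K (Groth.L29.RestrictAdj.good_of_boundedBelow K a hKa hK) M i)
  exact Module.Finite.equiv (Groth.L29.HomD.evalShiftEquiv (R.obj K) i)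

end Groth.Agent.S1774
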