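import Groth.Statements.S17740
import Groth.Agent.L14.QsChow.Tau

set_option autoImplicit false
open QsChow

namespace Groth.Agent.S17740

/-- For an integer n ≥ 2 put s := n / 2 + 1 (integer part) and, for 2 ≤ j ≤ s, let k_j be the integer
part of the base-2 logarithm of (2n - 1)/(2j - 3); let P := F_2[ε_1, …, ε_s]/(ε_1^n, ε_2^(2^k_2), …,
ε_s^(2^k_s)) over the field F_2 with two elements, and let τ be the F_2-algebra involution of P with
τ(ε_1) = ε_1 and τ(ε_j) = ε_j + ε_1^(2j-3) for 2 ≤ j ≤ s (it exists since (2j-3)·2^k_j ≥ n, and is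
unique). Let 1 ≤ m ≤ n. If for some y in P the element y + τ(y) lies in the ideal ε_1^m P, then y +
τ(y) = ε_1^m z for some τ-fixed z in P. Equivalently: the map from the τ-fixed subalgebra modulo
ε_1^m to P modulo ε_1^m induced by the inclusion is injective on the image of id + τ. -/
theorem result (n : ℕ) (hn : 2 ≤ n)
    (τ : QsChow.P n →ₐ[ZMod 2] QsChow.P n) (hτ1 : τ (QsChow.eps n 1) = QsChow.eps n 1)
    (hτ : ∀ j : ℕ, 2 ≤ j → j ≤ QsChow.numVars n →
      τ (QsChow.eps n j) = QsChow.eps n j + QsChow.eps n 1 ^ (2 * j - 3))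
    (m : ℕ) (hm1 : 1 ≤ m) (hmn : m ≤ n) (y : QsChow.P n)
    (hy : y + τ y ∈ Ideal.span ({QsChow.eps n 1 ^ m} : Set (QsChow.P n))) :
    ∃ z : QsChow.P n, τ z = z ∧ y + τ y = QsChow.eps n 1 ^ m * z := by
  exact Groth.L14.QsChow.add_tau_mem_pow hn τ hτ1 hτ m y hy

end Groth.Agent.S17740
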