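import Groth.Statements.S17743
import Groth.Agent.L28.PtNorm.Basic

set_option autoImplicit false
universe u
open CategoryTheory AlgebraicGeometry
open QsChow

namespace Groth.Agent.S17743

open Groth.Agent.L28

set_option backward.isDefEq.respectTransparency.types false

/-- Let K be a separable algebraic field extension of k and suppose that some intermediate field L of K
over k is finite Galois over k with degree [L:k] not of the form p^n for a prime p and n ≥ 0 (so
[L:k] has at least two prime factors). Then the subgroup of the Chow group of zero-cycles of Spec k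
generated by the classes of push-forwards from Spec F, over the intermediate fields F of K over k
that are finite over k and different from k, is the whole group; that is, the conormed Chow group of
the point relative to K over k is zero. (Degree 1 = p^0 must be excluded: for L = K = k the quotient
is ℤ.) -/
theorem result
    (k : Type u) [Field k] (K : Type u) [Field K] [Algebra k K] [Algebra.IsSeparable k K]
    (L : IntermediateField k K) [FiniteDimensional k L] [IsGalois k L]
    (hL : ∀ p n : ℕ, p.Prime → Module.finrank k L ≠ p ^ n) :
    QsChow.ptNormSubgroup k K = ⊤ := by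
  refine (AddSubgroup.map_injective (PtNorm.coeff_bijective k).injective ?_)
  rw [PtNorm.map_ptNormSubgroup, AddSubgroup.map_top_of_surjective _
    (PtNorm.coeff_bijective k).surjective]
  have key : ∀ p : ℕ, p.Prime →
      ∃ d ∈ PtNorm.degrees k K, ¬ (p : ℤ) ∣ d := by
    intro p hp
    haveI := Fact.mk hp
    let P : Sylow p Gal(L/k) := default
    refine ⟨_, PtNorm.exists_of_subgroup k K L P ?_, ?_⟩
    · intro h1
      obtain ⟨n, hn⟩ := IsPGroup.iff_card.1 P.isPGroup'
      apply hL p n hp
      rw [← IsGalois.card_aut_eq_finrank k L, ← (P : Subgroup Gal(L/k)).index_mul_card, h1, one_mul]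
      exact hn
    · rw [Int.natCast_dvd_natCast]
      exact P.not_dvd_index
  obtain ⟨a, ha⟩ := Int.subgroup_cyclic (AddSubgroup.closure (PtNorm.degrees k K))
  suffices ha1 : IsUnit a by
    rw [ha, AddSubgroup.eq_top_iff']
    intro x
    obtain ⟨v, hv⟩ := ha1.exists_right_inv
    rw [AddSubgroup.mem_closure_singleton]
    refine ⟨x * v, ?_⟩
    rw [smul_eq_mul, mul_assoc, mul_comm v a, hv, mul_one]
  rw [Int.isUnit_iff_natAbs_eq]
  by_contra hne
  obtain ⟨p, hp, hpa⟩ := Nat.exists_prime_and_dvd hne
  obtain ⟨d, hd, hpd⟩ := key p hp
  have := AddSubgroup.subset_closure hd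
  rw [SetLike.mem_coe, ha, AddSubgroup.mem_closure_singleton] at this
  obtain ⟨z, rfl⟩ := this
  exact hpd (dvd_mul_of_dvd_right (Int.natCast_dvd.2 hpa) z)

end Groth.Agent.S17743
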