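import Groth.Statements.S17744
import Groth.Agent.L28.PtNorm.Basic

set_option autoImplicit false
universe u
open CategoryTheory AlgebraicGeometry
open QsChow

namespace Groth.Agent.S17744

open Groth.Agent.L28

set_option backward.isDefEq.respectTransparency.types false

/-- Let K be a separable algebraic field extension of k, let L be an intermediate field of K over k that
is finite Galois over k of degree p^n with p prime and n ≥ 1, and suppose that every intermediate
field of K over k that is finite over k has degree a power of p. Then the subgroup of the Chow group
of zero-cycles of Spec k generated by the classes of push-forwards from Spec F, over the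
intermediate fields F of K over k that are finite over k and different from k, has index p; that is,
the conormed Chow group of the point relative to K over k is cyclic of order p (the field with p
elements, in the source's ring language). (For n = 0, i.e. L = k, the assertion fails with K = k, so
n ≥ 1 is required.) -/
theorem result
    (k : Type u) [Field k] (K : Type u) [Field K] [Algebra k K] [Algebra.IsSeparable k K]
    (L : IntermediateField k K) [FiniteDimensional k L] [IsGalois k L]
    (p n : ℕ) (hp : p.Prime) (hn : 1 ≤ n) (hL : Module.finrank k L = p ^ n)
    (hF : ∀ F : IntermediateField k K, FiniteDimensional k F → ∃ e : ℕ, Module.finrank k F = p ^ e) :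
    (QsChow.ptNormSubgroup k K).index = p := by
  haveI := Fact.mk hp
  rw [← AddSubgroup.index_map_of_bijective (PtNorm.coeff_bijective k), PtNorm.map_ptNormSubgroup]
  suffices h : AddSubgroup.closure (PtNorm.degrees k K) = AddSubgroup.zmultiples (p : ℤ) by
    rw [h, Int.index_zmultiples, Int.natAbs_natCast]
  apply le_antisymm
  · rw [AddSubgroup.closure_le]
    rintro _ ⟨F, hFd, hne, rfl⟩
    obtain ⟨e, he⟩ := hF F hFd
    rw [SetLike.mem_coe, Int.mem_zmultiples_iff, he, Nat.cast_pow]
    refine dvd_pow_self _ ?_
    rintro rfl
    exact hne (IntermediateField.finrank_eq_one_iff.1 (by simpa using he))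
  · rw [AddSubgroup.zmultiples_le]
    apply AddSubgroup.subset_closure
    obtain ⟨n, rfl⟩ := Nat.exists_eq_add_of_le hn
    have hcard : Nat.card Gal(L/k) = p ^ (1 + n) :=
      (IsGalois.card_aut_eq_finrank k L).trans hL
    obtain ⟨P, hP⟩ := Sylow.exists_subgroup_card_pow_prime p
      (G := Gal(L/k)) (n := n) (by rw [hcard]; exact pow_dvd_pow p (Nat.le_add_left n 1))
    have hi : P.index = p := by
      have := P.index_mul_card
      rw [hcard, hP, pow_add, pow_one] at this
      exact Nat.eq_of_mul_eq_mul_right (pow_pos hp.pos n) this
    simpa only [hi] using PtNorm.exists_of_subgroup k K L P (by rw [hi]; exact hp.one_lt.ne')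

end Groth.Agent.S17744
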