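import Groth.Statements.S17752
import Groth.Agent.L04.Avoid

set_option autoImplicit false
universe u
open LocCoh

namespace Groth.Agent.S17752

/-- Let R be a Noetherian ring of Krull dimension d and I an ideal of R. Then there are d + 1 elements
f_0, …, f_d of I such that I and the ideal they generate have the same radical; in other words the
arithmetic rank of I is at most d + 1. -/
theorem result (R : Type u) [CommRing R] [IsNoetherianRing R] (d : ℕ) (hd : ringKrullDim R = d) (I : Ideal R) : ∃ f : Fin (d + 1) → R, (∀ i, f i ∈ I) ∧ I.radical = (Ideal.span (Set.range f)).radical := by
  exact Groth.L04.exists_radical_eq_succ hd I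

end Groth.Agent.S17752
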