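import Groth.Statements.S17754
import Groth.Agent.L04.MatlisEnd
import Mathlib.RingTheory.Filtration
import Mathlib.RingTheory.AdicCompletion.Basic

set_option autoImplicit false
universe u
open CAlg

namespace Groth.Agent.S17754

/-- Let R be a complete Noetherian local ring with maximal ideal m, and let I_0 ⊇ I_1 ⊇ I_2 ⊇ ⋯ be a
descending sequence of ideals of R whose intersection is zero. Then for every natural number n there
is an index s with I_s contained in m^n; that is, the filtration by the I_s is at least as fine as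
the m-adic one. -/
theorem result (R : Type u) [CommRing R] [IsNoetherianRing R] [IsLocalRing R] [IsAdicComplete (IsLocalRing.maximalIdeal R) R] (I : ℕ → Ideal R) (hI : Antitone I) (hinf : ⨅ s, I s = ⊥) (n : ℕ) : ∃ s : ℕ, I s ≤ IsLocalRing.maximalIdeal R ^ n := by
  classical
  set m := IsLocalRing.maximalIdeal R
  have hstab : ∀ N : ℕ, ∃ s, ∀ t, s ≤ t → I s ⊔ m ^ N = I t ⊔ m ^ N := by
    intro N
    haveI : IsArtinian R (R ⧸ m ^ N) := by
      have := Groth.L04.isFiniteLength_quotient_pow (R := R) N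
      rw [isFiniteLength_iff_isNoetherian_isArtinian] at this
      exact this.2
    obtain ⟨s, hs⟩ := IsArtinian.monotone_stabilizes (R := R) (M := R ⧸ m ^ N)
      ⟨fun t => OrderDual.toDual (Submodule.map (Submodule.mkQ (m ^ N)) (I t)), fun _ _ h => Submodule.map_mono (hI h)⟩
    refine ⟨s, fun t ht => ?_⟩
    have h1 := congrArg (fun K => Submodule.comap (Submodule.mkQ (m ^ N)) (OrderDual.ofDual K)) (hs t ht)
    simp only [OrderHom.coe_mk, OrderDual.ofDual_toDual, Submodule.comap_map_mkQ] at h1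
    rw [sup_comm, sup_comm (I t)]
    exact h1
  choose σ hσ using hstab
  let τ : ℕ → ℕ := fun N => (Finset.range (N + 1)).sup σ
  have hτ : Monotone τ := fun a b h => Finset.sup_mono (Finset.range_mono (Nat.add_le_add_right h 1))
  have hτσ : ∀ N, σ N ≤ τ N := fun N => Finset.le_sup (Finset.self_mem_range_succ N)
  have hJ : ∀ N t, τ N ≤ t → I (τ N) ⊔ m ^ N = I t ⊔ m ^ N := fun N t ht => by
    rw [← hσ N (τ N) (hτσ N), hσ N t ((hτσ N).trans ht)]
  by_contra hcon
  push Not at hcon
  obtain ⟨x₀, hx₀, hx₀n⟩ : ∃ x, x ∈ I (τ n) ∧ x ∉ m ^ n := Set.not_subset.1 (hcon (τ n))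
  have step : ∀ j (x : R), x ∈ I (τ (n + j)) → ∃ y, y ∈ I (τ (n + (j + 1))) ∧ x - y ∈ m ^ (n + j) := fun j x hx => by
    have h1 : x ∈ I (τ (n + j)) ⊔ m ^ (n + j) := Ideal.mem_sup_left hx
    rw [hJ _ _ (hτ (Nat.le_succ _))] at h1
    obtain ⟨y, hy, z, hz, e⟩ := Submodule.mem_sup.1 h1
    exact ⟨y, hy, by rw [← e, add_sub_cancel_left]; exact hz⟩
  choose! F hF using step
  let x : ℕ → R := fun j => Nat.rec x₀ F j
  have hxmem : ∀ j, x j ∈ I (τ (n + j)) := fun j => by
    induction j with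
    | zero => exact hx₀
    | succ j ih => exact (hF j _ ih).1
  have hxdiff : ∀ i j, i ≤ j → x i - x j ∈ m ^ (n + i) := fun i j hij => by
    induction j, hij using Nat.le_induction with
    | base => rw [sub_self]; exact zero_mem _
    | succ j hij ih =>
      rw [← sub_add_sub_cancel (x i) (x j)]
      exact add_mem ih (Ideal.pow_le_pow_right (by omega) (hF j _ (hxmem j)).2)
  obtain ⟨L, hL⟩ := IsPrecomplete.prec' (I := m) (M := R) x fun {i j} hij => by
    rw [SModEq.sub_mem, smul_eq_mul, Ideal.mul_top]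
    exact Ideal.pow_le_pow_right (Nat.le_add_left i n) (hxdiff i j hij)
  have hL' : ∀ j, x j - L ∈ m ^ j := fun j => by
    have := hL j
    rwa [SModEq.sub_mem, smul_eq_mul, Ideal.mul_top] at this
  have hmem : ∀ s N, L ∈ I s ⊔ m ^ N := fun s N => by
    have h1 : x N ∈ I s ⊔ m ^ N := by
      have h2 : x N ∈ I (τ N) ⊔ m ^ N := Ideal.mem_sup_left (hI (hτ (Nat.le_add_left N n)) (hxmem N))
      rcases le_total (τ N) s with h | h
      · rwa [hJ N s h] at h2
      · exact sup_le_sup_right (hI h) _ h2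
    rw [← sub_sub_cancel (x N) L]
    exact sub_mem h1 (Ideal.mem_sup_right (hL' N))
  have hIs : ∀ s, L ∈ I s := fun s => by
    have hne : (⨅ N, m ^ N • (⊤ : Submodule R (R ⧸ I s))) = ⊥ :=
      Ideal.iInf_pow_smul_eq_bot_of_isLocalRing m (IsLocalRing.maximalIdeal.isMaximal R).ne_top
    rw [← Ideal.Quotient.eq_zero_iff_mem, ← Submodule.mem_bot R, ← hne, Submodule.mem_iInf]
    intro N
    obtain ⟨a, ha, b, hb, e⟩ := Submodule.mem_sup.1 (hmem s N)
    rw [← e, map_add, Ideal.Quotient.eq_zero_iff_mem.2 ha, zero_add, ← mul_one (Ideal.Quotient.mk (I s) b)]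
    exact (show (Ideal.Quotient.mk (I s) b * 1 : R ⧸ I s) = b • (1 : R ⧸ I s) from (Algebra.smul_def b 1).symm) ▸ Submodule.smul_mem_smul hb Submodule.mem_top
  have hL0 : L = 0 := by
    have := Submodule.mem_iInf (fun s => I s) |>.2 hIs
    rwa [hinf, Submodule.mem_bot] at this
  refine hx₀n ?_
  have h1 := add_mem (hxdiff 0 n (Nat.zero_le n)) (hL' n)
  rwa [sub_add_sub_cancel, hL0, sub_zero] at h1


end Groth.Agent.S17754
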