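import Groth.Statements.S17755
import Groth.Agent.L04.Canon.GorAnn

set_option autoImplicit false
universe u
open LocCoh

namespace Groth.Agent.S17755

/-- Let R be a Noetherian local ring with maximal ideal m which is a homomorphic image of a Gorenstein
local ring, and let M be a finitely generated R-module whose support has dimension n. Then the
following are equivalent: (1) M is generalized Cohen–Macaulay, i.e. the local cohomology module
H^i_m(M) has finite length for every i < n; (2) M is equidimensional, i.e. R ⧸ p has dimension n for
every minimal prime p of the annihilator of M, and for every prime p ≠ m containing the annihilator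
of M the localization M_p is a Cohen–Macaulay module over R_p (its depth equals the dimension of its
support). -/
theorem result (R : Type u) [CommRing R] [IsNoetherianRing R] [IsLocalRing R] (R' : Type u) [CommRing R'] [LocCoh.IsGorensteinLocalRing R'] (g : R' →+* R) (hg : Function.Surjective g) (M : Type u) [AddCommGroup M] [Module R M] [Module.Finite R M] (n : ℕ) (hn : Module.supportDim R M = n) : (∀ i : ℕ, i < n → IsFiniteLength R (LocCoh.H (IsLocalRing.maximalIdeal R) i M)) ↔ ((∀ p ∈ (Module.annihilator R M).minimalPrimes, ringKrullDim (R ⧸ p) = n) ∧ ∀ (p : Ideal R) [p.IsPrime], p ≠ IsLocalRing.maximalIdeal R → Module.annihilator R M ≤ p → LocCoh.IsCohenMacaulayModule (Localization.AtPrime p) (LocalizedModule p.primeCompl M)) := by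

    exact Groth.L04.Canon.generalizedCM_iff g hg M hn

end Groth.Agent.S17755
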