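import Groth.Statements.S17756
import Groth.Agent.L04.MatlisMisc

set_option autoImplicit false
universe u
open Matlis

namespace Groth.Agent.S17756

/-- Let R be a Noetherian local ring with maximal ideal m and residue field k, E an injective hull of k,
and M a finitely generated R-module with Matlis dual M^v = Hom_R(M, E). Then the minimal number of
generators of M equals the k-dimension of the socle of M^v, the submodule of elements of M^v killed
by m (stated as its length as an R-module). -/
theorem result (R : Type u) [CommRing R] [IsNoetherianRing R] [IsLocalRing R] (E : Type u) [AddCommGroup E] [Module R E] (f : IsLocalRing.ResidueField R →ₗ[R] E) (hf : InjHull.IsInjectiveHull f) (M : Type u) [AddCommGroup M] [Module R M] [Module.Finite R M] : ((⊤ : Submodule R M).spanFinrank : ℕ∞) = Module.length R (LocCoh.torsionBy (IsLocalRing.maximalIdeal R) (M →ₗ[R] E)) := by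
  exact Groth.L04.spanFinrank_eq_length_socle_dual hf M

end Groth.Agent.S17756
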