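import Groth.Statements.S17758
import Groth.Agent.L04.Canon.Connected

set_option autoImplicit false
universe u
open LocCoh

namespace Groth.Agent.S17758

/-- Let R be a complete Noetherian local domain of Krull dimension d with maximal ideal m, and I a
proper ideal of R of arithmetic rank at most d − 2: there are elements f_1, …, f_t with t + 2 ≤ d
such that I and (f_1, …, f_t) have the same radical. Then the punctured spectrum of R ⧸ I, viewed as
the set of prime ideals of R that contain I and differ from m, is a nonempty connected subset of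
Spec R. (Connectedness is taken here to include nonemptiness, so the unit ideal, whose punctured
spectrum is empty, is excluded; for a proper I nonemptiness is automatic, since otherwise I would be
m-primary and m would be minimal over an ideal generated by t ≤ d − 2 elements, against Krull's
height bound.) -/
theorem result (R : Type u) [CommRing R] [IsDomain R] [IsNoetherianRing R] [IsLocalRing R] [IsAdicComplete (IsLocalRing.maximalIdeal R) R] (d : ℕ) (hd : ringKrullDim R = d) (t : ℕ) (ht : t + 2 ≤ d) (f : Fin t → R) (I : Ideal R) (hItop : I ≠ ⊤) (hI : I.radical = (Ideal.span (Set.range f)).radical) : IsConnected {x : PrimeSpectrum R | I ≤ x.asIdeal ∧ x.asIdeal ≠ IsLocalRing.maximalIdeal R} := by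

    open IsLocalRing Groth.L04.Canon Groth.L10.FormCat in
    (classical
     have hcd : LocCoh.CdLE R I t := by
       refine cdLE_of_radical_eq hI.symm ?_
       have h := Groth.L04.LC.cdLE_span_finset (R := R) (Finset.univ.image f)
       rw [Finset.coe_image, Finset.coe_univ, Set.image_univ] at h
       exact fun M _ _ i hi => h M i (lt_of_le_of_lt (Finset.card_image_le.trans (by simp)) hi)
     obtain ⟨δ, hδ⟩ := exists_quotDim_eq (R := R) hItop
     have hδd := dim_le_cd_add hd δ I t hItop hδ hcd
     have hge := hδ.ge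
     rw [ringKrullDim_quotient] at hge
     obtain ⟨p₀, hp₀, hp₀d⟩ := exists_mem_le_qd _ hge
     have hqm : qd (⟨maximalIdeal R, inferInstance⟩ : PrimeSpectrum R) = 0 :=
       (qd_eq_iff _ 0).1 (by exact_mod_cast ringKrullDim_eq_zero_of_field (ResidueField R))
     refine ⟨⟨p₀, hp₀, fun h => ?_⟩, isPreconnected_closed_iff.2 fun T₁ T₂ hT₁ hT₂ hcov h1 h2 => ?_⟩
     · have : p₀ = ⟨maximalIdeal R, inferInstance⟩ := PrimeSpectrum.ext h
       rw [this] at hp₀d
       omega
     by_contra hemp
     obtain ⟨cA, hcA⟩ := (PrimeSpectrum.isClosed_iff_zeroLocus_ideal _).1 hT₁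
     obtain ⟨cB, hcB⟩ := (PrimeSpectrum.isClosed_iff_zeroLocus_ideal _).1 hT₂
     obtain ⟨x₁, hx₁, hx₁'⟩ := h1
     obtain ⟨x₂, hx₂, hx₂'⟩ := h2
     rw [hcA] at hx₁'
     rw [hcB] at hx₂'
     let A : Ideal R := (I ⊔ cA) ⊓ maximalIdeal R
     let B : Ideal R := (I ⊔ cB) ⊓ maximalIdeal R
     have hA : A ≠ ⊤ := ne_top_of_le_ne_top (maximalIdeal.isMaximal R).ne_top inf_le_right
     have hB : B ≠ ⊤ := ne_top_of_le_ne_top (maximalIdeal.isMaximal R).ne_top inf_le_right
     have hmem : ∀ (c : Ideal R) (q : PrimeSpectrum R), (I ⊔ c) ⊓ maximalIdeal R ≤ q.asIdeal →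
         q.asIdeal ≠ maximalIdeal R → I ≤ q.asIdeal ∧ c ≤ q.asIdeal := fun c q hq hne => by
       rcases q.isPrime.inf_le.1 hq with h | h
       · exact ⟨le_sup_left.trans h, le_sup_right.trans h⟩
       · exact absurd ((maximalIdeal.isMaximal R).eq_of_le q.2.ne_top h).symm hne
     have hzero : ringKrullDim (R ⧸ (A ⊔ B)) = (0 : ℕ) := by
       obtain ⟨m, hm⟩ := exists_quotDim_eq (R := R) (K := A ⊔ B)
         (ne_top_of_le_ne_top (maximalIdeal.isMaximal R).ne_top (sup_le inf_le_right inf_le_right))
       have hm0 : ringKrullDim (R ⧸ (A ⊔ B)) ≤ (0 : ℕ) := by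
         refine quotDim_le_iff_forall.2 fun q hq => ?_
         by_cases hne : q.asIdeal = maximalIdeal R
         · rw [show q = ⟨maximalIdeal R, inferInstance⟩ from PrimeSpectrum.ext hne, hqm]
         · exfalso
           obtain ⟨hIq, hqA⟩ := hmem cA q (le_sup_left.trans hq) hne
           obtain ⟨-, hqB⟩ := hmem cB q (le_sup_right.trans hq) hne
           exact hemp ⟨q, ⟨hIq, hne⟩, hcA ▸ hqA, hcB ▸ hqB⟩
       rw [hm] at hm0 ⊢
       exact_mod_cast le_antisymm (by exact_mod_cast hm0 : m ≤ 0) (Nat.zero_le m)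
     have hpos : ∀ (c : Ideal R) (x : PrimeSpectrum R), I ≤ x.asIdeal → x.asIdeal ≠ maximalIdeal R →
         c ≤ x.asIdeal → ((0 : ℕ) : WithBot ℕ∞) < ringKrullDim (R ⧸ ((I ⊔ c) ⊓ maximalIdeal R)) := by
       intro c x hx hxm hxc
       refine not_le.1 fun hle => ?_
       have h0 := qd_le_of_mem hle (q := x) (inf_le_left.trans (sup_le hx hxc))
       exact hxm (congrArg PrimeSpectrum.asIdeal (eq_of_le_of_qd (p := x) (q := ⟨maximalIdeal R, inferInstance⟩)
         (le_maximalIdeal x.2.ne_top) (by omega)))
     have hrad : (A ⊓ B).radical = I.radical := by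
       refine le_antisymm ?_ (Ideal.radical_mono (le_inf (le_inf le_sup_left (le_maximalIdeal hItop))
         (le_inf le_sup_left (le_maximalIdeal hItop))))
       rw [Ideal.radical_eq_sInf I]
       refine le_sInf fun q ⟨hq, hqp⟩ => hqp.radical_le_iff.2 ?_
       by_cases hne : q = maximalIdeal R
       · exact inf_le_left.trans (inf_le_right.trans hne.ge)
       · rcases hcov (show (⟨q, hqp⟩ : PrimeSpectrum R) ∈ _ from ⟨hq, hne⟩) with hA' | hB'
         · rw [hcA] at hA'
           exact inf_le_left.trans (inf_le_left.trans (sup_le hq hA'))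
         · rw [hcB] at hB'
           exact inf_le_right.trans (inf_le_left.trans (sup_le hq hB'))
     have hfin := faltings_domain hd 0 A B t hA hB hzero (hpos cA x₁ hx₁.1 hx₁.2 hx₁') (hpos cB x₂ hx₂.1 hx₂.2 hx₂')
       (cdLE_of_radical_eq hrad.symm hcd)
     omega)

end Groth.Agent.S17758
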