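import Groth.Statements.S17759
import Groth.Agent.L04.Canon.HLVGlobal

set_option autoImplicit false
universe u
open LocCoh

namespace Groth.Agent.S17759

/-- Let R be a complete Noetherian local ring with maximal ideal m, E an injective hull of its residue
field, I an ideal of R and M a finitely generated R-module whose support has dimension n. Then the
set of associated primes of the Matlis dual Hom_R(H^n_I(M), E) of the top local cohomology module
(the coassociated primes of H^n_I(M)) is the set of prime ideals p of R containing the annihilator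
of M such that R ⧸ p has dimension n and the radical of I + p is m. -/
theorem result (R : Type u) [CommRing R] [IsNoetherianRing R] [IsLocalRing R] [IsAdicComplete (IsLocalRing.maximalIdeal R) R] (E : Type u) [AddCommGroup E] [Module R E] (f : IsLocalRing.ResidueField R →ₗ[R] E) (hf : InjHull.IsInjectiveHull f) (I : Ideal R) (M : Type u) [AddCommGroup M] [Module R M] [Module.Finite R M] (n : ℕ) (hn : Module.supportDim R M = n) : associatedPrimes R (LocCoh.H I n M →ₗ[R] E) = {p : Ideal R | p.IsPrime ∧ Module.annihilator R M ≤ p ∧ ringKrullDim (R ⧸ p) = n ∧ (I ⊔ p).radical = IsLocalRing.maximalIdeal R} := by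

    open IsLocalRing Groth.L04.Canon Groth.L10.FormCat in
    (haveI : Nontrivial M := by
       refine not_subsingleton_iff_nontrivial.1 fun h => ?_
       rw [Module.supportDim_eq_bot_of_subsingleton] at hn
       exact WithBot.bot_ne_coe hn
     set a := Module.annihilator R M with ha
     have hne : a ≠ ⊤ := fun h => not_subsingleton M (Module.annihilator_eq_top_iff.1 h)
     haveI := Groth.L01.isLocalRing_quotient hne
     haveI := Groth.L01.NagataComplete.isAdicComplete_quotient a
     have hg : Function.Surjective (algebraMap R (R ⧸ a)) := Ideal.Quotient.mk_surjective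
     have hd : ringKrullDim (R ⧸ a) = n :=
       (Module.supportDim_eq_ringKrullDim_quotient_annihilator (R := R) (M := M)).symm.trans hn
     letI : Module (R ⧸ a) M :=
       Module.IsTorsionBySet.module (fun x r => Module.mem_annihilator.1 r.2 x : Module.IsTorsionBySet R M (a : Set R))
     haveI : IsScalarTower R (R ⧸ a) M := IsScalarTower.of_algebraMap_smul fun _ _ => rfl
     haveI : Module.Finite (R ⧸ a) M := Module.Finite.of_restrictScalars_finite R (R ⧸ a) M
     obtain ⟨EC, _, _, _, _, ev, hev⟩ := exists_coind (R := R ⧸ a) hg E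
     obtain ⟨g, hgh⟩ := exists_isInjectiveHull_coind hg hev hf
     obtain ⟨e⟩ := nonempty_dual_H_restrict_ideal hg hf hgh I n M
     have hrad : ∀ P : Ideal (R ⧸ a), (I.map (algebraMap R (R ⧸ a)) ⊔ P).radical = maximalIdeal (R ⧸ a) ↔
         (I ⊔ P.comap (algebraMap R (R ⧸ a))).radical = maximalIdeal R := fun P => by
       have h1 : (I ⊔ P.comap (algebraMap R (R ⧸ a))).radical =
           ((I.map (algebraMap R (R ⧸ a)) ⊔ P).radical).comap (algebraMap R (R ⧸ a)) := by
         rw [Ideal.comap_radical]
         conv_rhs => rw [← Ideal.map_comap_of_surjective _ hg P, ← Ideal.map_sup,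
           Ideal.comap_map_of_surjective' _ hg]
         rw [sup_eq_left.2 ((Ideal.ker_le_comap _).trans (le_sup_right (a := I)))]
       have h2 : (maximalIdeal (R ⧸ a)).comap (algebraMap R (R ⧸ a)) = maximalIdeal R := by
         haveI := Ideal.comap_isMaximal_of_surjective _ hg (K := maximalIdeal (R ⧸ a))
         exact eq_maximalIdeal this
       rw [h1, ← h2]
       exact (Ideal.comap_injective_of_surjective _ hg).eq_iff.symm
     ext p
     rw [← LinearEquiv.AssociatedPrimes.eq e, mem_associatedPrimes_restrict hg,
       associatedPrimes_dual_top hd hgh (I.map (algebraMap R (R ⧸ a))) M]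
     constructor
     · rintro ⟨P, ⟨hP, hPd, hPr⟩, rfl⟩
       haveI : P.IsPrime := IsAssociatedPrime.isPrime hP
       exact ⟨inferInstance, le_trans (fun x hx => by
         rw [Ideal.mem_comap, Ideal.Quotient.algebraMap_eq, Ideal.Quotient.eq_zero_iff_mem.2 hx]
         exact P.zero_mem) le_rfl, (ringKrullDim_quotient_comap' hg P).trans hPd, (hrad P).1 hPr⟩
     · rintro ⟨hp, hap, hpd, hpr⟩
       have hcomap : (p.map (algebraMap R (R ⧸ a))).comap (algebraMap R (R ⧸ a)) = p := by
         rw [Ideal.comap_map_of_surjective' _ hg, sup_eq_left, Ideal.Quotient.algebraMap_eq, Ideal.mk_ker]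
         exact hap
       haveI hPp : (p.map (algebraMap R (R ⧸ a))).IsPrime := Ideal.map_isPrime_of_surjective hg
         (by rw [Ideal.Quotient.algebraMap_eq, Ideal.mk_ker]; exact hap)
       have hPd : ringKrullDim ((R ⧸ a) ⧸ p.map (algebraMap R (R ⧸ a))) = n :=
         (ringKrullDim_quotient_comap' hg _).symm.trans (by rw [hcomap]; exact hpd)
       refine ⟨_, ⟨?_, hPd, (hrad _).2 (by rw [hcomap]; exact hpr)⟩, hcomap⟩
       refine Module.associatedPrimes.minimalPrimes_annihilator_subset_associatedPrimes _ _
         ⟨⟨hPp, fun c hc => ?_⟩, fun q hq hqp => ?_⟩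
       · obtain ⟨r, rfl⟩ := hg c
         refine Ideal.mem_map_of_mem _ (hap (Module.mem_annihilator.2 fun x => ?_))
         rw [← IsScalarTower.algebraMap_smul (R ⧸ a) r x]
         exact Module.mem_annihilator.1 hc x
       · exact (congrArg PrimeSpectrum.asIdeal (eq_of_le_of_qd (p := ⟨q, hq.1⟩)
           (q := ⟨p.map (algebraMap R (R ⧸ a)), hPp⟩) hqp ((qd_le hd _).trans ((qd_eq_iff (⟨p.map (algebraMap R (R ⧸ a)), hPp⟩ : PrimeSpectrum (R ⧸ a)) n).1 hPd).ge))).ge)

end Groth.Agent.S17759
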