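import Groth.Statements.S17762
import Groth.Agent.L04.Canon.GorAnn

set_option autoImplicit false
universe u
open LocCoh

namespace Groth.Agent.S17762

/-- Let R be a Noetherian local ring with maximal ideal m which is a homomorphic image of a Gorenstein
local ring, M a finitely generated R-module, J an ideal of R and i a natural number. Then J is
contained in the radical of the annihilator of H^i_m(M) if and only if for every prime ideal p of R
not containing J, the local cohomology module H^j_{pR_p}(M_p) over R_p vanishes for the index j with
j + dim(R ⧸ p) = i (no condition when i < dim(R ⧸ p)). -/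
theorem result (R : Type u) [CommRing R] [IsNoetherianRing R] [IsLocalRing R] (R' : Type u) [CommRing R'] [LocCoh.IsGorensteinLocalRing R'] (g : R' →+* R) (hg : Function.Surjective g) (M : Type u) [AddCommGroup M] [Module R M] [Module.Finite R M] (J : Ideal R) (i : ℕ) : J ≤ (Module.annihilator R (LocCoh.H (IsLocalRing.maximalIdeal R) i M)).radical ↔ ∀ (p : Ideal R) [p.IsPrime], ¬ J ≤ p → ∀ j : ℕ, (j : WithBot ℕ∞) + ringKrullDim (R ⧸ p) = i → Subsingleton (LocCoh.H (IsLocalRing.maximalIdeal (Localization.AtPrime p)) j (LocalizedModule p.primeCompl M)) := by

    open Groth.L10.FormCat Groth.L04.LC in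
    (rw [Groth.L04.Canon.le_radical_annihilator_H_iff_image g hg M J i]
     refine ⟨fun h p _ hp j hj => ?_, fun h p hp j hj => ?_⟩
     · rw [subsingleton_local_iff_locZero]
       rw [dim_quot ⟨p, inferInstance⟩] at hj
       exact h ⟨p, inferInstance⟩ hp j (by exact_mod_cast hj)
     · haveI := p.isPrime
       rw [← subsingleton_local_iff_locZero]
       refine h p.asIdeal hp j ?_
       rw [dim_quot]
       exact_mod_cast hj)

end Groth.Agent.S17762
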