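import Groth.Statements.S17764
import Groth.Agent.L04.Essential

set_option autoImplicit false
universe u
open InjHull

namespace Groth.Agent.S17764

/-- Let R be a commutative ring and M an R-module which is torsion-free (no nonzero element of R kills a
nonzero element of M) and divisible (multiplication by every nonzero element of R is surjective on
M). Then M is an injective R-module. (Over a ring with zero divisors the two hypotheses force M =
0.) -/
theorem result (R : Type u) [CommRing R] (M : Type u) [AddCommGroup M] [Module R M] [NoZeroSMulDivisors R M] (hdiv : ∀ r : R, r ≠ 0 → Function.Surjective (fun m : M => r • m)) : Module.Injective R M := by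
  refine Module.Baer.injective fun I g => ?_
  by_cases hI : I = ⊥
  · exact ⟨0, fun x hx => by
      have : (⟨x, hx⟩ : I) = 0 := Subtype.ext (by simpa [hI] using hx)
      rw [this, map_zero, LinearMap.zero_apply]⟩
  obtain ⟨a, ha, ha0⟩ := (Submodule.ne_bot_iff _).1 hI
  obtain ⟨m, hm⟩ := hdiv a ha0 (g ⟨a, ha⟩)
  refine ⟨LinearMap.toSpanSingleton R M m, fun x hx => ?_⟩
  have h : a • g ⟨x, hx⟩ = x • g ⟨a, ha⟩ := by
    rw [← map_smul, ← map_smul]
    exact congrArg g (Subtype.ext (mul_comm a x))
  rw [LinearMap.toSpanSingleton_apply]
  have h2 : a • (x • m) = a • g ⟨x, hx⟩ := by rw [h, smul_comm, show a • m = _ from hm]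
  rw [← sub_eq_zero, ← smul_sub] at h2
  exact sub_eq_zero.1 ((NoZeroSMulDivisors.eq_zero_or_eq_zero_of_smul_eq_zero h2).resolve_left ha0)

end Groth.Agent.S17764
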