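import Groth.Statements.S17765
import Groth.Agent.L04.CMLoc

set_option autoImplicit false
universe u
open CategoryTheory
open LocCoh

namespace Groth.Agent.S17765

/-- Let B be a regular local ring, M a finitely generated B-module and p an associated prime ideal of M.
Then the height of p is at most the projective dimension of M: for every n such that M has
projective dimension at most n, ht p ≤ n. -/
theorem result (B : Type u) [CommRing B] [IsRegularLocalRing B] (M : Type u) [AddCommGroup M] [Module B M] [Module.Finite B M] (p : Ideal B) (hp : p ∈ associatedPrimes B M) (n : ℕ) (hn : HasProjectiveDimensionLE (ModuleCat.of B M) n) : p.height ≤ n := by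
  exact Groth.L04.height_le_of_pd_of_mem_associatedPrimes hp hn

end Groth.Agent.S17765
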