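import Groth.Statements.S17772
import Groth.Agent.L04.Graded.SerreFormula

set_option autoImplicit false
universe u
open GrLC

namespace Groth.Agent.S17772

/-- Let R = ⊕_{n ≥ 0} R_n be a positively ℤ-graded ring which is standard graded (irrelevant ideal
generated by R_1), with R_0 Artinian, *local with unique homogeneous maximal ideal m, and
Cohen–Macaulay of Krull dimension d; let H_R(n) = ℓ_{R_0}(R_n) be its Hilbert function and P_R ∈
ℚ[X] its Hilbert polynomial (a polynomial agreeing with H_R for all large n, taken as given). Then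
the a-invariant of R, the largest degree in which H^d_m(R) is nonzero (computed from any *injective
resolution of R), equals the supremum of the integers n with P_R(n) ≠ H_R(n). (The published text
writes 'min' for this supremum; the set of such n is unbounded below whenever it is nonempty, e.g.
all n < 0 for a polynomial ring over a field, and the published one-line proof H_R(n) − P_R(n) =
(−1)^d ℓ(H^d_m(R)_n) identifies the set with the nonzero degrees of H^d_m(R), whose largest element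
is a(R).) -/
theorem result (R : Type u) [CommRing R] [LocCoh.IsCohenMacaulayRing R] (𝒜 : ℤ → AddSubgroup R) [GradedRing 𝒜] (hpos : ∀ n : ℤ, n < 0 → 𝒜 n = ⊥) (hstd : Ideal.span (⋃ n ∈ Set.Ioi (0 : ℤ), (𝒜 n : Set R)) = Ideal.span ((𝒜 1 : AddSubgroup R) : Set R)) [IsArtinianRing (GrLC.deg0 𝒜)] (m : HomogeneousIdeal 𝒜) (hm : GrLC.IsStarLocal 𝒜 m) (d : ℕ) (hd : ringKrullDim R = d) (I : GrLC.StarInjRes 𝒜 𝒜) (P : Polynomial ℚ) (hP : ∃ N : ℤ, ∀ n : ℤ, N ≤ n → P.eval (n : ℚ) = ((Module.length (GrLC.deg0 𝒜) (GrLC.comp 𝒜 𝒜 n)).toNat : ℚ)) : GrLC.endDeg (I.Hgr m d) = ⨆ (n : ℤ) (_ : P.eval (n : ℚ) ≠ ((Module.length (GrLC.deg0 𝒜) (GrLC.comp 𝒜 𝒜 n)).toNat : ℚ)), ((n : WithTop ℤ) : WithBot (WithTop ℤ)) := by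
  have key : ∀ g : ℤ, I.Hgr m d g ≠ ⊥ ↔
      P.eval (g : ℚ) ≠ ((Module.length (GrLC.deg0 𝒜) (GrLC.comp 𝒜 𝒜 g)).toNat : ℚ) := fun g => by
    have h := Groth.L04.Graded.chi_eq_eval (m := m) hpos hm hd.le (⊥ : Ideal R) (GrLC.GMod.of 𝒜 R 𝒜)
      (Module.Finite.self R) (fun r hr x => by rw [(Submodule.mem_bot R).1 hr, zero_smul]) I P hP g
    have hsum : ∑ i ∈ Finset.range (d + 1), (-1 : ℚ) ^ i * Groth.L04.Graded.len (GrLC.deg0 𝒜) (I.Hcomp m i g) =
        (-1 : ℚ) ^ d * Groth.L04.Graded.len (GrLC.deg0 𝒜) (I.Hcomp m d g) := by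
      refine Finset.sum_eq_single d (fun i hi hid => ?_) (fun hn => absurd (Finset.self_mem_range_succ d) hn)
      haveI : Subsingleton (I.Hcomp m i g) := subsingleton_of_forall_eq 0 fun x => Subtype.ext
        ((AddSubgroup.mem_bot).1 (Groth.L12.GrLCLib.van_below_dim hpos hm hd
          (lt_of_le_of_ne (Finset.mem_range_succ_iff.1 hi) hid) g I ▸ (x.2 : x.1 ∈ I.Hgr m i g)))
      rw [Groth.L04.Graded.len_subsingleton, mul_zero]
    haveI := (Groth.L12.GrLCLib.good_starLocal m hpos hm d R 𝒜 (Module.Finite.self R)).2 I g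
    have hne : I.Hgr m d g ≠ ⊥ ↔ Groth.L04.Graded.len (GrLC.deg0 𝒜) (I.Hcomp m d g) ≠ 0 := by
      refine not_congr ⟨fun hb => ?_, fun h0 => ?_⟩
      · haveI : Subsingleton (I.Hcomp m d g) := subsingleton_of_forall_eq 0 fun x => Subtype.ext
          ((AddSubgroup.mem_bot).1 (hb ▸ (x.2 : x.1 ∈ I.Hgr m d g)))
        exact Groth.L04.Graded.len_subsingleton
      · have h1 : (Module.length (GrLC.deg0 𝒜) (I.Hcomp m d g)).toNat = 0 := Nat.cast_eq_zero.1 h0
        rw [ENat.toNat_eq_zero, or_iff_left Groth.L04.Graded.length_ne_top_of_isArtinian,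
          Module.length_eq_zero_iff] at h1
        refine (AddSubgroup.eq_bot_iff_forall _).2 fun x hx => ?_
        exact congrArg Subtype.val (@Subsingleton.elim _ h1 (⟨x, hx⟩ : I.Hcomp m d g) 0)
    have hchi : Groth.L04.Graded.chi (ℳ := 𝒜) m d I g = Groth.L04.Graded.len (GrLC.deg0 𝒜) (GrLC.comp 𝒜 𝒜 g) -
        (-1 : ℚ) ^ d * Groth.L04.Graded.len (GrLC.deg0 𝒜) (I.Hcomp m d g) := by
      rw [← hsum]
      rfl
    have h' := hchi.symm.trans h
    rw [hne, ← h', not_iff_not]
    constructor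
    · intro h0
      rw [h0, mul_zero, sub_zero]
      rfl
    · intro h0
      have h2 : (-1 : ℚ) ^ d * Groth.L04.Graded.len (GrLC.deg0 𝒜) (I.Hcomp m d g) = 0 := sub_eq_self.1 h0
      exact (mul_eq_zero.1 h2).resolve_left (pow_ne_zero _ (by norm_num))
  unfold GrLC.endDeg
  exact iSup_congr fun g => by rw [key g]

end Groth.Agent.S17772
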