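import Groth.Statements.S17773
import Groth.Agent.L28.TorFacts
import Mathlib.Algebra.Homology.ShortComplex.HomologicalComplex
import Mathlib.CategoryTheory.Monoidal.Tor
import Mathlib.Algebra.Homology.QuasiIso

set_option autoImplicit false
universe u
open CategoryTheory CategoryTheory.Limits
open CAlg

namespace Groth.Agent.S17773

/-- Let R be a commutative ring, M and N two R-modules, and F a flat resolution of M: a chain complex F
of flat R-modules concentrated in non-negative degrees together with a quasi-isomorphism from F to M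
placed in degree 0. Then for every i ≥ 0 the i-th homology module of the complex F ⊗_R N is
isomorphic to Tor_i^R(M, N), the i-th left derived functor of − ⊗_R N evaluated at M (existence of
an isomorphism of R-modules). -/
theorem result (R : Type u) [CommRing R] (M N : Type u) [AddCommGroup M] [Module R M] [AddCommGroup N] [Module R N] (F : ChainComplex (ModuleCat.{u} R) ℕ) (hF : ∀ i : ℕ, Module.Flat R (F.X i)) (φ : F ⟶ (ChainComplex.single₀ (ModuleCat.{u} R)).obj (ModuleCat.of R M)) [QuasiIso φ] (i : ℕ) : Nonempty ((((MonoidalCategory.tensorRight (ModuleCat.of R N)).mapHomologicalComplex (ComplexShape.down ℕ)).obj F).homology i ≅ ((Tor' (ModuleCat.{u} R) i).obj (ModuleCat.of R M)).obj (ModuleCat.of R N)) := by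
  have h0 := (ShortComplex.quasiIso_iff_of_zeros' ((HomologicalComplex.shortComplexFunctor' (ModuleCat.{u} R) (ComplexShape.down ℕ) 1 0 0).map φ)
    (by simp <;> rfl) (by simp <;> rfl) (by simp <;> rfl)).mp ((quasiIsoAt_iff' φ 1 0 0 (by simp) (by simp)).mp inferInstance)
  have hexn : ∀ n, (ShortComplex.mk _ _ (F.d_comp_d (n + 2) (n + 1) n)).Exact := fun n => by
    have h : F.ExactAt (n + 1) := by
      rw [← quasiIsoAt_iff_exactAt' φ (n + 1) (ChainComplex.exactAt_succ_single_obj _ _)]
      infer_instance
    exact ((HomologicalComplex.exactAt_iff' _ (n + 2) (n + 1) n (by simp only [ChainComplex.prev]; rfl) (by simp)).1 h)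
  have hF' : Groth.L28.Balance.IsRes F (N := ModuleCat.of R M) (φ.f 0) :=
    { surj := (ModuleCat.epi_iff_surjective _).mp h0.2
      exact₀ := fun y => by
        refine ⟨fun hy => (ShortComplex.moduleCat_exact_iff _).mp h0.1 y hy, ?_⟩
        rintro ⟨x, rfl⟩
        refine (ConcreteCategory.congr_hom (φ.comm 1 0) x).symm.trans ?_
        simp <;> rfl
      exact := fun n y => by
        refine ⟨fun hy => (ShortComplex.moduleCat_exact_iff _).mp (hexn n) y hy, ?_⟩
        rintro ⟨x, rfl⟩
        exact ConcreteCategory.congr_hom (F.d_comp_d (n + 2) (n + 1) n) x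
      flat := hF }
  let P := projectiveResolution (ModuleCat.of R M)
  obtain ⟨e₁⟩ := Groth.L28.TorFacts.nonempty_iso_left (N := ModuleCat.of R N) F (φ.f 0) hF' i
  obtain ⟨e₂⟩ := Groth.L28.TorFacts.nonempty_iso_left (N := ModuleCat.of R N) P.complex (P.π.f 0)
    (Groth.L28.Balance.isRes_projectiveResolution P) i
  exact ⟨e₁.symm ≪≫ e₂ ≪≫ (P.isoLeftDerivedObj ((MonoidalCategory.tensoringRight _).obj (ModuleCat.of R N)) i).symm⟩

end Groth.Agent.S17773
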