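import Groth.Statements.S17774
import Groth.Agent.S7699
import Groth.Agent.S0341
import Groth.Agent.L04.Canon.GorProps
import Groth.Agent.L04.Matlis

set_option autoImplicit false
universe u
open CategoryTheory Opposite
open LocCoh

namespace Groth.Agent.S17774

theorem exists_nat_ringKrullDim (S : Type u) [CommRing S] [IsLocalRing S] [IsNoetherianRing S] :
    ∃ n : ℕ, ringKrullDim S = n := by
  obtain ⟨n, hn⟩ := WithBot.ne_bot_iff_exists.1 (ringKrullDim_ne_bot (R := S))
  obtain ⟨m, rfl⟩ := ENat.ne_top_iff_exists.1 (fun h : n = ⊤ =>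
    ringKrullDim_ne_top (R := S) (by rw [← hn, h]; rfl))
  exact ⟨m, hn.symm⟩

/-- Let (S, n) be a Gorenstein local ring, I an ideal of S of height g such that R = S ⧸ I is a
Cohen–Macaulay local ring, of Krull dimension d, and E an injective hull of the residue field of S.
Then the canonical module of R is Ext^g_S(R, S), in the following sense: the Matlis dual
Hom_S(Ext^g_S(R, S), E) is isomorphic as an S-module to the top local cohomology H^d_n(R) of R
regarded as an S-module (existence of an S-linear isomorphism; Hom into E over S and local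
cohomology with support in n agree with the corresponding notions over R for R-modules). -/
theorem result (S : Type u) [CommRing S] [LocCoh.IsGorensteinLocalRing S] (I : Ideal S) (g : ℕ) (hg : I.height = g) [LocCoh.IsCohenMacaulayLocalRing (S ⧸ I)] (d : ℕ) (hd : ringKrullDim (S ⧸ I) = d) (E : Type u) [AddCommGroup E] [Module S E] (f : IsLocalRing.ResidueField S →ₗ[S] E) (hf : InjHull.IsInjectiveHull f) : Nonempty ((((Ext S (ModuleCat.{u} S) g).obj (op (ModuleCat.of S (S ⧸ I)))).obj (ModuleCat.of S S) →ₗ[S] E) ≃ₗ[S] LocCoh.H (IsLocalRing.maximalIdeal S) d (S ⧸ I)) := by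

    haveI : LocCoh.IsCohenMacaulayLocalRing S := Groth.Agent.S0341.result S
    have hI : I ≠ ⊤ := by
      intro h
      subst h
      haveI : Subsingleton (S ⧸ (⊤ : Ideal S)) := Ideal.Quotient.subsingleton_iff.2 rfl
      rw [ringKrullDim_eq_bot_of_subsingleton] at hd
      exact WithBot.bot_ne_coe hd
    obtain ⟨n, hn⟩ : ∃ n : ℕ, ringKrullDim S = n := exists_nat_ringKrullDim S
    have h1 := Groth.L04.supportDim_eq_add_idealDepth (M := S) hI
      (LocCoh.IsCohenMacaulayLocalRing.supportDim_eq_depth (R := S))
    rw [(Groth.L04.isCohenMacaulayRing_iff_height.1 (Groth.L04.isCohenMacaulayRing_of_local S)) I hI,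
      Module.supportDim_self_eq_ringKrullDim,
      Module.supportDim_eq_of_equiv (Submodule.quotEquivOfEq _ I (by rw [smul_eq_mul, Ideal.mul_top])),
      Module.supportDim_quotient_eq_ringKrullDim, hd, hg, hn] at h1
    have hndg : n = d + g := by exact_mod_cast h1
    obtain ⟨f', hf'⟩ := Groth.L29.Gorenstein.exists_isInjectiveHull_H_top n hn
    obtain ⟨eE, -⟩ := Groth.L04.exists_equiv_of_isInjectiveHull hf hf'
    obtain ⟨e⟩ := Groth.Agent.S7699.result S n hn E f hf S
      (LinearMap.ringLmapEquivSelf S S E ≪≫ₗ eE) (S ⧸ I) g (by omega)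
    rw [show n - g = d by omega] at e
    exact ⟨e.symm⟩

end Groth.Agent.S17774
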