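import Groth.Statements.S17775
import Groth.Agent.L04.LC.TopLoc
import Groth.Agent.L04.Essential
import Groth.Agent.L04.Canon.Gor
import Groth.Agent.S0341

set_option autoImplicit false
universe u
open BigOperators
open Goren

namespace Groth.Agent.S17775

/-- Let R be a Gorenstein local ring of Krull dimension d with maximal ideal m and residue field k, and
let x_1, …, x_d be a system of parameters of R, i.e. d elements generating an ideal whose radical is
m. Put t = x_1 ⋯ x_d. Then the R-module R_t ⧸ Σ_i R_{x_1⋯x̂_i⋯x_d}, realised as the quotient of the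
localization R_t by the R-submodule spanned by the fractions x_i^n / t^n (i = 1, …, d, n ≥ 0), is an
injective hull of k: some R-linear map from k into it is an injective hull. -/
theorem result (R : Type u) [CommRing R] [LocCoh.IsGorensteinLocalRing R] (d : ℕ) (hd : ringKrullDim R = d) (x : Fin d → R) (hx : (Ideal.span (Set.range x)).radical = IsLocalRing.maximalIdeal R) : ∃ f : IsLocalRing.ResidueField R →ₗ[R] (Localization.Away (∏ i, x i) ⧸ Submodule.span R {y : Localization.Away (∏ i, x i) | ∃ (i : Fin d) (n : ℕ), y = algebraMap R (Localization.Away (∏ i, x i)) (x i ^ n) * IsLocalization.Away.invSelf (∏ i, x i) ^ n}), InjHull.IsInjectiveHull f := by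

    obtain ⟨f, hf⟩ := Groth.L29.Gorenstein.exists_isInjectiveHull_H_top (A := R) d hd
    obtain ⟨e⟩ := Groth.L04.LC.nonempty_away_quotient_equiv x
    have hrad : (IsLocalRing.maximalIdeal R).radical = (Ideal.span (Set.range x)).radical := by
      rw [hx, Ideal.IsPrime.radical (IsLocalRing.maximalIdeal.isMaximal R).isPrime]
    let e' := ((localCohomology.isoOfSameRadical hrad d).app (ModuleCat.of R R)).toLinearEquiv
    exact ⟨_, Groth.L04.isInjectiveHull_equiv_comp hf (e' ≪≫ₗ e.symm)⟩

end Groth.Agent.S17775
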