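import Groth.Statements.S17781
import Mathlib.Data.Nat.Factorization.Basic
import Mathlib.Algebra.GCDMonoid.Finset
import Mathlib.Algebra.GCDMonoid.Nat
import Mathlib.Data.Nat.Choose.Basic
import Mathlib.Tactic.Ring
import Mathlib.Tactic.LinearCombination

set_option autoImplicit false
open Variety

namespace Groth.Agent.S17781

variable {_unused : Unit}

/-- `k C(d,k) = d C(d-1,k-1)`. -/
lemma absorb (d k : ℕ) (hd : 1 ≤ d) : (k + 1) * d.choose (k + 1) = d * (d - 1).choose k := by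
  obtain ⟨e, rfl⟩ := Nat.exists_eq_add_of_le hd
  have := Nat.add_one_mul_choose_eq e k
  rw [Nat.add_comm 1 e, Nat.add_sub_cancel, this, mul_comm]

lemma div_gcd_dvd_choose (d k : ℕ) (hd : 1 ≤ d) : d / d.gcd (k + 1) ∣ d.choose (k + 1) := by
  have h0 : 0 < d.gcd (k + 1) := Nat.gcd_pos_of_pos_left _ hd
  refine (Nat.coprime_div_gcd_div_gcd h0).dvd_of_dvd_mul_left ?_
  have h := absorb d k hd
  refine (Nat.mul_dvd_mul_iff_left h0).1 ?_
  rw [Nat.mul_div_cancel' (Nat.gcd_dvd_left _ _), ← mul_assoc,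
    Nat.mul_div_cancel' (Nat.gcd_dvd_right _ _), h]
  exact dvd_mul_right _ _

lemma prime_not_dvd_choose {p d a : ℕ} (hp : p.Prime) (hd : 1 ≤ d) (ha : p ^ a ∣ d) :
    ∀ j, j < p ^ a → ¬ p ∣ (d - 1).choose j := by
  intro j
  induction j with
  | zero => intro _; simpa using hp.ne_one
  | succ j ih =>
    intro hj hdvd
    apply ih (Nat.lt_of_succ_lt hj)
    have hP : p ∣ d.choose (j + 1) := by
      by_contra hc
      have h1 : p ^ a ∣ (j + 1) * d.choose (j + 1) := by
        rw [absorb d j hd]; exact dvd_mul_of_dvd_left ha _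
      have h2 : p ^ a ∣ j + 1 :=
        (Nat.Coprime.pow_left a ((Nat.Prime.coprime_iff_not_dvd hp).2 hc)).dvd_of_dvd_mul_right h1
      exact absurd (Nat.le_of_dvd (Nat.succ_pos j) h2) (not_le.2 hj)
    have hpas : d.choose (j + 1) = (d - 1).choose j + (d - 1).choose (j + 1) := by
      conv_lhs => rw [show d = (d - 1) + 1 by omega]
      exact Nat.choose_succ_succ _ _
    rw [hpas] at hP
    exact (Nat.dvd_add_left hdvd).1 hP

lemma key (d δ g : ℕ) (hd : 1 ≤ d) (hδ : δ ∣ d) (hg : ∀ k, 1 ≤ k → k ≤ δ → g ∣ d.choose k) :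
    g ∣ d / δ := by
  have hδ0 : δ ≠ 0 := fun h => by subst h; simp at hδ; omega
  have hg1 : g ∣ d := by simpa using hg 1 le_rfl (Nat.pos_of_ne_zero hδ0)
  have hg0 : g ≠ 0 := fun h => by subst h; simp at hg1; omega
  have hq0 : d / δ ≠ 0 := (Nat.div_pos (Nat.le_of_dvd hd hδ) (Nat.pos_of_ne_zero hδ0)).ne'
  rw [← Nat.factorization_prime_le_iff_dvd hg0 hq0]
  intro p hp
  set a := δ.factorization p
  have hk : p ^ a ∣ δ := Nat.ordProj_dvd δ p
  have hk1 : 1 ≤ p ^ a := Nat.one_le_pow _ _ hp.pos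
  have hC := hg (p ^ a) hk1 (Nat.le_of_dvd (Nat.pos_of_ne_zero hδ0) hk)
  have hC0 : d.choose (p ^ a) ≠ 0 :=
    (Nat.choose_pos (Nat.le_of_dvd hd (hk.trans hδ))).ne'
  have habs := absorb d (p ^ a - 1) hd
  rw [Nat.sub_add_cancel hk1] at habs
  have hnd := prime_not_dvd_choose hp hd (hk.trans hδ) (p ^ a - 1) (Nat.sub_lt hk1 Nat.one_pos)
  have hc0 : (d - 1).choose (p ^ a - 1) ≠ 0 := fun h => hnd (h ▸ dvd_zero p)
  have hv := congrArg (fun x => x.factorization p) habs
  simp only [Nat.factorization_mul (pow_pos hp.pos a).ne' hC0, Nat.factorization_mul (by omega : d ≠ 0) hc0,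
    Finsupp.add_apply, hp.factorization_pow, Finsupp.single_eq_same,
    Nat.factorization_eq_zero_of_not_dvd hnd, add_zero] at hv
  have hle := (Nat.factorization_le_iff_dvd hg0 hC0).2 hC p
  rw [Nat.factorization_div hδ, Finsupp.tsub_apply]
  omega

open Variety in


/-- Let d ≥ 1 and N ≥ 1 be integers and let I(d, N) be the greatest common divisor of the quotients d/δ
over the divisors δ of d with 1 ≤ δ ≤ N. Then I(d, N) equals the greatest common divisor of the
integers χ(d, n) = 1 − (−1)^n C(d − 1, n) for 1 ≤ n ≤ N (χ(d, n) is the Euler characteristic of O_H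
for a degree-d hypersurface H in projective n-space). Both greatest common divisors are taken in ℤ,
normalised to be non-negative. -/
theorem result (d N : ℕ) (hd : 1 ≤ d) (hN : 1 ≤ N) :
    (Finset.Icc 1 N).gcd (fun n => 1 - (-1 : ℤ) ^ n * ((d - 1).choose n : ℤ)) =
      ((Finset.Icc 1 N).filter (fun δ => δ ∣ d)).gcd (fun δ => ((d / δ : ℕ) : ℤ)) := by
  set χ := fun n : ℕ => 1 - (-1 : ℤ) ^ n * ((d - 1).choose n : ℤ)
  have hstep : ∀ n, χ (n + 1) - χ n = (-1 : ℤ) ^ n * (d.choose (n + 1) : ℤ) := by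
    intro n
    have hpas : d.choose (n + 1) = (d - 1).choose n + (d - 1).choose (n + 1) := by
      conv_lhs => rw [show d = (d - 1) + 1 by omega]
      exact Nat.choose_succ_succ _ _
    simp only [χ, hpas, pow_succ]
    push_cast
    ring
  refine dvd_antisymm_of_normalize_eq Finset.normalize_gcd Finset.normalize_gcd ?_ ?_
  · refine Finset.dvd_gcd fun δ hδ => ?_
    simp only [Finset.mem_filter, Finset.mem_Icc] at hδ
    rw [Int.dvd_natCast]
    refine key d δ _ hd hδ.2 fun k hk1 hk2 => ?_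
    rw [← Int.dvd_natCast]
    obtain ⟨j, rfl⟩ := Nat.exists_eq_add_of_le' hk1
    have h : ∀ i, i ≤ N → (Finset.Icc 1 N).gcd χ ∣ χ i := by
      intro i hi
      rcases Nat.eq_zero_or_pos i with rfl | h
      · simp [χ]
      · exact Finset.gcd_dvd (Finset.mem_Icc.2 ⟨h, hi⟩)
    have h2 := dvd_sub (h (j + 1) (hk2.trans hδ.1.2)) (h j (by omega))
    rw [hstep] at h2
    exact (IsUnit.dvd_mul_left ((isUnit_one.neg).pow j)).1 h2
  · refine Finset.dvd_gcd fun n hn => ?_
    have hn' := (Finset.mem_Icc.1 hn).2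
    show _ ∣ χ n
    clear hn
    induction n with
    | zero => simp [χ]
    | succ n ih =>
      rw [show χ (n + 1) = χ n + (χ (n + 1) - χ n) by ring, hstep]
      refine dvd_add (ih (by omega)) (dvd_mul_of_dvd_right ?_ _)
      have hpos : 0 < d.gcd (n + 1) := Nat.gcd_pos_of_pos_left _ hd
      refine (Finset.gcd_dvd (b := d.gcd (n + 1)) ?_).trans (Int.natCast_dvd_natCast.2 (div_gcd_dvd_choose d n hd))
      simp only [Finset.mem_filter, Finset.mem_Icc]
      exact ⟨⟨hpos, (Nat.le_of_dvd n.succ_pos (Nat.gcd_dvd_right _ _)).trans hn'⟩, Nat.gcd_dvd_left _ _⟩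


end Groth.Agent.S17781
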