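import Groth.Statements.S17786
import Groth.Agent.L05.EulerIndex.Main

set_option autoImplicit false
universe u
open CategoryTheory CategoryTheory.Limits AlgebraicGeometry
open Variety

namespace Groth.Agent.S17786

set_option backward.isDefEq.respectTransparency false
set_option linter.style.haveILetI false

/-- R is a Henselian discrete valuation ring whose residue field k is algebraically closed; write K for
its field of fractions. Assume that for every prime number ℓ which is non-zero in k and every
integral scheme Z proper and flat over Spec R there are an integral scheme Y all of whose local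
rings are regular and a proper surjective morphism h : Y → Z sending the generic point of Y to that
of Z, such that the residue field extension at the generic points is finite of degree prime to ℓ.
Let X be a proper K-scheme and E a coherent O_X-module. Then there is an integer c ≥ 1, all of whose
prime factors are zero in k, such that c · χ(X, E) lies in the subgroup of ℤ generated by the
degrees of the closed points of X; in other words the index of X divides χ(X, E) when k has
characteristic 0, and its prime-to-p part does when k has characteristic p > 0. (The published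
statement assumes instead that R is excellent; excellence enters the published proof only through
the existence of the alterations above, which is quoted there from the literature, so that existence
is carried here as the hypothesis.) -/
theorem result (R : Type u) [CommRing R]
    [IsDomain R] [IsDiscreteValuationRing R] [HenselianLocalRing R] (hk : IsAlgClosed (IsLocalRing.ResidueField R))
    (halt : ∀ (ℓ : ℕ), ℓ.Prime → (ℓ : IsLocalRing.ResidueField R) ≠ 0 →
      ∀ (Z : Scheme.{u}) (q : Z ⟶ Spec (CommRingCat.of R)) [AlgebraicGeometry.IsIntegral Z] [IsProper q] [Flat q],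
        ∃ (Y : Scheme.{u}) (h : Y ⟶ Z) (_ : AlgebraicGeometry.IsIntegral Y),
          (∀ y : Y, IsRegularLocalRing (Y.presheaf.stalk y)) ∧ IsProper h ∧ Surjective h ∧
          h.base (genericPoint Y) = genericPoint Z ∧
          h.residueDegree (genericPoint Y) ≠ 0 ∧ ¬ ℓ ∣ h.residueDegree (genericPoint Y))
    (X : Scheme.{u}) [X.Over (Spec (CommRingCat.of (FractionRing R)))] [IsProper (X ↘ Spec (CommRingCat.of (FractionRing R)))] (E : X.Modules) (hE : Coh.IsCoh E) :
    ∃ c : ℕ, 1 ≤ c ∧ (∀ q : ℕ, q.Prime → q ∣ c → (q : IsLocalRing.ResidueField R) = 0) ∧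
      (c : ℤ) * Curv2.euler (FractionRing R) X E ∈ Curv2.indexSubgroup (X ↘ Spec (CommRingCat.of (FractionRing R))) := by
  -- Prime by prime: some multiple prime to `ℓ` lands in the index subgroup; take the least multiple.
  classical
  let f := X ↘ Spec (CommRingCat.of (FractionRing R))
  set χ := Curv2.euler (FractionRing R) X E with hχ
  let H := Curv2.indexSubgroup f
  obtain ⟨e, he⟩ := Groth.L03.Euler.exists_dim_bound (FractionRing R) X
  have hdim : topologicalKrullDim (CohB1.support E) + 1 ≤ ((e + 1 : ℕ) : WithBot ℕ∞) := by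
    push_cast
    exact add_le_add ((topologicalKrullDim_subspace_le X _).trans he) le_rfl
  have hloc : ∀ ℓ : ℕ, ∀ hℓ : ℓ.Prime, (ℓ : IsLocalRing.ResidueField R) ≠ 0 →
      ∃ c : ℕ, ¬ ℓ ∣ c ∧ (c : ℤ) * χ ∈ H := fun ℓ hℓ hℓk =>
    Groth.L05.EulerIndex.holds hk halt hℓ hℓk (e + 1) X E hE hdim
  have hex : ∃ c : ℕ, 0 < c ∧ (c : ℤ) * χ ∈ H := by
    by_cases h2 : ((2 : ℕ) : IsLocalRing.ResidueField R) = 0
    · obtain ⟨c, hc, hcm⟩ := hloc 3 Nat.prime_three (fun h3 => one_ne_zero (α := IsLocalRing.ResidueField R) (by
        push_cast at h2 h3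
        linear_combination h3 - h2))
      exact ⟨c, Nat.pos_of_ne_zero fun h0 => hc (h0 ▸ dvd_zero 3), hcm⟩
    · obtain ⟨c, hc, hcm⟩ := hloc 2 Nat.prime_two h2
      exact ⟨c, Nat.pos_of_ne_zero fun h0 => hc (h0 ▸ dvd_zero 2), hcm⟩
  refine ⟨Nat.find hex, (Nat.find_spec hex).1, fun q hq hqc => ?_, (Nat.find_spec hex).2⟩
  by_contra hqk
  obtain ⟨c, hc, hcm⟩ := hloc q hq hqk
  let c₀ := Nat.find hex
  have hg : ((c₀.gcd c : ℕ) : ℤ) * χ ∈ H := by
    rw [Nat.gcd_eq_gcd_ab c₀ c, show ((c₀ : ℤ) * c₀.gcdA c + (c : ℤ) * c₀.gcdB c) * χ =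
      c₀.gcdA c • ((c₀ : ℤ) * χ) + c₀.gcdB c • ((c : ℤ) * χ) by simp only [smul_eq_mul]; ring]
    exact add_mem (AddSubgroup.zsmul_mem _ (Nat.find_spec hex).2 _) (AddSubgroup.zsmul_mem _ hcm _)
  have hle : c₀ ≤ c₀.gcd c :=
    Nat.find_le ⟨Nat.gcd_pos_of_pos_left _ (Nat.find_spec hex).1, hg⟩
  have heq : c₀.gcd c = c₀ := le_antisymm (Nat.gcd_le_left _ (Nat.find_spec hex).1) hle
  have hdvd : c₀ ∣ c := by
    conv_lhs => rw [← heq]
    exact Nat.gcd_dvd_right c₀ c
  exact hc (hqc.trans hdvd)

end Groth.Agent.S17786
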