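import Groth.Statements.S17787
import Groth.Agent.L05.EulerIndex.HypGeom

set_option autoImplicit false
universe u
open CategoryTheory CategoryTheory.Limits AlgebraicGeometry
open Variety

namespace Groth.Agent.S17787

set_option backward.isDefEq.respectTransparency false
set_option linter.style.haveILetI false

/-- Take R to be a discrete valuation ring that is Henselian, with K its fraction field and k its
residue field, the latter algebraically closed, and assume that for every prime ℓ non-zero in k and
every integral scheme Z proper and flat over Spec R there are an integral scheme Y with regular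
local rings and a proper surjective morphism Y → Z sending generic point to generic point with
residue extension there finite of degree prime to ℓ. Let F be a non-zero homogeneous polynomial of
degree d ≥ 1 in N + 1 variables over K (N ≥ 1), defining a hypersurface X of degree d in projective
N-space, and let H be the subgroup of ℤ generated by the degrees [L : K] of the finite extensions L
of K in which F has a non-trivial zero (H is the subgroup generated by the index of X). Let I(d, N)
be the greatest common divisor of the quotients d/δ over the divisors δ of d with 1 ≤ δ ≤ N. Then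
some multiple c · I(d, N), with c ≥ 1 an integer all of whose prime factors are zero in k, lies in H
(so the index of X divides I(d, N) if k has characteristic 0, and its prime-to-p part does if k has
characteristic p); and if every prime which is zero in k is larger than N, then I(d, N) itself lies
in H. (The published statement assumes instead that R is excellent; that enters only through the
existence of the alterations, carried here as the hypothesis.) -/
theorem result (R : Type u)
    [CommRing R] [IsDomain R] [IsDiscreteValuationRing R] [HenselianLocalRing R]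
    (hk : IsAlgClosed (IsLocalRing.ResidueField R))
    (halt : ∀ (ℓ : ℕ), ℓ.Prime → (ℓ : IsLocalRing.ResidueField R) ≠ 0 →
      ∀ (Z : Scheme.{u}) (q : Z ⟶ Spec (CommRingCat.of R)) [AlgebraicGeometry.IsIntegral Z] [IsProper q] [Flat q],
        ∃ (Y : Scheme.{u}) (h : Y ⟶ Z) (_ : AlgebraicGeometry.IsIntegral Y),
          (∀ y : Y, IsRegularLocalRing (Y.presheaf.stalk y)) ∧ IsProper h ∧ Surjective h ∧
          h.base (genericPoint Y) = genericPoint Z ∧
          h.residueDegree (genericPoint Y) ≠ 0 ∧ ¬ ℓ ∣ h.residueDegree (genericPoint Y))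
    (K : Type u) [Field K] [Algebra R K] [IsFractionRing R K] (d N : ℕ) (hd : 1 ≤ d) (hN : 1 ≤ N)
    (F : MvPolynomial (Fin (N + 1)) K) (hF : F.IsHomogeneous d) (hF0 : F ≠ 0) :
    letI H := AddSubgroup.closure {m : ℤ | ∃ (L : Type u) (_ : Field L) (_ : Algebra K L),
        FiniteDimensional K L ∧ m = (Module.finrank K L : ℤ) ∧
        ∃ x : Fin (N + 1) → L, x ≠ 0 ∧ MvPolynomial.aeval x F = 0}
    letI I := (((Finset.Icc 1 N).filter (fun δ => δ ∣ d)).gcd (fun δ => d / δ) : ℕ)
    (∃ c : ℕ, 1 ≤ c ∧ (∀ q : ℕ, q.Prime → q ∣ c → (q : IsLocalRing.ResidueField R) = 0) ∧ (c : ℤ) * (I : ℤ) ∈ H) ∧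
      ((∀ q : ℕ, q.Prime → (q : IsLocalRing.ResidueField R) = 0 → N < q) → (I : ℤ) ∈ H) := by
  -- Move the form to `FractionRing R`, bound the index there, and use the line for the tame case.
  show (∃ c : ℕ, 1 ≤ c ∧ (∀ q : ℕ, q.Prime → q ∣ c → (q : IsLocalRing.ResidueField R) = 0) ∧
      (c : ℤ) * _ ∈ Groth.L05.EulerIndex.zeroDegrees F) ∧
    ((∀ q : ℕ, q.Prime → (q : IsLocalRing.ResidueField R) = 0 → N < q) →
      _ ∈ Groth.L05.EulerIndex.zeroDegrees F)
  let e : K ≃ₐ[R] FractionRing R := (FractionRing.algEquiv R K).symm
  let F' := MvPolynomial.map e.toRingHom F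
  have hF'0 : F' ≠ 0 := fun h => hF0 (MvPolynomial.map_injective e.toRingHom e.injective (h.trans (map_zero _).symm))
  let G : LefPen.Form N (FractionRing R) d := ⟨F', hF.map e.toRingHom⟩
  have hG : G ≠ 0 := fun h => hF'0 (congrArg Subtype.val h)
  have hle : Groth.L05.EulerIndex.zeroDegrees G.1 ≤ Groth.L05.EulerIndex.zeroDegrees F := by
    rw [Groth.L05.EulerIndex.zeroDegrees, AddSubgroup.closure_le]
    rintro _ ⟨L, iF, iA, hfin, rfl, x, hx, hx0⟩
    letI : Algebra K L := ((algebraMap (FractionRing R) L).comp e.toRingHom).toAlgebra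
    letI : Algebra K (FractionRing R) := e.toRingHom.toAlgebra
    haveI : IsScalarTower K (FractionRing R) L := IsScalarTower.of_algebraMap_eq fun _ => rfl
    have hbij : Function.Bijective (algebraMap K (FractionRing R)) := e.bijective
    haveI : Module.Finite K (FractionRing R) :=
      Module.Finite.of_surjective (Algebra.linearMap K (FractionRing R)) hbij.2
    haveI := hfin
    haveI : Module.Finite K L := Module.Finite.trans (FractionRing R) L
    refine AddSubgroup.subset_closure ⟨L, iF, inferInstance, inferInstance, ?_, x, hx, ?_⟩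
    · rw [← Module.finrank_mul_finrank K (FractionRing R) L,
        ← (LinearEquiv.ofBijective (Algebra.linearMap K (FractionRing R)) hbij).finrank_eq,
        Module.finrank_self, one_mul]
    · rw [← MvPolynomial.aeval_map_algebraMap (FractionRing R) x F]
      exact hx0
  have hloc := fun ℓ (hℓ : Nat.Prime ℓ) hℓk => Groth.L05.EulerIndex.Loc.mono hℓ hle
    (Groth.L05.EulerIndex.gcd_mem_loc R hk halt hd hN hG hℓ hℓk)
  obtain ⟨c, hc1, hcq, hc⟩ := Groth.L05.EulerIndex.exists_multiplier (Groth.L05.EulerIndex.zeroDegrees F)
    _ hloc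
  refine ⟨⟨c, hc1, hcq, hc⟩, fun hbig => ?_⟩
  haveI : Infinite R := by
    by_contra hfin
    rw [not_infinite_iff_finite] at hfin
    haveI := hfin
    exact IsDiscreteValuationRing.not_isField R (Finite.isField_of_domain R)
  haveI : Infinite K := Infinite.of_injective _ (IsFractionRing.injective R K)
  have hdmem := Groth.L05.EulerIndex.degree_mem_zeroDegrees hd hN hF hF0
  set I := ((Finset.Icc 1 N).filter (fun δ => δ ∣ d)).gcd (fun δ => d / δ)
  have h1 : I ∣ d := by
    have := Finset.gcd_dvd (f := fun δ => d / δ) (show 1 ∈ (Finset.Icc 1 N).filter (fun δ => δ ∣ d) by simp [hN])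
    simpa [I] using this
  have hcop : Nat.gcd c (d / I) = 1 := Nat.coprime_of_dvd fun q hq hqc hqd =>
    (Groth.L05.EulerIndex.not_dvd_div_gcd hd hN hq (hbig q hq (hcq q hq hqc))).2 hqd
  obtain ⟨e', he'⟩ := h1
  have hI0 : I ≠ 0 := fun h => by rw [h, zero_mul] at he'; omega
  rw [he', Nat.mul_div_cancel_left _ (Nat.pos_of_ne_zero hI0)] at hcop
  have hbez := Nat.gcd_eq_gcd_ab c e'
  rw [hcop] at hbez
  push_cast at hbez
  have key : (I : ℤ) = c.gcdA e' • ((c : ℤ) * I) + c.gcdB e' • (d : ℤ) := by
    rw [he']; push_cast; simp only [smul_eq_mul]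
    linear_combination (I : ℤ) * hbez
  rw [key]
  exact add_mem (AddSubgroup.zsmul_mem _ hc _) (AddSubgroup.zsmul_mem _ hdmem _)

end Groth.Agent.S17787
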