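import Groth.Statements.S17788
import Groth.Agent.L13.PureRam.Reduce
-- import your own Groth.Agent.* helpers here

set_option autoImplicit false
set_option maxSynthPendingDepth 3
set_option backward.isDefEq.respectTransparency false
universe u
open CategoryTheory CategoryTheory.Limits AlgebraicGeometry
open Pi1

namespace Groth.Agent.S17788

/-- Let A be an excellent normal local domain and r a natural number such that A is pure in codimension
at least r, in the sense that for every prime ideal P of A of height at least r the completion of
the local ring A_P at its maximal ideal is pure (for every open V of its spectrum, restriction of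
finite étale covers from V to the part of V outside the closed point is an equivalence of
categories). Let B be a normal domain which is a finite extension of A with injective structure map.
Then every prime ideal q of B which is minimal among the primes at which B is not unramified over A
(B_q not formally unramified over A) has height less than r. -/
theorem result (A : Type u) [CommRing A] [IsDomain A] [IsLocalRing A] [IsNoetherianRing A] [IsIntegrallyClosed A] (hA : EGA4.IsExcellent A) (r : ℕ) (hpure : ∀ (P : Ideal A) [P.IsPrime], (r : ℕ∞) ≤ P.height → SGA2.IsPurePair (Spec (CommRingCat.of (AdicCompletion (IsLocalRing.maximalIdeal (Localization.AtPrime P)) (Localization.AtPrime P)))) (FEt.puncturedSpec (AdicCompletion (IsLocalRing.maximalIdeal (Localization.AtPrime P)) (Localization.AtPrime P)))) (B : Type u) [CommRing B] [IsDomain B] [IsIntegrallyClosed B] [Algebra A B] [Module.Finite A B] (hinj : Function.Injective (algebraMap A B)) (q : Ideal B) [q.IsPrime] (hq : ¬ Algebra.IsUnramifiedAt A q) (hmin : ∀ (q' : Ideal B) [q'.IsPrime], q' ≤ q → ¬ Algebra.IsUnramifiedAt A q' → q' = q) : q.height < (r : ℕ∞) := by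
  exact Groth.L13.PureRam.height_lt_of_minimal_ramified A hA.2.2.1 r (fun P _ h => hpure P h) B hinj q hq hmin

end Groth.Agent.S17788
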