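import Groth.Statements.S17789
import Groth.Agent.L13.FEtLeff.Leff
import Groth.Agent.L27.HenselPair

set_option autoImplicit false
set_option maxSynthPendingDepth 3
set_option linter.style.haveILetI false
set_option backward.isDefEq.respectTransparency false
universe u
open CategoryTheory CategoryTheory.Limits AlgebraicGeometry
open Pi1

namespace Groth.Agent.S17789

/-- Let A be a Noetherian local ring and I an ideal for which A is I-adically complete and A/I is local;
write X = Spec A, Y = V(I) and U for the punctured spectrum. Suppose that the effective Lefschetz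
condition Leff(U, U ∩ Y) holds and that for every open V of X containing U ∩ Y the pair (X, X − V)
is pure (restriction of finite étale covers from any open W of X to W ∩ V is an equivalence). Then
A/I is pure: the pair formed by Spec(A/I) and its closed point is pure. -/
theorem result (A : Type u) [CommRing A] [IsLocalRing A] [IsNoetherianRing A] (I : Ideal A) [IsAdicComplete I A] [IsLocalRing (A ⧸ I)] (hleff : LefX.LeffCond (↑(FEt.puncturedSpec A) : Scheme.{u}) ((Spec.map (CommRingCat.ofHom (Ideal.Quotient.mk I))).ker.comap (FEt.puncturedSpec A).ι)) (hpure : ∀ V : (Spec (CommRingCat.of A)).Opens, ((Spec.map (CommRingCat.ofHom (Ideal.Quotient.mk I))).ker.support : Set ↥(Spec (CommRingCat.of A))) ∩ (FEt.puncturedSpec A : Set ↥(Spec (CommRingCat.of A))) ⊆ (V : Set ↥(Spec (CommRingCat.of A))) → SGA2.IsPurePair (Spec (CommRingCat.of A)) V) : SGA2.IsPurePair (Spec (CommRingCat.of (A ⧸ I))) (FEt.puncturedSpec (A ⧸ I)) := by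
  refine Groth.L16.PureQuot.isPurePair_punctured ?_
  let B := A ⧸ I
  let U := FEt.puncturedSpec A
  let U₀ := FEt.puncturedSpec B
  let q : Spec (CommRingCat.of B) ⟶ Spec (CommRingCat.of A) :=
    Spec.map (CommRingCat.ofHom (Ideal.Quotient.mk I))
  haveI : IsClosedImmersion q := IsClosedImmersion.spec_of_surjective _ Ideal.Quotient.mk_surjective
  haveI : IsLocalHom (Ideal.Quotient.mk I) := IsLocalHom.of_surjective _ Ideal.Quotient.mk_surjective
  have hcl : q (IsLocalRing.closedPoint B) = IsLocalRing.closedPoint A :=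
    IsLocalRing.comap_closedPoint (Ideal.Quotient.mk I)
  have hpre : q ⁻¹ᵁ U = U₀ := by
    ext z
    show q z ≠ IsLocalRing.closedPoint A ↔ z ≠ IsLocalRing.closedPoint B
    refine not_congr ⟨fun h => ?_, fun h => h ▸ hcl⟩
    exact PrimeSpectrum.comap_injective_of_surjective _ Ideal.Quotient.mk_surjective (h.trans hcl.symm)
  -- restriction from the whole spectrum to a neighbourhood of the trace
  have hV : ∀ V : (Spec (CommRingCat.of A)).Opens, (q.ker.support : Set ↥(Spec (CommRingCat.of A))) ∩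
      (U : Set ↥(Spec (CommRingCat.of A))) ⊆ (V : Set ↥(Spec (CommRingCat.of A))) →
      (FEt.restrict V.ι).IsEquivalence := fun V h => by
    haveI := hpure V h ⊤
    haveI : IsIso (⊤ : (Spec (CommRingCat.of A)).Opens).ι := (Spec (CommRingCat.of A)).topIso.isIso_hom
    haveI := Groth.L16.PureQuot.isEquivalence_of_isIso (⊤ : (Spec (CommRingCat.of A)).Opens).ι
    haveI : IsIso ((Spec (CommRingCat.of A)).homOfLE (show V ≤ ⊤ ⊓ V from le_inf le_top le_rfl)) :=
      ⟨(Spec (CommRingCat.of A)).homOfLE inf_le_right, by simp, by simp⟩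
    haveI := Groth.L16.PureQuot.isEquivalence_of_isIso
      ((Spec (CommRingCat.of A)).homOfLE (show V ≤ ⊤ ⊓ V from le_inf le_top le_rfl))
    haveI := Groth.L16.PureQuot.isEquivalence_comp
      ((Spec (CommRingCat.of A)).homOfLE (inf_le_left : ⊤ ⊓ V ≤ ⊤)) (⊤ : (Spec (CommRingCat.of A)).Opens).ι
    haveI := Groth.L16.PureQuot.isEquivalence_comp
      ((Spec (CommRingCat.of A)).homOfLE (show V ≤ ⊤ ⊓ V from le_inf le_top le_rfl))
      ((Spec (CommRingCat.of A)).homOfLE (inf_le_left : ⊤ ⊓ V ≤ ⊤) ≫ (⊤ : (Spec (CommRingCat.of A)).Opens).ι)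
    exact Groth.L16.PureQuot.isEquivalence_congr (f := (Spec (CommRingCat.of A)).homOfLE
      (show V ≤ ⊤ ⊓ V from le_inf le_top le_rfl) ≫ ((Spec (CommRingCat.of A)).homOfLE
        (inf_le_left : ⊤ ⊓ V ≤ ⊤) ≫ (⊤ : (Spec (CommRingCat.of A)).Opens).ι)) (by simp)
  haveI hU : (FEt.restrict U.ι).IsEquivalence := hV U fun x hx => hx.2
  let 𝓙 := q.ker.comap U.ι
  obtain ⟨h1, h2⟩ := Groth.L13.FEtLeff.full_faithful_restrict_of_lefCond 𝓙 hleff.1
  haveI := h1
  haveI := h2
  haveI : (FEt.restrict 𝓙.subschemeι).EssSurj := ⟨fun R => by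
    obtain ⟨V, W, hVs, hi⟩ := Groth.L13.FEtLeff.exists_extension_of_leff 𝓙 hleff R
    have hr : Set.range 𝓙.subschemeι ⊆ Set.range V.ι := by
      rw [Scheme.Opens.range_ι, Scheme.IdealSheafData.range_subschemeι]
      exact hVs
    let i := IsOpenImmersion.lift V.ι 𝓙.subschemeι hr
    obtain ⟨a⟩ := hi i (IsOpenImmersion.lift_fac _ _ _)
    let V' : (Spec (CommRingCat.of A)).Opens := U.ι ''ᵁ V
    haveI := hV V' fun x hx => ⟨⟨x, hx.2⟩, hVs (by
      rw [Scheme.IdealSheafData.support_comap]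
      exact hx.1), rfl⟩
    let j : (V : Scheme.{u}) ⟶ (V' : Scheme.{u}) := (U.ι.isoImage V).hom
    have hj : j ≫ V'.ι = V.ι ≫ U.ι := U.ι.isoImage_hom_ι V
    haveI := Groth.L16.PureQuot.isEquivalence_of_isIso j
    obtain ⟨T, ⟨b⟩⟩ := Functor.EssSurj.mem_essImage (F := FEt.restrict j ) W
    obtain ⟨T', ⟨c⟩⟩ := Functor.EssSurj.mem_essImage (F := FEt.restrict V'.ι) T
    exact ⟨(FEt.restrict U.ι).obj T', ⟨(Groth.L13.FEtLeff.restrictFacIso
      (IsOpenImmersion.lift_fac V.ι 𝓙.subschemeι hr)).app _ ≪≫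
      (FEt.restrict i).mapIso (((Groth.L13.FEtLeff.restrictFacIso (rfl : V.ι ≫ U.ι = _)).app T').symm ≪≫
        (Groth.L13.FEtLeff.restrictFacIso hj.symm.symm).app T' ≪≫ (FEt.restrict j).mapIso c ≪≫ b) ≪≫ a⟩⟩⟩
  haveI : (FEt.restrict 𝓙.subschemeι).IsEquivalence := {}
  have hk : (pullback.fst U.ι q).ker = 𝓙 := Scheme.IdealSheafData.ker_fst_of_isClosedImmersion _ _
  haveI : (FEt.restrict (pullback.fst U.ι q)).IsEquivalence := by
    let p := pullback.fst U.ι q
    haveI : (FEt.restrict p.ker.subschemeι).IsEquivalence := by rw [hk]; infer_instance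
    haveI : IsIso p.toImage := inferInstance
    haveI := Groth.L16.PureQuot.isEquivalence_of_isIso p.toImage
    haveI := Groth.L16.PureQuot.isEquivalence_comp p.toImage p.imageι
    exact Groth.L16.PureQuot.isEquivalence_congr p.toImage_imageι
  haveI := Groth.L16.PureQuot.isEquivalence_comp (pullback.fst U.ι q) U.ι
  obtain ⟨θ, hθi, hθ⟩ := Groth.L13.FEtLeff.exists_theta q hpre
  haveI := hθi
  haveI := Groth.L16.PureQuot.isEquivalence_of_isIso θ
  haveI : (FEt.restrict (θ ≫ U₀.ι ≫ q)).IsEquivalence :=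
    Groth.L16.PureQuot.isEquivalence_congr (f := pullback.fst U.ι q ≫ U.ι)
      (by rw [← Category.assoc, hθ, pullback.condition])
  haveI : (FEt.restrict (U₀.ι ≫ q) ⋙ FEt.restrict θ).IsEquivalence :=
    Functor.isEquivalence_of_iso (Groth.L16.PureQuot.restrictCompIso' θ (U₀.ι ≫ q))
  haveI := Functor.isEquivalence_of_comp_right (FEt.restrict (U₀.ι ≫ q)) (FEt.restrict θ)
  haveI : (FEt.restrict q ⋙ FEt.restrict U₀.ι).IsEquivalence :=
    Functor.isEquivalence_of_iso (Groth.L16.PureQuot.restrictCompIso' U₀.ι q)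
  haveI : (FEt.restrict q).IsEquivalence := Groth.L27.HenselPair.isEquivalence_restrict I
  exact Functor.isEquivalence_of_comp_left (FEt.restrict q) (FEt.restrict U₀.ι)

end Groth.Agent.S17789
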