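import Groth.Statements.S1779
import Groth.Agent.L29.Dual.DualFlat
import Groth.Agent.L01.AdicNoeth

set_option autoImplicit false
universe u
open CategoryTheory
attribute [local instance] HasDerivedCategory.standard
open Dual

namespace Groth.Agent.S1779

/-- Let A be a Noetherian ring, I an ideal and ω a dualizing complex for A. Assuming the derived base
change functor to the I-adic completion exists, the base change of ω is a dualizing complex for the
I-adic completion of A. -/
theorem result (A : Type u) [CommRing A] [IsNoetherianRing A] (I : Ideal A) [DRing.HasLBaseChange (algebraMap A (AdicCompletion I A))] (ω : Dual.D A) (hω : Dual.IsDualizing A ω) : Dual.IsDualizing (AdicCompletion I A) ((DRing.LBaseChange (algebraMap A (AdicCompletion I A))).obj ω) := by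
  have hI : I.FG := IsNoetherian.noetherian I
  haveI := Groth.L01.AdicNoeth.isNoetherianRing_adicCompletion I hI
  haveI : IsAdicComplete (I.map (algebraMap A (AdicCompletion I A))) (AdicCompletion I A) :=
    AdicCompletion.isAdicComplete_self I hI
  refine Groth.L29.HomD.isDualizing_of_iso ((Groth.L29.FlatBC.lbcIso A (AdicCompletion I A)).app ω).symm
    (Groth.L29.FlatBC.isDualizing_L_quot_iso I (fun y => ?_) (IsAdicComplete.le_jacobson_bot _) hω)
  obtain ⟨y, rfl⟩ := Ideal.Quotient.mk_surjective y
  obtain ⟨x, hx⟩ := Ideal.Quotient.mk_surjective (AdicCompletion.evalOneₐ I y)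
  refine ⟨x, Ideal.Quotient.eq.2 ?_⟩
  rw [← AdicCompletion.ker_evalOneₐ_eq_map I hI, RingHom.mem_ker, map_sub, sub_eq_zero]
  exact ((AdicCompletion.evalOneₐ I).commutes x).trans hx

end Groth.Agent.S1779
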