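import Groth.Agent.L18.LefConnected
import Groth.Statements.S2946
-- import your own Groth.Agent.* helpers here

set_option autoImplicit false
universe u
open CategoryTheory CategoryTheory.Limits AlgebraicGeometry
open Lef

namespace Groth.Agent.S2946

/-- Let X be a locally Noetherian scheme and 𝓘 a quasi-coherent ideal sheaf with Y = V(𝓘), and suppose
Lef(X, Y) holds (this prelude's Lef.LefCond). Then for every open U of X containing Y, Y is
connected if and only if U is connected. -/
theorem result (X : Scheme.{u}) [IsLocallyNoetherian X] (𝓘 : X.IdealSheafData) (h : Lef.LefCond X 𝓘) (U : X.Opens) (hU : (𝓘.support : Set X) ⊆ (U : Set X)) : ConnectedSpace (𝓘.support : Set X) ↔ ConnectedSpace U := by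
  have hb := h U hU (Coh.structureModule (U : Scheme.{u}))
    (Groth.L20.ResDescent.isFinLocFree_of_isInvertible (Groth.L18.Ample.isInvertible_structureModule _))
  rw [← Groth.L18.LefConnected.connectedSpace_support_iff (𝓘.comap U.ι) hb]
  have himg : U.ι '' ((𝓘.comap U.ι).support : Set (U : Scheme.{u})) = (𝓘.support : Set X) := by
    rw [Scheme.IdealSheafData.support_comap]
    refine (Set.image_preimage_eq_inter_range).trans (Set.inter_eq_left.2 ?_)
    exact hU.trans (Scheme.Opens.range_ι U).ge
  rw [← isConnected_iff_connectedSpace, ← isConnected_iff_connectedSpace, ← himg]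
  constructor
  · rintro ⟨h1, h2⟩
    exact ⟨h1.of_image, U.ι.isOpenEmbedding.isInducing.isPreconnected_image.1 h2⟩
  · intro h1
    exact h1.image _ U.ι.continuous.continuousOn

end Groth.Agent.S2946
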