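import Groth.Statements.S17790
import Groth.Agent.S2946
import Groth.Agent.L27.FEtGal.Components
import Mathlib.AlgebraicGeometry.IdealSheaf.Functorial

set_option autoImplicit false
universe u
open CategoryTheory CategoryTheory.Limits AlgebraicGeometry
open Pi1

namespace Groth.Agent.S17790

/-- Let A be a Noetherian local ring and I an ideal for which A is I-adically complete and A/I is local;
write X = Spec A, Y = V(I) and U for the punctured spectrum. Suppose that A is pure (the pair formed
by X and its closed point is pure) and that the effective Lefschetz condition Leff(U, U ∩ Y) holds.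
Then Y minus the closed point, i.e. U ∩ Y, is a connected (nonempty) subset of X. -/
theorem result (A : Type u) [CommRing A] [IsLocalRing A] [IsNoetherianRing A] (I : Ideal A) [IsAdicComplete I A] [IsLocalRing (A ⧸ I)] (hpure : SGA2.IsPurePair (Spec (CommRingCat.of A)) (FEt.puncturedSpec A)) (hleff : LefX.LeffCond (↑(FEt.puncturedSpec A) : Scheme.{u}) ((Spec.map (CommRingCat.ofHom (Ideal.Quotient.mk I))).ker.comap (FEt.puncturedSpec A).ι)) : IsConnected (((Spec.map (CommRingCat.ofHom (Ideal.Quotient.mk I))).ker.support : Set ↥(Spec (CommRingCat.of A))) ∩ (FEt.puncturedSpec A : Set ↥(Spec (CommRingCat.of A)))) := by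
  let U := FEt.puncturedSpec A
  let X := Spec (CommRingCat.of A)
  let g := X.homOfLE (inf_le_left : (⊤ : X.Opens) ⊓ U ≤ ⊤)
  haveI : CompactSpace ↥(↑((⊤ : X.Opens) ⊓ U) : Scheme.{u}) :=
    isCompact_iff_compactSpace.1 (TopologicalSpace.NoetherianSpace.isCompact (α := PrimeSpectrum A) _)
  haveI : CompactSpace ↥(↑(⊤ : X.Opens) : Scheme.{u}) :=
    isCompact_iff_compactSpace.1 (TopologicalSpace.NoetherianSpace.isCompact (α := PrimeSpectrum A) _)
  have hh := Groth.L27.FEtComponents.isHomeomorph_connectedComponentsMap g (hpure ⊤)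
  haveI : ConnectedSpace ↥(Spec (CommRingCat.of A)) := by
    show ConnectedSpace (PrimeSpectrum A)
    refine connectedSpace_iff_clopen.2 ⟨inferInstance, fun S hS => ?_⟩
    by_cases h : IsLocalRing.closedPoint A ∈ S
    · exact Or.inr (Set.eq_univ_of_forall fun p => (IsLocalRing.specializes_closedPoint p).mem_open hS.isOpen h)
    · exact Or.inl (Set.eq_empty_of_forall_notMem fun p hp =>
        ((IsLocalRing.specializes_closedPoint p).mem_open hS.compl.isOpen h : p ∉ S) hp)
  haveI : ConnectedSpace ↥(↑(⊤ : X.Opens) : Scheme.{u}) :=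
    (Function.Surjective.connectedSpace (Scheme.topIso X).inv.surjective (Scheme.topIso X).inv.continuous)
  haveI hP : PreconnectedSpace ↥(↑((⊤ : X.Opens) ⊓ U) : Scheme.{u}) := by
    haveI := hh.injective.subsingleton
    refine preconnectedSpace_iff_connectedComponent.2 fun x => Set.eq_univ_of_forall fun y => ?_
    exact ConnectedComponents.coe_eq_coe'.1 (Subsingleton.elim _ _)
  haveI : Nonempty ↥(↑((⊤ : X.Opens) ⊓ U) : Scheme.{u}) := by
    obtain ⟨c, -⟩ := hh.surjective (ConnectedComponents.mk (Classical.arbitrary _))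
    obtain ⟨z, rfl⟩ := ConnectedComponents.surjective_coe c
    exact ⟨z⟩
  haveI : ConnectedSpace ↥(↑((⊤ : X.Opens) ⊓ U) : Scheme.{u}) := ⟨inferInstance⟩
  haveI : ConnectedSpace ↥(↑U : Scheme.{u}) := by
    refine Function.Surjective.connectedSpace (f := X.homOfLE (inf_le_right : (⊤ : X.Opens) ⊓ U ≤ U)) (fun z => ?_)
      (X.homOfLE (inf_le_right : (⊤ : X.Opens) ⊓ U ≤ U)).continuous
    exact ⟨⟨z.1, ⟨trivial, z.2⟩⟩, Subtype.ext (by simp)⟩
  haveI : IsLocallyNoetherian (↑U : Scheme.{u}) := isLocallyNoetherian_of_isOpenImmersion U.ι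
  haveI : ConnectedSpace ↥(⊤ : (↑U : Scheme.{u}).Opens) :=
    Function.Surjective.connectedSpace (f := fun z : ↥(↑U : Scheme.{u}) => (⟨z, trivial⟩ : (⊤ : (↑U : Scheme.{u}).Opens)))
      (fun z => ⟨z.1, rfl⟩) (continuous_id.subtype_mk _)
  let K := (Spec.map (CommRingCat.ofHom (Ideal.Quotient.mk I))).ker
  have hY := (Groth.Agent.S2946.result (↑U : Scheme.{u}) (K.comap U.ι) hleff.1 ⊤ (fun _ _ => trivial)).2 (by assumption)
  have hc := (isConnected_iff_connectedSpace.mpr hY).image U.ι U.ι.continuous.continuousOn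
  rw [Scheme.IdealSheafData.support_comap] at hc
  convert hc using 1
  rw [TopologicalSpace.Closeds.coe_preimage, Set.image_preimage_eq_inter_range, Scheme.Opens.range_ι]

end Groth.Agent.S17790
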