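import Groth.Statements.S17792
import Groth.Agent.L13.FEtLeff.PureCI
-- import your own Groth.Agent.* helpers here

set_option autoImplicit false
set_option maxSynthPendingDepth 3
set_option backward.isDefEq.respectTransparency false
universe u
open CategoryTheory CategoryTheory.Limits AlgebraicGeometry
open Pi1

namespace Groth.Agent.S17792

/-- Write A = R/I with R a regular local ring and I generated by a finite set s of elements of the
maximal ideal, let c = dim R − dim A, and call δ = |s| − c the deviation of this presentation (for a
minimal generating set this is the deviation of A). Suppose A is excellent, equidimensional, and a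
complete intersection in codimension at most 2 + δ: for every prime Q of A with height(Q) + c ≤ 2 +
|s|, the ideal generated by s in the localization of R at the preimage of Q is generated by a
regular sequence. Then A is pure in codimension at least 3: for every prime Q of A of height at
least 3, the completion of A_Q at its maximal ideal is pure (for every open V of its spectrum,
restriction of finite étale covers from V to V minus the closed point is an equivalence). -/
theorem result (R : Type u) [CommRing R] [IsRegularLocalRing R] (s : Finset R) (hs : ∀ x ∈ s, x ∈ IsLocalRing.maximalIdeal R) [IsLocalRing (R ⧸ Ideal.span (↑s : Set R))] (hexc : EGA4.IsExcellent (R ⧸ Ideal.span (↑s : Set R))) (heq : EGA4.IsEquidim (R ⧸ Ideal.span (↑s : Set R))) (c : ℕ) (hc : ringKrullDim R = ringKrullDim (R ⧸ Ideal.span (↑s : Set R)) + (c : WithBot ℕ∞)) (hci : ∀ (Q : Ideal (R ⧸ Ideal.span (↑s : Set R))) [Q.IsPrime], Q.height + (c : ℕ∞) ≤ ((2 + s.card : ℕ) : ℕ∞) → CInt.IsRegularIdeal ((Ideal.span (↑s : Set R)).map (algebraMap R (Localization.AtPrime (Q.comap (Ideal.Quotient.mk (Ideal.span (↑s : Set R)))))))) (Q : Ideal (R ⧸ Ideal.span (↑s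 : Set R))) [Q.IsPrime] (hQ : (3 : ℕ∞) ≤ Q.height) : SGA2.IsPurePair (Spec (CommRingCat.of (AdicCompletion (IsLocalRing.maximalIdeal (Localization.AtPrime Q)) (Localization.AtPrime Q)))) (FEt.puncturedSpec (AdicCompletion (IsLocalRing.maximalIdeal (Localization.AtPrime Q)) (Localization.AtPrime Q))) := by
  obtain ⟨R', _, _, π, t, d, hπ, hker, hd, ht⟩ := Groth.L13.FEtLeff.exists_presentation_at s c hc hci Q hQ
  exact (Groth.L13.FEtLeff.isPurePair_of_presentation π hπ t hker hd ht).2

end Groth.Agent.S17792
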