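import Groth.Statements.S17793
import Groth.Agent.L13.PureRam.Reduce
import Groth.Agent.S17792
-- import your own Groth.Agent.* helpers here

set_option autoImplicit false
set_option maxSynthPendingDepth 3
set_option backward.isDefEq.respectTransparency false
universe u
open CategoryTheory CategoryTheory.Limits AlgebraicGeometry
open Pi1

namespace Groth.Agent.S17793

/-- Write A = R/I with R a regular local ring and I generated by a finite set s of elements of the
maximal ideal, let c = dim R − dim A, and call δ = |s| − c the deviation of this presentation (for a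
minimal generating set this is the deviation of A). Suppose A is an excellent normal domain and a
complete intersection in codimension at most 2 + δ: for every prime Q of A with height(Q) + c ≤ 2 +
|s|, the ideal generated by s in the localization of R at the preimage of Q is generated by a
regular sequence. Let B be a normal domain which is a finite extension of A with injective structure
map. Then the ramification locus of B over A has codimension at most 2: every prime of B minimal
among the primes at which B is not unramified over A has height at most 2. -/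
theorem result (R : Type u) [CommRing R] [IsRegularLocalRing R] (s : Finset R) (hs : ∀ x ∈ s, x ∈ IsLocalRing.maximalIdeal R) (hexc : EGA4.IsExcellent (R ⧸ Ideal.span (↑s : Set R))) [IsDomain (R ⧸ Ideal.span (↑s : Set R))] [IsIntegrallyClosed (R ⧸ Ideal.span (↑s : Set R))] (c : ℕ) (hc : ringKrullDim R = ringKrullDim (R ⧸ Ideal.span (↑s : Set R)) + (c : WithBot ℕ∞)) (hci : ∀ (Q : Ideal (R ⧸ Ideal.span (↑s : Set R))) [Q.IsPrime], Q.height + (c : ℕ∞) ≤ ((2 + s.card : ℕ) : ℕ∞) → CInt.IsRegularIdeal ((Ideal.span (↑s : Set R)).map (algebraMap R (Localization.AtPrime (Q.comap (Ideal.Quotient.mk (Ideal.span (↑s : Set R)))))))) (B : Type u) [CommRing B] [IsDomain B] [IsIntegrallyClosed B] [Algebra (R ⧸ Ideal.span (↑s : Set R)) B] [Module.Finite (R ⧸ Ideal.span (↑s : Set R)) B] (hinj : Function.Injective (algebraMap (R ⧸ Ideal.span (↑s : Set R)) B)) (q : Ideal B) [q.IsPrime] (hq : ¬ Algebra.IsUnramifiedAt (R ⧸ Ideal.span (↑s : Set R)) q) (hmin : ∀ (q' : Ideal B) [q'.IsPrime], q' ≤ q → ¬ Algebra.IsUnramifiedAt (R ⧸ Ideal.span (↑s : Set R)) q' → q' = q) : q.height ≤ 2 := by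
  haveI : IsNoetherianRing (R ⧸ Ideal.span (↑s : Set R)) := inferInstance
  haveI : IsLocalRing (R ⧸ Ideal.span (↑s : Set R)) :=
    IsLocalRing.of_surjective' (Ideal.Quotient.mk _) Ideal.Quotient.mk_surjective
  have heq : EGA4.IsEquidim (R ⧸ Ideal.span (↑s : Set R)) := fun p hp => by
    rw [IsDomain.minimalPrimes_eq_singleton_bot] at hp
    rw [Set.mem_singleton_iff.1 hp]
    exact ringKrullDim_eq_of_ringEquiv (RingEquiv.quotientBot _)
  have h := Groth.L13.PureRam.height_lt_of_minimal_ramified (R ⧸ Ideal.span (↑s : Set R)) hexc.2.2.1 3
    (fun P _ hP => Groth.Agent.S17792.result R s hs hexc heq c hc (fun Q _ hQ => hci Q hQ) P hP) B hinj q hq hmin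
  exact Order.le_of_lt_add_one (h.trans_le (by norm_num))

end Groth.Agent.S17793
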