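import Groth.Statements.S17794
import Groth.Agent.Lead.FppfEpi
import Groth.Agent.L15.KerFlat.Basic
import Groth.Agent.L19.FlatComp
import Groth.Agent.L25.GrpBasics
import Groth.Agent.L23.SchemeFacts

set_option linter.style.haveILetI false

set_option autoImplicit false
universe u
open CategoryTheory CategoryTheory.Limits MonoidalCategory CartesianMonoidalCategory MonObj GrpObj AlgebraicGeometry
open GrpSch

namespace Groth.Agent.S17794

/-- Let S be a scheme and f : G → H a homomorphism of S-group schemes, both of finite presentation over
S (locally of finite presentation, quasi-compact and quasi-separated), and let i : N → G be the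
kernel of f (the square formed by i, f, the unit section of H and N → S is cartesian). Then f is
faithfully flat (flat and surjective) if and only if the map of representable sheaves h_G → h_H
induced by f on the big fppf site of S is an epimorphism of sheaves of sets and N is flat over S. -/
theorem result {S : Scheme.{u}} {G H N : Over S} [GrpObj G] [GrpObj H] (f : G ⟶ H) [IsMonHom f] [LocallyOfFinitePresentation G.hom] [QuasiCompact G.hom] [QuasiSeparated G.hom] [LocallyOfFinitePresentation H.hom] [QuasiCompact H.hom] [QuasiSeparated H.hom] (i : N ⟶ G) (hi : AlgGrp.IsKernel i f) : (Flat f.left ∧ Surjective f.left) ↔ (Epi (QuotSh.repMap Scheme.fppfPrecoverage f) ∧ Flat N.hom) := by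
  constructor
  · rintro ⟨hf, hs⟩
    haveI : LocallyOfFiniteType H.hom := inferInstance
    haveI : LocallyOfFinitePresentation (f.left ≫ H.hom) := (Over.w f).symm ▸ ‹LocallyOfFinitePresentation G.hom›
    haveI : LocallyOfFinitePresentation f.left := Groth.L23.lfp_of_comp_lft f.left H.hom inferInstance
    refine ⟨Groth.Lead.FppfEpi.epi_repMap f, ?_⟩
    have hN : Flat (toUnit N).left := MorphismProperty.of_isPullback (hi.map (Over.forget S)) hf
    haveI := hN
    rw [← Over.w (toUnit N)]
    haveI : IsIso (𝟙_ (Over S)).hom := inferInstanceAs (IsIso (𝟙 S))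
    infer_instance
  · rintro ⟨he, hN⟩
    refine ⟨?_, ⟨fun x => ?_⟩⟩
    · rw [Flat.iff_flat_stalkMap]
      intro y
      obtain ⟨W, c, a, rfl, ⟨z, hz⟩, hcf, -⟩ := Groth.Lead.FppfEpi.exists_local_section f he (f.left y)
      haveI := hcf
      have sq := ((Groth.L25.GrpBasics.isPullback_whiskerRight a N).paste_horiz
        ((Groth.L15.KerFlat.isPullback_kernelPair hi).flip)).map (Over.forget S)
      haveI : Flat (fst W N).left := MorphismProperty.pullback_fst W.hom N.hom hN
      let b : (W ⊗ N).left ⟶ G.left := ((a ▷ N) ≫ (fst G N * (snd G N ≫ i))).left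
      haveI : Flat b := MorphismProperty.of_isPullback sq.flip hcf
      obtain ⟨w, hw₁, -⟩ := Scheme.Pullback.exists_preimage_pullback y z (f := f.left) (g := (a ≫ f).left) hz.symm
      have e₁ : b (sq.isoPullback.inv w) = y := by
        exact (Scheme.Hom.comp_apply sq.isoPullback.inv b w).symm.trans ((congrArg (fun φ => φ w) sq.isoPullback_inv_fst).trans hw₁)
      rw [← e₁]
      refine Groth.L19.flat_stalkMap_of_comp b f.left _ (Flat.stalkMap b _) ?_
      haveI : Flat (b ≫ f.left) := by
        rw [show b ≫ f.left = (fst W N).left ≫ (a ≫ f).left from sq.w]; infer_instance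
      exact Flat.stalkMap _ _
    · obtain ⟨W, c, a, rfl, ⟨z, hz⟩, -⟩ := Groth.Lead.FppfEpi.exists_local_section f he x
      exact ⟨a.left z, by rw [← Scheme.Hom.comp_apply, ← Over.comp_left]; exact hz⟩

end Groth.Agent.S17794
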