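import Groth.Statements.S17797
import Mathlib.RingTheory.EssentialFiniteness
import Mathlib.RingTheory.AlgebraicIndependent.Adjoin
import Mathlib.RingTheory.AlgebraicIndependent.TranscendenceBasis
import Mathlib.RingTheory.IntegralClosure.IsIntegralClosure.Basic
import Mathlib.RingTheory.LocalRing.ResidueField.Basic
import Mathlib.RingTheory.Localization.AtPrime.Basic
import Mathlib.RingTheory.Algebraic.Integral
import Mathlib.RingTheory.Localization.Algebra

set_option autoImplicit false
universe u
open CAlg

namespace Groth.Agent.S17797

set_option maxHeartbeats 1000000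


/-- Suppose k is a field of characteristic zero and S is a local domain that is an essentially
finite-type k-algebra. Then there are an extension field K of k, a K-algebra A of finite type and a
maximal ideal m of A such that S is isomorphic over k to the localization A_m. -/
theorem result (k : Type u) [Field k] [CharZero k] (S : Type u) [CommRing S] [IsDomain S] [IsLocalRing S] [Algebra k S] [Algebra.EssFiniteType k S] : ∃ (K : Type u) (_ : Field K) (_ : Algebra k K) (A : Type u) (_ : CommRing A) (_ : Algebra K A) (_ : Algebra k A) (_ : IsScalarTower k K A) (_ : Algebra.FiniteType K A) (m : Ideal A) (_ : m.IsMaximal), Nonempty (S ≃ₐ[k] Localization.AtPrime m) := by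
  let R' := IsLocalRing.ResidueField S
  haveI : FaithfulSMul k R' := (faithfulSMul_iff_algebraMap_injective k R').mpr (algebraMap k R').injective
  obtain ⟨ι, x, hx⟩ := exists_isTranscendenceBasis' k R'
  choose y hy using fun i => IsLocalRing.residue_surjective (R := S) (x i)
  let P := MvPolynomial ι k
  let f : P →ₐ[k] S := MvPolynomial.aeval y
  have hres : ∀ p : P, IsLocalRing.residue S (f p) = MvPolynomial.aeval x p := by
    intro p
    have : (IsScalarTower.toAlgHom k S R').comp f = MvPolynomial.aeval x :=
      MvPolynomial.algHom_ext fun i => by simp [f]; exact hy i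
    exact AlgHom.congr_fun this p
  have hu : ∀ p : nonZeroDivisors P, IsUnit (f p) := by
    intro p
    rw [← IsLocalRing.residue_ne_zero_iff_isUnit, hres]
    intro h
    exact nonZeroDivisors.ne_zero p.2 ((algebraicIndependent_iff_injective_aeval.mp hx.1) (h.trans (map_zero _).symm))
  let KK := FractionRing P
  let ψ : KK →+* S := IsLocalization.lift (g := f.toRingHom) hu
  have hψ : ∀ p : P, ψ (algebraMap P KK p) = f p := fun p => IsLocalization.lift_eq _ p
  letI : Algebra KK S := ψ.toAlgebra
  haveI : IsScalarTower k KK S := IsScalarTower.of_algebraMap_eq fun c => by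
    rw [RingHom.algebraMap_toAlgebra, IsScalarTower.algebraMap_apply k P KK, hψ, f.commutes]
  have halg : Algebra.IsAlgebraic KK R' := by
    haveI := hx.isAlgebraic_field
    refine ⟨fun z => ?_⟩
    obtain ⟨q, hq, hqz⟩ := Algebra.IsAlgebraic.isAlgebraic (R := IntermediateField.adjoin k (Set.range x)) z
    let e := hx.1.aevalEquivField
    refine ⟨q.map e.symm.toAlgHom.toRingHom, (Polynomial.map_ne_zero_iff e.symm.injective).mpr hq, ?_⟩
    have hcomp : (algebraMap KK R').comp e.symm.toAlgHom.toRingHom = algebraMap (IntermediateField.adjoin k (Set.range x)) R' := by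
      have h1 : (algebraMap KK R') = (algebraMap (IntermediateField.adjoin k (Set.range x)) R').comp e.toAlgHom.toRingHom := by
        refine IsLocalization.ringHom_ext (nonZeroDivisors P) (RingHom.ext fun p => ?_)
        show IsLocalRing.residue S (ψ (algebraMap P KK p)) = (e (algebraMap P KK p) : R')
        rw [hψ, hres, AlgebraicIndependent.aevalEquivField_algebraMap_apply_coe]
      refine RingHom.ext fun l => ?_
      rw [RingHom.comp_apply, h1]
      show algebraMap (IntermediateField.adjoin k (Set.range x)) R' (e (e.symm l)) = _
      rw [e.apply_symm_apply]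
    rw [Polynomial.aeval_def, Polynomial.eval₂_map, hcomp]
    exact hqz
  let T : Finset S := Algebra.EssFiniteType.finset k S
  let A : Subalgebra KK S := Algebra.adjoin KK (T : Set S)
  haveI : Algebra.FiniteType KK A := (Subalgebra.fg_iff_finiteType _).mp ⟨T, rfl⟩
  let m : Ideal A := (IsLocalRing.maximalIdeal S).comap A.val.toRingHom
  haveI hmp : m.IsPrime := Ideal.comap_isPrime _ _
  have hmmax : m.IsMaximal := by
    rw [Ideal.Quotient.maximal_ideal_iff_isField_quotient]
    let g : (A ⧸ m) →ₐ[KK] R' := Ideal.Quotient.liftₐ m ((IsScalarTower.toAlgHom KK S R').comp A.val) fun a ha =>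
      (IsLocalRing.residue_eq_zero_iff _).mpr ha
    have hg : Function.Injective g := by
      rw [injective_iff_map_eq_zero]
      intro a ha
      obtain ⟨a, rfl⟩ := Ideal.Quotient.mk_surjective a
      exact Ideal.Quotient.eq_zero_iff_mem.mpr ((IsLocalRing.residue_eq_zero_iff (A.val a)).mp ha)
    haveI : Algebra.IsIntegral KK (A ⧸ m) := ⟨fun a => (isIntegral_algHom_iff g hg).mp (halg.isAlgebraic (g a)).isIntegral⟩
    exact isField_of_isIntegral_of_isField' (R := KK) (S := A ⧸ m) (Field.toIsField KK)
  have hsub : ∀ z : Algebra.EssFiniteType.subalgebra k S, (z : S) ∈ A := fun z => by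
    have h : Algebra.EssFiniteType.subalgebra k S ≤ A.restrictScalars k :=
      Algebra.adjoin_le fun t ht => Algebra.subset_adjoin ht
    exact h z.2
  haveI hloc : IsLocalization.AtPrime S m := (isLocalization_iff _ _).mpr
    ⟨fun a => by
      have h := a.2
      by_contra h'
      exact h ((IsLocalRing.mem_maximalIdeal _).mpr h'),
    fun z => by
      obtain ⟨⟨a, s⟩, h⟩ := IsLocalization.surj (Algebra.EssFiniteType.submonoid k S) z
      refine ⟨(⟨a.1, hsub a⟩, ⟨⟨s.1.1, hsub s.1⟩, fun hs => (IsLocalRing.mem_maximalIdeal _).mp hs s.2⟩), h⟩,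
    fun {a b} h => ⟨1, by rw [Subtype.ext h]⟩⟩
  refine ⟨KK, inferInstance, inferInstance, A, inferInstance, inferInstance, inferInstance, inferInstance, inferInstance, m, hmmax, ?_⟩
  exact ⟨((IsLocalization.algEquiv m.primeCompl S (Localization.AtPrime m)).restrictScalars k)⟩

end Groth.Agent.S17797
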