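import Groth.Statements.S1780
import Groth.Agent.L29.Dual.Descent
import Mathlib.RingTheory.Finiteness.Descent

set_option autoImplicit false
universe u
open CategoryTheory
attribute [local instance] HasDerivedCategory.standard
open Dual

namespace Groth.Agent.S1780

/-- Let A → B be a faithfully flat homomorphism of Noetherian rings and K an object of D(A). Assuming
the derived base change functor D(A) → D(B) exists, if the derived base change of K to B is
dualizing over B, then K is already dualizing over A. -/
theorem result (A B : Type u) [CommRing A] [CommRing B] [Algebra A B] [IsNoetherianRing A] [IsNoetherianRing B] [Module.FaithfullyFlat A B] [DRing.HasLBaseChange (algebraMap A B)] (K : Dual.D A) (hK : Dual.IsDualizing B ((DRing.LBaseChange (algebraMap A B)).obj K)) : Dual.IsDualizing A K := by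
  have hK' := Groth.L29.HomD.isDualizing_of_iso ((Groth.L29.FlatBC.lbcIso A B).app K) hK
  refine Groth.L29.FlatBC.isDualizing_of_finite_family (B := fun _ : Unit => B)
    (fun N _ _ h => (Module.FaithfullyFlat.subsingleton_tensorProduct_iff_right A B).1 (h ())) (fun n => ?_) (fun _ => hK')
  haveI := hK'.finite_cohomology n
  haveI : Module.Finite B (TensorProduct A B (Dual.HD A K n)) :=
    Module.Finite.equiv (Groth.L29.FlatBC.hEquiv A B K n)
  exact Module.Finite.of_finite_tensorProduct_of_faithfullyFlat B

end Groth.Agent.S1780
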