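import Groth.Statements.S17803
import Groth.Agent.L06.CplSurj

set_option autoImplicit false
set_option maxSynthPendingDepth 3
set_option linter.style.haveILetI false
universe u
open EGA4

namespace Groth.Agent.S17803

/-- Let A be an excellent normal domain which is a quotient of a regular ring, I an ideal of A and f ∈
A. Then the I-adic completion of the localization A_f is a normal ring (its localization at every
prime ideal is an integrally closed domain), and it is a quotient of a regular ring. -/
theorem result (A : Type u) [CommRing A] [IsDomain A] [IsIntegrallyClosed A] (hexc : EGA4.IsExcellent A) (hreg : ∃ (R : Type u) (_ : CommRing R) (_ : IsRegularRing R) (φ : R →+* A), Function.Surjective φ) (I : Ideal A) (f : A) : EGA4.IsNormalRing (AdicCompletion (I.map (algebraMap A (Localization.Away f))) (Localization.Away f)) ∧ ∃ (R' : Type u) (_ : CommRing R') (_ : IsRegularRing R') (ψ : R' →+* AdicCompletion (I.map (algebraMap A (Localization.Away f))) (Localization.Away f)), Function.Surjective ψ := by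
  exact Groth.L06.CplSurj.main A hexc hreg I f

end Groth.Agent.S17803
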