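import Groth.Statements.S17807
import Groth.Agent.L26.JacRat.PointDropH1
import Groth.Agent.L21.SmoothCurveDim

set_option autoImplicit false
universe u
open CategoryTheory CategoryTheory.Limits AlgebraicGeometry
open JacVar

namespace Groth.Agent.S17807

/-- Let C be a smooth proper geometrically connected curve of genus g > 0 over a field k with a
k-rational point, and let L be an invertible module on C with h¹(C, L) > 0. Under these hypotheses,
C contains some nonempty open U with the following property: whenever Q is a k-rational point of C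
and M is an invertible module satisfying M ⊗ I_Q ≅ L (so M is L(Q)), one has h¹(C, M) = h¹(C, L) − 1
if Q belongs to U, and h¹(C, M) = h¹(C, L) if Q does not. (The published statement is phrased for
all closed points Q; for a closed point of degree d > 1 the drop can exceed one, so this row states
it for k-rational points Q.) -/
theorem result (k : Type u) [Field k]
    (C : Scheme.{u}) [C.Over (Spec (CommRingCat.of k))]
    [IsProper (C ↘ Spec (CommRingCat.of k))] [Smooth (C ↘ Spec (CommRingCat.of k))] [GeometricallyConnected (C ↘ Spec (CommRingCat.of k))]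
    (hdim : topologicalKrullDim ↥C = 1)
    (hg : 0 < Curv2.genus k C)
    (σ₀ : Spec (CommRingCat.of k) ⟶ C) (hσ₀ : σ₀ ≫ (C ↘ Spec (CommRingCat.of k)) = 𝟙 _)
    (L : C.Modules) (hL : PicF.IsInvertible L) (hL1 : 0 < Module.finrank k (Coh.HH C L 1)) :
    ∃ U : C.Opens, (U : Set ↥C).Nonempty ∧
      ∀ (σ : Spec (CommRingCat.of k) ⟶ C) (hσ : σ ≫ (C ↘ Spec (CommRingCat.of k)) = 𝟙 _) (M : C.Modules) (hM : PicF.IsInvertible M)
        (hML : Nonempty (CohB1.tensorMod M (ClSub.idealMod σ.ker) ≅ L)),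
        ((∀ p, σ.base p ∈ U) → Module.finrank k (Coh.HH C M 1) = Module.finrank k (Coh.HH C L 1) - 1) ∧
        ((∀ p, σ.base p ∉ U) → Module.finrank k (Coh.HH C M 1) = Module.finrank k (Coh.HH C L 1)) := by
  letI (Y : Scheme.{u}) : CommMonoid (PicF.Cl Y) := Groth.L08.Cube.clMonoid (Y := Y)
  haveI : Subsingleton ↥(Spec (CommRingCat.of k)) := inferInstanceAs (Subsingleton (PrimeSpectrum k))
  haveI : ConnectedSpace ↥(Spec (CommRingCat.of k)) := inferInstanceAs (ConnectedSpace (PrimeSpectrum k))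
  haveI : ConnectedSpace ↥C := GeometricallyConnected.connectedSpace_of_subsingleton (C ↘ Spec (CommRingCat.of k))
  haveI : IsIntegral C := Groth.L12.HypSq.isIntegral (k := k) (C := C)
  haveI := Groth.L21.SmoothCurve.smoothOfRelativeDimension_one (C ↘ Spec (CommRingCat.of k)) hdim
  let f := C ↘ Spec (CommRingCat.of k)
  letI (K : Type u) [Field K] (τ : Spec (CommRingCat.of K) ⟶ Spec (CommRingCat.of k)) :
      (PicF.XT (C ↘ Spec (CommRingCat.of k)) (Over.mk τ)).Over (Spec (CommRingCat.of K)) :=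
    Groth.Agent.L26.PicSm.curveOver (f := C ↘ Spec (CommRingCat.of k)) τ
  let K := AlgebraicClosure k
  let τ : Spec (CommRingCat.of K) ⟶ Spec (CommRingCat.of k) := Spec.map (CommRingCat.ofHom (algebraMap k K))
  haveI := Groth.Agent.L26.PicSm.curve_proper (f := C ↘ Spec (CommRingCat.of k)) τ
  haveI := Groth.Agent.L26.PicSm.curve_smooth (f := C ↘ Spec (CommRingCat.of k)) τ
  haveI := Groth.Agent.L26.PicSm.curve_integral (f := C ↘ Spec (CommRingCat.of k)) τ
  haveI := Groth.L21.RR.isNoetherian_of_proper (X := PicF.XT (C ↘ Spec (CommRingCat.of k)) (Over.mk τ)) K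
  haveI := Groth.L21.RR.isNoetherian_of_proper (X := C) k
  have hdK := Groth.Agent.L26.PicSm.curve_dim (f := C ↘ Spec (CommRingCat.of k)) τ
  have h0K := Groth.Agent.L26.PicSm.curve_h0 (f := C ↘ Spec (CommRingCat.of k)) τ
  let g : PicF.XT (C ↘ Spec (CommRingCat.of k)) (Over.mk τ) ⟶ C := pullback.fst _ _
  have hbc : ∀ {F : C.Modules}, PicF.IsInvertible F →
      Groth.L21.RR.h K 1 ((Scheme.Modules.pullback g).obj F) = Module.finrank k (Coh.HH C F 1) := fun {F} hF =>
    Groth.L21.RR.h_pullback (k := k) (K := K) g (IsPullback.of_hasPullback (C ↘ Spec (CommRingCat.of k)) τ)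
      (Groth.L16.ProperFinite.isCoh_of_isInvertible hF) 1
  -- the universal family `L(x)`
  let V := Over.mk (C ↘ Spec (CommRingCat.of k))
  let LV := (Scheme.Modules.pullback (pullback.fst (C ↘ Spec (CommRingCat.of k)) V.hom)).obj L
  obtain ⟨D, hD, ⟨eD⟩⟩ := Groth.L08.Cube.exists_inverse (Groth.Agent.Elliptic.isInvertible_secIdeal
    (f := C ↘ Spec (CommRingCat.of k)) (𝟙 V))
  let Mf := CohB1.tensorMod LV D
  have hMf : PicF.IsInvertible Mf :=
    Groth.L18.GenLoc.isInvertible_tensor (Groth.L18.Ample.isInvertible_pullback _ hL) hD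
  haveI := Groth.Agent.L26.PicRep.smooth_XT (f := C ↘ Spec (CommRingCat.of k)) V
  haveI : IsProper (PicF.XTproj (C ↘ Spec (CommRingCat.of k)) V) := inferInstanceAs (IsProper (pullback.snd _ _))
  obtain ⟨hq, hfp, hfl⟩ := Groth.Agent.L26.PicRep.props_invertible (PicF.XTproj (C ↘ Spec (CommRingCat.of k)) V) hMf
  haveI := hq
  let U : C.Opens := ⟨{t | CohIII.fiberRank (PicF.XTproj (C ↘ Spec (CommRingCat.of k)) V) Mf 1 t <
    Module.finrank k (Coh.HH C L 1)}, Groth.L17.BC.isOpen_fiberRank_lt _ _ hfp hfl 1 _⟩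
  have hMfcl : ∀ {T : Over (Spec (CommRingCat.of k))} (q : T ⟶ V),
      PicF.pullCl (PicF.XTmap (C ↘ Spec (CommRingCat.of k)) q) (PicF.cl Mf) *
        (Groth.Agent.Elliptic.uI q : PicF.Cl (PicF.XT (C ↘ Spec (CommRingCat.of k)) T)) =
      PicF.pullCl (pullback.fst (C ↘ Spec (CommRingCat.of k)) T.hom) (PicF.cl L) := fun q => by
    have h1 : PicF.cl Mf * (Groth.Agent.Elliptic.uI (𝟙 V) : PicF.Cl (PicF.XT (C ↘ Spec (CommRingCat.of k)) V)) =
        PicF.cl LV := by
      show PicF.cl LV * PicF.cl D * _ = _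
      rw [mul_assoc, mul_comm (PicF.cl D), show _ * PicF.cl D = (1 : PicF.Cl _) from
        Groth.Agent.AbDualLib.cl_congr eD, mul_one]
    have h2 := congrArg (PicF.pullCl (PicF.XTmap (C ↘ Spec (CommRingCat.of k)) q)) h1
    rw [Groth.L08.Cube.pullCl_mul,
      show PicF.pullCl _ (Groth.Agent.Elliptic.uI (𝟙 V) : PicF.Cl (PicF.XT (C ↘ Spec (CommRingCat.of k)) V)) = _ from
        congrArg Units.val (Groth.Agent.Elliptic.map_uI q (𝟙 V)), Category.comp_id] at h2
    rw [h2, show PicF.cl LV = PicF.pullCl (pullback.fst (C ↘ Spec (CommRingCat.of k)) V.hom) (PicF.cl L) from rfl,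
      ← PicLoc.pullCl_comp, Groth.L02.Hilb.XTmap_fst]
  refine ⟨U, ?_, fun σ hσ M hM hML => ?_⟩
  · obtain ⟨P, hP, M, hM, ⟨e⟩, hdrop⟩ := Groth.Agent.L26.JacRat.exists_drop (K := K) hdK h0K
      (Groth.L18.Ample.isInvertible_pullback g hL) (by rw [hbc hL]; exact hL1)
    let y : Over.mk τ ⟶ V := Groth.Agent.Elliptic.ptOf (T := Over.mk τ)
      (pointOfClosedPoint (PicF.XT (C ↘ Spec (CommRingCat.of k)) (Over.mk τ) ↘ Spec (CommRingCat.of K)) P hP)
      (pointOfClosedPoint_comp _ _ _)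
    have hy : (Groth.Agent.Elliptic.uI y : PicF.Cl (PicF.XT (C ↘ Spec (CommRingCat.of k)) (Over.mk τ))) =
        PicF.cl (Groth.L21.RR.ptI P hP) := by
      rw [Groth.Agent.Elliptic.val_uI, Groth.Agent.Elliptic.sec_ptOf]
      haveI : IsClosedImmersion (pointOfClosedPoint
          (PicF.XT (C ↘ Spec (CommRingCat.of k)) (Over.mk τ) ↘ Spec (CommRingCat.of K)) P hP) :=
        isClosedImmersion_of_comp_eq_id _ _ (pointOfClosedPoint_comp _ _ _)
      rw [Groth.L21.RR.ker_eq_vanishingIdeal_point K _ hP fun a => pointOfClosedPoint_apply _ P hP a]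
    have hy' := hMfcl y
    rw [show PicF.pullCl (pullback.fst (C ↘ Spec (CommRingCat.of k)) (Over.mk τ).hom) (PicF.cl L) =
      PicF.cl M * (Groth.Agent.Elliptic.uI y : PicF.Cl (PicF.XT (C ↘ Spec (CommRingCat.of k)) (Over.mk τ))) by
        rw [hy]; exact (Groth.Agent.AbDualLib.cl_congr e).symm, Units.mul_left_inj] at hy'
    obtain ⟨i⟩ := (PicGrp.cl_eq_cl_iff _ _).1 hy'
    refine ⟨y.left (IsLocalRing.closedPoint K), ?_⟩
    show CohIII.fiberRank _ Mf 1 _ < _
    rw [← Groth.L20.RankBC.fiberRank_baseChange hfp hfl (Groth.L02.Hilb.isPullback_XTmap _ y) _ 1,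
      Groth.Agent.L26.PicRep.fiberRank_iso _ i,
      show CohIII.fiberRank (PicF.XTproj (C ↘ Spec (CommRingCat.of k)) (Over.mk τ)) M 1 (IsLocalRing.closedPoint K) = _
        from Groth.Agent.L26.JacRat.fiberRank_eq_h (K := K) (Y := PicF.XT (C ↘ Spec (CommRingCat.of k)) (Over.mk τ))
          (Groth.L16.ProperFinite.isCoh_of_isInvertible hM) 1 _, ← hbc hL]
    omega
  · obtain ⟨eML⟩ := hML
    let q := Groth.Agent.L26.JacRat.ptX k σ hσ
    have hrank : ∀ p, Module.finrank k (Coh.HH C M 1) =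
        CohIII.fiberRank (PicF.XTproj (C ↘ Spec (CommRingCat.of k)) V) Mf 1 (σ p) := fun p => by
      have hq' := hMfcl q
      rw [show PicF.pullCl (pullback.fst (C ↘ Spec (CommRingCat.of k)) (Groth.Agent.L26.JacRat.onePt k).hom)
          (PicF.cl L) = Groth.Agent.L26.JacRat.toOne k (PicF.cl M) * (Groth.Agent.Elliptic.uI q :
            PicF.Cl (PicF.XT (C ↘ Spec (CommRingCat.of k)) (Groth.Agent.L26.JacRat.onePt k))) by
        rw [Groth.Agent.L26.JacRat.val_uI_ptX, ← map_mul]
        exact congrArg _ (Groth.Agent.AbDualLib.cl_congr eML).symm, Units.mul_left_inj] at hq'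
      obtain ⟨i⟩ := (PicGrp.cl_eq_cl_iff _ ((Scheme.Modules.pullback (pullback.fst (C ↘ Spec (CommRingCat.of k))
        (𝟙 (Spec (CommRingCat.of k))))).obj M)).1 hq'
      rw [← Groth.Agent.L26.JacRat.fiberRank_toOne hM 1 p, ← Groth.Agent.L26.PicRep.fiberRank_iso _ i,
        Groth.L20.RankBC.fiberRank_baseChange hfp hfl (Groth.L02.Hilb.isPullback_XTmap _ q) p 1]
      show CohIII.fiberRank _ Mf 1 ((𝟙 _ ≫ σ) p) = _
      rw [Category.id_comp]
    obtain ⟨hb1, hb2⟩ : Module.finrank k (Coh.HH C M 1) ≤ Module.finrank k (Coh.HH C L 1) ∧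
        Module.finrank k (Coh.HH C L 1) ≤ Module.finrank k (Coh.HH C M 1) + 1 := by
      rw [← hbc hM, ← hbc hL]
      let o : Over.mk τ ⟶ V := Groth.Agent.Elliptic.origin (Over.mk τ) σ hσ
      have hP := Groth.Agent.L26.PicSm.isClosed_point (k := K)
        (X := PicF.XT (C ↘ Spec (CommRingCat.of k)) (Over.mk τ))
        (Groth.Agent.Elliptic.sec o) (Groth.Agent.Elliptic.sec_proj o)
      have hc : (Groth.Agent.Elliptic.uI o : PicF.Cl (PicF.XT (C ↘ Spec (CommRingCat.of k)) (Over.mk τ))) =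
          PicF.cl (Groth.L21.RR.ptI _ hP) := by
        rw [Groth.Agent.Elliptic.val_uI, Groth.Agent.L26.PicSm.ker_point (k := K)
          (X := PicF.XT (C ↘ Spec (CommRingCat.of k)) (Over.mk τ)) (Groth.Agent.Elliptic.sec o)
          (Groth.Agent.Elliptic.sec_proj o)]
      have hcl : PicF.cl ((Scheme.Modules.pullback g).obj M) * PicF.cl (Groth.L21.RR.ptI _ hP) =
          PicF.cl ((Scheme.Modules.pullback g).obj L) := by
        rw [← hc, Groth.Agent.L26.JacRat.val_uI_origin σ hσ (Over.mk τ)]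
        show PicF.pullCl g (PicF.cl M) * PicF.pullCl g (PicF.cl _) = PicF.pullCl g (PicF.cl L)
        rw [← Groth.L08.Cube.pullCl_mul]
        exact congrArg _ (Groth.Agent.AbDualLib.cl_congr eML)
      obtain ⟨e⟩ := (PicGrp.cl_eq_cl_iff (CohB1.tensorMod _ _) _).1 hcl
      exact Groth.Agent.L26.JacRat.h1_bounds (K := K) hdK (Groth.L18.Ample.isInvertible_pullback g hM) hP e
    let p₀ : ↥(Spec (CommRingCat.of k)) := IsLocalRing.closedPoint k
    refine ⟨fun hU => ?_, fun hU => ?_⟩
    · have h : CohIII.fiberRank (PicF.XTproj (C ↘ Spec (CommRingCat.of k)) V) Mf 1 (σ p₀) <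
          Module.finrank k (Coh.HH C L 1) := hU p₀
      rw [← hrank p₀] at h
      omega
    · have h : ¬ CohIII.fiberRank (PicF.XTproj (C ↘ Spec (CommRingCat.of k)) V) Mf 1 (σ p₀) <
          Module.finrank k (Coh.HH C L 1) := hU p₀
      rw [← hrank p₀] at h
      omega

end Groth.Agent.S17807
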