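import Groth.Statements.S17808
import Groth.Agent.L26.JacRat.GoodPts
import Groth.Agent.L21.SmoothCurveDim
import Groth.Agent.L26.AV.SmoothField

set_option autoImplicit false
universe u
open CategoryTheory CategoryTheory.Limits AlgebraicGeometry
open JacVar

namespace Groth.Agent.S17808

/-- Let C be a smooth proper connected curve of genus g > 0 over an algebraically closed field k (with a
chosen point), and let r ≤ g. Then there is a nonempty open subset U of the r-fold fibre power C ×_k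
⋯ ×_k C such that for every k-point (P_1, …, P_r) of U (closed points, k being algebraically closed)
and every invertible module M on C with M ⊗ I_{P_1} ⊗ ⋯ ⊗ I_{P_r} ≅ O_C (so M is O(P_1 + ⋯ + P_r)),
h⁰(C, M) = 1. (The published statement, over the ground field of the section, says only that U is
open; this row also asserts that U is non-empty; k is taken algebraically closed so that the
k-points of U are its closed points.) -/
theorem result (k : Type u) [Field k] [IsAlgClosed k]
    (C : Scheme.{u}) [C.Over (Spec (CommRingCat.of k))]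
    [IsProper (C ↘ Spec (CommRingCat.of k))] [Smooth (C ↘ Spec (CommRingCat.of k))] [GeometricallyConnected (C ↘ Spec (CommRingCat.of k))]
    (hdim : topologicalKrullDim ↥C = 1)
    (hg : 0 < Curv2.genus k C)
    (σ₀ : Spec (CommRingCat.of k) ⟶ C) (hσ₀ : σ₀ ≫ (C ↘ Spec (CommRingCat.of k)) = 𝟙 _)
    (r : ℕ) (hr : r ≤ Curv2.genus k C) :
    ∃ U : (SymProd.fibPow (C ↘ Spec (CommRingCat.of k)) r).Opens, (U : Set ↥(SymProd.fibPow (C ↘ Spec (CommRingCat.of k)) r)).Nonempty ∧
      ∀ (x : Spec (CommRingCat.of k) ⟶ SymProd.fibPow (C ↘ Spec (CommRingCat.of k)) r)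
        (hx : x ≫ WidePullback.base (fun (_ : Fin r) => (C ↘ Spec (CommRingCat.of k))) = 𝟙 _)
        (hxU : ∀ p, x.base p ∈ U) (M : C.Modules) (hM : PicF.IsInvertible M)
        (hMD : Nonempty (CohB1.tensorMod M (FGA.tensorList (List.ofFn fun i : Fin r =>
          ClSub.idealMod (x ≫ WidePullback.π (fun (_ : Fin r) => (C ↘ Spec (CommRingCat.of k))) i).ker)) ≅ Coh.structureModule C)),
        Module.finrank k (Coh.HH C M 0) = 1 := by
  letI (Y : Scheme.{u}) : CommMonoid (PicF.Cl Y) := Groth.L08.Cube.clMonoid (Y := Y)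
  haveI : Subsingleton ↥(Spec (CommRingCat.of k)) := inferInstanceAs (Subsingleton (PrimeSpectrum k))
  haveI : ConnectedSpace ↥(Spec (CommRingCat.of k)) := inferInstanceAs (ConnectedSpace (PrimeSpectrum k))
  haveI : ConnectedSpace ↥C := GeometricallyConnected.connectedSpace_of_subsingleton (C ↘ Spec (CommRingCat.of k))
  haveI : IsIntegral C := Groth.L12.HypSq.isIntegral (k := k) (C := C)
  haveI := Groth.L21.SmoothCurve.smoothOfRelativeDimension_one (C ↘ Spec (CommRingCat.of k)) hdim
  let f := C ↘ Spec (CommRingCat.of k)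
  obtain ⟨m, hm⟩ := Nat.exists_eq_add_of_le hr
  obtain ⟨s, hs, hgood⟩ := Groth.Agent.L26.JacRat.exists_goodPts (X := C) (r + m) hm
  let T : Over (Spec (CommRingCat.of k)) := Over.mk (WidePullback.base fun (_ : Fin r) => f)
  let a : Fin r → (T ⟶ Over.mk f) := fun i =>
    Over.homMk (WidePullback.π (fun (_ : Fin r) => f) i) (WidePullback.π_arrow _ i)
  let tl : Fin m → (Spec (CommRingCat.of k) ⟶ C) := fun j => s (Fin.natAdd r j)
  have htl : ∀ j, tl j ≫ f = 𝟙 _ := fun j => hs _
  let c := ((∏ i, Groth.Agent.Elliptic.uI (a i)) *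
    ∏ j, Groth.Agent.Elliptic.uI (Groth.Agent.Elliptic.origin T (tl j) (htl j)))⁻¹
  have hc : c ∈ Groth.Agent.L26.PicRep.invU _ := Subgroup.inv_mem _ (Subgroup.mul_mem _
    (Subgroup.prod_mem _ fun i _ => Groth.Agent.L26.JacRat.uI_mem _)
    (Subgroup.prod_mem _ fun i _ => Groth.Agent.L26.JacRat.uI_mem _))
  let x₀ : Spec (CommRingCat.of k) ⟶ T.left :=
    WidePullback.lift (𝟙 _) (fun i => s (Fin.castAdd m i)) fun i => hs _
  let q₀ : Groth.Agent.L26.JacRat.onePt k ⟶ T := Over.homMk x₀ (WidePullback.lift_base _ _ _ _)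
  have htail : ∀ (q : Groth.Agent.L26.JacRat.onePt k ⟶ T) j,
      q ≫ Groth.Agent.Elliptic.origin T (tl j) (htl j) = Groth.Agent.L26.JacRat.ptX k (tl j) (htl j) := fun q j =>
    Groth.Agent.Elliptic.comp_origin (tl j) (htl j) q
  have hq₀ : ∀ i, q₀ ≫ a i = Groth.Agent.L26.JacRat.ptX k (s (Fin.castAdd m i)) (hs _) := fun i =>
    Groth.Agent.L26.JacRat.comp_ptX _ _ _ _ (WidePullback.lift_π _ _ _ _ i)
  refine ⟨⟨Groth.Agent.L26.PicRep.goodSet f T (c : PicF.Cl (PicF.XT f T)),
    Groth.Agent.L26.PicRep.isOpen_goodSet hc.1⟩, ⟨x₀ (IsLocalRing.closedPoint k), ?_⟩, fun x hx hxU M hM hMD => ?_⟩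
  · refine (Groth.Agent.L26.PicRep.goodSet_pull q₀ hc.1).le
      (?_ : (IsLocalRing.closedPoint k : (Groth.Agent.L26.JacRat.onePt k).left) ∈
        Groth.Agent.L26.PicRep.goodSet f (Groth.Agent.L26.JacRat.onePt k) _)
    rw [show PicF.pullCl (PicF.XTmap f q₀) (c : PicF.Cl (PicF.XT f T)) = _ from
      congrArg Units.val (show Groth.Agent.L26.PicRep.mp f q₀ c =
        (∏ i, Groth.Agent.Elliptic.uI (Groth.Agent.L26.JacRat.ptX k (s i) (hs i)))⁻¹ from ?_)]
    · exact hgood _
    simp only [c, map_mul, map_inv, map_prod, Groth.Agent.Elliptic.map_uI, hq₀, htail, tl]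
    rw [Fin.prod_univ_add]
  · haveI : Smooth (C ↘ Spec (CommRingCat.of k)) := inferInstance
    let q : Groth.Agent.L26.JacRat.onePt k ⟶ T := Over.homMk x hx
    have hq : ∀ i, q ≫ a i = Groth.Agent.L26.JacRat.ptX k
        (x ≫ WidePullback.π (fun (_ : Fin r) => (C ↘ Spec (CommRingCat.of k))) i)
        (by rw [Category.assoc, WidePullback.π_arrow]; exact hx) := fun i =>
      Groth.Agent.L26.JacRat.comp_ptX _ _ _ _ rfl
    have hI : ∀ (σ : Spec (CommRingCat.of k) ⟶ C) (hσ : σ ≫ f = 𝟙 _), PicF.IsInvertible (ClSub.idealMod σ.ker) :=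
      fun σ hσ => Groth.Agent.Elliptic.isInvertible_ker (f := f) hσ
    choose w hw hwv using fun j =>
      Groth.Agent.L26.PicRep.exists_invU (c := PicF.cl (ClSub.idealMod (tl j).ker)) ⟨_, rfl, hI _ (htl j)⟩
    let u := ∏ j, w j
    have hu : (u : PicF.Cl C) = ∏ j, PicF.cl (ClSub.idealMod (tl j).ker) := by
      simp only [u, Units.coe_prod, hwv]
    obtain ⟨v, hv, hvu⟩ := Groth.Agent.L26.PicRep.exists_invU
      (c := PicF.cl M) ⟨M, rfl, hM⟩
    have huI : u ∈ Groth.Agent.L26.PicRep.invU C := Subgroup.prod_mem _ fun j _ => hw j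
    obtain ⟨M', hM', hM'i⟩ := ((Groth.Agent.L26.PicRep.invU C).mul_mem hv ((Groth.Agent.L26.PicRep.invU C).inv_mem huI)).1
    obtain ⟨i⟩ := hMD
    have e1 : PicF.cl M * ∏ i, PicF.cl (ClSub.idealMod
        (x ≫ WidePullback.π (fun (_ : Fin r) => (C ↘ Spec (CommRingCat.of k))) i).ker) =
        PicF.cl (Coh.structureModule C) := by
      rw [← Groth.Agent.L26.JacRat.cl_tensorList_ofFn]
      exact Groth.Agent.AbDualLib.cl_congr i
    have hM'' : PicF.cl M = PicF.cl M' * ∏ j, PicF.cl (ClSub.idealMod (tl j).ker) := by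
      rw [hM', ← hu, Units.val_mul, Units.inv_mul_cancel_right, hvu]
    have h1 := (Groth.Agent.L26.JacRat.h_of_good hc q hxU hM'i (by
      have e2 := congrArg (Groth.Agent.L26.JacRat.toOne k) e1
      rw [show PicF.cl (Coh.structureModule C) = (1 : PicF.Cl C) from rfl, map_one, hM''] at e2
      simp only [map_mul, map_prod] at e2
      have eT : ∀ j, Groth.Agent.L26.JacRat.toOne k (PicF.cl (ClSub.idealMod (tl j).ker)) =
          (Groth.Agent.Elliptic.uI (Groth.Agent.L26.JacRat.ptX k (tl j) (htl j)) :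
            PicF.Cl (PicF.XT f (Groth.Agent.L26.JacRat.onePt k))) := fun j =>
        (Groth.Agent.L26.JacRat.val_uI_ptX _ _).symm
      have eX : ∀ i, Groth.Agent.L26.JacRat.toOne k (PicF.cl (ClSub.idealMod
          (x ≫ WidePullback.π (fun (_ : Fin r) => (C ↘ Spec (CommRingCat.of k))) i).ker)) =
          (Groth.Agent.Elliptic.uI (q ≫ a i) : PicF.Cl (PicF.XT f (Groth.Agent.L26.JacRat.onePt k))) := fun i => by
        rw [hq i, Groth.Agent.L26.JacRat.val_uI_ptX]
      simp only [eT, eX, ← Units.coe_prod, _root_.mul_assoc, ← Units.val_mul] at e2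
      rw [← Units.inv_eq_of_mul_eq_one_left e2]
      simp only [c, map_mul, map_inv, map_prod, Groth.Agent.Elliptic.map_uI, htail, mul_comm])).2
    refine le_antisymm ((Groth.Agent.L26.JacRat.h0_le_of_cl_eq tl htl hM'i hM'').trans h1.le) ?_
    refine le_of_eq_of_le ?_ (Groth.Agent.L26.JacRat.h0_le_of_cl_eq _
      (fun i => by rw [Category.assoc, WidePullback.π_arrow]; exact hx) hM e1.symm)
    haveI := Groth.Agent.AV.geometricallyReduced_of_smooth f
    exact (Groth.L08.Cube.finrank_HH_zero_structure f (Groth.L08.Cube.bijective_toGlobal_of_geometric f)).symm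

end Groth.Agent.S17808
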