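import Groth.Statements.S17809
import Groth.Agent.L26.JacRat.Coarse
import Groth.Agent.L21.SmoothCurveDim

set_option autoImplicit false
universe u
open CategoryTheory CategoryTheory.Limits AlgebraicGeometry MonoidalCategory CartesianMonoidalCategory MonObj
open JacVar

namespace Groth.Agent.S17809

/-- Let C be a smooth proper geometrically connected curve of genus g > 0 over a field k with a
k-rational point P, let (J, ψ) be its Jacobian — a commutative group scheme over k which is a coarse
moduli scheme, on all k-schemes, for line bundles of degree 0 on C modulo twisting from the base,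
with group law induced by the tensor product — and let j : C ⟶ J be the Abel map with base point P
(the morphism ψ attaches to a family on C × C whose fibre at x is O(x − P)). Then (J, j) is the
Albanese variety of (C, P): for every abelian variety A over k (commutative group scheme, proper,
smooth and geometrically irreducible over k) and every morphism φ : C ⟶ A over k with φ(P) = 0,
there is a unique homomorphism of group schemes J ⟶ A whose composite with j is φ. -/
theorem result (k : Type u) [Field k]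
    (C : Scheme.{u}) [C.Over (Spec (CommRingCat.of k))]
    [IsProper (C ↘ Spec (CommRingCat.of k))] [Smooth (C ↘ Spec (CommRingCat.of k))] [GeometricallyConnected (C ↘ Spec (CommRingCat.of k))]
    (hdim : topologicalKrullDim ↥C = 1)
    (hg : 0 < Curv2.genus k C)
    (σ : Spec (CommRingCat.of k) ⟶ C) (hσ : σ ≫ (C ↘ Spec (CommRingCat.of k)) = 𝟙 _)
    (J : Over (Spec (CommRingCat.of k))) [GrpObj J] [IsCommMonObj J]
    (ψ : (ModFun.PicDeg (C ↘ Spec (CommRingCat.of k)) 0).Hom ⊤ J) (hJ : Jac.IsJacobian (C ↘ Spec (CommRingCat.of k)) ⊤ J ψ)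
    (j : Over.mk (C ↘ Spec (CommRingCat.of k)) ⟶ J) (hj : Jac.IsAbelJacobiAt (C ↘ Spec (CommRingCat.of k)) σ ψ j)
    (A : Over (Spec (CommRingCat.of k))) [GrpObj A] [IsCommMonObj A]
    [IsProper A.hom] [Smooth A.hom] [GeometricallyIrreducible A.hom]
    (φ : Over.mk (C ↘ Spec (CommRingCat.of k)) ⟶ A) (hφ : σ ≫ φ.left = η[A].left) :
    ∃! χ : J ⟶ A, IsMonHom χ ∧ j ≫ χ = φ := by
  letI (Y : Scheme.{u}) : CommMonoid (PicF.Cl Y) := Groth.L08.Cube.clMonoid (Y := Y)
  haveI : Subsingleton ↥(Spec (CommRingCat.of k)) := inferInstanceAs (Subsingleton (PrimeSpectrum k))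
  haveI : ConnectedSpace ↥(Spec (CommRingCat.of k)) := inferInstanceAs (ConnectedSpace (PrimeSpectrum k))
  haveI : ConnectedSpace ↥C := GeometricallyConnected.connectedSpace_of_subsingleton (C ↘ Spec (CommRingCat.of k))
  haveI : IsIntegral C := Groth.L12.HypSq.isIntegral (k := k) (C := C)
  haveI := Groth.L21.SmoothCurve.smoothOfRelativeDimension_one (C ↘ Spec (CommRingCat.of k)) hdim
  haveI : GeometricallyReduced A.hom := Groth.L16.SecComp.geometricallyReduced_of_smooth A.hom
  haveI : GeometricallyIntegral A.hom :=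
    GeometricallyIntegral.of_geometricallyReduced_of_geometricallyIrreducible _
  obtain ⟨J₀, ξ, hJ₀, hp, hs, hi⟩ := Groth.Agent.L26.JacRat.exists_jacobian k σ hσ
  letI : GrpObj J₀ := Groth.Agent.L26.JacRat.grpObjRep hJ₀
  obtain ⟨m, n, hmn, hnm, hm, hn, -, hjm⟩ := Groth.Agent.L26.JacRat.exists_iso_coarse hJ₀ hJ
  haveI := hm
  haveI := hn
  obtain rfl := hjm j hj
  have hh : Groth.Agent.Elliptic.origin (𝟙_ (Over (Spec (CommRingCat.of k)))) σ hσ ≫ φ = η[A] :=
    Over.OverMorphism.ext (by
      show (𝟙 _ ≫ σ) ≫ φ.left = _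
      rw [Category.id_comp, hφ])
  obtain ⟨α, ⟨hα, hjα⟩, hu⟩ := Groth.Agent.L26.JacRat.existsUnique_albanese (B := A) hJ₀
    (Groth.Agent.L26.JacRat.genusEq k) φ (fun L _ _ τ => Groth.Agent.L26.JacRat.genus_geometric k L τ) hg hh
  haveI := hα
  refine ⟨n ≫ α, ⟨inferInstance, by rw [Category.assoc, reassoc_of% hmn, hjα]⟩, fun χ hχ => ?_⟩
  haveI := hχ.1
  rw [← hu (m ≫ χ) ⟨inferInstance, by rw [← Category.assoc]; exact hχ.2⟩, ← Category.assoc, hnm, Category.id_comp]

end Groth.Agent.S17809
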