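import Groth.Statements.S17810
import Groth.Agent.L26.JacRat.Coarse
import Groth.Agent.L26.Weil.Split
import Groth.Agent.L21.SmoothCurveDim

set_option autoImplicit false
universe u
open CategoryTheory CategoryTheory.Limits AlgebraicGeometry MonoidalCategory CartesianMonoidalCategory MonObj
open JacVar

namespace Groth.Agent.S17810

/-- The case of a curve with a rational point. Let C be a smooth proper geometrically connected curve of
genus g > 0 over a field k with a k-rational point P, (J, ψ) its Jacobian (a commutative group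
scheme over k, coarse moduli scheme on all k-schemes for degree-0 line bundles on C modulo twisting
from the base, group law induced by tensor product), j : C ⟶ J the Abel map with base point P, and F
: C ×_k C ⟶ J the morphism (x, y) ↦ j(x) · j(y)⁻¹, which sends (x, y) to the class of O(x − y) and
does not depend on P. Then for every abelian variety A over k (commutative group scheme, proper,
smooth and geometrically irreducible over k) and every morphism φ : C ×_k C ⟶ A over k which maps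
the diagonal to the zero of A, there is a unique homomorphism of group schemes J ⟶ A whose composite
with F is φ. (Stated when C has a rational point, through which F is written; the published
statement covers every C by descent.) -/
theorem result (k : Type u) [Field k]
    (C : Scheme.{u}) [C.Over (Spec (CommRingCat.of k))]
    [IsProper (C ↘ Spec (CommRingCat.of k))] [Smooth (C ↘ Spec (CommRingCat.of k))] [GeometricallyConnected (C ↘ Spec (CommRingCat.of k))]
    (hdim : topologicalKrullDim ↥C = 1)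
    (hg : 0 < Curv2.genus k C)
    (σ : Spec (CommRingCat.of k) ⟶ C) (hσ : σ ≫ (C ↘ Spec (CommRingCat.of k)) = 𝟙 _)
    (J : Over (Spec (CommRingCat.of k))) [GrpObj J] [IsCommMonObj J]
    (ψ : (ModFun.PicDeg (C ↘ Spec (CommRingCat.of k)) 0).Hom ⊤ J) (hJ : Jac.IsJacobian (C ↘ Spec (CommRingCat.of k)) ⊤ J ψ)
    (j : Over.mk (C ↘ Spec (CommRingCat.of k)) ⟶ J) (hj : Jac.IsAbelJacobiAt (C ↘ Spec (CommRingCat.of k)) σ ψ j)
    (A : Over (Spec (CommRingCat.of k))) [GrpObj A] [IsCommMonObj A]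
    [IsProper A.hom] [Smooth A.hom] [GeometricallyIrreducible A.hom]
    (φ : Over.mk (C ↘ Spec (CommRingCat.of k)) ⊗ Over.mk (C ↘ Spec (CommRingCat.of k)) ⟶ A)
    (hφ : lift (𝟙 (Over.mk (C ↘ Spec (CommRingCat.of k)))) (𝟙 (Over.mk (C ↘ Spec (CommRingCat.of k)))) ≫ φ = toUnit _ ≫ η[A]) :
    ∃! χ : J ⟶ A, IsMonHom χ ∧
      ((fst (Over.mk (C ↘ Spec (CommRingCat.of k))) (Over.mk (C ↘ Spec (CommRingCat.of k))) ≫ j) * (snd (Over.mk (C ↘ Spec (CommRingCat.of k))) (Over.mk (C ↘ Spec (CommRingCat.of k))) ≫ j)⁻¹) ≫ χ = φ := by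
  letI (Y : Scheme.{u}) : CommMonoid (PicF.Cl Y) := Groth.L08.Cube.clMonoid (Y := Y)
  haveI : Subsingleton ↥(Spec (CommRingCat.of k)) := inferInstanceAs (Subsingleton (PrimeSpectrum k))
  haveI : ConnectedSpace ↥(Spec (CommRingCat.of k)) := inferInstanceAs (ConnectedSpace (PrimeSpectrum k))
  haveI : ConnectedSpace ↥C := GeometricallyConnected.connectedSpace_of_subsingleton (C ↘ Spec (CommRingCat.of k))
  haveI : IsIntegral C := Groth.L12.HypSq.isIntegral (k := k) (C := C)
  haveI := Groth.L21.SmoothCurve.smoothOfRelativeDimension_one (C ↘ Spec (CommRingCat.of k)) hdim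
  haveI : GeometricallyReduced A.hom := Groth.L16.SecComp.geometricallyReduced_of_smooth A.hom
  haveI : GeometricallyIntegral A.hom :=
    GeometricallyIntegral.of_geometricallyReduced_of_geometricallyIrreducible _
  obtain ⟨J₀, ξ, hJ₀, hp, hs, hi⟩ := Groth.Agent.L26.JacRat.exists_jacobian k σ hσ
  letI : GrpObj J₀ := Groth.Agent.L26.JacRat.grpObjRep hJ₀
  obtain ⟨m, n, hmn, hnm, hm, hn, -, hjm⟩ := Groth.Agent.L26.JacRat.exists_iso_coarse hJ₀ hJ
  haveI := hm
  haveI := hn
  obtain rfl := hjm j hj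
  let V := Over.mk (C ↘ Spec (CommRingCat.of k))
  let o : V ⟶ V := Groth.Agent.Elliptic.origin V σ hσ
  let p₀ := Groth.Agent.Elliptic.origin (𝟙_ (Over (Spec (CommRingCat.of k)))) σ hσ
  have hto : toUnit V ≫ p₀ = o := Groth.Agent.Elliptic.comp_origin σ hσ _
  haveI : GeometricallyReduced V.hom :=
    Groth.L16.SecComp.geometricallyReduced_of_smooth (C ↘ Spec (CommRingCat.of k))
  haveI : Smooth V.hom := (inferInstance : Smooth (C ↘ Spec (CommRingCat.of k)))
  haveI : IsProper V.hom := (inferInstance : IsProper (C ↘ Spec (CommRingCat.of k)))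
  haveI : GeometricallyIntegral V.hom := (Groth.Agent.L26.PicSm.geometricallyIntegral (f := C ↘ Spec (CommRingCat.of k)) : _)
  let f₂ : V ⟶ A := lift o (𝟙 V) ≫ φ
  obtain ⟨f₁, hf₁⟩ := Groth.L26.Weil.exists_fac p₀ (φ * (snd V V ≫ f₂)⁻¹) (by
    rw [hto, MonObj.comp_mul, GrpObj.comp_inv, lift_snd_assoc, Category.id_comp, mul_inv_cancel])
  have hd : φ = (fst V V ≫ f₁) * (snd V V ≫ f₂) := by rw [← hf₁, inv_mul_cancel_right]
  have hf : f₂ = f₁⁻¹ := by
    have e := congrArg (lift (𝟙 V) (𝟙 V) ≫ ·) hd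
    simp only [MonObj.comp_mul, lift_fst_assoc, lift_snd_assoc, Category.id_comp] at e
    exact eq_inv_of_mul_eq_one_right (e.symm.trans hφ)
  rw [hd] at *
  let h : V ⟶ A := f₁ * (o ≫ f₁)⁻¹
  have hh : p₀ ≫ h = η[A] := by
    have hpo : p₀ ≫ o = p₀ := Groth.Agent.Elliptic.comp_origin σ hσ _
    rw [MonObj.comp_mul, GrpObj.comp_inv, ← Category.assoc, hpo, mul_inv_cancel, Hom.one_def]
    simp
  obtain ⟨α, ⟨hα, hjα⟩, hu⟩ := Groth.Agent.L26.JacRat.existsUnique_albanese (B := A) hJ₀
    (Groth.Agent.L26.JacRat.genusEq k) h (fun L _ _ τ => Groth.Agent.L26.JacRat.genus_geometric k L τ) hg hh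
  haveI := hα
  refine ⟨n ≫ α, ⟨inferInstance, ?_⟩, fun χ hχ => ?_⟩
  · have e1 : ∀ (q : V ⊗ V ⟶ V), (q ≫ Groth.Agent.L26.JacRat.jmap σ hσ hJ₀ ≫ m) ≫ n ≫ α = q ≫ h := fun q => by
      rw [Category.assoc, Category.assoc, reassoc_of% hmn, hjα]
    rw [MonObj.mul_comp, GrpObj.inv_comp]
    rw [e1 (fst V V), e1 (snd V V), hf]
    have hfs : fst V V ≫ o = snd V V ≫ o :=
      (Groth.Agent.Elliptic.comp_origin σ hσ _).trans (Groth.Agent.Elliptic.comp_origin σ hσ _).symm
    simp only [h, MonObj.comp_mul, GrpObj.comp_inv, reassoc_of% hfs, mul_inv_rev, inv_inv]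
    simp [_root_.mul_comm, mul_left_comm]
  · haveI := hχ.1
    let j' : V ⟶ J := Groth.Agent.L26.JacRat.jmap σ hσ hJ₀ ≫ m
    have hoj : o ≫ j' = 1 := by
      show o ≫ Groth.Agent.L26.JacRat.jmap σ hσ hJ₀ ≫ m = 1
      rw [← Category.assoc, show o ≫ Groth.Agent.L26.JacRat.jmap σ hσ hJ₀ = 1 from
        Groth.Agent.L26.JacRat.origin_comp_jmap σ hσ hJ₀ V, MonObj.one_comp]
    have e2 : lift (𝟙 V) o ≫ ((fst V V ≫ j') * (snd V V ≫ j')⁻¹) = j' := by
      rw [MonObj.comp_mul, GrpObj.comp_inv, lift_fst_assoc, lift_snd_assoc, Category.id_comp, hoj, inv_one,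
        _root_.mul_one]
    have e3 : lift (𝟙 V) o ≫ ((fst V V ≫ f₁) * (snd V V ≫ f₂)) = h := by
      rw [MonObj.comp_mul, lift_fst_assoc, lift_snd_assoc, Category.id_comp, hf, GrpObj.comp_inv]
    have e4 : j' ≫ χ = h := by
      rw [← e3, ← e2, Category.assoc]
      exact congrArg (lift (𝟙 V) o ≫ ·) hχ.2
    rw [← hu (m ≫ χ) ⟨inferInstance, ((Category.assoc _ _ _).symm.trans e4)⟩, ← Category.assoc, hnm,
      Category.id_comp]

end Groth.Agent.S17810
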