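import Groth.Statements.S17812
import Groth.Agent.L26.Theta.Relations

set_option autoImplicit false
universe u
open CategoryTheory CategoryTheory.Limits AlgebraicGeometry MonoidalCategory CartesianMonoidalCategory MonObj
open JacVar

namespace Groth.Agent.S17812

open Groth.Agent.L26.Theta Groth.Agent.L26.JacRat

/-- Let k be an algebraically closed field, C a smooth proper connected curve of genus g ≥ 2 over k with
a k-point P, (J, ψ) its Jacobian (a commutative group scheme over k, coarse moduli scheme on all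
k-schemes for degree-0 line bundles modulo twisting from the base, group law induced by tensor
product) and j : C ⟶ J the Abel map with base point P. Write W^r ⊂ J for the image of the r-fold
product C ×_k ⋯ ×_k C under (x_1, …, x_r) ↦ j(x_1) ⋯ j(x_r) (the image of the r-th symmetric power;
W^0 is the origin), and W^r_a for its translate by a k-point a of J. Then for 0 ≤ r ≤ g − 1 and
k-points a, b of J one has W^r_a ⊆ W^{g−1}_b if and only if a lies in W^{g−1−r}_b (inclusions of
sets of points of J). -/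
theorem result (k : Type u) [Field k] [IsAlgClosed k]
    (C : Scheme.{u}) [C.Over (Spec (CommRingCat.of k))]
    [IsProper (C ↘ Spec (CommRingCat.of k))] [Smooth (C ↘ Spec (CommRingCat.of k))] [GeometricallyConnected (C ↘ Spec (CommRingCat.of k))]
    (hdim : topologicalKrullDim ↥C = 1)
    (g : ℕ) (hg : Curv2.genus k C = g) (hg2 : 2 ≤ g)
    (σ : Spec (CommRingCat.of k) ⟶ C) (hσ : σ ≫ (C ↘ Spec (CommRingCat.of k)) = 𝟙 _)
    (J : Over (Spec (CommRingCat.of k))) [GrpObj J] [IsCommMonObj J]
    (ψ : (ModFun.PicDeg (C ↘ Spec (CommRingCat.of k)) 0).Hom ⊤ J) (hJ : Jac.IsJacobian (C ↘ Spec (CommRingCat.of k)) ⊤ J ψ)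
    (j : Over.mk (C ↘ Spec (CommRingCat.of k)) ⟶ J) (hj : Jac.IsAbelJacobiAt (C ↘ Spec (CommRingCat.of k)) σ ψ j)
    (r : ℕ) (hr : r ≤ g - 1) (a b : 𝟙_ (Over (Spec (CommRingCat.of k))) ⟶ J) :
    ((Jac.transl J a).left.base '' Set.range ((List.ofFn fun i : Fin r =>
        (Over.homMk (WidePullback.π (fun (_ : Fin r) => (C ↘ Spec (CommRingCat.of k))) i)
          (WidePullback.π_arrow (fun (_ : Fin r) => (C ↘ Spec (CommRingCat.of k))) i) : Over.mk (WidePullback.base fun (_ : Fin r) => (C ↘ Spec (CommRingCat.of k))) ⟶ Over.mk (C ↘ Spec (CommRingCat.of k))) ≫ j).prod).left.base) ⊆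
      ((Jac.transl J b).left.base '' Set.range ((List.ofFn fun i : Fin (g - 1) =>
        (Over.homMk (WidePullback.π (fun (_ : Fin (g - 1)) => (C ↘ Spec (CommRingCat.of k))) i)
          (WidePullback.π_arrow (fun (_ : Fin (g - 1)) => (C ↘ Spec (CommRingCat.of k))) i) : Over.mk (WidePullback.base fun (_ : Fin (g - 1)) => (C ↘ Spec (CommRingCat.of k))) ⟶ Over.mk (C ↘ Spec (CommRingCat.of k))) ≫ j).prod).left.base) ↔
    ∀ p, a.left.base p ∈ ((Jac.transl J b).left.base '' Set.range ((List.ofFn fun i : Fin (g - 1 - r) =>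
        (Over.homMk (WidePullback.π (fun (_ : Fin (g - 1 - r)) => (C ↘ Spec (CommRingCat.of k))) i)
          (WidePullback.π_arrow (fun (_ : Fin (g - 1 - r)) => (C ↘ Spec (CommRingCat.of k))) i) : Over.mk (WidePullback.base fun (_ : Fin (g - 1 - r)) => (C ↘ Spec (CommRingCat.of k))) ⟶ Over.mk (C ↘ Spec (CommRingCat.of k))) ≫ j).prod).left.base) := by
  letI (Y : Scheme.{u}) : CommMonoid (PicF.Cl Y) := Groth.L08.Cube.clMonoid (Y := Y)
  haveI : Subsingleton ↥(Spec (CommRingCat.of k)) := inferInstanceAs (Subsingleton (PrimeSpectrum k))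
  haveI : ConnectedSpace ↥(Spec (CommRingCat.of k)) := inferInstanceAs (ConnectedSpace (PrimeSpectrum k))
  haveI : ConnectedSpace ↥C := GeometricallyConnected.connectedSpace_of_subsingleton (C ↘ Spec (CommRingCat.of k))
  haveI : IsIntegral C := Groth.L12.HypSq.isIntegral (k := k) (C := C)
  haveI := Groth.L21.SmoothCurve.smoothOfRelativeDimension_one (C ↘ Spec (CommRingCat.of k)) hdim
  obtain ⟨hp, M, -⟩ := exists_model (hσ := hσ) hdim hJ hj
  haveI := hp
  obtain ⟨a, rfl⟩ : ∃ a' : onePt k ⟶ J, a' = a := ⟨a, rfl⟩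
  obtain ⟨b, rfl⟩ : ∃ b' : onePt k ⟶ J, b' = b := ⟨b, rfl⟩
  refine Iff.trans ?_ (forall_mem_iff (T := J) a _).symm
  refine Iff.trans ?_ (M.pt_mem_transl_range (g - 1 - r) (b : onePt k ⟶ J) (a : onePt k ⟶ J)).symm
  rw [← M.forall_sum_iff (n := g - 1 - r) (r := r) (by omega), show g - 1 - r + r = g - 1 by omega]
  have hA := isClosed_image_transl a (isClosed_range_sumW (k := k) (X := C) j r)
  have hB := isClosed_image_transl b (isClosed_range_sumW (k := k) (X := C) j (g - 1))
  constructor
  · intro h s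
    have hu : pt ((∏ i, ptOf k (s i) ≫ j) * (a : onePt k ⟶ J)) ∈
        (Jac.transl J a).left.base '' Set.range (sumW j r).left.base := by
      rw [pt_mem_image_transl, mul_inv_cancel_right, pt_mem_range_sumW]
      exact ⟨s, rfl⟩
    have h2 := (M.pt_mem_transl_range (g - 1) (b : onePt k ⟶ J) _).1 (h hu)
    rwa [_root_.mul_assoc, mul_comm] at h2
  · intro h
    refine subset_of_pts hA hB fun u hu => ?_
    obtain ⟨s, hs⟩ := (pt_mem_range_sumW j r _).1 ((pt_mem_image_transl (a : onePt k ⟶ J) _ u).1 hu)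
    rw [M.pt_mem_transl_range]
    rw [show u = (a : onePt k ⟶ J) * ∏ i, ptOf k (s i) ≫ j by rw [hs]; exact (mul_left_comm _ _ _ |>.trans (by rw [mul_inv_cancel, _root_.mul_one])).symm,
      mul_right_comm]
    exact h s

end Groth.Agent.S17812
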