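import Groth.Statements.S17813
import Groth.Agent.L26.Theta.Relations

set_option autoImplicit false
universe u
open CategoryTheory CategoryTheory.Limits AlgebraicGeometry MonoidalCategory CartesianMonoidalCategory MonObj
open JacVar

namespace Groth.Agent.S17813

open Groth.Agent.L26.Theta Groth.Agent.L26.JacRat

/-- Let k be an algebraically closed field, C a smooth proper connected curve of genus g ≥ 2 over k with
a k-point P, (J, ψ) its Jacobian (a commutative group scheme over k, coarse moduli scheme on all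
k-schemes for degree-0 line bundles modulo twisting from the base, group law induced by tensor
product) and j : C ⟶ J the Abel map with base point P. Write W^r ⊂ J for the image of the r-fold
product C ×_k ⋯ ×_k C under (x_1, …, x_r) ↦ j(x_1) ⋯ j(x_r) (the image of the r-th symmetric power;
W^0 is the origin), and W^r_a for its translate by a k-point a of J. Then for 0 ≤ r ≤ g − 1 the set
W^{g−1−r} is the intersection of the translates W^{g−1}_{a⁻¹} over all k-points a of J lying in W^r.
(The companion equality for the images under x ↦ κ·x⁻¹, κ the image of a canonical divisor, is not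
stated.) -/
theorem result (k : Type u) [Field k] [IsAlgClosed k]
    (C : Scheme.{u}) [C.Over (Spec (CommRingCat.of k))]
    [IsProper (C ↘ Spec (CommRingCat.of k))] [Smooth (C ↘ Spec (CommRingCat.of k))] [GeometricallyConnected (C ↘ Spec (CommRingCat.of k))]
    (hdim : topologicalKrullDim ↥C = 1)
    (g : ℕ) (hg : Curv2.genus k C = g) (hg2 : 2 ≤ g)
    (σ : Spec (CommRingCat.of k) ⟶ C) (hσ : σ ≫ (C ↘ Spec (CommRingCat.of k)) = 𝟙 _)
    (J : Over (Spec (CommRingCat.of k))) [GrpObj J] [IsCommMonObj J]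
    (ψ : (ModFun.PicDeg (C ↘ Spec (CommRingCat.of k)) 0).Hom ⊤ J) (hJ : Jac.IsJacobian (C ↘ Spec (CommRingCat.of k)) ⊤ J ψ)
    (j : Over.mk (C ↘ Spec (CommRingCat.of k)) ⟶ J) (hj : Jac.IsAbelJacobiAt (C ↘ Spec (CommRingCat.of k)) σ ψ j)
    (r : ℕ) (hr : r ≤ g - 1) :
    Set.range ((List.ofFn fun i : Fin (g - 1 - r) =>
        (Over.homMk (WidePullback.π (fun (_ : Fin (g - 1 - r)) => (C ↘ Spec (CommRingCat.of k))) i)
          (WidePullback.π_arrow (fun (_ : Fin (g - 1 - r)) => (C ↘ Spec (CommRingCat.of k))) i) : Over.mk (WidePullback.base fun (_ : Fin (g - 1 - r)) => (C ↘ Spec (CommRingCat.of k))) ⟶ Over.mk (C ↘ Spec (CommRingCat.of k))) ≫ j).prod).left.base =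
      ⋂ (a : 𝟙_ (Over (Spec (CommRingCat.of k))) ⟶ J) (_ : ∀ p, a.left.base p ∈ Set.range ((List.ofFn fun i : Fin r =>
        (Over.homMk (WidePullback.π (fun (_ : Fin r) => (C ↘ Spec (CommRingCat.of k))) i)
          (WidePullback.π_arrow (fun (_ : Fin r) => (C ↘ Spec (CommRingCat.of k))) i) : Over.mk (WidePullback.base fun (_ : Fin r) => (C ↘ Spec (CommRingCat.of k))) ⟶ Over.mk (C ↘ Spec (CommRingCat.of k))) ≫ j).prod).left.base),
        ((Jac.transl J a⁻¹).left.base '' Set.range ((List.ofFn fun i : Fin (g - 1) =>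
        (Over.homMk (WidePullback.π (fun (_ : Fin (g - 1)) => (C ↘ Spec (CommRingCat.of k))) i)
          (WidePullback.π_arrow (fun (_ : Fin (g - 1)) => (C ↘ Spec (CommRingCat.of k))) i) : Over.mk (WidePullback.base fun (_ : Fin (g - 1)) => (C ↘ Spec (CommRingCat.of k))) ⟶ Over.mk (C ↘ Spec (CommRingCat.of k))) ≫ j).prod).left.base) := by
  letI (Y : Scheme.{u}) : CommMonoid (PicF.Cl Y) := Groth.L08.Cube.clMonoid (Y := Y)
  haveI : Subsingleton ↥(Spec (CommRingCat.of k)) := inferInstanceAs (Subsingleton (PrimeSpectrum k))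
  haveI : ConnectedSpace ↥(Spec (CommRingCat.of k)) := inferInstanceAs (ConnectedSpace (PrimeSpectrum k))
  haveI : ConnectedSpace ↥C := GeometricallyConnected.connectedSpace_of_subsingleton (C ↘ Spec (CommRingCat.of k))
  haveI : IsIntegral C := Groth.L12.HypSq.isIntegral (k := k) (C := C)
  haveI := Groth.L21.SmoothCurve.smoothOfRelativeDimension_one (C ↘ Spec (CommRingCat.of k)) hdim
  obtain ⟨hp, M, -⟩ := exists_model (hσ := hσ) hdim hJ hj
  haveI := hp
  refine eq_of_pts (J := J) (isClosed_range_sumW (k := k) (X := C) j (g - 1 - r)) (isClosed_iInter fun a =>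
    isClosed_iInter fun _ => isClosed_image_transl a⁻¹ (isClosed_range_sumW (k := k) (X := C) j (g - 1))) fun u => ?_
  refine (M.pt_mem_range (g - 1 - r) u).trans ?_
  rw [← M.forall_sum_iff (n := g - 1 - r) (r := r) (by omega), show g - 1 - r + r = g - 1 by omega]
  simp only [Set.mem_iInter]
  constructor
  · intro h a ha
    obtain ⟨s, hs⟩ := (pt_mem_range_sumW j r (a : onePt k ⟶ J)).1 ((forall_mem_iff (T := J) (a : onePt k ⟶ J) _).1 ha)
    refine (M.pt_mem_transl_range (g - 1) ((a : onePt k ⟶ J)⁻¹) u).2 ?_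
    rw [inv_inv, ← hs]
    exact h s
  · intro h s
    have h2 := h (∏ i, ptOf k (s i) ≫ j : onePt k ⟶ J) ((forall_mem_iff (T := J) _ _).2 ((pt_mem_range_sumW j r _).2 ⟨s, rfl⟩))
    have h3 := (M.pt_mem_transl_range (g - 1) (((∏ i, ptOf k (s i) ≫ j : onePt k ⟶ J))⁻¹) u).1 h2
    rwa [inv_inv] at h3

end Groth.Agent.S17813
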