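import Groth.Statements.S17816
import Groth.Agent.L26.JacRat.Coarse
import Groth.Agent.L21.SmoothCurveDim

set_option autoImplicit false
universe u
open CategoryTheory CategoryTheory.Limits AlgebraicGeometry MonoidalCategory CartesianMonoidalCategory MonObj
open JacVar

namespace Groth.Agent.S17816

/-- Let k be a field and C₁, C₂ smooth proper geometrically connected curves of positive genus over k
with k-points P₁ and P₂; let (J₁, ψ₁) and (J₂, ψ₂) be their Jacobians (commutative group schemes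
over k, coarse moduli schemes on all k-schemes for degree-0 line bundles modulo twisting from the
base, group law induced by tensor product), j₁ : C₁ ⟶ J₁ the Abel map with base point P₁, and M a
universal degree-0 family on C₂ × J₂ which is trivial along P₂ × J₂ and whose classifying morphism
under ψ₂ is the identity of J₂ (the sheaf M^{P₂}). For a homomorphism χ : J₁ ⟶ J₂ let Φ(χ) be the
class of the pullback of M along 1 × (χ ∘ j₁) : C₂ × C₁ ⟶ C₂ × J₂. Then χ ↦ Φ(χ) is a bijection from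
the homomorphisms of group schemes J₁ ⟶ J₂ onto the isomorphism classes of divisorial
correspondences between (C₂, P₂) and (C₁, P₁), i.e. classes of invertible modules on C₂ ×_k C₁
trivial on P₂ × C₁ and on C₂ × P₁: each Φ(χ) is such a class, Φ is injective on homomorphisms, and
every such class is Φ(χ) for a homomorphism χ. -/
theorem result (k : Type u) [Field k]
    (C₁ : Scheme.{u}) [C₁.Over (Spec (CommRingCat.of k))]
    [IsProper (C₁ ↘ Spec (CommRingCat.of k))] [Smooth (C₁ ↘ Spec (CommRingCat.of k))] [GeometricallyConnected (C₁ ↘ Spec (CommRingCat.of k))]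
    (hdim₁ : topologicalKrullDim ↥C₁ = 1)
    (C₂ : Scheme.{u}) [C₂.Over (Spec (CommRingCat.of k))]
    [IsProper (C₂ ↘ Spec (CommRingCat.of k))] [Smooth (C₂ ↘ Spec (CommRingCat.of k))] [GeometricallyConnected (C₂ ↘ Spec (CommRingCat.of k))]
    (hdim₂ : topologicalKrullDim ↥C₂ = 1)
    (hg₁ : 0 < Curv2.genus k C₁) (hg₂ : 0 < Curv2.genus k C₂)
    (σ₁ : Spec (CommRingCat.of k) ⟶ C₁) (hσ₁ : σ₁ ≫ (C₁ ↘ Spec (CommRingCat.of k)) = 𝟙 _) (σ₂ : Spec (CommRingCat.of k) ⟶ C₂) (hσ₂ : σ₂ ≫ (C₂ ↘ Spec (CommRingCat.of k)) = 𝟙 _)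
    (J₁ : Over (Spec (CommRingCat.of k))) [GrpObj J₁] [IsCommMonObj J₁]
    (ψ₁ : (ModFun.PicDeg (C₁ ↘ Spec (CommRingCat.of k)) 0).Hom ⊤ J₁) (hJ₁ : Jac.IsJacobian (C₁ ↘ Spec (CommRingCat.of k)) ⊤ J₁ ψ₁)
    (J₂ : Over (Spec (CommRingCat.of k))) [GrpObj J₂] [IsCommMonObj J₂]
    (ψ₂ : (ModFun.PicDeg (C₂ ↘ Spec (CommRingCat.of k)) 0).Hom ⊤ J₂) (hJ₂ : Jac.IsJacobian (C₂ ↘ Spec (CommRingCat.of k)) ⊤ J₂ ψ₂)
    (j₁ : Over.mk (C₁ ↘ Spec (CommRingCat.of k)) ⟶ J₁) (hj₁ : Jac.IsAbelJacobiAt (C₁ ↘ Spec (CommRingCat.of k)) σ₁ ψ₁ j₁)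
    (Pu : (PicF.XT (C₂ ↘ Spec (CommRingCat.of k)) J₂).Modules) (hPu : ModFun.IsUnivFamily ⊤ (ModFun.PicDeg (C₂ ↘ Spec (CommRingCat.of k)) 0) J₂ Pu)
    (hPn : Jac.IsNormAlong (C₂ ↘ Spec (CommRingCat.of k)) σ₂ hσ₂ J₂ Pu)
    (hT₂ : (⊤ : ObjectProperty (Over (Spec (CommRingCat.of k)))) J₂) (hPuψ : ψ₂.app J₂ Pu hT₂ hPu.1 = 𝟙 J₂) :
    (∀ χ : J₁ ⟶ J₂, IsMonHom χ →
      (PicF.IsInvertibleCl (PicF.pullCl (PicF.XTmap (C₂ ↘ Spec (CommRingCat.of k)) (j₁ ≫ χ)) (PicF.cl Pu)) ∧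
        PicF.IsTrivialCl (PicF.pullCl (PicF.secT (C₂ ↘ Spec (CommRingCat.of k)) σ₂ hσ₂ (Over.mk (C₁ ↘ Spec (CommRingCat.of k)))) (PicF.pullCl (PicF.XTmap (C₂ ↘ Spec (CommRingCat.of k)) (j₁ ≫ χ)) (PicF.cl Pu))) ∧
        PicF.IsTrivialCl (PicF.pullCl (PicF.XTmap (C₂ ↘ Spec (CommRingCat.of k)) (Over.homMk σ₁ hσ₁ : 𝟙_ (Over (Spec (CommRingCat.of k))) ⟶ Over.mk (C₁ ↘ Spec (CommRingCat.of k)))) (PicF.pullCl (PicF.XTmap (C₂ ↘ Spec (CommRingCat.of k)) (j₁ ≫ χ)) (PicF.cl Pu))))) ∧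
    (∀ χ₁ χ₂ : J₁ ⟶ J₂, IsMonHom χ₁ → IsMonHom χ₂ →
      PicF.pullCl (PicF.XTmap (C₂ ↘ Spec (CommRingCat.of k)) (j₁ ≫ χ₁)) (PicF.cl Pu) = PicF.pullCl (PicF.XTmap (C₂ ↘ Spec (CommRingCat.of k)) (j₁ ≫ χ₂)) (PicF.cl Pu) → χ₁ = χ₂) ∧
    (∀ c : PicF.Cl (PicF.XT (C₂ ↘ Spec (CommRingCat.of k)) (Over.mk (C₁ ↘ Spec (CommRingCat.of k)))),
      (PicF.IsInvertibleCl (c) ∧
        PicF.IsTrivialCl (PicF.pullCl (PicF.secT (C₂ ↘ Spec (CommRingCat.of k)) σ₂ hσ₂ (Over.mk (C₁ ↘ Spec (CommRingCat.of k)))) (c)) ∧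
        PicF.IsTrivialCl (PicF.pullCl (PicF.XTmap (C₂ ↘ Spec (CommRingCat.of k)) (Over.homMk σ₁ hσ₁ : 𝟙_ (Over (Spec (CommRingCat.of k))) ⟶ Over.mk (C₁ ↘ Spec (CommRingCat.of k)))) (c))) →
      ∃ χ : J₁ ⟶ J₂, IsMonHom χ ∧ PicF.pullCl (PicF.XTmap (C₂ ↘ Spec (CommRingCat.of k)) (j₁ ≫ χ)) (PicF.cl Pu) = c) := by
  letI (Y : Scheme.{u}) : CommMonoid (PicF.Cl Y) := Groth.L08.Cube.clMonoid (Y := Y)
  haveI : Subsingleton ↥(Spec (CommRingCat.of k)) := inferInstanceAs (Subsingleton (PrimeSpectrum k))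
  haveI : ConnectedSpace ↥(Spec (CommRingCat.of k)) := inferInstanceAs (ConnectedSpace (PrimeSpectrum k))
  haveI : ConnectedSpace ↥C₁ := GeometricallyConnected.connectedSpace_of_subsingleton (C₁ ↘ Spec (CommRingCat.of k))
  haveI : ConnectedSpace ↥C₂ := GeometricallyConnected.connectedSpace_of_subsingleton (C₂ ↘ Spec (CommRingCat.of k))
  haveI : IsIntegral C₁ := Groth.L12.HypSq.isIntegral (k := k) (C := C₁)
  haveI : IsIntegral C₂ := Groth.L12.HypSq.isIntegral (k := k) (C := C₂)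
  haveI := Groth.L21.SmoothCurve.smoothOfRelativeDimension_one (C₁ ↘ Spec (CommRingCat.of k)) hdim₁
  haveI := Groth.L21.SmoothCurve.smoothOfRelativeDimension_one (C₂ ↘ Spec (CommRingCat.of k)) hdim₂
  obtain ⟨A₁, ξ₁, hA₁, hp₁, hs₁, hi₁⟩ := Groth.Agent.L26.JacRat.exists_jacobian k σ₁ hσ₁
  obtain ⟨A₂, ξ₂, hA₂, hp₂, hs₂, hi₂⟩ := Groth.Agent.L26.JacRat.exists_jacobian k σ₂ hσ₂
  letI : GrpObj A₁ := Groth.Agent.L26.JacRat.grpObjRep hA₁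
  letI : GrpObj A₂ := Groth.Agent.L26.JacRat.grpObjRep hA₂
  haveI := isCommMonObj_of_isProper_of_geometricallyIntegral A₁
  haveI := isCommMonObj_of_isProper_of_geometricallyIntegral A₂
  obtain ⟨m₁, n₁, hmn₁, hnm₁, hm₁, hn₁, -, hjm₁⟩ := Groth.Agent.L26.JacRat.exists_iso_coarse hA₁ hJ₁
  obtain ⟨m₂, n₂, hmn₂, hnm₂, hm₂, hn₂, hkey₂, -⟩ := Groth.Agent.L26.JacRat.exists_iso_coarse hA₂ hJ₂
  haveI := hm₁
  haveI := hn₁
  haveI := hm₂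
  haveI := hn₂
  obtain rfl := hjm₁ j₁ hj₁
  let f₂ := C₂ ↘ Spec (CommRingCat.of k)
  let V := Over.mk (C₁ ↘ Spec (CommRingCat.of k))
  let p₁ : 𝟙_ (Over (Spec (CommRingCat.of k))) ⟶ V := Over.homMk σ₁ hσ₁
  let jm := Groth.Agent.L26.JacRat.jmap σ₁ hσ₁ hA₁
  have hp : Groth.Agent.Elliptic.origin (𝟙_ (Over (Spec (CommRingCat.of k)))) σ₁ hσ₁ = p₁ :=
    Over.OverMorphism.ext (Category.id_comp _)
  have hj0 : p₁ ≫ jm = η[A₁] := by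
    rw [← hp]
    exact (Groth.Agent.L26.JacRat.origin_comp_jmap σ₁ hσ₁ hA₁ _).trans (by simp [Hom.one_def])
  obtain ⟨xP, hxPi, hxP, -⟩ := Groth.Agent.L26.JacRat.exists_unit_of_ok hPu.1
  have hxPr : xP ∈ Groth.Agent.L26.PicRep.rigSub f₂ σ₂ hσ₂ J₂ := ⟨hxPi, Units.ext (by
    show PicF.pullCl (PicF.secT f₂ σ₂ hσ₂ J₂) (xP : PicF.Cl (PicF.XT f₂ J₂)) = _
    rw [hxP]; exact hPn)⟩
  have hcls : Groth.Agent.L26.JacRat.cls hA₂ Pu hPu.1 = n₂ := by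
    have e := hkey₂ J₂ Pu hT₂ hPu.1
    rw [hPuψ] at e
    rw [← Category.comp_id (Groth.Agent.L26.JacRat.cls hA₂ Pu hPu.1), ← hmn₂, ← Category.assoc, ← e,
      Category.id_comp]
  have eP : Groth.Agent.L26.JacRat.valAt ξ₂ n₂ = xP := by
    rw [← hcls, Groth.Agent.L26.JacRat.valAt_cls hA₂ hPu.1 hxPi hxP,
      Groth.Agent.L26.PicRep.nrm_of_mem σ₂ hσ₂ hxPr]
  have hΦ : ∀ {T : Over (Spec (CommRingCat.of k))} (q : T ⟶ J₂),
      PicF.pullCl (PicF.XTmap f₂ q) (PicF.cl Pu) =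
        (Groth.Agent.L26.JacRat.valAt ξ₂ (q ≫ n₂) : PicF.Cl (PicF.XT f₂ T)) := fun q => by
    rw [Groth.Agent.L26.JacRat.valAt_comp, eP, ← hxP]
    rfl
  have hη : ∀ c : (PicF.Cl (PicF.XT f₂ V))ˣ, ∀ b : V ⟶ A₂, Groth.Agent.L26.JacRat.valAt ξ₂ b = c →
      (Groth.Agent.L26.PicRep.mp f₂ p₁ c = 1 ↔ p₁ ≫ b = η[A₂]) := fun c b hb => by
    have h1 : Groth.Agent.L26.JacRat.valAt ξ₂ η[A₂] = 1 := by
      have e := Groth.Agent.L26.JacRat.valAt_one hA₂ (𝟙_ (Over (Spec (CommRingCat.of k))))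
      rw [Hom.one_def] at e
      simpa using e
    rw [← hb, ← Groth.Agent.L26.JacRat.valAt_comp, ← h1]
    exact ⟨Groth.Agent.L26.JacRat.valAt_inj hA₂, fun h => by rw [h]⟩
  have huniq : ∀ a a' : A₁ ⟶ A₂, IsMonHom a → IsMonHom a' → jm ≫ a = jm ≫ a' → a = a' := fun a a' ha ha' e => by
    haveI := ha
    have h0 : Groth.Agent.Elliptic.origin (𝟙_ (Over (Spec (CommRingCat.of k)))) σ₁ hσ₁ ≫ jm ≫ a = η[A₂] := by
      rw [hp, ← Category.assoc, hj0, IsMonHom.one_hom]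
    obtain ⟨α, -, hu⟩ := Groth.Agent.L26.JacRat.existsUnique_albanese (B := A₂) hA₁
      (Groth.Agent.L26.JacRat.genusEq k) (jm ≫ a)
      (fun L _ _ τ => Groth.Agent.L26.JacRat.genus_geometric k L τ) hg₁ h0
    exact (hu a ⟨ha, rfl⟩).trans (hu a' ⟨ha', e.symm⟩).symm
  refine ⟨fun χ hχ => ?_, fun χ₁ χ₂ h₁ h₂ e => ?_, fun c hc => ?_⟩
  · rw [hΦ]
    let b := (jm ≫ m₁) ≫ χ ≫ n₂
    have hb : ((jm ≫ m₁) ≫ χ) ≫ n₂ = b := Category.assoc _ _ _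
    rw [show ((Groth.Agent.L26.JacRat.jmap σ₁ hσ₁ hA₁ ≫ m₁) ≫ χ) ≫ n₂ = b from hb]
    have hmem := Groth.Agent.L26.JacRat.valAt_mem (ξ := ξ₂) b
    refine ⟨hmem.1.1.1, congrArg Units.val hmem.1.2, ?_⟩
    have hb1 : p₁ ≫ b = η[A₂] := by
      haveI := hχ
      simp only [b, ← Category.assoc, hj0, IsMonHom.one_hom]
    exact congrArg Units.val ((hη _ b rfl).2 hb1)
  · haveI := h₁
    haveI := h₂
    rw [hΦ, hΦ] at e
    have e1 := Groth.Agent.L26.JacRat.valAt_inj hA₂ (Units.ext e)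
    simp only [Category.assoc] at e1
    have e2 := huniq (m₁ ≫ χ₁ ≫ n₂) (m₁ ≫ χ₂ ≫ n₂) inferInstance inferInstance e1
    have e3 := congrArg (fun a => n₁ ≫ a ≫ m₂) e2
    simpa only [Category.assoc, reassoc_of% hnm₁, hnm₂, Category.comp_id] using e3
  · obtain ⟨hci, hc2, hc1⟩ := hc
    obtain ⟨x, hxi, rfl⟩ := Groth.Agent.L26.PicRep.exists_invU hci
    have hxr : x ∈ Groth.Agent.L26.PicRep.rigSub f₂ σ₂ hσ₂ V := ⟨hxi, Units.ext hc2⟩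
    have hx1 : Groth.Agent.L26.PicRep.mp f₂ p₁ x = 1 := Units.ext hc1
    have hxd : x ∈ Groth.Agent.L26.JacRat.deg0Sub f₂ σ₂ hσ₂ V := by
      refine ⟨hxr, fun t => ?_⟩
      haveI : IrreducibleSpace ↥V.left := (inferInstance : IrreducibleSpace ↥C₁)
      let t₀ : V.left := p₁.left (IsLocalRing.closedPoint k)
      rw [(Groth.Agent.L26.JacRat.isLocallyConstant_degU hxi).apply_eq_of_preconnectedSpace t t₀,
        ← Groth.Agent.L26.JacRat.degU_mp p₁ hxi, hx1, Groth.Agent.L26.JacRat.degU_one]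
    obtain ⟨b, hb, -⟩ := hA₂ V ⟨x, hxd⟩
    have hb' : Groth.Agent.L26.JacRat.valAt ξ₂ b = x := congrArg Subtype.val hb
    have hb0 : Groth.Agent.Elliptic.origin (𝟙_ (Over (Spec (CommRingCat.of k)))) σ₁ hσ₁ ≫ b = η[A₂] := by
      rw [hp]
      exact (hη x b hb').1 hx1
    obtain ⟨α, ⟨hα, hjα⟩, -⟩ := Groth.Agent.L26.JacRat.existsUnique_albanese (B := A₂) hA₁
      (Groth.Agent.L26.JacRat.genusEq k) b
      (fun L _ _ τ => Groth.Agent.L26.JacRat.genus_geometric k L τ) hg₁ hb0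
    haveI := hα
    refine ⟨n₁ ≫ α ≫ m₂, inferInstance, ?_⟩
    rw [hΦ]
    have e : ((Groth.Agent.L26.JacRat.jmap σ₁ hσ₁ hA₁ ≫ m₁) ≫ n₁ ≫ α ≫ m₂) ≫ n₂ = b := by
      simp only [Category.assoc, reassoc_of% hmn₁, hmn₂, Category.comp_id, hjα]
    rw [e, hb']

end Groth.Agent.S17816
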