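import Groth.Statements.S17817
import Groth.Agent.L26.BertiniGen.Curve
import Groth.Agent.L26.Poincare.Reducibility
import Groth.Agent.L26.JacRat.Coarse
import Groth.Agent.L26.JacRat.Jac
import Groth.Agent.L21.SmoothCurveDim

set_option autoImplicit false
universe u
open CategoryTheory CategoryTheory.Limits AlgebraicGeometry MonoidalCategory CartesianMonoidalCategory MonObj
open JacVar

namespace Groth.Agent.S17817

set_option backward.isDefEq.respectTransparency false
set_option backward.isDefEq.respectTransparency.types false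
set_option maxHeartbeats 800000
open Groth.Agent.BertiniGen Groth.Agent.Poincare

/-- Let k be an infinite field and A an abelian variety over k (a commutative group scheme, proper,
smooth and geometrically irreducible over k) of positive dimension. Then there is a closed subscheme
C of A which is a smooth proper geometrically connected curve over k such that, for every k-rational
point P of C, every Jacobian (J, ψ) of C (commutative group scheme over k, coarse moduli scheme on
all k-schemes for degree-0 line bundles modulo twisting from the base, group law induced by tensor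
product), every Abel map j : C ⟶ J with base point P and every homomorphism χ : J ⟶ A with χ ∘ j
equal to the inclusion of C followed by translation by the inverse of P, the morphism χ is
surjective: A is a quotient of the Jacobian of C. (The universal property is expressed through a
rational point of C; for C without rational points only the existence of the curve is asserted
here.) -/
theorem result (k : Type u) [Field k] [Infinite k]
    (A : Over (Spec (CommRingCat.of k))) [GrpObj A] [IsCommMonObj A]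
    [IsProper A.hom] [Smooth A.hom] [GeometricallyIrreducible A.hom]
    (hA : 1 ≤ topologicalKrullDim ↥A.left) :
    ∃ (C : Scheme.{u}) (i : C ⟶ A.left), IsClosedImmersion i ∧ IsProper (i ≫ A.hom) ∧ Smooth (i ≫ A.hom) ∧
      GeometricallyConnected (i ≫ A.hom) ∧ topologicalKrullDim ↥C = 1 ∧
      ∀ (σ : Spec (CommRingCat.of k) ⟶ C) (hσ : σ ≫ (i ≫ A.hom) = 𝟙 _)
        (J : Over (Spec (CommRingCat.of k))) [GrpObj J] [IsCommMonObj J] (ψ : (ModFun.PicDeg (i ≫ A.hom) 0).Hom ⊤ J),
        Jac.IsJacobian (i ≫ A.hom) ⊤ J ψ →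
        ∀ (j : Over.mk (i ≫ A.hom) ⟶ J), Jac.IsAbelJacobiAt (i ≫ A.hom) σ ψ j →
        ∀ (χ : J ⟶ A), IsMonHom χ →
          j ≫ χ = (Over.homMk i rfl : Over.mk (i ≫ A.hom) ⟶ A) *
            (toUnit (Over.mk (i ≫ A.hom)) ≫ (Over.homMk (σ ≫ i) ((Category.assoc σ i A.hom).trans hσ) : 𝟙_ (Over (Spec (CommRingCat.of k))) ⟶ A))⁻¹ →
          Function.Surjective χ.left.base := by
  haveI : GeometricallyReduced A.hom := Groth.L16.SecComp.geometricallyReduced_of_smooth A.hom
  haveI : GeometricallyIntegral A.hom := GeometricallyIntegral.of_geometricallyReduced_of_geometricallyIrreducible _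
  obtain ⟨C, i, hic, his, hig, hid, hgen⟩ := exists_curve A hA
  haveI := hic
  haveI := his
  haveI := hig
  refine ⟨C, i, hic, inferInstance, his, hig, hid, ?_⟩
  intro σ hσ J gJ cJ ψ hJ j hj χ hχ hjχ
  letI : C.Over (Spec (CommRingCat.of k)) := ⟨i ≫ A.hom⟩
  haveI : IsProper (C ↘ Spec (CommRingCat.of k)) := inferInstanceAs (IsProper (i ≫ A.hom))
  haveI : Smooth (C ↘ Spec (CommRingCat.of k)) := his
  haveI : GeometricallyConnected (C ↘ Spec (CommRingCat.of k)) := hig
  haveI : Subsingleton ↥(Spec (CommRingCat.of k)) := inferInstanceAs (Subsingleton (PrimeSpectrum k))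
  haveI : ConnectedSpace ↥(Spec (CommRingCat.of k)) := inferInstanceAs (ConnectedSpace (PrimeSpectrum k))
  haveI : ConnectedSpace ↥C := GeometricallyConnected.connectedSpace_of_subsingleton (C ↘ Spec (CommRingCat.of k))
  haveI : IsIntegral C := Groth.L12.HypSq.isIntegral (k := k) (C := C)
  haveI := Groth.L21.SmoothCurve.smoothOfRelativeDimension_one (C ↘ Spec (CommRingCat.of k)) hid
  haveI : SmoothOfRelativeDimension 1 (i ≫ A.hom) := ‹SmoothOfRelativeDimension 1 (C ↘ Spec (CommRingCat.of k))›
  obtain ⟨A₁, ξ₁, hA₁, hp₁, hs₁, hi₁⟩ := Groth.Agent.L26.JacRat.exists_jacobian k σ (X := C) hσ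
  obtain ⟨m, n, hmn, hnm, -, -, -, -⟩ := Groth.Agent.L26.JacRat.exists_iso_coarse hA₁ hJ
  haveI : IsIso n := ⟨m, hnm, hmn⟩
  haveI : IsIso n.left := inferInstanceAs (IsIso ((Over.forget _).map n))
  haveI : IsProper J.hom := by rw [← Over.w n]; infer_instance
  haveI : GeometricallyIntegral J.hom := by
    rw [← Over.w n]
    exact (MorphismProperty.cancel_left_of_respectsIso @GeometricallyIntegral _ _).2 hi₁
  haveI := hχ
  obtain ⟨B, gB, iB, p, hiBm, hiBc, hBp, hBg, hp, hpi, -⟩ := Groth.Agent.AV.exists_image χ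
  letI := gB
  haveI := hiBm
  haveI := hiBc
  haveI := hBp
  haveI := hBg
  haveI := hp
  haveI : Mono iB := Groth.L08.mono_of_closedImmersion iB
  haveI : IsCommMonObj B := Reducibility.isCommMonObj_of_mono iB
  obtain ⟨L, hL⟩ := Groth.Agent.AV.Degree.exists_isAmple A
  obtain ⟨q, N, hq, hN, hiq, -⟩ := Reducibility.exists_proj L hL iB
  haveI := hq
  let h : A ⟶ A := 𝟙 A ^ N * (q ≫ iB)⁻¹
  haveI : IsMonHom (𝟙 A ^ N) := Groth.Agent.AV.Isogeny.isMonHom_pow N
  haveI hm : IsMonHom h := inferInstanceAs (IsMonHom (CartesianMonoidalCategory.lift (𝟙 A ^ N) (q ≫ iB)⁻¹ ≫ μ[A]))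
  have hB : iB ≫ h = 1 := by
    rw [MonObj.comp_mul, MonObj.comp_pow, Category.comp_id, GrpObj.comp_inv, reassoc_of% hiq, MonObj.pow_comp,
      Category.id_comp, mul_inv_cancel]
  have hχh : χ ≫ h = 1 := by rw [← hpi, Category.assoc, hB, MonObj.comp_one]
  have hch := congrArg (fun φ => φ ≫ h) hjχ
  rw [Category.assoc, hχh, MonObj.comp_one, MonObj.mul_comp, GrpObj.inv_comp, eq_comm, mul_inv_eq_one] at hch
  have hs : (Set.range (i ≫ h.left)).Subsingleton := by
    have h1 : i ≫ h.left = (i ≫ A.hom) ≫ (σ ≫ i) ≫ h.left := congrArg CommaMorphism.left hch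
    rw [h1]
    rintro _ ⟨x, rfl⟩ _ ⟨y, rfl⟩
    rw [Scheme.Hom.comp_apply, Scheme.Hom.comp_apply _ _ y]
    exact congrArg _ (Subsingleton.elim _ _)
  have h1 : h = 1 := hgen h (IsMonHom.one_hom h) hs
  have h2 : 𝟙 A ^ N = q ≫ iB := mul_inv_eq_one.1 h1
  obtain ⟨_, _, _, _⟩ := Groth.Agent.AV.Degree.isogeny_pow (A := A) hN
  rw [← hpi]
  intro y
  obtain ⟨z, hz⟩ := Surjective.surj (f := (𝟙 A ^ N : A ⟶ A).left) y
  obtain ⟨w, hw⟩ := Surjective.surj (f := p.left) (q.left z)
  refine ⟨w, ?_⟩
  rw [Over.comp_left, Scheme.Hom.comp_apply, hw, ← Scheme.Hom.comp_apply, ← Over.comp_left, ← h2]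
  exact hz

end Groth.Agent.S17817
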