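import Groth.Statements.S17818
import Groth.Agent.L26.JacRat.Coarse
import Groth.Agent.L21.SmoothCurveDim

set_option autoImplicit false
universe u
open CategoryTheory CategoryTheory.Limits AlgebraicGeometry MonoidalCategory CartesianMonoidalCategory MonObj
open JacVar

namespace Groth.Agent.S17818

/-- Let C be a smooth proper geometrically connected curve of genus g > 0 over a field k with a
k-rational point P, (J, ψ) its Jacobian (a commutative group scheme over k, coarse moduli scheme on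
all k-schemes for degree-0 line bundles modulo twisting from the base, group law induced by tensor
product), M the universal family on C × J normalised along P × J whose classifying morphism under ψ
is the identity (the sheaf M^P), j : C ⟶ J the Abel map with base point P, and L^P the module on C ×
C with L^P ⊗ I_Δ ≅ pr₁^* I_P ⊗ pr₂^* I_P, i.e. O(Δ − C × P − P × C). If N is an invertible module on
C × J, trivial along P × J and along C × 0 (a divisorial correspondence between (C, P) and J), whose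
pullback along 1 × j is isomorphic to L^P, then N is isomorphic to M. -/
theorem result (k : Type u) [Field k]
    (C : Scheme.{u}) [C.Over (Spec (CommRingCat.of k))]
    [IsProper (C ↘ Spec (CommRingCat.of k))] [Smooth (C ↘ Spec (CommRingCat.of k))] [GeometricallyConnected (C ↘ Spec (CommRingCat.of k))]
    (hdim : topologicalKrullDim ↥C = 1)
    (hg : 0 < Curv2.genus k C)
    (σ : Spec (CommRingCat.of k) ⟶ C) (hσ : σ ≫ (C ↘ Spec (CommRingCat.of k)) = 𝟙 _)
    (J : Over (Spec (CommRingCat.of k))) [GrpObj J] [IsCommMonObj J]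
    (ψ : (ModFun.PicDeg (C ↘ Spec (CommRingCat.of k)) 0).Hom ⊤ J) (hJ : Jac.IsJacobian (C ↘ Spec (CommRingCat.of k)) ⊤ J ψ)
    (Pu : (PicF.XT (C ↘ Spec (CommRingCat.of k)) J).Modules) (hPu : ModFun.IsUnivFamily ⊤ (ModFun.PicDeg (C ↘ Spec (CommRingCat.of k)) 0) J Pu)
    (hPn : Jac.IsNormAlong (C ↘ Spec (CommRingCat.of k)) σ hσ J Pu)
    (hT : (⊤ : ObjectProperty (Over (Spec (CommRingCat.of k)))) J) (hPuψ : ψ.app J Pu hT hPu.1 = 𝟙 J)
    (j : Over.mk (C ↘ Spec (CommRingCat.of k)) ⟶ J) (hj : Jac.IsAbelJacobiAt (C ↘ Spec (CommRingCat.of k)) σ ψ j)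
    (LP : (PicF.XT (C ↘ Spec (CommRingCat.of k)) (Over.mk (C ↘ Spec (CommRingCat.of k)))).Modules) (hLPi : PicF.IsInvertible LP)
    (hLP : Nonempty (CohB1.tensorMod LP (ClSub.idealMod (pullback.diagonal (C ↘ Spec (CommRingCat.of k))).ker) ≅
      CohB1.tensorMod ((Scheme.Modules.pullback (pullback.fst (C ↘ Spec (CommRingCat.of k)) (C ↘ Spec (CommRingCat.of k)))).obj (ClSub.idealMod σ.ker))
        ((Scheme.Modules.pullback (pullback.snd (C ↘ Spec (CommRingCat.of k)) (C ↘ Spec (CommRingCat.of k)))).obj (ClSub.idealMod σ.ker))))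
    (N : (PicF.XT (C ↘ Spec (CommRingCat.of k)) J).Modules) (hN : PicF.IsInvertible N)
    (hNP : Jac.IsNormAlong (C ↘ Spec (CommRingCat.of k)) σ hσ J N)
    (hN0 : PicF.IsTrivialCl (PicF.pullCl (PicF.XTmap (C ↘ Spec (CommRingCat.of k)) (η[J])) (PicF.cl N)))
    (hNj : Nonempty ((Scheme.Modules.pullback (PicF.XTmap (C ↘ Spec (CommRingCat.of k)) j)).obj N ≅ LP)) :
    Nonempty (N ≅ Pu) := by
  letI (Y : Scheme.{u}) : CommMonoid (PicF.Cl Y) := Groth.L08.Cube.clMonoid (Y := Y)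
  haveI : Subsingleton ↥(Spec (CommRingCat.of k)) := inferInstanceAs (Subsingleton (PrimeSpectrum k))
  haveI : ConnectedSpace ↥(Spec (CommRingCat.of k)) := inferInstanceAs (ConnectedSpace (PrimeSpectrum k))
  haveI : ConnectedSpace ↥C := GeometricallyConnected.connectedSpace_of_subsingleton (C ↘ Spec (CommRingCat.of k))
  haveI : IsIntegral C := Groth.L12.HypSq.isIntegral (k := k) (C := C)
  haveI := Groth.L21.SmoothCurve.smoothOfRelativeDimension_one (C ↘ Spec (CommRingCat.of k)) hdim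
  obtain ⟨J₀, ξ, hJ₀, hp, hs, hi⟩ := Groth.Agent.L26.JacRat.exists_jacobian k σ hσ
  letI : GrpObj J₀ := Groth.Agent.L26.JacRat.grpObjRep hJ₀
  haveI := isCommMonObj_of_isProper_of_geometricallyIntegral J₀
  obtain ⟨m, n, hmn, hnm, hm, hn, hkey, hjm⟩ := Groth.Agent.L26.JacRat.exists_iso_coarse hJ₀ hJ
  haveI := hm
  haveI := hn
  obtain rfl := hjm j hj
  let f := C ↘ Spec (CommRingCat.of k)
  obtain ⟨xN, hxNi, hxN⟩ := Groth.Agent.L26.PicRep.exists_invU (c := PicF.cl N) ⟨N, rfl, hN⟩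
  have hxNr : xN ∈ Groth.Agent.L26.PicRep.rigSub f σ hσ J := ⟨hxNi, Units.ext (by
    show PicF.pullCl (PicF.secT f σ hσ J) (xN : PicF.Cl (PicF.XT f J)) = _
    rw [hxN]; exact hNP)⟩
  let y := Groth.Agent.L26.PicRep.mp f m xN
  have hyr : y ∈ Groth.Agent.L26.PicRep.rigSub f σ hσ J₀ := Groth.Agent.L26.PicRep.mp_mem σ hσ m hxNr
  have hy1 : Groth.Agent.L26.PicRep.mp f η[J₀] y = 1 := by
    rw [← Groth.Agent.L26.PicRep.mp_comp, IsMonHom.one_hom]
    exact Units.ext (by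
      show PicF.pullCl (PicF.XTmap f η[J]) (xN : PicF.Cl (PicF.XT f J)) = _
      rw [hxN]; exact hN0)
  have hy0 : y ∈ Groth.Agent.L26.JacRat.deg0Sub f σ hσ J₀ := by
    refine ⟨hyr, fun t => ?_⟩
    haveI : IsIntegral J₀.left := GeometricallyIntegral.isIntegral_of_subsingleton J₀.hom
    let t₀ : J₀.left := η[J₀].left (IsLocalRing.closedPoint k)
    rw [(Groth.Agent.L26.JacRat.isLocallyConstant_degU hyr.1).apply_eq_of_preconnectedSpace t t₀,
      ← Groth.Agent.L26.JacRat.degU_mp η[J₀] hyr.1, hy1, Groth.Agent.L26.JacRat.degU_one]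
  obtain ⟨b, hb, -⟩ := hJ₀ J₀ ⟨y, hy0⟩
  have hb' : Groth.Agent.L26.JacRat.valAt ξ b = y := congrArg Subtype.val hb
  have hb1 : η[J₀] ≫ b = η[J₀] := Groth.Agent.L26.JacRat.valAt_inj hJ₀ (by
    rw [Groth.Agent.L26.JacRat.valAt_comp, hb', hy1]
    have e := Groth.Agent.L26.JacRat.valAt_one hJ₀ (𝟙_ (Over (Spec (CommRingCat.of k))))
    rw [Hom.one_def] at e
    simpa using e.symm)
  haveI := Groth.Agent.AV.isMonHom_of_one b hb1
  let V := Over.mk f
  let o := Groth.Agent.Elliptic.origin V σ hσ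
  have hbj : Groth.Agent.L26.JacRat.jmap σ hσ hJ₀ ≫ b = Groth.Agent.L26.JacRat.jmap σ hσ hJ₀ := by
    refine Groth.Agent.L26.JacRat.valAt_inj hJ₀ ?_
    rw [Groth.Agent.L26.JacRat.valAt_comp, hb', Groth.Agent.L26.JacRat.valAt_jmap,
      show Groth.Agent.L26.PicRep.mp f (Groth.Agent.L26.JacRat.jmap σ hσ hJ₀) y =
        Groth.Agent.L26.PicRep.mp f (Groth.Agent.L26.JacRat.jmap σ hσ hJ₀ ≫ m) xN from
        (Groth.Agent.L26.PicRep.mp_comp _ _ _).symm,
      ← Groth.Agent.L26.PicRep.nrm_of_mem σ hσ (Groth.Agent.L26.PicRep.mp_mem σ hσ (T' := V)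
        (Groth.Agent.L26.JacRat.jmap σ hσ hJ₀ ≫ m) hxNr), Groth.Agent.L26.JacRat.jcl]
    obtain ⟨bσ, hbσi, hbσ⟩ := Groth.Agent.L26.PicRep.exists_invU (c := PicF.cl (ClSub.idealMod σ.ker))
      ⟨_, rfl, Groth.Agent.Elliptic.isInvertible_ker (f := f) hσ⟩
    obtain ⟨eLP⟩ := hLP
    obtain ⟨eN⟩ := hNj
    have e : Groth.Agent.L26.PicRep.mp f (Groth.Agent.L26.JacRat.jmap σ hσ hJ₀ ≫ m) xN *
        Groth.Agent.Elliptic.uI (𝟙 V) = Groth.Agent.Elliptic.uI o * Groth.Agent.L26.PicRep.pb f V bσ := by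
      refine Units.ext ?_
      rw [Units.val_mul, Units.val_mul]
      show PicF.pullCl _ (xN : PicF.Cl (PicF.XT f J)) * _ = _ * PicF.pullCl _ (bσ : PicF.Cl C)
      rw [hxN, hbσ, Groth.Agent.L26.JacRat.val_uI_origin σ hσ V]
      exact (congrArg (· * _) (Groth.Agent.AbDualLib.cl_congr eN)).trans (Groth.Agent.AbDualLib.cl_congr eLP)
    rw [eq_mul_inv_of_mul_eq e, map_mul, map_mul, Groth.Agent.L26.PicRep.nrm_pb, _root_.mul_one, ← map_mul]
    rfl
  have ho : Groth.Agent.Elliptic.origin (𝟙_ (Over (Spec (CommRingCat.of k)))) σ hσ ≫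
      Groth.Agent.L26.JacRat.jmap σ hσ hJ₀ = η[J₀] :=
    (Groth.Agent.L26.JacRat.origin_comp_jmap σ hσ hJ₀ _).trans (by simp [Hom.one_def])
  obtain ⟨α, -, hu⟩ := Groth.Agent.L26.JacRat.existsUnique_albanese (B := J₀) hJ₀
    (Groth.Agent.L26.JacRat.genusEq k) (Groth.Agent.L26.JacRat.jmap σ hσ hJ₀)
    (fun L _ _ τ => Groth.Agent.L26.JacRat.genus_geometric k L τ) hg ho
  have hbid : b = 𝟙 J₀ :=
    (hu b ⟨inferInstance, hbj⟩).trans (hu (𝟙 J₀) ⟨inferInstance, Category.comp_id _⟩).symm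
  obtain ⟨xP, hxPi, hxP, -⟩ := Groth.Agent.L26.JacRat.exists_unit_of_ok hPu.1
  have hxPr : xP ∈ Groth.Agent.L26.PicRep.rigSub f σ hσ J := ⟨hxPi, Units.ext (by
    show PicF.pullCl (PicF.secT f σ hσ J) (xP : PicF.Cl (PicF.XT f J)) = _
    rw [hxP]; exact hPn)⟩
  have hcls : Groth.Agent.L26.JacRat.cls hJ₀ Pu hPu.1 = n := by
    have e := hkey J Pu hT hPu.1
    rw [hPuψ] at e
    rw [← Category.comp_id (Groth.Agent.L26.JacRat.cls hJ₀ Pu hPu.1), ← hmn, ← Category.assoc, ← e,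
      Category.id_comp]
  have eP : Groth.Agent.L26.JacRat.valAt ξ n = xP := by
    rw [← hcls, Groth.Agent.L26.JacRat.valAt_cls hJ₀ hPu.1 hxPi hxP,
      Groth.Agent.L26.PicRep.nrm_of_mem σ hσ hxPr]
  have eN' : Groth.Agent.L26.JacRat.valAt ξ n = xN := by
    have h1 : n ≫ b = n := by rw [hbid, Category.comp_id]
    rw [← h1, Groth.Agent.L26.JacRat.valAt_comp, hb', ← Groth.Agent.L26.PicRep.mp_comp, hnm,
      Groth.Agent.L26.PicRep.mp_id]
  exact (PicGrp.cl_eq_cl_iff _ _).1 (hxN.symm.trans ((congrArg Units.val (eN'.symm.trans eP)).trans hxP))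

end Groth.Agent.S17818
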