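import Groth.Statements.S17819
import Groth.Agent.L26.Theta.Relations

set_option autoImplicit false
universe u
open CategoryTheory CategoryTheory.Limits AlgebraicGeometry MonoidalCategory CartesianMonoidalCategory MonObj
open JacVar

namespace Groth.Agent.S17819

open Groth.Agent.L26.Theta Groth.Agent.L26.JacRat

/-- Let k be an algebraically closed field, C a smooth proper connected curve of genus g ≥ 2 over k with
a k-point P, (J, ψ) its Jacobian (a commutative group scheme over k, coarse moduli scheme on all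
k-schemes for degree-0 line bundles modulo twisting from the base, group law induced by tensor
product) and j : C ⟶ J the Abel map with base point P. Write W^r ⊂ J for the image of the r-fold
product C ×_k ⋯ ×_k C under (x_1, …, x_r) ↦ j(x_1) ⋯ j(x_r) (the image of the r-th symmetric power;
W^0 is the origin), and W^r_a for its translate by a k-point a of J. Let κ be the k-point of J given
by ψ on the degree-0 module Ω_{C/k} ⊗ I_P^{⊗(2g−2)} (the image of a canonical divisor), and for Z ⊂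
J let Z^* be the image of Z under x ↦ κ·x⁻¹. Then for every k-point a of J one has (W^{g−1}_a)^* =
W^{g−1}_{a⁻¹} as subsets of J. -/
theorem result (k : Type u) [Field k] [IsAlgClosed k]
    (C : Scheme.{u}) [C.Over (Spec (CommRingCat.of k))]
    [IsProper (C ↘ Spec (CommRingCat.of k))] [Smooth (C ↘ Spec (CommRingCat.of k))] [GeometricallyConnected (C ↘ Spec (CommRingCat.of k))]
    (hdim : topologicalKrullDim ↥C = 1)
    (g : ℕ) (hg : Curv2.genus k C = g) (hg2 : 2 ≤ g)
    (σ : Spec (CommRingCat.of k) ⟶ C) (hσ : σ ≫ (C ↘ Spec (CommRingCat.of k)) = 𝟙 _)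
    (J : Over (Spec (CommRingCat.of k))) [GrpObj J] [IsCommMonObj J]
    (ψ : (ModFun.PicDeg (C ↘ Spec (CommRingCat.of k)) 0).Hom ⊤ J) (hJ : Jac.IsJacobian (C ↘ Spec (CommRingCat.of k)) ⊤ J ψ)
    (j : Over.mk (C ↘ Spec (CommRingCat.of k)) ⟶ J) (hj : Jac.IsAbelJacobiAt (C ↘ Spec (CommRingCat.of k)) σ ψ j)
    (Kf : (PicF.XT (C ↘ Spec (CommRingCat.of k)) (𝟙_ (Over (Spec (CommRingCat.of k))))).Modules)
    (hKf : Nonempty (Kf ≅ (Scheme.Modules.pullback (pullback.fst (C ↘ Spec (CommRingCat.of k)) (𝟙_ (Over (Spec (CommRingCat.of k)))).hom)).obj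
      (CohB1.tensorMod (Omega.sheaf (C ↘ Spec (CommRingCat.of k))) (CohB1.tensorPow (ClSub.idealMod σ.ker) (2 * g - 2)))))
    (hT₁ : (⊤ : ObjectProperty (Over (Spec (CommRingCat.of k)))) (𝟙_ (Over (Spec (CommRingCat.of k))))) (hKok : (ModFun.PicDeg (C ↘ Spec (CommRingCat.of k)) 0).ok (𝟙_ (Over (Spec (CommRingCat.of k)))) Kf)
    (κ : (𝟙_ (Over (Spec (CommRingCat.of k)))) ⟶ J) (hκ : ψ.app (𝟙_ (Over (Spec (CommRingCat.of k)))) Kf hT₁ hKok = κ)
    (a : (𝟙_ (Over (Spec (CommRingCat.of k)))) ⟶ J) :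
    (Jac.transl J κ).left.base '' (((𝟙 J)⁻¹).left.base '' ((Jac.transl J a).left.base '' Set.range ((List.ofFn fun i : Fin (g - 1) =>
        (Over.homMk (WidePullback.π (fun (_ : Fin (g - 1)) => (C ↘ Spec (CommRingCat.of k))) i)
          (WidePullback.π_arrow (fun (_ : Fin (g - 1)) => (C ↘ Spec (CommRingCat.of k))) i) : Over.mk (WidePullback.base fun (_ : Fin (g - 1)) => (C ↘ Spec (CommRingCat.of k))) ⟶ Over.mk (C ↘ Spec (CommRingCat.of k))) ≫ j).prod).left.base)) =
      ((Jac.transl J a⁻¹).left.base '' Set.range ((List.ofFn fun i : Fin (g - 1) =>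
        (Over.homMk (WidePullback.π (fun (_ : Fin (g - 1)) => (C ↘ Spec (CommRingCat.of k))) i)
          (WidePullback.π_arrow (fun (_ : Fin (g - 1)) => (C ↘ Spec (CommRingCat.of k))) i) : Over.mk (WidePullback.base fun (_ : Fin (g - 1)) => (C ↘ Spec (CommRingCat.of k))) ⟶ Over.mk (C ↘ Spec (CommRingCat.of k))) ≫ j).prod).left.base) := by
  letI (Y : Scheme.{u}) : CommMonoid (PicF.Cl Y) := Groth.L08.Cube.clMonoid (Y := Y)
  haveI : Subsingleton ↥(Spec (CommRingCat.of k)) := inferInstanceAs (Subsingleton (PrimeSpectrum k))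
  haveI : ConnectedSpace ↥(Spec (CommRingCat.of k)) := inferInstanceAs (ConnectedSpace (PrimeSpectrum k))
  haveI : ConnectedSpace ↥C := GeometricallyConnected.connectedSpace_of_subsingleton (C ↘ Spec (CommRingCat.of k))
  haveI : IsIntegral C := Groth.L12.HypSq.isIntegral (k := k) (C := C)
  haveI := Groth.L21.SmoothCurve.smoothOfRelativeDimension_one (C ↘ Spec (CommRingCat.of k)) hdim
  obtain ⟨hp, M, hval⟩ := exists_model (hσ := hσ) hdim hJ hj
  haveI := hp
  obtain ⟨h, rfl⟩ : ∃ h, g = h + 1 := ⟨g - 1, by omega⟩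
  have hK : M.cls κ = uK (k := k) hdim * uP (k := k) hdim (ofSec σ hσ) ^ (h + h) := Units.ext (by
    rw [← hκ]
    refine hval Kf hT₁ hKok _ (cl_canonical hdim σ hσ (h + h) Kf ?_)
    rw [show h + h = 2 * (h + 1) - 2 by omega]
    exact hKf)
  obtain ⟨a, rfl⟩ : ∃ a' : onePt k ⟶ J, a' = a := ⟨a, rfl⟩
  obtain ⟨κ, rfl⟩ : ∃ κ' : onePt k ⟶ J, κ' = κ := ⟨κ, rfl⟩
  have hcl := isClosed_range_sumW (k := k) (X := C) j (h + 1 - 1)
  refine eq_of_pts (J := J) (isClosed_image_transl κ (isClosed_image_inv (isClosed_image_transl a hcl)))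
    (isClosed_image_transl a⁻¹ hcl) fun u => ?_
  refine Iff.trans (pt_mem_image_transl (κ : onePt k ⟶ J) _ u) ?_
  refine Iff.trans (pt_mem_image_inv _ _) ?_
  refine Iff.trans (M.pt_mem_transl_range _ (a : onePt k ⟶ J) _) ?_
  refine Iff.trans ?_ (M.pt_mem_transl_range _ ((a : onePt k ⟶ J)⁻¹) u).symm
  rw [inv_inv, show (u * (κ : onePt k ⟶ J)⁻¹)⁻¹ * (a : onePt k ⟶ J)⁻¹ = (κ : onePt k ⟶ J) * (u * (a : onePt k ⟶ J))⁻¹ by
    rw [_root_.mul_inv, _root_.mul_inv, inv_inv, mul_comm u⁻¹, _root_.mul_assoc]]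
  exact M.reflect hg κ _ hK

end Groth.Agent.S17819
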