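import Groth.Statements.S17822
import Groth.Agent.L26.Theta.Relations

set_option autoImplicit false
universe u
open CategoryTheory CategoryTheory.Limits AlgebraicGeometry MonoidalCategory CartesianMonoidalCategory MonObj
open JacVar

namespace Groth.Agent.S17822

open Groth.Agent.L26.Theta Groth.Agent.L26.JacRat

/-- Let k be an algebraically closed field, C a smooth proper connected curve of genus g ≥ 2 over k with
a k-point P, (J, ψ) its Jacobian (a commutative group scheme over k, coarse moduli scheme on all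
k-schemes for degree-0 line bundles modulo twisting from the base, group law induced by tensor
product) and j : C ⟶ J the Abel map with base point P. Write W^r ⊂ J for the image of the r-fold
product C ×_k ⋯ ×_k C under (x_1, …, x_r) ↦ j(x_1) ⋯ j(x_r) (the image of the r-th symmetric power;
W^0 is the origin), and W^r_a for its translate by a k-point a of J. Let κ be the k-point of J given
by ψ on Ω_{C/k} ⊗ I_P^{⊗(2g−2)} and Z^* the image of Z ⊂ J under x ↦ κ·x⁻¹. Let 0 ≤ r ≤ g − 2 and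
let a, b, x, y be k-points of J with x in W^1, y in W^{g−1−r} and a·x = b·y. If W^{r+1}_a is not
contained in W^{g−1}_b, then W^{r+1}_a ∩ W^{g−1}_b = W^r_{a·x} ∪ (W^{r+1}_a ∩ (W^{g−2}_{y·a⁻¹})^*)
as subsets of J. -/
theorem result (k : Type u) [Field k] [IsAlgClosed k]
    (C : Scheme.{u}) [C.Over (Spec (CommRingCat.of k))]
    [IsProper (C ↘ Spec (CommRingCat.of k))] [Smooth (C ↘ Spec (CommRingCat.of k))] [GeometricallyConnected (C ↘ Spec (CommRingCat.of k))]
    (hdim : topologicalKrullDim ↥C = 1)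
    (g : ℕ) (hg : Curv2.genus k C = g) (hg2 : 2 ≤ g)
    (σ : Spec (CommRingCat.of k) ⟶ C) (hσ : σ ≫ (C ↘ Spec (CommRingCat.of k)) = 𝟙 _)
    (J : Over (Spec (CommRingCat.of k))) [GrpObj J] [IsCommMonObj J]
    (ψ : (ModFun.PicDeg (C ↘ Spec (CommRingCat.of k)) 0).Hom ⊤ J) (hJ : Jac.IsJacobian (C ↘ Spec (CommRingCat.of k)) ⊤ J ψ)
    (j : Over.mk (C ↘ Spec (CommRingCat.of k)) ⟶ J) (hj : Jac.IsAbelJacobiAt (C ↘ Spec (CommRingCat.of k)) σ ψ j)
    (Kf : (PicF.XT (C ↘ Spec (CommRingCat.of k)) (𝟙_ (Over (Spec (CommRingCat.of k))))).Modules)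
    (hKf : Nonempty (Kf ≅ (Scheme.Modules.pullback (pullback.fst (C ↘ Spec (CommRingCat.of k)) (𝟙_ (Over (Spec (CommRingCat.of k)))).hom)).obj
      (CohB1.tensorMod (Omega.sheaf (C ↘ Spec (CommRingCat.of k))) (CohB1.tensorPow (ClSub.idealMod σ.ker) (2 * g - 2)))))
    (hT₁ : (⊤ : ObjectProperty (Over (Spec (CommRingCat.of k)))) (𝟙_ (Over (Spec (CommRingCat.of k))))) (hKok : (ModFun.PicDeg (C ↘ Spec (CommRingCat.of k)) 0).ok (𝟙_ (Over (Spec (CommRingCat.of k)))) Kf)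
    (κ : (𝟙_ (Over (Spec (CommRingCat.of k)))) ⟶ J) (hκ : ψ.app (𝟙_ (Over (Spec (CommRingCat.of k)))) Kf hT₁ hKok = κ)
    (r : ℕ) (hr : r ≤ g - 2) (a b x y : (𝟙_ (Over (Spec (CommRingCat.of k)))) ⟶ J)
    (hx : ∀ p, x.left.base p ∈ Set.range ((List.ofFn fun i : Fin 1 =>
        (Over.homMk (WidePullback.π (fun (_ : Fin 1) => (C ↘ Spec (CommRingCat.of k))) i)
          (WidePullback.π_arrow (fun (_ : Fin 1) => (C ↘ Spec (CommRingCat.of k))) i) : Over.mk (WidePullback.base fun (_ : Fin 1) => (C ↘ Spec (CommRingCat.of k))) ⟶ Over.mk (C ↘ Spec (CommRingCat.of k))) ≫ j).prod).left.base)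
    (hy : ∀ p, y.left.base p ∈ Set.range ((List.ofFn fun i : Fin (g - 1 - r) =>
        (Over.homMk (WidePullback.π (fun (_ : Fin (g - 1 - r)) => (C ↘ Spec (CommRingCat.of k))) i)
          (WidePullback.π_arrow (fun (_ : Fin (g - 1 - r)) => (C ↘ Spec (CommRingCat.of k))) i) : Over.mk (WidePullback.base fun (_ : Fin (g - 1 - r)) => (C ↘ Spec (CommRingCat.of k))) ⟶ Over.mk (C ↘ Spec (CommRingCat.of k))) ≫ j).prod).left.base)
    (hab : a * x = b * y)
    (hnot : ¬ (((Jac.transl J a).left.base '' Set.range ((List.ofFn fun i : Fin (r + 1) =>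
        (Over.homMk (WidePullback.π (fun (_ : Fin (r + 1)) => (C ↘ Spec (CommRingCat.of k))) i)
          (WidePullback.π_arrow (fun (_ : Fin (r + 1)) => (C ↘ Spec (CommRingCat.of k))) i) : Over.mk (WidePullback.base fun (_ : Fin (r + 1)) => (C ↘ Spec (CommRingCat.of k))) ⟶ Over.mk (C ↘ Spec (CommRingCat.of k))) ≫ j).prod).left.base) ⊆ ((Jac.transl J b).left.base '' Set.range ((List.ofFn fun i : Fin (g - 1) =>
        (Over.homMk (WidePullback.π (fun (_ : Fin (g - 1)) => (C ↘ Spec (CommRingCat.of k))) i)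
          (WidePullback.π_arrow (fun (_ : Fin (g - 1)) => (C ↘ Spec (CommRingCat.of k))) i) : Over.mk (WidePullback.base fun (_ : Fin (g - 1)) => (C ↘ Spec (CommRingCat.of k))) ⟶ Over.mk (C ↘ Spec (CommRingCat.of k))) ≫ j).prod).left.base))) :
    ((Jac.transl J a).left.base '' Set.range ((List.ofFn fun i : Fin (r + 1) =>
        (Over.homMk (WidePullback.π (fun (_ : Fin (r + 1)) => (C ↘ Spec (CommRingCat.of k))) i)
          (WidePullback.π_arrow (fun (_ : Fin (r + 1)) => (C ↘ Spec (CommRingCat.of k))) i) : Over.mk (WidePullback.base fun (_ : Fin (r + 1)) => (C ↘ Spec (CommRingCat.of k))) ⟶ Over.mk (C ↘ Spec (CommRingCat.of k))) ≫ j).prod).left.base) ∩ ((Jac.transl J b).left.base '' Set.range ((List.ofFn fun i : Fin (g - 1) =>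
        (Over.homMk (WidePullback.π (fun (_ : Fin (g - 1)) => (C ↘ Spec (CommRingCat.of k))) i)
          (WidePullback.π_arrow (fun (_ : Fin (g - 1)) => (C ↘ Spec (CommRingCat.of k))) i) : Over.mk (WidePullback.base fun (_ : Fin (g - 1)) => (C ↘ Spec (CommRingCat.of k))) ⟶ Over.mk (C ↘ Spec (CommRingCat.of k))) ≫ j).prod).left.base) =
      ((Jac.transl J (a * x)).left.base '' Set.range ((List.ofFn fun i : Fin r =>
        (Over.homMk (WidePullback.π (fun (_ : Fin r) => (C ↘ Spec (CommRingCat.of k))) i)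
          (WidePullback.π_arrow (fun (_ : Fin r) => (C ↘ Spec (CommRingCat.of k))) i) : Over.mk (WidePullback.base fun (_ : Fin r) => (C ↘ Spec (CommRingCat.of k))) ⟶ Over.mk (C ↘ Spec (CommRingCat.of k))) ≫ j).prod).left.base) ∪
      (((Jac.transl J a).left.base '' Set.range ((List.ofFn fun i : Fin (r + 1) =>
        (Over.homMk (WidePullback.π (fun (_ : Fin (r + 1)) => (C ↘ Spec (CommRingCat.of k))) i)
          (WidePullback.π_arrow (fun (_ : Fin (r + 1)) => (C ↘ Spec (CommRingCat.of k))) i) : Over.mk (WidePullback.base fun (_ : Fin (r + 1)) => (C ↘ Spec (CommRingCat.of k))) ⟶ Over.mk (C ↘ Spec (CommRingCat.of k))) ≫ j).prod).left.base) ∩ ((Jac.transl J κ).left.base '' (((𝟙 J)⁻¹).left.base '' ((Jac.transl J (y * a⁻¹)).left.base '' Set.range ((List.ofFn fun i : Fin (g - 2) =>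
        (Over.homMk (WidePullback.π (fun (_ : Fin (g - 2)) => (C ↘ Spec (CommRingCat.of k))) i)
          (WidePullback.π_arrow (fun (_ : Fin (g - 2)) => (C ↘ Spec (CommRingCat.of k))) i) : Over.mk (WidePullback.base fun (_ : Fin (g - 2)) => (C ↘ Spec (CommRingCat.of k))) ⟶ Over.mk (C ↘ Spec (CommRingCat.of k))) ≫ j).prod).left.base)))) := by
  letI (Y : Scheme.{u}) : CommMonoid (PicF.Cl Y) := Groth.L08.Cube.clMonoid (Y := Y)
  haveI : Subsingleton ↥(Spec (CommRingCat.of k)) := inferInstanceAs (Subsingleton (PrimeSpectrum k))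
  haveI : ConnectedSpace ↥(Spec (CommRingCat.of k)) := inferInstanceAs (ConnectedSpace (PrimeSpectrum k))
  haveI : ConnectedSpace ↥C := GeometricallyConnected.connectedSpace_of_subsingleton (C ↘ Spec (CommRingCat.of k))
  haveI : IsIntegral C := Groth.L12.HypSq.isIntegral (k := k) (C := C)
  haveI := Groth.L21.SmoothCurve.smoothOfRelativeDimension_one (C ↘ Spec (CommRingCat.of k)) hdim
  obtain ⟨hp, M, hval⟩ := exists_model (hσ := hσ) hdim hJ hj
  haveI := hp
  obtain ⟨a, rfl⟩ : ∃ a' : onePt k ⟶ J, a' = a := ⟨a, rfl⟩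
  obtain ⟨b, rfl⟩ : ∃ b' : onePt k ⟶ J, b' = b := ⟨b, rfl⟩
  obtain ⟨x, rfl⟩ : ∃ x' : onePt k ⟶ J, x' = x := ⟨x, rfl⟩
  obtain ⟨y, rfl⟩ : ∃ y' : onePt k ⟶ J, y' = y := ⟨y, rfl⟩
  obtain ⟨κ, rfl⟩ : ∃ κ' : onePt k ⟶ J, κ' = κ := ⟨κ, rfl⟩
  obtain ⟨m, rfl⟩ : ∃ m, g = r + m + 2 := ⟨g - 2 - r, by omega⟩
  rw [show r + m + 2 - 1 = r + 1 + m by omega, show r + m + 2 - 2 = r + m by omega] at *
  obtain ⟨sx, hsx⟩ := (pt_mem_range_sumW j 1 x).1 ((forall_mem_iff (T := J) x _).1 hx)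
  obtain ⟨E₀, hE₀⟩ := (pt_mem_range_sumW j _ y).1 ((forall_mem_iff (T := J) y _).1 hy)
  obtain ⟨E, hE⟩ : ∃ E : Fin (m + 1) → Pt C, ∏ i, ptOf k (E i) ≫ j = y := by
    have e : r + 1 + m - r = m + 1 := by omega
    exact ⟨fun i => E₀ (Fin.cast e.symm i), (Fintype.prod_equiv (finCongr e.symm) _ (fun i => ptOf k (E₀ i) ≫ j) fun _ => rfl).trans hE₀⟩
  let Q := sx 0
  have hxQ : ptOf k Q ≫ j = x := by rw [← hsx, Fin.prod_univ_one]
  have hK : M.cls κ = uK (k := k) hdim * uP (k := k) hdim (ofSec σ hσ) ^ (r + 1 + m + (r + 1 + m)) := Units.ext (by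
    rw [← hκ]
    refine hval Kf hT₁ hKok _ (cl_canonical hdim σ hσ _ Kf ?_)
    rw [show r + 1 + m + (r + 1 + m) = 2 * (r + m + 2) - 2 by omega]
    exact hKf)
  have hab' : b⁻¹ = y * x⁻¹ * a⁻¹ := by
    rw [show b = a * x * y⁻¹ from eq_mul_inv_iff_mul_eq.2 hab.symm, _root_.mul_inv, _root_.mul_inv, inv_inv]
    generalize a⁻¹ = t
    generalize x⁻¹ = v
    ac_rfl
  -- the classes attached to a sum of points
  have h1 : ∀ s : Fin (r + 1) → Pt C, M.sh (r + 1 + m) (a * (∏ i, ptOf k (s i) ≫ j) * b⁻¹) =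
      (∏ i, uP (k := k) hdim (s i))⁻¹ * (∏ i, uP (k := k) hdim (E i))⁻¹ * uP (k := k) hdim Q := fun s => by
    rw [show a * (∏ i, ptOf k (s i) ≫ j) * b⁻¹ = (∏ i, ptOf k (s i) ≫ j) * y * x⁻¹ by
      rw [hab']
      generalize (∏ i, ptOf k (s i) ≫ j) = S
      calc a * S * (y * x⁻¹ * a⁻¹) = (a * a⁻¹) * (S * y * x⁻¹) := by ac_rfl
        _ = S * y * x⁻¹ := by rw [mul_inv_cancel, _root_.one_mul],
      ← hE, ← hxQ]
    simp only [Model.sh, map_mul, map_inv, M.cls_prod, M.cls_pt, pow_succ, pow_add, inv_pow, _root_.mul_inv, inv_inv]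
    generalize (∏ i, uP (k := k) hdim (s i))⁻¹ = S
    generalize (∏ i, uP (k := k) hdim (E i))⁻¹ = T
    generalize uP (k := k) hdim Q = U
    generalize uP (k := k) hdim (ofSec σ hσ) ^ r = A
    generalize uP (k := k) hdim (ofSec σ hσ) ^ m = B
    generalize uP (k := k) hdim (ofSec σ hσ) = O
    calc A * O * S * (B * O * T) * (O⁻¹ * U) * (A⁻¹ * O⁻¹ * B⁻¹) =
          (A * A⁻¹) * (B * B⁻¹) * (O * O⁻¹) * (O * O⁻¹) * (S * T * U) := by ac_rfl
      _ = S * T * U := by simp only [mul_inv_cancel, _root_.one_mul]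
  have h2 : ∀ s : Fin (r + 1) → Pt C, M.sh r (a * (∏ i, ptOf k (s i) ≫ j) * (a * x)⁻¹) =
      (∏ i, uP (k := k) hdim (s i))⁻¹ * uP (k := k) hdim Q := fun s => by
    rw [show a * (∏ i, ptOf k (s i) ≫ j) * (a * x)⁻¹ = (∏ i, ptOf k (s i) ≫ j) * x⁻¹ by
      generalize (∏ i, ptOf k (s i) ≫ j) = S
      rw [_root_.mul_inv]
      calc a * S * (a⁻¹ * x⁻¹) = (a * a⁻¹) * (S * x⁻¹) := by ac_rfl
        _ = S * x⁻¹ := by rw [mul_inv_cancel, _root_.one_mul],
      ← hxQ]
    simp only [Model.sh, map_mul, map_inv, M.cls_prod, M.cls_pt, pow_succ, inv_pow, _root_.mul_inv, inv_inv]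
    generalize (∏ i, uP (k := k) hdim (s i))⁻¹ = S
    generalize uP (k := k) hdim Q = U
    generalize uP (k := k) hdim (ofSec σ hσ) ^ r = A
    generalize uP (k := k) hdim (ofSec σ hσ) = O
    calc A * O * S * (O⁻¹ * U) * A⁻¹ = (A * A⁻¹) * (O * O⁻¹) * (S * U) := by ac_rfl
      _ = S * U := by simp only [mul_inv_cancel, _root_.one_mul]
  have h3 : ∀ s : Fin (r + 1) → Pt C,
      M.sh (r + m) ((a * (∏ i, ptOf k (s i) ≫ j) * κ⁻¹)⁻¹ * (y * a⁻¹)⁻¹) = uK (k := k) hdim *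
        ((∏ i, uP (k := k) hdim (s i))⁻¹ * (∏ i, uP (k := k) hdim (E i))⁻¹)⁻¹ := fun s => by
    rw [show (a * (∏ i, ptOf k (s i) ≫ j) * κ⁻¹)⁻¹ * (y * a⁻¹)⁻¹ = κ * ((∏ i, ptOf k (s i) ≫ j) * y)⁻¹ by
      generalize (∏ i, ptOf k (s i) ≫ j) = S
      simp only [_root_.mul_inv, inv_inv]
      calc a⁻¹ * S⁻¹ * κ * (y⁻¹ * a) = (a * a⁻¹) * (κ * (S⁻¹ * y⁻¹)) := by ac_rfl
        _ = κ * (S⁻¹ * y⁻¹) := by rw [mul_inv_cancel, _root_.one_mul],
      ← hE]
    simp only [Model.sh, map_mul, map_inv, M.cls_prod, hK, pow_succ, pow_add, inv_pow, _root_.mul_inv, inv_inv]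
    generalize (∏ i, uP (k := k) hdim (s i)) = S
    generalize (∏ i, uP (k := k) hdim (E i)) = T
    generalize uK (k := k) hdim = K
    generalize uP (k := k) hdim (ofSec σ hσ) ^ r = A
    generalize uP (k := k) hdim (ofSec σ hσ) ^ m = B
    generalize uP (k := k) hdim (ofSec σ hσ) = O
    calc K * (A * O * B * (A * O * B)) * (A⁻¹ * O⁻¹ * S * (B⁻¹ * O⁻¹ * T)) * (A⁻¹ * B⁻¹) =
          (A * A⁻¹) * (A * A⁻¹) * (B * B⁻¹) * (B * B⁻¹) * (O * O⁻¹) * (O * O⁻¹) * (K * (S * T)) := by ac_rfl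
      _ = K * (S * T) := by simp only [mul_inv_cancel, _root_.one_mul]
  have hL : ∀ u : onePt k ⟶ J, pt u ∈ (Jac.transl J a).left.base '' Set.range (sumW j (r + 1)).left.base →
      ∃ s : Fin (r + 1) → Pt C, a * ∏ i, ptOf k (s i) ≫ j = u := fun u hu => by
    obtain ⟨s, hs⟩ := (pt_mem_range_sumW j _ _).1 ((pt_mem_image_transl a _ u).1 hu)
    exact ⟨s, by rw [hs, mul_comm, inv_mul_cancel_right]⟩
  have hclL := isClosed_image_transl a (isClosed_range_sumW (k := k) (X := C) j (r + 1))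
  have hclR := isClosed_image_transl b (isClosed_range_sumW (k := k) (X := C) j (r + 1 + m))
  have hclT := isClosed_image_transl κ (isClosed_image_inv
    (isClosed_image_transl (y * a⁻¹) (isClosed_range_sumW (k := k) (X := C) j (r + m))))
  have hclA := isClosed_image_transl (a * x) (isClosed_range_sumW (k := k) (X := C) j r)
  have hQE : ∀ i, E i ≠ Q := fun i hi => hnot (subset_of_pts hclL hclR fun u hu => by
    obtain ⟨s, rfl⟩ := hL u hu
    rw [M.pt_mem_transl_range, h1, _root_.mul_assoc, ← hi, h0c_eff_uP_of_mem]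
    exact (one_le_h0c_eff (k := k) hdim s).trans (h0c_le_add_eff (k := k) hdim (effU_mem hdim s) _))
  refine eq_of_pts (J := J) (hclL.inter hclR) (hclA.union (hclL.inter hclT)) fun u => ?_
  have key : ∀ s : Fin (r + 1) → Pt C, _ := fun s => eff_eff_uP (k := k) hdim (by omega) s E Q hQE
  constructor
  · rintro ⟨hu, hu'⟩
    obtain ⟨s, rfl⟩ := hL u hu
    rw [M.pt_mem_transl_range, h1] at hu'
    rcases (key s).1 hu' with h | h
    · left
      rw [M.pt_mem_transl_range, h2]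
      exact h
    · refine Or.inr ⟨hu, ?_⟩
      rw [pt_mem_image_transl, pt_mem_image_inv, M.pt_mem_transl_range, h3]
      exact h
  · rintro (hu | ⟨hu, hu'⟩)
    · obtain ⟨w, hw⟩ := (pt_mem_range_sumW j _ _).1 ((pt_mem_image_transl (a * x) _ u).1 hu)
      obtain rfl : a * ∏ i, ptOf k ((Fin.cons Q w : Fin (r + 1) → Pt C) i) ≫ j = u := by
        rw [Fin.prod_univ_succ]
        simp only [Fin.cons_zero, Fin.cons_succ]
        rw [hxQ, hw, ← _root_.mul_assoc, mul_comm, inv_mul_cancel_right]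
      refine ⟨?_, ?_⟩
      · rw [pt_mem_image_transl, mul_comm a, mul_inv_cancel_right, pt_mem_range_sumW]
        exact ⟨_, rfl⟩
      · rw [M.pt_mem_transl_range, h1]
        refine (key _).2 (Or.inl ?_)
        rw [← h2]
        exact (M.pt_mem_transl_range r (a * x) _).1 hu
    · obtain ⟨s, rfl⟩ := hL u hu
      refine ⟨hu, ?_⟩
      rw [pt_mem_image_transl, pt_mem_image_inv, M.pt_mem_transl_range, h3] at hu'
      rw [M.pt_mem_transl_range, h1]
      exact (key s).2 (Or.inr hu')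

end Groth.Agent.S17822
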