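import Groth.Statements.S17824
import Groth.Agent.L26.JacRat.GoodPts
import Groth.Agent.L21.SmoothCurveDim

set_option autoImplicit false
universe u
open CategoryTheory CategoryTheory.Limits AlgebraicGeometry
open JacVar

namespace Groth.Agent.S17824

/-- Parts (a) and (b) over an algebraically closed field. Let C be a smooth proper connected curve of
genus g > 0 over an algebraically closed field k with a k-point P, and consider the 2g-fold fibre
power C ×_k ⋯ ×_k C, a k-rational point of which is a pair (D, D') of g-tuples of k-points (the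
first g and the last g coordinates). (a) There is a nonempty open subset U of it such that for every
k-rational point (P_1, …, P_{2g}) of U and every invertible module M with M ⊗ I_{P_1} ⊗ ⋯ ⊗
I_{P_{2g}} ≅ I_P^{⊗g}, i.e. M ≅ O(D + D' − gP), one has h⁰(C, M) = 1. (b) There is a nonempty open
subset V such that for every k-rational point of V and every invertible M with M ⊗ I_{P_{g+1}} ⊗ ⋯ ⊗
I_{P_{2g}} ⊗ I_P^{⊗g} ≅ I_{P_1} ⊗ ⋯ ⊗ I_{P_g}, i.e. M ≅ O(D' − D + gP), one has h⁰(C, M) = 1. (The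
published lemma is phrased on C^(g) × C^(g), over the ground field, and for points with values in
every field containing it; this row takes k algebraically closed and k-points of the 2g-fold fibre
power.) -/
theorem result (k : Type u) [Field k] [IsAlgClosed k]
    (C : Scheme.{u}) [C.Over (Spec (CommRingCat.of k))]
    [IsProper (C ↘ Spec (CommRingCat.of k))] [Smooth (C ↘ Spec (CommRingCat.of k))] [GeometricallyConnected (C ↘ Spec (CommRingCat.of k))]
    (hdim : topologicalKrullDim ↥C = 1)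
    (g : ℕ) (hg : Curv2.genus k C = g) (hg1 : 1 ≤ g)
    (σ : Spec (CommRingCat.of k) ⟶ C) (hσ : σ ≫ (C ↘ Spec (CommRingCat.of k)) = 𝟙 _) :
    (∃ U : (SymProd.fibPow (C ↘ Spec (CommRingCat.of k)) (2 * g)).Opens, (U : Set ↥(SymProd.fibPow (C ↘ Spec (CommRingCat.of k)) (2 * g))).Nonempty ∧
      ∀ (x : Spec (CommRingCat.of k) ⟶ SymProd.fibPow (C ↘ Spec (CommRingCat.of k)) (2 * g))
        (hx : x ≫ WidePullback.base (fun (_ : Fin (2 * g)) => (C ↘ Spec (CommRingCat.of k))) = 𝟙 _)
        (hxU : ∀ p, x.base p ∈ U) (M : C.Modules) (hM : PicF.IsInvertible M)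
        (hMD : Nonempty (CohB1.tensorMod M (FGA.tensorList (List.ofFn fun i : Fin (2 * g) => ClSub.idealMod (x ≫ WidePullback.π (fun (_ : Fin (2 * g)) => (C ↘ Spec (CommRingCat.of k))) i).ker)) ≅
          CohB1.tensorPow (ClSub.idealMod σ.ker) g)),
        Module.finrank k (Coh.HH C M 0) = 1) ∧
    (∃ V : (SymProd.fibPow (C ↘ Spec (CommRingCat.of k)) (2 * g)).Opens, (V : Set ↥(SymProd.fibPow (C ↘ Spec (CommRingCat.of k)) (2 * g))).Nonempty ∧
      ∀ (x : Spec (CommRingCat.of k) ⟶ SymProd.fibPow (C ↘ Spec (CommRingCat.of k)) (2 * g))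
        (hx : x ≫ WidePullback.base (fun (_ : Fin (2 * g)) => (C ↘ Spec (CommRingCat.of k))) = 𝟙 _)
        (hxV : ∀ p, x.base p ∈ V) (M : C.Modules) (hM : PicF.IsInvertible M)
        (hMD : Nonempty (CohB1.tensorMod M (CohB1.tensorMod
            (FGA.tensorList (List.ofFn fun i : Fin g => ClSub.idealMod (x ≫ WidePullback.π (fun (_ : Fin (2 * g)) => (C ↘ Spec (CommRingCat.of k))) (Fin.cast (two_mul g).symm (Fin.natAdd g i))).ker))
            (CohB1.tensorPow (ClSub.idealMod σ.ker) g)) ≅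
          FGA.tensorList (List.ofFn fun i : Fin g => ClSub.idealMod (x ≫ WidePullback.π (fun (_ : Fin (2 * g)) => (C ↘ Spec (CommRingCat.of k))) (Fin.cast (two_mul g).symm (Fin.castAdd g i))).ker))),
        Module.finrank k (Coh.HH C M 0) = 1) := by
  letI (Y : Scheme.{u}) : CommMonoid (PicF.Cl Y) := Groth.L08.Cube.clMonoid (Y := Y)
  haveI : Subsingleton ↥(Spec (CommRingCat.of k)) := inferInstanceAs (Subsingleton (PrimeSpectrum k))
  haveI : ConnectedSpace ↥(Spec (CommRingCat.of k)) := inferInstanceAs (ConnectedSpace (PrimeSpectrum k))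
  haveI : ConnectedSpace ↥C := GeometricallyConnected.connectedSpace_of_subsingleton (C ↘ Spec (CommRingCat.of k))
  haveI : IsIntegral C := Groth.L12.HypSq.isIntegral (k := k) (C := C)
  haveI := Groth.L21.SmoothCurve.smoothOfRelativeDimension_one (C ↘ Spec (CommRingCat.of k)) hdim
  let f := C ↘ Spec (CommRingCat.of k)
  let T : Over (Spec (CommRingCat.of k)) := Over.mk (WidePullback.base fun (_ : Fin (2 * g)) => f)
  let a : Fin (2 * g) → (T ⟶ Over.mk f) := fun i =>
    Over.homMk (WidePullback.π (fun (_ : Fin (2 * g)) => f) i) (WidePullback.π_arrow _ i)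
  let oT := Groth.Agent.Elliptic.origin T σ hσ
  let o := Groth.Agent.L26.JacRat.ptX k σ hσ
  obtain ⟨s, hs, hgood⟩ := Groth.Agent.L26.JacRat.exists_goodPts (X := C) g hg
  let b : Fin g ⊕ Fin g → (Spec (CommRingCat.of k) ⟶ C) := Sum.elim (fun _ => σ) s
  have hb : ∀ z, b z ≫ f = 𝟙 _ := by rintro (i | i); exacts [hσ, hs i]
  let e : Fin g ⊕ Fin g ≃ Fin (2 * g) := finSumFinEquiv.trans (finCongr (two_mul g).symm)
  let x₀ : Spec (CommRingCat.of k) ⟶ T.left := WidePullback.lift (𝟙 _) (fun i => b (e.symm i)) fun i => hb _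
  let q₀ : Groth.Agent.L26.JacRat.onePt k ⟶ T := Over.homMk x₀ (WidePullback.lift_base _ _ _ _)
  have hq₀ : ∀ z, q₀ ≫ a (e z) = Groth.Agent.L26.JacRat.ptX k (b z) (hb z) := fun z =>
    Groth.Agent.L26.JacRat.comp_ptX _ _ _ _ (by
      show x₀ ≫ WidePullback.π _ (e z) = b z
      rw [WidePullback.lift_π, Equiv.symm_apply_apply])
  have hql : ∀ i, q₀ ≫ a (e (Sum.inl i)) = o := fun i => hq₀ (Sum.inl i)
  have hqr : ∀ i, q₀ ≫ a (e (Sum.inr i)) = Groth.Agent.L26.JacRat.ptX k (s i) (hs i) := fun i => hq₀ (Sum.inr i)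
  have hsum : ∀ {T' : Over (Spec (CommRingCat.of k))} (v : Fin (2 * g) → (T' ⟶ Over.mk f)),
      ∏ i, Groth.Agent.Elliptic.uI (v i) = (∏ i, Groth.Agent.Elliptic.uI (v (e (Sum.inl i)))) *
        ∏ i, Groth.Agent.Elliptic.uI (v (e (Sum.inr i))) := fun v => by
    rw [← e.prod_comp, Fintype.prod_sum_type]
  have hcA : ∀ (x : Spec (CommRingCat.of k) ⟶ T.left) (hx : x ≫ T.hom = 𝟙 _) i,
      (Over.homMk x hx : Groth.Agent.L26.JacRat.onePt k ⟶ T) ≫ a i =
        Groth.Agent.L26.JacRat.ptX k (x ≫ WidePullback.π (fun (_ : Fin (2 * g)) => f) i) (by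
          rw [Category.assoc, WidePullback.π_arrow]; exact hx) := fun x hx i =>
    Groth.Agent.L26.JacRat.comp_ptX _ _ _ _ rfl
  have hmem : ∀ i, Groth.Agent.Elliptic.uI (a i) ∈ Groth.Agent.L26.PicRep.invU (PicF.XT f T) := fun i =>
    Groth.Agent.L26.JacRat.uI_mem _
  refine ⟨?_, ?_⟩
  · let c := Groth.Agent.Elliptic.uI oT ^ g * (∏ i, Groth.Agent.Elliptic.uI (a i))⁻¹
    have hc : c ∈ Groth.Agent.L26.PicRep.invU _ :=
      Subgroup.mul_mem _ (Subgroup.pow_mem _ (Groth.Agent.L26.JacRat.uI_mem _) g)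
        (Subgroup.inv_mem _ (Subgroup.prod_mem _ fun i _ => hmem i))
    refine ⟨⟨Groth.Agent.L26.PicRep.goodSet f T (c : PicF.Cl (PicF.XT f T)),
      Groth.Agent.L26.PicRep.isOpen_goodSet hc.1⟩, ⟨x₀ (IsLocalRing.closedPoint k), ?_⟩, fun x hx hxU M hM hMD => ?_⟩
    · refine (Groth.Agent.L26.PicRep.goodSet_pull q₀ hc.1).le
        (?_ : (IsLocalRing.closedPoint k : (Groth.Agent.L26.JacRat.onePt k).left) ∈
          Groth.Agent.L26.PicRep.goodSet f (Groth.Agent.L26.JacRat.onePt k) _)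
      rw [show PicF.pullCl (PicF.XTmap f q₀) (c : PicF.Cl (PicF.XT f T)) = _ from
        congrArg Units.val (show Groth.Agent.L26.PicRep.mp f q₀ c =
          (∏ i, Groth.Agent.Elliptic.uI (Groth.Agent.L26.JacRat.ptX k (s i) (hs i)))⁻¹ from ?_)]
      · exact hgood _
      simp only [c, map_mul, map_inv, map_pow, map_prod, Groth.Agent.Elliptic.map_uI]
      rw [hsum fun i => q₀ ≫ a i]
      simp only [hql, hqr, Finset.prod_const, Finset.card_univ, Fintype.card_fin]
      rw [show q₀ ≫ oT = o from Groth.Agent.Elliptic.comp_origin σ hσ q₀, mul_inv, mul_inv_cancel_left]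
    · let q : Groth.Agent.L26.JacRat.onePt k ⟶ T := Over.homMk x hx
      refine (Groth.Agent.L26.JacRat.h_of_good hc q hxU hM ?_).2
      obtain ⟨i⟩ := hMD
      have e1 := congrArg (Groth.Agent.L26.JacRat.toOne k) (Groth.Agent.AbDualLib.cl_congr i)
      rw [show PicF.cl (CohB1.tensorMod M _) = PicF.cl M * PicF.cl (FGA.tensorList _) from rfl,
        Groth.Agent.L26.JacRat.cl_tensorList_ofFn, Groth.L08.Cube.cl_tensorPow, map_mul, map_pow, map_prod] at e1
      simp only [← Groth.Agent.L26.JacRat.val_uI_ptX σ hσ] at e1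
      have e2 : ∀ i, (Groth.Agent.L26.JacRat.toOne k) (PicF.cl (ClSub.idealMod
          (x ≫ WidePullback.π (fun (_ : Fin (2 * g)) => f) i).ker)) =
          (Groth.Agent.Elliptic.uI (q ≫ a i) : PicF.Cl (PicF.XT f (Groth.Agent.L26.JacRat.onePt k))) := fun i => by
        rw [hcA x hx i, Groth.Agent.L26.JacRat.val_uI_ptX]
      simp only [f] at e2
      simp only [e2, ← Units.coe_prod, ← Units.val_pow_eq_pow_val] at e1
      rw [(Units.eq_mul_inv_iff_mul_eq _).2 e1, ← Units.val_mul]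
      simp only [c, map_mul, map_inv, map_pow, map_prod, Groth.Agent.Elliptic.map_uI]
      rw [show q ≫ oT = o from Groth.Agent.Elliptic.comp_origin σ hσ q]
  · let c := (∏ i, Groth.Agent.Elliptic.uI (a (e (Sum.inl i)))) *
      ((∏ i, Groth.Agent.Elliptic.uI (a (e (Sum.inr i)))) * Groth.Agent.Elliptic.uI oT ^ g)⁻¹
    have hc : c ∈ Groth.Agent.L26.PicRep.invU _ :=
      Subgroup.mul_mem _ (Subgroup.prod_mem _ fun i _ => hmem _) (Subgroup.inv_mem _
        (Subgroup.mul_mem _ (Subgroup.prod_mem _ fun i _ => hmem _)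
          (Subgroup.pow_mem _ (Groth.Agent.L26.JacRat.uI_mem _) g)))
    refine ⟨⟨Groth.Agent.L26.PicRep.goodSet f T (c : PicF.Cl (PicF.XT f T)),
      Groth.Agent.L26.PicRep.isOpen_goodSet hc.1⟩, ⟨x₀ (IsLocalRing.closedPoint k), ?_⟩, fun x hx hxU M hM hMD => ?_⟩
    · refine (Groth.Agent.L26.PicRep.goodSet_pull q₀ hc.1).le
        (?_ : (IsLocalRing.closedPoint k : (Groth.Agent.L26.JacRat.onePt k).left) ∈
          Groth.Agent.L26.PicRep.goodSet f (Groth.Agent.L26.JacRat.onePt k) _)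
      rw [show PicF.pullCl (PicF.XTmap f q₀) (c : PicF.Cl (PicF.XT f T)) = _ from
        congrArg Units.val (show Groth.Agent.L26.PicRep.mp f q₀ c =
          (∏ i, Groth.Agent.Elliptic.uI (Groth.Agent.L26.JacRat.ptX k (s i) (hs i)))⁻¹ from ?_)]
      · exact hgood _
      simp only [c, map_mul, map_inv, map_pow, map_prod, Groth.Agent.Elliptic.map_uI, hql, hqr,
        Finset.prod_const, Finset.card_univ, Fintype.card_fin]
      rw [show q₀ ≫ oT = o from Groth.Agent.Elliptic.comp_origin σ hσ q₀, mul_inv, mul_left_comm,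
        mul_inv_cancel, mul_one]
    · let q : Groth.Agent.L26.JacRat.onePt k ⟶ T := Over.homMk x hx
      refine (Groth.Agent.L26.JacRat.h_of_good hc q hxU hM ?_).2
      obtain ⟨i⟩ := hMD
      have e1 := congrArg (Groth.Agent.L26.JacRat.toOne k) (Groth.Agent.AbDualLib.cl_congr i)
      rw [show PicF.cl (CohB1.tensorMod M (CohB1.tensorMod _ _)) =
          PicF.cl M * (PicF.cl (FGA.tensorList _) * PicF.cl (CohB1.tensorPow _ _)) from rfl,
        Groth.Agent.L26.JacRat.cl_tensorList_ofFn, Groth.Agent.L26.JacRat.cl_tensorList_ofFn,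
        Groth.L08.Cube.cl_tensorPow, map_mul, map_mul, map_pow, map_prod, map_prod] at e1
      simp only [← Groth.Agent.L26.JacRat.val_uI_ptX σ hσ] at e1
      have e2 : ∀ i, (Groth.Agent.L26.JacRat.toOne k) (PicF.cl (ClSub.idealMod
          (x ≫ WidePullback.π (fun (_ : Fin (2 * g)) => f) i).ker)) =
          (Groth.Agent.Elliptic.uI (q ≫ a i) : PicF.Cl (PicF.XT f (Groth.Agent.L26.JacRat.onePt k))) := fun i => by
        rw [hcA x hx i, Groth.Agent.L26.JacRat.val_uI_ptX]
      simp only [f] at e2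
      simp only [e2, ← Units.coe_prod, ← Units.val_pow_eq_pow_val, ← Units.val_mul] at e1
      rw [(Units.eq_mul_inv_iff_mul_eq _).2 e1, ← Units.val_mul]
      simp only [c, map_mul, map_inv, map_pow, map_prod, Groth.Agent.Elliptic.map_uI]
      rw [show q ≫ oT = o from Groth.Agent.Elliptic.comp_origin σ hσ q]
      rfl

end Groth.Agent.S17824
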