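import Groth.Statements.S17825
import Mathlib.AlgebraicGeometry.Morphisms.Separated
import Mathlib.CategoryTheory.Yoneda

set_option autoImplicit false
universe u
open CategoryTheory CategoryTheory.Limits AlgebraicGeometry
open JacVar

namespace Groth.Agent.S17825

/-- Let S be a scheme, Y an S-scheme separated over S, F a presheaf of sets on the category of
S-schemes, f : h_Y ⟶ F a morphism from the functor of points of Y, and s : F ⟶ h_Y a section of f (s
followed by f is the identity). Then F is represented by a closed subscheme of Y: there are an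
S-scheme Z, a morphism i : Z ⟶ Y over S which is a closed immersion, and an isomorphism F ≅ h_Z
whose composite with h_i : h_Z ⟶ h_Y is s. (The published lemma treats the case where Y is the r-th
symmetric power of a curve, F the functor of degree-r invertible families modulo twisting and f the
divisor-class map.) -/
theorem result {S : Scheme.{u}} (Y : Over S) [IsSeparated Y.hom]
    (F : (Over S)ᵒᵖ ⥤ Type u) (f : yoneda.obj Y ⟶ F) (s : F ⟶ yoneda.obj Y) (hsf : s ≫ f = 𝟙 F) :
    ∃ (Z : Over S) (i : Z ⟶ Y), IsClosedImmersion i.left ∧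
      ∃ e : F ≅ yoneda.obj Z, e.hom ≫ yoneda.map i = s := by
  obtain ⟨e, he⟩ : ∃ e : Y ⟶ Y, yoneda.map e = f ≫ s :=
    ⟨Yoneda.fullyFaithful.preimage (f ≫ s), Yoneda.fullyFaithful.map_preimage (f ≫ s)⟩
  have hee : e ≫ e = e ≫ 𝟙 Y := by
    rw [Category.comp_id]
    apply Yoneda.fullyFaithful.map_injective
    rw [Functor.map_comp, he, Category.assoc, reassoc_of% hsf]
  let i := equalizer.ι e (𝟙 Y)
  let p : Y ⟶ equalizer e (𝟙 Y) := equalizer.lift e hee
  have hpi : p ≫ i = e := equalizer.lift_ι _ _
  have hie : i ≫ e = i := (equalizer.condition e (𝟙 Y)).trans (Category.comp_id _)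
  have hip : i ≫ p = 𝟙 _ := by
    apply equalizer.hom_ext
    rw [Category.assoc, Category.id_comp]
    exact (congrArg (i ≫ ·) hpi).trans hie
  refine ⟨equalizer e (𝟙 Y), i, inferInstanceAs (IsClosedImmersion (equalizer.ι e (𝟙 Y)).left),
    ⟨s ≫ yoneda.map p, yoneda.map i ≫ f, ?_, ?_⟩, ?_⟩
  · rw [Category.assoc, ← yoneda.map_comp_assoc, hpi, he, Category.assoc, hsf, Category.comp_id, hsf]
  · rw [Category.assoc, ← reassoc_of% he, ← Functor.map_comp, ← Functor.map_comp, ← Category.assoc,
      hie, hip, CategoryTheory.Functor.map_id]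
  · show (s ≫ yoneda.map p) ≫ yoneda.map i = s
    rw [Category.assoc, ← Functor.map_comp, hpi, he, reassoc_of% hsf]

end Groth.Agent.S17825
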