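import Groth.Statements.S19473
import Groth.Agent.L25.GrpBasics
import Mathlib.AlgebraicGeometry.Morphisms.FormallyUnramified

set_option autoImplicit false
universe u
open CategoryTheory CategoryTheory.Limits MonoidalCategory CartesianMonoidalCategory MonObj GrpObj AlgebraicGeometry
open AlgGrp

namespace Groth.Agent.S19473

lemma isOpenImmersion_section {X S : Scheme.{u}} (f : X ⟶ S) (g : S ⟶ X) (hg : g ≫ f = 𝟙 S)
    [IsOpenImmersion (pullback.diagonal f)] : IsOpenImmersion g := by
  have h1 : IsOpenImmersion (pullback.lift (𝟙 S) g (by simp) : S ⟶ pullback (g ≫ f) f) :=
    MorphismProperty.of_isPullback (P := @IsOpenImmersion) (pullback_lift_diagonal_isPullback g f) ‹_›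
  have : IsIso (g ≫ f) := by rw [hg]; infer_instance
  rw [← pullback.lift_snd (f := g ≫ f) (g := f) (𝟙 S) g (by simp)]
  infer_instance


/-- Let S be a scheme and G an S-group scheme whose structure morphism G → S is locally of finite type.
Then G → S is unramified — formally unramified, since it is locally of finite type — if and only if
the identity section S → G is an open immersion. (The separated and quasi-separated clauses of the
published item are separate results.) -/
theorem result (S : Scheme.{u})
    (G : Over S) [GrpObj G] [LocallyOfFiniteType G.hom] :
    FormallyUnramified G.hom ↔ IsOpenImmersion η[G].left := by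
  refine ⟨fun h => isOpenImmersion_section G.hom η[G].left (Groth.L25.GrpBasics.unit_comp_hom G), fun h => ?_⟩
  have : IsOpenImmersion (pullback.diagonal G.hom) :=
    Groth.L25.GrpBasics.diagonal_of_unit @IsOpenImmersion G h
  infer_instance
end Groth.Agent.S19473
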