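import Groth.Statements.S17831
import Groth.Agent.L21.AutSch.Infinitesimal
import Groth.Agent.L21.AutSch.OpenUnit
import Groth.Agent.L14.DefLift.AutLift
import Groth.Agent.S19473

set_option autoImplicit false
set_option backward.isDefEq.respectTransparency false
set_option backward.isDefEq.respectTransparency.types false
set_option linter.style.haveILetI false
set_option synthInstance.maxHeartbeats 400000
universe u
open CategoryTheory MonoidalCategory CartesianMonoidalCategory MonObj GrpObj AlgebraicGeometry
open AutSch

namespace Groth.Agent.S17831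

/-- Let k be a field and X a proper k-scheme of dimension at most 1, and let the k-group scheme G,
locally of finite type over k, with its action a be the automorphism group scheme of X over k. Then
G → Spec k is unramified exactly when Der_k(O_X, O_X) = 0, i.e. when every k-derivation of O_X into
O_X takes the value zero on every section over every open. (Unramified is stated as formally
unramified, G being locally of finite type. The published statement also lists as equivalent that
the automorphism group scheme is geometrically reduced of dimension zero, and a condition on the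
moduli stack of curves; this row states the unramified condition only.) -/
theorem result (k : Type u) [Field k]
    (X : Over (Spec (CommRingCat.of k))) [IsProper X.hom] (hdim : topologicalKrullDim ↥X.left ≤ 1)
    (G : Over (Spec (CommRingCat.of k))) [GrpObj G] [LocallyOfFiniteType G.hom] (a : AlgGrp.Action G X)
    (hG : AutSch.Represents X G a) :
    FormallyUnramified G.hom ↔
      ∀ (D : OmegaSh.Der X.hom (Coh.structureModule X.left)) (U : X.left.Opens) (s : Γ(X.left, U)),
        D.app U s = 0 := by
  haveI : QuasiSeparated X.hom := inferInstance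
  have hrep := (AutSch.represents_iff (X := X) G a).1 hG
  have hfam1 : ∀ (T : Over (ArtFun.Art.specPt k)), AutSch.famOf a (1 : T ⟶ G) = fst X T :=
    fun T => Groth.L21.AutSch.famOf_one a T
  have huniq : ∀ (T : Over (ArtFun.Art.specPt k)) (g g' : T ⟶ G),
      AutSch.famOf a g = AutSch.famOf a g' → g = g' := fun T g g' h => by
    obtain ⟨g₀, -, hu⟩ := hrep T _ (Groth.L21.AutSch.isAutFamily_famOf a g)
    exact (hu g rfl).trans (hu g' h.symm).symm
  let A : ArtFun.Art k k := ArtFun.Art.dual k k
  let r : 𝟙_ (Over (ArtFun.Art.specPt k)) ⟶ Groth.L14.LocHilb.ptOver A := Groth.L14.LocHilb.resOver A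
  rw [Groth.Agent.S19473.result _ G]
  constructor
  · intro hη
    show Groth.L14.DefLift.DerZero X.hom
    rw [Groth.L21.AutSch.derZero_iff_subsingleton_pts]
    refine ⟨fun φ ψ => ?_⟩
    suffices H : ∀ φ : Groth.L14.HomTan.Pts X.hom X.hom (𝟙 X.left),
        φ.1 = Groth.L14.LocHilb.prX X.hom from Subtype.ext ((H φ).trans (H ψ).symm)
    intro φ
    let Φ : X ⊗ Groth.L14.LocHilb.ptOver A ⟶ X := Over.homMk φ.1 (φ.2.1.trans Limits.pullback.condition.symm)
    have hΦ : AutSch.IsAutFamily Φ := by
      let ξ := Groth.L14.LocHilb.XE X.hom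
      let E : ξ.total ⟶ ξ.total := (AutSch.endOf Φ).left
      have hf : E ≫ ξ.f = ξ.f := congrArg CommaMorphism.left (AutSch.endOf_snd Φ)
      have hfst : E ≫ Groth.L14.LocHilb.prX X.hom = φ.1 := congrArg CommaMorphism.left (AutSch.endOf_fst Φ)
      have hi : ξ.i ≫ E = ξ.i := by
        apply Limits.pullback.hom_ext
        · exact ((Category.assoc _ _ _).trans ((congrArg (ξ.i ≫ ·) hfst).trans φ.2.2)).trans
            (ArtFun.Art.XAincl_fst X.hom A).symm
        · exact (Category.assoc _ _ _).trans (congrArg (ξ.i ≫ ·) hf)
      haveI : IsIso E := Groth.L14.DefLift.isIso_of_hom E hf hi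
      haveI : IsIso ((Over.forget _).map (AutSch.endOf Φ)) := ‹IsIso E›
      exact isIso_of_reflects_iso _ (Over.forget _)
    obtain ⟨g, hg, -⟩ := hrep _ Φ hΦ
    have hrg : r ≫ g = η[G] := by
      rw [← Groth.L21.AutSch.one_unit]
      refine huniq _ _ _ ?_
      rw [AutSch.famOf_comp, hg, hfam1]
      refine Over.OverMorphism.ext ?_
      have h1 : Groth.L21.AutSch.sect ≫ (AutSch.pullFam r Φ).left = 𝟙 X.left :=
        (Groth.L21.AutSch.incl_family Φ).symm.trans φ.2.2
      haveI : IsIso (Groth.L21.AutSch.sect (X := X)) := by
        refine ⟨(fst X (𝟙_ (Over (ArtFun.Art.specPt k)))).left, Groth.L21.AutSch.sect_fst, ?_⟩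
        apply Limits.pullback.hom_ext
        · exact ((Category.assoc _ _ _).trans
            (congrArg (_ ≫ ·) (Limits.pullback.lift_fst _ _ _))).trans
              ((Category.comp_id _).trans (Category.id_comp _).symm)
        · exact ((Category.assoc _ _ _).trans (congrArg (_ ≫ ·) (Limits.pullback.lift_snd _ _ _))).trans
            ((Limits.pullback.condition).trans ((Category.comp_id _).trans (Category.id_comp _).symm))
      exact (cancel_epi (Groth.L21.AutSch.sect (X := X))).1 (h1.trans Groth.L21.AutSch.sect_fst.symm)
    have hg1 := Groth.L21.AutSch.eq_one_of_open hη g hrg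
    rw [hg1, hfam1] at hg
    exact (congrArg CommaMorphism.left hg).symm
  · intro h0
    haveI := Groth.L21.AutSch.derZero_iff_subsingleton_pts.1 (show Groth.L14.DefLift.DerZero X.hom from h0)
    refine Groth.L21.AutSch.isOpenImmersion_of_subsingleton_tangent G.hom η[G].left (Over.w η[G])
      ⟨fun φ ψ => Groth.L14.LocHilb.StHom.pt_injective ?_⟩
    suffices H : ∀ φ : Groth.L14.LocHilb.StHom G.hom η[G].left A,
        Groth.L14.LocHilb.ptHom φ = 1 from congrArg CommaMorphism.left ((H φ).trans (H ψ).symm)
    intro φ
    let Φ := AutSch.famOf a (Groth.L14.LocHilb.ptHom φ)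
    refine huniq _ _ _ ?_
    rw [hfam1]
    have hr : r ≫ Groth.L14.LocHilb.ptHom φ = η[G] := Over.OverMorphism.ext φ.specRes_pt
    have hi : ArtFun.Art.XAincl X.hom A ≫ Φ.left = 𝟙 X.left := by
      rw [Groth.L21.AutSch.incl_family, ← AutSch.famOf_comp, hr, ← Groth.L21.AutSch.one_unit, hfam1]
      exact Groth.L21.AutSch.sect_fst
    exact Over.OverMorphism.ext (congrArg Subtype.val (Subsingleton.elim
      (α := Groth.L14.HomTan.Pts X.hom X.hom (𝟙 X.left))
      ⟨Φ.left, (Over.w Φ).trans Limits.pullback.condition, hi⟩ (Groth.L21.AutSch.trivPt X.hom)))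

end Groth.Agent.S17831
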