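import Groth.Statements.S17832
import Groth.Agent.L17.AutFac.Lift
import Groth.Agent.L13.RatSing.Birat

set_option autoImplicit false
set_option linter.style.haveILetI false
universe u
open CategoryTheory MonoidalCategory CartesianMonoidalCategory MonObj GrpObj AlgebraicGeometry
open AutSch

namespace Groth.Agent.S17832

/-- Over an algebraically closed field k, let X and Y be normal projective varieties (integral k-schemes
whose local rings are integrally closed domains, each admitting a closed immersion into a projective
space over k) and f : X → Y a birational k-morphism: f restricts to an isomorphism over some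
non-empty open subset of Y. Let (GX, aX) and (GY, aY) be the automorphism group schemes of X and Y
with their universal actions, both locally of finite type, and let H be a closed subgroup scheme of
GY (e : H → GY a homomorphism which is a closed immersion) whose action on Y through e lifts to an
action b of H on X for which f is equivariant. Then the homomorphism ρ : H → GX through which b is
obtained from the universal action is a closed immersion. (The published statement takes for H the
reduced automorphism group of Y; the form here allows any closed subgroup scheme of the automorphism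
group scheme whose action lifts.) -/
theorem result (k : Type u) [Field k] [IsAlgClosed k]
    (X Y : Over (Spec (CommRingCat.of k))) [IsIntegral X.left] [IsIntegral Y.left]
    (hXn : Pi1.IsNormalScheme X.left) (hYn : Pi1.IsNormalScheme Y.left)
    (hX : RelProj.IsHProjective X.hom) (hY : RelProj.IsHProjective Y.hom)
    (f : X ⟶ Y) (U : Y.left.Opens) (hU : (U : Set ↥Y.left).Nonempty) (hf : IsIso (f.left ∣_ U))
    (GX : Over (Spec (CommRingCat.of k))) [GrpObj GX] [LocallyOfFiniteType GX.hom] (aX : AlgGrp.Action GX X)
    (hGX : AutSch.Represents X GX aX)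
    (GY : Over (Spec (CommRingCat.of k))) [GrpObj GY] [LocallyOfFiniteType GY.hom] (aY : AlgGrp.Action GY Y)
    (hGY : AutSch.Represents Y GY aY)
    (H : Over (Spec (CommRingCat.of k))) [GrpObj H] (e : H ⟶ GY) [IsMonHom e] (he : IsClosedImmersion e.left)
    (b : AlgGrp.Action H X) (hb : (H ◁ f) ≫ (e ▷ Y) ≫ aY.act = b.act ≫ f)
    (ρ : H ⟶ GX) [IsMonHom ρ] (hρ : (ρ ▷ X) ≫ aX.act = b.act) :
    IsClosedImmersion ρ.left := by
  haveI : IsProper X.hom := Groth.L17.AutFac.isProper_of_isHProjective hX
  haveI : IsProper Y.hom := Groth.L17.AutFac.isProper_of_isHProjective hY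
  haveI : IsProper f.left := by
    haveI : IsProper (f.left ≫ Y.hom) := by rw [Over.w f]; infer_instance
    exact IsProper.of_comp f.left Y.hom
  have hfO : ∀ V : Y.left.Opens, IsIso (f.left.app V) :=
    Groth.L13.RatSing.isIso_app_of_isIso_restrict f.left hYn U hU
  have hne : (f.left ⁻¹ᵁ U : Set X.left).Nonempty := by
    obtain ⟨y, hy⟩ := hU
    obtain ⟨x, hx⟩ := (Groth.L17.AutFac.surjective_of_isIso_app f.left hfO).surj y
    exact ⟨x, show f.left x ∈ U from hx ▸ hy⟩
  obtain ⟨D, d, hd, hD⟩ := Groth.L17.AutFac.exists_descLocus f hfO aX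
  -- families on the two sides
  have hsq : ∀ {T : Over (Spec (CommRingCat.of k))} (h : T ⟶ H),
      (f ▷ T) ≫ AutSch.famOf aY (h ≫ e) = AutSch.famOf aX (h ≫ ρ) ≫ f := fun {T} h => by
    rw [Groth.L17.AutFac.famOf_comp_hom aX b ρ hρ h, AutSch.famOf, AutSch.famOf, Category.assoc, ← hb,
      lift_whiskerLeft_assoc, lift_whiskerRight_assoc, comp_lift_assoc, whiskerRight_snd_assoc,
      whiskerRight_fst, Category.assoc]
  have hGY' := (AutSch.represents_iff GY aY).1 hGY
  have hGX' := (AutSch.represents_iff GX aX).1 hGX
  obtain ⟨z, hz⟩ := (hD H ρ).2 ⟨AutSch.famOf aY e, Groth.L17.AutFac.isAutFamily_famOf aY e,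
    by simpa using hsq (𝟙 H)⟩
  obtain ⟨ψ, hψ, hψd⟩ := (hD D d).1 ⟨𝟙 D, Category.id_comp d⟩
  obtain ⟨τ, hτ, -⟩ := hGY' D ψ hψ
  -- `H` is the pullback of the closed subgroup along `τ`
  have hτz : ∀ {T : Over (Spec (CommRingCat.of k))} (t : T ⟶ D),
      (f ▷ T) ≫ AutSch.famOf aY (t ≫ τ) = AutSch.famOf aX (t ≫ d) ≫ f := fun {T} t => by
    rw [AutSch.famOf_comp, AutSch.famOf_comp, AutSch.pullFam, AutSch.pullFam, hτ, Category.assoc, ← hψd,
      whisker_exchange_assoc]
  have hze : z ≫ τ = e := by
    refine (hGY' H _ (Groth.L17.AutFac.isAutFamily_famOf aY e)).unique ?_ rfl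
    apply Groth.L17.AutFac.hom_ext_whiskerRight f hfO
    rw [hτz, hz]
    simpa using (hsq (𝟙 H)).symm
  have hpb : ∀ {T : Over (Spec (CommRingCat.of k))} (t : T ⟶ D) (h : T ⟶ H), t ≫ τ = h ≫ e → h ≫ z = t := by
    intro T t h he'
    haveI : Mono d := Over.mono_of_mono_left d
    rw [← cancel_mono d, Category.assoc, hz]
    refine (hGX' T _ (Groth.L17.AutFac.isAutFamily_famOf aX (t ≫ d))).unique ?_ rfl
    refine (Groth.L17.AutFac.family_ext f U hne (Groth.L17.AutFac.isAutFamily_famOf aX (t ≫ d)) ?_).symm
    rw [← hτz t, he', hsq]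
  haveI : IsClosedImmersion z.left := by
    have hw : CategoryTheory.Limits.pullback.fst e.left τ.left ≫ H.hom =
        CategoryTheory.Limits.pullback.snd e.left τ.left ≫ D.hom := by
      rw [← Over.w e, CategoryTheory.Limits.pullback.condition_assoc, Over.w τ]
    let P : Over (Spec (CommRingCat.of k)) := Over.mk (CategoryTheory.Limits.pullback.fst e.left τ.left ≫ H.hom)
    let p₁ : P ⟶ H := Over.homMk (CategoryTheory.Limits.pullback.fst e.left τ.left) rfl
    let p₂ : P ⟶ D := Over.homMk (CategoryTheory.Limits.pullback.snd e.left τ.left) hw.symm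
    have hp : p₁ ≫ z = p₂ := hpb p₂ p₁ (Over.OverMorphism.ext CategoryTheory.Limits.pullback.condition.symm)
    have hl : e.left = z.left ≫ τ.left := congrArg CommaMorphism.left hze.symm
    let j : H.left ⟶ CategoryTheory.Limits.pullback e.left τ.left :=
      CategoryTheory.Limits.pullback.lift (𝟙 _) z.left (by rw [Category.id_comp]; exact hl)
    have h1 : CategoryTheory.Limits.pullback.fst e.left τ.left ≫ j = 𝟙 _ := by
      apply CategoryTheory.Limits.pullback.hom_ext
      · simp only [j, Category.assoc, CategoryTheory.Limits.pullback.lift_fst, Category.comp_id, Category.id_comp]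
      · simp only [j, Category.assoc, CategoryTheory.Limits.pullback.lift_snd, Category.id_comp]
        exact congrArg CommaMorphism.left hp
    haveI : IsIso j := ⟨_, CategoryTheory.Limits.pullback.lift_fst _ _ _, h1⟩
    have : z.left = j ≫ CategoryTheory.Limits.pullback.snd e.left τ.left :=
      (CategoryTheory.Limits.pullback.lift_snd _ _ _).symm
    rw [this]
    infer_instance
  rw [← hz, Over.comp_left]
  infer_instance


end Groth.Agent.S17832
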