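import Groth.Statements.S17833
import Groth.Agent.L23.SourceRegular
import Groth.Agent.L26.AV.FibConst
import Groth.Agent.L25.SplitSub.SchImage
import Mathlib.AlgebraicGeometry.Sites.Fpqc

set_option autoImplicit false
universe u
open CategoryTheory MonoidalCategory CartesianMonoidalCategory MonObj GrpObj AlgebraicGeometry
open AlgGrp

namespace Groth.Agent.S17833

/-- Over an algebraically closed field k, let G be a connected smooth k-group scheme of finite type (in
the terminology of the notes, a smooth connected algebraic group), and H an affine normal subgroup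
scheme of G such that the quotient G/H is an abelian variety: here j : H → G is the kernel of a flat
surjective homomorphism q : G → Q of k-group schemes with Q proper over k, and H is affine. Then an
automorphism u of the algebraic group G which fixes H pointwise (j ∘ u = j) and induces the identity
of Q (q ∘ u = q) is the identity. Equivalently, the map from the group of automorphisms of G fixing
H pointwise to the automorphism group of G/H is injective. -/
theorem result (k : Type u) [Field k] [IsAlgClosed k]
    (G H Q : Over (Spec (CommRingCat.of k))) [GrpObj G] [GrpObj H] [GrpObj Q]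
    [Smooth G.hom] [QuasiCompact G.hom] [ConnectedSpace ↥G.left]
    [IsAffine H.left] [IsProper Q.hom]
    (j : H ⟶ G) [IsMonHom j] (q : G ⟶ Q) [IsMonHom q] [Flat q.left] [Surjective q.left]
    (hker : AlgGrp.IsKernel j q)
    (u : G ≅ G) [IsMonHom u.hom] (hH : j ≫ u.hom = j) (hQ : u.hom ≫ q = q) :
    u.hom = 𝟙 G := by
  haveI : Surjective q.left := inferInstance
  let δ : G ⟶ G := u.hom * (𝟙 G)⁻¹
  have hδ : δ ≫ q = 1 := by
    simp only [δ]
    rw [MonObj.mul_comp, GrpObj.inv_comp, hQ, Category.id_comp, mul_inv_cancel]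
  obtain ⟨d, hd, -⟩ := hker.exists_lift δ (toUnit G) (by rw [hδ]; rfl)
  have hinv : ∀ (T : Over (Spec (CommRingCat.of k))) (a b : T ⟶ G), a ≫ q = b ≫ q → a ≫ δ = b ≫ δ := by
    intro T a b hab
    obtain ⟨x, hx, -⟩ := hker.exists_lift (a⁻¹ * b) (toUnit T) (by
      rw [MonObj.mul_comp, GrpObj.inv_comp, hab, inv_mul_cancel]; rfl)
    have hb : b = a * (x ≫ j) := by rw [hx, mul_inv_cancel_left]
    simp only [δ]
    rw [MonObj.comp_mul, GrpObj.comp_inv, MonObj.comp_mul, GrpObj.comp_inv, Category.comp_id, Category.comp_id, hb,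
      MonObj.mul_comp, Category.assoc, hH]
    group
  haveI : QuasiCompact q.left := by
    have : QuasiCompact (q.left ≫ Q.hom) := by rw [Over.w q]; infer_instance
    exact QuasiCompact.of_comp q.left Q.hom
  haveI : IsReduced G.left := Groth.L23.isReduced_of_smooth G.hom
  haveI : IsReduced Q.left := by
    haveI : ∀ y, _root_.IsReduced (Q.left.presheaf.stalk y) := fun y => by
      obtain ⟨x, rfl⟩ := q.left.surjective y
      exact isReduced_of_injective _ (Groth.L25.SplitSub.stalkMap_injective' q.left x)
    exact isReduced_of_isReduced_stalk Q.left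
  haveI : ConnectedSpace ↥Q.left := q.left.surjective.connectedSpace q.left.continuous
  haveI : EffectiveEpi q.left := inferInstance
  have hw : ∀ {Z : Scheme.{u}} (g₁ g₂ : Z ⟶ G.left), g₁ ≫ q.left = g₂ ≫ q.left → g₁ ≫ d.left = g₂ ≫ d.left := by
    intro Z g₁ g₂ hg
    let T : Over (Spec (CommRingCat.of k)) := Over.mk (g₁ ≫ G.hom)
    let a : T ⟶ G := Over.homMk g₁ rfl
    let b : T ⟶ G := Over.homMk g₂ (by
      show g₂ ≫ G.hom = g₁ ≫ G.hom
      rw [← Over.w q, ← Category.assoc, ← Category.assoc, hg])
    haveI : Mono j := ⟨fun a b h => hker.hom_ext h (toUnit_unique _ _)⟩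
    have h := hinv T a b (Over.OverMorphism.ext hg)
    rw [← hd, ← Category.assoc, ← Category.assoc, cancel_mono] at h
    exact congrArg (fun m => m.left) h
  let D : Q.left ⟶ H.left := EffectiveEpi.desc q.left d.left hw
  have hD : q.left ≫ D = d.left := EffectiveEpi.fac _ _ _
  have hsurj := Groth.Agent.AV.surjective_appTop_algClosed Q.hom
  have hDc : D = Q.hom ≫ η[Q].left ≫ D := by
    refine ext_of_isAffine (CommRingCat.hom_ext (RingHom.ext fun x => ?_))
    obtain ⟨c, hc⟩ := hsurj (D.appTop x)
    show D.appTop x = (Q.hom ≫ η[Q].left ≫ D).appTop x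
    rw [Scheme.Hom.comp_appTop, Scheme.Hom.comp_appTop, CommRingCat.comp_apply, CommRingCat.comp_apply, ← hc,
      ← CommRingCat.comp_apply Q.hom.appTop η[Q].left.appTop, ← Scheme.Hom.comp_appTop,
      show η[Q].left ≫ Q.hom = 𝟙 _ from Over.w η[Q]]
    rfl
  have hηd : η[G] ≫ δ = 1 := by
    simp only [δ]
    rw [MonObj.comp_mul, GrpObj.comp_inv, Category.comp_id, IsMonHom.one_hom, mul_inv_cancel]
  have h1 : d = toUnit G ≫ η[G] ≫ d := by
    refine Over.OverMorphism.ext ?_
    rw [← hD, Over.comp_left, Over.comp_left, ← hD]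
    conv_lhs => rw [hDc]
    rw [← Category.assoc, Over.w q, ← Category.assoc η[G].left q.left, ← Over.comp_left, IsMonHom.one_hom]
    rfl
  have hδ1 : δ = 1 := by
    rw [← hd, h1, Category.assoc, Category.assoc, hd, hηd, MonObj.comp_one]
  exact mul_inv_eq_one.1 hδ1

end Groth.Agent.S17833
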