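import Groth.Statements.S17837
import Groth.Agent.L17.AutFac.Lift

set_option autoImplicit false
set_option linter.style.haveILetI false
universe u
open CategoryTheory MonoidalCategory CartesianMonoidalCategory MonObj GrpObj AlgebraicGeometry
open AutSch

namespace Groth.Agent.S17837

/-- Over an algebraically closed field k, let f : X → Y be a fibration: X and Y are projective varieties
(integral k-schemes with closed immersions into projective spaces over k) and f is a k-morphism with
O_Y → f_*O_X an isomorphism (bijective on sections over every open of Y). Let (GX, aX) be the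
automorphism group scheme of X with its universal action, locally of finite type, and let the
k-group scheme Gf with its action af on X represent the automorphisms of f: the families φ of
automorphisms of X parametrised by T whose associated T-automorphism of X × T descends along f × T
to the T-automorphism associated with some family of automorphisms of Y. Then the homomorphism ρ :
Gf → GX through which af is obtained from the universal action (the first projection from the
automorphism group scheme of f) is a closed immersion. -/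
theorem result (k : Type u) [Field k] [IsAlgClosed k]
    (X Y : Over (Spec (CommRingCat.of k))) [IsIntegral X.left] [IsIntegral Y.left]
    (hX : RelProj.IsHProjective X.hom) (hY : RelProj.IsHProjective Y.hom)
    (f : X ⟶ Y) (hf : ∀ U : Y.left.Opens, IsIso (f.left.app U))
    (GX : Over (Spec (CommRingCat.of k))) [GrpObj GX] [LocallyOfFiniteType GX.hom] (aX : AlgGrp.Action GX X)
    (hGX : AutSch.Represents X GX aX)
    (Gf : Over (Spec (CommRingCat.of k))) [GrpObj Gf] (af : AlgGrp.Action Gf X)
    (hGf : AutSch.RepresentsSub X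
      (fun T φ => ∃ ψ : Y ⊗ T ⟶ Y, AutSch.IsAutFamily ψ ∧ AutSch.endOf φ ≫ (f ▷ T) = (f ▷ T) ≫ AutSch.endOf ψ) Gf af)
    (ρ : Gf ⟶ GX) [IsMonHom ρ] (hρ : (ρ ▷ X) ≫ aX.act = af.act) :
    IsClosedImmersion ρ.left := by
  haveI : IsProper X.hom := Groth.L17.AutFac.isProper_of_isHProjective hX
  haveI : IsProper Y.hom := Groth.L17.AutFac.isProper_of_isHProjective hY
  haveI : IsProper f.left := by
    haveI : IsProper (f.left ≫ Y.hom) := by rw [Over.w f]; infer_instance
    exact IsProper.of_comp f.left Y.hom
  obtain ⟨D, d, hd, hD⟩ := Groth.L17.AutFac.exists_descLocus f hf aX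
  have hP : ∀ (T : Over (Spec (CommRingCat.of k))) (φ : X ⊗ T ⟶ X) (g : T ⟶ GX), AutSch.famOf aX g = φ →
      ((∃ ψ : Y ⊗ T ⟶ Y, AutSch.IsAutFamily ψ ∧ AutSch.endOf φ ≫ (f ▷ T) = (f ▷ T) ≫ AutSch.endOf ψ) ↔
        Groth.L17.AutFac.Desc f aX g) := by
    rintro T φ g rfl
    exact exists_congr fun ψ => and_congr_right fun _ => Groth.L17.AutFac.desc_endOf f _ ψ
  have hρ' : ∀ {T : Over (Spec (CommRingCat.of k))} (h : T ⟶ Gf), AutSch.famOf aX (h ≫ ρ) = AutSch.famOf af h :=
    fun h => Groth.L17.AutFac.famOf_comp_hom aX af ρ hρ h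
  obtain ⟨z, hz⟩ := (hD Gf ρ).2 ((hP _ _ ρ (by simpa using hρ' (𝟙 Gf))).1 (hGf.1 Gf (𝟙 Gf)))
  obtain ⟨w, hw, -⟩ := hGf.2 D (AutSch.famOf aX d) (Groth.L17.AutFac.isAutFamily_famOf aX d)
    ((hP _ _ d rfl).2 ((hD D d).1 ⟨𝟙 D, Category.id_comp d⟩))
  have hwρ : w ≫ ρ = d :=
    (((AutSch.represents_iff GX aX).1 hGX) D _ (Groth.L17.AutFac.isAutFamily_famOf aX d)).unique
      (by rw [hρ', hw]) rfl
  have hzw : z ≫ w = 𝟙 Gf := by
    refine (hGf.2 Gf (AutSch.famOf af (𝟙 Gf)) (Groth.L17.AutFac.isAutFamily_famOf af _) (hGf.1 _ _)).unique ?_ rfl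
    rw [← hρ', Category.assoc, hwρ, hz, ← hρ', Category.id_comp]
  haveI : Mono d := Over.mono_of_mono_left d
  have hwz : w ≫ z = 𝟙 D := by rw [← cancel_mono d, Category.assoc, hz, hwρ, Category.id_comp]
  haveI : IsIso z := ⟨w, hzw, hwz⟩
  haveI : IsIso z.left := (Over.forget _).map_isIso z
  rw [← hz, Over.comp_left]
  infer_instance


end Groth.Agent.S17837
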