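import Groth.Statements.S17839
import Groth.Agent.L23.DimFunSch
import Groth.Agent.L04.RegularPd
import Groth.Agent.L22.LocalDim
-- import your own Groth.Agent.* helpers here

set_option autoImplicit false
universe u
open CategoryTheory AlgebraicGeometry
open Cyc

namespace Groth.Agent.S17839

/-- Let S be a locally Noetherian scheme all of whose local rings are regular and universally catenary,
and δS : S → ℤ the function with δS(s) = −dim O_{S,s}. Let f : X ⟶ S be locally of finite type and δ
: X → ℤ the induced function, δ(x) = δS(f x) + trdeg_{κ(f x)} κ(x) — the S-dimension: for X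
irreducible with generic point ξ, δ(ξ) is the transcendence degree of the function field of X over
κ(f ξ) minus dim O_{S, f ξ}. Then δ is a dimension function on X: it drops strictly along every
nontrivial specialization and by exactly one along immediate ones; equivalently, for irreducible
closed subsets V ⊆ W of X with generic points v and w, codim(V, W) = δ(w) − δ(v). (The published
statement fixes S Noetherian, excellent, regular and separated and X separated of finite type over
S; its proof uses only the hypotheses listed.) -/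
theorem result {X S : Scheme.{u}} (f : X ⟶ S)
    [LocallyOfFiniteType f] [IsLocallyNoetherian S]
    (hreg : ∀ s : S, IsRegularLocalRing (S.presheaf.stalk s))
    (huc : ∀ s : S, CAlg.IsUniversallyCatenary (S.presheaf.stalk s))
    (δS : S → ℤ) (hδS : ∀ s : S, ringKrullDim (S.presheaf.stalk s) = ((-δS s).toNat : WithBot ℕ∞) ∧ δS s ≤ 0)
    (δ : X → ℤ) (hδ : Cyc.DeltaCompat f δ δS) :
    Cyc.IsDimFun X δ := by
  refine Groth.L23.DimFun.isDimFun_of_deltaCompat f huc (fun s t hst hne => ?_) hδ
  obtain ⟨_, ⟨U, hU, rfl⟩, htU, -⟩ :=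
    S.isBasis_affineOpens.exists_subset_of_mem_open (Set.mem_univ t) isOpen_univ
  change S.Opens at U
  replace hU : IsAffineOpen U := hU
  have hsU : s ∈ U := hst.mem_open U.2 htU
  haveI : IsNoetherianRing Γ(S, U) := IsLocallyNoetherian.component_noetherian ⟨U, hU⟩
  haveI : IsRegularRing Γ(S, U) :=
    { isRegularLocalRing_localization := fun P _ => by
        let q : Spec Γ(S, U) := (⟨P, inferInstance⟩ : PrimeSpectrum Γ(S, U))
        haveI := hreg (hU.fromSpec q)
        exact IsRegularLocalRing.of_ringEquiv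
          ((asIso (hU.fromSpec.stalkMap q) ≪≫ Spec.stalkIso Γ(S, U) q).commRingCatIsoToRingEquiv) }
  let p := (hU.primeIdealOf ⟨s, hsU⟩).asIdeal
  let q := (hU.primeIdealOf ⟨t, htU⟩).asIdeal
  have hpq : p < q := by
    refine lt_of_le_of_ne (Groth.L22.LocalDim.le_of_specializes hU hsU htU hst) fun e => hne ?_
    rw [← Groth.L22.LocalDim.fromSpec_prime hU hsU, ← Groth.L22.LocalDim.fromSpec_prime hU htU, PrimeSpectrum.ext e]
  have hh : ∀ z : S, ∀ hz : z ∈ U, (hU.primeIdealOf ⟨z, hz⟩).asIdeal.height = ((-δS z).toNat : ℕ∞) := fun z hz =>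
    WithBot.coe_injective ((Groth.L22.LocalDim.dim_stalk_eq_height hU hz).symm.trans (hδS z).1)
  have hs0 := (hδS s).2
  have ht0 := (hδS t).2
  have hps : p.height = ((-δS s).toNat : ℕ∞) := hh s hsU
  have hqt : q.height = ((-δS t).toNat : ℕ∞) := hh t htU
  have hsum := Groth.L04.height_add_height_quotient p q hpq.le
  have hlt := Ideal.height_add_one_le_of_lt_of_isPrime hpq
  rw [hps, hqt] at hlt
  have hlt' : (-δS s).toNat + 1 ≤ (-δS t).toNat := by exact_mod_cast hlt
  refine ⟨by omega, fun himm => ?_⟩
  haveI : (q.map (Ideal.Quotient.mk p)).IsPrime :=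
    Ideal.map_isPrime_of_surjective Ideal.Quotient.mk_surjective (by rw [Ideal.mk_ker]; exact hpq.le)
  have hone : (q.map (Ideal.Quotient.mk p)).height ≤ 1 := by
    rw [show (1 : ℕ∞) = ((1 : ℕ) : ℕ∞) from Nat.cast_one.symm, Ideal.height_le_iff]
    intro P hP hPlt
    haveI := hP
    let P' := P.comap (Ideal.Quotient.mk p)
    have hpP : p ≤ P' := fun a ha => by
      show Ideal.Quotient.mk p a ∈ P
      rw [Ideal.Quotient.eq_zero_iff_mem.2 ha]
      exact zero_mem P
    have hP'q : P' < q := by
      refine lt_of_le_of_ne (fun a ha => ?_) fun e => hPlt.ne ?_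
      · have := Ideal.mem_comap.2 (hPlt.le (Ideal.mem_comap.1 ha))
        rwa [Ideal.comap_map_of_surjective _ Ideal.Quotient.mk_surjective, ← RingHom.ker_eq_comap_bot,
          Ideal.mk_ker, sup_eq_left.2 hpq.le] at this
      · rw [← Ideal.map_comap_of_surjective _ Ideal.Quotient.mk_surjective P]
        exact congrArg _ e
    let z := hU.fromSpec (⟨P', inferInstance⟩ : PrimeSpectrum Γ(S, U))
    have h1 : s ⤳ z := Groth.L22.LocalDim.fromSpec_prime hU hsU ▸
      Groth.L22.LocalDim.fromSpec_specializes hU (q := hU.primeIdealOf ⟨s, hsU⟩) hpP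
    have h2 : z ⤳ t := Groth.L22.LocalDim.fromSpec_prime hU htU ▸
      Groth.L22.LocalDim.fromSpec_specializes hU (q' := hU.primeIdealOf ⟨t, htU⟩) hP'q.le
    have hzs : z = s := (himm z h1 h2).resolve_right fun e => hP'q.ne <| congrArg PrimeSpectrum.asIdeal <|
      hU.fromSpec.isOpenEmbedding.injective (e.trans (Groth.L22.LocalDim.fromSpec_prime hU htU).symm)
    have hP'p : P' = p := congrArg PrimeSpectrum.asIdeal <|
      hU.fromSpec.isOpenEmbedding.injective (hzs.trans (Groth.L22.LocalDim.fromSpec_prime hU hsU).symm)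
    have hPbot : P = ⊥ := by
      rw [← Ideal.map_comap_of_surjective _ Ideal.Quotient.mk_surjective P]
      exact (congrArg _ hP'p).trans (Ideal.map_quotient_self p)
    have : P.height = 0 := by rw [hPbot]; exact Ideal.height_bot
    rw [this]
    exact_mod_cast zero_lt_one
  rw [hps, hqt] at hsum
  obtain ⟨c, hc⟩ := WithTop.ne_top_iff_exists.1 (ne_top_of_le_ne_top ENat.one_ne_top hone)
  rw [← hc] at hsum hone
  have h1 : (-δS s).toNat + c = (-δS t).toNat := (Nat.cast_inj (R := ℕ∞)).1 (by rw [Nat.cast_add]; exact hsum)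
  have h2 : c ≤ 1 := (Nat.cast_le (α := ℕ∞)).1 (by rw [Nat.cast_one]; exact hone)
  omega

end Groth.Agent.S17839
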