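import Groth.Statements.S17840
import Groth.Agent.L22.Cyc.RelDim
import Groth.Agent.L22.DimFormulaScheme
import Groth.Agent.L22.LocQuotDim
import Groth.Agent.L22.FibreDim
import Groth.Agent.L07.FibreCodim
import Groth.Agent.L22.ExtSh.PushCodim
import Mathlib.AlgebraicGeometry.Morphisms.Flat
-- import your own Groth.Agent.* helpers here

set_option autoImplicit false
universe u
open CategoryTheory AlgebraicGeometry
open Cyc

namespace Groth.Agent.S17840

/-- Let (Y, δY) be a locally Noetherian scheme with universally catenary local rings and a dimension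
function, f : X ⟶ Y a flat morphism locally of finite type between irreducible schemes with generic
points ξ and η, and δX the induced function on X, δX(x) = δY(f x) + trdeg_{κ(f x)} κ(x). Put d =
δX(ξ) − δY(η). Then d ≥ 0, every irreducible component of every fibre of f has dimension d, and for
every point x of X the fibre of f over f(x) has dimension d. (The published statement is for schemes
separated of finite type over a Noetherian excellent regular separated base S with δ the S-dimension
— transcendence degree of the residue field minus the dimension of the local ring of S at the image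
point — and for the fibre over every point of Y; the fibre over a point outside f(X) is empty, so
the dimension statement is made here at points of the image; this row allows any dimension function
δY on a locally Noetherian Y with universally catenary local rings, with δX induced from it.) -/
theorem result {X Y : Scheme.{u}} (f : X ⟶ Y) [Flat f] [LocallyOfFiniteType f]
    [IrreducibleSpace X] [IrreducibleSpace Y] (δX : X → ℤ) (δY : Y → ℤ) (hY : Cyc.IsSetup Y δY)
    (hδ : Cyc.DeltaCompat f δX δY) :
    0 ≤ δX (genericPoint X) - δY (genericPoint Y) ∧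
      Cyc.HasRelDim f (δX (genericPoint X) - δY (genericPoint Y)).toNat ∧
      ∀ x : X, topologicalKrullDim ↥(f.fiber (f x)) =
        ((δX (genericPoint X) - δY (genericPoint Y)).toNat : WithBot ℕ∞) := by
  obtain ⟨hYn, huc, -⟩ := hY
  haveI := hYn
  haveI : IsLocallyNoetherian X := LocallyOfFiniteType.isLocallyNoetherian f
  let ξ := genericPoint X
  let η := genericPoint Y
  -- the generic point maps to the generic point
  have hfξ : f ξ = η := by
    obtain ⟨z, hz, hfz⟩ := Flat.generalizingMap f (genericPoint_specializes (f ξ))
    obtain rfl : z = ξ := ((genericPoint_specializes z).antisymm hz).eq.symm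
    exact hfz
  obtain ⟨N, hN, hNδ⟩ := hδ ξ
  have hdiff : (δX ξ - δY η).toNat = N ∧ 0 ≤ δX ξ - δY η := by
    have : δX ξ = δY η + N := by rw [hNδ]; exact congrArg (fun y => δY y + (N : ℤ)) hfξ
    omega
  -- dimension of local rings are dimensions of the quotients at the generic point
  have hmin : ∀ {Z : Scheme.{u}} [IsLocallyNoetherian Z] (ζ z : Z) (_ : ∀ w : Z, ζ ⤳ w) (h : ζ ⤳ z),
      ringKrullDim (Cyc.LocQuot z ζ h) = ringKrullDim (Z.presheaf.stalk z) := by
    intro Z _ ζ z hζ h
    rw [ringKrullDim_quotient, ringKrullDim]
    refine Order.krullDim_eq_of_orderIso ((OrderIso.setCongr _ Set.univ (Set.eq_univ_of_forall fun P => ?_)).trans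
      OrderIso.Set.univ)
    have h3 : Z.fromSpecStalk z (PrimeSpectrum.comap (Cyc.specMap z ζ h) ⟨⊥, Ideal.isPrime_bot⟩) ⤳
        Z.fromSpecStalk z P := by
      rw [Groth.L22.LocQuotDim.fromSpecStalk_ker_specMap]
      exact hζ _
    exact (PrimeSpectrum.le_iff_specializes _ _).2
      ((Z.fromSpecStalk z).isEmbedding.isInducing.specializes_iff.mp h3)
  have hgen : ∀ x : X, Groth.L22.Cyc.FibGen f x → Groth.L22.Cyc.rtrdeg f x = (N : Cardinal.{u}) := by
    intro x hx
    obtain ⟨n, hn, -⟩ := hδ x
    have hn' : Groth.L22.Cyc.rtrdeg f x = (n : Cardinal.{u}) := hn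
    have hN' : Groth.L22.Cyc.rtrdeg f ξ = (N : Cardinal.{u}) := hN
    have key := (Groth.L22.DimFormula.scheme_dim_formula f (genericPoint_specializes x) hn' hN').2 (huc _)
    rw [hmin ξ x genericPoint_specializes,
      hmin (f ξ) (f x) fun w => hfξ.symm ▸ genericPoint_specializes w] at key
    letI := (f.stalkMap x).hom.toAlgebra
    haveI : IsLocalHom (algebraMap (Y.presheaf.stalk (f x)) (X.presheaf.stalk x)) :=
      inferInstanceAs (IsLocalHom (f.stalkMap x).hom)
    haveI : Module.Flat (Y.presheaf.stalk (f x)) (X.presheaf.stalk x) := Flat.stalkMap f x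
    have hdim := Groth.L06.FlatFibre.ringKrullDim_eq (Y.presheaf.stalk (f x)) (X.presheaf.stalk x)
    have h0 : ringKrullDim (EGA4.FibRing (Y.presheaf.stalk (f x)) (X.presheaf.stalk x)) = 0 := by
      refine (Groth.L07.OpenDim.fibre_ringKrullDim f x).symm.trans ?_
      rw [ringKrullDim_stalk_eq_coheight, Order.coheight_eq_zero.2 fun w hw => ?_]
      · rfl
      · have hw' : w ⤳ f.asFiber x := hw
        have := hx (f.fiberι (f x) w) ((f.range_fiberι (f x)).subset ⟨w, rfl⟩)
          ((hw'.map (f.fiberι (f x)).continuous).trans (specializes_of_eq (f.fiberι_asFiber x)))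
        exact Scheme.le_iff_specializes.2 (specializes_of_eq
          ((f.fiberι (f x)).isEmbedding.injective (this.trans (f.fiberι_asFiber x).symm)).symm)
    rw [hdim, h0, add_zero] at key
    haveI : IsNoetherianRing (Y.presheaf.stalk (f x)) := inferInstance
    obtain ⟨e, he⟩ := WithBot.ne_bot_iff_exists.1 (ringKrullDim_ne_bot (R := Y.presheaf.stalk (f x)))
    have hetop : e ≠ ⊤ := fun h => (ringKrullDim_ne_top (R := Y.presheaf.stalk (f x))) (he.symm.trans (by rw [h]; rfl))
    obtain ⟨d, rfl⟩ := WithTop.ne_top_iff_exists.1 hetop
    rw [← he] at key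
    have h1 : (d : ℕ∞) + (n : ℕ∞) = (d : ℕ∞) + (N : ℕ∞) := WithBot.coe_injective key
    have h2 : d + n = d + N := by exact_mod_cast h1
    rw [hn', show n = N by omega]
  have hrel : Cyc.HasRelDim f (δX ξ - δY η).toNat := by
    rw [hdiff.1]
    exact Groth.L22.Cyc.hasRelDim_of_rtrdeg f hgen
  refine ⟨hdiff.2, hrel, fun x => le_antisymm ?_ ?_⟩
  · exact Groth.L22.ExtSh.topologicalKrullDim_le_of_components fun T hT => (hrel (f x) T hT).le
  · rw [← hrel (f x) (irreducibleComponent (f.asFiber x))
      (irreducibleComponent_mem_irreducibleComponents _)]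
    exact topologicalKrullDim_subspace_le _ _

end Groth.Agent.S17840
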