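import Groth.Statements.S17842
import Groth.Agent.L05.PtChain.Geo.Surface

set_option autoImplicit false
universe u
open CategoryTheory AlgebraicGeometry
open Resolve

namespace Groth.Agent.S17842
set_option backward.isDefEq.respectTransparency false
set_option backward.isDefEq.respectTransparency.types false
set_option linter.style.haveILetI false

/-- Let S be a Noetherian separated scheme whose affine opens have excellent coordinate rings and whose
local rings are regular, and let X be an integral scheme, separated and of finite type over S with
dim X ≤ 2 (Krull dimension). Then the alteration assumption A(S, ℤ, ≤ 2) holds for X: there are an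
integral scheme X₁ all of whose local rings are regular and a projective morphism φ : X₁ ⟶ X which
is an alteration (proper, dominant, finite over a nonempty open of X) of degree one, that is, an
isomorphism over some nonempty open of X. -/
theorem result {X S : Scheme.{u}} (p : X ⟶ S)
    [IsNoetherian S] [S.IsSeparated] (hexc : ∀ U : S.affineOpens, EGA4.IsExcellent Γ(S, U))
    (hreg : ∀ s : S, IsRegularLocalRing (S.presheaf.stalk s))
    [IsIntegral X] [IsSeparated p] [LocallyOfFiniteType p] [QuasiCompact p]
    (hdim : topologicalKrullDim ↥X ≤ 2) :
    ∃ (X₁ : Scheme.{u}) (φ : X₁ ⟶ X), IsIntegral X₁ ∧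
      (∀ x : X₁, IsRegularLocalRing (X₁.presheaf.stalk x)) ∧ RelProj.IsProjective φ ∧
      Curv2.IsAlteration φ ∧ ∃ V : X.Opens, (V : Set X).Nonempty ∧ IsIso (φ ∣_ V) := by
  haveI : IsLocallyNoetherian X := LocallyOfFiniteType.isLocallyNoetherian p
  haveI : CompactSpace X := QuasiCompact.compactSpace_of_compactSpace p
  haveI : AlgebraicGeometry.IsNoetherian X := {}
  obtain ⟨X₁, φ, hproj, hp, hi, ⟨V, hV, hiso⟩, hr⟩ := Groth.L05.PtChain.exists_projective_resolution p hexc hdim
  haveI := hp; haveI := hi; haveI := hiso
  exact ⟨X₁, φ, hi, hr, hproj, Groth.L05.PtChain.isAlteration_of_resolution X φ hV, V, hV, hiso⟩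

end Groth.Agent.S17842
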