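import Groth.Statements.S17843
import Mathlib.RingTheory.FinitePresentation
import Mathlib.RingTheory.Localization.Away.Basic
import Mathlib.Algebra.Polynomial.AlgebraMap
import Mathlib.RingTheory.MvPolynomial.Basic

set_option autoImplicit false
universe u v
open CAlg

namespace Groth.Agent.S17843

/-- In the case of an affine scheme of finite presentation, let B be a finitely presented R-algebra, r ∈
R, and x : B → R[1/r][T] an R-algebra homomorphism whose value at T = 0, a homomorphism B → R[1/r],
is induced by a homomorphism x̃₀ : B → R. Then for every large enough n, the homomorphism x(rⁿT) : B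
→ R[1/r][T] is induced by a homomorphism x̃ : B → R[T] whose value at T = 0 is x̃₀. The published
statement is for algebraic spaces locally of finite presentation over R; this row takes an affine
scheme of finite presentation. -/
theorem result
    (R : Type u) (B : Type v) [CommRing R] [CommRing B] [Algebra R B]
    [Algebra.FinitePresentation R B] (r : R)
    (x : B →ₐ[R] Polynomial (Localization.Away r))
    (x₀ : B →ₐ[R] R)
    (hx₀ : (algebraMap R (Localization.Away r)).comp x₀.toRingHom =
      (Polynomial.evalRingHom 0).comp x.toRingHom) :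
    ∃ N : ℕ, ∀ n : ℕ, N ≤ n →
      ∃ y : B →ₐ[R] Polynomial R,
        (Polynomial.evalRingHom 0).comp y.toRingHom = x₀.toRingHom ∧
        (Polynomial.mapRingHom (algebraMap R (Localization.Away r))).comp y.toRingHom =
          (Polynomial.aeval (Polynomial.C (algebraMap R (Localization.Away r) (r ^ n)) * Polynomial.X) :
              Polynomial (Localization.Away r) →ₐ[Localization.Away r] Polynomial (Localization.Away r)).toRingHom.comp
            x.toRingHom := by
  classical
  obtain ⟨m, π, hπ, ⟨rel, hrel⟩⟩ := Algebra.FinitePresentation.out (R := R) (A := B)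
  set L := Localization.Away r
  let ι : Polynomial R →+* Polynomial L := Polynomial.mapRingHom (algebraMap R L)
  let σ : ℕ → (Polynomial L →+* Polynomial L) := fun n =>
    (Polynomial.aeval (Polynomial.C (algebraMap R L (r ^ n)) * Polynomial.X) : Polynomial L →ₐ[L] Polynomial L).toRingHom
  have hcoef : ∀ (n : ℕ) (P : Polynomial L) (i : ℕ), (σ n P).coeff i = P.coeff i * algebraMap R L (r ^ n) ^ i := by
    intro n P i
    induction P using Polynomial.induction_on' with
    | add p q hp hq => simp only [map_add, Polynomial.coeff_add, hp, hq, add_mul]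
    | monomial j a =>
      simp only [σ, AlgHom.toRingHom_eq_coe, RingHom.coe_coe]
      rw [Polynomial.aeval_monomial, Polynomial.algebraMap_eq, mul_pow, ← Polynomial.C_pow, ← mul_assoc, ← Polynomial.C_mul,
        Polynomial.coeff_C_mul, Polynomial.coeff_X_pow, Polynomial.coeff_monomial]
      rcases eq_or_ne i j with rfl | h
      · simp
      · simp [h, Ne.symm h]
  -- clearing denominators for one polynomial
  have hclear : ∀ P : Polynomial L, ∃ N : ℕ, ∀ n, N ≤ n → ∀ a : R, algebraMap R L a = P.coeff 0 →
      ∃ Q : Polynomial R, Q.coeff 0 = a ∧ ι Q = σ n P := by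
    intro P
    choose k c hc using fun i => IsLocalization.Away.surj r (P.coeff i)
    refine ⟨(Finset.range (P.natDegree + 1)).sup k, fun n hn a ha => ?_⟩
    let Q : Polynomial R := Polynomial.C a + ∑ i ∈ Finset.Icc 1 P.natDegree, Polynomial.monomial i (c i * r ^ (n * i - k i))
    refine ⟨Q, ?_, ?_⟩
    · simp only [Q, Polynomial.coeff_add, Polynomial.coeff_C_zero, Polynomial.finsetSum_coeff, Polynomial.coeff_monomial]
      rw [Finset.sum_eq_zero (fun i hi => if_neg (by simp at hi; omega)), add_zero]
    · ext i
      rw [hcoef]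
      simp only [ι, Q, Polynomial.coe_mapRingHom, Polynomial.coeff_map, Polynomial.coeff_add, Polynomial.finsetSum_coeff,
        Polynomial.coeff_monomial, Finset.sum_ite_eq', map_add]
      rcases Nat.eq_zero_or_pos i with rfl | hi
      · simp [ha]
      rw [Polynomial.coeff_C_ne_zero hi.ne', map_zero, zero_add]
      by_cases hid : i ≤ P.natDegree
      · rw [if_pos (Finset.mem_Icc.mpr ⟨hi, hid⟩)]
        have hki : k i ≤ n * i := ((Finset.le_sup (f := k) (Finset.mem_range.mpr (Nat.lt_succ_of_le hid))).trans hn).trans (Nat.le_mul_of_pos_right n hi)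
        rw [map_mul, ← hc i, mul_assoc, ← map_pow, ← map_mul, ← pow_add, Nat.add_sub_cancel' hki, ← map_pow, pow_mul]
      · rw [if_neg (by simp; omega), map_zero, Polynomial.coeff_eq_zero_of_natDegree_lt (by omega), zero_mul]
  -- kernel of ι
  have hkill : ∀ Q : Polynomial R, ι Q = 0 → ∃ M : ℕ, ∀ i, r ^ M * Q.coeff i = 0 := by
    intro Q hQ
    have h : ∀ i, ∃ j : ℕ, r ^ j * Q.coeff i = 0 := fun i => by
      have h1 : algebraMap R L (Q.coeff i) = 0 := by
        have := congrArg (fun P => P.coeff i) hQ
        simpa [ι] using this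
      obtain ⟨⟨_, j, rfl⟩, hj⟩ := (IsLocalization.map_eq_zero_iff (Submonoid.powers r) L _).mp h1
      exact ⟨j, hj⟩
    choose j hj using h
    refine ⟨Q.support.sup j, fun i => ?_⟩
    by_cases hi : i ∈ Q.support
    · obtain ⟨e, he⟩ := Nat.exists_eq_add_of_le (Finset.le_sup (f := j) hi)
      rw [he, pow_add, mul_comm (r ^ j i), mul_assoc, hj, mul_zero]
    · rw [Polynomial.notMem_support_iff.mp hi, mul_zero]
  choose N₁ hN₁ using fun i : Fin m => hclear (x (π (MvPolynomial.X i)))
  let n₁ := Finset.univ.sup N₁
  have hx₀' : ∀ b, algebraMap R L (x₀ b) = (x b).coeff 0 := fun b => by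
    rw [Polynomial.coeff_zero_eq_eval_zero]
    exact RingHom.congr_fun hx₀ b
  choose g hg0 hgι using fun i : Fin m => hN₁ i n₁ (Finset.le_sup (Finset.mem_univ i)) (x₀ (π (MvPolynomial.X i))) (hx₀' _)
  let Y : MvPolynomial (Fin m) R →ₐ[R] Polynomial R := MvPolynomial.aeval g
  have hY : ∀ p, ι (Y p) = σ n₁ (x (π p)) := by
    intro p
    induction p using MvPolynomial.induction_on with
    | C a =>
      rw [show (MvPolynomial.C a : MvPolynomial (Fin m) R) = algebraMap R _ a from rfl, AlgHom.commutes, AlgHom.commutes, AlgHom.commutes]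
      simp [ι, σ, IsScalarTower.algebraMap_apply R L (Polynomial L)]
      rfl
    | add p q hp hq => simp only [map_add, hp, hq]
    | mul_X p i hp => simp only [map_mul, hp, Y, MvPolynomial.aeval_X, hgι]
  have hY0 : ∀ p, (Y p).coeff 0 = x₀ (π p) := by
    intro p
    induction p using MvPolynomial.induction_on with
    | C a => rw [show (MvPolynomial.C a : MvPolynomial (Fin m) R) = algebraMap R _ a from rfl, AlgHom.commutes, AlgHom.commutes, AlgHom.commutes]; simp
    | add p q hp hq => simp only [map_add, Polynomial.coeff_add, hp, hq]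
    | mul_X p i hp => rw [map_mul, Polynomial.mul_coeff_zero, hp, map_mul, map_mul]; simp [Y, hg0]
  have hker : ∀ p ∈ rel, ι (Y p) = 0 := fun p hp => by
    rw [hY, show π p = 0 from hrel.le (Submodule.subset_span hp), map_zero, map_zero]
  choose! M hM using fun p hp => hkill (Y p) (hker p hp)
  let M₀ := rel.sup M
  refine ⟨n₁ + M₀, fun n hn => ?_⟩
  let τ : Polynomial R →ₐ[R] Polynomial R := Polynomial.aeval (Polynomial.C (r ^ (n - n₁)) * Polynomial.X)
  have hτcoef : ∀ (P : Polynomial R) (i : ℕ), (τ P).coeff i = P.coeff i * (r ^ (n - n₁)) ^ i := by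
    intro P i
    induction P using Polynomial.induction_on' with
    | add p q hp hq => simp only [map_add, Polynomial.coeff_add, hp, hq, add_mul]
    | monomial j a =>
      simp only [τ]
      rw [Polynomial.aeval_monomial, Polynomial.algebraMap_eq, mul_pow, ← Polynomial.C_pow, ← mul_assoc, ← Polynomial.C_mul,
        Polynomial.coeff_C_mul, Polynomial.coeff_X_pow, Polynomial.coeff_monomial]
      rcases eq_or_ne i j with rfl | h
      · simp
      · simp [h, Ne.symm h]
  have hzero : ∀ p, π p = 0 → τ (Y p) = 0 := by
    intro p hp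
    have hp' : p ∈ RingHom.ker π.toRingHom := hp
    rw [← hrel] at hp'
    clear hp
    induction hp' using Submodule.span_induction with
    | mem q hq =>
      ext i
      rw [hτcoef, Polynomial.coeff_zero]
      rcases Nat.eq_zero_or_pos i with rfl | hi
      · rw [hY0, show π q = 0 from hrel.le (Submodule.subset_span hq), map_zero, zero_mul]
      · have : M q ≤ (n - n₁) * i := ((Finset.le_sup (f := M) hq).trans (by omega)).trans (Nat.le_mul_of_pos_right _ hi)
        obtain ⟨e, he⟩ := Nat.exists_eq_add_of_le this
        rw [← pow_mul, he, pow_add, ← mul_assoc, mul_comm ((Y q).coeff i), hM q hq i, zero_mul]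
    | zero => simp
    | add a b _ _ ha hb => simp only [map_add, ha, hb, add_zero]
    | smul c a _ ha => rw [smul_eq_mul, map_mul, map_mul, ha, mul_zero]
  let y : B →ₐ[R] Polynomial R := AlgHom.liftOfSurjective π hπ (τ.comp Y) fun p hp => hzero p hp
  have hy : ∀ p, y (π p) = τ (Y p) := fun p => AlgHom.liftOfSurjective_apply π hπ _ _ p
  refine ⟨y, RingHom.ext fun b => ?_, RingHom.ext fun b => ?_⟩
  · obtain ⟨p, rfl⟩ := hπ b
    show Polynomial.eval 0 (y (π p)) = x₀ (π p)
    rw [hy, ← Polynomial.coeff_zero_eq_eval_zero, hτcoef, pow_zero, mul_one, hY0]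
  · obtain ⟨p, rfl⟩ := hπ b
    show ι (y (π p)) = σ n (x (π p))
    refine Polynomial.ext fun i => ?_
    rw [hy, hcoef]
    have := congrArg (fun P => P.coeff i) (hY p)
    simp only [hcoef] at this
    simp only [ι, Polynomial.coe_mapRingHom, Polynomial.coeff_map, hτcoef, map_mul] at this ⊢
    rw [this, mul_assoc]
    congr 1
    simp only [map_pow]
    rw [← mul_pow, ← pow_add, Nat.add_sub_cancel' (by omega : n₁ ≤ n)]

end Groth.Agent.S17843
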