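import Groth.Statements.S17844
import Groth.Agent.L09.QuillenAffine

set_option autoImplicit false
open CategoryTheory CategoryTheory.Limits MonoidalCategory CartesianMonoidalCategory MonObj GrpObj AlgebraicGeometry
universe u
open NonAbH1

namespace Groth.Agent.S17844

/-- For torsors under a group scheme locally of finite presentation, let S be an affine scheme, G an
S-group scheme locally of finite presentation and X an fppf torsor over the affine space 𝔸ⁿ_S (n
finite) under the base change of G. Suppose that Zariski locally on S the torsor X descends: every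
point of S has an open neighbourhood U ↪ S and a torsor P under G_U over U whose base change to 𝔸ⁿ_U
is equivariantly isomorphic to the restriction of X (both regarded as actions of the base change of
G along 𝔸ⁿ_U → S through the canonical identifications of iterated base changes). Then X is
equivariantly isomorphic to the base change of a G-torsor over S. The published statement also
allows more general group functors and graded algebras in place of the polynomial algebra;
affineness of S cannot be dropped. -/
theorem result
    (S : Scheme.{u}) [IsAffine S] (n : Type u) [Finite n]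
    (G : Over S) [GrpObj G] [LocallyOfFinitePresentation G.hom]
    (X : NonAbH1.TorsorSch (Red.bc (𝔸(n; S) ↘ S) G) Scheme.fppfPrecoverage)
    (hloc : ∀ s : S, ∃ (U : Scheme.{u}) (j : U ⟶ S) (_ : IsOpenImmersion j), s ∈ Set.range j.base ∧
      ∃ P : NonAbH1.TorsorSch (Red.bc j G) Scheme.fppfPrecoverage,
        Nonempty (NonAbH1.EquivIso
          ((P.act.bc (pullback.snd (𝔸(n; S) ↘ S) j)).restrict
            (ActBC.bcCompIso (pullback.snd (𝔸(n; S) ↘ S) j) j G rfl).inv)
          ((X.act.bc (pullback.fst (𝔸(n; S) ↘ S) j)).restrict
            (ActBC.bcCompIso (pullback.fst (𝔸(n; S) ↘ S) j) (𝔸(n; S) ↘ S) G pullback.condition).inv))) :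
    ∃ P : NonAbH1.TorsorSch G Scheme.fppfPrecoverage,
      Nonempty (NonAbH1.EquivIso (P.act.bc (𝔸(n; S) ↘ S)) X.act) := by
  let R : CommRingCat.{u} := Γ(S, ⊤)
  let e : Spec (CommRingCat.of R) ⟶ S := S.isoSpec.inv
  haveI : IsIso e := inferInstanceAs (IsIso S.isoSpec.inv)
  haveI : LocallyOfFinitePresentation (Red.bc e G).hom :=
    MorphismProperty.pullback_snd (P := @LocallyOfFinitePresentation) G.hom e ‹_›
  obtain ⟨I, hI⟩ := Groth.L09.Quillen.exists_ideal (Groth.L09.Quillen.XR e X)
  have htop : I = ⊤ := by
    by_contra hne
    obtain ⟨m, hm, hIm⟩ := Ideal.exists_le_maximal I hne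
    let q : PrimeSpectrum R := ⟨m, hm.isPrime⟩
    obtain ⟨U, j, hj, hjq, P, ⟨θ⟩⟩ := hloc (e q)
    obtain ⟨_, ⟨r, rfl⟩, hqr, hr⟩ :=
      PrimeSpectrum.isTopologicalBasis_basic_opens.exists_subset_of_mem_open
        (show q ∈ e ⁻¹' Set.range j.base from hjq)
        (j.isOpenEmbedding.isOpen_range.preimage e.continuous)
    apply hqr
    apply hIm
    rw [hI r]
    have hrange : Set.range
        (Groth.L09.Quillen.jK (R := R) (Localization.Away r) ≫ e) ⊆ Set.range j := by
      rintro _ ⟨z, rfl⟩
      exact hr ((PrimeSpectrum.localization_away_comap_range (Localization.Away r) r).subset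
        ⟨z, rfl⟩)
    exact Groth.L09.Quillen.desc_of_local e X j P θ (Localization.Away r)
      (IsOpenImmersion.lift j _ hrange) (IsOpenImmersion.lift_fac _ _ _)
  have h1 := (hI 1).mp (htop ▸ Submodule.mem_top)
  exact Groth.L09.Quillen.exists_of_desc e X (h1.map _
    { IsLocalization.Away.lift (1 : R) (g := algebraMap R R)
        (by rw [map_one]; exact isUnit_one) with
      commutes' := fun x => IsLocalization.Away.lift_eq (1 : R) _ x })

end Groth.Agent.S17844
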