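import Groth.Statements.S17847
import Groth.Agent.L25.RedField.CentralIsogeny

set_option autoImplicit false
open CategoryTheory CategoryTheory.Limits MonoidalCategory CartesianMonoidalCategory MonObj GrpObj AlgebraicGeometry
universe u
open Red

set_option backward.isDefEq.respectTransparency.types false
set_option linter.style.haveILetI false

namespace Groth.Agent.S17847

/-- Suppose G' and G are reductive S-group schemes and f : G' → G is a central isogeny between them,
meaning a homomorphism that is finite, flat and surjective with central kernel (every point of G'
killed by f commutes with every point of G'). Then the centre of G' is the preimage of the centre of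
G: a point x of G' with values in an S-scheme T is central (commutes with all points of G' with
values in T-schemes) if and only if f(x) is central in G in the same sense. -/
theorem result
    {S : Scheme.{u}} {G' G : Over S} [GrpObj G'] [GrpObj G]
    (hG' : Red.IsReductive G') (hG : Red.IsReductive G) (f : G' ⟶ G) [IsMonHom f]
    (hfin : IsFinite f.left) (hfl : Flat f.left) (hsurj : Surjective f.left)
    (hcen : ∀ (T : Over S) (k y : T ⟶ G'), k ≫ f = 1 → k * y = y * k)
    (T : Over S) (x : T ⟶ G') :
    (∀ (T' : Over S) (p : T' ⟶ T) (y : T' ⟶ G'), (p ≫ x) * y = y * (p ≫ x)) ↔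
      (∀ (T' : Over S) (p : T' ⟶ T) (z : T' ⟶ G), (p ≫ x ≫ f) * z = z * (p ≫ x ≫ f)) := by
  have hcov : Groth.L25.Covers.Cov f := ⟨⟨hsurj, hfl⟩, inferInstanceAs (QuasiCompact f.left)⟩
  exact ⟨fun h => Groth.L25.RedField.central_image f hcov x h,
    fun h => Groth.L25.RedField.central_of_image hG' hG f hcov hcen x h⟩

end Groth.Agent.S17847
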