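import Groth.Statements.S17854
import Groth.Agent.L05.Kaehler.Tower
import Mathlib.RingTheory.Jacobson.Ring
import Mathlib.RingTheory.Unramified.Field
import Mathlib.RingTheory.Etale.Locus
import Mathlib.RingTheory.Nakayama
import Mathlib.LinearAlgebra.TensorProduct.Quotient
import Mathlib.LinearAlgebra.Dimension.OrzechProperty
import Mathlib.LinearAlgebra.Dimension.Constructions
import Mathlib.RingTheory.LocalRing.Module
import Mathlib.RingTheory.RingHom.Etale
import Mathlib.FieldTheory.Perfect
import Mathlib.RingTheory.IntegralDomain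
import Mathlib.LinearAlgebra.FreeModule.Finite.Basic
import Mathlib.RingTheory.FinitePresentation
import Mathlib.RingTheory.EssentialFiniteness

set_option autoImplicit false
open TensorProduct
universe u
open EtAlg

namespace Groth.Agent.S17854

/-- In the case of a base with finite residue field, let k be a local ring whose residue field is
finite, R a finitely presented k-algebra and m a maximal ideal of R over the maximal ideal of k such
that R is smooth over k at m of relative dimension d > 0 (the module of Kähler differentials of R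
over k has rank d at m). Then there are g ∉ m and an étale k-algebra homomorphism φ : k[x₁, …, x_d]
→ R[1/g] which induces an isomorphism of residue fields at m, i.e. k[x₁, …, x_d] → R[1/g]/m R[1/g]
is surjective. The published statement is for any local ring k; this row takes the residue field of
k finite. -/
theorem result
    (k : Type u) [CommRing k] [IsLocalRing k] [Finite (IsLocalRing.ResidueField k)]
    (R : Type u) [CommRing R] [Algebra k R] [Algebra.FinitePresentation k R]
    (m : Ideal R) [m.IsMaximal] (hm : m.comap (algebraMap k R) = IsLocalRing.maximalIdeal k)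
    [Algebra.IsSmoothAt k m] (d : ℕ) (hd : 0 < d)
    (hdim : Module.finrank (R ⧸ m) ((R ⧸ m) ⊗[R] KaehlerDifferential k R) = d) :
    ∃ g : R, g ∉ m ∧ ∃ φ : MvPolynomial (Fin d) k →ₐ[k] Localization.Away g,
      φ.toRingHom.Etale ∧
      Function.Surjective
        ((Ideal.Quotient.mk (m.map (algebraMap R (Localization.Away g)))).comp φ.toRingHom) := by
  classical
  let K := R ⧸ m
  letI : Field K := Ideal.Quotient.field m
  let κ := IsLocalRing.ResidueField k
  haveI hlem : ∀ a ∈ IsLocalRing.maximalIdeal k, algebraMap k K a = 0 := fun a ha => by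
    rw [IsScalarTower.algebraMap_apply k R K, Ideal.Quotient.algebraMap_eq, Ideal.Quotient.eq_zero_iff_mem]
    rw [← hm] at ha
    exact ha
  letI : Algebra κ K := (Ideal.Quotient.lift (IsLocalRing.maximalIdeal k) (algebraMap k K) hlem).toAlgebra
  haveI : IsScalarTower k κ K := IsScalarTower.of_algebraMap_eq fun a =>
    (Ideal.Quotient.lift_mk _ _ hlem).symm
  haveI : Algebra.FiniteType κ K := Algebra.FiniteType.of_restrictScalars_finiteType k κ K
  haveI : Module.Finite κ K := finite_of_finite_type_of_isJacobsonRing κ K
  haveI : Finite K := Module.finite_of_finite κ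
  haveI : Algebra.FormallyUnramified κ K := Algebra.FormallyUnramified.of_isSeparable κ K
  haveI : Algebra.FormallyUnramified k κ :=
    Algebra.FormallyUnramified.of_surjective (Algebra.ofId k κ) IsLocalRing.residue_surjective
  haveI : Algebra.FormallyUnramified k K := Algebra.FormallyUnramified.comp k κ K
  haveI : Subsingleton (KaehlerDifferential k K) := inferInstance
  have hsurj : Function.Surjective (algebraMap R K) := Ideal.Quotient.mk_surjective
  have hdiff : ∀ t : K ⊗[R] KaehlerDifferential k R,
      ∃ x ∈ m, (1 : K) ⊗ₜ[R] KaehlerDifferential.D k R x = t := fun t => by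
    obtain ⟨z, hz⟩ := (KaehlerDifferential.exact_kerCotangentToTensor_mapBaseChange k R K hsurj t).mp
      (Subsingleton.elim _ _)
    obtain ⟨⟨x, hx⟩, rfl⟩ := Ideal.toCotangent_surjective _ z
    refine ⟨x, Ideal.Quotient.eq_zero_iff_mem.mp hx, ?_⟩
    rw [← hz, KaehlerDifferential.kerCotangentToTensor_toCotangent]
  obtain ⟨θ, hθ⟩ := IsCyclic.exists_generator (α := Kˣ)
  obtain ⟨θ', hθ'⟩ := hsurj (θ : K)
  haveI : Algebra.EssFiniteType k R := inferInstance
  haveI : Module.Finite R (KaehlerDifferential k R) := inferInstance
  haveI : Module.Finite K (K ⊗[R] KaehlerDifferential k R) := Module.Finite.base_change R K _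
  let bK : Module.Basis (Fin d) K (K ⊗[R] KaehlerDifferential k R) := Module.finBasisOfFinrankEq K _ hdim
  let c : Fin d → R := fun i => if i = ⟨0, hd⟩ then θ' else 0
  choose x hxm hxD using fun i => hdiff (bK i - (1 : K) ⊗ₜ KaehlerDifferential.D k R (c i))
  let y : Fin d → R := fun i => c i + x i
  have hy : ∀ i, (1 : K) ⊗ₜ[R] KaehlerDifferential.D k R (y i) = bK i := fun i => by
    simp only [y, map_add, TensorProduct.tmul_add, hxD]
    abel
  let φ0 : MvPolynomial (Fin d) k →ₐ[k] R := MvPolynomial.aeval y
  letI : Algebra (MvPolynomial (Fin d) k) R := φ0.toRingHom.toAlgebra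
  haveI : IsScalarTower k (MvPolynomial (Fin d) k) R := IsScalarTower.of_algebraMap_eq' φ0.comp_algebraMap.symm
  let T := Localization.AtPrime m
  haveI : IsScalarTower k (MvPolynomial (Fin d) k) T := IsScalarTower.of_algebraMap_eq fun a => by
    rw [IsScalarTower.algebraMap_apply k R T, IsScalarTower.algebraMap_apply (MvPolynomial (Fin d) k) R T,
      ← IsScalarTower.algebraMap_apply k (MvPolynomial (Fin d) k) R]
  haveI : Algebra.FormallySmooth k T := ‹Algebra.IsSmoothAt k m›
  haveI : Algebra.FormallyEtale R T := Algebra.FormallyEtale.of_isLocalization m.primeCompl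
  haveI : Algebra.EssFiniteType R T := Algebra.EssFiniteType.of_isLocalization T m.primeCompl
  haveI : Algebra.EssFiniteType k T := Algebra.EssFiniteType.comp k R T
  haveI : Module.Free T (KaehlerDifferential k T) := Module.free_of_flat_of_isLocalRing
  let eT : T ⊗[R] KaehlerDifferential k R ≃ₗ[T] KaehlerDifferential k T :=
    KaehlerDifferential.tensorKaehlerEquivOfFormallyEtale k R T
  letI : Algebra T K := (IsLocalization.lift (M := m.primeCompl) (g := algebraMap R K) fun s =>
    (IsUnit.mk0 _ fun h => s.2 (Ideal.Quotient.eq_zero_iff_mem.mp h))).toAlgebra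
  haveI : IsScalarTower R T K := IsScalarTower.of_algebraMap_eq fun r =>
    (IsLocalization.lift_eq _ r).symm
  have hrank : Module.finrank T (KaehlerDifferential k T) = d := by
    rw [← Module.finrank_baseChange (R := K), ← hdim]
    exact ((AlgebraTensorModule.congr (LinearEquiv.refl K K) eT.symm) ≪≫ₗ
      AlgebraTensorModule.cancelBaseChange R T K K (KaehlerDifferential k R)).finrank_eq
  let v : Fin d → KaehlerDifferential k T := fun i =>
    KaehlerDifferential.D k T (algebraMap R T (y i))
  have hspan : Submodule.span T (Set.range v) = ⊤ := by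
    refine top_le_iff.mp (Submodule.le_of_le_smul_of_le_jacobson_bot (I := IsLocalRing.maximalIdeal T)
      Module.Finite.fg_top (IsLocalRing.maximalIdeal_le_jacobson _) fun w _ => ?_)
    obtain ⟨t, rfl⟩ := eT.surjective w
    induction t with
    | zero => simp
    | add a b ha hb =>
      rw [map_add]
      exact Submodule.add_mem _ (ha trivial) (hb trivial)
    | tmul a w =>
      rw [show eT (a ⊗ₜ w) = a • KaehlerDifferential.map k k R T w from
        KaehlerDifferential.mapBaseChange_tmul k R T a w]
      refine Submodule.smul_mem _ _ ?_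
      have hw := bK.sum_repr ((1 : K) ⊗ₜ w)
      choose r hr using fun i => hsurj (bK.repr ((1 : K) ⊗ₜ w) i)
      have h0 : (1 : K) ⊗ₜ[R] (w - ∑ i, r i • KaehlerDifferential.D k R (y i)) = 0 := by
        rw [TensorProduct.tmul_sub, sub_eq_zero, TensorProduct.tmul_sum]
        conv_lhs => rw [← hw]
        refine Finset.sum_congr rfl fun i _ => ?_
        rw [TensorProduct.tmul_smul, hy, ← hr, algebraMap_smul]
      have h1 : w - ∑ i, r i • KaehlerDifferential.D k R (y i) ∈
          m • (⊤ : Submodule R (KaehlerDifferential k R)) := by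
        have := congrArg (TensorProduct.quotTensorEquivQuotSMul (KaehlerDifferential k R) m) h0
        rwa [map_zero, show (1 : K) = Ideal.Quotient.mk m 1 from rfl,
          TensorProduct.quotTensorEquivQuotSMul_mk_tmul, one_smul, Submodule.Quotient.mk_eq_zero] at this
      have h2 : ∀ z ∈ m • (⊤ : Submodule R (KaehlerDifferential k R)),
          KaehlerDifferential.map k k R T z ∈
            IsLocalRing.maximalIdeal T • (⊤ : Submodule T (KaehlerDifferential k T)) := fun z hz => by
        induction hz using Submodule.smul_induction_on' with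
        | smul a ha n _ =>
          rw [map_smul, ← algebraMap_smul T a]
          refine Submodule.smul_mem_smul ?_ trivial
          exact (IsLocalization.AtPrime.to_map_mem_maximal_iff T m a).mpr ha
        | add a _ b _ ha hb => rw [map_add]; exact Submodule.add_mem _ ha hb
      have h3 := h2 _ h1
      rw [map_sub, map_sum] at h3
      rw [← sub_add_cancel (KaehlerDifferential.map k k R T w)
        (∑ i, KaehlerDifferential.map k k R T (r i • KaehlerDifferential.D k R (y i)))]
      refine Submodule.add_mem _ (Submodule.mem_sup_right h3)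
        (Submodule.mem_sup_left (Submodule.sum_mem _ fun i _ => ?_))
      rw [map_smul, KaehlerDifferential.map_D, ← algebraMap_smul T (r i)]
      exact Submodule.smul_mem _ _ (Submodule.subset_span ⟨i, rfl⟩)
  have hli : LinearIndependent T v :=
    linearIndependent_of_top_le_span_of_card_eq_finrank hspan.ge (by rw [Fintype.card_fin, hrank])
  have hv : (fun i : Fin d => KaehlerDifferential.D k T
      (algebraMap (MvPolynomial (Fin d) k) T (MvPolynomial.X i))) = v := funext fun i => by
    simp only [v]
    rw [IsScalarTower.algebraMap_apply (MvPolynomial (Fin d) k) R T]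
    congr 2
    exact MvPolynomial.aeval_X y i
  haveI : Algebra.FiniteType (MvPolynomial (Fin d) k) R :=
    Algebra.FiniteType.of_restrictScalars_finiteType k _ R
  haveI : Algebra.FinitePresentation (MvPolynomial (Fin d) k) R :=
    Algebra.FinitePresentation.of_restrict_scalars_finitePresentation k _ R
  haveI : Algebra.IsEtaleAt (MvPolynomial (Fin d) k) m :=
    (Groth.L05.Kaehler.formallyEtale_mvPolynomial_iff (Fin d) k T).mpr ⟨hv ▸ hli, by rw [hv]; exact hspan⟩
  obtain ⟨g, hg, hge⟩ := Algebra.exists_etale_of_isEtaleAt (R := MvPolynomial (Fin d) k) m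
  let φ : MvPolynomial (Fin d) k →ₐ[k] Localization.Away g :=
    (IsScalarTower.toAlgHom k R (Localization.Away g)).comp φ0
  refine ⟨g, hg, φ, ?_, fun z => ?_⟩
  · rw [show φ.toRingHom = algebraMap (MvPolynomial (Fin d) k) (Localization.Away g) from
      (IsScalarTower.algebraMap_eq (MvPolynomial (Fin d) k) R (Localization.Away g)).symm]
    exact RingHom.etale_algebraMap.mpr hge
  · have hgen : ∀ t : K, ∃ P : MvPolynomial (Fin d) k, algebraMap R K (φ0 P) = t := fun t => by
      by_cases ht : t = 0
      · exact ⟨0, by rw [map_zero, map_zero, ht]⟩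
      · obtain ⟨n, hn⟩ := mem_powers_iff_mem_zpowers.mpr (hθ (Units.mk0 t ht))
        refine ⟨MvPolynomial.X ⟨0, hd⟩ ^ n, ?_⟩
        rw [map_pow, map_pow, MvPolynomial.aeval_X]
        simp only [y, c, map_add, if_true]
        rw [show algebraMap R K (x ⟨0, hd⟩) = 0 from Ideal.Quotient.eq_zero_iff_mem.mpr (hxm _),
          add_zero, hθ']
        have := congrArg Units.val hn
        simpa using this
    obtain ⟨z, rfl⟩ := Ideal.Quotient.mk_surjective z
    obtain ⟨a, ⟨_, n, rfl⟩, rfl⟩ := IsLocalization.exists_mk'_eq (Submonoid.powers g) z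
    have hgn : algebraMap R K (g ^ n) ≠ 0 := fun h =>
      hg (‹m.IsMaximal›.isPrime.mem_of_pow_mem n (Ideal.Quotient.eq_zero_iff_mem.mp h))
    obtain ⟨P, hP⟩ := hgen (algebraMap R K a * (algebraMap R K (g ^ n))⁻¹)
    refine ⟨P, ?_⟩
    show Ideal.Quotient.mk _ (algebraMap R (Localization.Away g) (φ0 P)) = Ideal.Quotient.mk _ _
    rw [Ideal.Quotient.eq]
    have hu : IsUnit (algebraMap R (Localization.Away g) (g ^ n)) :=
      IsLocalization.map_units (Localization.Away g) (⟨g ^ n, n, rfl⟩ : Submonoid.powers g)
    rw [← Ideal.unit_mul_mem_iff_mem _ hu, mul_sub, ← map_mul,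
      IsLocalization.mk'_spec' (Localization.Away g) a (⟨g ^ n, n, rfl⟩ : Submonoid.powers g), ← map_sub]
    refine Ideal.mem_map_of_mem _ (Ideal.Quotient.eq_zero_iff_mem.mp ?_)
    show algebraMap R K _ = 0
    rw [map_sub, map_mul, hP, mul_comm (algebraMap R K a), ← mul_assoc, mul_inv_cancel₀ hgn, one_mul, sub_self]

end Groth.Agent.S17854
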