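import Groth.Statements.S17855
import Groth.Agent.L09.PatchStage

set_option autoImplicit false
open CategoryTheory CategoryTheory.Limits MonoidalCategory CartesianMonoidalCategory MonObj GrpObj AlgebraicGeometry
universe u
open NonAbH1

namespace Groth.Agent.S17855

open Polynomial Groth.L09.Patch

section
variable {R : Type u} [CommRing R]

lemma away_mul (r r' : R) (A' B : Type u) [CommRing A'] [CommRing B] [Algebra R A'] [Algebra R B]
    [Algebra A' B] [IsScalarTower R A' B] [IsLocalization.Away r' A']
    [IsLocalization.Away (r * r') B] : IsLocalization.Away (algebraMap R A' r) B := by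
  have hrr : IsUnit (algebraMap R B (r * r')) := IsLocalization.Away.algebraMap_isUnit _
  rw [map_mul] at hrr
  have hr : IsUnit (algebraMap R B r) := isUnit_of_mul_isUnit_left hrr
  refine IsLocalization.Away.mk _ ?_ ?_ ?_
  · rw [← IsScalarTower.algebraMap_apply]; exact hr
  · intro b
    obtain ⟨n, x, hx⟩ := IsLocalization.Away.surj (r * r') b
    obtain ⟨v, hv⟩ := ((IsLocalization.Away.algebraMap_isUnit r' : IsUnit (algebraMap R A' r')).pow n)
    refine ⟨n, algebraMap R A' x * (v⁻¹ : A'ˣ), ?_⟩
    apply ((v.isUnit.map (algebraMap A' B)).mul_left_inj).mp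
    rw [← map_mul (algebraMap A' B) (algebraMap R A' x * _), Units.inv_mul_cancel_right,
      ← IsScalarTower.algebraMap_apply R A' B r, ← IsScalarTower.algebraMap_apply R A' B x, ← hx,
      hv, map_pow, ← IsScalarTower.algebraMap_apply, _root_.mul_assoc, ← mul_pow, ← map_mul]
  · intro a b hab
    obtain ⟨n, x, hx⟩ := IsLocalization.Away.surj r' (a - b)
    have hx0 : algebraMap R B x = 0 := by
      rw [IsScalarTower.algebraMap_apply R A' B, ← hx, map_mul, map_sub, hab, sub_self, zero_mul]
    obtain ⟨⟨_, m, rfl⟩, hm⟩ :=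
      (IsLocalization.map_eq_zero_iff (Submonoid.powers (r * r')) B _).mp hx0
    refine ⟨m, ?_⟩
    have hu : IsUnit (algebraMap R A' r' ^ (m + n)) :=
      (IsLocalization.Away.algebraMap_isUnit r').pow _
    rw [← sub_eq_zero, ← mul_sub, ← hu.mul_left_eq_zero]
    calc algebraMap R A' r ^ m * (a - b) * algebraMap R A' r' ^ (m + n)
        = algebraMap R A' ((r * r') ^ m) * ((a - b) * algebraMap R A' r' ^ n) := by
          rw [map_pow, map_mul, mul_pow, pow_add]; ring
      _ = 0 := by rw [hx, ← map_mul, hm, map_zero]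

/-- Substitution into a polynomial algebra. -/
noncomputable def sub {C E : Type u} [CommRing C] [CommRing E] [Algebra R C] [Algebra R E]
    (f : C →ₐ[R] E) (x : E) : C[X] →ₐ[R] E :=
  { eval₂RingHom f.toRingHom x with
    commutes' := fun r => by
      show eval₂ f.toRingHom x (algebraMap R C[X] r) = algebraMap R E r
      rw [Polynomial.algebraMap_apply, eval₂_C]
      exact f.commutes r }

@[simp] lemma sub_C {C E : Type u} [CommRing C] [CommRing E] [Algebra R C] [Algebra R E]
    (f : C →ₐ[R] E) (x : E) (c : C) : sub f x (Polynomial.C c) = f c := eval₂_C _ _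

@[simp] lemma sub_X {C E : Type u} [CommRing C] [CommRing E] [Algebra R C] [Algebra R E]
    (f : C →ₐ[R] E) (x : E) : sub f x X = x := eval₂_X _ _

/-- The constants. -/
noncomputable abbrev constA (C : Type u) [CommRing C] [Algebra R C] : C →ₐ[R] C[X] :=
  IsScalarTower.toAlgHom R C C[X]

lemma pm_congr {C D : Type u} [CommRing C] [CommRing D] [Algebra R C] [Algebra R D]
    {φ ψ : C →ₐ[R] D} (h : ∀ x, φ x = ψ x) : pm φ = pm ψ := by rw [AlgHom.ext h]

lemma alg_ext {C E : Type u} [CommRing C] [CommRing E] [Algebra R C] [Algebra R E]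
    {φ ψ : C[X] →ₐ[R] E} (hC : ∀ c, φ (Polynomial.C c) = ψ (Polynomial.C c))
    (hX : φ X = ψ X) : φ = ψ :=
  AlgHom.coe_ringHom_injective (Polynomial.ringHom_ext hC hX)

variable {G : Over (Spec (CommRingCat.of R))} [GrpObj G]

/-- Normalise a point at the zero section. -/
noncomputable def normalise {A : Type u} [CommRing A] [Algebra R A] (x : spO R A[X] ⟶ G) :
    spO R A[X] ⟶ G :=
  x * (pm (constA A) ≫ pm (evalA (R := R) A) ≫ x)⁻¹

lemma eval_normalise {A : Type u} [CommRing A] [Algebra R A] (x : spO R A[X] ⟶ G) :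
    pm (evalA (R := R) A) ≫ normalise x = 1 := by
  have h : pm (evalA (R := R) A) ≫ pm (constA (R := R) A) = 𝟙 _ := by
    rw [pm_comp, ← pm_id]
    exact pm_congr fun a => by simp
  rw [normalise, MonObj.comp_mul, GrpObj.comp_inv, reassoc_of% h, mul_inv_cancel]

lemma map_normalise {A B : Type u} [CommRing A] [CommRing B] [Algebra R A] [Algebra R B]
    [Algebra A B] [IsScalarTower R A B] (x : spO R A[X] ⟶ G)
    (h : pm (evalA (R := R) B) ≫ pm (mapA (R := R) (C := A) (D := B)) ≫ x = 1) :
    pm (mapA (R := R) (C := A) (D := B)) ≫ normalise x =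
      pm (mapA (R := R) (C := A) (D := B)) ≫ x := by
  have e : pm (mapA (R := R) (C := A) (D := B)) ≫ pm (constA (R := R) A) ≫ pm (evalA (R := R) A) =
      pm (constA (R := R) B) ≫ pm (evalA (R := R) B) ≫ pm (mapA (R := R) (C := A) (D := B)) := by
    simp only [pm_comp]
    congr 1
    exact alg_ext (fun c => by simp) (by simp)
  rw [normalise, MonObj.comp_mul, GrpObj.comp_inv, reassoc_of% e, h, MonObj.comp_one, inv_one,
    _root_.mul_one]

lemma main (r r' : R) (hrr : Ideal.span ({r, r'} : Set R) = ⊤)
    (A A' B : Type u) [CommRing A] [CommRing A'] [CommRing B] [Algebra R A] [Algebra R A']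
    [Algebra R B] [IsLocalization.Away r A] [IsLocalization.Away r' A']
    [IsLocalization.Away (r * r') B]
    [Algebra A B] [Algebra A' B] [IsScalarTower R A B] [IsScalarTower R A' B]
    [LocallyOfFinitePresentation G.hom]
    (g : spO R B[X] ⟶ G) (hg : pm (evalA (R := R) B) ≫ g = 1) :
    ∃ (g₁ : spO R A[X] ⟶ G) (g₂ : spO R A'[X] ⟶ G),
      pm (evalA (R := R) A) ≫ g₁ = 1 ∧ pm (evalA (R := R) A') ≫ g₂ = 1 ∧
        g = (pm (mapA (R := R) (C := A) (D := B)) ≫ g₁) *
          (pm (mapA (R := R) (C := A') (D := B)) ≫ g₂) := by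
  haveI hB' : IsLocalization.Away (algebraMap R A' r) B := away_mul r r' A' B
  haveI hB : IsLocalization.Away (algebraMap R A r') B := by
    haveI : IsLocalization.Away (r' * r) B := by rw [mul_comm]; infer_instance
    exact away_mul r' r A B
  obtain ⟨N, h', hh'⟩ := exists_lift (algebraMap R A' r) G g hg
  letI iAB : Algebra A[X] B[X] := Polynomial.algebra A B
  haveI : IsLocalization.Away (Polynomial.C (algebraMap R A r')) B[X] := by
    have h := Polynomial.isLocalization (Submonoid.powers (algebraMap R A r')) B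
    rw [Submonoid.map_powers] at h
    exact h
  haveI : IsScalarTower R A[X] B[X] := .of_algebraMap_eq fun x => by
    show algebraMap R B[X] x = (algebraMap R A[X] x).map (algebraMap A B)
    rw [Polynomial.algebraMap_apply, Polynomial.algebraMap_apply, map_C,
      ← IsScalarTower.algebraMap_apply]
  let cB := IsScalarTower.toAlgHom R B B[X]
  let s1 : B[X] →ₐ[R] B[X][X] := sub ((IsScalarTower.toAlgHom R B[X] B[X][X]).comp cB)
    (Polynomial.C X + X)
  let s2 : B[X] →ₐ[R] B[X][X] := IsScalarTower.toAlgHom R B[X] B[X][X]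
  let f : spO R B[X][X] ⟶ G := (pm s1 ≫ g) * (pm s2 ≫ g)⁻¹
  have hf : pm (evalA (R := R) B[X]) ≫ f = 1 := by
    have e1 : pm (evalA (R := R) B[X]) ≫ pm s1 = 𝟙 _ := by
      rw [pm_comp, ← pm_id]
      congr 1
      exact alg_ext (fun c => by simp [s1, cB]) (by simp [s1, cB])
    have e2 : pm (evalA (R := R) B[X]) ≫ pm s2 = 𝟙 _ := by
      rw [pm_comp, ← pm_id]
      exact pm_congr fun c => by simp [s2]
    simp only [f, MonObj.comp_mul, GrpObj.comp_inv, reassoc_of% e1, reassoc_of% e2]
    exact mul_inv_cancel g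
  obtain ⟨M, F, hF⟩ := exists_lift (Polynomial.C (algebraMap R A r')) G f hf
  obtain ⟨a, b, hab⟩ : ∃ a b, a * r ^ N + b * r' ^ M = 1 := by
    obtain ⟨p, q, hpq⟩ := Ideal.mem_span_pair.mp ((Ideal.eq_top_iff_one _).mp hrr)
    exact (IsCoprime.pow (show IsCoprime r r' from ⟨p, q, hpq⟩) : IsCoprime (r ^ N) (r' ^ M))
  let kA : A[X][X] →ₐ[R] A[X] :=
    sub (sub (constA A) (Polynomial.C (algebraMap R A (a * r ^ N)) * X))
      (Polynomial.C (algebraMap R A b) * X)
  let kB : B[X][X] →ₐ[R] B[X] :=
    sub (sub (constA B) (Polynomial.C (algebraMap R B (a * r ^ N)) * X))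
      (Polynomial.C (algebraMap R B b) * X)
  let k' : A'[X] →ₐ[R] A'[X] := scaleA (algebraMap R A' a)
  let q : B[X] →ₐ[R] B[X] := scaleA (algebraMap R B (a * r ^ N))
  let x1 := pm kA ≫ F
  let x2 := pm k' ≫ h'
  have hx2 : pm (mapA (R := R) (C := A') (D := B)) ≫ x2 = pm q ≫ g := by
    have e : pm (mapA (R := R) (C := A') (D := B)) ≫ pm k' =
        pm (scaleA (R := R) (algebraMap R B a)) ≫ pm (mapA (R := R) (C := A') (D := B)) := by
      simp only [pm_comp]
      congr 1
      refine alg_ext (fun c => ?_) ?_ <;>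
        simp [k', scaleA, IsScalarTower.algebraMap_apply R A' B]
    simp only [x2, reassoc_of% e, hh', ← Category.assoc, pm_comp]
    congr 2
    refine alg_ext (fun c => ?_) ?_
    · simp [q, scaleA]
    · simp [q, scaleA, ← IsScalarTower.algebraMap_apply R A' B]; ring
  have hx1 : pm (mapA (R := R) (C := A) (D := B)) ≫ x1 = g * (pm q ≫ g)⁻¹ := by
    have e : pm (mapA (R := R) (C := A) (D := B)) ≫ pm kA =
        pm kB ≫ pm (mapA (R := R) (C := A[X]) (D := B[X])) := by
      simp only [pm_comp]
      congr 1
      refine alg_ext (fun c => ?_) ?_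
      · induction c using Polynomial.induction_on' with
        | add p q hp hq => simp only [map_add, hp, hq]
        | monomial n a =>
          simp [kA, kB, mapA, ← Polynomial.C_mul_X_pow_eq_monomial,
            IsScalarTower.algebraMap_apply R A B]
      · simp [kA, kB, mapA, IsScalarTower.algebraMap_apply R A B]
    have hr' : algebraMap A[X] B[X] (Polynomial.C (algebraMap R A r')) =
        Polynomial.C (algebraMap R B r') := by
      show (Polynomial.C (algebraMap R A r')).map (algebraMap A B) = _
      rw [map_C, ← IsScalarTower.algebraMap_apply]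
    have e1 : kB.comp ((scaleA (algebraMap A[X] B[X] (Polynomial.C (algebraMap R A r')) ^ M)).comp
        s1) = AlgHom.id R B[X] := by
      refine alg_ext (fun c => ?_) ?_
      · simp [kB, s1, cB, scaleA]
      · simp only [hr', AlgHom.comp_apply, s1, sub_X, map_add, AlgHom.id_apply]
        simp [kB, scaleA, ← map_pow]
        rw [← _root_.mul_assoc, ← add_mul]
        simp only [← map_mul, ← map_add]
        rw [mul_comm (r' ^ M), hab]
        simp
    have e2 : kB.comp ((scaleA (algebraMap A[X] B[X] (Polynomial.C (algebraMap R A r')) ^ M)).comp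
        s2) = q := by
      refine alg_ext (fun c => ?_) ?_
      · simp [kB, s2, scaleA, q]
      · simp [kB, s2, scaleA, q]
    simp only [x1, reassoc_of% e, hF]
    simp only [f, MonObj.comp_mul, GrpObj.comp_inv, ← Category.assoc, pm_comp, e1, e2]
    rw [pm_id, Category.id_comp]
  have hq : pm (evalA (R := R) B) ≫ pm q ≫ g = 1 := by
    have : pm (evalA (R := R) B) ≫ pm q = pm (evalA (R := R) B) := by
      rw [pm_comp]
      congr 1
      exact alg_ext (fun c => by simp [q, scaleA]) (by simp [q, scaleA])
    rw [reassoc_of% this, hg]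
  refine ⟨normalise x1, normalise x2, eval_normalise _, eval_normalise _, ?_⟩
  rw [map_normalise x1 (by rw [hx1, MonObj.comp_mul, GrpObj.comp_inv, hg, hq, inv_one, _root_.mul_one]),
    map_normalise x2 (by rw [hx2, hq]), hx1, hx2, inv_mul_cancel_right]

end

/-- For a group scheme locally of finite presentation, let R be a ring, G an R-group scheme locally of
finite presentation over S = Spec R, and r, r' ∈ R generating the unit ideal; let A = R[1/r], A' =
R[1/r'], B = R[1/rr']. For an R-algebra C write G₀(C) for the set of S-morphisms Spec C[T] → G whose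
restriction along T ↦ 0 (the S-morphism Spec C → Spec C[T]) is the unit. Then G₀(B) = G₀(A)·G₀(A'):
every g ∈ G₀(B) is the product, in the group of Spec B[T]-points of G, of the pullback of some g₁ ∈
G₀(A) and the pullback of some g₂ ∈ G₀(A') along Spec B[T] → Spec A[T], Spec A'[T]. The S-morphisms
induced by T ↦ 0 and by the localisation maps are taken as data determined by their underlying
scheme maps. The published statement also allows more general group functors and graded algebras. -/
theorem result
    (R : Type u) [CommRing R]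
    (G : Over (Spec (CommRingCat.of R))) [GrpObj G] [LocallyOfFinitePresentation G.hom]
    (r r' : R) (hrr : Ideal.span ({r, r'} : Set R) = ⊤)
    (A A' B : Type u) [CommRing A] [CommRing A'] [CommRing B] [Algebra R A] [Algebra R A'] [Algebra R B]
    [IsLocalization.Away r A] [IsLocalization.Away r' A'] [IsLocalization.Away (r * r') B]
    [Algebra A B] [Algebra A' B] [IsScalarTower R A B] [IsScalarTower R A' B]
    (eA : Over.mk (Spec.map (CommRingCat.ofHom (algebraMap R (A)))) ⟶ Over.mk (Spec.map (CommRingCat.ofHom (algebraMap R (Polynomial A)))))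
    (heA : eA.left = Spec.map (CommRingCat.ofHom (Polynomial.evalRingHom (0 : A))))
    (eA' : Over.mk (Spec.map (CommRingCat.ofHom (algebraMap R (A')))) ⟶ Over.mk (Spec.map (CommRingCat.ofHom (algebraMap R (Polynomial A')))))
    (heA' : eA'.left = Spec.map (CommRingCat.ofHom (Polynomial.evalRingHom (0 : A'))))
    (eB : Over.mk (Spec.map (CommRingCat.ofHom (algebraMap R (B)))) ⟶ Over.mk (Spec.map (CommRingCat.ofHom (algebraMap R (Polynomial B)))))
    (heB : eB.left = Spec.map (CommRingCat.ofHom (Polynomial.evalRingHom (0 : B))))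
    (tA : Over.mk (Spec.map (CommRingCat.ofHom (algebraMap R (Polynomial B)))) ⟶ Over.mk (Spec.map (CommRingCat.ofHom (algebraMap R (Polynomial A)))))
    (htA : tA.left = Spec.map (CommRingCat.ofHom (Polynomial.mapRingHom (algebraMap A B))))
    (tA' : Over.mk (Spec.map (CommRingCat.ofHom (algebraMap R (Polynomial B)))) ⟶ Over.mk (Spec.map (CommRingCat.ofHom (algebraMap R (Polynomial A')))))
    (htA' : tA'.left = Spec.map (CommRingCat.ofHom (Polynomial.mapRingHom (algebraMap A' B))))
    (g : Over.mk (Spec.map (CommRingCat.ofHom (algebraMap R (Polynomial B)))) ⟶ G) (hg : eB ≫ g = 1) :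
    ∃ (g₁ : Over.mk (Spec.map (CommRingCat.ofHom (algebraMap R (Polynomial A)))) ⟶ G) (g₂ : Over.mk (Spec.map (CommRingCat.ofHom (algebraMap R (Polynomial A')))) ⟶ G),
      eA ≫ g₁ = 1 ∧ eA' ≫ g₂ = 1 ∧ g = (tA ≫ g₁) * (tA' ≫ g₂) := by
  have a1 : eA = pm (evalA (R := R) A) := by
    ext1; rw [heA, pm_left, evalA_toRingHom]
  have a2 : eA' = pm (evalA (R := R) A') := by
    ext1; rw [heA', pm_left, evalA_toRingHom]
  have a3 : eB = pm (evalA (R := R) B) := by
    ext1; rw [heB, pm_left, evalA_toRingHom]
  have a4 : tA = pm (mapA (R := R) (C := A) (D := B)) := by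
    ext1; rw [htA, pm_left]; rfl
  have a5 : tA' = pm (mapA (R := R) (C := A') (D := B)) := by
    ext1; rw [htA', pm_left]; rfl
  subst a1 a2 a3 a4 a5
  exact main r r' hrr A A' B g hg

end Groth.Agent.S17855
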