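import Groth.Statements.S17858
import Groth.Agent.L12.NisCover

set_option autoImplicit false
open CategoryTheory AlgebraicGeometry
universe u
open Algz

open Groth.L12.NisCover

namespace Groth.Agent.S17858

/-- Let `j : W ⟶ Y` be a quasi-affine morphism of quasi-compact quasi-separated schemes. There is a
natural number `m` such that for every commutative ring `B` and every morphism `Spec B ⟶ Y`, the
fibre product `W ×_Y Spec B` is the union of `m` affine open subschemes. -/
theorem result {W Y : Scheme.{u}} (j : W ⟶ Y)
    [CompactSpace W] [QuasiSeparatedSpace W] [CompactSpace Y] [QuasiSeparatedSpace Y]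
    (hj : Mor2.IsQuasiAffine j) :
    ∃ m : ℕ, ∀ (B : CommRingCat.{u}) (g : Spec B ⟶ Y),
      ∃ U : Fin m → (Limits.pullback j g).Opens, (∀ k, IsAffineOpen (U k)) ∧ ⨆ k, U k = ⊤ := by
  exact exists_affine_bound j

end Groth.Agent.S17858
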