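import Groth.Statements.S17859
import Mathlib.RingTheory.Finiteness.Basic
import Mathlib.LinearAlgebra.Contraction
-- import your own Groth.Agent.* helpers here

set_option autoImplicit false
open CategoryTheory MonoidalCategory
universe u
open Algz

open scoped TensorProduct
set_option backward.isDefEq.respectTransparency false
set_option linter.style.haveILetI false

namespace Groth.Agent.S17859

section Lin

variable {R : Type u} [CommRing R] {N : Type u} [AddCommGroup N] [Module R N]

theorem exists_dual_basis [Module.Finite R N] [Module.Projective R N] :
    ∃ (n : ℕ) (m : Fin n → N) (f : Fin n → Module.Dual R N), ∀ x, ∑ i, f i x • m i = x := by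
  obtain ⟨n, p, hp⟩ := Module.Finite.exists_fin' R N
  obtain ⟨s, hs⟩ := Module.projective_lifting_property p LinearMap.id hp
  refine ⟨n, fun i => p (Pi.single i 1), fun i => (LinearMap.proj i).comp s, fun x => ?_⟩
  calc ∑ i, s x i • p (Pi.single i 1) = p (s x) := by
        conv_rhs => rw [pi_eq_sum_univ' (s x)]
        simp [map_sum, map_smul]
    _ = x := LinearMap.congr_fun hs x

end Lin

/-- Over an affine scheme, that is for modules over a commutative ring `R`, a finitely generated
projective `R`-module `M`, viewed as an object of the monoidal category of `R`-modules (tensor
product over `R`), has a right dual. (The published statement is the equivalence, for quasi-coherent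
sheaves on a quasi-compact quasi-separated scheme, between being dualizable and being a vector
bundle; stated here is the affine case of the implication from vector bundle to dualizable. The
converse implication, that a module admitting a dual is finitely generated projective, is stated
separately and is not repeated here.) -/
theorem result (R : Type u) [CommRing R] (M : ModuleCat.{u} R)
    [Module.Finite R M] [Module.Projective R M] : Nonempty (HasRightDual M) := by
  obtain ⟨n, m, f, h⟩ := exists_dual_basis (R := R) (N := M)
  let t : M ⊗[R] Module.Dual R M := ∑ i, m i ⊗ₜ f i
  letI ep : ExactPairing M (ModuleCat.of R (Module.Dual R M)) :=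
    { coevaluation' := ModuleCat.ofHom (LinearMap.toSpanSingleton R _ t)
      evaluation' := ModuleCat.ofHom (contractLeft R M)
      coevaluation_evaluation' := by
        ext : 1
        refine TensorProduct.ext' fun (g : Module.Dual R M) (r : R) => ?_
        change TensorProduct.map (contractLeft R M) LinearMap.id
            ((TensorProduct.assoc R (Module.Dual R M) M (Module.Dual R M)).symm (g ⊗ₜ (r • t))) = (1 : R) ⊗ₜ (r • g)
        simp only [t, TensorProduct.tmul_sum, Finset.smul_sum, map_sum, TensorProduct.tmul_smul, map_smul,
          TensorProduct.assoc_symm_tmul, TensorProduct.map_tmul, contractLeft_apply, LinearMap.id_apply]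
        rw [← Finset.smul_sum, Finset.sum_congr rfl fun i _ => show (g (m i)) ⊗ₜ[R] f i = (1 : R) ⊗ₜ[R] (g (m i) • f i) by
          rw [← TensorProduct.smul_tmul, smul_eq_mul, mul_one], ← TensorProduct.tmul_sum]
        congr 2
        refine LinearMap.ext fun x => ?_
        conv_rhs => rw [← h x]
        simp [LinearMap.sum_apply, map_sum, mul_comm]
      evaluation_coevaluation' := by
        ext : 1
        refine TensorProduct.ext' fun (r : R) (x : M) => ?_
        change TensorProduct.map LinearMap.id (contractLeft R M)
            ((TensorProduct.assoc R M (Module.Dual R M) M) ((r • t) ⊗ₜ x)) = (r • x) ⊗ₜ (1 : R)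
        simp only [t, TensorProduct.sum_tmul, Finset.smul_sum, map_sum, ← TensorProduct.smul_tmul', map_smul,
          TensorProduct.assoc_tmul, TensorProduct.map_tmul, contractLeft_apply, LinearMap.id_apply]
        conv_rhs => rw [← h x, TensorProduct.sum_tmul, Finset.smul_sum]
        refine Finset.sum_congr rfl fun i _ => ?_
        rw [TensorProduct.smul_tmul, smul_eq_mul, mul_one] }
  exact ⟨{ rightDual := ModuleCat.of R (Module.Dual R M), exact := ep }⟩

end Groth.Agent.S17859
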