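import Groth.Statements.S17862
import Groth.Agent.L12.PointsProd

set_option autoImplicit false
open CategoryTheory AlgebraicGeometry
universe u
open Algz

namespace Groth.Agent.S17862

/-- Let `S` be an affine scheme, `X` a quasi-compact and quasi-separated algebraic space over `S`, and
`A i` a family of commutative rings indexed by an arbitrary type, with a morphism `h` from the
spectrum of the product ring to `S`. Two `S`-morphisms `Spec (Π i, A i) ⟶ X` that agree after
composition with every `Spec (A i) ⟶ Spec (Π i, A i)` are equal. (For schemes this is the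
injectivity half of the corresponding bijection; the algebraic-space case is the one stated here.
Over an affine base, relative and absolute quasi-separatedness agree.) -/
theorem result (S : Scheme.{u}) [IsAffine S]
    (X : AlgSp.Space S) (hqc : AlgSp.IsQuasiCompactSp X.obj) (hqs : AlgSp.IsQuasiSeparatedSp X.obj)
    {ι : Type u} (A : ι → CommRingCat.{u}) (h : Spec (CommRingCat.of (∀ i, A i)) ⟶ S) :
    Function.Injective (fun g : (AlgSp.ofScheme S).obj (Over.mk h) ⟶ X => fun i : ι =>
      (AlgSp.ofScheme S).map (Over.homMk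
        (Spec.map (CommRingCat.ofHom (Pi.evalRingHom (fun j => (A j : Type u)) i)))
        rfl : Over.mk (Spec.map (CommRingCat.ofHom (Pi.evalRingHom (fun j => (A j : Type u)) i)) ≫ h) ⟶
          Over.mk h) ≫ g) := by
  intro g g' hgg
  let T : Over S := Over.mk h
  have hrep : AlgSp.Representable (Limits.diag X.obj) := hqs.rep
  let G : (AlgSp.yon S).obj T ⟶ X.obj ⨯ X.obj := Limits.prod.lift g.hom g'.hom
  let e : hrep.pullback G ⟶ T := hrep.snd G
  haveI : QuasiCompact e.left := hqs.property_snd G
  haveI : Mono (Limits.diag X.obj) := mono_of_mono_fac (Limits.prod.lift_fst (𝟙 X.obj) (𝟙 X.obj))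
  haveI : Mono ((AlgSp.yon S).map e) := (hrep.isPullback G).mono_snd_of_mono
  haveI : Mono e := (AlgSp.yon S).mono_of_mono_map inferInstance
  haveI : CompactSpace T.left := inferInstanceAs (CompactSpace (Spec (CommRingCat.of (∀ i, A i)) : Scheme.{u}))
  haveI : QuasiSeparatedSpace T.left :=
    inferInstanceAs (QuasiSeparatedSpace (Spec (CommRingCat.of (∀ i, A i)) : Scheme.{u}))
  haveI : CompactSpace (hrep.pullback G).left := QuasiCompact.compactSpace_of_compactSpace e.left
  haveI : QuasiSeparatedSpace (hrep.pullback G).left := quasiSeparatedSpace_of_quasiSeparated e.left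
  let q : ∀ i, (Over.mk (Spec.map (CommRingCat.ofHom (Pi.evalRingHom (fun j => (A j : Type u)) i)) ≫ h) :
      Over S) ⟶ T := fun i =>
    Over.homMk (Spec.map (CommRingCat.ofHom (Pi.evalRingHom (fun j => (A j : Type u)) i))) rfl
  have hq : ∀ i, (AlgSp.yon S).map (q i) ≫ g.hom = (AlgSp.yon S).map (q i) ≫ g'.hom := fun i =>
    congrArg InducedCategory.Hom.hom (congrFun hgg i)
  let s := fun i => hrep.lift ((AlgSp.yon S).map (q i) ≫ g.hom) (q i) (show _ = _ ≫ G by
    apply Limits.prod.hom_ext <;> simp [G, hq])
  obtain ⟨s', hs'⟩ := (Groth.L12.PointsProd.bijective (A := A) (X := (hrep.pullback G).left)).2 fun i => (s i).left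
  have hsec : s' ≫ e.left = 𝟙 T.left := pointsPi_injective A _ (funext fun i => by
    have h1 : Spec.map (CommRingCat.ofHom (Pi.evalRingHom (fun j => (A j : Type u)) i)) ≫ s' = (s i).left :=
      congrFun hs' i
    have h2 : (s i).left ≫ e.left = (q i).left := by
      rw [← Over.comp_left, hrep.lift_snd]
    simp only [pointsPi]
    rw [reassoc_of% h1]
    exact h2.trans (Category.comp_id _).symm)
  let σ : T ⟶ hrep.pullback G := Over.homMk s' (by
    rw [← Over.w e, reassoc_of% hsec]
    exact Category.id_comp _)
  have hσ : σ ≫ e = 𝟙 T := Over.OverMorphism.ext hsec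
  have hw : (AlgSp.yon S).map σ ≫ hrep.fst G ≫ Limits.diag X.obj = G := by
    rw [hrep.w G, ← Category.assoc, ← Functor.map_comp, hσ, CategoryTheory.Functor.map_id, Category.id_comp]
  have h1 : (AlgSp.yon S).map σ ≫ hrep.fst G = g.hom :=
    calc _ = ((AlgSp.yon S).map σ ≫ hrep.fst G ≫ Limits.diag X.obj) ≫ Limits.prod.fst := by
          rw [Category.assoc, Category.assoc, show Limits.diag X.obj ≫ Limits.prod.fst = 𝟙 X.obj from
            Limits.prod.lift_fst _ _, Category.comp_id]
      _ = _ := by rw [hw]; exact Limits.prod.lift_fst _ _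
  have h2 : (AlgSp.yon S).map σ ≫ hrep.fst G = g'.hom :=
    calc _ = ((AlgSp.yon S).map σ ≫ hrep.fst G ≫ Limits.diag X.obj) ≫ Limits.prod.snd := by
          rw [Category.assoc, Category.assoc, show Limits.diag X.obj ≫ Limits.prod.snd = 𝟙 X.obj from
            Limits.prod.lift_snd _ _, Category.comp_id]
      _ = _ := by rw [hw]; exact Limits.prod.lift_snd _ _
  exact InducedCategory.Hom.ext (h1.symm.trans h2)

end Groth.Agent.S17862
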