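import Groth.Statements.S17863
import Mathlib.AlgebraicGeometry.QuasiAffine
import Mathlib.RingTheory.AdicCompletion.RingHom
import Mathlib.RingTheory.AdicCompletion.Basic
import Mathlib.AlgebraicGeometry.GammaSpecAdjunction

set_option autoImplicit false
open CategoryTheory AlgebraicGeometry
universe u
open Algz

namespace Groth.Agent.S17863

/-- Let `A` be a commutative ring which is `I`-adically complete for an ideal `I` and let `X` be a
quasi-affine scheme. Then the natural map from `X(A)` to compatible systems in the `X(A/I^n)` is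
bijective: two morphisms `Spec A ⟶ X` with the same restriction to every `Spec (A/I^n)` are equal,
and every family of morphisms `Spec (A/I^n) ⟶ X` compatible with the transition maps `Spec (A/I^n) ⟶
Spec (A/I^(n+1))` is the family of restrictions of a morphism `Spec A ⟶ X`. -/
theorem result (A : Type u) [CommRing A] (I : Ideal A) [IsAdicComplete I A]
    (X : Scheme.{u}) [X.IsQuasiAffine] :
    (∀ f g : Spec (CommRingCat.of A) ⟶ X,
      (∀ n : ℕ, Spec.map (CommRingCat.ofHom (Ideal.Quotient.mk (I ^ n))) ≫ f =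
        Spec.map (CommRingCat.ofHom (Ideal.Quotient.mk (I ^ n))) ≫ g) → f = g) ∧
    (∀ e : ∀ n : ℕ, Spec (CommRingCat.of (A ⧸ I ^ n)) ⟶ X,
      (∀ n : ℕ, Spec.map (CommRingCat.ofHom (Ideal.Quotient.factorPowSucc I n)) ≫ e (n + 1) = e n) →
      ∃ f : Spec (CommRingCat.of A) ⟶ X,
        ∀ n : ℕ, Spec.map (CommRingCat.ofHom (Ideal.Quotient.mk (I ^ n))) ≫ f = e n) := by
  let B : CommRingCat.{u} := Γ(X, ⊤)
  have hspec : ∀ {R : CommRingCat.{u}} (g : Spec R ⟶ Spec B), Spec.map (Spec.preimage g) = g := fun g => Spec.map_preimage g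
  refine ⟨fun f g hfg => ?_, fun e he => ?_⟩
  · rw [← cancel_mono X.toSpecΓ, ← hspec (f ≫ X.toSpecΓ), ← hspec (g ≫ X.toSpecΓ)]
    refine congrArg Spec.map (CommRingCat.hom_ext (RingHom.ext fun b => ?_))
    refine (IsHausdorff.eq_iff_smodEq (I := I)).mpr fun n => ?_
    rw [smul_eq_mul, Ideal.mul_top, SModEq.def]
    have h1 : Spec.map (Spec.preimage (f ≫ X.toSpecΓ) ≫ CommRingCat.ofHom (Ideal.Quotient.mk (I ^ n))) =
        Spec.map (Spec.preimage (g ≫ X.toSpecΓ) ≫ CommRingCat.ofHom (Ideal.Quotient.mk (I ^ n))) := by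
      rw [Spec.map_comp, Spec.map_comp, hspec, hspec, reassoc_of% (hfg n)]
    exact congrArg (fun q : B ⟶ CommRingCat.of (A ⧸ I ^ n) => q.hom b) (Spec.map_injective h1)
  · let ψ : ∀ n, (B : Type u) →+* A ⧸ I ^ n := fun n => (Spec.preimage (e n ≫ X.toSpecΓ)).hom
    have hψ : ∀ n, (Ideal.Quotient.factorPowSucc I n).comp (ψ (n + 1)) = ψ n := fun n => by
      have h1 : Spec.map (Spec.preimage (e (n + 1) ≫ X.toSpecΓ) ≫ CommRingCat.ofHom (Ideal.Quotient.factorPowSucc I n)) =
          Spec.map (Spec.preimage (e n ≫ X.toSpecΓ)) := by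
        rw [Spec.map_comp, hspec, hspec, ← Category.assoc, he]
      exact congrArg CommRingCat.Hom.hom (Spec.map_injective h1)
    let Ψ : (B : Type u) →+* A := IsAdicComplete.StrictMono.liftRingHom I (strictMono_id (α := ℕ)) ψ (fun {m} => hψ m)
    let h : Spec (CommRingCat.of A) ⟶ Spec B := Spec.map (CommRingCat.ofHom Ψ)
    have hn : ∀ n, Spec.map (CommRingCat.ofHom (Ideal.Quotient.mk (I ^ n))) ≫ h = e n ≫ X.toSpecΓ := fun n => by
      rw [← Spec.map_comp, ← hspec (e n ≫ X.toSpecΓ)]
      refine congrArg Spec.map (CommRingCat.hom_ext ?_)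
      exact IsAdicComplete.StrictMono.mk_comp_liftRingHom I (strictMono_id (α := ℕ)) ψ (fun {m} => hψ m) (n := n)
    have hrange : Set.range h.base ⊆ Set.range X.toSpecΓ.base := by
      rintro _ ⟨q, rfl⟩
      obtain ⟨m, hm, hqm⟩ := Ideal.exists_le_maximal q.asIdeal q.2.ne_top
      have hIm : I ^ 1 ≤ m := by
        rw [pow_one]
        refine (IsAdicComplete.le_jacobson_bot I).trans ?_
        exact sInf_le ⟨bot_le, hm⟩
      let M : PrimeSpectrum A := ⟨m, hm.isPrime⟩
      obtain ⟨M', hM'⟩ : M ∈ Set.range (Spec.map (CommRingCat.ofHom (Ideal.Quotient.mk (I ^ 1)))).base := by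
        show M ∈ Set.range (PrimeSpectrum.comap (Ideal.Quotient.mk (I ^ 1)))
        rw [range_comap_of_surjective _ _ Ideal.Quotient.mk_surjective, Ideal.mk_ker]
        exact hIm
      have hspecq : q ⤳ M := (PrimeSpectrum.le_iff_specializes q M).mp hqm
      refine (hspecq.map h.continuous).mem_open X.toSpecΓ.isOpenEmbedding.isOpen_range ?_
      rw [← hM', ← Scheme.Hom.comp_apply, hn 1, Scheme.Hom.comp_apply]
      exact ⟨_, rfl⟩
    refine ⟨IsOpenImmersion.lift X.toSpecΓ h hrange, fun n => ?_⟩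
    rw [← cancel_mono X.toSpecΓ, Category.assoc, IsOpenImmersion.lift_fac, hn]

end Groth.Agent.S17863
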