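import Groth.Statements.S17864
import Mathlib.RingTheory.AdicCompletion.Functoriality
import Mathlib.RingTheory.Finiteness.Projective
import Mathlib.RingTheory.Finiteness.Basic

set_option linter.style.haveILetI false

set_option autoImplicit false
universe u
open Algz

namespace Groth.Agent.S17864

theorem isAdicComplete_of_projective (A : Type u) [CommRing A] (I : Ideal A) [IsAdicComplete I A]
    (Q : Type u) [AddCommGroup Q] [Module A Q] [Module.Finite A Q] [Module.Projective A Q] : IsAdicComplete I Q := by
  obtain ⟨m, π, s, -, -, hs⟩ := Module.Finite.exists_comp_eq_id_of_projective A Q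
  have hmem : ∀ (n : ℕ) (x : Q), x ∈ (I ^ n • ⊤ : Submodule A Q) → ∀ i, s x i ∈ I ^ n := fun n x hx i => by
    have h1 := Submodule.mem_map_of_mem (f := (LinearMap.proj i).comp s) hx
    rw [Submodule.map_smul''] at h1
    have h2 : I ^ n • Submodule.map ((LinearMap.proj i).comp s) ⊤ ≤ I ^ n :=
      (Submodule.smul_mono le_rfl le_top).trans (by rw [Ideal.smul_eq_mul, Ideal.mul_top])
    exact h2 h1
  have hid : ∀ x, π (s x) = x := fun x => LinearMap.congr_fun hs x
  haveI hH : IsHausdorff I Q := ⟨fun x hx => by
    rw [← hid x, show s x = 0 from funext fun i => IsHausdorff.haus' (I := I) _ fun n => by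
      rw [SModEq.sub_mem, sub_zero, Ideal.smul_eq_mul, Ideal.mul_top]
      refine hmem n x ?_ i
      simpa [SModEq.sub_mem] using hx n, map_zero]⟩
  haveI hP : IsPrecomplete I Q := ⟨fun f hf => by
    choose L hL using fun i => IsPrecomplete.prec' (I := I) (fun k => s (f k) i) fun {a b} hab => by
      rw [SModEq.sub_mem, Ideal.smul_eq_mul, Ideal.mul_top]
      have := hmem a _ (SModEq.sub_mem.1 (hf hab)) i
      simpa using this
    refine ⟨π L, fun n => ?_⟩
    rw [SModEq.sub_mem]
    have h1 : f n - π L = ∑ i, (s (f n) i - L i) • π (Pi.single i 1) := by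
      have e := pi_eq_sum_univ' (s (f n) - L)
      have := congrArg π e
      rw [map_sub, map_sum, hid] at this
      simpa [map_smul] using this
    rw [h1]
    refine Submodule.sum_mem _ fun i _ => Submodule.smul_mem_smul ?_ trivial
    have := SModEq.sub_mem.1 (hL i n)
    rwa [Ideal.smul_eq_mul, Ideal.mul_top] at this⟩
  exact {}


/-- The full-faithfulness assertion. Let `A` be a commutative ring which is `I`-adically complete for an
ideal `I`, and `P`, `Q` finitely generated projective `A`-modules. An `A`-linear map `P → Q` is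
determined by its reductions modulo the powers `I^n`, and every family of `A`-linear maps `P/I^n P →
Q/I^n Q` compatible with the transition maps is the family of reductions of an `A`-linear map `P →
Q`. (The companion assertion, that compatible systems of finite projective modules over the rings
`A/I^n` lift to `A`, is not restated here.) -/
theorem result (A : Type u) [CommRing A] (I : Ideal A)
    [IsAdicComplete I A] (P Q : Type u) [AddCommGroup P] [Module A P] [Module.Finite A P]
    [Module.Projective A P] [AddCommGroup Q] [Module A Q] [Module.Finite A Q] [Module.Projective A Q] :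
    (∀ f f' : P →ₗ[A] Q, (∀ n : ℕ, f.reduceModIdeal (I ^ n) = f'.reduceModIdeal (I ^ n)) → f = f') ∧
    (∀ g : ∀ n : ℕ, P ⧸ (I ^ n • ⊤ : Submodule A P) →ₗ[A] Q ⧸ (I ^ n • ⊤ : Submodule A Q),
      (∀ n : ℕ, AdicCompletion.transitionMap I Q (Nat.le_succ n) ∘ₗ g (n + 1) =
        g n ∘ₗ AdicCompletion.transitionMap I P (Nat.le_succ n)) →
      ∃ f : P →ₗ[A] Q, ∀ n : ℕ, f.reduceModIdeal (I ^ n) = g n) := by
  haveI := isAdicComplete_of_projective A I Q
  refine ⟨fun f f' h => LinearMap.ext fun x => ?_, fun g hg => ?_⟩
  · refine sub_eq_zero.1 (IsHausdorff.haus' (I := I) _ fun n => ?_)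
    rw [SModEq.sub_mem, sub_zero]
    exact (Submodule.Quotient.eq _).1 (LinearMap.congr_fun (h n) (Submodule.Quotient.mk x))
  · let φ : ∀ n : ℕ, P →ₗ[A] Q ⧸ (I ^ n • ⊤ : Submodule A Q) := fun n => (g n) ∘ₗ Submodule.mkQ _
    have hφ : ∀ {m n : ℕ} (hle : m ≤ n), AdicCompletion.transitionMap I Q hle ∘ₗ φ n = φ m := by
      intro m n hle
      induction n, hle using Nat.le_induction with
      | base => ext x; simp
      | succ n hle ih =>
        rw [← ih]
        ext x
        have h2 := LinearMap.congr_fun (hg n) (Submodule.Quotient.mk x)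
        simp only [φ, LinearMap.comp_apply, Submodule.mkQ_apply] at h2 ⊢
        rw [show (g n) (Submodule.Quotient.mk x) = AdicCompletion.transitionMap I Q (Nat.le_succ n)
          ((g (n + 1)) (Submodule.Quotient.mk x)) from h2.symm]
        obtain ⟨q, hq⟩ := Submodule.Quotient.mk_surjective _ ((g (n + 1)) (Submodule.Quotient.mk x))
        rw [← hq]
        rfl
    let f : P →ₗ[A] Q := (AdicCompletion.ofLinearEquiv I Q).symm.toLinearMap ∘ₗ AdicCompletion.lift I φ hφ
    refine ⟨f, fun n => LinearMap.ext fun y => ?_⟩
    obtain ⟨x, rfl⟩ := Submodule.Quotient.mk_surjective _ y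
    have h3 : AdicCompletion.of I Q (f x) = AdicCompletion.lift I φ hφ x :=
      (AdicCompletion.ofLinearEquiv I Q).apply_symm_apply _
    exact congrArg (fun z : AdicCompletion I Q => z.val n) h3

end Groth.Agent.S17864
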