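import Groth.Statements.S1787
import Groth.Agent.L29.Dual.Descent
import Mathlib.RingTheory.Localization.Finiteness
import Mathlib.RingTheory.Localization.BaseChange

set_option autoImplicit false
universe u
open CategoryTheory
attribute [local instance] HasDerivedCategory.standard
open Dual

namespace Groth.Agent.S1787

/-- Let A be a Noetherian ring and f_1, …, f_n elements generating the unit ideal. Let ω be an object of
D(A) such that for each i, assuming the derived base change functor D(A) → D(A_{f_i}) exists, the
base change of ω is a dualizing complex for A_{f_i}. Then ω is a dualizing complex for A. -/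
theorem result (A : Type u) [CommRing A] [IsNoetherianRing A] (n : ℕ) (f : Fin n → A) (hf : Ideal.span (Set.range f) = ⊤) (ω : Dual.D A) (h : ∀ i : Fin n, ∃ _ : DRing.HasLBaseChange (algebraMap A (Localization.Away (f i))), Dual.IsDualizing (Localization.Away (f i)) ((DRing.LBaseChange (algebraMap A (Localization.Away (f i)))).obj ω)) : Dual.IsDualizing A ω := by
  classical
  haveI : ∀ i, Module.Flat A (Localization.Away (f i)) := fun i =>
    IsLocalization.flat _ (Submonoid.powers (f i))
  have hK' : ∀ i, Dual.IsDualizing (Localization.Away (f i))
      ((Groth.L29.FlatBC.L A (Localization.Away (f i))).obj ω) := fun i => by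
    obtain ⟨_, hi⟩ := h i
    exact Groth.L29.HomD.isDualizing_of_iso ((Groth.L29.FlatBC.lbcIso A _).app ω) hi
  refine Groth.L29.FlatBC.isDualizing_of_finite_family (B := fun i => Localization.Away (f i))
    (fun N _ _ hN => ?_) (fun k => ?_) hK'
  · refine subsingleton_of_forall_eq 0 fun x => ?_
    refine (Submodule.mem_bot A).1 (Submodule.mem_of_span_eq_top_of_smul_pow_mem ⊥ _ hf x fun r => ?_)
    obtain ⟨i, hi⟩ := r.2
    haveI := hN i
    haveI := (LocalizedModule.equivTensorProduct (Submonoid.powers (f i)) N).toEquiv.subsingleton
    obtain ⟨_, ⟨k, rfl⟩, hk⟩ := (LocalizedModule.subsingleton_iff (S := Submonoid.powers (f i))).1 this x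
    exact ⟨k, by rw [Submodule.mem_bot, ← hi]; exact hk⟩
  · refine Module.Finite.of_localizationSpan_finite (Finset.univ.image f) (by simpa using hf) fun g => ?_
    obtain ⟨i, -, hi⟩ := Finset.mem_image.1 g.2
    haveI := (hK' i).finite_cohomology k
    haveI : Module.Finite (Localization.Away (f i)) (TensorProduct A (Localization.Away (f i)) (Dual.HD A ω k)) :=
      Module.Finite.equiv (Groth.L29.FlatBC.hEquiv A _ ω k)
    rw [← hi]
    exact Module.Finite.equiv (LocalizedModule.equivTensorProduct (Submonoid.powers (f i)) _).symm

end Groth.Agent.S1787
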