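import Groth.Statements.S17872
import Mathlib.Algebra.Polynomial.Roots
import Mathlib.LinearAlgebra.Dual.Lemmas

set_option autoImplicit false
universe u v
open GRRSing

namespace Groth.Agent.S17872

/-- Let H be a vector space over a field K and let b_0, …, b_l be elements of H. If the sum of the t ^ i
• b_i vanishes for infinitely many scalars t of K, then all the b_i are zero. -/
theorem result {K : Type u} {H : Type v} [Field K] [AddCommGroup H] [Module K H]
    (l : ℕ) (b : Fin (l + 1) → H)
    (h : Set.Infinite {t : K | ∑ i : Fin (l + 1), t ^ (i : ℕ) • b i = 0}) :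
    b = 0 := by
  funext i
  rw [Pi.zero_apply, ← Module.forall_dual_apply_eq_zero_iff K]
  intro f
  let P : Polynomial K := ∑ j : Fin (l + 1), Polynomial.C (f (b j)) * Polynomial.X ^ (j : ℕ)
  have hP : P = 0 := by
    apply Polynomial.eq_zero_of_infinite_isRoot
    refine h.mono fun t ht => ?_
    have := congrArg f (ht : ∑ j : Fin (l + 1), t ^ (j : ℕ) • b j = 0)
    simp only [map_sum, map_smul, smul_eq_mul, map_zero] at this
    show P.eval t = 0
    simp only [P, Polynomial.eval_finsetSum, Polynomial.eval_mul, Polynomial.eval_C,
      Polynomial.eval_pow, Polynomial.eval_X]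
    rw [← this]
    exact Finset.sum_congr rfl fun j _ => mul_comm _ _
  have := congrArg (Polynomial.coeff · (i : ℕ)) hP
  simpa [P, Fin.val_inj] using this

end Groth.Agent.S17872
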