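import Groth.Statements.S17873
import Groth.Agent.L13.DSeq.Gens

set_option autoImplicit false
universe u
open GRRSing

namespace Groth.Agent.S17873

/-- Let T be a Cohen–Macaulay Noetherian local ring, J a proper ideal of T, j the grade of J (the
J-depth of T, i.e. the supremum of the lengths of T-regular sequences inside J; a natural number
here) and c the minimal number of generators of J (equal to the dimension of J/𝔪J over the residue
field). Then j ≤ c and there is a generating sequence t_1, …, t_c of J such that t_1, …, t_j is a
T-regular sequence. (The published statement does not exclude J = T; there c = 1 while the grade,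
read as the depth of T, can exceed 1, so this row assumes J proper.) -/
theorem result {T : Type u} [CommRing T] [LocCoh.IsCohenMacaulayLocalRing T]
    (J : Ideal T) (hJ : J ≠ ⊤) (j : ℕ) (hj : LocCoh.idealDepth J T = j) :
    j ≤ Submodule.spanFinrank J ∧
      ∃ ts : List T, ts.length = Submodule.spanFinrank J ∧ Ideal.ofList ts = J ∧
        RingTheory.Sequence.IsRegular T (ts.take j) := by
  classical
  obtain ⟨ts, r, r', hn, hreg, hr, hrJ, -, -⟩ := L13.DSeq.exists_gens (RingHom.id T) hJ
    (min j (Submodule.spanFinrank J)) (by rw [hj]; exact_mod_cast min_le_left _ _) (min_le_right _ _)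
    (by rw [Ideal.map_id]; exact min_le_right _ _)
  have htJ : ∀ t ∈ ts, t ∈ J := fun t ht => hrJ ▸ Ideal.subset_span (by simp [ht])
  have hjc : j ≤ Submodule.spanFinrank J := by
    by_contra hlt
    push Not at hlt
    rw [min_eq_right hlt.le] at hn hr
    obtain rfl : r = [] := List.eq_nil_of_length_eq_zero (by omega)
    rw [List.append_nil] at hrJ
    have := Groth.L04.idealDepth_eq_length (M := T) hreg htJ
      (z := Submodule.Quotient.mk 1) ?_ ?_
    · rw [hj] at this
      have : j = ts.length := by exact_mod_cast this
      omega
    · rw [Ne, Submodule.Quotient.mk_eq_zero, smul_eq_mul, Ideal.mul_top, ← Ideal.eq_top_iff_one]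
      rw [hrJ]; exact hJ
    · intro a ha
      rw [← Submodule.Quotient.mk_smul, Submodule.Quotient.mk_eq_zero, smul_eq_mul, Ideal.mul_top,
        smul_eq_mul, mul_one, hrJ]
      exact ha
  rw [min_eq_left hjc] at hn hr
  refine ⟨hjc, ts ++ r, by simp [hn]; omega, hrJ, ?_⟩
  rw [List.take_append, hn, Nat.sub_self, List.take_zero, List.append_nil, List.take_of_length_le hn.le]
  refine ⟨hreg, ?_⟩
  rw [smul_eq_mul, Ideal.mul_top]
  exact (ne_top_of_le_ne_top hJ (Ideal.span_le.2 htJ)).symm

end Groth.Agent.S17873
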