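import Groth.Statements.S17874
import Groth.Agent.L13.DSeq.Gens
import Mathlib.RingTheory.Ideal.KrullsHeightTheorem
import Mathlib.RingTheory.KrullDimension.NonZeroDivisors
import Mathlib.RingTheory.RegularLocalRing.Defs
import Mathlib.Tactic.Ring

set_option autoImplicit false
universe u
open GRRSing

namespace Groth.Agent.S17874

/-- Let T be a Cohen–Macaulay Noetherian local ring and p a prime ideal of T whose minimal number of
generators is at most height(p) + 1, and assume the localization T_p is a regular local ring. In
that case some d-sequence generates p: there is a list of elements generating p, no member of which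
lies in the ideal of the others, and such that for all positions i ≤ k the colon ideals ((t_1, …,
t_{i-1}) : t_k t_i) and ((t_1, …, t_{i-1}) : t_k) coincide. -/
theorem result {T : Type u} [CommRing T] [LocCoh.IsCohenMacaulayLocalRing T]
    (p : Ideal T) [p.IsPrime] (hgen : (Submodule.spanFinrank p : ℕ∞) ≤ p.height + 1)
    [IsRegularLocalRing (Localization.AtPrime p)] :
    ∃ ts : List T, Ideal.ofList ts = p ∧ W4c5grrsingularflat.IsDSeq ts := by
  classical
  open IsLocalRing RingTheory.Sequence in
  obtain ⟨n, hn⟩ := ENat.ne_top_iff_exists.1 (Ideal.height_ne_top_of_isPrime (I := p))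
  have hc1 : Submodule.spanFinrank p ≤ n + 1 := by rw [← hn] at hgen; exact_mod_cast hgen
  have hc0 : n ≤ Submodule.spanFinrank p := by
    have := Ideal.height_le_spanFinrank p (Ideal.IsPrime.ne_top ‹_›)
    rw [← hn] at this; exact_mod_cast this
  let f := algebraMap T (Localization.AtPrime p)
  have hmap : p.map f = IsLocalRing.maximalIdeal (Localization.AtPrime p) := Localization.AtPrime.map_eq_maximalIdeal
  have hd : Submodule.spanFinrank (p.map f) = n := by
    have h := IsRegularLocalRing.spanFinrank_maximalIdeal (R := Localization.AtPrime p)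
    rw [IsLocalization.AtPrime.ringKrullDim_eq_height p, ← hn, ← hmap] at h
    exact_mod_cast h
  have hdepth : LocCoh.idealDepth p T = p.height :=
    (Groth.L04.isCohenMacaulayRing_iff_height).1 (Groth.L04.isCohenMacaulayRing_of_local T) p
      (Ideal.IsPrime.ne_top ‹_›)
  obtain ⟨ts, r, r', hlen, hreg, hr, hrp, hr', hr'p⟩ :=
    L13.DSeq.exists_gens f (Ideal.IsPrime.ne_top ‹p.IsPrime›) n (by rw [hdepth, hn]) hc0 (by omega)
  obtain rfl : r' = [] := List.eq_nil_of_length_eq_zero (by omega)
  rw [List.append_nil, hmap] at hr'p
  have htp : ∀ t ∈ ts, t ∈ p := fun t ht => hrp.le (Ideal.subset_span (List.mem_append_left _ ht))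
  have hpre : ∀ i, i ≤ n → (ts ++ r).take i = ts.take i := fun i hi => by
    rw [List.take_append, show i - ts.length = 0 by omega, List.take_zero, List.append_nil]
  refine ⟨ts ++ r, hrp, fun i hi => ?_, fun i k hk hik => ?_⟩
  · -- irredundance
    let L : Finset T := (Finset.univ.erase i).image fun j : Fin (ts ++ r).length => (ts ++ r).get j
    have hLp : Ideal.span (L : Set T) = p := by
      refine le_antisymm (Ideal.span_le.2 ?_) ?_
      · intro x hx
        obtain ⟨j, -, rfl⟩ := Finset.mem_image.1 hx
        exact hrp.le (Ideal.subset_span (List.get_mem _ _))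
      · conv_lhs => rw [← hrp]
        refine Ideal.span_le.2 fun x hx => ?_
        obtain ⟨j, hj, rfl⟩ := List.mem_iff_getElem.1 hx
        by_cases hji : (⟨j, hj⟩ : Fin (ts ++ r).length) = i
        · subst hji
          refine Ideal.span_mono ?_ hi
          rintro _ ⟨⟨l, hl⟩, rfl⟩
          exact Finset.mem_image.2 ⟨l, Finset.mem_erase.2 ⟨hl, Finset.mem_univ _⟩, rfl⟩
        · exact Ideal.subset_span (Finset.mem_image.2 ⟨⟨j, hj⟩, Finset.mem_erase.2 ⟨hji, Finset.mem_univ _⟩, rfl⟩)
    have h1 : L.card ≤ (ts ++ r).length - 1 := le_trans Finset.card_image_le (by simp)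
    have h2 : Submodule.spanFinrank p ≤ L.card := by
      rw [← Set.ncard_coe_finset]
      conv_lhs => rw [← hLp]
      exact Submodule.spanFinrank_span_le_ncard_of_finite L.finite_toSet
    have := i.pos
    simp only [List.length_append] at h1 this
    omega
  · have hkl : k < n + r.length := by simpa [hlen] using hk
    refine le_antisymm (fun x hx => ?_) (fun x hx => ?_)
    swap
    · rw [Submodule.mem_colon_singleton, smul_eq_mul] at hx ⊢
      rw [← mul_assoc]
      exact Ideal.mul_mem_right _ _ hx
    rw [Submodule.mem_colon_singleton, smul_eq_mul] at hx ⊢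
    rw [hpre i (by omega)] at hx ⊢
    by_cases hi : i < n
    · have hreg' := hreg.regular_mod_prev i (by omega)
      have e : (ts ++ r)[i] = ts[i] := List.getElem_append_left _
      rw [e] at hx
      have := hreg' (a₁ := Submodule.Quotient.mk (x * (ts ++ r)[k])) (a₂ := 0) ?_
      · rwa [Submodule.Quotient.mk_eq_zero, smul_eq_mul, Ideal.mul_top] at this
      · show ts[i] • Submodule.Quotient.mk (x * (ts ++ r)[k]) = ts[i] • 0
        rw [smul_zero, ← Submodule.Quotient.mk_smul, Submodule.Quotient.mk_eq_zero, smul_eq_mul,
          smul_eq_mul, Ideal.mul_top]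
        convert hx using 1
        ring
    · obtain rfl : i = n := by omega
      obtain rfl : k = i := by omega
      rw [List.take_of_length_le hlen.le] at hx ⊢
      set t := (ts ++ r)[k] with ht
      have htmem : t ∈ p := hrp.le (Ideal.subset_span (List.getElem_mem _))
      by_contra hy
      let y : T ⧸ (Ideal.ofList ts • ⊤ : Submodule T T) := Submodule.Quotient.mk (x * t)
      obtain ⟨P, hP, hyP⟩ := exists_le_isAssociatedPrime_of_isNoetherianRing T y (by
        rwa [Ne, Submodule.Quotient.mk_eq_zero, smul_eq_mul, Ideal.mul_top])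
      haveI := hP.isPrime
      have hcol : ∀ s, s * (x * t) ∈ Ideal.ofList ts → s ∈ P := fun s hs => hyP (by
        rw [Submodule.mem_colon_singleton, Submodule.mem_bot, ← Submodule.Quotient.mk_smul,
          Submodule.Quotient.mk_eq_zero, smul_eq_mul, smul_eq_mul, Ideal.mul_top]
        exact hs)
      have hpP : p ≤ P := by
        conv_lhs => rw [← hrp]
        refine Ideal.span_le.2 fun z hz => ?_
        rcases List.mem_append.1 hz with hz | hz
        · exact hcol z (Ideal.mul_mem_right _ _ (Ideal.subset_span hz))
        · obtain ⟨w, rfl⟩ := List.length_eq_one_iff.1 (show r.length = 1 by omega)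
          obtain rfl : z = w := List.mem_singleton.1 hz
          have : t = z := by simp [ht, List.getElem_append_right (show ts.length ≤ k by omega)]
          rw [← this]
          exact hcol t (by convert hx using 1; ring)
      -- all associated primes have the dimension of the quotient
      have hCM := Groth.L04.isCohenMacaulayModule_quotient_ofList (M := T)
        (by exact LocCoh.IsCohenMacaulayLocalRing.supportDim_eq_depth) hreg
        (fun r hr => IsLocalRing.le_maximalIdeal (Ideal.IsPrime.ne_top ‹p.IsPrime›) (htp r hr))
      have hdim := Groth.L04.ringKrullDim_quotient_eq_supportDim_of_isCM hCM hP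
      have hle : ringKrullDim (T ⧸ p) ≤
          Module.supportDim T (T ⧸ (Ideal.ofList ts • ⊤ : Submodule T T)) := by
        rw [← Module.supportDim_quotient_eq_ringKrullDim]
        refine Module.supportDim_le_of_surjective (Submodule.factor ?_) (Submodule.factor_surjective _)
        rw [smul_eq_mul, Ideal.mul_top]
        exact Ideal.span_le.2 htp
      have hPp : P = p := by
        by_contra hne
        obtain ⟨s, hsP, hsp⟩ := SetLike.not_le_iff_exists.1 (fun h => hne (le_antisymm h hpP))
        have h1 := ringKrullDim_succ_le_of_surjective (Ideal.Quotient.factor hpP)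
          (Ideal.Quotient.factor_surjective hpP) (r := Ideal.Quotient.mk p s)
          (mem_nonZeroDivisors_of_ne_zero (by rwa [Ne, Ideal.Quotient.eq_zero_iff_mem]))
          (by rw [Ideal.Quotient.factor_mk, Ideal.Quotient.eq_zero_iff_mem]; exact hsP)
        have hchain : ringKrullDim (T ⧸ p) + 1 ≤ ringKrullDim (T ⧸ p) :=
          le_trans (add_le_add (hle.trans hdim.ge) le_rfl) h1
        haveI : Nontrivial (T ⧸ p) := Ideal.Quotient.nontrivial_iff.2 (Ideal.IsPrime.ne_top ‹_›)
        haveI : IsLocalRing (T ⧸ p) := IsLocalRing.of_surjective' (Ideal.Quotient.mk p) Ideal.Quotient.mk_surjective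
        obtain ⟨d, hd'⟩ : ∃ d : ℕ, ringKrullDim (T ⧸ p) = d := by
          obtain ⟨d, hd'⟩ := ENat.ne_top_iff_exists.1
            (Ideal.height_ne_top_of_isPrime (I := IsLocalRing.maximalIdeal (T ⧸ p)))
          exact ⟨d, by rw [← IsLocalRing.maximalIdeal_height_eq_ringKrullDim, ← hd']; rfl⟩
        rw [hd'] at hchain
        have : d + 1 ≤ d := by exact_mod_cast hchain
        omega
      -- at `p` the element `t` lies in the ideal of the regular sequence
      have htloc : f t ∈ (Ideal.ofList ts).map f := by
        rw [Ideal.map_ofList, hr'p, ← hmap]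
        exact Ideal.mem_map_of_mem f htmem
      obtain ⟨⟨u, s⟩, hus⟩ := (IsLocalization.mem_map_algebraMap_iff p.primeCompl (Localization.AtPrime p)).1 htloc
      rw [← map_mul] at hus
      obtain ⟨s', hs'⟩ := (IsLocalization.eq_iff_exists p.primeCompl (Localization.AtPrime p)).1 hus
      have hsP : s'.1 * s.1 ∈ P := by
        refine hcol _ ?_
        rw [show (s'.1 * s.1) * (x * t) = x * (s'.1 * (t * s.1)) by ring, hs']
        exact Ideal.mul_mem_left _ _ (Ideal.mul_mem_left _ _ u.2)
      rw [hPp] at hsP
      exact (mul_mem (s := p.primeCompl) s'.2 s.2) hsP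

end Groth.Agent.S17874
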