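import Groth.Statements.S17875
import Mathlib.Data.Nat.Choose.Cast
import Mathlib.Data.Nat.Choose.Sum
import Mathlib.Algebra.CharZero.Defs
import Mathlib.Tactic.FieldSimp
import Mathlib.Tactic.Ring
import Mathlib.Algebra.Module.Rat

set_option autoImplicit false
universe u
open Polynomial
open GRRSing

namespace Groth.Agent.S17875

/-- Let R be a commutative ℚ-algebra, r an element of R and δ a natural number with (r - 1) ^ (δ + 1) =
0. Write s(k, j) for the signed Stirling numbers of the first kind, the coefficients of x (x - 1) ⋯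
(x - k + 1) = Σ_j s(k, j) x ^ j. Then (i) for every natural number n, r ^ n = Σ_{k ≤ δ} [n (n - 1) ⋯
(n - k + 1) / k!] (r - 1) ^ k; and (ii) in the polynomial ring R[x], Σ_{k ≤ δ} [x (x - 1) ⋯ (x - k +
1) / k!] (r - 1) ^ k = Σ_{j ≤ δ} [Σ_{k ≤ δ} Σ_{u ≤ k} (-1) ^ (k - u) s(k, j) / (u! (k - u)!) · r ^
u] x ^ j. -/
theorem result {R : Type u} [CommRing R] [Algebra ℚ R]
    (r : R) (δ : ℕ) (hr : (r - 1) ^ (δ + 1) = 0) :
    (∀ n : ℕ, r ^ n = ∑ k ∈ Finset.range (δ + 1), ((descPochhammer ℚ k).eval (n : ℚ) / (k.factorial : ℚ)) • (r - 1) ^ k) ∧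
    (∑ k ∈ Finset.range (δ + 1), ((k.factorial : ℚ)⁻¹ • (descPochhammer R k * Polynomial.C ((r - 1) ^ k))) =
      ∑ j ∈ Finset.range (δ + 1), Polynomial.C (∑ k ∈ Finset.range (δ + 1), ∑ u ∈ Finset.range (k + 1),
        (((-1 : ℚ) ^ (k - u) * (((descPochhammer ℤ k).coeff j : ℤ) : ℚ)) / ((u.factorial * (k - u).factorial : ℕ) : ℚ)) • r ^ u) * Polynomial.X ^ j) := by
  constructor
  · intro n
    have hz : ∀ k, δ < k → (r - 1) ^ k = 0 := fun k hk => by
      rw [show k = (δ + 1) + (k - (δ + 1)) by omega, pow_add, hr, zero_mul]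
    have hc : ∀ k, (descPochhammer ℚ k).eval (n : ℚ) / (k.factorial : ℚ) = (n.choose k : ℚ) := by
      intro k
      rw [descPochhammer_eval_eq_descFactorial, Nat.descFactorial_eq_factorial_mul_choose,
        Nat.cast_mul, mul_div_cancel_left₀]
      exact_mod_cast k.factorial_ne_zero
    simp only [hc]
    calc r ^ n = ((r - 1) + 1) ^ n := by rw [sub_add_cancel]
      _ = ∑ k ∈ Finset.range (n + 1), ((n.choose k : ℚ)) • (r - 1) ^ k := by
          rw [add_pow]
          refine Finset.sum_congr rfl fun k _ => ?_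
          rw [one_pow, mul_one, Nat.cast_smul_eq_nsmul, nsmul_eq_mul, mul_comm]
      _ = ∑ k ∈ Finset.range (max (n + 1) (δ + 1)), ((n.choose k : ℚ)) • (r - 1) ^ k := by
          refine Finset.sum_subset (by intro x; simp; omega) fun k _ hk => ?_
          rw [Nat.choose_eq_zero_of_lt (by simpa using hk)]; simp
      _ = _ := by
          symm
          refine Finset.sum_subset (by intro x; simp; omega) fun k _ hk => ?_
          rw [hz k (by simpa using hk), smul_zero]
  · apply Polynomial.ext
    intro m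
    simp only [Polynomial.finsetSum_coeff, Polynomial.coeff_smul, Polynomial.coeff_mul_C,
      Polynomial.coeff_C_mul, Polynomial.coeff_X_pow, mul_ite, mul_one, mul_zero,
      Finset.sum_ite_eq, Finset.mem_range]
    have hd : ∀ k, (descPochhammer R k).coeff m = (((descPochhammer ℤ k).coeff m : ℤ) : R) := by
      intro k
      rw [← descPochhammer_map (Int.castRingHom R) k, Polynomial.coeff_map]; rfl
    have key : ∀ k : ℕ,
        (k.factorial : ℚ)⁻¹ • ((descPochhammer R k).coeff m * (r - 1) ^ k) =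
        ∑ u ∈ Finset.range (k + 1),
          (((-1 : ℚ) ^ (k - u) * (((descPochhammer ℤ k).coeff m : ℤ) : ℚ)) /
            ((u.factorial * (k - u).factorial : ℕ) : ℚ)) • r ^ u := by
      intro k
      rw [hd k, sub_eq_add_neg r 1, add_pow, Finset.mul_sum, Finset.smul_sum]
      refine Finset.sum_congr rfl fun u hu => ?_
      simp only [Algebra.smul_def]
      have hch : ((k.choose u : ℚ)) =
          (k.factorial : ℚ) / ((u.factorial * (k - u).factorial : ℕ) : ℚ) := by
        rw [Nat.cast_choose ℚ (by simpa [Nat.lt_succ_iff] using hu)]; push_cast; rfl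
      have hf : (k.factorial : ℚ) ≠ 0 := by exact_mod_cast k.factorial_ne_zero
      have e : ((-1 : ℚ) ^ (k - u) * (((descPochhammer ℤ k).coeff m : ℤ) : ℚ)) /
            ((u.factorial * (k - u).factorial : ℕ) : ℚ) =
          (k.factorial : ℚ)⁻¹ * ((((descPochhammer ℤ k).coeff m : ℤ) : ℚ) *
            ((-1 : ℚ) ^ (k - u) * (k.choose u : ℚ))) := by
        rw [hch]; field_simp
      rw [e]
      simp only [map_mul, map_pow, map_neg, map_one, map_intCast, map_natCast]
      ring
    simp only [key]
    split_ifs with hm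
    · rfl
    · refine Finset.sum_eq_zero fun k hk => Finset.sum_eq_zero fun u _ => ?_
      rw [Polynomial.coeff_eq_zero_of_natDegree_lt (lt_of_le_of_lt
        (le_of_eq (descPochhammer_natDegree ℤ k)) (by simp at hk hm; omega))]
      simp

end Groth.Agent.S17875
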