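import Groth.Statements.S17876
import Groth.Agent.L13.KcohNilp

set_option autoImplicit false
universe u
open CategoryTheory CategoryTheory.Limits AlgebraicGeometry
attribute [local instance] HasDerivedCategory.standard
open GRRSing

namespace Groth.Agent.S17876

/-- Let W be a Noetherian scheme and V a finite locally free O_W-module of constant rank r. Tensoring
with V is exact and preserves coherence (carried here as hypotheses), so it induces an endomorphism
[V] ⊗ (−) of K_0(Coh W), the Grothendieck group of coherent O_W-modules. Then [V] ⊗ (−) − r · id is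
a nilpotent endomorphism of K_0(Coh W): some iterate of it vanishes identically. (Equivalently:
rk(V) − V is nilpotent in the quotient of K^0(W) by the annihilator of K_0(W).) -/
theorem result {W : Scheme.{u}} [IsNoetherian W] (r : ℕ) (V : W.Modules)
    (hV : FlatMod.IsFinLocFreeOfRank r V)
    [((DCoh.tensorBi (X := W)).obj V).Additive] [PreservesFiniteLimits ((DCoh.tensorBi (X := W)).obj V)]
    [PreservesFiniteColimits ((DCoh.tensorBi (X := W)).obj V)]
    (hVc : ∀ M : W.Modules, Coh.IsCoh M → Coh.IsCoh (((DCoh.tensorBi (X := W)).obj V).obj M)) :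
    ∃ n : ℕ, ∀ y : SGA6.Kcoh W,
      (⇑(SGA6.mapSub ((DCoh.tensorBi (X := W)).obj V) (fun M : W.Modules => Coh.IsCoh M) (fun M : W.Modules => Coh.IsCoh M) hVc -
        r • AddMonoidHom.id (SGA6.Kcoh W)))^[n] y = 0 := by
  refine Groth.L13.KcohNilp.exists_nilpotent r V hV _ fun M hM => ?_
  rw [AddMonoidHom.sub_apply, AddMonoidHom.nsmul_apply, AddMonoidHom.id_apply]
  congr 1
  rw [Groth.L29.KSub.clSub_of _ hM]
  show QuotientAddGroup.mk (FreeAbelianGroup.map _ (FreeAbelianGroup.of _)) = _
  rw [FreeAbelianGroup.map_of_apply]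
  exact (Groth.L29.KSub.clSub_of (fun M : W.Modules => Coh.IsCoh M) (hVc M hM)).symm

end Groth.Agent.S17876
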