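import Groth.Statements.S17877
import Groth.Agent.L13.KaehlerGenerators
import Groth.Agent.L21.CurvFib.DimExt
import Mathlib.RingTheory.Spectrum.Prime.RingHom
import Mathlib.RingTheory.Flat.FaithfullyFlat.Algebra

set_option autoImplicit false
universe u
open GRRSing
open scoped TensorProduct

namespace Groth.Agent.S17877

/-- Let K be a field with algebraic closure K̄ and Z = Spec A an affine scheme of finite type over K of
dimension d whose geometric fibre Spec (K̄ ⊗_K A) is integral with at most hypersurface
singularities (at every prime the embedding dimension of the local ring, the dimension of 𝔪/𝔪² over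
the residue field, is at most the height of the prime plus one). Then for every prime p of A the
(Ω_{A/K})_p is generated over A_p by at most d + 1 elements. (The published statement is for any Z
of finite type over K; the assertion is local on Z and the hypotheses pass to affine opens.) -/
theorem result
    {K : Type u} [Field K] {A : Type u} [CommRing A] [Algebra K A] [Algebra.FiniteType K A]
    [IsDomain (TensorProduct K (AlgebraicClosure K) A)]
    (hhyp : ∀ (q : Ideal (TensorProduct K (AlgebraicClosure K) A)) [q.IsPrime],
      (Module.finrank (IsLocalRing.ResidueField (Localization.AtPrime q))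
          (IsLocalRing.CotangentSpace (Localization.AtPrime q)) : ℕ∞) ≤ q.height + 1)
    (d : ℕ) (hd : ringKrullDim A = d) (p : Ideal A) [p.IsPrime] :
    ∃ s : Finset (LocalizedModule p.primeCompl (KaehlerDifferential K A)),
      s.card ≤ d + 1 ∧ Submodule.span (Localization.AtPrime p) (s : Set (LocalizedModule p.primeCompl (KaehlerDifferential K A))) = ⊤ := by
  classical
  let L := AlgebraicClosure K
  letI : Algebra A (L ⊗[K] A) := Algebra.TensorProduct.rightAlgebra
  haveI : IsScalarTower K A (L ⊗[K] A) := Algebra.TensorProduct.right_isScalarTower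
  let c := Algebra.TensorProduct.comm K L A
  haveI : Nontrivial (A ⊗[K] L) := c.injective.nontrivial
  obtain ⟨Q, hQ⟩ := PrimeSpectrum.comap_surjective_of_faithfullyFlat (A := A) (B := A ⊗[K] L) ⟨p, inferInstance⟩
  haveI := Q.2
  let q : Ideal (L ⊗[K] A) := Q.asIdeal.comap (c : L ⊗[K] A →+* A ⊗[K] L)
  haveI : q.IsPrime := Ideal.IsPrime.comap _
  have hq : q.comap (algebraMap A (L ⊗[K] A)) = p := by
    have h1 : Q.asIdeal.comap (algebraMap A (A ⊗[K] L)) = p := congrArg PrimeSpectrum.asIdeal hQ
    rw [← h1, Ideal.comap_comap]
    congr 1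
  obtain ⟨M, hM, hqM⟩ := Ideal.exists_le_maximal q (Ideal.IsPrime.ne_top ‹_›)
  haveI : Algebra.IsPushout K L A (L ⊗[K] A) := inferInstance
  obtain ⟨s, hs, hspan⟩ := Groth.L13.KaehlerGen.exists_generators_localized (K := K) L p q hq M hqM
  refine ⟨s, hs.trans ?_, hspan⟩
  haveI : IsNoetherianRing (L ⊗[K] A) := Algebra.FiniteType.isNoetherianRing L _
  haveI : IsNoetherianRing (Localization.AtPrime M) :=
    IsLocalization.isNoetherianRing M.primeCompl _ inferInstance
  rw [IsLocalRing.spanFinrank_maximalIdeal_eq_finrank_cotangentSpace]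
  have hdim : ringKrullDim (L ⊗[K] A) = (d : WithBot ℕ∞) := by
    rw [ringKrullDim_eq_of_ringEquiv c.toRingEquiv, Groth.L21.CurvFib.ringKrullDim_tensor_field, hd]
  have hht : M.height ≤ (d : ℕ∞) := by
    have h2 : (M.height : WithBot ℕ∞) ≤ ringKrullDim (L ⊗[K] A) :=
      Ideal.height_le_ringKrullDim_of_isPrime
    rw [hdim] at h2
    exact_mod_cast h2
  have h3 := (hhyp M).trans (add_le_add_left hht 1)
  exact_mod_cast h3

end Groth.Agent.S17877
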