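import Groth.Statements.S17878
import Mathlib.Analysis.SpecificLimits.Normed
import Mathlib.RingTheory.PowerSeries.Exp
import Mathlib.Data.Nat.Choose.Cast
import Mathlib.Algebra.BigOperators.Field

set_option autoImplicit false
universe u
open Filter Topology
open GRRSing

namespace Groth.Agent.S17878

/-- Let T be a nonzero commutative normed ℂ-algebra such that the map ℂ → T/nilradical(T) is surjective,
let P = Σ_j d_j x ^ j be a polynomial over T and put h_k = P(k). Let E_0, E_1, … be the rational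
numbers with 2/(e^t + 1) = Σ_j E_j t ^ j / j! (so E_0 = 1, E_1 = -1/2). Then for every complex y
with |y| < 1 the series Σ_k h_k y ^ k converges in T, and as y → -1 along real y in (-1, 1) its sum
tends to (1/2) Σ_j E_j d_j. (The published statement allows any norm topology on T as a complex
vector space; this row takes T a normed ℂ-algebra.) -/
theorem result {T : Type u} [NormedCommRing T] [NormedAlgebra ℂ T] [Nontrivial T]
    (hT : Function.Surjective (algebraMap ℂ (T ⧸ nilradical T)))
    (E : ℕ → ℚ) (hE : PowerSeries.mk (fun j => E j / (j.factorial : ℚ)) * (PowerSeries.exp ℚ + 1) = 2)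
    (P : Polynomial T) :
    (∀ y : ℂ, ‖y‖ < 1 → Summable (fun k : ℕ => y ^ k • P.eval (k : T))) ∧
    Tendsto (fun y : ℝ => ∑' k : ℕ, ((y : ℂ) ^ k) • P.eval (k : T)) (𝓝[Set.Ioo (-1 : ℝ) 1] (-1 : ℝ))
      (𝓝 ((2 : ℂ)⁻¹ • ∑ j ∈ Finset.range (P.natDegree + 1), ((E j : ℚ) : ℂ) • P.coeff j)) := by
  have hsum : ∀ (j : ℕ) (y : ℂ), ‖y‖ < 1 → Summable (fun k : ℕ => (k : ℂ) ^ j * y ^ k) := fun j y hy =>
    summable_pow_mul_geometric_of_norm_lt_one j hy
  let g : ℕ → ℂ → ℂ := fun j y => ∑' k : ℕ, (k : ℂ) ^ j * y ^ k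
  have hterm : ∀ (y : ℂ), ‖y‖ < 1 → HasSum (fun k : ℕ => y ^ k • P.eval (k : T))
      (∑ j ∈ Finset.range (P.natDegree + 1), g j y • P.coeff j) := by
    intro y hy
    have h := hasSum_sum (s := Finset.range (P.natDegree + 1))
      (fun j _ => ((hsum j y hy).hasSum.smul_const (P.coeff j)))
    refine h.congr_fun fun k => ?_
    rw [Polynomial.eval_eq_sum_range, Finset.smul_sum]
    refine Finset.sum_congr rfl fun j _ => ?_
    rw [show ((k : T) ^ j : T) = algebraMap ℂ T ((k : ℂ) ^ j) by simp, mul_comm (P.coeff j),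
      ← Algebra.smul_def, smul_smul, mul_comm]
  refine ⟨fun y hy => (hterm y hy).summable, ?_⟩
  -- the recursion for the power sums
  have hrec : ∀ (j : ℕ) (y : ℂ), ‖y‖ < 1 →
      (1 - y) * g j y = (0 : ℂ) ^ j + y * ∑ i ∈ Finset.range j, (j.choose i : ℂ) * g i y := by
    intro j y hy
    have h1 : HasSum (fun k : ℕ => ((k + 1 : ℕ) : ℂ) ^ j * y ^ (k + 1)) (g j y - (0 : ℂ) ^ j) := by
      have := (hasSum_nat_add_iff' 1).2 (hsum j y hy).hasSum
      simpa using this
    have h2 : HasSum (fun k : ℕ => ((k + 1 : ℕ) : ℂ) ^ j * y ^ (k + 1))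
        (y * ∑ i ∈ Finset.range (j + 1), (j.choose i : ℂ) * g i y) := by
      refine ((hasSum_sum (s := Finset.range (j + 1))
        (fun i _ => (hsum i y hy).hasSum.mul_left (j.choose i : ℂ))).mul_left y).congr_fun fun k => ?_
      rw [Nat.cast_add, Nat.cast_one, add_pow, Finset.mul_sum, Finset.sum_mul]
      refine Finset.sum_congr rfl fun i _ => ?_
      ring
    have h := h1.unique h2
    rw [Finset.sum_range_succ, Nat.choose_self, Nat.cast_one, one_mul, mul_add] at h
    linear_combination h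
  have hE' : ∀ j : ℕ, 2 * (E j : ℂ) + ∑ i ∈ Finset.range j, (j.choose i : ℂ) * (E i : ℂ) =
      2 * (0 : ℂ) ^ j := by
    intro j
    have h := congrArg (PowerSeries.coeff j) hE
    rw [mul_add, mul_one, map_add, PowerSeries.coeff_mul,
      Finset.Nat.sum_antidiagonal_eq_sum_range_succ
        (fun a b => PowerSeries.coeff a (PowerSeries.mk fun j => E j / (j.factorial : ℚ)) *
          PowerSeries.coeff b (PowerSeries.exp ℚ)) j] at h
    simp only [PowerSeries.coeff_mk, PowerSeries.coeff_exp] at h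
    have h2 : PowerSeries.coeff j (2 : PowerSeries ℚ) = 2 * (0 : ℚ) ^ j := by
      rw [show (2 : PowerSeries ℚ) = PowerSeries.C 2 from rfl, PowerSeries.coeff_C]
      rcases j with _ | j <;> simp
    rw [h2, Finset.sum_range_succ, Nat.sub_self] at h
    have key : 2 * E j + ∑ i ∈ Finset.range j, (j.choose i : ℚ) * E i = 2 * (0 : ℚ) ^ j := by
      have hfac : (j.factorial : ℚ) ≠ 0 := by exact_mod_cast j.factorial_ne_zero
      have hsum' : (∑ i ∈ Finset.range j, (E i / (i.factorial : ℚ)) *
          (algebraMap ℚ ℚ (1 / ((j - i).factorial : ℚ)))) * (j.factorial : ℚ) =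
            ∑ i ∈ Finset.range j, (j.choose i : ℚ) * E i := by
        rw [Finset.sum_mul]
        refine Finset.sum_congr rfl fun i hi => ?_
        rw [Nat.cast_choose ℚ (Finset.mem_range.1 hi).le]
        simp only [Algebra.algebraMap_self, RingHom.id_apply]
        ring
      have h0 : (2 * (0 : ℚ) ^ j) * (j.factorial : ℚ) = 2 * (0 : ℚ) ^ j := by
        rcases j with _ | j <;> simp
      rw [← hsum', ← h0, ← h]
      simp [field]
      ring
    have := congrArg (fun q : ℚ => (q : ℂ)) key
    simpa using this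
  have hlim : ∀ j : ℕ, Tendsto (fun y : ℝ => g j (y : ℂ)) (𝓝[Set.Ioo (-1 : ℝ) 1] (-1 : ℝ))
      (𝓝 ((E j : ℂ) / 2)) := by
    intro j
    induction j using Nat.strong_induction_on with
    | _ j ih =>
      have hy : Tendsto (fun y : ℝ => (y : ℂ)) (𝓝[Set.Ioo (-1 : ℝ) 1] (-1 : ℝ)) (𝓝 (-1 : ℂ)) := by
        have := (Complex.continuous_ofReal.tendsto (-1 : ℝ)).mono_left
          (nhdsWithin_le_nhds (s := Set.Ioo (-1 : ℝ) 1))
        simpa using this
      have h := ((tendsto_const_nhds (x := (0 : ℂ) ^ j)).add (hy.mul (tendsto_finsetSum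
        (Finset.range j) fun i hi => (ih i (Finset.mem_range.1 hi)).const_mul (j.choose i : ℂ)))).div
        (tendsto_const_nhds.sub hy) (show (1 : ℂ) - -1 ≠ 0 by norm_num)
      have hval : ((0 : ℂ) ^ j + -1 * ∑ i ∈ Finset.range j, (j.choose i : ℂ) * ((E i : ℂ) / 2)) /
          (1 - -1) = (E j : ℂ) / 2 := by
        have := hE' j
        rw [show ∑ i ∈ Finset.range j, (j.choose i : ℂ) * ((E i : ℂ) / 2) =
          (∑ i ∈ Finset.range j, (j.choose i : ℂ) * (E i : ℂ)) / 2 by
            rw [div_eq_mul_inv, Finset.sum_mul]; exact Finset.sum_congr rfl fun i _ => by ring]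
        linear_combination (-1 / 4 : ℂ) * this
      rw [hval] at h
      refine h.congr' ?_
      filter_upwards [self_mem_nhdsWithin] with y hyI
      have hn : ‖(y : ℂ)‖ < 1 := by
        rw [Complex.norm_real, Real.norm_eq_abs, abs_lt]; exact hyI
      have hne : (1 : ℂ) - (y : ℂ) ≠ 0 := by
        intro h0
        rw [sub_eq_zero] at h0
        rw [← h0] at hn
        simp at hn
      rw [Pi.div_apply, div_eq_iff hne]
      exact (hrec j y hn).symm.trans (mul_comm _ _)
  rw [Finset.smul_sum]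
  refine (tendsto_finsetSum (Finset.range (P.natDegree + 1))
    fun j _ => ((hlim j).smul_const (P.coeff j))).congr' ?_ |>.mono_right ?_
  · filter_upwards [self_mem_nhdsWithin] with y hyI
    refine ((hterm y ?_).tsum_eq).symm
    rw [Complex.norm_real, Real.norm_eq_abs, abs_lt]; exact hyI
  · refine le_of_eq (congrArg 𝓝 (Finset.sum_congr rfl fun j _ => ?_))
    rw [smul_smul, div_eq_inv_mul]

end Groth.Agent.S17878
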