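import Groth.Statements.S17880
import Groth.Agent.L19.Approx.FactorSystem

set_option autoImplicit false
set_option backward.isDefEq.respectTransparency.types false
set_option backward.isDefEq.respectTransparency false
set_option linter.style.haveILetI false
universe u
open CategoryTheory AlgebraicGeometry
open Lim

namespace Groth.Agent.S17880

/-- Let f : Y → X be a morphism of schemes with X and Y quasi-compact and quasi-separated. Then f is the
composite of an affine morphism Y → Z and a morphism Z → X of finite presentation (locally of finite
presentation, quasi-compact and quasi-separated); if f is separated, Z → X can in addition be chosen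
separated. Both assertions are packaged in one existential. -/
theorem result {X Y : Scheme.{u}} (f : Y ⟶ X)
    [CompactSpace X] [QuasiSeparatedSpace X] [CompactSpace Y] [QuasiSeparatedSpace Y] :
    ∃ (Z : Scheme.{u}) (g : Y ⟶ Z) (h : Z ⟶ X), IsAffineHom g ∧ LocallyOfFinitePresentation h ∧
      QuasiCompact h ∧ QuasiSeparated h ∧ (IsSeparated f → IsSeparated h) ∧ g ≫ h = f := by
  obtain ⟨M, g, a, hg, hc, hq, ha, hag⟩ := Groth.L19.Approx.affFactors f
  haveI : QuasiCompact g := quasiCompact_of_compactSpace g
  by_cases hs : IsSeparated f
  · haveI : IsSeparated (CategoryTheory.CategoryStruct.comp a g) := hag ▸ hs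
    obtain ⟨i, hi⟩ := Groth.L19.Approx.exists_factorSystem_isSeparated a g
    haveI := Groth.L19.Approx.compactSpace_factorSystem a g i
    exact ⟨_, _, _, Groth.L19.Approx.isAffineHom_factorCone_π a g i,
      Groth.L19.Approx.lfp_factorSystem a g i, quasiCompact_of_compactSpace _, inferInstance,
      fun _ => hi, (CategoryTheory.Over.w ((Groth.L19.Approx.factorCone a g).π.app i)).trans hag⟩
  · exact ⟨M, a, g, ha, hg, inferInstance, inferInstance, fun h => absurd h hs, hag⟩

end Groth.Agent.S17880
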