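import Groth.Statements.S17879
import Groth.Agent.L13.Nagata.AffineOpen
import Groth.Agent.S17880

set_option autoImplicit false
universe u
open CategoryTheory AlgebraicGeometry
open Lim

namespace Groth.Agent.S17879

/-- Let f : Y → X be a morphism of schemes with X and Y quasi-compact and quasi-separated. Then f is
separated if and only if it is the composite of an affine morphism Y → Z and a proper morphism Z →
X, for some scheme Z. -/
theorem result {X Y : Scheme.{u}} (f : Y ⟶ X)
    [CompactSpace X] [QuasiSeparatedSpace X] [CompactSpace Y] [QuasiSeparatedSpace Y] :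
    IsSeparated f ↔
      ∃ (Z : Scheme.{u}) (g : Y ⟶ Z) (h : Z ⟶ X), IsAffineHom g ∧ IsProper h ∧ g ≫ h = f := by
  constructor
  · intro hf
    obtain ⟨M, a, g, ha, hg, hc, -, hs, hag⟩ := Groth.Agent.S17880.result f
    haveI := hs hf
    obtain ⟨Z, j, p, hj, hja, hp, hjp⟩ := Groth.L13.Nagata.exists_affine_compactification g
    exact ⟨Z, a ≫ j, p, inferInstance, hp, by rw [Category.assoc, hjp, hag]⟩
  · rintro ⟨Z, g, h, hg, hh, rfl⟩
    infer_instance

end Groth.Agent.S17879
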