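import Groth.Statements.S17881
import Mathlib.Tactic
import Mathlib.RingTheory.Spectrum.Prime.Module
import Mathlib.RingTheory.LocalRing.Module
import Mathlib.RingTheory.Localization.AtPrime.Basic
import Mathlib.RingTheory.Ideal.KrullsHeightTheorem
import Mathlib.LinearAlgebra.Matrix.NonsingularInverse
import Mathlib.RingTheory.TensorProduct.Quotient
import Mathlib.RingTheory.Flat.FaithfullyFlat.Basic
import Mathlib.LinearAlgebra.TensorProduct.Prod
import Mathlib.RingTheory.LocalProperties.Reduced

set_option autoImplicit false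
universe u
open CAlg

namespace Groth.Agent.S17881

/-- Let O be a subring of a nontrivial commutative ring A. The following are equivalent: (i) A is a
local ring, every non-unit of A belongs to O, and for every unit u of A one of u, u⁻¹ belongs to O —
equivalently O is the preimage in the local ring A of a valuation ring of the residue field of A,
which makes O a semi-valuation ring with semi-fraction ring A; (ii) for all f, g in A generating the
unit ideal, either f ∈ gO or g ∈ fO. (A is taken nontrivial: over the zero ring (ii) holds and (i)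
fails.) -/
theorem result (A : Type u) [CommRing A] [Nontrivial A]
    (O : Subring A) :
    (IsLocalRing A ∧ (∀ a : A, ¬ IsUnit a → a ∈ O) ∧ (∀ u : Aˣ, (u : A) ∈ O ∨ ((u⁻¹ : Aˣ) : A) ∈ O)) ↔
      ∀ f g : A, IsCoprime f g → (∃ o ∈ O, f = g * o) ∨ (∃ o ∈ O, g = f * o) := by
  constructor
  · rintro ⟨hloc, hn, hu⟩
    have key : ∀ f g : A, IsUnit g → (∃ o ∈ O, f = g * o) ∨ (∃ o ∈ O, g = f * o) := by
      intro f g hg
      by_cases hf : IsUnit f
      · rcases hu (hf.unit * hg.unit⁻¹) with h | h
        · exact Or.inl ⟨_, h, by simp [mul_comm f, ← mul_assoc]⟩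
        · exact Or.inr ⟨_, h, by rw [mul_inv_rev, inv_inv, Units.val_mul, IsUnit.unit_spec, mul_left_comm, hf.mul_val_inv, mul_one]⟩
      · refine Or.inl ⟨((hg.unit⁻¹ : Aˣ) : A) * f, hn _ fun h => hf ?_, by simp [← mul_assoc]⟩
        exact (Units.isUnit_units_mul _ _).mp h
    intro f g hfg
    obtain ⟨a, b, hab⟩ := hfg
    rcases IsLocalRing.isUnit_or_isUnit_of_add_one hab with h | h
    · exact (key g f (isUnit_of_mul_isUnit_right h)).symm
    · exact key f g (isUnit_of_mul_isUnit_right h)
  · intro h
    refine ⟨IsLocalRing.of_isUnit_or_isUnit_one_sub_self fun a => ?_, fun a ha => ?_, fun u => ?_⟩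
    · obtain ⟨b, hb, hab⟩ : ∃ b, b = 1 - a ∧ a + b = 1 := ⟨1 - a, rfl, by ring⟩
      rw [← hb]
      rcases h a b ⟨1, 1, by simpa using hab⟩ with ⟨o, _, ho⟩ | ⟨o, _, ho⟩
      · exact Or.inr (IsUnit.of_mul_eq_one (o + 1) (by rw [ho] at hab; linear_combination hab))
      · exact Or.inl (IsUnit.of_mul_eq_one (o + 1) (by rw [ho] at hab; linear_combination hab))
    · rcases h a 1 isCoprime_one_right with ⟨o, ho, he⟩ | ⟨o, _, he⟩
      · rw [one_mul] at he; exact he ▸ ho
      · exact absurd (IsUnit.of_mul_eq_one o he.symm) ha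
    · rcases h u 1 isCoprime_one_right with ⟨o, ho, he⟩ | ⟨o, ho, he⟩
      · rw [one_mul] at he; exact Or.inl (he ▸ ho)
      · refine Or.inr ?_
        have : ((u⁻¹ : Aˣ) : A) = o := by rw [← mul_one ((u⁻¹ : Aˣ) : A), he, ← mul_assoc, Units.inv_mul, one_mul]
        exact this ▸ ho

end Groth.Agent.S17881
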