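import Groth.Statements.S17882
import Mathlib.LinearAlgebra.Matrix.Adjugate
import Mathlib.LinearAlgebra.Matrix.NonsingularInverse
import Mathlib.LinearAlgebra.LinearIndependent.Basic

set_option autoImplicit false
universe u
open CAlg

namespace Groth.Agent.S17882

/-- Let B be a commutative ring, r ≥ 1, N a finitely generated submodule of B^r, and n_1, …, n_r ∈ N.
Suppose the determinant of the matrix with rows n_1, …, n_r is a nonzerodivisor of B and that the
determinant of every matrix whose rows lie in N is a multiple of it (the image of the top exterior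
power of N in that of B^r ≅ B is the principal ideal generated by n_1 ∧ ⋯ ∧ n_r, a nonzerodivisor).
Then n_1, …, n_r are linearly independent over B and span N: N is free of rank r with this basis. -/
theorem result (B : Type u) [CommRing B] (r : ℕ) (hr : 0 < r)
    (N : Submodule B (Fin r → B)) (hN : N.FG) (n : Fin r → (Fin r → B)) (hn : ∀ i, n i ∈ N)
    (hgen : ∀ m : Fin r → (Fin r → B), (∀ i, m i ∈ N) →
      Matrix.det (Matrix.of m) ∈ Ideal.span {Matrix.det (Matrix.of n)})
    (hnzd : Matrix.det (Matrix.of n) ∈ nonZeroDivisors B) :
    LinearIndependent B n ∧ Submodule.span B (Set.range n) = N := by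
  classical
  let M : Matrix (Fin r) (Fin r) B := Matrix.of n
  have hreg : ∀ x : B, M.det * x = 0 → x = 0 := fun x hx => (mem_nonZeroDivisors_iff.1 hnzd).1 x hx
  refine ⟨?_, le_antisymm (Submodule.span_le.2 (by rintro _ ⟨i, rfl⟩; exact hn i)) fun x hx => ?_⟩
  · rw [Fintype.linearIndependent_iff]
    intro g hg i
    have hg' : Matrix.vecMul g M = 0 := by
      funext j
      have := congrFun hg j
      simpa [Matrix.vecMul, dotProduct, M, Finset.sum_apply] using this
    have h2 := congrArg (fun v => Matrix.vecMul v M.adjugate) hg'
    simp only [Matrix.vecMul_vecMul, Matrix.mul_adjugate, Matrix.vecMul_smul, Matrix.vecMul_one, Matrix.zero_vecMul] at h2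
    exact hreg _ (by simpa using congrFun h2 i)
  · have hdiv : ∀ i, ∃ c : B, c * M.det = (M.updateRow i x).det := fun i => by
      refine Ideal.mem_span_singleton'.1 (hgen (fun j => (M.updateRow i x) j) fun j => ?_)
      by_cases hj : j = i
      · subst hj; simpa using hx
      · rw [Matrix.updateRow_ne hj]; exact hn j
    choose c hc using hdiv
    have hx' : Matrix.vecMul c M = x := by
      have h1 : Matrix.vecMul (Matrix.cramer M.transpose x) M = M.det • x := by
        rw [← Matrix.mulVec_transpose, Matrix.mulVec_cramer, Matrix.det_transpose]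
      have h2 : Matrix.cramer M.transpose x = M.det • c := by
        funext i
        rw [Matrix.cramer_transpose_apply, ← hc i, Pi.smul_apply, smul_eq_mul, mul_comm]
      rw [h2, Matrix.smul_vecMul] at h1
      funext j
      refine sub_eq_zero.1 (hreg _ ?_)
      rw [mul_sub, sub_eq_zero]
      exact congrFun h1 j
    rw [← hx']
    have e : Matrix.vecMul c M = ∑ i, c i • n i := by
      funext j; simp [Matrix.vecMul, dotProduct, M, Finset.sum_apply]
    rw [e]
    exact Submodule.sum_mem _ fun i _ => Submodule.smul_mem _ _ (Submodule.subset_span ⟨i, rfl⟩)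


end Groth.Agent.S17882
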