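import Groth.Statements.S17884
import Groth.Agent.L13.Nagata.LocFreeCompact

set_option autoImplicit false
universe u v
open CategoryTheory AlgebraicGeometry
open FlatMor

namespace Groth.Agent.S17884

/-- Let S be a Noetherian scheme and f : X → S a separated quasi-projective morphism (of finite type,
with an f-ample invertible module), and let (E_i) be a finite family of finite locally free
O_X-modules. Then there exist a scheme X', an open immersion j : X → X' with schematically dense
image and a projective morphism g : X' → S with j ≫ g = f, and for each i a finite locally free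
module on X' whose pullback along j is isomorphic to E_i. -/
theorem result {S X : Scheme.{u}} (f : X ⟶ S)
    [IsNoetherian S] [IsSeparated f] (hf : RelProj.IsQuasiProjective f)
    {ι : Type v} [Finite ι] (E : ι → X.Modules) (hE : ∀ i, FlatMod.IsFinLocFree (E i)) :
    ∃ (X' : Scheme.{u}) (j : X ⟶ X') (g : X' ⟶ S), IsOpenImmersion j ∧ QuasiCompact j ∧
      IsSchemeTheoreticallyDominant j ∧ RelProj.IsProjective g ∧ j ≫ g = f ∧
      ∀ i, ∃ E' : X'.Modules, FlatMod.IsFinLocFree E' ∧
        Nonempty ((Scheme.Modules.pullback j).obj E' ≅ E i) := by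
  obtain ⟨hl, hc, L, hL, hva⟩ := Groth.L18.PBundle.exists_isRelVeryAmple_of_isQuasiProjective f hf
  obtain ⟨𝒮, P, p, chart, -, -, j₀, hgen, hft, hP, -, hj₀, -, hjp, -⟩ := Groth.L18.PBundle.exists_openDense f hL hva
  have hproj : RelProj.IsProjective p := ⟨𝒮, P, p, chart, Iso.refl _, hgen, hft, hP, Category.id_comp p⟩
  haveI : IsProper p := Groth.L27.ProjProper.isProper_of_isProjective hproj
  haveI : IsOpenImmersion j₀ := hj₀
  haveI : QuasiCompact (j₀ ≫ p) := by rw [hjp]; exact hc
  haveI : QuasiCompact j₀ := QuasiCompact.of_comp j₀ p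
  obtain ⟨X', j, g, h1, h2, h3, -, h5, h6, h7⟩ := Groth.L13.Nagata.exists_locFree_compactification j₀ p E hE
  exact ⟨X', j, g, h1, h2, h3, h5 hproj, h6.trans hjp, h7⟩

end Groth.Agent.S17884
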