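import Groth.Statements.S17885
import Groth.Agent.L19.Approx.AffineFinite

set_option autoImplicit false
set_option backward.isDefEq.respectTransparency.types false
set_option backward.isDefEq.respectTransparency false
set_option linter.style.haveILetI false
universe u
open CategoryTheory AlgebraicGeometry
open Lim

namespace Groth.Agent.S17885

/-- Let f : Y → X be a morphism of schemes with X and Y quasi-compact and quasi-separated. Then f is
affine if and only if the X-scheme Y is a limit, in the category of schemes over X, of a filtered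
inverse system of X-schemes that are affine and of finite presentation over X. -/
theorem result {X Y : Scheme.{u}} (f : Y ⟶ X)
    [CompactSpace X] [QuasiSeparatedSpace X] [CompactSpace Y] [QuasiSeparatedSpace Y] :
    IsAffineHom f ↔
      ∃ (I : Type u) (_ : SmallCategory I) (_ : IsFiltered I) (D : Iᵒᵖ ⥤ Over X)
        (c : Limits.Cone D) (_ : Limits.IsLimit c),
        (∀ i, IsAffineHom (D.obj i).hom ∧ LocallyOfFinitePresentation (D.obj i).hom) ∧
        Nonempty (c.pt ≅ Over.mk f) := by
  constructor
  · intro hf
    have h : Groth.L19.Approx.Cofinal f ⊤ := fun {_} => Groth.L19.Approx.cofinal_top f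
    haveI := Groth.L19.Approx.isDirected_idx h
    haveI := Groth.L19.Approx.nonempty_idx h
    exact ⟨Groth.L19.Approx.Idx f ⊤, Preorder.smallCategory _, inferInstance,
      Groth.L19.Approx.system f ⊤, Groth.L19.Approx.cone f ⊤,
      (Groth.L19.Approx.nonempty_isLimit_cone f ⊤ h).some,
      fun i => ⟨Groth.L19.Approx.isAffineHom_system_hom f ⊤ i,
        Groth.L19.Approx.lfp_system_hom f ⊤ i⟩, ⟨CategoryTheory.Iso.refl _⟩⟩
  · rintro ⟨I, hI, hF, D, c, hc, hD, ⟨e⟩⟩
    let F := D ⋙ CategoryTheory.Over.forget X
    haveI : ∀ {i j} (a : i ⟶ j), IsAffineHom (F.map a) := fun {i j} a => by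
      haveI := (hD j).1
      have hw : F.map a ≫ (D.obj j).hom = (D.obj i).hom := CategoryTheory.Over.w (D.map a)
      haveI : IsAffineHom (F.map a ≫ (D.obj j).hom) := by
        rw [hw]; exact (hD i).1
      exact IsAffineHom.of_comp _ (D.obj j).hom
    haveI : CategoryTheory.IsConnected Iᵒᵖ := CategoryTheory.IsCofiltered.isConnected _
    have hF' := Limits.isLimitOfPreserves (CategoryTheory.Over.forget X) hc
    obtain ⟨i⟩ := CategoryTheory.IsCofiltered.nonempty (C := Iᵒᵖ)
    haveI := (hD i).1
    haveI : IsAffineHom (c.π.app i).left :=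
      isAffineHom_π_app F ((CategoryTheory.Over.forget X).mapCone c) hF' i
    have h1 : IsAffineHom c.pt.hom := by
      have hw : (c.π.app i).left ≫ (D.obj i).hom = c.pt.hom := CategoryTheory.Over.w (c.π.app i)
      rw [← hw]; infer_instance
    have h2 : (CategoryTheory.Over.Hom.left e.inv) ≫ c.pt.hom = f := CategoryTheory.Over.w e.inv
    rw [← h2]
    infer_instance

end Groth.Agent.S17885
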