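import Groth.Statements.S17886
import Groth.Agent.S2337
import Groth.Agent.L20.GenSmooth.Scheme
import Mathlib.AlgebraicGeometry.QuasiAffine
import Mathlib.AlgebraicGeometry.Noetherian

set_option autoImplicit false
universe u
open CategoryTheory AlgebraicGeometry
open FlatMor

set_option backward.isDefEq.respectTransparency.types false
set_option linter.style.haveILetI false
namespace Groth.Agent.S17886

/-- Let S be a Noetherian scheme and f : X → S separated and of finite type. Then X is covered by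
finitely many affine opens U_1, …, U_n each of which is dense in X and quasi-projective over S (of
finite type with a relatively ample invertible module). -/
theorem result {S X : Scheme.{u}} (f : X ⟶ S)
    [IsNoetherian S] [IsSeparated f] [QuasiCompact f] [LocallyOfFiniteType f] :
    ∃ (n : ℕ) (U : Fin n → X.Opens), (⨆ i, U i) = ⊤ ∧
      ∀ i, IsAffineOpen (U i) ∧ Dense ((U i : Set X)) ∧ RelProj.IsQuasiProjective ((U i).ι ≫ f) := by
  haveI : IsLocallyNoetherian X := LocallyOfFiniteType.isLocallyNoetherian f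
  haveI : CompactSpace X := QuasiCompact.compactSpace_of_compactSpace f
  haveI : IsNoetherian X := ⟨⟩
  have key : ∀ x : X, ∃ U : X.Opens, x ∈ U ∧ IsAffineOpen U ∧ Dense (U : Set X) := fun x => by
    obtain ⟨_, ⟨A, hA, rfl⟩, hxA, -⟩ := X.isBasis_affineOpens.exists_subset_of_mem_open (Set.mem_univ x) isOpen_univ
    let O : X.Opens := ⟨(closure (A : Set X))ᶜ, isClosed_closure.isOpen_compl⟩
    haveI : TopologicalSpace.NoetherianSpace ↥O.toScheme := O.ι.isOpenEmbedding.isInducing.noetherianSpace
    obtain ⟨B, hB, hBd⟩ := Groth.L20.GenSmooth.exists_dense_isAffineOpen O.toScheme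
    have hsub : ((O.ι ''ᵁ B : X.Opens) : Set X) ⊆ (O : Set X) := by rintro _ ⟨b, -, rfl⟩; exact b.2
    refine ⟨⨆ i : Bool, cond i A (O.ι ''ᵁ B), le_iSup (fun i : Bool => cond i A (O.ι ''ᵁ B)) true hxA,
      IsAffineOpen.iSup_of_disjoint (fun i => by cases i; exacts [hB.image_of_isOpenImmersion O.ι, hA]) ?_, fun y => ?_⟩
    · have hd : Disjoint (A : X.Opens) (O.ι ''ᵁ B) := disjoint_iff_inf_le.2 fun y hy => absurd (subset_closure hy.1) (hsub hy.2)
      intro i j hij
      cases i <;> cases j <;> first | exact absurd rfl hij | exact hd | exact hd.symm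
    · by_cases hy : y ∈ closure (A : Set X)
      · exact closure_mono (SetLike.coe_subset_coe.2 (le_iSup (fun i : Bool => cond i A (O.ι ''ᵁ B)) true)) hy
      · refine closure_mono (SetLike.coe_subset_coe.2 (le_iSup (fun i : Bool => cond i A (O.ι ''ᵁ B)) false)) ?_
        exact map_mem_closure O.ι.continuous (hBd (⟨y, hy⟩ : O)) fun b hb => ⟨b, hb, rfl⟩
  choose U hxU hUa hUd using key
  obtain ⟨t, ht⟩ := isCompact_univ.elim_finite_subcover (fun x => (U x : Set X)) (fun x => (U x).2)
    (fun x _ => Set.mem_iUnion.2 ⟨x, hxU x⟩)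
  refine ⟨t.card, fun i => U (t.equivFin.symm i).1, eq_top_iff.2 fun x _ => ?_, fun i => ⟨hUa _, hUd _, ?_⟩⟩
  · obtain ⟨y, hy, hxy⟩ := Set.mem_iUnion₂.1 (ht (Set.mem_univ x))
    exact TopologicalSpace.Opens.mem_iSup.2 ⟨t.equivFin ⟨y, hy⟩, by simpa using hxy⟩
  · let W := U (t.equivFin.symm i).1
    haveI : IsAffine W.toScheme := hUa _
    haveI : QuasiCompact W.ι := inferInstance
    refine ⟨inferInstance, inferInstance, _, (Groth.Agent.S2337.result (W.ι ≫ f)).1 ⟨inferInstance, fun V hV => ?_⟩⟩
    haveI : CompactSpace ((W.ι ≫ f) ⁻¹ᵁ V : W.toScheme.Opens).toScheme :=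
      isCompact_iff_compactSpace.mp ((W.ι ≫ f).isCompact_preimage hV.isCompact)
    exact Scheme.IsQuasiAffine.of_isImmersion ((W.ι ≫ f) ⁻¹ᵁ V).ι

end Groth.Agent.S17886
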