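import Groth.Statements.S17887
import Groth.Agent.L07.BlowLib.Dense

set_option autoImplicit false
set_option linter.style.haveILetI false
universe u
open CategoryTheory AlgebraicGeometry
open BlowUp

namespace Groth.Agent.S17887

/-- Let X be a Noetherian scheme, U ⊆ X an open subscheme that is schematically dense in X, I a
quasi-coherent ideal sheaf on X whose support does not meet U, and π : X' → X a blowing-up of X
along I. Then π⁻¹(U) is schematically dense in X'. -/
theorem result {X X' : Scheme.{u}} [IsNoetherian X]
    (U : X.Opens) [IsSchemeTheoreticallyDominant U.ι] (𝓘 : X.IdealSheafData)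
    (hU : Disjoint (𝓘.support : Set X) (U : Set X)) (π : X' ⟶ X) (hπ : BlowUp.IsBlowUp π 𝓘) :
    IsSchemeTheoreticallyDominant (π ⁻¹ᵁ U).ι := by
  exact Groth.L07.BlowLib.schDominant_preimage hπ U

end Groth.Agent.S17887
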