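import Groth.Statements.S17889
import Groth.Agent.L20.StrictSep

set_option autoImplicit false
universe u
open CategoryTheory AlgebraicGeometry TopologicalSpace
open BlowUp

set_option backward.isDefEq.respectTransparency.types false
namespace Groth.Agent.S17889

/-- Let X be a Noetherian scheme, X₀ ⊆ X an open subscheme, p : Z → X a morphism of finite type with Z
Noetherian, and F ⊆ X, G ⊆ Z closed subsets with p⁻¹(F ∩ X₀) ∩ G = ∅. Let a be a quasi-coherent
ideal sheaf on X whose support does not meet X₀, which contains the vanishing ideal I_F of F, and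
which is contained in the kernel ideal of V(I_F·O_Z + I_G) → Z → X (the ideal of the
scheme-theoretic image under p of p⁻¹(F) ∩ G). Let π : X' → X be a blowing-up along a, Z' = Z ×_X X'
with projections π' : Z' → Z and p' : Z' → X'. Then p'⁻¹ of the closure in X' of π⁻¹(F ∩ X₀) is
disjoint from the closure in Z' of π'⁻¹(G ∩ p⁻¹(X₀)). Taking a to be that kernel ideal shows such an
a exists. -/
theorem result
    {X Z : Scheme.{u}} [IsNoetherian X] [IsNoetherian Z] (p : Z ⟶ X) [LocallyOfFiniteType p]
    (X₀ : X.Opens) (F : Closeds X) (G : Closeds Z)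
    (hFG : p.base ⁻¹' ((F : Set X) ∩ (X₀ : Set X)) ∩ (G : Set Z) = ∅)
    (𝔞 : X.IdealSheafData) (h₁ : Disjoint (𝔞.support : Set X) (X₀ : Set X))
    (h₂ : Scheme.IdealSheafData.vanishingIdeal F ≤ 𝔞)
    (h₃ : 𝔞 ≤ (((Scheme.IdealSheafData.vanishingIdeal F).comap p ⊔
      Scheme.IdealSheafData.vanishingIdeal G).subschemeι ≫ p).ker)
    {X' : Scheme.{u}} (π : X' ⟶ X) (hπ : BlowUp.IsBlowUp π 𝔞) :
    (Limits.pullback.snd p π).base ⁻¹' closure (π.base ⁻¹' ((F : Set X) ∩ (X₀ : Set X))) ∩
      closure ((Limits.pullback.fst p π).base ⁻¹' ((G : Set Z) ∩ (p ⁻¹ᵁ X₀ : Set Z))) = ∅ := by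
  open Groth.L20.StrictSep in
  refine Set.eq_empty_iff_forall_notMem.2 fun z hz => ?_
  set g := Limits.pullback.snd p π
  set pr := Limits.pullback.fst p π
  set IF := Scheme.IdealSheafData.vanishingIdeal F
  set IG := Scheme.IdealSheafData.vanishingIdeal G
  refine sep g hπ.1 (Scheme.IdealSheafData.comap_mono π h₂) (IG.comap pr) ?_ (z := z) ?_
    (closure_mono ?_ hz.1)
  · rw [← Scheme.IdealSheafData.comap_comp, ← Scheme.IdealSheafData.comap_comp,
      ← show pr ≫ p = g ≫ π from Limits.pullback.condition, Scheme.IdealSheafData.comap_comp,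
      Scheme.IdealSheafData.comap_comp, ← Scheme.IdealSheafData.comap_sup]
    refine Scheme.IdealSheafData.comap_mono pr ?_
    set R := IF.comap p ⊔ IG
    have h : 𝔞.comap (R.subschemeι ≫ p) ≤ ⊥ := by
      rw [← Scheme.IdealSheafData.le_map_iff_comap_le, Scheme.IdealSheafData.map_bot]
      exact h₃
    rw [Scheme.IdealSheafData.comap_comp, ← Scheme.IdealSheafData.le_map_iff_comap_le,
      Scheme.IdealSheafData.map_bot, Scheme.IdealSheafData.ker_subschemeι] at h
    exact h
  · refine closure_mono ?_ hz.2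
    intro y hy
    refine ⟨?_, fun h => ?_⟩
    · rw [Scheme.IdealSheafData.support_comap]
      show pr y ∈ (G : Set Z)
      exact hy.1
    · rw [Set.mem_preimage, Scheme.IdealSheafData.support_comap] at h
      have h' : π (g y) ∈ (𝔞.support : Set X) := h
      rw [← Scheme.Hom.comp_apply, ← show pr ≫ p = g ≫ π from Limits.pullback.condition,
        Scheme.Hom.comp_apply] at h'
      exact Set.disjoint_left.1 h₁ h' hy.2
  · intro x hx
    simp only [Scheme.IdealSheafData.support_comap]
    refine ⟨?_, fun h => Set.disjoint_left.1 h₁ h hx.2⟩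
    show π x ∈ (F : Set X)
    exact hx.1


end Groth.Agent.S17889
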