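import Groth.Statements.S17890
import Groth.Agent.L24.QDomGlue.Basic

set_option autoImplicit false
universe u
open CategoryTheory AlgebraicGeometry
open FlatMor

namespace Groth.Agent.S17890

/-- Let S be a Noetherian scheme, X₁ and X₂ separated S-schemes of finite type, and j₁ : U → X₁, j₂ : U
→ X₂ open immersions over S with schematically dense images. Suppose X₁ quasi-dominates X₂ and X₂
quasi-dominates X₁ compatibly with U: there are schematically dense opens W₁ ⊆ X₁ and W₂ ⊆ X₂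
through which j₁, j₂ factor, and S-morphisms φ : W₁ → X₂, ψ : W₂ → X₁ restricting to j₂ and j₁ on U,
whose graphs are closed subsets of X₁ ×_S X₂ and X₂ ×_S X₁. Then there exist a separated S-scheme Y
of finite type and open immersions i₁ : X₁ → Y, i₂ : X₂ → Y over S with j₁ ≫ i₁ = j₂ ≫ i₂, such that
U → Y has schematically dense image. -/
theorem result {S X₁ X₂ U : Scheme.{u}} [IsNoetherian S]
    (p₁ : X₁ ⟶ S) (p₂ : X₂ ⟶ S) [IsSeparated p₁] [QuasiCompact p₁] [LocallyOfFiniteType p₁]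
    [IsSeparated p₂] [QuasiCompact p₂] [LocallyOfFiniteType p₂]
    (j₁ : U ⟶ X₁) (j₂ : U ⟶ X₂) [IsOpenImmersion j₁] [IsOpenImmersion j₂]
    [IsSchemeTheoreticallyDominant j₁] [IsSchemeTheoreticallyDominant j₂] (hj : j₁ ≫ p₁ = j₂ ≫ p₂)
    (W₁ : X₁.Opens) [IsSchemeTheoreticallyDominant W₁.ι] (φ : (↑W₁ : Scheme.{u}) ⟶ X₂)
    (hφ : W₁.ι ≫ p₁ = φ ≫ p₂)
    (hφc : IsClosed (Set.range (fun w => (Limits.pullback.lift W₁.ι φ hφ) w)))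
    (k₁ : U ⟶ ↑W₁) (hk₁ : k₁ ≫ W₁.ι = j₁) (hk₁' : k₁ ≫ φ = j₂)
    (W₂ : X₂.Opens) [IsSchemeTheoreticallyDominant W₂.ι] (ψ : (↑W₂ : Scheme.{u}) ⟶ X₁)
    (hψ : W₂.ι ≫ p₂ = ψ ≫ p₁)
    (hψc : IsClosed (Set.range (fun w => (Limits.pullback.lift W₂.ι ψ hψ) w)))
    (k₂ : U ⟶ ↑W₂) (hk₂ : k₂ ≫ W₂.ι = j₂) (hk₂' : k₂ ≫ ψ = j₁) :
    ∃ (Y : Scheme.{u}) (q : Y ⟶ S) (i₁ : X₁ ⟶ Y) (i₂ : X₂ ⟶ Y), IsSeparated q ∧ QuasiCompact q ∧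
      LocallyOfFiniteType q ∧ IsOpenImmersion i₁ ∧ IsOpenImmersion i₂ ∧ i₁ ≫ q = p₁ ∧ i₂ ≫ q = p₂ ∧
      j₁ ≫ i₁ = j₂ ≫ i₂ ∧ QuasiCompact (j₁ ≫ i₁) ∧ IsSchemeTheoreticallyDominant (j₁ ≫ i₁) := by
  exact Groth.Agent.L24.QDomGlue.main p₁ p₂ j₁ j₂ hj W₁ φ hφ hφc k₁ hk₁ hk₁' W₂ ψ hψ hψc k₂ hk₂ hk₂'

end Groth.Agent.S17890
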