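import Groth.Statements.S17891
import Groth.Agent.L19.YBlowUp
import Groth.Agent.L19.Limit.RelAmple
import Groth.Agent.L02.Misc.STD

set_option autoImplicit false
set_option backward.isDefEq.respectTransparency.types false
set_option backward.isDefEq.respectTransparency false
set_option linter.style.haveILetI false
open CategoryTheory.Limits (pullback)
universe u
open CategoryTheory AlgebraicGeometry
open FlatMor

namespace Groth.Agent.S17891

/-- Here f : Y → X is an affine morphism with X and Y quasi-compact and quasi-separated; a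
Y-modification of X is a factorization f = fᵢ ≫ gᵢ with fᵢ : Y → Xᵢ schematically dominant and gᵢ :
Xᵢ → X proper, and it is a Y-blow-up of X when Xᵢ carries a gᵢ-ample module L with a section ε : O →
L whose pullback along fᵢ is an isomorphism (a Y-trivialization). Given two Y-blow-ups (X₁, f₁, g₁),
(X₂, f₂, g₂) of X there is a Y-blow-up (X₃, f₃, g₃) of X together with morphisms dᵢ : X₃ → Xᵢ
satisfying f₃ ≫ dᵢ = fᵢ and dᵢ ≫ gᵢ = g₃. -/
theorem result {X Y : Scheme.{u}} (f : Y ⟶ X)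
    [CompactSpace X] [QuasiSeparatedSpace X] [CompactSpace Y] [QuasiSeparatedSpace Y] [IsAffineHom f]
    {X₁ X₂ : Scheme.{u}} (f₁ : Y ⟶ X₁) (g₁ : X₁ ⟶ X) (f₂ : Y ⟶ X₂) (g₂ : X₂ ⟶ X)
    (h₁ : IsSchemeTheoreticallyDominant f₁ ∧ IsProper g₁ ∧ f₁ ≫ g₁ = f ∧
        ∃ (L : X₁.Modules) (ε : Coh.structureModule X₁ ⟶ L),
          RelAmple.IsRelAmple g₁ L ∧ IsIso ((Scheme.Modules.pullback f₁).map ε))
    (h₂ : IsSchemeTheoreticallyDominant f₂ ∧ IsProper g₂ ∧ f₂ ≫ g₂ = f ∧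
        ∃ (L : X₂.Modules) (ε : Coh.structureModule X₂ ⟶ L),
          RelAmple.IsRelAmple g₂ L ∧ IsIso ((Scheme.Modules.pullback f₂).map ε)) :
    ∃ (X₃ : Scheme.{u}) (f₃ : Y ⟶ X₃) (g₃ : X₃ ⟶ X) (d₁ : X₃ ⟶ X₁) (d₂ : X₃ ⟶ X₂),
      (IsSchemeTheoreticallyDominant f₃ ∧ IsProper g₃ ∧ f₃ ≫ g₃ = f ∧
        ∃ (L : X₃.Modules) (ε : Coh.structureModule X₃ ⟶ L),
          RelAmple.IsRelAmple g₃ L ∧ IsIso ((Scheme.Modules.pullback f₃).map ε)) ∧
      f₃ ≫ d₁ = f₁ ∧ d₁ ≫ g₁ = g₃ ∧ f₃ ≫ d₂ = f₂ ∧ d₂ ≫ g₂ = g₃ := by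
  obtain ⟨-, hg₁, hf₁, L₁, ε₁, hL₁, hε₁⟩ := h₁
  obtain ⟨-, hg₂, hf₂, L₂, ε₂, hL₂, hε₂⟩ := h₂
  haveI := hg₁
  haveI := hg₂
  let v : Y ⟶ pullback g₁ g₂ := Limits.pullback.lift f₁ f₂ (hf₁.trans hf₂.symm)
  haveI : QuasiCompact (v ≫ Limits.pullback.fst g₁ g₂ ≫ g₁) := by
    rw [← Category.assoc, Limits.pullback.lift_fst, hf₁]; infer_instance
  haveI : QuasiCompact v := QuasiCompact.of_comp v (Limits.pullback.fst g₁ g₂ ≫ g₁)
  haveI := Groth.L02.STD.toImage_dominant v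
  have hI₁ := Groth.L19.YBlowUp.isInvertible_of_isRelAmple hL₁
  have hI₂ := Groth.L19.YBlowUp.isInvertible_of_isRelAmple hL₂
  have hb₂ : RelAmple.IsRelAmple (Limits.pullback.fst g₁ g₂) ((Scheme.Modules.pullback (Limits.pullback.snd g₁ g₂)).obj L₂) :=
    Groth.L19.Limit.isRelAmple_of_isPullback (CategoryTheory.IsPullback.of_hasPullback g₁ g₂).flip hL₂
  obtain ⟨n, -, hn⟩ := Groth.L18.Ample.exists_forall_isRelAmple_comp (Limits.pullback.fst g₁ g₂) g₁ hb₂ hL₁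
  obtain ⟨t, ht⟩ := Groth.L19.YBlowUp.exists_powSec hI₁ ε₁ n
  have hP := Groth.L18.Ample.isInvertible_tensorPow hI₁ n
  have hP₁ := Groth.L18.Ample.isInvertible_pullback (Limits.pullback.fst g₁ g₂) hP
  have hP₂ := Groth.L18.Ample.isInvertible_pullback (Limits.pullback.snd g₁ g₂) hI₂
  let σ := Groth.L18.GenLoc.tensHom (Groth.L18.Ample.pullHom (Limits.pullback.snd g₁ g₂) ε₂)
    (Groth.L18.Ample.pullHom (Limits.pullback.fst g₁ g₂) t)
  have hT := Groth.L18.GenLoc.isInvertible_tensor hP₂ hP₁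
  have hσ : v ⁻¹ᵁ CohB1.genLocus _ σ = ⊤ := by
    rw [Groth.L18.GenLoc.genLocus_tensHom hP₂ hP₁, Groth.L18.Ample.genLocus_pullHom _ hI₂,
      Groth.L18.Ample.genLocus_pullHom _ hP, Scheme.Hom.preimage_inf, ← Scheme.Hom.comp_preimage,
      ← Scheme.Hom.comp_preimage, Limits.pullback.lift_fst, Limits.pullback.lift_snd,
      (Groth.L19.YBlowUp.isIso_pullback_map_iff f₂ hI₂ ε₂).1 hε₂, top_inf_eq]
    exact top_unique (((Groth.L19.YBlowUp.isIso_pullback_map_iff f₁ hI₁ ε₁).1 hε₁).symm.le.trans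
      (f₁.preimage_mono ht))
  refine ⟨v.image, v.toImage, v.imageι ≫ Limits.pullback.fst g₁ g₂ ≫ g₁, v.imageι ≫ Limits.pullback.fst g₁ g₂,
    v.imageι ≫ Limits.pullback.snd g₁ g₂, ⟨inferInstance, inferInstance, ?_, _,
      Groth.L18.Ample.pullHom v.imageι σ,
      Groth.L18.Ample.isRelAmple_pullback_of_isInducing _ v.imageι v.imageι.isEmbedding.isInducing (hn n le_rfl), ?_⟩,
    ?_, by rw [Category.assoc], ?_, by rw [Category.assoc, ← Limits.pullback.condition]⟩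
  · rw [v.toImage_imageι_assoc, ← Category.assoc, Limits.pullback.lift_fst, hf₁]
  · rw [Groth.L19.YBlowUp.isIso_pullback_map_iff _ (Groth.L18.Ample.isInvertible_pullback _ hT),
      Groth.L18.Ample.genLocus_pullHom _ hT, ← Scheme.Hom.comp_preimage, v.toImage_imageι, hσ]
  · rw [v.toImage_imageι_assoc, Limits.pullback.lift_fst]
  · rw [v.toImage_imageι_assoc, Limits.pullback.lift_snd]

end Groth.Agent.S17891
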