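import Groth.Statements.S17892
import Groth.Agent.L19.YBlowUp

set_option autoImplicit false
set_option backward.isDefEq.respectTransparency.types false
set_option backward.isDefEq.respectTransparency false
set_option linter.style.haveILetI false
universe u
open CategoryTheory AlgebraicGeometry
open FlatMor

namespace Groth.Agent.S17892

/-- Here f : Y → X is an affine morphism with X and Y quasi-compact and quasi-separated; a
Y-modification of X is a factorization f = fᵢ ≫ gᵢ with fᵢ : Y → Xᵢ schematically dominant and gᵢ :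
Xᵢ → X proper, and it is a Y-blow-up of X when Xᵢ carries a gᵢ-ample module L with a section ε : O →
L whose pullback along fᵢ is an isomorphism (a Y-trivialization). If (Xᵢ, fᵢ, gᵢ) is a Y-blow-up of
X and (Xⱼ, fⱼ, gᵢⱼ) is a Y-blow-up of Xᵢ (with respect to fᵢ : Y → Xᵢ), then (Xⱼ, fⱼ, gᵢⱼ ≫ gᵢ) is a
Y-blow-up of X. -/
theorem result {X Y : Scheme.{u}} (f : Y ⟶ X)
    [CompactSpace X] [QuasiSeparatedSpace X] [CompactSpace Y] [QuasiSeparatedSpace Y] [IsAffineHom f]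
    {Xᵢ Xⱼ : Scheme.{u}} (fᵢ : Y ⟶ Xᵢ) (gᵢ : Xᵢ ⟶ X) (fⱼ : Y ⟶ Xⱼ) (gᵢⱼ : Xⱼ ⟶ Xᵢ)
    (hᵢ : IsSchemeTheoreticallyDominant fᵢ ∧ IsProper gᵢ ∧ fᵢ ≫ gᵢ = f ∧
        ∃ (L : Xᵢ.Modules) (ε : Coh.structureModule Xᵢ ⟶ L),
          RelAmple.IsRelAmple gᵢ L ∧ IsIso ((Scheme.Modules.pullback fᵢ).map ε))
    (hⱼ : IsSchemeTheoreticallyDominant fⱼ ∧ IsProper gᵢⱼ ∧ fⱼ ≫ gᵢⱼ = fᵢ ∧
        ∃ (L : Xⱼ.Modules) (ε : Coh.structureModule Xⱼ ⟶ L),
          RelAmple.IsRelAmple gᵢⱼ L ∧ IsIso ((Scheme.Modules.pullback fⱼ).map ε)) :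
    IsSchemeTheoreticallyDominant fⱼ ∧ IsProper (gᵢⱼ ≫ gᵢ) ∧ fⱼ ≫ (gᵢⱼ ≫ gᵢ) = f ∧
        ∃ (L : Xⱼ.Modules) (ε : Coh.structureModule Xⱼ ⟶ L),
          RelAmple.IsRelAmple (gᵢⱼ ≫ gᵢ) L ∧ IsIso ((Scheme.Modules.pullback fⱼ).map ε) := by
  obtain ⟨-, hgi, hfi, L, ε, hL, hε⟩ := hᵢ
  obtain ⟨hdom, hgij, hfj, L', ε', hL', hε'⟩ := hⱼ
  haveI := hgi
  haveI := hgij
  refine ⟨hdom, inferInstance, by rw [← Category.assoc, hfj, hfi], ?_⟩
  obtain ⟨n, -, hn⟩ := Groth.L18.Ample.exists_forall_isRelAmple_comp gᵢⱼ gᵢ hL' hL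
  have hI := Groth.L19.YBlowUp.isInvertible_of_isRelAmple hL
  have hI' := Groth.L19.YBlowUp.isInvertible_of_isRelAmple hL'
  obtain ⟨t, ht⟩ := Groth.L19.YBlowUp.exists_powSec hI ε n
  have hP := Groth.L18.Ample.isInvertible_tensorPow hI n
  have hPb := Groth.L18.Ample.isInvertible_pullback gᵢⱼ hP
  refine ⟨_, Groth.L18.GenLoc.tensHom ε' (Groth.L18.Ample.pullHom gᵢⱼ t), hn n le_rfl, ?_⟩
  rw [Groth.L19.YBlowUp.isIso_pullback_map_iff fⱼ (Groth.L18.GenLoc.isInvertible_tensor hI' hPb),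
    Groth.L18.GenLoc.genLocus_tensHom hI' hPb, Groth.L18.Ample.genLocus_pullHom gᵢⱼ hP t,
    Scheme.Hom.preimage_inf, (Groth.L19.YBlowUp.isIso_pullback_map_iff fⱼ hI' ε').1 hε', top_inf_eq,
    ← Scheme.Hom.comp_preimage, hfj]
  exact top_unique (((Groth.L19.YBlowUp.isIso_pullback_map_iff fᵢ hI ε).1 hε).symm.le.trans
    (fᵢ.preimage_mono ht))

end Groth.Agent.S17892
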