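import Groth.Statements.S17893
import Groth.Agent.L13.YBlow.Main

set_option autoImplicit false
universe u
open CategoryTheory AlgebraicGeometry
open FlatMor

set_option backward.isDefEq.respectTransparency false
set_option backward.isDefEq.respectTransparency.types false

namespace Groth.Agent.S17893

/-- Here f : Y → X is an affine morphism with X and Y quasi-compact and quasi-separated; a
Y-modification of X is a factorization f = fᵢ ≫ gᵢ with fᵢ : Y → Xᵢ schematically dominant and gᵢ :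
Xᵢ → X proper, and it is a Y-blow-up of X when Xᵢ carries a gᵢ-ample module L with a section ε : O →
L whose pullback along fᵢ is an isomorphism (a Y-trivialization). Every Y-modification (X', f', g')
of X is dominated by a Y-blow-up: there exist a Y-blow-up (X₁, f₁, g₁) of X and a morphism d : X₁ →
X' with f₁ ≫ d = f' and d ≫ g' = g₁. -/
theorem result {X Y : Scheme.{u}} (f : Y ⟶ X)
    [CompactSpace X] [QuasiSeparatedSpace X] [CompactSpace Y] [QuasiSeparatedSpace Y] [IsAffineHom f]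
    {X' : Scheme.{u}} (f' : Y ⟶ X') (g' : X' ⟶ X) [IsSchemeTheoreticallyDominant f'] [IsProper g']
    (hf' : f' ≫ g' = f) :
    ∃ (X₁ : Scheme.{u}) (f₁ : Y ⟶ X₁) (g₁ : X₁ ⟶ X) (d : X₁ ⟶ X'),
      (IsSchemeTheoreticallyDominant f₁ ∧ IsProper g₁ ∧ f₁ ≫ g₁ = f ∧
        ∃ (L : X₁.Modules) (ε : Coh.structureModule X₁ ⟶ L),
          RelAmple.IsRelAmple g₁ L ∧ IsIso ((Scheme.Modules.pullback f₁).map ε)) ∧ f₁ ≫ d = f' ∧ d ≫ g' = g₁ := by
  obtain ⟨W, v, d, hda, hdl, hvd, hvq, hvd'⟩ := Groth.L13.YBlow.exists_factor f f' g' hf'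
  haveI := hda
  haveI := hdl
  obtain ⟨P, q, d₁, e, he, M, σ, hq, -, hd₁, hed, hed', heq, hM, hσ⟩ := Groth.L13.YBlow.exists_model g' d
  haveI := hvd
  haveI := hvq
  haveI := hed'
  haveI := heq
  refine ⟨P, v ≫ e, q, d₁, ⟨inferInstance, hq, ?_, M, σ, hM, ?_⟩, ?_, hd₁⟩
  · rw [Category.assoc, ← hd₁, reassoc_of% hed, reassoc_of% hvd', hf']
  · rw [Groth.L19.YBlowUp.isIso_pullback_map_iff _ (Groth.L19.YBlowUp.isInvertible_of_isRelAmple hM)]
    refine eq_top_iff.2 fun y _ => ?_
    rw [Scheme.Hom.comp_preimage, hσ]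
    exact ⟨v y, rfl⟩
  · rw [Category.assoc, hed, hvd']

end Groth.Agent.S17893
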