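import Groth.Statements.S17896
import Groth.Agent.L13.Nagata.LocFreeModel

set_option backward.isDefEq.respectTransparency.types false
set_option backward.isDefEq.respectTransparency false
set_option linter.style.haveILetI false

set_option autoImplicit false
universe u
open CategoryTheory AlgebraicGeometry
open FlatMor

namespace Groth.Agent.S17896

open CategoryTheory.Limits in
theorem exists_side {S X Xc Y Y' U : Scheme.{u}} (P : X ⟶ Xc) [IsProper P] (q : Xc ⟶ S) (p : Y ⟶ S)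
    [IsSeparated p] [IsSeparated q] (j : U ⟶ Y) (b : Y' ⟶ Y) [IsProper b] (o : Y' ⟶ Xc) [IsOpenImmersion o]
    (u : U ⟶ Y') (hq : o ≫ q = b ≫ p) (hu : u ≫ b = j) (k : U ⟶ X) [IsSchemeTheoreticallyDominant k]
    (hk : k ≫ P = u ≫ o) :
    ∃ (W : X.Opens) (φ : (↑W : Scheme.{u}) ⟶ Y) (hφ : W.ι ≫ P ≫ q = φ ≫ p) (l : U ⟶ ↑W),
      IsSchemeTheoreticallyDominant W.ι ∧ IsProper φ ∧ l ≫ W.ι = k ∧ l ≫ φ = j ∧
      IsClosed (Set.range (fun w => (Limits.pullback.lift W.ι φ hφ) w)) := by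
  let W := P ⁻¹ᵁ o.opensRange
  let φ : (↑W : Scheme.{u}) ⟶ Y := (P ∣_ o.opensRange) ≫ o.isoOpensRange.inv ≫ b
  have hPo : (P ∣_ o.opensRange) ≫ o.isoOpensRange.inv ≫ o = W.ι ≫ P := by
    rw [o.isoOpensRange_inv_comp, morphismRestrict_ι]
  have hφ : W.ι ≫ P ≫ q = φ ≫ p := by
    simp only [φ, Category.assoc, ← hq]
    rw [← Category.assoc W.ι, ← hPo]
    simp only [Category.assoc]
  haveI : IsProper φ := inferInstanceAs (IsProper ((P ∣_ o.opensRange) ≫ o.isoOpensRange.inv ≫ b))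
  have hr : Set.range k ⊆ Set.range W.ι := by
    rw [Scheme.Opens.range_ι]
    rintro _ ⟨x, rfl⟩
    exact ⟨u x, by rw [← Scheme.Hom.comp_apply, ← hk, Scheme.Hom.comp_apply]⟩
  let l := IsOpenImmersion.lift W.ι k hr
  have hl : l ≫ W.ι = k := IsOpenImmersion.lift_fac _ _ _
  have hlu : l ≫ (P ∣_ o.opensRange) ≫ o.isoOpensRange.inv = u := by
    rw [← cancel_mono o, Category.assoc, Category.assoc, hPo, reassoc_of% hl, hk]
  refine ⟨W, φ, hφ, l, ?_, inferInstance, hl, by simp only [φ]; rw [reassoc_of% hlu, hu], ?_⟩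
  · refine ⟨le_bot_iff.1 ?_⟩
    have h := Scheme.Hom.le_ker_comp l W.ι
    rw [hl] at h
    exact h.trans (le_of_eq k.ker_eq_bot)
  · haveI : IsSeparated (pullback.snd (P ≫ q) p) := MorphismProperty.pullback_snd _ _ inferInstance
    haveI : IsProper (pullback.lift W.ι φ hφ ≫ pullback.snd (P ≫ q) p) := by
      rw [pullback.lift_snd]; infer_instance
    haveI : IsProper (pullback.lift W.ι φ hφ) := IsProper.of_comp _ (pullback.snd (P ≫ q) p)
    exact (pullback.lift W.ι φ hφ).isClosedMap.isClosed_range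

/-- Let S be a Noetherian scheme, X₁ and X₂ separated S-schemes of finite type and j₁ : U → X₁, j₂ : U →
X₂ open immersions over S with schematically dense images, and let E be an O_U-module extending to
finite locally free modules E₁ on X₁ and E₂ on X₂ (pullbacks along jᵢ isomorphic to E). Then there
exist a separated S-scheme X of finite type, an open immersion k : U → X over S with schematically
dense image, a finite locally free module E' on X whose pullback along k is isomorphic to E, and for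
i = 1, 2 a proper quasi-domination of X over Xᵢ compatible with U: a schematically dense open Wᵢ ⊆ X
through which k factors and a proper S-morphism φᵢ : Wᵢ → Xᵢ restricting to jᵢ on U, whose graph
morphism Wᵢ → X ×_S Xᵢ has closed image. -/
theorem result {S X₁ X₂ U : Scheme.{u}}
    [IsNoetherian S] (p₁ : X₁ ⟶ S) (p₂ : X₂ ⟶ S)
    [IsSeparated p₁] [QuasiCompact p₁] [LocallyOfFiniteType p₁]
    [IsSeparated p₂] [QuasiCompact p₂] [LocallyOfFiniteType p₂]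
    (j₁ : U ⟶ X₁) (j₂ : U ⟶ X₂) [IsOpenImmersion j₁] [IsOpenImmersion j₂]
    [IsSchemeTheoreticallyDominant j₁] [IsSchemeTheoreticallyDominant j₂] (hj : j₁ ≫ p₁ = j₂ ≫ p₂)
    (E : U.Modules) (E₁ : X₁.Modules) (E₂ : X₂.Modules)
    (hE₁ : FlatMod.IsFinLocFree E₁) (hE₂ : FlatMod.IsFinLocFree E₂)
    (e₁ : (Scheme.Modules.pullback j₁).obj E₁ ≅ E) (e₂ : (Scheme.Modules.pullback j₂).obj E₂ ≅ E) :
    ∃ (X : Scheme.{u}) (p : X ⟶ S) (k : U ⟶ X) (E' : X.Modules),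
      IsSeparated p ∧ QuasiCompact p ∧ LocallyOfFiniteType p ∧ IsOpenImmersion k ∧ QuasiCompact k ∧
      IsSchemeTheoreticallyDominant k ∧ k ≫ p = j₁ ≫ p₁ ∧ FlatMod.IsFinLocFree E' ∧
      Nonempty ((Scheme.Modules.pullback k).obj E' ≅ E) ∧
      (∃ (W₁ : X.Opens) (φ₁ : (↑W₁ : Scheme.{u}) ⟶ X₁) (hφ₁ : W₁.ι ≫ p = φ₁ ≫ p₁) (l₁ : U ⟶ ↑W₁),
        IsSchemeTheoreticallyDominant W₁.ι ∧ IsProper φ₁ ∧ l₁ ≫ W₁.ι = k ∧ l₁ ≫ φ₁ = j₁ ∧
        IsClosed (Set.range (fun w => (Limits.pullback.lift W₁.ι φ₁ hφ₁) w))) ∧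
      (∃ (W₂ : X.Opens) (φ₂ : (↑W₂ : Scheme.{u}) ⟶ X₂) (hφ₂ : W₂.ι ≫ p = φ₂ ≫ p₂) (l₂ : U ⟶ ↑W₂),
        IsSchemeTheoreticallyDominant W₂.ι ∧ IsProper φ₂ ∧ l₂ ≫ W₂.ι = k ∧ l₂ ≫ φ₂ = j₂ ∧
        IsClosed (Set.range (fun w => (Limits.pullback.lift W₂.ι φ₂ hφ₂) w))) := by
  haveI : IsNoetherian X₁ :=
    { toIsLocallyNoetherian := LocallyOfFiniteType.isLocallyNoetherian p₁
      toCompactSpace := QuasiCompact.compactSpace_of_compactSpace p₁ }
  haveI : TopologicalSpace.NoetherianSpace U := j₁.isOpenEmbedding.isInducing.noetherianSpace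
  haveI : IsNoetherian U :=
    { toIsLocallyNoetherian := LocallyOfFiniteType.isLocallyNoetherian j₁
      toCompactSpace := inferInstance }
  haveI : QuasiCompact (j₁ ≫ p₁) := inferInstance
  obtain ⟨Xc, q, _, _, _, I₁, I₂, X₁', X₂', b₁, b₂, o₁, o₂, u₁, u₂, hb₁, hI₁, hb₂, hI₂, ho₁, ho₂, hq₁, hq₂,
    hu₁, hu₂, hu, -⟩ := Groth.L13.Nagata.exists_common_target (j₁ ≫ p₁) p₁ p₂ j₁ j₂ rfl hj.symm
  haveI := Groth.L13.BU.isProper_blowUp hb₁ hI₁.1
  haveI := Groth.L13.BU.isProper_blowUp hb₂ hI₂.1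
  haveI := (Groth.L13.Nagata.lift_openImmersion hb₁ j₁ hI₁.2 u₁ hu₁).1
  haveI : IsNoetherian Xc :=
    { toIsLocallyNoetherian := LocallyOfFiniteType.isLocallyNoetherian q
      toCompactSpace := QuasiCompact.compactSpace_of_compactSpace q }
  let jc : U ⟶ Xc := u₁ ≫ o₁
  haveI : IsOpenImmersion jc := inferInstanceAs (IsOpenImmersion (u₁ ≫ o₁))
  let R := jc.opensRange
  obtain ⟨L, hL, hLs⟩ := Groth.L13.Nagata.exists_compl_ideal R (TopologicalSpace.NoetherianSpace.isCompact _)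
  obtain ⟨X₀, c₀, hc₀⟩ := Groth.L13.BU.exists_isBlowUp L
  haveI := Groth.L13.BU.isProper_blowUp hc₀ hL
  haveI : IsNoetherian X₀ :=
    { toIsLocallyNoetherian := LocallyOfFiniteType.isLocallyNoetherian c₀
      toCompactSpace := QuasiCompact.compactSpace_of_compactSpace c₀ }
  haveI : IsSchemeTheoreticallyDominant (c₀ ⁻¹ᵁ R).ι := by
    have h := Groth.L07.BlowLib.schDominant_compl hc₀
    have e : L.support.compl = R :=
      TopologicalSpace.Opens.ext (show (L.support : Set Xc)ᶜ = (R : Set Xc) by rw [hLs, compl_compl])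
    rwa [e] at h
  haveI : IsIso (c₀ ∣_ R) := Groth.L13.Nagata.isIso_restrict_of_admissible hc₀ (by rw [hLs]; exact disjoint_compl_left)
  have hE : FlatMod.IsFinLocFree E := Groth.L29.LocFree.of_iso e₁ (Groth.L29.LocFree.pullback j₁ hE₁)
  let r : (c₀ ⁻¹ᵁ R : Scheme.{u}) ⟶ U := (c₀ ∣_ R) ≫ jc.isoOpensRange.inv
  obtain ⟨X, π, hπ, -, hπi, hπd, hext⟩ := Groth.L13.Nagata.exists_locFree_model (c₀ ⁻¹ᵁ R) 1
    (fun _ => (Scheme.Modules.pullback r).obj E) (fun _ => Groth.L29.LocFree.pullback r hE)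
  obtain ⟨E', hE', ⟨eE⟩⟩ := hext 0
  haveI := hπ
  haveI : IsNoetherian X :=
    { toIsLocallyNoetherian := LocallyOfFiniteType.isLocallyNoetherian π
      toCompactSpace := QuasiCompact.compactSpace_of_compactSpace π }
  let P := π ≫ c₀
  haveI : IsProper P := inferInstanceAs (IsProper (π ≫ c₀))
  haveI hπi' : IsIso (π ∣_ c₀ ⁻¹ᵁ R) := hπi
  haveI : IsSchemeTheoreticallyDominant (π ⁻¹ᵁ c₀ ⁻¹ᵁ R).ι := hπd
  let w : U ⟶ (π ⁻¹ᵁ c₀ ⁻¹ᵁ R : Scheme.{u}) := jc.isoOpensRange.hom ≫ inv (c₀ ∣_ R) ≫ inv (π ∣_ c₀ ⁻¹ᵁ R)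
  let k : U ⟶ X := w ≫ (π ⁻¹ᵁ c₀ ⁻¹ᵁ R).ι
  have hwr : w ≫ (π ∣_ c₀ ⁻¹ᵁ R) ≫ r = 𝟙 U := by simp [w, r]
  have hkP : k ≫ P = jc := by
    show (w ≫ (π ⁻¹ᵁ c₀ ⁻¹ᵁ R).ι) ≫ π ≫ c₀ = jc
    rw [Category.assoc, ← morphismRestrict_ι_assoc, ← morphismRestrict_ι]
    simp only [w, Category.assoc, IsIso.inv_hom_id_assoc]
    exact jc.isoOpensRange_hom_ι
  haveI : IsIso w := inferInstanceAs
    (IsIso (jc.isoOpensRange.hom ≫ inv (c₀ ∣_ R) ≫ inv (π ∣_ c₀ ⁻¹ᵁ R)))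
  haveI : IsOpenImmersion k := inferInstanceAs (IsOpenImmersion (w ≫ (π ⁻¹ᵁ c₀ ⁻¹ᵁ R).ι))
  haveI : QuasiCompact (π ⁻¹ᵁ c₀ ⁻¹ᵁ R).ι :=
    Groth.L17.Approx.quasiCompact_ι _ (TopologicalSpace.NoetherianSpace.isCompact _)
  haveI : IsSchemeTheoreticallyDominant k :=
    inferInstanceAs (IsSchemeTheoreticallyDominant (w ≫ (π ⁻¹ᵁ c₀ ⁻¹ᵁ R).ι))
  refine ⟨X, P ≫ q, k, E', inferInstance, inferInstance, inferInstance, inferInstance, inferInstance,
    inferInstance, by rw [reassoc_of% hkP, Category.assoc, hq₁, reassoc_of% hu₁], hE', ⟨?_⟩,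
    Groth.Agent.S17896.exists_side P q p₁ j₁ b₁ o₁ u₁ hq₁ hu₁ k hkP,
    Groth.Agent.S17896.exists_side P q p₂ j₂ b₂ o₂ u₂ hq₂ hu₂ k (hkP.trans hu)⟩
  exact ((Scheme.Modules.pullbackComp w (π ⁻¹ᵁ c₀ ⁻¹ᵁ R).ι).app E').symm ≪≫
    (Scheme.Modules.pullback w).mapIso (eE ≪≫ (Scheme.Modules.pullbackComp (π ∣_ c₀ ⁻¹ᵁ R) r).app E) ≪≫
    (Scheme.Modules.pullbackComp w ((π ∣_ c₀ ⁻¹ᵁ R) ≫ r)).app E ≪≫
    (Scheme.Modules.pullbackCongr hwr).app E ≪≫ (Scheme.Modules.pullbackId U).app E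

end Groth.Agent.S17896
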