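import Groth.Statements.S17900
import Groth.Agent.L07.Syzygy
import Groth.Agent.L03.TorCone
-- import your own Groth.Agent.* helpers here

set_option autoImplicit false
universe u
open TensorProduct
open Pinch

namespace Groth.Agent.S17900

/-- Let R be a commutative ring and let B' → B → A, B' → A' → A be a commutative square of R-algebras
which is a fibre square (B' = B ×_A A') with A' → A surjective. If B, A' and A are flat over R then
B' is flat over R. -/
theorem result (R B' B A' A : Type u) [CommRing R] [CommRing B'] [CommRing B] [CommRing A'] [CommRing A]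
    [Algebra B' B] [Algebra B' A'] [Algebra B A] [Algebra A' A] [Algebra B' A]
    [IsScalarTower B' B A] [IsScalarTower B' A' A]
    [Algebra R B'] [Algebra R B] [Algebra R A'] [Algebra R A]
    [IsScalarTower R B' B] [IsScalarTower R B' A'] [IsScalarTower R B' A] [IsScalarTower R B A] [IsScalarTower R A' A]
    (hsq : EtMil.IsFibreSquare B' B A' A)
    [Module.Flat R B] [Module.Flat R A'] [Module.Flat R A] :
    Module.Flat R B' := by
  let g : B × A' →ₗ[R] A :=
    (IsScalarTower.toAlgHom R B A).toLinearMap ∘ₗ LinearMap.fst R B A' -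
      (IsScalarTower.toAlgHom R A' A).toLinearMap ∘ₗ LinearMap.snd R B A'
  have hg : Function.Surjective g := fun a => by
    obtain ⟨a', ha'⟩ := hsq.1 a
    exact ⟨(0, -a'), by simp [g, ha']⟩
  let φ₀ : B' →ₗ[R] B × A' :=
    (IsScalarTower.toAlgHom R B' B).toLinearMap.prod (IsScalarTower.toAlgHom R B' A').toLinearMap
  have hmem : ∀ b', φ₀ b' ∈ LinearMap.ker g := fun b' => by
    simp [g, φ₀, ← IsScalarTower.algebraMap_apply]
  let φ : B' →ₗ[R] LinearMap.ker g := φ₀.codRestrict _ hmem
  have hφ : Function.Bijective φ := by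
    refine ⟨fun x y hxy => ?_, fun ⟨⟨b, a'⟩, hba⟩ => ?_⟩
    · have h1 : φ₀ x = φ₀ y := congrArg Subtype.val hxy
      obtain ⟨h2, h3⟩ := Prod.ext_iff.1 h1
      obtain ⟨z, -, hz⟩ := hsq.2 (algebraMap B' B x) (algebraMap B' A' x)
        (by rw [← IsScalarTower.algebraMap_apply, ← IsScalarTower.algebraMap_apply])
      exact (hz x ⟨rfl, rfl⟩).trans (hz y ⟨h2.symm, h3.symm⟩).symm
    · obtain ⟨z, ⟨h1, h2⟩, -⟩ := hsq.2 b a' (sub_eq_zero.1 hba)
      exact ⟨z, Subtype.ext (Prod.ext h1 h2)⟩
  haveI : Module.Flat R (B × A') := Groth.L03.TorCone.flat_prod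
  haveI := Groth.L07.FlatDescent.flat_ker g hg
  exact Module.Flat.of_linearEquiv (LinearEquiv.ofBijective φ hφ)

end Groth.Agent.S17900
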