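import Groth.Statements.S17901
import Mathlib.RingTheory.Flat.Equalizer
import Mathlib.LinearAlgebra.TensorProduct.Prod

set_option autoImplicit false
set_option backward.isDefEq.respectTransparency.types false
set_option backward.isDefEq.respectTransparency false
set_option linter.style.haveILetI false
universe u
open TensorProduct
open Pinch

namespace Groth.Agent.S17901

/-- Let R be a commutative ring and let B' → B → A, B' → A' → A be a fibre square of R-algebras (B' = B
×_A A') with A' → A surjective, where B, A' and A are flat over R. Then for every commutative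
R-algebra R' the square obtained by applying R' ⊗_R − is again a fibre square: R' ⊗_R A' → R' ⊗_R A
is surjective and every pair of elements of R' ⊗_R B and R' ⊗_R A' with the same image in R' ⊗_R A
is the image of a unique element of R' ⊗_R B'. (The published lemma concludes that the base-changed
square of spectra is co-cartesian in ringed spaces; this row states the ring form, surjective edge
and fibre product, which its proof establishes before translating it to ringed spaces.) -/
theorem result (R B' B A' A : Type u) [CommRing R] [CommRing B'] [CommRing B] [CommRing A'] [CommRing A]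
    [Algebra B' B] [Algebra B' A'] [Algebra B A] [Algebra A' A] [Algebra B' A]
    [IsScalarTower B' B A] [IsScalarTower B' A' A]
    [Algebra R B'] [Algebra R B] [Algebra R A'] [Algebra R A]
    [IsScalarTower R B' B] [IsScalarTower R B' A'] [IsScalarTower R B' A] [IsScalarTower R B A] [IsScalarTower R A' A]
    (hsq : EtMil.IsFibreSquare B' B A' A)
    [Module.Flat R B] [Module.Flat R A'] [Module.Flat R A]
    (R' : Type u) [CommRing R'] [Algebra R R'] :
    Function.Surjective (Algebra.TensorProduct.map (AlgHom.id R R') (IsScalarTower.toAlgHom R A' A)) ∧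
    ∀ (x : R' ⊗[R] B) (y : R' ⊗[R] A'),
      Algebra.TensorProduct.map (AlgHom.id R R') (IsScalarTower.toAlgHom R B A) x =
        Algebra.TensorProduct.map (AlgHom.id R R') (IsScalarTower.toAlgHom R A' A) y →
      ∃! z : R' ⊗[R] B',
        Algebra.TensorProduct.map (AlgHom.id R R') (IsScalarTower.toAlgHom R B' B) z = x ∧
        Algebra.TensorProduct.map (AlgHom.id R R') (IsScalarTower.toAlgHom R B' A') z = y := by
  obtain ⟨hsur, hfp⟩ := hsq
  let φB : B' →ₗ[R] B := (IsScalarTower.toAlgHom R B' B).toLinearMap
  let φA' : B' →ₗ[R] A' := (IsScalarTower.toAlgHom R B' A').toLinearMap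
  let ψB : B →ₗ[R] A := (IsScalarTower.toAlgHom R B A).toLinearMap
  let ψA' : A' →ₗ[R] A := (IsScalarTower.toAlgHom R A' A).toLinearMap
  let g : B' →ₗ[R] B × A' := φB.prod φA'
  let f : B × A' →ₗ[R] A := ψB.coprod (-ψA')
  have hψ : Function.Surjective ψA' := hsur
  have hf : Function.Surjective f := fun a => by
    obtain ⟨a', ha'⟩ := hψ (-a)
    exact ⟨(0, a'), by simp [f, ha']⟩
  have hg : Function.Injective g := by
    intro x y hxy
    have h1 : algebraMap B' B x = algebraMap B' B y := congrArg Prod.fst hxy
    have h2 : algebraMap B' A' x = algebraMap B' A' y := congrArg Prod.snd hxy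
    have h3 : algebraMap B A (algebraMap B' B x) = algebraMap A' A (algebraMap B' A' x) := by
      rw [← IsScalarTower.algebraMap_apply, ← IsScalarTower.algebraMap_apply]
    obtain ⟨z, -, hz⟩ := hfp _ _ h3
    exact (hz x ⟨rfl, rfl⟩).trans (hz y ⟨h1.symm, h2.symm⟩).symm
  have H : Function.Exact g f := by
    rintro ⟨b, a'⟩
    constructor
    · intro h
      have h' : algebraMap B A b = algebraMap A' A a' := by
        simpa [f, ψB, ψA', LinearMap.coprod_apply, add_neg_eq_zero, ← sub_eq_add_neg,
          sub_eq_zero] using h
      obtain ⟨z, ⟨h1, h2⟩, -⟩ := hfp b a' h'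
      exact ⟨z, Prod.ext h1 h2⟩
    · rintro ⟨z, hz⟩
      obtain ⟨rfl, rfl⟩ := Prod.mk.inj hz
      simp [f, ψB, ψA', φB, φA', LinearMap.coprod_apply, ← IsScalarTower.algebraMap_apply]
  have hinj := LinearMap.lTensor_injective_of_exact_of_flat f hf g hg H R'
  have hex := lTensor_exact R' H hf
  let e := TensorProduct.prodRight R R R' B A'
  have e1 : ∀ z, e (g.lTensor R' z) =
      (Algebra.TensorProduct.map (AlgHom.id R R') (IsScalarTower.toAlgHom R B' B) z,
       Algebra.TensorProduct.map (AlgHom.id R R') (IsScalarTower.toAlgHom R B' A') z) := by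
    intro z
    induction z using TensorProduct.induction_on with
    | zero => simp only [map_zero]; rfl
    | tmul r b => simp [e, g, φB, φA']
    | add a b ha hb => simp only [map_add, ha, hb, Prod.mk_add_mk]
  have e2 : ∀ w, f.lTensor R' w =
      Algebra.TensorProduct.map (AlgHom.id R R') (IsScalarTower.toAlgHom R B A) (e w).1 -
       Algebra.TensorProduct.map (AlgHom.id R R') (IsScalarTower.toAlgHom R A' A) (e w).2 := by
    intro w
    induction w using TensorProduct.induction_on with
    | zero => simp
    | tmul r b => simp [e, f, ψB, ψA', LinearMap.coprod_apply, TensorProduct.tmul_add,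
        TensorProduct.tmul_neg, sub_eq_add_neg]
    | add a b ha hb => simp only [map_add, ha, hb, Prod.fst_add, Prod.snd_add]; abel
  refine ⟨?_, fun x y hxy => ?_⟩
  · intro z
    obtain ⟨w, hw⟩ := LinearMap.lTensor_surjective R' hψ z
    refine ⟨w, ?_⟩
    rw [← hw]
    rfl
  · obtain ⟨z, hz⟩ := (hex (e.symm (x, y))).1 (by
      rw [e2, LinearEquiv.apply_symm_apply, hxy, sub_self])
    have hz' := congrArg e hz
    rw [e1, LinearEquiv.apply_symm_apply, Prod.mk.injEq] at hz'
    refine ⟨z, hz', fun z' hz'' => hinj (e.injective ?_)⟩
    rw [e1, e1, hz'.1, hz'.2, hz''.1, hz''.2]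

end Groth.Agent.S17901
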