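import Groth.Statements.S17902
import Mathlib.RingTheory.Support
import Mathlib.RingTheory.LocalRing.Module
import Mathlib.RingTheory.Localization.Module
import Mathlib.RingTheory.TensorProduct.Free
import Mathlib.RingTheory.Spectrum.Prime.Topology
import Mathlib.RingTheory.OrzechProperty
import Mathlib.RingTheory.FiniteType

set_option autoImplicit false
universe u
open CAlg

namespace Groth.Agent.S17902

section
open TensorProduct

variable {A : Type u} [CommRing A] {M : Type u} [AddCommGroup M] [Module A M]

theorem exists_gens {n : ℕ} {g : A} (B : Module.Basis (Fin n) (Localization.Away g) (LocalizedModule (Submonoid.powers g) M)) :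
    ∃ b : Fin n → M, ∀ m : M, ∃ N : ℕ, g ^ N • m ∈ Submodule.span A (Set.range b) := by
  choose mt hmt using fun j => IsLocalizedModule.surj (Submonoid.powers g) (LocalizedModule.mkLinearMap (Submonoid.powers g) M) (B j)
  refine ⟨fun j => (mt j).1, fun m => ?_⟩
  let W := Submodule.span A (Set.range fun j => (mt j).1)
  let q := LocalizedModule.map (Submonoid.powers g) W.mkQ
  have hq : q = 0 := B.ext fun j => by
    have hu : IsUnit (algebraMap A (Localization.Away g) ((mt j).2 : A)) := IsLocalization.map_units _ (mt j).2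
    apply hu.smul_left_cancel.mp
    rw [LinearMap.zero_apply, smul_zero, ← map_smul, algebraMap_smul]
    have h1 : ((mt j).2 : A) • B j = LocalizedModule.mkLinearMap (Submonoid.powers g) M (mt j).1 := hmt j
    rw [h1, LocalizedModule.mkLinearMap_apply, LocalizedModule.map_mk,
      show W.mkQ (mt j).1 = 0 from (Submodule.Quotient.mk_eq_zero W).mpr (Submodule.subset_span ⟨j, rfl⟩), LocalizedModule.zero_mk]
  have h2 : LocalizedModule.mkLinearMap (Submonoid.powers g) (M ⧸ W) (W.mkQ m) = 0 := by
    have := LinearMap.congr_fun hq (LocalizedModule.mkLinearMap (Submonoid.powers g) M m)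
    rw [LinearMap.zero_apply, LocalizedModule.mkLinearMap_apply, LocalizedModule.map_mk] at this
    rw [LocalizedModule.mkLinearMap_apply]
    exact this
  obtain ⟨⟨c, N, rfl⟩, hc⟩ := (IsLocalizedModule.eq_zero_iff (Submonoid.powers g) _).mp h2
  refine ⟨N, (Submodule.Quotient.mk_eq_zero W).mp ?_⟩
  rw [Submodule.Quotient.mk_smul]
  exact hc

theorem finrank_eq {n : ℕ} {g : A} (B : Module.Basis (Fin n) (Localization.Away g) (LocalizedModule (Submonoid.powers g) M))
    (q : Ideal A) [q.IsPrime] (hg : g ∉ q) : Nonempty (Module.Basis (Fin n) (Localization.AtPrime q) (LocalizedModule q.primeCompl M)) := by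
  have hu : ∀ y : Submonoid.powers g, IsUnit (algebraMap A (Localization.AtPrime q) y) := by
    rintro ⟨_, k, rfl⟩
    exact IsLocalization.map_units (Localization.AtPrime q) (⟨g ^ k, fun h => hg (Ideal.IsPrime.mem_of_pow_mem inferInstance k h)⟩ : q.primeCompl)
  letI : Algebra (Localization.Away g) (Localization.AtPrime q) := (IsLocalization.lift hu).toAlgebra
  haveI : IsScalarTower A (Localization.Away g) (Localization.AtPrime q) :=
    IsScalarTower.of_algebraMap_eq fun x => (IsLocalization.lift_eq hu x).symm
  let B' := (B.map (LocalizedModule.equivTensorProduct (Submonoid.powers g) M)).baseChange (Localization.AtPrime q)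
  exact ⟨B'.map ((TensorProduct.AlgebraTensorModule.cancelBaseChange A (Localization.Away g) (Localization.AtPrime q) (Localization.AtPrime q) M).trans
    (LocalizedModule.equivTensorProduct q.primeCompl M).symm)⟩

end

open TensorProduct


/-- Let A be a commutative ring, M a finitely generated projective A-module, n a natural number and P a
finite set of prime ideals of A such that for every p in P there is g outside p with M_g free of
rank n over A_g. Then there exist n elements of M and an open subset U of Spec A containing P such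
that for every prime q in U the images of these elements in M_q form a basis of M_q over A_q. (The
published conclusion is that the associated sheaf is free of rank n on some open neighbourhood of P;
the form given here, with n global elements of M, is what its proof produces.) -/
theorem result (A : Type u) [CommRing A] (M : Type u) [AddCommGroup M] [Module A M]
    [Module.Finite A M] [Module.Projective A M] (n : ℕ) (P : Finset (PrimeSpectrum A))
    (hP : ∀ p ∈ P, ∃ g : A, g ∉ p.asIdeal ∧
      Nonempty (Module.Basis (Fin n) (Localization.Away g) (LocalizedModule (Submonoid.powers g) M))) :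
    ∃ (s : Fin n → M) (U : Set (PrimeSpectrum A)), IsOpen U ∧ (∀ p ∈ P, p ∈ U) ∧
      ∀ q ∈ U,
        LinearIndependent (Localization.AtPrime q.asIdeal)
            (fun j => LocalizedModule.mkLinearMap q.asIdeal.primeCompl M (s j)) ∧
          Submodule.span (Localization.AtPrime q.asIdeal)
            (Set.range fun j => LocalizedModule.mkLinearMap q.asIdeal.primeCompl M (s j)) = ⊤ := by
  classical
  choose g hg B using fun p : P => hP p.1 p.2
  choose b hb using fun p : P => exists_gens (B p).some
  let Pm : Finset P := Finset.univ.filter fun p => ∀ p' : P, p.1.asIdeal ≤ p'.1.asIdeal → p' = p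
  have hmax : ∀ p : P, ∃ p' ∈ Pm, p.1.asIdeal ≤ p'.1.asIdeal := by
    intro p
    obtain ⟨p', hp', hmax'⟩ := (Finset.univ.filter fun p' : P => p.1.asIdeal ≤ p'.1.asIdeal).exists_maximalFor (fun p' => p'.1.asIdeal) ⟨p, by simp⟩
    rw [Finset.mem_filter] at hp'
    refine ⟨p', Finset.mem_filter.mpr ⟨Finset.mem_univ _, fun p'' h => ?_⟩, hp'.2⟩
    exact Subtype.ext (PrimeSpectrum.ext (le_antisymm (hmax' (Finset.mem_filter.mpr ⟨Finset.mem_univ _, hp'.2.trans h⟩) h) h))
  have ht : ∀ p ∈ Pm, ∃ t, t ∉ p.1.asIdeal ∧ ∀ p' ∈ Pm, p' ≠ p → t ∈ p'.1.asIdeal := by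
    intro p hp
    have h1 : ∀ p' ∈ Pm, p' ≠ p → ∃ y ∈ p'.1.asIdeal, y ∉ p.1.asIdeal := by
      intro p' hp' hne
      by_contra! hle
      exact hne ((Finset.mem_filter.mp hp').2 p hle).symm
    choose y hy hy' using h1
    refine ⟨∏ p' ∈ (Pm.erase p).attach, y p'.1 (Finset.mem_erase.mp p'.2).2 (Finset.mem_erase.mp p'.2).1, ?_, ?_⟩
    · intro hmem
      obtain ⟨p', -, h⟩ := (Ideal.IsPrime.prod_mem_iff).mp hmem
      exact hy' _ _ _ h
    · intro p' hp' hne
      rw [← Finset.prod_erase_mul _ _ (Finset.mem_attach _ ⟨p', Finset.mem_erase.mpr ⟨hne, hp'⟩⟩)]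
      exact Ideal.mul_mem_left _ _ (hy p' hp' hne)
  choose t ht1 ht2 using ht
  let s : Fin n → M := fun j => ∑ p ∈ Pm.attach, t p.1 p.2 • b p.1 j
  let W := Submodule.span A (Set.range s)
  let U : Set (PrimeSpectrum A) := (Module.support A (M ⧸ W))ᶜ ∩ ⋃ p : P, (PrimeSpectrum.basicOpen (g p) : Set (PrimeSpectrum A))
  have hclosed : IsClosed (Module.support A (M ⧸ W)) := by
    rw [Module.support_eq_zeroLocus]
    exact PrimeSpectrum.isClosed_zeroLocus _
  refine ⟨s, U, hclosed.isOpen_compl.inter (isOpen_iUnion fun p => PrimeSpectrum.isOpen_basicOpen), ?_, ?_⟩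
  · intro p hp
    refine ⟨?_, Set.mem_iUnion.mpr ⟨⟨p, hp⟩, hg ⟨p, hp⟩⟩⟩
    obtain ⟨p', hp', hle⟩ := hmax ⟨p, hp⟩
    intro hsup
    have hsup' : p'.1 ∈ Module.support A (M ⧸ W) := Module.mem_support_mono hle hsup
    rw [Module.mem_support_iff_nontrivial_residueField_tensorProduct] at hsup'
    let K := p'.1.asIdeal.ResidueField
    let φ : M →ₗ[A] K ⊗[A] (M ⧸ W) := TensorProduct.mk A K (M ⧸ W) 1 ∘ₗ W.mkQ
    have hφW : ∀ w ∈ W, φ w = 0 := fun w hw => by
      show (1 : K) ⊗ₜ[A] Submodule.Quotient.mk w = 0
      rw [(Submodule.Quotient.mk_eq_zero W).mpr hw, TensorProduct.tmul_zero]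
    have hsm : ∀ (a : A) (m : M), φ (a • m) = algebraMap A K a • φ m := fun a m => by
      rw [map_smul, algebraMap_smul]
    have hb0 : ∀ j, φ (b p' j) = 0 := by
      intro j
      have h1 : φ (s j) = 0 := hφW _ (Submodule.subset_span ⟨j, rfl⟩)
      rw [show s j = ∑ p ∈ Pm.attach, t p.1 p.2 • b p.1 j from rfl, map_sum,
        Finset.sum_eq_single (⟨p', hp'⟩ : {x // x ∈ Pm}) (fun x _ hx => by
          rw [hsm, Ideal.algebraMap_residueField_eq_zero.mpr (ht2 x.1 x.2 p' hp' (fun h => hx (Subtype.ext h.symm))), zero_smul])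
          (fun h => absurd (Finset.mem_attach _ _) h), hsm, smul_eq_zero] at h1
      exact h1.resolve_left fun h => ht1 p' hp' (Ideal.algebraMap_residueField_eq_zero.mp h)
    have hφ : ∀ m, φ m = 0 := by
      intro m
      obtain ⟨N, hN⟩ := hb p' m
      have h1 : φ ((g p') ^ N • m) = 0 := by
        refine (Submodule.span_le (p := LinearMap.ker φ)).mpr ?_ hN
        rintro _ ⟨j, rfl⟩
        exact hb0 j
      rw [hsm, smul_eq_zero] at h1
      exact h1.resolve_left fun h => hg p' (Ideal.IsPrime.mem_of_pow_mem inferInstance N (Ideal.algebraMap_residueField_eq_zero.mp h))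
    obtain ⟨z, hz⟩ := exists_ne (0 : K ⊗[A] (M ⧸ W))
    apply hz
    clear hz
    induction z using TensorProduct.induction_on with
    | zero => rfl
    | tmul c x =>
      obtain ⟨m, rfl⟩ := Submodule.Quotient.mk_surjective _ x
      rw [show c ⊗ₜ[A] (Submodule.Quotient.mk m : M ⧸ W) = c • φ m by
        show _ = c • ((1 : K) ⊗ₜ[A] Submodule.Quotient.mk m)
        rw [TensorProduct.smul_tmul', smul_eq_mul, mul_one], hφ, smul_zero]
    | add x y hx hy => rw [hx, hy, add_zero]
  · rintro q ⟨hq1, hq2⟩
    obtain ⟨p, hp⟩ := Set.mem_iUnion.mp hq2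
    obtain ⟨Bq⟩ := finrank_eq (B p).some q.asIdeal hp
    let v : Fin n → LocalizedModule q.asIdeal.primeCompl M := fun j => LocalizedModule.mkLinearMap q.asIdeal.primeCompl M (s j)
    have hspan : Submodule.span (Localization.AtPrime q.asIdeal) (Set.range v) = ⊤ := by
      rw [eq_top_iff]
      intro y _
      induction y using LocalizedModule.induction_on with
      | h m c =>
        obtain ⟨u, hu, hum⟩ := Module.notMem_support_iff'.mp hq1 (Submodule.Quotient.mk m)
        rw [← Submodule.Quotient.mk_smul, Submodule.Quotient.mk_eq_zero] at hum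
        have h1 : LocalizedModule.mkLinearMap q.asIdeal.primeCompl M (u • m) ∈
            Submodule.span (Localization.AtPrime q.asIdeal) (Set.range v) := by
          refine (Submodule.span_le (p := ((Submodule.span (Localization.AtPrime q.asIdeal) (Set.range v)).restrictScalars A).comap
            (LocalizedModule.mkLinearMap q.asIdeal.primeCompl M))).mpr ?_ hum
          rintro _ ⟨j, rfl⟩
          exact Submodule.subset_span ⟨j, rfl⟩
        have h2 := Submodule.smul_mem _ (Localization.mk 1 (c * (⟨u, hu⟩ : q.asIdeal.primeCompl))) h1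
        rw [LocalizedModule.mkLinearMap_apply, LocalizedModule.mk_smul_mk, one_smul, mul_one] at h2
        rw [show (⟨u, hu⟩ : q.asIdeal.primeCompl) = ⟨u, hu⟩ from rfl] at h2
        convert h2 using 1
        rw [mul_comm, ← Submonoid.smul_def (S := q.asIdeal.primeCompl) ⟨u, hu⟩ m, LocalizedModule.mk_cancel_common_left]
    refine ⟨?_, hspan⟩
    let L : (Fin n → Localization.AtPrime q.asIdeal) →ₗ[Localization.AtPrime q.asIdeal] LocalizedModule q.asIdeal.primeCompl M :=
      Fintype.linearCombination (Localization.AtPrime q.asIdeal) v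
    have hLs : Function.Surjective (Bq.equivFun.toLinearMap ∘ₗ L) :=
      Bq.equivFun.surjective.comp (LinearMap.range_eq_top.mp (by rw [Fintype.range_linearCombination, hspan]))
    have hLi : Function.Injective L :=
      Function.Injective.of_comp (f := Bq.equivFun) (OrzechProperty.injective_of_surjective_endomorphism _ hLs)
    exact linearIndependent_iff_injective_fintypeLinearCombination.mpr hLi

end Groth.Agent.S17902
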