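import Groth.Statements.S17904
import Groth.Agent.L24.PinchRS.Pushout
import Groth.Agent.L24.PinchBC.FlatPush

set_option autoImplicit false
set_option backward.isDefEq.respectTransparency.types false
universe u
open CategoryTheory CategoryTheory.Limits AlgebraicGeometry
open Pinch

namespace Groth.Agent.S17904

/-- Let S be a scheme and Z → X, Z → Z', X → X', Z' → X' a commutative square of S-schemes in which Z →
X and Z' → X' are closed immersions and Z → Z' and X → X' are affine, which is a pushout square in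
the category of ringed spaces, with X, Z and Z' flat over S. Then for every morphism T → S the
square of base changes Z_T → X_T, Z_T → Z'_T, X_T → X'_T, Z'_T → X'_T is a pushout square in the
category of ringed spaces. -/
theorem result {S X Z Z' X' : Scheme.{u}}
    (fX : X ⟶ S) (fZ' : Z' ⟶ S) (fX' : X' ⟶ S) (ι : Z ⟶ X) (q : Z ⟶ Z') (π : X ⟶ X') (ι' : Z' ⟶ X')
    [IsClosedImmersion ι] [IsClosedImmersion ι'] [IsAffineHom q] [IsAffineHom π]
    (hq : q ≫ fZ' = ι ≫ fX) (hπ : π ≫ fX' = fX) (hι' : ι' ≫ fX' = fZ')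
    (hpo : IsPushout ((Scheme.forgetToLocallyRingedSpace ⋙ LocallyRingedSpace.forgetToSheafedSpace).map ι) ((Scheme.forgetToLocallyRingedSpace ⋙ LocallyRingedSpace.forgetToSheafedSpace).map q)
      ((Scheme.forgetToLocallyRingedSpace ⋙ LocallyRingedSpace.forgetToSheafedSpace).map π) ((Scheme.forgetToLocallyRingedSpace ⋙ LocallyRingedSpace.forgetToSheafedSpace).map ι'))
    [Flat fX] [Flat (ι ≫ fX)] [Flat fZ']
    {T : Scheme.{u}} (g : T ⟶ S) :
    IsPushout
      ((Scheme.forgetToLocallyRingedSpace ⋙ LocallyRingedSpace.forgetToSheafedSpace).map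
        ((Over.pullback g).map (Over.homMk ι rfl : Over.mk (ι ≫ fX) ⟶ Over.mk fX)).left)
      ((Scheme.forgetToLocallyRingedSpace ⋙ LocallyRingedSpace.forgetToSheafedSpace).map
        ((Over.pullback g).map (Over.homMk q hq : Over.mk (ι ≫ fX) ⟶ Over.mk fZ')).left)
      ((Scheme.forgetToLocallyRingedSpace ⋙ LocallyRingedSpace.forgetToSheafedSpace).map
        ((Over.pullback g).map (Over.homMk π hπ : Over.mk fX ⟶ Over.mk fX')).left)
      ((Scheme.forgetToLocallyRingedSpace ⋙ LocallyRingedSpace.forgetToSheafedSpace).map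
        ((Over.pullback g).map (Over.homMk ι' hι' : Over.mk fZ' ⟶ Over.mk fX')).left) := by
  have h1 : IsPushout ι q π ι' := Groth.L24.PinchRS.isPushout_of_map hpo
  have hp : Groth.L20.Pinch.IsPinch ι q π ι' :=
    Groth.L20.Pinch.IsPinch.of_isPushout (Groth.L24.PinchBC.std_of_isAffineHom h1.w) h1
  haveI : Flat ((ι ≫ π) ≫ fX') := by rw [Category.assoc, hπ]; infer_instance
  let mι : Over.mk (ι ≫ fX) ⟶ Over.mk fX := Over.homMk ι rfl
  let mq : Over.mk (ι ≫ fX) ⟶ Over.mk fZ' := Over.homMk q hq
  let ma : Over.mk fX ⟶ Over.mk fX' := Over.homMk π hπ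
  let mb : Over.mk fZ' ⟶ Over.mk fX' := Over.homMk ι' hι'
  have hw : mι ≫ ma = mq ≫ mb := Over.OverMorphism.ext h1.w
  have hwl : ((Over.pullback g).map mι).left ≫ ((Over.pullback g).map ma).left =
      ((Over.pullback g).map mq).left ≫ ((Over.pullback g).map mb).left := by
    rw [← Over.comp_left, ← Over.comp_left, ← Functor.map_comp, ← Functor.map_comp, hw]
  have hc := Groth.L24.PinchBC.isPullback_overMap g (mι ≫ ma)
  rw [Functor.map_comp, Over.comp_left, Over.comp_left] at hc
  have hpT := Groth.L24.PinchBC.isPushout_baseChange_of_flat (q := fX') hp (IsPullback.of_hasPullback fX' g)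
    (Groth.L24.PinchBC.isPullback_overMap g mb) (Groth.L24.PinchBC.isPullback_overMap g ma) hc hwl
    (Groth.L24.PinchBC.isPullback_overMap g mq).w (Groth.L24.PinchBC.isPullback_overMap g mι).w
  haveI hic : IsClosedImmersion ((Over.pullback g).map mι).left :=
    MorphismProperty.of_isPullback (Groth.L24.PinchBC.isPullback_overMap g mι).flip ‹IsClosedImmersion ι›
  haveI : IsAffineHom ((Over.pullback g).map ma).left :=
    MorphismProperty.of_isPullback (Groth.L24.PinchBC.isPullback_overMap g ma).flip ‹IsAffineHom π›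
  haveI : IsAffineHom ((Over.pullback g).map mb).left :=
    MorphismProperty.of_isPullback (Groth.L24.PinchBC.isPullback_overMap g mb).flip
      (inferInstance : IsAffineHom ι')
  exact Groth.L24.PinchRS.isPushout_toRS
    (Groth.L20.Pinch.IsPinch.of_isPushout (Groth.L24.PinchBC.std_of_isAffineHom hwl) hpT)

end Groth.Agent.S17904
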