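import Groth.Statements.S17905
import Groth.Agent.L24.PinchRS.Pushout
import Groth.Agent.L24.PinchRS.AppInj
import Groth.Agent.L24.PinchBC.FlatPush

set_option autoImplicit false
set_option backward.isDefEq.respectTransparency.types false
universe u
open CategoryTheory AlgebraicGeometry
open Pinch

namespace Groth.Agent.S17905

/-- Let S be a scheme and Z → X, Z → Z', X → X', Z' → X' a commutative square of S-schemes which is a
pushout square in the category of ringed spaces, with Z → X and Z' → X' closed immersions, X → X'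
affine, Z → Z' finite, flat and surjective, and X, Z, Z' flat over S. Suppose that for every T → S
the map O_T → (f_T)_* O_{X_T} induced by the base change f_T : X_T → T of X → S is an isomorphism.
Then for every T → S the map O_T → (f'_T)_* O_{X'_T} induced by the base change of X' → S is an
isomorphism. (The published lemma is stated for the pinching of a finite surjective Z → Z' whose
fibres lie in affine opens of X, with X → S admitting a section; this row assumes X → X' only affine
and drops the affine-fibre and section conditions, which the printed proof does not use.) -/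
theorem result {S X Z Z' X' : Scheme.{u}}
    (fX : X ⟶ S) (fZ' : Z' ⟶ S) (fX' : X' ⟶ S) (ι : Z ⟶ X) (q : Z ⟶ Z') (π : X ⟶ X') (ι' : Z' ⟶ X')
    [IsClosedImmersion ι] [IsClosedImmersion ι'] [IsFinite q] [Flat q] [Surjective q] [IsAffineHom π]
    (hq : q ≫ fZ' = ι ≫ fX) (hπ : π ≫ fX' = fX) (hι' : ι' ≫ fX' = fZ')
    (hpo : IsPushout ((Scheme.forgetToLocallyRingedSpace ⋙ LocallyRingedSpace.forgetToSheafedSpace).map ι) ((Scheme.forgetToLocallyRingedSpace ⋙ LocallyRingedSpace.forgetToSheafedSpace).map q)
      ((Scheme.forgetToLocallyRingedSpace ⋙ LocallyRingedSpace.forgetToSheafedSpace).map π) ((Scheme.forgetToLocallyRingedSpace ⋙ LocallyRingedSpace.forgetToSheafedSpace).map ι'))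
    [Flat fX] [Flat (ι ≫ fX)] [Flat fZ']
    (hX : ∀ (T : Scheme.{u}) (g : T ⟶ S) (U : T.Opens), IsIso ((Limits.pullback.snd fX g).app U))
    (T : Scheme.{u}) (g : T ⟶ S) (U : T.Opens) :
    IsIso ((Limits.pullback.snd fX' g).app U) := by
  open CategoryTheory.Limits in
  exact by
    have h1 : IsPushout ι q π ι' := Groth.L24.PinchRS.isPushout_of_map hpo
    have hp : Groth.L20.Pinch.IsPinch ι q π ι' :=
      Groth.L20.Pinch.IsPinch.of_isPushout (Groth.L24.PinchBC.std_of_isAffineHom h1.w) h1
    haveI : Flat ((ι ≫ π) ≫ fX') := by rw [Category.assoc, hπ]; infer_instance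
    let mι : Over.mk (ι ≫ fX) ⟶ Over.mk fX := Over.homMk ι rfl
    let mq : Over.mk (ι ≫ fX) ⟶ Over.mk fZ' := Over.homMk q hq
    let ma : Over.mk fX ⟶ Over.mk fX' := Over.homMk π hπ
    let mb : Over.mk fZ' ⟶ Over.mk fX' := Over.homMk ι' hι'
    have hw : mι ≫ ma = mq ≫ mb := Over.OverMorphism.ext h1.w
    have hwl : ((Over.pullback g).map mι).left ≫ ((Over.pullback g).map ma).left =
        ((Over.pullback g).map mq).left ≫ ((Over.pullback g).map mb).left := by
      rw [← Over.comp_left, ← Over.comp_left, ← Functor.map_comp, ← Functor.map_comp, hw]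
    have hc := Groth.L24.PinchBC.isPullback_overMap g (mι ≫ ma)
    rw [Functor.map_comp, Over.comp_left, Over.comp_left] at hc
    have hpT := Groth.L24.PinchBC.isPushout_baseChange_of_flat (q := fX') hp (IsPullback.of_hasPullback fX' g)
      (Groth.L24.PinchBC.isPullback_overMap g mb) (Groth.L24.PinchBC.isPullback_overMap g ma) hc hwl
      (Groth.L24.PinchBC.isPullback_overMap g mq).w (Groth.L24.PinchBC.isPullback_overMap g mι).w
    haveI hic : IsClosedImmersion ((Over.pullback g).map mι).left :=
      MorphismProperty.of_isPullback (Groth.L24.PinchBC.isPullback_overMap g mι).flip ‹IsClosedImmersion ι›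
    haveI : IsAffineHom ((Over.pullback g).map ma).left :=
      MorphismProperty.of_isPullback (Groth.L24.PinchBC.isPullback_overMap g ma).flip ‹IsAffineHom π›
    haveI : IsAffineHom ((Over.pullback g).map mb).left :=
      MorphismProperty.of_isPullback (Groth.L24.PinchBC.isPullback_overMap g mb).flip
        (inferInstance : IsAffineHom ι')
    haveI : Flat ((Over.pullback g).map mq).left :=
      MorphismProperty.of_isPullback (Groth.L24.PinchBC.isPullback_overMap g mq).flip ‹Flat q›
    haveI : Surjective ((Over.pullback g).map mq).left :=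
      MorphismProperty.of_isPullback (Groth.L24.PinchBC.isPullback_overMap g mq).flip ‹Surjective q›
    have hP := Groth.L20.Pinch.IsPinch.of_isPushout (Groth.L24.PinchBC.std_of_isAffineHom hwl) hpT
    let a := ((Over.pullback g).map ma).left
    let b := ((Over.pullback g).map mb).left
    let f := pullback.snd fX' g
    have hsec := Groth.L24.PinchRS.isPullback_sections hP (f ⁻¹ᵁ U)
    have haf : a ≫ f = pullback.snd fX g := pullback.lift_snd _ _ _
    have hiso : IsIso (f.app U ≫ a.app (f ⁻¹ᵁ U)) := by
      rw [← Scheme.Hom.comp_app]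
      have key : ∀ h, a ≫ f = h → IsIso (h.app U) → IsIso ((a ≫ f).app U) := by rintro h rfl hh; exact hh
      exact key _ haf (hX T g U)
    have hbij := ConcreteCategory.bijective_of_isIso (f.app U ≫ a.app (f ⁻¹ᵁ U))
    refine (ConcreteCategory.isIso_iff_bijective _).mpr ⟨fun x y hxy => hbij.1 ?_, fun s => ?_⟩
    · simp only [CommRingCat.comp_apply]
      exact congrArg _ hxy
    · obtain ⟨c, hc'⟩ := hbij.2 (a.app (f ⁻¹ᵁ U) s)
      simp only [CommRingCat.comp_apply] at hc'
      refine ⟨c, ?_⟩
      have hb : b.app (f ⁻¹ᵁ U) (f.app U c) = b.app (f ⁻¹ᵁ U) s := by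
        refine Groth.L24.PinchRS.app_injective_of_flat_surjective ((Over.pullback g).map mq).left _ ?_
        have e1 := congrArg (fun n => n (f.app U c)) hsec.w
        have e2 := congrArg (fun n => n s) hsec.w
        simp only [CommRingCat.comp_apply] at e1 e2
        rw [hc', e2] at e1
        simp only [Scheme.Hom.appLE, CommRingCat.comp_apply] at e1
        have eO : Opposite.op (((Over.pullback g).map mq).left ⁻¹ᵁ (b ⁻¹ᵁ (f ⁻¹ᵁ U))) =
            Opposite.op ((((Over.pullback g).map mι).left ≫ a) ⁻¹ᵁ (f ⁻¹ᵁ U)) := by rw [hwl]; rfl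
        refine ((ConcreteCategory.bijective_of_isIso
          ((pullback (ι ≫ fX) g).presheaf.map (eqToHom eO))).1 ?_)
        exact e1.symm
      obtain ⟨r₀, -, hr⟩ := Groth.L24.PinchRS.existsUnique_section hP (f ⁻¹ᵁ U)
        (a.app (f ⁻¹ᵁ U) s) (b.app (f ⁻¹ᵁ U) s) (congrArg (fun n => n s) hsec.w)
      exact (hr _ ⟨hc', hb⟩).trans (hr s ⟨rfl, rfl⟩).symm

end Groth.Agent.S17905
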