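import Groth.Statements.S17909
import Groth.Agent.L15.NormicBC

set_option autoImplicit false
universe u
open scoped TensorProduct
open PolLaw

open Groth.L15.BcAlong

namespace Groth.Agent.S17909

section Aux

variable {R R' Q Q' : Type u} [CommRing R] [CommRing R'] [Algebra R R']
    [CommRing Q] [Algebra R Q] [CommRing Q'] [Algebra R Q'] [Algebra Q Q'] [Algebra R' Q']
    [IsScalarTower R Q Q'] [IsScalarTower R R' Q']
    {M' : Type u} [AddCommGroup M'] [Module R M'] [Module R' M'] [IsScalarTower R R' M']
    {M'' : Type u} [AddCommGroup M''] [Module R M''] [Module R' M''] [Module Q M''] [Module Q' M'']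
    [IsScalarTower R R' M''] [IsScalarTower R Q M''] [IsScalarTower R' Q' M''] [IsScalarTower Q Q' M'']
    (f : M' →ₗ[R'] M'')

theorem isBaseChange_restrict [Algebra.IsPushout R R' Q Q'] (hf : IsBaseChange Q' f) :
    IsBaseChange Q (f.restrictScalars R) := by
  haveI : Algebra.IsPushout R Q R' Q' :=
    Algebra.IsPushout.symm (inferInstanceAs (Algebra.IsPushout R R' Q Q'))
  refine IsBaseChange.of_equiv
    ((Algebra.IsPushout.cancelBaseChange R Q R' Q' M').symm ≪≫ₗ hf.equiv.restrictScalars Q) fun x => ?_
  simp [IsBaseChange.equiv_tmul]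

theorem pushQ_act (P : Type u) [CommRing P] [Algebra R P] [Algebra Q P] [IsScalarTower R Q P]
    (x : P ⊗[R] R') (m : P ⊗[R] M') :
    pushQ (Q := Q) (f.restrictScalars R) P (PolLaw.actEnd M' P x m) =
      PolLaw.actEnd M'' P (pushQ (Q := Q) (IsScalarTower.toAlgHom R R' Q').toLinearMap P x)
        (pushQ (Q := Q) (f.restrictScalars R) P m) := by
  induction x using TensorProduct.induction_on with
  | zero => simp
  | tmul p b =>
    induction m using TensorProduct.induction_on with
    | zero => simp
    | tmul q y =>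
      simp only [PolLaw.actEnd_tmul_tmul, pushQ_tmul, LinearMap.restrictScalars_apply, map_smul,
        AlgHom.toLinearMap_apply, IsScalarTower.coe_toAlgHom']
      rw [IsScalarTower.algebraMap_smul]
    | add a b ha hb => simp only [map_add, ha, hb]
  | add a b ha hb => simp only [map_add, LinearMap.add_apply, ha, hb]

end Aux

attribute [local instance 1100] Algebra.TensorProduct.rightAlgebra

section Canon

variable {R Q : Type u} [CommRing R] [CommRing Q] [Algebra R Q]
  {X Y : Type u} [AddCommGroup X] [Module R X]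
  [AddCommGroup Y] [Module R Y] [Module Q Y] [IsScalarTower R Q Y]

theorem canQ_natural {S S' : Type u} [CommSemiring S] [Algebra R S] [CommSemiring S'] [Algebra R S']
    (φ : S →ₐ[R] S') (z : S ⊗[R] Y) :
    canQ R Q S' Y (φ.toLinearMap.rTensor Y z) =
      (mapQ R Q S φ).toLinearMap.rTensor Y (canQ R Q S Y z) := by
  induction z using TensorProduct.induction_on with
  | zero => simp
  | tmul s y => simp [mapQ_apply]
  | add a b ha hb => simp only [map_add, ha, hb]

theorem canQ_smul {S : Type u} [CommSemiring S] [Algebra R S] (c : S) (z : S ⊗[R] Y) :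
    canQ R Q S Y (c • z) = (c ⊗ₜ[R] (1 : Q)) • canQ R Q S Y z := by
  induction z using TensorProduct.induction_on with
  | zero => simp
  | tmul s y => simp [TensorProduct.smul_tmul', Algebra.TensorProduct.tmul_mul_tmul]
  | add a b ha hb => simp only [smul_add, map_add, ha, hb]

theorem canQ_lTensor {S : Type u} [CommSemiring S] [Algebra R S] (g : X →ₗ[R] Y) (z : S ⊗[R] X) :
    canQ R Q S Y (g.lTensor S z) = pushQ (Q := Q) g (S ⊗[R] Q)
      ((Algebra.TensorProduct.includeLeft : S →ₐ[R] S ⊗[R] Q).toLinearMap.rTensor X z) := by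
  induction z using TensorProduct.induction_on with
  | zero => simp
  | tmul s y => simp
  | add a b ha hb => simp only [map_add, ha, hb]

variable (R Q) in
/-- multiplication `P ⊗[R] Q → P` -/
noncomputable def epsQ (P : Type u) [CommSemiring P] [Algebra R P] [Algebra Q P]
    [IsScalarTower R Q P] : P ⊗[R] Q →ₐ[Q] P :=
  { Algebra.TensorProduct.lift (AlgHom.id R P) (IsScalarTower.toAlgHom R Q P)
      (fun _ _ => mul_comm _ _) with
    commutes' := fun q => by
      show Algebra.TensorProduct.lift (AlgHom.id R P) (IsScalarTower.toAlgHom R Q P)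
        (fun _ _ => mul_comm _ _) ((1 : P) ⊗ₜ[R] q) = _
      simp }

theorem epsQ_left (P : Type u) [CommSemiring P] [Algebra R P] [Algebra Q P]
    [IsScalarTower R Q P] (p : P) : epsQ R Q P (p ⊗ₜ[R] (1 : Q)) = p := by
  show Algebra.TensorProduct.lift (AlgHom.id R P) (IsScalarTower.toAlgHom R Q P)
    (fun _ _ => mul_comm _ _) (p ⊗ₜ[R] (1 : Q)) = _
  simp

end Canon

section Main

variable {R R' Q Q' : Type u} [CommRing R] [CommRing R'] [Algebra R R']
    [CommRing Q] [Algebra R Q] [CommRing Q'] [Algebra R Q'] [Algebra Q Q'] [Algebra R' Q']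
    [IsScalarTower R Q Q'] [IsScalarTower R R' Q'] [Algebra.IsPushout R R' Q Q']
    [Module.Free R R'] [Module.Finite R R']
    {M' : Type u} [AddCommGroup M'] [Module R M'] [Module R' M'] [IsScalarTower R R' M']
    {M'' : Type u} [AddCommGroup M''] [Module R M''] [Module R' M''] [Module Q M''] [Module Q' M'']
    [IsScalarTower R R' M''] [IsScalarTower R Q M''] [IsScalarTower R' Q' M''] [IsScalarTower Q Q' M'']
    (f : M' →ₗ[R'] M'')

theorem norm_pushQ (P : Type u) [CommRing P] [Algebra R P] [Algebra Q P] [IsScalarTower R Q P]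
    (x : P ⊗[R] R') :
    Algebra.norm P (pushQ (Q := Q) (IsScalarTower.toAlgHom R R' Q').toLinearMap P x) =
      Algebra.norm P x := by
  rw [← bcAlong_eq_pushQ, norm_bcAlong]

variable {N'' : Type u} [AddCommGroup N''] [Module R N''] [Module Q N''] [IsScalarTower R Q N'']
    (ν'' : M'' →ₚₗ[Q] N'')

/-- the law over `R` induced by a law over `Q` -/
noncomputable def muLaw : M' →ₚₗ[R] N'' where
  toFun' S _ _ := fun m => (Equiv.ofBijective _ (canQ_bijective R Q S N'')).symm
    (ν''.toFun' (S ⊗[R] Q) (pushQ (Q := Q) (f.restrictScalars R) (S ⊗[R] Q)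
      ((Algebra.TensorProduct.includeLeft : S →ₐ[R] S ⊗[R] Q).toLinearMap.rTensor M' m)))
  isCompat' {S} _ _ {S'} _ _ φ := by
    funext m
    simp only [Function.comp_apply]
    apply (canQ_bijective R Q S' N'').1
    have e1 := Equiv.apply_symm_apply (Equiv.ofBijective _ (canQ_bijective R Q S N''))
    have e2 := Equiv.apply_symm_apply (Equiv.ofBijective _ (canQ_bijective R Q S' N''))
    simp only [Equiv.ofBijective_apply] at e1 e2
    rw [canQ_natural φ, e1, e2, ν''.isCompat_apply' (mapQ R Q S φ),
      pushQ_natural _ _ _ (mapQ R Q S φ) (Algebra.TensorProduct.map φ (AlgHom.id R Q)) (fun p => rfl)]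
    congr 2
    rw [← LinearMap.comp_apply, ← LinearMap.rTensor_comp, ← LinearMap.comp_apply,
      ← LinearMap.rTensor_comp]
    congr 2

theorem canQ_muLaw (S : Type u) [CommSemiring S] [Algebra R S] (m : S ⊗[R] M') :
    canQ R Q S N'' ((muLaw f ν'').toFun' S m) =
    ν''.toFun' (S ⊗[R] Q) (pushQ (Q := Q) (f.restrictScalars R) (S ⊗[R] Q)
      ((Algebra.TensorProduct.includeLeft : S →ₐ[R] S ⊗[R] Q).toLinearMap.rTensor M' m)) :=
  Equiv.apply_symm_apply (Equiv.ofBijective _ (canQ_bijective R Q S N'')) _

theorem isNormic_muLaw (hν'' : PolLaw.IsNormic Q' ν'') :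
    PolLaw.IsNormic R' (muLaw (R := R) f ν'') := by
  intro P _ _ x m
  apply (canQ_bijective R Q P N'').1
  rw [canQ_smul, canQ_muLaw, canQ_muLaw, PolLaw.rTensor_actEnd, pushQ_act (Q' := Q') f,
    hν'', norm_pushQ (Q' := Q')]
  congr 1
  rw [← PolLaw.detAct_self, PolLaw.detAct_map, PolLaw.detAct_self]
  rfl

theorem compat_aux {N : Type u} [AddCommGroup N] [Module R N] (ν : M' →ₚₗ[R] N) (u : N →ₗ[R] N'')
    {P : Type u} [CommSemiring P] [Algebra R P] [Algebra Q P] [IsScalarTower R Q P]
    {P' : Type u} [CommSemiring P'] [Algebra R P'] [Algebra Q P'] [IsScalarTower R Q P']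
    (χ : P' →ₐ[Q] P) (ι : P →ₐ[R] P') (hχ : ∀ p, χ (ι p) = p) (m : P ⊗[R] M')
    (h : ν''.toFun' P' (pushQ (Q := Q) (f.restrictScalars R) P' (ι.toLinearMap.rTensor M' m)) =
      pushQ (Q := Q) u P' (ι.toLinearMap.rTensor N (ν.toFun' P m))) :
    ν''.toFun' P (pushQ (Q := Q) (f.restrictScalars R) P m) =
      pushQ (Q := Q) u P (ν.toFun' P m) := by
  have key : ∀ {X Y : Type u} [AddCommGroup X] [Module R X] [AddCommGroup Y] [Module R Y]
      [Module Q Y] [IsScalarTower R Q Y] (g : X →ₗ[R] Y) (z : P ⊗[R] X),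
      χ.toLinearMap.rTensor Y (pushQ (Q := Q) g P' (ι.toLinearMap.rTensor X z)) =
        pushQ (Q := Q) g P z := by
    intro X Y _ _ _ _ _ _ g z
    induction z using TensorProduct.induction_on with
    | zero => simp
    | tmul s y => simp [hχ]
    | add a b ha hb => simp only [map_add, ha, hb]
  rw [← key (f.restrictScalars R), ← ν''.isCompat_apply', h, key u]

theorem compat {N : Type u} [AddCommGroup N] [Module R N] (ν : M' →ₚₗ[R] N) (u : N →ₗ[R] N'')
    (hu : PolLaw.postcomp u ν = muLaw f ν'') (P : Type u) [CommSemiring P] [Algebra R P]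
    [Algebra Q P] [IsScalarTower R Q P] (m : P ⊗[R] M') :
    ν''.toFun' P (pushQ (Q := Q) (f.restrictScalars R) P m) =
      pushQ (Q := Q) u P (ν.toFun' P m) := by
  have h1 : (muLaw f ν'').toFun' P m = u.lTensor P (ν.toFun' P m) := by rw [← hu]; rfl
  have heq := canQ_muLaw f ν'' P m
  rw [h1, canQ_lTensor] at heq
  exact compat_aux f ν'' ν u (epsQ R Q P) _ (fun p => epsQ_left P p) m heq.symm

variable {f}

/-- the law over `Q` induced by a law over `R` -/
noncomputable def nuLaw (hf : IsBaseChange Q (f.restrictScalars R)) {N : Type u} [AddCommGroup N]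
    [Module R N] (ν : M' →ₚₗ[R] N) : M'' →ₚₗ[Q] Q ⊗[R] N where
  toFun' S _ _ := fun y =>
    letI : Algebra R S := Algebra.compHom S (algebraMap R Q)
    haveI : IsScalarTower R Q S := IsScalarTower.of_algebraMap_eq fun _ => rfl
    pushQ (Q := Q) (TensorProduct.mk R Q N 1) S
      (ν.toFun' S ((Equiv.ofBijective _ (pushQ_bijective (f.restrictScalars R) hf S)).symm y))
  isCompat' {S} _ _ {S'} _ _ χ := by
    letI : Algebra R S := Algebra.compHom S (algebraMap R Q)
    haveI : IsScalarTower R Q S := IsScalarTower.of_algebraMap_eq fun _ => rfl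
    letI : Algebra R S' := Algebra.compHom S' (algebraMap R Q)
    haveI : IsScalarTower R Q S' := IsScalarTower.of_algebraMap_eq fun _ => rfl
    funext y
    simp only [Function.comp_apply]
    rw [pushQ_natural _ _ _ χ (χ.restrictScalars R) (fun p => rfl), ν.isCompat_apply']
    congr 2
    apply (pushQ_bijective (f.restrictScalars R) hf S').1
    have e1 := Equiv.apply_symm_apply (Equiv.ofBijective _ (pushQ_bijective (f.restrictScalars R) hf S))
    have e2 := Equiv.apply_symm_apply (Equiv.ofBijective _ (pushQ_bijective (f.restrictScalars R) hf S'))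
    simp only [Equiv.ofBijective_apply] at e1 e2
    rw [← pushQ_natural _ _ _ χ (χ.restrictScalars R) (fun p => rfl), e1, e2]

theorem nuLaw_pushQ (hf : IsBaseChange Q (f.restrictScalars R)) {N : Type u} [AddCommGroup N]
    [Module R N] (ν : M' →ₚₗ[R] N) (S : Type u) [CommSemiring S] [iR : Algebra R S] [Algebra Q S]
    [IsScalarTower R Q S] (m : S ⊗[R] M') :
    (nuLaw hf ν).toFun' S (pushQ (Q := Q) (f.restrictScalars R) S m) =
      pushQ (Q := Q) (TensorProduct.mk R Q N 1) S (ν.toFun' S m) := by
  obtain rfl : iR = Algebra.compHom S (algebraMap R Q) :=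
    Algebra.algebra_ext _ _ fun r => IsScalarTower.algebraMap_apply R Q S r
  letI : Algebra R S := Algebra.compHom S (algebraMap R Q)
  show pushQ (Q := Q) (TensorProduct.mk R Q N 1) S (ν.toFun' S
      ((Equiv.ofBijective _ (pushQ_bijective (f.restrictScalars R) hf S)).symm _)) = _
  congr 2
  exact Equiv.symm_apply_apply (Equiv.ofBijective _ (pushQ_bijective (f.restrictScalars R) hf S)) m

theorem isNormic_nuLaw (hf : IsBaseChange Q (f.restrictScalars R)) {N : Type u} [AddCommGroup N]
    [Module R N] {ν : M' →ₚₗ[R] N} (hν : PolLaw.IsNormic R' ν) :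
    PolLaw.IsNormic Q' (nuLaw (f := f) hf ν) := by
  intro P _ _ x y
  letI : Algebra R P := Algebra.compHom P (algebraMap R Q)
  haveI : IsScalarTower R Q P := IsScalarTower.of_algebraMap_eq fun _ => rfl
  obtain ⟨m, rfl⟩ := (pushQ_bijective (f.restrictScalars R) hf P).2 y
  obtain ⟨x₀, rfl⟩ : ∃ x₀, pushQ (Q := Q) (IsScalarTower.toAlgHom R R' Q').toLinearMap P x₀ = x :=
    (pushQ_bijective _ (Algebra.IsPushout.symm (inferInstanceAs (Algebra.IsPushout R R' Q Q'))).out P).2 x
  rw [← pushQ_act, nuLaw_pushQ, nuLaw_pushQ, norm_pushQ, hν, pushQ_smul]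

end Main


/-- Affine-free form, stated through the universal property of the norm module. Let R → R' be a
commutative algebra, free of finite rank as an R-module; let Q be a commutative R-algebra and Q' a
commutative ring under both Q and R' which is their pushout over R; let M' be an R'-module and f :
M' → M'' an R'-linear map into a Q'-module that exhibits M'' as Q' ⊗_{R'} M'. Let (N, ν) be a
universal normic pair for M' over R (ν a polynomial law M' → N over R with ν(x · m) = norm(x) · ν(m)
over every commutative test ring, through which every normic law factors by a unique linear map) and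
(N'', ν'') a universal normic pair for M'' over Q. Then there is an R-linear map u : N → N'' which
is compatible with the two laws over every commutative Q-algebra P, in the sense ν''_P (p ⊗ f m) =
(p ⊗ u)(ν_P (p ⊗ m)), and whose Q-linear extension Q ⊗_R N → N'' is an isomorphism (N'' is the base
change of N along R → Q via u). (The published statements are for the norm modules constructed from
divided powers, for a finite locally free extension of constant rank; here the extension is free
over an affine base and the norm modules enter through their universal property.) -/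
theorem result {R R' Q Q' : Type u} [CommRing R] [CommRing R'] [Algebra R R']
    [CommRing Q] [Algebra R Q] [CommRing Q'] [Algebra R Q'] [Algebra Q Q'] [Algebra R' Q']
    [IsScalarTower R Q Q'] [IsScalarTower R R' Q'] [Algebra.IsPushout R R' Q Q']
    [Module.Free R R'] [Module.Finite R R']
    {M' : Type u} [AddCommGroup M'] [Module R M'] [Module R' M'] [IsScalarTower R R' M']
    {M'' : Type u} [AddCommGroup M''] [Module R M''] [Module R' M''] [Module Q M''] [Module Q' M'']
    [IsScalarTower R R' M''] [IsScalarTower R Q M''] [IsScalarTower R' Q' M''] [IsScalarTower Q Q' M'']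
    (f : M' →ₗ[R'] M'') (hf : IsBaseChange Q' f)
    {N : Type u} [AddCommGroup N] [Module R N] (ν : M' →ₚₗ[R] N) (hν : PolLaw.IsUnivNormic R' ν)
    {N'' : Type u} [AddCommGroup N''] [Module R N''] [Module Q N''] [IsScalarTower R Q N'']
    (ν'' : M'' →ₚₗ[Q] N'') (hν'' : PolLaw.IsUnivNormic Q' ν'') :
    ∃ u : N →ₗ[R] N'',
      (∀ (P : Type u) [CommRing P] [Algebra R P] [Algebra Q P] [IsScalarTower R Q P] (m : P ⊗[R] M'),
          ν''.toFun' P (PolLaw.bcAlong (f.restrictScalars R) P m) = PolLaw.bcAlong u P (ν.toFun' P m)) ∧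
      IsBaseChange Q u := by
  have hfQ : IsBaseChange Q (f.restrictScalars R) := isBaseChange_restrict f hf
  obtain ⟨u, hu, -⟩ := hν.2 N'' (muLaw f ν'') (isNormic_muLaw f ν'' hν''.1)
  obtain ⟨ψ, hψ, -⟩ := hν''.2 (Q ⊗[R] N) (nuLaw hfQ ν) (isNormic_nuLaw hfQ hν.1)
  refine ⟨u, fun P _ _ _ _ m => ?_, ?_⟩
  · rw [bcAlong_eq_pushQ, bcAlong_eq_pushQ]
    exact compat f ν'' ν u hu P m
  set L : Q ⊗[R] N →ₗ[Q] N'' := u.liftBaseChange Q with hL
  have hLu : L.restrictScalars R ∘ₗ TensorProduct.mk R Q N 1 = u := by
    ext n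
    simp [hL]
  have hLψ : L ∘ₗ ψ = LinearMap.id := by
    refine (hν''.2 N'' ν'' hν''.1).unique ?_ ?_
    · ext S _ _ y
      letI : Algebra R S := Algebra.compHom S (algebraMap R Q)
      haveI : IsScalarTower R Q S := IsScalarTower.of_algebraMap_eq fun _ => rfl
      obtain ⟨m, rfl⟩ := (pushQ_bijective (f.restrictScalars R) hfQ S).2 y
      show (L ∘ₗ ψ).lTensor S (ν''.toFun' S _) = _
      have h1 : ψ.lTensor S (ν''.toFun' S (pushQ (Q := Q) (f.restrictScalars R) S m)) =
          (nuLaw hfQ ν).toFun' S (pushQ (Q := Q) (f.restrictScalars R) S m) := by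
        rw [← hψ]; rfl
      rw [LinearMap.lTensor_comp, LinearMap.comp_apply, h1, nuLaw_pushQ, lTensor_pushQ, hLu,
        ← compat f ν'' ν u hu]
    · ext S _ _ y
      show (LinearMap.id : N'' →ₗ[Q] N'').lTensor S _ = _
      simp
  have hψu : ψ.restrictScalars R ∘ₗ u = TensorProduct.mk R Q N 1 := by
    refine (hν.2 (Q ⊗[R] N) (PolLaw.postcomp (TensorProduct.mk R Q N 1) ν)
      (isNormic_postcomp hν.1 _)).unique ?_ rfl
    ext S _ _ m
    show (ψ.restrictScalars R ∘ₗ u).lTensor S (ν.toFun' S m) =
      (TensorProduct.mk R Q N 1).lTensor S (ν.toFun' S m)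
    apply (canQ_bijective R Q S (Q ⊗[R] N)).1
    rw [canQ_lTensor, canQ_lTensor, ← lTensor_pushQ, ν.isCompat_apply', ← compat f ν'' ν u hu,
      ← nuLaw_pushQ hfQ, ← hψ]
    rfl
  have hψL : ψ ∘ₗ L = LinearMap.id := by
    apply TensorProduct.AlgebraTensorModule.ext
    intro q n
    have h := LinearMap.congr_fun hψu n
    simp only [LinearMap.comp_apply, LinearMap.restrictScalars_apply, TensorProduct.mk_apply] at h
    simp [hL, h, TensorProduct.smul_tmul']
  exact IsBaseChange.of_equiv (LinearEquiv.ofLinear L ψ hLψ hψL) fun n => by simp [hL]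

end Groth.Agent.S17909
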