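import Groth.Statements.S1791
import Groth.Agent.L04.LC.DerivedAnnih

set_option autoImplicit false
universe u
open CategoryTheory
attribute [local instance] HasDerivedCategory.standard
open LocCoh

namespace Groth.Agent.S1791

/-- Let A be a Noetherian ring with a dualizing complex, T ⊆ T' subsets of Spec A stable under
specialization, s an integer, and K an object of D(A) which is bounded below with finite cohomology
modules. Assume the derived base change functors D(A) → D(A_p) exist. Then there is an ideal J with
V(J) ⊆ T' annihilating H^i_T(K) for all i ≤ s if and only if for all primes p ∉ T' and q ∈ T with p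
⊆ q, writing h for the length of the longest chain of primes from p to q, the local cohomology H^i
of K_p at the maximal ideal of A_p vanishes for every i ≤ s − h (that is, depth(K_p) + h > s). -/
theorem result (A : Type u) [CommRing A] [IsNoetherianRing A] (hA : ∃ ω : Dual.D A, Dual.IsDualizing A ω) (T T' : Set (PrimeSpectrum A)) (hT : StableUnderSpecialization T) (hT' : StableUnderSpecialization T') (hTT' : T ⊆ T') (s : ℤ) (K : Dual.D A) (a : ℤ) (hKa : ∀ i : ℤ, i < a → Subsingleton (Dual.HD A K i)) (hK : ∀ i : ℤ, Module.Finite A (Dual.HD A K i)) [∀ p : PrimeSpectrum A, DRing.HasLBaseChange (algebraMap A (Localization.AtPrime p.asIdeal))] : (∃ J : Ideal A, PrimeSpectrum.zeroLocus (J : Set A) ⊆ T' ∧ ∀ i : ℤ, i ≤ s → ∀ a ∈ J, ∀ x : Dual2.HDT A T K i, a • x = 0) ↔ (∀ (p q : PrimeSpectrum A) (hpq : p ≤ q), p ∉ T' → q ∈ T → ∀ h : ℕ, Order.height (⟨q, hpq⟩ : Set.Ici p) = h → ∀ i : ℤ, i ≤ s - h → Subsingleton (Dual2.HDI (Localization.AtPrime p.asIdeal) (IsLocalRing.maximalIdeal (Localization.AtPrime p.asIdeal)) ((DRing.LBaseChange (algebraMap A (Localization.AtPrime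 p.asIdeal))).obj K) i)) := by

    obtain ⟨ω, hω⟩ := hA
    exact Groth.L04.DerAnnih.annihilator_iff hω T T' hT hT' s K a hKa hK

end Groth.Agent.S1791
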