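import Groth.Statements.S17910
import Mathlib.LinearAlgebra.PiTensorProduct.Basis
import Mathlib.RingTheory.Finiteness.Cardinality
import Mathlib.Algebra.Module.Projective
import Mathlib.LinearAlgebra.StdBasis
import Mathlib.Data.Fintype.Pi

set_option autoImplicit false
universe u
open scoped TensorProduct
open SymTen

namespace Groth.Agent.S17910

variable {_unused : Unit}

theorem mem_altSpan_of_swap_basis (R : Type u) [CommRing R] {F : Type u} [AddCommGroup F] [Module R F] {d n : ℕ}
    (e : Module.Basis (Fin n) R F) {i j : Fin d} (hij : i ≠ j) (z : ⨂[R] _ : Fin d, F)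
    (hz : PiTensorProduct.reindex R (fun _ : Fin d => F) (Equiv.swap i j) z = z) :
    z ∈ SymTen.altSpan R F d := by
  classical
  set σ := Equiv.swap i j with hσ
  set E := Basis.piTensorProduct (fun _ : Fin d => e) with hE
  have hσσ : ∀ f : Fin d → Fin n, (fun k => (fun l => f (σ l)) (σ k)) = f := fun f => by
    funext k; simp [hσ]
  have hEre : ∀ f : Fin d → Fin n, PiTensorProduct.reindex R (fun _ : Fin d => F) σ (E f) = E (fun k => f (σ k)) := by
    intro f
    rw [hE, Basis.piTensorProduct_apply, Basis.piTensorProduct_apply, PiTensorProduct.reindex_tprod]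
    simp [hσ]
  set c := fun f => E.repr z f with hc
  have hsum : z = ∑ f, c f • E f := (E.sum_repr z).symm
  have hcσ : ∀ f : Fin d → Fin n, c (fun k => f (σ k)) = c f := by
    intro f
    have : E.repr (PiTensorProduct.reindex R (fun _ : Fin d => F) σ z) (fun k => f (σ k)) = c f := by
      rw [hsum, map_sum, map_sum, Finsupp.finsetSum_apply, Finset.sum_eq_single f]
      · rw [map_smul, map_smul, hEre, Finsupp.smul_apply, Module.Basis.repr_self, Finsupp.single_eq_same,
          smul_eq_mul, mul_one]
      · intro g _ hg
        rw [map_smul, map_smul, hEre, Finsupp.smul_apply, Module.Basis.repr_self, Finsupp.single_eq_of_ne, smul_zero]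
        intro h
        exact hg (by rw [← hσσ g, ← h, hσσ f])
      · intro h; exact absurd (Finset.mem_univ f) h
    rw [hz] at this
    exact this
  have hdiag : ∀ f : Fin d → Fin n, f i = f j → E f ∈ SymTen.altSpan R F d := fun f hf =>
    Submodule.subset_span ⟨fun k => e (f k), i, j, hij, by simp [hf], by rw [hE, Basis.piTensorProduct_apply]⟩
  have hpair : ∀ f : Fin d → Fin n, E f + E (fun k => f (σ k)) ∈ SymTen.altSpan R F d := by
    intro f
    rw [hE, Basis.piTensorProduct_apply, Basis.piTensorProduct_apply]
    set p : Fin d → F := fun k => e (f k) with hp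
    have hmem : ∀ v : F, PiTensorProduct.tprod R (Function.update (Function.update p i v) j v) ∈ SymTen.altSpan R F d :=
      fun v => Submodule.subset_span ⟨_, i, j, hij, by simp [Function.update_of_ne hij], rfl⟩
    have h1 : Function.update (Function.update p i (p i)) j (p j) = p := by simp
    have h2 : Function.update (Function.update p i (p j)) j (p i) = fun k => e (f (σ k)) := by
      funext k
      rcases eq_or_ne k j with rfl | hkj
      · simp [hp, hσ]
      rcases eq_or_ne k i with rfl | hki
      · simp [hp, hσ, Function.update_of_ne hkj]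
      simp [hp, hσ, Function.update_of_ne hkj, Function.update_of_ne hki, Equiv.swap_apply_of_ne_of_ne hki hkj]
    have h := hmem (p i + p j)
    have hadd : ∀ a b c : F, PiTensorProduct.tprod R (Function.update (Function.update p i (a + b)) j c) =
        PiTensorProduct.tprod R (Function.update (Function.update p i a) j c) +
          PiTensorProduct.tprod R (Function.update (Function.update p i b) j c) := fun a b c => by
      have hcm : ∀ x : F, Function.update (Function.update p i x) j c = Function.update (Function.update p j c) i x :=
        fun x => Function.update_comm hij x c p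
      rw [hcm, hcm, hcm]
      rw [MultilinearMap.map_update_add]
    rw [MultilinearMap.map_update_add, hadd, hadd, h1, h2] at h
    have h3 := Submodule.sub_mem _ (Submodule.sub_mem _ h (hmem (p i))) (hmem (p j))
    have h4 : (PiTensorProduct.tprod R) (fun k => e (f k)) = (PiTensorProduct.tprod R) p := rfl
    convert h3 using 1
    abel
  rw [hsum, ← Finset.sum_filter_add_sum_filter_not Finset.univ (fun f : Fin d → Fin n => f i = f j)]
  refine add_mem (Submodule.sum_mem _ fun f hf => Submodule.smul_mem _ _ (hdiag f (Finset.mem_filter.1 hf).2)) ?_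
  rw [← Finset.sum_filter_add_sum_filter_not _ (fun f : Fin d → Fin n => f i < f j), Finset.filter_filter,
    Finset.filter_filter,
    Finset.sum_bij' (s := Finset.univ.filter fun f : Fin d → Fin n => ¬f i = f j ∧ ¬f i < f j)
      (t := Finset.univ.filter fun f : Fin d → Fin n => ¬f i = f j ∧ f i < f j)
      (g := fun f => c f • E (fun k => f (σ k)))
      (fun f _ k => f (σ k)) (fun f _ k => f (σ k))
      (fun f hf => by
        simp only [Finset.mem_filter, Finset.mem_univ, true_and, hσ, Equiv.swap_apply_left, Equiv.swap_apply_right] at hf ⊢
        omega)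
      (fun f hf => by
        simp only [Finset.mem_filter, Finset.mem_univ, true_and, hσ, Equiv.swap_apply_left, Equiv.swap_apply_right] at hf ⊢
        omega)
      (fun f _ => hσσ f) (fun f _ => hσσ f) (fun f _ => by simp only [hcσ, hσσ]), ← Finset.sum_add_distrib]
  refine Submodule.sum_mem _ fun f _ => ?_
  rw [← smul_add]
  exact Submodule.smul_mem _ _ (hpair f)

theorem mem_altSpan_of_swap (R : Type u) [CommRing R] (P : Type u) [AddCommGroup P] [Module R P]
    [Module.Finite R P] [Module.Projective R P] {d : ℕ} {i j : Fin d} (hij : i ≠ j) (z : ⨂[R] _ : Fin d, P)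
    (hz : PiTensorProduct.reindex R (fun _ : Fin d => P) (Equiv.swap i j) z = z) :
    z ∈ SymTen.altSpan R P d := by
  obtain ⟨n, q, hq⟩ := Module.Finite.exists_fin' R P
  obtain ⟨s, hs⟩ := Module.projective_lifting_property q LinearMap.id hq
  have hzq : PiTensorProduct.map (fun _ : Fin d => q) (PiTensorProduct.map (fun _ : Fin d => s) z) = z := by
    rw [← LinearMap.comp_apply, ← PiTensorProduct.map_comp]
    simp [hs, PiTensorProduct.map_id]
  have hmz := mem_altSpan_of_swap_basis R (Pi.basisFun R (Fin n)) hij (PiTensorProduct.map (fun _ : Fin d => s) z) (by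
    conv_rhs => rw [← hz]
    exact (PiTensorProduct.map_reindex (fun _ : Fin d => s) (Equiv.swap i j) z).symm)
  rw [← hzq]
  generalize PiTensorProduct.map (fun _ : Fin d => s) z = w at hmz
  induction hmz using Submodule.span_induction with
  | mem x hx =>
    obtain ⟨p, a, b, hab, hp, rfl⟩ := hx
    rw [PiTensorProduct.map_tprod]
    exact Submodule.subset_span ⟨_, a, b, hab, by simp [hp], rfl⟩
  | zero => simp
  | add x y _ _ hx hy => rw [map_add]; exact add_mem hx hy
  | smul r x _ hx => rw [map_smul]; exact Submodule.smul_mem _ _ hx

open scoped TensorProduct in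
open SymTen in

/-- Let R be a commutative ring, A a commutative R-algebra, d ≥ 0, and P an A-module that is finitely
generated projective (finite locally free) as an R-module. Let the d-fold tensor power of A over R
act on the d-fold tensor power of P over R factor by factor, and let I_d be the R-span of the pure
tensors p_1 ⊗ ⋯ ⊗ p_d with two equal factors p_i = p_j, i ≠ j (the submodule by which the tensor
power is divided to give the d-th exterior power). Then every symmetric tensor a ∈ TS^d_R(A) maps
I_d into itself, so that TS^d_R(A) acts on the d-th exterior power of P over R. -/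
theorem result (R : Type u) [CommRing R] (A : Type u) [CommRing A] [Algebra R A]
    (P : Type u) [AddCommGroup P] [Module R P] [Module A P] [IsScalarTower R A P]
    [Module.Finite R P] [Module.Projective R P] (d : ℕ)
    (a : ⨂[R] _ : Fin d, A) (ha : a ∈ SymTen.TS R A d)
    (x : ⨂[R] _ : Fin d, P) (hx : x ∈ SymTen.altSpan R P d) :
    SymTen.tpowAct R A P d a x ∈ SymTen.altSpan R P d := by
  have hsm : ∀ (σ : Equiv.Perm (Fin d)) (b : ⨂[R] _ : Fin d, A) (y : ⨂[R] _ : Fin d, P),
      PiTensorProduct.reindex R (fun _ : Fin d => P) σ (SymTen.tpowAct R A P d b y) =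
        SymTen.tpowAct R A P d (PiTensorProduct.reindex R (fun _ : Fin d => A) σ b)
          (PiTensorProduct.reindex R (fun _ : Fin d => P) σ y) := by
    intro σ b y
    induction b using PiTensorProduct.induction_on with
    | smul_tprod r g =>
      induction y using PiTensorProduct.induction_on with
      | smul_tprod s p => simp [SymTen.tpowAct, PiTensorProduct.reindex_tprod]
      | add y y' hy hy' => simp only [map_add, hy, hy']
    | add b b' hb hb' => simp only [map_add, LinearMap.add_apply, hb, hb']
  induction hx using Submodule.span_induction with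
  | mem x hx =>
    obtain ⟨p, i, j, hij, hpij, rfl⟩ := hx
    refine mem_altSpan_of_swap R P hij _ ?_
    rw [hsm, ha]
    congr 1
    rw [PiTensorProduct.reindex_tprod]
    congr 1
    funext k
    rcases eq_or_ne k i with rfl | hki
    · simp [hpij]
    rcases eq_or_ne k j with rfl | hkj
    · simp [hpij]
    simp [Equiv.swap_apply_of_ne_of_ne hki hkj]
  | zero => simp
  | add x y _ _ hx hy => rw [map_add]; exact add_mem hx hy
  | smul r x _ hx => rw [map_smul]; exact Submodule.smul_mem _ _ hx

end Groth.Agent.S17910
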