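import Groth.Statements.S17913
import Groth.Agent.L09.GerbConj

set_option autoImplicit false
universe u
open CategoryTheory AlgebraicGeometry
open Gerb

namespace Groth.Agent.S17913

/-- Let S be a scheme, 𝒳 and 𝒴 gerbes over the big fppf site of schemes over S, φ : 𝒳 → 𝒴 and ψ : 𝒴 → 𝒳
functors over Sch_S, and x an object of 𝒳 over S itself such that φ is surjective on automorphism
groups along x: for every object x' of 𝒳 admitting a morphism to x (every pullback of x), every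
automorphism of φ(x') over the identity is φ(α) for some automorphism α of x' over the identity. Let
g : ψ(φ(x)) → x be an isomorphism lying over the identity such that conjugation by g after ψ ∘ φ is
the identity of the automorphism sheaf of x: whenever c : x' → x is a morphism of 𝒳 and g' :
ψ(φ(x')) → x' is the morphism over the identity with ψ(φ(c)) ≫ g = g' ≫ c, every automorphism α of
x' over the identity satisfies ψ(φ(α)) ≫ g' = g' ≫ α. Then φ ∘ ψ is isomorphic to the identity on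
every fibre of 𝒴: there are isomorphisms σ_z : φ(ψ(z)) → z for all objects z of 𝒴, lying over
identities and natural in morphisms lying over identities, so that φ and ψ are mutually
quasi-inverse on every fibre. (The published corollary does not assume that φ is surjective on
automorphism groups; its proof uses that φ is full, and without that hypothesis the conclusion fails
— take for 𝒳 the base category over itself, for 𝒴 the gerbe of torsors under the group of order two,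
for φ the trivial torsor and for ψ the structure functor. The published corollary also concludes
that ψ ∘ φ is isomorphic to the identity on every fibre of 𝒳; that part follows from the hypotheses
on g alone and is stated separately.) -/
theorem result (S : Scheme.{u}) (𝒳 𝒴 : AlgSt.Cat S)
    (h𝒳 : Gerb.IsGerbe (QuotSh.J Scheme.fppfPrecoverage S) 𝒳)
    (h𝒴 : Gerb.IsGerbe (QuotSh.J Scheme.fppfPrecoverage S) 𝒴)
    (φ : 𝒳 ⥤ᵇ 𝒴) (ψ : 𝒴 ⥤ᵇ 𝒳) (x : 𝒳.obj) (hx : 𝒳.p.obj x = Over.mk (𝟙 S))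
    (hφ : ∀ (x' : 𝒳.obj) (c : x' ⟶ x), Function.Surjective (Gerb.autMap φ x'))
    (g : ψ.obj (φ.obj x) ⟶ x) [IsIso g] (hg : 𝒳.p.IsHomLift (𝟙 (𝒳.p.obj x)) g)
    (hconj : ∀ (x' : 𝒳.obj) (c : x' ⟶ x) (g' : ψ.obj (φ.obj x') ⟶ x'), 𝒳.p.IsHomLift (𝟙 (𝒳.p.obj x')) g' →
      ψ.map (φ.map c) ≫ g = g' ≫ c → ∀ α : Gerb.AutO x', ψ.map (φ.map α.hom.1) ≫ g' = g' ≫ α.hom.1) :
    ∃ σ : ∀ z : 𝒴.obj, φ.obj (ψ.obj z) ⟶ z,
      (∀ z, IsIso (σ z) ∧ 𝒴.p.IsHomLift (𝟙 (𝒴.p.obj z)) (σ z)) ∧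
      (∀ (z z' : 𝒴.obj) (f : z ⟶ z'), 𝒴.p.IsHomLift (𝟙 (𝒴.p.obj z)) f →
        φ.map (ψ.map f) ≫ σ z' = σ z ≫ f) := by
  have hy : 𝒴.p.obj (φ.obj x) = Over.mk (𝟙 S) := (φ.w_obj x).trans hx
  have hterm : Limits.IsTerminal (𝒴.p.obj (φ.obj x)) := hy ▸ Over.mkIdTerminal
  refine Groth.L09.Gerb.exists_fiberwise_iso (BasedFunctor.comp ψ φ) h𝒴 (φ.obj x)
    (fun U => ⟨hterm.from U⟩) (fun {U} a b => hterm.hom_ext a b) (φ.map g)
    (by rw [φ.w_obj]; exact (BasedFunctor.isHomLift_iff φ _ _).2 hg) ?_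
  intro z c g₂ hg₂ hfac α
  change φ.obj (ψ.obj z) ⟶ z at g₂
  change φ.map (ψ.map c) ≫ φ.map g = g₂ ≫ c at hfac
  change φ.map (ψ.map α.hom.1) ≫ g₂ = g₂ ≫ α.hom.1
  let f : 𝒴.p.obj z ⟶ 𝒳.p.obj x := 𝒴.p.map c ≫ eqToHom (φ.w_obj x)
  obtain ⟨x', c', hc'⟩ := h𝒳.1.1.exists_lift (x := x) f
  haveI : 𝒴.p.IsHomLift f c := by simp only [f]; infer_instance
  obtain ⟨χ, hχ, hχ'⟩ := Groth.L09.Gerb.connect h𝒴.1.1 f c (φ.map c')
  haveI : 𝒳.p.IsHomLift f (ψ.map (φ.map c') ≫ g) :=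
    CategoryTheory.IsHomLift.comp_lift_id_right 𝒳.p f (ψ.map (φ.map c')) g
  obtain ⟨g', hg', hg'fac⟩ := Groth.L09.Gerb.connect h𝒳.1.1 f (ψ.map (φ.map c') ≫ g) c'
  have hx' : 𝒳.p.obj x' = 𝒴.p.obj z := CategoryTheory.IsHomLift.domain_eq 𝒳.p f c'
  haveI : 𝒴.p.IsHomLift (𝟙 (𝒴.p.obj z)) g₂ := hg₂
  haveI : 𝒴.p.IsHomLift (𝟙 (𝒴.p.obj z)) (φ.map g'.hom) := inferInstance
  -- naturality of the transported isomorphism
  have hnat : g₂ ≫ χ.hom = φ.map (ψ.map χ.hom) ≫ φ.map g'.hom := by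
    haveI := Groth.L09.Fib.stronglyCartesian_of_isFibGrpd 𝒴.p h𝒴.1.1 f (φ.map c')
    haveI : 𝒴.p.IsHomLift (𝟙 (𝒴.p.obj z)) (g₂ ≫ χ.hom) :=
      CategoryTheory.IsHomLift.comp_lift_id_right 𝒴.p (𝟙 _) g₂ χ.hom
    haveI : 𝒴.p.IsHomLift (𝟙 (𝒴.p.obj z)) (φ.map (ψ.map χ.hom) ≫ φ.map g'.hom) :=
      CategoryTheory.IsHomLift.comp_lift_id_right 𝒴.p (𝟙 _) (φ.map (ψ.map χ.hom)) (φ.map g'.hom)
    refine Functor.IsCartesian.ext 𝒴.p f (φ.map c') _ _ ?_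
    rw [Category.assoc, Category.assoc, hχ', ← hfac, ← φ.toFunctor.map_comp g'.hom c', hg'fac,
      ← φ.toFunctor.map_comp, ← φ.toFunctor.map_comp, ← Category.assoc, ← ψ.toFunctor.map_comp, hχ']
  -- transport the automorphism
  haveI : 𝒴.p.IsHomLift (𝟙 (𝒴.p.obj z)) α.hom.1 := α.hom.2
  haveI : 𝒴.p.IsHomLift (𝟙 (𝒴.p.obj z)) χ.inv := inferInstance
  haveI : 𝒴.p.IsHomLift (𝟙 (𝒴.p.obj z)) (α.hom.1 ≫ χ.hom) :=
    CategoryTheory.IsHomLift.comp_lift_id_right 𝒴.p (𝟙 _) α.hom.1 χ.hom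
  haveI : 𝒴.p.IsHomLift (𝟙 (𝒴.p.obj z)) (χ.inv ≫ α.hom.1 ≫ χ.hom) :=
    CategoryTheory.IsHomLift.comp_lift_id_left' 𝒴.p (𝒴.p.obj z) χ.inv (𝟙 _) (α.hom.1 ≫ χ.hom)
  obtain ⟨γ, hγ⟩ := Groth.L09.Gerb.exists_autO h𝒴.1.1 (V := 𝒴.p.obj z) (χ.inv ≫ α.hom.1 ≫ χ.hom)
  obtain ⟨β, hβ⟩ := hφ x' c' γ
  have e1 : φ.map β.hom.1 = χ.inv ≫ α.hom.1 ≫ χ.hom := by rw [← hγ, ← hβ]; rfl
  have e2 := hconj x' c' g'.hom (by rw [hx']; exact hg') hg'fac.symm β
  have e3 : φ.map (ψ.map (φ.map β.hom.1)) ≫ φ.map g'.hom = φ.map g'.hom ≫ φ.map β.hom.1 := by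
    rw [← φ.toFunctor.map_comp, e2, φ.toFunctor.map_comp]
  have e4 : χ.hom ≫ φ.map β.hom.1 = α.hom.1 ≫ χ.hom := by rw [e1, Iso.hom_inv_id_assoc]
  obtain ⟨a, ha⟩ : ∃ a : z ⟶ z, a = α.hom.1 := ⟨_, rfl⟩
  rw [← ha] at e4 ⊢
  refine (cancel_mono χ.hom).mp ?_
  rw [Category.assoc, Category.assoc, hnat, ← e4, ← Category.assoc g₂, hnat, Category.assoc, ← e3]
  simp only [← φ.toFunctor.map_comp, ← ψ.toFunctor.map_comp, ← Category.assoc, e4]

end Groth.Agent.S17913
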