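import Groth.Statements.S17914
import Groth.Agent.L15.BcAlong
import Mathlib.RingTheory.TensorProduct.Basic

set_option autoImplicit false
universe u
open scoped TensorProduct
open PolLaw

open Groth.L15.BcAlong

namespace Groth.Agent.S17914

variable {R R' Q Q' C C' : Type u} [CommRing R] [CommRing R'] [Algebra R R']
    [CommRing Q] [Algebra R Q] [CommRing Q'] [Algebra R Q'] [Algebra Q Q'] [Algebra R' Q']
    [IsScalarTower R Q Q'] [IsScalarTower R R' Q']
    [CommRing C] [Algebra R C] [CommRing C'] [Algebra R C'] [Algebra Q C'] [IsScalarTower R Q C']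
    (P : Type u) [CommRing P] [Algebra R P] [Algebra Q P] [IsScalarTower R Q P]

theorem mulQ_theta (π' : C' →ₐ[Q] Q) (θ : C →ₐ[R] C') (w : P ⊗[R] C) :
    mulQ R Q P (((π'.restrictScalars R).comp θ).toLinearMap.lTensor P w) =
      TensorProduct.rid Q P (π'.toLinearMap.lTensor P (PolLaw.bcAlong (Q := Q) θ.toLinearMap P w)) := by
  induction w using TensorProduct.induction_on with
  | zero => simp
  | tmul p c => simp [bcAlong_tmul, mulQ_tmul, Algebra.smul_def, mul_comm p]
  | add a b ha hb => simp only [map_add, ha, hb]

theorem mulQ_pi (π : C →ₐ[R] R) (w : P ⊗[R] C) :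
    mulQ R Q P (((Algebra.ofId R Q).comp π).toLinearMap.lTensor P w) =
      TensorProduct.rid R P (π.toLinearMap.lTensor P w) := by
  induction w using TensorProduct.induction_on with
  | zero => simp
  | tmul p c => simp [mulQ_tmul, Algebra.smul_def, mul_comm p, Algebra.ofId_apply,
      ← IsScalarTower.algebraMap_apply R Q P]
  | add a b ha hb => simp only [map_add, ha, hb]


/-- Affine-free form, stated through universal properties. Let R → R' be a commutative algebra that is
free of rank d as an R-module, Q a commutative R-algebra, and Q' a commutative ring under Q and R'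
which is their pushout over R and is free of rank d over Q. Let (C, γ) be the degree-d divided power
algebra of R' over R with its universal multiplicative law (hypothesis: every multiplicative law of
degree d out of R' factors uniquely through γ) and π : C → R the R-algebra map with π ∘ γ = the norm
law of R' over R; let (C', γ', π') be the analogous data for Q' over Q. Let θ : C → C' be an
R-algebra homomorphism compatible with the two universal laws over every commutative Q-algebra P:
γ'_P applied to the image of z ∈ P ⊗_R R' in P ⊗_Q Q' equals (p ⊗ c ↦ p ⊗ θ c) applied to γ_P(z) (so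
θ is the base-change homomorphism of divided power algebras). Then π' (θ c) is the image in Q of π c
for every c ∈ C: the algebra map attached to the norm commutes with base change. (The published
lemma is for a finite locally free extension of constant rank and states the commutativity of each
of three squares; this row assumes R' free over R and states the commutativity of the composite.) -/
theorem result {R R' Q Q' : Type u} [CommRing R] [CommRing R'] [Algebra R R']
    [CommRing Q] [Algebra R Q] [CommRing Q'] [Algebra R Q'] [Algebra Q Q'] [Algebra R' Q']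
    [IsScalarTower R Q Q'] [IsScalarTower R R' Q'] [Algebra.IsPushout R R' Q Q']
    [Module.Free R R'] [Module.Finite R R'] [Module.Free Q Q'] [Module.Finite Q Q']
    (d : ℕ) (hd : Module.finrank R R' = d) (hd' : Module.finrank Q Q' = d)
    {C : Type u} [CommRing C] [Algebra R C] (γ : PolLaw.MulLaw R R' C d) (hγ : PolLaw.IsGammaD γ)
    (π : C →ₐ[R] R) (hπ : PolLaw.MulLaw.postcomp π γ = PolLaw.normLaw R R' d hd)
    {C' : Type u} [CommRing C'] [Algebra R C'] [Algebra Q C'] [IsScalarTower R Q C']
    (γ' : PolLaw.MulLaw Q Q' C' d) (hγ' : PolLaw.IsGammaD γ')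
    (π' : C' →ₐ[Q] Q) (hπ' : PolLaw.MulLaw.postcomp π' γ' = PolLaw.normLaw Q Q' d hd')
    (θ : C →ₐ[R] C')
    (hθ : ∀ (P : Type u) [CommRing P] [Algebra R P] [Algebra Q P] [IsScalarTower R Q P] (z : P ⊗[R] R'),
      γ'.law.toFun' P (PolLaw.bcAlong (IsScalarTower.toAlgHom R R' Q').toLinearMap P z) =
        PolLaw.bcAlong θ.toLinearMap P (γ.law.toFun' P z)) :
    ∀ c : C, π' (θ c) = algebraMap R Q (π c) := by
  let φ₁ : C →ₐ[R] Q := (π'.restrictScalars R).comp θ
  let φ₂ : C →ₐ[R] Q := (Algebra.ofId R Q).comp π
  -- the two composites agree over every test algebra under `Q`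
  have core : ∀ (P : Type u) [CommRing P] [Algebra R P] [Algebra Q P] [IsScalarTower R Q P]
      (z : P ⊗[R] R'),
      mulQ R Q P (φ₁.toLinearMap.lTensor P (γ.law.toFun' P z)) =
        mulQ R Q P (φ₂.toLinearMap.lTensor P (γ.law.toFun' P z)) := by
    intro P _ _ _ _ z
    have h1 : π'.toLinearMap.lTensor P (γ'.law.toFun' P
        (PolLaw.bcAlong (Q := Q) (IsScalarTower.toAlgHom R R' Q').toLinearMap P z)) =
        Algebra.norm P z ⊗ₜ[Q] (1 : Q) := by
      rw [← norm_bcAlong (Q := Q) (Q' := Q') P z, ← PolLaw.normLaw_apply Q Q' d hd', ← hπ']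
      rfl
    have h2 : π.toLinearMap.lTensor P (γ.law.toFun' P z) = Algebra.norm P z ⊗ₜ[R] (1 : R) := by
      rw [← PolLaw.normLaw_apply R R' d hd, ← hπ]
      rfl
    rw [mulQ_theta P π' θ, mulQ_pi P π, ← hθ P z, h1, h2]
    simp
  have hlaw : PolLaw.MulLaw.postcomp φ₁ γ = PolLaw.MulLaw.postcomp φ₂ γ := by
    apply PolLaw.MulLaw.ext
    ext S iS iA x
    letI : CommRing S := { Algebra.semiringToRing R, iS with }
    show φ₁.toLinearMap.lTensor S (γ.law.toFun' S x) = φ₂.toLinearMap.lTensor S (γ.law.toFun' S x)
    letI : Algebra Q (S ⊗[R] Q) := Algebra.TensorProduct.rightAlgebra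
    let ι : S →ₐ[R] S ⊗[R] Q := Algebra.TensorProduct.includeLeft
    have hinv : ∀ v : S ⊗[R] Q, mulQ R Q (S ⊗[R] Q) (ι.toLinearMap.rTensor Q v) = v := by
      intro v
      induction v using TensorProduct.induction_on with
      | zero => simp
      | tmul s q =>
        rw [LinearMap.rTensor_tmul, mulQ_tmul]
        show (s ⊗ₜ[R] (1 : Q)) * ((1 : S) ⊗ₜ[R] q) = s ⊗ₜ[R] q
        simp
      | add a b ha hb => simp only [map_add, ha, hb]
    have hnat : ∀ g : C →ₗ[R] Q, ι.toLinearMap.rTensor Q (g.lTensor S (γ.law.toFun' S x)) =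
        g.lTensor (S ⊗[R] Q) (γ.law.toFun' (S ⊗[R] Q) (ι.toLinearMap.rTensor R' x)) := by
      intro g
      rw [← γ.law.isCompat_apply', ← LinearMap.comp_apply, ← LinearMap.comp_apply,
        LinearMap.rTensor_comp_lTensor, LinearMap.lTensor_comp_rTensor]
    rw [← hinv (φ₁.toLinearMap.lTensor S _), ← hinv (φ₂.toLinearMap.lTensor S _), hnat, hnat, core]
  have heq : φ₁ = φ₂ := (hγ Q (PolLaw.MulLaw.postcomp φ₁ γ)).unique rfl
    (congrArg PolLaw.MulLaw.law hlaw).symm
  exact fun c => DFunLike.congr_fun heq c

end Groth.Agent.S17914
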