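import Groth.Statements.S17917
import Groth.Agent.L21.RefK.Cartier

set_option autoImplicit false
set_option backward.isDefEq.respectTransparency false
set_option backward.isDefEq.respectTransparency.types false
set_option linter.style.haveILetI false
universe u
open CategoryTheory CategoryTheory.Limits AlgebraicGeometry
open RefCh

namespace Groth.Agent.S17917

/-- Let k be an algebraically closed field, X an integral normal scheme of dimension s + 2 admitting a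
closed immersion into some P^N_k over k, and L_1, …, L_s invertible O_X-modules with inverses M_1,
…, M_s. Let ℒ_1 be a coherent reflexive O_X-module of rank one (ℒ_1 = O_X(D_1) for a Weil divisor
D_1, with dual ℒ_1^∨ = O_X(-D_1)) and ℒ_2 an invertible O_X-module (a Cartier divisor D_2) with
inverse 𝓜_2. With q(ℱ) the limit of 2 χ(c_1(L_1) ⋯ c_1(L_s) · [ℱ^[m]]) / m^2 (reflexive powers,
FGA.intNum in the M_i), assumed to exist for ℒ_1, ℒ_2 and the reflexive hull ℒ_1 ⊗̂ ℒ_2 of ℒ_1 ⊗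
ℒ_2, one has (q(ℒ_1 ⊗̂ ℒ_2) - q(ℒ_1) - q(ℒ_2)) / 2 = χ(c_1(ℒ_2) c_1(L_1) ⋯ c_1(L_s) · ([O_X] -
[ℒ_1^∨])), the right side written as the difference of the alternating sums FGA.intNum in (𝓜_2, M_1,
…, M_s) of O_X and of ℒ_1^∨; that is, D_1 · D_2 · L_1 ⋯ L_s equals the usual intersection number of
the Cartier divisor D_2 and the L_i with the cycle of D_1. (The published text normalises D^2 · L_1
⋯ L_s as twice the limit of χ(c_1(L_1) ⋯ c_1(L_s) · ([O_X] - [O_X(-mD)])) / m^2, the negative of the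
number used here, and with that sign the identity fails for two lines on the projective plane, where
it would read -1 = 1.) -/
theorem result (k : Type u) [Field k] [IsAlgClosed k] (X : Scheme.{u}) [X.Over (Spec (CommRingCat.of k))]
    [AlgebraicGeometry.IsIntegral X] (hnorm : Pi1.IsNormalScheme X) (s : ℕ) (hdim : topologicalKrullDim X = (s + 2 : ℕ))
    (hproj : ∃ (N : ℕ) (ι : X ⟶ CohB1.ProjSpace N k), IsClosedImmersion ι ∧ ι ≫ CohB1.ProjSpace.toSpec N k = X ↘ Spec (CommRingCat.of k))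
    (L M : Fin s → X.Modules) (hL : ∀ i, PicF.IsInvertible (L i))
    (hLM : ∀ i, Nonempty (CohB1.tensorMod (L i) (M i) ≅ Coh.structureModule X))
    (ℒ₁ ℒ₂ 𝓜₂ : X.Modules) (h₁ : RefHull.IsRef1 ℒ₁) (h₂ : PicF.IsInvertible ℒ₂)
    (h₂' : Nonempty (CohB1.tensorMod ℒ₂ 𝓜₂ ≅ Coh.structureModule X))
    (q₁ q₂ q₁₂ : ℝ)
    (hq₁ : Filter.Tendsto (fun m : ℕ => (2 : ℝ) * (FGA.intNum k X (s + 2) M (RefPow.refPow ℒ₁ m) : ℝ) / ((m : ℝ) ^ 2)) Filter.atTop (nhds q₁))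
    (hq₂ : Filter.Tendsto (fun m : ℕ => (2 : ℝ) * (FGA.intNum k X (s + 2) M (RefPow.refPow ℒ₂ m) : ℝ) / ((m : ℝ) ^ 2)) Filter.atTop (nhds q₂))
    (hq₁₂ : Filter.Tendsto (fun m : ℕ => (2 : ℝ) * (FGA.intNum k X (s + 2) M (RefPow.refPow (RefPow.refTensor ℒ₁ ℒ₂) m) : ℝ) / ((m : ℝ) ^ 2)) Filter.atTop (nhds q₁₂)) :
    (q₁₂ - q₁ - q₂) / 2 =
      ((FGA.intNum k X (s + 2) (Fin.cons 𝓜₂ M) (Coh.structureModule X) -
        FGA.intNum k X (s + 2) (Fin.cons 𝓜₂ M) (RefHull.dual ℒ₁) : ℤ) : ℝ) := by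
  haveI := Groth.L21.RefK.proper_of_hproj k hproj
  haveI := Groth.L21.RefK.isLocallyNoetherian_of_hproj k hproj
  obtain ⟨δ, hδ, hη⟩ := Groth.L21.RefK.exists_normalised_dimFun k (X ↘ Spec (CommRingCat.of k)) (s + 2)
  have hle : ∀ x, δ x ≤ ((s + 2 : ℕ) : ℤ) := fun x => hη ▸ Groth.L21.RefK.le_top_dim hδ.2.2 x
  have hge := Groth.L21.RefK.dim_nonneg hδ.2.2 hdim hη
  have hM := fun i => Groth.L21.RefK.isInvertible_inverse (hLM i)
  have hQ := Groth.L21.RefK.isInvertible_inverse h₂'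
  have hPQ := Groth.L18.GenLoc.isInvertible_tensor h₂ hQ
  have hO := Groth.L18.Ample.isInvertible_structureModule X
  have hcons : ∀ i, PicF.IsInvertible ((Fin.cons 𝓜₂ M : Fin (s + 1) → X.Modules) i) := fun i => Fin.cases hQ hM i
  have hcP : ∀ i, PicF.IsInvertible ((Fin.cons ℒ₂ M : Fin (s + 1) → X.Modules) i) := fun i => Fin.cases h₂ hM i
  let φ : Cyc.K0CohQuot δ (s + 2 : ℕ) (-1) →+ ℤ :=
    (Groth.L21.RefK.chiQ k hge).comp (Groth.L21.RefK.prodD M hM)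
  have hint : ∀ {F : X.Modules}, Coh.IsCoh F →
      FGA.intNum k X (s + 2) M F = φ (Cyc.toK0CohQuot δ (s + 2 : ℕ) (-1) F) := fun hF =>
    Groth.L21.RefK.intNum_eq_chiQ k hdim.le hge hle M hM hF
  have hkill : ∀ {m : ℤ} {z : Cyc.K0CohQuot δ (s + 2 : ℕ) (-1)}, m - s ≤ -1 → m ≤ (s + 2 : ℕ) →
      z ∈ Groth.L21.RefK.Fil δ (s + 2 : ℕ) (-1) m → φ z = 0 := fun {m z} hm hm' hz => by
    have h := Groth.L21.RefK.prodD_mem hδ M hM hm' hz
    rw [Groth.L21.RefK.Fil_le_bot hm, AddSubgroup.mem_bot] at h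
    show Groth.L21.RefK.chiQ k hge _ = 0
    rw [h, map_zero]
  have h3 : ∀ z, φ (Groth.L21.RefK.dQ h₂ (Groth.L21.RefK.dQ h₂ (Groth.L21.RefK.dQ h₂ z))) = 0 := fun z =>
    hkill (m := ((s + 2 : ℕ) : ℤ) - 1 - 1 - 1) (by push_cast; omega) (by omega)
      (Groth.L21.RefK.dQ_mem hδ h₂ (by omega) (Groth.L21.RefK.dQ_mem hδ h₂ (by omega)
        (Groth.L21.RefK.dQ_mem hδ h₂ le_rfl (Groth.L21.RefK.mem_Fil_self z))))
  let cO := Cyc.toK0CohQuot δ (s + 2 : ℕ) (-1) (Coh.structureModule X)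
  let R : ℕ → Cyc.K0CohQuot δ (s + 2 : ℕ) (-1) := fun m => Cyc.toK0CohQuot δ (s + 2 : ℕ) (-1) (RefPow.refPow ℒ₁ m)
  let x1 := Groth.L21.RefK.xcl δ (s + 2 : ℕ) (-1) ℒ₁
  -- first differences are linear, second differences constant along reflexive powers
  have hE1 : ∀ m, φ (Groth.L21.RefK.dQ h₂ (R m)) =
      φ (Groth.L21.RefK.dQ h₂ cO) + m * φ (Groth.L21.RefK.dQ h₂ x1) := fun m => by
    have h := congrArg (Groth.L21.RefK.chiQ k hge) (Groth.L21.RefK.prodD_refPow hδ hnorm hη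
      (Fin.cons ℒ₂ M : Fin (s + 1) → X.Modules) hcP (b := -1) (by push_cast; omega) h₁ m)
    rw [map_add, map_nsmul, nsmul_eq_mul] at h
    have e : ∀ z, φ (Groth.L21.RefK.dQ h₂ z) = Groth.L21.RefK.chiQ k hge
        (Groth.L21.RefK.prodD (Fin.cons ℒ₂ M : Fin (s + 1) → X.Modules) hcP z) := fun z =>
      congrArg (Groth.L21.RefK.chiQ k hge) (Groth.L21.RefK.prodD_dQ hle h₂ M hM z)
    rw [e, e, e]
    exact h
  have hE2 : ∀ m, φ (Groth.L21.RefK.dQ h₂ (Groth.L21.RefK.dQ h₂ (R m))) =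
      φ (Groth.L21.RefK.dQ h₂ (Groth.L21.RefK.dQ h₂ cO)) := fun m => by
    have hR := (Groth.L15.Ref.isRef1_refPow h₁ m)
    have hd := Groth.L21.RefK.sub_mem_Fil_of_isRef1 (b := -1) hδ hnorm hη hR
    have h := hkill (m := ((s + 2 : ℕ) : ℤ) - 1 - 1 - 1) (by push_cast; omega) (by omega)
      (Groth.L21.RefK.dQ_mem hδ h₂ (by omega) (Groth.L21.RefK.dQ_mem hδ h₂ (by omega) hd))
    rw [map_sub, map_sub, map_sub, sub_eq_zero] at h
    exact h.symm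
  have hval : ∀ m : ℕ, FGA.intNum k X (s + 2) M (RefPow.refPow (RefPow.refTensor ℒ₁ ℒ₂) m) -
      FGA.intNum k X (s + 2) M (RefPow.refPow ℒ₁ m) - FGA.intNum k X (s + 2) M (RefPow.refPow ℒ₂ m) =
      -φ cO - φ (Groth.L21.RefK.dQ h₂ x1) * (m : ℤ) ^ 2 := fun m => by
    have hr := Groth.L15.Ref.isRef1_of_isInvertible h₂
    have hT := Groth.L15.Ref.isRef1_refPow (Groth.L15.Ref.isRef1_refTensor h₁ hr) m
    obtain ⟨i12⟩ := Groth.L21.RefK.iso_refPow_refTensor hnorm h₁ h₂ m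
    obtain ⟨i2⟩ := Groth.L21.RefK.iso_refPow_of_isInvertible hnorm h₂ m
    rw [hint hT.1, hint (Groth.L15.Ref.isRef1_refPow h₁ m).1, hint (Groth.L15.Ref.isRef1_refPow hr m).1,
      Groth.L21.RefK.toK0_iso i12 ⟨hT.1, fun x _ => hle x⟩,
      Groth.L21.RefK.toK0_iso i2 ⟨(Groth.L15.Ref.isRef1_refPow hr m).1, fun x _ => hle x⟩,
      Groth.L21.RefK.phi_tensorPow hle φ h₂ h3 m (Groth.L15.Ref.isRef1_refPow h₁ m).1,
      Groth.L21.RefK.phi_tensorPow hle φ h₂ h3 m Groth.L16.CohClosedPush.isCoh_structure,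
      hE1 m, hE2 m]
    simp only [nsmul_eq_mul]
    ring
  have hlim : Filter.Tendsto (fun m : ℕ => ((-2 * φ cO : ℤ) + (-2 * φ (Groth.L21.RefK.dQ h₂ x1) : ℤ) * (m : ℝ) ^ 2) / (m : ℝ) ^ 2)
      Filter.atTop (nhds (q₁₂ - q₁ - q₂)) := by
    refine ((hq₁₂.sub hq₁).sub hq₂).congr fun m => ?_
    have h : ((FGA.intNum k X (s + 2) M (RefPow.refPow (RefPow.refTensor ℒ₁ ℒ₂) m) : ℝ) -
        FGA.intNum k X (s + 2) M (RefPow.refPow ℒ₁ m) - FGA.intNum k X (s + 2) M (RefPow.refPow ℒ₂ m)) =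
        -(φ cO : ℝ) - (φ (Groth.L21.RefK.dQ h₂ x1) : ℝ) * (m : ℝ) ^ 2 := by exact_mod_cast hval m
    rw [← sub_div, ← sub_div]
    congr 1
    push_cast
    linear_combination 2 * h
  rw [tendsto_nhds_unique hlim (Groth.L21.RefK.tendsto_quadratic_div_sq _ _)]
  -- the right hand side
  have hdual := Groth.L15.Ref.isRef1_dual h₁
  have hcint : ∀ {F : X.Modules}, Coh.IsCoh F → FGA.intNum k X (s + 2) (Fin.cons 𝓜₂ M) F =
      φ (Groth.L21.RefK.dQ hQ (Cyc.toK0CohQuot δ (s + 2 : ℕ) (-1) F)) := fun hF =>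
    (Groth.L21.RefK.intNum_eq_chiQ k hdim.le hge hle _ hcons hF).trans
      (congrArg (Groth.L21.RefK.chiQ k hge) (Groth.L21.RefK.prodD_dQ hle hQ M hM _).symm)
  -- `D xcl(dual) = - D xcl ℒ₁`
  have hdd : φ (Groth.L21.RefK.dQ hQ (Groth.L21.RefK.xcl δ (s + 2 : ℕ) (-1) (RefHull.dual ℒ₁))) =
      -φ (Groth.L21.RefK.dQ hQ x1) := by
    obtain ⟨d, hd⟩ := Groth.L15.Ref.exists_hasDiv h₁
    have hz := Groth.L15.Ref.hasDiv_refTensor hnorm h₁ hdual hd (Groth.L15.Ref.hasDiv_dual hnorm h₁ hd)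
    rw [add_neg_cancel] at hz
    obtain ⟨i⟩ := Groth.L15.Ref.iso_of_hasDiv hnorm (Groth.L15.Ref.isRef1_refTensor h₁ hdual)
      Groth.L15.Ref.isRef1_structureModule hz Groth.L15.Ref.hasDiv_structureModule
    have h := congrArg (Groth.L21.RefK.chiQ k hge) (Groth.L21.RefK.prodD_xcl_refTensor hδ hnorm hη
      (Fin.cons 𝓜₂ M : Fin (s + 1) → X.Modules) hcons (b := -1) (by push_cast; omega) h₁ hdual)
    have h0 : Groth.L21.RefK.xcl δ (s + 2 : ℕ) (-1) (RefPow.refTensor ℒ₁ (RefHull.dual ℒ₁)) = 0 := by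
      rw [Groth.L21.RefK.xcl, sub_eq_zero]
      exact Groth.L21.RefK.toK0_iso i ⟨(Groth.L15.Ref.isRef1_refTensor h₁ hdual).1, fun x _ => hle x⟩
    rw [h0, map_zero, map_zero, map_add] at h
    have e : ∀ z, φ (Groth.L21.RefK.dQ hQ z) = Groth.L21.RefK.chiQ k hge
        (Groth.L21.RefK.prodD (Fin.cons 𝓜₂ M : Fin (s + 1) → X.Modules) hcons z) := fun z =>
      congrArg (Groth.L21.RefK.chiQ k hge) (Groth.L21.RefK.prodD_dQ hle hQ M hM z)
    rw [e, e]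
    linarith
  -- `E = -D` on `xcl ℒ₁`
  have hED : φ (Groth.L21.RefK.dQ h₂ x1) + φ (Groth.L21.RefK.dQ hQ x1) = 0 := by
    have hx : x1 ∈ Groth.L21.RefK.Fil δ (s + 2 : ℕ) (-1) (((s + 2 : ℕ) : ℤ) - 1) := by
      have h := Groth.L21.RefK.sub_mem_Fil_of_isRef1 (b := -1) hδ hnorm hη h₁
      rw [← neg_mem_iff, neg_sub] at h
      exact h
    have hk := hkill (m := ((s + 2 : ℕ) : ℤ) - 1 - 1 - 1) (by push_cast; omega) (by omega)
      (Groth.L21.RefK.dQ_mem hδ h₂ (by omega) (Groth.L21.RefK.dQ_mem hδ hQ (by omega) hx))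
    have h0 : Groth.L21.RefK.dQ hPQ x1 = 0 := by
      rw [← Groth.L21.RefK.dQ_unit hle hO x1, Groth.L21.RefK.dQ, Groth.L21.RefK.dQ, AddMonoidHom.sub_apply,
        AddMonoidHom.sub_apply, Groth.L21.RefK.twQ_congr h₂'.some hPQ hO hle]
    rw [Groth.L21.RefK.dQ_tensor hle h₂ hQ hPQ] at h0
    have h1 := congrArg φ h0
    rw [map_sub, map_add, hk, map_zero, sub_zero] at h1
    exact h1
  rw [hcint Groth.L16.CohClosedPush.isCoh_structure, hcint hdual.1]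
  have hX : φ (Groth.L21.RefK.dQ hQ (Groth.L21.RefK.xcl δ (s + 2 : ℕ) (-1) (RefHull.dual ℒ₁))) =
      φ (Groth.L21.RefK.dQ hQ (Cyc.toK0CohQuot δ (s + 2 : ℕ) (-1) (RefHull.dual ℒ₁))) -
        φ (Groth.L21.RefK.dQ hQ cO) := by
    rw [Groth.L21.RefK.xcl, map_sub, map_sub]
  rw [hdd] at hX
  have hfin : φ (Groth.L21.RefK.dQ hQ cO) -
      φ (Groth.L21.RefK.dQ hQ (Cyc.toK0CohQuot δ (s + 2 : ℕ) (-1) (RefHull.dual ℒ₁))) =
      -φ (Groth.L21.RefK.dQ h₂ x1) := by linarith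
  rw [hfin]
  push_cast
  ring

end Groth.Agent.S17917
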