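import Groth.Statements.S17918
import Groth.Agent.L21.RefK.Chi

set_option autoImplicit false
set_option backward.isDefEq.respectTransparency false
set_option backward.isDefEq.respectTransparency.types false
set_option linter.style.haveILetI false
universe u
open CategoryTheory CategoryTheory.Limits AlgebraicGeometry
open RefCh

namespace Groth.Agent.S17918

/-- Let k be an algebraically closed field, X an integral normal scheme of dimension s + 3 admitting a
closed immersion into some P^N_k over k, L_1, …, L_s, A and B invertible O_X-modules with inverses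
M_1, …, M_s, A' and B' (so that A' ⊗ B' is an inverse of A ⊗ B), and ℒ a coherent reflexive
O_X-module of rank one (ℒ = O_X(D)). Suppose 2 χ(c_1(A) c_1(L_1) ⋯ c_1(L_s) · [ℒ^[m]]) / m^2 → a, 2
χ(c_1(B) c_1(L_1) ⋯ c_1(L_s) · [ℒ^[m]]) / m^2 → b and 2 χ(c_1(A ⊗ B) c_1(L_1) ⋯ c_1(L_s) · [ℒ^[m]])
/ m^2 → c as m → ∞, the Euler characteristics being the alternating sums FGA.intNum in (A', M_1, …,
M_s), (B', M_1, …, M_s) and (A' ⊗ B', M_1, …, M_s) of the reflexive powers ℒ^[m]. Then c = a + b: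
the self-intersection number D^2 · L_0 · L_1 ⋯ L_s is additive in the invertible module L_0. -/
theorem result (k : Type u) [Field k] [IsAlgClosed k] (X : Scheme.{u}) [X.Over (Spec (CommRingCat.of k))]
    [AlgebraicGeometry.IsIntegral X] (hnorm : Pi1.IsNormalScheme X) (s : ℕ) (hdim : topologicalKrullDim X = (s + 3 : ℕ))
    (hproj : ∃ (N : ℕ) (ι : X ⟶ CohB1.ProjSpace N k), IsClosedImmersion ι ∧ ι ≫ CohB1.ProjSpace.toSpec N k = X ↘ Spec (CommRingCat.of k))
    (L M : Fin s → X.Modules) (hL : ∀ i, PicF.IsInvertible (L i))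
    (hLM : ∀ i, Nonempty (CohB1.tensorMod (L i) (M i) ≅ Coh.structureModule X))
    (A A' B B' : X.Modules) (hA : PicF.IsInvertible A) (hB : PicF.IsInvertible B)
    (hAA' : Nonempty (CohB1.tensorMod A A' ≅ Coh.structureModule X))
    (hBB' : Nonempty (CohB1.tensorMod B B' ≅ Coh.structureModule X))
    (ℒ : X.Modules) (hℒ : RefHull.IsRef1 ℒ) (a b c : ℝ)
    (ha : Filter.Tendsto (fun m : ℕ => (2 : ℝ) * (FGA.intNum k X (s + 3) (Fin.cons A' M) (RefPow.refPow ℒ m) : ℝ) / ((m : ℝ) ^ 2)) Filter.atTop (nhds a))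
    (hb : Filter.Tendsto (fun m : ℕ => (2 : ℝ) * (FGA.intNum k X (s + 3) (Fin.cons B' M) (RefPow.refPow ℒ m) : ℝ) / ((m : ℝ) ^ 2)) Filter.atTop (nhds b))
    (hc : Filter.Tendsto (fun m : ℕ => (2 : ℝ) * (FGA.intNum k X (s + 3) (Fin.cons (CohB1.tensorMod A' B') M) (RefPow.refPow ℒ m) : ℝ) / ((m : ℝ) ^ 2)) Filter.atTop (nhds c)) :
    c = a + b := by
  haveI := Groth.L21.RefK.proper_of_hproj k hproj
  haveI := Groth.L21.RefK.isLocallyNoetherian_of_hproj k hproj
  haveI := Groth.L21.RR.isNoetherian_of_proper (X := X) k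
  obtain ⟨δ, hδ, hη⟩ := Groth.L21.RefK.exists_normalised_dimFun k (X ↘ Spec (CommRingCat.of k)) (s + 3)
  have hle : ∀ x, δ x ≤ ((s + 3 : ℕ) : ℤ) := fun x => hη ▸ Groth.L21.RefK.le_top_dim hδ.2.2 x
  have hge := Groth.L21.RefK.dim_nonneg hδ.2.2 hdim hη
  have hM := fun i => Groth.L21.RefK.isInvertible_inverse (hLM i)
  have hA' := Groth.L21.RefK.isInvertible_inverse hAA'
  have hB' := Groth.L21.RefK.isInvertible_inverse hBB'
  have hAB := Groth.L18.GenLoc.isInvertible_tensor hA' hB'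
  have hcons : ∀ {P : X.Modules}, PicF.IsInvertible P → ∀ i, PicF.IsInvertible ((Fin.cons P M : Fin (s + 1) → X.Modules) i) :=
    fun hP i => Fin.cases hP hM i
  let M2 : Fin (s + 2) → X.Modules := Fin.cons A' (Fin.cons B' M)
  have hM2 : ∀ i, PicF.IsInvertible (M2 i) := fun i => Fin.cases hA' (hcons hB') i
  let c0 : ℤ := Groth.L21.RefK.chiQ k hge (Groth.L21.RefK.prodD M2 hM2
    (Cyc.toK0CohQuot δ (s + 3 : ℕ) (-1) (Coh.structureModule X)))
  let c1 : ℤ := Groth.L21.RefK.chiQ k hge (Groth.L21.RefK.prodD M2 hM2 (Groth.L21.RefK.xcl δ (s + 3 : ℕ) (-1) ℒ))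
  have key : ∀ m, (FGA.intNum k X (s + 3) (Fin.cons (CohB1.tensorMod A' B') M) (RefPow.refPow ℒ m) : ℤ) =
      FGA.intNum k X (s + 3) (Fin.cons A' M) (RefPow.refPow ℒ m) +
        FGA.intNum k X (s + 3) (Fin.cons B' M) (RefPow.refPow ℒ m) - (c0 + m * c1) := fun m => by
    have hc := (Groth.L15.Ref.isRef1_refPow hℒ m).1
    rw [Groth.L21.RefK.intNum_eq_chiQ k hdim.le hge hle _ (hcons hAB) hc,
      Groth.L21.RefK.intNum_eq_chiQ k hdim.le hge hle _ (hcons hA') hc,
      Groth.L21.RefK.intNum_eq_chiQ k hdim.le hge hle _ (hcons hB') hc]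
    have h2 : Groth.L21.RefK.chiQ k hge (Groth.L21.RefK.prodD M2 hM2 (Cyc.toK0CohQuot δ (s + 3 : ℕ) (-1) (RefPow.refPow ℒ m))) =
        c0 + m * c1 := by
      rw [Groth.L21.RefK.prodD_refPow hδ hnorm hη M2 hM2 (by push_cast; omega) hℒ m, map_add, map_nsmul, nsmul_eq_mul]
    rw [← h2, ← map_add, ← map_sub]
    exact congrArg _ (Groth.L21.RefK.dQ_tensor hle hA' hB' hAB _)
  have h0 := (Groth.L21.RefK.tendsto_linear_div_sq (2 * c0) (2 * c1))
  have h := (ha.add hb).sub h0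
  rw [sub_zero] at h
  refine tendsto_nhds_unique hc (h.congr fun m => ?_)
  rw [key m]
  push_cast
  ring

end Groth.Agent.S17918
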