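import Groth.Statements.S17919
import Groth.Agent.L21.RefK.FrobClass
import Groth.Agent.L18.AmplePull
import Groth.Agent.L08.Cube.Inverse
import Groth.Agent.S15467

set_option autoImplicit false
set_option backward.isDefEq.respectTransparency false
set_option linter.style.haveILetI false
universe u
open CategoryTheory CategoryTheory.Limits AlgebraicGeometry
open RefCh

namespace Groth.Agent.S17919

/-- Let k be an algebraically closed field of characteristic p > 0, X an integral normal scheme of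
dimension s + 3 admitting a closed immersion into some P^N_k over k, L_1, …, L_s, A and B invertible
O_X-modules with inverses M_1, …, M_s, A' and B', E a coherent reflexive O_X-module, and (G_m) its
reflexive Frobenius pull-backs F_X^[m] E (G_0 = E, G_{m+1} ≅ (F_X^* G_m)^**). Suppose χ(c_1(A)
c_1(L_1) ⋯ c_1(L_s) · [G_m]) / p^{2m} → a, χ(c_1(B) c_1(L_1) ⋯ c_1(L_s) · [G_m]) / p^{2m} → b and
χ(c_1(A ⊗ B) c_1(L_1) ⋯ c_1(L_s) · [G_m]) / p^{2m} → c as m → ∞ (alternating sums FGA.intNum in (A',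
M_1, …, M_s), (B', M_1, …, M_s) and (A' ⊗ B', M_1, …, M_s)). Then c = a + b: the number ∫_X ch_2(E)
L_0 L_1 ⋯ L_s, defined as such a limit, is additive in the invertible module L_0. -/
theorem result (k : Type u) [Field k] [IsAlgClosed k] (X : Scheme.{u}) [X.Over (Spec (CommRingCat.of k))]
    [AlgebraicGeometry.IsIntegral X] (hnorm : Pi1.IsNormalScheme X) (s : ℕ) (hdim : topologicalKrullDim X = (s + 3 : ℕ))
    (hproj : ∃ (N : ℕ) (ι : X ⟶ CohB1.ProjSpace N k), IsClosedImmersion ι ∧ ι ≫ CohB1.ProjSpace.toSpec N k = X ↘ Spec (CommRingCat.of k))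
    (p : ℕ) [Fact p.Prime] [CharP k p] [FrobSch.IsCharP X p]
    (L M : Fin s → X.Modules) (hL : ∀ i, PicF.IsInvertible (L i))
    (hLM : ∀ i, Nonempty (CohB1.tensorMod (L i) (M i) ≅ Coh.structureModule X))
    (A A' B B' : X.Modules) (hA : PicF.IsInvertible A) (hB : PicF.IsInvertible B)
    (hAA' : Nonempty (CohB1.tensorMod A A' ≅ Coh.structureModule X))
    (hBB' : Nonempty (CohB1.tensorMod B B' ≅ Coh.structureModule X))
    (E : X.Modules) (hE : Coh.IsCoh E) (hEr : RefHull.IsReflexive E)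
    (G : ℕ → X.Modules) (hG0 : G 0 = E)
    (hG : ∀ m, Nonempty (G (m + 1) ≅ RefHull.ddual ((Scheme.Modules.pullback (FrobSch.frob X p)).obj (G m)))) (a b c : ℝ)
    (ha : Filter.Tendsto (fun m : ℕ => (FGA.intNum k X (s + 3) (Fin.cons A' M) (G m) : ℝ) / ((p : ℝ) ^ (2 * m))) Filter.atTop (nhds a))
    (hb : Filter.Tendsto (fun m : ℕ => (FGA.intNum k X (s + 3) (Fin.cons B' M) (G m) : ℝ) / ((p : ℝ) ^ (2 * m))) Filter.atTop (nhds b))
    (hc : Filter.Tendsto (fun m : ℕ => (FGA.intNum k X (s + 3) (Fin.cons (CohB1.tensorMod A' B') M) (G m) : ℝ) / ((p : ℝ) ^ (2 * m))) Filter.atTop (nhds c)) :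
    c = a + b := by
  haveI := Groth.L21.RefK.proper_of_hproj k hproj
  haveI := Groth.L21.RefK.isLocallyNoetherian_of_hproj k hproj
  haveI := Groth.L21.RR.isNoetherian_of_proper (X := X) k
  obtain ⟨δ, hδ, hη⟩ := Groth.L21.RefK.exists_normalised_dimFun k (X ↘ Spec (CommRingCat.of k)) (s + 3)
  have hle : ∀ x, δ x ≤ ((s + 3 : ℕ) : ℤ) := fun x => hη ▸ Groth.L21.RefK.le_top_dim hδ.2.2 x
  have hge := Groth.L21.RefK.dim_nonneg hδ.2.2 hdim hη
  have hM := fun i => Groth.L21.RefK.isInvertible_inverse (hLM i)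
  have hA' := Groth.L21.RefK.isInvertible_inverse hAA'
  have hB' := Groth.L21.RefK.isInvertible_inverse hBB'
  have hAB := Groth.L18.GenLoc.isInvertible_tensor hA' hB'
  -- an ample invertible module
  obtain ⟨N', j, hj, -⟩ := hproj
  haveI := hj
  have hamp := Groth.L18.Ample.isAmple_pullback_of_isAffineHom j (Groth.Agent.S15467.isAmple_twist_any N' k)
  obtain ⟨L', hL', ⟨e'⟩⟩ := Groth.L08.Cube.exists_inverse hamp.1
  obtain ⟨N₀, hN₀, φ₀, hφ₀⟩ := Groth.L21.RefK.exists_generic_iso hamp e' hL' (E := G 0) (hG0 ▸ hE)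
  let r := Module.finrank (X.presheaf.stalk (genericPoint X)) ((G 0).presheaf.stalk (genericPoint X))
  have hR₀ := Groth.L15.Ref.isRef1_of_isInvertible hN₀
  have hcls := Groth.L21.RefK.exists_frobClass p (b := -1) hδ hnorm hη hN₀ G (hG0 ▸ hE) (hG0 ▸ hEr) hG φ₀ hφ₀
  let M₁ : Fin (s + 1) → X.Modules := Fin.cons B' M
  let M₂ : Fin (s + 2) → X.Modules := Fin.cons A' M₁
  have hM₁ : ∀ i, PicF.IsInvertible (M₁ i) := fun i => Fin.cases hB' hM i
  have hM₂ : ∀ i, PicF.IsInvertible (M₂ i) := fun i => Fin.cases hA' hM₁ i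
  let Ψ : Cyc.K0CohQuot δ (s + 3 : ℕ) (-1) →+ ℤ :=
    (Groth.L21.RefK.chiQ k hge).comp (Groth.L21.RefK.prodD M₂ hM₂)
  let c₀ : ℤ := r * Ψ (Cyc.toK0CohQuot δ (s + 3 : ℕ) (-1) (Coh.structureModule X))
  let c₁ : ℤ := r * Ψ (Groth.L21.RefK.xcl δ (s + 3 : ℕ) (-1) N₀) +
    Ψ (Cyc.toK0CohQuot δ (s + 3 : ℕ) (-1) (G 0) - r • Cyc.toK0CohQuot δ (s + 3 : ℕ) (-1) N₀)
  have hΨ : ∀ m, Ψ (Cyc.toK0CohQuot δ (s + 3 : ℕ) (-1) (G m)) = c₀ + (p : ℤ) ^ m * c₁ := fun m => by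
    obtain ⟨-, N, hN, ⟨i⟩, hmem⟩ := hcls m
    have h := Groth.L21.RefK.prodD_mem hδ M₂ hM₂ (by omega) hmem
    rw [Groth.L21.RefK.Fil_le_bot (by push_cast; omega), AddSubgroup.mem_bot] at h
    have h' : Ψ (Cyc.toK0CohQuot δ (s + 3 : ℕ) (-1) (G m) - r • Cyc.toK0CohQuot δ (s + 3 : ℕ) (-1) N -
        ((p : ℤ) ^ m) • (Cyc.toK0CohQuot δ (s + 3 : ℕ) (-1) (G 0) - r • Cyc.toK0CohQuot δ (s + 3 : ℕ) (-1) N₀)) = 0 :=
      (congrArg (Groth.L21.RefK.chiQ k hge) h).trans (map_zero _)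
    have hpow : Ψ (Cyc.toK0CohQuot δ (s + 3 : ℕ) (-1) N) = Ψ (Cyc.toK0CohQuot δ (s + 3 : ℕ) (-1) (Coh.structureModule X)) +
        (p : ℤ) ^ m * Ψ (Groth.L21.RefK.xcl δ (s + 3 : ℕ) (-1) N₀) := by
      have e1 := congrArg (Groth.L21.RefK.chiQ k hge) (Groth.L21.RefK.prodD_refPow hδ hnorm hη M₂ hM₂
        (b := -1) (by push_cast; omega) hR₀ (p ^ m))
      rw [← Groth.L21.RefK.toK0_iso i (Groth.L21.RefK.cohLe_of_le hle (Groth.L16.ProperFinite.isCoh_of_isInvertible hN)),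
        map_add, map_nsmul, nsmul_eq_mul, Nat.cast_pow] at e1
      exact e1
    rw [map_sub, map_zsmul, map_sub, map_sub, map_nsmul, map_nsmul, hpow, nsmul_eq_mul, nsmul_eq_mul, smul_eq_mul] at h'
    simp only [c₀, c₁, map_sub, map_nsmul, nsmul_eq_mul]
    linear_combination h'
  have hint : ∀ (Q : X.Modules) (hQ : PicF.IsInvertible Q) (m : ℕ), FGA.intNum k X (s + 3) (Fin.cons Q M) (G m) =
      Groth.L21.RefK.chiQ k hge (Groth.L21.RefK.dQ hQ (Groth.L21.RefK.prodD M hM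
        (Cyc.toK0CohQuot δ (s + 3 : ℕ) (-1) (G m)))) := fun Q hQ m => by
    rw [Groth.L21.RefK.intNum_eq_chiQ k hdim.le hge hle (Fin.cons Q M : Fin (s + 1) → X.Modules)
      (fun i => Fin.cases hQ hM i) (hcls m).1]
    rfl
  have hsum : ∀ m, (FGA.intNum k X (s + 3) (Fin.cons (CohB1.tensorMod A' B') M) (G m) : ℝ) =
      FGA.intNum k X (s + 3) (Fin.cons A' M) (G m) + FGA.intNum k X (s + 3) (Fin.cons B' M) (G m) -
        ((c₀ : ℝ) + (p : ℝ) ^ m * (c₁ : ℝ)) := fun m => by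
    rw [hint _ hAB, hint _ hA', hint _ hB', Groth.L21.RefK.dQ_tensor hle hA' hB' hAB, map_sub, map_add,
      show Groth.L21.RefK.chiQ k hge (Groth.L21.RefK.dQ hA' (Groth.L21.RefK.dQ hB' (Groth.L21.RefK.prodD M hM
        (Cyc.toK0CohQuot δ (s + 3 : ℕ) (-1) (G m))))) = c₀ + (p : ℤ) ^ m * c₁ from hΨ m]
    push_cast
    rfl
  have htop : Filter.Tendsto (fun m : ℕ => p ^ m) Filter.atTop Filter.atTop :=
    tendsto_pow_atTop_atTop_of_one_lt (Fact.out : p.Prime).one_lt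
  have h0 : Filter.Tendsto (fun m : ℕ => ((c₀ : ℝ) + (p : ℝ) ^ m * (c₁ : ℝ)) / ((p : ℝ) ^ (2 * m))) Filter.atTop (nhds 0) := by
    refine ((Groth.L21.RefK.tendsto_linear_div_sq (c₀ : ℝ) (c₁ : ℝ)).comp htop).congr fun m => ?_
    simp only [Function.comp_apply]
    push_cast
    rw [← pow_mul, mul_comm m 2]
  refine tendsto_nhds_unique hc ?_
  have h := (ha.add hb).sub h0
  rw [sub_zero] at h
  refine h.congr fun m => ?_
  rw [hsum m, ← add_div, ← sub_div]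

end Groth.Agent.S17919
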