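import Groth.Statements.S17921
import Groth.Agent.L21.RefK.Frob
import Groth.Agent.L21.RefK.Final

set_option autoImplicit false
set_option backward.isDefEq.respectTransparency false
set_option linter.style.haveILetI false
universe u
open CategoryTheory CategoryTheory.Limits AlgebraicGeometry
open RefCh

namespace Groth.Agent.S17921

/-- Let k be an algebraically closed field of characteristic p > 0, X an integral normal scheme of
dimension s + 2 admitting a closed immersion into some P^N_k over k, L_1, …, L_s invertible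
O_X-modules with inverses M_1, …, M_s, and ℒ a coherent reflexive O_X-module of rank one (ℒ =
O_X(D)), with reflexive Frobenius pull-backs G_m = F_X^[m] ℒ (G_0 = ℒ, G_{m+1} ≅ (F_X^* G_m)^**). If
2 χ(c_1(L_1) ⋯ c_1(L_s) · [ℒ^[m]]) / m^2 → a (so a = D^2 · L_1 ⋯ L_s) and χ(c_1(L_1) ⋯ c_1(L_s) ·
[G_m]) / p^{2m} → b (so b = ∫_X ch_2(ℒ) L_1 ⋯ L_s), the Euler characteristics being the alternating
sums FGA.intNum in the M_i, then a = 2 b: the second Chern number ∫_X c_2(ℒ) L_1 ⋯ L_s = a / 2 - b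
of a rank one reflexive module vanishes. -/
theorem result (k : Type u) [Field k] [IsAlgClosed k] (X : Scheme.{u}) [X.Over (Spec (CommRingCat.of k))]
    [AlgebraicGeometry.IsIntegral X] (hnorm : Pi1.IsNormalScheme X) (s : ℕ) (hdim : topologicalKrullDim X = (s + 2 : ℕ))
    (hproj : ∃ (N : ℕ) (ι : X ⟶ CohB1.ProjSpace N k), IsClosedImmersion ι ∧ ι ≫ CohB1.ProjSpace.toSpec N k = X ↘ Spec (CommRingCat.of k))
    (p : ℕ) [Fact p.Prime] [CharP k p] [FrobSch.IsCharP X p]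
    (L M : Fin s → X.Modules) (hL : ∀ i, PicF.IsInvertible (L i))
    (hLM : ∀ i, Nonempty (CohB1.tensorMod (L i) (M i) ≅ Coh.structureModule X))
    (ℒ : X.Modules) (hℒ : RefHull.IsRef1 ℒ)
    (G : ℕ → X.Modules) (hG0 : G 0 = ℒ)
    (hG : ∀ m, Nonempty (G (m + 1) ≅ RefHull.ddual ((Scheme.Modules.pullback (FrobSch.frob X p)).obj (G m)))) (a b : ℝ)
    (ha : Filter.Tendsto (fun m : ℕ => (2 : ℝ) * (FGA.intNum k X (s + 2) M (RefPow.refPow ℒ m) : ℝ) / ((m : ℝ) ^ 2)) Filter.atTop (nhds a))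
    (hb : Filter.Tendsto (fun m : ℕ => (FGA.intNum k X (s + 2) M (G m) : ℝ) / ((p : ℝ) ^ (2 * m))) Filter.atTop (nhds b)) :
    a = 2 * b := by
  haveI := Groth.L21.RefK.isLocallyNoetherian_of_hproj k hproj
  haveI := Groth.L21.RefK.proper_of_hproj k hproj
  haveI := Groth.L21.RR.isNoetherian_of_proper (X := X) k
  obtain ⟨d, hd⟩ := Groth.L15.Ref.exists_hasDiv hℒ
  have hind : ∀ m, RefHull.IsRef1 (G m) ∧ Groth.L15.Ref.HasDiv (G m) ((p ^ m) • d) := by
    intro m
    induction m with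
    | zero => rw [pow_zero, one_smul, hG0]; exact ⟨hℒ, hd⟩
    | succ m ih =>
      obtain ⟨j⟩ := hG m
      obtain ⟨e⟩ := Groth.L21.RefK.nonempty_ddual_frob_iso p hnorm ih.1
      have hR := Groth.L15.Ref.isRef1_refPow ih.1 p
      have hG1 := Groth.L21.RefK.isRef1_of_iso (j ≪≫ e).symm hR
      refine ⟨hG1, Groth.L15.Ref.hasDiv_of_iso hnorm hR hG1 ⟨(j ≪≫ e).symm⟩ ?_⟩
      rw [pow_succ', mul_smul]
      exact Groth.L21.RefK.hasDiv_refPow hnorm ih.1 ih.2 p
  have hiso : ∀ m, Nonempty (G m ≅ RefPow.refPow ℒ (p ^ m)) := fun m =>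
    Groth.L15.Ref.iso_of_hasDiv hnorm (hind m).1 (Groth.L15.Ref.isRef1_refPow hℒ _) (hind m).2
      (Groth.L21.RefK.hasDiv_refPow hnorm hℒ hd _)
  obtain ⟨δ, hδ, hη⟩ := Groth.L21.RefK.exists_normalised_dimFun k (X ↘ Spec (CommRingCat.of k)) (s + 2)
  have hle : ∀ x, δ x ≤ ((s + 2 : ℕ) : ℤ) := fun x => hη ▸ Groth.L21.RefK.le_top_dim hδ.2.2 x
  have hge := Groth.L21.RefK.dim_nonneg hδ.2.2 hdim hη
  have hM := fun i => Groth.L21.RefK.isInvertible_inverse (hLM i)
  have hval : ∀ m, FGA.intNum k X (s + 2) M (G m) = FGA.intNum k X (s + 2) M (RefPow.refPow ℒ (p ^ m)) := fun m => by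
    obtain ⟨i⟩ := hiso m
    have hR := (Groth.L15.Ref.isRef1_refPow hℒ (p ^ m)).1
    have hC : Coh.IsCoh (G m) := Groth.L14.Quot.isCoh_of_iso i.symm hR
    rw [Groth.L21.RefK.intNum_eq_chiQ k hdim.le hge hle M hM hC, Groth.L21.RefK.intNum_eq_chiQ k hdim.le hge hle M hM hR,
      Groth.L21.RefK.toK0_iso i ⟨hC, fun x _ => hle x⟩]
  have htop : Filter.Tendsto (fun m : ℕ => p ^ m) Filter.atTop Filter.atTop :=
    tendsto_pow_atTop_atTop_of_one_lt (Fact.out : p.Prime).one_lt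
  refine tendsto_nhds_unique (ha.comp htop) ?_
  refine (hb.const_mul 2).congr fun m => ?_
  simp only [Function.comp_apply, hval m]
  rw [Nat.cast_pow, ← pow_mul, mul_comm m 2]
  ring

end Groth.Agent.S17921
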