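import Groth.Statements.S17925
import Groth.Agent.L21.RefK.DetClass
import Groth.Agent.L18.AmplePull
import Groth.Agent.L08.Cube.Inverse
import Groth.Agent.S15467

set_option autoImplicit false
set_option backward.isDefEq.respectTransparency false
set_option linter.style.haveILetI false
universe u
open CategoryTheory CategoryTheory.Limits AlgebraicGeometry
open RefCh

namespace Groth.Agent.S17925

/-- Let k be an algebraically closed field, X an integral normal scheme of dimension n = s + 2 admitting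
a closed immersion into some P^N_k over k, δ a dimension function on X (Cyc.IsSetup) with δ(generic
point) = n, and F a torsion-free coherent O_X-module whose stalk at the generic point has dimension
r, with W = Λ^r F and W^** coherent (as it is), so that det F = W^** = O_X(c_1(F)) and [O_{-c_1(F)}]
= [O_X] - [W^**]. With K_m(X) ⊆ K_0(Coh(X)) the subgroup generated by coherent modules with support
of dimension at most m, the class α(F) = [F] - r [O_X] + ([O_X] - [W^**]) lies in K_{n-2}(X): it
vanishes in K_0(Coh(X)) / K_{n-2}(X) (Cyc.toK0CohQuot δ n (n - 2)). -/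
theorem result (k : Type u) [Field k] [IsAlgClosed k] (X : Scheme.{u}) [X.Over (Spec (CommRingCat.of k))]
    [AlgebraicGeometry.IsIntegral X] (hnorm : Pi1.IsNormalScheme X) (s : ℕ) (hdim : topologicalKrullDim X = (s + 2 : ℕ))
    (hproj : ∃ (N : ℕ) (ι : X ⟶ CohB1.ProjSpace N k), IsClosedImmersion ι ∧ ι ≫ CohB1.ProjSpace.toSpec N k = X ↘ Spec (CommRingCat.of k))
    (δ : X → ℤ) (hδ : Cyc.IsSetup X δ) (hδη : δ (genericPoint X) = (s + 2 : ℕ))
    (r : ℕ) (F : X.Modules) (hF : Coh.IsCoh F) (hFtf : TorSh.IsTorsionFree F)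
    (hrk : Module.finrank (X.presheaf.stalk (genericPoint X)) (F.presheaf.stalk (genericPoint X)) = r) (W : X.Modules) (hW : ExtPow.IsExtPow r F W)
    (hWc : Coh.IsCoh (RefHull.ddual W)) :
    Cyc.toK0CohQuot δ (s + 2 : ℕ) (s : ℕ) F - (r : ℤ) • Cyc.toK0CohQuot δ (s + 2 : ℕ) (s : ℕ) (Coh.structureModule X) +
      (Cyc.toK0CohQuot δ (s + 2 : ℕ) (s : ℕ) (Coh.structureModule X) -
        Cyc.toK0CohQuot δ (s + 2 : ℕ) (s : ℕ) (RefHull.ddual W)) = 0 := by
  haveI := Groth.L21.RefK.isLocallyNoetherian_of_hproj k hproj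
  haveI := Groth.L21.RefK.proper_of_hproj k hproj
  haveI := Groth.L21.RR.isNoetherian_of_proper (X := X) k
  obtain ⟨N', j, hj, -⟩ := hproj
  haveI := hj
  have hamp := Groth.L18.Ample.isAmple_pullback_of_isAffineHom j (Groth.Agent.S15467.isAmple_twist_any N' k)
  obtain ⟨L', hL', ⟨e'⟩⟩ := Groth.L08.Cube.exists_inverse hamp.1
  obtain ⟨N₀, hN₀, φ₀, hφ₀⟩ := Groth.L21.RefK.exists_generic_iso hamp e' hL' hF
  subst hrk
  have h := Groth.L21.RefK.toK0_eq_of_det (b := ((s : ℕ) : ℤ)) hδ hnorm hδη (by push_cast; omega) hF hFtf rfl hN₀ φ₀ hφ₀ hW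
  simp only [Groth.L21.RefK.xcl] at h
  rw [natCast_zsmul, h]
  abel

end Groth.Agent.S17925
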