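import Groth.Statements.S17926
import Groth.Agent.L21.RefK.Final

set_option autoImplicit false
set_option backward.isDefEq.respectTransparency false
set_option backward.isDefEq.respectTransparency.types false
set_option linter.style.haveILetI false
universe u
open CategoryTheory CategoryTheory.Limits AlgebraicGeometry
open RefCh

namespace Groth.Agent.S17926

/-- Let k be an algebraically closed field, X an integral normal scheme of dimension n = s + 2 admitting
a closed immersion into some P^N_k over k, δ a dimension function on X (Cyc.IsSetup) with δ(generic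
point) = n, L_1, …, L_{n-1} invertible O_X-modules with inverses M_1, …, M_{n-1}, and ℒ a coherent
reflexive O_X-module of rank one (ℒ = O_X(-D) for a Weil divisor D, [O_D] = [O_X] - [ℒ]). With
c_1(L) · [F] = [F] - [L^{-1} ⊗ F] on K_0(Coh(X)), the class c_1(L_1) ⋯ c_1(L_{n-1}) · [O_D] = Σ_{I ⊆
{1, …, n-1}} (-1)^{|I|} ([M_I ⊗ O_X] - [M_I ⊗ ℒ]), where M_I = ⊗_{i ∈ I} M_i (FGA.tensorList of the
sorted I), lies in K_0(X), the subgroup generated by the classes of coherent modules with
zero-dimensional support: its image in K_0(Coh(X)) / K_0(X) (Cyc.toK0CohQuot δ n 0) vanishes. -/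
theorem result (k : Type u) [Field k] [IsAlgClosed k] (X : Scheme.{u}) [X.Over (Spec (CommRingCat.of k))]
    [AlgebraicGeometry.IsIntegral X] (hnorm : Pi1.IsNormalScheme X) (s : ℕ) (hdim : topologicalKrullDim X = (s + 2 : ℕ))
    (hproj : ∃ (N : ℕ) (ι : X ⟶ CohB1.ProjSpace N k), IsClosedImmersion ι ∧ ι ≫ CohB1.ProjSpace.toSpec N k = X ↘ Spec (CommRingCat.of k))
    (δ : X → ℤ) (hδ : Cyc.IsSetup X δ) (hδη : δ (genericPoint X) = (s + 2 : ℕ))
    (L M : Fin (s + 1) → X.Modules) (hL : ∀ i, PicF.IsInvertible (L i))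
    (hLM : ∀ i, Nonempty (CohB1.tensorMod (L i) (M i) ≅ Coh.structureModule X))
    (ℒ : X.Modules) (hℒ : RefHull.IsRef1 ℒ) :
    (∑ I : Finset (Fin (s + 1)), ((-1 : ℤ) ^ I.card) •
      (Cyc.toK0CohQuot δ (s + 2 : ℕ) 0 (CohB1.tensorMod (FGA.tensorList ((I.sort (· ≤ ·)).map M)) (Coh.structureModule X)) -
        Cyc.toK0CohQuot δ (s + 2 : ℕ) 0 (CohB1.tensorMod (FGA.tensorList ((I.sort (· ≤ ·)).map M)) ℒ))) = 0 := by
  haveI : IsLocallyNoetherian X := hδ.1
  have hle : ∀ x, δ x ≤ ((s + 2 : ℕ) : ℤ) := fun x => hδη ▸ Groth.L21.RefK.le_top_dim hδ.2.2 x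
  have hM := fun i => Groth.L21.RefK.isInvertible_inverse (hLM i)
  have hO : Coh.IsCoh (Coh.structureModule X) :=
    Groth.L16.ProperFinite.isCoh_of_isInvertible (Groth.L18.Ample.isInvertible_structureModule X)
  rw [Groth.L21.RefK.alt_sum_sub_eq hle M hM hO hℒ.1]
  have h := Groth.L21.RefK.prodD_mem hδ M hM (show ((s + 2 : ℕ) : ℤ) - 1 ≤ _ by omega)
    (Groth.L21.RefK.sub_mem_Fil_of_isRef1 (b := (0 : ℤ)) hδ hnorm hδη hℒ)
  rwa [Groth.L21.RefK.Fil_le_bot (by push_cast; omega), AddSubgroup.mem_bot] at h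

end Groth.Agent.S17926
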