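import Groth.Statements.S17928
import Groth.Agent.L21.RefK.Final

set_option autoImplicit false
set_option backward.isDefEq.respectTransparency false
set_option backward.isDefEq.respectTransparency.types false
set_option linter.style.haveILetI false
universe u
open CategoryTheory CategoryTheory.Limits AlgebraicGeometry
open RefCh

namespace Groth.Agent.S17928

/-- Let k be an algebraically closed field, X an integral normal scheme of dimension n = s + 2 admitting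
a closed immersion into some P^N_k over k, δ a dimension function on X (Cyc.IsSetup) with δ(generic
point) = n, L_1, …, L_{n-1} invertible O_X-modules with inverses M_1, …, M_{n-1}, and ℒ_1, ℒ_2
coherent reflexive O_X-modules of rank one (ℒ_j = O_X(-D_j)); write ℒ_1 ⊗̂ ℒ_2 for the reflexive
hull of ℒ_1 ⊗ ℒ_2, which is O_X(-D_1 - D_2). In K(X) = K_0(Coh(X)) (classes KZero.clSub for the
property 'coherent with support of δ-dimension ≤ n', i.e. all coherent modules) put S(ℒ) = Σ_{I ⊆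
{1, …, n-1}} (-1)^{|I|} ([M_I ⊗ O_X] - [M_I ⊗ ℒ]) with M_I = ⊗_{i∈I} M_i, so that S(O_X(-D)) =
c_1(L_1) ⋯ c_1(L_{n-1}) · [O_D]. Then S(ℒ_1 ⊗̂ ℒ_2) = S(ℒ_1) + S(ℒ_2): the K(X)-valued symbol
c_1(L_1) ⋯ c_1(L_{n-1}) · [O_D] is additive, hence ℤ-linear, in the Weil divisor D. -/
theorem result (k : Type u) [Field k] [IsAlgClosed k] (X : Scheme.{u}) [X.Over (Spec (CommRingCat.of k))]
    [AlgebraicGeometry.IsIntegral X] (hnorm : Pi1.IsNormalScheme X) (s : ℕ) (hdim : topologicalKrullDim X = (s + 2 : ℕ))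
    (hproj : ∃ (N : ℕ) (ι : X ⟶ CohB1.ProjSpace N k), IsClosedImmersion ι ∧ ι ≫ CohB1.ProjSpace.toSpec N k = X ↘ Spec (CommRingCat.of k))
    (δ : X → ℤ) (hδ : Cyc.IsSetup X δ) (hδη : δ (genericPoint X) = (s + 2 : ℕ))
    (L M : Fin (s + 1) → X.Modules) (hL : ∀ i, PicF.IsInvertible (L i))
    (hLM : ∀ i, Nonempty (CohB1.tensorMod (L i) (M i) ≅ Coh.structureModule X))
    (ℒ₁ ℒ₂ : X.Modules) (h₁ : RefHull.IsRef1 ℒ₁) (h₂ : RefHull.IsRef1 ℒ₂) :
    (∑ I : Finset (Fin (s + 1)), ((-1 : ℤ) ^ I.card) •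
        (KZero.clSub (Cyc.CohLe δ (s + 2 : ℕ)) (CohB1.tensorMod (FGA.tensorList ((I.sort (· ≤ ·)).map M)) (Coh.structureModule X)) -
          KZero.clSub (Cyc.CohLe δ (s + 2 : ℕ)) (CohB1.tensorMod (FGA.tensorList ((I.sort (· ≤ ·)).map M)) (RefPow.refTensor ℒ₁ ℒ₂)))) =
      (∑ I : Finset (Fin (s + 1)), ((-1 : ℤ) ^ I.card) •
        (KZero.clSub (Cyc.CohLe δ (s + 2 : ℕ)) (CohB1.tensorMod (FGA.tensorList ((I.sort (· ≤ ·)).map M)) (Coh.structureModule X)) -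
          KZero.clSub (Cyc.CohLe δ (s + 2 : ℕ)) (CohB1.tensorMod (FGA.tensorList ((I.sort (· ≤ ·)).map M)) ℒ₁))) +
      (∑ I : Finset (Fin (s + 1)), ((-1 : ℤ) ^ I.card) •
        (KZero.clSub (Cyc.CohLe δ (s + 2 : ℕ)) (CohB1.tensorMod (FGA.tensorList ((I.sort (· ≤ ·)).map M)) (Coh.structureModule X)) -
          KZero.clSub (Cyc.CohLe δ (s + 2 : ℕ)) (CohB1.tensorMod (FGA.tensorList ((I.sort (· ≤ ·)).map M)) ℒ₂))) := by
  haveI : IsLocallyNoetherian X := hδ.1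
  have hle : ∀ x, δ x ≤ ((s + 2 : ℕ) : ℤ) := fun x => hδη ▸ Groth.L21.RefK.le_top_dim hδ.2.2 x
  have hge := Groth.L21.RefK.dim_nonneg hδ.2.2 hdim hδη
  have hM := fun i => Groth.L21.RefK.isInvertible_inverse (hLM i)
  have hO : Coh.IsCoh (Coh.structureModule X) :=
    Groth.L16.ProperFinite.isCoh_of_isInvertible (Groth.L18.Ample.isInvertible_structureModule X)
  have h12 := Groth.L15.Ref.isRef1_refTensor h₁ h₂
  have he := Groth.L21.RefK.toK0_refTensor_add (b := ((s + 2 : ℕ) : ℤ) - 2) hδ hnorm hδη rfl h₁ h₂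
  rw [← sub_eq_zero] at he
  have hz := Groth.L21.RefK.incl_mem_Fil (b := (-1 : ℤ)) (show ((s + 2 : ℕ) : ℤ) - 2 ≤ _ by omega) le_rfl
    (z := KZero.clSub (Cyc.CohLe δ (s + 2 : ℕ)) (RefPow.refTensor ℒ₁ ℒ₂) +
        KZero.clSub (Cyc.CohLe δ (s + 2 : ℕ)) (Coh.structureModule X) -
      (KZero.clSub (Cyc.CohLe δ (s + 2 : ℕ)) ℒ₁ + KZero.clSub (Cyc.CohLe δ (s + 2 : ℕ)) ℒ₂)) he
  rw [map_sub, map_add, map_add, Groth.L21.RefK.incl_clSub le_rfl ⟨h12.1, fun x _ => hle x⟩,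
    Groth.L21.RefK.incl_clSub le_rfl ⟨hO, fun x _ => hle x⟩, Groth.L21.RefK.incl_clSub le_rfl ⟨h₁.1, fun x _ => hle x⟩,
    Groth.L21.RefK.incl_clSub le_rfl ⟨h₂.1, fun x _ => hle x⟩] at hz
  have h0 := Groth.L21.RefK.prodD_mem hδ M hM (show ((s + 2 : ℕ) : ℤ) - 2 ≤ _ by omega) hz
  rw [Groth.L21.RefK.Fil_le_bot (by push_cast; omega), AddSubgroup.mem_bot] at h0
  refine Groth.L21.RefK.eq_of_mk_neg_one hge ?_
  rw [QuotientAddGroup.mk_add]
  simp only [← QuotientAddGroup.mk'_apply, map_sum, map_zsmul, map_sub]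
  refine (Groth.L21.RefK.alt_sum_sub_eq hle M hM hO h12.1).trans (Eq.trans ?_ (congrArg₂ (· + ·)
    (Groth.L21.RefK.alt_sum_sub_eq hle M hM hO h₁.1).symm (Groth.L21.RefK.alt_sum_sub_eq hle M hM hO h₂.1).symm))
  rw [← sub_eq_zero, ← map_add, ← map_sub, ← neg_eq_zero, ← map_neg]
  exact (congrArg _ (by abel)).trans h0

end Groth.Agent.S17928
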