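import Groth.Statements.S17929
import Groth.Agent.L21.RefK.Final

set_option autoImplicit false
set_option backward.isDefEq.respectTransparency false
set_option backward.isDefEq.respectTransparency.types false
set_option linter.style.haveILetI false
universe u
open CategoryTheory CategoryTheory.Limits AlgebraicGeometry
open RefCh

namespace Groth.Agent.S17929

/-- Let k be an algebraically closed field, X an integral normal scheme of dimension n = s + 2 admitting
a closed immersion into some P^N_k over k, δ a dimension function on X (Cyc.IsSetup) with δ(generic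
point) = n, L_1, …, L_s, A and B invertible O_X-modules with inverses M_1, …, M_s, A' and B' (so A'
⊗ B' is an inverse of A ⊗ B), and ℒ a coherent reflexive O_X-module of rank one (ℒ = O_X(-D)). For a
family (N_0, …, N_s) of modules put S_N(ℒ) = Σ_{I ⊆ {0, …, s}} (-1)^{|I|} ([N_I ⊗ O_X] - [N_I ⊗ ℒ])
in K(X) = K_0(Coh(X)) (classes KZero.clSub of coherent modules), N_I = ⊗_{i∈I} N_i, so that S_{(A',
M_1, …, M_s)}(O_X(-D)) = c_1(A) c_1(L_1) ⋯ c_1(L_s) · [O_D]. Then S_{(A' ⊗ B', M)}(ℒ) = S_{(A',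
M)}(ℒ) + S_{(B', M)}(ℒ): the K(X)-valued symbol c_1(L_0) c_1(L_1) ⋯ c_1(L_s) · [O_D] is additive,
hence ℤ-linear, in the invertible module L_0. -/
theorem result (k : Type u) [Field k] [IsAlgClosed k] (X : Scheme.{u}) [X.Over (Spec (CommRingCat.of k))]
    [AlgebraicGeometry.IsIntegral X] (hnorm : Pi1.IsNormalScheme X) (s : ℕ) (hdim : topologicalKrullDim X = (s + 2 : ℕ))
    (hproj : ∃ (N : ℕ) (ι : X ⟶ CohB1.ProjSpace N k), IsClosedImmersion ι ∧ ι ≫ CohB1.ProjSpace.toSpec N k = X ↘ Spec (CommRingCat.of k))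
    (δ : X → ℤ) (hδ : Cyc.IsSetup X δ) (hδη : δ (genericPoint X) = (s + 2 : ℕ))
    (L M : Fin s → X.Modules) (hL : ∀ i, PicF.IsInvertible (L i))
    (hLM : ∀ i, Nonempty (CohB1.tensorMod (L i) (M i) ≅ Coh.structureModule X))
    (A A' B B' : X.Modules) (hA : PicF.IsInvertible A) (hB : PicF.IsInvertible B)
    (hAA' : Nonempty (CohB1.tensorMod A A' ≅ Coh.structureModule X))
    (hBB' : Nonempty (CohB1.tensorMod B B' ≅ Coh.structureModule X))
    (ℒ : X.Modules) (hℒ : RefHull.IsRef1 ℒ) :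
    (∑ I : Finset (Fin (s + 1)), ((-1 : ℤ) ^ I.card) •
        (KZero.clSub (Cyc.CohLe δ (s + 2 : ℕ)) (CohB1.tensorMod (FGA.tensorList ((I.sort (· ≤ ·)).map (Fin.cons (CohB1.tensorMod A' B') M))) (Coh.structureModule X)) -
          KZero.clSub (Cyc.CohLe δ (s + 2 : ℕ)) (CohB1.tensorMod (FGA.tensorList ((I.sort (· ≤ ·)).map (Fin.cons (CohB1.tensorMod A' B') M))) ℒ))) =
      (∑ I : Finset (Fin (s + 1)), ((-1 : ℤ) ^ I.card) •
        (KZero.clSub (Cyc.CohLe δ (s + 2 : ℕ)) (CohB1.tensorMod (FGA.tensorList ((I.sort (· ≤ ·)).map (Fin.cons A' M))) (Coh.structureModule X)) -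
          KZero.clSub (Cyc.CohLe δ (s + 2 : ℕ)) (CohB1.tensorMod (FGA.tensorList ((I.sort (· ≤ ·)).map (Fin.cons A' M))) ℒ))) +
      (∑ I : Finset (Fin (s + 1)), ((-1 : ℤ) ^ I.card) •
        (KZero.clSub (Cyc.CohLe δ (s + 2 : ℕ)) (CohB1.tensorMod (FGA.tensorList ((I.sort (· ≤ ·)).map (Fin.cons B' M))) (Coh.structureModule X)) -
          KZero.clSub (Cyc.CohLe δ (s + 2 : ℕ)) (CohB1.tensorMod (FGA.tensorList ((I.sort (· ≤ ·)).map (Fin.cons B' M))) ℒ))) := by
  haveI : IsLocallyNoetherian X := hδ.1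
  have hle : ∀ x, δ x ≤ ((s + 2 : ℕ) : ℤ) := fun x => hδη ▸ Groth.L21.RefK.le_top_dim hδ.2.2 x
  have hge := Groth.L21.RefK.dim_nonneg hδ.2.2 hdim hδη
  have hM := fun i => Groth.L21.RefK.isInvertible_inverse (hLM i)
  have hA' := Groth.L21.RefK.isInvertible_inverse hAA'
  have hB' := Groth.L21.RefK.isInvertible_inverse hBB'
  have hAB := Groth.L18.GenLoc.isInvertible_tensor hA' hB'
  have hcons : ∀ {P : X.Modules}, PicF.IsInvertible P → ∀ i, PicF.IsInvertible ((Fin.cons P M : Fin (s + 1) → X.Modules) i) :=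
    fun hP i => Fin.cases hP hM i
  have hO : Coh.IsCoh (Coh.structureModule X) :=
    Groth.L16.ProperFinite.isCoh_of_isInvertible (Groth.L18.Ample.isInvertible_structureModule X)
  have hy := Groth.L21.RefK.prodD_mem hδ M hM (show ((s + 2 : ℕ) : ℤ) - 1 ≤ _ by omega)
    (Groth.L21.RefK.sub_mem_Fil_of_isRef1 (b := (-1 : ℤ)) hδ hnorm hδη hℒ)
  have h1 := Groth.L21.RefK.dQ_mem hδ hA' (by push_cast; omega) (Groth.L21.RefK.dQ_mem hδ hB' (by push_cast; omega) hy)
  rw [Groth.L21.RefK.Fil_le_bot (by push_cast; omega), AddSubgroup.mem_bot] at h1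
  refine Groth.L21.RefK.eq_of_mk_neg_one hge ?_
  rw [QuotientAddGroup.mk_add]
  simp only [← QuotientAddGroup.mk'_apply, map_sum, map_zsmul, map_sub]
  refine (Groth.L21.RefK.alt_sum_sub_eq hle _ (hcons hAB) hO hℒ.1).trans (Eq.trans ?_ (congrArg₂ (· + ·)
    (Groth.L21.RefK.alt_sum_sub_eq hle _ (hcons hA') hO hℒ.1).symm (Groth.L21.RefK.alt_sum_sub_eq hle _ (hcons hB') hO hℒ.1).symm))
  refine (Groth.L21.RefK.dQ_tensor hle hA' hB' hAB _).trans ?_
  refine (congrArg (_ - ·) h1).trans ?_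
  rw [sub_zero]
  rfl

end Groth.Agent.S17929
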