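import Groth.Statements.S1795
import Groth.Agent.L10.Shriek.Diagonal
import Groth.Agent.L29.Dual.TorInj
import Groth.Agent.S1801
import Groth.Agent.S1807

set_option autoImplicit false
set_option backward.defeqAttrib.useBackward true
set_option backward.isDefEq.respectTransparency false
set_option backward.defeqAttrib.useBackward true
set_option backward.isDefEq.respectTransparency false
universe u
open CategoryTheory
open scoped TensorProduct
open scoped TensorProduct
attribute [local instance] HasDerivedCategory.standard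
open Dual2

namespace Groth.Agent.S1795

/-- Let R → A be a ring map between Noetherian rings which is flat and of finite type, with φ^! formed
from a presentation ψ : R[x_1, …, x_n] → A as RHom_P(A, (−) ⊗^L_R P)[n] (derived base change under
its existence hypothesis, RHom_P(A, −) a right adjoint of restriction). Then ω_{A/R} = φ^!(R) is a
relative dualizing complex: it is R-perfect and RHom_{A ⊗_R A}(A, ω_{A/R} ⊗^L_A (A ⊗_R A)) ≅ A (with
the same conventions for these functors). -/
theorem result (R A : Type u) [CommRing R] [CommRing A] [IsNoetherianRing R] [IsNoetherianRing A] [Algebra R A] [Module.Flat R A] [Algebra.FinitePresentation R A] (n : ℕ) (ψ : MvPolynomial (Fin n) R →ₐ[R] A) (hψ : Function.Surjective ψ) [DRing.HasLBaseChange (algebraMap R (MvPolynomial (Fin n) R))] (Rψ : Dual.D (MvPolynomial (Fin n) R) ⥤ Dual.D A) (adj : DRing.restrictD ψ.toRingHom ⊣ Rψ) [DRing.HasLBaseChange (Algebra.TensorProduct.includeLeftRingHom : A →+* TensorProduct R A A)] (Rμ : Dual.D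 (TensorProduct R A A) ⥤ Dual.D A) (adjμ : DRing.restrictD (Algebra.TensorProduct.lmul' R (S := A)).toRingHom ⊣ Rμ) : Dual2.IsRelDualizing R A Rμ (Dual2.shriekVia n Rψ (Dual.inD R R)) := by
  let T := TensorProduct R A A
  have h1801 := Groth.Agent.S1801.result R A n ψ hψ Rψ adj
  obtain ⟨⟨a, b, hab⟩, hfin, htor, -, -⟩ := h1801
  refine ⟨⟨Groth.L29.TorInj.pc'_of_finite _ b (fun i hi => hab i (Or.inr hi)) hfin, htor⟩, ?_⟩
  haveI hRA : Algebra.FiniteType R A := Algebra.FiniteType.of_surjective ψ hψ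
  haveI : Algebra.FiniteType A T := inferInstance
  haveI : IsNoetherianRing T := Algebra.FiniteType.isNoetherianRing A T
  obtain ⟨m, ψ', hψ'⟩ := Algebra.FiniteType.iff_quotient_mvPolynomial''.1
    (show Algebra.FiniteType A T from inferInstance)
  haveI := Groth.L10.KFlatLBC.hasLBaseChange (algebraMap A (MvPolynomial (Fin m) A))
  haveI := Groth.L10.KFlatLBC.hasLBaseChange (algebraMap R A)
  obtain ⟨Rψ', ⟨adj'⟩⟩ := Groth.L10.Shriek.exists_rightAdjoint ψ'.toRingHom
  haveI := Groth.L10.KFlatLBC.hasLBaseChange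
    (Algebra.TensorProduct.includeRight : A →ₐ[R] TensorProduct R A A).toRingHom
  obtain ⟨e₁⟩ := Groth.Agent.S1807.result R A A n ψ hψ Rψ adj m ψ' hψ' Rψ' adj' (Dual.inD R R)
  obtain ⟨e₂⟩ := Groth.L10.Shriek.nonempty_lbc_inD (algebraMap R A)
  let e₃ : (DRing.LBaseChange (algebraMap R A)).obj (Dual.inD R R) ≅ Dual.inD A A :=
    e₂ ≪≫ ((DerivedCategory.singleFunctorIsoCompQ (ModuleCat.{u} A) 0).app (ModuleCat.of A A)).symm
  let μ : T →ₐ[R] A := Algebra.TensorProduct.lmul' R (S := A)
  letI : Algebra T A := μ.toRingHom.toAlgebra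
  haveI : IsScalarTower A T A := IsScalarTower.of_algebraMap_eq fun x => by
    exact (mul_one x).symm
  let χ : MvPolynomial (Fin 0) T →ₐ[T] A := MvPolynomial.aeval Fin.elim0
  have hχ : Function.Surjective χ := fun x =>
    ⟨MvPolynomial.C ((x ⊗ₜ[R] (1 : A)) : T), by
      simp only [χ, MvPolynomial.aeval_C]
      exact mul_one x⟩
  let θ : MvPolynomial (Fin 0) A →ₐ[A] A := MvPolynomial.aeval Fin.elim0
  have hθ : Function.Surjective θ := fun x => ⟨MvPolynomial.C x, by simp [θ]⟩
  haveI := Groth.L10.KFlatLBC.hasLBaseChange (algebraMap T (MvPolynomial (Fin 0) T))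
  haveI := Groth.L10.KFlatLBC.hasLBaseChange (algebraMap A (MvPolynomial (Fin 0) A))
  obtain ⟨Rχ, ⟨adjχ⟩⟩ := Groth.L10.Shriek.exists_rightAdjoint χ.toRingHom
  obtain ⟨Rθ, ⟨adjθ⟩⟩ := Groth.L10.Shriek.exists_rightAdjoint θ.toRingHom
  haveI : DerivedCategory.IsGE (Dual.inD A A) 0 := inferInstance
  obtain ⟨e₄⟩ := Groth.L10.Shriek.nonempty_comp A T A m ψ' hψ' adj' 0 χ hχ adjχ 0 θ hθ adjθ (Dual.inD A A) 0
  obtain ⟨e₅⟩ := Groth.L10.Shriek.nonempty_shriek_id θ adjθ (Dual.inD A A)
  obtain ⟨e₆⟩ := Groth.L10.Shriek.nonempty_shriek_zero χ adjχ (Rμ := Rμ) adjμ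
    (Dual2.shriekVia m Rψ' (Dual.inD A A))
  let σ : T →+* T := (Algebra.TensorProduct.comm R A A).toAlgHom.toRingHom
  have hσ : ∀ x, σ (σ x) = x := fun x => by
    induction x using TensorProduct.induction_on with
    | zero => simp
    | add u v hu hv => rw [map_add, map_add, hu, hv]
    | tmul p q => rfl
  have hμσ : μ.toRingHom = μ.toRingHom.comp σ := by
    refine RingHom.ext fun x => ?_
    induction x using TensorProduct.induction_on with
    | zero => simp
    | add u v hu hv => rw [map_add, map_add, hu, hv]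
    | tmul p q => exact mul_comm p q
  haveI := Groth.L10.KFlatLBC.hasLBaseChange σ
  obtain ⟨e₇⟩ := Groth.L10.Shriek.nonempty_lbc_comp
    (Algebra.TensorProduct.includeRight : A →ₐ[R] TensorProduct R A A).toRingHom σ
    (Algebra.TensorProduct.includeLeftRingHom : A →+* TensorProduct R A A)
    (RingHom.ext fun x => rfl)
  obtain ⟨e₈⟩ := Groth.L10.Shriek.nonempty_swap σ hσ μ.toRingHom hμσ adjμ
    ((DRing.LBaseChange (Algebra.TensorProduct.includeRight : A →ₐ[R] TensorProduct R A A).toRingHom).obj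
      (Dual2.shriekVia n Rψ (Dual.inD R R)))
  obtain ⟨adjψ''⟩ : Nonempty (DRing.restrictD ψ'.toRingHom ⊣ Rψ') := ⟨adj'⟩
  exact ⟨Rμ.mapIso (e₇.app _).symm ≪≫ e₈ ≪≫ Rμ.mapIso e₁ ≪≫
    Rμ.mapIso ((shiftFunctor (Dual.D T) (m : ℤ)).mapIso
      (Rψ'.mapIso ((DRing.LBaseChange (algebraMap A (MvPolynomial (Fin m) A))).mapIso e₃))) ≪≫
    e₆.symm ≪≫ e₄.symm ≪≫ e₅⟩

end Groth.Agent.S1795
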