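import Groth.Statements.S1793
import Groth.Agent.L10.RelDual.EndMain
import Groth.Agent.L24.Alg.FlatModel
import Groth.Agent.S1795
import Groth.Agent.S1801

set_option linter.style.haveILetI false
set_option maxHeartbeats 1600000
set_option synthInstance.maxHeartbeats 400000

set_option autoImplicit false
universe u
open CategoryTheory
open scoped TensorProduct
attribute [local instance] HasDerivedCategory.standard
open Dual2

namespace Groth.Agent.S1793

/-- Let R → A be a ring map which is flat and of finite presentation and K a relative dualizing complex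
(relative dualizing: R-perfect with RHom_{A⊗_R A}(A, K ⊗^L_A (A ⊗_R A)) ≅ A, the base change taken
along the left coprojection under its existence hypothesis and RHom_{A⊗_R A}(A, −) given as a right
adjoint Rμ of restriction along the multiplication map). Then A → RHom_A(K, K) is an isomorphism: a
↦ a·id is a bijection from A onto End(K) in D(A), and there are no nonzero maps K → K[i] for i ≠ 0. -/
theorem result (R A : Type u) [CommRing R] [CommRing A] [Algebra R A] [Module.Flat R A] [Algebra.FinitePresentation R A] [DRing.HasLBaseChange (Algebra.TensorProduct.includeLeftRingHom : A →+* TensorProduct R A A)] (Rμ : Dual.D (TensorProduct R A A) ⥤ Dual.D A) (adjμ : DRing.restrictD (Algebra.TensorProduct.lmul' R (S := A)).toRingHom ⊣ Rμ) (K : Dual.D A) (hK : Dual2.IsRelDualizing R A Rμ K) : Function.Bijective (fun a : A => a • (CategoryTheory.CategoryStruct.id K)) ∧ ∀ i : ℤ, i ≠ 0 → Subsingleton (K ⟶ K⟦i⟧) := by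
  obtain ⟨R₀, A₀, _, _, hfg, hfp, hflat, ⟨e⟩⟩ := Groth.L24.Alg.exists_subalgebra_fg_flat ℤ (B := R) A
  haveI : IsNoetherianRing R₀ := by
    haveI : Algebra.FiniteType ℤ R₀ := (Subalgebra.fg_iff_finiteType R₀).1 hfg
    exact Algebra.FiniteType.isNoetherianRing ℤ R₀
  haveI : IsNoetherianRing A₀ := Algebra.FiniteType.isNoetherianRing R₀ A₀
  obtain ⟨n, ψ, hψ⟩ := Algebra.FiniteType.iff_quotient_mvPolynomial''.1
    (show Algebra.FiniteType R₀ A₀ from inferInstance)
  haveI := Groth.L10.KFlatLBC.hasLBaseChange (algebraMap R₀ (MvPolynomial (Fin n) R₀))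
  obtain ⟨Rψ, ⟨adjψ⟩⟩ := Groth.L10.Shriek.exists_rightAdjoint ψ.toRingHom
  haveI := Groth.L10.KFlatLBC.hasLBaseChange (Algebra.TensorProduct.includeLeftRingHom : A₀ →+* A₀ ⊗[R₀] A₀)
  obtain ⟨Rμ₀, ⟨adjμ₀⟩⟩ := Groth.L10.Shriek.exists_rightAdjoint
    (Algebra.TensorProduct.lmul' R₀ (S := A₀)).toRingHom
  have hK₀ := Groth.Agent.S1795.result R₀ A₀ n ψ hψ Rψ adjψ Rμ₀ adjμ₀
  obtain ⟨-, -, -, ⟨hb, hs⟩, -⟩ := Groth.Agent.S1801.result R₀ A₀ n ψ hψ Rψ adjψ
  letI algA : Algebra A₀ A := (e.symm.toRingEquiv.toRingHom.comp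
    (Algebra.TensorProduct.includeRight : A₀ →ₐ[R₀] R ⊗[R₀] A₀).toRingHom).toAlgebra
  haveI : IsScalarTower R₀ A₀ A := IsScalarTower.of_algebraMap_eq fun r => by
    change algebraMap R A (algebraMap R₀ R r) = e.symm (1 ⊗ₜ[R₀] algebraMap R₀ A₀ r)
    rw [← Algebra.TensorProduct.tmul_one_eq_one_tmul]
    exact (e.symm.commutes _).symm
  letI : Algebra A₀ (R ⊗[R₀] A₀) := Algebra.TensorProduct.rightAlgebra
  haveI : Algebra.IsPushout R₀ R A₀ A :=
    Algebra.IsPushout.of_equiv (h := TensorProduct.isPushout) e.symm (RingHom.ext fun x => rfl)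
  haveI := Groth.L10.KFlatLBC.hasLBaseChange (algebraMap A₀ A)
  obtain ⟨hb', hs'⟩ := Groth.L10.RelDual.end_baseChange R₀ R A₀ A hK₀.1 hb hs
  obtain ⟨j⟩ := Groth.L10.RelDual.nonempty_unique R A Rμ adjμ _ K
    (Groth.L10.RelDual.isRelDualizing_baseChange R₀ R A₀ A adjμ₀ adjμ hK₀) hK
  refine ⟨?_, fun i hi => ?_⟩
  · have h := (Linear.homCongr A j j).bijective.comp hb'
    convert h using 1
    funext a
    simp [Linear.homCongr_apply]
  · haveI := hs' i hi
    exact (Iso.homCongr j ((CategoryTheory.shiftFunctor (Dual.D A) i).mapIso j)).symm.subsingleton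

end Groth.Agent.S1793
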