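import Groth.Statements.S7602
import Groth.Agent.L07.FieldCharts
import Groth.Agent.S2690
import Mathlib.AlgebraicGeometry.Geometrically.Reduced
import Mathlib.RingTheory.Nilpotent.GeometricallyReduced

set_option autoImplicit false
set_option maxSynthPendingDepth 3
set_option backward.isDefEq.respectTransparency false
set_option backward.isDefEq.respectTransparency.types false
open scoped TensorProduct
set_option linter.style.haveILetI false
universe u
open CategoryTheory CategoryTheory.Limits AlgebraicGeometry
open Variety

namespace Groth.Agent.S7602

/-- Let X be a normal scheme over a field k and K an extension field of k which is separable over k in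
the sense that Spec K → Spec k is geometrically reduced (K ⊗_k k' reduced for every field k' over
k). Then X_K is a normal scheme. -/
theorem result (k : Type u) [Field k] (X : Scheme.{u}) [X.Over (Spec (CommRingCat.of k))] (hX : Pi1.IsNormalScheme X)
    (K : Type u) [Field K] [Algebra k K] [GeometricallyReduced (Spec.map (CommRingCat.ofHom (algebraMap k K)))] :
    Pi1.IsNormalScheme (Curv2.bc k X K) := by
  haveI : Algebra.IsGeometricallyReduced k K := by
    rw [Algebra.isGeometricallyReduced_field_iff]
    let Ω := AlgebraicClosure k
    have hP := isPullback_SpecMap_of_isPushout _ _ _ _ (CommRingCat.isPushout_tensorProduct k K Ω)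
    haveI : IsReduced (Spec (CommRingCat.of (K ⊗[k] Ω))) :=
      GeometricallyReduced.geometrically_isReduced (f := Spec.map (CommRingCat.ofHom (algebraMap k K)))
        (Spec.map (CommRingCat.ofHom (algebraMap k Ω))) _ _ hP
    haveI : _root_.IsReduced (K ⊗[k] Ω) := (affine_isReduced_iff (CommRingCat.of (K ⊗[k] Ω))).mp inferInstance
    exact isReduced_of_injective (Algebra.TensorProduct.comm k Ω K) (Algebra.TensorProduct.comm k Ω K).injective
  exact Groth.L07.FieldCharts.isNormalScheme_bc k X K fun C _ _ i _ w =>
    Groth.Agent.S2690.result k C K (Groth.L07.FieldCharts.normalRing_of_normalScheme hX i)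

end Groth.Agent.S7602
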