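import Groth.Statements.S17930
import Groth.Agent.L21.RefK.BaseChange
import Groth.Agent.L21.RR.BaseChange
import Groth.Agent.L02.Num.Pull
import Groth.Agent.L02.Quot.Bounded
import Groth.Agent.L17.Strat.Hilbert
import Groth.Agent.L08.Cube.SliceFibre
import Groth.Agent.S7602
import Groth.Agent.L03.ShStab.BC

set_option autoImplicit false
set_option backward.isDefEq.respectTransparency false
set_option linter.style.haveILetI false
universe u
open CategoryTheory CategoryTheory.Limits AlgebraicGeometry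
open RefCh

namespace Groth.Agent.S17930

/-- Let k be an algebraically closed field of characteristic p > 0, X an integral normal scheme of
dimension s + 2 admitting a closed immersion into some P^N_k over k, L_1, …, L_s invertible
O_X-modules with inverses M_1, …, M_s, E a coherent reflexive O_X-module and (G_m) its reflexive
Frobenius pull-backs (G_0 = E, G_{m+1} ≅ (F_X^* G_m)^**). Let K ⊇ k be an algebraically closed
extension field, X_K = X ×_k Spec K with projection π : X_K → X, and (G'_m) reflexive Frobenius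
pull-backs of E_K = π^*E on X_K (G'_0 = π^*E, G'_{m+1} ≅ (F_{X_K}^* G'_m)^**). If χ(c_1(L_1) ⋯
c_1(L_s) · [G_m]) / p^{2m} → b (alternating sums FGA.intNum over k in the M_i) and χ(c_1(π^*L_1) ⋯
c_1(π^*L_s) · [G'_m]) / p^{2m} → b' (alternating sums FGA.intNum over K in the π^*M_i), then b' = b:
the number ∫_X ch_2(E) L_1 ⋯ L_s is unchanged by algebraically closed base field extension. -/
theorem result (k : Type u) [Field k] [IsAlgClosed k] (X : Scheme.{u}) [X.Over (Spec (CommRingCat.of k))]
    [AlgebraicGeometry.IsIntegral X] (hnorm : Pi1.IsNormalScheme X) (s : ℕ) (hdim : topologicalKrullDim X = (s + 2 : ℕ))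
    (hproj : ∃ (N : ℕ) (ι : X ⟶ CohB1.ProjSpace N k), IsClosedImmersion ι ∧ ι ≫ CohB1.ProjSpace.toSpec N k = X ↘ Spec (CommRingCat.of k))
    (p : ℕ) [Fact p.Prime] [CharP k p] [FrobSch.IsCharP X p]
    (L M : Fin s → X.Modules) (hL : ∀ i, PicF.IsInvertible (L i))
    (hLM : ∀ i, Nonempty (CohB1.tensorMod (L i) (M i) ≅ Coh.structureModule X))
    (E : X.Modules) (hE : Coh.IsCoh E) (hEr : RefHull.IsReflexive E)
    (G : ℕ → X.Modules) (hG0 : G 0 = E)
    (hG : ∀ m, Nonempty (G (m + 1) ≅ RefHull.ddual ((Scheme.Modules.pullback (FrobSch.frob X p)).obj (G m)))) (b : ℝ)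
    (hb : Filter.Tendsto (fun m : ℕ => (FGA.intNum k X (s + 2) M (G m) : ℝ) / ((p : ℝ) ^ (2 * m))) Filter.atTop (nhds b))
    (K : Type u) [Field K] [IsAlgClosed K] [Algebra k K] [FrobSch.IsCharP (Curv2.bc k X K) p]
    (G' : ℕ → (Curv2.bc k X K).Modules) (hG'0 : G' 0 = (Scheme.Modules.pullback (Curv2.bcFst k X K)).obj E)
    (hG' : ∀ m, Nonempty (G' (m + 1) ≅ RefHull.ddual ((Scheme.Modules.pullback (FrobSch.frob (Curv2.bc k X K) p)).obj (G' m))))
    (b' : ℝ)
    (hb' : letI : (Curv2.bc k X K).Over (Spec (CommRingCat.of K)) := ⟨Curv2.bcSnd k X K⟩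
      Filter.Tendsto (fun m : ℕ => (FGA.intNum K (Curv2.bc k X K) (s + 2) (fun i => (Scheme.Modules.pullback (Curv2.bcFst k X K)).obj (M i)) (G' m) : ℝ) / ((p : ℝ) ^ (2 * m))) Filter.atTop (nhds b')) :
    b' = b := by
  haveI := Groth.L21.RefK.proper_of_hproj k hproj
  haveI := Groth.L21.RefK.isLocallyNoetherian_of_hproj k hproj
  letI : (Curv2.bc k X K).Over (Spec (CommRingCat.of K)) := ⟨Curv2.bcSnd k X K⟩
  let π := Curv2.bcFst k X K
  have sq : IsPullback π (Curv2.bc k X K ↘ Spec (CommRingCat.of K)) (X ↘ Spec (CommRingCat.of k))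
      (Spec.map (CommRingCat.ofHom (algebraMap k K))) := IsPullback.of_hasPullback _ _
  haveI := Groth.L08.Cube.geometricallyIntegral_of_isAlgClosed (X ↘ Spec (CommRingCat.of k))
  haveI : AlgebraicGeometry.IsIntegral (Curv2.bc k X K) := GeometricallyIntegral.geometrically_isIntegral _ _ _ sq
  haveI : IsProper (Curv2.bc k X K ↘ Spec (CommRingCat.of K)) :=
    MorphismProperty.of_isPullback (P := @IsProper) sq inferInstance
  haveI : IsLocallyNoetherian (Curv2.bc k X K) :=
    LocallyOfFiniteType.isLocallyNoetherian (Curv2.bc k X K ↘ Spec (CommRingCat.of K))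
  haveI : GeometricallyReduced (Spec.map (CommRingCat.ofHom (algebraMap k K))) :=
    ⟨fun L _ x Z fst snd h => by
      haveI := Groth.L25.GeomRed.isReduced_pullback (Spec.map (CommRingCat.ofHom (algebraMap k K))) x
      exact isReduced_of_isOpenImmersion h.isoPullback.hom⟩
  haveI : Flat (Spec.map (CommRingCat.ofHom (algebraMap k K))) := Groth.L03.ShStab.BC.flat_specMap K
  haveI : Flat π := MorphismProperty.of_isPullback (P := @Flat) sq.flip inferInstance
  have hY : Pi1.IsNormalScheme (Curv2.bc k X K) := Groth.Agent.S7602.result k X hnorm K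
  have hiso : ∀ m, Coh.IsCoh (G m) ∧ RefHull.IsReflexive (G m) ∧
      Nonempty (G' m ≅ (Scheme.Modules.pullback π).obj (G m)) := by
    intro m
    induction m with
    | zero => exact ⟨hG0 ▸ hE, hG0 ▸ hEr, ⟨eqToIso (by rw [hG'0, hG0])⟩⟩
    | succ m ih =>
      obtain ⟨hc, hr, ⟨i⟩⟩ := ih
      obtain ⟨j⟩ := hG m
      obtain ⟨j'⟩ := hG' m
      have hP := Groth.L16.AffineBC.isCoh_pullback (FrobSch.frob X p) hc
      have hPd := Groth.L15.Ref.isCoh_dual (Groth.L15.Ref.isCoh_dual hP)
      exact ⟨Groth.L14.Quot.isCoh_of_iso j.symm hPd,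
        Groth.L21.RefK.isReflexive_of_iso j.symm hPd (Groth.L15.Ref.isReflexive_ddual hP),
        Groth.L21.RefK.nonempty_frobStep_pullback p π hnorm hY hc hr j i j'⟩
  have hM := fun i => Groth.L21.RefK.isInvertible_inverse (hLM i)
  have hval : ∀ m, FGA.intNum K (Curv2.bc k X K) (s + 2) (fun i => (Scheme.Modules.pullback π).obj (M i)) (G' m) =
      FGA.intNum k X (s + 2) M (G m) := fun m => Finset.sum_congr rfl fun I _ => by
    obtain ⟨hc, -, ⟨i⟩⟩ := hiso m
    obtain ⟨t⟩ := Groth.L02.Num.nonempty_pullback_tensorList π M (I.sort (· ≤ ·))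
    have hT := Groth.L21.RefK.isInvertible_tensorList ((I.sort (· ≤ ·)).map M) fun N hN => by
      obtain ⟨a, -, rfl⟩ := List.mem_map.1 hN
      exact hM a
    rw [Groth.L17.Strat.eulerCharLE_iso (Groth.L00.Tensor.tensorIso t i ≪≫
        Groth.L29.DC.PullTensor.pullTensor π _ _) (s + 2),
      Groth.L02.Quot.Bounded.eulerCharLE_pullback π sq
        (Groth.L15.Ref.isCoh_tensorMod (Groth.L16.ProperFinite.isCoh_of_isInvertible hT) hc) (s + 2)]
  exact tendsto_nhds_unique hb' (hb.congr fun m => by rw [hval m])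

end Groth.Agent.S17930
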