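import Groth.Statements.S17933
import Groth.Agent.L21.MultCrv.Basic

set_option autoImplicit false
universe u
open MultCrv

namespace Groth.Agent.S17933

/-- Let R be a discrete valuation ring, n ≥ 1, A = R[X]/(X^n) with z the class of X, and M a finitely
generated A-module. Then M is torsion-free as an R-module if and only if the submodule M^(1) of
elements killed by z is a free R-module. (This is the statement at a closed point of the sheaf
statement: for a primitive multiple curve of multiplicity n the local ring at a closed point is of
the form R[X]/(X^n) with R the local ring of the reduced smooth curve, torsion-freeness is the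
absence of sections with finite support, and local freeness on the reduced curve is freeness of the
stalk; the row is stated for every discrete valuation ring R.) -/
theorem result (R : Type u) [CommRing R] [IsDomain R] [IsDiscreteValuationRing R] (n : ℕ) (hn : 1 ≤ n) (M : Type u) [AddCommGroup M] [Module (MultCrv.Rn R n) M] [Module R M] [IsScalarTower R (MultCrv.Rn R n) M] [Module.Finite (MultCrv.Rn R n) M] : Module.IsTorsionFree R M ↔ Module.Free R ↥(MultCrv.filt2 R n M 1) := by
  haveI := Groth.L21.MultCrv.finite_R (R := R) (n := n) (M := ↥(filt2 R n M 1))
  constructor
  · intro h
    haveI : Module.IsTorsionFree R ↥(filt2 R n M 1) :=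
      Function.Injective.moduleIsTorsionFree (fun x => (x : M)) Subtype.val_injective (fun _ _ => rfl)
    exact Groth.L21.MultCrv.free_R (R := R) (n := n) (M := ↥(filt2 R n M 1))
  · intro h
    refine Module.isTorsionFree_iff_smul_eq_zero.2 fun a m hm => ?_
    by_cases ha : a = 0
    · exact Or.inl ha
    refine Or.inr ?_
    suffices key : ∀ k, z R n ^ k • m = 0 → m = 0 by
      exact key n (by rw [Groth.L21.MultCrv.z_pow_self]; exact zero_smul (Rn R n) m)
    intro k
    induction k with
    | zero => intro h0; simpa using h0
    | succ k ih =>
      intro h0
      apply ih
      have hmem : z R n ^ k • m ∈ filt2 R n M 1 := by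
        rw [Groth.L21.MultCrv.mem_filt2, pow_one, smul_smul, ← pow_succ']
        exact h0
      have hz : a • (⟨z R n ^ k • m, hmem⟩ : ↥(filt2 R n M 1)) = 0 := by
        apply Subtype.ext
        change a • z R n ^ k • m = 0
        rw [smul_comm, hm, smul_zero]
      have := (Module.isTorsionFree_iff_smul_eq_zero.1 inferInstance a _ hz).resolve_left ha
      exact congrArg Subtype.val this

end Groth.Agent.S17933
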