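import Groth.Statements.S17935
import Groth.Agent.L21.MultCrv.Basic
import Mathlib.LinearAlgebra.Dual.Lemmas

set_option autoImplicit false
universe u
open MultCrv

namespace Groth.Agent.S17935

/-- Let R be a discrete valuation ring, n ≥ 1, A = R[X]/(X^n), and M a finitely generated A-module. Then
M is reflexive over A (the evaluation map into the double A-dual is bijective) if and only if M is
torsion-free as an R-module. (Statement at a closed point of the sheaf statement on a primitive
multiple curve of multiplicity n, whose local rings are of the form R[X]/(X^n) with R the local ring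
of the reduced smooth curve, torsion-freeness of a coherent sheaf there meaning no nonzero subsheaf
with finite support; stated for every discrete valuation ring R.) -/
theorem result (R : Type u) [CommRing R] [IsDomain R] [IsDiscreteValuationRing R] (n : ℕ) (hn : 1 ≤ n) (M : Type u) [AddCommGroup M] [Module (MultCrv.Rn R n) M] [Module R M] [IsScalarTower R (MultCrv.Rn R n) M] [Module.Finite (MultCrv.Rn R n) M] : Module.IsReflexive (MultCrv.Rn R n) M ↔ Module.IsTorsionFree R M := by
  constructor
  · intro h
    haveI := Groth.L21.MultCrv.isTorsionFree_Rn R n hn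
    refine Module.isTorsionFree_iff_smul_eq_zero.2 fun a m hm => ?_
    by_cases ha : a = 0
    · exact Or.inl ha
    refine Or.inr ((Module.bijective_dual_eval (Rn R n) M).injective ?_)
    rw [map_zero]
    refine LinearMap.ext fun ψ => ?_
    have hψ : a • ψ m = 0 := by rw [← LinearMap.map_smul_of_tower ψ, hm, map_zero]
    exact (Module.isTorsionFree_iff_smul_eq_zero.1 inferInstance a _ hψ).resolve_left ha
  · intro h
    haveI := Groth.L21.MultCrv.finite_R (R := R) (n := n) (M := M)
    haveI := Groth.L21.MultCrv.free_R (R := R) (n := n) (M := M)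
    refine ⟨⟨?_, fun Θ => ?_⟩⟩
    · intro x y hxy
      rw [← sub_eq_zero] at hxy ⊢
      rw [← map_sub] at hxy
      refine (Module.forall_dual_apply_eq_zero_iff R (x - y)).1 fun φ => ?_
      have := LinearMap.congr_fun hxy (Groth.L21.MultCrv.dualLift hn φ)
      rw [Module.Dual.eval_apply, LinearMap.zero_apply] at this
      rw [← Groth.L21.MultCrv.eps_dualLift hn φ (x - y), this, map_zero]
    · let lift : Module.Dual R M →ₗ[R] Module.Dual (Rn R n) M :=
        { toFun := fun φ => Groth.L21.MultCrv.dualLift hn φ
          map_add' := fun φ φ' => Groth.L21.MultCrv.hom_ext_eps hn fun m => by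
            simp only [LinearMap.add_apply, map_add, Groth.L21.MultCrv.eps_dualLift]
          map_smul' := fun a φ => Groth.L21.MultCrv.hom_ext_eps hn fun m => by
            simp only [RingHom.id_apply, LinearMap.smul_apply, map_smul, Groth.L21.MultCrv.eps_dualLift] }
      obtain ⟨m, hm⟩ := (Module.evalEquiv R M).surjective
        (Groth.L21.MultCrv.epsComp hn Θ ∘ₗ lift)
      refine ⟨m, Groth.L21.MultCrv.hom_ext_eps hn fun ψ => ?_⟩
      have h1 := LinearMap.congr_fun hm (Groth.L21.MultCrv.epsComp hn ψ)
      have h2 : Groth.L21.MultCrv.dualLift hn (Groth.L21.MultCrv.epsComp hn ψ) = ψ :=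
        Groth.L21.MultCrv.hom_ext_eps hn fun x => by
          rw [Groth.L21.MultCrv.eps_dualLift]; rfl
      simp only [Module.evalEquiv_apply, Module.Dual.eval_apply, LinearMap.comp_apply, lift,
        LinearMap.coe_mk, AddHom.coe_mk, h2] at h1
      exact h1

end Groth.Agent.S17935
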