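import Groth.Statements.S17939
import Groth.Agent.L21.MultCrv.Ext

set_option autoImplicit false
universe u
open MultCrv

namespace Groth.Agent.S17939

open CategoryTheory in
/-- Let R be a discrete valuation ring, n ≥ 1, A = R[X]/(X^n) with z the class of X, and M, N finitely
generated A-modules. Then for every i ≥ 2, z^(n-1) kills Ext^i_A(M, N). (Statement at a closed point
of the sheaf statement on a primitive multiple curve of multiplicity n, whose local rings are of the
form R[X]/(X^n): the higher local Ext sheaves of coherent sheaves are killed by the (n-1)-st power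
of the ideal of the reduced curve; stated for every discrete valuation ring R.) -/
theorem result (R : Type u) [CommRing R] [IsDomain R] [IsDiscreteValuationRing R] (n : ℕ) (hn : 1 ≤ n) (M N : Type u) [AddCommGroup M] [Module (MultCrv.Rn R n) M] [Module.Finite (MultCrv.Rn R n) M] [AddCommGroup N] [Module (MultCrv.Rn R n) N] [Module.Finite (MultCrv.Rn R n) N] (i : ℕ) (hi : 2 ≤ i) (x : Abelian.Ext (ModuleCat.of (MultCrv.Rn R n) M) (ModuleCat.of (MultCrv.Rn R n) N) i) : (MultCrv.z R n ^ (n - 1)) • x = 0 := by
  obtain ⟨j, rfl⟩ : ∃ j, i = (j + 1) + 1 := ⟨i - 2, by omega⟩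
  letI : Module R M := Module.compHom M (algebraMap R (Rn R n))
  haveI : IsScalarTower R (Rn R n) M := 
    ⟨fun r a m => (congrArg (· • m) (Algebra.smul_def r a)).trans (mul_smul _ _ _)⟩
  obtain ⟨r, f, hf, hKfin, hKtf⟩ := Groth.L21.MultCrv.exists_cover (R := R) hn M
  have hS := LinearMap.shortExact_shortComplexKer hf
  haveI : CategoryTheory.Projective f.shortComplexKer.X₂ :=
    ModuleCat.projective_of_free (Pi.basisFun (Rn R n) (Fin r))
  obtain ⟨y, rfl⟩ := CategoryTheory.Abelian.Ext.contravariant_sequence_exact₃ hS _ x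
    (CategoryTheory.Abelian.Ext.eq_zero_of_projective _) (add_comm 1 (j + 1))
  rw [← CategoryTheory.Abelian.Ext.comp_smul,
    Groth.L21.MultCrv.zpow_smul_ext_eq_zero hn ↥(LinearMap.ker f) N j y,
    CategoryTheory.Abelian.Ext.comp_zero]

end Groth.Agent.S17939
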