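import Groth.Statements.S1794
import Groth.Agent.L10.RelDual.BaseChangeMain
import Groth.Agent.L24.Alg.FlatModel
import Groth.Agent.S1795

set_option linter.style.haveILetI false
set_option maxHeartbeats 1600000
set_option synthInstance.maxHeartbeats 400000

set_option autoImplicit false
universe u
open CategoryTheory
open scoped TensorProduct
attribute [local instance] HasDerivedCategory.standard
open Dual2

namespace Groth.Agent.S1794

/-- Let R → A be a ring map which is flat and of finite presentation. (1) There exists a relative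
dualizing complex K (relative dualizing: R-perfect with RHom_{A⊗_R A}(A, K ⊗^L_A (A ⊗_R A)) ≅ A, the
base change taken along the left coprojection under its existence hypothesis and RHom_{A⊗_R A}(A, −)
given as a right adjoint Rμ of restriction along the multiplication map). (2) For any ring map R →
R', with A' = R' ⊗_R A and assuming the derived base change D(A) → D(A') exists, the base change of
such a K is a relative dualizing complex for R' → A' (for any choice of the corresponding right
adjoint over A' ⊗_{R'} A'). -/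
theorem result (R A : Type u) [CommRing R] [CommRing A] [Algebra R A] [Module.Flat R A] [Algebra.FinitePresentation R A] [DRing.HasLBaseChange (Algebra.TensorProduct.includeLeftRingHom : A →+* TensorProduct R A A)] (Rμ : Dual.D (TensorProduct R A A) ⥤ Dual.D A) (adjμ : DRing.restrictD (Algebra.TensorProduct.lmul' R (S := A)).toRingHom ⊣ Rμ) : (∃ K : Dual.D A, Dual2.IsRelDualizing R A Rμ K) ∧ ∀ (K : Dual.D A), Dual2.IsRelDualizing R A Rμ K → ∀ (R' : Type u) [CommRing R'] [Algebra R R'] [DRing.HasLBaseChange (Algebra.TensorProduct.includeRight : A →ₐ[R] R' ⊗[R] A).toRingHom] [DRing.HasLBaseChange (Algebra.TensorProduct.includeLeftRingHom : R' ⊗[R] A →+* TensorProduct R' (R' ⊗[R] A) (R' ⊗[R] A))] (Rμ' : Dual.D (TensorProduct R' (R' ⊗[R] A) (R' ⊗[R] A)) ⥤ Dual.D (R' ⊗[R] A)), (DRing.restrictD (Algebra.TensorProduct.lmul' R' (S := R' ⊗[R] A)).toRingHom ⊣ Rμ') → Dual2.IsRelDualizing R' (R' ⊗[R] A) Rμ' ((DRing.LBaseChange (Algebra.TensorProduct.includeRight : A →ₐ[R] R' ⊗[R] A).toRingHom).obj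 K) := by
  refine ⟨?_, fun K hK R' _ _ h₁ h₂ Rμ' adjμ' => ?_⟩
  · obtain ⟨R₀, A₀, _, _, hfg, hfp, hflat, ⟨e⟩⟩ := Groth.L24.Alg.exists_subalgebra_fg_flat ℤ (B := R) A
    haveI : IsNoetherianRing R₀ := by
      haveI : Algebra.FiniteType ℤ R₀ := (Subalgebra.fg_iff_finiteType R₀).1 hfg
      exact Algebra.FiniteType.isNoetherianRing ℤ R₀
    haveI : IsNoetherianRing A₀ := Algebra.FiniteType.isNoetherianRing R₀ A₀
    obtain ⟨n, ψ, hψ⟩ := Algebra.FiniteType.iff_quotient_mvPolynomial''.1
      (show Algebra.FiniteType R₀ A₀ from inferInstance)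
    haveI := Groth.L10.KFlatLBC.hasLBaseChange (algebraMap R₀ (MvPolynomial (Fin n) R₀))
    obtain ⟨Rψ, ⟨adjψ⟩⟩ := Groth.L10.Shriek.exists_rightAdjoint ψ.toRingHom
    haveI := Groth.L10.KFlatLBC.hasLBaseChange (Algebra.TensorProduct.includeLeftRingHom : A₀ →+* A₀ ⊗[R₀] A₀)
    obtain ⟨Rμ₀, ⟨adjμ₀⟩⟩ := Groth.L10.Shriek.exists_rightAdjoint
      (Algebra.TensorProduct.lmul' R₀ (S := A₀)).toRingHom
    have hK₀ := Groth.Agent.S1795.result R₀ A₀ n ψ hψ Rψ adjψ Rμ₀ adjμ₀
    letI algA : Algebra A₀ A := (e.symm.toRingEquiv.toRingHom.comp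
      (Algebra.TensorProduct.includeRight : A₀ →ₐ[R₀] R ⊗[R₀] A₀).toRingHom).toAlgebra
    haveI : IsScalarTower R₀ A₀ A := IsScalarTower.of_algebraMap_eq fun r => by
      change algebraMap R A (algebraMap R₀ R r) = e.symm (1 ⊗ₜ[R₀] algebraMap R₀ A₀ r)
      rw [← Algebra.TensorProduct.tmul_one_eq_one_tmul]
      exact (e.symm.commutes _).symm
    letI : Algebra A₀ (R ⊗[R₀] A₀) := Algebra.TensorProduct.rightAlgebra
    haveI : Algebra.IsPushout R₀ R A₀ A :=
      Algebra.IsPushout.of_equiv (h := TensorProduct.isPushout) e.symm (RingHom.ext fun x => rfl)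
    haveI := Groth.L10.KFlatLBC.hasLBaseChange (algebraMap A₀ A)
    exact ⟨_, Groth.L10.RelDual.isRelDualizing_baseChange R₀ R A₀ A adjμ₀ adjμ hK₀⟩
  · letI : Algebra A (R' ⊗[R] A) := Algebra.TensorProduct.rightAlgebra
    haveI : DRing.HasLBaseChange (algebraMap A (R' ⊗[R] A)) := h₁
    exact Groth.L10.RelDual.isRelDualizing_baseChange R R' A (R' ⊗[R] A) adjμ adjμ' hK

end Groth.Agent.S1794
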