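import Groth.Statements.S17940
import Groth.Agent.L21.MultCrv.Kernel

set_option autoImplicit false
universe u
open MultCrv

namespace Groth.Agent.S17940

/-- Let R be a discrete valuation ring, n ≥ 1, A = R[X]/(X^n) with z the class of X, and M an A-module
that is quasi-free of type (m_1, …, m_n), i.e. isomorphic to the direct sum of m_i copies of
A/(z^i). Let φ be a surjective A-linear map from a finitely generated free module A^r onto M that is
bijective modulo z (the preimage of zM is zA^r). Then the kernel of φ is quasi-free of type
(m_{n-1}, m_{n-2}, …, m_1, 0). (Statement at a closed point of the sheaf statement on a primitive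
multiple curve of multiplicity n with local rings R[X]/(X^n), for the kernel of a surjection from a
vector bundle onto a quasi locally free sheaf that is an isomorphism on the reduced curve; stated
for every discrete valuation ring R.) -/
theorem result (R : Type u) [CommRing R] [IsDomain R] [IsDiscreteValuationRing R] (n : ℕ) (hn : 1 ≤ n) (m : Fin n → ℕ) (M : Type u) [AddCommGroup M] [Module (MultCrv.Rn R n) M] (hM : MultCrv.IsQuasiFreeOfType R n M m) (r : ℕ) (φ : (Fin r → MultCrv.Rn R n) →ₗ[MultCrv.Rn R n] M) (hφ : Function.Surjective φ) (hφz : ∀ f : Fin r → MultCrv.Rn R n, φ f ∈ MultCrv.filt R n M 1 → f ∈ MultCrv.filt R n (Fin r → MultCrv.Rn R n) 1) : MultCrv.IsQuasiFreeOfType R n ↥(LinearMap.ker φ) (MultCrv.revType n m) := by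
  exact Groth.L21.MultCrv.ker_quasiFree R n m hM r φ hφ hφz

end Groth.Agent.S17940
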