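import Groth.Statements.S17942
import Groth.Agent.L21.MultCrv.Ext

set_option autoImplicit false
universe u
open MultCrv

namespace Groth.Agent.S17942

open CategoryTheory in
/-- Let R be a discrete valuation ring, n ≥ 1, A = R[X]/(X^n), and M a finitely generated A-module. Then
Ext^i_A(M, A) = 0 for every i ≥ 2. (Statement at a closed point of the sheaf statement on a
primitive multiple curve of multiplicity n, whose local rings are of the form R[X]/(X^n) with R the
local ring of the reduced smooth curve; stated for every discrete valuation ring R.) -/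
theorem result (R : Type u) [CommRing R] [IsDomain R] [IsDiscreteValuationRing R] (n : ℕ) (hn : 1 ≤ n) (M : Type u) [AddCommGroup M] [Module (MultCrv.Rn R n) M] [Module.Finite (MultCrv.Rn R n) M] (i : ℕ) (hi : 2 ≤ i) : Subsingleton (Abelian.Ext (ModuleCat.of (MultCrv.Rn R n) M) (ModuleCat.of (MultCrv.Rn R n) (MultCrv.Rn R n)) i) := by
  obtain ⟨j, rfl⟩ : ∃ j, i = (j + 1) + 1 := ⟨i - 2, by omega⟩
  letI : Module R M := Module.compHom M (algebraMap R (Rn R n))
  haveI : IsScalarTower R (Rn R n) M := 
    ⟨fun r a m => (congrArg (· • m) (Algebra.smul_def r a)).trans (mul_smul _ _ _)⟩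
  obtain ⟨r, f, hf, hKfin, hKtf⟩ := Groth.L21.MultCrv.exists_cover (R := R) hn M
  have hS := LinearMap.shortExact_shortComplexKer hf
  haveI : CategoryTheory.Projective f.shortComplexKer.X₂ :=
    ModuleCat.projective_of_free (Pi.basisFun (Rn R n) (Fin r))
  refine subsingleton_of_forall_eq 0 fun x => ?_
  obtain ⟨y, rfl⟩ := CategoryTheory.Abelian.Ext.contravariant_sequence_exact₃ hS _ x
    (CategoryTheory.Abelian.Ext.eq_zero_of_projective _) (add_comm 1 (j + 1))
  haveI := Groth.L21.MultCrv.ext_subsingleton_of_torsionFree (R := R) hn j ↥(LinearMap.ker f)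
  rw [show y = 0 from Subsingleton.elim _ _, CategoryTheory.Abelian.Ext.comp_zero]

end Groth.Agent.S17942
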