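import Groth.Statements.S17943
import Groth.Agent.L21.MultCrv.Basic
import Mathlib.LinearAlgebra.Dimension.RankNullity
import Mathlib.LinearAlgebra.Dimension.Localization

set_option autoImplicit false
universe u
open MultCrv

namespace Groth.Agent.S17943

/-- Let R be a discrete valuation ring, n ≥ 1, A = R[X]/(X^n) with z the class of X, and M a finitely
generated A-module. For 0 ≤ i < n the R-modules G^(i+1)(M) = M^(i+1)/M^(i) (M^(j) the elements
killed by z^j) and G_i(M) = z^i M/z^(i+1) M have the same rank over R. (Statement at a closed point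
of the sheaf statement on a primitive multiple curve of multiplicity n with local rings R[X]/(X^n),
where the rank of a coherent sheaf on the reduced smooth curve is its generic rank, here the rank
over R of the stalk; the equality of degrees that the published statement gives together with this
rank equality is a statement on the global curve and is not part of this row; stated for every
discrete valuation ring R.) -/
theorem result (R : Type u) [CommRing R] [IsDomain R] [IsDiscreteValuationRing R] (n : ℕ) (hn : 1 ≤ n) (M : Type u) [AddCommGroup M] [Module (MultCrv.Rn R n) M] [Module R M] [IsScalarTower R (MultCrv.Rn R n) M] [Module.Finite (MultCrv.Rn R n) M] (i : ℕ) (hi : i < n) : Module.finrank R (MultCrv.G2 R n M (i + 1)) = Module.finrank R (MultCrv.G1 R n M i) := by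
  haveI := Groth.L21.MultCrv.finite_R (R := R) (n := n) (M := M)
  have hrn : ∀ j, Module.finrank R ↥(filt R n M j) + Module.finrank R ↥(filt2 R n M j) = Module.finrank R M := by
    intro j
    have h := (((z R n ^ j) • (LinearMap.id : M →ₗ[Rn R n] M)).restrictScalars R)
    have e := ((z R n ^ j) • (LinearMap.id : M →ₗ[Rn R n] M)).quotKerEquivRange
    have hk : LinearMap.ker ((z R n ^ j) • (LinearMap.id : M →ₗ[Rn R n] M)) = filt2 R n M j := by
      ext x; rw [Groth.L21.MultCrv.mem_filt2]; rfl
    have e1 : Module.finrank R ↥(filt R n M j) =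
        Module.finrank R (M ⧸ LinearMap.ker ((z R n ^ j) • (LinearMap.id : M →ₗ[Rn R n] M))) :=
      ((e.restrictScalars R).finrank_eq).symm
    have e2 := Submodule.finrank_quotient_add_finrank ((filt2 R n M j).restrictScalars R)
    rw [e1, hk]
    exact e2
  have hq : ∀ F F' : Submodule (Rn R n) M, F' ≤ F →
      Module.finrank R (↥F ⧸ Submodule.comap F.subtype F') + Module.finrank R ↥F' = Module.finrank R ↥F := by
    intro F F' hle
    haveI := Groth.L21.MultCrv.finite_R (R := R) (n := n) (M := ↥F)
    rw [← ((Submodule.comapSubtypeEquivOfLe hle).restrictScalars R).finrank_eq]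
    exact Submodule.finrank_quotient_add_finrank ((Submodule.comap F.subtype F').restrictScalars R)
  have h1 := hq (filt R n M i) (filt R n M (i + 1)) (fun x hx => by
    obtain ⟨m, rfl⟩ := Groth.L21.MultCrv.mem_filt.1 hx
    exact Groth.L21.MultCrv.mem_filt.2 ⟨z R n • m, by rw [smul_smul, ← pow_succ]⟩)
  have h2 := hq (filt2 R n M (i + 1)) (filt2 R n M (i + 1 - 1)) (fun x hx => by
    rw [Groth.L21.MultCrv.mem_filt2] at hx ⊢
    rw [Nat.add_sub_cancel] at hx
    rw [pow_succ', mul_smul, hx, smul_zero])
  have h3 := hrn i
  have h4 := hrn (i + 1)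
  change Module.finrank R (↥(filt2 R n M (i + 1)) ⧸ Submodule.comap (filt2 R n M (i + 1)).subtype (filt2 R n M (i + 1 - 1))) =
    Module.finrank R (↥(filt R n M i) ⧸ Submodule.comap (filt R n M i).subtype (filt R n M (i + 1)))
  rw [Nat.add_sub_cancel] at h2
  rw [Nat.add_sub_cancel]
  omega

end Groth.Agent.S17943
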