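import Groth.Statements.S17944
import Groth.Agent.L21.MultCrv.Basic

set_option autoImplicit false
universe u
open MultCrv

namespace Groth.Agent.S17944

/-- Let R be a discrete valuation ring, n ≥ 1, A = R[X]/(X^n) with z the class of X, and M a finitely
generated A-module. Then the graded pieces G_i(M) = z^i M/z^(i+1) M are free R-modules for all 0 ≤ i
< n if and only if the modules Γ^(i)(M) are free R-modules for all 0 ≤ i < n, where Γ^(i)(M) is the
cokernel of the map M^(i+2)/M^(i+1) → M^(i+1)/M^(i) induced by multiplication by z (M^(j) the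
elements killed by z^j). (Statement at a closed point P of the sheaf statement on a primitive
multiple curve of multiplicity n, whose local rings are R[X]/(X^n) with R the local ring of the
reduced smooth curve: the published conditions are local freeness on the reduced curve of the
corresponding sheaves, read here at P; the published statement also asserts that these conditions
are equivalent to the stalk being quasi-free, i.e. isomorphic to a direct sum of modules A/(z^j),
which is not part of this row; stated for every discrete valuation ring R.) -/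
theorem result (R : Type u) [CommRing R] [IsDomain R] [IsDiscreteValuationRing R] (n : ℕ) (hn : 1 ≤ n) (M : Type u) [AddCommGroup M] [Module (MultCrv.Rn R n) M] [Module R M] [IsScalarTower R (MultCrv.Rn R n) M] [Module.Finite (MultCrv.Rn R n) M] : (∀ i : ℕ, i < n → Module.Free R (MultCrv.G1 R n M i)) ↔ (∀ i : ℕ, i < n → Module.Free R (MultCrv.Gam2 R n M i)) := by
  -- element-wise forms of torsion-freeness
  have hP : ∀ i, Module.Free R (G1 R n M i) ↔
      ∀ (a : R), a ≠ 0 → ∀ m : M, a • z R n ^ i • m ∈ filt R n M (i + 1) → z R n ^ i • m ∈ filt R n M (i + 1) := by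
    intro i
    constructor
    · intro hfree a ha m hm
      have h0 : a • (Submodule.Quotient.mk ⟨z R n ^ i • m, Groth.L21.MultCrv.mem_filt.2 ⟨m, rfl⟩⟩ : G1 R n M i) = 0 := by
        rw [← Submodule.Quotient.mk_smul, Submodule.Quotient.mk_eq_zero]
        exact hm
      have h1 := (Module.isTorsionFree_iff_smul_eq_zero.1 inferInstance a _ h0).resolve_left ha
      rw [Submodule.Quotient.mk_eq_zero] at h1
      exact h1
    · intro h
      haveI : Module.IsTorsionFree R (G1 R n M i) := by
        refine Module.isTorsionFree_iff_smul_eq_zero.2 fun a x hx => ?_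
        by_cases ha : a = 0
        · exact Or.inl ha
        refine Or.inr ?_
        obtain ⟨⟨u, hu⟩, rfl⟩ := Submodule.Quotient.mk_surjective _ x
        obtain ⟨m, rfl⟩ := Groth.L21.MultCrv.mem_filt.1 hu
        rw [← Submodule.Quotient.mk_smul, Submodule.Quotient.mk_eq_zero] at hx
        rw [Submodule.Quotient.mk_eq_zero]
        exact h a ha m hx
      exact Groth.L21.MultCrv.free_R (R := R) (n := n) (M := G1 R n M i)
  have hfiltle : ∀ i (m : M), z R n ^ (i + 1) • m ∈ filt R n M (i + 1) := fun i m =>
    Groth.L21.MultCrv.mem_filt.2 ⟨m, rfl⟩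
  have hkey : ∀ i (u : ↥(filt2 R n M (i + 1))),
      (Submodule.Quotient.mk (Submodule.Quotient.mk u) : Gam2 R n M i) = 0 ↔
        z R n ^ i • (u : M) ∈ filt R n M (i + 1) := by
    intro i u
    rw [Submodule.Quotient.mk_eq_zero]
    constructor
    · rintro ⟨w, hw⟩
      obtain ⟨v, rfl⟩ := Submodule.Quotient.mk_surjective _ w
      have h1 : (Submodule.Quotient.mk (zDown R n M (i + 1) v) : G2 R n M (i + 1)) = Submodule.Quotient.mk u := hw
      rw [Submodule.Quotient.eq, Submodule.mem_comap, Groth.L21.MultCrv.mem_filt2, Nat.add_sub_cancel] at h1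
      refine Groth.L21.MultCrv.mem_filt.2 ⟨(v : M), ?_⟩
      have h2 : z R n ^ i • (z R n • (v : M) - (u : M)) = 0 := h1
      rw [smul_sub, sub_eq_zero] at h2
      rw [← h2, smul_smul, ← pow_succ]
    · intro h
      obtain ⟨v, hv⟩ := Groth.L21.MultCrv.mem_filt.1 h
      have hu : z R n ^ (i + 1) • (u : M) = 0 := Groth.L21.MultCrv.mem_filt2.1 u.2
      have hv2 : v ∈ filt2 R n M (i + 2) := by
        rw [Groth.L21.MultCrv.mem_filt2, pow_succ' _ (i + 1), mul_smul, hv, smul_smul, ← pow_succ']
        exact hu
      refine ⟨Submodule.Quotient.mk ⟨v, hv2⟩, ?_⟩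
      change (Submodule.Quotient.mk (zDown R n M (i + 1) ⟨v, hv2⟩) : G2 R n M (i + 1)) = Submodule.Quotient.mk u
      rw [Submodule.Quotient.eq, Submodule.mem_comap, Groth.L21.MultCrv.mem_filt2, Nat.add_sub_cancel]
      change z R n ^ i • (z R n • v - (u : M)) = 0
      rw [smul_sub, smul_smul, ← pow_succ, hv, sub_self]
  have hQ : ∀ i, Module.Free R (Gam2 R n M i) ↔
      ∀ (a : R), a ≠ 0 → ∀ u : M, z R n ^ (i + 1) • u = 0 → a • z R n ^ i • u ∈ filt R n M (i + 1) →
        z R n ^ i • u ∈ filt R n M (i + 1) := by
    intro i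
    constructor
    · intro hfree a ha u hu hm
      let U : ↥(filt2 R n M (i + 1)) := ⟨u, Groth.L21.MultCrv.mem_filt2.2 hu⟩
      have h0 : a • (Submodule.Quotient.mk (Submodule.Quotient.mk U) : Gam2 R n M i) = 0 := by
        rw [← Submodule.Quotient.mk_smul, ← Submodule.Quotient.mk_smul, hkey]
        change z R n ^ i • (a • u) ∈ _
        rw [smul_comm]
        exact hm
      have h1 := (Module.isTorsionFree_iff_smul_eq_zero.1 inferInstance a _ h0).resolve_left ha
      exact (hkey i U).1 h1
    · intro h
      haveI : Module.IsTorsionFree R (Gam2 R n M i) := by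
        refine Module.isTorsionFree_iff_smul_eq_zero.2 fun a x hx => ?_
        by_cases ha : a = 0
        · exact Or.inl ha
        refine Or.inr ?_
        obtain ⟨y, rfl⟩ := Submodule.Quotient.mk_surjective _ x
        obtain ⟨u, rfl⟩ := Submodule.Quotient.mk_surjective _ y
        rw [← Submodule.Quotient.mk_smul, ← Submodule.Quotient.mk_smul, hkey] at hx
        rw [hkey]
        refine h a ha (u : M) (Groth.L21.MultCrv.mem_filt2.1 u.2) ?_
        rw [smul_comm]
        exact hx
      exact Groth.L21.MultCrv.free_R (R := R) (n := n) (M := Gam2 R n M i)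
  constructor
  · intro h i hi
    rw [hQ]
    intro a ha u _ hu
    exact (hP i).1 (h i hi) a ha u hu
  · intro h i hi
    rw [hP]
    -- descending induction
    suffices H : ∀ d i, n - i = d → ∀ (a : R), a ≠ 0 → ∀ m : M,
        a • z R n ^ i • m ∈ filt R n M (i + 1) → z R n ^ i • m ∈ filt R n M (i + 1) from H _ i rfl
    intro d
    induction d with
    | zero =>
      intro i hi a _ m _
      have : z R n ^ i • m = 0 := by
        rw [Groth.L21.MultCrv.z_pow_eq_zero R n (by omega)]; exact zero_smul (Rn R n) m
      rw [this]; exact zero_mem _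
    | succ d ih =>
      intro i hi a ha m hm
      obtain ⟨w, hw⟩ := Groth.L21.MultCrv.mem_filt.1 hm
      have hm1 : a • z R n ^ (i + 1) • m ∈ filt R n M (i + 1 + 1) := by
        refine Groth.L21.MultCrv.mem_filt.2 ⟨w, ?_⟩
        rw [pow_succ' _ (i + 1), mul_smul, hw, smul_comm (z R n) a, smul_smul (z R n), ← pow_succ']
      obtain ⟨v, hv⟩ := Groth.L21.MultCrv.mem_filt.1 (ih (i + 1) (by omega) a ha m hm1)
      have hu0 : z R n ^ (i + 1) • (m - z R n • v) = 0 := by
        rw [smul_sub, smul_smul, ← pow_succ, hv, sub_self]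
      have hdec : z R n ^ i • m = z R n ^ i • (m - z R n • v) + z R n ^ (i + 1) • v := by
        rw [smul_sub, smul_smul (z R n ^ i) (z R n) v, ← pow_succ, sub_add_cancel]
      have hu1 : a • z R n ^ i • (m - z R n • v) ∈ filt R n M (i + 1) := by
        rw [show z R n ^ i • (m - z R n • v) = z R n ^ i • m - z R n ^ (i + 1) • v by
          rw [hdec, add_sub_cancel_right], smul_sub]
        exact sub_mem hm (Submodule.smul_of_tower_mem _ a (hfiltle i v))
      have := (hQ i).1 (h i (by omega)) a ha _ hu0 hu1
      rw [hdec]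
      exact add_mem this (hfiltle i v)

end Groth.Agent.S17944
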