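import Groth.Statements.S17948
import Groth.Agent.L27.SphCharP.Main

set_option autoImplicit false
universe u
open CategoryTheory AlgebraicGeometry Opposite
open HensSch

namespace Groth.Agent.S17948

/-- Let `(A, I)` be a Henselian pair with `A` of prime characteristic `p`, let `(Z, π)` be its affine
Henselian spectrum with its map to `Spec A` (so `Z` is the Henselization of `Spec A` along `V(I)`),
and let `F` be a quasi-coherent module on `Spec A`. Then the sheaf cohomology `H^j(Z, π^* F)` of the
pulled-back module vanishes for every `j > 0`. -/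
theorem result (A : Type u) [CommRing A] (I : Ideal A)
    [HenselianRing A I] (p : ℕ) [Fact p.Prime] [CharP A p]
    (Z : LocallyRingedSpace.{u}) (π : Z ⟶ HensSch.specLRS A) (hZ : HensSch.IsSph A I Z π)
    (F : (Spec (CommRingCat.of A)).Modules) [F.IsQuasicoherent] (j : ℕ) (hj : 0 < j) :
    Subsingleton (ModSite.HC Z.sheaf ((HensSch.pullMod π).obj F) j) := by
  obtain ⟨n, rfl⟩ : ∃ n, j = n + 1 := ⟨j - 1, by omega⟩
  exact Groth.L27.SphCharP.subsingleton_HC π hZ p (CharP.cast_eq_zero A p) F n

end Groth.Agent.S17948
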