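import Groth.Statements.S17953
import Groth.Agent.L05.HensSch.Exact
import Groth.Agent.L20.ModStalk

set_option autoImplicit false
universe u
open CategoryTheory AlgebraicGeometry Opposite
open HensSch

namespace Groth.Agent.S17953

/-- Let `ι : Xh ⟶ X` be the Henselization of a quasi-compact scheme `X` along a closed subset `Y`
containing every closed point of `X`. Then `F ↦ F^h = ι^* F` is faithful on quasi-coherent
`O_X`-modules. (The published statement has no condition on `X` or `Y`; for `X = Spec (k × k)`, `Y`
one of the two points and `F` the quasi-coherent module supported at the other point, `F^h = 0`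
while `F` has nonzero endomorphisms, so faithfulness fails. The published argument, faithful
flatness of the local rings of `Xh` over those of `X` at points of `Y`, gives faithfulness exactly
when every point of `X` specializes to a point of `Y`, which the two hypotheses here ensure.) -/
theorem result (X : Scheme.{u}) [CompactSpace X] (Y : Set X)
    (hY : ∀ x : X, IsClosed ({x} : Set X) → x ∈ Y)
    (Xh : LocallyRingedSpace.{u}) (ι : Xh ⟶ X.toLocallyRingedSpace)
    (hh : HensSch.IsHenselizationAlong X Y Xh ι)
    (F G : X.Modules) [F.IsQuasicoherent] [G.IsQuasicoherent] :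
    Function.Injective ((HensSch.pullMod ι).map : (F ⟶ G) → ((HensSch.pullMod ι).obj F ⟶ (HensSch.pullMod ι).obj G)) := by
  haveI : Coh.IsQCoh F := ‹F.IsQuasicoherent›
  haveI : (HensSch.pullMod ι).IsLeftAdjoint := (HensSch.pullPushAdj ι).isLeftAdjoint
  haveI : Limits.PreservesBinaryBiproducts (HensSch.pullMod ι) :=
    Limits.preservesBinaryBiproducts_of_preservesBinaryCoproducts _
  haveI : (HensSch.pullMod ι).Additive := Functor.additive_of_preservesBinaryBiproducts _
  intro φ φ' h
  rw [← sub_eq_zero]
  have h0 : (HensSch.pullMod ι).map (φ - φ') = 0 := by rw [Functor.map_sub]; exact sub_eq_zero.mpr h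
  apply Scheme.Modules.hom_ext
  intro U
  ext m
  refine TopCat.Presheaf.section_ext (X := X.toTopCat) ⟨G.presheaf, G.isSheaf⟩ U _ _ fun x hx => ?_
  refine Eq.trans ?_ (map_zero (G.presheaf.germ U x hx).hom).symm
  refine (DerSch.stalkFunctor_map_germ x (φ - φ') U hx m).symm.trans ?_
  generalize (F.presheaf.germ U x hx).hom m = a
  clear hx m U
  obtain ⟨c, hc, hcl⟩ := IsClosed.exists_closed_singleton (X := X)
    (isClosed_closure (s := ({x} : Set X))) ⟨x, subset_closure rfl⟩
  have hspec : x ⤳ c := specializes_iff_mem_closure.mpr hc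
  obtain ⟨z, rfl⟩ : c ∈ Set.range ι.base := hh.2.2.1 ▸ hY c hcl
  obtain ⟨_, ⟨V, hV, rfl⟩, hcV, -⟩ :=
    X.isBasis_affineOpens.exists_subset_of_mem_open (Set.mem_univ (ι.base z)) isOpen_univ
  have hxV : x ∈ V := hspec.mem_open V.isOpen hcV
  letI := Groth.L20.ModStalk.stalkModule F hxV
  haveI := Groth.L20.ModStalk.isLocalizedModule_germ F hV hxV
  obtain ⟨⟨m, s⟩, hs⟩ := IsLocalizedModule.surj (hV.primeIdealOf ⟨x, hxV⟩).asIdeal.primeCompl
    (Groth.L20.ModStalk.germₗ F hxV) a
  have hm : (Groth.L00.Stk.F X x).map (φ - φ') (F.presheaf.germ V x hxV m) = 0 := by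
    have hz := Groth.L05.HensSch.Exact.stalk_map_eq_zero ι z (Groth.L05.HensSch.Exact.flat_stalk hh z) (φ - φ') h0
      (F.presheaf.germ V (ι.base z) hcV m)
    erw [DerSch.stalkFunctor_map_germ] at hz
    erw [DerSch.stalkFunctor_map_germ]
    obtain ⟨W, hW, i, j, hij⟩ := TopCat.Presheaf.germ_eq G.presheaf _ hcV hcV _ 0 (hz.trans (map_zero _).symm)
    rw [map_zero] at hij
    rw [← TopCat.Presheaf.germ_res_apply G.presheaf i x (hspec.mem_open W.isOpen hW)]
    exact (congrArg _ hij).trans (map_zero _)
  have hu : IsUnit (X.presheaf.germ V x hxV (s : Γ(X, V))) := by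
    letI := X.presheaf.algebra_section_stalk ⟨x, hxV⟩
    haveI := hV.isLocalization_stalk ⟨x, hxV⟩
    exact IsLocalization.map_units (X.presheaf.stalk x) s
  refine hu.smul_eq_zero.mp ?_
  refine ((((Groth.L00.Stk.F X x).map (φ - φ')).hom.map_smul _ a).symm.trans ?_)
  exact (congrArg _ (hs : _)).trans hm

end Groth.Agent.S17953
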