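import Groth.Statements.S17959
import Groth.Agent.L27.ClopenLift
import Mathlib.RingTheory.Etale.StandardEtale
import Mathlib.RingTheory.Jacobson.Ideal

set_option autoImplicit false
open CategoryTheory CategoryTheory.Limits AlgebraicGeometry
universe u
open Hensel

namespace Groth.Agent.S17959

/-- Let X be a quasi-compact quasi-separated scheme and i : X₀ ⟶ X a closed immersion such that (X, X₀)
is a henselian couple, i.e. for every finite morphism g : Y ⟶ X every open-closed subset of Y ×_X X₀
is the inverse image under the first projection of exactly one open-closed subset of Y. Let B = Γ(X,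
O_X) and let J be the kernel of the restriction map B → Γ(X₀, O_{X₀}). Then (B, J) is a henselian
pair. -/
theorem result {X X₀ : Scheme.{u}}
    (i : X₀ ⟶ X) [IsClosedImmersion i] [CompactSpace ↥X] [QuasiSeparatedSpace ↥X]
    (hX : ∀ (Y : Scheme.{u}) (g : Y ⟶ X), IsFinite g →
      ∀ V : Set ↥(pullback g (i)), IsClopen V →
        ∃! U : Set ↥Y, IsClopen U ∧ (pullback.fst g (i)).base ⁻¹' U = V) :
    HenselianRing (Γ(X, ⊤) : Type u) (RingHom.ker i.appTop.hom) := by
  let R := Γ(X, ⊤)
  let φ : R ⟶ Γ(X₀, ⊤) := i.appTop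
  refine ⟨fun r hr => Ideal.mem_jacobson_bot.mpr fun y => ?_, fun f hf a₀ ha₀ hu => ?_⟩
  · have hs : φ (r * y + 1) = 1 := by
      have hr0 : φ r = 0 := hr
      simp [hr0]
    have hall : ((X.basicOpen (r * y + 1) : X.Opens) : Set X) = Set.univ := by
      rw [← Set.compl_empty_iff]
      refine Groth.L27.ClopenLift.closed_eq_empty i hX (X.basicOpen (r * y + 1)).2.isClosed_compl ?_
      rw [Set.disjoint_left]
      rintro _ ⟨x, rfl⟩ hx
      refine hx ?_
      show x ∈ i ⁻¹ᵁ X.basicOpen (r * y + 1)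
      rw [Scheme.preimage_basicOpen]
      show x ∈ X₀.basicOpen (φ (r * y + 1))
      rw [hs, Scheme.basicOpen_of_isUnit X₀ isUnit_one]
      trivial
    refine X.toRingedSpace.isUnit_of_isUnit_germ ⊤ (r * y + 1) fun x hx => ?_
    exact (X.mem_basicOpen _ _ hx).mp (hall.ge (Set.mem_univ x))
  · let P : StandardEtalePair R :=
      { f := f, monic_f := hf, g := f.derivative, cond := ⟨1, 0, 1, by simp⟩ }
    letI : Algebra R Γ(X₀, ⊤) := φ.hom.toAlgebra
    have hmap : P.HasMap (φ a₀) := by
      constructor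
      · show Polynomial.aeval (algebraMap R Γ(X₀, ⊤) a₀) f = 0
        rw [Polynomial.aeval_algebraMap_apply_eq_algebraMap_eval]
        exact ha₀
      · show IsUnit (Polynomial.aeval (algebraMap R Γ(X₀, ⊤) a₀) f.derivative)
        rw [Polynomial.aeval_algebraMap_apply_eq_algebraMap_eval]
        exact hu.map (Ideal.Quotient.lift _ (algebraMap R Γ(X₀, ⊤)) (fun a ha => ha))
    let χ := P.lift _ hmap
    let q := Spec.map (CommRingCat.ofHom (algebraMap R P.Ring))
    haveI : Etale q := (HasRingHomProperty.Spec_iff (P := @Etale)).mpr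
      (RingHom.etale_algebraMap.mpr inferInstance)
    let c : X₀ ⟶ Spec (CommRingCat.of P.Ring) := X₀.toSpecΓ ≫ Spec.map (CommRingCat.ofHom χ.toRingHom)
    have hc : i ≫ X.toSpecΓ = c ≫ q := by
      rw [Scheme.toSpecΓ_naturality, Category.assoc, ← Spec.map_comp]
      congr 2
      exact CommRingCat.hom_ext χ.comp_algebraMap.symm
    let g : Limits.pullback X.toSpecΓ q ⟶ X := Limits.pullback.fst _ _
    let u₀ : X₀ ⟶ Limits.pullback g i :=
      Limits.pullback.lift (Limits.pullback.lift i c hc) (𝟙 X₀) (by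
        rw [Category.id_comp]; exact Limits.pullback.lift_fst _ _ _)
    obtain ⟨u, ⟨hug, hui⟩, -⟩ := Groth.L27.ClopenLift.existsUnique_section i hX g u₀
      (Limits.pullback.lift_snd _ _ _)
    let h : X ⟶ Spec (CommRingCat.of P.Ring) := u ≫ Limits.pullback.snd _ _
    have hhq : h ≫ q = X.toSpecΓ := by
      show (u ≫ Limits.pullback.snd _ _) ≫ q = _
      rw [Category.assoc, ← Limits.pullback.condition, ← Category.assoc, hug, Category.id_comp]
    have hih : i ≫ h = c := by
      show i ≫ u ≫ Limits.pullback.snd _ _ = c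
      rw [← Category.assoc, hui, Category.assoc]
      show u₀ ≫ Limits.pullback.fst g i ≫ Limits.pullback.snd _ _ = c
      rw [Limits.pullback.lift_fst_assoc, Limits.pullback.lift_snd]
    let ψ : CommRingCat.of P.Ring ⟶ R := (Scheme.ΓSpecIso _).inv ≫ h.appTop
    have hψR : CommRingCat.ofHom (algebraMap R P.Ring) ≫ ψ = 𝟙 R := by
      have h1 := congrArg Scheme.Hom.appTop hhq
      rw [Scheme.Hom.comp_appTop, Scheme.toSpecΓ_appTop] at h1
      show CommRingCat.ofHom (algebraMap R P.Ring) ≫ (Scheme.ΓSpecIso _).inv ≫ h.appTop = 𝟙 R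
      rw [Scheme.ΓSpecIso_inv_naturality_assoc]
      exact (congrArg (_ ≫ ·) h1).trans (Iso.inv_hom_id _)
    have hψ : ψ ≫ φ = CommRingCat.ofHom χ.toRingHom := by
      have h1 := congrArg Scheme.Hom.appTop hih
      simp only [c, Scheme.Hom.comp_appTop, Scheme.toSpecΓ_appTop] at h1
      show ((Scheme.ΓSpecIso _).inv ≫ h.appTop) ≫ i.appTop = _
      rw [Category.assoc, h1, ← Category.assoc, ← Scheme.ΓSpecIso_inv_naturality]
      exact (Category.assoc _ _ _).trans ((congrArg (_ ≫ ·) (Iso.inv_hom_id _)).trans (Category.comp_id _))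
    let ψ' : P.Ring →ₐ[R] R :=
      { ψ.hom with commutes' := fun r => congrArg (fun m : R ⟶ R => m r) hψR }
    refine ⟨ψ' P.X, ?_, ?_⟩
    · have h1 := (P.hasMap_X.map ψ').1
      rwa [Polynomial.coe_aeval_eq_eval] at h1
    · show φ (ψ' P.X - a₀) = 0
      have h1 : φ (ψ P.X) = χ P.X := congrArg (fun m : CommRingCat.of P.Ring ⟶ Γ(X₀, ⊤) => m P.X) hψ
      rw [map_sub, sub_eq_zero]
      exact h1.trans (P.lift_X _ hmap)

end Groth.Agent.S17959
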