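import Groth.Statements.S17960
import Groth.Agent.L27.HenselProperClopen

set_option autoImplicit false
open CategoryTheory CategoryTheory.Limits AlgebraicGeometry
universe u
open Hensel

namespace Groth.Agent.S17960

/-- Suppose A is a Noetherian ring with an ideal I, and f : X ⟶ Spec A is a proper morphism; write i :
X₀ = X ×_{Spec A} Spec (A/I) ⟶ X for the first projection. Put B = Γ(X, O_X), and take J to be the
kernel of the restriction B → Γ(X₀, O_{X₀}). Assuming (B, J) is a henselian pair, the couple (X, X₀)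
is henselian: given any finite morphism g : Y ⟶ X, each open-closed subset of Y ×_X X₀ arises as the
inverse image, along the first projection, of a unique open-closed subset of Y. -/
theorem result
    (A : Type u) [CommRing A] [IsNoetherianRing A] (I : Ideal A) {X : Scheme.{u}}
    (f : X ⟶ Spec (CommRingCat.of A)) [IsProper f]
    (h : HenselianRing (Γ(X, ⊤) : Type u)
      (RingHom.ker (pullback.fst f (Spec.map (CommRingCat.ofHom (Ideal.Quotient.mk I)))).appTop.hom)) :
    ∀ (Y : Scheme.{u}) (g : Y ⟶ X), IsFinite g →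
      ∀ V : Set ↥(pullback g (pullback.fst f (Spec.map (CommRingCat.ofHom (Ideal.Quotient.mk I))))), IsClopen V →
        ∃! U : Set ↥Y, IsClopen U ∧ (pullback.fst g (pullback.fst f (Spec.map (CommRingCat.ofHom (Ideal.Quotient.mk I))))).base ⁻¹' U = V := by
  intro Y g hg V hV
  haveI := h
  let φ : CommRingCat.of A ⟶ Γ(X, ⊤) := (Scheme.ΓSpecIso (CommRingCat.of A)).inv ≫ f.appTop
  have hp : X.toSpecΓ ≫ Spec.map φ = f := by
    simp only [φ, Spec.map_comp, ← Category.assoc, ← Scheme.toSpecΓ_naturality]
    simp only [Category.assoc]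
    rw [← SpecMap_ΓSpecIso_hom, ← Spec.map_comp, Iso.inv_hom_id, Spec.map_id]
    exact Category.comp_id f
  refine Groth.L27.HenselProper.clopen_lift_along I (RingHom.ker (pullback.fst f (Spec.map (CommRingCat.ofHom (Ideal.Quotient.mk I)))).appTop.hom) φ.hom f X.toSpecΓ hp (Ideal.map_le_iff_le_comap.mpr fun a ha => ?_) Y g hg V hV
  show (pullback.fst f (Spec.map (CommRingCat.ofHom (Ideal.Quotient.mk I)))).appTop (φ a) = 0
  have h1 := ConcreteCategory.congr_hom (congrArg (fun t => (Scheme.ΓSpecIso (CommRingCat.of A)).inv ≫ Scheme.Hom.appTop t)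
    (pullback.condition (f := f) (g := Spec.map (CommRingCat.ofHom (Ideal.Quotient.mk I))))) a
  simp only [Scheme.Hom.comp_appTop, ← Category.assoc, ← Scheme.ΓSpecIso_inv_naturality] at h1
  refine h1.trans ?_
  show (pullback.snd f (Spec.map (CommRingCat.ofHom (Ideal.Quotient.mk I)))).appTop ((Scheme.ΓSpecIso (CommRingCat.of (A ⧸ I))).inv (Ideal.Quotient.mk I a)) = 0
  rw [Ideal.Quotient.eq_zero_iff_mem.mpr ha, map_zero, map_zero]

end Groth.Agent.S17960
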