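import Groth.Statements.S17962
import Mathlib.AlgebraicGeometry.Morphisms.Finite

set_option autoImplicit false
open CategoryTheory CategoryTheory.Limits AlgebraicGeometry
universe u
open Hensel

namespace Groth.Agent.S17962

/-- Let i : X₀ ⟶ X be a closed immersion such that (X, X₀) is a henselian couple, i.e. for every finite
morphism g : Y ⟶ X every open-closed subset of Y ×_X X₀ is the inverse image under the first
projection of exactly one open-closed subset of Y. Then for every finite morphism h : Y ⟶ X the
couple (Y, Y ×_X X₀), with the first projection as closed immersion, is again henselian. -/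
theorem result {X X₀ : Scheme.{u}}
    (i : X₀ ⟶ X) [IsClosedImmersion i]
    (hX : ∀ (Y : Scheme.{u}) (g : Y ⟶ X), IsFinite g →
      ∀ V : Set ↥(pullback g (i)), IsClopen V →
        ∃! U : Set ↥Y, IsClopen U ∧ (pullback.fst g (i)).base ⁻¹' U = V)
    {Y : Scheme.{u}} (h : Y ⟶ X) [IsFinite h] :
    ∀ (Z : Scheme.{u}) (g : Z ⟶ Y), IsFinite g →
      ∀ V : Set ↥(pullback g (pullback.fst h i)), IsClopen V →
        ∃! U : Set ↥Z, IsClopen U ∧ (pullback.fst g (pullback.fst h i)).base ⁻¹' U = V := by
  intro Z g hg V hV
  haveI := hg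
  let φ := pullbackRightPullbackFstIso h i g
  have h1 := hX Z (g ≫ h) inferInstance (φ.inv ⁻¹' V) (hV.preimage φ.inv.continuous)
  have key : ∀ W : Set Z, (pullback.fst (g ≫ h) i).base ⁻¹' W = φ.inv ⁻¹' V ↔ (pullback.fst g (pullback.fst h i)).base ⁻¹' W = V := by
    intro W
    have he : pullback.fst (g ≫ h) i = φ.inv ≫ pullback.fst g (pullback.fst h i) := (Iso.eq_inv_comp _).mpr (pullbackRightPullbackFstIso_hom_fst _ _ _)
    rw [he, Scheme.Hom.comp_base, TopCat.coe_comp, Set.preimage_comp]
    exact Set.preimage_eq_preimage φ.inv.surjective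
  simpa only [key] using h1

end Groth.Agent.S17962
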