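import Groth.Statements.S17963
import Groth.Agent.L27.HenselProperGen

set_option autoImplicit false
open CategoryTheory CategoryTheory.Limits AlgebraicGeometry
universe u
open Hensel

namespace Groth.Agent.S17963

/-- Let (A, I) be a henselian pair and f : X ⟶ Spec A a proper morphism of finite presentation, and let
X₀ = X ×_{Spec A} Spec (A/I). Then X is nonempty and connected if and only if X₀ is nonempty and
connected. -/
theorem result
    (A : Type u) [CommRing A] (I : Ideal A) [HenselianRing A I] {X : Scheme.{u}}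
    (f : X ⟶ Spec (CommRingCat.of A)) [IsProper f] [LocallyOfFinitePresentation f] :
    ConnectedSpace ↥X ↔ ConnectedSpace ↥(pullback f (Spec.map (CommRingCat.ofHom (Ideal.Quotient.mk I)))) := by
  let i := pullback.fst f (Groth.L27.HenselProper.ι I)
  have hemp : ∀ Z : Set X, IsClosed Z → Disjoint (Set.range i) Z → Z = ∅ := fun Z hZ hd => Groth.L27.HenselProper.closed_eq_empty_general I f hZ hd
  constructor
  · intro hX
    haveI := hX
    refine connectedSpace_iff_clopen.mpr ⟨?_, fun V hV => ?_⟩
    · by_contra hne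
      rw [not_nonempty_iff] at hne
      exact Set.empty_ne_univ (hemp Set.univ isClosed_univ (Set.disjoint_left.mpr fun _ ⟨t, _⟩ => (hne.false t).elim)).symm
    · obtain ⟨U, hU, rfl⟩ := Groth.L27.HenselProper.exists_clopen_general I f V hV
      rcases (connectedSpace_iff_clopen.mp hX).2 U hU with rfl | rfl <;> simp
  · intro hX
    haveI := hX
    refine connectedSpace_iff_clopen.mpr ⟨⟨i (Classical.arbitrary _)⟩, fun U hU => ?_⟩
    rcases (connectedSpace_iff_clopen.mp hX).2 (i ⁻¹' U) (hU.preimage i.continuous) with h | h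
    · exact Or.inl (hemp U hU.isClosed (Set.disjoint_left.mpr fun _ ⟨t, ht⟩ hu => (h.le (show t ∈ i ⁻¹' U from (show i t ∈ U by rw [ht]; exact hu)) : t ∈ (∅ : Set _))))
    · exact Or.inr (Set.compl_empty_iff.mp (hemp Uᶜ hU.compl.isClosed (Set.disjoint_left.mpr fun _ ⟨t, ht⟩ hu => hu (ht ▸ (h.ge (Set.mem_univ t) : i t ∈ U)))))

end Groth.Agent.S17963
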