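import Groth.Statements.S17965
import Groth.Agent.S17959
import Groth.Agent.L00.ProperNorm
import Groth.Agent.L05.Hensel.Perm
import Mathlib.AlgebraicGeometry.Morphisms.Proper
import Mathlib.AlgebraicGeometry.Pullbacks

set_option autoImplicit false
set_option linter.style.haveILetI false
open CategoryTheory CategoryTheory.Limits AlgebraicGeometry
universe u
open Hensel

namespace Groth.Agent.S17965

/-- `B/IB` is the pushout of `A/I` and `B`. -/
theorem isPushout_quotient {A B : Type u} [CommRing A] [CommRing B] (φ : A →+* B) (I : Ideal A) :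
    IsPushout (CommRingCat.ofHom φ) (CommRingCat.ofHom (Ideal.Quotient.mk I))
      (CommRingCat.ofHom (Ideal.Quotient.mk (I.map φ)))
      (CommRingCat.ofHom (Ideal.quotientMap (I.map φ) φ Ideal.le_comap_map)) := by
  have w : CommRingCat.ofHom φ ≫ CommRingCat.ofHom (Ideal.Quotient.mk (I.map φ)) =
      CommRingCat.ofHom (Ideal.Quotient.mk I) ≫
        CommRingCat.ofHom (Ideal.quotientMap (I.map φ) φ Ideal.le_comap_map) := by
    ext; rfl
  refine IsPushout.of_isColimit' ⟨w⟩ (PushoutCocone.IsColimit.mk _
    (fun s => CommRingCat.ofHom (Ideal.Quotient.lift (I.map φ) s.inl.hom fun b hb => ?_))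
    (fun s => ?_) (fun s => ?_) fun s m h₁ h₂ => ?_)
  · refine (Ideal.map_le_iff_le_comap (K := RingHom.ker s.inl.hom)).mpr (fun a ha => ?_) hb
    show s.inl.hom (φ a) = 0
    rw [show s.inl.hom (φ a) = s.inr.hom (Ideal.Quotient.mk I a) from ConcreteCategory.congr_hom s.condition a,
      Ideal.Quotient.eq_zero_iff_mem.mpr ha, map_zero]
  · ext; rfl
  · refine CommRingCat.hom_ext (Ideal.Quotient.ringHom_ext (RingHom.ext fun a => ?_))
    exact ConcreteCategory.congr_hom s.condition a
  · refine CommRingCat.hom_ext (Ideal.Quotient.ringHom_ext (RingHom.ext fun b => ?_))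
    exact ConcreteCategory.congr_hom h₁ b

/-- Let A be a Noetherian ring, I an ideal of A, f : X ⟶ Spec A a proper morphism, i : X₀ = X ×_{Spec A}
Spec (A/I) ⟶ X the first projection, and assume that (X, X₀) is a henselian couple (for every finite
morphism g : Y ⟶ X, every open-closed subset of Y ×_X X₀ is the inverse image under the first
projection of exactly one open-closed subset of Y). Then (X, X₀) is proper over a henselian pair:
there exist a Noetherian ring A' with an ideal I' such that (A', I') is a henselian pair, a proper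
morphism f' : X ⟶ Spec A' and a morphism t : X₀ ⟶ Spec (A'/I') such that the square formed by i, t,
f' and Spec (A'/I') ⟶ Spec A' is cartesian. (The published statement asserts only that X is proper
over some henselian pair; this row also asks the ring of that pair to be Noetherian, which holds for
the henselization of (A, I) that the proof uses.) -/
theorem result
    (A : Type u) [CommRing A] [IsNoetherianRing A] (I : Ideal A) {X : Scheme.{u}}
    (f : X ⟶ Spec (CommRingCat.of A)) [IsProper f]
    (hX : ∀ (Y : Scheme.{u}) (g : Y ⟶ X), IsFinite g →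
      ∀ V : Set ↥(pullback g (pullback.fst f (Spec.map (CommRingCat.ofHom (Ideal.Quotient.mk I))))), IsClopen V →
        ∃! U : Set ↥Y, IsClopen U ∧ (pullback.fst g (pullback.fst f (Spec.map (CommRingCat.ofHom (Ideal.Quotient.mk I))))).base ⁻¹' U = V) :
    ∃ (A' : Type u) (_ : CommRing A') (I' : Ideal A') (_ : HenselianRing A' I') (_ : IsNoetherianRing A')
      (f' : X ⟶ Spec (CommRingCat.of A')) (_ : IsProper f')
      (t : pullback f (Spec.map (CommRingCat.ofHom (Ideal.Quotient.mk I))) ⟶ Spec (CommRingCat.of (A' ⧸ I'))),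
      IsPullback (pullback.fst f (Spec.map (CommRingCat.ofHom (Ideal.Quotient.mk I)))) t f' (Spec.map (CommRingCat.ofHom (Ideal.Quotient.mk I'))) := by
  haveI : CompactSpace ↥X := QuasiCompact.compactSpace_of_compactSpace f
  haveI : QuasiSeparatedSpace ↥X := quasiSeparatedSpace_of_quasiSeparated f
  let φ : A →+* Γ(X, ⊤) := Groth.L00.ProperNorm.glob f
  letI := φ.toAlgebra
  haveI : Module.Finite A Γ(X, ⊤) := RingHom.finite_algebraMap.mp (Groth.L00.ProperNorm.finite_toGlobal f)
  haveI : IsNoetherianRing Γ(X, ⊤) := IsNoetherianRing.of_finite A _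
  let i := pullback.fst f (Spec.map (CommRingCat.ofHom (Ideal.Quotient.mk I)))
  haveI : IsClosedImmersion (Spec.map (CommRingCat.ofHom (Ideal.Quotient.mk I))) :=
    IsClosedImmersion.spec_of_surjective _ Ideal.Quotient.mk_surjective
  haveI : IsClosedImmersion i :=
    MorphismProperty.pullback_fst (P := @IsClosedImmersion) _ _ inferInstance
  haveI : HenselianRing (Γ(X, ⊤) : Type u) (RingHom.ker i.appTop.hom) := Groth.Agent.S17959.result i hX
  have hle : I.map φ ≤ RingHom.ker i.appTop.hom := Ideal.map_le_iff_le_comap.mpr fun a ha => by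
    show i.appTop.hom (φ a) = 0
    have h1 := ConcreteCategory.congr_hom (congrArg (fun t => (Scheme.ΓSpecIso (CommRingCat.of A)).inv ≫ Scheme.Hom.appTop t)
      (pullback.condition (f := f) (g := Spec.map (CommRingCat.ofHom (Ideal.Quotient.mk I))))) a
    simp only [Scheme.Hom.comp_appTop, ← Category.assoc, ← Scheme.ΓSpecIso_inv_naturality] at h1
    refine h1.trans ?_
    show (pullback.snd f (Spec.map (CommRingCat.ofHom (Ideal.Quotient.mk I)))).appTop ((Scheme.ΓSpecIso (CommRingCat.of (A ⧸ I))).inv (Ideal.Quotient.mk I a)) = 0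
    rw [Ideal.Quotient.eq_zero_iff_mem.mpr ha, map_zero, map_zero]
  have hsq := isPullback_SpecMap_of_isPushout _ _ _ _ (isPushout_quotient φ I)
  have hp : X.toSpecΓ ≫ Spec.map (CommRingCat.ofHom φ) = f := by
    show X.toSpecΓ ≫ Spec.map ((Scheme.ΓSpecIso (CommRingCat.of A)).inv ≫ f.appTop) = f
    simp only [Spec.map_comp, ← Category.assoc, ← Scheme.toSpecΓ_naturality]
    simp only [Category.assoc]
    rw [← SpecMap_ΓSpecIso_hom, ← Spec.map_comp, Iso.inv_hom_id, Spec.map_id]
    exact Category.comp_id f
  haveI : IsProper X.toSpecΓ := by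
    haveI : IsProper (X.toSpecΓ ≫ Spec.map (CommRingCat.ofHom φ)) := by rw [hp]; infer_instance
    exact IsProper.of_comp X.toSpecΓ (Spec.map (CommRingCat.ofHom φ))
  let t : pullback f (Spec.map (CommRingCat.ofHom (Ideal.Quotient.mk I))) ⟶
      Spec (CommRingCat.of (Γ(X, ⊤) ⧸ I.map φ)) :=
    hsq.lift (i ≫ X.toSpecΓ) (pullback.snd f (Spec.map (CommRingCat.ofHom (Ideal.Quotient.mk I))))
      (by rw [Category.assoc, hp]; exact pullback.condition)
  refine ⟨Γ(X, ⊤), inferInstance, I.map φ, Groth.L05.henselianRing_mono hle, inferInstance,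
    X.toSpecΓ, inferInstance, t, IsPullback.of_bot ?_ (hsq.lift_fst _ _ _).symm hsq⟩
  rw [hsq.lift_snd, hp]
  exact IsPullback.of_hasPullback f _

end Groth.Agent.S17965
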