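import Groth.Statements.S17966
import Groth.Agent.L27.PBC.HenselianPair
import Groth.Agent.L27.FEtProper.General
import Groth.Agent.L27.FEtExt.SepClosed
import Groth.Agent.S0238

set_option autoImplicit false
set_option linter.style.haveILetI false
set_option backward.isDefEq.respectTransparency.types false
open CategoryTheory CategoryTheory.Limits AlgebraicGeometry
universe u
open Pi1

namespace Groth.Agent.S17966

/-- Let A be a Noetherian ring, I an ideal of A, f : X ⟶ Spec A a proper morphism, i : X₀ = X ×_{Spec A}
Spec (A/I) ⟶ X the first projection, and assume that (X, X₀) is a henselian couple (for every finite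
morphism g : Y ⟶ X, every open-closed subset of Y ×_X X₀ is the inverse image under the first
projection of exactly one open-closed subset of Y). Then for every finite morphism g : X' ⟶ X, base
change of finite etale covers along the first projection X' ×_X X₀ ⟶ X' is an equivalence of
categories. -/
theorem result
    (A : Type u) [CommRing A] [IsNoetherianRing A] (I : Ideal A) {X : Scheme.{u}}
    (f : X ⟶ Spec (CommRingCat.of A)) [IsProper f]
    (hX : ∀ (Y : Scheme.{u}) (g : Y ⟶ X), IsFinite g →
      ∀ V : Set ↥(pullback g (pullback.fst f (Spec.map (CommRingCat.ofHom (Ideal.Quotient.mk I))))), IsClopen V →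
        ∃! U : Set ↥Y, IsClopen U ∧ (pullback.fst g (pullback.fst f (Spec.map (CommRingCat.ofHom (Ideal.Quotient.mk I))))).base ⁻¹' U = V)
    {X' : Scheme.{u}} (g : X' ⟶ X) [IsFinite g] :
    (FEt.restrict (pullback.fst g (pullback.fst f (Spec.map (CommRingCat.ofHom (Ideal.Quotient.mk I)))))).IsEquivalence := by
  obtain ⟨B, _, J, p, b, _, _, hsq⟩ := Groth.L27.PBC.exists_henselian_pair I f hX
  have hp : IsPullback (pullback.fst f (Groth.L27.HenselProper.ι I))
      (hsq.isoPullback.inv ≫ pullback.snd p (Groth.L27.HenselProper.ι J)) p (Groth.L27.HenselProper.ι J) :=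
    IsPullback.of_iso_pullback ⟨by
      rw [Category.assoc, ← pullback.condition, hsq.isoPullback_inv_fst_assoc]⟩ hsq.isoPullback.symm
      hsq.isoPullback_inv_fst rfl
  have hg := (IsPullback.of_hasPullback g (pullback.fst f (Groth.L27.HenselProper.ι I))).paste_vert hp
  haveI := Groth.L27.FEtProper.isEquivalence J (g ≫ p)
  haveI : (FEt.restrict hg.isoPullback.hom).IsEquivalence := Groth.Agent.S0238.result _
  exact Functor.isEquivalence_of_iso
    ((Groth.L27.FEtProper.restrictCongr hg.isoPullback_hom_fst).symm ≪≫ Groth.L27.FEtProper.restrictComp _ _).symm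

end Groth.Agent.S17966
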