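import Groth.Statements.S17968
import Groth.Agent.L05.Hensel.Criteria

set_option autoImplicit false
universe u
open Hensel

namespace Groth.Agent.S17968

/-- Let A be a commutative ring and I an ideal contained in the Jacobson radical of A. Suppose that for
every natural number m and every monic polynomial p over A whose reduction modulo I is the reduction
of (T^2 - T)^m, every idempotent of B/IB is the image of an idempotent of B, where B = A[T]/(p).
Then (A, I) is a henselian pair. -/
theorem result (A : Type u) [CommRing A]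
    (I : Ideal A) (hI : I ≤ Ideal.jacobson ⊥)
    (h : ∀ (m : ℕ) (p : Polynomial A), p.Monic →
      Polynomial.map (Ideal.Quotient.mk I) p =
        Polynomial.map (Ideal.Quotient.mk I) ((Polynomial.X ^ 2 - Polynomial.X) ^ m) →
      Set.SurjOn (Ideal.Quotient.mk (Ideal.map (algebraMap A (AdjoinRoot p)) I))
        {e : AdjoinRoot p | IsIdempotentElem e} {e | IsIdempotentElem e}) :
    HenselianRing A I := by
  refine Groth.L05.henselianRing_of_gabberRoots ⟨hI, fun f n hn hf hmap => ?_⟩
  refine Groth.L05.exists_root_of_surjOn_idem hI f n hf hmap ?_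
  intro z hz
  obtain ⟨u, rfl⟩ := Ideal.Quotient.mk_surjective z
  have hm : (Polynomial.X - 1 : Polynomial A).Monic := by
    simpa using Polynomial.monic_X_sub_C (1 : A)
  obtain ⟨m, rfl⟩ : ∃ m, n = m + 1 := ⟨n - 1, by omega⟩
  let p := f * (Polynomial.X - 1) ^ m
  let ρ : AdjoinRoot p →+* AdjoinRoot f :=
    Ideal.Quotient.factor (Ideal.span_singleton_le_span_singleton.mpr (dvd_mul_right f _))
  set J := I.map (algebraMap A (AdjoinRoot f))
  set J' := I.map (algebraMap A (AdjoinRoot p))
  have hρJ : J'.map ρ = J := by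
    rw [Ideal.map_map]
    rfl
  have hρsurj : Function.Surjective ρ := Ideal.Quotient.factor_surjective _
  let ρ' : AdjoinRoot p ⧸ J' →+* AdjoinRoot f ⧸ J :=
    Ideal.quotientMap J ρ (Ideal.map_le_iff_le_comap.mp hρJ.le)
  have hker : ∀ x ∈ RingHom.ker ρ', IsNilpotent x := by
    intro x hx
    obtain ⟨y, rfl⟩ := Ideal.Quotient.mk_surjective x
    have hy : ρ y ∈ J := Ideal.Quotient.eq_zero_iff_mem.mp hx
    rw [← hρJ, ← Ideal.mem_comap, Ideal.comap_map_of_surjective _ hρsurj, ← RingHom.ker_eq_comap_bot]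
      at hy
    obtain ⟨j, hj, k, hk, rfl⟩ := Submodule.mem_sup.mp hy
    rw [map_add, Ideal.Quotient.eq_zero_iff_mem.mpr hj, zero_add]
    obtain ⟨k', rfl⟩ := AdjoinRoot.mk_surjective k
    have hk' : f ∣ k' := AdjoinRoot.mk_eq_zero.mp hk
    obtain ⟨c, rfl⟩ := hk'
    refine ⟨m + 1, ?_⟩
    rw [← map_pow, ← map_pow, Ideal.Quotient.eq_zero_iff_mem]
    have h1 : AdjoinRoot.mk p ((f * c) ^ (m + 1)) =
        AdjoinRoot.mk p ((f * c) ^ (m + 1) -
          p * (c ^ (m + 1) * Polynomial.X ^ ((m + 1) * m))) := by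
      simp [AdjoinRoot.mk_self]
    rw [h1, ← AdjoinRoot.aeval_eq, Polynomial.aeval_eq_sum_range]
    refine Ideal.sum_mem _ fun i _ => ?_
    rw [Algebra.smul_def]
    refine Ideal.mul_mem_right _ _ (Ideal.mem_map_of_mem _ ?_)
    rw [← Ideal.Quotient.eq_zero_iff_mem, ← Polynomial.coeff_map]
    simp only [Polynomial.map_sub, Polynomial.map_pow, Polynomial.map_mul, hmap, p,
      Polynomial.map_X, Polynomial.map_one]
    rw [mul_pow, mul_pow, ← pow_mul,
      show (m + 1) * (m + 1) = (m + 1) + (m + 1) * m by ring, pow_add, pow_succ (Polynomial.X - 1)]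
    simp
    ring
  obtain ⟨z', hz', hzz⟩ := exists_isIdempotentElem_eq_of_ker_isNilpotent ρ' hker
    (Ideal.Quotient.mk J u) (Ideal.quotientMap_surjective hρsurj _) hz
  obtain ⟨e, he, hez⟩ := h (m + 1) p (hf.mul (hm.pow m)) (by
    simp only [p, Polynomial.map_mul, Polynomial.map_pow, hmap, Polynomial.map_sub, Polynomial.map_X,
      Polynomial.map_one]
    rw [show (Polynomial.X ^ 2 - Polynomial.X : Polynomial (A ⧸ I)) =
      Polynomial.X * (Polynomial.X - 1) by ring, mul_pow]
    ring) hz'
  exact ⟨ρ e, he.map ρ, by rw [← hzz, ← hez]; rfl⟩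

end Groth.Agent.S17968
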