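import Mathlib.RingTheory.IntegralClosure.IntegrallyClosed
import Mathlib.RingTheory.Localization.FractionRing
import Mathlib.LinearAlgebra.Charpoly.Basic
import Mathlib.RingTheory.TensorProduct.Basic
import Mathlib.RingTheory.Finiteness.Defs
import Mathlib.RingTheory.TensorProduct.Free
import Mathlib.RingTheory.TensorProduct.Finite
import Mathlib.Algebra.Polynomial.AlgebraMap
import Mathlib.RingTheory.Polynomial.GaussLemma
import Mathlib.RingTheory.AdjoinRoot
import Mathlib.RingTheory.Localization.BaseChange
import Mathlib.LinearAlgebra.Matrix.Charpoly.Minpoly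
import Mathlib.LinearAlgebra.Charpoly.ToMatrix
import Mathlib.FieldTheory.Minpoly.Field
import Mathlib.RingTheory.IntegralClosure.IsIntegral.Basic

set_option autoImplicit false
namespace CAlg
end CAlg
universe u
open scoped TensorProduct
open CAlg

namespace Groth.Agent.S17969

/-- Let A be an integrally closed domain with fraction field K and B a commutative A-algebra which is
finite and torsion-free as an A-module and generated as an A-algebra by a single element x. Let P be
the characteristic polynomial of multiplication by 1 ⊗ x on the finite free K-module K ⊗_A B. Then P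
has coefficients in A, namely P is the image of a monic polynomial over A, and the kernel of the
A-algebra map A[T] → B sending T to x is generated by that polynomial, so that B is A[T]/(P). -/
theorem result
    (A : Type u) [CommRing A] [IsDomain A] [IsIntegrallyClosed A]
    (B : Type u) [CommRing B] [Algebra A B] [Module.Finite A B] [NoZeroSMulDivisors A B]
    (x : B) (hx : Algebra.adjoin A {x} = ⊤) :
    ∃ P : Polynomial A, P.Monic ∧
      Polynomial.map (algebraMap A (FractionRing A)) P =
        (LinearMap.mulLeft (FractionRing A) ((1 : FractionRing A) ⊗ₜ[A] x)).charpoly ∧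
      RingHom.ker (Polynomial.aeval x).toRingHom = Ideal.span {P} := by
  classical
  let K := FractionRing A
  let x' : K ⊗[A] B := 1 ⊗ₜ x
  have hint : IsIntegral A x := IsIntegral.of_finite A x
  obtain ⟨Q, hQ, hQx⟩ := hint
  have hincl : ∀ q : Polynomial A, Polynomial.aeval x' (q.map (algebraMap A K)) = (1 : K) ⊗ₜ[A] (Polynomial.aeval x q) := fun q => by
    rw [Polynomial.aeval_map_algebraMap]
    exact (Polynomial.aeval_algHom_apply (Algebra.TensorProduct.includeRight : B →ₐ[A] K ⊗[A] B) x q)
  have hQ' : Polynomial.aeval x' (Q.map (algebraMap A K)) = 0 := by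
    rw [hincl, Polynomial.aeval_def, hQx, TensorProduct.tmul_zero]
  have hint' : IsIntegral K x' := ⟨_, hQ.map _, hQ'⟩
  obtain ⟨P, hP⟩ := IsIntegrallyClosed.eq_map_mul_C_of_dvd K hQ (minpoly.dvd K x' hQ')
  rw [(minpoly.monic hint').leadingCoeff, Polynomial.C_1, mul_one] at hP
  have hPm : P.Monic := Polynomial.monic_of_injective (IsFractionRing.injective A K) (hP ▸ minpoly.monic hint')
  have hsurj : Function.Surjective (Polynomial.aeval (R := K) x') := by
    intro z
    induction z using TensorProduct.induction_on with
    | zero => exact ⟨0, map_zero _⟩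
    | tmul k b =>
      obtain ⟨q, rfl⟩ : b ∈ (Polynomial.aeval (R := A) x).range := by
        rw [← Algebra.adjoin_singleton_eq_range_aeval, hx]; trivial
      exact ⟨k • q.map (algebraMap A K), by
        rw [map_smul, hincl, TensorProduct.smul_tmul', smul_eq_mul, mul_one]; rfl⟩
    | add a b ha hb =>
      obtain ⟨p, rfl⟩ := ha
      obtain ⟨q, rfl⟩ := hb
      exact ⟨p + q, map_add _ _ _⟩
  let e : AdjoinRoot (minpoly K x') ≃ₐ[K] K ⊗[A] B :=
    (Ideal.quotientEquivAlgOfEq K (minpoly.ker_aeval_eq_span_minpoly K x').symm).trans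
      (Ideal.quotientKerAlgEquivOfSurjective hsurj)
  let pb := (AdjoinRoot.powerBasis (minpoly.ne_zero hint')).map e
  have hgen : pb.gen = x' := by
    show Polynomial.aeval x' Polynomial.X = x'
    exact Polynomial.aeval_X _
  refine ⟨P, hPm, ?_, ?_⟩
  · rw [hP, ← hgen, ← charpoly_leftMulMatrix pb, ← LinearMap.charpoly_toMatrix (LinearMap.mulLeft K (1 ⊗ₜ[A] x)) pb.basis]
    rw [hgen]
    rfl
  · ext q
    rw [RingHom.mem_ker, Ideal.mem_span_singleton]
    show Polynomial.aeval x q = 0 ↔ P ∣ q
    rw [← Polynomial.map_dvd_map _ (IsFractionRing.injective A K) hPm, hP, minpoly.dvd_iff, hincl]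
    refine ⟨fun h => by rw [h, TensorProduct.tmul_zero], fun h => ?_⟩
    obtain ⟨c, hc⟩ := (IsLocalizedModule.eq_zero_iff (nonZeroDivisors A) (TensorProduct.mk A K B 1)).mp h
    exact (smul_eq_zero.mp hc).resolve_left (nonZeroDivisors.coe_ne_zero c)

end Groth.Agent.S17969
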