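import Groth.Statements.S1797
import Groth.Agent.L04.Canon.HLVGlobal
import Groth.Agent.L04.Canon.AffinePunctured
import Groth.Agent.S2684
import Groth.Agent.L05.Henselization.FormalPrime

set_option autoImplicit false
universe u
open LocCoh

namespace Groth.Agent.S1797

/-- Let A be an excellent normal Noetherian local ring (an integrally closed domain) and I an ideal with
dim V(I) ≥ 1, i.e. dim A/I ≥ 1. Then cd(A, I) < dim A: for every A-module M, H^i_I(M) = 0 whenever i
≥ dim A. Moreover, if dim A = 2 then the open subscheme Spec A ∖ V(I) is affine. -/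
theorem result (A : Type u) [CommRing A] [IsDomain A] [IsLocalRing A] [IsNoetherianRing A] [IsIntegrallyClosed A] (hA : EGA4.IsExcellent A) (I : Ideal A) (hI : (1 : WithBot ℕ∞) ≤ ringKrullDim (A ⧸ I)) : (∀ (M : Type u) [AddCommGroup M] [Module A M] (i : ℕ), ringKrullDim A ≤ (i : WithBot ℕ∞) → Subsingleton (LocCoh.H I i M)) ∧ (ringKrullDim A = 2 → AlgebraicGeometry.IsAffine (↑(LocCoh.puncturedOpen A I) : AlgebraicGeometry.Scheme.{u})) := by

    open IsLocalRing Groth.L04.Canon in
    (have hunib : CAlg2.IsUnibranch A := by
       have hnil : nilradical A = ⊥ := nilradical_eq_zero A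
       let e : CAlg2.red A ≃+* A := (Ideal.quotEquivOfEq hnil).trans (RingEquiv.quotientBot A)
       haveI hd : IsDomain (CAlg2.red A) := e.toMulEquiv.isDomain
       haveI : IsIntegrallyClosed (CAlg2.red A) := IsIntegrallyClosed.of_equiv e.symm
       haveI : IsLocalRing (CAlg2.red A) := IsLocalRing.of_surjective' e.symm.toRingHom e.symm.surjective
       refine ⟨hd, ?_⟩
       exact IsLocalRing.of_surjective' (algebraMap (CAlg2.red A) (CAlg2.normRed A)) fun x => by
         obtain ⟨y, hy⟩ := IsIntegrallyClosed.isIntegral_iff.1 x.2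
         exact ⟨y, Subtype.ext hy⟩
     haveI hCdom : IsDomain (EGA4.Cpl A) :=
       (Groth.Agent.S2684.result A (Groth.L05.Henselization.FormalDomain.hasGeomNormalFormalFibres_of_gRing hA.2.2.1)).1.2 hunib
     haveI := Groth.L01.AnalUnram.isNoetherianRing_completion A
     obtain ⟨d, hd⟩ := Groth.L01.exists_dim_eq_nat (R := A)
     have hI' : I ≠ ⊤ := fun h => by
       haveI : Subsingleton (A ⧸ I) := Ideal.Quotient.subsingleton_iff.2 h
       rw [ringKrullDim_eq_bot_of_subsingleton] at hI
       exact absurd hI (not_le.2 (WithBot.bot_lt_coe _))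
     have hmain := cdLE_of_completion I hd fun p hp _ => by
       rw [IsDomain.minimalPrimes_eq_singleton_bot] at hp
       rw [Set.mem_singleton_iff.1 hp, sup_bot_eq, ringKrullDim_quotient_map_completion hI']
       exact hI
     refine ⟨fun M _ _ i hi => hmain.2 M i ?_, fun h2 => ?_⟩
     · rw [hd] at hi
       have : d ≤ i := by exact_mod_cast hi
       have := hmain.1
       omega
     · refine isAffine_puncturedOpen A I ?_
       have h2' : d = 2 := by rw [hd] at h2; exact_mod_cast h2
       have h := hmain.2
       rwa [h2'] at h)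

end Groth.Agent.S1797
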