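import Groth.Statements.S17972
import Groth.Agent.L05.Hensel.Newton

set_option autoImplicit false
universe u
open Hensel

namespace Groth.Agent.S17972

/-- Let A be a henselian local ring with maximal ideal m, let P_1, …, P_n be polynomials over A in n
variables and a₀ ∈ A^n a point with P_i(a₀) ∈ m for all i whose Jacobian determinant
det(∂P_i/∂T_j)(a₀) is a unit of A, i.e. nonzero in the residue field. Then there is a ∈ A^n
congruent to a₀ modulo m in each coordinate with P_i(a) = 0 for all i. -/
theorem result
    (A : Type u) [CommRing A] [HenselianLocalRing A] (n : ℕ)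
    (P : Fin n → MvPolynomial (Fin n) A) (a₀ : Fin n → A)
    (h₀ : ∀ i, MvPolynomial.eval a₀ (P i) ∈ IsLocalRing.maximalIdeal A)
    (hJ : IsUnit (Matrix.of (fun i j => MvPolynomial.eval a₀ (MvPolynomial.pderiv j (P i)))).det) :
    ∃ a : Fin n → A, (∀ i, MvPolynomial.eval a (P i) = 0) ∧
      ∀ j, a j - a₀ j ∈ IsLocalRing.maximalIdeal A := by
  obtain ⟨b, hb, hroot⟩ := Groth.L05.exists_zero_of_jacobian (IsLocalRing.maximalIdeal A) P a₀ h₀ (by
    refine IsUnit.map _ ?_
    rw [RingHom.map_det]
    rw [← Matrix.det_transpose] at hJ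
    exact hJ)
  exact ⟨b, hroot, hb⟩

end Groth.Agent.S17972
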