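import Groth.Statements.S17973
import Groth.Agent.L27.EtaleLift
import Mathlib.RingTheory.Etale.Locus
import Mathlib.RingTheory.Localization.BaseChange
import Mathlib.RingTheory.Localization.LocalizationLocalization

set_option autoImplicit false
set_option linter.style.haveILetI false
universe u
open EGA4loc

namespace Groth.Agent.S17973

attribute [local instance] Algebra.TensorProduct.rightAlgebra

/-- Let A be a local ring, B a local ring which is a local-etale A-algebra (isomorphic over A to the
localization of an etale A-algebra at a prime ideal lying over the maximal ideal of A), and C a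
local-etale B-algebra, regarded as an A-algebra through B. Then C is a local-etale A-algebra. -/
theorem result (A : Type u) [CommRing A] [IsLocalRing A]
    (B : Type u) [CommRing B] [IsLocalRing B] [Algebra A B]
    (C : Type u) [CommRing C] [Algebra B C] [Algebra A C] [IsScalarTower A B C]
    (hB : EGA4loc.IsEssentiallyEtale A B) (hC : EGA4loc.IsEssentiallyEtale B C) :
    EGA4loc.IsEssentiallyEtale A C := by

  open TensorProduct in
  obtain ⟨C1, _, _, q, hq, hC1, hqA, ⟨eB⟩⟩ := hB
  obtain ⟨D, _, _, r, hr, hD, hrB, ⟨eC⟩⟩ := hC
  letI : Algebra C1 B := (eB.symm.toRingHom.comp (algebraMap C1 (Localization.AtPrime q))).toAlgebra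
  haveI : IsScalarTower A C1 B := .of_algebraMap_eq fun a => by
    change algebraMap A B a = eB.symm (algebraMap C1 (Localization.AtPrime q) (algebraMap A C1 a))
    rw [← IsScalarTower.algebraMap_apply, AlgEquiv.commutes]
  let eB' : Localization.AtPrime q ≃ₐ[C1] B := AlgEquiv.ofRingEquiv (f := eB.symm.toRingEquiv) fun x => rfl
  haveI : IsLocalization.AtPrime B q := IsLocalization.isLocalization_of_algEquiv q.primeCompl eB'
  obtain ⟨s, hs, _, _, C₀, _, _, hC₀, ⟨eD⟩⟩ := Groth.L27.EtaleLift.exists_model_localization C1 B q.primeCompl D
  letI : Algebra A C₀ := ((algebraMap (Localization.Away s) C₀).comp (algebraMap A (Localization.Away s))).toAlgebra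
  haveI : IsScalarTower A (Localization.Away s) C₀ := .of_algebraMap_eq' rfl
  haveI : Algebra.Etale C1 (Localization.Away s) := Algebra.Etale.of_isLocalizationAway s
  haveI : Algebra.Etale A (Localization.Away s) := Algebra.Etale.comp A C1 _
  haveI : Algebra.Etale A C₀ := Algebra.Etale.comp A (Localization.Away s) _
  haveI : IsScalarTower A (Localization.Away s) B := .of_algebraMap_eq fun a => by
    rw [IsScalarTower.algebraMap_apply A C1 B, IsScalarTower.algebraMap_apply A C1 (Localization.Away s),
      ← IsScalarTower.algebraMap_apply C1 (Localization.Away s) B]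
  letI : Algebra A D := ((algebraMap B D).comp (algebraMap A B)).toAlgebra
  haveI : IsScalarTower A B D := .of_algebraMap_eq' rfl
  haveI : IsLocalization (q.primeCompl.map (algebraMap C1 (Localization.Away s))) B :=
    IsLocalization.isLocalization_of_submonoid_le (Localization.Away s) B (Submonoid.powers s) q.primeCompl
      (Submonoid.powers_le.mpr hs)
  letI : Algebra C₀ D := (eD.toRingHom.comp (algebraMap C₀ (B ⊗[Localization.Away s] C₀))).toAlgebra
  haveI : IsScalarTower A C₀ D := .of_algebraMap_eq fun a => by
    change algebraMap A D a = eD (1 ⊗ₜ[Localization.Away s] algebraMap A C₀ a)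
    rw [IsScalarTower.algebraMap_apply A (Localization.Away s) C₀, Algebra.algebraMap_eq_smul_one (R := Localization.Away s),
      TensorProduct.tmul_smul, TensorProduct.smul_tmul', ← Algebra.algebraMap_eq_smul_one,
      ← Algebra.TensorProduct.algebraMap_apply, IsScalarTower.algebraMap_apply (Localization.Away s) B (B ⊗[Localization.Away s] C₀), eD.commutes, ← IsScalarTower.algebraMap_apply A (Localization.Away s) B]
    exact IsScalarTower.algebraMap_apply A B D a
  let eD' : (B ⊗[Localization.Away s] C₀) ≃ₐ[C₀] D := AlgEquiv.ofRingEquiv (f := eD.toRingEquiv) fun x => rfl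
  set M := Algebra.algebraMapSubmonoid C₀ (q.primeCompl.map (algebraMap C1 (Localization.Away s)))
  haveI : IsLocalization M D := IsLocalization.isLocalization_of_algEquiv M eD'
  haveI : IsLocalization.AtPrime (Localization.AtPrime r) (r.comap (algebraMap C₀ D)) :=
    IsLocalization.isLocalization_isLocalization_atPrime_isLocalization M (Localization.AtPrime r) r
  refine ⟨C₀, inferInstance, inferInstance, r.comap (algebraMap C₀ D), inferInstance, inferInstance, ?_, ?_⟩
  · rw [Ideal.comap_comap, ← IsScalarTower.algebraMap_eq A C₀ D, IsScalarTower.algebraMap_eq A B D,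
      ← Ideal.comap_comap, hrB, IsScalarTower.algebraMap_eq A C1 B, ← Ideal.comap_comap,
      show (IsLocalRing.maximalIdeal B).comap (algebraMap C1 B) = q from IsLocalization.AtPrime.under_maximalIdeal B q, hqA]
  · exact ⟨(eC.restrictScalars A).trans
      ((IsLocalization.algEquiv (r.comap (algebraMap C₀ D)).primeCompl (Localization.AtPrime r)
        (Localization.AtPrime (r.comap (algebraMap C₀ D)))).restrictScalars A)⟩

end Groth.Agent.S17973
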