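import Groth.Statements.S17974
import Mathlib.RingTheory.Unramified.Basic
import Mathlib.RingTheory.Kaehler.Basic

set_option autoImplicit false
universe u
open Unram

open scoped TensorProduct

namespace Groth.Agent.S17974

/-- Let A be a commutative ring, B an unramified A-algebra (formally unramified and of finite type), C
an A-algebra, p a prime ideal of C, and u, v : B → C two A-algebra homomorphisms which agree after
composition with C → C/p. Then there is an element f of C not in p such that u and v agree after
composition with the localization map C → C[1/f]. -/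
theorem result
    (A : Type u) [CommRing A] (B : Type u) [CommRing B] [Algebra A B]
    [Algebra.FormallyUnramified A B] [Algebra.FiniteType A B]
    (C : Type u) [CommRing C] [Algebra A C] (p : Ideal C) [p.IsPrime]
    (u v : B →ₐ[A] C)
    (huv : (Ideal.Quotient.mk p).comp u.toRingHom = (Ideal.Quotient.mk p).comp v.toRingHom) :
    ∃ f : C, f ∉ p ∧
      (algebraMap C (Localization.Away f)).comp u.toRingHom =
        (algebraMap C (Localization.Away f)).comp v.toRingHom := by
  classical
  obtain ⟨e, he, hsp⟩ : ∃ e, IsIdempotentElem e ∧ KaehlerDifferential.ideal A B = Submodule.span (B ⊗[A] B) {e} :=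
    (Ideal.isIdempotentElem_iff_of_fg _ (KaehlerDifferential.ideal_fg A B)).mp <|
      (Ideal.cotangent_subsingleton_iff _).mp <| Algebra.FormallyUnramified.subsingleton_kaehlerDifferential
  let w : B ⊗[A] B →ₐ[A] C := Algebra.TensorProduct.lift u v fun _ _ => Commute.all _ _
  have hw : w e ∈ p := by
    have hle : KaehlerDifferential.ideal A B ≤ p.comap w := by
      rw [← KaehlerDifferential.span_range_eq_ideal, Ideal.span_le]
      rintro _ ⟨b, rfl⟩
      show w (1 ⊗ₜ b - b ⊗ₜ 1) ∈ p
      simp only [w, map_sub, Algebra.TensorProduct.lift_tmul, map_one, one_mul, mul_one]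
      rw [← Ideal.Quotient.eq]
      exact (RingHom.congr_fun huv b).symm
    exact hle (hsp ▸ Submodule.mem_span_singleton_self e)
  refine ⟨1 - w e, fun h => (inferInstance : p.IsPrime).ne_top ((Ideal.eq_top_iff_one _).mpr
    (by simpa using add_mem h hw)), RingHom.ext fun b => sub_eq_zero.mp ?_⟩
  have hb : (b ⊗ₜ[A] (1 : B) - 1 ⊗ₜ b) ∈ KaehlerDifferential.ideal A B := by
    simp [KaehlerDifferential.ideal, RingHom.mem_ker]
  rw [hsp, Submodule.mem_span_singleton] at hb
  obtain ⟨t, ht⟩ := hb
  have h1 : (1 - w e) * (u b - v b) = 0 := by
    have h2 := congrArg w ht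
    simp only [smul_eq_mul, map_mul, map_sub, w, Algebra.TensorProduct.lift_tmul, map_one, one_mul, mul_one] at h2
    rw [← h2, mul_left_comm, sub_mul, one_mul]
    have : w e * w e = w e := by rw [← map_mul, he.eq]
    simp only [w] at this
    rw [this, sub_self, mul_zero]
  refine ((IsLocalization.Away.algebraMap_isUnit (S := Localization.Away (1 - w e)) (1 - w e)).mul_right_eq_zero).mp ?_
  simp only [RingHom.comp_apply, ← map_sub, ← map_mul]
  rw [show u.toRingHom b - v.toRingHom b = u b - v b from rfl, h1, map_zero]

end Groth.Agent.S17974
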