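import Groth.Statements.S17975
import Groth.Agent.L05.Hensel.Gabber
import Mathlib.RingTheory.AdjoinRoot

set_option autoImplicit false
universe u
open Hensel

namespace Groth.Agent.S17975

/-- Let A be a local ring with maximal ideal m and residue field k, C a commutative A-algebra which is
finitely generated as an A-module, Q₀ a monic polynomial of degree n over k, e an A-algebra
isomorphism from C/mC to k[T]/(Q₀), and x an element of C whose class is sent by e to the class of
T. Then x generates C as an A-algebra, and x is a root of a monic polynomial Q over A of degree n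
whose reduction modulo m equals Q₀. -/
theorem result
    (A : Type u) [CommRing A] [IsLocalRing A] (C : Type u) [CommRing C] [Algebra A C] [Module.Finite A C]
    (Q₀ : Polynomial (IsLocalRing.ResidueField A)) (hQ₀ : Q₀.Monic)
    (e : (C ⧸ Ideal.map (algebraMap A C) (IsLocalRing.maximalIdeal A)) ≃ₐ[A] AdjoinRoot Q₀)
    (x : C) (hx : e (Ideal.Quotient.mk (Ideal.map (algebraMap A C) (IsLocalRing.maximalIdeal A)) x) = AdjoinRoot.root Q₀) :
    Algebra.adjoin A {x} = ⊤ ∧
      ∃ Q : Polynomial A, Q.Monic ∧ Q.natDegree = Q₀.natDegree ∧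
        Polynomial.map (IsLocalRing.residue A) Q = Q₀ ∧ Polynomial.aeval x Q = 0 := by
  set d := Q₀.natDegree
  let S : Submodule A C := Submodule.span A (Set.range fun i : Fin d => x ^ (i : ℕ))
  have hspan : (⊤ : Submodule A C) ≤ S := by
    refine Submodule.le_of_le_smul_of_le_jacobson_bot Module.Finite.fg_top
      (IsLocalRing.maximalIdeal_le_jacobson _) fun c _ => ?_
    obtain ⟨p, hp⟩ := AdjoinRoot.mk_surjective (e (Ideal.Quotient.mk (Ideal.map (algebraMap A C) (IsLocalRing.maximalIdeal A)) c))
    have hp2 : AdjoinRoot.mk Q₀ (p %ₘ Q₀) = e (Ideal.Quotient.mk (Ideal.map (algebraMap A C) (IsLocalRing.maximalIdeal A)) c) := by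
      rw [← hp, AdjoinRoot.mk_eq_mk]
      exact ⟨-(p /ₘ Q₀), by linear_combination Polynomial.modByMonic_add_div p Q₀⟩
    choose w hw using fun i : Fin d => IsLocalRing.residue_surjective (R := A) ((p %ₘ Q₀).coeff i)
    let s : C := ∑ i : Fin d, w i • x ^ (i : ℕ)
    have hs : Ideal.Quotient.mk (Ideal.map (algebraMap A C) (IsLocalRing.maximalIdeal A)) c = Ideal.Quotient.mk (Ideal.map (algebraMap A C) (IsLocalRing.maximalIdeal A)) s := by
      apply e.injective
      rw [← hp2]
      have h1 : e (Ideal.Quotient.mk (Ideal.map (algebraMap A C) (IsLocalRing.maximalIdeal A)) s) = ∑ i : Fin d, w i • AdjoinRoot.root Q₀ ^ (i : ℕ) := by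
        simp only [s, map_sum, ← Ideal.Quotient.mkₐ_eq_mk A, map_smul, map_pow]
        rw [Ideal.Quotient.mkₐ_eq_mk]
        exact Finset.sum_congr rfl fun i _ => by rw [show e (Ideal.Quotient.mk (Ideal.map (algebraMap A C) (IsLocalRing.maximalIdeal A)) x) = AdjoinRoot.root Q₀ from hx]
      rw [h1]
      rcases eq_or_ne (p %ₘ Q₀) 0 with h0 | h0
      · rw [h0, map_zero]
        refine (Finset.sum_eq_zero fun i _ => ?_).symm
        have hwi := hw i
        rw [h0, Polynomial.coeff_zero] at hwi
        rw [Algebra.smul_def, IsScalarTower.algebraMap_apply A (IsLocalRing.ResidueField A),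
          IsLocalRing.ResidueField.algebraMap_eq, hwi, map_zero, zero_mul]
      conv_lhs => rw [(p %ₘ Q₀).as_sum_range_C_mul_X_pow' (n := d)
        ((Polynomial.natDegree_lt_iff_degree_lt h0).mpr (by
          have := Polynomial.degree_modByMonic_lt p hQ₀
          rwa [Polynomial.degree_eq_natDegree hQ₀.ne_zero] at this))]
      rw [map_sum, Finset.sum_range]
      refine Finset.sum_congr rfl fun i _ => ?_
      rw [map_mul, map_pow, AdjoinRoot.mk_C, AdjoinRoot.mk_X, ← hw i, Algebra.smul_def,
        IsScalarTower.algebraMap_apply A (IsLocalRing.ResidueField A),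
        IsLocalRing.ResidueField.algebraMap_eq, AdjoinRoot.algebraMap_eq]
    refine Submodule.mem_sup.mpr ⟨s, Submodule.sum_mem _ fun i _ =>
      Submodule.smul_mem _ _ (Submodule.subset_span ⟨i, rfl⟩), c - s, ?_, add_sub_cancel _ _⟩
    rw [Ideal.smul_top_eq_map]
    exact Ideal.Quotient.eq.mp hs
  refine ⟨top_unique fun c _ => ?_, ?_⟩
  · refine (Submodule.span_le (p := (Algebra.adjoin A ({x} : Set C)).toSubmodule)).mpr ?_ (hspan (Submodule.mem_top (x := c)))
    rintro _ ⟨i, rfl⟩
    exact pow_mem (Algebra.subset_adjoin (Set.mem_singleton x)) _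
  · obtain ⟨w, hw⟩ := (Submodule.mem_span_range_iff_exists_fun A).mp (hspan (Submodule.mem_top (x := x ^ d)))
    let T : Polynomial A := ∑ i : Fin d, Polynomial.C (w i) * Polynomial.X ^ (i : ℕ)
    let Q := Polynomial.X ^ d - T
    have hTdeg : T.degree < d :=
      (Polynomial.degree_sum_le _ _).trans_lt ((Finset.sup_lt_iff (WithBot.bot_lt_coe _)).mpr
        fun j _ => (Polynomial.degree_C_mul_X_pow_le _ _).trans_lt (WithBot.coe_lt_coe.mpr j.2))
    have hQ : Q.Monic :=
      (Polynomial.monic_X_pow d).sub_of_left (by rw [Polynomial.degree_X_pow]; exact hTdeg)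
    have hQd : Q.natDegree = d := by
      refine Polynomial.natDegree_eq_of_degree_eq_some ?_
      rw [Polynomial.degree_sub_eq_left_of_degree_lt (by rw [Polynomial.degree_X_pow]; exact hTdeg),
        Polynomial.degree_X_pow]
    have hQx : Polynomial.aeval x Q = 0 := by
      simp [Q, T, Algebra.smul_def] at hw ⊢
      rw [hw, sub_self]
    refine ⟨Q, hQ, hQd, ?_, hQx⟩
    have hdvd : Q₀ ∣ Q.map (IsLocalRing.residue A) := by
      rw [← AdjoinRoot.mk_eq_zero]
      have h0 := congrArg (fun c => e (Ideal.Quotient.mk (Ideal.map (algebraMap A C) (IsLocalRing.maximalIdeal A)) c)) hQx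
      simp only [map_zero] at h0
      rw [← Ideal.Quotient.mkₐ_eq_mk A, ← Polynomial.aeval_algHom_apply] at h0
      change e (Polynomial.aeval (Ideal.Quotient.mk (Ideal.map (algebraMap A C) (IsLocalRing.maximalIdeal A)) x) Q) = 0 at h0
      rw [← AlgEquiv.coe_toAlgHom, ← Polynomial.aeval_algHom_apply] at h0
      rw [show (e : (C ⧸ Ideal.map (algebraMap A C) (IsLocalRing.maximalIdeal A)) →ₐ[A] AdjoinRoot Q₀) (Ideal.Quotient.mk (Ideal.map (algebraMap A C) (IsLocalRing.maximalIdeal A)) x) = AdjoinRoot.root Q₀ from hx] at h0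
      rw [← h0, ← AdjoinRoot.aeval_eq, ← IsLocalRing.ResidueField.algebraMap_eq,
        Polynomial.aeval_map_algebraMap]
    exact (Polynomial.eq_of_monic_of_dvd_of_natDegree_le hQ₀ (hQ.map _) hdvd
      (by rw [hQ.natDegree_map, hQd]))

end Groth.Agent.S17975
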