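import Groth.Statements.S17976
import Groth.Agent.L05.Henselization.FinitePiece
import Mathlib.RingTheory.Localization.Away.Lemmas

set_option autoImplicit false
universe u
open Hensel

namespace Groth.Agent.S17976

/-- Let A be a commutative ring, I an ideal of A and B an A-algebra of finite type such that B/IB is a
finite A-module. Then there exist an etale A-algebra A' such that A → A'/IA' is surjective with
kernel I, and a commutative ring C which is an A'-algebra finite over A' and an etale B-algebra,
with compatible A-algebra structures, such that B → C/IC is surjective with kernel IB. In scheme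
language: an etale affine neighbourhood S' of Spec (A/I) in Spec A and an etale neighbourhood Z =
Spec C of Spec (B/IB) in Spec B, finite over S', forming a commutative square. -/
theorem result
    (A : Type u) [CommRing A] (I : Ideal A) (B : Type u) [CommRing B] [Algebra A B] [Algebra.FiniteType A B]
    (hfin : Module.Finite A (B ⧸ Ideal.map (algebraMap A B) I)) :
    ∃ (A' : Type u) (_ : CommRing A') (_ : Algebra A A') (_ : Algebra.Etale A A')
      (C : Type u) (_ : CommRing C) (_ : Algebra A C) (_ : Algebra A' C) (_ : Algebra B C)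
      (_ : IsScalarTower A A' C) (_ : IsScalarTower A B C),
      Function.Surjective ((Ideal.Quotient.mk (Ideal.map (algebraMap A A') I)).comp (algebraMap A A')) ∧
      RingHom.ker ((Ideal.Quotient.mk (Ideal.map (algebraMap A A') I)).comp (algebraMap A A')) = I ∧
      Algebra.Etale B C ∧ Module.Finite A' C ∧
      Function.Surjective ((Ideal.Quotient.mk (Ideal.map (algebraMap A C) I)).comp (algebraMap B C)) ∧
      RingHom.ker ((Ideal.Quotient.mk (Ideal.map (algebraMap A C) I)).comp (algebraMap B C)) =
        Ideal.map (algebraMap A B) I := by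
  classical
  obtain ⟨S, _, _, hS, σ, e, hσ, he, heI, hfinC⟩ := Groth.L05.Henselization.exists_finite_piece A I B hfin
  let T := TensorProduct A S B
  letI : Algebra B T := Algebra.TensorProduct.rightAlgebra
  haveI : IsScalarTower A B T := IsScalarTower.of_algebraMap_eq fun a => by
    show algebraMap A T a = TensorProduct.tmul A (1 : S) (algebraMap A B a)
    rw [Algebra.algebraMap_eq_smul_one (A := B), TensorProduct.tmul_smul, ← Algebra.TensorProduct.one_def,
      ← Algebra.algebraMap_eq_smul_one]
  haveI : Algebra.Etale B T := Algebra.Etale.of_equiv (Algebra.TensorProduct.commRight A B S)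
  let K : Ideal T := Ideal.span ({1 - e} : Set T)
  haveI : IsLocalization.Away e (T ⧸ K) := IsLocalization.Away.quotient_of_isIdempotentElem he
  haveI : Algebra.Etale T (T ⧸ K) := Algebra.Etale.of_isLocalizationAway e
  haveI : Algebra.Etale B (T ⧸ K) := Algebra.Etale.comp B T (T ⧸ K)
  let q : (A ⧸ I) →ₐ[A] B ⧸ I.map (algebraMap A B) :=
    Ideal.quotientMapₐ _ (Algebra.ofId A B) Ideal.le_comap_map
  let Φ : T →ₐ[A] B ⧸ I.map (algebraMap A B) :=
    Algebra.TensorProduct.lift (q.comp σ) (Ideal.Quotient.mkₐ A _) fun _ _ => Commute.all _ _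
  have hΦI : ∀ z ∈ I.map (algebraMap A T), Φ z = 0 := fun z hz => by
    have := Ideal.mem_map_of_mem Φ.toRingHom hz
    rw [Ideal.map_map, show Φ.toRingHom.comp (algebraMap A T) = algebraMap A _ from Φ.comp_algebraMap,
      IsScalarTower.algebraMap_eq A B (B ⧸ I.map (algebraMap A B)), ← Ideal.map_map, Ideal.Quotient.algebraMap_eq,
      Ideal.map_quotient_self, Ideal.mem_bot] at this
    exact this
  have hΦb : ∀ b : B, Φ (algebraMap B T b) = Ideal.Quotient.mk _ b := fun b => by
    show (q.comp σ) 1 * Ideal.Quotient.mkₐ A _ b = _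
    rw [map_one, one_mul]
    rfl
  have hΦK : ∀ z ∈ K, Φ z = 0 := fun z hz => by
    obtain ⟨t, rfl⟩ := Ideal.mem_span_singleton'.mp hz
    rw [← neg_sub e 1, map_mul, map_neg, hΦI _ heI, neg_zero, mul_zero]
  have hmapI : I.map (algebraMap A (T ⧸ K)) = (I.map (algebraMap A T)).map (Ideal.Quotient.mk K) := by
    rw [IsScalarTower.algebraMap_eq A T (T ⧸ K), ← Ideal.map_map]
    rfl
  refine ⟨S, inferInstance, inferInstance, hS, T ⧸ K, inferInstance, inferInstance, inferInstance, inferInstance,
    inferInstance, inferInstance, ?_, ?_, inferInstance, hfinC, ?_, ?_⟩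
  · intro z
    obtain ⟨s, rfl⟩ := Ideal.Quotient.mk_surjective z
    obtain ⟨a, ha⟩ := Ideal.Quotient.mk_surjective (σ s)
    refine ⟨a, ?_⟩
    show Ideal.Quotient.mk _ (algebraMap A S a) = _
    rw [Ideal.Quotient.eq, ← hσ, RingHom.mem_ker, map_sub, σ.commutes, ← ha]
    exact sub_self _
  · ext a
    rw [RingHom.mem_ker, RingHom.comp_apply, Ideal.Quotient.eq_zero_iff_mem, ← hσ, RingHom.mem_ker, σ.commutes,
      Ideal.Quotient.algebraMap_eq, Ideal.Quotient.eq_zero_iff_mem]
  · intro z
    obtain ⟨z, rfl⟩ := Ideal.Quotient.mk_surjective z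
    obtain ⟨z, rfl⟩ := Ideal.Quotient.mk_surjective z
    obtain ⟨b, hb⟩ := Groth.L05.Henselization.exists_sub_tmul_mem I hσ z
    refine ⟨b, ?_⟩
    show Ideal.Quotient.mk _ (Ideal.Quotient.mk K (TensorProduct.tmul A (1 : S) b)) = _
    rw [Ideal.Quotient.eq, ← map_sub, hmapI]
    exact Ideal.mem_map_of_mem _ (by rw [← neg_sub]; exact neg_mem hb)
  · ext b
    rw [RingHom.mem_ker, RingHom.comp_apply, Ideal.Quotient.eq_zero_iff_mem]
    constructor
    · intro hb
      rw [hmapI] at hb
      obtain ⟨z, hz, hzb⟩ := (Ideal.mem_map_iff_of_surjective _ Ideal.Quotient.mk_surjective).mp hb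
      have hK : z - algebraMap B T b ∈ K := Ideal.Quotient.eq.mp hzb
      have := hΦK _ hK
      rw [map_sub, hΦI z hz, zero_sub, neg_eq_zero, hΦb] at this
      exact Ideal.Quotient.eq_zero_iff_mem.mp this
    · intro hb
      have := Ideal.mem_map_of_mem (algebraMap B (T ⧸ K)) hb
      rwa [Ideal.map_map, ← IsScalarTower.algebraMap_eq] at this

end Groth.Agent.S17976
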