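import Groth.Statements.S17977
import Mathlib.RingTheory.Unramified.LocalStructure
import Mathlib.RingTheory.QuasiFinite.Weakly
-- import your own Groth.Agent.* helpers here

set_option autoImplicit false
universe u
open EGA4loc

namespace Groth.Agent.S17977

/-- Let A be a local ring, B a local ring which is a local-etale A-algebra, and C a local ring with a
local structure map A → C. Then every A-algebra homomorphism B → C is local. (The source states this
for local ind-etale B, i.e. filtered colimits of local-etale algebras along local maps, and reduces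
at once to the local-etale case stated here.) -/
theorem result (A : Type u) [CommRing A] [IsLocalRing A]
    (B : Type u) [CommRing B] [IsLocalRing B] [Algebra A B] (hB : EGA4loc.IsEssentiallyEtale A B)
    (C : Type u) [CommRing C] [IsLocalRing C] [Algebra A C] [IsLocalHom (algebraMap A C)]
    (φ : B →ₐ[A] C) : IsLocalHom φ.toRingHom := by
  obtain ⟨C0, _, _, q, _, hC0, hq, ⟨e⟩⟩ := hB
  let j : C0 →ₐ[A] B := e.symm.toAlgHom.comp (IsScalarTower.toAlgHom A C0 (Localization.AtPrime q))
  let P : Ideal C0 := (IsLocalRing.maximalIdeal C).comap (φ.comp j).toRingHom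
  haveI : P.IsPrime := Ideal.IsPrime.comap _
  have hPq : P ≤ q := by
    intro c hc
    by_contra hcq
    have h1 : IsUnit (algebraMap C0 (Localization.AtPrime q) c) :=
      IsLocalization.map_units _ (⟨c, hcq⟩ : q.primeCompl)
    exact hc ((h1.map e.symm.toAlgHom).map φ)
  have hPA : P.comap (algebraMap A C0) = IsLocalRing.maximalIdeal A := by
    ext a
    show (φ.comp j) (algebraMap A C0 a) ∈ IsLocalRing.maximalIdeal C ↔ _
    rw [AlgHom.commutes]
    rw [← IsLocalRing.maximalIdeal_comap (algebraMap A C), Ideal.mem_comap]
  haveI := hC0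
  have hPeq : P = q := Algebra.WeaklyQuasiFiniteAt.eq_of_le_of_under_eq (R := A) hPq (hPA.trans hq.symm)
  refine ⟨fun b hb => ?_⟩
  obtain ⟨x, hx⟩ : ∃ x, e b = x := ⟨_, rfl⟩
  obtain ⟨⟨c, s⟩, rfl⟩ := IsLocalization.mk'_surjective q.primeCompl x
  by_contra hnb
  have hc : c ∈ q := by
    by_contra hcq
    apply hnb
    have h2 : IsUnit (e b) := by
      rw [hx]; exact (IsLocalization.AtPrime.isUnit_mk'_iff _ q c s).2 hcq
    simpa using h2.map e.symm
  have h3 : e b * algebraMap C0 (Localization.AtPrime q) s = algebraMap C0 (Localization.AtPrime q) c := by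
    rw [hx]; exact IsLocalization.mk'_spec _ c s
  have h4 : b * j s = j c := by
    apply e.injective
    simpa [j] using h3
  rw [← hPeq] at hc
  have h5 : φ b * φ (j s) ∈ IsLocalRing.maximalIdeal C := by
    rw [← map_mul, h4]; exact hc
  rcases (IsLocalRing.maximalIdeal.isMaximal C).isPrime.mem_or_mem h5 with h6 | h6
  · exact h6 hb
  · have h7 : (s : C0) ∈ P := h6
    rw [hPeq] at h7
    exact s.2 h7

end Groth.Agent.S17977
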