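import Groth.Statements.S1798
import Groth.Agent.L04.FinLocFreeHom
import Groth.Agent.L16.CohLinear

set_option autoImplicit false
universe u
open CategoryTheory AlgebraicGeometry
open LocCoh

namespace Groth.Agent.S1798

open AlgebraicGeometry CategoryTheory TopologicalSpace Groth.L04.FinLocFreeHom
open Groth.L16.CohLinear (tm hmap)

theorem tm_scal {X : Scheme.{u}} (M : X.Modules) (r : Γ(X, ⊤)) :
    tm (scal M r) = Coh.smulAb M r := by
  ext U m
  rfl

theorem hmap_scal {X : Scheme.{u}} (M : X.Modules) (r : Γ(X, ⊤)) (p : ℕ) (x : Coh.HH X M p) :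
    hmap (scal M r) p x = (show Coh.Γtop X from r) • x := by
  change Sheaf.H.map (tm (scal M r)) p x = Sheaf.H.map (Coh.smulAb M r) p x
  rw [tm_scal]

theorem hmap_add {X : Scheme.{u}} {M N : X.Modules} (f g : M ⟶ N) (p : ℕ) (x : Coh.HH X M p) :
    hmap (f + g) p x = hmap f p x + hmap g p x := by
  change Sheaf.H.map (tm (f + g)) p x = Sheaf.H.map (tm f) p x + Sheaf.H.map (tm g) p x
  rw [show tm (f + g) = tm f + tm g from Functor.map_add _]
  exact Sheaf.H.map_add_apply _ _ _

theorem smul_hmap_eq_zero {X : Scheme.{u}} (M : X.Modules) (b : Coh.Γtop X) (p : ℕ)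
    (hb : ∀ y : Coh.HH X (Coh.structureModule X) p, b • y = 0) {g : M ⟶ M} (hg : g ∈ traceSub M)
    (x : Coh.HH X M p) : b • hmap g p x = 0 := by
  have hz : ∀ x : Coh.HH X M p, b • hmap (0 : M ⟶ M) p x = 0 := fun x => by
    have := hmap_add (0 : M ⟶ M) 0 p x
    rw [add_zero] at this
    rw [add_eq_left.1 this.symm, smul_zero]
  induction hg using AddSubgroup.closure_induction with
  | mem g hg =>
    obtain ⟨ψ, t, rfl⟩ := hg
    rw [Groth.L16.CohLinear.hmap_comp, ← map_smul, hb, map_zero]
  | zero => exact hz x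
  | add a c _ _ ha hc => rw [hmap_add, smul_add, ha, hc, add_zero]
  | neg a _ ha =>
    have := hmap_add a (-a) p x
    rw [add_neg_cancel] at this
    have h2 := congrArg (b • ·) this
    simp only [hz, smul_add, ha, zero_add] at h2
    exact h2.symm

/-- Let A be a ring, J ⊆ I finitely generated ideals, U the open complement of V(I) in Spec A and p ≥ 0.
If some power of J kills H^p(U, O_U), then for each finite locally free O_U-module F some power of J
kills H^p(U, F). -/
theorem result (A : Type u) [CommRing A] (J I : Ideal A) (hJI : J ≤ I) (hJ : J.FG) (hI : I.FG) (p n : ℕ) (hO : ∀ a ∈ J ^ n, ∀ x : Coh.HH (↑(LocCoh.puncturedOpen A I)) (Coh.structureModule (↑(LocCoh.puncturedOpen A I))) p, a • x = 0) (F : (↑(LocCoh.puncturedOpen A I) : Scheme.{u}).Modules) (hF : FlatMod.IsFinLocFree F) : ∃ m : ℕ, ∀ a ∈ J ^ m, ∀ x : Coh.HH (↑(LocCoh.puncturedOpen A I)) F p, a • x = 0 := by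

    classical
    let U := LocCoh.puncturedOpen A I
    let X : Scheme.{u} := (↑(LocCoh.puncturedOpen A I) : Scheme.{u})
    let φ : A →+* Γ(X, ⊤) := Coh.toGlobal (X ↘ Spec (CommRingCat.of A))
    have hcpt : IsCompact (U : Set (Spec (CommRingCat.of A))) :=
      (PrimeSpectrum.isCompact_isOpen_iff_ideal (R := A)).2 ⟨I, hI, rfl⟩ |>.1
    haveI : CompactSpace X := isCompact_iff_compactSpace.1 hcpt
    haveI : QuasiSeparatedSpace X := by
      have : QuasiSeparated (U.ι ≫ Limits.terminal.from _) := inferInstance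
      exact (quasiSeparated_iff_quasiSeparatedSpace (U.ι ≫ Limits.terminal.from _)).1 this
    have hbo : ∀ g : A, X.basicOpen (φ g) = U.ι ⁻¹ᵁ (PrimeSpectrum.basicOpen g) := fun g => by
      show X.basicOpen (U.ι.appTop ((Scheme.ΓSpecIso (CommRingCat.of A)).inv g)) = _
      rw [← Scheme.preimage_basicOpen_top]
      exact congrArg (U.ι ⁻¹ᵁ ·) (basicOpen_eq_of_affine (R := CommRingCat.of A) g)
    let 𝔞 : Ideal A :=
      { carrier := {a | scal F (φ a) ∈ traceSub F}
        zero_mem' := by
          show scal F (φ 0) ∈ traceSub F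
          rw [map_zero, scal_zero]
          exact zero_mem _
        add_mem' := fun {a b} ha hb => by
          show scal F (φ (a + b)) ∈ traceSub F
          rw [map_add, scal_add]
          exact add_mem ha hb
        smul_mem' := fun c a ha => by
          show scal F (φ (c * a)) ∈ traceSub F
          rw [map_mul, scal_mul]
          exact comp_scal_mem ha _ }
    have hrad : I ≤ 𝔞.radical := fun f hf => by
      rw [Ideal.radical_eq_sInf, Submodule.mem_sInf]
      rintro P ⟨h𝔞P, hP⟩
      by_contra hfP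
      let y : Spec (CommRingCat.of A) := (⟨P, hP⟩ : PrimeSpectrum A)
      have hy : y ∈ U := fun h => hfP (h hf)
      obtain ⟨W, n, e, hxW, he⟩ := exists_frame hF (⟨y, hy⟩ : U)
      obtain ⟨_, ⟨g, rfl⟩, hyg, hgW⟩ := PrimeSpectrum.isTopologicalBasis_basic_opens.exists_subset_of_mem_open
        (show y ∈ ((U.ι ''ᵁ W : (Spec (CommRingCat.of A)).Opens) : Set _) from ⟨⟨y, hy⟩, hxW, rfl⟩)
        (U.ι ''ᵁ W).2
      have hgW' : PrimeSpectrum.basicOpen g ≤ U.ι ''ᵁ W := hgW
      have hle : X.basicOpen (φ g) ≤ W := by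
        rw [hbo]
        exact le_trans ((TopologicalSpace.Opens.map U.ι.base).map (homOfLE hgW')).le
          (Scheme.Hom.preimage_image_eq U.ι W).le
      have haff : IsAffineOpen (X.basicOpen (φ g)) := by
        rw [hbo, ← U.ι.isAffineOpen_iff_of_isOpenImmersion, Scheme.Hom.image_preimage_eq_opensRange_inf,
          Scheme.Opens.opensRange_ι]
        convert IsAffineOpen.Spec_basicOpen (R := CommRingCat.of A) g using 1
        exact inf_eq_right.2 (hgW'.trans ((Scheme.Hom.image_le_opensRange U.ι W).trans U.opensRange_ι.le))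
      obtain ⟨K, hK⟩ := exists_scal_mem hF (φ g) haff _ (he.rs hle)
      rw [← map_pow] at hK
      have : g ∈ P := hP.mem_of_pow_mem K (h𝔞P hK)
      exact hyg this
    obtain ⟨k, hk⟩ := Ideal.exists_pow_le_of_le_radical_of_fg hrad hI
    refine ⟨n + k, fun a ha x => ?_⟩
    rw [pow_add] at ha
    induction ha using Submodule.mul_induction_on' with
    | mem_mul_mem b hb c hc =>
      have hc' : scal F (φ c) ∈ traceSub F := hk (Ideal.pow_right_mono hJI k hc)
      show (show Coh.Γtop X from φ (b * c)) • x = 0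
      rw [map_mul]
      refine (mul_smul (show Coh.Γtop X from φ b) (show Coh.Γtop X from φ c) x).trans ?_
      rw [← hmap_scal F (φ c) p x]
      exact smul_hmap_eq_zero F _ p (hO b hb) hc' x
    | add a _ b _ ha hb => rw [add_smul, ha, hb, add_zero]

end Groth.Agent.S1798
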