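import Groth.Statements.S17980
import Groth.Agent.L05.Hensel.Gabber
import Mathlib.RingTheory.AdjoinRoot

set_option autoImplicit false
universe u
open Hensel

namespace Groth.Agent.S17980

/-- Let A be a local ring with residue field k, and let Q R = U V be two factorizations of one
polynomial over A with Q and U monic, such that Q and U have the same image in k[T], R and V have
the same image in k[T], and the images of Q and R in k[T] generate the unit ideal. Then Q = U and R
= V. -/
theorem result (A : Type u) [CommRing A] [IsLocalRing A]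
    (Q R U V : Polynomial A) (hQ : Q.Monic) (hU : U.Monic)
    (hQU : Polynomial.map (IsLocalRing.residue A) Q = Polynomial.map (IsLocalRing.residue A) U)
    (hRV : Polynomial.map (IsLocalRing.residue A) R = Polynomial.map (IsLocalRing.residue A) V)
    (hcop : IsCoprime (Polynomial.map (IsLocalRing.residue A) Q) (Polynomial.map (IsLocalRing.residue A) R))
    (h : Q * R = U * V) : Q = U ∧ R = V := by
  have hcop' : IsCoprime Q V := by
    obtain ⟨a, b, hab⟩ := hcop
    rw [hRV] at hab
    obtain ⟨a', rfl⟩ := Polynomial.map_surjective _ IsLocalRing.residue_surjective a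
    obtain ⟨b', rfl⟩ := Polynomial.map_surjective _ IsLocalRing.residue_surjective b
    let B := AdjoinRoot Q
    have : Module.Finite A B := hQ.finite_adjoinRoot
    have hJ := Groth.L05.map_le_jacobson_bot (C := B) (IsLocalRing.maximalIdeal_le_jacobson (⊥ : Ideal A))
    have hmem : AdjoinRoot.mk Q (b' * V) - 1 ∈ (IsLocalRing.maximalIdeal A).map (algebraMap A B) := by
      have h1 : AdjoinRoot.mk Q (b' * V) - 1 = AdjoinRoot.mk Q (a' * Q + b' * V - 1) := by
        simp [AdjoinRoot.mk_self]
      rw [h1, ← AdjoinRoot.aeval_eq, Polynomial.aeval_eq_sum_range]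
      refine Ideal.sum_mem _ fun i _ => ?_
      rw [Algebra.smul_def]
      refine Ideal.mul_mem_right _ _ (Ideal.mem_map_of_mem _ ?_)
      rw [← IsLocalRing.residue_eq_zero_iff, ← Polynomial.coeff_map]
      simp [hab]
    obtain ⟨c, hc⟩ := (Groth.L05.isUnit_of_sub_one_mem hJ hmem).exists_left_inv
    obtain ⟨c', rfl⟩ := AdjoinRoot.mk_surjective c
    rw [← map_mul, ← map_one (AdjoinRoot.mk Q), AdjoinRoot.mk_eq_mk] at hc
    obtain ⟨d, hd⟩ := hc
    exact ⟨-d, c' * b', by linear_combination hd⟩
  obtain ⟨d, hd⟩ : Q ∣ U := hcop'.dvd_of_dvd_mul_right ⟨R, h.symm⟩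
  have hdeg : Q.natDegree = U.natDegree := by
    rw [← hQ.natDegree_map (IsLocalRing.residue A), hQU, hU.natDegree_map]
  have hQUeq : Q = U := (Polynomial.eq_of_monic_of_dvd_of_natDegree_le hQ hU ⟨d, hd⟩ hdeg.ge).symm
  exact ⟨hQUeq, hU.isRegular.left (by show U * R = U * V; rw [← h, hQUeq])⟩

end Groth.Agent.S17980
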