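import Groth.Statements.S17982
import Groth.Agent.L05.Hensel.Product
import Mathlib.RingTheory.Ideal.GoingUp
import Mathlib.RingTheory.Artinian.Ring

set_option autoImplicit false
universe u
open Hensel

namespace Groth.Agent.S17982

/-- Let A be a local ring and B a commutative A-algebra which is finitely generated as an A-module. Then
B is ring-isomorphic to a finite product of local rings if and only if the canonical homomorphism
from B to the product of the localizations of B at its maximal ideals is bijective. -/
theorem result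
    (A : Type u) [CommRing A] [IsLocalRing A] (B : Type u) [CommRing B] [Algebra A B] [Module.Finite A B] :
    (∃ (ι : Type u) (_ : Fintype ι) (C : ι → Type u) (_ : ∀ j, CommRing (C j)),
        (∀ j, IsLocalRing (C j)) ∧ Nonempty (B ≃+* (∀ j, C j))) ↔
    Function.Bijective
      (RingHom.pi (fun n : MaximalSpectrum B => algebraMap B (Localization.AtPrime n.asIdeal))) := by
  classical
  constructor
  · rintro ⟨ι, _, C, _, hloc, ⟨Φ⟩⟩
    let π : ∀ j, B →+* C j := fun j => (Pi.evalRingHom C j).comp Φ.toRingHom
    have hπ : ∀ j, Function.Surjective (π j) := fun j =>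
      (Function.surjective_eval j).comp Φ.surjective
    let e : ι → B := fun j => Φ.symm (Pi.single j 1)
    have he : ∀ j x y, π j x = π j y → e j * x = e j * y := fun j x y h => Φ.injective (funext fun i => by
      rcases eq_or_ne i j with rfl | hij
      · simpa [e, π] using h
      · simp [e, Pi.single_eq_of_ne hij])
    have he1 : ∀ j, π j (e j) = 1 := fun j => by simp [e, π]
    have hsum : ∑ j, e j = 1 := Φ.injective (by simp [e, map_sum, Finset.univ_sum_single]; rfl)
    have hne : ∀ (n : MaximalSpectrum B) j, e j ∉ n.asIdeal →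
        ∀ s, s ∉ n.asIdeal → IsUnit (π j s) := by
      intro n j hj s hs
      have hle : n.asIdeal ≤ (IsLocalRing.maximalIdeal (C j)).comap (π j) := by
        intro x hx hu
        obtain ⟨y, hy⟩ := hπ j ↑hu.unit⁻¹
        refine hj ?_
        have := he j (x * y) 1 (by rw [map_mul, hy, map_one, IsUnit.mul_val_inv])
        rw [mul_one] at this
        exact this ▸ Ideal.mul_mem_left _ _ (n.asIdeal.mul_mem_right _ hx)
      by_contra hu
      exact hs ((n.isMaximal.eq_of_le (Ideal.comap_ne_top _ (IsLocalRing.maximalIdeal.isMaximal _).ne_top) hle).ge hu)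
    have hex : ∀ n : MaximalSpectrum B, ∃ j, e j ∉ n.asIdeal := fun n => by
      by_contra h
      push Not at h
      exact n.isMaximal.ne_top ((Ideal.eq_top_iff_one _).mpr (hsum ▸ Submodule.sum_mem _ fun j _ => h j))
    refine ⟨(injective_iff_map_eq_zero _).mpr fun b hb => Φ.injective (funext fun j => ?_), fun y => ?_⟩
    · haveI := Ideal.comap_isMaximal_of_surjective (π j) (hπ j) (K := IsLocalRing.maximalIdeal (C j))
      obtain ⟨t, ht⟩ := (IsLocalization.map_eq_zero_iff ((IsLocalRing.maximalIdeal (C j)).comap (π j)).primeCompl _ b).mp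
        (congrFun hb ⟨(IsLocalRing.maximalIdeal (C j)).comap (π j), inferInstance⟩)
      have htu : IsUnit (π j t) := not_not.mp t.2
      rw [map_zero, Pi.zero_apply]
      exact htu.mul_right_eq_zero.mp (show π j t * π j b = 0 by rw [← map_mul, ht, map_zero])
    · choose a s has using fun n : MaximalSpectrum B => IsLocalization.exists_mk'_eq n.asIdeal.primeCompl (y n)
      have hnj : ∀ j, (IsLocalRing.maximalIdeal (C j)).comap (π j) |>.IsMaximal := fun j =>
        Ideal.comap_isMaximal_of_surjective (π j) (hπ j)
      let N : ι → MaximalSpectrum B := fun j => ⟨_, hnj j⟩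
      have hsu : ∀ j, IsUnit (π j (s (N j))) := fun j => not_not.mp (s (N j)).2
      refine ⟨Φ.symm fun j => π j (a (N j)) * ↑(hsu j).unit⁻¹, funext fun n => ?_⟩
      obtain ⟨j, hj⟩ := hex n
      obtain rfl : N j = n := MaximalSpectrum.ext (Eq.symm <| n.isMaximal.eq_of_le (hnj j).ne_top fun x hx hu => by
        obtain ⟨z, hz⟩ := hπ j ↑hu.unit⁻¹
        refine hj ?_
        have := he j (x * z) 1 (by rw [map_mul, hz, map_one, IsUnit.mul_val_inv])
        rw [mul_one] at this
        exact this ▸ Ideal.mul_mem_left _ _ (n.asIdeal.mul_mem_right _ hx))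
      rw [RingHom.pi_apply, ← has, IsLocalization.eq_mk'_iff_mul_eq, ← map_mul]
      refine (IsLocalization.eq_iff_exists (N j).asIdeal.primeCompl _).mpr ⟨⟨e j, hj⟩, he j _ _ ?_⟩
      rw [map_mul, show π j (Φ.symm fun j => π j (a (N j)) * ↑(hsu j).unit⁻¹) = π j (a (N j)) * ↑(hsu j).unit⁻¹ by simp [π],
        mul_assoc, IsUnit.val_inv_mul, mul_one]
  · intro h
    haveI : Finite (MaximalSpectrum B) := by
      let J := (IsLocalRing.maximalIdeal A).map (algebraMap A B)
      letI : Field (A ⧸ IsLocalRing.maximalIdeal A) := Ideal.Quotient.field _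
      haveI : Module.Finite (A ⧸ IsLocalRing.maximalIdeal A) (B ⧸ J) :=
        Module.Finite.of_restrictScalars_finite A (A ⧸ IsLocalRing.maximalIdeal A) (B ⧸ J)
      haveI : IsArtinianRing (B ⧸ J) := IsArtinianRing.of_finite (A ⧸ IsLocalRing.maximalIdeal A) (B ⧸ J)
      haveI : Algebra.IsIntegral A B := Algebra.IsIntegral.of_finite A B
      have hJ : ∀ n : MaximalSpectrum B, J ≤ n.asIdeal := fun n => by
        haveI := n.isMaximal
        rw [Ideal.map_le_iff_le_comap]
        exact (IsLocalRing.eq_maximalIdeal (Ideal.isMaximal_comap_of_isIntegral_of_isMaximal (R := A) n.asIdeal)).ge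
      refine Finite.of_injective (β := MaximalSpectrum (B ⧸ J)) (fun n => ⟨n.asIdeal.map (Ideal.Quotient.mk J),
        haveI := n.isMaximal
        (Ideal.map_eq_top_or_isMaximal_of_surjective _ Ideal.Quotient.mk_surjective n.isMaximal).resolve_left
          fun ht => n.isMaximal.ne_top ?_⟩) fun n n' hn => MaximalSpectrum.ext ?_
      · have := congrArg (Ideal.comap (Ideal.Quotient.mk J)) ht
        rwa [Ideal.comap_map_of_surjective _ Ideal.Quotient.mk_surjective, ← RingHom.ker_eq_comap_bot, Ideal.mk_ker,
          Ideal.comap_top, sup_eq_left.mpr (hJ n)] at this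
      · have := congrArg (fun z => Ideal.comap (Ideal.Quotient.mk J) z.asIdeal) hn
        simpa [Ideal.comap_map_of_surjective _ Ideal.Quotient.mk_surjective, ← RingHom.ker_eq_comap_bot, Ideal.mk_ker,
          sup_eq_left.mpr (hJ n), sup_eq_left.mpr (hJ n')] using this
    letI := Fintype.ofFinite (MaximalSpectrum B)
    exact ⟨MaximalSpectrum B, inferInstance, fun n => Localization.AtPrime n.asIdeal, inferInstance,
      fun n => inferInstance, ⟨RingEquiv.ofBijective _ h⟩⟩

end Groth.Agent.S17982
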