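import Groth.Statements.S17983
import Mathlib.FieldTheory.Minpoly.IsIntegrallyClosed
import Mathlib.Analysis.Complex.Polynomial.Basic
import Mathlib.RingTheory.Polynomial.Vieta
import Mathlib.RingTheory.IntegralClosure.IntegrallyClosed
import Mathlib.RingTheory.Polynomial.RationalRoot
import Mathlib.Algebra.Polynomial.Roots

set_option autoImplicit false
universe u
open WeilNum

namespace Groth.Agent.S17983

/-- Let p be a prime number, e ≥ 1 and q = p^e. Let π be an element of a field of characteristic zero
which is integral over ℤ, with minimal polynomial P over ℤ, and assume that every complex root of P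
has absolute value √q and that no complex root of P is real (π is a nonreal Weil q-number). Then the
degree of P is even, say 2d, and writing a_j for the coefficient of x^j in P one has a_{d−r} = q^r ·
a_{d+r} for every 0 ≤ r ≤ d. -/
theorem result (p e : ℕ) [Fact p.Prime] (he : 0 < e)
    (K : Type u) [Field K] [CharZero K] (π : K) (hπ : IsIntegral ℤ π)
    (hweil : ∀ z ∈ (minpoly ℤ π).aroots ℂ, ‖z‖ = Real.sqrt ((p : ℝ) ^ e))
    (hnr : ∀ z ∈ (minpoly ℤ π).aroots ℂ, z.im ≠ 0) :
    Even (minpoly ℤ π).natDegree ∧
      ∀ r ≤ (minpoly ℤ π).natDegree / 2,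
        (minpoly ℤ π).coeff ((minpoly ℤ π).natDegree / 2 - r) =
          (p : ℤ) ^ (e * r) * (minpoly ℤ π).coeff ((minpoly ℤ π).natDegree / 2 + r) := by
  classical
  set P := minpoly ℤ π with hP
  set φ : ℤ →+* ℂ := Int.castRingHom ℂ
  set PC := P.map φ with hPC
  set s := PC.roots with hs
  have hmon : P.Monic := minpoly.monic hπ
  have hirr : Irreducible (P.map (algebraMap ℤ ℚ)) := by
    rw [hP, ← minpoly.isIntegrallyClosed_eq_field_fractions' ℚ hπ]
    exact minpoly.irreducible hπ.tower_top
  have hsep : PC.Separable := by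
    have := hirr.separable.map (f := algebraMap ℚ ℂ)
    rwa [Polynomial.map_map, show (algebraMap ℚ ℂ).comp (algebraMap ℤ ℚ) = φ from RingHom.ext_int _ _] at this
  have hnd : s.Nodup := Polynomial.nodup_roots hsep
  have hsplit : PC.Splits := IsAlgClosed.splits PC
  have hcard : Multiset.card s = P.natDegree := by
    rw [hs, ← Polynomial.Splits.natDegree_eq_card_roots hsplit, Polynomial.natDegree_map_eq_of_injective Int.cast_injective]
  have hw : ∀ z ∈ s, ‖z‖ = Real.sqrt ((p : ℝ) ^ e) := fun z hz => hweil z hz
  have hr : ∀ z ∈ s, z.im ≠ 0 := fun z hz => hnr z hz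
  set q : ℂ := ((p : ℂ)) ^ e with hq
  have hp0 : (p : ℂ) ≠ 0 := Nat.cast_ne_zero.2 (Fact.out (p := p.Prime)).ne_zero
  have hmul : ∀ z ∈ s, z * (starRingEnd ℂ) z = q := fun z hz => by
    rw [Complex.mul_conj, Complex.normSq_eq_norm_sq, hw z hz, Real.sq_sqrt (by positivity)]
    simp [hq]
  -- the roots come in conjugate pairs
  have hconjmem : ∀ z ∈ s, (starRingEnd ℂ) z ∈ s := fun z hz => by
    rw [hs, Polynomial.mem_roots (hmon.map φ).ne_zero] at hz ⊢
    simp only [Polynomial.IsRoot, hPC, Polynomial.eval_map] at hz ⊢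
    rw [show φ = (starRingEnd ℂ).comp φ from RingHom.ext_int _ _, ← Polynomial.hom_eval₂, hz, map_zero]
  set F := s.toFinset with hF
  set Up := F.filter (fun z => 0 < z.im) with hUp
  have hdown : F.filter (fun z => ¬ 0 < z.im) = Up.image (starRingEnd ℂ) := by
    ext z
    simp only [hUp, hF, Finset.mem_filter, Finset.mem_image, Multiset.mem_toFinset, not_lt]
    constructor
    · rintro ⟨hz, hle⟩
      refine ⟨(starRingEnd ℂ) z, ⟨hconjmem z hz, ?_⟩, Complex.conj_conj z⟩
      simpa using lt_of_le_of_ne hle (hr z hz)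
    · rintro ⟨w, ⟨hw', hpos⟩, rfl⟩
      exact ⟨hconjmem w hw', by simp [hpos.le]⟩
  have hinj : Set.InjOn (starRingEnd ℂ) Up := fun a _ b _ h => (starRingEnd ℂ).injective h
  have hcard2 : P.natDegree = 2 * Up.card := by
    rw [← hcard, ← Multiset.toFinset_card_of_nodup hnd, ← Finset.card_filter_add_card_filter_not (fun z : ℂ => 0 < z.im),
      ← hF, hdown, Finset.card_image_of_injOn hinj, two_mul]
  have hprod : s.prod = q ^ Up.card := by
    have : s.prod = ∏ z ∈ F, z := by
      rw [Finset.prod_eq_multiset_prod, Multiset.map_id', hF, Multiset.toFinset_val, Multiset.dedup_eq_self.2 hnd]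
    rw [this, ← Finset.prod_filter_mul_prod_filter_not F (fun z : ℂ => 0 < z.im), hdown, Finset.prod_image hinj,
      ← Finset.prod_mul_distrib, Finset.prod_congr rfl fun z hz => hmul z (Multiset.mem_toFinset.1 (Finset.mem_filter.1 hz).1),
      Finset.prod_const]
  have h2 : Even P.natDegree := ⟨Up.card, by omega⟩
  refine ⟨h2, fun r hr' => ?_⟩
  set d := Up.card
  rw [show P.natDegree / 2 = d by omega] at hr' ⊢
  -- conjugation invariance of the roots
  have hperm : s.map (starRingEnd ℂ) = s := by
    refine (Multiset.Nodup.ext (hnd.map (starRingEnd ℂ).injective) hnd).2 fun z => ?_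
    simp only [Multiset.mem_map]
    exact ⟨fun ⟨w, hw', h⟩ => h ▸ hconjmem w hw', fun hz => ⟨_, hconjmem z hz, Complex.conj_conj z⟩⟩
  have hev : ∀ x : ℂ, PC.eval x = (s.map fun z => x - z).prod := fun x => by
    conv_lhs => rw [hsplit.eq_prod_roots, (hmon.map φ).leadingCoeff, Polynomial.C_1, one_mul,
      Polynomial.eval_multiset_prod, Multiset.map_map]
    simp [hs]
  have hfun : ∀ x : ℂ, x ≠ 0 → x ^ (2 * d) * PC.eval (q / x) = q ^ d * PC.eval x := by
    intro x hx
    rw [hev, hev, ← hcard2, ← hcard]
    calc x ^ Multiset.card s * (s.map fun z => q / x - z).prod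
        = (s.map fun z => z * (-1 * (x - (starRingEnd ℂ) z))).prod := by
          rw [← Multiset.prod_replicate, ← Multiset.map_const', ← Multiset.prod_map_mul]
          refine congrArg Multiset.prod (Multiset.map_congr rfl fun z hz => ?_)
          rw [mul_sub, mul_div_cancel₀ _ hx, ← hmul z hz]
          ring
      _ = s.prod * ((-1) ^ Multiset.card s * ((s.map (starRingEnd ℂ)).map fun z => x - z).prod) := by
          rw [Multiset.prod_map_mul, Multiset.map_id', Multiset.prod_map_mul, Multiset.map_const',
            Multiset.prod_replicate, Multiset.map_map]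
          rfl
      _ = q ^ d * (s.map fun z => x - z).prod := by
          rw [hperm, hprod, hcard, hcard2, pow_mul]
          norm_num
  set G : Polynomial ℂ := ∑ k ∈ Finset.range (2 * d + 1), Polynomial.monomial (2 * d - k) (PC.coeff k * q ^ k) with hG
  have hG' : G = Polynomial.C (q ^ d) * PC := by
    refine Polynomial.eq_of_infinite_eval_eq _ _ ((Set.finite_singleton (0 : ℂ)).infinite_compl.mono fun x hx => ?_)
    have hx : x ≠ 0 := hx
    simp only [Set.mem_setOf_eq, hG, Polynomial.eval_finset_sum, Polynomial.eval_monomial, Polynomial.eval_mul, Polynomial.eval_C]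
    rw [← hfun x hx, Polynomial.eval_eq_sum_range' (n := 2 * d + 1)
      (by rw [Polynomial.natDegree_map_eq_of_injective Int.cast_injective, hcard2]; exact Nat.lt_succ_self _), Finset.mul_sum]
    refine Finset.sum_congr rfl fun k hk => ?_
    rw [div_pow, ← Nat.sub_add_cancel (Nat.lt_succ_iff.1 (Finset.mem_range.1 hk)), pow_add, Nat.add_sub_cancel_right]
    field_simp
  have h := congrArg (fun g : Polynomial ℂ => g.coeff (d + r)) hG'
  simp only [hG, Polynomial.finset_sum_coeff, Polynomial.coeff_monomial, Polynomial.coeff_C_mul] at h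
  rw [Finset.sum_eq_single (d - r)
    (fun k hk hne => if_neg (by have := Finset.mem_range.1 hk; omega))
    (fun hk => absurd (Finset.mem_range.2 (by omega)) hk), if_pos (by omega),
    show q ^ d = q ^ (d - r) * q ^ r by rw [← pow_add, Nat.sub_add_cancel hr'], hPC] at h
  simp only [Polynomial.coeff_map, φ, eq_intCast] at h
  apply Int.cast_injective (α := ℂ)
  rw [Int.cast_mul, Int.cast_pow, Int.cast_natCast, pow_mul, ← hq]
  exact mul_right_cancel₀ (pow_ne_zero (d - r) (pow_ne_zero e hp0)) (h.trans (by ring))

end Groth.Agent.S17983
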