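import Groth.Statements.S17984
import Groth.Agent.L14.WeilCI.Alg
import Mathlib.RingTheory.Polynomial.RationalRoot
import Mathlib.FieldTheory.Minpoly.IsIntegrallyClosed
import Mathlib.Analysis.Complex.Polynomial.Basic
import Mathlib.RingTheory.Polynomial.Basic

set_option autoImplicit false
universe u
open MvPolynomial
open WeilNum

namespace Groth.Agent.S17984

/-- Let p be a prime, e ≥ 1 and q = p^e. Let (π_i) be a finite family of pairwise nonconjugate Weil
q-numbers: π_i is an element of a field K_i of characteristic zero, integral over ℤ with minimal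
polynomial P_i, every complex root of P_i has absolute value √q, and P_i ≠ P_j for i ≠ j. Suppose
the total degree Σ_i deg P_i is even, equal to 2D (equivalently, the family contains either none or
both of the rational Weil q-numbers ±q^{1/2}). Put P_w = ∏_i P_i and let h ∈ ℤ[F, V] (F = X_0, V =
X_1) be any polynomial with F^D · h ≡ P_w(F) modulo FV − q; such an h exists, is unique modulo FV −
q, and the product of the symmetric polynomials h_{π_i} is one. Then the kernel of the ring map ℤ[F,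
V] → ∏_i K_i, F ↦ (π_i), V ↦ (q/π_i), whose image is the minimal central order R_w, is the ideal
generated by FV − q and h, and (FV − q, h) is a regular sequence in ℤ[F, V]: R_w is the complete
intersection ℤ[F, V]/(FV − q, h). -/
theorem result (p e : ℕ) [Fact p.Prime] (he : 0 < e)
    (ι : Type) [Fintype ι] (K : ι → Type u) [∀ i, Field (K i)] [∀ i, CharZero (K i)] (π : ∀ i, K i)
    (hint : ∀ i, IsIntegral ℤ (π i))
    (hweil : ∀ i, ∀ z ∈ (minpoly ℤ (π i)).aroots ℂ, ‖z‖ = Real.sqrt ((p : ℝ) ^ e))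
    (hinj : ∀ i j, minpoly ℤ (π i) = minpoly ℤ (π j) → i = j)
    (D : ℕ) (hD : ∑ i, (minpoly ℤ (π i)).natDegree = 2 * D)
    (h : MvPolynomial (Fin 2) ℤ)
    (hh : X 0 ^ D * h - Polynomial.aeval (X 0 : MvPolynomial (Fin 2) ℤ) (∏ i, minpoly ℤ (π i)) ∈
      Ideal.span ({X 0 * X 1 - C ((p : ℤ) ^ e)} : Set (MvPolynomial (Fin 2) ℤ))) :
    RingHom.ker (MvPolynomial.aeval ![fun i => π i, fun i => ((p : K i) ^ e) / π i] :
        MvPolynomial (Fin 2) ℤ →ₐ[ℤ] ((i : ι) → K i)) =
        Ideal.span {X 0 * X 1 - C ((p : ℤ) ^ e), h} ∧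
      RingTheory.Sequence.IsWeaklyRegular (MvPolynomial (Fin 2) ℤ) [X 0 * X 1 - C ((p : ℤ) ^ e), h] := by
  classical
  set q : ℤ := (p : ℤ) ^ e with hq_def
  have hq : q ≠ 0 := pow_ne_zero _ (by exact_mod_cast (Fact.out : p.Prime).ne_zero)
  set P : Polynomial ℤ := ∏ i, minpoly ℤ (π i) with hP_def
  have hPm : P.Monic := Polynomial.monic_prod_of_monic _ _ fun i _ => minpoly.monic (hint i)
  have hPd : P.natDegree = 2 * D := by
    rw [hP_def, Polynomial.natDegree_prod_of_monic _ _ fun i _ => minpoly.monic (hint i)]; exact hD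
  have habs : ∀ i, |((minpoly ℤ (π i)).coeff 0 : ℝ)| = Real.sqrt ((p : ℝ) ^ e) ^ (minpoly ℤ (π i)).natDegree := by
    intro i
    set Q := minpoly ℤ (π i)
    have hQ : (Q.map (algebraMap ℤ ℂ)).Monic := (minpoly.monic (hint i)).map _
    have hs : (Q.map (algebraMap ℤ ℂ)).Splits := IsAlgClosed.splits _
    have h1 := Polynomial.Splits.coeff_zero_eq_prod_roots_of_monic hs hQ
    have h2 := congrArg (fun z : ℂ => ‖z‖) h1
    simp only [Polynomial.coeff_map, norm_mul, norm_pow, norm_neg, norm_one, one_pow, one_mul] at h2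
    rw [show (algebraMap ℤ ℂ (Q.coeff 0)) = ((Q.coeff 0 : ℝ) : ℂ) by simp, Complex.norm_real, Real.norm_eq_abs] at h2
    rw [h2]
    have hn : ‖(Q.map (algebraMap ℤ ℂ)).roots.prod‖ = ((Q.map (algebraMap ℤ ℂ)).roots.map fun z => ‖z‖).prod :=
      map_multiset_prod (normHom : ℂ →*₀ ℝ) _
    rw [hn, show (Q.map (algebraMap ℤ ℂ)).roots.map (fun z => ‖z‖) =
        Multiset.replicate (Q.map (algebraMap ℤ ℂ)).roots.card (Real.sqrt ((p : ℝ) ^ e)) from
      Multiset.eq_replicate.2 ⟨Multiset.card_map _ _, fun b hb => by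
        obtain ⟨z, hz, rfl⟩ := Multiset.mem_map.1 hb
        exact hweil i z hz⟩, Multiset.prod_replicate, ← hs.natDegree_eq_card_roots,
      (minpoly.monic (hint i)).natDegree_map]
  have hπ : ∀ i, π i ≠ 0 := fun i h0 => by
    have h1 : (minpoly ℤ (π i)).coeff 0 = 0 := by
      have := minpoly.aeval ℤ (π i)
      generalize minpoly ℤ (π i) = Q at this ⊢
      rw [h0, ← Polynomial.coeff_zero_eq_aeval_zero'] at this
      exact_mod_cast (map_eq_zero_iff _ (FaithfulSMul.algebraMap_injective ℤ (K i))).1 this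
    have h2 := habs i
    rw [h1] at h2
    simp only [Int.cast_zero, abs_zero] at h2
    exact absurd h2.symm (pow_ne_zero _ (Real.sqrt_ne_zero'.2 (pow_pos (by exact_mod_cast (Fact.out : p.Prime).pos) _)))
  have hP0 : ∃ ε : ℤ, IsUnit ε ∧ P.coeff 0 = ε * q ^ D := by
    have h1 : |(P.coeff 0 : ℝ)| = ((q ^ D : ℤ) : ℝ) := by
      rw [hP_def, Polynomial.coeff_zero_prod, Int.cast_prod, Finset.abs_prod,
        Finset.prod_congr rfl fun i _ => habs i, Finset.prod_pow_eq_pow_sum, hD, pow_mul,
        Real.sq_sqrt (pow_nonneg (Nat.cast_nonneg _) _)]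
      simp [hq_def]
    have h2 : |P.coeff 0| = q ^ D := by exact_mod_cast h1
    rcases (abs_eq (h2 ▸ abs_nonneg (P.coeff 0))).1 h2 with h3 | h3
    · exact ⟨1, isUnit_one, by rw [h3, one_mul]⟩
    · exact ⟨-1, isUnit_one.neg, by rw [h3, neg_one_mul]⟩
  refine ⟨Groth.L14.WeilCI.ker_eq_span q hq hh hPm hPd hP0 _ ?_ (fun a ha => ?_) ?_ (fun Q hQ => ?_),
    Groth.L14.WeilCI.isWeaklyRegular q hq hh hPm⟩
  · funext i
    simp [Groth.L14.WeilCI.rel, hq_def, mul_div_cancel₀ _ (hπ i)]
  · funext i
    have := congrFun ha i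
    simpa [hπ i] using this
  · funext i
    rw [MvPolynomial.aeval_X, Polynomial.aeval_pi_apply, Pi.zero_apply]
    simp only [Matrix.cons_val_zero]
    rw [map_prod]
    exact Finset.prod_eq_zero (Finset.mem_univ i) (minpoly.aeval ℤ (π i))
  · have hd : ∀ i, minpoly ℤ (π i) ∣ Q := fun i => by
      refine minpoly.isIntegrallyClosed_dvd (hint i) ?_
      have := congrFun hQ i
      rw [MvPolynomial.aeval_X, Polynomial.aeval_pi_apply] at this
      simpa using this
    refine Finset.prod_dvd_of_isRelPrime (fun i _ j _ hij => ?_) fun i _ => hd i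
    refine ((minpoly.prime_of_isIntegrallyClosed (hint i)).irreducible.isRelPrime_iff_not_dvd).2 fun hdvd => ?_
    exact hij (hinj i j (Polynomial.eq_of_monic_of_associated (minpoly.monic (hint i)) (minpoly.monic (hint j))
      ((minpoly.prime_of_isIntegrallyClosed (hint i)).associated_of_dvd
        (minpoly.prime_of_isIntegrallyClosed (hint j)) hdvd)))

end Groth.Agent.S17984
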