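import Groth.Statements.S17985
import Groth.Agent.L14.WeilCI.Order
import Mathlib.RingTheory.RegularLocalRing.Polynomial
import Mathlib.RingTheory.Polynomial.Basic

set_option autoImplicit false
universe u
open MvPolynomial
open WeilNum

namespace Groth.Agent.S17985

/-- Let p be a prime, e ≥ 1 and q = p^e. Let (π_i) be a nonempty finite family of pairwise nonconjugate
Weil q-numbers: π_i is an element of a field K_i of characteristic zero, integral over ℤ with
minimal polynomial P_i, every complex root of P_i has absolute value √q, and P_i ≠ P_j for i ≠ j.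
Suppose the total degree Σ_i deg P_i is even, equal to 2D. Let R_w be the minimal central order, the
image of ℤ[F, V] → ∏_i K_i, F ↦ (π_i), V ↦ (q/π_i). Then R_w is free of rank 2D as a ℤ-module, has
Krull dimension 1, and is a Gorenstein ring (Noetherian, with all localizations at primes of finite
injective dimension over themselves). -/
theorem result (p e : ℕ) [Fact p.Prime] (he : 0 < e)
    (ι : Type) [Fintype ι] (K : ι → Type u) [∀ i, Field (K i)] [∀ i, CharZero (K i)] (π : ∀ i, K i)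
    (hint : ∀ i, IsIntegral ℤ (π i))
    (hweil : ∀ i, ∀ z ∈ (minpoly ℤ (π i)).aroots ℂ, ‖z‖ = Real.sqrt ((p : ℝ) ^ e))
    (hinj : ∀ i j, minpoly ℤ (π i) = minpoly ℤ (π j) → i = j)
    [Nonempty ι] (D : ℕ) (hD : ∑ i, (minpoly ℤ (π i)).natDegree = 2 * D) :
    Module.Free ℤ (MvPolynomial.aeval ![fun i => π i, fun i => ((p : K i) ^ e) / π i] :
        MvPolynomial (Fin 2) ℤ →ₐ[ℤ] ((i : ι) → K i)).range ∧
      Module.finrank ℤ (MvPolynomial.aeval ![fun i => π i, fun i => ((p : K i) ^ e) / π i] :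
        MvPolynomial (Fin 2) ℤ →ₐ[ℤ] ((i : ι) → K i)).range = 2 * D ∧
      ringKrullDim (MvPolynomial.aeval ![fun i => π i, fun i => ((p : K i) ^ e) / π i] :
        MvPolynomial (Fin 2) ℤ →ₐ[ℤ] ((i : ι) → K i)).range = 1 ∧
      LocCoh.IsGorensteinRing (MvPolynomial.aeval ![fun i => π i, fun i => ((p : K i) ^ e) / π i] :
        MvPolynomial (Fin 2) ℤ →ₐ[ℤ] ((i : ι) → K i)).range := by
  classical
  show Module.Free ℤ (Groth.L14.WeilCI.evalW p e π).range ∧ Module.finrank ℤ (Groth.L14.WeilCI.evalW p e π).range = 2 * D ∧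
    ringKrullDim (Groth.L14.WeilCI.evalW p e π).range = 1 ∧ LocCoh.IsGorensteinRing (Groth.L14.WeilCI.evalW p e π).range
  set f := Groth.L14.WeilCI.evalW p e π with hf_def
  obtain ⟨h, hk, hreg, hspan, hindep⟩ := Groth.L14.WeilCI.exists_ker p e π hint hweil hinj D hD
  let pol : (Fin D → ℤ) →ₗ[ℤ] Polynomial ℤ :=
    (Polynomial.degreeLT ℤ D).subtype.comp (Polynomial.degreeLTEquiv ℤ D).symm.toLinearMap
  have hpol : ∀ a i, D ≤ i → (pol a).coeff i = 0 := fun a i hi =>
    Polynomial.coeff_eq_zero_of_degree_lt (lt_of_lt_of_le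
      (Polynomial.mem_degreeLT.1 ((Polynomial.degreeLTEquiv ℤ D).symm a).2) (by exact_mod_cast hi))
  have hpoli : Function.Injective pol := Subtype.val_injective.comp (LinearEquiv.injective _)
  have hpols : ∀ u : Polynomial ℤ, (∀ i, D ≤ i → u.coeff i = 0) → ∃ a, pol a = u := fun u hu =>
    ⟨Polynomial.degreeLTEquiv ℤ D ⟨u, Polynomial.mem_degreeLT.2 ((Polynomial.degree_lt_iff_coeff_zero u D).2 hu)⟩,
      congrArg Subtype.val ((Polynomial.degreeLTEquiv ℤ D).symm_apply_apply _)⟩
  let nf : (Fin D → ℤ) × (Fin D → ℤ) →ₗ[ℤ] MvPolynomial (Fin 2) ℤ :=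
    ((Polynomial.aeval (X 0 : MvPolynomial (Fin 2) ℤ)).toLinearMap.comp (pol.comp (LinearMap.fst ℤ _ _))) +
      (LinearMap.mulLeft ℤ (X 1 : MvPolynomial (Fin 2) ℤ)).comp
        ((Polynomial.aeval (X 1 : MvPolynomial (Fin 2) ℤ)).toLinearMap.comp (pol.comp (LinearMap.snd ℤ _ _)))
  let Φ : (Fin D → ℤ) × (Fin D → ℤ) →ₗ[ℤ] f.range := f.rangeRestrict.toLinearMap.comp nf
  have hΦ : Function.Bijective Φ := by
    refine ⟨(injective_iff_map_eq_zero _).2 fun ab hab => ?_, fun y => ?_⟩
    · obtain ⟨h1, h2⟩ := hindep (pol ab.1) (pol ab.2) (hpol _) (hpol _) (congrArg Subtype.val hab)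
      exact Prod.ext (hpoli (h1.trans (map_zero pol).symm)) (hpoli (h2.trans (map_zero pol).symm))
    · obtain ⟨x, hx⟩ := (AlgHom.mem_range f).1 y.2
      obtain ⟨u, w, hu, hw, hxe⟩ := hspan x
      obtain ⟨a, rfl⟩ := hpols u hu
      obtain ⟨b, rfl⟩ := hpols w hw
      exact ⟨(a, b), Subtype.ext (hxe.symm.trans hx)⟩
  let E := LinearEquiv.ofBijective Φ hΦ
  haveI : Module.Free ℤ f.range := Module.Free.of_equiv E
  haveI : Module.Finite ℤ f.range := Module.Finite.equiv E
  refine ⟨inferInstance, ?_, ?_, ?_⟩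
  · rw [← E.finrank_eq, Module.finrank_prod, Module.finrank_fintype_fun_eq_card, Fintype.card_fin, two_mul]
  · have hinjZ : Function.Injective (algebraMap ℤ f.range) := fun a b hab => by
      obtain ⟨i⟩ := ‹Nonempty ι›
      have h1 := congrFun (congrArg Subtype.val hab) i
      refine (Int.cast_injective : Function.Injective ((↑) : ℤ → K i)) ?_
      simpa using h1
    rw [Groth.L22.AffineDim.ringKrullDim_eq_of_isIntegral hinjZ]
    exact IsPrincipalIdealRing.ringKrullDim_eq_one ℤ Int.not_isField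
  · refine Groth.L14.WeilCI.isGorensteinRing_of_surjective' f.rangeRestrict.toRingHom
      (AlgHom.rangeRestrict_surjective f) [Groth.L14.WeilCI.rel ((p : ℤ) ^ e), h] hreg ?_
    rw [show RingHom.ker f.rangeRestrict.toRingHom = RingHom.ker f from Ideal.ext fun x =>
      ⟨fun hx => congrArg Subtype.val hx, fun hx => Subtype.ext hx⟩, hk]
    rw [Ideal.ofList_cons, Ideal.ofList_singleton, Ideal.span_insert]

end Groth.Agent.S17985
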