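import Groth.Statements.S17987
import Groth.Agent.S17983
import Mathlib.NumberTheory.Padics.Complex
import Mathlib.Analysis.Normed.Group.Ultra

set_option autoImplicit false
universe u
open scoped Classical
open WeilNum

namespace Groth.Agent.S17987

/-- Let p be a prime, e ≥ 1 and q = p^e, and let (π_i) be a finite family of nonreal Weil q-numbers: π_i
lies in a field K_i of characteristic zero, is integral over ℤ with minimal polynomial P_i, every
complex root of P_i has absolute value √q, and no complex root of P_i is real; in particular deg P_i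
= 2d_i is even. Call π_i ordinary when exactly half of the roots of P_i in an algebraic closure of
ℚ_p, counted with multiplicity, are p-adic units (have absolute value 1). Then all π_i are ordinary
if and only if p does not divide ∏_i a_{d_i}, the product of the middle coefficients of the P_i
(this product is the value at F = V = 0 of the symmetric polynomial h_w of the family). -/
theorem result (p e : ℕ) [Fact p.Prime] (he : 0 < e)
    (ι : Type) [Fintype ι] (K : ι → Type u) [∀ i, Field (K i)] [∀ i, CharZero (K i)] (π : ∀ i, K i)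
    (hint : ∀ i, IsIntegral ℤ (π i))
    (hweil : ∀ i, ∀ z ∈ (minpoly ℤ (π i)).aroots ℂ, ‖z‖ = Real.sqrt ((p : ℝ) ^ e))
    (hnr : ∀ i, ∀ z ∈ (minpoly ℤ (π i)).aroots ℂ, z.im ≠ 0) :
    (∀ i, 2 * Multiset.card (((minpoly ℤ (π i)).aroots (PadicAlgCl p)).filter (fun z => ‖z‖ = 1)) = (minpoly ℤ (π i)).natDegree) ↔
      ¬ ((p : ℤ) ∣ ∏ i, (minpoly ℤ (π i)).coeff ((minpoly ℤ (π i)).natDegree / 2)) := by
  classical
  let L := PadicAlgCl p
  haveI hU : IsUltrametricDist L := inferInstance
  have lem : ∀ s : Multiset L, (∀ z ∈ s, ‖z‖ ≤ 1) →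
      ∀ u, Multiset.card (s.filter fun z => ‖z‖ = 1) = u →
        (∀ k, ‖((s.map fun z => Polynomial.X - Polynomial.C z).prod).coeff k‖ ≤ 1) ∧
        (∀ k, k + u < Multiset.card s → ‖((s.map fun z => Polynomial.X - Polynomial.C z).prod).coeff k‖ < 1) ∧
        ‖((s.map fun z => Polynomial.X - Polynomial.C z).prod).coeff (Multiset.card s - u)‖ = 1 := by
    intro s
    induction s using Multiset.induction_on with
    | empty =>
      intro _ u hu
      simp at hu
      subst hu
      refine ⟨fun k => ?_, fun k hk => by simp at hk, by simp⟩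
      rcases k with _ | k <;> simp [Polynomial.coeff_one]
    | cons a s ih =>
      intro hz u hu
      set P := (s.map fun z => Polynomial.X - Polynomial.C z).prod
      set Q := ((a ::ₘ s).map fun z => Polynomial.X - Polynomial.C z).prod with hQ
      have hQ' : Q = (Polynomial.X - Polynomial.C a) * P := by rw [hQ, Multiset.map_cons, Multiset.prod_cons]
      have ha : ‖a‖ ≤ 1 := hz a (Multiset.mem_cons_self a s)
      obtain ⟨u', hu'⟩ : ∃ u', Multiset.card (s.filter fun z => ‖z‖ = 1) = u' := ⟨_, rfl⟩
      obtain ⟨h1, h2, h3⟩ := ih (fun z h => hz z (Multiset.mem_cons_of_mem h)) u' hu'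
      have hule : u' ≤ Multiset.card s := hu' ▸ Multiset.card_le_card (Multiset.filter_le _ _)
      have hc : ∀ k, Q.coeff k = (if k = 0 then 0 else P.coeff (k - 1)) + -(a * P.coeff k) := fun k => by
        rw [hQ', sub_mul, Polynomial.coeff_sub, Polynomial.coeff_C_mul, sub_eq_add_neg]
        rcases k with _ | k <;> simp
      have hA : ∀ k, ‖(if k = 0 then 0 else P.coeff (k - 1))‖ ≤ 1 := fun k => by
        split_ifs
        · simp
        · exact h1 _
      have hB : ∀ k, ‖-(a * P.coeff k)‖ ≤ 1 := fun k => by
        rw [norm_neg, norm_mul]; exact mul_le_one₀ ha (norm_nonneg _) (h1 k)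
      refine ⟨fun k => hc k ▸ le_trans (IsUltrametricDist.norm_add_le_max _ _) (max_le (hA k) (hB k)), ?_, ?_⟩
      · intro k hk
        rw [Multiset.card_cons] at hk
        rw [hc]
        by_cases h : ‖a‖ = 1
        · rw [Multiset.filter_cons_of_pos (p := fun z : L => ‖z‖ = 1) s h, Multiset.card_cons, hu'] at hu
          refine lt_of_le_of_lt (IsUltrametricDist.norm_add_le_max _ _) (max_lt ?_ ?_)
          · split_ifs
            · simp
            · exact h2 _ (by omega)
          · rw [norm_neg, norm_mul, h, one_mul]; exact h2 _ (by omega)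
        · rw [Multiset.filter_cons_of_neg (p := fun z : L => ‖z‖ = 1) s h, hu'] at hu
          refine lt_of_le_of_lt (IsUltrametricDist.norm_add_le_max _ _) (max_lt ?_ ?_)
          · split_ifs
            · simp
            · exact h2 _ (by omega)
          · rw [norm_neg, norm_mul]
            exact lt_of_le_of_lt (mul_le_of_le_one_right (norm_nonneg _) (h1 k)) (lt_of_le_of_ne ha h)
      · rw [Multiset.card_cons, hc]
        by_cases h : ‖a‖ = 1
        · rw [Multiset.filter_cons_of_pos (p := fun z : L => ‖z‖ = 1) s h, Multiset.card_cons, hu'] at hu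
          rw [show Multiset.card s + 1 - u = Multiset.card s - u' by omega]
          have hb : ‖-(a * P.coeff (Multiset.card s - u'))‖ = 1 := by rw [norm_neg, norm_mul, h, one_mul, h3]
          rw [IsUltrametricDist.norm_add_eq_max_of_norm_ne_norm, hb]
          · exact max_eq_right (hA _)
          · rw [hb]
            refine ne_of_lt ?_
            split_ifs
            · simp
            · exact h2 _ (by omega)
        · rw [Multiset.filter_cons_of_neg (p := fun z : L => ‖z‖ = 1) s h, hu'] at hu
          rw [show Multiset.card s + 1 - u = Multiset.card s - u' + 1 by omega, if_neg (Nat.succ_ne_zero _),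
            Nat.add_sub_cancel]
          have hb : ‖-(a * P.coeff (Multiset.card s - u' + 1))‖ < 1 := by
            rw [norm_neg, norm_mul]
            exact lt_of_le_of_lt (mul_le_of_le_one_right (norm_nonneg _) (h1 _)) (lt_of_le_of_ne ha h)
          rw [IsUltrametricDist.norm_add_eq_max_of_norm_ne_norm (by rw [h3]; exact hb.ne'), h3]
          exact max_eq_left hb.le
  have hprime : Prime (p : ℤ) := Nat.prime_iff_prime_int.1 Fact.out
  rw [hprime.dvd_finsetProd_iff]
  simp only [Finset.mem_univ, true_and, not_exists]
  refine forall_congr' fun i => ?_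
  obtain ⟨heven, hsym⟩ := Groth.Agent.S17983.result p e he (K i) (π i) (hint i) (hweil i) (hnr i)
  set P := minpoly ℤ (π i) with hP
  set d := P.natDegree / 2
  have hd : P.natDegree = 2 * d := by rcases heven with ⟨m, hm⟩; omega
  set φ : ℤ →+* L := Int.castRingHom L
  have hmon : P.Monic := minpoly.monic (hint i)
  have hnormint : ∀ n : ℤ, ‖(φ n)‖ = ‖(n : ℚ_[p])‖ := fun n => by
    rw [← PadicAlgCl.norm_extends p (n : ℚ_[p])]
    simp [φ, L]
  set s := P.aroots L
  have hle : ∀ z ∈ s, ‖z‖ ≤ 1 := by
    intro z hz
    by_contra! hgt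
    have hz' : Polynomial.eval₂ φ z P = 0 := (Polynomial.mem_aroots.1 hz).2
    rw [Polynomial.eval₂_eq_sum_range, Finset.sum_range_succ, hmon.coeff_natDegree, map_one, one_mul] at hz'
    have h1 : ‖∑ k ∈ Finset.range P.natDegree, φ (P.coeff k) * z ^ k‖ < ‖z ^ P.natDegree‖ := by
      rcases Nat.eq_zero_or_pos P.natDegree with h0 | h0
      · exact absurd h0 (minpoly.natDegree_pos (hint i)).ne'
      · obtain ⟨k, hk, hkle⟩ := IsUltrametricDist.exists_norm_finset_sum_le (Finset.range P.natDegree) fun k => φ (P.coeff k) * z ^ k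
        refine lt_of_le_of_lt hkle ?_
        have hk' := Finset.mem_range.1 (hk (Finset.nonempty_range_iff.2 h0.ne'))
        rw [norm_mul, norm_pow, norm_pow, hnormint]
        exact lt_of_le_of_lt (mul_le_of_le_one_left (by positivity) (Padic.norm_int_le_one _))
          (pow_lt_pow_right₀ hgt hk')
    rw [eq_neg_of_add_eq_zero_left hz', norm_neg] at h1
    exact lt_irrefl _ h1
  obtain ⟨u, hu⟩ : ∃ u, Multiset.card (s.filter fun z => ‖z‖ = 1) = u := ⟨_, rfl⟩
  obtain ⟨-, h2, h3⟩ := lem s hle u hu
  have hsplit : (P.map φ).Splits := IsAlgClosed.splits _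
  have hcard : Multiset.card s = 2 * d := by
    rw [← hd, ← Polynomial.natDegree_map_eq_of_injective (f := φ) Int.cast_injective P,
      Polynomial.Splits.natDegree_eq_card_roots hsplit]
    rfl
  have hprod : (s.map fun z => Polynomial.X - Polynomial.C z).prod = P.map φ := by
    conv_rhs => rw [hsplit.eq_prod_roots, (hmon.map φ).leadingCoeff, Polynomial.C_1, one_mul]
    rfl
  rw [hprod, hcard] at h3
  simp only [hprod, hcard, Polynomial.coeff_map] at h2
  rw [Polynomial.coeff_map, hnormint] at h3
  simp only [hnormint] at h2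
  have hlow : ∀ k < d, ‖(P.coeff k : ℚ_[p])‖ < 1 := fun k hk => by
    rw [Padic.norm_intCast_lt_one_iff]
    have := hsym (d - k) (Nat.sub_le _ _)
    rw [Nat.sub_sub_self hk.le] at this
    rw [this]
    exact Dvd.dvd.mul_right (dvd_pow_self _ (Nat.mul_ne_zero he.ne' (by omega))) _
  have hule : u ≤ d := by
    by_contra! hgt
    have := hlow (2 * d - u) (by
      have : u ≤ 2 * d := hcard ▸ hu ▸ Multiset.card_le_card (Multiset.filter_le _ _)
      omega)
    rw [h3] at this
    exact lt_irrefl _ this
  rw [hu, hd, ← Padic.norm_intCast_lt_one_iff]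
  constructor
  · intro h
    rw [show 2 * d - u = d by omega] at h3
    rw [h3]; exact lt_irrefl _
  · intro h
    by_contra hne
    exact h (h2 d (by omega))

end Groth.Agent.S17987
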