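import Groth.Prelude.Def_CAlg
import Mathlib.LinearAlgebra.Dual.Defs
import Mathlib.LinearAlgebra.FreeModule.Basic
import Mathlib.RingTheory.PrincipalIdealDomain
import Mathlib.RingTheory.Nilpotent.Defs
import Mathlib.RingTheory.Finiteness.Defs
import Groth.Agent.L02.Torsionless

set_option autoImplicit false
namespace CAlg
end CAlg
universe u
open CAlg

namespace Groth.Agent.S17988

/-- Let Λ be a principal ideal domain and S a commutative Λ-algebra which is finitely generated and free
as a Λ-module and reduced as a ring; let M be a finitely generated S-module. Then M is torsionless
(the canonical map M → M** to the double S-dual is injective) if and only if M is free as a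
Λ-module. If in addition S is a Gorenstein ring (it has Krull dimension at most 1, being finite over
Λ), then M is reflexive (M → M** bijective) if and only if M is free as a Λ-module, so that for such
S torsionless and reflexive finitely generated modules coincide. The published statement is the case
Λ = ℤ, resp. Λ = ℤ_ℓ for a prime ℓ, with S the minimal central order R_w of a finite set of Weil
q-numbers, resp. its ℓ-adic completion R_w ⊗ ℤ_ℓ, under the assumption that R_w is Gorenstein; the
argument given there uses only that S is finite free over Λ, reduced, and (for reflexivity)
Gorenstein of dimension one. -/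
theorem result (Λ : Type u) [CommRing Λ] [IsDomain Λ] [IsPrincipalIdealRing Λ]
    (S : Type u) [CommRing S] [Algebra Λ S] [Module.Finite Λ S] [Module.Free Λ S] [IsReduced S]
    (M : Type u) [AddCommGroup M] [Module S M] [Module Λ M] [IsScalarTower Λ S M] [Module.Finite S M] :
    (Function.Injective (Module.Dual.eval S M) ↔ Module.Free Λ M) ∧
      (LocCoh.IsGorensteinRing S → (Module.IsReflexive S M ↔ Module.Free Λ M)) := by
  haveI : IsNoetherianRing S := IsNoetherianRing.of_finite Λ S
  refine ⟨⟨fun h => Groth.L02.Torsionless.free_of_injective_eval (L := Λ) h,
    fun _ => Groth.L02.Torsionless.injective_eval_of_free (L := Λ)⟩, fun hG => ?_⟩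
  haveI := hG
  refine ⟨fun h => Groth.L02.Torsionless.free_of_injective_eval (L := Λ) h.bijective_dual_eval'.1, fun _ => ?_⟩
  exact Groth.L02.GorensteinReflexive.isReflexive_of_injective_eval (Groth.L02.Torsionless.dim_le_one (L := Λ))
    (Groth.L02.Torsionless.injective_eval_of_free (L := Λ))

end Groth.Agent.S17988
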