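import Groth.Statements.S17989
import Groth.Agent.L02.GorensteinReflexive
-- import your own Groth.Agent.* helpers here

set_option autoImplicit false
universe u
open CategoryTheory
open CAlg

namespace Groth.Agent.S17989

/-- Let S be a Gorenstein ring (a Noetherian ring all of whose localizations at prime ideals have finite
injective dimension as modules over themselves) of Krull dimension 1, and let M be a finitely
generated reflexive S-module (the canonical map M → M** is bijective). Then Ext¹_S(M, S) = 0. -/
theorem result (S : Type u) [CommRing S]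
    [LocCoh.IsGorensteinRing S] (hdim : ringKrullDim S = 1)
    (M : Type u) [AddCommGroup M] [Module S M] [Module.Finite S M] [Module.IsReflexive S M] :
    Subsingleton (Abelian.Ext (ModuleCat.of S M) (ModuleCat.of S S) 1) := by
  haveI : Module.Projective S S := inferInstance
  have hinj : Function.Injective (Module.Dual.eval S M) := (Module.bijective_dual_eval S M).1
  obtain ⟨a, π, hπ⟩ := Module.Finite.exists_fin' S M
  obtain ⟨r, ι, hι⟩ := Groth.L02.GorensteinReflexive.exists_embedding hinj
  let Sq := Groth.L29.HomD.sc (LinearMap.ker π).subtype π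
    (LinearMap.exact_subtype_ker_map π)
  have hSq : Sq.ShortExact :=
    Groth.L29.HomD.sc_shortExact _ _ (Submodule.injective_subtype _) hπ _
  refine subsingleton_of_forall_eq 0 fun z => ?_
  haveI : Projective (ModuleCat.of S (Fin a → S)) := ModuleCat.projective_of_free (Pi.basisFun S (Fin a))
  obtain ⟨y, hy⟩ := Abelian.Ext.contravariant_sequence_exact₃ hSq (ModuleCat.of S S) z
    (Abelian.Ext.eq_zero_of_projective (P := ModuleCat.of S (Fin a → S)) _) (show 1 + 0 = 1 by rfl)
  obtain ⟨f, rfl⟩ : ∃ f, Abelian.Ext.mk₀ f = y := ⟨_, Abelian.Ext.mk₀_homEquiv₀_apply y⟩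
  have hk : LinearMap.ker (ι ∘ₗ π) = LinearMap.ker π := LinearMap.ker_comp_of_ker_eq_bot _ (LinearMap.ker_eq_bot.2 hι)
  let φ : LinearMap.ker π →ₗ[S] S := f.hom
  obtain ⟨e, he⟩ := Groth.L02.GorensteinReflexive.exists_extend hdim.le (ι ∘ₗ π)
    (φ ∘ₗ (LinearEquiv.ofEq _ _ hk).toLinearMap)
  have hf : f = Sq.f ≫ ModuleCat.ofHom e := by
    refine ModuleCat.hom_ext (LinearMap.ext fun x => ?_)
    exact (LinearMap.congr_fun he ⟨x.1, hk.ge x.2⟩).symm
  rw [← hy, hf, ← Abelian.Ext.mk₀_comp_mk₀, hSq.extClass_comp_assoc]
  all_goals rfl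

end Groth.Agent.S17989
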