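import Groth.Statements.S17999
import Groth.Agent.L15.PicSurj
import Mathlib.RingTheory.Ideal.GoingUp
import Mathlib.Analysis.Complex.Polynomial.Basic
import Mathlib.FieldTheory.IntermediateField.Adjoin.Basic
-- import your own Groth.Agent.* helpers here

set_option autoImplicit false
universe u
open MvPolynomial
open WeilNum

namespace Groth.Agent.S17999

theorem isIntegral_pi' {J : Type} [Fintype J] {K : J → Type u} [∀ j, Field (K j)] (v : ∀ j, K j)
    (h : ∀ j, IsIntegral ℤ (v j)) : IsIntegral ℤ v := by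
  classical
  choose P hP hev using h
  refine ⟨∏ j, P j, Polynomial.monic_prod_of_monic _ _ fun j _ => hP j, funext fun j => ?_⟩
  have h1 : Polynomial.aeval (v j) (∏ j, P j) = 0 := by
    rw [← Finset.mul_prod_erase _ _ (Finset.mem_univ j), map_mul, show Polynomial.aeval (v j) (P j) = 0 from hev j,
      zero_mul]
  exact (Polynomial.aeval_algHom_apply (Pi.evalAlgHom ℤ K j) v (∏ j, P j)).symm.trans h1

theorem isIntegral_div {K : Type u} [Field K] [CharZero K] (ϖ : K) (q : ℕ) (hq : 0 < q) (hint : IsIntegral ℤ ϖ)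
    (hweil : ∀ z ∈ (minpoly ℤ ϖ).aroots ℂ, ‖z‖ = Real.sqrt q) : IsIntegral ℤ ((q : K) / ϖ) := by
  let L := IntermediateField.adjoin ℚ ({ϖ} : Set K)
  let x : L := ⟨ϖ, IntermediateField.mem_adjoin_simple_self ℚ ϖ⟩
  haveI : FiniteDimensional ℚ L := IntermediateField.adjoin.finiteDimensional hint.tower_top
  let σ : L →ₐ[ℚ] ℂ := IsAlgClosed.lift
  have hz : Polynomial.aeval (σ x) (minpoly ℤ ϖ) = 0 := by
    have h1 : Polynomial.aeval x (minpoly ℤ ϖ) = 0 := Subtype.ext (by
      rw [ZeroMemClass.coe_zero, ← minpoly.aeval ℤ ϖ]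
      exact (Polynomial.aeval_algHom_apply (L.val.restrictScalars ℤ) x (minpoly ℤ ϖ)).symm)
    exact (Polynomial.aeval_algHom_apply (σ.restrictScalars ℤ) x (minpoly ℤ ϖ)).trans (by rw [h1, map_zero])
  have hmem : σ x ∈ (minpoly ℤ ϖ).aroots ℂ :=
    Polynomial.mem_aroots.2 ⟨(minpoly.monic hint).ne_zero, hz⟩
  have hconj : σ ((q : L) / x) = starRingEnd ℂ (σ x) := by
    have hn : σ x * starRingEnd ℂ (σ x) = (q : ℂ) := by
      rw [Complex.mul_conj, Complex.normSq_eq_norm_sq, hweil _ hmem, Real.sq_sqrt (Nat.cast_nonneg q)]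
      norm_num
    have hne : σ x ≠ 0 := fun h => hq.ne' (Nat.cast_eq_zero.1 (hn.symm.trans (by rw [h, zero_mul])))
    rw [map_div₀, map_natCast, ← hn, mul_div_cancel_left₀ _ hne]
  have h2 : IsIntegral ℤ (σ ((q : L) / x)) := by
    rw [hconj]
    exact IsIntegral.map (starRingEnd ℂ).toIntAlgHom ⟨minpoly ℤ ϖ, minpoly.monic hint, hz⟩
  have h3 : IsIntegral ℤ ((q : L) / x) := (isIntegral_algHom_iff (σ.restrictScalars ℤ) σ.injective).1 h2
  have h4 := IsIntegral.map (L.val.restrictScalars ℤ) h3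
  simpa [x] using h4

/-- The case of finite sets of Weil numbers; let p be a prime, e ≥ 1 and q = p^e; let (π_j)_{j ∈ J} be a
finite family of pairwise nonconjugate Weil q-numbers (π_j in a field K_j of characteristic zero,
integral over ℤ with minimal polynomial P_j, all complex roots of P_j of absolute value √q, P_i ≠
P_j for i ≠ j), and let e : J' → J be an injective map selecting a subfamily. Let I_w, resp. I_v, be
the kernel of ℤ[F, V] → ∏_{j ∈ J} K_j, resp. → ∏_{j' ∈ J'} K_{e(j')}, sending F ↦ (π_j) and V ↦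
(q/π_j); then I_w ⊆ I_v and ℤ[F,V]/I_w → ℤ[F,V]/I_v is the natural surjection R_w → R_v of minimal
central orders. Then the induced homomorphism of Picard groups Pic(R_w) → Pic(R_v) is surjective.
The published statement concerns the Picard groups of the pro-rings attached to arbitrary subsets V
⊆ W of Weil q-number classes; only the case of finite sets is stated here. -/
theorem result (p e : ℕ) [Fact p.Prime] (he : 0 < e)
    (J J' : Type) [Fintype J] [Fintype J'] (emb : J' → J) (hemb : Function.Injective emb)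
    (K : J → Type u) [∀ j, Field (K j)] [∀ j, CharZero (K j)] (ϖ : ∀ j, K j)
    (hint : ∀ j, IsIntegral ℤ (ϖ j))
    (hweil : ∀ j, ∀ z ∈ (minpoly ℤ (ϖ j)).aroots ℂ, ‖z‖ = Real.sqrt ((p : ℝ) ^ e))
    (hinj : ∀ i j, minpoly ℤ (ϖ i) = minpoly ℤ (ϖ j) → i = j)
    (hle : RingHom.ker (MvPolynomial.aeval ![fun j => ϖ j, fun j => ((p : K j) ^ e) / ϖ j] :
          MvPolynomial (Fin 2) ℤ →ₐ[ℤ] ((j : J) → K j)) ≤
        RingHom.ker (MvPolynomial.aeval ![fun j' => ϖ (emb j'), fun j' => ((p : K (emb j')) ^ e) / ϖ (emb j')] :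
          MvPolynomial (Fin 2) ℤ →ₐ[ℤ] ((j' : J') → K (emb j')))) :
    Function.Surjective (CommRing.Pic.mapRingHom (Ideal.Quotient.factor hle)) := by
  set φ : MvPolynomial (Fin 2) ℤ →ₐ[ℤ] ((j : J) → K j) :=
    MvPolynomial.aeval ![fun j => ϖ j, fun j => ((p : K j) ^ e) / ϖ j] with hφ
  let g : (MvPolynomial (Fin 2) ℤ ⧸ RingHom.ker φ) →+* ((j : J) → K j) :=
    Ideal.Quotient.lift (RingHom.ker φ) φ.toRingHom fun a ha => ha
  have hg : Function.Injective g := RingHom.lift_injective_of_ker_le_ideal _ _ le_rfl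
  haveI : IsReduced (MvPolynomial (Fin 2) ℤ ⧸ RingHom.ker φ) := isReduced_of_injective g hg
  haveI hI : Algebra.IsIntegral ℤ (MvPolynomial (Fin 2) ℤ ⧸ RingHom.ker φ) := ⟨fun y => by
    obtain ⟨P, rfl⟩ := Ideal.Quotient.mk_surjective y
    have hX : ∀ i, IsIntegral ℤ (φ (MvPolynomial.X i)) := fun i => by
      rw [hφ, MvPolynomial.aeval_X]
      fin_cases i
      · exact isIntegral_pi' _ hint
      · refine isIntegral_pi' _ fun j => ?_
        have := isIntegral_div (ϖ j) (p ^ e) (pow_pos (Fact.out : p.Prime).pos e) (hint j)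
          (fun z hz => by rw [Nat.cast_pow]; exact hweil j z hz)
        rwa [Nat.cast_pow] at this
    refine (isIntegral_algHom_iff g.toIntAlgHom hg).1 ?_
    show IsIntegral ℤ (φ P)
    induction P using MvPolynomial.induction_on with
    | C a => rw [← MvPolynomial.algebraMap_eq, AlgHom.commutes]; exact isIntegral_algebraMap
    | add a b ha hb => rw [map_add]; exact ha.add hb
    | mul_X a i ha => rw [map_mul]; exact ha.mul (hX i)⟩
  refine Groth.L15.PicSurj.mapRingHom_surjective _ (Ideal.Quotient.factor_surjective hle)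
    (Groth.L15.PicSurj.finite_maximalSpectrum_of_reduced _ (Ideal.Quotient.factor_surjective hle) fun P hP => ?_)
  by_cases hmin : P ∈ minimalPrimes (MvPolynomial (Fin 2) ℤ ⧸ RingHom.ker φ)
  · exact Or.inl hmin
  right
  obtain ⟨Q, hQ, hQP⟩ := Ideal.exists_minimalPrimes_le (I := ⊥) (J := P) bot_le
  haveI := hQ.1.1
  have hne : Q ≠ P := fun h => hmin (h ▸ hQ)
  obtain ⟨y, hyP, hyQ⟩ := SetLike.exists_of_lt (lt_of_le_of_ne hQP hne)
  have hlt : Q.comap (algebraMap ℤ _) < P.comap (algebraMap ℤ _) :=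
    Ideal.comap_lt_comap_of_integral_mem_sdiff hQP ⟨hyP, hyQ⟩ (Algebra.IsIntegral.isIntegral y)
  haveI := hP
  exact Ideal.isMaximal_of_isIntegral_of_isMaximal_comap P
    (Ideal.IsPrime.isMaximal (hP.comap _) (ne_bot_of_gt hlt))

end Groth.Agent.S17999
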