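import Groth.Statements.S1800
import Groth.Agent.L10.Shriek.BaseChange
import Groth.Agent.L10.RelPC.Basic

set_option autoImplicit false
set_option backward.defeqAttrib.useBackward true
set_option backward.isDefEq.respectTransparency false
universe u
open CategoryTheory
open scoped TensorProduct
attribute [local instance] HasDerivedCategory.standard
open Dual2

namespace Groth.Agent.S1800

/-- Let R → R' be a flat homomorphism of Noetherian rings, R → A a ring map of finite type with A
Noetherian, and A' = R' ⊗_R A with the induced map R' → A'; each upper shriek φ^!(K) is formed from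
a presentation ψ : P = (base)[x_1, …, x_n] → (target) as RHom_P(target, K ⊗^L P)[n], the derived
base change functors being assumed to exist and RHom_P(target, −) being given as a right adjoint of
restriction of scalars. Assuming also the derived base change functors D(A) → D(A') and D(R) → D(R')
exist, for every K in D(R) which is bounded below the base change to A' of the upper shriek of K
along R → A is isomorphic to the upper shriek along R' → A' of the base change of K to R'. -/
theorem result (R R' A : Type u) [CommRing R] [CommRing R'] [CommRing A] [IsNoetherianRing R] [IsNoetherianRing R'] [IsNoetherianRing A] [Algebra R R'] [Module.Flat R R'] [Algebra R A] [IsNoetherianRing (R' ⊗[R] A)] (n : ℕ) (ψ : MvPolynomial (Fin n) R →ₐ[R] A) (hψ : Function.Surjective ψ) [DRing.HasLBaseChange (algebraMap R (MvPolynomial (Fin n) R))] (Rψ : Dual.D (MvPolynomial (Fin n) R) ⥤ Dual.D A) (adj : DRing.restrictD ψ.toRingHom ⊣ Rψ) (m : ℕ) (ψ' : MvPolynomial (Fin m) R' →ₐ[R'] (R' ⊗[R] A)) (hψ' : Function.Surjective ψ') [DRing.HasLBaseChange (algebraMap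 R' (MvPolynomial (Fin m) R'))] (Rψ' : Dual.D (MvPolynomial (Fin m) R') ⥤ Dual.D (R' ⊗[R] A)) (adj' : DRing.restrictD ψ'.toRingHom ⊣ Rψ') [DRing.HasLBaseChange (Algebra.TensorProduct.includeRight : A →ₐ[R] R' ⊗[R] A).toRingHom] [DRing.HasLBaseChange (algebraMap R R')] (K : Dual.D R) (c : ℤ) (hK : ∀ i : ℤ, i < c → Subsingleton (Dual.HD R K i)) : Nonempty ((DRing.LBaseChange (Algebra.TensorProduct.includeRight : A →ₐ[R] R' ⊗[R] A).toRingHom).obj (Dual2.shriekVia n Rψ K) ≅ Dual2.shriekVia m Rψ' ((DRing.LBaseChange (algebraMap R R')).obj K)) := by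
  haveI : DerivedCategory.IsGE K c := (DerivedCategory.isGE_iff K c).2 fun i hi =>
    (Groth.L10.RelPC.isZero_HH_iff_subsingleton K i).2 (hK i hi)
  refine Groth.L10.Shriek.nonempty_baseChange R R' A n ψ hψ adj m ψ' hψ' adj' K ?_
  letI : Algebra (MvPolynomial (Fin n) R) A := ψ.toRingHom.toAlgebra
  letI : Algebra A (R' ⊗[R] A) := Algebra.TensorProduct.rightAlgebra
  letI : Algebra (MvPolynomial (Fin n) R) (MvPolynomial (Fin n) R') := MvPolynomial.algebraMvPolynomial
  intro _ _ _ _ _ _ _ S hS
  haveI : Module.Finite (MvPolynomial (Fin n) R) A := RingHom.Finite.of_surjective ψ.toRingHom hψ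
  letI : Algebra (MvPolynomial (Fin n) R) (MvPolynomial (Fin n) R') := MvPolynomial.algebraMvPolynomial
  haveI : Module.Flat (MvPolynomial (Fin n) R) (MvPolynomial (Fin n) R') :=
    Module.Flat.of_linearEquiv
      (Algebra.IsPushout.equiv R (MvPolynomial (Fin n) R) R' (MvPolynomial (Fin n) R')).toLinearEquiv.symm
  haveI := Groth.L10.Shriek.isGE_lbc (algebraMap R (MvPolynomial (Fin n) R))
    (RingHom.flat_algebraMap_iff.2 inferInstance) K c
  exact Groth.L10.Shriek.nonempty_bc_pc (MvPolynomial (Fin n) R) A (MvPolynomial (Fin n) R') (R' ⊗[R] A)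
    (Groth.L10.DR.pcModule'_noetherian A) adj hS _ c

end Groth.Agent.S1800
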