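import Groth.Statements.S18003
import Groth.Agent.L14.WeilCI.Order
import Mathlib.RingTheory.Adjoin.Basic

set_option autoImplicit false
universe u
open MvPolynomial
open WeilNum

namespace Groth.Agent.S18003

/-- Let p be a prime, e ≥ 1 and q = p^e; let (π_i) be a finite family of pairwise nonconjugate Weil
q-numbers (π_i in a field K_i of characteristic zero, integral over ℤ with minimal polynomial P_i,
all complex roots of P_i of absolute value √q, P_i ≠ P_j for i ≠ j) of even total degree Σ_i deg
P_i, P_w = ∏_i P_i, and R_w ⊆ ∏_i K_i the minimal central order, the image of ℤ[F, V] → ∏_i K_i, F ↦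
(π_i), V ↦ (q/π_i). Let T be a finitely generated free ℤ-module and F_T an endomorphism of T. Then
there exists an R_w-module structure on the additive group T in which the class of F acts as F_T if
and only if P_w(F_T) = 0 (equivalently: F_T is semisimple after tensoring with ℚ, with eigenvalues
among the conjugates of the π_i) and there is an endomorphism V_T of T with F_T ∘ V_T = q. When it
exists the structure is determined by F_T (the class of V acts as V_T = q·F_T⁻¹), and reflexive
R_w-modules are exactly the ℤ-free finitely generated ones, so this identifies the objects of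
Refl(R_w) with such pairs (T, F_T); the uniqueness remark is not part of the formal statement. -/
theorem result (p e : ℕ) [Fact p.Prime] (he : 0 < e)
    (ι : Type) [Fintype ι] (K : ι → Type u) [∀ i, Field (K i)] [∀ i, CharZero (K i)] (π : ∀ i, K i)
    (hint : ∀ i, IsIntegral ℤ (π i))
    (hweil : ∀ i, ∀ z ∈ (minpoly ℤ (π i)).aroots ℂ, ‖z‖ = Real.sqrt ((p : ℝ) ^ e))
    (hinj : ∀ i j, minpoly ℤ (π i) = minpoly ℤ (π j) → i = j)
    (D : ℕ) (hD : ∑ i, (minpoly ℤ (π i)).natDegree = 2 * D)
    (T : Type) [AddCommGroup T] [Module.Finite ℤ T] [Module.Free ℤ T] (FT : T →ₗ[ℤ] T) :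
    (∃ _ : Module (MvPolynomial.aeval ![fun i => π i, fun i => ((p : K i) ^ e) / π i] :
        MvPolynomial (Fin 2) ℤ →ₐ[ℤ] ((i : ι) → K i)).range T,
        ∀ t : T, (⟨(MvPolynomial.aeval ![fun i => π i, fun i => ((p : K i) ^ e) / π i] :
        MvPolynomial (Fin 2) ℤ →ₐ[ℤ] ((i : ι) → K i)) (X 0), AlgHom.mem_range_self _ _⟩ : (MvPolynomial.aeval ![fun i => π i, fun i => ((p : K i) ^ e) / π i] :
        MvPolynomial (Fin 2) ℤ →ₐ[ℤ] ((i : ι) → K i)).range) • t = FT t) ↔
      (Polynomial.aeval FT (∏ i, minpoly ℤ (π i)) = 0 ∧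
        ∃ VT : T →ₗ[ℤ] T, FT ∘ₗ VT = ((p : ℤ) ^ e) • LinearMap.id) := by
  classical
  obtain ⟨h, hk, hreg, -, -⟩ := Groth.L14.WeilCI.exists_ker p e π hint hweil hinj D hD
  obtain ⟨hPm, hPd⟩ := Groth.L14.WeilCI.prod_monic_natDegree π hint D hD
  obtain ⟨ε, hε, hP0⟩ := Groth.L14.WeilCI.coeff_zero_prod p e π hint hweil D hD
  set P := ∏ i, minpoly ℤ (π i) with hP_def
  set q : ℤ := (p : ℤ) ^ e with hq_def
  have hq : q ≠ 0 := pow_ne_zero _ (by exact_mod_cast (Fact.out : p.Prime).ne_zero)
  show (∃ _ : Module (Groth.L14.WeilCI.evalW p e π).range T,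
      ∀ t : T, (Groth.L14.WeilCI.evalW p e π).rangeRestrict (X 0) • t = FT t) ↔ _
  set f := Groth.L14.WeilCI.evalW p e π with hf_def
  constructor
  · rintro ⟨hM, hF⟩
    let ρ : f.range →+* AddMonoid.End T := Module.toAddMonoidEnd f.range T
    have haev : ∀ (G : Polynomial ℤ) (t : T),
        Polynomial.aeval FT G t = f.rangeRestrict (Polynomial.aeval (X 0 : MvPolynomial (Fin 2) ℤ) G) • t := by
      intro G
      induction G using Polynomial.induction_on with
      | C a =>
        intro t
        rw [Polynomial.aeval_C, Polynomial.aeval_C, AlgHom.commutes]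
        show a • t = _
        rw [show algebraMap ℤ f.range a = (a : f.range) from eq_intCast _ a, Int.cast_smul_eq_zsmul]
      | add G H hG hH =>
        intro t
        rw [map_add, map_add, map_add, add_smul, LinearMap.add_apply, hG, hH]
      | monomial n a hn =>
        intro t
        rw [show Polynomial.C a * Polynomial.X ^ (n + 1) = (Polynomial.C a * Polynomial.X ^ n) * Polynomial.X by
          rw [pow_succ, mul_assoc]]
        generalize Polynomial.C a * Polynomial.X ^ n = G₀ at hn ⊢
        rw [map_mul (Polynomial.aeval FT), map_mul (Polynomial.aeval (X 0 : MvPolynomial (Fin 2) ℤ)), map_mul,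
          Polynomial.aeval_X, Polynomial.aeval_X, mul_smul, hF]
        exact hn (FT t)
    refine ⟨LinearMap.ext fun t => ?_, (ρ (f.rangeRestrict (X 1))).toIntLinearMap, LinearMap.ext fun t => ?_⟩
    · rw [haev, show f.rangeRestrict (Polynomial.aeval (X 0 : MvPolynomial (Fin 2) ℤ) P) = 0 from ?_, zero_smul]
      · rfl
      · refine Subtype.ext (funext fun i => ?_)
        show f _ i = 0
        rw [Groth.L14.WeilCI.evalW_aeval, hP_def, map_prod]
        exact Finset.prod_eq_zero (Finset.mem_univ i) (minpoly.aeval ℤ (π i))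
    · show FT (f.rangeRestrict (X 1) • t) = q • t
      rw [← hF, ← mul_smul, ← map_mul]
      have h1 : f.rangeRestrict (X 0 * X 1) = ((q : ℤ) : f.range) := by
        have h2 : f.rangeRestrict (Groth.L14.WeilCI.rel q) = 0 :=
          Subtype.ext (Groth.L14.WeilCI.evalW_rel p e π hint hweil)
        rw [Groth.L14.WeilCI.rel, map_sub, sub_eq_zero] at h2
        rw [h2, show (C q : MvPolynomial (Fin 2) ℤ) = (q : MvPolynomial (Fin 2) ℤ) from eq_intCast C q, map_intCast]
      rw [h1, Int.cast_smul_eq_zsmul]
  · rintro ⟨hP, VT, hVT⟩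
    have hc0 : P.coeff 0 ≠ 0 := by
      rw [hP0]; exact mul_ne_zero hε.ne_zero (pow_ne_zero _ hq)
    have hinjF : Function.Injective FT := by
      rw [injective_iff_map_eq_zero]
      intro t ht
      have h1 : Polynomial.aeval FT P t = 0 := by rw [hP]; rfl
      rw [← Polynomial.divX_mul_X_add P] at h1
      simp only [map_add, map_mul, Polynomial.aeval_X, Polynomial.aeval_C, LinearMap.add_apply] at h1
      rw [show (Polynomial.aeval FT P.divX * FT) t = Polynomial.aeval FT P.divX (FT t) from rfl, ht, map_zero,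
        zero_add] at h1
      exact (smul_eq_zero.1 (show P.coeff 0 • t = 0 from h1)).resolve_left hc0
    have hVT' : VT ∘ₗ FT = q • LinearMap.id := LinearMap.ext fun t => hinjF (by
      have := LinearMap.congr_fun hVT (FT t)
      simp only [LinearMap.comp_apply, LinearMap.smul_apply, LinearMap.id_apply] at this ⊢
      rw [this, map_smul])
    let S : Set (Module.End ℤ T) := {FT, VT}
    have hcomm : ∀ a ∈ S, ∀ b ∈ S, a * b = b * a := by
      rintro a (rfl | rfl) b (rfl | rfl)
      · rfl
      · exact hVT.trans hVT'.symm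
      · exact hVT'.trans hVT.symm
      · rfl
    let A := Algebra.adjoin ℤ S
    letI : CommRing A := Algebra.adjoinCommRingOfComm ℤ hcomm
    let F' : A := ⟨FT, Algebra.subset_adjoin (by simp [S])⟩
    let V' : A := ⟨VT, Algebra.subset_adjoin (by simp [S])⟩
    let g : MvPolynomial (Fin 2) ℤ →+* A := MvPolynomial.eval₂Hom (Int.castRingHom A) ![F', V']
    have hg0 : g (X 0) = F' := by simp [g]
    have hg1 : g (X 1) = V' := by simp [g]
    have hgC : ∀ a : ℤ, g (C a) = (a : A) := fun a => by simp [g]
    have hgrel : g (Groth.L14.WeilCI.rel q) = 0 := by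
      rw [Groth.L14.WeilCI.rel, map_sub, map_mul, hg0, hg1, hgC, sub_eq_zero]
      refine Subtype.ext ?_
      show FT * VT = ((q : A) : Module.End ℤ T)
      rw [show ((q : A) : Module.End ℤ T) = (q : Module.End ℤ T) from map_intCast A.val q]
      refine LinearMap.ext fun t => ?_
      show (FT ∘ₗ VT) t = _
      rw [hVT]
      simp
    obtain ⟨h', hh'⟩ := Groth.L14.WeilCI.exists_h p e π hint hweil hinj D hD
    have hker : ∀ x, f x = 0 → g x = 0 := by
      intro x hx
      obtain ⟨u, w, hu, hw, hxm⟩ := Groth.L14.WeilCI.exists_reduced q hq hh' hPm hPd ⟨ε, hε, hP0⟩ x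
      have hgP : g (Polynomial.aeval (X 0 : MvPolynomial (Fin 2) ℤ) P) = 0 := by
        refine Subtype.ext ?_
        show A.val (g.toIntAlgHom (Polynomial.aeval (X 0 : MvPolynomial (Fin 2) ℤ) P)) = 0
        rw [← Polynomial.aeval_algHom_apply, ← Polynomial.aeval_algHom_apply]
        show Polynomial.aeval ((g (X 0) : A) : Module.End ℤ T) P = 0
        rw [hg0]; exact hP
      have hgh : g h' = 0 := by
        obtain ⟨c, hc⟩ := Ideal.mem_span_singleton.1 hh'
        have h1 := congrArg g hc
        rw [map_sub, map_mul, map_pow, hgP, sub_zero, map_mul, hgrel, zero_mul, hg0] at h1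
        refine Subtype.ext (LinearMap.ext fun t => ?_)
        have h2 : (F' ^ D * g h' : A).1 t = 0 := by rw [h1]; rfl
        have h3 : Function.Injective ⇑((FT : Module.End ℤ T) ^ D) := by
          rw [Module.End.coe_pow]; exact hinjF.iterate D
        refine h3 ?_
        rw [show ((FT : Module.End ℤ T) ^ D) ((g h').1 t) = 0 from h2]
        exact (map_zero _).symm
      have hk' : RingHom.ker f = Ideal.span {Groth.L14.WeilCI.rel q, h'} := by
        refine Groth.L14.WeilCI.ker_eq_span q hq hh' hPm hPd ⟨ε, hε, hP0⟩ f (Groth.L14.WeilCI.evalW_rel p e π hint hweil)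
          (fun a ha => funext fun i => ?_) (funext fun i => ?_) fun Q hQ =>
            Groth.L14.WeilCI.prod_dvd π hint hinj fun i => minpoly.isIntegrallyClosed_dvd (hint i) ?_
        · have h1 := congrFun ha i
          rw [Groth.L14.WeilCI.evalW_X0] at h1
          exact (mul_eq_zero.1 h1).resolve_left (Groth.L14.WeilCI.pi_ne_zero p e π hint hweil i)
        · rw [Polynomial.aeval_algHom_apply, Groth.L14.WeilCI.evalW_aeval, map_prod]
          exact Finset.prod_eq_zero (Finset.mem_univ i) (minpoly.aeval ℤ (π i))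
        · have := congrFun hQ i
          rwa [Groth.L14.WeilCI.evalW_X0, Polynomial.aeval_pi_apply] at this
      have hx' : x ∈ Ideal.span {Groth.L14.WeilCI.rel q, h'} := hk' ▸ hx
      obtain ⟨a, b, hab⟩ := Ideal.mem_span_pair.1 hx'
      rw [← hab, map_add, map_mul, map_mul, hgrel, hgh, mul_zero, mul_zero, add_zero]
    let r : f.range →+* A := f.rangeRestrict.toRingHom.liftOfSurjective (AlgHom.rangeRestrict_surjective f)
      ⟨g, fun x hx => hker x (congrArg Subtype.val hx)⟩
    have hr : ∀ x, r (f.rangeRestrict x) = g x := fun x =>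
      RingHom.liftOfRightInverse_comp_apply _ _ _ _ x
    let ρ : f.range →+* Module.End ℤ T := A.val.toRingHom.comp r
    refine ⟨Module.compHom T ρ, fun t => ?_⟩
    show (r (f.rangeRestrict (X 0))).1 t = FT t
    rw [hr, hg0]

end Groth.Agent.S18003
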