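import Groth.Statements.S18007
import Groth.Agent.L11.BGaS.Main
import Mathlib.RingTheory.PowerSeries.Inverse
-- import your own Groth.Agent.* helpers here

set_option autoImplicit false
universe u
open ThetaS

namespace Groth.Agent.S18007

open CategoryTheory AlgebraicGeometry in
/-- For a field k, the classifying stack B G_{a,k} of G_a-torsors over k-schemes (torsors as schemes,
fppf-locally trivial) is not S-complete over Spec k: for some discrete valuation ring R over k with
uniformizer π and some functor over (Sch/k) out of the punctured compactified two-branched stack
[Spec R[s,t]/(st − π)/G_m] minus its closed point, unique extension over the whole stack fails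
(there is no extension, or uniqueness up to a unique 2-isomorphism fails). (The published step is
stated after reducing to an algebraically closed field; this row allows any field k.) -/
theorem result (k : Type u) [Field k] :
    ¬ ThetaS.IsSCompleteOver Scheme.fppfPrecoverage
        (AlgSt.BG Scheme.fppfPrecoverage (Red.Ga (Spec (CommRingCat.of k)))) := by
  intro hS
  exact Groth.L11.BGaS.not_lifts (R := PowerSeries k) (ϖ := PowerSeries.X) PowerSeries.X_irreducible
    (Spec.map (CommRingCat.ofHom (algebraMap k (PowerSeries k))))
    (hS (PowerSeries k) PowerSeries.X PowerSeries.X_irreducible _)

end Groth.Agent.S18007
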