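import Groth.Statements.S18008
import Groth.Agent.L09.ThetaOne.Line

set_option autoImplicit false
universe u
open ThetaS

namespace Groth.Agent.S18008

open CategoryTheory AlgebraicGeometry in
/-- Let f : X → Y be a functor over (Sch/S) between algebraic stacks (fppf topology) which is
representable by algebraic spaces and separated (its diagonal is representable by algebraic spaces
and proper). Then for every commutative ring R and every Spec R → S, in any 2-commutative square
whose left side is the point 1 : Spec R → Θ_R = [A¹_R/G_m] and whose right side is f, any two dotted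
arrows Θ_R → X are related by exactly one morphism of dotted arrows. (The published statement says
that the evaluation morphism on filtrations is a monomorphism, and assumes moreover that X and Y are
locally of finite presentation over S, have quasi-compact and separated diagonals, and have affine
stabilizers; those hypotheses are not assumed here.) -/
theorem result {S : Scheme.{u}} (𝒳 𝒴 : AlgSt.Cat S)
    (f : 𝒳 ⥤ᵇ 𝒴) (h𝒳 : AlgSt.IsAlgStack Scheme.fppfPrecoverage 𝒳) (h𝒴 : AlgSt.IsAlgStack Scheme.fppfPrecoverage 𝒴)
    (hrep : AlgSt.RepByAlgSp1 f) (hsep : AlgSt.IsSeparatedMor f)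
    (R : Type u) [CommRing R] (h : Spec (CommRingCat.of R) ⟶ S) :
    LiftSq.LiftsUnique (ThetaS.thetaOne Scheme.fppfPrecoverage R h) f := by
  exact Groth.L09.ThetaOne.liftsUnique_thetaOne h h𝒳.isStack.1 h𝒴.isStack.1
    ((Groth.L24.St.tfae_separated hrep).out 2 1 |>.1 hsep)
    (Groth.L24.St.faithful_of_rep1 h𝒳.isStack.1 h𝒴.isStack.1 f hrep)

end Groth.Agent.S18008
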