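import Groth.Statements.S18016
import Groth.Agent.L06.NilPair

set_option autoImplicit false
set_option maxSynthPendingDepth 3
set_option linter.style.haveILetI false
universe u
open CategoryTheory CategoryTheory.Limits
open Lim

namespace Groth.Agent.S18016

/-- In ring form, let R be a commutative ring, f : B → D any map of R-algebras and i : D' → D a
surjective map of R-algebras every element of whose kernel is nilpotent (so Spec D → Spec D' is a
locally nilpotent closed immersion of affine R-schemes and Spec D → Spec B is affine), and let q₁ :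
P → B, q₂ : P → D' exhibit P as the fibre product ring B ×_D D' (the pushout of the two affine
schemes). Then the diagram B → D ← D' is a filtered colimit, in R-algebras, of diagrams B_j → D_j ←
D'_j of R-algebras of finite presentation in which D'_j → D_j is surjective with locally nilpotent
kernel; and the fibre products P_j = B_j ×_{D_j} D'_j form a compatible diagram whose colimit is P.
Moreover: if f is surjective (resp. surjective with locally nilpotent kernel, resp. integral) then
every B_j → D_j can be taken surjective (resp. surjective with locally nilpotent kernel, resp.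
integral). (The published statement also covers two further classes, maps that become a closed or a
locally nilpotent immersion after composing with a locally nilpotent closed immersion; those two
clauses are not stated here.) -/
theorem result {R B D D' P : Type u} [CommRing R] [CommRing B]
    [CommRing D] [CommRing D'] [CommRing P] [Algebra R B] [Algebra R D] [Algebra R D'] [Algebra R P]
    (f : B →ₐ[R] D) (i : D' →ₐ[R] D) (hi : Function.Surjective i)
    (hnil : ∀ x ∈ RingHom.ker i.toRingHom, IsNilpotent x) (q₁ : P →ₐ[R] B) (q₂ : P →ₐ[R] D')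
    (hP : IsPullback (CommRingCat.ofHom q₁.toRingHom) (CommRingCat.ofHom q₂.toRingHom)
      (CommRingCat.ofHom f.toRingHom) (CommRingCat.ofHom i.toRingHom)) :
    ∃ (ι : Type u) (_ : SmallCategory ι) (_ : IsFiltered ι) (DB DD DD' DP : ι ⥤ Under (CommRingCat.of R))
      (φ : DB ⟶ DD) (ψ : DD' ⟶ DD) (π₁ : DP ⟶ DB) (π₂ : DP ⟶ DD')
      (cB : DB ⟶ (Functor.const ι).obj (Under.mk (CommRingCat.ofHom (algebraMap R B))))
      (cD : DD ⟶ (Functor.const ι).obj (Under.mk (CommRingCat.ofHom (algebraMap R D))))
      (cD' : DD' ⟶ (Functor.const ι).obj (Under.mk (CommRingCat.ofHom (algebraMap R D'))))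
      (cP : DP ⟶ (Functor.const ι).obj (Under.mk (CommRingCat.ofHom (algebraMap R P)))),
      Nonempty (IsColimit (Cocone.mk _ cB)) ∧ Nonempty (IsColimit (Cocone.mk _ cD)) ∧
      Nonempty (IsColimit (Cocone.mk _ cD')) ∧ Nonempty (IsColimit (Cocone.mk _ cP)) ∧
      (∀ j, (φ.app j).right ≫ (cD.app j).right = (cB.app j).right ≫ CommRingCat.ofHom f.toRingHom) ∧
      (∀ j, (ψ.app j).right ≫ (cD.app j).right = (cD'.app j).right ≫ CommRingCat.ofHom i.toRingHom) ∧
      (∀ j, (π₁.app j).right ≫ (cB.app j).right = (cP.app j).right ≫ CommRingCat.ofHom q₁.toRingHom) ∧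
      (∀ j, (π₂.app j).right ≫ (cD'.app j).right = (cP.app j).right ≫ CommRingCat.ofHom q₂.toRingHom) ∧
      (∀ j, (DB.obj j).hom.hom.FinitePresentation ∧ (DD.obj j).hom.hom.FinitePresentation ∧
        (DD'.obj j).hom.hom.FinitePresentation) ∧
      (∀ j, Function.Surjective (ψ.app j).right.hom ∧ ∀ x ∈ RingHom.ker (ψ.app j).right.hom, IsNilpotent x) ∧
      (∀ j, IsPullback (π₁.app j).right (π₂.app j).right (φ.app j).right (ψ.app j).right) ∧
      (Function.Surjective f → ∀ j, Function.Surjective (φ.app j).right.hom) ∧
      (Function.Surjective f → (∀ x ∈ RingHom.ker f.toRingHom, IsNilpotent x) →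
        ∀ j, Function.Surjective (φ.app j).right.hom ∧ ∀ x ∈ RingHom.ker (φ.app j).right.hom, IsNilpotent x) ∧
      (f.toRingHom.IsIntegral → ∀ j, (φ.app j).right.hom.IsIntegral) := by
  let σ : D → D' := Function.surjInv hi
  have hσ : ∀ d, i (σ d) = d := Function.surjInv_eq hi
  haveI := Groth.L06.NilPair.isFiltered (f := f) hσ hnil
  refine ⟨Groth.L06.NilPair.Idx f i σ, inferInstance, inferInstance, Groth.L06.NilPair.DB f i σ,
    Groth.L06.NilPair.DD f i σ, Groth.L06.NilPair.DT f i σ, Groth.L06.NilPair.DP f i σ,
    Groth.L06.NilPair.phi f i σ, Groth.L06.NilPair.psi f i σ, Groth.L06.NilPair.pi1 f i σ,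
    Groth.L06.NilPair.pi2 f i σ, Groth.L06.NilPair.coB f i σ, Groth.L06.NilPair.coD f i σ,
    Groth.L06.NilPair.coT f i σ, Groth.L06.NilPair.coP hσ q₁ q₂ hP,
    Groth.L06.NilPair.isColimit_B hσ hnil, Groth.L06.NilPair.isColimit_D hσ hnil,
    Groth.L06.NilPair.isColimit_T hσ hnil, Groth.L06.NilPair.isColimit_P hσ hnil q₁ q₂ hP,
    fun j => CommRingCat.hom_ext (RingHom.ext fun x => Groth.L06.NilPair.evD_toD hσ j x),
    fun j => CommRingCat.hom_ext (RingHom.ext fun x => Groth.L06.NilPair.evD_fac j x),
    fun j => CommRingCat.hom_ext (RingHom.ext fun x => (Groth.L06.NilPair.q₁_evP hσ q₁ q₂ hP j x).symm),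
    fun j => CommRingCat.hom_ext (RingHom.ext fun x => (Groth.L06.NilPair.q₂_evP hσ q₁ q₂ hP j x).symm),
    fun j => ⟨RingHom.finitePresentation_algebraMap.2 (Algebra.FinitePresentation.quotient j.hIB),
      RingHom.finitePresentation_algebraMap.2 (Algebra.FinitePresentation.quotient j.hID),
      RingHom.finitePresentation_algebraMap.2 (Algebra.FinitePresentation.quotient j.hIT)⟩,
    fun j => ⟨Ideal.Quotient.factor_surjective j.hTD, Groth.L06.NilPair.isNilpotent_of_fac j⟩,
    Groth.L06.NilPair.isPullback_RP, fun hf j => Groth.L06.NilPair.surjective_toD j hf,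
    fun hf hn j => ⟨Groth.L06.NilPair.surjective_toD j hf,
      Groth.L06.NilPair.isNilpotent_of_toD j hf hn⟩,
    fun hf j => Groth.L06.NilPair.isIntegral_toD j hf⟩

end Groth.Agent.S18016
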