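import Groth.Statements.S18017
import Groth.Agent.L05.ArtinLift

set_option autoImplicit false
universe u
open CategoryTheory AlgebraicGeometry
open Unram

namespace Groth.Agent.S18017

/-- In the case where the S-groupoid is the base scheme S itself, let g : T → S be a morphism of
schemes, e : U → T an étale morphism and u a point of U with t = e(u). Say that T is formally versal
over S at t when, for every surjection π : C' → C of local Artinian rings, every morphism a : Spec C
→ T sending the closed point to t and inducing a surjection (hence an isomorphism) of residue fields
κ(t) → κ, and every b : Spec C' → S compatible with a over S, there is c : Spec C' → T restricting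
to a and lying over b. If T is formally versal over S at t, then U (over S via e) is formally versal
over S at u. (No Noetherian or finiteness hypotheses; a scheme has all the pushouts of local
Artinian schemes that the general statement asks of the target.) -/
theorem result {S T U : Scheme.{u}} (g : T ⟶ S) (e : U ⟶ T) [Etale e] (u : U)
    (hT : ∀ (C C' : Type u) [CommRing C] [CommRing C'] [IsLocalRing C] [IsLocalRing C'] [IsArtinianRing C]
        [IsArtinianRing C'] (π : C' →+* C), Function.Surjective π →
        ∀ (a : Spec (CommRingCat.of C) ⟶ T) (b : Spec (CommRingCat.of C') ⟶ S),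
          a (IsLocalRing.closedPoint C) = e u →
          Function.Surjective (a.residueFieldMap (IsLocalRing.closedPoint C)).hom →
          Spec.map (CommRingCat.ofHom π) ≫ b = a ≫ g →
          ∃ c : Spec (CommRingCat.of C') ⟶ T, Spec.map (CommRingCat.ofHom π) ≫ c = a ∧ c ≫ g = b) :
    ∀ (C C' : Type u) [CommRing C] [CommRing C'] [IsLocalRing C] [IsLocalRing C'] [IsArtinianRing C]
        [IsArtinianRing C'] (π : C' →+* C), Function.Surjective π →
        ∀ (a : Spec (CommRingCat.of C) ⟶ U) (b : Spec (CommRingCat.of C') ⟶ S),
          a (IsLocalRing.closedPoint C) = u →
          Function.Surjective (a.residueFieldMap (IsLocalRing.closedPoint C)).hom →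
          Spec.map (CommRingCat.ofHom π) ≫ b = a ≫ (e ≫ g) →
          ∃ c : Spec (CommRingCat.of C') ⟶ U, Spec.map (CommRingCat.ofHom π) ≫ c = a ∧ c ≫ (e ≫ g) = b := by
  exact Groth.L05.ArtinLift.liftsAt_of_etale g e u hT

end Groth.Agent.S18017
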