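import Groth.Statements.S18019
import Mathlib.Algebra.Polynomial.FieldDivision
import Mathlib.Algebra.Polynomial.Eval.Degree
import Mathlib.Tactic.LinearCombination
import Mathlib.Algebra.CharP.Two
import Mathlib.Algebra.Polynomial.Div
-- import your own Groth.Agent.* helpers here

set_option autoImplicit false
universe u
open ClassStk

open Polynomial

namespace Groth.Agent.S18019

open Polynomial in
theorem mem_adjoin_of_invariant {R : Type u} [CommRing R] [IsDomain R] [CharP R 2] (a : R) (ha : a ≠ 0) :
    ∀ (n : ℕ) (f : Polynomial R), f.natDegree ≤ n → f.comp (X + C a) = f →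
      f ∈ Algebra.adjoin R ({X * (X + C a)} : Set (Polynomial R)) := by
  intro n
  induction n using Nat.strong_induction_on with
  | _ n ih =>
    intro f hn hf
    set u : Polynomial R := X * (X + C a) with hu
    have hm : u.Monic := monic_X.mul (monic_X_add_C a)
    have hu2 : u.natDegree = 2 := by
      rw [hu, natDegree_mul X_ne_zero (monic_X_add_C a).ne_zero, natDegree_X, natDegree_X_add_C]
    have hinv : u.comp (X + C a) = u := by
      have h2 : C a + C a = (0 : Polynomial R) := by rw [← C_add, CharTwo.add_self_eq_zero, C_0]
      simp only [hu, mul_comp, X_comp, add_comp, C_comp]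
      linear_combination (X + C a) * h2
    have hdiv := f.modByMonic_add_div u
    set r := f %ₘ u with hr
    set q := f /ₘ u with hq
    have hdeg : r.natDegree ≤ 1 := by
      have := natDegree_modByMonic_lt f hm (by intro h; rw [h, natDegree_one] at hu2; omega)
      rw [← hr] at this; omega
    have hlin : r = C (r.coeff 1) * X + C (r.coeff 0) := eq_X_add_C_of_natDegree_le_one hdeg
    have heq : r.comp (X + C a) + u * q.comp (X + C a) = f := by
      conv_rhs => rw [← hf, ← hdiv, add_comp, mul_comp, hinv]
    have hrdeg : (r.comp (X + C a)).degree < u.degree := by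
      rw [degree_eq_natDegree hm.ne_zero, hu2]
      refine lt_of_le_of_lt degree_le_natDegree (WithBot.coe_lt_coe.2 ?_)
      rw [natDegree_comp, natDegree_X_add_C, mul_one]
      exact Nat.lt_succ_of_le hdeg
    obtain ⟨hq', hr'⟩ := div_modByMonic_unique (f := f) (q.comp (X + C a)) (r.comp (X + C a)) hm ⟨heq, hrdeg⟩
    rw [← hq] at hq'
    rw [← hr] at hr'
    have hc1 : r.coeff 1 = 0 := by
      have h := congrArg (Polynomial.eval 0) hr'
      rw [eval_comp, hlin] at h
      simp at h
      exact h.resolve_right ha
    rw [← hdiv, hlin, hc1, C_0, zero_mul, zero_add]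
    refine add_mem (Subalgebra.algebraMap_mem _ (r.coeff 0)) (mul_mem (Algebra.subset_adjoin rfl) ?_)
    by_cases hq0 : q = 0
    · rw [hq0]; exact zero_mem _
    · have hlt : q.natDegree < n := by
        have h2 := natDegree_divByMonic f hm
        rw [← hq, hu2] at h2
        have : f.natDegree ≥ 2 := by
          by_contra hl
          refine hq0 ((divByMonic_eq_zero_iff hm).2 ?_)
          rw [degree_eq_natDegree hm.ne_zero, hu2]
          exact lt_of_le_of_lt degree_le_natDegree (WithBot.coe_lt_coe.2 (show f.natDegree < 2 by omega))
        omega
      exact ih _ hlt q le_rfl hq'.symm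

/-- Let R be an integral domain of characteristic 2 and let a be a nonzero element of R, so that x ↦ x +
a defines an R-algebra involution of the polynomial ring R[x] (an action of the group of order two).
A polynomial f is invariant, f(x + a) = f(x), if and only if f belongs to the R-subalgebra generated
by u = x (x + a); in other words the ring of invariants is the polynomial ring R[u]. -/
theorem result (R : Type u) [CommRing R] [IsDomain R]
    [CharP R 2] (a : R) (ha : a ≠ 0) (f : Polynomial R) :
    f.comp (X + C a) = f ↔ f ∈ Algebra.adjoin R ({X * (X + C a)} : Set (Polynomial R)) := by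
  refine ⟨mem_adjoin_of_invariant a ha _ f le_rfl, fun hf => ?_⟩
  have h2 : C a + C a = (0 : Polynomial R) := by rw [← C_add, CharTwo.add_self_eq_zero, C_0]
  induction hf using Algebra.adjoin_induction with
  | mem x hx =>
    rw [Set.mem_singleton_iff.1 hx]
    simp only [mul_comp, X_comp, add_comp, C_comp]
    linear_combination (X + C a) * h2
  | algebraMap r => exact C_comp
  | add x y _ _ hx hy => rw [add_comp, hx, hy]
  | mul x y _ _ hx hy => rw [mul_comp, hx, hy]

end Groth.Agent.S18019
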