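import Groth.Statements.S18026
import Groth.Agent.L05.Hensel.FinPart
import Mathlib.AlgebraicGeometry.Morphisms.Etale

set_option autoImplicit false
universe u
open Hensel

namespace Groth.Agent.S18026

open AlgebraicGeometry CategoryTheory in
/-- Let `A` be a henselian discrete valuation ring and `f : T ⟶ Spec A` an étale surjective morphism of
schemes. Then some open subscheme `U` of `T` is finite over `Spec A` and still maps onto it; in
particular `U → Spec A` is a finite étale cover sitting inside `T` as an open subscheme (étaleness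
of the restriction is automatic, and surjectivity records that `U` meets the closed fibre). (The
published statement asks for an open component of `T` finite étale over `Spec A`; when `T` is not
separated — two copies of `Spec A` glued along the generic point — no open and closed subset of `T`
is finite over `Spec A`, while the published proof constructs an open subscheme, the spectrum of the
local ring of `T` at a point of the closed fibre; so this row asks only for an open subscheme.) -/
theorem result
    (A : Type u) [CommRing A] [IsDomain A] [IsDiscreteValuationRing A] [HenselianLocalRing A]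
    (T : Scheme.{u}) (f : T ⟶ Spec (CommRingCat.of A)) [Etale f] [Surjective f] :
    ∃ U : T.Opens, IsFinite (U.ι ≫ f) ∧ Surjective (U.ι ≫ f) := by
  obtain ⟨t, ht⟩ := f.surjective (IsLocalRing.closedPoint A)
  obtain ⟨T₀, hT₀, htT, -⟩ : ∃ T₀ : T.Opens, IsAffineOpen T₀ ∧ t ∈ T₀ ∧ T₀ ≤ ⊤ :=
    exists_isAffineOpen_mem_and_subset (x := t) (U := ⊤) trivial
  haveI : IsAffine T₀ := hT₀
  haveI : LocallyQuasiFinite (T₀.ι ≫ f) := Groth.L23.lqf_of_etale _
  haveI : IsLocallyArtinian (Spec (CommRingCat.of (A ⧸ IsLocalRing.maximalIdeal A))) := by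
    letI : Field (A ⧸ IsLocalRing.maximalIdeal A) := Ideal.Quotient.field _
    infer_instance
  obtain ⟨W, hWc, hWf, hW⟩ := Groth.L05.FinPart.exists_finite_part A (IsLocalRing.maximalIdeal A) (T₀.ι ≫ f)
    (IsFinite.of_locallyQuasiFinite _)
  let t₀ : T₀.toScheme := ⟨t, htT⟩
  have ht₀ : (T₀.ι ≫ f).base t₀ = IsLocalRing.closedPoint A := ht
  have htW : t₀ ∈ W := by_contra fun h => hW t₀ h (by rw [ht₀]; exact le_rfl)
  let e : (T₀.ι ''ᵁ W).toScheme ≅ W.toScheme := (T₀.ι.isoImage W).symm
  have he : (T₀.ι ''ᵁ W).ι ≫ f = e.hom ≫ W.ι ≫ T₀.ι ≫ f := by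
    simp [e, ← Scheme.Hom.isoImage_hom_ι_assoc]
  haveI := hWf
  refine ⟨T₀.ι ''ᵁ W, ?_, ?_⟩
  · rw [he]; exact MorphismProperty.comp_mem _ _ _ inferInstance hWf
  · rw [he]
    haveI : Surjective (W.ι ≫ T₀.ι ≫ f) := by
      refine ⟨fun p => ?_⟩
      have hopen : IsOpen (Set.range (W.ι ≫ T₀.ι ≫ f).base) := (W.ι ≫ T₀.ι ≫ f).isOpenMap.isOpen_range
      have hp : p ∈ Set.range (W.ι ≫ T₀.ι ≫ f).base :=
        (IsLocalRing.specializes_closedPoint p).mem_open hopen ⟨⟨t₀, htW⟩, ht₀⟩
      exact hp
    infer_instance

end Groth.Agent.S18026
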