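import Groth.Statements.S18027
import Groth.Agent.L19.AlgGrpBasic.DimStrict
import Groth.Agent.L16.SecComp.Smooth
import Groth.Agent.L08.GrpDim
import Groth.Agent.S5341

set_option autoImplicit false
set_option backward.isDefEq.respectTransparency.types false
set_option backward.isDefEq.respectTransparency false
set_option linter.style.haveILetI false
universe u
open CategoryTheory MonoidalCategory CartesianMonoidalCategory MonObj GrpObj AlgebraicGeometry CategoryTheory.Limits
open AlgGrp

namespace Groth.Agent.S18027
open Groth.L19.AlgGrpBasic

/-- Let `k` be a field and `u : G ⟶ H` a homomorphism of smooth `k`-group schemes which is a closed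
immersion, where `G` and `H` have the same dimension. Then `u` carries the connected component of
the identity of `G` onto the connected component of the identity of `H`; as `u` is a closed
immersion and `H` is reduced, `u` therefore restricts to an isomorphism between the identity
components. (The second printed assertion, on the groups of components, is not included.) -/
theorem result (k : Type u) [Field k]
    (G H : Over (Spec (CommRingCat.of k))) [GrpObj G] [GrpObj H]
    [Smooth G.hom] [Smooth H.hom] (u : G ⟶ H) [IsMonHom u] [IsClosedImmersion u.left]
    (hdim : topologicalKrullDim ↥G.left = topologicalKrullDim ↥H.left)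
    (t : ↥((𝟙_ (Over (Spec (CommRingCat.of k)))).left)) :
    ⇑u.left.base '' connectedComponent (η[G].left.base t) = connectedComponent (η[H].left.base t) := by
  haveI : IsLocallyNoetherian G.left := LocallyOfFiniteType.isLocallyNoetherian G.hom
  haveI : IsLocallyNoetherian H.left := LocallyOfFiniteType.isLocallyNoetherian H.hom
  have key : ∀ (A : Over (Spec (CommRingCat.of k))) [GrpObj A] [Smooth A.hom] (x : A.left),
      IsIrreducible (connectedComponent x) ∧
        topologicalKrullDim (connectedComponent x : Set A.left) = topologicalKrullDim A.left := by
    intro A _ _ x
    haveI : IsLocallyNoetherian A.left := LocallyOfFiniteType.isLocallyNoetherian A.hom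
    have hirr := Groth.L16.SecComp.isIrreducible_connectedComponent
      (fun z => Groth.L21.Smooth.isDomain_stalk A.hom z) x
    refine ⟨hirr, (Groth.Agent.S5341.result k A).1 _ ⟨hirr, fun S hS hle => ?_⟩⟩
    exact hS.isConnected.subset_connectedComponent (hle mem_connectedComponent)
  obtain ⟨hC, hCd⟩ := key G (η[G].left.base t)
  obtain ⟨hD, hDd⟩ := key H (η[H].left.base t)
  obtain ⟨n, -, hn⟩ := Groth.L08.GrpDim.exists_dim (G := G)
  have hu : u.left (η[G].left.base t) = η[H].left.base t := by
    rw [← IsMonHom.one_hom (f := u)]
    rfl
  have hsub : u.left '' connectedComponent (η[G].left.base t) ⊆ connectedComponent (η[H].left.base t) :=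
    (hC.isConnected.image _ u.left.continuous.continuousOn).subset_connectedComponent
      ⟨_, mem_connectedComponent, hu⟩
  refine eq_of_subset_of_dim_eq (u.left.isClosedEmbedding.isClosedMap _ isClosed_connectedComponent) hD hsub
    (by rw [hDd, ← hdim, hn]) ?_
  rw [Groth.L22.SchemeDim.topologicalKrullDim_eq_of_isEmbedding
    (f := fun z : (connectedComponent (η[G].left.base t) : Set G.left) => u.left z.1)
    (u.left.isClosedEmbedding.isEmbedding.comp Topology.IsEmbedding.subtypeVal) (by
      skip
      simp [Set.range_comp, Set.image_eq_range]), hCd, hn]

end Groth.Agent.S18027
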