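import Groth.Statements.S18029
import Groth.Agent.L25.SpreadSub

set_option autoImplicit false
universe u
open CategoryTheory MonoidalCategory CartesianMonoidalCategory MonObj GrpObj AlgebraicGeometry CategoryTheory.Limits
open AlgGrp

namespace Groth.Agent.S18029

/-- Closed subgroups of the generic fibre spread out. Let `X` be an integral scheme with generic point
`η : Spec K(X) ⟶ X`, `G` an affine `X`-group scheme locally of finite presentation and `H_η` a
closed subgroup scheme of the generic fibre `G_η = G ×_X Spec K(X)`. Then there are a non-empty open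
`U ⊆ X` (through which `η` factors) and a closed subgroup scheme `H_U` of `G ×_X U` whose generic
fibre is `H_η`: a cartesian square presents `H_η` as `H_U ×_U Spec K(X)`, compatibly with the
embeddings into `G`. -/
theorem result
    (X : Scheme.{u}) [IsIntegral X] (G : Over X) [GrpObj G]
    [IsAffineHom G.hom] [LocallyOfFinitePresentation G.hom]
    (Hη : Over (Spec X.functionField)) [GrpObj Hη]
    (i : Hη ⟶ Red.bc (X.fromSpecStalk (genericPoint X)) G) [IsMonHom i] [IsClosedImmersion i.left] :
    ∃ (U : X.Opens) (ηU : Spec X.functionField ⟶ (U : Scheme.{u})) (HU : Over (U : Scheme.{u}))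
      (_ : GrpObj HU) (j : HU ⟶ Red.bc U.ι G) (φ : Hη.left ⟶ HU.left),
      ηU ≫ U.ι = X.fromSpecStalk (genericPoint X) ∧ IsMonHom j ∧ IsClosedImmersion j.left ∧
      IsPullback φ Hη.hom HU.hom ηU ∧
      φ ≫ j.left ≫ pullback.fst G.hom U.ι = i.left ≫ pullback.fst G.hom (X.fromSpecStalk (genericPoint X)) := by
  exact Groth.L25.SpreadSub.exists_spread X G Hη i

end Groth.Agent.S18029
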