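import Groth.Statements.S1803
import Groth.Agent.L21.GorensteinFieldExt

set_option autoImplicit false
universe u
open scoped TensorProduct
open Goren

namespace Groth.Agent.S1803

/-- Let k'/k be any field extension, C a k-algebra of finite type, q a prime of C ⊗_k k' and p its
contraction to C. Then C_p is Gorenstein if and only if (C ⊗_k k')_q is Gorenstein. -/
theorem result (k k' : Type u) [Field k] [Field k'] [Algebra k k'] (C : Type u) [CommRing C] [Algebra k C] [Algebra.FiniteType k C] (q : PrimeSpectrum (C ⊗[k] k')) : LocCoh.IsGorensteinLocalRing (Localization.AtPrime (q.asIdeal.comap (algebraMap C (C ⊗[k] k')))) ↔ LocCoh.IsGorensteinLocalRing (Localization.AtPrime q.asIdeal) := by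
  haveI : IsNoetherianRing C := Algebra.FiniteType.isNoetherianRing k C
  haveI : IsNoetherianRing (C ⊗[k] k') := by
    haveI : IsNoetherianRing (k' ⊗[k] C) := Algebra.FiniteType.isNoetherianRing k' _
    exact isNoetherianRing_of_ringEquiv _ (Algebra.TensorProduct.comm k k' C).toRingEquiv
  haveI : q.asIdeal.LiesOver (q.asIdeal.comap (algebraMap C (C ⊗[k] k'))) := ⟨rfl⟩
  refine (Groth.L21.GorensteinFieldExt.gorenstein_iff_fieldExt (k := k) C k' (fun p _ => ?_) q.asIdeal
    (q.asIdeal.comap (algebraMap C (C ⊗[k] k')))).symm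
  obtain ⟨h1, h2⟩ := Groth.L21.GorensteinFieldExt.locGor_baseChange k p.ResidueField k'
    (Groth.L21.GorensteinFieldExt.exists_adjoin_residueField k C p) (Groth.L21.GorensteinFieldExt.locGor_field k')
  exact ⟨h1, h2⟩

end Groth.Agent.S1803
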