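import Groth.Statements.S1804
import Groth.Agent.L10.DRing.GammaChange

set_option autoImplicit false
set_option backward.defeqAttrib.useBackward true
set_option backward.isDefEq.respectTransparency false
universe u
open CategoryTheory
attribute [local instance] HasDerivedCategory.standard
open LocCoh

namespace Groth.Agent.S1804

/-- For Noetherian rings and stated on cohomology. Suppose A → B is a ring map between Noetherian rings,
I is an ideal of A whose extension to B is J = IB, and K is an object of D(B). For every i, the
A-module H^i_I of the restriction of K to D(A) (the direct limit of Hom(A/I^n, K[i])) is isomorphic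
to the restriction to A of the B-module H^i_J(K). -/
theorem result (A B : Type u) [CommRing A] [CommRing B] [Algebra A B] [IsNoetherianRing A] [IsNoetherianRing B] (I : Ideal A) (K : Dual.D B) (i : ℤ) : Nonempty (Dual2.HDI A I ((DRing.restrictD (algebraMap A B)).obj K) i ≅ (ModuleCat.restrictScalars (algebraMap A B)).obj (Dual2.HDI B (I.map (algebraMap A B)) K i)) := by
  haveI := Groth.L10.DualUnbounded.hasRgammaI I
  haveI := Groth.L10.DualUnbounded.hasRgammaI (I.map (algebraMap A B))
  obtain ⟨e1⟩ := Groth.Agent.S1812.result A I ((isNoetherianRing_iff_ideal_fg A).1 inferInstance I)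
    ((DRing.restrictD (algebraMap A B)).obj K) i
  obtain ⟨e2⟩ := Groth.Agent.S1812.result B (I.map (algebraMap A B))
    ((isNoetherianRing_iff_ideal_fg B).1 inferInstance _) K i
  obtain ⟨g⟩ := Groth.L10.GammaChange.nonempty_restrict_iso (algebraMap A B) I K
  let R := ModuleCat.restrictScalars.{u} (algebraMap A B)
  let w : (DerivedCategory.homologyFunctor (ModuleCat.{u} A) i).obj ((DRing.RgammaI I).obj ((DRing.restrictD (algebraMap A B)).obj K)) ≅
      R.obj ((DerivedCategory.homologyFunctor (ModuleCat.{u} B) i).obj ((DRing.RgammaI (I.map (algebraMap A B))).obj K)) :=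
    (DerivedCategory.homologyFunctor _ i).mapIso g ≪≫
      (Groth.L10.GammaChange.restrictHomologyIso (algebraMap A B) _ i)
  let e2' : R.obj ((DerivedCategory.homologyFunctor (ModuleCat.{u} B) i).obj ((DRing.RgammaI (I.map (algebraMap A B))).obj K)) ≃ₗ[A]
      (ModuleCat.restrictScalars.{u + 1} (algebraMap A B)).obj (Dual2.HDI B (I.map (algebraMap A B)) K i) :=
    { e2.toAddEquiv with map_smul' := fun a x => e2.map_smul (algebraMap A B a) x }
  exact ⟨(e1.symm ≪≫ₗ w.toLinearEquiv ≪≫ₗ e2').toModuleIso⟩

end Groth.Agent.S1804
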