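import Groth.Statements.S18040
import Mathlib.LinearAlgebra.Dual.Lemmas
import Mathlib.RingTheory.MvPolynomial.Homogeneous
import Mathlib.FieldTheory.IsAlgClosed.Basic
-- import your own Groth.Agent.* helpers here

set_option autoImplicit false
universe u
open AdjLin

namespace Groth.Agent.S18040

/-- Let k be an algebraically closed field of characteristic zero and Z a finite set of points of
projective 3-space over k, realised as points of the projectivization of k⁴, a homogeneous form in
four variables being evaluated at the chosen representative of a point (its vanishing does not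
depend on the choice). Suppose Z has the Cayley–Bacharach property in degree n: every form of degree
n vanishing at all points of Z but one vanishes at that point as well. Then for every m ≤ n, either
there is a nonzero form of degree n − m vanishing at every point of Z, or the rank of the evaluation
map from forms of degree m to functions on Z is at most the number of points of Z minus the
dimension of the space of forms of degree n − m. -/
theorem result (k : Type u) [Field k] [IsAlgClosed k] [CharZero k]
    (Z : Finset (Projectivization k (Fin 4 → k))) (n : ℕ)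
    (hCB : (∀ z ∈ Z, ∀ p : MvPolynomial (Fin 4) k, p.IsHomogeneous n →
      (∀ z' ∈ Z, z' ≠ z → MvPolynomial.eval z'.rep p = 0) → MvPolynomial.eval z.rep p = 0))
    (m : ℕ) (hm : m ≤ n) :
    (∃ s : MvPolynomial (Fin 4) k, s.IsHomogeneous (n - m) ∧ s ≠ 0 ∧ ∀ z ∈ Z, MvPolynomial.eval z.rep s = 0) ∨
      Module.finrank k (LinearMap.range
          ((LinearMap.pi fun z : ↥Z => (MvPolynomial.aeval (R := k) z.1.rep).toLinearMap) ∘ₗ
            (MvPolynomial.homogeneousSubmodule (Fin 4) k m).subtype)) +
        Module.finrank k ↥(MvPolynomial.homogeneousSubmodule (Fin 4) k (n - m)) ≤ Z.card := by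
  classical
  let E : MvPolynomial (Fin 4) k →ₗ[k] (↥Z → k) :=
    LinearMap.pi fun z : ↥Z => (MvPolynomial.aeval (R := k) z.1.rep).toLinearMap
  have hE : ∀ p z, E p z = MvPolynomial.eval z.1.rep p := fun p z => by simp [E, MvPolynomial.aeval_eq_eval]
  let H := fun d : ℕ => MvPolynomial.homogeneousSubmodule (Fin 4) k d
  by_cases hex : ∃ s : MvPolynomial (Fin 4) k, s.IsHomogeneous (n - m) ∧ s ≠ 0 ∧ ∀ z ∈ Z, MvPolynomial.eval z.rep s = 0
  · exact Or.inl hex
  refine Or.inr ?_
  let V := LinearMap.range (E ∘ₗ (H (n - m)).subtype)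
  have hV : Module.finrank k V = Module.finrank k (H (n - m)) := by
    refine LinearMap.finrank_range_of_inj (LinearMap.ker_eq_bot.1 (LinearMap.ker_eq_bot'.2 fun s hs => ?_))
    by_contra hne
    refine hex ⟨s.1, s.2, fun h => hne (Subtype.ext h), fun z hz => ?_⟩
    rw [← hE s.1 ⟨z, hz⟩]
    exact congrFun hs ⟨z, hz⟩
  let N := (LinearMap.range (E ∘ₗ (H n).subtype)).dualAnnihilator
  have hone : ∀ z : ↥Z, ∃ l ∈ N, l (Pi.single z 1) ≠ 0 := by
    intro z
    have : Pi.single z (1 : k) ∉ LinearMap.range (E ∘ₗ (H n).subtype) := by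
      rintro ⟨p, hp⟩
      have h0 := hCB z.1 z.2 p.1 p.2 fun z' hz' hne => by
        rw [← hE p.1 ⟨z', hz'⟩]
        exact (congrFun hp ⟨z', hz'⟩).trans (Pi.single_eq_of_ne (fun h => hne (congrArg Subtype.val h)) _)
      rw [← hE p.1 z] at h0
      exact one_ne_zero (((congrFun hp z).trans (Pi.single_eq_same (M := fun _ : ↥Z => k) z (1 : k))).symm.trans h0)
    by_contra! h
    exact this (by rw [← Subspace.dualAnnihilator_dualCoannihilator_eq (W := LinearMap.range (E ∘ₗ (H n).subtype))]
                   exact (Submodule.mem_dualCoannihilator _).2 h)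
  obtain ⟨l, hlN, hl⟩ : ∃ l ∈ N, ∀ z : ↥Z, l (Pi.single z 1) ≠ 0 := by
    suffices ∀ S : Finset ↥Z, ∃ l ∈ N, ∀ z ∈ S, l (Pi.single z 1) ≠ 0 by
      obtain ⟨l, h1, h2⟩ := this Finset.univ
      exact ⟨l, h1, fun z => h2 z (Finset.mem_univ z)⟩
    intro S
    induction S using Finset.induction_on with
    | empty => exact ⟨0, N.zero_mem, by simp⟩
    | insert z S _ ih =>
      obtain ⟨l, hl, hS⟩ := ih
      obtain ⟨μ, hμ, hz⟩ := hone z
      obtain ⟨t, ht⟩ := Infinite.exists_notMem_finset ((insert z S).image fun w => - l (Pi.single w 1) / μ (Pi.single w 1))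
      by_cases ht0 : t = 0
      · subst ht0
        refine ⟨l, hl, fun w hw h0 => ht (Finset.mem_image.2 ⟨w, hw, by simp [h0]⟩)⟩
      refine ⟨l + t • μ, N.add_mem hl (N.smul_mem t hμ), fun w hw h0 => ht (Finset.mem_image.2 ⟨w, hw, ?_⟩)⟩
      simp only [LinearMap.add_apply, LinearMap.smul_apply, smul_eq_mul] at h0
      by_cases hw0 : μ (Pi.single w 1) = 0
      · rw [hw0, mul_zero, add_zero] at h0
        rcases Finset.mem_insert.1 hw with rfl | hwS
        · exact absurd hw0 hz
        · exact absurd h0 (hS w hwS)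
      · field_simp
        linear_combination -h0
  let Φ : (↥Z → k) →ₗ[k] Module.Dual k (↥Z → k) :=
    { toFun := fun f => l ∘ₗ LinearMap.mulLeft k f
      map_add' := fun f g => by ext; simp [add_mul]
      map_smul' := fun c f => by ext; simp }
  have hΦ : Function.Injective Φ := by
    refine LinearMap.ker_eq_bot.1 (LinearMap.ker_eq_bot'.2 fun f hf => funext fun z => ?_)
    have h := LinearMap.congr_fun hf (Pi.single z 1)
    have e : f * Pi.single z 1 = f z • (Pi.single z 1 : ↥Z → k) := by
      funext w
      rcases eq_or_ne w z with rfl | h <;> simp [*]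
    simp only [Φ, LinearMap.coe_mk, AddHom.coe_mk, LinearMap.comp_apply, LinearMap.mulLeft_apply, e, map_smul,
      smul_eq_mul, LinearMap.zero_apply, mul_eq_zero, hl z, or_false] at h
    exact h
  let U := LinearMap.range (E ∘ₗ (H m).subtype)
  have hle : U.map Φ ≤ V.dualAnnihilator := by
    rintro _ ⟨_, ⟨p, rfl⟩, rfl⟩
    rw [Submodule.mem_dualAnnihilator]
    rintro _ ⟨q, rfl⟩
    show l (E p.1 * E q.1) = 0
    refine (Submodule.mem_dualAnnihilator l).1 hlN _ ⟨⟨p.1 * q.1, ?_⟩, ?_⟩
    · have : (p.1 * q.1).IsHomogeneous (m + (n - m)) := p.2.mul q.2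
      rwa [Nat.add_sub_cancel' hm] at this
    · funext z
      simp [hE]
  have h1 := Submodule.finrank_mono hle
  rw [← LinearEquiv.finrank_eq (Submodule.equivMapOfInjective Φ hΦ U)] at h1
  have h2 := Subspace.finrank_add_finrank_dualAnnihilator_eq V
  rw [Module.finrank_pi, Fintype.card_coe, hV] at h2
  have h3 : Module.finrank k U + Module.finrank k (H (n - m)) ≤ Z.card := by omega
  exact h3

end Groth.Agent.S18040
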