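import Groth.Statements.S18043
import Groth.Agent.L03.AdjLin.Main

set_option autoImplicit false
set_option linter.style.haveILetI false
universe u
open CategoryTheory CategoryTheory.Limits AlgebraicGeometry
open AdjLin

namespace Groth.Agent.S18043

/-- Let k be an algebraically closed field of characteristic zero and X a smooth projective surface over
k (an irreducible proper smooth k-scheme of dimension 2 with an ample invertible O_X-module), ω a
second exterior power of Ω_{X/k}, U and L invertible O_X-modules with U⁻¹ a tensor inverse of U, and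
P ⊂ X a zero-dimensional local complete intersection subscheme, given by a quasi-coherent ideal I_P
with finite support which, on some affine open neighbourhood of every point of X, is generated by
two sections. Then the following are equivalent: (a) there are a locally free O_X-module E of rank 2
and morphisms U → E → L ⊗ I_P forming a short exact sequence 0 → U → E → L ⊗ I_P → 0; (b) for every
quasi-coherent ideal I' covering I_P in the order of ideal sheaves (equivalently, every closed
subscheme P' ⊂ P of colength one) and every global section σ of (L ⊗ U⁻¹) ⊗ ω whose zero scheme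
contains P' (the ideal of the zero scheme is ≤ I'), the zero scheme of σ contains P. -/
theorem result (k : Type u) [Field k] [IsAlgClosed k] [CharZero k]
    (X : Scheme.{u}) [X.Over (Spec (CommRingCat.of k))] [IsProper (X ↘ (Spec (CommRingCat.of k)))]
    [Smooth (X ↘ (Spec (CommRingCat.of k)))] [IrreducibleSpace X] (hdim : topologicalKrullDim X = 2)
    (H : X.Modules) (hH : CohB1.IsAmple H)
    (ω : X.Modules) (hω : ExtPow.IsExtPow 2 (Omega.sheaf (X ↘ (Spec (CommRingCat.of k)))) ω)
    (U Uinv L : X.Modules) (hU : PicF.IsInvertible U) (hUinv : ClSub.IsInverseOf Uinv U)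
    (hL : PicF.IsInvertible L)
    (IP : X.IdealSheafData) (hfin : (IP.support : Set X).Finite)
    (hlci : ∀ x : X, ∃ V : X.affineOpens, x ∈ (V : X.Opens) ∧
      ∃ a b : Γ(X, V), IP.ideal V = Ideal.span {a, b}) :
    (∃ (E : X.Modules) (i : U ⟶ E) (p : E ⟶ CohB1.tensorMod L (ClSub.idealMod IP)) (w : i ≫ p = 0),
        FlatMod.IsFinLocFreeOfRank 2 E ∧ (ShortComplex.mk i p w).ShortExact) ↔
      (∀ I' : X.IdealSheafData, IP ⋖ I' →
        ∀ σ : Coh.structureModule X ⟶ CohB1.tensorMod (CohB1.tensorMod L Uinv) ω,
          PicF2.zeroScheme (CohB1.tensorMod (CohB1.tensorMod L Uinv) ω) σ ≤ I' →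
            PicF2.zeroScheme (CohB1.tensorMod (CohB1.tensorMod L Uinv) ω) σ ≤ IP) := by
  haveI : IsReduced X := Groth.L16.SecComp.isReduced_of_smooth (X ↘ Spec (CommRingCat.of k))
  haveI : IsIntegral X := isIntegral_of_irreducibleSpace_of_isReduced X
  obtain ⟨n, ι, hι, hιk⟩ := Groth.L03.SurfAdj.exists_proj k hH
  haveI := hι
  exact Groth.L03.AdjLin.cayleyBacharach k hdim ι hιk hω hU hUinv hL IP hfin hlci

end Groth.Agent.S18043
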