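import Groth.Statements.S18048
import Groth.Agent.L03.AdjLin.Hypersurface
-- import your own Groth.Agent.* helpers here

set_option autoImplicit false
universe u
open CategoryTheory CategoryTheory.Limits AlgebraicGeometry
open AdjLin

namespace Groth.Agent.S18048

/-- Let k be an algebraically closed field of characteristic zero and X ⊂ P³_k a smooth surface of
degree d, that is, a closed immersion ι : X → P³_k of an irreducible smooth k-scheme of dimension 2
whose hyperplane class H = ι*O(1) has self-intersection (H·H) = d (computed as an alternating sum of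
Euler characteristics from two copies of ι*O(−1)); write O_X(j) = ι*O_{P³}(j). Let P ⊂ X be a
zero-dimensional local complete intersection subscheme (a quasi-coherent ideal I_P with finite
support, generated by two sections on an affine neighbourhood of every point) with the
Cayley–Bacharach property for O_X(n): for every quasi-coherent ideal I' covering I_P in the order of
ideal sheaves, every global section of O_X(n) whose zero scheme has ideal ≤ I' has zero scheme with
ideal ≤ I_P. Then there exist a locally free O_X-module E of rank 2 and morphisms O_X → E → O_X(n +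
4 − d) ⊗ I_P forming a short exact sequence 0 → O_X → E → O_X(n + 4 − d) ⊗ I_P → 0. (The published
corollary is stated for P a general divisor in a base-point-free linear system on a smooth curve in
P³, with X a smooth hypersurface containing P; its proof uses only the Cayley–Bacharach property of
P in degree n, equivalent to the one for O_X(n) on X, and that property is assumed here for an
arbitrary zero-dimensional local complete intersection P ⊂ X.) -/
theorem result
    (k : Type u) [Field k] [IsAlgClosed k] [CharZero k]
    (X : Scheme.{u}) [X.Over (Spec (CommRingCat.of k))] [Smooth (X ↘ (Spec (CommRingCat.of k)))]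
    [IrreducibleSpace X] (hdim : topologicalKrullDim X = 2)
    (ι : X ⟶ CohB1.ProjSpace 3 k) [IsClosedImmersion ι]
    (hι : ι ≫ CohB1.ProjSpace.toSpec 3 k = X ↘ (Spec (CommRingCat.of k)))
    (d : ℤ) (hd : FGA.intNum k X 2 ![((Scheme.Modules.pullback ι).obj (Twist.twistProjSpace 3 k (-1))), ((Scheme.Modules.pullback ι).obj (Twist.twistProjSpace 3 k (-1)))] (Coh.structureModule X) = d)
    (IP : X.IdealSheafData) (hfin : (IP.support : Set X).Finite)
    (hlci : ∀ x : X, ∃ V : X.affineOpens, x ∈ (V : X.Opens) ∧
      ∃ a b : Γ(X, V), IP.ideal V = Ideal.span {a, b})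
    (n : ℤ)
    (hCB : ∀ I' : X.IdealSheafData, IP ⋖ I' →
      ∀ σ : Coh.structureModule X ⟶ ((Scheme.Modules.pullback ι).obj (Twist.twistProjSpace 3 k (n))),
        PicF2.zeroScheme ((Scheme.Modules.pullback ι).obj (Twist.twistProjSpace 3 k (n))) σ ≤ I' → PicF2.zeroScheme ((Scheme.Modules.pullback ι).obj (Twist.twistProjSpace 3 k (n))) σ ≤ IP) :
    ∃ (E : X.Modules) (i : Coh.structureModule X ⟶ E)
      (p : E ⟶ CohB1.tensorMod ((Scheme.Modules.pullback ι).obj (Twist.twistProjSpace 3 k (n + 4 - d))) (ClSub.idealMod IP)) (w : i ≫ p = 0),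
      FlatMod.IsFinLocFreeOfRank 2 E ∧ (ShortComplex.mk i p w).ShortExact := by
  haveI : IsReduced X := Groth.L16.SecComp.isReduced_of_smooth (X ↘ Spec (CommRingCat.of k))
  haveI : IsIntegral X := isIntegral_of_irreducibleSpace_of_isReduced X
  haveI := Groth.L22.Reg.isProper_over_proj (k := k) (n := 3)
  haveI : IsProper (X ↘ Spec (CommRingCat.of k)) := by
    rw [← hι]
    haveI : IsProper (CohB1.ProjSpace.toSpec 3 k) :=
      inferInstanceAs (IsProper ((CohB1.ProjSpace 3 k) ↘ Spec (CommRingCat.of k)))
    infer_instance
  haveI : SmoothOfRelativeDimension 2 (X ↘ Spec (CommRingCat.of k)) :=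
    Groth.L16.SmoothSection.smoothOfRelativeDimension_dim _ 2 (hdim.trans Nat.cast_ofNat.symm)
  obtain ⟨ω, hω, -⟩ := Groth.L22.Adjunction.exists_isExtPow
    (Groth.L02.Canon.isFinLocFreeOfRank_omega (f := X ↘ Spec (CommRingCat.of k)) 2)
  obtain ⟨e, he, ⟨i⟩⟩ := Groth.L03.AdjLin.exists_degree k hdim ι hι hω
  obtain rfl : d = e := hd.symm.trans he
  have hL : PicF.IsInvertible ((Scheme.Modules.pullback ι).obj (Twist.twistProjSpace 3 k (n + 4 - d))) :=
    Groth.L18.Ample.isInvertible_pullback ι (Groth.L16.ProjTwist.isInvertible_twistProjSpace 3 k _)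
  obtain ⟨b⟩ := Groth.L22.Reg.nonempty_O_add (n := 3) (R := k) (show n + 4 - d + (d - 4) = n by ring)
  let Φ : CohB1.tensorMod (CohB1.tensorMod ((Scheme.Modules.pullback ι).obj (Twist.twistProjSpace 3 k (n + 4 - d)))
      (Coh.structureModule X)) ω ≅ (Scheme.Modules.pullback ι).obj (Twist.twistProjSpace 3 k n) :=
    Groth.L00.Tensor.tensorIso (Groth.L00.Tensor.tensorUnitRight _) i ≪≫
      Groth.L29.DC.PullTensor.pullTensor ι _ _ ≪≫ (Scheme.Modules.pullback ι).mapIso b
  refine (Groth.L03.AdjLin.cayleyBacharach k hdim ι hι hω (U := Coh.structureModule X)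
    (Uinv := Coh.structureModule X) (Groth.L18.Ample.isInvertible_structureModule X)
    ⟨Groth.L00.Tensor.tensorUnitLeft _⟩ hL IP hfin hlci).2 fun I' hI' σ hσ => ?_
  rw [← Groth.L03.AdjLin.zeroScheme_iso Φ] at hσ ⊢
  exact hCB I' hI' _ hσ

end Groth.Agent.S18048
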