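import Groth.Statements.S18049
import Mathlib.Tactic


set_option autoImplicit false
open STCI

namespace Groth.Agent.S18049

/-- For natural numbers 0 < k < N such that k does not divide N, ⌊N/k⌋ ≤ (N - k)/gcd(k, N); stated here
in the equivalent cleared form ⌊N/k⌋ · gcd(k, N) ≤ N - k. -/
theorem result (k N : ℕ) (hk : 0 < k) (hkN : k < N) (hndvd : ¬ k ∣ N) :
    N / k * Nat.gcd k N ≤ N - k := by
  set g := Nat.gcd k N with hg
  have hgk : g ∣ k := Nat.gcd_dvd_left k N
  have hgN : g ∣ N := Nat.gcd_dvd_right k N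
  have hgne : g ≠ k := fun h => hndvd (h ▸ hgN)
  obtain ⟨c, hc⟩ := hgk
  have hg0 : 0 < g := Nat.gcd_pos_of_pos_left _ hk
  have hc2 : 2 ≤ c := by
    rcases c with _ | _ | c
    · simp at hc; omega
    · simp at hc; omega
    · omega
  have hq : N / k * k ≤ N := Nat.div_mul_le_self N k
  rcases Nat.lt_or_ge (N / k) 2 with h | h
  · have h1 : g ∣ N - k := Nat.dvd_sub hgN (Nat.gcd_dvd_left k N)
    have h2 : g ≤ N - k := Nat.le_of_dvd (by omega) h1
    calc N / k * g ≤ 1 * g := Nat.mul_le_mul_right g (by omega)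
      _ ≤ N - k := by omega
  · have h1 : 2 * g ≤ k := by rw [hc]; nlinarith
    have h2 : 2 * (N / k * g) ≤ N / k * k := by nlinarith
    have h3 : 2 * k ≤ N / k * k := by nlinarith
    omega

end Groth.Agent.S18049
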