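import Groth.Statements.S1805
import Groth.Agent.L10.DRing.GammaChange

set_option autoImplicit false
set_option backward.defeqAttrib.useBackward true
set_option backward.isDefEq.respectTransparency false
universe u
open CategoryTheory
attribute [local instance] HasDerivedCategory.standard
open LocCoh

namespace Groth.Agent.S1805

/-- Suppose A → B is a flat ring map between Noetherian rings, I is an ideal of A, and K is an object of
D(A); assume the derived base change functor D(A) → D(B) exists. Then for every i the B-module
H^i_{IB} of the base change of K (direct limit of Hom(B/I^nB, (K ⊗^L_A B)[i])) is isomorphic to B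
⊗_A H^i_I(K). -/
theorem result (A B : Type u) [CommRing A] [CommRing B] [Algebra A B] [IsNoetherianRing A] [IsNoetherianRing B] [Module.Flat A B] [DRing.HasLBaseChange (algebraMap A B)] (I : Ideal A) (K : Dual.D A) (i : ℤ) : Nonempty (Dual2.HDI B (I.map (algebraMap A B)) ((DRing.LBaseChange (algebraMap A B)).obj K) i ≅ (ModuleCat.extendScalars (algebraMap A B)).obj (Dual2.HDI A I K i)) := by
  haveI := Groth.L10.DualUnbounded.hasRgammaI I
  haveI := Groth.L10.DualUnbounded.hasRgammaI (I.map (algebraMap A B))
  obtain ⟨e1⟩ := Groth.Agent.S1812.result A I ((isNoetherianRing_iff_ideal_fg A).1 inferInstance I) K i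
  obtain ⟨e2⟩ := Groth.Agent.S1812.result B (I.map (algebraMap A B))
    ((isNoetherianRing_iff_ideal_fg B).1 inferInstance _) ((DRing.LBaseChange (algebraMap A B)).obj K) i
  obtain ⟨g⟩ := Groth.L10.GammaChange.nonempty_ext_homology (algebraMap A B) I
    ((RingHom.flat_algebraMap_iff).2 inferInstance) K i
  letI alg : Algebra A B := (algebraMap A B).toAlgebra
  let c : TensorProduct A B (Dual.HD A ((DRing.RgammaI I).obj K) i) ≃ₗ[B] TensorProduct A B (Dual2.HDI A I K i) :=
    TensorProduct.AlgebraTensorModule.congr (LinearEquiv.refl B B) e1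
  let w : ((ModuleCat.extendScalars.{u, u, u} (algebraMap A B)).obj
      ((DerivedCategory.homologyFunctor (ModuleCat.{u} A) i).obj ((DRing.RgammaI I).obj K))) ≃ₗ[B]
      ((ModuleCat.extendScalars (algebraMap A B)).obj (Dual2.HDI A I K i)) := c
  exact ⟨(e2.symm ≪≫ₗ g.toLinearEquiv ≪≫ₗ w).toModuleIso⟩

end Groth.Agent.S1805
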