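import Groth.Statements.S18050
import Mathlib.Algebra.BigOperators.Intervals
import Mathlib.Tactic.Linarith
-- import your own Groth.Agent.* helpers here

set_option autoImplicit false
open STCI

open W4c5stcicurvesp3

namespace Groth.Agent.S18050

open W4c5stcicurvesp3 in
theorem irem_shift (N k : ℕ) (h1 : N % k ≠ 0) : ∀ i,
    irem N k (i + 1) = irem k (N % k) i ∧ irem N k (i + 2) = irem k (N % k) (i + 1) := by
  intro i
  induction i with
  | zero => exact ⟨rfl, by simp [irem, h1]⟩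
  | succ i ih =>
    refine ⟨ih.2, ?_⟩
    rw [irem.eq_3 N k (i + 1), irem.eq_3 k (N % k) i, ih.1, ih.2]

theorem idiv_shift (N k : ℕ) (h1 : N % k ≠ 0) : ∀ i, idiv N k (i + 2) = idiv k (N % k) (i + 1) := by
  intro i
  cases i with
  | zero => simp [idiv, irem, h1]
  | succ i => rw [idiv.eq_3 N k (i + 1), idiv.eq_3 k (N % k) i, (irem_shift N k h1 i).1, (irem_shift N k h1 i).2]

theorem main : ∀ (t N k : ℕ), 0 < k → k ≤ N → 0 < t → irem N k t = 0 →
    (∀ i, 0 < i → i < t → irem N k i ≠ 0) →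
    (∑ i ∈ Finset.range t, idiv N k (i + 1)) * Nat.gcd k N ≤ N := by
  intro t
  induction t with
  | zero => intros; omega
  | succ s ih =>
    intro N k hk hkN _ hz hmin
    rcases Nat.eq_zero_or_pos s with rfl | hs
    · simp only [Finset.sum_range_succ, Finset.sum_range_zero, zero_add]
      exact (Nat.mul_le_mul_left _ (Nat.gcd_le_left _ hk)).trans (Nat.div_mul_le_self N k)
    · have h1 : N % k ≠ 0 := hmin 1 one_pos (by omega)
      obtain ⟨s, rfl⟩ : ∃ m, s = m + 1 := ⟨s - 1, by omega⟩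
      have hih := ih k (N % k) (Nat.pos_of_ne_zero h1) (Nat.mod_lt _ hk).le (Nat.succ_pos s)
        ((irem_shift N k h1 _).1 ▸ hz) fun i hi hlt => (irem_shift N k h1 i).1 ▸ hmin (i + 1) (by omega) (by omega)
      rw [show Nat.gcd (N % k) k = Nat.gcd k N from (Nat.gcd_rec k N).symm] at hih
      rw [Finset.sum_range_succ', add_mul, Finset.sum_congr rfl fun i _ => idiv_shift N k h1 i]
      have hg1 : Nat.gcd k N ≤ k := Nat.gcd_le_left _ hk
      have hg2 : Nat.gcd k N ≤ N % k := Nat.le_of_dvd (Nat.pos_of_ne_zero h1)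
        ((Nat.dvd_mod_iff (Nat.gcd_dvd_left k N)).2 (Nat.gcd_dvd_right k N))
      have hq : 1 ≤ N / k := (Nat.one_le_div_iff hk).2 hkN
      have hd := Nat.div_add_mod N k
      show _ + idiv N k 1 * _ ≤ N
      rw [show idiv N k 1 = N / k from rfl]
      have h3 : (N / k - 1) * Nat.gcd k N ≤ (N / k - 1) * k := Nat.mul_le_mul_left _ hg1
      obtain ⟨p, hp⟩ : ∃ p, N / k = p + 1 := ⟨N / k - 1, by omega⟩
      rw [hp, Nat.add_sub_cancel] at h3
      rw [hp] at hd
      rw [hp]
      nlinarith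

/-- Let k ≤ N be positive integers, let t be the least positive integer with rem_t(N, k) = 0, where
rem_0 = k, rem_1 = N mod k and rem_i is the remainder of rem_{i-2} by rem_{i-1} (iterated Euclidean
remainders), and let d_i be the corresponding iterated quotients (d_1 = ⌊N/k⌋, d_i =
⌊rem_{i-2}/rem_{i-1}⌋). Then d_1 + ⋯ + d_t ≤ N/gcd(k, N); stated in the cleared form (d_1 + ⋯ + d_t)
· gcd(k, N) ≤ N. -/
theorem result (k N t : ℕ) (hk : 0 < k) (hkN : k ≤ N) (ht : 0 < t)
    (hzero : irem N k t = 0) (hmin : ∀ i, 0 < i → i < t → irem N k i ≠ 0) :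
    (∑ i ∈ Finset.Icc 1 t, idiv N k i) * Nat.gcd k N ≤ N := by
  rw [← Finset.Ico_add_one_right_eq_Icc, Finset.sum_Ico_eq_sum_range, Nat.add_sub_cancel]
  simpa [add_comm] using main t N k hk hkN ht hzero hmin

end Groth.Agent.S18050
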