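import Groth.Statements.S18051
import Mathlib.Tactic.Positivity
import Mathlib.Tactic.Linarith
import Mathlib.Tactic.Ring
import Mathlib.Tactic.FieldSimp
import Mathlib.Algebra.BigOperators.Intervals
import Mathlib.Data.Rat.Cast.Order
import Mathlib.Tactic.LinearCombination

set_option autoImplicit false
open STCI

namespace Groth.Agent.S18051

open W4c5stcicurvesp3 in
variable {_unused : Unit}

open W4c5stcicurvesp3 in
lemma irem_rec (a b j : ℕ) (h : irem a b (j + 1) ≠ 0) :
    irem a b (j + 1) * idiv a b (j + 2) + irem a b (j + 2) = irem a b j ∧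
      irem a b (j + 2) < irem a b (j + 1) := by
  simp only [irem, idiv, if_neg h]
  exact ⟨Nat.div_add_mod _ _, Nat.mod_lt _ (Nat.pos_of_ne_zero h)⟩

open W4c5stcicurvesp3 in

/-- Let k ≤ N/2 be positive integers and let r_i = rem_i(N, k), d_i = div_i(N, k) be the iterated
Euclidean remainders and quotients of (N, k) (r_0 = k, r_1 = N mod k, r_2 = r_0 mod r_1, d_1 =
⌊N/k⌋, d_2 = ⌊r_0/r_1⌋). If the least positive t with r_t = 0 satisfies t ≥ 3, i.e. r_1 ≠ 0 and r_2
≠ 0, then (r_0 - r_1)/d_1 + (r_1 - r_2)/(d_1 + d_2) + r_2/(d_1 + d_2 + 1) ≤ k²/N (in ℚ). -/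
theorem result (k N : ℕ) (hk : 0 < k) (hkN : 2 * k ≤ N)
    (h1 : irem N k 1 ≠ 0) (h2 : irem N k 2 ≠ 0) :
    ((irem N k 0 : ℚ) - irem N k 1) / (idiv N k 1)
      + ((irem N k 1 : ℚ) - irem N k 2) / ((idiv N k 1 : ℚ) + idiv N k 2)
      + (irem N k 2 : ℚ) / ((idiv N k 1 : ℚ) + idiv N k 2 + 1)
      ≤ (k : ℚ) ^ 2 / N := by
  obtain ⟨e2, l2⟩ := irem_rec N k 0 h1
  simp only [zero_add] at e2 l2
  have l1 : irem N k 1 < irem N k 0 := Nat.mod_lt _ hk
  have eN : k * idiv N k 1 + irem N k 1 = N := Nat.div_add_mod N k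
  have d1 : 2 ≤ idiv N k 1 := (Nat.le_div_iff_mul_le hk).2 hkN
  have d2 : 1 ≤ idiv N k 2 := by
    rcases Nat.eq_zero_or_pos (idiv N k 2) with h | h
    · rw [h] at e2; simp at e2; omega
    · exact h
  have e0 : irem N k 0 = k := rfl
  rw [e0] at e2 l1 ⊢
  have eNq : (k:ℚ) * idiv N k 1 + irem N k 1 = N := by exact_mod_cast eN
  have e2q : (irem N k 1 : ℚ) * idiv N k 2 + irem N k 2 = k := by exact_mod_cast e2
  have l1q : (irem N k 1 : ℚ) < k := by exact_mod_cast l1
  have l2q : (irem N k 2 : ℚ) < irem N k 1 := by exact_mod_cast l2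
  have d1q : (2:ℚ) ≤ idiv N k 1 := by exact_mod_cast d1
  have d2q : (1:ℚ) ≤ idiv N k 2 := by exact_mod_cast d2
  have c0 : (0:ℚ) < irem N k 2 := by exact_mod_cast Nat.pos_of_ne_zero h2
  rw [← eNq]
  generalize (irem N k 1 : ℚ) = r at *
  generalize (irem N k 2 : ℚ) = s at *
  generalize (idiv N k 1 : ℚ) = D at *
  generalize (idiv N k 2 : ℚ) = e at *
  generalize (k : ℚ) = K at *
  have hK : K = r * e + s := e2q.symm
  have hr : 0 < r := by linarith
  have hKr : s ≤ K - r := by nlinarith
  have hQ : 0 < D * r + K := by nlinarith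
  have hE : 0 < D + e := by linarith
  have key : s * (r - s) * D * (D * K + r) ≤ K * r * (D - 1) * (K - r) * (D + e) * (D + e + 1) := by
    have a1 : D * (D * K + r) ≤ K * ((D - 1) * ((D + e) * (D + e + 1))) := by
      have : D * (D + 1) ≤ (D - 1) * ((D + e) * (D + e + 1)) := by
        have b1 : D + 1 ≤ D + e := by linarith
        have b2 : D ≤ (D - 1) * (D + e + 1) := by nlinarith
        calc D * (D + 1) ≤ ((D - 1) * (D + e + 1)) * (D + e) := by
              apply mul_le_mul b2 b1 (by linarith) (by nlinarith)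
          _ = _ := by ring
      calc D * (D * K + r) ≤ K * (D * (D + 1)) := by nlinarith
        _ ≤ _ := by apply mul_le_mul_of_nonneg_left this (by linarith)
    have a2 : s * (r - s) ≤ (K - r) * r := by
      apply mul_le_mul hKr (by linarith) (by linarith) (by linarith)
    calc s * (r - s) * D * (D * K + r) = (s * (r - s)) * (D * (D * K + r)) := by ring
      _ ≤ ((K - r) * r) * (K * ((D - 1) * ((D + e) * (D + e + 1)))) := by
        apply mul_le_mul a2 a1 (mul_nonneg (by linarith) (add_nonneg (mul_nonneg (by linarith) (by linarith)) (by linarith))) (by nlinarith)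
      _ = _ := by ring
  have hN : 0 < K * D + r := by nlinarith
  have e1 : D * r + K = (D + e) * r + s := by rw [hK]; ring
  have hdiff : K ^ 2 / (K * D + r) - ((K - r) / D + (r - s) / (D + e) + s / (D + e + 1)) =
      (K * r * (D - 1) * (K - r) * (D + e) * (D + e + 1) - s * (r - s) * D * (D * K + r)) /
        ((D + e) * (D + e + 1) * (D * ((D * r + K) * (K * D + r)))) := by
    rw [hK] at hN hQ ⊢
    field_simp
    ring
  have : 0 ≤ K ^ 2 / (K * D + r) - ((K - r) / D + (r - s) / (D + e) + s / (D + e + 1)) := by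
    rw [hdiff]
    exact div_nonneg (by linarith) (by positivity)
  linarith

end Groth.Agent.S18051
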