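import Groth.Statements.S18052
import Mathlib.Tactic.Positivity
import Mathlib.Tactic.Linarith
import Mathlib.Tactic.Ring
import Mathlib.Tactic.FieldSimp
import Mathlib.Algebra.BigOperators.Intervals
import Mathlib.Data.Rat.Cast.Order
import Mathlib.Tactic.LinearCombination

set_option autoImplicit false
open STCI

namespace Groth.Agent.S18052

open W4c5stcicurvesp3 in
variable {_unused : Unit}

open W4c5stcicurvesp3 in
lemma irem_rec (a b j : ℕ) (h : irem a b (j + 1) ≠ 0) :
    irem a b (j + 1) * idiv a b (j + 2) + irem a b (j + 2) = irem a b j ∧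
      irem a b (j + 2) < irem a b (j + 1) := by
  simp only [irem, idiv, if_neg h]
  exact ⟨Nat.div_add_mod _ _, Nat.mod_lt _ (Nat.pos_of_ne_zero h)⟩

open W4c5stcicurvesp3 in

/-- Let k ≤ N/2 be positive integers, let r_i = rem_i(N, k) and d_i = div_i(N, k) be the iterated
Euclidean remainders and quotients of (N, k) (r_0 = k, r_1 = N mod k, …; d_1 = ⌊N/k⌋, d_i =
⌊r_{i-2}/r_{i-1}⌋), and let t be the least positive integer with r_t = 0. Then the sum over i = 0,
…, t - 1 of (r_i - r_{i+1})/(d_1 + ⋯ + d_{i+1}) is at most k²/N (in ℚ). -/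
theorem result (k N t : ℕ) (hk : 0 < k) (hkN : 2 * k ≤ N) (ht : 0 < t)
    (hzero : irem N k t = 0) (hmin : ∀ i, 0 < i → i < t → irem N k i ≠ 0) :
    ∑ i ∈ Finset.range t, ((irem N k i : ℚ) - irem N k (i + 1)) / (∑ j ∈ Finset.Icc 1 (i + 1), (idiv N k j : ℚ))
      ≤ (k : ℚ) ^ 2 / N := by
  set D : ℕ → ℚ := fun j => ∑ i ∈ Finset.Icc 1 j, (idiv N k i : ℚ) with hD
  have hDsucc : ∀ j, D (j + 1) = D j + (idiv N k (j + 1) : ℚ) := fun j => by
    simp only [hD]; rw [Finset.sum_Icc_succ_top (by omega)]
  have hd1 : 2 ≤ idiv N k 1 := (Nat.le_div_iff_mul_le hk).2 hkN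
  have hDpos : ∀ j, 1 ≤ D (j + 1) := by
    intro j
    induction j with
    | zero => simp only [hD]; simp; omega
    | succ j ih => rw [hDsucc (j + 1)]; have : (0:ℚ) ≤ idiv N k (j + 1 + 1) := Nat.cast_nonneg _; linarith
  have hne : ∀ j, j < t → irem N k j ≠ 0 := by
    intro j hj
    rcases Nat.eq_zero_or_pos j with rfl | h
    · exact hk.ne'
    · exact hmin j h hj
  have hanti : ∀ j, j < t → irem N k (j + 1) < irem N k j := by
    intro j hj
    cases j with
    | zero => exact Nat.mod_lt _ hk
    | succ j => exact (irem_rec N k j (hne _ hj)).2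
  have main : ∀ n j, j + n = t → 1 ≤ n →
      ∑ i ∈ Finset.Ico j t, ((irem N k i : ℚ) - irem N k (i + 1)) / D (i + 1) ≤
        (irem N k j : ℚ) ^ 2 / (D (j + 1) * irem N k j + irem N k (j + 1)) := by
    intro n
    induction n with
    | zero => intros; omega
    | succ n ih =>
      intro j hj _
      have hjt : j < t := by omega
      have hr : (0:ℚ) < irem N k j := by exact_mod_cast Nat.pos_of_ne_zero (hne j hjt)
      rw [Finset.sum_eq_sum_Ico_succ_bot hjt]
      rcases Nat.eq_zero_or_pos n with rfl | hn
      · obtain rfl : j + 1 = t := hj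
        rw [hzero]
        have hp : (0:ℚ) < D (j + 1) := by have := hDpos j; linarith
        simp only [Finset.Ico_self, Finset.sum_empty, add_zero, Nat.cast_zero, sub_zero]
        exact le_of_eq (by field_simp)
      · have h1 : j + 1 < t := by omega
        have hb := ih (j + 1) (by omega) hn
        obtain ⟨e2, -⟩ := irem_rec N k j (hne _ h1)
        have e2q : (irem N k (j+1) : ℚ) * idiv N k (j + 2) + irem N k (j + 2) = irem N k j := by
          exact_mod_cast e2
        have hr' : (0:ℚ) < irem N k (j+1) := by exact_mod_cast Nat.pos_of_ne_zero (hne _ h1)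
        have hle : (irem N k (j+1) : ℚ) ≤ irem N k j := by exact_mod_cast (hanti j hjt).le
        have hden : D (j + 1 + 1) * irem N k (j+1) + irem N k (j+1+1) =
            D (j + 1) * irem N k (j+1) + irem N k j := by
          rw [hDsucc (j + 1)]; linear_combination e2q
        rw [hden] at hb
        refine (add_le_add (le_refl _) hb).trans ?_
        have hp := hDpos j
        generalize (irem N k j : ℚ) = K at *
        generalize (irem N k (j+1) : ℚ) = r at *
        generalize D (j + 1) = E at *
        have hE : 0 < E := by linarith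
        have hA : 0 < E * r + K := by positivity
        have hB : 0 < E * K + r := by positivity
        have : K ^ 2 / (E * K + r) - ((K - r) / E + r ^ 2 / (E * r + K)) =
            K * r * (E - 1) * (K - r) / (E * ((E * r + K) * (E * K + r))) := by
          field_simp
          ring
        have h0 : 0 ≤ K * r * (E - 1) * (K - r) / (E * ((E * r + K) * (E * K + r))) :=
          div_nonneg (mul_nonneg (mul_nonneg (by positivity) (by linarith)) (by linarith)) (by positivity)
        linarith
  have h := main t 0 (by omega) ht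
  have e0 : irem N k 0 = k := rfl
  have eN : D (0 + 1) * irem N k 0 + irem N k (0 + 1) = (N : ℚ) := by
    have h1 : k * idiv N k 1 + irem N k 1 = N := Nat.div_add_mod N k
    have h2 : (k:ℚ) * idiv N k 1 + irem N k 1 = N := by exact_mod_cast h1
    simp only [hD, zero_add, Finset.Icc_self, Finset.sum_singleton, e0]
    linear_combination h2
  rw [eN, e0] at h
  rwa [Finset.range_eq_Ico]

end Groth.Agent.S18052
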