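import Groth.Statements.S18053
import Mathlib.Tactic.Positivity
import Mathlib.Tactic.Linarith
import Mathlib.Tactic.Ring
import Mathlib.Tactic.IntervalCases
import Mathlib.Tactic.NormNum
import Mathlib.Topology.Algebra.InfiniteSum.Basic
import Mathlib.Algebra.BigOperators.Field

set_option autoImplicit false
open STCI

namespace Groth.Agent.S18053

variable {_unused : Unit}

lemma weight_le (a : ℕ) (ha : 3 ≤ a) (q : ℕ) : (q:ℝ) / (((a:ℝ) + 1) * ((a:ℝ) + 2)) ≤ (q:ℝ) / 20 := by
  have : (3:ℝ) ≤ a := by exact_mod_cast ha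
  exact div_le_div_of_nonneg_left (Nat.cast_nonneg q) (by norm_num) (by nlinarith)


/-- Let (p_k)_{k ≥ 1} be a sequence of nonnegative integers and n a nonnegative integer such that (i)
p_1 ≤ 9 - (2/5)n, (ii) p_1 ≥ p_2 ≥ p_3 ≥ ⋯, (iii) Σ_k p_k ≤ 19 - n, and (iv) n/4 + Σ_{k ≥ 1}
p_k/(k(k+1)) ≥ 6. Then n = 0 and (p_k) is one of (9, 8, 2), (9, 9), (9, 9, 1) (followed by zeros).
Here the sequence is indexed from 0 (so p 0 is p_1 and the weight of p k is 1/((k+1)(k+2))), (iii)
is stated for every partial sum, and the series in (iv) is the real sum Σ' over all k. -/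
theorem result (p : ℕ → ℕ) (n : ℕ)
    (h1 : (p 0 : ℝ) ≤ 9 - (2 / 5 : ℝ) * n) (h2 : Antitone p)
    (h3 : ∀ m : ℕ, ((∑ k ∈ Finset.range m, p k : ℕ) : ℝ) ≤ 19 - (n : ℝ))
    (h4 : (6 : ℝ) ≤ (n : ℝ) / 4 + ∑' k : ℕ, (p k : ℝ) / (((k : ℝ) + 1) * ((k : ℝ) + 2))) :
    n = 0 ∧ (p = (fun k => if k = 0 then 9 else if k = 1 then 8 else if k = 2 then 2 else 0)
      ∨ p = (fun k => if k = 0 then 9 else if k = 1 then 9 else 0)
      ∨ p = (fun k => if k = 0 then 9 else if k = 1 then 9 else if k = 2 then 1 else 0)) := by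
  have hS : ∀ m : ℕ, ∑ k ∈ Finset.range m, p k + n ≤ 19 := fun m => by
    have := h3 m
    have : ((∑ k ∈ Finset.range m, p k : ℕ) : ℝ) + (n:ℝ) ≤ 19 := by linarith
    exact_mod_cast this
  have hz : ∀ k, 19 ≤ k → p k = 0 := by
    intro k hk
    by_contra h
    have h20 : (20:ℕ) • 1 ≤ ∑ i ∈ Finset.range 20, p i := by
      simpa using Finset.card_nsmul_le_sum (Finset.range 20) p 1 (fun i hi => by
        have : p k ≤ p i := h2 (by simp at hi; omega)
        omega)
    have := hS 20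
    simp at h20
    omega
  rw [tsum_eq_sum (s := Finset.range 19) (fun k hk => by
    simp at hk; rw [hz k hk]; simp)] at h4
  simp only [Finset.sum_range_succ' _ 18, Finset.sum_range_succ' _ 17, Finset.sum_range_succ' _ 16] at h4
  set R : ℕ := ∑ k ∈ Finset.range 16, p (k + 1 + 1 + 1) with hR
  have hsum : R + p 2 + p 1 + p 0 + n ≤ 19 := by
    have := hS 19
    simp only [Finset.sum_range_succ' _ 18, Finset.sum_range_succ' _ 17, Finset.sum_range_succ' _ 16] at this
    simpa using this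
  have hbound : ∑ k ∈ Finset.range 16, (p (k+1+1+1) : ℝ) / ((((k+1+1+1:ℕ) : ℝ) + 1) * (((k+1+1+1:ℕ) : ℝ) + 2)) ≤ (R:ℝ) / 20 := by
    rw [hR, Nat.cast_sum, Finset.sum_div]
    exact Finset.sum_le_sum fun k _ => weight_le _ (by omega) _
  norm_num at h4 hbound
  have key : 120 * 3 ≤ 15 * n + 30 * p 0 + 10 * p 1 + 5 * p 2 + 3 * R := by
    have : (120 * 3 : ℝ) ≤ 15 * n + 30 * p 0 + 10 * p 1 + 5 * p 2 + 3 * R := by linarith
    exact_mod_cast this
  have h5 : 5 * p 0 + 2 * n ≤ 45 := by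
    have : (5:ℝ) * p 0 + 2 * n ≤ 45 := by linarith
    exact_mod_cast this
  have a01 : p 1 ≤ p 0 := h2 (by omega)
  have a12 : p 2 ≤ p 1 := h2 (by omega)
  have hn : n = 0 := by omega
  refine ⟨hn, ?_⟩
  have h0 : p 0 = 9 := by omega
  have hR0 : R = 0 → ∀ k, 3 ≤ k → p k = 0 := by
    intro h k hk
    rcases le_or_gt 19 k with hk' | hk'
    · exact hz k hk'
    · have := (Finset.sum_eq_zero_iff.1 (hR ▸ h)) (k - 3) (by simp; omega)
      rwa [show k - 3 + 1 + 1 + 1 = k by omega] at this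
  have hcase : R = 0 ∧ ((p 1 = 8 ∧ p 2 = 2) ∨ (p 1 = 9 ∧ p 2 = 0) ∨ (p 1 = 9 ∧ p 2 = 1)) := by
    rcases Nat.eq_zero_or_pos (p 2) with h22 | h22
    · have h30 : R = 0 := by
        rw [hR]
        refine Finset.sum_eq_zero fun k _ => ?_
        have : p (k+1+1+1) ≤ p 2 := h2 (by omega)
        omega
      omega
    · omega
  obtain ⟨hR1, hcase⟩ := hcase
  rcases hcase with ⟨u, v⟩ | ⟨u, v⟩ | ⟨u, v⟩
  · left; funext k
    match k with
    | 0 => simpa using h0
    | 1 => simpa using u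
    | 2 => simpa using v
    | k + 3 => simpa using hR0 hR1 (k+3) (by omega)
  · right; left; funext k
    match k with
    | 0 => simpa using h0
    | 1 => simpa using u
    | 2 => simpa using v
    | k + 3 => simpa using hR0 hR1 (k+3) (by omega)
  · right; right; funext k
    match k with
    | 0 => simpa using h0
    | 1 => simpa using u
    | 2 => simpa using v
    | k + 3 => simpa using hR0 hR1 (k+3) (by omega)

end Groth.Agent.S18053
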