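import Groth.Statements.S18054
import Mathlib.Tactic


set_option autoImplicit false
open STCI

namespace Groth.Agent.S18054

/-- Let s, t, d, g be integers with t ≥ s ≥ 4, d ≥ 1, g ≥ 0 and d dividing st; put n = st/d and assume n
≥ 2; put r = d[n(s - 4) + t] + (2 - 2g)n and assume r ≤ (s/3)(2s² - 6s + 7) - 1. Then d ≤ g + 3.
(The bound is written cleared of the denominator 3; s(2s² - 6s + 7) is always divisible by 3, so
this is the same condition.) -/
theorem result (s t d g n : ℤ) (hs : 4 ≤ s) (hst : s ≤ t) (hd : 1 ≤ d) (hg : 0 ≤ g)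
    (hn : s * t = d * n) (hn2 : 2 ≤ n)
    (hr : 3 * (d * (n * (s - 4) + t) + (2 - 2 * g) * n) ≤ s * (2 * s ^ 2 - 6 * s + 7) - 3) :
    d ≤ g + 3 := by
  by_contra hcon
  push Not at hcon
  have e1 : d * (n * (s - 4) + t) + (2 - 2 * g) * n ≥ s * t * (s - 6) + d * t + 10 * n := by
    have h1 : (10 - 2 * d) * n ≤ (2 - 2 * g) * n := mul_le_mul_of_nonneg_right (by linarith) (by linarith)
    have h2 : d * (n * (s - 4) + t) = s * t * (s - 4) + d * t := by rw [hn]; ring
    have h3 : (10 - 2 * d) * n = 10 * n - 2 * (s * t) := by rw [hn]; ring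
    linarith
  have hamgm : (d * t + 10 * n) ^ 2 ≥ 40 * (s * t * t) := by
    rw [hn]; linarith [sq_nonneg (d * t - 10 * n)]
  have hpos : 0 ≤ d * t + 10 * n := by
    have := mul_nonneg (by linarith : (0:ℤ) ≤ d) (by linarith : (0:ℤ) ≤ t)
    linarith
  rcases eq_or_lt_of_le hs with rfl | hs5
  · rcases eq_or_lt_of_le hst with rfl | ht
    · have : n ≤ 4 := by
        have : 4 * n ≤ d * n := mul_le_mul_of_nonneg_right (by linarith) (by linarith)
        linarith
      interval_cases n <;> omega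
    · have ht5 : (5:ℤ) ≤ t := ht
      have : 12 * t ≤ d * t + 10 * n := abs_le_of_sq_le_sq' (by nlinarith) hpos |>.2
      nlinarith
  · have hs5' : (5:ℤ) ≤ s := hs5
    rcases le_or_gt s 6 with h6 | h6
    · have : 14 * t ≤ d * t + 10 * n := abs_le_of_sq_le_sq' (by nlinarith) hpos |>.2
      interval_cases s <;> nlinarith
    · have : 16 * t ≤ d * t + 10 * n := abs_le_of_sq_le_sq' (by nlinarith) hpos |>.2
      have h8 : s * s * (s - 6) ≤ s * t * (s - 6) :=
        mul_le_mul_of_nonneg_right (mul_le_mul_of_nonneg_left hst (by linarith)) (by linarith)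
      nlinarith [mul_nonneg (by linarith : (0:ℤ) ≤ s - 7) (sq_nonneg (s - 8)), sq_nonneg (s - 8), sq_nonneg (s-9)]

end Groth.Agent.S18054
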