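import Groth.Statements.S18055
import Mathlib.Tactic

set_option autoImplicit false
open STCI

namespace Groth.Agent.S18055

/-- Let d ≥ 1, g ≥ 0 and 1 ≤ s ≤ t be integers with d dividing st, put n = st/d and r = d[n(s - 4) + t]
+ (2 - 2g)n, and assume n ≥ 2, r > 0 and (n - 1) divides r. Then s < 2d² and t < 2d⁴. This is the
statement about the degree data (d, g the degree and genus of the curve, s ≤ t the degrees of the
two surfaces) to which the published proof reduces the degree bound: there the divisibility and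
positivity express that r/(n - 1), the common value of the type numbers of the pair, is a positive
integer; the geometric hypotheses themselves are not part of this row. -/
theorem result (d g s t n : ℤ) (hd : 1 ≤ d) (hg : 0 ≤ g) (hs : 1 ≤ s) (hst : s ≤ t)
    (hn : s * t = d * n) (hn2 : 2 ≤ n)
    (hpos : 0 < d * (n * (s - 4) + t) + (2 - 2 * g) * n)
    (hdvd : (n - 1) ∣ d * (n * (s - 4) + t) + (2 - 2 * g) * n) :
    s < 2 * d ^ 2 ∧ t < 2 * d ^ 4 := by
  obtain ⟨K, hK⟩ : ∃ K, K = d * (s - 4) + (2 - 2 * g) := ⟨_, rfl⟩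
  have hE : d * (n * (s - 4) + t) + (2 - 2 * g) * n = n * K + d * t := by subst hK; ring
  rw [hE] at hpos hdvd
  have hdvd' : (n - 1) ∣ K + d * t := by
    have := dvd_sub hdvd (Dvd.intro K rfl : (n - 1) ∣ (n - 1) * K)
    rwa [show n * K + d * t - (n - 1) * K = K + d * t by ring] at this
  have ht : 1 ≤ t := hs.trans hst
  have hdd : d ≤ d ^ 2 := by nlinarith
  have hKle : K ≤ d * s - 4 * d + 2 := by rw [hK]; linarith
  have hsK : 0 < s * K + d ^ 2 := by
    have h1 : 0 < s * (n * K + d * t) := by positivity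
    have h2 : s * (n * K + d * t) = n * (s * K + d ^ 2) := by linear_combination d * hn
    rw [h2] at h1
    exact pos_of_mul_pos_right h1 (by linarith)
  have hslt : s < 2 * d ^ 2 := by
    by_contra h
    push Not at h
    have hK0 : 0 ≤ K := by
      by_contra hK'
      nlinarith [mul_le_mul_of_nonneg_left (show K ≤ -1 by omega) (show (0:ℤ) ≤ s by linarith)]
    have hpos' : 0 < K + d * t := by nlinarith
    have h1 : n - 1 ≤ K + d * t := Int.le_of_dvd hpos' hdvd'
    have h2 : 2 * (d * t) ≤ n := by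
      refine le_of_mul_le_mul_left ?_ (by linarith : (0:ℤ) < d)
      nlinarith [mul_le_mul_of_nonneg_right h (show (0:ℤ) ≤ t by linarith)]
    have h3 : 2 * (d * s) ≤ n := by
      refine le_of_mul_le_mul_left ?_ (by linarith : (0:ℤ) < d)
      nlinarith [mul_le_mul_of_nonneg_left (h.trans hst) (show (0:ℤ) ≤ s by linarith)]
    linarith
  refine ⟨hslt, ?_⟩
  obtain ⟨m, hm⟩ := hdvd'
  have h1 : (s * m - d ^ 2) * (n - 1) = s * K + d ^ 2 := by linear_combination (-s) * hm + d * hn
  have h2 : 1 ≤ s * m - d ^ 2 := by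
    by_contra h
    nlinarith [mul_le_mul_of_nonneg_right (show s * m - d ^ 2 ≤ 0 by omega) (show (0:ℤ) ≤ n - 1 by linarith)]
  have h3 : n - 1 ≤ s * K + d ^ 2 := by nlinarith
  have h4 : s * t ≤ d ^ 2 * s ^ 2 - (4 * d ^ 2 - 2 * d) * s + d ^ 3 + d := by
    have : s * K ≤ s * (d * s - 4 * d + 2) := mul_le_mul_of_nonneg_left hKle (by linarith)
    nlinarith [mul_le_mul_of_nonneg_left (show n ≤ s * (d * s - 4 * d + 2) + d ^ 2 + 1 by linarith) (show (0:ℤ) ≤ d by linarith)]
  by_contra h
  push Not at h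
  have h5 : 2 * d ^ 4 * s ≤ s * t := by nlinarith [mul_le_mul_of_nonneg_left h (show (0:ℤ) ≤ s by linarith)]
  have hd3 : d ^ 3 ≤ d ^ 4 := pow_le_pow_right₀ hd (by norm_num)
  have hd1 : d ≤ d ^ 3 := le_self_pow₀ hd (by norm_num)
  nlinarith [mul_nonneg (mul_nonneg (sq_nonneg d) (show (0:ℤ) ≤ s - 1 by linarith)) (show (0:ℤ) ≤ 2 * d ^ 2 - 1 - s by omega)]

end Groth.Agent.S18055
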