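import Groth.Statements.S18057
import Groth.Agent.L14.STCI.GenericStalk

set_option autoImplicit false
universe u
open STCI

namespace Groth.Agent.S18057

open AlgebraicGeometry CategoryTheory in
/-- For a morphism f : X' → X between irreducible Noetherian schemes that is flat and formally smooth,
with X defined over a field (rendered: the ring of global sections of X contains a subring that is a
field, which for nonempty X is the same as giving a morphism from X to the spectrum of a field), the
local rings of X' and X at their generic points η', η (Artinian local rings) satisfy length
O_{X',η'} = length O_{X,η}. Formal smoothness is the infinitesimal lifting property against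
square-zero thickenings of affine schemes. -/
theorem result {X' X : Scheme.{u}} (f : X' ⟶ X)
    [IrreducibleSpace ↥X'] [IrreducibleSpace ↥X] [IsNoetherian X'] [IsNoetherian X] [Flat f]
    (hf : MoreMor.IsFormallySmoothHom f) (hK : ∃ K : Subring Γ(X, ⊤), IsField K) :
    Module.length (X'.presheaf.stalk (genericPoint X')) (X'.presheaf.stalk (genericPoint X'))
      = Module.length (X.presheaf.stalk (genericPoint X)) (X.presheaf.stalk (genericPoint X)) :=
  Groth.L14.STCI.length_stalk_eq f hf

end Groth.Agent.S18057
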