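import Groth.Statements.S18064
import Groth.Agent.L19.SpecSub.Props

set_option autoImplicit false
set_option backward.isDefEq.respectTransparency.types false
set_option backward.isDefEq.respectTransparency false
set_option linter.style.haveILetI false
universe u
open CategoryTheory MonoidalCategory CartesianMonoidalCategory MonObj GrpObj AlgebraicGeometry CategoryTheory.Limits
open AlgGrp

namespace Groth.Agent.S18064

/-- Suppose A is a regular local ring, and write K for its field of fractions and k for its residue
field; take G to be a flat A-group scheme of finite presentation and d a natural number. If the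
generic fibre G_K contains a closed subgroup scheme of dimension d, then so does the special fibre
G_k; if G_K contains a normal closed subgroup scheme of dimension d, then so does G_k. -/
theorem result (A : Type u) [CommRing A] [IsDomain A] [IsRegularLocalRing A]
    (K : Type u) [Field K] [Algebra A K] [IsFractionRing A K]
    (G : Over (Spec (CommRingCat.of A))) [GrpObj G] [Flat G.hom] [LocallyOfFinitePresentation G.hom] [QuasiCompact G.hom]
    [QuasiSeparated G.hom] (d : ℕ) :
    ((∃ (H : Over (Spec (CommRingCat.of K))) (_ : GrpObj H) (i : H ⟶ Red.bc (Spec.map (CommRingCat.ofHom (algebraMap A K))) G),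
        IsMonHom i ∧ IsClosedImmersion i.left ∧ topologicalKrullDim ↥H.left = (d : WithBot ℕ∞)) →
      ∃ (H' : Over (Spec (CommRingCat.of (IsLocalRing.ResidueField A)))) (_ : GrpObj H')
        (i' : H' ⟶ Red.bc (Spec.map (CommRingCat.ofHom (algebraMap A (IsLocalRing.ResidueField A)))) G),
        IsMonHom i' ∧ IsClosedImmersion i'.left ∧ topologicalKrullDim ↥H'.left = (d : WithBot ℕ∞)) ∧
    ((∃ (H : Over (Spec (CommRingCat.of K))) (_ : GrpObj H) (i : H ⟶ Red.bc (Spec.map (CommRingCat.ofHom (algebraMap A K))) G),
        IsMonHom i ∧ IsClosedImmersion i.left ∧ AlgGrp.IsNormalHom i ∧ topologicalKrullDim ↥H.left = (d : WithBot ℕ∞)) →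
      ∃ (H' : Over (Spec (CommRingCat.of (IsLocalRing.ResidueField A)))) (_ : GrpObj H')
        (i' : H' ⟶ Red.bc (Spec.map (CommRingCat.ofHom (algebraMap A (IsLocalRing.ResidueField A)))) G),
        IsMonHom i' ∧ IsClosedImmersion i'.left ∧ AlgGrp.IsNormalHom i' ∧ topologicalKrullDim ↥H'.left = (d : WithBot ℕ∞)) := by
  refine ⟨fun ⟨H, inst, i, hi, hc, hd⟩ => ?_, fun ⟨H, inst, i, hi, hc, hn, hd⟩ => ?_⟩
  · obtain ⟨H', inst', i', hi', hc', -, hd'⟩ := Groth.L19.SpecSub.has_special A K G
      Groth.L19.SpecSub.stable_any (Groth.L19.SpecSub.specialises_any G) (d := (d : WithBot ℕ∞))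
      ⟨H, inst, i, hi, hc, trivial, hd⟩
    exact ⟨H', inst', i', hi', hc', hd'⟩
  · obtain ⟨H', inst', i', hi', hc', hn', hd'⟩ := Groth.L19.SpecSub.has_special A K G
      Groth.L19.SpecSub.stable_normal (Groth.L19.SpecSub.specialises_normal G) (d := (d : WithBot ℕ∞))
      ⟨H, inst, i, hi, hc, hn, hd⟩
    exact ⟨H', inst', i', hi', hc', hn', hd'⟩

end Groth.Agent.S18064
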