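import Groth.Statements.S18065
import Groth.Agent.L19.AffSpec.Affine
-- import your own Groth.Agent.* helpers here

set_option autoImplicit false
set_option backward.isDefEq.respectTransparency.types false
set_option linter.style.haveILetI false
universe u
open CategoryTheory MonoidalCategory CartesianMonoidalCategory MonObj GrpObj AlgebraicGeometry CategoryTheory.Limits
open AlgGrp

namespace Groth.Agent.S18065

/-- Suppose A is a discrete valuation ring, and write K for its field of fractions and k for its residue
field; let G be a flat A-group scheme of finite presentation, not assumed separated. If the generic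
fibre G_K is affine, then the special fibre G_k is affine. -/
theorem result (A : Type u) [CommRing A] [IsDomain A] [IsDiscreteValuationRing A]
    (K : Type u) [Field K] [Algebra A K] [IsFractionRing A K]
    (G : Over (Spec (CommRingCat.of A))) [GrpObj G] [Flat G.hom] [LocallyOfFinitePresentation G.hom] [QuasiCompact G.hom]
    [IsAffine (Red.bc (Spec.map (CommRingCat.ofHom (algebraMap A K))) G).left] :
    IsAffine (Red.bc (Spec.map (CommRingCat.ofHom (algebraMap A (IsLocalRing.ResidueField A)))) G).left := by
  let k := IsLocalRing.ResidueField A
  let kb := AlgebraicClosure k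
  let φ : A →+* kb := (algebraMap k kb).comp (algebraMap A k)
  haveI : IsLocallyNoetherian G.left := LocallyOfFiniteType.isLocallyNoetherian G.hom
  haveI : QuasiSeparated G.hom := HasAffineProperty.iff_of_isAffine.2 (inferInstanceAs (QuasiSeparatedSpace G.left))
  let G' := Red.bc (Spec.map (CommRingCat.ofHom φ)) G
  haveI : QuasiCompact G'.hom := MorphismProperty.pullback_snd (P := @QuasiCompact) _ _ inferInstance
  haveI : LocallyOfFiniteType G'.hom := MorphismProperty.pullback_snd (P := @LocallyOfFiniteType) _ _ inferInstance
  have hK : IsAffine (Limits.pullback G.hom (Spec.map (CommRingCat.ofHom (algebraMap A K)))) :=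
    inferInstanceAs (IsAffine (Red.bc (Spec.map (CommRingCat.ofHom (algebraMap A K))) G).left)
  haveI : IsAffine G'.left := Groth.L19.AffSpec.isAffine_of_subgroups G' fun R _ _ _ j _ _ =>
    Groth.L19.AffSpec.isAffine_subgroup_special K φ G hK R j
  haveI : IsAffine (Limits.pullback G.hom (Spec.map (CommRingCat.ofHom φ))) := ‹IsAffine G'.left›
  let g := Spec.map (CommRingCat.ofHom (algebraMap A k))
  haveI : QuasiCompact (Red.bc g G).hom := MorphismProperty.pullback_snd (P := @QuasiCompact) _ _ inferInstance
  haveI : QuasiSeparated (Red.bc g G).hom := MorphismProperty.pullback_snd (P := @QuasiSeparated) _ _ inferInstance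
  haveI : IsAffine (Limits.pullback (Red.bc g G).hom (Spec.map (CommRingCat.ofHom (algebraMap k kb)))) :=
    IsAffine.of_isIso (Limits.pullbackLeftPullbackSndIso G.hom g (Spec.map (CommRingCat.ofHom (algebraMap k kb))) ≪≫
      Limits.pullback.congrHom rfl (show _ = Spec.map (CommRingCat.ofHom φ) by
        simp only [g, φ, CommRingCat.ofHom_comp, Spec.map_comp])).hom
  exact Groth.L19.AffSpec.isAffine_of_bc (algebraMap k kb) (Red.bc g G).hom

end Groth.Agent.S18065
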