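import Groth.Statements.S18068
import Groth.Agent.L08.AffHull.Crit
import Groth.Agent.L08.AffHull.Smooth
import Groth.Agent.L08.NormalQuot.Affine
import Groth.Agent.L25.Component
import Groth.Agent.L26.AV.Hom
import Groth.Agent.L08.Albanese.AbSub
import Groth.Agent.S3280
-- import your own Groth.Agent.* helpers here

set_option autoImplicit false
set_option backward.isDefEq.respectTransparency.types false
set_option linter.style.haveILetI false
universe u
open CategoryTheory MonoidalCategory CartesianMonoidalCategory MonObj GrpObj AlgebraicGeometry CategoryTheory.Limits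
open AlgGrp
open Groth.L08

namespace Groth.Agent.S18068

/-- Let k be a field and f : G → H an isogeny (a surjective homomorphism with finite kernel, i.e.
surjective and finite) of connected commutative algebraic groups over k. Then G is anti-affine (O(G)
= k) if and only if H is anti-affine. -/
theorem result (k : Type u) [Field k]
    (G H : Over (Spec (CommRingCat.of k))) [GrpObj G] [Smooth G.hom] [QuasiCompact G.hom] [ConnectedSpace ↥G.left] [IsCommMonObj G]
    [GrpObj H] [Smooth H.hom] [QuasiCompact H.hom] [ConnectedSpace ↥H.left] [IsCommMonObj H]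
    (f : G ⟶ H) [IsMonHom f] [Surjective f.left] [IsFinite f.left] :
    Function.Bijective ((Scheme.ΓSpecIso (CommRingCat.of k)).inv ≫ G.hom.appTop).hom ↔
      Function.Bijective ((Scheme.ΓSpecIso (CommRingCat.of k)).inv ≫ H.hom.appTop).hom := by
  haveI := Groth.Agent.AV.geometricallyReduced_of_smooth H.hom
  haveI := Groth.Agent.AV.geometricallyReduced_of_smooth G.hom
  haveI : IsReduced H.left := GeometricallyReduced.isReduced_of_flat_of_isLocallyNoetherian H.hom
  haveI : IsReduced G.left := GeometricallyReduced.isReduced_of_flat_of_isLocallyNoetherian G.hom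
  haveI : IsLocallyNoetherian G.left := LocallyOfFiniteType.isLocallyNoetherian G.hom
  haveI : IrreducibleSpace G.left := Groth.L25.Component.irreducibleSpace G
  constructor
  · intro hG
    haveI : IsDominant f.left := ⟨f.left.surjective.denseRange⟩
    haveI : IsSchemeTheoreticallyDominant f.left := IsSchemeTheoreticallyDominant.of_isDominant _
    have hinj : Function.Injective f.left.appTop.hom := f.left.app_injective ⊤
    have e : (Scheme.ΓSpecIso (CommRingCat.of k)).inv ≫ G.hom.appTop =
        ((Scheme.ΓSpecIso (CommRingCat.of k)).inv ≫ H.hom.appTop) ≫ f.left.appTop := by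
      rw [Category.assoc, ← Scheme.Hom.comp_appTop, Over.w f]
    rw [e] at hG
    refine ⟨fun a b h => hG.1 (congrArg f.left.appTop.hom h), fun c => ?_⟩
    obtain ⟨a, ha⟩ := hG.2 (f.left.appTop.hom c)
    exact ⟨a, hinj ha⟩
  intro hH
  haveI := AffHull.compactSpace (G := G)
  haveI := AffHull.quasiSeparatedSpace (G := G)
  obtain ⟨C, gC, c, _, _, -, sqC⟩ := AbelianGrp.exists_kernel (AffHull.rho G)
  haveI : LocallyOfFiniteType C.hom := by rw [← Over.w c]; infer_instance
  haveI : QuasiCompact C.hom := by rw [← Over.w c]; infer_instance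
  have hO := AffHull.isIso_appTop_kernel c sqC
  obtain ⟨D, gD, p, d, _, _, hpd, _, _, _, _⟩ := AbelianGrp.exists_image (c ≫ f)
  obtain ⟨Q₂, gQ₂, π, _, _, _, _, _, _, -, sqQ⟩ := AbelianGrp.exists_quotient d
  obtain ⟨_, _, _, _⟩ := AffHull.hull_props (G := G)
  have hkill : c ≫ f ≫ π = 1 := by
    rw [← Category.assoc, ← hpd, Category.assoc, show d ≫ π = 1 from sqQ.w.trans (Hom.one_def).symm, MonObj.comp_one]
  obtain ⟨ψ, _, hψ, -⟩ := Groth.Agent.S3280.result k G C (AffHull.hull G) Q₂ (AffHull.rho G) c sqC (f ≫ π)
    (by rw [hkill, Hom.one_def])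
  haveI : Surjective ψ.left := by
    haveI : Surjective ((AffHull.rho G).left ≫ ψ.left) := by
      rw [← Over.comp_left, hψ, Over.comp_left]; infer_instance
    exact Surjective.of_comp (AffHull.rho G).left ψ.left
  haveI : IsAffine Q₂.left := NormalQuot.isAffine_of_surjective_hom ψ
  haveI : Epi π.left := inferInstance
  haveI := AffHull.isIso_appTop_of_cover π η[Q₂] ((AffHull.bijective_iff_isIso H).1 hH)
  haveI : IsIso Q₂.hom := by
    have e : Q₂.hom = Q₂.left.isoSpec.hom ≫ Spec.map Q₂.hom.appTop ≫ (Spec (CommRingCat.of k)).isoSpec.inv := by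
      rw [Scheme.isoSpec_hom_naturality_assoc, Iso.hom_inv_id, Category.comp_id]
    rw [e]
    infer_instance
  obtain ⟨t, ht, -⟩ := sqQ.exists_lift (𝟙 H) (toUnit H) (by
    refine Over.OverMorphism.ext ?_
    rw [← cancel_mono Q₂.hom, Over.w, Over.w])
  let η₀ := genericPoint G.left
  obtain ⟨x, hx⟩ := p.left.surjective (t.left (f.left η₀))
  have h1 : f.left (c.left x) = f.left η₀ := by
    show (c ≫ f).left x = _
    rw [← hpd]
    show d.left (p.left x) = _
    rw [hx]
    exact congr(($ht).left (f.left η₀))
  have h2 : c.left x = η₀ := by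
    haveI : DiscreteTopology (f.left ⁻¹' {f.left η₀}) := f.left.isDiscrete_preimage_singleton _ |>.to_subtype
    have hs : (⟨η₀, rfl⟩ : f.left ⁻¹' {f.left η₀}) ⤳ ⟨c.left x, h1⟩ :=
      (subtype_specializes_iff _ _).2 (genericPoint_specializes _)
    exact congrArg Subtype.val hs.eq.symm
  haveI : Surjective c.left := ⟨fun g => by
    have : g ∈ closure (Set.range c.left) := by
      have h3 : closure {η₀} ⊆ closure (Set.range c.left) := closure_mono (Set.singleton_subset_iff.2 ⟨x, h2⟩)
      exact h3 ((genericPoint_specializes g).mem_closed isClosed_closure (subset_closure rfl))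
    rwa [c.left.isClosedEmbedding.isClosed_range.closure_eq] at this⟩
  haveI : IsIso c.left := by
    haveI : IsDominant c.left := ⟨c.left.surjective.denseRange⟩
    haveI : IsSchemeTheoreticallyDominant c.left := IsSchemeTheoreticallyDominant.of_isDominant _
    exact IsClosedImmersion.isIso_iff_ker_eq_bot.2 c.left.ker_eq_bot
  refine (AffHull.bijective_iff_isIso G).2 ?_
  have e : C.hom.appTop = G.hom.appTop ≫ c.left.appTop := by rw [← Scheme.Hom.comp_appTop, Over.w c]
  rw [e] at hO
  haveI : IsIso c.left.appTop := inferInstanceAs (IsIso (c.left.app ⊤))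
  exact IsIso.of_isIso_comp_right G.hom.appTop c.left.appTop

end Groth.Agent.S18068
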