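import Groth.Statements.S18069
import Groth.Agent.L08.AffHull.Crit
-- import your own Groth.Agent.* helpers here

set_option autoImplicit false
universe u
open CategoryTheory MonoidalCategory CartesianMonoidalCategory MonObj GrpObj AlgebraicGeometry CategoryTheory.Limits
open AlgGrp

namespace Groth.Agent.S18069

/-- Let k be a field and G₁, G₂ connected k-group schemes of finite type. Then G₁ × G₂ is anti-affine,
i.e. O(G₁ × G₂) = k, if and only if G₁ and G₂ are both anti-affine. -/
theorem result (k : Type u) [Field k]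
    (G₁ G₂ : Over (Spec (CommRingCat.of k))) [GrpObj G₁] [LocallyOfFiniteType G₁.hom] [QuasiCompact G₁.hom] [ConnectedSpace ↥G₁.left]
    [GrpObj G₂] [LocallyOfFiniteType G₂.hom] [QuasiCompact G₂.hom] [ConnectedSpace ↥G₂.left] :
    Function.Bijective ((Scheme.ΓSpecIso (CommRingCat.of k)).inv ≫ (G₁ ⊗ G₂).hom.appTop).hom ↔
      Function.Bijective ((Scheme.ΓSpecIso (CommRingCat.of k)).inv ≫ G₁.hom.appTop).hom ∧ Function.Bijective ((Scheme.ΓSpecIso (CommRingCat.of k)).inv ≫ G₂.hom.appTop).hom := by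
  haveI := Groth.L08.AffHull.compactSpace (G := G₁)
  haveI := Groth.L08.AffHull.quasiSeparatedSpace (G := G₁)
  haveI := Groth.L08.AffHull.compactSpace (G := G₂)
  haveI := Groth.L08.AffHull.quasiSeparatedSpace (G := G₂)
  haveI : LocallyOfFiniteType (G₁ ⊗ G₂).hom :=
    inferInstanceAs (LocallyOfFiniteType (Limits.pullback.fst G₁.hom G₂.hom ≫ G₁.hom))
  haveI : QuasiCompact (G₁ ⊗ G₂).hom :=
    inferInstanceAs (QuasiCompact (Limits.pullback.fst G₁.hom G₂.hom ≫ G₁.hom))
  haveI := Groth.L08.AffHull.compactSpace (G := G₁ ⊗ G₂)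
  haveI := Groth.L08.AffHull.quasiSeparatedSpace (G := G₁ ⊗ G₂)
  let i₁ : G₁ ⟶ G₁ ⊗ G₂ := CartesianMonoidalCategory.lift (𝟙 G₁) 1
  let i₂ : G₂ ⟶ G₁ ⊗ G₂ := CartesianMonoidalCategory.lift 1 (𝟙 G₂)
  rw [Groth.L08.AffHull.bijective_iff_isIso G₁, Groth.L08.AffHull.bijective_iff_isIso G₂, Groth.L08.AffHull.bijective_iff_isIso (G₁ ⊗ G₂)]
  refine ⟨fun h => ⟨Groth.L08.AffHull.isIso_appTop_of_rho_eq_one ?_,
    Groth.L08.AffHull.isIso_appTop_of_rho_eq_one ?_⟩, fun ⟨h1, h2⟩ =>
    Groth.L08.AffHull.isIso_appTop_of_rho_eq_one ?_⟩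
  · have e := congrArg (i₁ ≫ ·) (Groth.L08.AffHull.hom_eq_one h (fst G₁ G₂ ≫ Groth.L08.AffHull.rho G₁))
    simpa only [i₁, lift_fst_assoc, Category.id_comp, MonObj.comp_one] using e
  · have e := congrArg (i₂ ≫ ·) (Groth.L08.AffHull.hom_eq_one h (snd G₁ G₂ ≫ Groth.L08.AffHull.rho G₂))
    simpa only [i₂, lift_snd_assoc, Category.id_comp, MonObj.comp_one] using e
  · haveI : IsMonHom i₁ := by
      constructor
      · refine CartesianMonoidalCategory.hom_ext _ _ ?_ ?_
        · rw [Category.assoc, lift_fst, Category.comp_id, IsMonHom.one_hom]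
        · rw [Category.assoc, lift_snd, MonObj.comp_one, IsMonHom.one_hom, Hom.one_def,
            toUnit_unique (toUnit _) (𝟙 _), Category.id_comp]
      · refine CartesianMonoidalCategory.hom_ext _ _ ?_ ?_
        · rw [Category.assoc, lift_fst, Category.comp_id, Category.assoc, IsMonHom.mul_hom,
            tensorHom_comp_tensorHom_assoc, lift_fst, id_tensorHom_id, Category.id_comp]
        · rw [Category.assoc, lift_snd, MonObj.comp_one, Category.assoc, IsMonHom.mul_hom,
            tensorHom_comp_tensorHom_assoc, lift_snd]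
          rw [← Category.id_comp (((1 : _ ⟶ G₂) ⊗ₘ 1) ≫ _), ← lift_fst_snd, lift_map_assoc, ← Hom.mul_def,
            MonObj.comp_one, MonObj.comp_one, _root_.mul_one]
    haveI : IsMonHom i₂ := by
      constructor
      · refine CartesianMonoidalCategory.hom_ext _ _ ?_ ?_
        · rw [Category.assoc, lift_fst, MonObj.comp_one, IsMonHom.one_hom, Hom.one_def,
            toUnit_unique (toUnit _) (𝟙 _), Category.id_comp]
        · rw [Category.assoc, lift_snd, Category.comp_id, IsMonHom.one_hom]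
      · refine CartesianMonoidalCategory.hom_ext _ _ ?_ ?_
        · rw [Category.assoc, lift_fst, MonObj.comp_one, Category.assoc, IsMonHom.mul_hom,
            tensorHom_comp_tensorHom_assoc, lift_fst]
          rw [← Category.id_comp (((1 : _ ⟶ G₁) ⊗ₘ 1) ≫ _), ← lift_fst_snd, lift_map_assoc, ← Hom.mul_def,
            MonObj.comp_one, MonObj.comp_one, _root_.mul_one]
        · rw [Category.assoc, lift_snd, Category.comp_id, Category.assoc, IsMonHom.mul_hom,
            tensorHom_comp_tensorHom_assoc, lift_snd, id_tensorHom_id, Category.id_comp]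
    have e : (fst G₁ G₂ ≫ i₁) * (snd G₁ G₂ ≫ i₂) = 𝟙 (G₁ ⊗ G₂) := by
      refine CartesianMonoidalCategory.hom_ext _ _ ?_ ?_
      · rw [MonObj.mul_comp, Category.assoc, Category.assoc, lift_fst, lift_fst, MonObj.comp_one,
          _root_.mul_one, Category.comp_id, Category.id_comp]
      · rw [MonObj.mul_comp, Category.assoc, Category.assoc, lift_snd, lift_snd, MonObj.comp_one,
          _root_.one_mul, Category.comp_id, Category.id_comp]
    rw [← Category.id_comp (Groth.L08.AffHull.rho (G₁ ⊗ G₂)), ← e, MonObj.mul_comp, Category.assoc, Category.assoc,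
      Groth.L08.AffHull.hom_eq_one h1 (i₁ ≫ _), Groth.L08.AffHull.hom_eq_one h2 (i₂ ≫ _), MonObj.comp_one,
      MonObj.comp_one, _root_.one_mul]

end Groth.Agent.S18069
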