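import Groth.Statements.S18070
import Groth.Agent.L08.AffHull.Crit
-- import your own Groth.Agent.* helpers here

set_option autoImplicit false
universe u
open CategoryTheory MonoidalCategory CartesianMonoidalCategory MonObj GrpObj AlgebraicGeometry CategoryTheory.Limits
open AlgGrp

namespace Groth.Agent.S18070

/-- Let k be a field and 1 → G₁ → G → G₂ → 1 an exact sequence of k-group schemes of finite type with
G₁, G₂ connected (i : G₁ → G a homomorphism and closed immersion which is the kernel of the flat
surjective homomorphism q : G → G₂). Anti-affineness passes from G to the quotient G₂; in the other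
direction, G is anti-affine whenever G₁ and G₂ both are. -/
theorem result (k : Type u) [Field k]
    (G₁ G G₂ : Over (Spec (CommRingCat.of k))) [GrpObj G₁] [LocallyOfFiniteType G₁.hom] [QuasiCompact G₁.hom] [ConnectedSpace ↥G₁.left]
    [GrpObj G] [LocallyOfFiniteType G.hom] [QuasiCompact G.hom]
    [GrpObj G₂] [LocallyOfFiniteType G₂.hom] [QuasiCompact G₂.hom] [ConnectedSpace ↥G₂.left]
    (i : G₁ ⟶ G) [IsMonHom i] [IsClosedImmersion i.left] (q : G ⟶ G₂) [IsMonHom q] [Surjective q.left] [Flat q.left]
    (hex : AlgGrp.IsKernel i q) :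
    (Function.Bijective ((Scheme.ΓSpecIso (CommRingCat.of k)).inv ≫ G.hom.appTop).hom → Function.Bijective ((Scheme.ΓSpecIso (CommRingCat.of k)).inv ≫ G₂.hom.appTop).hom) ∧
    (Function.Bijective ((Scheme.ΓSpecIso (CommRingCat.of k)).inv ≫ G₁.hom.appTop).hom → Function.Bijective ((Scheme.ΓSpecIso (CommRingCat.of k)).inv ≫ G₂.hom.appTop).hom → Function.Bijective ((Scheme.ΓSpecIso (CommRingCat.of k)).inv ≫ G.hom.appTop).hom) := by
  haveI := Groth.L08.AffHull.compactSpace (G := G)
  haveI := Groth.L08.AffHull.quasiSeparatedSpace (G := G)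
  haveI := Groth.L08.AffHull.compactSpace (G := G₂)
  haveI := Groth.L08.AffHull.quasiSeparatedSpace (G := G₂)
  haveI : LocallyOfFinitePresentation q.left := by
    haveI : IsLocallyNoetherian G₂.left := LocallyOfFiniteType.isLocallyNoetherian G₂.hom
    haveI : LocallyOfFiniteType (q.left ≫ G₂.hom) := by rw [Over.w q]; infer_instance
    haveI : LocallyOfFiniteType q.left := locallyOfFiniteType_of_comp q.left G₂.hom
    exact LocallyOfFinitePresentation.iff_locallyOfFiniteType.2 inferInstance
  haveI : Epi q := Groth.L08.GQuot.epi_of_cover q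
  rw [Groth.L08.AffHull.bijective_iff_isIso G, Groth.L08.AffHull.bijective_iff_isIso G₁, Groth.L08.AffHull.bijective_iff_isIso G₂]
  refine ⟨fun h => Groth.L08.AffHull.isIso_appTop_of_rho_eq_one ?_, fun h1 h2 =>
    Groth.L08.AffHull.isIso_appTop_of_rho_eq_one ?_⟩
  · rw [← cancel_epi q, MonObj.comp_one]
    exact Groth.L08.AffHull.hom_eq_one h _
  · obtain ⟨hl, -, -, -⟩ := Groth.L08.AffHull.hull_props (G := G)
    haveI : QuasiCompact (Groth.L08.AffHull.hull G).hom := inferInstance
    obtain ⟨φ, _, hφ, -⟩ := Groth.Agent.S3280.result k G G₁ G₂ _ q i hex (Groth.L08.AffHull.rho G)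
      ((Groth.L08.AffHull.hom_eq_one h1 _).trans Hom.one_def)
    rw [← hφ, Groth.L08.AffHull.hom_eq_one h2 φ, MonObj.comp_one]

end Groth.Agent.S18070
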