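import Groth.Statements.S18071
import Groth.Agent.L24.TorusField.Dim

set_option autoImplicit false
set_option backward.isDefEq.respectTransparency.types false
universe u
open CategoryTheory MonoidalCategory CartesianMonoidalCategory MonObj GrpObj AlgebraicGeometry CategoryTheory.Limits
open AlgGrp

namespace Groth.Agent.S18071

/-- Let F be a field with algebraic closure F̄ and M an affine smooth connected F-group. Then all F-tori
of M are trivial if and only if all F̄-tori of M_{F̄} are trivial; for such M this condition is
equivalent to M being unipotent. -/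
theorem result (F : Type u) [Field F]
    (M : Over (Spec (CommRingCat.of F))) [GrpObj M] [Smooth M.hom] [QuasiCompact M.hom] [IsAffine M.left] [ConnectedSpace ↥M.left] :
    Red.HasNoSubtorus F M ↔ Red.HasNoSubtorus (AlgebraicClosure F) (Red.bc (Spec.map (CommRingCat.ofHom (algebraMap F (AlgebraicClosure F)))) M) := by
  have triv : ∀ {K : Type u} [Field K] (R T : Over (Spec (CommRingCat.of K))) [GrpObj R] [GrpObj T] (w : R ⟶ T),
      Mono w → Red.IsTrivialGrp T → Red.IsTrivialGrp R := by
    intro K _ R T _ _ w hw hT
    haveI := hw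
    haveI : IsIso T.hom := hT
    have hid : 𝟙 R = toUnit R ≫ η[R] := by
      rw [← cancel_mono w]
      exact Over.OverMorphism.ext (by rw [← cancel_mono T.hom, Over.w, Over.w])
    refine ⟨η[R].left, ?_, Over.w η[R]⟩
    have h := congrArg (fun m => m.left) hid
    simp only [Over.comp_left, Over.id_left] at h
    rw [h]
    congr 1
  let θ := Spec.map (CommRingCat.ofHom (algebraMap F (AlgebraicClosure F)))
  constructor
  · intro h
    obtain ⟨T, gT, i, hi⟩ := Groth.L24.TorusField.exists_maximalTorus_affine M
    haveI := hi.1; haveI := hi.2.1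
    haveI : IsIso T.hom := h T i hi.2.2.1
    have hiL := Groth.L08.Borel.isMaximalTorus_bc hi θ
    haveI : IsAffineHom M.hom := inferInstance
    haveI : IsAffineHom (Red.bc θ M).hom := inferInstanceAs (IsAffineHom (Limits.pullback.snd M.hom θ))
    haveI : IsAffine (Red.bc θ M).left := isAffine_of_isAffineHom (Red.bc θ M).hom
    haveI : Smooth (Red.bc θ M).hom := inferInstanceAs (Smooth (Limits.pullback.snd M.hom θ))
    haveI : ConnectedSpace (Red.bc θ M).left := by
      have hh := Groth.L25.Extension.isConnected_fibre_bc θ M Groth.L24.TorusField.isConnected_fibre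
        (IsLocalRing.closedPoint (AlgebraicClosure F))
      rw [connectedSpace_iff_univ]
      refine (congrArg _root_.IsConnected ?_).mp hh
      exact Set.eq_univ_of_forall fun x => Subsingleton.elim (α := PrimeSpectrum (AlgebraicClosure F)) _ _
    have htrivL : Red.IsTrivialGrp (Red.bc θ T) := inferInstanceAs (IsIso (Limits.pullback.snd T.hom θ))
    intro R _ j _ _ hR
    obtain ⟨T₂, g₂, i₂, w, h₂, hw⟩ := Groth.L24.TorusField.exists_maximalTorus_containing j hR
    haveI : Mono w := mono_of_mono_fac hw
    refine triv R T₂ w inferInstance ?_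
    obtain ⟨-, f, -⟩ := Groth.L08.Borel.exists_maxTorus_conj (Groth.L08.Borel.isMaxTorus_of_isMaximalTorus h₂)
      (Groth.L08.Borel.isMaxTorus_of_isMaximalTorus hiL)
    exact triv T₂ (Red.bc θ T) f.hom inferInstance htrivL
  · intro h T _ j _ _ hT
    haveI : IsMonHom ((Over.pullback θ).map j) := Groth.L25.MonoClosed.isMonHom_pullbackMap _ _
    haveI : Mono ((Over.pullback θ).map j) := Functor.map_mono _ _
    have htriv : IsIso (Limits.pullback.snd T.hom θ) :=
      h (Red.bc θ T) ((Over.pullback θ).map j) (Groth.L25.Locus.isTorus_bc hT θ)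
    obtain ⟨hs, hfl, hq⟩ := Groth.L08.Borel.bc_props_field θ
    show (MorphismProperty.isomorphisms Scheme.{u}) T.hom
    exact MorphismProperty.of_isPullback_of_descendsAlong (Q := @Surjective ⊓ @Flat ⊓ @QuasiCompact)
      (IsPullback.of_hasPullback T.hom θ).flip ⟨⟨hs, hfl⟩, hq⟩ htriv

end Groth.Agent.S18071
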