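import Groth.Statements.S18074
import Groth.Agent.L08.AffHull.Crit
-- import your own Groth.Agent.* helpers here

set_option autoImplicit false
universe u
open CategoryTheory MonoidalCategory CartesianMonoidalCategory MonObj GrpObj AlgebraicGeometry CategoryTheory.Limits
open AlgGrp

namespace Groth.Agent.S18074

/-- Let k be a field and G a non-trivial k-group scheme of finite type. Then G is non-affine with every
closed subgroup scheme H ≠ G affine if and only if G is anti-affine and every anti-affine closed
subgroup scheme H ≠ G of G is trivial. -/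
theorem result (k : Type u) [Field k]
    (G : Over (Spec (CommRingCat.of k))) [GrpObj G] [LocallyOfFiniteType G.hom] [QuasiCompact G.hom] (hG : ¬ Red.IsTrivialGrp G) :
    (¬ IsAffine G.left ∧ ∀ (H : Over (Spec (CommRingCat.of k))) [GrpObj H] (h : H ⟶ G) [IsMonHom h] [IsClosedImmersion h.left], ¬ IsIso h → IsAffine H.left) ↔
    (Function.Bijective ((Scheme.ΓSpecIso (CommRingCat.of k)).inv ≫ G.hom.appTop).hom ∧ ∀ (H : Over (Spec (CommRingCat.of k))) [GrpObj H] (h : H ⟶ G) [IsMonHom h] [IsClosedImmersion h.left], ¬ IsIso h → Function.Bijective ((Scheme.ΓSpecIso (CommRingCat.of k)).inv ≫ H.hom.appTop).hom → Red.IsTrivialGrp H) := by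
  haveI := Groth.L08.AffHull.compactSpace (G := G)
  haveI := Groth.L08.AffHull.quasiSeparatedSpace (G := G)
  have key : ∀ (X : Over (Spec (CommRingCat.of k))) [GrpObj X] [LocallyOfFiniteType X.hom] [QuasiCompact X.hom],
      IsIso X.hom.appTop → IsAffine X.left → Red.IsTrivialGrp X := by
    intro X _ _ _ hO hA
    haveI := hO
    haveI := hA
    have e : X.hom = X.left.toSpecΓ ≫ Spec.map X.hom.appTop ≫ (Spec (CommRingCat.of k)).isoSpec.inv := by
      rw [← Scheme.toSpecΓ_naturality_assoc]
      simp [Scheme.isoSpec]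
    show IsIso X.hom
    rw [e]
    infer_instance
  refine ⟨fun ⟨hna, hsub⟩ => ?_, fun ⟨hO, hsub⟩ =>
    ⟨fun hA => hG (key G ((Groth.L08.AffHull.bijective_iff_isIso G).1 hO) hA), fun H _ h _ _ hne => ?_⟩⟩
  · refine ⟨(Groth.L08.AffHull.bijective_iff_isIso G).2 ?_, fun H _ h _ _ hne hO => ?_⟩
    · obtain ⟨K, gK, i, _, _, hK, himp⟩ := Groth.L08.AffHull.exists_antiAffinePart G
      haveI : LocallyOfFiniteType K.hom := by rw [← Over.w i]; infer_instance
      haveI : QuasiCompact K.hom := by rw [← Over.w i]; infer_instance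
      by_cases hi : IsIso i
      · haveI : IsIso i.left := inferInstanceAs (IsIso ((Over.forget _).map i))
        haveI := hK
        rw [show G.hom = CategoryTheory.inv i.left ≫ K.hom by rw [IsIso.eq_inv_comp, Over.w i], Scheme.Hom.comp_appTop]
        haveI : IsIso (CategoryTheory.inv i.left).appTop :=
          inferInstanceAs (IsIso ((CategoryTheory.inv i.left).app ⊤))
        infer_instance
      · exact absurd (himp (key K hK (hsub K i hi))) hna
    · haveI : LocallyOfFiniteType H.hom := by rw [← Over.w h]; infer_instance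
      haveI : QuasiCompact H.hom := by rw [← Over.w h]; infer_instance
      exact key H ((Groth.L08.AffHull.bijective_iff_isIso H).1 hO) (hsub H h hne)
  · haveI : LocallyOfFiniteType H.hom := by rw [← Over.w h]; infer_instance
    haveI : QuasiCompact H.hom := by rw [← Over.w h]; infer_instance
    obtain ⟨K, gK, i, _, _, hK, himp⟩ := Groth.L08.AffHull.exists_antiAffinePart H
    haveI : IsClosedImmersion (i ≫ h).left := inferInstanceAs (IsClosedImmersion (i.left ≫ h.left))
    refine himp (hsub K (i ≫ h) (fun hiso => hne ?_) ((Groth.L08.AffHull.bijective_iff_isIso K).2 hK))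
    haveI := hiso
    haveI : IsClosedImmersion h.left := ‹_›
    haveI : Mono h := Over.mono_of_mono_left h
    haveI : IsSplitEpi h := ⟨⟨⟨CategoryTheory.inv (i ≫ h) ≫ i, by rw [Category.assoc, IsIso.inv_hom_id]⟩⟩⟩
    exact isIso_of_mono_of_isSplitEpi h

end Groth.Agent.S18074
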