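import Groth.Statements.S18075
import Groth.Agent.L08.AffHull.Crit
import Groth.Agent.L08.AffHull.Smooth
import Groth.Agent.L08.NormalQuot.Affine
import Groth.Agent.L25.SplitSub.Rank
import Groth.Agent.L26.AV.Hom
import Groth.Agent.L08.Albanese.AbSub
import Groth.Agent.L08.SubgroupObj
import Groth.Agent.L16.SecComp.Smooth
import Groth.Agent.S3293
import Groth.Agent.S3280
-- import your own Groth.Agent.* helpers here

set_option autoImplicit false
set_option backward.isDefEq.respectTransparency.types false
set_option linter.style.haveILetI false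
universe u
open CategoryTheory MonoidalCategory CartesianMonoidalCategory MonObj GrpObj AlgebraicGeometry CategoryTheory.Limits
open AlgGrp

namespace Groth.Agent.S18075

open Groth.L08

/-- An anti-affine affine scheme over `k` is a point. -/
theorem trivial_of_affine {k : Type u} [Field k] (X : Over (Spec (CommRingCat.of k))) [GrpObj X]
    (hO : IsIso X.hom.appTop) (hA : IsAffine X.left) : Red.IsTrivialGrp X := by
  haveI := hO
  haveI := hA
  have e : X.hom = X.left.toSpecΓ ≫ Spec.map X.hom.appTop ≫ (Spec (CommRingCat.of k)).isoSpec.inv := by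
    rw [← Scheme.toSpecΓ_naturality_assoc]
    simp [Scheme.isoSpec]
  show IsIso X.hom
  rw [e]
  infer_instance

/-- Maps into a point are trivial. -/
theorem eq_one_of_trivial {k : Type u} [Field k] {Y X : Over (Spec (CommRingCat.of k))} [GrpObj X]
    (h : Red.IsTrivialGrp X) (f : Y ⟶ X) : f = 1 :=
  Over.OverMorphism.ext (by haveI : IsIso X.hom := h; rw [← cancel_mono X.hom, Over.w, Over.w])

/-- Let k be a field and G a non-trivial anti-affine k-group scheme of finite type, and let i : N → G be
a connected affine closed subgroup scheme which is the kernel of a flat surjective homomorphism q :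
G → A onto an abelian variety A (for instance N = G_aff and A = G/G_aff, but any such N is allowed).
Then G has no anti-affine closed subgroup scheme other than G and the trivial group if and only if
the abelian variety A is simple (every smooth connected closed subgroup scheme of A is trivial or
equal to A). -/
theorem result (k : Type u) [Field k]
    (G : Over (Spec (CommRingCat.of k))) [GrpObj G] [LocallyOfFiniteType G.hom] [QuasiCompact G.hom] (hG : ¬ Red.IsTrivialGrp G)
    (hGa : Function.Bijective ((Scheme.ΓSpecIso (CommRingCat.of k)).inv ≫ G.hom.appTop).hom)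
    (N A : Over (Spec (CommRingCat.of k))) [GrpObj N] [GrpObj A] (i : N ⟶ G) [IsMonHom i] [IsClosedImmersion i.left]
    [IsAffine N.left] [ConnectedSpace ↥N.left]
    (q : G ⟶ A) [IsMonHom q] [Surjective q.left] [Flat q.left] [IsProper A.hom] [Smooth A.hom] [ConnectedSpace ↥A.left]
    (hq : AlgGrp.IsKernel i q) :
    (∀ (H : Over (Spec (CommRingCat.of k))) [GrpObj H] (h : H ⟶ G) [IsMonHom h] [IsClosedImmersion h.left], ¬ IsIso h → Function.Bijective ((Scheme.ΓSpecIso (CommRingCat.of k)).inv ≫ H.hom.appTop).hom → Red.IsTrivialGrp H) ↔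
    (∀ (B : Over (Spec (CommRingCat.of k))) [GrpObj B] (b : B ⟶ A) [IsMonHom b] [IsClosedImmersion b.left], Smooth B.hom → ConnectedSpace ↥B.left → IsIso b ∨ Red.IsTrivialGrp B) := by
  haveI : IsCommMonObj G := (Groth.Agent.S3293.result k G hGa).2
  have hO : IsIso G.hom.appTop := (AffHull.bijective_iff_isIso G).1 hGa
  haveI : LocallyOfFiniteType A.hom := inferInstance
  refine ⟨fun hmin B _ b _ _ hBs hBc => ?_, fun hsimple H _ h _ _ hne hH => ?_⟩
  · haveI := hBs
    haveI := hBc
    haveI : Mono b := Over.mono_of_mono_left b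
    haveI : IsProper B.hom := by rw [← Over.w b]; infer_instance
    have hBO : IsIso B.hom.appTop := by
      haveI : GeometricallyReduced B.hom := Groth.L16.SecComp.geometricallyReduced_of_smooth B.hom
      haveI : GeometricallyIntegral B.hom := Groth.Agent.AV.geometricallyIntegral_of_connected B
      exact Groth.L08.Albanese.isIso_appTop_of_proper B.hom
    obtain ⟨P, h, f, gP, _, _, _, hsq, _⟩ : ∃ (P : Over (Spec (CommRingCat.of k))) (h : P ⟶ G) (f : P ⟶ B) (_ : GrpObj P),
        IsMonHom h ∧ IsMonHom f ∧ IsClosedImmersion h.left ∧ h ≫ q = f ≫ b ∧ Surjective f.left := by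
      let P := CategoryTheory.Limits.pullback q b
      let h : P ⟶ G := CategoryTheory.Limits.pullback.fst q b
      let f : P ⟶ B := CategoryTheory.Limits.pullback.snd q b
      have sq := IsPullback.of_hasPullback q b
      haveI : Mono h := inferInstance
      haveI : IsClosedImmersion h.left := MorphismProperty.of_isPullback (P := @IsClosedImmersion)
        (sq.map (Over.forget _)).flip ‹IsClosedImmersion b.left›
      haveI : Surjective f.left := MorphismProperty.of_isPullback (P := @Surjective)
        (sq.map (Over.forget _)) ‹Surjective q.left›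
      obtain ⟨e, he⟩ : ∃ e : 𝟙_ _ ⟶ P, e ≫ h = η[G] :=
        ⟨sq.lift η[G] η[B] (by rw [IsMonHom.one_hom, IsMonHom.one_hom]), sq.lift_fst _ _ _⟩
      obtain ⟨gP, hh⟩ := Groth.L08.exists_grpObj_of_mono h ⟨e, he⟩
        ⟨sq.lift ((fst P P ≫ h) * (snd P P ≫ h)) ((fst P P ≫ f) * (snd P P ≫ f)) (by
          rw [MonObj.mul_comp, MonObj.mul_comp, Category.assoc, Category.assoc, Category.assoc, Category.assoc,
            show h ≫ q = f ≫ b from sq.w]), sq.lift_fst _ _ _⟩
        ⟨sq.lift h⁻¹ f⁻¹ (by rw [GrpObj.inv_comp, GrpObj.inv_comp, show h ≫ q = f ≫ b from sq.w]), sq.lift_fst _ _ _⟩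
      haveI : IsMonHom h := hh
      exact ⟨P, h, f, gP, inferInstance, Groth.L25.SplitSub.isMonHom_of_comp_mono f b
        (by rw [show f ≫ b = h ≫ q from sq.w.symm]; infer_instance), inferInstance, sq.w, inferInstance⟩
    haveI : LocallyOfFiniteType P.hom := by rw [← Over.w h]; infer_instance
    haveI : QuasiCompact P.hom := by rw [← Over.w h]; infer_instance
    obtain ⟨C, gC, c, _, _, hC, himp⟩ := AffHull.exists_antiAffinePart P
    haveI : IsClosedImmersion (c ≫ h).left := inferInstanceAs (IsClosedImmersion (c.left ≫ h.left))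
    by_cases hi : IsIso (c ≫ h)
    · left
      haveI := hi
      haveI : IsSplitEpi h := ⟨⟨⟨CategoryTheory.inv (c ≫ h) ≫ c, by rw [Category.assoc, IsIso.inv_hom_id]⟩⟩⟩
      haveI : Mono h := Over.mono_of_mono_left h
      haveI : IsIso h := isIso_of_mono_of_isSplitEpi h
      haveI : Surjective b.left := by
        haveI : IsIso h.left := inferInstanceAs (IsIso ((Over.forget _).map h))
        haveI : Surjective (f.left ≫ b.left) := by
          rw [← Over.comp_left, ← hsq, Over.comp_left]; infer_instance
        exact Surjective.of_comp f.left b.left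
      haveI : IsReduced A.left := Groth.L16.SecComp.isReduced_of_smooth A.hom
      haveI : IsIso b.left := isIso_of_isClosedImmersion_of_surjective b.left
      haveI : IsIso ((Over.forget _).map b) :=
        inferInstanceAs (IsIso b.left)
      exact isIso_of_reflects_iso b (Over.forget _)
    · right
      haveI : LocallyOfFiniteType C.hom := by rw [← Over.w c]; infer_instance
      haveI : QuasiCompact C.hom := by rw [← Over.w c]; infer_instance
      have hCt := hmin C (c ≫ h) hi ((AffHull.bijective_iff_isIso C).2 hC)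
      haveI := himp hCt
      haveI := NormalQuot.isAffine_of_surjective_hom f
      exact trivial_of_affine B hBO ‹_›
  · haveI : LocallyOfFiniteType H.hom := by rw [← Over.w h]; infer_instance
    haveI : QuasiCompact H.hom := by rw [← Over.w h]; infer_instance
    have hHO : IsIso H.hom.appTop := (AffHull.bijective_iff_isIso H).1 hH
    obtain ⟨D, gD, p, d, _, _, hpd, _, _, _, _⟩ := AbelianGrp.exists_image (h ≫ q)
    haveI : LocallyOfFiniteType D.hom := by rw [← Over.w d]; infer_instance
    haveI : QuasiCompact D.hom := by rw [← Over.w d]; infer_instance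
    haveI : Epi p.left := inferInstance
    haveI : Epi p := Over.epi_of_epi_left p
    have hDO := AffHull.isIso_appTop_of_cover p η[D] hHO
    have hDs := AffHull.smooth_of_antiAffine D hDO
    have hDc := AffHull.connectedSpace_of_antiAffine D hDO
    rcases hsimple D d hDs hDc with hd | hd
    · exfalso
      haveI := hd
      obtain ⟨Q, gQ, π, _, _, _, _, _, _, _, hπ⟩ := AbelianGrp.exists_quotient h
      haveI : Epi π.left := inferInstance
      haveI : Epi π := Over.epi_of_epi_left π
      have hQO := AffHull.isIso_appTop_of_cover π η[Q] hO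
      haveI : LocallyOfFiniteType N.hom := by rw [← Over.w i]; infer_instance
      haveI : QuasiCompact N.hom := by rw [← Over.w i]; infer_instance
      obtain ⟨C, gC, p₂, d₂, _, _, hpd₂, _, _, _, _⟩ := AbelianGrp.exists_image (i ≫ π)
      haveI : LocallyOfFiniteType C.hom := by rw [← Over.w d₂]; infer_instance
      obtain ⟨Q₃, gQ₃, π₃, _, _, _, _, _, _, _, hπ₃⟩ := AbelianGrp.exists_quotient d₂
      have hd₂ : d₂ ≫ π₃ = 1 := hπ₃.w.trans (Hom.one_def).symm
      have hh : h ≫ π = 1 := hπ.w.trans (Hom.one_def).symm
      obtain ⟨χ, _, hχ, -⟩ := Groth.Agent.S3280.result k G N A Q₃ q i hq (π ≫ π₃) (by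
        rw [← Hom.one_def, ← Category.assoc, ← hpd₂, Category.assoc, hd₂, MonObj.comp_one])
      have h1 : (h ≫ q) ≫ χ = (h ≫ q) ≫ 1 := by
        rw [MonObj.comp_one, Category.assoc, hχ, ← Category.assoc, hh, MonObj.one_comp]
      haveI : Epi (h ≫ q) := by rw [← hpd]; exact epi_comp p d
      have h2 : χ = 1 := (cancel_epi (h ≫ q)).1 h1
      have h3 : π₃ = 1 := by
        rw [← cancel_epi π, MonObj.comp_one, ← hχ, h2, MonObj.comp_one]
      obtain ⟨t, ht, -⟩ := hπ₃.exists_lift (𝟙 Q) (toUnit Q) (by rw [h3, MonObj.comp_one, Hom.one_def])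
      haveI : Mono d₂ := Over.mono_of_mono_left d₂
      haveI : IsSplitEpi d₂ := ⟨⟨⟨t, ht⟩⟩⟩
      haveI : IsIso d₂ := isIso_of_mono_of_isSplitEpi d₂
      haveI : IsIso d₂.left := inferInstanceAs (IsIso ((Over.forget _).map d₂))
      haveI := NormalQuot.isAffine_of_surjective_hom p₂
      haveI : IsAffine Q.left := IsAffine.of_isIso (CategoryTheory.inv d₂.left)
      have hQt := trivial_of_affine Q hQO ‹_›
      obtain ⟨t₂, ht₂, -⟩ := hπ.exists_lift (𝟙 G) (toUnit G) (by
        rw [Category.id_comp, eq_one_of_trivial hQt π, Hom.one_def])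
      haveI : Mono h := Over.mono_of_mono_left h
      haveI : IsSplitEpi h := ⟨⟨⟨t₂, ht₂⟩⟩⟩
      exact hne (isIso_of_mono_of_isSplitEpi h)
    · obtain ⟨g, hg, -⟩ := hq.exists_lift h (toUnit H) (by
        rw [← hpd, eq_one_of_trivial hd p, MonObj.one_comp, Hom.one_def])
      haveI : IsClosedImmersion (g.left ≫ i.left) := by
        rw [← Over.comp_left, hg]; infer_instance
      haveI : IsClosedImmersion g.left := IsClosedImmersion.of_comp g.left i.left
      exact trivial_of_affine H hHO (isAffine_of_isAffineHom g.left)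

end Groth.Agent.S18075
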