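import Groth.Statements.S18076
import Groth.Agent.L08.SmallNorm.FinFieldProper
-- import your own Groth.Agent.* helpers here

set_option autoImplicit false
set_option backward.isDefEq.respectTransparency.types false
set_option linter.style.haveILetI false
universe u
open CategoryTheory MonoidalCategory CartesianMonoidalCategory MonObj GrpObj AlgebraicGeometry CategoryTheory.Limits
open AlgGrp

namespace Groth.Agent.S18076

/-- Let k be a finite field and G a connected k-group scheme of finite type, i : N → G a connected
affine closed normal subgroup scheme which is the kernel of a flat surjective homomorphism q onto an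
abelian variety A (for instance N = G_aff; any such N is allowed) and b : B → G the largest abelian
subvariety G_ab of G (a smooth connected proper closed subgroup scheme through which every other one
factors). Then G = N G_ab, i.e. multiplication N × B → G is surjective, and N ∩ G_ab is finite; for
N = G_aff this reads G = G_aff G_ab with G_aff ∩ G_ab finite. -/
theorem result (k : Type u) [Field k] [Finite k]
    (G : Over (Spec (CommRingCat.of k))) [GrpObj G] [LocallyOfFiniteType G.hom] [QuasiCompact G.hom] [ConnectedSpace ↥G.left]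
    (N A : Over (Spec (CommRingCat.of k))) [GrpObj N] [GrpObj A] (i : N ⟶ G) [IsMonHom i] [IsClosedImmersion i.left]
    [IsAffine N.left] [ConnectedSpace ↥N.left] (hN : AlgGrp.IsNormalHom i)
    (q : G ⟶ A) [IsMonHom q] [Surjective q.left] [Flat q.left] [IsProper A.hom] [Smooth A.hom] [ConnectedSpace ↥A.left]
    (hq : AlgGrp.IsKernel i q)
    (B : Over (Spec (CommRingCat.of k))) [GrpObj B] (b : B ⟶ G) [IsMonHom b] [IsClosedImmersion b.left] [Smooth B.hom] [ConnectedSpace ↥B.left] [IsProper B.hom]
    (hBmax : ∀ (B' : Over (Spec (CommRingCat.of k))) [GrpObj B'] (b' : B' ⟶ G) [IsMonHom b'] [IsClosedImmersion b'.left], Smooth B'.hom → ConnectedSpace ↥B'.left → IsProper B'.hom →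
      ∃ g : B' ⟶ B, g ≫ b = b') :
    Surjective ((i ⊗ₘ b) ≫ μ[G]).left ∧
    ∀ (P : Over (Spec (CommRingCat.of k))) (p₁ : P ⟶ N) (p₂ : P ⟶ B), IsPullback p₁ p₂ i b → IsFinite P.hom := by
  haveI := Groth.L08.AffHull.compactSpace (G := G)
  haveI := Groth.L08.AffHull.quasiSeparatedSpace (G := G)
  obtain ⟨_, _, _, _⟩ := Groth.L08.AffHull.hull_props (G := G)
  obtain ⟨K, gK, κ, _, _, -, sq⟩ := Groth.L08.AbelianGrp.exists_kernel (Groth.L08.AffHull.rho G)
  haveI : IsAffine (Groth.L08.AffHull.hull G).left := inferInstanceAs (IsAffine (Spec _))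
  haveI hsK : Surjective (κ ≫ q).left :=
    Groth.L08.SmallNorm.surjective_of_affine_quotient' q κ (Groth.L08.AffHull.rho G) sq
  haveI := Groth.L08.AffHull.isIso_appTop_kernel κ sq
  haveI : LocallyOfFiniteType K.hom := by rw [← Over.w κ]; infer_instance
  haveI : QuasiCompact K.hom := by rw [← Over.w κ]; infer_instance
  obtain ⟨g, hg⟩ := hBmax K κ (Groth.L08.AffHull.smooth_of_antiAffine K inferInstance)
    (Groth.L08.AffHull.connectedSpace_of_antiAffine K inferInstance)
    (Groth.L08.SmallNorm.isProper_of_antiAffine_finite K inferInstance)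
  have hbq : Surjective (b ≫ q).left := by
    haveI : Surjective (g.left ≫ (b ≫ q).left) := by
      rw [← Over.comp_left, ← Category.assoc, hg]; exact hsK
    exact Surjective.of_comp g.left _
  refine ⟨(Groth.L08.Chev.surjective_mul_of_surjective i b q hq hbq).1, fun P p₁ p₂ h => ?_⟩
  have h' := h.map (Over.forget _)
  haveI : IsClosedImmersion p₁.left := MorphismProperty.of_isPullback (P := @IsClosedImmersion) h'.flip ‹_›
  haveI : IsClosedImmersion p₂.left := MorphismProperty.of_isPullback (P := @IsClosedImmersion) h' ‹_›
  haveI : IsAffine P.left := isAffine_of_isAffineHom p₁.left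
  haveI : IsProper P.hom := by rw [← Over.w p₂]; infer_instance
  haveI : IsAffineHom P.hom := inferInstance
  exact IsFinite.iff_isProper_and_isAffineHom.2 ⟨‹_›, ‹_›⟩

end Groth.Agent.S18076
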