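import Groth.Statements.S18078
import Groth.Agent.L19.AffSpec.Extend
-- import your own Groth.Agent.* helpers here

set_option autoImplicit false
set_option backward.isDefEq.respectTransparency.types false
set_option linter.style.haveILetI false
universe u
open CategoryTheory MonoidalCategory CartesianMonoidalCategory MonObj GrpObj AlgebraicGeometry CategoryTheory.Limits
open AlgGrp

namespace Groth.Agent.S18078

/-- Let k be an algebraically closed field, F an algebraically closed field extension of k, G an
algebraic k-group (a k-group scheme of finite type) and d a natural number. Then G_F contains a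
smooth connected unipotent closed subgroup of dimension at least d (unipotent: no non-trivial
subtorus) if and only if G does; that is, D_u(k, G) = D_u(F, G). -/
theorem result (k : Type u) [Field k] [IsAlgClosed k]
    (F : Type u) [Field F] [IsAlgClosed F] [Algebra k F]
    (G : Over (Spec (CommRingCat.of k))) [GrpObj G] [LocallyOfFiniteType G.hom] [QuasiCompact G.hom] (d : ℕ) :
    (∃ (U : Over (Spec (CommRingCat.of F))) (_ : GrpObj U) (i : U ⟶ Red.bc (Spec.map (CommRingCat.ofHom (algebraMap k F))) G), IsMonHom i ∧ IsClosedImmersion i.left ∧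
        Smooth U.hom ∧ IsAffine U.left ∧ ConnectedSpace ↥U.left ∧ Red.HasNoSubtorus F U ∧
        (d : WithBot ℕ∞) ≤ topologicalKrullDim ↥U.left) ↔
    (∃ (U : Over (Spec (CommRingCat.of k))) (_ : GrpObj U) (i : U ⟶ G), IsMonHom i ∧ IsClosedImmersion i.left ∧
        Smooth U.hom ∧ IsAffine U.left ∧ ConnectedSpace ↥U.left ∧ Red.HasNoSubtorus k U ∧
        (d : WithBot ℕ∞) ≤ topologicalKrullDim ↥U.left) := by
  refine ⟨fun ⟨U, gU, i, h1, h2, h3, h4, h5, h6, h7⟩ => ?_, fun ⟨U, gU, i, h1, h2, h3, h4, h5, h6, h7⟩ => ?_⟩
  · exact Groth.L19.AffSpec.hasGEA_descend Groth.L19.AffSpec.specAff_noSub G ⟨U, gU, i, h1, h2, h3, h4, h5, h6, h7⟩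
  · haveI := h1; haveI := h2; haveI := h3; haveI := h4; haveI := h5
    let t := Spec.map (CommRingCat.ofHom (algebraMap k F))
    haveI := Groth.Agent.AbDualLib.geometricallyConnected_of_algClosed U.hom
    haveI : Subsingleton (Spec (CommRingCat.of F)) := inferInstanceAs (Subsingleton (PrimeSpectrum F))
    haveI : ConnectedSpace (Spec (CommRingCat.of F)) := inferInstanceAs (ConnectedSpace (PrimeSpectrum F))
    haveI : IsMonHom ((Over.pullback t).map i) := Groth.L25.MonoClosed.isMonHom_pullbackMap _ _
    exact ⟨Red.bc t U, inferInstance, (Over.pullback t).map i, inferInstance,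
      Groth.L19.SpecSub.isClosedImmersion_bc t i, MorphismProperty.pullback_snd _ _ h3,
      Groth.L08.Borel.isAffine_bc t U, inferInstanceAs (ConnectedSpace ↥(pullback U.hom t)),
      (Groth.L19.AffSpec.noSubtorus_bc_iff t U).2 h6,
      h7.trans (le_of_eq (Groth.L21.CurvFib.topologicalKrullDim_eq_of_isPullback k F U.hom t _ _
        (IsPullback.of_hasPullback _ _)).symm)⟩

end Groth.Agent.S18078
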