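import Groth.Statements.S18079
import Groth.Agent.L19.SpecSub.IsogenyUnip

set_option autoImplicit false
set_option backward.isDefEq.respectTransparency.types false
set_option backward.isDefEq.respectTransparency false
set_option linter.style.haveILetI false
universe u
open CategoryTheory MonoidalCategory CartesianMonoidalCategory MonObj GrpObj AlgebraicGeometry CategoryTheory.Limits
open AlgGrp

namespace Groth.Agent.S18079

/-- Let k be a field with algebraic closure k̄ and f : G → H an isogeny of algebraic k-groups (a
surjective homomorphism of k-group schemes of finite type with finite kernel, i.e. surjective and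
finite). Then for every d, G_{k̄} contains a smooth connected unipotent subgroup of dimension at
least d (unipotent: no non-trivial subtorus) if and only if H_{k̄} does; that is, d_u(G) = d_u(H). -/
theorem result (k : Type u) [Field k]
    (G H : Over (Spec (CommRingCat.of k))) [GrpObj G] [LocallyOfFiniteType G.hom] [QuasiCompact G.hom]
    [GrpObj H] [LocallyOfFiniteType H.hom] [QuasiCompact H.hom]
    (f : G ⟶ H) [IsMonHom f] [Surjective f.left] [IsFinite f.left] (d : ℕ) :
    (∃ (U : Over (Spec (CommRingCat.of (AlgebraicClosure k)))) (_ : GrpObj U) (i : U ⟶ Red.bc (Spec.map (CommRingCat.ofHom (algebraMap k (AlgebraicClosure k)))) G), IsMonHom i ∧ IsClosedImmersion i.left ∧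
        Smooth U.hom ∧ IsAffine U.left ∧ ConnectedSpace ↥U.left ∧ Red.HasNoSubtorus (AlgebraicClosure k) U ∧
        (d : WithBot ℕ∞) ≤ topologicalKrullDim ↥U.left) ↔
    (∃ (U : Over (Spec (CommRingCat.of (AlgebraicClosure k)))) (_ : GrpObj U) (i : U ⟶ Red.bc (Spec.map (CommRingCat.ofHom (algebraMap k (AlgebraicClosure k)))) H), IsMonHom i ∧ IsClosedImmersion i.left ∧
        Smooth U.hom ∧ IsAffine U.left ∧ ConnectedSpace ↥U.left ∧ Red.HasNoSubtorus (AlgebraicClosure k) U ∧
        (d : WithBot ℕ∞) ≤ topologicalKrullDim ↥U.left) := by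
  let t := Spec.map (CommRingCat.ofHom (algebraMap k (AlgebraicClosure k)))
  let F : Red.bc t G ⟶ Red.bc t H := (Over.pullback t).map f
  haveI : IsMonHom F := inferInstanceAs (IsMonHom ((Over.pullback t).map f))
  haveI : IsFinite F.left := MorphismProperty.of_isPullback (Groth.L08.HomLocus.isPullback_bc t f) ‹IsFinite f.left›
  haveI : Surjective F.left :=
    MorphismProperty.of_isPullback (Groth.L08.HomLocus.isPullback_bc t f) ‹Surjective f.left›
  haveI : LocallyOfFiniteType (Red.bc t G).hom := MorphismProperty.pullback_snd _ _ ‹LocallyOfFiniteType G.hom›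
  haveI : QuasiCompact (Red.bc t G).hom := MorphismProperty.pullback_snd _ _ ‹QuasiCompact G.hom›
  haveI : LocallyOfFiniteType (Red.bc t H).hom := MorphismProperty.pullback_snd _ _ ‹LocallyOfFiniteType H.hom›
  haveI : QuasiCompact (Red.bc t H).hom := MorphismProperty.pullback_snd _ _ ‹QuasiCompact H.hom›
  exact Groth.L19.SpecSub.unipotent_dim_iff F d

end Groth.Agent.S18079
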