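import Groth.Statements.S1808
import Groth.Agent.L10.TopDual.Main
import Groth.Agent.L19.VanishFibre.Main
import Groth.Agent.S3677

set_option autoImplicit false
set_option linter.style.haveILetI false
set_option maxHeartbeats 1600000
set_option backward.defeqAttrib.useBackward true
set_option backward.isDefEq.respectTransparency.types false
set_option backward.isDefEq.respectTransparency false
set_option backward.defeqAttrib.useBackward true
set_option backward.isDefEq.respectTransparency false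
universe u
open CategoryTheory CategoryTheory.Limits AlgebraicGeometry
attribute [local instance] HasDerivedCategory.standard
open Dual

namespace Groth.Agent.S1808

/-- Let A be a Noetherian local ring with normalized dualizing complex ω_A^• and ω_A = H^{−dim
A}(ω_A^•); let X be proper over Spec A with Rf_* on D_QCoh assumed to exist and to preserve
quasi-coherence of cohomology, a a right adjoint of it, and W an object of D_QCoh(Spec A) isomorphic
to the derived tilde of ω_A^• (tilde assumed left exact). Put ω_X = H^{−dim X}(a(W)). Let d be the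
dimension of the closed fibre and suppose dim X = d + dim A. Then there is an A-linear map t :
H^d(X, ω_X) → ω_A such that for every coherent O_X-module F and every A-linear ψ : H^d(X, F) → ω_A
there is exactly one φ : F → ω_X with ψ = t ∘ H^d(φ); that is, ω_X represents F ↦ Hom_A(H^d(X, F),
ω_A). -/
theorem result (A : Type u) [CommRing A] [IsLocalRing A] [IsNoetherianRing A] (ω : Dual.D A) (hω : Dual.IsDualizing A ω) (hn : Dual.IsNormalized A ω) (dA : ℕ) (hdA : ringKrullDim A = dA) (X : Scheme.{u}) [X.Over (Spec (CommRingCat.of A))] [IsProper (X ↘ Spec (CommRingCat.of A))] [DCoh.HasRpush (X ↘ Spec (CommRingCat.of A))] (h : ∀ K : DCoh.D X, DCoh.IsQCohD K → DCoh.IsQCohD ((DCoh.Rpush (X ↘ Spec (CommRingCat.of A))).obj K)) (a : DCoh.DQCoh (Spec (CommRingCat.of A)) ⥤ DCoh.DQCoh X) (adj : (ObjectProperty.lift DCoh.IsQCohD (ObjectProperty.ι DCoh.IsQCohD ⋙ DCoh.Rpush (X ↘ Spec (CommRingCat.of A))) (fun K => h K.obj K.property)) ⊣ a) [PreservesFiniteLimits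 (tilde.functor (CommRingCat.of A))] (W : DCoh.DQCoh (Spec (CommRingCat.of A))) (hW : Nonempty (W.obj ≅ (DCoh.tildeD (CommRingCat.of A)).obj ω)) (dX d : ℕ) (hdX : topologicalKrullDim X = dX) (hd : topologicalKrullDim ((X ↘ Spec (CommRingCat.of A)).fiber (IsLocalRing.closedPoint A)) = d) (hdim : dX = d + dA) : ∃ t : Coh.HH X (DCoh.HD (a.obj W).obj (-(dX : ℤ))) d →ₗ[A] Dual.HD A ω (-(dA : ℤ)), ∀ (F : X.Modules), Coh.IsCoh F → ∀ ψ : Coh.HH X F d →ₗ[A] Dual.HD A ω (-(dA : ℤ)), ∃! φ : F ⟶ DCoh.HD (a.obj W).obj (-(dX : ℤ)), ∀ x : Coh.HH X F d, ψ x = t (Sheaf.H.map ((SheafOfModules.toSheaf X.ringCatSheaf).map φ) d x) := by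
  open Groth.L29 Groth.L29.DC Groth.L10.ShriekLoc in
  let f := X ↘ Spec (CommRingCat.of A)
  haveI := fun (R : CommRingCat.{u}) => Groth.L18.TildeF.tilde_preservesFiniteLimits (R := R)
  haveI : IsLocallyNoetherian X := LocallyOfFiniteType.isLocallyNoetherian f
  obtain ⟨eW⟩ := hW
  have hvan : ∀ M : X.Modules, Coh.IsQCoh M → ∀ i : ℕ, d < i → Subsingleton (Coh.HH X M i) := by
    obtain ⟨g, hg, hvan⟩ := Groth.L19.VanishFibre.exists_basicOpen_vanishing f (IsLocalRing.closedPoint A) hd.le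
    intro M hM i hi
    haveI := hM
    refine hvan X (𝟙 X) (fun x => ?_) M i hi
    exact fun hgx => (f x).2.ne_top (Ideal.eq_top_of_isUnit_mem _ hgx
      (IsLocalRing.notMem_maximalIdeal.1 hg))
  -- shifts
  have hwle : ∀ i : ℤ, i < -(dA : ℤ) → IsZero ((DerivedCategory.homologyFunctor (ModuleCat.{u} A) i).obj ω) := by
    intro i hi
    haveI : Subsingleton (Dual.HD A ω i) := not_nontrivial_iff_subsingleton.1 fun hnt => by
      obtain ⟨e, he, h1, -, -⟩ := range_of_nontrivial ω hω hn i hnt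
      rw [hdA] at he
      have : dA = e := by exact_mod_cast he
      omega
    exact ModuleCat.isZero_of_subsingleton _
  let ω' : Dual.D A := ω⟦(-(dA : ℤ))⟧
  haveI : ω'.IsGE 0 := (DerivedCategory.isGE_iff _ _).2 fun i hi =>
    (hwle (-(dA : ℤ) + i) (by omega)).of_iso (Groth.L10.hShiftIso (A := ModuleCat.{u} A) ω _ i _ rfl)
  let eL : Dual.HD A ω' 0 ≃ₗ[A] Dual.HD A ω (-(dA : ℤ)) :=
    (Groth.L10.hShiftIso (A := ModuleCat.{u} A) ω (-(dA : ℤ)) 0 (-(dA : ℤ)) (add_zero _)).toLinearEquiv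
  let W' : DCoh.DQCoh (Spec (CommRingCat.of A)) := W⟦(-(dA : ℤ))⟧
  letI := Gen.commShiftRpush f
  haveI := Gen.isTriangulated_Rpush f
  letI := adj.rightAdjointCommShift ℤ
  let eW' : W'.obj ≅ (DCoh.tildeD (CommRingCat.of A)).obj ω' :=
    ((DCoh.IsQCohD (X := Spec (CommRingCat.of A))).ι.commShiftIso (-(dA : ℤ))).app W ≪≫
      (shiftFunctor (DCoh.D (Spec (CommRingCat.of A))) (-(dA : ℤ))).mapIso eW ≪≫
      (((DCoh.tildeD (CommRingCat.of A)).commShiftIso (-(dA : ℤ))).app ω).symm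
  let ea : (a.obj W').obj ≅ (a.obj W).obj⟦(-(dA : ℤ))⟧ :=
    (DCoh.IsQCohD (X := X)).ι.mapIso ((a.commShiftIso (-(dA : ℤ))).app W) ≪≫
      ((DCoh.IsQCohD (X := X)).ι.commShiftIso (-(dA : ℤ))).app (a.obj W)
  let eS : ∀ i j : ℤ, -(dA : ℤ) + i = j → (DCoh.HD (a.obj W').obj i ≅ DCoh.HD (a.obj W).obj j) := fun i j hij =>
    (DerivedCategory.homologyFunctor X.Modules i).mapIso ea ≪≫
      Groth.L10.hShiftIso (A := X.Modules) (a.obj W).obj _ i j hij
  haveI hge : (a.obj W').obj.IsGE (-(d : ℤ)) := (DerivedCategory.isGE_iff _ _).2 fun i hi =>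
    ((Groth.Agent.S3677.result A ω hω hn X f h a adj W ⟨eW⟩ dX hdX).1 _ (Or.inl (by omega))).of_iso (eS i _ rfl)
  obtain ⟨t', ht'⟩ := Groth.L10.TopDual.exists_trace (h := h) adj d hvan ω' W' eW' hge
  let iα := eS (-(d : ℤ)) (-(dX : ℤ)) (by omega)
  let k : Coh.HH X (DCoh.HD (a.obj W).obj (-(dX : ℤ))) d →ₗ[A] Coh.HH X (DCoh.HD (a.obj W').obj (-(d : ℤ))) d :=
    { toFun := Groth.L16.CohLinear.hmap iα.inv d
      map_add' := map_add _
      map_smul' := fun c z => (Groth.L16.CohLinear.hmap iα.inv d).map_smul _ z }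
  refine ⟨eL.toLinearMap ∘ₗ t' ∘ₗ k, fun F hF ψ => ?_⟩
  obtain ⟨φ, hφ, huniq⟩ := ht' F hF.1 (eL.symm.toLinearMap ∘ₗ ψ)
  have key : ∀ (φ' : F ⟶ DCoh.HD (a.obj W).obj (-(dX : ℤ))) (z : Coh.HH X F d),
      k (Sheaf.H.map ((SheafOfModules.toSheaf X.ringCatSheaf).map φ') d z) =
        Groth.L16.CohLinear.hmap (φ' ≫ iα.inv) d z := fun φ' z => (Groth.L16.CohLinear.hmap_comp φ' iα.inv d z).symm
  refine ⟨φ ≫ iα.hom, fun z => ?_, fun φ' hφ' => ?_⟩
  · change ψ z = eL (t' (k _))
    rw [key, Category.assoc, iα.hom_inv_id, Category.comp_id, ← hφ z]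
    exact (eL.apply_symm_apply (ψ z)).symm
  · rw [← huniq (φ' ≫ iα.inv) fun z => ?_, Category.assoc, iα.inv_hom_id, Category.comp_id]
    rw [← key]
    refine eL.injective ?_
    exact (eL.apply_symm_apply (ψ z)).trans (hφ' z)

end Groth.Agent.S1808
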