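import Groth.Statements.S18080
import Groth.Agent.L19.SpecSub.SabQuot

set_option autoImplicit false
set_option backward.isDefEq.respectTransparency.types false
universe u
open CategoryTheory MonoidalCategory CartesianMonoidalCategory MonObj GrpObj AlgebraicGeometry CategoryTheory.Limits
open AlgGrp

namespace Groth.Agent.S18080

/-- Let k be a perfect field and G a connected algebraic group over k. Then G has a smallest normal
connected algebraic subgroup H such that G/H is a semi-abelian variety (an extension of an abelian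
variety by a torus): H is smooth, connected, closed and normal, is the kernel of a flat surjective
homomorphism onto a semi-abelian variety, and is contained in every other such subgroup. (The
identification of G → G/H with the generalized Albanese morphism of (G, e) is not part of this row.) -/
theorem result (k : Type u) [Field k] [PerfectField k]
    (G : Over (Spec (CommRingCat.of k))) [GrpObj G] [Smooth G.hom] [QuasiCompact G.hom] [ConnectedSpace ↥G.left] :
    ∃ (H : Over (Spec (CommRingCat.of k))) (_ : GrpObj H) (h : H ⟶ G), IsMonHom h ∧ IsClosedImmersion h.left ∧ AlgGrp.IsNormalHom h ∧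
      Smooth H.hom ∧ ConnectedSpace ↥H.left ∧
      (∃ (Q : Over (Spec (CommRingCat.of k))) (_ : GrpObj Q) (q : G ⟶ Q), IsMonHom q ∧ Surjective q.left ∧ Flat q.left ∧
        AlgGrp.IsKernel h q ∧ (∃ (T : Over (Spec (CommRingCat.of k))) (_ : GrpObj T) (t : T ⟶ Q) (A : Over (Spec (CommRingCat.of k))) (_ : GrpObj A) (p : Q ⟶ A),
        IsMonHom t ∧ IsClosedImmersion t.left ∧ Red.IsTorus T ∧ IsMonHom p ∧ Surjective p.left ∧ Flat p.left ∧
        AlgGrp.IsKernel t p ∧ IsProper A.hom ∧ Smooth A.hom ∧ ConnectedSpace ↥A.left)) ∧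
      ∀ (H' : Over (Spec (CommRingCat.of k))) [GrpObj H'] (h' : H' ⟶ G) [IsMonHom h'] [IsClosedImmersion h'.left]
        (Q' : Over (Spec (CommRingCat.of k))) [GrpObj Q'] (q' : G ⟶ Q') [IsMonHom q'] [Surjective q'.left] [Flat q'.left],
        AlgGrp.IsNormalHom h' → Smooth H'.hom → ConnectedSpace ↥H'.left → AlgGrp.IsKernel h' q' → (∃ (T : Over (Spec (CommRingCat.of k))) (_ : GrpObj T) (t : T ⟶ Q') (A : Over (Spec (CommRingCat.of k))) (_ : GrpObj A) (p : Q' ⟶ A),
        IsMonHom t ∧ IsClosedImmersion t.left ∧ Red.IsTorus T ∧ IsMonHom p ∧ Surjective p.left ∧ Flat p.left ∧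
        AlgGrp.IsKernel t p ∧ IsProper A.hom ∧ Smooth A.hom ∧ ConnectedSpace ↥A.left) →
        ∃ g : H ⟶ H', g ≫ h' = h := by
  classical
  let Sab : ℕ → Prop := fun d => ∃ (H : Over (Spec (CommRingCat.of k))) (_ : GrpObj H) (h : H ⟶ G)
    (Q : Over (Spec (CommRingCat.of k))) (_ : GrpObj Q) (q : G ⟶ Q), IsMonHom h ∧ IsClosedImmersion h.left ∧
      AlgGrp.IsNormalHom h ∧ Smooth H.hom ∧ ConnectedSpace ↥H.left ∧ IsMonHom q ∧ Surjective q.left ∧ Flat q.left ∧
      AlgGrp.IsKernel h q ∧ Groth.L19.SpecSub.IsSemiab Q ∧ topologicalKrullDim H.left = (d : WithBot ℕ∞)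
  have hex : ∃ d, Sab d := by
    obtain ⟨d, -, hd⟩ := Groth.L08.GrpDim.exists_dim (G := G)
    haveI : Surjective (toUnit G).left :=
      ⟨fun x => ⟨η[G].left (IsLocalRing.closedPoint k), Subsingleton.elim (α := PrimeSpectrum k) _ _⟩⟩
    haveI : Flat (toUnit G).left := by
      rw [show (toUnit G).left = G.hom from by
        have := Over.w (toUnit G); simpa using this]
      infer_instance
    refine ⟨d, G, inferInstance, 𝟙 G, 𝟙_ _, inferInstance, toUnit G, inferInstance,
      inferInstanceAs (IsClosedImmersion (𝟙 G.left)), fun T g n => ⟨g * n * g⁻¹, by simp⟩, inferInstance,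
      inferInstance, inferInstance, inferInstance, inferInstance, ?_, Groth.L19.SpecSub.isSemiab_unit, hd⟩
    refine IsPullback.mk' (toUnit_unique _ _) (fun T a b h1 _ => by simpa using h1)
      (fun T a b _ => ⟨a, Category.comp_id a, toUnit_unique _ _⟩)
  obtain ⟨H, gH, h, Q, gQ, q, hh, hhc, hhn, hHs, hHcn, hq, hqs, hqf, hker, hQ, hHd⟩ := Nat.find_spec hex
  haveI := hh; haveI := hhc; haveI := hHs; haveI := hHcn; haveI := hq; haveI := hqs; haveI := hqf
  refine ⟨H, gH, h, hh, hhc, hhn, hHs, hHcn, ⟨Q, gQ, q, hq, hqs, hqf, hker, hQ⟩, ?_⟩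
  intro H' _ h' _ _ Q' _ q' _ _ _ _ _ _ hker' hQ'
  haveI := (Groth.L19.SpecSub.ft_of_cover_sab q hQ).1
  haveI := (Groth.L19.SpecSub.ft_of_cover_sab q hQ).2
  haveI := (Groth.L19.SpecSub.ft_of_cover_sab q' hQ').1
  haveI := (Groth.L19.SpecSub.ft_of_cover_sab q' hQ').2
  haveI := Groth.L08.AbelianGrp.isSeparated Q
  haveI := Groth.L08.AbelianGrp.isSeparated Q'
  haveI : LocallyOfFiniteType (Q ⊗ Q').hom := Groth.L19.AlgGrpBasic.lft_tensor Q Q'
  haveI : IsMonHom (lift q q') := Groth.L08.Albanese.isMonHom_lift q q'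
  haveI := Groth.L08.AbelianGrp.isSeparated (Q ⊗ Q')
  obtain ⟨E, _, π, e, hπ, he, hπe, hπf, hπs, hπl, hec⟩ := Groth.L08.AbelianGrp.exists_image (lift q q')
  haveI := hπ; haveI := he; haveI := hπf; haveI := hπs; haveI := hπl; haveI := hec
  haveI : Mono e := (Over.forget _).mono_of_mono_map (inferInstanceAs (Mono e.left))
  haveI : QuasiCompact (Q ⊗ Q').hom := Groth.L19.AlgGrpBasic.qc_tensor Q Q'
  haveI : LocallyOfFiniteType E.hom := by rw [← Over.w e]; infer_instance
  haveI : QuasiCompact E.hom := by rw [← Over.w e]; infer_instance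
  haveI : Smooth E.hom := Groth.L19.AlgGrpBasic.smooth_of_cover π
  haveI : ConnectedSpace ↥E.left := π.left.surjective.connectedSpace π.left.continuous
  have hE := Groth.L19.SpecSub.isSemiab_of_mono_prod e hQ hQ'
  obtain ⟨R, _, r, QR, _, qR, hr, hrc, hrn, hRs, hRc, hrπ, hqR, hqRs, hqRf, hkR, hQR⟩ :=
    Groth.L19.SpecSub.exists_connected_sab_kernel π hE
  haveI := hr; haveI := hrc; haveI := hRs; haveI := hRc
  haveI : QuasiCompact R.hom := by rw [← Over.w r]; infer_instance
  have h12 : r ≫ q = 1 ∧ r ≫ q' = 1 := by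
    have h1 : r ≫ lift q q' = 1 := by rw [← hπe, ← Category.assoc, hrπ, MonObj.one_comp]
    refine ⟨?_, ?_⟩
    · have := congrArg (· ≫ fst Q Q') h1
      simpa [MonObj.one_comp] using this
    · have := congrArg (· ≫ snd Q Q') h1
      simpa [MonObj.one_comp] using this
  obtain ⟨g, hg⟩ : ∃ g : R ⟶ H, g ≫ h = r :=
    ⟨hker.lift r (toUnit R) (by rw [h12.1, Hom.one_def]), hker.lift_fst _ _ _⟩
  obtain ⟨g', hg'⟩ : ∃ g' : R ⟶ H', g' ≫ h' = r :=
    ⟨hker'.lift r (toUnit R) (by rw [h12.2, Hom.one_def]), hker'.lift_fst _ _ _⟩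
  haveI : IsClosedImmersion g.left := by
    haveI : IsClosedImmersion (g.left ≫ h.left) := by rw [← Over.comp_left, hg]; infer_instance
    exact IsClosedImmersion.of_comp_isClosedImmersion g.left h.left
  obtain ⟨dR, -, hdR⟩ := Groth.L08.GrpDim.exists_dim (G := R)
  have hle : Nat.find hex ≤ dR :=
    Nat.find_min' hex ⟨R, inferInstance, r, QR, inferInstance, qR, hr, hrc, hrn, hRs, hRc, hqR, hqRs, hqRf, hkR, hQR, hdR⟩
  haveI : IsIso g := Groth.L19.AlgGrpBasic.isIso_of_dim_eq g (le_antisymm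
    g.left.isClosedEmbedding.isEmbedding.isInducing.topologicalKrullDim_le
    (by rw [hHd, hdR]; exact_mod_cast hle))
  exact ⟨inv g ≫ g', by rw [Category.assoc, hg', ← hg, IsIso.inv_hom_id_assoc]⟩

end Groth.Agent.S18080
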