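import Groth.Statements.S18086
import Groth.Agent.L19.AffSpec.Laurent
-- import your own Groth.Agent.* helpers here

set_option autoImplicit false
set_option backward.isDefEq.respectTransparency.types false
set_option linter.style.haveILetI false
universe u
open CategoryTheory MonoidalCategory CartesianMonoidalCategory MonObj GrpObj AlgebraicGeometry CategoryTheory.Limits
open AlgGrp

namespace Groth.Agent.S18086

/-- Let k be a perfect field and G an algebraic k-group. If G_{k((t))} contains a smooth connected
unipotent k((t))-subgroup of dimension at least d, unipotent being expressed for a smooth connected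
affine group as having no non-trivial subtorus over the ground field, then G contains a smooth
connected unipotent k-subgroup of dimension at least d. Hence, counting smooth connected unipotent
subgroups, D_u(k, G) = D_u(k((t)), G), the reverse inequality being base change. (The published
lemma is stated over an arbitrary field k and counts unipotent k-subgroups which need not be smooth;
the subgroup its argument produces over k is the special fibre of a schematic closure over k[[t]]
and need not be smooth. This statement asks for a smooth connected subgroup and therefore takes k
perfect, where the reduced identity component of that special fibre is a smooth connected unipotent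
k-subgroup of the same dimension.) -/
theorem result (k : Type u) [Field k] [PerfectField k]
    (G : Over (Spec (CommRingCat.of k))) [GrpObj G] [LocallyOfFiniteType G.hom] [QuasiCompact G.hom] (d : ℕ)
    (hK : ∃ (U : Over (Spec (CommRingCat.of (LaurentSeries k)))) (_ : GrpObj U) (i : U ⟶ Red.bc (Spec.map (CommRingCat.ofHom (algebraMap k (LaurentSeries k)))) G), IsMonHom i ∧ IsClosedImmersion i.left ∧
        Smooth U.hom ∧ IsAffine U.left ∧ ConnectedSpace ↥U.left ∧ Red.HasNoSubtorus (LaurentSeries k) U ∧
        (d : WithBot ℕ∞) ≤ topologicalKrullDim ↥U.left) :
    ∃ (U : Over (Spec (CommRingCat.of k))) (_ : GrpObj U) (i : U ⟶ G), IsMonHom i ∧ IsClosedImmersion i.left ∧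
        Smooth U.hom ∧ IsAffine U.left ∧ ConnectedSpace ↥U.left ∧ Red.HasNoSubtorus k U ∧
        (d : WithBot ℕ∞) ≤ topologicalKrullDim ↥U.left := by
  have e : algebraMap k (LaurentSeries k) =
      (algebraMap (PowerSeries k) (LaurentSeries k)).comp (PowerSeries.C (R := k)) := by
    refine RingHom.ext fun c => ?_
    refine Eq.trans ?_ (HahnSeries.ofPowerSeries_C c).symm
    simp [HahnSeries.algebraMap_apply']
  rw [e] at hK
  obtain ⟨U, gU, i, h1, h2, h3, h4, h5, h6, h7⟩ := hK
  haveI := h1; haveI := h2; haveI := h3; haveI := h4; haveI := h5
  exact Groth.L19.AffSpec.exists_noSub_of_valuationRing (K := LaurentSeries k) (PowerSeries.C (R := k))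
    (PowerSeries.constantCoeff (R := k)) (fun c => PowerSeries.constantCoeff_C c)
    (fun x hx hu => (PowerSeries.isUnit_iff_constantCoeff.1 hu).ne_zero hx) G U i h6 h7

end Groth.Agent.S18086
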