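import Groth.Statements.S18088
import Groth.Agent.L19.SpecSub.Semicont

set_option autoImplicit false
set_option backward.isDefEq.respectTransparency.types false
set_option backward.isDefEq.respectTransparency false
set_option linter.style.haveILetI false
universe u
open CategoryTheory MonoidalCategory CartesianMonoidalCategory MonObj GrpObj AlgebraicGeometry CategoryTheory.Limits
open AlgGrp

namespace Groth.Agent.S18088

/-- Let S be a scheme and G an S-group scheme of finite presentation; for s ∈ S let d'_c(s) be the
largest dimension of a smooth connected commutative closed subgroup of the geometric fibre of G at
s. Then d'_c does not decrease under specialization: for every natural number n, if s specializes to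
s' (that is, s' lies in the closure of s) and d'_c(s) ≥ n, then d'_c(s') ≥ n. (The published
statement asserts that d'_c is upper semicontinuous on S, i.e. that the set of points s with d'_c(s)
≥ n is closed; the published argument reduces to the spectrum of an integral local ring and
establishes that this set is stable under specialization, which is what is stated here. Closedness
would in addition need the set to be locally constructible, which the argument does not address.) -/
theorem result (S : Scheme.{u}) (G : Over S) [GrpObj G]
    [LocallyOfFinitePresentation G.hom] [QuasiCompact G.hom] [QuasiSeparated G.hom] (n : ℕ) :
    StableUnderSpecialization {s : ↥S | ∃ (H : Over (Spec (CommRingCat.of (AlgebraicClosure (S.residueField s))))) (_ : GrpObj H)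
      (i : H ⟶ Red.geomFibre s G), IsMonHom i ∧ IsClosedImmersion i.left ∧ Smooth H.hom ∧
      ConnectedSpace ↥H.left ∧ IsCommMonObj H ∧ (n : WithBot ℕ∞) ≤ topologicalKrullDim ↥H.left} := by
  exact Groth.L19.SpecSub.stableUnderSpecialization (Q := Groth.L19.SpecSub.QComm) (G := G) (n := n)
    Groth.L19.SpecSub.specialisable_comm

end Groth.Agent.S18088
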