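import Groth.Statements.S1809
import Groth.Agent.L29.Dual.SchLocus

set_option autoImplicit false
set_option backward.isDefEq.respectTransparency false
universe u
open CategoryTheory CategoryTheory.Limits AlgebraicGeometry
attribute [local instance] HasDerivedCategory.standard
open Dual

namespace Groth.Agent.S1809

/-- Let X be a locally Noetherian scheme and ω a dualizing complex on X (affine-locally the derived
tilde of a dualizing complex of the ring; exactness of restriction of module sheaves to opens and of
M ↦ M~ is assumed through instance binders). Then for every point x the local ring O_{X,x} is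
Cohen–Macaulay if and only if exactly one cohomology sheaf of ω has nonzero stalk at x; and the set
of points whose local ring is Cohen–Macaulay is open. -/
theorem result (X : Scheme.{u}) [IsLocallyNoetherian X] [∀ (U : Scheme.{u}) (j : U ⟶ X) [IsOpenImmersion j], PreservesFiniteLimits (Scheme.Modules.restrictFunctor j)] [∀ (R : CommRingCat.{u}), PreservesFiniteLimits (tilde.functor R)] (ω : DCoh.D X) (hω : Dual2.IsDualizingSch X ω) : (∀ x : X, LocCoh.IsCohenMacaulayLocalRing (X.presheaf.stalk x) ↔ ∃! i : ℤ, Nontrivial ((DCoh.HD ω i).presheaf.stalk x)) ∧ IsOpen {x : X | LocCoh.IsCohenMacaulayLocalRing (X.presheaf.stalk x)} := by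
  refine ⟨fun x => ?_, isOpen_iff_mem_nhds.2 fun x hx => ?_⟩
  · obtain ⟨A, _, j, _, ω', hx, hω', hst⟩ := Groth.L29.SchLocus.exists_chart hω x
    obtain ⟨q, rfl⟩ := hx
    rw [Groth.L29.SchLocus.cm_stalk_iff j q, Groth.L29.SchLocus.cm_iff_existsUnique hω' q]
    exact existsUnique_congr fun i => (hst q i).symm
  · obtain ⟨A, _, j, _, ω', hxj, hω', -⟩ := Groth.L29.SchLocus.exists_chart hω x
    obtain ⟨q, rfl⟩ := hxj
    let S : Set (Spec A) := {p | Groth.L29.Loci.AtMostOne ω' A p}
    have hS : j ⁻¹' {y : X | LocCoh.IsCohenMacaulayLocalRing (X.presheaf.stalk y)} = S :=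
      Set.ext fun p => (Groth.L29.SchLocus.cm_stalk_iff j p).trans
        (Groth.L29.Loci.atMostOne_iff_isCMLocalRing p hω').symm
    have h1 : IsOpen (j '' S) := j.isOpenEmbedding.isOpenMap _ (Groth.L29.Loci.isOpen_atMostOne hω' A)
    refine Filter.mem_of_superset (h1.mem_nhds ⟨q, hS ▸ hx, rfl⟩) ?_
    rintro _ ⟨p, hp, rfl⟩
    rw [← hS] at hp
    exact hp

end Groth.Agent.S1809
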