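import Groth.Statements.S18096
import Groth.Agent.L19.AlgGrpBasic.GLnBridge
import Groth.Agent.L08.AffHull.Crit
import Groth.Agent.L08.AffHull.Smooth

set_option autoImplicit false
set_option backward.isDefEq.respectTransparency.types false
set_option linter.style.haveILetI false
universe u
open CategoryTheory MonoidalCategory CartesianMonoidalCategory MonObj GrpObj AlgebraicGeometry CategoryTheory.Limits
open AlgGrp

namespace Groth.Agent.S18096
open Groth.L19.AlgGrpBasic

/-- Let k be a field and G a k-group scheme of finite type. Then G is anti-affine, i.e. O(G) = k, if and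
only if every finite-dimensional linear representation of G is trivial, i.e. for every n every
homomorphism G → GL_{n,k} is trivial. -/
theorem result (k : Type u) [Field k]
    (G : Over (Spec (CommRingCat.of k))) [GrpObj G] [LocallyOfFiniteType G.hom] [QuasiCompact G.hom] :
    Function.Bijective ((Scheme.ΓSpecIso (CommRingCat.of k)).inv ≫ G.hom.appTop).hom ↔
      ∀ (n : ℕ) (ρ : G ⟶ FrB.GLn n (Spec (CommRingCat.of k))), IsMonHom ρ → ρ = 1 := by
  rw [Groth.L08.AffHull.bijective_iff_isIso]
  constructor
  · intro hO n ρ hρ
    haveI := hρ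
    haveI : IsAffine (FrB.GLZ.{u} n).left := inferInstanceAs (IsAffine (Spec _))
    haveI : IsAffine (FrB.GLn n (Spec (CommRingCat.of k))).left :=
      inferInstanceAs (IsAffine (pullback (FrB.GLZ n).hom _))
    exact Groth.L08.AffHull.hom_eq_one hO ρ
  · intro h
    haveI := Groth.L08.AffHull.compactSpace (G := G)
    haveI := Groth.L08.AffHull.quasiSeparatedSpace (G := G)
    obtain ⟨hl, -, -, -⟩ := Groth.L08.AffHull.hull_props (G := G)
    haveI := hl
    haveI : IsAffine (Groth.L08.AffHull.hull G).left := inferInstance
    obtain ⟨n, ρ, _, _⟩ := exists_mono_GLn (Groth.L08.AffHull.hull G)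
    refine Groth.L08.AffHull.isIso_appTop_of_rho_eq_one ?_
    have h1 := h n (Groth.L08.AffHull.rho G ≫ ρ) inferInstance
    rw [← cancel_mono ρ, h1, MonObj.one_comp ρ]

end Groth.Agent.S18096
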