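import Groth.Statements.S18100
import Groth.Agent.S6074
import Groth.Agent.L15.GenSub.Subgroup
import Groth.Agent.L26.AlbSm.Generated
import Groth.Agent.L08.Albanese.AbSub
import Groth.Agent.L26.AV.Hom

set_option autoImplicit false
set_option backward.isDefEq.respectTransparency.types false
set_option linter.style.haveILetI false
universe u
open CategoryTheory MonoidalCategory CartesianMonoidalCategory MonObj GrpObj AlgebraicGeometry CategoryTheory.Limits
open AlgGrp

namespace Groth.Agent.S18100

open Groth.Agent.L26.AlbSm in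
theorem isProper_pw {k : Type u} [Field k] (V : Over (Spec (CommRingCat.of k))) [IsProper V.hom] :
    ∀ n, IsProper (pw V n).hom
  | 0 => inferInstanceAs (IsProper (𝟙 _))
  | n + 1 => by
    haveI := isProper_pw V n
    exact inferInstanceAs (IsProper (pullback.fst (pw V n).hom V.hom ≫ (pw V n).hom))

open Groth.Agent.L26.AlbSm in
/-- A product of values is a value of the sum map. -/
theorem exists_tuple {k : Type u} [Field k] {V G T : Over (Spec (CommRingCat.of k))} [GrpObj G] (f : V ⟶ G) :
    ∀ (n : ℕ) (y : Fin n → (T ⟶ V)),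
      ∃ t : T ⟶ pw V n, t ≫ sumPow f n = (List.ofFn fun j => y j ≫ f).prod
  | 0, _ => ⟨toUnit T, MonObj.comp_one _⟩
  | n + 1, y => by
    obtain ⟨t, ht⟩ := exists_tuple f n fun j => y j.castSucc
    refine ⟨lift t (y (Fin.last n)), ?_⟩
    show lift t (y (Fin.last n)) ≫ ((fst (pw V n) V ≫ sumPow f n) * (snd (pw V n) V ≫ f)) = _
    rw [MonObj.comp_mul, lift_fst_assoc, lift_snd_assoc, ht, List.ofFn_succ', List.concat_eq_append,
      List.prod_append, List.prod_singleton]

/-- Let k be a field and G a non-trivial anti-affine k-group scheme of finite type with no anti-affine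
closed subgroup scheme other than G and the trivial one. Then G is either an abelian variety (proper
over k), or every complete subvariety of G has dimension zero: any closed subscheme of G that is
geometrically integral and proper over k has dimension 0. -/
theorem result (k : Type u) [Field k]
    (G : Over (Spec (CommRingCat.of k))) [GrpObj G] [LocallyOfFiniteType G.hom] [QuasiCompact G.hom] (hG : ¬ Red.IsTrivialGrp G)
    (hGa : Function.Bijective ((Scheme.ΓSpecIso (CommRingCat.of k)).inv ≫ G.hom.appTop).hom)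
    (hmin : ∀ (H : Over (Spec (CommRingCat.of k))) [GrpObj H] (h : H ⟶ G) [IsMonHom h] [IsClosedImmersion h.left], ¬ IsIso h → Function.Bijective ((Scheme.ΓSpecIso (CommRingCat.of k)).inv ≫ H.hom.appTop).hom → Red.IsTrivialGrp H) :
    IsProper G.hom ∨
      ∀ (Z : Over (Spec (CommRingCat.of k))) (z : Z ⟶ G) [IsClosedImmersion z.left] [IsProper Z.hom] [GeometricallyIntegral Z.hom],
        topologicalKrullDim ↥Z.left = 0 := by
  rw [or_iff_not_imp_left]
  intro hprop Z z _ _ _
  haveI : IsSeparated G.hom := Groth.L08.AbelianGrp.isSeparated G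
  haveI : LocallyOfFiniteType Z.hom := inferInstance
  haveI hgiV : GeometricallyIntegral (Z ⊗ Z).hom := Groth.Agent.L26.AlbSm.geometricallyIntegral_prod Z Z
  haveI : IsProper (Z ⊗ Z).hom := inferInstanceAs (IsProper (pullback.fst Z.hom Z.hom ≫ Z.hom))
  haveI : GeometricallyConnected (Z ⊗ Z).hom := inferInstance
  let f : Z ⊗ Z ⟶ G := (fst Z Z ≫ z) * (snd Z Z ≫ z)⁻¹
  -- the differences meet the unit
  have he : ∃ x : (Z ⊗ Z).left, f.left.base x ∈
      Set.range (η[G] : 𝟙_ (Over (Spec (CommRingCat.of k))) ⟶ G).left.base := by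
    haveI : IsIntegral Z.left := GeometricallyIntegral.isIntegral_of_subsingleton Z.hom
    obtain ⟨x⟩ : Nonempty ↥Z.left := inferInstance
    refine ⟨(lift (𝟙 Z) (𝟙 Z)).left x, (toUnit Z).left x, ?_⟩
    have h1 : lift (𝟙 Z) (𝟙 Z) ≫ f = toUnit Z ≫ η[G] := by
      rw [MonObj.comp_mul, GrpObj.comp_inv, lift_fst_assoc, lift_snd_assoc, mul_inv_cancel, Hom.one_def]
    exact (congr(($h1).left.base x)).symm
  obtain ⟨Γ, gΓ, i, hi, hic, hf, hgred, hmin', -⟩ := Groth.L15.GenSub.exists_generated f
  haveI := hi; haveI := hic; haveI := hgred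
  obtain ⟨N, hN⟩ := Groth.Agent.S6074.result k G (Z ⊗ Z) f he Γ i hf hmin'
  obtain ⟨f', hf'⟩ := hf
  let V := Z ⊗ Z
  obtain ⟨_, _, _, _⟩ := Groth.Agent.L26.AlbSm.props_pw (V := V) N
  haveI := isProper_pw V N
  let Φ := Groth.Agent.L26.AlbSm.sumPow f' N
  have hΦ : Φ ≫ i = Groth.Agent.L26.AlbSm.sumPow f N := by
    rw [Groth.Agent.L26.AlbSm.sumPow_comp f' i, hf']
  haveI : Surjective Φ.left := ⟨fun g => by
    obtain ⟨T, p, x, ε, hg⟩ : i.left.base g ∈ {g : G.left | ∃ (T : Over (Spec (CommRingCat.of k))) (p : T.left)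
        (x : Fin N → (T ⟶ Z ⊗ Z)) (ε : Fin N → Bool),
        ((List.ofFn fun j : Fin N => if ε j then x j ≫ f else (x j ≫ f)⁻¹).prod : T ⟶ G).left.base p = g} := by
      rw [← hN]; exact ⟨g, rfl⟩
    let y : Fin N → (T ⟶ V) := fun j => if ε j then x j else x j ≫ lift (snd Z Z) (fst Z Z)
    have hy : (fun j => y j ≫ f) = fun j => if ε j then x j ≫ f else (x j ≫ f)⁻¹ := by
      funext j
      by_cases h : ε j <;> simp only [y, h, if_true, Bool.false_eq_true, if_false]
      rw [Category.assoc, ← GrpObj.comp_inv]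
      congr 1
      rw [MonObj.comp_mul, GrpObj.comp_inv, lift_fst_assoc, lift_snd_assoc, _root_.mul_inv_rev, _root_.inv_inv]
    obtain ⟨t, ht⟩ := exists_tuple f N y
    rw [hy, ← hΦ] at ht
    refine ⟨t.left p, i.left.isClosedEmbedding.injective ?_⟩
    rw [← hg, ← ht]
    rfl⟩
  haveI : LocallyOfFiniteType Γ.hom := by rw [← Over.w i]; infer_instance
  haveI : IsSeparated Γ.hom := by rw [← Over.w i]; infer_instance
  haveI : QuasiCompact Γ.hom := by rw [← Over.w i]; infer_instance
  haveI : UniversallyClosed (Φ.left ≫ Γ.hom) := by rw [Over.w Φ]; infer_instance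
  haveI : UniversallyClosed Γ.hom := UniversallyClosed.of_comp_surjective Φ.left Γ.hom
  haveI : IsProper Γ.hom := {}
  haveI : ConnectedSpace ↥Γ.left := by
    haveI : IsIntegral (Groth.Agent.L26.AlbSm.pw V N).left :=
      GeometricallyIntegral.isIntegral_of_subsingleton (Groth.Agent.L26.AlbSm.pw V N).hom
    exact Φ.left.surjective.connectedSpace Φ.left.continuous
  haveI : GeometricallyIntegral Γ.hom := Groth.Agent.AV.geometricallyIntegral_of_connected Γ
  haveI : Nonempty ↥Γ.left := ⟨η[Γ].left (IsLocalRing.closedPoint k)⟩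
  have hΓ : Function.Bijective ((Scheme.ΓSpecIso (CommRingCat.of k)).inv ≫ Γ.hom.appTop).hom := by
    haveI := Groth.L08.Albanese.isIso_appTop_of_proper Γ.hom
    exact ConcreteCategory.bijective_of_isIso _
  have hni : ¬ IsIso i := fun h => hprop <| by
    haveI := h
    haveI : IsIso i.left := inferInstanceAs (IsIso ((Over.forget _).map i))
    have h2 : G.hom = inv i.left ≫ Γ.hom := by rw [IsIso.eq_inv_comp]; exact Over.w i
    rw [h2]; infer_instance
  have htriv : IsIso Γ.hom := hmin Γ i hni hΓ
  -- the differences are trivial, so the subvariety is a point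
  have h1 : f = 1 := by
    rw [← hf']
    have h0 : f' = 1 := Over.OverMorphism.ext <| by
      rw [← cancel_mono Γ.hom, Over.w, Over.w]
    rw [h0, MonObj.one_comp]
  have h2 : fst Z Z ≫ z = snd Z Z ≫ z := mul_inv_eq_one.1 h1
  haveI : Subsingleton ↥Z.left := ⟨fun a b => by
    obtain ⟨c, hca, hcb⟩ := Scheme.Pullback.exists_preimage_pullback (f := Z.hom) (g := Z.hom) a b
      (Subsingleton.elim (α := PrimeSpectrum k) _ _)
    apply z.left.isClosedEmbedding.injective
    rw [← hca, ← hcb]
    exact congr(($h2).left c)⟩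
  haveI : IsIntegral Z.left := GeometricallyIntegral.isIntegral_of_subsingleton Z.hom
  refine le_antisymm ?_ (Groth.Agent.L26.AlbSm.zero_le_topologicalKrullDim_space _)
  exact topologicalKrullDim_zero_of_discreteTopology _
end Groth.Agent.S18100
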