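import Groth.Statements.S18101
import Groth.Agent.L19.AlgGrpBasic.AntiAffCrit
import Groth.Agent.L19.AlgGrpBasic.AntiAffFixed

set_option autoImplicit false
set_option backward.isDefEq.respectTransparency.types false
set_option linter.style.haveILetI false
universe u
open CategoryTheory MonoidalCategory CartesianMonoidalCategory MonObj GrpObj AlgebraicGeometry CategoryTheory.Limits
open AlgGrp

namespace Groth.Agent.S18101
open Groth.L19.AlgGrpBasic

/-- Let k be a field and G a k-group scheme of finite type. Then G is anti-affine, i.e. O(G) = k, if and
only if every action of G on a variety having a fixed point is trivial; the fixed point is taken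
k-rational here (the published condition allows any closed fixed point, which gives a formally
stronger necessary condition; the equivalence with a rational fixed point is what the published
argument through linear representations yields). -/
theorem result (k : Type u) [Field k]
    (G : Over (Spec (CommRingCat.of k))) [GrpObj G] [LocallyOfFiniteType G.hom] [QuasiCompact G.hom] :
    Function.Bijective ((Scheme.ΓSpecIso (CommRingCat.of k)).inv ≫ G.hom.appTop).hom ↔
      ∀ (X : Over (Spec (CommRingCat.of k))) [LocallyOfFiniteType X.hom] [QuasiCompact X.hom] [IsSeparated X.hom] [GeometricallyIntegral X.hom]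
        (a : AlgGrp.Action G X) (x : 𝟙_ (Over (Spec (CommRingCat.of k))) ⟶ X), a.IsFixedPt x → a.act = snd G X := by
  haveI := Groth.L08.AffHull.compactSpace (G := G)
  haveI := Groth.L08.AffHull.quasiSeparatedSpace (G := G)
  constructor
  · intro hO X _ _ _ _ a x hx
    haveI : IsIntegral X.left := GeometricallyIntegral.isIntegral_of_subsingleton X.hom
    exact act_eq_snd_of_fixed (surjective_appTop_of_bijective hO) a x hx
  · intro h
    rw [Groth.L08.AffHull.bijective_iff_isIso]
    refine isIso_appTop_of_forall_hom fun n g hg => ?_
    haveI := hg
    haveI := locallyOfFiniteType_affSp (k := k) (n := n)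
    haveI : IsAffine (affSp n k).left := inferInstanceAs (IsAffine (Spec _))
    haveI : IsAffineHom (affSp n k).hom := isAffineHom_of_isAffine _
    exact eq_one_of_linAct_trivial g
      (h (affSp n k) (pullAct g (linAct n k)) _ (pullAct_isFixedPt g linAct_isFixedPt_zero))

end Groth.Agent.S18101
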