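import Groth.Statements.S18103
import Groth.Agent.L19.SpecSub.NeutralGeom

set_option autoImplicit false
set_option backward.isDefEq.respectTransparency.types false
set_option backward.isDefEq.respectTransparency false
set_option linter.style.haveILetI false
universe u
open CategoryTheory MonoidalCategory CartesianMonoidalCategory MonObj GrpObj AlgebraicGeometry CategoryTheory.Limits
open AlgGrp

namespace Groth.Agent.S18103

/-- Let S be a scheme and G a smooth S-group scheme of finite presentation; for s ∈ S let d_0(s) be the
dimension of the derived group of the identity component of the geometric fibre of G at s, i.e. the
least dimension of a closed subgroup scheme N of the identity component C (the connected open and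
closed subgroup scheme) which is normal in C and contains all commutators of points of C. Then d_0
does not increase under specialization: for every natural number n, if s specializes to s' (that is,
s' lies in the closure of s) and d_0(s) ≤ n, then d_0(s') ≤ n. (The published statement asserts that
d_0 is lower semicontinuous on S, i.e. that the set of points s with d_0(s) ≤ n is closed; the
published argument reduces to the spectrum of an integral local ring and establishes that this set
is stable under specialization, which is what is stated here. Closedness would in addition need the
set to be locally constructible, which the argument does not address.) -/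
theorem result (S : Scheme.{u}) (G : Over S) [GrpObj G]
    [Smooth G.hom] [QuasiCompact G.hom] [QuasiSeparated G.hom] (n : ℕ) :
    StableUnderSpecialization {s : ↥S | ∃ (C : Over (Spec (CommRingCat.of (AlgebraicClosure (S.residueField s))))) (_ : GrpObj C) (c : C ⟶ Red.geomFibre s G)
      (N : Over (Spec (CommRingCat.of (AlgebraicClosure (S.residueField s))))) (_ : GrpObj N) (i : N ⟶ C),
      IsMonHom c ∧ IsOpenImmersion c.left ∧ IsClosedImmersion c.left ∧ ConnectedSpace ↥C.left ∧
      IsMonHom i ∧ IsClosedImmersion i.left ∧ AlgGrp.IsNormalHom i ∧
      (∀ (T : Over (Spec (CommRingCat.of (AlgebraicClosure (S.residueField s))))) (g h : T ⟶ C), ∃ m : T ⟶ N, g * h * g⁻¹ * h⁻¹ = m ≫ i) ∧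
      topologicalKrullDim ↥N.left ≤ (n : WithBot ℕ∞)} := by
  intro s s' hsp h
  exact Groth.L19.SpecSub.neutral_der_specializes G hsp n h

end Groth.Agent.S18103
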