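import Groth.Statements.S18112
import Groth.Agent.L26.IntValuedPoly

set_option autoImplicit false
universe u
open CategoryTheory CategoryTheory.Limits MonoidalCategory CartesianMonoidalCategory MonObj GrpObj AlgebraicGeometry
open AbVar

namespace Groth.Agent.S18112

/-- Let k be an algebraically closed field of characteristic zero, A an abelian variety over k (a proper
smooth k-group scheme with geometrically connected fibres) of dimension g, (A^t, φ) a given dual
abelian variety of A for the fppf topology with A^t itself an abelian variety, and P an invertible
module on A ×_k A^t whose class is a Poincaré class; for a k-point α of A^t write P_α for the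
restriction of P to A × {α}. Let L be an ample invertible O_A-module with an inverse L' (L ⊗ L' ≅
O_A), negative powers of L meaning powers of L'. For a coherent O_A-module G write h^i_gen(G) for
the generic value of h^i(A, G ⊗ P_α), rendered as the minimum over all k-points α of A^t (the
generic value by semicontinuity), and for b ≥ 1 let b_A : A → A be multiplication by b. Let F be a
coherent O_A-module and i ≥ 0, and consider the i-th cohomological rank function of F with respect
to L, the function on the rationals x = a/b (b ≥ 1) with value b^{-2g} · h^i_gen(b_A^* F ⊗ L^{ab}).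
Suppose that on an open interval (u, v), u < v rational, this function agrees with a polynomial Q
with rational coefficients of degree at most g. Then every coefficient of Q lies in (1/g!)ℤ, i.e. g!
· Q has integer coefficients. (Stated for a coherent module; the source allows any object of the
bounded derived category of coherent modules. The degree bound on Q, which the source takes from the
local polynomiality of rank functions, is made a hypothesis here.) -/
theorem result (k : Type u) [Field k] [IsAlgClosed k] [CharZero k]
    (A At : Over (Spec (CommRingCat.of k))) [GrpObj A] [IsProper A.hom] [Smooth A.hom] [GeometricallyConnected A.hom]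
    [GrpObj At] [IsProper At.hom] [Smooth At.hom] [GeometricallyConnected At.hom]
    (φ : ∀ T : Over (Spec (CommRingCat.of k)), PicF.Cl (PicF.XT A.hom T) → (T ⟶ At))
    (hφ : AbDual.IsDualAV Scheme.fppfPrecoverage A At φ)
    (P : (pullback A.hom At.hom).Modules) (hP : PicF.IsInvertible P)
    (hPξ : AbDual.IsPoincareCl A At φ (PicF.cl P))
    (g : ℕ) (hg : topologicalKrullDim ↥A.left = g)
    (L L' : A.left.Modules) (hL : CohB1.IsAmple L) (hLL' : Nonempty (CohB1.tensorMod L L' ≅ Coh.structureModule A.left))
    (F : A.left.Modules) (hF : Coh.IsCoh F) (i : ℕ) (u v : ℚ) (huv : u < v)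
    (Q : Polynomial ℚ) (hQ : Q.natDegree ≤ g)
    (hpoly : ∀ (a : ℤ) (b : ℕ), 0 < b → u < (a : ℚ) / (b : ℚ) → (a : ℚ) / (b : ℚ) < v →
      ((W4c5cohrankabvar.hgen k P (W4c5cohrankabvar.twist A F L L' b (a * b)) i : ℕ) : ℚ) / (b : ℚ) ^ (2 * g) =
        Q.eval ((a : ℚ) / (b : ℚ)))
    (j : ℕ) : ∃ z : ℤ, (Nat.factorial g : ℚ) * Q.coeff j = (z : ℚ) := by
  exact L26.IntVal.main (e := 2 * g) hQ huv
    (fun a b => W4c5cohrankabvar.hgen k P (W4c5cohrankabvar.twist A F L L' b (a * b)) i) hpoly j

end Groth.Agent.S18112
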