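import Groth.Statements.S18121
import Groth.Agent.L19.Pinch.Point

set_option autoImplicit false
set_option backward.isDefEq.respectTransparency.types false
set_option backward.isDefEq.respectTransparency false
set_option linter.style.haveILetI false
universe u
open Pinch

namespace Groth.Agent.S18121

/-- Let B be a commutative ring, b an element of B, B' := B[z]/(z^2 - b) the rank-two B-algebra with z^2
= b, and Ψ : B[u, v] → B'[t] the B-algebra homomorphism with u ↦ z t and v ↦ t. Then the kernel of Ψ
is the principal ideal generated by u^2 - b v^2, and a polynomial of B'[t] lies in the image of Ψ as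
soon as its constant coefficient lies in B. Equivalently, B[u, v]/(u^2 - b v^2) is the fibre product
of B'[t] and B over B' (for t ↦ 0 and the inclusion of B): the pinching of Spec B' × 𝔸¹ along Spec
B' × {0} by the double cover Spec B' → Spec B is the hypersurface u^2 = b v^2 over B; for B = K[w]
and b = w this is the pinch point u^2 = v^2 w. -/
theorem result (B : Type u) [CommRing B] (b : B) :
    letI Ψ : MvPolynomial (Fin 2) B →ₐ[B] Polynomial (AdjoinRoot (Polynomial.X ^ 2 - Polynomial.C b)) :=
      MvPolynomial.aeval
        ![Polynomial.C (AdjoinRoot.root (Polynomial.X ^ 2 - Polynomial.C b)) * Polynomial.X, Polynomial.X]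
    RingHom.ker Ψ.toRingHom =
        Ideal.span {MvPolynomial.X 0 ^ 2 - MvPolynomial.C b * MvPolynomial.X 1 ^ 2} ∧
      ∀ G : Polynomial (AdjoinRoot (Polynomial.X ^ 2 - Polynomial.C b)),
        (∃ c : B, G.coeff 0 = algebraMap B (AdjoinRoot (Polynomial.X ^ 2 - Polynomial.C b)) c) →
          G ∈ Ψ.range := by
  exact Groth.L19.PinchPoint.ker_and_range b

end Groth.Agent.S18121
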