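import Groth.Statements.S18122
import Groth.Agent.L19.Pinch.Point

set_option autoImplicit false
set_option backward.isDefEq.respectTransparency.types false
set_option backward.isDefEq.respectTransparency false
set_option linter.style.haveILetI false
universe u
open Pinch

namespace Groth.Agent.S18122

/-- Let K be a field in which 2 ≠ 0, S = K[x, y], and R ⊆ S the K-subalgebra generated by x^2, x y and
y; R is the coordinate ring of the pinch point u^2 = v^2 w (u = x y, v = y, w = x^2) and S is its
normalization. Then restriction along R ⊆ S is a bijection from the K-derivations S → S onto the
K-derivations R → S: every K-derivation R → S extends uniquely to S. In sheaf terms, the natural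
injective map from the tangent sheaf of the normalization to the dual of the pulled-back sheaf of
differentials of the pinch point is an isomorphism. (The text works over an algebraically closed
field of characteristic different from 2 and for every semi-smooth variety; only this model case is
stated, and the computation uses only 2 ≠ 0.) -/
theorem result
    (K : Type u) [Field K] [NeZero (2 : K)] :
    letI R : Subalgebra K (MvPolynomial (Fin 2) K) :=
      Algebra.adjoin K {MvPolynomial.X 0 ^ 2, MvPolynomial.X 0 * MvPolynomial.X 1, MvPolynomial.X 1}
    ∀ δ : Derivation K R (MvPolynomial (Fin 2) K),
      ∃! D : Derivation K (MvPolynomial (Fin 2) K) (MvPolynomial (Fin 2) K),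
        ∀ r : R, D (r : MvPolynomial (Fin 2) K) = δ r := by
  exact fun δ => Groth.L19.PinchPoint.existsUnique_extension δ

end Groth.Agent.S18122
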