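import Groth.Statements.S18124
import Groth.Agent.L14.LciT1BC

set_option autoImplicit false
universe u
open CategoryTheory TensorProduct
open Deform

namespace Groth.Agent.S18124

/-- Let K be an algebraically closed field in which 2 ≠ 0, A a finitely generated K-algebra, and P a
flat A-algebra which is a local complete intersection over A (of finite type, with Koszul-regular
kernel for some polynomial presentation) and whose fibres are generically smooth: every prime of P
that is minimal among the primes of its fibre over A lies in the smooth locus of A → P. Let J be an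
ideal of A and P' := P/JP, so that Spec P' = Spec P ×_{Spec A} Spec (A/J) and Ω_{P'/A} =
Ω_{P'/(A/J)}. Then the P'-modules P' ⊗_P Ext^1_P(Ω_{P/A}, P) and Ext^1_{P'}(Ω_{P'/A}, P') are
isomorphic: the first cotangent sheaf T^1 of a flat local complete intersection morphism with
generically smooth fibres commutes with base change along a closed embedding. (The text constructs a
natural base-change map and proves it is an isomorphism; only the existence of an isomorphism on
affine pieces is stated here, the natural map not being available as a named map.) -/
theorem result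
    (K : Type u) [Field K] [IsAlgClosed K] [NeZero (2 : K)]
    (A : Type u) [CommRing A] [Algebra K A] [Algebra.FiniteType K A]
    (P : Type u) [CommRing P] [Algebra A P] [Module.Flat A P] (hlci : LCI.IsLCI A P)
    (hgs : ∀ 𝔓 : PrimeSpectrum P,
      (∀ 𝔔 : PrimeSpectrum P, 𝔔 ≤ 𝔓 →
          𝔔.asIdeal.comap (algebraMap A P) = 𝔓.asIdeal.comap (algebraMap A P) → 𝔔 = 𝔓) →
        𝔓 ∈ Algebra.smoothLocus A P)
    (J : Ideal A) :
    Nonempty
      ((P ⧸ J.map (algebraMap A P)) ⊗[P]
          Abelian.Ext.{u} (ModuleCat.of P (KaehlerDifferential A P)) (ModuleCat.of P P) 1 ≃ₗ[P ⧸ J.map (algebraMap A P)]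
        Abelian.Ext.{u}
          (ModuleCat.of (P ⧸ J.map (algebraMap A P)) (KaehlerDifferential A (P ⧸ J.map (algebraMap A P))))
          (ModuleCat.of (P ⧸ J.map (algebraMap A P)) (P ⧸ J.map (algebraMap A P))) 1) := by
  haveI : IsNoetherianRing A := Algebra.FiniteType.isNoetherianRing K A
  exact Groth.L14.LciT1BC.nonempty_t1_baseChange hlci hgs J

end Groth.Agent.S18124
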