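import Groth.Statements.S18127
import Mathlib.LinearAlgebra.Matrix.Rank
import Mathlib.LinearAlgebra.Matrix.Basis
import Mathlib.LinearAlgebra.FiniteDimensional.Basic
import Mathlib.LinearAlgebra.Matrix.Determinant.Basic

set_option autoImplicit false
universe u
open LocAlg

namespace Groth.Agent.S18127

/-- Let R be a local ring with maximal ideal m and algebraically closed residue field, and M an n × n
matrix over R whose reduction modulo m has rank at most r. Then the determinant of M lies in m^(n −
r). (The published setting is the local ring of germs of holomorphic functions at a point of a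
complex manifold, where this says that the determinant vanishes to order at least n − r at a point
where the matrix has rank at most r.) -/
theorem result
    {R : Type u} [CommRing R] [IsLocalRing R] [IsAlgClosed (IsLocalRing.ResidueField R)]
    {n : ℕ} (M : Matrix (Fin n) (Fin n) R) (r : ℕ)
    (hr : (M.map (IsLocalRing.residue R)).rank ≤ r) :
    M.det ∈ IsLocalRing.maximalIdeal R ^ (n - r) := by
  classical
  let k := IsLocalRing.ResidueField R
  let m₀ := IsLocalRing.maximalIdeal R
  let f := (M.map (IsLocalRing.residue R)).mulVecLin
  have hker : n - r ≤ Module.finrank k (LinearMap.ker f) := by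
    have h1 : Module.finrank k (LinearMap.range f) + Module.finrank k (LinearMap.ker f) = n :=
      f.finrank_range_add_finrank_ker.trans (Module.finrank_fin_fun k)
    have h2 : Module.finrank k (LinearMap.range f) ≤ r := hr
    omega
  obtain ⟨W, hW⟩ := Submodule.exists_isCompl (LinearMap.ker f)
  let b₁ := Module.finBasis k (LinearMap.ker f)
  let b₂ := Module.finBasis k W
  let b := (b₁.prod b₂).map (Submodule.prodEquivOfIsCompl _ _ hW)
  have hcard : Module.finrank k (LinearMap.ker f) + Module.finrank k W = n := by
    rw [Submodule.finrank_add_eq_of_isCompl hW, Module.finrank_fin_fun]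
  let e : Fin (Module.finrank k (LinearMap.ker f)) ⊕ Fin (Module.finrank k W) ≃ Fin n :=
    finSumFinEquiv.trans (finCongr hcard)
  let b' := b.reindex e
  have hlift : ∀ i j, ∃ q : R, IsLocalRing.residue R q = b' j i := fun i j => IsLocalRing.residue_surjective _
  choose q hq using hlift
  let Q : Matrix (Fin n) (Fin n) R := Matrix.of q
  have hQ : IsUnit Q.det := by
    rw [← IsLocalRing.notMem_maximalIdeal]
    intro h
    have h1 : IsLocalRing.residue R Q.det = 0 := (IsLocalRing.residue_eq_zero_iff _).mpr h
    rw [RingHom.map_det] at h1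
    have h2 : (Q.map (IsLocalRing.residue R)) = (Pi.basisFun k (Fin n)).toMatrix b' := by
      ext i j
      simp [Q, hq, Module.Basis.toMatrix_apply]
    rw [RingHom.mapMatrix_apply, h2] at h1
    haveI := (Pi.basisFun k (Fin n)).invertibleToMatrix b'
    exact (Matrix.isUnit_det_of_invertible ((Pi.basisFun k (Fin n)).toMatrix b')).ne_zero h1
  let S : Finset (Fin n) := Finset.univ.image fun l : Fin (Module.finrank k (LinearMap.ker f)) => e (Sum.inl l)
  have hS : n - r ≤ S.card := by
    show n - r ≤ (Finset.univ.image (e ∘ Sum.inl)).card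
    rw [Finset.card_image_of_injective _ (e.injective.comp Sum.inl_injective), Finset.card_univ, Fintype.card_fin]
    exact hker
  have hent : ∀ i, ∀ j ∈ S, (M * Q) i j ∈ m₀ := by
    intro i j hj
    obtain ⟨l, -, rfl⟩ := Finset.mem_image.mp hj
    rw [← IsLocalRing.residue_eq_zero_iff]
    have hbl : b' (e (Sum.inl l)) = (b₁ l : Fin n → k) := by
      simp [b', b, Submodule.coe_prodEquivOfIsCompl', Module.Basis.prod_apply]
    have h0 : f (b₁ l : Fin n → k) = 0 := (b₁ l).2
    rw [← hbl] at h0
    have h1 := congrFun h0 i
    simp only [f, Matrix.mulVecLin_apply, Matrix.mulVec, dotProduct, Matrix.map_apply, Pi.zero_apply] at h1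
    rw [Matrix.mul_apply, map_sum, ← h1]
    exact Finset.sum_congr rfl fun t _ => by rw [map_mul]; simp [Q, hq]
  have hdet : (M * Q).det ∈ m₀ ^ (n - r) := by
    rw [Matrix.det_apply]
    refine Submodule.sum_mem _ fun σ _ => ?_
    rw [Units.smul_def]
    refine zsmul_mem ?_ _
    rw [← Finset.prod_mul_prod_compl S]
    refine Ideal.mul_mem_right _ _ (Ideal.pow_le_pow_right hS ?_)
    have := Ideal.prod_mem_prod (s := S) (I := fun _ => m₀) (x := fun j => (M * Q) (σ j) j) fun j hj => hent _ j hj
    rwa [Finset.prod_const] at this
  obtain ⟨u, hu⟩ := hQ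
  have := Ideal.mul_mem_right (↑u⁻¹ : R) _ hdet
  rwa [Matrix.det_mul, ← hu, Units.mul_inv_cancel_right] at this

end Groth.Agent.S18127
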