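import Groth.Statements.S18129
import Groth.Agent.L03.SurfAdj.Tools
-- import your own Groth.Agent.* helpers here

set_option autoImplicit false
universe u
open CategoryTheory CategoryTheory.Limits AlgebraicGeometry
open Surf

namespace Groth.Agent.S18129

open Groth.L22.Inter Groth.L22.Nef Groth.L22.Big Groth.L03.Euler Groth.L03.SurfNum Groth.L03.SurfAdj
open Groth.L00.Tensor (tensorIso tensorComm tensorUnitLeft tensorUnitRight tensorAssoc)


/-- Let X be a K3 surface over an algebraically closed field k of characteristic zero — an integral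
scheme, smooth and proper over k, of dimension two, carrying an ample invertible module, whose
structure sheaf is a second exterior power of its sheaf of differentials (trivial canonical sheaf)
and with H^1(X, O_X) = 0. If L is an invertible O_X-module which is numerically trivial — the
intersection number (L·M), the alternating sum χ(O_X) − χ(L) − χ(M) + χ(L ⊗ M) of Euler
characteristics, vanishes for every invertible O_X-module M — then L ≅ O_X. Consequently the natural
surjections from Pic(X) to the Néron–Severi group and to the group of numerical equivalence classes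
are bijective. -/
theorem result (k : Type u) [Field k] [IsAlgClosed k] [CharZero k]
    (X : Scheme.{u}) [X.Over (Spec (CommRingCat.of k))] [IsIntegral X]
    [Smooth (X ↘ Spec (CommRingCat.of k))] (hdim : topologicalKrullDim X = 2)
    [IsProper (X ↘ Spec (CommRingCat.of k))]
    (H : X.Modules) (hHa : CohB1.IsAmple H)
    (hK : Canon.IsTopDiff (X ↘ Spec (CommRingCat.of k)) 2 (Coh.structureModule X))
    (hq : Module.finrank k (Coh.HH X (Coh.structureModule X) 1) = 0)
    (L : X.Modules) (hL : PicF.IsInvertible L)
    (hnum : ∀ M : X.Modules, PicF.IsInvertible M →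
      FGA.intNum k X 2 ![L, M] (Coh.structureModule X) = 0) :
    Nonempty (L ≅ Coh.structureModule X) := by
  have hd2 : topologicalKrullDim X = (2 : ℕ) := hdim.trans Nat.cast_ofNat.symm
  have hreg := reg_of_smooth k (X := X)
  obtain ⟨hO, hflip, hflip0, hRR⟩ := canonical k hdim hreg hK
  haveI := Groth.L21.RR.isNoetherian_of_proper (X := X) k
  obtain ⟨L', hL', ⟨e⟩⟩ := Groth.L08.Cube.exists_inverse hL
  have hz : ∀ A : X.Modules, PicF.IsInvertible A → ii k L A = 0 := fun A hA => by
    rw [← intNum_eq_ii k hd2.le, hnum A hA, Int.cast_zero]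
  have hh0 : Module.finrank k (Coh.HH X (Coh.structureModule X) 0) = 1 :=
    Groth.L22.CurveDeg.h0_structure_eq_one k (X := X)
  have hχO : Curv2.euler k X (Coh.structureModule X) = 2 := by
    rw [euler_three k hd2, show Module.finrank k (Coh.HH X (Coh.structureModule X) 2) = 1 from
      (hflip0 2 le_rfl).trans hh0, hq, hh0]
    norm_num
  have hχ := hRR L hL
  rw [hz L hL, hz _ hO, hχO, euler_three k hd2 L] at hχ
  by_cases h0 : Module.finrank k (Coh.HH X L 0) = 0
  · have h2 : Module.finrank k (Coh.HH X L' 0) = Module.finrank k (Coh.HH X L 2) := by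
      refine Eq.trans ?_ (hflip L L' hL ⟨e⟩ 0 (Nat.zero_le 2))
      exact (finrank_HH_of_iso (tensorUnitLeft L') 0).symm
    have hpos : 0 < Module.finrank k (Coh.HH X L' 0) := by
      by_contra hle
      rw [h0, ← h2, Nat.eq_zero_of_not_pos hle] at hχ
      push_cast at hχ
      have : (0 : ℚ) ≤ (Module.finrank k (Coh.HH X L 1) : ℚ) := Nat.cast_nonneg _
      linarith
    obtain ⟨e2⟩ := (section_facts k hd2 hL' hHa (Module.nontrivial_of_finrank_pos hpos)).2
      (by rw [Gram.ii_inverse k hd2.le hL hL' hHa.1 e, hz H hHa.1, neg_zero])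
    exact ⟨(tensorUnitRight L).symm ≪≫ tensorIso (Iso.refl L) e2 ≪≫ e⟩
  · obtain ⟨e1⟩ := (section_facts k hd2 hL hHa (Module.nontrivial_of_finrank_pos (Nat.pos_of_ne_zero h0))).2
      (hz H hHa.1)
    exact ⟨e1.symm⟩

end Groth.Agent.S18129
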