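import Groth.Statements.S18132
import Groth.Agent.L03.ShStab.LMBundle
import Groth.Agent.L08.Cube.SmoothStalk

set_option autoImplicit false
universe u
open CategoryTheory CategoryTheory.Limits AlgebraicGeometry
open Surf

namespace Groth.Agent.S18132

/-- Simplicity of Lazarsfeld–Mukai bundles: let X be a K3 surface over an algebraically closed field k
of characteristic zero — an integral scheme, smooth and proper over k, of dimension two, carrying an
ample invertible module, whose structure sheaf is a second exterior power of its sheaf of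
differentials (trivial canonical sheaf) and with H^1(X, O_X) = 0. Let i : C → X be a closed
immersion over k with C integral, smooth over k and of dimension one, whose ideal sheaf I_C is
invertible with the Picard group of X infinite cyclic generated by its class. Let A be an invertible
O_C-module and lam : O_X^e → i_*A an epimorphism from the free module of rank e inducing a bijection
H^0(X, O_X^e) → H^0(X, i_*A), with kernel F (the Lazarsfeld–Mukai bundle of (C, A)). Then F is
simple: for every endomorphism φ of F there is c ∈ k with φ(s) = c·s for every local section s of F.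
(The published proof passes through the slope-stability of F with respect to O_X(C): a nonzero
endomorphism of a slope-stable torsion-free module is an isomorphism, and subtracting an eigenvalue
of φ at a closed point then forces φ to be a scalar.) -/
theorem result (k : Type u) [Field k] [IsAlgClosed k] [CharZero k]
    (X : Scheme.{u}) [X.Over (Spec (CommRingCat.of k))] [IsIntegral X]
    [Smooth (X ↘ Spec (CommRingCat.of k))] (hdim : topologicalKrullDim X = 2)
    [IsProper (X ↘ Spec (CommRingCat.of k))]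
    (H : X.Modules) (hHa : CohB1.IsAmple H)
    (hK : Canon.IsTopDiff (X ↘ Spec (CommRingCat.of k)) 2 (Coh.structureModule X))
    (hq : Module.finrank k (Coh.HH X (Coh.structureModule X) 1) = 0)
    [PicGrp.Law X]
    (C : Scheme.{u}) [C.Over (Spec (CommRingCat.of k))] [IsIntegral C]
    [Smooth (C ↘ Spec (CommRingCat.of k))] (hC : topologicalKrullDim C = 1)
    (i : C ⟶ X) [IsClosedImmersion i] (hi : i ≫ (X ↘ Spec (CommRingCat.of k)) = C ↘ Spec (CommRingCat.of k))
    (hI : PicF.IsInvertible (ClSub.idealMod i.ker))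
    (hgen : ∀ c : PicLoc.PicSet X, ∃ n : ℤ, c = PicGrp.cls (ClSub.idealMod i.ker) hI ^ n)
    (hfree : ∀ n : ℤ, PicGrp.cls (ClSub.idealMod i.ker) hI ^ n = 1 → n = 0)
    (A : C.Modules) (hA : PicF.IsInvertible A) (e : ℕ)
    (lam : FlatMod.freeMod X e ⟶ (Coh.push i).obj A) [Epi lam]
    (hlam : Function.Bijective (Sheaf.H.map ((SheafOfModules.toSheaf _).map lam) 0))
    (φ : kernel lam ⟶ kernel lam) :
    ∃ c : k, ∀ (V : X.Opens) (s : (kernel lam).val.obj (Opposite.op V)),
        (φ.val.app (Opposite.op V)) s =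
          (X.ringCatSheaf.obj.map (homOfLE (le_top : V ≤ ⊤)).op
            (Coh.toGlobal (X ↘ Spec (CommRingCat.of k)) c : X.ringCatSheaf.obj.obj (Opposite.op ⊤))) • s := by
  have hreg : ∀ x : X, IsRegularLocalRing (X.presheaf.stalk x) :=
    fun x => Groth.L08.Cube.isRegularLocalRing_of_smooth (X ↘ Spec (CommRingCat.of k)) x
  obtain ⟨Hc, hHc, hinv⟩ : ∃ Hc : X.Modules, PicF.IsInvertible Hc ∧
      ClSub.IsInverseOf Hc (ClSub.idealMod i.ker) := by
    obtain ⟨Hc, hcl, hHc⟩ := (PicGrp.cls (ClSub.idealMod i.ker) hI)⁻¹.2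
    refine ⟨Hc, hHc, (PicGrp.cls_mul_cls_eq_one_iff hHc hI).1 ?_⟩
    rw [show PicGrp.cls Hc hHc = (PicGrp.cls (ClSub.idealMod i.ker) hI)⁻¹ from Subtype.ext hcl, inv_mul_cancel]
  have hgen' : ∀ c : PicLoc.PicSet X, ∃ n : ℤ, c = PicGrp.cls Hc hHc ^ n := fun c => by
    obtain ⟨n, rfl⟩ := hgen c
    exact ⟨-n, by rw [← PicGrp.cls_inv_eq_cls hHc hI hinv, inv_zpow']⟩
  obtain ⟨σ, hσ⟩ := Groth.L03.ShStab.LMBundle.exists_dual_section hI hinv
  have hHca := Groth.L03.ShStab.LMBundle.isAmple_generator (k := k) hreg (show 1 ≤ 2 by omega)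
    (hdim.trans Nat.cast_ofNat.symm) hHc hgen' hσ hHa
  obtain ⟨h1, h2, h3, h4⟩ := Groth.L03.ShStab.LMBundle.isMuStable_kernel
    hreg hdim hC i hi hI hgen hHca hinv hA lam
    (fun a b hab => by
      have hab' := congrArg (Groth.L21.RR.e0 _).symm hab
      obtain ⟨a, rfl⟩ := (Groth.L21.RR.e0 _).surjective a
      obtain ⟨b, rfl⟩ := (Groth.L21.RR.e0 _).surjective b
      rw [← Groth.L21.RR.e0_hmap, ← Groth.L21.RR.e0_hmap, AddEquiv.symm_apply_apply, AddEquiv.symm_apply_apply] at hab'
      rw [hlam.1 hab'])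
  obtain ⟨c, rfl⟩ := Groth.L03.ShStab.Scalar.exists_eq_sc_of_isIso (k := k) h4.1 h4.2.1
    (fun ψ hψ => Groth.L03.ShStab.Mu.isIso_endo hHca (show 1 ≤ 2 by omega) h3 h4 hψ) φ
  exact ⟨c, fun V s => rfl⟩

end Groth.Agent.S18132
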