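import Groth.Statements.S18130
import Groth.Agent.L03.SurfExt.BN
import Groth.Agent.L03.ShStab.RankOneSlope
import Groth.Agent.S18132
-- import your own Groth.Agent.* helpers here

set_option autoImplicit false
universe u
open CategoryTheory CategoryTheory.Limits AlgebraicGeometry
open Surf

namespace Groth.Agent.S18130

open Groth.L03.SurfExt

/-- Let X be a K3 surface over an algebraically closed field k of characteristic zero — an integral
scheme, smooth and proper over k, of dimension two, carrying an ample invertible module, whose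
structure sheaf is a second exterior power of its sheaf of differentials (trivial canonical sheaf)
and with H^1(X, O_X) = 0. Let i : C → X be a closed immersion over k with C integral, smooth over k
and of dimension one, whose ideal sheaf I_C is invertible and such that the Picard group of X is
infinite cyclic, generated by the class of I_C (equivalently of O_X(C)). Then for every invertible
O_C-module A the Brill–Noether number is non-negative: h^0(C, A) · h^1(C, A) ≤ g(C), where g(C) =
dim_k H^1(C, O_C). -/
theorem result (k : Type u) [Field k] [IsAlgClosed k] [CharZero k]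
    (X : Scheme.{u}) [X.Over (Spec (CommRingCat.of k))] [IsIntegral X]
    [Smooth (X ↘ Spec (CommRingCat.of k))] (hdim : topologicalKrullDim X = 2)
    [IsProper (X ↘ Spec (CommRingCat.of k))]
    (H : X.Modules) (hHa : CohB1.IsAmple H)
    (hK : Canon.IsTopDiff (X ↘ Spec (CommRingCat.of k)) 2 (Coh.structureModule X))
    (hq : Module.finrank k (Coh.HH X (Coh.structureModule X) 1) = 0)
    [PicGrp.Law X]
    (C : Scheme.{u}) [C.Over (Spec (CommRingCat.of k))] [IsIntegral C]
    [Smooth (C ↘ Spec (CommRingCat.of k))] (hC : topologicalKrullDim C = 1)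
    (i : C ⟶ X) [IsClosedImmersion i] (hi : i ≫ (X ↘ Spec (CommRingCat.of k)) = C ↘ Spec (CommRingCat.of k))
    (hI : PicF.IsInvertible (ClSub.idealMod i.ker))
    (hgen : ∀ c : PicLoc.PicSet X, ∃ n : ℤ, c = PicGrp.cls (ClSub.idealMod i.ker) hI ^ n)
    (hfree : ∀ n : ℤ, PicGrp.cls (ClSub.idealMod i.ker) hI ^ n = 1 → n = 0)
    (A : C.Modules) (hA : PicF.IsInvertible A) :
    Module.finrank k (Coh.HH C A 0) * Module.finrank k (Coh.HH C A 1) ≤ Curv2.genus k C := by
  rcases Nat.eq_zero_or_pos (Module.finrank k (Coh.HH C A 0)) with h0 | h0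
  · simp [h0]
  have hfree0 := hfree
  obtain ⟨A', e, lam, hA', hepi, hlam, h0', h1'⟩ := exists_generated_part (k := k) hC i hi A hA h0.ne'
  haveI := hepi
  haveI := Groth.L21.RR.isNoetherian_of_proper (X := X) k
  have hreg := fun x => Groth.L03.SurfAdj.reg_of_smooth k (X := X) x
  have hproj := Groth.L03.SurfAdj.exists_proj k hHa
  obtain ⟨hOi, ht⟩ := exists_dualizing_topDiff k hdim hreg hproj hK
  have c : Ctx k X (Coh.structureModule X) := ⟨hreg, hdim, hproj, hOi, ht⟩
  have hgood := good_push i hdim hC (Groth.L18.Ample.isCoh_of_isInvertible hA')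
    (fun x => Groth.L03.ShStab.RankOneSlope.torsionFree_of_invertible hA' x)
  have hfree : FlatMod.IsFinLocFree (FlatMod.freeMod X e) :=
    Groth.L29.DC.isFinLocFree_coprod_fin e _ fun _ =>
      Groth.L20.ResDescent.isFinLocFree_of_isInvertible (Groth.L18.Ample.isInvertible_structureModule X)
  have hF : FlatMod.IsFinLocFree (kernel lam) := isFinLocFree_kernel hreg hdim.le hfree hgood.coh hgood.depth lam
  have hle : Module.finrank k (kernel lam ⟶ kernel lam) ≤ 1 := by
    refine finrank_le_one (𝟙 (kernel lam)) fun φ => ?_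
    obtain ⟨a, ha⟩ := Groth.Agent.S18132.result k X hdim H hHa hK hq C hC i hi hI hgen hfree0 A' hA' e lam hlam φ
    refine ⟨a, ?_⟩
    rw [KLin.smul_id]
    refine Scheme.Modules.hom_ext _ _ fun V => ?_
    ext s
    exact (ha V s).symm
  obtain ⟨hh2, hh0⟩ := c.finrank_end_two hF
  have hχ := euler_end c hq hC i hi A' hA' e lam hlam
  have hN : ∀ n, 3 ≤ n → Subsingleton (Coh.HH X (RefHull.homSh (kernel lam) (kernel lam)) n) := fun n hn =>
    Groth.L22.Inter.subsingleton_HH_of_dim (d := 2) (hdim.trans Nat.cast_ofNat.symm).le _ (by omega)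
  rw [Groth.L03.Euler.euler_eq_sum hN] at hχ
  simp only [Finset.sum_range_succ, Finset.sum_range_zero] at hχ
  rw [hh0, hh2, h0'] at hχ
  have hmul : Module.finrank k (Coh.HH C A 0) * Module.finrank k (Coh.HH C A 1) ≤
      Module.finrank k (Coh.HH C A 0) * Module.finrank k (Coh.HH C A' 1) := Nat.mul_le_mul_left _ h1'
  have h1 : (Module.finrank k (kernel lam ⟶ kernel lam) : ℤ) ≤ 1 := by exact_mod_cast hle
  norm_num at hχ
  have hg : ((Module.finrank k (Coh.HH C A 0) * Module.finrank k (Coh.HH C A' 1) : ℕ) : ℤ) ≤ Curv2.genus k C := by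
    push_cast
    linarith
  exact hmul.trans (by exact_mod_cast hg)

end Groth.Agent.S18130
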