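import Groth.Statements.S18134
import Groth.Agent.L03.SurfExt.LocFreeDual
import Groth.Agent.L03.SurfAdj.Embed
import Groth.Agent.L03.ShStab.RankOneSlope
-- import your own Groth.Agent.* helpers here

set_option autoImplicit false
universe u
open CategoryTheory CategoryTheory.Limits AlgebraicGeometry
open Surf

namespace Groth.Agent.S18134

open Groth.L03.SurfExt

/-- The step h^1 = 1: let X be a K3 surface over an algebraically closed field k of characteristic zero
— an integral scheme, smooth and proper over k, of dimension two, carrying an ample invertible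
module, whose structure sheaf is a second exterior power of its sheaf of differentials (trivial
canonical sheaf) and with H^1(X, O_X) = 0. Let i : C → X be a closed immersion over k with C
integral, smooth over k and of dimension one, A an invertible O_C-module and lam : O_X^e → i_*A an
epimorphism from the free module of rank e inducing a bijection H^0(X, O_X^e) → H^0(X, i_*A), with
kernel F (the Lazarsfeld–Mukai bundle). If F is simple, in the sense that H^0(X, Hom(F, F)) is
one-dimensional, then H^1(X, F^∨ ⊗ i_*A) is one-dimensional, F^∨ = Hom(F, O_X) being the dual. (The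
published lemma, for a K3 surface whose Picard group is generated by the class of C, asserts that
H^1 of the normal-bundle map of C in X × P(V), V = H^0(C, A), is an isomorphism; this row assumes
the simplicity that the Picard hypothesis supplies and states the cohomological equality that
assertion reduces to.) -/
theorem result (k : Type u) [Field k] [IsAlgClosed k] [CharZero k]
    (X : Scheme.{u}) [X.Over (Spec (CommRingCat.of k))] [IsIntegral X]
    [Smooth (X ↘ Spec (CommRingCat.of k))] (hdim : topologicalKrullDim X = 2)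
    [IsProper (X ↘ Spec (CommRingCat.of k))]
    (H : X.Modules) (hHa : CohB1.IsAmple H)
    (hK : Canon.IsTopDiff (X ↘ Spec (CommRingCat.of k)) 2 (Coh.structureModule X))
    (hq : Module.finrank k (Coh.HH X (Coh.structureModule X) 1) = 0)
    (C : Scheme.{u}) [C.Over (Spec (CommRingCat.of k))] [IsIntegral C]
    [Smooth (C ↘ Spec (CommRingCat.of k))] (hC : topologicalKrullDim C = 1)
    (i : C ⟶ X) [IsClosedImmersion i] (hi : i ≫ (X ↘ Spec (CommRingCat.of k)) = C ↘ Spec (CommRingCat.of k))
    (A : C.Modules) (hA : PicF.IsInvertible A) (e : ℕ)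
    (lam : FlatMod.freeMod X e ⟶ (Coh.push i).obj A) [Epi lam]
    (hlam : Function.Bijective (Sheaf.H.map ((SheafOfModules.toSheaf _).map lam) 0))
    (hsimple : Module.finrank k (Coh.HH X (RefHull.homSh (kernel lam) (kernel lam)) 0) = 1) :
    Module.finrank k (Coh.HH X (CohB1.tensorMod (RefHull.dual (kernel lam)) ((Coh.push i).obj A)) 1) = 1 := by
  haveI := Groth.L21.RR.isNoetherian_of_proper (X := X) k
  have hreg := fun x => Groth.L03.SurfAdj.reg_of_smooth k (X := X) x
  have hproj := Groth.L03.SurfAdj.exists_proj k hHa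
  obtain ⟨hOi, ht⟩ := exists_dualizing_topDiff k hdim hreg hproj hK
  have c : Ctx k X (Coh.structureModule X) := ⟨hreg, hdim, hproj, hOi, ht⟩
  let O := Coh.structureModule X
  have hO := Groth.L18.Ample.isInvertible_structureModule X
  have hgood := good_push i hdim hC (Groth.L18.Ample.isCoh_of_isInvertible hA)
    (fun x => Groth.L03.ShStab.RankOneSlope.torsionFree_of_invertible hA x)
  have hfree : FlatMod.IsFinLocFree (FlatMod.freeMod X e) :=
    Groth.L29.DC.isFinLocFree_coprod_fin e _ fun _ => Groth.L20.ResDescent.isFinLocFree_of_isInvertible hO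
  have hF : FlatMod.IsFinLocFree (kernel lam) := isFinLocFree_kernel hreg hdim.le hfree hgood.coh hgood.depth lam
  let S := ShortComplex.mk (kernel.ι lam) lam (kernel.condition lam)
  have hS : S.ShortExact := { exact := ShortComplex.exact_kernel lam }
  have hO1 : Subsingleton (Coh.HH X O 1) := by
    haveI := Groth.L16.ProperFinite.finite_HH k (Groth.L18.Ample.isCoh_of_isInvertible hO) 1
    exact Module.finrank_zero_iff.1 hq
  have hFk := Groth.L16.NegPow.isCoh_of_isFinLocFree hF
  -- the cohomology of `F`
  have hF0 : Subsingleton (Coh.HH X (kernel lam) 0) := subsingleton_of_forall_eq 0 fun z => by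
    refine Groth.L03.Euler.injective_hmap_zero (S := S) hS ?_
    refine (hlam.1 ?_).trans (map_zero _).symm
    refine Eq.trans ?_ (map_zero _).symm
    exact (Groth.L16.CohLinear.exact_hmap_hmap (S := S) hS 0 _).2 ⟨z, rfl⟩
  have hF1 : Subsingleton (Coh.HH X (kernel lam) 1) := subsingleton_of_forall_eq 0 fun z => by
    obtain ⟨y, rfl⟩ := (Groth.L16.CohLinear.exact_delta_hmap (S := S) hS 0 z).1
      (@Subsingleton.elim _ (Groth.L16.ProjSpace.subsingleton_sigma _ 1 fun _ => hO1) _ _)
    obtain ⟨x, rfl⟩ := hlam.2 y
    exact (Groth.L16.CohLinear.exact_hmap_delta (S := S) hS 0 _).2 ⟨x, rfl⟩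
  -- the dual
  let F' := Groth.L16.HomSh.homMod (kernel lam) O
  have hF' : FlatMod.IsFinLocFree F' := isFinLocFree_homMod hF hO
  let eD : RefHull.dual (kernel lam) ≅ F' := @asIso _ _ _ _ (Groth.L15.Ref.toHomMod (kernel lam) O)
    (Groth.L15.Ref.isIso_toHomMod _ _)
  have hF'v : ∀ q, 1 ≤ q → q ≤ 2 → Subsingleton (Coh.HH X F' q) := fun q h1 h2 => by
    haveI := Groth.L16.ProperFinite.finite_HH k (Groth.L16.NegPow.isCoh_of_isFinLocFree hF') q
    refine Module.finrank_zero_iff.1 ((c.finrank_HH_dual hF h2).trans ?_)
    rcases (show q = 1 ∨ q = 2 by omega) with rfl | rfl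
    · haveI := hF1
      exact Module.finrank_zero_of_subsingleton
    · haveI := hF0
      exact Module.finrank_zero_of_subsingleton
  let T := S.map (Groth.L00.Tensor.tensorRightF F')
  have hT : T.ShortExact := Groth.L13.PairBlow.shortExact_tensor hF' hS
  have hmid : ∀ q, 1 ≤ q → q ≤ 2 → Subsingleton (Coh.HH X T.X₂ q) := fun q h1 h2 =>
    Groth.L03.ShStab.QuadricCoh.subsingleton_sigma_tensor (fun _ : Fin e => O) F' q fun _ =>
      Groth.L16.ProjSpace.subsingleton_of_iso (Groth.L00.Tensor.tensorUnitLeft F') q (hF'v q h1 h2)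
  have hd : Function.Bijective (Groth.L16.CohLinear.overLin k (Groth.L16.CohLinear.delta hT 1)) := by
    refine ⟨(injective_iff_map_eq_zero _).2 fun y hy => ?_, fun y =>
      (Groth.L16.CohLinear.exact_delta_hmap hT 1 y).1 (@Subsingleton.elim _ (hmid 2 (by omega) le_rfl) _ _)⟩
    obtain ⟨z, rfl⟩ := (Groth.L16.CohLinear.exact_hmap_delta hT 1 y).1 hy
    rw [@Subsingleton.elim _ (hmid 1 le_rfl (by omega)) z 0]
    exact map_zero _
  -- the top cohomology of the endomorphisms
  let G := CohB1.tensorMod F' (kernel lam)
  have hG : FlatMod.IsFinLocFree G := Groth.L29.DC.isFinLocFree_tensor hF' hF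
  have h2 : Module.finrank k (Coh.HH X G 2) = 1 := by
    have h := c.finrank_HH_dual hG (i := 0) (Nat.zero_le _)
    rw [Nat.sub_zero, ← finrank_hom (k := k) G O] at h
    rw [← h, (curryLin (k := k) F' (kernel lam) O).finrank_eq]
    haveI := isIso_bd hF hO
    rw [← (Linear.homCongr k (Iso.refl (kernel lam)) (asIso (bd (kernel lam) O))).finrank_eq, finrank_hom,
      ← hsimple]
    exact (Groth.L03.Euler.finrank_HH_of_iso (@asIso _ _ _ _ (Groth.L15.Ref.toHomMod (kernel lam) (kernel lam))
      (Groth.L15.Ref.isIso_toHomMod _ _)) 0).symm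
  refine Eq.trans ?_ h2
  rw [Groth.L03.Euler.finrank_HH_of_iso (Groth.L00.Tensor.tensorIso eD (CategoryTheory.Iso.refl _) ≪≫ Groth.L00.Tensor.tensorComm _ _),
    Groth.L03.Euler.finrank_HH_of_iso (Groth.L00.Tensor.tensorComm F' (kernel lam))]
  exact (LinearEquiv.ofBijective _ hd).finrank_eq

end Groth.Agent.S18134
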