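import Groth.Statements.S18136
import Mathlib.RingTheory.Ideal.Cotangent
import Mathlib.RingTheory.RegularLocalRing.Defs
import Mathlib.Data.Fintype.Order

set_option autoImplicit false
universe u v
open IsLocalRing
open CAlg

namespace Groth.Agent.S18136

/-- Let A be a regular local ring with maximal ideal m and residue field k, written as a directed
colimit of regular local rings A_j with local transition maps (compatible maps ψ_j : A_j → A that
are jointly surjective, an element dying in A dying at some later stage). Let f_1, …, f_c, g_1, …,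
g_d ∈ m have linearly independent classes in m/m^2 over k, and put I = (f_1, …, f_c) ⊆ I' = (f_1, …,
f_c, g_1, …, g_d) (so I is generated by part of a regular system of parameters of A and I'/I by part
of a regular system of parameters of A/I; for a regular local ring the condition on I ⊆ I' is stated
through such a joint family). Then there are an index j_0 and ideals I_j ⊆ I'_j ⊆ A_j for j ≥ j_0
such that: each I_j is generated by c elements and I'_j by these together with d further elements of
the maximal ideal m_j, the c + d classes in m_j/m_j^2 being linearly independent over the residue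
field of A_j; the transition maps carry I_i, I'_i onto generators of I_j, I'_j for j_0 ≤ i ≤ j; and
I_j, I'_j generate I, I' in A. -/
theorem result
    {A : Type u} [CommRing A] [IsRegularLocalRing A]
    {ι : Type v} [Preorder ι] [Nonempty ι] [IsDirected ι (· ≤ ·)]
    (B : ι → Type u) [∀ j, CommRing (B j)] [∀ j, IsRegularLocalRing (B j)]
    (φ : ∀ i j, i ≤ j → (B i →+* B j)) (hφloc : ∀ i j (h : i ≤ j), IsLocalHom (φ i j h))
    (hφ : ∀ i j l (hij : i ≤ j) (hjl : j ≤ l), (φ j l hjl).comp (φ i j hij) = φ i l (hij.trans hjl))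
    (ψ : ∀ j, B j →+* A) (hψ : ∀ i j (h : i ≤ j), (ψ j).comp (φ i j h) = ψ i)
    (hsurj : ∀ a : A, ∃ j, ∃ x : B j, ψ j x = a)
    (hker : ∀ j (x : B j), ψ j x = 0 → ∃ l, ∃ h : j ≤ l, φ j l h x = 0)
    (c d : ℕ) (f : Fin c → maximalIdeal A) (g : Fin d → maximalIdeal A)
    (hind : LinearIndependent (ResidueField A) (⇑(maximalIdeal A).toCotangent ∘ Sum.elim f g)) :
    ∃ j₀ : ι, ∃ (P : ∀ j, j₀ ≤ j → Ideal (B j)) (Q : ∀ j, j₀ ≤ j → Ideal (B j)),
      (∀ j (hj : j₀ ≤ j), ∃ (F : Fin c → maximalIdeal (B j)) (E : Fin d → maximalIdeal (B j)),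
        LinearIndependent (ResidueField (B j)) (⇑(maximalIdeal (B j)).toCotangent ∘ Sum.elim F E) ∧
        P j hj = Ideal.span (Set.range (fun s => (F s : B j))) ∧
        Q j hj = P j hj ⊔ Ideal.span (Set.range (fun t => (E t : B j)))) ∧
      (∀ i j (hi : j₀ ≤ i) (hij : i ≤ j),
        (P i hi).map (φ i j hij) = P j (le_trans hi hij) ∧ (Q i hi).map (φ i j hij) = Q j (le_trans hi hij)) ∧
      (∀ j (hj : j₀ ≤ j),
        (P j hj).map (ψ j) = Ideal.span (Set.range (fun s => (f s : A))) ∧
        (Q j hj).map (ψ j) = Ideal.span (Set.range (fun s => (f s : A))) ⊔ Ideal.span (Set.range (fun t => (g t : A)))) := by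
  classical
  have hloc : ∀ j (x : B j), x ∈ maximalIdeal (B j) → ψ j x ∈ maximalIdeal A := by
    intro j x hx
    by_contra h
    simp only [mem_maximalIdeal, mem_nonunits_iff, not_not] at h hx
    obtain ⟨v, hv⟩ := h.exists_right_inv
    obtain ⟨i, y, hy⟩ := hsurj v
    obtain ⟨l, hjl, hil⟩ := exists_ge_ge j i
    obtain ⟨m, hlm, hm⟩ := hker l (φ j l hjl x * φ i l hil y - 1) (by
      rw [map_sub, map_mul, map_one, ← RingHom.comp_apply, hψ, ← RingHom.comp_apply, hψ, hy, hv, sub_self])
    rw [map_sub, map_mul, map_one, ← RingHom.comp_apply, hφ, sub_eq_zero] at hm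
    haveI := hφloc j m (hjl.trans hlm)
    exact hx (IsLocalHom.map_nonunit (f := φ j m (hjl.trans hlm)) x (IsUnit.of_mul_eq_one _ hm))
  let h : Fin c ⊕ Fin d → A := fun s => ((Sum.elim f g s : maximalIdeal A) : A)
  have hh : ∀ s, ∃ j, ∃ x : B j, ψ j x = h s := fun s => hsurj _
  choose jf xf hxf using hh
  obtain ⟨j₀, hj₀⟩ := Finite.exists_le jf
  let X : ∀ j, j₀ ≤ j → Fin c ⊕ Fin d → B j := fun j hj s => φ (jf s) j ((hj₀ s).trans hj) (xf s)
  have hX : ∀ j hj s, ψ j (X j hj s) = h s := fun j hj s => by
    simp only [X, ← RingHom.comp_apply, hψ, hxf]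
  have hXφ : ∀ i j (hi : j₀ ≤ i) (hij : i ≤ j) s, φ i j hij (X i hi s) = X j (hi.trans hij) s := fun i j hi hij s => by
    simp only [X, ← RingHom.comp_apply, hφ]
  have hXm : ∀ j hj s, X j hj s ∈ maximalIdeal (B j) := by
    intro j hj s
    by_contra hn
    simp only [mem_maximalIdeal, mem_nonunits_iff, not_not] at hn
    have := hn.map (ψ j)
    rw [hX j hj] at this
    exact (Sum.elim f g s).2 this
  refine ⟨j₀, fun j hj => Ideal.span (Set.range fun s => X j hj (Sum.inl s)),
    fun j hj => Ideal.span (Set.range fun s => X j hj (Sum.inl s)) ⊔ Ideal.span (Set.range fun t => X j hj (Sum.inr t)), ?_, ?_, ?_⟩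
  · intro j hj
    refine ⟨fun s => ⟨X j hj (Sum.inl s), hXm j hj _⟩, fun t => ⟨X j hj (Sum.inr t), hXm j hj _⟩, ?_, rfl, rfl⟩
    rw [Fintype.linearIndependent_iff] at hind ⊢
    intro a ha
    choose a' ha' using fun s => residue_surjective (R := B j) (a s)
    let Y : Fin c ⊕ Fin d → maximalIdeal (B j) := fun s => ⟨X j hj s, hXm j hj s⟩
    have hY : ∀ s, Sum.elim (fun s => (⟨X j hj (Sum.inl s), hXm j hj _⟩ : maximalIdeal (B j))) (fun t => ⟨X j hj (Sum.inr t), hXm j hj _⟩) s = Y s := by
      rintro (s | s) <;> rfl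
    have hz : (maximalIdeal (B j)).toCotangent (∑ s, a' s • Y s) = 0 := by
      rw [map_sum, ← ha]
      refine Finset.sum_congr rfl fun s _ => ?_
      rw [map_smul, Function.comp_apply, hY, ← ha' s]
      rfl
    rw [Ideal.toCotangent_eq_zero] at hz
    have hz' := Ideal.mem_map_of_mem (ψ j) hz
    rw [Ideal.map_pow] at hz'
    have hle : (maximalIdeal (B j)).map (ψ j) ≤ maximalIdeal A := Ideal.map_le_iff_le_comap.mpr (hloc j)
    have hz'' := Ideal.pow_right_mono hle 2 hz'
    have hb := hind (fun s => residue A (ψ j (a' s))) (by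
      rw [← (maximalIdeal A).toCotangent_eq_zero (∑ s, ψ j (a' s) • Sum.elim f g s) |>.mpr (by
        convert hz'' using 1
        simp [Y, hX, h, Submodule.coe_sum]), map_sum]
      refine Finset.sum_congr rfl fun s _ => ?_
      rw [map_smul]; rfl)
    intro s
    rw [← ha' s, residue_eq_zero_iff]
    by_contra hn
    simp only [mem_maximalIdeal, mem_nonunits_iff, not_not] at hn
    exact ((residue_ne_zero_iff_isUnit _).mpr (hn.map (ψ j))) (hb s)
  · intro i j hi hij
    simp only [Ideal.map_sup, Ideal.map_span, ← Set.range_comp, Function.comp_def, hXφ i j hi hij, and_self]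
  · intro j hj
    simp only [Ideal.map_sup, Ideal.map_span, ← Set.range_comp, Function.comp_def, hX j hj, h, Sum.elim_inl, Sum.elim_inr, and_self]

end Groth.Agent.S18136
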