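import Groth.Statements.S1814
import Groth.Agent.L04.RGamma.GM

set_option autoImplicit false
universe u
open CategoryTheory
attribute [local instance] HasDerivedCategory.standard
open LocCoh

namespace Groth.Agent.S1814

/-- Greenlees–May duality over a Noetherian ring. Let A be a Noetherian ring, I an ideal and K an object
of D(A); assume that RΓ_I exists as a total right derived functor and that derived I-completion (the
left adjoint to the inclusion of derived complete objects) exists. Then RΓ_I applied to the derived
completion of K is isomorphic to RΓ_I(K), and the derived completion of RΓ_I(K) is isomorphic to the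
derived completion of K. Stated here for a Noetherian ring, where local cohomology with support in
V(I) agrees with RΓ_I. -/
theorem result (A : Type u) [CommRing A] [IsNoetherianRing A] (I : Ideal A) [DRing.HasRgammaI I] [DRing.HasDerivedCompletion I] (K : Dual.D A) : Nonempty ((DRing.RgammaI I).obj ((DRing.derivedCompletion I).obj K).obj ≅ (DRing.RgammaI I).obj K) ∧ Nonempty ((DRing.derivedCompletion I).obj ((DRing.RgammaI I).obj K) ≅ (DRing.derivedCompletion I).obj K) := by

    open CategoryTheory Groth.L04.RGamma in
    have hI : I.FG := IsNoetherian.noetherian I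
    constructor
    · let R := (DRing.RgammaI I).obj K
      let R' := (DRing.RgammaI I).obj ((DRing.derivedCompletion I).obj K).obj
      let u : R ⟶ R' := (DRing.RgammaI I).map (DRing.toDerivedCompletion I K)
      have hu : ∀ T, IsTors I T → Function.Bijective fun a : T ⟶ R => a ≫ u := fun T hT => by
        have hεbij : ∀ X : Dual.D A, Function.Bijective
            fun a : T ⟶ (DRing.RgammaI I).obj X => a ≫ (DRing.RgammaIε I).app X := fun X =>
          ⟨fun a b h => injective_comp_ε I hT X a b h, exists_comp_ε I hT X⟩
        have hsq : (fun a : T ⟶ R' => a ≫ (DRing.RgammaIε I).app _) ∘ (fun a : T ⟶ R => a ≫ u) =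
            (fun a : T ⟶ K => a ≫ DRing.toDerivedCompletion I K) ∘ fun a => a ≫ (DRing.RgammaIε I).app K := by
          funext a
          change (a ≫ u) ≫ _ = (a ≫ _) ≫ _
          rw [Category.assoc, Category.assoc, (DRing.RgammaIε I).naturality]
          rfl
        exact (Function.Bijective.of_comp_iff' (hεbij _) _).1
          (hsq ▸ (bijective_comp_toCompletion I hI K hT).comp (hεbij K))
      obtain ⟨v, hv⟩ := (hu R' (isTors_RgammaI I _)).2 (𝟙 R')
      refine ⟨⟨v, u, hv, (hu R (isTors_RgammaI I K)).1 ?_⟩⟩
      change (u ≫ v) ≫ u = 𝟙 R ≫ u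
      rw [Category.assoc, show v ≫ u = 𝟙 R' from hv, Category.comp_id, Category.id_comp]
    · let F := DRing.derivedCompletion I
      let adj := DRing.derivedCompletionAdj I
      let φ := F.map ((DRing.RgammaIε I).app K)
      have hb : ∀ P : DRing.DComp I, Function.Bijective fun a : F.obj K ⟶ P => φ ≫ a := fun P => by
        have : (fun a : F.obj K ⟶ P => φ ≫ a) = (adj.homEquiv _ P).symm ∘
            (fun a => (DRing.RgammaIε I).app K ≫ a) ∘ adj.homEquiv _ P := funext fun a => by
          refine ((adj.homEquiv _ P).symm_apply_eq.2 ?_).symm
          exact (adj.homEquiv_naturality_left _ a).symm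
        rw [this]
        exact (Equiv.bijective _).comp ((bijective_ε_comp I hI K P.property).comp (Equiv.bijective _))
      obtain ⟨v, hv⟩ := (hb (F.obj ((DRing.RgammaI I).obj K))).2 (𝟙 _)
      refine ⟨⟨φ, v, hv, (hb _).1 ?_⟩⟩
      change φ ≫ v ≫ φ = φ ≫ 𝟙 _
      rw [← Category.assoc, show φ ≫ v = 𝟙 _ from hv, Category.id_comp, Category.comp_id]

end Groth.Agent.S1814
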