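import Groth.Statements.S1815
import Groth.Agent.L10.DRing.AdicTowerRlim

set_option autoImplicit false
set_option backward.defeqAttrib.useBackward true
set_option backward.isDefEq.respectTransparency false
universe u
open CategoryTheory CategoryTheory.Limits
attribute [local instance] HasDerivedCategory.standard
open LocCoh

namespace Groth.Agent.S1815

/-- Let I and J be ideals of a Noetherian ring A and M a finite A-module; assume RΓ_J exists as a total
right derived functor, derived I-completion exists, and D(A) has countable products. Then the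
derived I-completion of RΓ_J(M) is a derived limit of the inverse system n ↦ RΓ_J(M/I^nM)
(transition maps induced by the quotient maps), and its cohomology vanishes in negative degrees. -/
theorem result (A : Type u) [CommRing A] [IsNoetherianRing A] (I J : Ideal A) [DRing.HasRgammaI J] [DRing.HasDerivedCompletion I] [∀ K : ℕ → Dual.D A, HasProduct K] (M : Type u) [AddCommGroup M] [Module A M] [Module.Finite A M] : DCoh.IsRlim (fun n : ℕ => (DRing.RgammaI J).obj (Dual.inD A (M ⧸ (I ^ n • ⊤ : Submodule A M)))) (fun n : ℕ => (DRing.RgammaI J).map ((DerivedCategory.singleFunctor (ModuleCat.{u} A) 0).map (ModuleCat.ofHom (Submodule.mapQ (I ^ (n + 1) • ⊤ : Submodule A M) (I ^ n • ⊤ : Submodule A M) LinearMap.id (Submodule.smul_mono (Ideal.pow_le_pow_right (Nat.le_succ n)) le_rfl))))) ((DRing.derivedCompletion I).obj ((DRing.RgammaI J).obj (Dual.inD A M))).obj ∧ ∀ i : ℤ, i < 0 → Subsingleton (Dual.HD A ((DRing.derivedCompletion I).obj ((DRing.RgammaI J).obj (Dual.inD A M))).obj i) := by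
  obtain ⟨s, hs⟩ := (isNoetherianRing_iff_ideal_fg A).1 inferInstance J
  have hJ : Ideal.span {x : A | x ∈ s.toList} = J := by
    rw [← hs]; congr 1; ext; simp
  let E := DerCA.extCech (ModuleCat.of A A) s.toList
  choose g hg using fun n => Groth.L10.GammaTensor.exists_gamma_iso J (Groth.L10.AdicTower.lvl I M n) s.toList hJ
  obtain ⟨gM, -⟩ := Groth.L10.GammaTensor.exists_gamma_iso J (ModuleCat.of A M) s.toList hJ
  obtain ⟨e, -⟩ := Groth.L10.CompletionFormula.exists_iso I
    (Groth.L10.CompletionFormula.cbij_toDerivedCompletion I ((DRing.RgammaI J).obj (Dual.inD A M)))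
    (Groth.L10.CompletionFormula.Cbij.comp I (Groth.L10.CompletionFormula.cbij_iso I gM.inv)
      (Groth.L10.AdicTowerRlim.cbij_kappa I M s.toList))
    ((DRing.derivedCompletion I).obj _).property (Groth.L10.AdicTowerRlim.isComplete_G I M E)
  refine ⟨Groth.L10.AdicTowerRlim.isRlim I M E _ _ g (fun n => ?_) _ e, fun i hi => ?_⟩
  · exact Groth.L10.GammaTensor.gamma_naturality J (Groth.L10.AdicTower.tr I M n) s.toList hJ (hg (n + 1)) (hg n)
  · exact ModuleCat.subsingleton_of_isZero ((Groth.L10.AdicTowerRlim.isZero_G_neg I M s.toList i hi).of_iso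
      ((DerivedCategory.homologyFunctor _ i).mapIso e ≪≫ Groth.L10.CompletionBound.hhIso _ i))

end Groth.Agent.S1815
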