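import Groth.Statements.S18150
import Groth.Agent.L03.SurfAdj.Embed
import Groth.Agent.L22.PDual.RegVanish
import Groth.Agent.L08.Cube.NPull
import Groth.Agent.L08.Cube.SmoothStalk
import Groth.Agent.L06.FrobSplitTwist
import Groth.Agent.L03.BlowAcyc.Twists
import Groth.Agent.L13.PointBlow.Twist
import Groth.Agent.L16.NegPow.Gen
import Groth.Agent.L03.Euler.Basic
import Groth.Agent.L16.Existence.Vanishing

set_option autoImplicit false
universe u
open CategoryTheory AlgebraicGeometry Opposite TopologicalSpace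
open FrobSch

namespace Groth.Agent.S18150

/-- Let p be a prime, k a perfect field of characteristic p, and X an irreducible smooth proper k-scheme
of dimension n. Let φ be the p-th power map on the sheaf of additive groups underlying O_X and
suppose X is Frobenius split: φ admits a retraction s, an additive endomorphism of O_X with s ∘ φ
the identity and s(a^p·b) = a·s(b) on every open. Then Kodaira vanishing holds on X: for every ample
invertible module L with tensor inverse L⁻¹ and every i < n, the cohomology group H^i(X, L⁻¹)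
vanishes. (The source allows X Gorenstein projective; X is taken smooth, proper with an ample
invertible module, and irreducible so that n is the dimension of every component.) -/
theorem result (p : ℕ) [Fact p.Prime]
    (k : Type u) [Field k] [CharP k p] [PerfectRing k p]
    (X : Scheme.{u}) [X.Over (Spec (CommRingCat.of k))] [IsProper (X ↘ Spec (CommRingCat.of k))]
    [Smooth (X ↘ Spec (CommRingCat.of k))] [IrreducibleSpace X] (n : ℕ) (hn : topologicalKrullDim X = n)
    (φ : Coh.toAb (Coh.structureModule X) ⟶ Coh.toAb (Coh.structureModule X))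
    (hφ : ∀ (U : X.Opens) (t : Γ(X, U)), φ.hom.app (op U) t = t ^ p)
    (s : Coh.toAb (Coh.structureModule X) ⟶ Coh.toAb (Coh.structureModule X))
    (hs : φ ≫ s = 𝟙 _)
    (hlin : ∀ (U : X.Opens) (a b : Γ(X, U)),
      s.hom.app (op U) (a ^ p * b) = a * @id Γ(X, U) (s.hom.app (op U) b))
    (L Linv : X.Modules) (hL : CohB1.IsAmple L) (hLinv : ClSub.IsInverseOf Linv L)
    (i : ℕ) (hi : i < n) :
    Subsingleton (Coh.HH X Linv i) := by
  letI := Groth.L08.Cube.clMonoid X
  have hLi : PicF.IsInvertible L := hL.1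
  obtain ⟨eL⟩ := hLinv
  have hLi' : PicF.IsInvertible Linv :=
    Groth.L13.PointBlow.isInvertible_of_isInverseOf hLi ⟨eL⟩
  have h1 : PicF.cl Linv * PicF.cl L = 1 := (PicGrp.cl_eq_cl_iff _ _).2 ⟨eL⟩
  obtain ⟨m₀, hm₀⟩ := Groth.L03.SurfAdj.exists_embedding k hL
  let m := m₀ + 1
  obtain ⟨N, ι, hι, hιs, ⟨e1⟩⟩ := hm₀ m (Nat.le_succ _)
  haveI := hι
  haveI : LocallyOfFiniteType (X ↘ Spec (CommRingCat.of k)) := inferInstance
  have hCM := (Groth.L22.PDual.cm_iff_vanish ι n hn).1 (fun x hx => by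
    haveI := Groth.L08.Cube.isRegularLocalRing_of_smooth (X ↘ Spec (CommRingCat.of k)) x
    exact ⟨Groth.L12.CotTLib.cm_of_regular _, Groth.L22.PDual.dim_stalk_closed_point k hn hx⟩)
  have hpow : ∀ (M : X.Modules) (j : ℕ), PicF.cl (CohB1.tensorPow M j) = PicF.cl M ^ j := Groth.L08.Cube.cl_tensorPow
  have htw : ∀ q : ℕ, PicF.cl ((Scheme.Modules.pullback ι).obj (Twist.twistProjSpace N k (-(q : ℤ)))) =
      PicF.cl Linv ^ (m * q) := fun q => by
    obtain ⟨t⟩ := Groth.L16.ProjTwist.nonempty_tensor_twist_iso_one (CohB1.polyGrading N k)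
      (Groth.L03.BlowAcyc.cover_deg_one N k) (-(q : ℤ)) q
    obtain ⟨z⟩ := Groth.L16.ProjTwist.nonempty_twist_zero_iso (CohB1.polyGrading N k)
    obtain ⟨u⟩ := Groth.L03.BlowAcyc.nonempty_pow_iso_twist (Iso.refl (Twist.twistProjSpace N k 1)) q
    have h2 : PicF.cl ((Scheme.Modules.pullback ι).obj (Twist.twistProjSpace N k (-(q : ℤ)))) *
        PicF.cl L ^ (m * q) = 1 := by
      rw [pow_mul, ← hpow L m, ← hpow (CohB1.tensorPow L m) q,
        ← (PicGrp.cl_eq_cl_iff _ _).2 ⟨(Groth.L18.Ample.pullPow ι (Twist.twistProjSpace N k 1) q ≪≫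
          Groth.L00.Tensor.tensorPowIso e1 q : _ ≅ CohB1.tensorPow (CohB1.tensorPow L m) q)⟩,
        (PicGrp.cl_eq_cl_iff _ _).2 ⟨(Scheme.Modules.pullback ι).mapIso u⟩]
      exact (PicGrp.cl_eq_cl_iff _ _).2 ⟨Groth.L29.DC.PullTensor.pullTensor ι _ _ ≪≫
        (Scheme.Modules.pullback ι).mapIso (t ≪≫ eqToIso (by simp) ≪≫ z) ≪≫ Groth.L29.LocFree.pullbackUnitIso ι⟩
    calc PicF.cl ((Scheme.Modules.pullback ι).obj (Twist.twistProjSpace N k (-(q : ℤ))))
        = _ * (PicF.cl Linv * PicF.cl L) ^ (m * q) := by rw [h1, one_pow, mul_one]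
      _ = PicF.cl Linv ^ (m * q) := by
        rw [mul_pow, mul_comm (PicF.cl Linv ^ (m * q)) (PicF.cl L ^ (m * q)), ← mul_assoc, h2, one_mul]
  have hfree : ∀ j, FlatMod.IsFinLocFree (CohB1.tensorPow Linv j) := fun j =>
    Groth.L16.Existence.isFinLocFree_of_isInvertible (Groth.L18.Ample.isInvertible_tensorPow hLi' j)
  choose q₀ hq₀ using fun j => hCM _ (hfree j)
  let Q := ∑ j ∈ Finset.range m, q₀ j
  have hvan : ∀ t, m * (Q + 1) ≤ t → Subsingleton (Coh.HH X (CohB1.tensorPow Linv t) i) := fun t ht => by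
    have hr : t % m < m := Nat.mod_lt _ (Nat.succ_pos _)
    have hq : q₀ (t % m) ≤ t / m := by
      refine le_trans ?_ ((Nat.le_div_iff_mul_le (Nat.succ_pos _)).2 (show Q * m ≤ t by nlinarith))
      exact Finset.single_le_sum (fun j _ => Nat.zero_le (q₀ j)) (Finset.mem_range.2 hr)
    obtain ⟨e⟩ := (PicGrp.cl_eq_cl_iff (CohB1.tensorMod (CohB1.tensorPow Linv (t % m))
        ((Scheme.Modules.pullback ι).obj (Twist.twistProjSpace N k (-((t / m : ℕ) : ℤ))))) (CohB1.tensorPow Linv t)).1 (by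
      refine Eq.trans (b := PicF.cl (CohB1.tensorPow Linv (t % m)) *
        PicF.cl ((Scheme.Modules.pullback ι).obj (Twist.twistProjSpace N k (-((t / m : ℕ) : ℤ))))) rfl ?_
      rw [htw, hpow, hpow, ← pow_add, Nat.mod_add_div])
    exact Groth.L16.ProjSpace.subsingleton_of_iso e.symm i (hq₀ (t % m) (t / m) hq i hi)
  have hmono : ∀ e : ℕ, Module.finrank k (Coh.HH X Linv i) ≤
      Module.finrank k (Coh.HH X (CohB1.tensorPow Linv (p ^ e)) i) := by
    intro e
    induction e with
    | zero =>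
      obtain ⟨e'⟩ := (PicGrp.cl_eq_cl_iff Linv (CohB1.tensorPow Linv (p ^ 0))).1 (by rw [hpow, pow_zero, pow_one])
      exact (Groth.L03.Euler.finrank_HH_of_iso (k := k) e' i).le
    | succ e ih =>
      refine ih.trans ((Groth.L06.FrobSplitTwist.finrank_le φ hφ s hs hlin
        (Groth.L18.Ample.isInvertible_tensorPow hLi' (p ^ e)) i).trans ?_)
      obtain ⟨e'⟩ := (PicGrp.cl_eq_cl_iff (CohB1.tensorPow (CohB1.tensorPow Linv (p ^ e)) p)
        (CohB1.tensorPow Linv (p ^ (e + 1)))).1 (by rw [hpow, hpow, hpow, ← pow_mul, pow_succ])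
      exact (Groth.L03.Euler.finrank_HH_of_iso (k := k) e' i).le
  obtain ⟨e, he⟩ := pow_unbounded_of_one_lt (m * (Q + 1)) (Fact.out : p.Prime).one_lt
  haveI := hvan _ he.le
  haveI : IsLocallyNoetherian X := LocallyOfFiniteType.isLocallyNoetherian (X ↘ Spec (CommRingCat.of k))
  haveI := Groth.L16.ProperFinite.finite_HH k (X := X) (Groth.L16.ProperFinite.isCoh_of_isInvertible hLi') i
  exact Module.finrank_zero_iff.1 (Nat.le_zero.1 ((hmono e).trans Module.finrank_zero_of_subsingleton.le))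
end Groth.Agent.S18150
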