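import Groth.Statements.S18153
import Mathlib.LinearAlgebra.Matrix.Determinant.Basic
import Mathlib.LinearAlgebra.Multilinear.Basic

set_option autoImplicit false
universe u w
open FrobAlg

namespace Groth.Agent.S18153

/-- Let R be a commutative ring of prime characteristic p and f_1, …, f_m (m ≥ 1) polynomials over R in
the variables t_1, …, t_m and a further, possibly empty, family of variables s_a. Then in the m × m
Jacobian determinant det(∂f_i/∂t_j) with respect to the t-variables, the coefficient of the monomial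
t_1^{p-1} ⋯ t_m^{p-1} (all s-exponents zero) vanishes. (In the source this is the claim, for formal
power series in n ≥ m variables over the base field, to which the proof of the proposition reduces;
the coefficient in question only involves truncations of the f_i, so the polynomial form over any
ring of characteristic p is the same assertion.) -/
theorem result
    (p : ℕ) [Fact p.Prime] (R : Type u) [CommRing R] [CharP R p]
    {m : ℕ} (hm : 0 < m) (σ : Type w) (f : Fin m → MvPolynomial (Fin m ⊕ σ) R) :
    MvPolynomial.coeff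
        (Finsupp.sumElim (Finsupp.equivFunOnFinite.symm fun _ : Fin m => p - 1) (0 : σ →₀ ℕ))
        (Matrix.of fun i j : Fin m => MvPolynomial.pderiv (Sum.inl j) (f i)).det = 0 := by
  classical
  set E := Finsupp.sumElim (Finsupp.equivFunOnFinite.symm fun _ : Fin m => p - 1) (0 : σ →₀ ℕ) with hE
  let D : Fin m → ((Fin m ⊕ σ) →₀ ℕ) → (Fin m → MvPolynomial (Fin m ⊕ σ) R) := fun i e j =>
    MvPolynomial.pderiv (Sum.inl j) (MvPolynomial.monomial e ((f i).coeff e))
  have hrow : (Matrix.of fun i j : Fin m => MvPolynomial.pderiv (Sum.inl j) (f i)) =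
      fun i => ∑ e ∈ (f i).support, D i e := by
    funext i j
    simp only [Matrix.of_apply, D, Finset.sum_apply, ← map_sum, MvPolynomial.support_sum_monomial_coeff]
  change MvPolynomial.coeff E ((Matrix.detRowAlternating :
    (Fin m → MvPolynomial (Fin m ⊕ σ) R) [⋀^Fin m]→ₗ[MvPolynomial (Fin m ⊕ σ) R] _).toMultilinearMap
      (Matrix.of fun i j : Fin m => MvPolynomial.pderiv (Sum.inl j) (f i))) = 0
  rw [hrow, MultilinearMap.map_sum_finset, MvPolynomial.coeff_sum]
  refine Finset.sum_eq_zero fun a _ => ?_
  change MvPolynomial.coeff E (Matrix.of fun i => D i (a i)).det = 0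
  rw [Matrix.det_apply', MvPolynomial.coeff_sum]
  let S : (Fin m ⊕ σ) →₀ ℕ := ∑ i, a i
  let U : (Fin m ⊕ σ) →₀ ℕ := ∑ j : Fin m, Finsupp.single (Sum.inl j) 1
  let A' : Matrix (Fin m) (Fin m) R := Matrix.of fun i j => ((a i (Sum.inl j) : ℕ) : R)
  have hterm : ∀ π : Equiv.Perm (Fin m),
      MvPolynomial.coeff E (((Equiv.Perm.sign π : ℤ) : MvPolynomial (Fin m ⊕ σ) R) * ∏ i, D (π i) (a (π i)) i) =
      (if S = E + U then ∏ i, (f i).coeff (a i) else 0) * ((((Equiv.Perm.sign π : ℤ) : R)) * ∏ i, A' (π i) i) := by
    intro π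
    rw [← map_intCast (MvPolynomial.C (R := R) (σ := Fin m ⊕ σ)), MvPolynomial.coeff_C_mul]
    simp only [D, MvPolynomial.pderiv_monomial]
    rw [← MvPolynomial.monomial_sum_prod]
    rw [MvPolynomial.coeff_monomial, Finset.prod_mul_distrib,
      Equiv.prod_comp π (fun i => (f i).coeff (a i))]
    have hA : ∀ i, A' (π i) i = ((a (π i) (Sum.inl i) : ℕ) : R) := fun i => rfl
    simp only [hA]
    by_cases hz : ∃ i, a (π i) (Sum.inl i) = 0
    · obtain ⟨i, hi⟩ := hz
      have : ∏ i, ((a (π i) (Sum.inl i) : ℕ) : R) = 0 :=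
        Finset.prod_eq_zero (Finset.mem_univ i) (by rw [hi, Nat.cast_zero])
      simp [this]
    push Not at hz
    have hiff : (∑ i, (a (π i) - Finsupp.single (Sum.inl i) 1) = E) ↔ S = E + U := by
      have : ∑ i, (a (π i) - Finsupp.single (Sum.inl i) 1) + U = S := by
        show _ = ∑ i, a i
        rw [← Finset.sum_add_distrib, ← Equiv.sum_comp π a]
        exact Finset.sum_congr rfl fun i _ =>
          tsub_add_cancel_of_le (Finsupp.single_le_iff.2 (Nat.one_le_iff_ne_zero.2 (hz i)))
      rw [← this, add_left_inj]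
    simp only [hiff]
    split_ifs <;> ring
  simp only [Matrix.of_apply]
  rw [Finset.sum_congr rfl fun π _ => hterm π, ← Finset.mul_sum, ← Matrix.det_apply']
  split_ifs with hS
  swap
  · rw [zero_mul]
  have hzero : ∀ j, ∑ i, A' i j = 0 := by
    intro j
    have h1 := DFunLike.congr_fun hS (Sum.inl j)
    simp only [S, U, Finsupp.finsetSum_apply, Finsupp.add_apply] at h1
    rw [Finset.sum_eq_single j (fun b _ hb => Finsupp.single_eq_of_ne (fun h => hb (Sum.inl.inj h).symm))
      (fun h => absurd (Finset.mem_univ j) h), Finsupp.single_eq_same] at h1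
    have hEj : E (Sum.inl j) = p - 1 := by simp [hE]
    rw [hEj, Nat.sub_add_cancel (Fact.out : p.Prime).one_le] at h1
    simp only [A', Matrix.of_apply, ← Nat.cast_sum, h1, CharP.cast_eq_zero]
  have hdet : A'.det = 0 := by
    have h1 := Matrix.det_updateRow_sum A' ⟨0, hm⟩ (fun _ => 1)
    rw [one_smul] at h1
    rw [← h1]
    refine Matrix.det_eq_zero_of_row_eq_zero ⟨0, hm⟩ fun j => ?_
    rw [Matrix.updateRow_self]
    simp only [one_smul]
    exact (Finset.sum_apply j _ _).trans (hzero j)
  rw [hdet, mul_zero]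

end Groth.Agent.S18153
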