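import Groth.Statements.S18155
import Groth.Agent.L08.W2Lift
import Groth.Agent.L23.EtaleLift
import Mathlib.RingTheory.RingHom.Etale

set_option autoImplicit false
universe u v
open FrobAlg

namespace Groth.Agent.S18155
open Groth.L08

/-- A copy of a ring, to carry a second algebra structure. -/
def Tw (R : Type v) : Type v := R

instance (R : Type v) [CommRing R] : CommRing (Tw R) := inferInstanceAs (CommRing R)


/-- Let k be an algebraically closed field of characteristic p, A a commutative k-algebra and C an étale
A-algebra. If A admits a flat lifting over W_2(k) together with a lift of Frobenius, then so does C.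
(The source states this for an étale cover Y → X of smooth varieties over k; its argument uses only
that Y is étale over X, and the affine case is stated here with no smoothness or finiteness
hypothesis on A over k.) -/
theorem result
    (p : ℕ) [Fact p.Prime] (k : Type u) [Field k] [IsAlgClosed k] [CharP k p]
    (A C : Type v) [CommRing A] [CommRing C] [Algebra k A] [Algebra k C]
    [Algebra A C] [IsScalarTower k A C] [Algebra.Etale A C]
    (hA : FrobAlg.IsFLiftable p k A) : FrobAlg.IsFLiftable p k C := by
  obtain ⟨B, _, ι, π, Φ, hΦ⟩ := hA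
  have h := hΦ.toIsLift
  letI : Algebra B A := π.toAlgebra
  letI : Algebra B C := ((algebraMap A C).comp π).toAlgebra
  haveI : IsScalarTower B A C := IsScalarTower.of_algebraMap_eq fun _ => rfl
  obtain ⟨C', _, _, ψ, hE, hψ, hkerψ⟩ := Groth.L23.exists_etale_lift (P := B) (B := A) (C := C) h.surj
  have hψb : ∀ b, ψ (algebraMap B C' b) = algebraMap A C (π b) := ψ.commutes
  have hcast : (p : C) = 0 := W2.cast_p_eq_zero k C
  let frC : C →+* C :=
    { powMonoidHom p with
      map_zero' := zero_pow (Fact.out : p.Prime).ne_zero
      map_add' := fun x y => by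
        obtain ⟨r, hr⟩ := exists_add_pow_prime_eq (Fact.out : p.Prime) x y
        change (x + y) ^ p = x ^ p + y ^ p
        rw [hr, hcast, zero_mul, zero_mul, zero_mul, add_zero] }
  letI a1 : Algebra B (Tw C') := ((algebraMap B C').comp Φ).toAlgebra
  letI a2 : Algebra B (Tw C) := (((algebraMap A C).comp π).comp Φ).toAlgebra
  let g : Tw C' →ₐ[B] Tw C := { (ψ : C' →+* C) with commutes' := fun b => hψb (Φ b) }
  let f : C' →ₐ[B] Tw C :=
    { frC.comp (ψ : C' →+* C) with
      commutes' := fun b => by
        change ψ (algebraMap B C' b) ^ p = algebraMap A C (π (Φ b))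
        rw [hψb, hΦ.red, map_pow] }
  have hker : RingHom.ker (ψ : C' →+* C) = Ideal.span {(p : C')} := by
    refine hkerψ.trans ?_
    rw [show RingHom.ker (algebraMap B A) = Ideal.span {(p : B)} from W2.lift_ker h, Ideal.map_span,
      Set.image_singleton, map_natCast]
  have hnil : IsNilpotent (RingHom.ker (g : Tw C' →+* Tw C)) := by
    have h2 : (RingHom.ker (ψ : C' →+* C)) ^ 2 = ⊥ := by
      rw [hker, Ideal.span_singleton_pow, Ideal.span_singleton_eq_bot, pow_two]
      have := congrArg (algebraMap B C') (W2.lift_pp h)
      rwa [map_mul, map_zero, map_natCast] at this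
    exact ⟨2, h2⟩
  haveI : Algebra.FormallySmooth B C' := inferInstance
  let ΦC : C' →ₐ[B] Tw C' := Algebra.FormallySmooth.liftOfSurjective f g hψ hnil
  have hΦC : ∀ c, ψ (ΦC c) = ψ c ^ p := Algebra.FormallySmooth.liftOfSurjective_apply f g hψ hnil
  refine ⟨C', inferInstance, (algebraMap B C').comp ι, ψ, ΦC.toRingHom, ⟨?_, hψ, ?_, ?_⟩, ?_, hΦC⟩
  · exact RingHom.Flat.comp h.flat (RingHom.flat_algebraMap_iff.2 inferInstance)
  · rw [← Ideal.map_map, ← h.ker_eq]
    exact hkerψ
  · refine RingHom.ext fun w => ?_
    change ψ (algebraMap B C' (ι w)) = algebraMap k C (FrobAlg.res p k w)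
    rw [hψb, show π (ι w) = algebraMap k A (FrobAlg.res p k w) from RingHom.congr_fun h.comm w,
      ← IsScalarTower.algebraMap_apply k A C]
  · refine RingHom.ext fun w => ?_
    change ΦC (algebraMap B C' (ι w)) = algebraMap B C' (ι (FrobAlg.sigma p k w))
    rw [ΦC.commutes, show ι (FrobAlg.sigma p k w) = Φ (ι w) from (RingHom.congr_fun hΦ.semi w).symm]
    rfl

end Groth.Agent.S18155
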