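import Groth.Statements.S18156
import Mathlib.RingTheory.AdicCompletion.Algebra
import Mathlib.RingTheory.Derivation.Basic

set_option autoImplicit false
universe u v
open CAlg

namespace Groth.Agent.S18156

section

theorem der_pow {k A : Type*} [CommRing k] [CommRing A] [Algebra k A] {m : Ideal A} (D : Derivation k A A) :
    ∀ (d : ℕ) {a : A}, a ∈ m ^ (d + 1) → D a ∈ m ^ d := by
  intro d
  induction d with
  | zero => intro a _; simp
  | succ d ih =>
    intro a ha
    rw [pow_succ] at ha
    refine Submodule.mul_induction_on ha (fun x hx y hy => ?_) (fun x y hx hy => ?_)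
    · rw [Derivation.leibniz, smul_eq_mul, smul_eq_mul]
      refine Ideal.add_mem _ (Ideal.mul_mem_right _ _ hx) ?_
      rw [pow_succ']
      exact Ideal.mul_mem_mul hy (ih hx)
    · rw [map_add]; exact Ideal.add_mem _ hx hy

theorem exists_extend {k A : Type*} [CommRing k] [CommRing A] [Algebra k A] (m : Ideal A) (D : Derivation k A A) :
    ∃ Dhat : Derivation k (AdicCompletion m A) (AdicCompletion m A),
      ∀ a : A, Dhat (algebraMap A (AdicCompletion m A) a) = algebraMap A (AdicCompletion m A) (D a) := by
  have hle : ∀ n, ((m ^ (n + 1) • ⊤ : Ideal A)).toAddSubgroup ≤ (m ^ n • ⊤ : Ideal A).toAddSubgroup.comap D.toLinearMap.toAddMonoidHom := by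
    intro n a ha
    show D a ∈ (m ^ n • ⊤ : Ideal A)
    change a ∈ (m ^ (n + 1) • ⊤ : Ideal A) at ha
    rw [smul_eq_mul, Ideal.mul_top] at ha ⊢
    exact der_pow D n ha
  let Φ : ∀ n, (A ⧸ (m ^ (n + 1) • ⊤ : Ideal A)) →+ (A ⧸ (m ^ n • ⊤ : Ideal A)) := fun n =>
    QuotientAddGroup.map _ _ D.toLinearMap.toAddMonoidHom (hle n)
  have hΦ : ∀ n a, Φ n (Ideal.Quotient.mk _ a) = Ideal.Quotient.mk _ (D a) := fun n a => rfl
  have rep : ∀ (x : AdicCompletion m A) (n : ℕ), ∃ a : A, x.val (n + 1) = Ideal.Quotient.mk _ a ∧ x.val n = Ideal.Quotient.mk _ a := by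
    intro x n
    obtain ⟨a, ha⟩ := Ideal.Quotient.mk_surjective (x.val (n + 1))
    refine ⟨a, ha.symm, ?_⟩
    rw [← x.2 n.le_succ, ← ha]
    rfl
  let Dh : AdicCompletion m A → AdicCompletion m A := fun x => ⟨fun n => Φ n (x.val (n + 1)), fun {i j} hij => by
    obtain ⟨a, ha, -⟩ := rep x j
    have hi : x.val (i + 1) = Ideal.Quotient.mk _ a := by
      rw [← x.2 (show i + 1 ≤ j + 1 by omega), ha]
      rfl
    show AdicCompletion.transitionMap m A hij (Φ j (x.val (j + 1))) = Φ i (x.val (i + 1))
    rw [ha, hi, hΦ, hΦ]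
    rfl⟩
  have hv : ∀ x n, (Dh x).val n = Φ n (x.val (n + 1)) := fun x n => rfl
  let L : AdicCompletion m A →ₗ[k] AdicCompletion m A :=
    { toFun := Dh
      map_add' := fun x y => AdicCompletion.ext fun n => by
        rw [hv, AdicCompletion.val_add_apply, map_add]
        rfl
      map_smul' := fun c x => AdicCompletion.ext fun n => by
        obtain ⟨a, ha, -⟩ := rep x n
        show Φ n ((c • x).val (n + 1)) = c • (Dh x).val n
        rw [hv, ha, AdicCompletion.val_smul_apply, ha]
        show Φ n (Ideal.Quotient.mk _ (c • a)) = _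
        rw [hΦ, Derivation.map_smul, hΦ]
        rfl }
  refine ⟨Derivation.mk' L fun x y => AdicCompletion.ext fun n => ?_, fun a => AdicCompletion.ext fun n => rfl⟩
  obtain ⟨a, ha, ha'⟩ := rep x n
  obtain ⟨b, hb, hb'⟩ := rep y n
  show Φ n ((x * y).val (n + 1)) = (x * Dh y + y * Dh x).val n
  rw [AdicCompletion.val_add_apply, AdicCompletion.val_mul, AdicCompletion.val_mul, AdicCompletion.val_mul, hv, hv, ha, hb, ha', hb', ← map_mul,
    hΦ, hΦ, hΦ, ← map_mul, ← map_mul, ← map_add, Derivation.leibniz]
  simp only [smul_eq_mul]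

end


/-- Let k be a field and A a regular local ring that is a k-algebra, with maximal ideal m and m-adic
completion Â. Then every k-derivation D of A into itself extends to a k-derivation D̂ of Â into
itself along the canonical map ρ : A → Â, in the sense that D̂(ρ(a)) = ρ(D(a)) for every a ∈ A. (The
source works throughout over an algebraically closed field of characteristic p; neither assumption
enters this statement.) -/
theorem result
    (k : Type u) [Field k] (A : Type v) [CommRing A] [Algebra k A] [IsRegularLocalRing A]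
    (D : Derivation k A A) :
    ∃ Dhat : Derivation k (AdicCompletion (IsLocalRing.maximalIdeal A) A)
        (AdicCompletion (IsLocalRing.maximalIdeal A) A),
      ∀ a : A, Dhat (algebraMap A (AdicCompletion (IsLocalRing.maximalIdeal A) A) a) =
        algebraMap A (AdicCompletion (IsLocalRing.maximalIdeal A) A) (D a) := by
  exact exists_extend (IsLocalRing.maximalIdeal A) D

end Groth.Agent.S18156
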