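import Groth.Statements.S18158
import Groth.Agent.L27.TopInv.Thickening
import Groth.Agent.L27.TopInv.Hom
import Groth.Agent.L08.W2
import Mathlib.RingTheory.Spectrum.Prime.Homeomorph

set_option autoImplicit false
universe u
open CategoryTheory CategoryTheory.Limits AlgebraicGeometry
open Lift

namespace Groth.Agent.S18158

/-- Let k be an algebraically closed field of characteristic p and q : Y → X an étale morphism to a
smooth k-scheme X. Suppose X has a W_2-lifting of its Frobenius: a scheme X~ flat over Spec W_2(k),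
a morphism i : X → X~ making X the base change of X~ along Spec k → Spec W_2(k) (the residue map),
and an endomorphism F~ of X~ with i ∘ F_X = F~ ∘ i, F_X the absolute Frobenius. Then Y has one as
well: there are a scheme Y~ flat over Spec W_2(k), a morphism j : Y → Y~ making Y the base change of
Y~ along the same map, and an endomorphism G~ of Y~ with j ∘ F_Y = G~ ∘ j. (The source speaks of an
étale cover Y → X of smooth varieties; its argument uses only that Y is étale over X and that X
lifts, so X is taken smooth over k and Y étale over X, with no integrality, separatedness or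
quasi-compactness assumed.) -/
theorem result
    (p : ℕ) [Fact p.Prime] (k : Type u) [Field k] [IsAlgClosed k] [CharP k p]
    (X Y : Scheme.{u}) (f : X ⟶ Spec (CommRingCat.of k)) [Smooth f]
    (q : Y ⟶ X) [AlgebraicGeometry.Etale q]
    [FrobSch.IsCharP X p] [FrobSch.IsCharP Y p]
    (Xl : Scheme.{u}) (g : Xl ⟶ Spec (CommRingCat.of (FrobAlg.W2 p k))) [Flat g]
    (i : X ⟶ Xl) (hsq : IsPullback i f g (Spec.map (CommRingCat.ofHom (FrobAlg.res p k))))
    (Fl : Xl ⟶ Xl) (hF : i ≫ Fl = FrobSch.frob X p ≫ i) :
    ∃ (Yl : Scheme.{u}) (gY : Yl ⟶ Spec (CommRingCat.of (FrobAlg.W2 p k))) (j : Y ⟶ Yl) (Gl : Yl ⟶ Yl),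
      Flat gY ∧ IsPullback j (q ≫ f) gY (Spec.map (CommRingCat.ofHom (FrobAlg.res p k))) ∧
        j ≫ Gl = FrobSch.frob Y p ≫ j := by
  let R := Spec.map (CommRingCat.ofHom (FrobAlg.res p k))
  have : IsClosedImmersion R := IsClosedImmersion.spec_of_surjective _ (Groth.L08.W2.res_surjective p)
  have : Surjective R := ⟨fun y => by
    have hker : RingHom.ker (FrobAlg.res p k) ≤ nilradical (FrobAlg.W2 p k) := by
      rw [Groth.L08.W2.ker_res, Ideal.span_le, Set.singleton_subset_iff]
      exact mem_nilradical.2 ⟨2, by rw [pow_two]; exact Groth.L08.W2.p_mul_p p⟩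
    exact ((PrimeSpectrum.isHomeomorph_comap _ (fun x => ⟨1, one_pos, by simpa using Groth.L08.W2.res_surjective p x⟩) hker).surjective) y⟩
  have : IsClosedImmersion i := MorphismProperty.of_isPullback (P := @IsClosedImmersion) hsq.flip inferInstance
  have : Surjective i := MorphismProperty.of_isPullback (P := @Surjective) hsq.flip inferInstance
  have := Groth.L27.TopInv.isEquivalence_bc_of_thickening i
  obtain ⟨U, ⟨e⟩⟩ := Functor.EssSurj.mem_essImage (F := EtCoh.bc i) (Scheme.Etale.mk q)
  have : AlgebraicGeometry.Etale U.hom := U.prop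
  let eY : ((EtCoh.bc i).obj U).left ≅ Y :=
    (MorphismProperty.Over.forget _ _ _ ⋙ Over.forget _).mapIso e
  have he : eY.hom ≫ q = pullback.snd U.hom i := MorphismProperty.Over.w e.hom
  let j : Y ⟶ U.left := eY.inv ≫ pullback.fst U.hom i
  have sqY : IsPullback j q U.hom i := (IsPullback.of_hasPullback U.hom i).of_iso eY (Iso.refl _)
    (Iso.refl _) (Iso.refl _) (((Category.comp_id _).trans (Iso.hom_inv_id_assoc _ _).symm)) ((Category.comp_id _).trans he.symm) (by simp) (by simp)
  refine ⟨U.left, U.hom ≫ g, j, ?_⟩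
  have : IsClosedImmersion j := MorphismProperty.of_isPullback (P := @IsClosedImmersion) sqY.flip inferInstance
  have : Surjective j := MorphismProperty.of_isPullback (P := @Surjective) sqY.flip inferInstance
  let π := pullback.fst (U.hom ≫ Fl) U.hom
  have w : j ≫ U.hom ≫ Fl = (FrobSch.frob Y p ≫ j) ≫ U.hom := by
    rw [sqY.w_assoc, hF, ← FrobSch.frob_comp_assoc, Category.assoc, sqY.w]
  obtain ⟨s, ⟨hs1, hs2⟩, -⟩ := Groth.L27.TopInv.existsUnique_descend π j
    (Groth.L27.TopInv.univSubmersive_of_universallyClosed j)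
    (pullback.lift j (FrobSch.frob Y p ≫ j) w) (pullback.lift_fst _ _ _) (by
      rw [show pullback.fst j j = pullback.snd j j by
        rw [← cancel_mono j, pullback.condition]])
  refine ⟨s ≫ pullback.snd _ _, inferInstance, sqY.paste_vert hsq, ?_⟩
  rw [← Category.assoc, hs2, pullback.lift_snd]

end Groth.Agent.S18158
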