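import Groth.Statements.S18165
import Groth.Agent.L28.EquivSection.Algebra
import Mathlib.AlgebraicGeometry.Morphisms.Smooth
import Mathlib.RingTheory.Smooth.StandardSmoothCotangent

set_option autoImplicit false
set_option maxHeartbeats 2000000
set_option linter.style.haveILetI false
universe u
open AlgebraicGeometry CategoryTheory BSB

namespace Groth.Agent.S18165

open AlgebraicGeometry CategoryTheory in
/-- Let A be a Henselian local ring with residue field κ and f : X ⟶ Spec A a smooth morphism. Let a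
finite group G, of order invertible in κ, act on A by ring automorphisms inducing the identity on κ,
and on X by morphisms σ_g with σ_1 = 𝟙 and σ_{gh} = σ_g ≫ σ_h, compatibly with f (σ_g ≫ f = f ≫ Spec
of the action of g on A). If x is a κ-point of X over the closed point that is fixed by every σ_g,
then f has a section a : Spec A ⟶ X through x which is equivariant: Spec of the action of g,
followed by a, equals a followed by σ_g. -/
theorem result (A : Type u) [CommRing A] [HenselianLocalRing A]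
    (X : Scheme.{u}) (f : X ⟶ Spec (CommRingCat.of A)) [Smooth f]
    (G : Type u) [Group G] [Finite G] [MulSemiringAction G A]
    (hG : IsUnit ((Nat.card G : ℕ) : IsLocalRing.ResidueField A))
    (htriv : ∀ (g : G) (a : A), g • a - a ∈ IsLocalRing.maximalIdeal A)
    (σ : G → (X ⟶ X)) (hσ1 : σ 1 = 𝟙 X) (hσmul : ∀ g h : G, σ (g * h) = σ g ≫ σ h)
    (hσf : ∀ g : G, σ g ≫ f = f ≫ Spec.map (CommRingCat.ofHom (MulSemiringAction.toRingHom G A g)))
    (x : Spec (CommRingCat.of (IsLocalRing.ResidueField A)) ⟶ X)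
    (hx : x ≫ f = Spec.map (CommRingCat.ofHom (IsLocalRing.residue A)))
    (hfix : ∀ g : G, x ≫ σ g = x) :
    ∃ a : Spec (CommRingCat.of A) ⟶ X, a ≫ f = 𝟙 _ ∧
      Spec.map (CommRingCat.ofHom (IsLocalRing.residue A)) ≫ a = x ∧
      ∀ g : G, Spec.map (CommRingCat.ofHom (MulSemiringAction.toRingHom G A g)) ≫ a = a ≫ σ g := by
  classical
  haveI : Fintype G := Fintype.ofFinite G
  let p0 : X := x (IsLocalRing.closedPoint (IsLocalRing.ResidueField A))
  obtain ⟨U, hU, V0, hV0, hxV, e0, hss⟩ := Smooth.exists_isStandardSmooth f p0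
  have hfp0 : f p0 = IsLocalRing.closedPoint A := by
    show (x ≫ f) _ = _
    rw [hx]
    exact IsLocalRing.comap_closedPoint (IsLocalRing.residue A)
  have hUtop : U = ⊤ := by
    refine top_le_iff.1 fun y _ => ?_
    have h : IsLocalRing.closedPoint A ∈ U := hfp0 ▸ e0 hxV
    exact (IsLocalRing.specializes_closedPoint (R := A) y).mem_open U.isOpen h
  subst hUtop
  let str : ∀ (V : X.Opens), V ≤ f ⁻¹ᵁ ⊤ → (CommRingCat.of A ⟶ Γ(X, V)) := fun V e =>
    (Scheme.ΓSpecIso (CommRingCat.of A)).inv ≫ f.appLE ⊤ V e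
  -- the first chart
  letI : Algebra A Γ(X, V0) := (str V0 e0).hom.toAlgebra
  haveI hss0 : Algebra.IsStandardSmooth A Γ(X, V0) := by
    have : (str V0 e0).hom.IsStandardSmooth := RingHom.IsStandardSmooth.comp hss
      (RingHom.IsStandardSmoothOfRelativeDimension.isStandardSmooth 0 _
        (RingHom.IsStandardSmoothOfRelativeDimension.equiv
          (Scheme.ΓSpecIso (CommRingCat.of A)).commRingCatIsoToRingEquiv.symm))
    exact this
  obtain ⟨ι, σι, _, _, ⟨P⟩⟩ := Algebra.IsStandardSmooth.out (R := A) (S := Γ(X, V0))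
  let κ : Type u := ULift.{u} ((Set.range P.map)ᶜ : Set ι)
  haveI : Fintype κ := Fintype.ofFinite κ
  let b0 : Module.Basis κ Γ(X, V0) Ω[Γ(X, V0)⁄A] := P.basisKaehler.reindex Equiv.ulift.symm
  let t0 : κ → Γ(X, V0) := fun i => P.val i.down.1
  have hb0 : ∀ i, b0 i = KaehlerDifferential.D A _ (t0 i) := fun i => by
    simp [b0, t0, Module.Basis.reindex_apply]
    rfl
  -- a stable affine neighbourhood
  have hσp : ∀ g, σ g p0 = p0 := fun g => by
    show (x ≫ σ g) _ = _
    rw [hfix]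
  let W : X.Opens := ⟨⋂ g, ⇑(σ g) ⁻¹' (V0 : Set X),
    isOpen_iInter_of_finite fun g => V0.isOpen.preimage (σ g).continuous⟩
  have hW : p0 ∈ W := Set.mem_iInter.2 fun g => by
    show σ g p0 ∈ V0
    rw [hσp]; exact hxV
  obtain ⟨h, hhW, hph⟩ := hV0.exists_basicOpen_le ⟨p0, hW⟩ hxV
  let D1 : X.Opens := X.basicOpen h
  have hD1 : ∀ g, D1 ≤ σ g ⁻¹ᵁ V0 := fun g y hy => Set.mem_iInter.1 (hhW hy) g
  let hg : G → Γ(X, D1) := fun g => (σ g).appLE V0 D1 (hD1 g) h
  have hprod : ∀ (S : Finset G) (y : X), y ∈ X.basicOpen (∏ g ∈ S, hg g) ↔ y ∈ D1 ∧ ∀ g ∈ S, σ g y ∈ D1 := by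
    intro S y
    induction S using Finset.induction_on with
    | empty => rw [Finset.prod_empty, Scheme.basicOpen_one]; simp
    | insert a S ha ih =>
      rw [Finset.prod_insert ha, Scheme.basicOpen_mul, Scheme.basicOpen_appLE]
      refine ⟨fun hy => ⟨hy.1.1, fun g hg' => ?_⟩, fun hy => ⟨⟨hy.1, hy.2 a (Finset.mem_insert_self _ _)⟩,
        ih.2 ⟨hy.1, fun g hg' => hy.2 g (Finset.mem_insert_of_mem hg')⟩⟩⟩
      rcases Finset.mem_insert.1 hg' with rfl | hg'
      · exact hy.1.2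
      · exact (ih.1 hy.2).2 g hg'
  let e : Γ(X, D1) := ∏ g, hg g
  let V : X.Opens := X.basicOpen e
  have hVmem : ∀ y, y ∈ V ↔ ∀ g, σ g y ∈ D1 := fun y => by
    refine (hprod Finset.univ y).trans ⟨fun h g => h.2 g (Finset.mem_univ g), fun h => ⟨?_, fun g _ => h g⟩⟩
    have h1 := h 1
    rwa [hσ1] at h1
  have hVσ : ∀ k, V ≤ σ k ⁻¹ᵁ V := fun k y hy => (hVmem _).2 fun g => by
    show (σ k ≫ σ g) y ∈ D1
    rw [← hσmul]
    exact (hVmem y).1 hy _
  have hD1aff : IsAffineOpen D1 := hV0.basicOpen h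
  have hVaff : IsAffineOpen V := hD1aff.basicOpen e
  have hpV : p0 ∈ V := (hVmem p0).2 fun g => by rw [hσp]; exact hph
  -- the coordinate rings
  letI : Algebra A Γ(X, D1) := (str D1 le_top).hom.toAlgebra
  letI : Algebra A Γ(X, V) := (str V le_top).hom.toAlgebra
  haveI := hV0.isLocalization_basicOpen h
  haveI := hD1aff.isLocalization_basicOpen e
  haveI : IsScalarTower A Γ(X, V0) Γ(X, D1) := IsScalarTower.of_algebraMap_eq' (by
    show (str D1 le_top).hom = ((str V0 e0) ≫ X.presheaf.map _).hom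
    simp only [str, Category.assoc, Scheme.Hom.appLE_map]
    rfl)
  haveI : IsScalarTower A Γ(X, D1) Γ(X, V) := IsScalarTower.of_algebraMap_eq' (by
    show (str V le_top).hom = ((str D1 le_top) ≫ X.presheaf.map _).hom
    simp only [str, Category.assoc, Scheme.Hom.appLE_map]
    rfl)
  haveI : Algebra.Smooth Γ(X, V0) Γ(X, D1) := Algebra.Smooth.of_isLocalization_Away h
  haveI : Algebra.Smooth Γ(X, D1) Γ(X, V) := Algebra.Smooth.of_isLocalization_Away e
  haveI : Algebra.Smooth A Γ(X, D1) := Algebra.Smooth.comp A Γ(X, V0) Γ(X, D1)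
  haveI : Algebra.Smooth A Γ(X, V) := Algebra.Smooth.comp A Γ(X, D1) Γ(X, V)
  obtain ⟨b1, hb1⟩ := Groth.L28.EquivSection.exists_basis_away (A := A) (B' := Γ(X, D1)) h t0 b0 hb0
  obtain ⟨b2, hb2⟩ := Groth.L28.EquivSection.exists_basis_away (A := A) (B' := Γ(X, V)) e _ b1 hb1
  -- the action
  let τ : G → Γ(X, V) →+* Γ(X, V) := fun g => ((σ g).appLE V V (hVσ g)).hom
  have happ : ∀ (u v : X ⟶ X) (huv : u = v) (e1 : V ≤ u ⁻¹ᵁ V) (e2 : V ≤ v ⁻¹ᵁ V),
      u.appLE V V e1 = v.appLE V V e2 := fun u v huv e1 e2 => by subst huv; rfl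
  have hτ1 : τ 1 = RingHom.id _ := by
    show ((σ 1).appLE V V _).hom = _
    rw [happ (σ 1) (𝟙 X) hσ1 _ le_rfl]
    simp [Scheme.Hom.appLE]
    change (CommRingCat.Hom.hom (X.presheaf.map (𝟙 V).op)).comp _ = _
    simp
    exact CommRingCat.hom_id
  have hτm : ∀ g k, τ (g * k) = (τ g).comp (τ k) := fun g k => by
    show ((σ (g * k)).appLE V V _).hom = _
    rw [happ (σ (g * k)) (σ g ≫ σ k) (hσmul g k) _ ((hVσ g).trans ((TopologicalSpace.Opens.map (σ g).base).map
      (homOfLE (hVσ k))).le), ← Scheme.Hom.appLE_comp_appLE _ _ V V V (hVσ k) (hVσ g)]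
    rfl
  have hτA : ∀ (g : G) (a : A), τ g (algebraMap A Γ(X, V) a) = algebraMap A Γ(X, V) (g • a) := by
    intro g a
    let m := CommRingCat.ofHom (MulSemiringAction.toRingHom G A g)
    have key : str V le_top ≫ (σ g).appLE V V (hVσ g) = m ≫ str V le_top := by
      simp only [str, Category.assoc]
      rw [Scheme.Hom.appLE_comp_appLE]
      have : ∀ (u v : X ⟶ Spec (CommRingCat.of A)) (huv : u = v) (e1 : V ≤ u ⁻¹ᵁ ⊤) (e2 : V ≤ v ⁻¹ᵁ ⊤),
          u.appLE ⊤ V e1 = v.appLE ⊤ V e2 := fun u v huv e1 e2 => by subst huv; rfl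
      rw [this _ (f ≫ Spec.map m) (hσf g) _ le_top, ← Scheme.Hom.appLE_comp_appLE f (Spec.map m) ⊤ ⊤ V le_top le_top,
        ← Category.assoc, ← Category.assoc m, Scheme.ΓSpecIso_inv_naturality, Scheme.Hom.appLE]
      simp
    exact congrArg (fun q => q.hom a) key
  -- the residual point
  let res := CommRingCat.ofHom (IsLocalRing.residue A)
  have hxV' : (⊤ : (Spec (CommRingCat.of (IsLocalRing.ResidueField A))).Opens) ≤ x ⁻¹ᵁ V := fun y _ => by
    show x y ∈ V
    rw [Subsingleton.elim y (IsLocalRing.closedPoint (IsLocalRing.ResidueField A))]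
    exact hpV
  let εc : Γ(X, V) ⟶ CommRingCat.of (IsLocalRing.ResidueField A) :=
    x.appLE V ⊤ hxV' ≫ (Scheme.ΓSpecIso _).hom
  have hεA : str V le_top ≫ εc = res := by
    simp only [str, εc, Category.assoc]
    rw [Scheme.Hom.appLE_comp_appLE_assoc]
    have : ∀ (u v : Spec (CommRingCat.of (IsLocalRing.ResidueField A)) ⟶ Spec (CommRingCat.of A)) (huv : u = v)
        (e1 : (⊤ : (Spec (CommRingCat.of (IsLocalRing.ResidueField A))).Opens) ≤ u ⁻¹ᵁ ⊤),
          u.appLE ⊤ ⊤ e1 = v.appTop := fun u v huv e1 => by subst huv; simp [Scheme.Hom.appLE]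
    rw [this _ (Spec.map res) hx, Scheme.ΓSpecIso_naturality, Iso.inv_hom_id_assoc]
  let ε : Γ(X, V) →ₐ[A] IsLocalRing.ResidueField A :=
    { εc.hom with commutes' := fun a => congrArg (fun q => q.hom a) hεA }
  have hε : ∀ g b, ε (τ g b) = ε b := fun g b => by
    have key : (σ g).appLE V V (hVσ g) ≫ εc = εc := by
      simp only [εc]
      rw [Scheme.Hom.appLE_comp_appLE_assoc]
      have : ∀ (u v : Spec (CommRingCat.of (IsLocalRing.ResidueField A)) ⟶ X) (huv : u = v) (e1) (e2),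
          u.appLE V ⊤ e1 = v.appLE V ⊤ e2 := fun u v huv e1 e2 => by subst huv; rfl
      rw [this _ x (hfix g) _ hxV']
    exact congrArg (fun q => q.hom b) key
  have htriv' : ∀ (g : G) (a : A), IsLocalRing.residue A (g • a) = IsLocalRing.residue A a := fun g a =>
    Ideal.Quotient.eq.2 (htriv g a)
  obtain ⟨s, hs, hseq⟩ := Groth.L28.EquivSection.exists_equivariant_section b2 _ hb2 τ hτ1 hτm hτA hG htriv' ε hε
  let sc : Γ(X, V) ⟶ CommRingCat.of A := CommRingCat.ofHom s.toRingHom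
  refine ⟨Spec.map sc ≫ hVaff.fromSpec, ?_, ?_, fun g => ?_⟩
  · rw [Category.assoc, ← IsAffineOpen.SpecMap_appLE_fromSpec f (isAffineOpen_top _) hVaff le_top,
      IsAffineOpen.fromSpec_top, Scheme.isoSpec_Spec_inv, ← Spec.map_comp, ← Spec.map_comp, ← Spec.map_id]
    congr 1
    ext a
    exact s.commutes a
  · rw [← Category.assoc, ← Spec.map_comp]
    have h1 : sc ≫ res = εc := by
      ext b
      exact hs b
    rw [h1, Spec.map_comp, Category.assoc, IsAffineOpen.SpecMap_appLE_fromSpec x hVaff (isAffineOpen_top _) hxV',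
      IsAffineOpen.fromSpec_top, Scheme.isoSpec_Spec_inv, ← Category.assoc, ← Spec.map_comp, Iso.inv_hom_id,
      Spec.map_id, Category.id_comp]
  · rw [Category.assoc, ← IsAffineOpen.SpecMap_appLE_fromSpec (σ g) hVaff hVaff (hVσ g), ← Category.assoc,
      ← Category.assoc, ← Spec.map_comp, ← Spec.map_comp]
    congr 2
    ext b
    exact hseq g b

end Groth.Agent.S18165
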