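import Groth.Statements.S1817
import Groth.Agent.L04.RGamma.Derived

set_option autoImplicit false
universe u
open CategoryTheory
attribute [local instance] HasDerivedCategory.standard
open LocCoh

namespace Groth.Agent.S1817

/-- First statement, for a Noetherian ring (where the functor with supports in V(I) is RΓ_I). Let A be a
Noetherian ring and I an ideal, and assume RΓ_I exists as a total right derived functor. Then every
RΓ_I(K) has I-power torsion cohomology modules, and the resulting functor from D(A) to the full
subcategory of such objects is right adjoint to the inclusion. -/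
theorem result (A : Type u) [CommRing A] [IsNoetherianRing A] (I : Ideal A) [DRing.HasRgammaI I] : ∃ h : ∀ K : Dual.D A, (fun L : Dual.D A => ∀ i : ℤ, LocCoh.IsPowerTorsion I (Dual.HD A L i)) ((DRing.RgammaI I).obj K), Nonempty (ObjectProperty.ι (fun L : Dual.D A => ∀ i : ℤ, LocCoh.IsPowerTorsion I (Dual.HD A L i)) ⊣ ObjectProperty.lift (fun L : Dual.D A => ∀ i : ℤ, LocCoh.IsPowerTorsion I (Dual.HD A L i)) (DRing.RgammaI I) h) := by

    open CategoryTheory Groth.L04.RGamma in
    refine ⟨fun K i => isPowerTorsion_HD_RgammaI I K i, ⟨Adjunction.mkOfHomEquiv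
      { homEquiv := fun L K => haveI := isIso_ε_of_torsion I L.obj L.property
          { toFun := fun g => ObjectProperty.homMk
              (inv ((DRing.RgammaIε I).app L.obj) ≫ (DRing.RgammaI I).map g)
            invFun := fun t => t.hom ≫ (DRing.RgammaIε I).app K
            left_inv := fun g => ?_
            right_inv := fun t => ?_ }
        homEquiv_naturality_left_symm := fun {L' L K} f g => ?_
        homEquiv_naturality_right := fun {L K K'} f g => ?_ }⟩⟩
    · show (inv _ ≫ _) ≫ _ = g
      rw [Category.assoc, (DRing.RgammaIε I).naturality, Functor.id_map, IsIso.inv_hom_id_assoc]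
    · refine ObjectProperty.hom_ext _ ?_
      show inv _ ≫ (DRing.RgammaI I).map (t.hom ≫ (DRing.RgammaIε I).app K) = t.hom
      haveI := isIso_ε_of_torsion I ((DRing.RgammaI I).obj K) (isPowerTorsion_HD_RgammaI I K)
      haveI := isIso_RgammaI_map_ε I K
      have h : ∀ u v : L.obj ⟶ (DRing.RgammaI I).obj K,
          u ≫ (DRing.RgammaIε I).app K = v ≫ (DRing.RgammaIε I).app K → u = v := fun u v huv => by
        have h1 := congrArg (DRing.RgammaI I).map huv
        rw [Functor.map_comp, Functor.map_comp, cancel_mono] at h1
        have hu := (DRing.RgammaIε I).naturality u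
        have hv := (DRing.RgammaIε I).naturality v
        rw [h1, hv] at hu
        simp only [Functor.id_map, cancel_epi] at hu
        exact hu.symm
      refine h _ _ ?_
      rw [Category.assoc]; erw [(DRing.RgammaIε I).naturality, Functor.id_map, IsIso.inv_hom_id_assoc]
    · exact Category.assoc f.hom g.hom ((DRing.RgammaIε I).app K)
    · refine ObjectProperty.hom_ext _ ?_
      haveI := isIso_ε_of_torsion I L.obj L.property
      show inv ((DRing.RgammaIε I).app L.obj) ≫ (DRing.RgammaI I).map (f ≫ g) = (inv _ ≫ (DRing.RgammaI I).map f) ≫ (DRing.RgammaI I).map g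
      rw [Functor.map_comp, Category.assoc]

end Groth.Agent.S1817
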