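import Groth.Statements.S18174
import Groth.Agent.L26.FF.Chain

set_option autoImplicit false
open FunFld

namespace Groth.Agent.S18174

open Groth.Agent.FF

/-- Let `k` be an algebraically closed field of characteristic zero and `K/k` a function field of one
variable (the function field of a smooth projective curve over `k`). A `g^r_d` is a divisor `D` of
degree `d` with a subspace `V ⊆ L(D)` of dimension `r + 1`; for a place `P` and `n ≥ 0`, `V(-nP) = V
∩ L(D - nP)` is the space of members vanishing to order at least `n` at `P`, so `dim V(-nP)` counts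
the vanishing orders `m_0 < ⋯ < m_r` of `V` at `P` that are at least `n`, and the weight of `V` at
`P` is `∑_{n=1}^{d} dim V(-nP) - r(r+1)/2`. Aspects `(D_Y, V_Y)` on `K_Y` and `(D_Z, V_Z)` on `K_Z`
of a limit `g^r_d` on two components meeting in a node (a place `P` of `K_Y` and a place `Q` of
`K_Z`) are compatible there when `m_i(V_Y, P) + m_{r-i}(V_Z, Q) = d` for every `i`, equivalently
`dim V_Y(-nP) + dim V_Z(-(d+1-n)Q) = r + 1` for `0 ≤ n ≤ d + 1`. Let the component `Y` (function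
field `K_Y`, aspect `(D_Y, V_Y)`) meet at the node `P` a chain of components `W_0, …, W_{n-1}`, `n ≥
1`, with aspects `(D_j, V_j)`, where `W_j` carries the node place `A_j` towards `Y` (for `j = 0`) or
towards `W_{j-1}`, and the node place `B_j ≠ A_j` towards `W_{j+1}` (for `j + 1 < n`); assume `W_0,
…, W_{n-2}` have genus `0`, `W_{n-1}` has positive genus, and consecutive aspects are compatible at
every node. Then `V_Y` has at least a cusp at `P`: `m_1(V_Y, P) ≥ 2`, that is `dim V_Y(-2P) ≥ r`.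
(The source assumes moreover that `Y` is rational; its argument does not use this, so that
hypothesis is omitted here.) (The source states this for curves over the complex numbers.) -/
theorem result
    (k : Type*) [Field k] [IsAlgClosed k] [CharZero k]
    (KY : Type*) [Field KY] [Algebra k KY] (hKY : FunFld.IsFunctionField k KY)
    (n : ℕ) (hn : 0 < n)
    (W : Fin n → Type*) [∀ j, Field (W j)] [∀ j, Algebra k (W j)]
    (hW : ∀ j, FunFld.IsFunctionField k (W j))
    (hrat : ∀ j : Fin n, (j : ℕ) + 1 < n → FunFld.genus k (W j) = 0)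
    (hpos : ∀ j : Fin n, (j : ℕ) + 1 = n → 0 < FunFld.genus k (W j))
    (d r : ℕ) (DY : FunFld.Divisor k KY) (hDY : DY.deg = d)
    (VY : Submodule k KY) (hVY : VY ≤ FunFld.L DY) (hVYr : Module.finrank k ↥VY = r + 1)
    (D : ∀ j, FunFld.Divisor k (W j)) (hD : ∀ j, (D j).deg = d)
    (V : ∀ j, Submodule k (W j)) (hV : ∀ j, V j ≤ FunFld.L (D j))
    (hVr : ∀ j, Module.finrank k ↥(V j) = r + 1)
    (P : FunFld.Place k KY) (A B : ∀ j, FunFld.Place k (W j))
    (hAB : ∀ j : Fin n, (j : ℕ) + 1 < n → A j ≠ B j)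
    (hcomp0 : ∀ m : ℕ, m ≤ d + 1 →
      Module.finrank k ↥(VY ⊓ FunFld.L (DY - Finsupp.single P ((m : ℤ)))) +
        Module.finrank k ↥((V ⟨0, hn⟩) ⊓ FunFld.L ((D ⟨0, hn⟩) - Finsupp.single (A ⟨0, hn⟩) ((d : ℤ) + 1 - m))) = r + 1)
    (hcomp : ∀ (j : Fin n) (hj : (j : ℕ) + 1 < n) (m : ℕ), m ≤ d + 1 →
      Module.finrank k ↥((V j) ⊓ FunFld.L ((D j) - Finsupp.single (B j) ((m : ℤ)))) +
        Module.finrank k ↥((V ⟨(j : ℕ) + 1, hj⟩) ⊓ FunFld.L ((D ⟨(j : ℕ) + 1, hj⟩) - Finsupp.single (A ⟨(j : ℕ) + 1, hj⟩) ((d : ℤ) + 1 - m))) = r + 1) :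
    r ≤ Module.finrank k ↥(VY ⊓ FunFld.L (DY - Finsupp.single P ((2 : ℤ)))) := by
  obtain ⟨N, rfl⟩ : ∃ N, n = N + 1 := ⟨n - 1, by omega⟩
  have SY : Ser DY VY d r := ⟨hKY, hDY, hVY, hVYr⟩
  show r ≤ prof DY VY P 2
  rcases Nat.eq_zero_or_pos r with hr | hr
  · omega
  have C : Chain d r D V A B := ⟨fun i => ⟨hW i, hD i, hV i, hVr i⟩,
    fun i _ h => hAB i (by omega), fun l m hm => hcomp l.castSucc (by simp) m hm⟩
  have hd : r ≤ d := SY.r_le
  have h1 : prof (D 0) (V 0) (A 0) ((d : ℤ) - 1) ≤ 1 := by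
    rcases Nat.eq_zero_or_pos N with rfl | hN
    · exact C.prof_top_le_one (hpos _ (by simp)) hr 0 (Or.inr rfl) C.hAB
    · let l : Fin N := ⟨0, hN⟩
      have hcusp : r ≤ prof (D l.castSucc) (V l.castSucc) (B l.castSucc) 2 :=
        C.cusp_of_pos (hpos _ (by simp)) l
      have := (C.ser l.castSucc).prof_pair_le (hAB l.castSucc (by simp [l]; omega))
        (a := (d : ℤ) - 1) (b := 2) (by omega)
      show prof (D l.castSucc) (V l.castSucc) (A l.castSucc) ((d : ℤ) - 1) ≤ 1
      omega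
  have h2 : prof DY VY P ((2 : ℕ) : ℤ) + prof (D 0) (V 0) (A 0) ((d : ℤ) + 1 - ((2 : ℕ) : ℤ)) = r + 1 :=
    hcomp0 2 (by omega)
  rw [show (d : ℤ) + 1 - ((2 : ℕ) : ℤ) = (d : ℤ) - 1 by push_cast; ring] at h2
  push_cast at h2
  omega

end Groth.Agent.S18174
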