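import Groth.Statements.S1818
import Groth.Agent.L10.DRing.DualityCompletion

set_option autoImplicit false
set_option backward.defeqAttrib.useBackward true
set_option backward.isDefEq.respectTransparency false
universe u
open CategoryTheory
attribute [local instance] HasDerivedCategory.standard
open Dual

namespace Groth.Agent.S1818

/-- Let A be a Noetherian local ring with maximal ideal m, ω a normalized dualizing complex and κ → E an
injective hull of the residue field. Let K be a complex of A-modules and G a complex representing
RΓ_m(K); assume the derived functors RHom(K, −), RHom(G, −), RΓ_m and derived m-completion exist.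
Then the derived m-completion of RHom_A(K, ω) is isomorphic in D(A) to RHom_A(G, E[0]) =
RHom_A(RΓ_m(K), E[0]). -/
theorem result (A : Type u) [CommRing A] [IsLocalRing A] [IsNoetherianRing A] (ω : Dual.D A) (hω : Dual.IsDualizing A ω) (hn : Dual.IsNormalized A ω) (E : Type u) [AddCommGroup E] [Module A E] (f : IsLocalRing.ResidueField A →ₗ[A] E) (hf : InjHull.IsInjectiveHull f) [DRing.HasRgammaI (IsLocalRing.maximalIdeal A)] [DRing.HasDerivedCompletion (IsLocalRing.maximalIdeal A)] (K : DRing.Cx A) [DRing.HasRHomCx K] (G : DRing.Cx A) [DRing.HasRHomCx G] (hG : Nonempty (DRing.toD G ≅ (DRing.RgammaI (IsLocalRing.maximalIdeal A)).obj (DRing.toD K))) : Nonempty (((DRing.derivedCompletion (IsLocalRing.maximalIdeal A)).obj ((DRing.RHomCx K).obj ω)).obj ≅ (DRing.RHomCx G).obj (Dual.inD A E)) := by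
  obtain ⟨eG⟩ := hG
  exact Groth.L10.DualityCompletion.nonempty_iso hω hn f hf K G eG

end Groth.Agent.S1818
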