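import Groth.Statements.S18180
import Groth.Agent.L26.FF.Chain

set_option autoImplicit false
open FunFld

namespace Groth.Agent.S18180

open Groth.Agent.FF

/-- Let `k` be an algebraically closed field of characteristic zero and `K/k` a function field of one
variable (the function field of a smooth projective curve over `k`). A `g^r_d` is a divisor `D` of
degree `d` with a subspace `V ⊆ L(D)` of dimension `r + 1`; for a place `P` and `n ≥ 0`, `V(-nP) = V
∩ L(D - nP)` is the space of members vanishing to order at least `n` at `P`, so `dim V(-nP)` counts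
the vanishing orders `m_0 < ⋯ < m_r` of `V` at `P` that are at least `n`, and the weight of `V` at
`P` is `∑_{n=1}^{d} dim V(-nP) - r(r+1)/2`. Aspects `(D_Y, V_Y)` on `K_Y` and `(D_Z, V_Z)` on `K_Z`
of a limit `g^r_d` on two components meeting in a node (a place `P` of `K_Y` and a place `Q` of
`K_Z`) are compatible there when `m_i(V_Y, P) + m_{r-i}(V_Z, Q) = d` for every `i`, equivalently
`dim V_Y(-nP) + dim V_Z(-(d+1-n)Q) = r + 1` for `0 ≤ n ≤ d + 1`. A backbone is a chain of rational
components `Z_0, …, Z_N` (function fields `K_i` of genus `0`), `Z_i` meeting `Z_{i+1}` in a node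
given by a place `B_i` of `K_i` and a place `A_{i+1}` of `K_{i+1}`, the two node places `A_i ≠ B_i`
of an inner component being distinct; each `Z_i` carries an aspect `(D_i, V_i)` of a limit `g^r_d`
and consecutive aspects are compatible at the nodes. A set `T` of indices marks the components
carrying a tail: for `i ∈ T` the aspect `V_i` has at least a cusp (`dim V_i(-2Q_i) ≥ r`) at a
further place `Q_i` of `K_i`, distinct from the node places of `Z_i`. (In the source these are the
backbone components of a flag curve to which a chain of rational curves ending in an elliptic tail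
is attached, `T` has `g` elements, and the cusp is forced by that chain.) Then for an inner backbone
component `Z_i` (`0 < i < N`) the weights of its aspect at its two nodes satisfy `w(V_i, A_i) +
w(V_i, B_i) ≥ r · |T ∖ {i}|` (in the source: at least `r(g-1)`, `g` the number of tails), that is
`∑_{n=1}^{d} dim V_i(-nA_i) + ∑_{n=1}^{d} dim V_i(-nB_i) ≥ r · |T ∖ {i}| + r(r+1)`. (The source
states this for curves over the complex numbers.) -/
theorem result
    (k : Type*) [Field k] [IsAlgClosed k] [CharZero k]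
    (N : ℕ) (Z : Fin (N + 1) → Type*) [∀ i, Field (Z i)] [∀ i, Algebra k (Z i)]
    (hZ : ∀ i, FunFld.IsFunctionField k (Z i)) (hrat : ∀ i, FunFld.genus k (Z i) = 0)
    (d r : ℕ) (D : ∀ i, FunFld.Divisor k (Z i)) (hD : ∀ i, (D i).deg = d)
    (V : ∀ i, Submodule k (Z i)) (hV : ∀ i, V i ≤ FunFld.L (D i))
    (hVr : ∀ i, Module.finrank k ↥(V i) = r + 1)
    (A B : ∀ i, FunFld.Place k (Z i))
    (hAB : ∀ i : Fin (N + 1), 0 < (i : ℕ) → (i : ℕ) < N → A i ≠ B i)
    (hcomp : ∀ (l : Fin N) (m : ℕ), m ≤ d + 1 →
      Module.finrank k ↥((V l.castSucc) ⊓ FunFld.L ((D l.castSucc) - Finsupp.single (B l.castSucc) ((m : ℤ)))) +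
        Module.finrank k ↥((V l.succ) ⊓ FunFld.L ((D l.succ) - Finsupp.single (A l.succ) ((d : ℤ) + 1 - m))) = r + 1)
    (T : Finset (Fin (N + 1))) (Q : ∀ i, FunFld.Place k (Z i))
    (hQA : ∀ i ∈ T, 0 < (i : ℕ) → Q i ≠ A i) (hQB : ∀ i ∈ T, (i : ℕ) < N → Q i ≠ B i)
    (hcusp : ∀ i ∈ T, r ≤ Module.finrank k ↥((V i) ⊓ FunFld.L ((D i) - Finsupp.single (Q i) ((2 : ℤ)))))
    (i : Fin (N + 1)) (hi0 : 0 < (i : ℕ)) (hiN : (i : ℕ) < N) :
    r * (T.erase i).card + r * (r + 1) ≤
      (∑ n ∈ Finset.range d, Module.finrank k ↥((V i) ⊓ FunFld.L ((D i) - Finsupp.single (A i) ((n : ℤ) + 1)))) +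
        (∑ n ∈ Finset.range d, Module.finrank k ↥((V i) ⊓ FunFld.L ((D i) - Finsupp.single (B i) ((n : ℤ) + 1)))) := by
  have C : Chain d r D V A B := ⟨fun i => ⟨hZ i, hD i, hV i, hVr i⟩, hAB, hcomp⟩
  show r * (T.erase i).card + r * (r + 1) ≤ wt (D i) (V i) (A i) d + wt (D i) (V i) (B i) d
  have h1 := C.left hrat T Q hQA hQB hcusp i
  have h2 := C.right hrat T Q hQA hQB hcusp i
  have h3 := C.card_split T i
  rw [if_pos hi0, w2] at h1
  rw [if_pos hiN, w2] at h2
  have h4 : ((T.erase i).card : ℤ) = (T.filter fun j => j < i).card + (T.filter fun j => i < j).card := by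
    rw [Finset.card_erase_eq_ite]
    split_ifs at h3 ⊢ <;> omega
  have : ((r * (T.erase i).card + r * (r + 1) : ℕ) : ℤ) ≤
      ((wt (D i) (V i) (A i) d + wt (D i) (V i) (B i) d : ℕ) : ℤ) := by
    push_cast; rw [h4]; linarith
  exact_mod_cast this

end Groth.Agent.S18180
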