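import Groth.Statements.S18182
import Groth.Agent.L26.FF.Inflection
import Groth.Agent.L26.FF.Series

set_option autoImplicit false
open FunFld

namespace Groth.Agent.S18182

open Groth.Agent.FF WithZero

/-- Let `k` be an algebraically closed field of characteristic zero and `K/k` a function field of one
variable (the function field of a smooth projective curve over `k`). A `g^r_d` is a divisor `D` of
degree `d` with a subspace `V ⊆ L(D)` of dimension `r + 1`; for a place `P` and `n ≥ 0`, `V(-nP) = V
∩ L(D - nP)` is the space of members vanishing to order at least `n` at `P`, so `dim V(-nP)` counts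
the vanishing orders `m_0 < ⋯ < m_r` of `V` at `P` that are at least `n`, and the weight of `V` at
`P` is `∑_{n=1}^{d} dim V(-nP) - r(r+1)/2`. Assume `K` has genus one, fix a place `P` and natural
numbers `d` and `r ≥ 1`. Then only finitely many places `Q ≠ P` admit a `g^r_d` `(D, V)` whose
weights at `P` and `Q` are large in the sense `w(V, P) + w(V, Q) ≥ (r+1)(d-r) - (r-1)`, that is
`(r+1)d + 1 ≤ ∑_{n=1}^{d} dim V(-nP) + ∑_{n=1}^{d} dim V(-nQ) + r`. (In the source `K` is an
elliptic tail of a flag curve degenerating a general curve of genus `g`, `P` its node, `Q` the limit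
of a moving ramification point, and the weight hypothesis is what `ρ ≤ 0` gives; the finiteness of
torsion points of bounded order on an elliptic curve is used.) (The source states this for curves
over the complex numbers.) -/
theorem result
    (k : Type*) [Field k] [IsAlgClosed k] [CharZero k]
    (K : Type*) [Field K] [Algebra k K] (hK : FunFld.IsFunctionField k K) (hg1 : FunFld.genus k K = 1)
    (P : FunFld.Place k K) (d r : ℕ) (hr : 1 ≤ r) :
    Set.Finite {Q : FunFld.Place k K | Q ≠ P ∧ ∃ (D : FunFld.Divisor k K) (V : Submodule k K),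
      D.deg = d ∧ V ≤ FunFld.L D ∧ Module.finrank k ↥V = r + 1 ∧
      (r + 1) * d + 1 ≤
        (∑ n ∈ Finset.range d, Module.finrank k ↥(V ⊓ FunFld.L (D - Finsupp.single P ((n : ℤ) + 1)))) +
          (∑ n ∈ Finset.range d, Module.finrank k ↥(V ⊓ FunFld.L (D - Finsupp.single Q ((n : ℤ) + 1)))) + r} := by
  classical
  let B : ℕ → Set (FunFld.Place k K) := fun e => {Q | Q ≠ P ∧
    ∃ f ∈ FunFld.L (Finsupp.single P (e : ℤ)), f ≠ 0 ∧ (e : ℤ) ≤ Q.ord f}
  have hB : ∀ e, 1 ≤ e → (B e).Finite := by
    intro e he
    have hdeg : FunFld.Divisor.deg (Finsupp.single P (e : ℤ) : FunFld.Divisor k K) = e := by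
      rw [deg_single, deg_eq_one hK P, Nat.cast_one, mul_one]
    have hell : FunFld.ell (Finsupp.single P (e : ℤ) : FunFld.Divisor k K) = e - 1 + 1 := by
      have := ell_eq_of_deg_ge hK (D := Finsupp.single P (e : ℤ)) (by rw [hdeg, hg1]; omega)
      rw [hdeg, hg1] at this
      omega
    haveI := finite_L hK.1 (Finsupp.single P (e : ℤ))
    let b := Module.finBasisOfFinrankEq k (FunFld.L (Finsupp.single P (e : ℤ))) hell
    set φ : Fin (e - 1 + 1) → K := fun i => (b i : K) with hφd
    have hφ : LinearIndependent k φ := b.linearIndependent.map' (FunFld.L _).subtype (Submodule.ker_subtype _)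
    have hspan : Submodule.span k (Set.range φ) = FunFld.L (Finsupp.single P (e : ℤ)) := by
      rw [show φ = (FunFld.L _).subtype ∘ b from rfl, Set.range_comp, ← Submodule.map_span, b.span_eq,
        Submodule.map_subtype_top]
    refine (finite_exceptional hK hφ).subset fun Q hQ => ?_
    obtain ⟨hQP, f, hf, hf0, hfe⟩ := hQ
    refine ⟨f, hspan.symm ▸ hf, hf0, ?_⟩
    have hone : (1 : K) ∈ FunFld.L (FunFld.mapDiv k φ) := span_le_L_mapDiv hK.1 hφ.ne_zero (by
      rw [hspan]
      exact (mem_L_iff_ord one_ne_zero).2 fun R => by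
        rw [show R.ord (1 : K) = 0 from (val_eq_one_iff R one_ne_zero).1 (map_one _), Finsupp.single_apply]
        split_ifs <;> omega)
    have h1 := (mem_L_iff_ord one_ne_zero).1 hone Q
    rw [show Q.ord (1 : K) = 0 from (val_eq_one_iff Q one_ne_zero).1 (map_one _)] at h1
    omega
  refine (Set.Finite.biUnion (Finset.Icc 1 d).finite_toSet fun e he => hB e (Finset.mem_Icc.1 he).1).subset
    fun Q hQ => ?_
  obtain ⟨hQP, D, V, hD, hV, hr', hw⟩ := hQ
  have S : Ser D V d r := ⟨hK, hD, hV, hr'⟩
  change (r + 1) * d + 1 ≤ wt D V P d + wt D V Q d + r at hw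
  have hPQ : P ≠ Q := fun h => hQP h.symm
  obtain ⟨g, m, hm, hgV, hg0, hgord, -, -⟩ := S.exists_adapted P
  -- orders at `P`
  have hdrop : ∀ i, prof D V P ((m i : ℤ) + 1) < prof D V P (m i : ℤ) := fun i => by
    have := S.finite
    haveI : FiniteDimensional k ↥(V ⊓ FunFld.L (D - Finsupp.single P (m i : ℤ))) :=
      Submodule.finiteDimensional_of_le inf_le_left
    refine Submodule.finrank_lt_finrank_of_lt (lt_of_le_not_ge
      (inf_le_inf_left V (L_mono (S.sub_single_anti P (by omega)))) fun hle => ?_)
    have hg : g i ∈ V ⊓ FunFld.L (D - Finsupp.single P (m i : ℤ)) := ⟨hgV i, (mem_L_iff_ord (hg0 i)).2 fun R => by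
      have h1 := (mem_L_iff_ord (hg0 i)).1 (hV (hgV i)) R
      rw [Finsupp.sub_apply, Finsupp.single_apply]
      split_ifs with h
      · subst h; have := hgord i; omega
      · omega⟩
    have h1 := (mem_L_iff_ord (hg0 i)).1 (hle hg).2 P
    rw [Finsupp.sub_apply, Finsupp.single_eq_same] at h1
    have := hgord i
    omega
  have hmd : ∀ i, m i ≤ d := fun i => by
    by_contra h
    have := hdrop i
    rw [S.prof_eq_zero P (n := (m i : ℤ)) (by omega)] at this
    omega
  -- few defects
  let f : ℕ → ℕ := fun a => prof D V P ((a : ℤ) + 1) + prof D V Q ((d : ℤ) - a)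
  have hf : ∀ a, f a ≤ r + 1 := fun a => S.prof_pair_le hPQ (by omega)
  have hsum : ∑ a ∈ Finset.range d, f a = wt D V P d + wt D V Q d := by
    rw [Finset.sum_add_distrib, wt, wt, ← Finset.sum_range_reflect (fun n => prof D V Q ((n : ℤ) + 1)) d]
    refine congrArg₂ _ rfl (Finset.sum_congr rfl fun a ha => ?_)
    have := Finset.mem_range.1 ha
    congr 1
    omega
  let bad := (Finset.range d).filter fun a => f a < r + 1
  have hbad : bad.card + 1 ≤ r := by
    have h1 : ∑ a ∈ Finset.range d, f a + bad.card ≤ (r + 1) * d := by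
      rw [Finset.card_filter, ← Finset.sum_add_distrib]
      refine (Finset.sum_le_card_nsmul _ _ (r + 1) fun a _ => ?_).trans (by rw [Finset.card_range, smul_eq_mul, mul_comm])
      have := hf a
      split_ifs <;> omega
    rw [hsum] at h1
    omega
  let good := (Finset.univ : Finset (Fin (r + 1))).filter fun i => m i ∉ bad
  have hgood : 1 < good.card := by
    have h1 := Finset.card_filter_add_card_filter_not (s := (Finset.univ : Finset (Fin (r + 1)))) (fun i => m i ∈ bad)
    have h2 : ((Finset.univ : Finset (Fin (r + 1))).filter fun i => m i ∈ bad).card ≤ bad.card :=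
      Finset.card_le_card_of_injOn m (fun i hi => (Finset.mem_filter.1 hi).2) fun a _ b _ h => hm h
    rw [Finset.card_univ, Fintype.card_fin] at h1
    show 1 < (Finset.filter _ _).card
    omega
  -- each good order gives a relation
  have hrel : ∀ i ∈ good, ∃ z : K, z ≠ 0 ∧ FunFld.div k z + D =
      Finsupp.single P (m i : ℤ) + Finsupp.single Q ((d : ℤ) - m i) := by
    intro i hi
    have hi' := (Finset.mem_filter.1 hi).2
    have hpair : r + 2 ≤ prof D V P (m i : ℤ) + prof D V Q ((d : ℤ) - m i) := by
      rcases (hmd i).eq_or_lt with h | h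
      · rw [h, sub_self, S.prof_zero Q]
        have := hdrop i
        rw [h] at this
        omega
      · have : r + 1 ≤ f (m i) := not_lt.1 fun h' => hi' (Finset.mem_filter.2 ⟨Finset.mem_range.2 h, h'⟩)
        have := hdrop i
        simp only [f] at *
        omega
    have hpos := S.inf_pair_le hPQ (m i : ℤ) ((d : ℤ) - m i)
    obtain ⟨z, hz, hz0⟩ := exists_ne_zero_of_ell_pos
      (D := D - Finsupp.single P (m i : ℤ) - Finsupp.single Q ((d : ℤ) - m i)) (by omega)
    refine ⟨z, hz0, ?_⟩
    have h0 := eq_zero_of_deg_zero hK ((mem_L_iff_div hK.1 hz0).1 hz) (by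
      rw [deg_add, deg_div hK.1, deg_sub, deg_sub, deg_single, deg_single, deg_eq_one hK,
        deg_eq_one hK, hD]; push_cast; ring)
    rw [← sub_eq_zero, ← h0]
    abel
  obtain ⟨i, hi, j, hj, hij⟩ := Finset.one_lt_card.1 hgood
  obtain ⟨x, hx0, hx⟩ := hrel i hi
  obtain ⟨y, hy0, hy⟩ := hrel j hj
  have key : ∀ (a b : Fin (r + 1)) (x y : K), x ≠ 0 → y ≠ 0 →
      FunFld.div k x + D = Finsupp.single P (m a : ℤ) + Finsupp.single Q ((d : ℤ) - m a) →
      FunFld.div k y + D = Finsupp.single P (m b : ℤ) + Finsupp.single Q ((d : ℤ) - m b) →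
      m a < m b → Q ∈ ⋃ e ∈ (Finset.Icc 1 d : Set ℕ), B e := by
    intro a b x y hx0 hy0 hx hy hab
    refine Set.mem_iUnion₂.2 ⟨m b - m a, Finset.mem_coe.2 (Finset.mem_Icc.2 ⟨by omega, by have := hmd b; omega⟩), hQP,
      x / y, ?_, div_ne_zero hx0 hy0, ?_⟩
    all_goals
      have hdiv : ∀ R : FunFld.Place k K, R.ord (x / y) = (Finsupp.single P ((m a : ℤ) - m b)) R +
          (Finsupp.single Q ((m b : ℤ) - m a)) R := fun R => by
        have e1 := congrArg (fun E : FunFld.Divisor k K => E R) hx
        have e2 := congrArg (fun E : FunFld.Divisor k K => E R) hy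
        simp only [Finsupp.add_apply, div_apply hK.1] at e1 e2
        rw [div_eq_mul_inv, ord_mul R hx0 (inv_ne_zero hy0), ord_inv]
        simp only [Finsupp.single_apply] at e1 e2 ⊢
        split_ifs at e1 e2 ⊢ <;> omega
    · refine (mem_L_iff_ord (div_ne_zero hx0 hy0)).2 fun R => ?_
      rw [hdiv R]
      simp only [Finsupp.single_apply]
      split_ifs <;> omega
    · rw [hdiv Q, Finsupp.single_eq_same, Finsupp.single_eq_of_ne hQP]
      omega
  rcases lt_or_gt_of_ne (fun h => hij (hm h)) with h | h
  · exact key i j x y hx0 hy0 hx hy h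
  · exact key j i y x hy0 hx0 hy hx h

end Groth.Agent.S18182
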