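import Groth.Statements.S18188
import Groth.Agent.L13.Dedekind.Basic
import Mathlib.Algebra.BigOperators.Ring.Finset

set_option autoImplicit false
universe u
open OrbRR

namespace Groth.Agent.S18188

open Groth.Agent.L13.Dedekind

/-- Let K be a field in which 6 ≠ 0, let j < N be natural numbers (so N ≥ 1), and let ζ ∈ K be a
primitive N-th root of unity. Then the sum over i = 1, …, N − 1 of ζ^{ij} / (2 − ζ^i − ζ^{−i})
equals j(j − N)/2 + (N² − 1)/12. (The published setting is characteristic zero; the identity is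
stated here over any field of characteristic different from 2 and 3, where the published proof
applies unchanged: a field containing a primitive N-th root of unity has characteristic prime to N,
and each denominator 2 − ζ^i − ζ^{−i} = −(1 − ζ^i)²/ζ^i with 0 < i < N is nonzero. In
characteristics 2 and 3 the right-hand side has no meaning.) -/
theorem result (K : Type u) [Field K] (h6 : (6 : K) ≠ 0)
    (N j : ℕ) (hj : j < N) (ζ : K) (hζ : IsPrimitiveRoot ζ N) :
    ∑ i ∈ Finset.Ioo 0 N, ζ ^ (i * j) / (2 - ζ ^ i - (ζ ^ i)⁻¹) =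
      (j : K) * ((j : K) - (N : K)) / 2 + ((N : K) ^ 2 - 1) / 12 := by
  have hN : 0 < N := by omega
  have hNK : (N : K) ≠ 0 := by
    have : NeZero N := ⟨hN.ne'⟩
    exact (hζ.neZero').out
  let T : ℕ → K := fun i => ζ ^ (i * j) * ∑ l ∈ Finset.range N, (ζ ^ i) ^ l * f N l
  have hterm : ∀ i ∈ Finset.Ioo 0 N,
      ζ ^ (i * j) / (2 - ζ ^ i - (ζ ^ i)⁻¹) = T i / (N : K) := by
    intro i hi
    obtain ⟨hi0, hiN⟩ := Finset.mem_Ioo.mp hi
    have h1 : ζ ^ i ≠ 1 := hζ.pow_ne_one_of_pos_of_lt hi0.ne' hiN
    have hz : ζ ^ i ≠ 0 := pow_ne_zero _ (hζ.ne_zero hN.ne')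
    have hd := two_sub_ne_zero hz h1
    have hmul := mul_sum_pow_mul_f h6 hN (by rw [← pow_mul, mul_comm, pow_mul, hζ.pow_eq_one, one_pow]) h1
    rw [div_eq_div_iff hd hNK, ← hmul]
    simp only [T]
    ring
  have hT0 : T 0 = 0 := by simp [T, sum_f h6]
  simp only [Finset.sum_congr rfl hterm, div_eq_mul_inv (T _)]
  rw [← Finset.sum_mul, ← div_eq_mul_inv,
    show ∑ i ∈ Finset.Ioo 0 N, T i = ∑ i ∈ Finset.range N, T i by
      refine Finset.sum_subset (fun i hi => Finset.mem_range.mpr (Finset.mem_Ioo.mp hi).2) fun i hi hi' => ?_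
      obtain rfl : i = 0 := by
        simp only [Finset.mem_Ioo, Finset.mem_range, not_and, not_lt] at hi hi'
        by_contra h
        exact absurd (hi' (Nat.pos_of_ne_zero h)) (by omega)
      exact hT0]
  let l₀ : ℕ := (N - j) % N
  have hl₀ : l₀ < N := Nat.mod_lt _ hN
  have hsum : ∑ i ∈ Finset.range N, T i = (N : K) * f N l₀ := by
    simp only [T, Finset.mul_sum]
    rw [Finset.sum_comm, Finset.sum_eq_single l₀]
    · have h1 : ζ ^ (j + l₀) = 1 := by
        rw [hζ.pow_eq_one_iff_dvd, Nat.dvd_iff_mod_eq_zero]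
        show (j + (N - j) % N) % N = 0
        rw [Nat.add_mod_mod, Nat.add_sub_cancel' hj.le, Nat.mod_self]
      rw [Finset.sum_congr rfl (g := fun _ => f N l₀) fun i _ => by
        rw [← mul_assoc, ← pow_mul, ← pow_add, ← Nat.mul_add, mul_comm i, pow_mul, h1, one_pow, one_mul]]
      simp
    · intro l hl hne
      rw [Finset.sum_congr rfl (g := fun i => (ζ ^ (j + l)) ^ i * f N l) fun i _ => by
          rw [← mul_assoc, ← pow_mul, ← pow_add, ← pow_mul]; congr 2; ring,
        ← Finset.sum_mul, sum_pow_eq_zero (by rw [← pow_mul, mul_comm, pow_mul, hζ.pow_eq_one, one_pow]) ?_,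
        zero_mul]
      intro h1
      rw [hζ.pow_eq_one_iff_dvd] at h1
      refine hne ?_
      have hlN := Finset.mem_range.mp hl
      show l = (N - j) % N
      obtain ⟨q, hq⟩ := h1
      have hq2 : q < 2 := by
        by_contra h
        have : N * 2 ≤ N * q := Nat.mul_le_mul_left N (by omega)
        omega
      interval_cases q
      · have hj0 : j = 0 := by omega
        have hl0 : l = 0 := by omega
        simp [hj0, hl0]
      · rw [Nat.mod_eq_of_lt (by omega)]; omega
    · intro h
      exact absurd (Finset.mem_range.mpr hl₀) h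
  rw [hsum, mul_div_cancel_left₀ _ hNK]
  show f N ((N - j) % N) = f N j
  rcases Nat.eq_zero_or_pos j with rfl | hj0
  · simp
  · rw [Nat.mod_eq_of_lt (by omega), f_sub N j hj.le]

end Groth.Agent.S18188
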