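import Groth.Statements.S18189
import Groth.Agent.L13.Dedekind.Basic
import Mathlib.Algebra.BigOperators.Ring.Finset
import Mathlib.Analysis.Complex.Norm
import Mathlib.Analysis.SpecialFunctions.Complex.Circle

set_option autoImplicit false
open OrbRR

namespace Groth.Agent.S18189

open Groth.Agent.L13.Dedekind

/-- Let N ≥ 1 be a natural number, let ζ ∈ ℂ be a primitive N-th root of unity, and put f(i) = i(i −
N)/2 + (N² − 1)/12 for 0 ≤ i < N. For every natural number m the complex number ε_m = (1/N)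
∑_{i=0}^{N−1} f(i) ζ^{mi}, an eigenvalue of the symmetric circulant N × N matrix with (i, j) entry
f(j − i)/N, is real and nonnegative. -/
theorem result (N : ℕ) (hN : 0 < N) (ζ : ℂ)
    (hζ : IsPrimitiveRoot ζ N) (m : ℕ) :
    (∑ i ∈ Finset.range N,
        ((i : ℂ) * ((i : ℂ) - (N : ℂ)) / 2 + ((N : ℂ) ^ 2 - 1) / 12) / (N : ℂ) * ζ ^ (m * i)).im = 0 ∧
    0 ≤ (∑ i ∈ Finset.range N,
        ((i : ℂ) * ((i : ℂ) - (N : ℂ)) / 2 + ((N : ℂ) ^ 2 - 1) / 12) / (N : ℂ) * ζ ^ (m * i)).re := by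
  have h6 : (6 : ℂ) ≠ 0 := by norm_num
  set ω := ζ ^ m with hωdef
  have hω : ω ^ N = 1 := by rw [hωdef, ← pow_mul, mul_comm, pow_mul, hζ.pow_eq_one, one_pow]
  have hS : ∑ i ∈ Finset.range N,
      ((i : ℂ) * ((i : ℂ) - (N : ℂ)) / 2 + ((N : ℂ) ^ 2 - 1) / 12) / (N : ℂ) * ζ ^ (m * i) =
        (∑ i ∈ Finset.range N, ω ^ i * f N i) / (N : ℂ) := by
    rw [div_eq_mul_inv (∑ i ∈ Finset.range N, ω ^ i * f N i), Finset.sum_mul]
    refine Finset.sum_congr rfl fun i _ => ?_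
    rw [hωdef, ← pow_mul, f]
    ring
  rw [hS]
  by_cases h1 : ω = 1
  · simp only [h1, one_pow, one_mul, sum_f h6, zero_div]
    simp
  have h0 : ω ≠ 0 := fun h => by simp [h, hN.ne'] at hω
  have hd := two_sub_ne_zero h0 h1
  have hmul := mul_sum_pow_mul_f h6 hN hω h1
  have hNC : (N : ℂ) ≠ 0 := Nat.cast_ne_zero.mpr hN.ne'
  have hval : (∑ i ∈ Finset.range N, ω ^ i * f N i) / (N : ℂ) = (2 - ω - ω⁻¹)⁻¹ := by
    rw [div_eq_iff hNC, ← hmul, inv_mul_cancel_left₀ hd]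
  rw [hval]
  have hnorm : ‖ω‖ = 1 := Complex.norm_eq_one_of_pow_eq_one hω hN.ne'
  have hconj : ω⁻¹ = (starRingEnd ℂ) ω := by
    rw [Complex.inv_def, Complex.normSq_eq_norm_sq, hnorm]
    simp
  have hre : ω.re ≤ 1 := (Complex.re_le_norm ω).trans hnorm.le
  have e : 2 - ω - ω⁻¹ = ((2 - 2 * ω.re : ℝ) : ℂ) := by
    rw [hconj]
    apply Complex.ext <;> simp <;> ring
  rw [e, ← Complex.ofReal_inv]
  refine ⟨Complex.ofReal_im _, ?_⟩
  rw [Complex.ofReal_re]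
  exact inv_nonneg.mpr (by linarith)

end Groth.Agent.S18189
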