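import Groth.Statements.S18190
import Mathlib.LinearAlgebra.Matrix.PosDef
import Mathlib.Data.ZMod.Basic
import Mathlib.Data.Real.Basic
import Mathlib.Tactic

set_option autoImplicit false
open OrbRR

namespace Groth.Agent.S18190

/-- The quadratic profile. -/
noncomputable def phi (N : ℕ) (t : ℝ) : ℝ := t * (t - N) / 2 + ((N : ℝ) ^ 2 - 1) / 12

theorem phi_symm (N : ℕ) (t : ℝ) : phi N ((N : ℝ) - t) = phi N t := by unfold phi; ring

theorem sum_phi (N M : ℕ) : ∑ a ∈ Finset.range M, phi N a =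
    ((M : ℝ) * (M - 1) * (2 * M - 1) / 6 - N * M * (M - 1) / 2) / 2
      + ((N : ℝ) ^ 2 - 1) / 12 * M := by
  induction M with
  | zero => simp
  | succ M ih => rw [Finset.sum_range_succ, ih]; unfold phi; push_cast; ring

variable {N : ℕ} [NeZero N]

/-- The circulant profile on `ℤ/N`. -/
noncomputable def g (x : ZMod N) : ℝ := phi N x.val

theorem g_natCast (n : ℕ) (hn : n ≤ N) : g (n : ZMod N) = phi N n := by
  rcases hn.lt_or_eq with h | h
  · rw [g, ZMod.val_natCast, Nat.mod_eq_of_lt h]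
  · subst h
    rw [g, ZMod.natCast_self, ZMod.val_zero]
    simp [phi]

theorem g_neg (x : ZMod N) : g (-x) = g x := by
  have h : x.val ≤ N := (ZMod.val_lt x).le
  have : (-x) = ((N - x.val : ℕ) : ZMod N) := by
    rw [Nat.cast_sub h, ZMod.natCast_self, ZMod.natCast_zmod_val, zero_sub]
  rw [this, g_natCast _ (Nat.sub_le _ _), Nat.cast_sub h, phi_symm, g]

theorem g_laplace (x : ZMod N) :
    2 * g x - g (x + 1) - g (x - 1) = (if x = 0 then (N : ℝ) else 0) - 1 := by
  have h : x.val < N := ZMod.val_lt x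
  have h1 : x + 1 = ((x.val + 1 : ℕ) : ZMod N) := by
    rw [Nat.cast_add, ZMod.natCast_zmod_val, Nat.cast_one]
  rw [h1, g_natCast _ h]
  by_cases hx : x = 0
  · have h2 : x - 1 = ((N - 1 : ℕ) : ZMod N) := by
      rw [Nat.cast_sub (NeZero.one_le), ZMod.natCast_self, hx, Nat.cast_one]
    rw [if_pos hx, h2, g_natCast _ (Nat.sub_le _ _), Nat.cast_sub (NeZero.one_le), Nat.cast_one,
      phi_symm, g, hx, ZMod.val_zero]
    simp [phi]; ring
  · have hpos : 1 ≤ x.val := Nat.one_le_iff_ne_zero.2 fun h0 => hx ((ZMod.val_eq_zero x).1 h0)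
    have h2 : x - 1 = ((x.val - 1 : ℕ) : ZMod N) := by
      rw [Nat.cast_sub hpos, ZMod.natCast_zmod_val, Nat.cast_one]
    rw [if_neg hx, h2, g_natCast _ ((Nat.sub_le _ _).trans h.le), Nat.cast_sub hpos]
    simp only [g, phi]
    push_cast
    ring

theorem g_sum : ∑ x : ZMod N, g x = 0 := by
  have e : ∑ a ∈ Finset.range N, phi N a = ∑ x : ZMod N, g x :=
    Finset.sum_bij (fun (a : ℕ) _ => (a : ZMod N)) (fun a _ => Finset.mem_univ _)
      (fun a ha b hb hab => by
        have := congrArg ZMod.val hab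
        rwa [ZMod.val_natCast, ZMod.val_natCast, Nat.mod_eq_of_lt (Finset.mem_range.1 ha),
          Nat.mod_eq_of_lt (Finset.mem_range.1 hb)] at this)
      (fun x _ => ⟨x.val, Finset.mem_range.2 (ZMod.val_lt x), ZMod.natCast_zmod_val x⟩)
      (fun a ha => (g_natCast a (Finset.mem_range.1 ha).le).symm)
  rw [← e, sum_phi]
  ring

theorem quad_nonneg (v : ZMod N → ℝ) : 0 ≤ ∑ i, v i * ∑ j, g (j - i) * v j := by
  obtain ⟨w, hw⟩ : ∃ w : ZMod N → ℝ, ∀ i, w i = ∑ j, g (j - i) * v j := ⟨_, fun _ => rfl⟩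
  simp only [← hw]
  have hsum : ∑ i, w i = 0 := by
    simp only [hw]
    rw [Finset.sum_comm]
    refine Finset.sum_eq_zero fun j _ => ?_
    rw [← Finset.sum_mul, show ∑ i, g (j - i) = ∑ i, g i from Equiv.sum_comp (Equiv.subLeft j) g,
      g_sum, zero_mul]
  have hL : ∀ i, 2 * w i - w (i + 1) - w (i - 1) = (N : ℝ) * v i - ∑ j, v j := by
    intro i
    simp only [hw, Finset.mul_sum, ← Finset.sum_sub_distrib]
    have e : ∀ j, 2 * (g (j - i) * v j) - g (j - (i + 1)) * v j - g (j - (i - 1)) * v j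
        = ((if j = i then (N : ℝ) else 0) - 1) * v j := by
      intro j
      have := g_laplace (j - i)
      simp only [sub_eq_zero] at this
      rw [← this, show j - i + 1 = j - (i - 1) by ring, show j - i - 1 = j - (i + 1) by ring]
      ring
    rw [Finset.sum_congr rfl fun j _ => e j]
    simp [sub_mul, ite_mul, Finset.sum_sub_distrib]
  have h1 : (N : ℝ) * ∑ i, v i * w i = ∑ i, w i * (2 * w i - w (i + 1) - w (i - 1)) := by
    rw [Finset.sum_congr rfl fun i _ => show w i * (2 * w i - w (i + 1) - w (i - 1))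
      = (N : ℝ) * (v i * w i) - w i * ∑ j, v j by rw [hL i]; ring, Finset.sum_sub_distrib,
      ← Finset.sum_mul, hsum, zero_mul, sub_zero, Finset.mul_sum]
  have h2 : ∑ i, w i * (2 * w i - w (i + 1) - w (i - 1)) = ∑ i, (w (i + 1) - w i) ^ 2 := by
    have s1 : ∑ i, w (i + 1) * w (i + 1) = ∑ i, w i * w i :=
      Equiv.sum_comp (Equiv.addRight (1 : ZMod N)) fun i => w i * w i
    have s2 : ∑ i, w i * w (i - 1) = ∑ i, w (i + 1) * w i := by
      rw [← Equiv.sum_comp (Equiv.addRight (1 : ZMod N)) fun i => w i * w (i - 1)]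
      simp
    rw [Finset.sum_congr rfl fun i _ => show w i * (2 * w i - w (i + 1) - w (i - 1))
      = (w i * w i - w (i + 1) * w (i + 1)) + (w (i + 1) * w i - w i * w (i - 1))
        + (w (i + 1) - w i) ^ 2 by ring, Finset.sum_add_distrib, Finset.sum_add_distrib,
      Finset.sum_sub_distrib, Finset.sum_sub_distrib, s1, s2, sub_self, sub_self, zero_add, zero_add]
  have hN : (0 : ℝ) < N := Nat.cast_pos.2 (NeZero.pos N)
  have := h1.trans h2
  have hnn : (0 : ℝ) ≤ ∑ i, (w (i + 1) - w i) ^ 2 := Finset.sum_nonneg fun i _ => sq_nonneg _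
  nlinarith


/-- Let N ≥ 1 and let f : ℤ/Nℤ → ℚ be f(x) = x(x − N)/2 + (N² − 1)/12, where x is read as its
representative with 0 ≤ x < N. The real N × N matrix indexed by ℤ/Nℤ whose (i, j) entry is f(j −
i)/N, a symmetric circulant matrix, is positive semidefinite. -/
theorem result (N : ℕ) [NeZero N] :
    (Matrix.of fun i j : ZMod N =>
        ((((j - i).val : ℝ) * (((j - i).val : ℝ) - (N : ℝ))) / 2 + ((N : ℝ) ^ 2 - 1) / 12) / (N : ℝ)).PosSemidef := by
  refine Matrix.PosSemidef.of_dotProduct_mulVec_nonneg ?_ fun v => ?_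
  · ext i j
    simp only [Matrix.conjTranspose_apply, star_trivial, Matrix.of_apply]
    have := g_neg (j - i)
    rw [neg_sub] at this
    simp only [g, phi] at this
    rw [this]
  · have hN : (0 : ℝ) < N := Nat.cast_pos.2 (NeZero.pos N)
    have e : star v ⬝ᵥ (Matrix.of fun i j : ZMod N =>
        ((((j - i).val : ℝ) * (((j - i).val : ℝ) - (N : ℝ))) / 2 + ((N : ℝ) ^ 2 - 1) / 12) / (N : ℝ)).mulVec v
        = (∑ i, v i * ∑ j, g (j - i) * v j) / N := by
      simp only [dotProduct, Matrix.mulVec, Pi.star_apply, star_trivial, Matrix.of_apply,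
        Finset.sum_div, Finset.mul_sum, g, phi]
      exact Finset.sum_congr rfl fun i _ => Finset.sum_congr rfl fun j _ => by ring
    rw [e]
    exact div_nonneg (quad_nonneg v) hN.le

end Groth.Agent.S18190
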