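import Groth.Statements.S18196
import Groth.Agent.L19.LocImm.Props
import Mathlib.AlgebraicGeometry.ZariskisMainTheorem

set_option autoImplicit false
set_option backward.isDefEq.respectTransparency.types false
set_option backward.isDefEq.respectTransparency false
set_option linter.style.haveILetI false
universe u
open LocImm

namespace Groth.Agent.S18196

open CategoryTheory AlgebraicGeometry in
/-- Let `f : X ⟶ Y` and `g : Y ⟶ Z` be morphisms of Noetherian schemes with `g` separated and `f ≫ g` a
localizing immersion (localizing and injective on points). If `f` is proper then `f` is a closed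
immersion. -/
theorem result {X Y Z : Scheme.{u}} [IsNoetherian X] [IsNoetherian Y] [IsNoetherian Z]
    (f : X ⟶ Y) (g : Y ⟶ Z) (hfg : LocImm.IsLocImmersion (f ≫ g)) [IsSeparated g] [IsProper f] : IsClosedImmersion f := by
  haveI := Groth.L19.LocImm.isPreimmersion_of_isLocImmersion hfg
  exact (IsClosedImmersion.iff_isProper_and_mono f).mpr ⟨inferInstance, mono_of_mono f g⟩

end Groth.Agent.S18196
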