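import Groth.Statements.S18198
import Groth.Agent.L13.Nagata.Affine
import Groth.Agent.L19.LocImm.Open
import Groth.Agent.S18191

set_option autoImplicit false
universe u
open LocImm

namespace Groth.Agent.S18198

open CategoryTheory AlgebraicGeometry in
/-- Let `f : X ⟶ S` be a separated morphism of Noetherian schemes that is essentially of finite type.
Then `f` factors as a localizing immersion `k : X ⟶ Y` (localizing and injective on points) into a
Noetherian scheme followed by a proper morphism `p : Y ⟶ S`. -/
theorem result {X S : Scheme.{u}} [IsNoetherian X] [IsNoetherian S] (f : X ⟶ S) [IsSeparated f] [EssFT.EssFiniteType f] :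
    ∃ (Y : Scheme.{u}) (k : X ⟶ Y) (p : Y ⟶ S), IsNoetherian Y ∧ LocImm.IsLocImmersion k ∧ IsProper p ∧ k ≫ p = f := by
  obtain ⟨Y, k, p, hY, hk, hs, hl, hc, hkp⟩ := Groth.Agent.S18191.result f
  obtain ⟨Z, j, q, hj, -, hq, hjq⟩ := Groth.L13.Nagata.exists_compactification p
  haveI : IsNoetherian Z :=
    { toIsLocallyNoetherian := LocallyOfFiniteType.isLocallyNoetherian q
      toCompactSpace := QuasiCompact.compactSpace_of_compactSpace q }
  exact ⟨Z, k ≫ j, q, inferInstance,
    Groth.L19.LocImm.isLocImmersion_comp hk (Groth.L19.LocImm.isLocImmersion_of_isOpenImmersion j), hq,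
    by rw [Category.assoc, hjq, hkp]⟩

end Groth.Agent.S18198
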