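import Groth.Statements.S18199
import Groth.Agent.L19.LocImm.Factor

set_option autoImplicit false
set_option backward.isDefEq.respectTransparency.types false
set_option backward.isDefEq.respectTransparency false
set_option linter.style.haveILetI false
universe u
open LocImm

namespace Groth.Agent.S18199

open CategoryTheory AlgebraicGeometry in
/-- A separated, universally closed morphism of Noetherian schemes that is essentially of finite type is
proper; thus no new class of proper-like morphisms arises among essentially finite-type ones. -/
theorem result {X S : Scheme.{u}} [IsNoetherian X] [IsNoetherian S] (f : X ⟶ S) [IsSeparated f] [EssFT.EssFiniteType f] [UniversallyClosed f] : IsProper f := by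
  open Groth.L19.LocImm in
  obtain ⟨Y, k, p, hn, hk, hs, hl, hq, hkp⟩ := exists_factorization (f := f)
  haveI := isPreimmersion_of_isLocImmersion hk
  haveI : UniversallyClosed (k ≫ p) := hkp.symm ▸ (inferInstance : UniversallyClosed f)
  haveI : UniversallyClosed k := UniversallyClosed.of_comp_of_isSeparated k p
  haveI : IsClosedImmersion k := IsClosedImmersion.of_isPreimmersion k k.isClosedMap.isClosed_range
  haveI : LocallyOfFiniteType f := hkp ▸ inferInstance
  exact { }

end Groth.Agent.S18199
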