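import Groth.Statements.S1820
import Groth.Agent.L10.Shriek.PerfectDual
import Groth.Agent.L10.DRing.Perfect
import Groth.Agent.L10.DRing.Modules
import Groth.Agent.L19.PerfectHom
import Groth.Agent.L10.DRing.KFlatLBC
import Groth.Agent.L10.DTen.PerfBC

set_option autoImplicit false
set_option backward.defeqAttrib.useBackward true
set_option backward.isDefEq.respectTransparency false
set_option backward.defeqAttrib.useBackward true
set_option backward.isDefEq.respectTransparency false
universe u
open CategoryTheory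
attribute [local instance] HasDerivedCategory.standard
open Dual2

namespace Groth.Agent.S1820

/-- For φ flat of finite type (a perfect ring map). Let R → A be a ring map between Noetherian rings
which is flat and of finite type, where φ^!(K) is formed from a presentation ψ : R[x_1, …, x_n] → A
as RHom_P(A, K ⊗^L_R P)[n], assuming the derived base change to P exists and taking for RHom_P(A, −)
a right adjoint of restriction of scalars along ψ; let W be a complex of A-modules representing
ω_{A/R} = φ^!(R). Assuming the derived base change D(R) → D(A) and the derived tensor product −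
⊗^L_A W exist, for every K in D(R) there is an isomorphism φ^!(K) ≅ (K ⊗^L_R A) ⊗^L_A W. -/
theorem result (R A : Type u) [CommRing R] [CommRing A] [IsNoetherianRing R] [IsNoetherianRing A] [Algebra R A] [Module.Flat R A] (n : ℕ) (ψ : MvPolynomial (Fin n) R →ₐ[R] A) (hψ : Function.Surjective ψ) [DRing.HasLBaseChange (algebraMap R (MvPolynomial (Fin n) R))] (Rψ : Dual.D (MvPolynomial (Fin n) R) ⥤ Dual.D A) (adj : DRing.restrictD ψ.toRingHom ⊣ Rψ) (W : DRing.Cx A) (hW : Nonempty (DRing.toD W ≅ Dual2.shriekVia n Rψ (Dual.inD R R))) [DRing.HasLBaseChange (algebraMap R A)] [DRing.HasLTensorCx A W] (K : Dual.D R) : Nonempty (Dual2.shriekVia n Rψ K ≅ (DRing.LTensorCx A W).obj ((DRing.LBaseChange (algebraMap R A)).obj K)) := by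
  haveI := Groth.L10.DTen.hasLTen A
  haveI := Groth.L10.DTen.hasLTen (MvPolynomial (Fin n) R)
  letI : Algebra (MvPolynomial (Fin n) R) A := ψ.toRingHom.toAlgebra
  haveI : IsScalarTower R (MvPolynomial (Fin n) R) A :=
    IsScalarTower.of_algebraMap_eq fun r => (ψ.commutes r).symm
  haveI : Module.Finite (MvPolynomial (Fin n) R) A := RingHom.Finite.of_surjective ψ.toRingHom hψ
  have h00 : DRing.HasTorAmplitudeIn R (-((0 : ℕ) : ℤ)) 0 (Dual.inD R A) :=
    ⟨(HomologicalComplex.single (ModuleCat.{u} R) (ComplexShape.up ℤ) 0).obj (ModuleCat.of R A),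
      fun i hi => HomologicalComplex.isZero_single_obj_X _ _ _ _ (by omega),
      fun i => by
        by_cases hi : i = 0
        · subst hi
          exact Module.Flat.of_linearEquiv
            (HomologicalComplex.singleObjXSelf (ComplexShape.up ℤ) 0 (ModuleCat.of R A)).toLinearEquiv
        · haveI := ModuleCat.subsingleton_of_isZero
            (HomologicalComplex.isZero_single_obj_X (ComplexShape.up ℤ) 0 (ModuleCat.of R A) i hi)
          infer_instance,
      ⟨((DerivedCategory.singleFunctorIsoCompQ (ModuleCat.{u} R) 0).app _).symm⟩⟩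
  have hperf : DRing.IsPerfectModule (MvPolynomial (Fin n) R) A :=
    Groth.L10.DR.perfect_of_pc'_amp (Groth.L10.DR.pcModule'_noetherian A)
      (Groth.L19.PerfectHom.amp_mvPolynomial n A 0 h00)
  haveI := Groth.L29.TrivBC.hasRHom (R := MvPolynomial (Fin n) R)
  haveI := Groth.L29.TrivBC.hasRHom (R := A)
  haveI := Groth.L29.TrivBC.hasLBase (algebraMap (MvPolynomial (Fin n) R) A)
  haveI := Groth.L29.TrivBC.hasResTen (algebraMap (MvPolynomial (Fin n) R) A)
  haveI := Groth.L29.TrivBC.resLegIso (algebraMap (MvPolynomial (Fin n) R) A)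
  haveI := Groth.L10.KFlatLBC.hasLBaseChange ψ.toRingHom
  obtain ⟨e₁⟩ := Groth.L10.Shriek.nonempty_rightAdjoint_iso ψ.toRingHom
    (Groth.L10.DTen.isPerfect_res_unit_of_module hperf) adj
    ((DRing.LBaseChange (algebraMap R (MvPolynomial (Fin n) R))).obj K)
  obtain ⟨e₂⟩ := Groth.L10.Shriek.nonempty_lbc_comp (algebraMap R (MvPolynomial (Fin n) R)) ψ.toRingHom
    (algebraMap R A) ψ.comp_algebraMap.symm
  obtain ⟨e₃⟩ := Groth.L10.Shriek.nonempty_lbc_inD (algebraMap R (MvPolynomial (Fin n) R))
  obtain ⟨e₄⟩ := hW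
  obtain ⟨e₅⟩ := Groth.L10.Shriek.nonempty_LTensorCx_shift W (Rψ.obj (DTen.unit (MvPolynomial (Fin n) R))) (n : ℤ)
    (e₄ ≪≫ (shiftFunctor (Dual.D A) (n : ℤ)).mapIso (Rψ.mapIso e₃))
    ((DRing.LBaseChange (algebraMap R A)).obj K)
  exact ⟨(shiftFunctor (Dual.D A) (n : ℤ)).mapIso (e₁ ≪≫
    (_root_.DTen.LTen₂ A).mapIso (Iso.prod (e₂.app K) (Iso.refl _))) ≪≫ e₅.symm⟩

end Groth.Agent.S1820
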