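import Groth.Statements.S18200
import Groth.Agent.L19.LocImm.Factor
import Groth.Agent.L19.Approx.Zmt

set_option autoImplicit false
set_option backward.isDefEq.respectTransparency.types false
set_option backward.isDefEq.respectTransparency false
set_option linter.style.haveILetI false
universe u
open LocImm

namespace Groth.Agent.S18200

open CategoryTheory AlgebraicGeometry in
/-- Let `f : X ⟶ Y` be a separated morphism of Noetherian schemes that is essentially quasi-finite:
essentially of finite type with every fibre the spectrum of a finite algebra over the residue field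
(equivalently, `f` locally quasi-finite in the fibrewise sense, which carries no finite-type
condition). Then `f` factors as a localizing immersion `i : X ⟶ Z` (localizing and injective on
points, `Z` Noetherian) followed by a finite morphism `h : Z ⟶ Y`. -/
theorem result {X Y : Scheme.{u}} [IsNoetherian X] [IsNoetherian Y] (f : X ⟶ Y) [IsSeparated f] [EssFT.EssFiniteType f] [LocallyQuasiFinite f] :
    ∃ (Z : Scheme.{u}) (i : X ⟶ Z) (h : Z ⟶ Y), IsNoetherian Z ∧ LocImm.IsLocImmersion i ∧ IsFinite h ∧ i ≫ h = f := by
  open Groth.L19.LocImm in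
  obtain ⟨Y₀, k, p, hn, hk, hs, hl, hq, hkp⟩ := exists_factorization (f := f)
  have hqf : ∀ x, k x ∈ p.quasiFiniteLocus := fun x => by
    have h : (k ≫ p).QuasiFiniteAt x := hkp.symm ▸ f.quasiFiniteAt x
    haveI := isIso_stalkMap_of_isLocalizing hk.1 x
    rw [Scheme.Hom.QuasiFiniteAt, Scheme.Hom.stalkMap_comp, CommRingCat.hom_comp,
      RingHom.QuasiFinite.respectsIso.cancel_right_isIso] at h
    exact h
  let U := p.quasiFiniteLocus
  haveI : IsNoetherian U.toScheme := isNoetherian_of_lft U.ι
  have hr : Set.range k ⊆ Set.range U.ι := by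
    rw [Scheme.Opens.range_ι]; rintro _ ⟨x, rfl⟩; exact hqf x
  let k' : X ⟶ U.toScheme := IsOpenImmersion.lift U.ι k hr
  have hk' : k' ≫ U.ι = k := IsOpenImmersion.lift_fac _ _ _
  haveI : QuasiCompact (U.ι ≫ p) := quasiCompact_of_noetherianSpace _
  obtain ⟨T, j, π, hj, -, hπ, hjπ⟩ := Groth.L19.Approx.exists_openImmersion_finite (U.ι ≫ p)
  haveI : IsNoetherian T := isNoetherian_of_lft π
  exact ⟨T, k' ≫ j, π, inferInstance,
    isLocImmersion_comp (isLocImmersion_of_comp_isOpenImmersion k' U.ι (hk'.symm ▸ hk))
      (isLocImmersion_of_isOpenImmersion j), hπ, by rw [Category.assoc, hjπ, reassoc_of% hk', hkp]⟩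

end Groth.Agent.S18200
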