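import Groth.Statements.S18205
import Groth.Agent.L19.LocImm.Props
import Groth.Agent.L23.SchemeFacts

set_option autoImplicit false
set_option backward.isDefEq.respectTransparency.types false
set_option backward.isDefEq.respectTransparency false
set_option linter.style.haveILetI false
universe u
open LocImm

namespace Groth.Agent.S18205

open CategoryTheory AlgebraicGeometry in
/-- Let `f : X ⟶ Y` be a localizing immersion (localizing and injective on points) of Noetherian schemes
whose image is closed. Then `f` is an open immersion (so its image is open and closed and `f` is an
isomorphism onto a union of connected components of `Y`); in particular a surjective localizing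
immersion is an isomorphism. -/
theorem result {X Y : Scheme.{u}} [IsNoetherian X] [IsNoetherian Y]
    (f : X ⟶ Y) (hf : LocImm.IsLocImmersion f) (hc : IsClosed (Set.range (fun x => f x))) : IsOpenImmersion f := by
  haveI := Groth.L19.LocImm.isPreimmersion_of_isLocImmersion hf
  haveI : IsClosedImmersion f :=
    IsClosedImmersion.of_isPreimmersion f hc
  haveI := Groth.L23.lfp_of_lft_locallyNoetherian f
  exact Groth.L19.LocImm.isOpenImmersion_of_isLocImmersion hf

end Groth.Agent.S18205
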