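import Groth.Statements.S18209
import Groth.Agent.L13.LocImm.OpenLift
import Groth.Agent.L19.LocImm.Factor
import Groth.Agent.S18191

set_option backward.isDefEq.respectTransparency false
set_option backward.isDefEq.respectTransparency.types false
set_option linter.style.haveILetI false

set_option autoImplicit false
universe u
open LocImm

namespace Groth.Agent.S18209

open CategoryTheory AlgebraicGeometry Limits in
/-- Let `f : X ⟶ Y` and `g : Y ⟶ Z` be separated morphisms of Noetherian schemes, essentially of finite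
type, such that `f` and `f ≫ g` are localizing immersions (localizing and injective on points). Then
there are blow-ups `b : Ỹ ⟶ Y` and `c : Z̃ ⟶ Z` in quasi-coherent (hence coherent) ideals whose
closed subschemes are disjoint from the image of `X`, and a localizing immersion `g' : Ỹ ⟶ Z̃`
lifting `g`, i.e. `g' ≫ c = b ≫ g`. -/
theorem result {X Y Z : Scheme.{u}} [IsNoetherian X] [IsNoetherian Y] [IsNoetherian Z]
    (f : X ⟶ Y) (g : Y ⟶ Z) [IsSeparated f] [IsSeparated g] [EssFT.EssFiniteType f] [EssFT.EssFiniteType g]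
    (hf : LocImm.IsLocImmersion f) (hfg : LocImm.IsLocImmersion (f ≫ g)) :
    ∃ (𝓘 : Y.IdealSheafData) (𝓙 : Z.IdealSheafData) (Yt Zt : Scheme.{u}) (b : Yt ⟶ Y) (c : Zt ⟶ Z) (g' : Yt ⟶ Zt),
      BlowUp.IsBlowUp b 𝓘 ∧ Disjoint (𝓘.support : Set Y) (Set.range (fun x => f x)) ∧
      BlowUp.IsBlowUp c 𝓙 ∧ Disjoint (𝓙.support : Set Z) (Set.range (fun x => g (f x))) ∧
      LocImm.IsLocImmersion g' ∧ g' ≫ c = b ≫ g := by
  obtain ⟨Y', k, p, hY', hk, hs, hl, hc, hkp⟩ := Groth.Agent.S18191.result g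
  have hfk : LocImm.IsLocImmersion (f ≫ k) := Groth.L19.LocImm.isLocImmersion_comp hf hk
  haveI := Groth.L19.LocImm.locallyEssFiniteType_of_locallyOfFiniteType p
  obtain ⟨U, hU, hUl⟩ := Groth.L19.LocImm.exists_open_isLocImmersion (f ≫ k) (f ≫ g) p hfk hfg
    (by rw [Category.assoc, hkp])
  haveI : IsNoetherian U.toScheme := Groth.L19.LocImm.isNoetherian_of_lft U.ι
  haveI := Groth.L23.lfp_of_lft_locallyNoetherian (U.ι ≫ p)
  haveI : IsOpenImmersion (U.ι ≫ p) := Groth.L19.LocImm.isOpenImmersion_of_isLocImmersion hUl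
  obtain ⟨I, J, Y₂, Z₂, b, c, h, hb, hI, hcb, hJf, hJs, hh, hhc⟩ :=
    Groth.L13.LocImm.exists_blowUps_openImmersion p U
  haveI := Groth.L13.BU.isProper_blowUp hb hI.1
  haveI := Groth.L19.LocImm.flat_of_isLocalizing hk.1
  haveI : IsNoetherian Y₂ := Groth.L19.LocImm.isNoetherian_of_lft b
  haveI : IsNoetherian (pullback k b) := Groth.L19.LocImm.isNoetherian_of_lft (pullback.fst k b)
  refine ⟨I.comap k, J, pullback k b, Z₂, pullback.fst k b, c, pullback.snd k b ≫ h,
    Groth.L13.BU.isBlowUp_pullback k hb, ?_, hcb, ?_,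
    Groth.L19.LocImm.isLocImmersion_comp (Groth.L19.LocImm.isLocImmersion_pullback_snd k b hk)
      (Groth.L19.LocImm.isLocImmersion_of_isOpenImmersion h), ?_⟩
  · refine Set.disjoint_left.2 ?_
    rintro _ hy ⟨x, rfl⟩
    rw [Scheme.IdealSheafData.support_comap] at hy
    exact Set.disjoint_left.1 hI.2 hy (hU ⟨x, Scheme.Hom.comp_apply _ _ _⟩)
  · refine Set.disjoint_left.2 ?_
    rintro _ hz ⟨x, rfl⟩
    rw [hJs] at hz
    refine hz ⟨⟨k (f x), hU ⟨x, Scheme.Hom.comp_apply _ _ _⟩⟩, ?_⟩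
    show (U.ι ≫ p) ⟨k (f x), _⟩ = g (f x)
    simp only [← hkp, Scheme.Hom.comp_apply]
    rfl
  · rw [Category.assoc, hhc, ← pullback.condition_assoc, hkp]

end Groth.Agent.S18209
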