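import Groth.Statements.S18210
import Groth.Agent.L13.LocImm.CommonMany
import Groth.Agent.L06.BlowComp.Main
import Groth.Agent.S18191

set_option backward.isDefEq.respectTransparency false
set_option backward.isDefEq.respectTransparency.types false
set_option linter.style.haveILetI false

set_option autoImplicit false
universe u
open LocImm

namespace Groth.Agent.S18210

open CategoryTheory AlgebraicGeometry Limits in
/-- Let `S` be a Noetherian scheme, `U` and `Y_1, …, Y_n` Noetherian schemes separated and essentially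
of finite type over `S`, and `f_i : U ⟶ Y_i` localizing immersions over `S` (localizing and
injective on points). Then there are blow-ups `b_i : Ỹ_i ⟶ Y_i` in quasi-coherent ideals whose
closed subschemes miss `f_i(U)`, a separated `S`-scheme `Z` of finite type, lifts `u_i : U ⟶ Ỹ_i` of
the `f_i`, and localizing immersions `g_i : Ỹ_i ⟶ Z` over `S` with dense image such that all
composites `u_i ≫ g_i` coincide. (The published statement does not require the `Y_i` to be separated
over `S`; its proof factors each `Y_i ⟶ S` through the main factorization result, which needs it,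
and without it the line with a doubled point over a field, with `U` the complement of the doubled
point, is a counterexample, since a scheme admitting a localizing immersion into a separated
`S`-scheme is separated over `S`.) -/
theorem result {S U : Scheme.{u}} [IsNoetherian S] [IsNoetherian U] {n : ℕ}
    (gU : U ⟶ S) (Y : Fin n → Scheme.{u}) [∀ i, IsNoetherian (Y i)] (q : ∀ i, Y i ⟶ S)
    [∀ i, IsSeparated (q i)] [∀ i, EssFT.EssFiniteType (q i)]
    (f : ∀ i, U ⟶ Y i) (hf : ∀ i, LocImm.IsLocImmersion (f i)) (hfq : ∀ i, f i ≫ q i = gU) :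
    ∃ (Z : Scheme.{u}) (r : Z ⟶ S) (_ : IsSeparated r) (_ : LocallyOfFiniteType r) (_ : QuasiCompact r)
      (𝓘 : ∀ i, (Y i).IdealSheafData) (Yt : Fin n → Scheme.{u}) (b : ∀ i, Yt i ⟶ Y i) (u : ∀ i, U ⟶ Yt i) (g : ∀ i, Yt i ⟶ Z),
      (∀ i, BlowUp.IsBlowUp (b i) (𝓘 i) ∧ Disjoint ((𝓘 i).support : Set (Y i)) (Set.range (fun x => f i x)) ∧
        u i ≫ b i = f i ∧ LocImm.IsLocImmersion (g i) ∧ Dense (Set.range (fun x => g i x)) ∧ g i ≫ r = b i ≫ q i) ∧
      (∀ i i', u i ≫ g i = u i' ≫ g i') := by
  rcases n with _ | m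
  · exact ⟨S, 𝟙 S, inferInstance, inferInstance, inferInstance, fun i => i.elim0, fun i => i.elim0,
      fun i => i.elim0, fun i => i.elim0, fun i => i.elim0, fun i => i.elim0, fun i => i.elim0⟩
  choose Y' k p hY' hk hs hl hqc hkp using fun i => Groth.Agent.S18191.result (q i)
  haveI := hY'; haveI := hs; haveI := hl; haveI := hqc
  obtain ⟨W, _, kW, gW, j, hkW, hkWd, hj⟩ := Groth.L13.LocImm.exists_common_many Y' p
    (fun i => f i ≫ k i) (fun i => Groth.L19.LocImm.isLocImmersion_comp (hf i) (hk i))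
    (fun i => by rw [Category.assoc, hkp, hfq, Category.assoc, hkp, hfq])
  haveI : ∀ i, IsOpenImmersion (j i) := fun i => (hj i).1
  haveI : QuasiCompact gW := Groth.L19.LocImm.quasiCompact_of_noetherianSpace gW
  obtain ⟨Z₀, q₀, _, _, _, I, Y'', b', o, uW, hP, -, heq⟩ :=
    Groth.L13.Nagata.exists_common_target_many gW (m + 1) Y' p j (fun i => (hj i).2.1)
  haveI : IsNoetherian Z₀ := Groth.L19.LocImm.isNoetherian_of_lft q₀
  haveI : ∀ i, IsOpenImmersion (o i) := fun i => (hP i).2.2.1
  have hu : ∀ i, IsOpenImmersion (uW i) ∧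
      ((b' i ⁻¹ᵁ (j i).opensRange : (Y'' i).Opens) : Set (Y'' i)) = Set.range (uW i) :=
    fun i => Groth.L13.Nagata.lift_openImmersion (hP i).1 (j i) (hP i).2.1.2 (uW i) (hP i).2.2.2.2
  haveI : ∀ i, IsOpenImmersion (uW i) := fun i => (hu i).1
  let jc : W ⟶ Z₀ := uW 0 ≫ o 0
  haveI : IsOpenImmersion jc := inferInstanceAs (IsOpenImmersion (uW 0 ≫ o 0))
  obtain ⟨L, hL, hLs⟩ := Groth.L13.Nagata.exists_compl_ideal jc.opensRange (TopologicalSpace.NoetherianSpace.isCompact _)
  obtain ⟨Z, c, hc⟩ := Groth.L13.BU.exists_isBlowUp L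
  haveI := Groth.L13.BU.isProper_blowUp hc hL
  have hLd : Disjoint (L.support : Set Z₀) (jc.opensRange : Set Z₀) := by rw [hLs]; exact disjoint_compl_left
  obtain ⟨l, hlc, hlo, -⟩ := Groth.L13.Nagata.exists_openImmersion_lift jc hc hLd
  have hlr := (Groth.L13.Nagata.lift_openImmersion hc jc hLd l hlc).2
  have hld : DenseRange l := by
    have h := Groth.L13.Nagata.dense_compl_effCartier hc.1
    rw [Scheme.IdealSheafData.support_comap, TopologicalSpace.Closeds.coe_preimage, hLs, Set.preimage_compl,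
      compl_compl] at h
    exact h.mono hlr.subset
  have hK : ∀ i, ∃ K : (Y' i).IdealSheafData, BlowUp.IsBlowUp (pullback.fst (o i) c ≫ b' i) K ∧
      Disjoint (K.support : Set (Y' i)) (Set.range (j i)) := by
    intro i
    obtain ⟨K, hKf, hKs, hKb⟩ := Groth.L06.BlowComp.exists_isBlowUp_comp (hP i).1 (hP i).2.1.1
      (Groth.L13.Nagata.isFiniteType_comap hL (o i)) (Groth.L13.BU.isBlowUp_pullback (o i) hc)
    refine ⟨K, hKb, Set.disjoint_left.2 fun x hx hxU => ?_⟩
    rw [hKs] at hx
    rcases hx with hx | ⟨y, hy, rfl⟩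
    · exact Set.disjoint_left.1 (hP i).2.1.2 hx hxU
    · obtain ⟨w, hw⟩ := (hu i).2.subset hxU
      rw [Scheme.IdealSheafData.support_comap] at hy
      refine Set.disjoint_left.1 hLd hy ⟨w, ?_⟩
      show jc w = o i y
      rw [← hw, ← Scheme.Hom.comp_apply, heq i 0]
  choose K hKb hKd using hK
  let B : ∀ i, pullback (o i) c ⟶ Y' i := fun i => pullback.fst (o i) c ≫ b' i
  haveI hflat : ∀ i, Flat (k i) := fun i => Groth.L19.LocImm.flat_of_isLocalizing (hk i).1
  let u : ∀ i, U ⟶ pullback (k i) (B i) := fun i =>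
    pullback.lift (f i) (kW ≫ pullback.lift (uW i) l ((heq i 0).trans hlc.symm))
      (by simp only [B, Category.assoc, pullback.lift_fst_assoc, (hP i).2.2.2.2, (hj i).2.2])
  let g : ∀ i, pullback (k i) (B i) ⟶ Z := fun i => pullback.snd (k i) (B i) ≫ pullback.snd (o i) c
  have hug : ∀ i, u i ≫ g i = kW ≫ l := fun i => by simp [u, g]
  refine ⟨Z, c ≫ q₀, inferInstance, inferInstance, inferInstance, fun i => (K i).comap (k i),
    fun i => pullback (k i) (B i), fun i => pullback.fst (k i) (B i), u, g,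
    fun i => ⟨Groth.L13.BU.isBlowUp_pullback (k i) (hKb i), ?_, pullback.lift_fst _ _ _, ?_, ?_, ?_⟩,
    fun i i' => (hug i).trans (hug i').symm⟩
  · refine Set.disjoint_left.2 ?_
    rintro _ hy ⟨x, rfl⟩
    rw [Scheme.IdealSheafData.support_comap] at hy
    refine Set.disjoint_left.1 (hKd i) hy ⟨kW x, ?_⟩
    rw [← Scheme.Hom.comp_apply, (hj i).2.2, Scheme.Hom.comp_apply]
  · haveI : IsOpenImmersion (pullback.snd (o i) c) := MorphismProperty.pullback_snd _ _ inferInstance
    haveI : IsProper (pullback.fst (o i) c) := MorphismProperty.pullback_fst _ _ inferInstance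
    haveI : IsNoetherian (Y'' i) := by
      haveI := Groth.L13.BU.isProper_blowUp (hP i).1 (hP i).2.1.1
      exact Groth.L19.LocImm.isNoetherian_of_lft (b' i)
    haveI : IsNoetherian (pullback (o i) c) := Groth.L19.LocImm.isNoetherian_of_lft (pullback.fst (o i) c)
    haveI : IsNoetherian (pullback (k i) (B i)) := by
      haveI := Groth.L13.BU.isProper_blowUp (hP i).1 (hP i).2.1.1
      haveI : IsProper (B i) := inferInstanceAs (IsProper (pullback.fst (o i) c ≫ b' i))
      exact Groth.L19.LocImm.isNoetherian_of_lft (pullback.fst (k i) (B i))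
    exact Groth.L19.LocImm.isLocImmersion_comp (Groth.L19.LocImm.isLocImmersion_pullback_snd _ _ (hk i))
      (Groth.L19.LocImm.isLocImmersion_of_isOpenImmersion _)
  · refine (hld.comp hkWd l.continuous).mono ?_
    rintro _ ⟨x, rfl⟩
    refine ⟨u i x, ?_⟩
    show g i (u i x) = l (kW x)
    rw [← Scheme.Hom.comp_apply, hug, Scheme.Hom.comp_apply]
  · show (pullback.snd (k i) (B i) ≫ pullback.snd (o i) c) ≫ c ≫ q₀ = pullback.fst (k i) (B i) ≫ q i
    rw [Category.assoc, ← pullback.condition_assoc, (hP i).2.2.2.1, ← hkp, pullback.condition_assoc]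
    simp [B]

end Groth.Agent.S18210
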