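import Groth.Statements.S18211
import Groth.Agent.L13.LocImm.Proper
import Groth.Agent.L13.Nagata.Chow
import Groth.Agent.S18198

set_option backward.isDefEq.respectTransparency false
set_option backward.isDefEq.respectTransparency.types false
set_option linter.style.haveILetI false

set_option autoImplicit false
universe u
open LocImm

namespace Groth.Agent.S18211

open CategoryTheory AlgebraicGeometry in
theorem isProjective_iso_comp {X X' S : Scheme.{u}} (i : X' ⟶ X) [IsIso i] {f : X ⟶ S}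
    (hf : RelProj.IsProjective f) : RelProj.IsProjective (i ≫ f) := by
  obtain ⟨𝒮, P, p, chart, e, h1, h2, h3, h4⟩ := hf
  exact ⟨𝒮, P, p, chart, asIso i ≪≫ e, h1, h2, h3, by simp [h4]⟩

open CategoryTheory AlgebraicGeometry Limits in
/-- Let `π : Y ⟶ S` be a separated morphism of Noetherian schemes, essentially of finite type, and `f :
U ⟶ Y` a localizing immersion (localizing and injective on points) with dense image such that `U ⟶
S` is essentially quasi-projective: it factors as a localizing immersion `j : U ⟶ P` followed by a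
projective morphism `P ⟶ S` (in the sense of the relative homogeneous spectrum of a quasi-coherent
graded algebra generated in degree one with degree-one part of finite type). Then there is a blow-up
`Ỹ ⟶ Y` in a quasi-coherent ideal whose closed subscheme misses `f(U)` such that `Ỹ ⟶ S` is
essentially quasi-projective in the same sense. -/
theorem result {U Y S P : Scheme.{u}} [IsNoetherian U] [IsNoetherian Y] [IsNoetherian S] [IsNoetherian P]
    (π : Y ⟶ S) [IsSeparated π] [EssFT.EssFiniteType π] (f : U ⟶ Y) (hf : LocImm.IsLocImmersion f)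
    (hfd : Dense (Set.range (fun x => f x))) (j : U ⟶ P) (p : P ⟶ S) (hj : LocImm.IsLocImmersion j)
    (hp : RelProj.IsProjective p) (hc : j ≫ p = f ≫ π) :
    ∃ (𝓘 : Y.IdealSheafData) (Yt P' : Scheme.{u}) (b : Yt ⟶ Y) (j' : Yt ⟶ P') (p' : P' ⟶ S),
      BlowUp.IsBlowUp b 𝓘 ∧ Disjoint (𝓘.support : Set Y) (Set.range (fun x => f x)) ∧
      LocImm.IsLocImmersion j' ∧ RelProj.IsProjective p' ∧ j' ≫ p' = b ≫ π := by
  obtain ⟨Yc, k, q, hYc, hk, hq, hkq⟩ := Groth.Agent.S18198.result π
  haveI := Groth.L27.ProjProper.isProper_of_isProjective hp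
  haveI : IsNoetherian (pullback q p) := Groth.L19.LocImm.isNoetherian_of_lft (pullback.fst q p)
  let m := pullback.lift (f ≫ k) j (by rw [Category.assoc, hkq, hc])
  haveI : QuasiCompact m := Groth.L19.LocImm.quasiCompact_of_noetherianSpace m
  haveI : IsNoetherian m.image := Groth.L19.LocImm.isNoetherian_of_lft m.imageι
  let p₁ := m.imageι ≫ pullback.fst q p
  let p₂ := m.imageι ≫ pullback.snd q p
  have e₁ : m.toImage ≫ p₁ = f ≫ k := by simp [p₁, m]
  have e₂ : m.toImage ≫ p₂ = j := by simp [p₂, m]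
  have hfk := Groth.L19.LocImm.isLocImmersion_comp hf hk
  have ht : LocImm.IsLocImmersion m.toImage :=
    Groth.L19.LocImm.isLocImmersion_of_comp_injective p₁ (e₁.symm ▸ hfk)
      (Groth.L19.LocImm.app_injective_toImage m)
  obtain ⟨I₁, J₁, G₁, P₁, b₁, c₁, h₁, hb₁, hI₁, hI₁d, hc₁, hJ₁, -, hh₁, hh₁c⟩ :=
    Groth.L13.LocImm.exists_blowUps_isIso_of_locImmersion m.toImage p₂ ht (e₂.symm ▸ hj)
  obtain ⟨t, htb, htl⟩ := Groth.L13.LocImm.exists_lift hb₁ m.toImage ht hI₁d
  haveI := Groth.L13.BU.isProper_blowUp hb₁ hI₁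
  haveI : IsNoetherian G₁ := Groth.L19.LocImm.isNoetherian_of_lft b₁
  have etp : t ≫ b₁ ≫ p₁ = f ≫ k := by rw [reassoc_of% htb, e₁]
  obtain ⟨I₂, J₂, G₂, Y₂, b₂, c₂, h₂, hb₂, hI₂, -, hc₂, hJ₂, hJ₂d, hh₂, hh₂c⟩ :=
    Groth.L13.LocImm.exists_blowUps_isIso_of_locImmersion t (b₁ ≫ p₁) htl (etp.symm ▸ hfk)
  rw [etp] at hJ₂d
  haveI := Groth.L19.LocImm.flat_of_isLocalizing hk.1
  refine ⟨J₂.comap k, pullback k c₂, Y₂, pullback.fst k c₂, pullback.snd k c₂, c₂ ≫ q,
    Groth.L13.BU.isBlowUp_pullback k hc₂, ?_, Groth.L19.LocImm.isLocImmersion_pullback_snd k c₂ hk, ?_,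
    by rw [← pullback.condition_assoc, hkq]⟩
  · refine Set.disjoint_left.2 ?_
    rintro _ hy ⟨x, rfl⟩
    rw [Scheme.IdealSheafData.support_comap] at hy
    exact Set.disjoint_left.1 hJ₂d hy ⟨x, Scheme.Hom.comp_apply f k x⟩
  · have h₁p : RelProj.IsProjective (h₁ ≫ c₁ ≫ p) :=
      Groth.Agent.S18211.isProjective_iso_comp h₁ (Groth.L13.Nagata.isProjective_comp c₁ p
        (Groth.L06.BlowProj.isProjective_of_isBlowUp J₁ hJ₁ c₁ hc₁) hp)
    have h₂p := Groth.Agent.S18211.isProjective_iso_comp (inv h₂) (Groth.L13.Nagata.isProjective_comp b₂ _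
      (Groth.L06.BlowProj.isProjective_of_isBlowUp I₂ hI₂ b₂ hb₂) h₁p)
    convert h₂p using 1
    rw [reassoc_of% hh₁c]
    simp only [p₂, Category.assoc, ← pullback.condition]
    rw [← cancel_epi h₂, reassoc_of% hh₂c, IsIso.hom_inv_id_assoc]
    simp [p₁]

end Groth.Agent.S18211
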