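import Groth.Statements.S18213
import Groth.Agent.L19.LocImm.Stalk
import Groth.Agent.L20.FlatStalk
import Groth.Agent.L23.SchemeFacts

set_option autoImplicit false
set_option backward.isDefEq.respectTransparency.types false
set_option backward.isDefEq.respectTransparency false
set_option linter.style.haveILetI false
universe u
open LocImm

namespace Groth.Agent.S18213

open CategoryTheory AlgebraicGeometry in
/-- Let `f : X ⟶ Y` be a separated morphism of Noetherian schemes, essentially of finite type. Then the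
set of points `x` for which the composite `Spec O_{X,x} ⟶ X ⟶ Y` is flat is open, and if `f` is flat
it factors as a localizing immersion `i : X ⟶ Z` (localizing and injective on points, `Z`
Noetherian) followed by a separated flat morphism of finite type `h : Z ⟶ Y`. -/
theorem result {X Y : Scheme.{u}} [IsNoetherian X] [IsNoetherian Y] (f : X ⟶ Y) [IsSeparated f] [EssFT.EssFiniteType f] :
    IsOpen {x : X | Flat (X.fromSpecStalk x ≫ f)} ∧
      (Flat f → ∃ (Z : Scheme.{u}) (i : X ⟶ Z) (h : Z ⟶ Y), IsNoetherian Z ∧ LocImm.IsLocImmersion i ∧ IsSeparated h ∧ LocallyOfFiniteType h ∧ QuasiCompact h ∧ Flat h ∧ i ≫ h = f) := by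
  open Groth.L19.LocImm in
  have hα : ∀ {W X Y : Scheme.{u}} [IsNoetherian W] [IsNoetherian X] [IsNoetherian Y] (i : W ⟶ X)
      (f : X ⟶ Y) [IsSeparated f] [EssFT.EssFiniteType f], LocImm.IsLocImmersion i →
        Flat f → Flat (i ≫ f) := by
    intro W X Y _ _ _ i f _ _ hi hf
    haveI := flat_of_isLocalizing hi.1
    infer_instance
  have hβ₁ : ∀ {X Y : Scheme.{u}} [IsNoetherian X] [IsNoetherian Y] (f : X ⟶ Y) [IsSeparated f]
      [LocallyOfFiniteType f], (∀ x : X, Flat (X.fromSpecStalk x ≫ f)) → Flat f :=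
    fun f _ _ h => Flat.of_stalkMap f fun x => (flat_fromSpecStalk_comp_iff f x).mp (h x)
  have hβ₂ : ∀ {X Y : Scheme.{u}} [IsNoetherian X] [IsNoetherian Y] (f : X ⟶ Y) [IsSeparated f]
      [LocallyOfFiniteType f], IsOpen {x : X | Flat (X.fromSpecStalk x ≫ f)} := by
    intro X Y _ _ f _ _
    haveI := Groth.L23.lfp_of_lft_locallyNoetherian f
    simpa only [flat_fromSpecStalk_comp_iff] using Groth.L20.isOpen_flat_stalkMap f
  obtain ⟨-, h2, h3⟩ := localizable @Flat hα hβ₁ hβ₂ f
  exact ⟨h2, h3⟩

end Groth.Agent.S18213
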