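import Groth.Statements.S18215
import Groth.Agent.L13.LocImm.Proper

set_option backward.isDefEq.respectTransparency false
set_option backward.isDefEq.respectTransparency.types false
set_option linter.style.haveILetI false

set_option autoImplicit false
universe u
open LocImm

namespace Groth.Agent.S18215

open CategoryTheory AlgebraicGeometry Limits in
/-- Let `S` be a Noetherian scheme, `a : X ⟶ S` separated and essentially of finite type, `b : Y ⟶ S`
proper, with `X, Y` Noetherian, `Z` a Noetherian scheme with a localizing immersion `j : Z ⟶ X`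
(localizing and injective on points) whose image is dense, and `f : Z ⟶ Y` a morphism over `S`. Then
there are a blow-up `c : X̃ ⟶ X` in a quasi-coherent ideal whose closed subscheme misses `j(Z)`, the
lift `e : Z ⟶ X̃` of `j` (`e ≫ c = j`) and a morphism `f' : X̃ ⟶ Y` over `S` extending `f` (`e ≫ f'
= f`): after an admissible blow-up the rational map `f` is defined everywhere. -/
theorem result {S X Y Z : Scheme.{u}} [IsNoetherian S] [IsNoetherian X] [IsNoetherian Y] [IsNoetherian Z]
    (a : X ⟶ S) (b : Y ⟶ S) [IsSeparated a] [EssFT.EssFiniteType a] [IsProper b]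
    (j : Z ⟶ X) (hj : LocImm.IsLocImmersion j) (hjd : Dense (Set.range (fun x => j x))) (f : Z ⟶ Y) (hjf : j ≫ a = f ≫ b) :
    ∃ (𝓘 : X.IdealSheafData) (Xt : Scheme.{u}) (c : Xt ⟶ X) (e : Z ⟶ Xt) (f' : Xt ⟶ Y),
      BlowUp.IsBlowUp c 𝓘 ∧ Disjoint (𝓘.support : Set X) (Set.range (fun x => j x)) ∧
      e ≫ c = j ∧ e ≫ f' = f ∧ c ≫ a = f' ≫ b := by
  obtain ⟨I, Xt, c, e, f', hc, -, hd, -, hec, hef, hcomm⟩ :=
    Groth.L13.LocImm.exists_extension a b j hj f hjf
  exact ⟨I, Xt, c, e, f', hc, hd, hec, hef, hcomm⟩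

end Groth.Agent.S18215
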