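import Groth.Statements.S1822
import Groth.Agent.L29.Dual.AffineInst
import Groth.Agent.L29.DCoh.TildeAlg
import Groth.Agent.L29.Sib.QCohInj

set_option autoImplicit false
set_option backward.defeqAttrib.useBackward true
set_option backward.isDefEq.respectTransparency.types false
set_option backward.isDefEq.respectTransparency false
universe u
open CategoryTheory CategoryTheory.Limits AlgebraicGeometry
attribute [local instance] HasDerivedCategory.standard
open Dual

namespace Groth.Agent.S1822

/-- Let A be a Noetherian ring, K a complex of A-modules with finite cohomology modules and L an object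
of D(A) of finite injective dimension. Work on Spec A with the derived tilde functor (tilde assumed
left exact), a complex E of modules on Spec A representing the image of K, and the assumed derived
functors − ⊗^L E with its right adjoint RSheafHom(E, −), and RHom_A(K, −). Then RSheafHom(E, L~) is
isomorphic in D(O_{Spec A}) to the derived tilde of RHom_A(K, L). -/
theorem result (A : Type u) [CommRing A] [IsNoetherianRing A] [PreservesFiniteLimits (tilde.functor (CommRingCat.of A))] (K : DRing.Cx A) (hK : ∀ i : ℤ, Module.Finite A (Dual.HD A (DRing.toD K) i)) [DRing.HasRHomCx K] (L : Dual.D A) (hL : DRing.HasFiniteInjDim A L) (E : CochainComplex (Spec (CommRingCat.of A)).Modules ℤ) (hE : Nonempty (DCoh.toD (Spec (CommRingCat.of A)) E ≅ (DCoh.tildeD (CommRingCat.of A)).obj (DRing.toD K))) [DCoh.HasLTensorCx E] [DCoh.HasRSheafHom E] : Nonempty ((DCoh.RSheafHom E).obj ((DCoh.tildeD (CommRingCat.of A)).obj L) ≅ (DCoh.tildeD (CommRingCat.of A)).obj ((DRing.RHomCx K).obj L)) := by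
  obtain ⟨a, b, I, hI, hinj, ⟨eI⟩⟩ := hL
  haveI : ∀ i, Injective (I.X i) := fun i => by
    haveI := hinj i
    exact Module.injective_object_of_injective_module A (I.X i)
  haveI : I.IsStrictlyGE a := (CochainComplex.isStrictlyGE_iff _ _).2 fun i hi => hI i (Or.inl hi)
  haveI : I.IsKInjective := CochainComplex.isKInjective_of_injective I a
  haveI : IsNoetherianRing (CommRingCat.of A) := ‹IsNoetherianRing A›
  let J : CochainComplex (Spec (CommRingCat.of A)).Modules ℤ :=
    (Groth.L29.DC.ModRes.tCx (CommRingCat.of A)).obj I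
  haveI : J.IsStrictlyGE a := (CochainComplex.isStrictlyGE_iff _ _).2 fun i hi =>
    (tilde.functor (CommRingCat.of A)).map_isZero (hI i (Or.inl hi))
  haveI : ∀ i, Injective (J.X i) := fun i => Groth.L29.QCohInj.injective_tilde (R := CommRingCat.of A) (I.X i) (hinj i)
  haveI : J.IsKInjective := CochainComplex.isKInjective_of_injective J a
  let Kt : CochainComplex (Spec (CommRingCat.of A)).Modules ℤ :=
    (Groth.L29.DC.ModRes.tCx (CommRingCat.of A)).obj K
  haveI := Groth.L00.KFlat.hasLTensorCx Kt
  haveI := Groth.L29.DC.RHom.hasRSheafHom Kt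
  obtain ⟨e⟩ := hE
  let eE : DCoh.toD _ E ≅ DCoh.toD _ Kt := e ≪≫ Groth.L29.DC.TildeAlg.qIso (R := CommRingCat.of A) K
  obtain ⟨f⟩ := Groth.L29.DC.EvalMain.nonempty_RSheafHom_iso eE
  obtain ⟨c⟩ := Groth.L29.DC.EvalMain.nonempty_RSheafHom J Kt
  have hq := Groth.L29.AffineDual.quasiIso_α (R := CommRingCat.of A) I hI K hK
  have hq' := (DerivedCategory.isIso_Q_map_iff_quasiIso _ _).2 hq
  exact ⟨f.app _ ≪≫ (DCoh.RSheafHom Kt).mapIso ((DCoh.tildeD (CommRingCat.of A)).mapIso eI.symm ≪≫
      Groth.L29.DC.TildeAlg.qIso (R := CommRingCat.of A) I) ≪≫ c.symm ≪≫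
    (@asIso _ _ _ _ _ hq').symm ≪≫
    (Groth.L29.DC.TildeAlg.qIso (R := CommRingCat.of A) (DRing.homCx K I)).symm ≪≫
    (DCoh.tildeD (CommRingCat.of A)).mapIso (Groth.L10.RHomCx.computeInj K I ≪≫ (DRing.RHomCx K).mapIso eI)⟩

end Groth.Agent.S1822
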