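import Groth.Statements.S18229
import Groth.Agent.L08.Cube.RelCubical
import Groth.Agent.L26.AV.SmoothField
import Groth.Agent.L26.Pic0.EulerDegenerate
import Groth.Agent.L26.Pic0.NeronSeveri
import Groth.Agent.L26.AV.SimpleDomain
import Groth.Agent.L08.Cube.AmpleFixed
import Groth.Agent.L21.RR.Sections

set_option autoImplicit false
universe u
open CategoryTheory CategoryTheory.Limits MonoidalCategory CartesianMonoidalCategory MonObj GrpObj AlgebraicGeometry
open AbVar

namespace Groth.Agent.S18229

open Groth.Agent.AV Groth.Agent.Pic0 Groth.Agent.Poincare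
attribute [local instance] Groth.L08.Cube.clMonoid InterPic.picLaw

/-- Let k be an algebraically closed field (any characteristic) and X a simple abelian variety over k: a
proper smooth k-group scheme with geometrically connected fibres whose only geometrically integral
closed k-subgroup schemes are the trivial subgroup and X itself. Let G be an invertible O_X-module
which is effective and non-trivial: H^0(X, G) ≠ 0 and G is not isomorphic to O_X. Then G is ample.
(In other words, when the abelian variety is simple, any line bundle that is effective and not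
trivial must be ample.) -/
theorem result (k : Type u) [Field k] [IsAlgClosed k]
    (X : Over (Spec (CommRingCat.of k))) [GrpObj X] [IsProper X.hom] [Smooth X.hom] [GeometricallyConnected X.hom]
    (hsimple : ∀ (B : Over (Spec (CommRingCat.of k))) [GrpObj B] [GeometricallyIntegral B.hom] (i : B ⟶ X) [IsMonHom i]
      [IsClosedImmersion i.left], Subsingleton ↥B.left ∨ IsIso i)
    (G : X.left.Modules) (hG : PicF.IsInvertible G)
    (hsec : Nontrivial (Coh.HH X.left G 0)) (hne : ¬ Nonempty (G ≅ Coh.structureModule X.left)) :
    CohB1.IsAmple G := by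
  haveI := Groth.Agent.AV.geometricallyReduced_of_smooth X.hom
  haveI : GeometricallyIntegral X.hom := Groth.L08.Cube.geometricallyIntegral_of_group X
  haveI : IsCommMonObj X := isCommMonObj_of_isProper_of_geometricallyIntegral X
  haveI : AlgebraicGeometry.IsIntegral X.left := GeometricallyIntegral.isIntegral_of_subsingleton X.hom
  haveI : IsLocallyNoetherian X.left := LocallyOfFiniteType.isLocallyNoetherian X.hom
  haveI := hsec
  obtain ⟨s, hs⟩ := Groth.L21.RR.exists_hom_ne_zero (L := G)
  refine Groth.L08.Cube.isAmple_of_finite_fixed G hG s hs (by_contra fun hinf => ?_)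
  obtain ⟨e, N, he, hN, hee, hb⟩ := EulerDeg.exists_endo G hG
    (Set.Infinite.mono (fun a ha => (PicGrp.cl_eq_cl_iff _ _).2 ha) hinf)
  have heN : e = N • 1 := by
    have h : e * (e - N • 1) = 0 := by rw [mul_sub, hee, mul_smul_comm, _root_.mul_one, sub_self]
    exact sub_eq_zero.1 ((SimpleDomain.eq_zero_or_eq_zero hsimple _ _ h).resolve_left he)
  have h0 : N • Orth.bil G hG (fst X X) (snd X X) = 0 := by
    rw [← Orth.bil_pow_right]
    have h := hb (fst X X) (snd X X)
    rwa [heN, EndAV.End.toHom_nsmul, EndAV.End.toHom_one, MonObj.comp_pow, Category.comp_id] at h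
  have h1 := NS.bil_eq_zero_of_nsmul G hG N hN h0 (fst X X) (snd X X)
  rw [show Orth.bil G hG (fst X X) (snd X X) = DegreeForm.F G hG (fst X X * snd X X) -
    DegreeForm.F G hG (fst X X) - DegreeForm.F G hG (snd X X) from rfl, sub_sub, sub_eq_zero] at h1
  have hμ := (PicGrp.cl_eq_cl_iff ((Scheme.Modules.pullback (fst X X * snd X X).left).obj G)
    (CohB1.tensorMod ((Scheme.Modules.pullback (fst X X).left).obj G) ((Scheme.Modules.pullback (snd X X).left).obj G))).1
    (congrArg (fun z => (Additive.toMul z).1) h1)
  rw [show (fst X X * snd X X) = μ[X] by simp [Hom.mul_def]] at hμ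
  haveI := subsingleton_HH G hG hμ hne 0
  exact not_subsingleton (Coh.HH X.left G 0) inferInstance

end Groth.Agent.S18229
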