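import Groth.Statements.S18232
import Groth.Agent.L11.Magnet.Thick

set_option autoImplicit false
universe u
open CategoryTheory MonoidalCategory CartesianMonoidalCategory AlgebraicGeometry Opposite
open Magnet

namespace Groth.Agent.S18232

/-- Let S be a scheme, M a finitely generated abelian group, N a submonoid of M, and let X, Y be
S-schemes with actions of the diagonalizable group scheme D(M)_S and f : X → Y an equivariant,
formally unramified S-morphism. Then the induced map f^N : X^N → Y^N, viewed as a transformation of
functors on S-schemes, is again formally unramified: for every ring A, ideal I of A with I² = 0 and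
structure morphism Spec A → S, writing T = Spec (A/I) ⊂ T' = Spec A, two elements of X^N(T') with
the same restriction to T and the same image in Y^N(T') are equal. (Stated for schemes; the
published statement is for algebraic spaces over S.) -/
theorem result (S : Scheme.{u}) (M : Type) [AddCommGroup M]
    [AddGroup.FG M] (N : AddSubmonoid M) {X Y : Over S} (aX : Magnet.MonAct (Magnet.AMonS S M) X)
    (aY : Magnet.MonAct (Magnet.AMonS S M) Y) (f : X ⟶ Y) (hf : Magnet.MonAct.IsEquivariant aX aY f)
    [FormallyUnramified f.left] (A : Type u) [CommRing A] (I : Ideal A) (hI : I ^ 2 = ⊥)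
    (str : Spec (CommRingCat.of A) ⟶ S) (l₁ l₂ : (Magnet.attr aX N).obj (op (Over.mk str)))
    (htop : (Magnet.attr aX N).map (Over.homMk (Spec.map (CommRingCat.ofHom (Ideal.Quotient.mk I))) rfl :
        Over.mk (Spec.map (CommRingCat.ofHom (Ideal.Quotient.mk I)) ≫ str) ⟶ Over.mk str).op l₁ =
      (Magnet.attr aX N).map (Over.homMk (Spec.map (CommRingCat.ofHom (Ideal.Quotient.mk I))) rfl :
        Over.mk (Spec.map (CommRingCat.ofHom (Ideal.Quotient.mk I)) ≫ str) ⟶ Over.mk str).op l₂)
    (hbot : (Magnet.MonAct.eqvHom.postcomp (Magnet.subAct S M N) f hf).app _ l₁ =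
      (Magnet.MonAct.eqvHom.postcomp (Magnet.subAct S M N) f hf).app _ l₂) :
    l₁ = l₂ := by
  exact Subtype.ext (Groth.L11.Magnet.eq_of_thick I hI str f l₁.1 l₂.1 (congrArg Subtype.val htop)
    (congrArg Subtype.val hbot))

end Groth.Agent.S18232
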