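import Groth.Statements.S18234
import Groth.Agent.L11.Magnet.Thick

set_option autoImplicit false
universe u
open CategoryTheory MonoidalCategory CartesianMonoidalCategory AlgebraicGeometry Opposite
open Magnet

namespace Groth.Agent.S18234

/-- Let S be a scheme, M a finitely generated abelian group, N a submonoid of M, X and Y schemes over S
with actions of the diagonalizable group scheme D(M)_S, and f : X → Y a formally unramified
equivariant S-morphism. If the attractors X^N and Y^N are represented by S-schemes Z_X and Z_Y, and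
j : Z_X → Z_Y is the S-morphism that corresponds to f^N under the two representing bijections, then
j is formally unramified. (Stated for schemes; the published statement is for algebraic spaces over
S.) -/
theorem result (S : Scheme.{u}) (M : Type) [AddCommGroup M]
    [AddGroup.FG M] (N : AddSubmonoid M) {X Y : Over S} (aX : Magnet.MonAct (Magnet.AMonS S M) X)
    (aY : Magnet.MonAct (Magnet.AMonS S M) Y) (f : X ⟶ Y) (hf : Magnet.MonAct.IsEquivariant aX aY f)
    [FormallyUnramified f.left] {ZX ZY : Over S} (eX : (Magnet.attr aX N).RepresentableBy ZX) (eY : (Magnet.attr aY N).RepresentableBy ZY)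
    (j : ZX ⟶ ZY) (hj : ∀ (T : Over S) (z : T ⟶ ZX),
      eY.homEquiv (z ≫ j) = (Magnet.MonAct.eqvHom.postcomp (Magnet.subAct S M N) f hf).app (op T) (eX.homEquiv z)) :
    FormallyUnramified j.left := by
  refine FormallyUnramified.of_hom_ext _ fun R R' φ hφ hker g₁ g₂ hg hgj => ?_
  let s : Spec R ⟶ S := g₁ ≫ ZX.hom
  have hs : g₂ ≫ ZX.hom = s := by
    rw [← Over.w j, ← Category.assoc, ← hgj, Category.assoc, Over.w j]
  let G₁ : Over.mk s ⟶ ZX := Over.homMk g₁ rfl
  let G₂ : Over.mk s ⟶ ZX := Over.homMk g₂ hs
  suffices e : eX.homEquiv G₁ = eX.homEquiv G₂ from congrArg CommaMorphism.left (eX.homEquiv.injective e)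
  let q : Spec (CommRingCat.of (R ⧸ RingHom.ker φ.hom)) ⟶ Spec R :=
    Spec.map (CommRingCat.ofHom (Ideal.Quotient.mk (RingHom.ker φ.hom)))
  have hq : q ≫ g₁ = q ≫ g₂ := by
    have hfac : φ = CommRingCat.ofHom (Ideal.Quotient.mk (RingHom.ker φ.hom)) ≫
        CommRingCat.ofHom (RingHom.quotientKerEquivOfSurjective hφ).toRingHom := by
      ext x
      rfl
    have : IsIso (CommRingCat.ofHom (RingHom.quotientKerEquivOfSurjective hφ).toRingHom) :=
      (ConcreteCategory.isIso_iff_bijective _).2 (RingHom.quotientKerEquivOfSurjective hφ).bijective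
    rw [hfac, Spec.map_comp, Category.assoc, Category.assoc] at hg
    exact (cancel_epi _).1 hg
  let Q : Over.mk (q ≫ s) ⟶ Over.mk s := Over.homMk q rfl
  refine Subtype.ext (Groth.L11.Magnet.eq_of_thick (RingHom.ker φ.hom) hker s f _ _ ?_ ?_)
  · have e : eX.homEquiv (Q ≫ G₁) = eX.homEquiv (Q ≫ G₂) := congrArg _ (Over.OverMorphism.ext hq)
    rw [eX.homEquiv_comp, eX.homEquiv_comp] at e
    exact congrArg Subtype.val e
  · have e : eY.homEquiv (G₁ ≫ j) = eY.homEquiv (G₂ ≫ j) := congrArg _ (Over.OverMorphism.ext hgj)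
    rw [hj, hj] at e
    exact congrArg Subtype.val e

end Groth.Agent.S18234
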