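import Groth.Statements.S18237
import Groth.Agent.L09.MagnetAtlas.Range

set_option autoImplicit false
universe u
open CategoryTheory MonoidalCategory CartesianMonoidalCategory AlgebraicGeometry Opposite
open Magnet

namespace Groth.Agent.S18237

/-- Let S be a quasi-compact scheme, M a finitely generated abelian group, X a scheme which is
quasi-compact, separated and locally of finite presentation over S with an action of the
diagonalizable group scheme D(M)_S, and N a submonoid of M with subgroup of invertible elements Z =
N*. Assume X admits an S-affine N*-FPR atlas: an equivariant, étale and surjective g : U → X with U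
affine over S such that, for the actions restricted along D(M/Z)_S → D(M)_S, the square of
fixed-point subfunctors U^{D(M/Z)} → X^{D(M/Z)} over U → X is cartesian. Then there is a finitely
generated submonoid N_c of N with the same invertible elements as N such that the canonical map of
attractors X^{N_c} → X^N is an isomorphism of functors. (Stated for schemes, the published statement
being for algebraic spaces. The published statement assumes only M finitely generated and X → S
quasi-compact and separated; it fails without X locally of finite presentation over S or without S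
quasi-compact, so this row assumes both, and it assumes an S-affine N*-FPR atlas, which the
published argument obtains from a general existence result.) -/
theorem result (S : Scheme.{u}) [CompactSpace S] (M : Type)
    [AddCommGroup M] [AddGroup.FG M] {X : Over S} [QuasiCompact X.hom] [IsSeparated X.hom]
    [LocallyOfFinitePresentation X.hom] (a : Magnet.MonAct (Magnet.AMonS S M) X) (N : AddSubmonoid M)
    (Z : AddSubgroup M) (hZ : ∀ m : M, m ∈ Z ↔ (m ∈ N ∧ -m ∈ N)) (U : Over S) [IsAffineHom U.hom]
    (aU : Magnet.MonAct (Magnet.AMonS S M) U) (g : U ⟶ X) (hg : Magnet.MonAct.IsEquivariant aU a g)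
    [Etale g.left] [Surjective g.left]
    (hgZ : Magnet.MonAct.IsEquivariant (aU.restrict (Magnet.AMonS.map S (QuotientAddGroup.mk' Z))) (a.restrict (Magnet.AMonS.map S (QuotientAddGroup.mk' Z))) g)
    (hfpr : IsPullback (Magnet.MonAct.fixedPsh.map g hgZ)
      (Magnet.MonAct.fixedPshι (aU.restrict (Magnet.AMonS.map S (QuotientAddGroup.mk' Z))))
      (Magnet.MonAct.fixedPshι (a.restrict (Magnet.AMonS.map S (QuotientAddGroup.mk' Z)))) (yoneda.map g)) :
    ∃ (Nc : AddSubmonoid M) (h : Nc ≤ N), Nc.FG ∧ (∀ m : M, (m ∈ Nc ∧ -m ∈ Nc) ↔ (m ∈ N ∧ -m ∈ N)) ∧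
      IsIso (Magnet.attrMap a h) := by
  classical
  have : LocallyOfFiniteType U.hom := by rw [← Over.w g]; infer_instance
  obtain ⟨E, hE⟩ := Groth.L09.MagnetAtlas.exists_degrees_image aU
  have hfg : Z.toAddSubmonoid.FG := by
    have : Module.Finite ℤ M := Module.Finite.iff_addGroup_fg.2 inferInstance
    exact (AddSubgroup.fg_iff_addSubmonoid_fg Z).1
      ((Submodule.fg_iff_addSubgroup_fg (AddSubgroup.toIntSubmodule Z)).1 (IsNoetherian.noetherian _))
  let Nc := AddSubmonoid.closure ((E.filter (· ∈ N) : Finset M) : Set M) ⊔ Z.toAddSubmonoid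
  have hle : Nc ≤ N := sup_le (AddSubmonoid.closure_le.2 fun d hd => (Finset.mem_filter.1 hd).2)
    fun m hm => ((hZ m).1 hm).1
  refine ⟨Nc, hle, AddSubmonoid.FG.sup ⟨_, rfl⟩ hfg, fun m => ⟨fun h => ⟨hle h.1, hle h.2⟩, fun h =>
    ⟨le_sup_right (a := AddSubmonoid.closure _) ((hZ m).2 h),
      le_sup_right (a := AddSubmonoid.closure _) (Z.neg_mem ((hZ m).2 h))⟩⟩, ?_⟩
  have hZ' : Z.toAddSubmonoid = Magnet.unitFace N :=
    SetLike.ext fun m => (hZ m).trans (Groth.L09.MagnetAtlas.mem_unitFace_iff N m).symm
  refine (NatTrans.isIso_iff_isIso_app _).2 fun T => ?_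
  obtain ⟨T⟩ := T
  refine (CategoryTheory.isIso_iff_bijective _).2 ⟨fun φ φ' e => ?_, fun φ => ?_⟩
  · refine Groth.L11.Magnet.attrToX_injective a Nc ?_
    rw [← Groth.L11.Magnet.attrToX_attrMap a hle, ← Groth.L11.Magnet.attrToX_attrMap a hle φ']
    exact congrArg _ e
  · obtain ⟨ψ, hψ⟩ := Groth.L09.MagnetAtlas.inAttr_of_atlas hg Z hZ' hgZ hfpr
      (hE N Nc fun d hd hdN => le_sup_left (b := Z.toAddSubmonoid)
        (AddSubmonoid.subset_closure (Finset.mem_filter.2 ⟨hd, hdN⟩))) T _ ⟨φ, rfl⟩
    exact ⟨ψ, Groth.L11.Magnet.attrToX_injective a N ((Groth.L11.Magnet.attrToX_attrMap a hle ψ).trans hψ)⟩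

end Groth.Agent.S18237
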