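import Groth.Statements.S18238
import Mathlib.RingTheory.MvPolynomial.Ideal
import Mathlib.RingTheory.Smooth.Basic
import Mathlib.LinearAlgebra.SymmetricAlgebra.Basis
import Mathlib.LinearAlgebra.StdBasis
import Mathlib.LinearAlgebra.FreeModule.Basic
import Mathlib.RingTheory.Finiteness.Basic
import Mathlib.Algebra.MonoidAlgebra.Basic
import Mathlib.GroupTheory.Finiteness

set_option autoImplicit false
universe u
open DiagMon

namespace Groth.Agent.S18238

open MvPolynomial in
/-- An ideal inside the square of the variables with a square-zero lifting property vanishes. -/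
theorem ker_eq_bot {R A : Type*} [CommRing R] [CommRing A] [Algebra R A] [Algebra.FormallySmooth R A]
    {s : ℕ} (φ : MvPolynomial (Fin s) R →ₐ[R] A) (hφ : Function.Surjective φ)
    (h2 : RingHom.ker φ ≤ idealOfVars (Fin s) R ^ 2) : RingHom.ker φ = ⊥ := by
  classical
  set K := RingHom.ker φ with hK
  set 𝔞 := idealOfVars (Fin s) R with h𝔞
  let g : (MvPolynomial (Fin s) R ⧸ K ^ 2) →ₐ[R] A :=
    Ideal.Quotient.liftₐ (K ^ 2) φ fun a ha => RingHom.mem_ker.1 (Ideal.pow_le_self two_ne_zero ha)
  have hgq : ∀ p, g (Ideal.Quotient.mkₐ R (K ^ 2) p) = φ p := fun p => rfl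
  have hg : Function.Surjective g := fun a => by
    obtain ⟨p, rfl⟩ := hφ a
    exact ⟨_, hgq p⟩
  have hnil : IsNilpotent (RingHom.ker (g : (MvPolynomial (Fin s) R ⧸ K ^ 2) →+* A)) := by
    have hle : RingHom.ker (g : (MvPolynomial (Fin s) R ⧸ K ^ 2) →+* A) ≤ K.map (Ideal.Quotient.mk (K ^ 2)) := by
      intro x hx
      obtain ⟨p, rfl⟩ := Ideal.Quotient.mk_surjective x
      exact Ideal.mem_map_of_mem _ (show p ∈ K from hx)
    exact ⟨2, le_bot_iff.1 ((Ideal.pow_right_mono hle 2).trans (by rw [← Ideal.map_pow, Ideal.map_quotient_self]))⟩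
  let σ := Algebra.FormallySmooth.liftOfSurjective (AlgHom.id R A) g hg hnil
  have hσ : ∀ a, g (σ a) = a := fun a => Algebra.FormallySmooth.liftOfSurjective_apply _ g hg hnil a
  have hy' : ∀ i, ∃ y, Ideal.Quotient.mkₐ R (K ^ 2) y = σ (φ (X i)) := fun i => Ideal.Quotient.mk_surjective _
  choose y hy using hy'
  let τ : MvPolynomial (Fin s) R →ₐ[R] MvPolynomial (Fin s) R := aeval y
  have hτ1 : ∀ p, Ideal.Quotient.mkₐ R (K ^ 2) (τ p) = σ (φ p) := fun p => by
    have : (Ideal.Quotient.mkₐ R (K ^ 2)).comp τ = σ.comp φ := by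
      ext i
      simp only [AlgHom.comp_apply, τ, aeval_X, hy]
    exact AlgHom.congr_fun this p
  have hτK : ∀ p, τ p - p ∈ K := fun p => by
    rw [RingHom.mem_ker, map_sub, ← hgq (τ p), hτ1, hσ, sub_self]
  have h1 : K ≤ 𝔞 := h2.trans (Ideal.pow_le_self two_ne_zero)
  have hτ𝔞 : ∀ p ∈ 𝔞, τ p ∈ 𝔞 := fun p hp => by
    have := 𝔞.add_mem hp (h1 (hτK p))
    rwa [add_sub_cancel] at this
  have hdiff : ∀ p ∈ 𝔞 ^ 2, τ p - p ∈ 𝔞 * K := fun p hp => by
    rw [pow_two] at hp
    refine Submodule.mul_induction_on hp (fun a ha b hb => ?_) (fun a b ha hb => ?_)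
    · have e : τ (a * b) - a * b = τ b * (τ a - a) + a * (τ b - b) := by rw [map_mul]; ring
      rw [e]
      exact add_mem (Ideal.mul_mem_mul (hτ𝔞 b hb) (hτK a)) (Ideal.mul_mem_mul ha (hτK b))
    · have e : τ (a + b) - (a + b) = (τ a - a) + (τ b - b) := by rw [map_add]; ring
      rw [e]
      exact add_mem ha hb
  have hstep : K ≤ 𝔞 * K := fun p hp => by
    have h0 : τ p ∈ K ^ 2 := by
      have := hτ1 p
      rw [RingHom.mem_ker.1 hp, map_zero] at this
      exact Ideal.Quotient.eq_zero_iff_mem.1 this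
    rw [pow_two] at h0
    have := sub_mem (Ideal.mul_mono_left h1 h0) (hdiff p (h2 hp))
    rwa [sub_sub_cancel] at this
  have hpow : ∀ n, K ≤ 𝔞 ^ n := fun n => by
    induction n with
    | zero => simp
    | succ n ih => exact hstep.trans ((Ideal.mul_mono_right ih).trans (pow_succ' 𝔞 n).ge)
  refine eq_bot_iff.2 fun p hp => ?_
  rw [Submodule.mem_bot]
  ext a
  simpa using (mem_pow_idealOfVars_iff' _ p).1 (hpow (Finsupp.degree a + 1) hp) a (Nat.lt_succ_self _)

/-- Let R be a commutative ring and N a fine and sharp commutative monoid (finitely generated,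
cancellative, and 0 its only invertible element). If the diagonalizable monoid scheme A(N)_R = Spec
R[N] is smooth over Spec R, then it is a vector bundle over Spec R: the monoid algebra R[N] is
isomorphic as an R-algebra to the symmetric algebra of a finitely generated projective R-module
(existence of such a module and isomorphism). (Affine base; the published statement is over an
arbitrary base scheme S.) -/
theorem result (R : Type u) [CommRing R] (N : Type)
    [AddCommMonoid N] [AddMonoid.FG N] [IsCancelAdd N] (hsharp : ∀ n : N, IsAddUnit n → n = 0)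
    [Algebra.Smooth R (AddMonoidAlgebra R N)] :
    ∃ (P : Type u) (_ : AddCommGroup P) (_ : Module R P), Module.Finite R P ∧ Module.Projective R P ∧
      Nonempty (AddMonoidAlgebra R N ≃ₐ[R] SymmetricAlgebra R P) := by
  classical
  have hex : ∃ (c : ℕ) (G : Finset N), G.card = c ∧ AddSubmonoid.closure (G : Set N) = ⊤ := by
    obtain ⟨G, hG⟩ := (AddMonoid.fg_def.1 (inferInstance : AddMonoid.FG N))
    exact ⟨_, G, rfl, hG⟩
  obtain ⟨G, hGc, hG⟩ := Nat.find_spec hex
  have hmin : ∀ x ∈ G, x ∉ AddSubmonoid.closure ((G.erase x : Finset N) : Set N) := fun x hx h => by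
    refine Nat.find_min hex (hGc ▸ Finset.card_erase_lt_of_mem hx) ⟨G.erase x, rfl, ?_⟩
    rw [eq_top_iff, ← hG, AddSubmonoid.closure_le]
    intro z hz
    by_cases hzx : z = x
    · exact hzx ▸ h
    · exact AddSubmonoid.subset_closure (Finset.mem_coe.2 (Finset.mem_erase.2 ⟨hzx, hz⟩))
  let g : Fin G.card → N := fun i => (G.equivFin.symm i : N)
  have hginj : Function.Injective g := Subtype.val_injective.comp G.equivFin.symm.injective
  have hgmem : ∀ i, g i ∈ G := fun i => (G.equivFin.symm i).2
  have hg0 : ∀ i, g i ≠ 0 := fun i h => hmin _ (hgmem i) (h ▸ zero_mem _)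
  let wt : (Fin G.card →₀ ℕ) →+ N := (Finsupp.linearCombination ℕ g).toAddMonoidHom
  have hwt1 : ∀ i, wt (Finsupp.single i 1) = g i := fun i => by simp [wt]
  have hwt0 : ∀ a, wt a = 0 → a = 0 := fun a ha => by
    by_contra hne
    obtain ⟨j, hj⟩ := Finsupp.ne_iff.1 hne
    have hle : Finsupp.single j 1 ≤ a := Finsupp.single_le_iff.2 (Nat.one_le_iff_ne_zero.2 hj)
    rw [← add_tsub_cancel_of_le hle, map_add, hwt1] at ha
    exact hg0 j (hsharp _ (IsAddUnit.of_add_eq_zero _ ha))
  have hwt2 : ∀ a i, wt a = g i → a = Finsupp.single i 1 := fun a i ha => by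
    have hi : a i ≠ 0 := fun hi => hmin _ (hgmem i) (by
      have hmem : wt a ∈ AddSubmonoid.closure ((G.erase (g i) : Finset N) : Set N) := by
        show (Finsupp.linearCombination ℕ g a) ∈ _
        rw [Finsupp.linearCombination_apply]
        refine AddSubmonoid.sum_mem _ fun j hj => AddSubmonoid.nsmul_mem _ (AddSubmonoid.subset_closure ?_) _
        refine Finset.mem_coe.2 (Finset.mem_erase.2 ⟨fun h => ?_, hgmem j⟩)
        exact (Finsupp.mem_support_iff.1 hj) (hginj h ▸ hi)
      rwa [ha] at hmem)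
    have hle : Finsupp.single i 1 ≤ a := Finsupp.single_le_iff.2 (Nat.one_le_iff_ne_zero.2 hi)
    rw [← add_tsub_cancel_of_le hle, map_add, hwt1, add_eq_left] at ha
    rw [← add_tsub_cancel_of_le hle, hwt0 _ ha, add_zero]
  let φ : MvPolynomial (Fin G.card) R →ₐ[R] AddMonoidAlgebra R N := AddMonoidAlgebra.mapDomainAlgHom R R wt
  have hφm : ∀ a r, φ (MvPolynomial.monomial a r) = AddMonoidAlgebra.single (wt a) r := fun a r =>
    AddMonoidAlgebra.mapDomain_single
  have hφsurj : Function.Surjective φ := by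
    intro f
    have hN : ∀ n : N, ∃ a, wt a = n := fun n => by
      have : n ∈ AddMonoidHom.mrange wt := by
        have hle : AddSubmonoid.closure (G : Set N) ≤ AddMonoidHom.mrange wt := AddSubmonoid.closure_le.2 fun x hx =>
          ⟨Finsupp.single (G.equivFin ⟨x, hx⟩) 1, by rw [hwt1]; simp [g]⟩
        exact hle (by rw [hG]; exact AddSubmonoid.mem_top n)
      exact this
    choose a ha using hN
    refine ⟨∑ n ∈ f.coeff.support, MvPolynomial.monomial (a n) (f.coeff n), ?_⟩
    rw [map_sum]
    simp only [hφm, ha]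
    exact AddMonoidAlgebra.sum_coeff_single f
  have hker : RingHom.ker φ ≤ MvPolynomial.idealOfVars (Fin G.card) R ^ 2 := by
    intro p hp
    refine (MvPolynomial.mem_pow_idealOfVars_iff' _ p).2 fun x hx => ?_
    have huniq : ∀ b, wt b = wt x → b = x := fun b hb => by
      obtain h0 | h1 : x.degree = 0 ∨ x.degree = 1 := by omega
      · rw [Finsupp.degree_eq_zero_iff] at h0
        subst h0
        exact hwt0 b (by rw [hb, map_zero])
      · obtain ⟨i, rfl⟩ := (Finsupp.sum_eq_one_iff x).1 (by rw [← h1, Finsupp.degree_apply]; rfl)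
        exact hwt2 b i (by rw [hb, hwt1])
    have e : φ p = ∑ a ∈ p.support, AddMonoidAlgebra.single (wt a) (p.coeff a) := by
      conv_lhs => rw [p.as_sum, map_sum]
      exact Finset.sum_congr rfl fun a _ => hφm _ _
    have h0 := congrArg (fun f : AddMonoidAlgebra R N => f.coeff (wt x)) (e.symm.trans (RingHom.mem_ker.1 hp))
    simp only [AddMonoidAlgebra.coeff_sum, AddMonoidAlgebra.coeff_single, Finsupp.coe_finset_sum, Finset.sum_apply,
      AddMonoidAlgebra.coeff_zero, Finsupp.zero_apply] at h0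
    rw [Finset.sum_eq_single x] at h0
    · simpa using h0
    · intro b _ hb
      exact Finsupp.single_eq_of_ne (fun h => hb (huniq b h.symm))
    · intro hx'
      simp [MvPolynomial.notMem_support_iff.1 hx']
  have hinj : Function.Injective φ :=
    (RingHom.injective_iff_ker_eq_bot φ.toRingHom).2 (ker_eq_bot φ hφsurj hker)
  exact ⟨Fin G.card → R, inferInstance, inferInstance, inferInstance, inferInstance,
    ⟨(AlgEquiv.ofBijective φ ⟨hinj, hφsurj⟩).symm.trans (SymmetricAlgebra.equivMvPolynomial (Pi.basisFun R (Fin G.card))).symm⟩⟩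

end Groth.Agent.S18238
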