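import Groth.Statements.S18239
import Mathlib.LinearAlgebra.SymmetricAlgebra.Basic
import Mathlib.RingTheory.GradedAlgebra.Basic
import Mathlib.RingTheory.Smooth.Basic
import Mathlib.RingTheory.Kaehler.Basic
import Mathlib.RingTheory.Extension.Cotangent.Basic
import Mathlib.RingTheory.MvPolynomial.Ideal
import Mathlib.Data.Finsupp.PWO
import Mathlib.GroupTheory.Finiteness
import Mathlib.LinearAlgebra.TensorProduct.Tower

set_option autoImplicit false
universe u
open DiagMon

namespace Groth.Agent.S18239

open DirectSum TensorProduct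

set_option linter.style.haveILetI false

section SymAdic

variable {S : Type u} [CommRing S] {M : Type u} [AddCommGroup M] [Module S M]

/-- The augmentation ideal of a symmetric algebra of a projective module is separated. -/
theorem eq_zero_of_forall_mem_pow [Module.Projective S M] (y : SymmetricAlgebra S M)
    (h : ∀ k : ℕ, y ∈ RingHom.ker (SymmetricAlgebra.algebraMapInv (R := S) (M := M)) ^ k) : y = 0 := by
  classical
  obtain ⟨s, hs⟩ := Module.Projective.out (R := S) (P := M)
  let ψ : SymmetricAlgebra S M →ₐ[S] MvPolynomial M S :=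
    SymmetricAlgebra.lift ((Finsupp.linearCombination S fun m => MvPolynomial.X m).comp s)
  let χ : MvPolynomial M S →ₐ[S] SymmetricAlgebra S M := MvPolynomial.aeval fun m => SymmetricAlgebra.ι S M m
  have hχ : χ.comp ψ = AlgHom.id S _ := by
    refine SymmetricAlgebra.algHom_ext (LinearMap.ext fun x => ?_)
    change χ (ψ (SymmetricAlgebra.ι S M x)) = SymmetricAlgebra.ι S M x
    rw [SymmetricAlgebra.lift_ι_apply, LinearMap.comp_apply, Finsupp.linearCombination_apply,
      map_finsuppSum]
    simp only [map_smul, χ, MvPolynomial.aeval_X]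
    conv_rhs => rw [← hs x, Finsupp.linearCombination_apply, map_finsuppSum]
    simp only [id_eq, map_smul]
  have hle : (RingHom.ker (SymmetricAlgebra.algebraMapInv (R := S) (M := M))).map ψ ≤ MvPolynomial.idealOfVars M S := by
    refine Ideal.map_le_iff_le_comap.2 fun z hz => ?_
    rw [Ideal.mem_comap, ← pow_one (MvPolynomial.idealOfVars M S), MvPolynomial.mem_pow_idealOfVars_iff']
    intro d hd
    obtain rfl : d = 0 := (Finsupp.degree_eq_zero_iff d).1 (by omega)
    have e : ((MvPolynomial.aeval fun _ : M => (0 : S)).comp ψ) = SymmetricAlgebra.algebraMapInv := by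
      refine SymmetricAlgebra.algHom_ext (LinearMap.ext fun x => ?_)
      change MvPolynomial.aeval (fun _ : M => (0 : S)) (ψ (SymmetricAlgebra.ι S M x)) = _
      rw [SymmetricAlgebra.lift_ι_apply, LinearMap.comp_apply, Finsupp.linearCombination_apply, map_finsuppSum]
      simp [SymmetricAlgebra.algebraMapInv_ι]
    have := DFunLike.congr_fun e z
    rw [AlgHom.comp_apply, RingHom.mem_ker.1 hz, ← Pi.zero_def, MvPolynomial.aeval_zero,
      Algebra.algebraMap_self_apply, MvPolynomial.constantCoeff_eq] at this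
    exact this
  refine Function.LeftInverse.injective (g := χ) (fun z => DFunLike.congr_fun hχ z) ?_
  rw [map_zero]
  ext d
  have hy := Ideal.pow_right_mono hle (Finsupp.degree d + 1) ((Ideal.map_pow ψ _ _).le (Ideal.mem_map_of_mem ψ (h _)))
  rw [MvPolynomial.mem_pow_idealOfVars_iff'] at hy
  rw [MvPolynomial.coeff_zero]
  exact hy d (by omega)

end SymAdic


section Core

variable (R : Type u) [CommRing R] (S : Type u) [CommRing S] (A : Type u) [CommRing A]
  [Algebra R A] [Algebra R S] [Algebra S A] [IsScalarTower R S A]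
  (ρ : A →ₐ[R] S) (ρc' : ∀ c : S, ρ (algebraMap S A c) = c)

include ρc' in
theorem leibniz_mk (W : Submodule S A) (hWc : ∀ c : S, algebraMap S A c ∈ W)
    (hWK : ∀ a b : A, (a - algebraMap S A (ρ a)) * (b - algebraMap S A (ρ b)) ∈ W) (a b : A) :
    W.mkQ (a * b) = ρ a • W.mkQ b + ρ b • W.mkQ a := by
  rw [← map_smul, ← map_smul, ← map_add]
  refine (Submodule.Quotient.eq W).2 ?_
  rw [show a * b - (ρ a • b + ρ b • a) = (a - algebraMap S A (ρ a)) * (b - algebraMap S A (ρ b)) -
    algebraMap S A (ρ a * ρ b) by rw [Algebra.smul_def, Algebra.smul_def, map_mul]; ring]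
  exact sub_mem (hWK a b) (hWc _)

include ρc' in
theorem finite_projective_quotient [Algebra.Smooth R A] (G : Set A)
    (hker : ∀ x ∈ G, x = 1 ∨ ∃ b c, ρ b = 0 ∧ ρ c = 0 ∧ x = b * c)
    (hWc : ∀ c : S, algebraMap S A c ∈ Submodule.span S G)
    (hWK : ∀ a b : A, (a - algebraMap S A (ρ a)) * (b - algebraMap S A (ρ b)) ∈ Submodule.span S G) :
    Module.Finite S (A ⧸ Submodule.span S G) ∧ Module.Projective S (A ⧸ Submodule.span S G) := by
  letI : Algebra A S := ρ.toRingHom.toAlgebra
  haveI : IsScalarTower R A S := IsScalarTower.of_algebraMap_eq fun r => (ρ.commutes r).symm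
  let W := Submodule.span S G
  letI : Module A (A ⧸ Submodule.span S G) := Module.compHom (A ⧸ Submodule.span S G) ρ.toRingHom
  haveI : IsScalarTower A S (A ⧸ Submodule.span S G) := ⟨fun a c x => by
    change (ρ a * c) • x = ρ a • c • x
    exact mul_smul _ _ _⟩
  haveI : IsScalarTower R A (A ⧸ Submodule.span S G) := ⟨fun r a x => by
    change ρ (r • a) • x = r • (ρ a • x)
    rw [map_smul, smul_assoc]⟩
  let D : Derivation R A (A ⧸ Submodule.span S G) :=
    Derivation.mk' ((Submodule.span S G).mkQ.restrictScalars R) (leibniz_mk R S A ρ ρc' _ hWc hWK)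
  let q : S ⊗[A] Ω[A⁄R] →ₗ[S] (A ⧸ Submodule.span S G) := D.liftKaehlerDifferential.liftBaseChange S
  have key : ∀ a b : A, (1 : S) ⊗ₜ[A] KaehlerDifferential.D R A (a * b) =
      ρ a • ((1 : S) ⊗ₜ[A] KaehlerDifferential.D R A b) + ρ b • ((1 : S) ⊗ₜ[A] KaehlerDifferential.D R A a) := by
    intro a b
    rw [Derivation.leibniz, TensorProduct.tmul_add, TensorProduct.tmul_smul, TensorProduct.tmul_smul,
      ← algebraMap_smul S a, ← algebraMap_smul S b]
    rfl
  let i₀ : A →ₗ[S] S ⊗[A] Ω[A⁄R] :=
    { toFun := fun a => (1 : S) ⊗ₜ KaehlerDifferential.D R A (a - algebraMap S A (ρ a))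
      map_add' := fun a b => by
        rw [← TensorProduct.tmul_add, ← map_add]
        congr 2
        rw [map_add, map_add]
        abel
      map_smul' := fun c a => by
        rw [RingHom.id_apply, Algebra.smul_def, map_mul ρ, ρc', map_mul (algebraMap S A), ← mul_sub, key, ρc']
        rw [show ρ (a - algebraMap S A (ρ a)) = 0 by rw [map_sub, ρc', sub_self], zero_smul, add_zero] }
  have hi₀ : Submodule.span S G ≤ LinearMap.ker i₀ := by
    refine Submodule.span_le.2 fun x hx => ?_
    rcases hker x hx with rfl | ⟨b, c, hb, hc, rfl⟩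
    · change (1 : S) ⊗ₜ[A] KaehlerDifferential.D R A (1 - algebraMap S A (ρ 1)) = 0
      rw [map_one ρ, map_one, sub_self, map_zero, TensorProduct.tmul_zero]
    · change (1 : S) ⊗ₜ[A] KaehlerDifferential.D R A (b * c - algebraMap S A (ρ (b * c))) = 0
      rw [map_mul ρ, hb, zero_mul, map_zero, sub_zero, key, hb, hc, zero_smul, zero_smul, add_zero]
  let i₁ : (A ⧸ Submodule.span S G) →ₗ[S] S ⊗[A] Ω[A⁄R] := (Submodule.span S G).liftQ i₀ hi₀
  have hqi : q.comp i₁ = LinearMap.id := by
    refine Submodule.linearMap_qext _ (LinearMap.ext fun a => ?_)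
    change q ((1 : S) ⊗ₜ[A] KaehlerDifferential.D R A (a - algebraMap S A (ρ a))) = _
    rw [LinearMap.liftBaseChange_tmul, Derivation.liftKaehlerDifferential_comp_D, one_smul]
    change (Submodule.span S G).mkQ (a - algebraMap S A (ρ a)) = _
    rw [map_sub, show (Submodule.span S G).mkQ (algebraMap S A (ρ a)) = 0 from
      (Submodule.Quotient.mk_eq_zero _).2 (hWc _), sub_zero]
    rfl
  exact ⟨Module.Finite.of_surjective q fun x => ⟨_, DFunLike.congr_fun hqi x⟩,
    Module.Projective.of_split i₁ q hqi⟩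

include ρc' in
theorem injective_lift [Algebra.Smooth R A] (W : Submodule S A) (hWc : ∀ c : S, algebraMap S A c ∈ W)
    (hWK : ∀ a b : A, (a - algebraMap S A (ρ a)) * (b - algebraMap S A (ρ b)) ∈ W)
    [Module.Projective S (A ⧸ W)] (s : (A ⧸ W) →ₗ[S] A) (hs : ∀ x, W.mkQ (s x) = x) (hρs : ∀ x, ρ (s x) = 0) :
    Function.Injective (SymmetricAlgebra.lift s) := by
  have hleib := leibniz_mk R S A ρ ρc' W hWc hWK
  have mkW : ∀ {a}, a ∈ W → W.mkQ a = 0 := fun h => (Submodule.Quotient.mk_eq_zero W).2 h
  set Φ := SymmetricAlgebra.lift s with hΦdef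
  -- injectivity
  let J : Ideal (SymmetricAlgebra S (A ⧸ W)) := RingHom.ker (SymmetricAlgebra.algebraMapInv (R := S) (M := A ⧸ W))
  have hιJ : ∀ x, SymmetricAlgebra.ι S (A ⧸ W) x ∈ J := fun x => SymmetricAlgebra.algebraMapInv_ι x
  let h₀ : A → SymmetricAlgebra S (A ⧸ W) := fun a => algebraMap S _ (ρ a) + SymmetricAlgebra.ι S (A ⧸ W) (W.mkQ a)
  have h₀alg : ∀ c : S, h₀ (algebraMap S A c) = algebraMap S _ c := fun c => by
    simp only [h₀, ρc', mkW (hWc c), map_zero, add_zero]
  let h : A →ₐ[R] SymmetricAlgebra S (A ⧸ W) ⧸ J ^ 2 :=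
    { toFun := fun a => Ideal.Quotient.mk _ (h₀ a)
      map_one' := by rw [← map_one (algebraMap S A), h₀alg, map_one, map_one]
      map_mul' := fun a b => by
        rw [← map_mul]
        refine Ideal.Quotient.eq.2 ?_
        have e : h₀ (a * b) - h₀ a * h₀ b =
            -(SymmetricAlgebra.ι S (A ⧸ W) (W.mkQ a) * SymmetricAlgebra.ι S (A ⧸ W) (W.mkQ b)) := by
          simp only [h₀, map_mul, hleib, map_add, map_smul, Algebra.smul_def]
          ring
        rw [e, pow_two]
        exact neg_mem (Ideal.mul_mem_mul (hιJ _) (hιJ _))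
      map_zero' := by simp [h₀]
      map_add' := fun a b => by
        simp only [h₀, map_add]
        abel
      commutes' := fun r => by
        rw [IsScalarTower.algebraMap_apply R S A r, h₀alg]
        rfl }
  have hhΦ : ∀ y, h (Φ y) = Ideal.Quotient.mk (J ^ 2) y := by
    intro y
    induction y using SymmetricAlgebra.induction with
    | algebraMap c => rw [AlgHom.commutes]; exact congrArg _ (h₀alg c)
    | ι x =>
      rw [SymmetricAlgebra.lift_ι_apply]
      change Ideal.Quotient.mk _ (h₀ (s x)) = _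
      simp only [h₀, hρs, hs, map_zero, zero_add]
    | mul u v hu hv => rw [map_mul, map_mul, hu, hv, map_mul]
    | add u v hu hv => rw [map_add, map_add, hu, hv, map_add]
  refine (injective_iff_map_eq_zero Φ).2 fun y hy => eq_zero_of_forall_mem_pow y fun i => ?_
  induction i with
  | zero => simp
  | succ i ih =>
    have hk : i + 2 ≠ 0 := by omega
    let T : SymmetricAlgebra S (A ⧸ W) ⧸ J ^ (i + 2) →ₐ[R] SymmetricAlgebra S (A ⧸ W) ⧸ J ^ 2 :=
      Ideal.Quotient.factorₐ R (Ideal.pow_le_pow_right (by omega))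
    have hT : Function.Surjective T := Ideal.Quotient.factor_surjective (Ideal.pow_le_pow_right (by omega))
    have hTn : IsNilpotent (RingHom.ker (T : SymmetricAlgebra S (A ⧸ W) ⧸ J ^ (i + 2) →+* SymmetricAlgebra S (A ⧸ W) ⧸ J ^ 2)) := by
      refine ⟨i + 2, le_bot_iff.1 ?_⟩
      refine (Ideal.pow_right_mono (J := J.map (Ideal.Quotient.mk (J ^ (i + 2)))) ?_ _).trans ?_
      · intro z hz
        obtain ⟨z, rfl⟩ := Ideal.Quotient.mk_surjective z
        refine Ideal.mem_map_of_mem _ (Ideal.pow_le_self (two_ne_zero) ?_)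
        exact Ideal.Quotient.eq_zero_iff_mem.1 hz
      · rw [← Ideal.map_pow, Ideal.map_quotient_self]
    let g := Algebra.FormallySmooth.liftOfSurjective h T hT hTn
    let θ : SymmetricAlgebra S (A ⧸ W) →+* SymmetricAlgebra S (A ⧸ W) ⧸ J ^ (i + 2) := g.toRingHom.comp Φ.toRingHom
    let m := Ideal.Quotient.mk (J ^ (i + 2))
    have hbase : ∀ z, θ z - m z ∈ (J ^ 2).map m := by
      intro z
      have e : T (θ z) = Ideal.Quotient.mk (J ^ 2) z :=
        (Algebra.FormallySmooth.liftOfSurjective_apply h T hT hTn (Φ z)).trans (hhΦ z)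
      obtain ⟨w, hw⟩ := Ideal.Quotient.mk_surjective (θ z)
      rw [← hw] at e ⊢
      rw [← map_sub]
      exact Ideal.mem_map_of_mem _ (Ideal.Quotient.eq.1 e)
    have hmapT : ∀ l z, z ∈ J ^ l → θ z - m z ∈ (J ^ (l + 1)).map m := by
      intro l
      induction l with
      | zero => exact fun z _ => Ideal.map_mono (Ideal.pow_le_pow_right (by omega)) (hbase z)
      | succ l ihl =>
        intro z hz
        rw [pow_succ] at hz
        induction hz using Submodule.mul_induction_on' with
        | mem_mul_mem a ha b hb =>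
          have e : θ (a * b) - m (a * b) = (θ a - m a) * θ b + m a * (θ b - m b) := by
            rw [map_mul, map_mul]; ring
          rw [e]
          have hbθ : θ b ∈ J.map m := by
            rw [← sub_add_cancel (θ b) (m b)]
            exact add_mem (Ideal.map_mono (Ideal.pow_le_self two_ne_zero) (hbase b)) (Ideal.mem_map_of_mem _ hb)
          refine add_mem ?_ ?_
          · rw [show J ^ (l + 1 + 1) = J ^ (l + 1) * J from pow_succ _ _, Ideal.map_mul]
            exact Ideal.mul_mem_mul (ihl a ha) hbθ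
          · rw [show J ^ (l + 1 + 1) = J ^ l * J ^ 2 from (pow_add J l 2), Ideal.map_mul]
            exact Ideal.mul_mem_mul (Ideal.mem_map_of_mem _ ha) (hbase b)
        | add a _ b _ ha hb => rw [map_add, map_add, add_sub_add_comm]; exact add_mem ha hb
    have h0 := hmapT i y ih
    have hθy : θ y = 0 := (congrArg g hy).trans (map_zero g)
    rw [hθy, zero_sub, neg_mem_iff, ← Ideal.mem_comap, Ideal.comap_map_of_surjective' _ Ideal.Quotient.mk_surjective,
      Ideal.mk_ker, sup_eq_left.2 (Ideal.pow_le_pow_right (by omega))] at h0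
    exact h0

end Core

theorem wellFounded_lt (N : Type) [AddCommMonoid N] [AddMonoid.FG N] [IsCancelAdd N]
    (hsharp : ∀ n : N, IsAddUnit n → n = 0) : WellFounded fun m n : N => ∃ k, k ≠ 0 ∧ m + k = n := by
  classical
  obtain ⟨T, hT⟩ := AddMonoid.FG.fg_top (M := N)
  let φ : (T →₀ ℕ) →+ N := Finsupp.liftAddHom fun t : T => (multiplesHom N (t : N))
  have hφ : Function.Surjective φ := by
    intro n
    have : AddSubmonoid.closure (T : Set N) ≤ AddMonoidHom.mrange φ := by
      refine AddSubmonoid.closure_le.2 fun t ht => ⟨Finsupp.single ⟨t, ht⟩ 1, ?_⟩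
      simp [φ]
    exact this (hT ▸ AddSubmonoid.mem_top n)
  refine wellFounded_iff_isEmpty_descending_chain.2 ⟨fun ⟨f, hf⟩ => ?_⟩
  have htrans : ∀ i d, ∃ k, k ≠ 0 ∧ f (i + d + 1) + k = f i := by
    intro i d
    induction d with
    | zero => exact hf i
    | succ d ih =>
      obtain ⟨k, hk, he⟩ := ih
      obtain ⟨k', hk', he'⟩ := hf (i + d + 1)
      refine ⟨k' + k, fun h => hk (hsharp k (IsAddUnit.of_add_eq_zero k' (by rw [add_comm]; exact h))), ?_⟩
      rw [← he, ← he', ← add_assoc]
      rfl
  obtain ⟨i, j, hij, hle⟩ := (wellQuasiOrdered_le (α := T →₀ ℕ)) fun i => Function.surjInv hφ (f i)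
  obtain ⟨k, hk, he⟩ := htrans i (j - i - 1)
  rw [show i + (j - i - 1) + 1 = j by omega] at he
  obtain ⟨w, hw⟩ := le_iff_exists_add.1 hle
  have hw' := congrArg φ hw
  simp only [map_add, Function.surjInv_eq hφ] at hw'
  refine hk (hsharp k (IsAddUnit.of_add_eq_zero (φ w) (add_left_cancel (a := f j) ?_)))
  rw [add_zero, ← add_assoc, he, ← hw']

/-- Let R be a commutative ring, N a fine and sharp commutative monoid (finitely generated,
cancellative, and 0 its only invertible element) and A a commutative R-algebra graded by N which is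
smooth over R. Then A is isomorphic, as an algebra over its degree-zero part A_0, to the symmetric
algebra of a finitely generated projective A_0-module; that is, Spec A → Spec A_0 is a vector bundle
whose zero section is the closed subscheme Spec A_0 cut out by the elements of non-zero degree.
(This is the affine, graded form of the statement that for a smooth S-scheme X with a
Zariski-locally linearizable action of a diagonalizable group D(M)_S and a finitely generated
submonoid N of M the map from the attractor X^N to X^{N*} is a vector bundle: here the base is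
affine, N* = 0, and X = Spec A equals its own attractor X^N, an N-grading of A being an action of
the monoid scheme of N; the fixed-point scheme X^0 is Spec A_0.) -/
theorem result (R : Type u) [CommRing R] (A : Type u)
    [CommRing A] [Algebra R A] (N : Type) [AddCommMonoid N] [DecidableEq N] [AddMonoid.FG N] [IsCancelAdd N]
    (hsharp : ∀ n : N, IsAddUnit n → n = 0) (𝒜 : N → Submodule R A) [GradedAlgebra 𝒜]
    [Algebra.Smooth R A] :
    ∃ (P : Type u) (_ : AddCommGroup P) (_ : Module (𝒜 0) P), Module.Finite (𝒜 0) P ∧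
      Module.Projective (𝒜 0) P ∧ Nonempty (A ≃ₐ[𝒜 0] SymmetricAlgebra (𝒜 0) P) := by
  classical
  haveI : IsScalarTower R (𝒜 0) A := IsScalarTower.of_algebraMap_eq fun r => rfl
  let π : N → A →ₗ[R] A := GradedAlgebra.proj 𝒜
  have πsame : ∀ {n} {a : A}, a ∈ 𝒜 n → π n a = a := fun h => decompose_of_mem_same 𝒜 h
  have πne : ∀ {i n} {a : A}, a ∈ 𝒜 i → i ≠ n → π n a = 0 := fun h hn => decompose_of_mem_ne 𝒜 h hn
  have πmem : ∀ n a, π n a ∈ 𝒜 n := fun n a => SetLike.coe_mem _
  have πc : ∀ (c : 𝒜 0) n a, π n ((c : A) * a) = (c : A) * π n a := fun c n a =>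
    coe_decompose_mul_of_left_mem_zero 𝒜 c.2
  -- the retraction onto degree zero
  let ρ₀ : A → 𝒜 0 := fun a => decompose 𝒜 a 0
  have ρadd : ∀ a b, ρ₀ (a + b) = ρ₀ a + ρ₀ b := fun a b => by simp [ρ₀]
  have ρne : ∀ {i} {a : A}, a ∈ 𝒜 i → i ≠ 0 → ρ₀ a = 0 := fun h hn => Subtype.ext (πne h hn)
  have ρc : ∀ c : 𝒜 0, ρ₀ c = c := fun c => Subtype.ext (πsame c.2)
  have ρmul : ∀ a b, ρ₀ (a * b) = ρ₀ a * ρ₀ b := by
    intro a
    induction a using DirectSum.Decomposition.inductionOn 𝒜 with
    | zero => intro b; simp [ρ₀]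
    | add x y hx hy => intro b; rw [add_mul, ρadd, hx, hy, ρadd, add_mul]
    | @homogeneous i x =>
      intro b
      induction b using DirectSum.Decomposition.inductionOn 𝒜 with
      | zero => simp [ρ₀]
      | add u v hu hv => rw [mul_add, ρadd, hu, hv, ρadd, mul_add]
      | @homogeneous j y =>
        by_cases hi : i = 0
        · subst hi
          refine Subtype.ext ?_
          rw [ρc x]
          exact (πc x 0 (y : A)).trans rfl
        · rw [ρne x.2 hi, zero_mul]
          exact ρne (SetLike.mul_mem_graded x.2 y.2) fun h => hi (hsharp i (IsAddUnit.of_add_eq_zero j h))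
  let ρ : A →ₐ[R] 𝒜 0 :=
    { toFun := ρ₀
      map_one' := ρc 1
      map_mul' := ρmul
      map_zero' := ρc 0
      map_add' := ρadd
      commutes' := fun r => ρc (algebraMap R (𝒜 0) r) }
  have ρc' : ∀ c : 𝒜 0, ρ c = c := ρc
  have ρsmul : ∀ (c : 𝒜 0) a, ρ (c • a) = c * ρ a := fun c a => (ρmul (c : A) a).trans (by rw [ρc]; rfl)
  -- the squares of the irrelevant ideal
  let G : Set A := {x | x = 1 ∨ ∃ (i j : N) (b c : A), i ≠ 0 ∧ j ≠ 0 ∧ b ∈ 𝒜 i ∧ c ∈ 𝒜 j ∧ x = b * c}
  let W : Submodule (𝒜 0) A := Submodule.span (𝒜 0) G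
  have hWc : ∀ c : 𝒜 0, (c : A) ∈ W := fun c => by
    have := W.smul_mem c (Submodule.subset_span (show (1 : A) ∈ G from Or.inl rfl))
    rwa [show c • (1 : A) = (c : A) * 1 from rfl, mul_one] at this
  have hWK : ∀ a b : A, (a - ρ a) * (b - ρ b) ∈ W := by
    intro a
    induction a using DirectSum.Decomposition.inductionOn 𝒜 with
    | zero => intro b; simp
    | add x y hx hy =>
      intro b
      rw [map_add, Submodule.coe_add, add_sub_add_comm, add_mul]
      exact add_mem (hx b) (hy b)
    | @homogeneous i x =>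
      intro b
      induction b using DirectSum.Decomposition.inductionOn 𝒜 with
      | zero => simp
      | add u v hu hv =>
        rw [map_add ρ u v, Submodule.coe_add, add_sub_add_comm, mul_add]
        exact add_mem hu hv
      | @homogeneous j y =>
        by_cases hi : i = 0
        · subst hi; rw [ρc' x, sub_self, zero_mul]; exact zero_mem _
        by_cases hj : j = 0
        · subst hj; rw [ρc' y, sub_self, mul_zero]; exact zero_mem _
        rw [show ρ (x : A) = 0 from ρne x.2 hi, show ρ (y : A) = 0 from ρne y.2 hj, ZeroMemClass.coe_zero, sub_zero, sub_zero]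
        exact Submodule.subset_span (Or.inr ⟨i, j, x, y, hi, hj, x.2, y.2, rfl⟩)
  have hWπ : ∀ n, ∀ x ∈ W, π n x ∈ W := by
    intro n x hx
    induction hx using Submodule.span_induction with
    | zero => rw [map_zero]; exact zero_mem _
    | add u v _ _ hu hv => rw [map_add]; exact add_mem hu hv
    | smul c u _ hu => exact (πc c n u).symm ▸ W.smul_mem c hu
    | mem u hu =>
      have hm : ∃ i, u ∈ 𝒜 i := by
        rcases hu with rfl | ⟨i, j, b, c, -, -, hb, hc, rfl⟩
        · exact ⟨0, SetLike.one_mem_graded _⟩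
        · exact ⟨i + j, SetLike.mul_mem_graded hb hc⟩
      obtain ⟨i, hi⟩ := hm
      by_cases h : i = n
      · subst h; rw [πsame hi]; exact Submodule.subset_span hu
      · rw [πne hi h]; exact zero_mem _
  let P := A ⧸ W
  let mk : A →ₗ[𝒜 0] P := W.mkQ
  have mkW : ∀ {a}, a ∈ W → mk a = 0 := fun h => (Submodule.Quotient.mk_eq_zero W).2 h
  have hleib : ∀ a b, mk (a * b) = ρ a • mk b + ρ b • mk a := by
    intro a b
    rw [← map_smul, ← map_smul, ← map_add]
    refine (Submodule.Quotient.eq W).2 ?_
    have e : a * b - (ρ a • b + ρ b • a) = (a - ρ a) * (b - ρ b) - ((ρ a * ρ b : 𝒜 0) : A) := by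
      change a * b - ((ρ a : A) * b + (ρ b : A) * a) = (a - ρ a) * (b - ρ b) - (ρ a : A) * (ρ b : A)
      ring
    rw [e]
    exact sub_mem (hWK a b) (hWc _)
  have hker : ∀ x ∈ G, x = 1 ∨ ∃ b c, ρ b = 0 ∧ ρ c = 0 ∧ x = b * c := by
    rintro x (rfl | ⟨i, j, b, c, hi, hj, hb, hc, rfl⟩)
    · exact Or.inl rfl
    · exact Or.inr ⟨b, c, ρne hb hi, ρne hc hj, rfl⟩
  obtain ⟨hfin, hproj⟩ := finite_projective_quotient R (𝒜 0) A ρ ρc' G hker hWc hWK
  haveI := hproj
  -- a homogeneous section
  obtain ⟨r, hr⟩ := Module.projective_lifting_property mk LinearMap.id W.mkQ_surjective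
  let comp : (n : N) → 𝒜 n →ₗ[R] A := fun n =>
    if n = 0 then 0 else (π n).comp ((r.restrictScalars R).comp ((mk.restrictScalars R).comp (𝒜 n).subtype))
  let F₀ : A →ₗ[R] A := (DirectSum.toModule R N A comp).comp (decomposeAlgEquiv 𝒜).toLinearMap
  have F₀h : ∀ {n} {a : A}, a ∈ 𝒜 n → n ≠ 0 → F₀ a = π n (r (mk a)) := by
    intro n a ha hn
    change DirectSum.toModule R N A comp (decompose 𝒜 a) = _
    rw [decompose_of_mem 𝒜 ha, ← DirectSum.lof_eq_of R, DirectSum.toModule_lof]
    simp only [comp, if_neg hn]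
    rfl
  have F₀z : ∀ {a : A}, a ∈ 𝒜 0 → F₀ a = 0 := by
    intro a ha
    change DirectSum.toModule R N A comp (decompose 𝒜 a) = _
    rw [decompose_of_mem 𝒜 ha, ← DirectSum.lof_eq_of R, DirectSum.toModule_lof]
    simp only [comp, if_pos rfl]
    rfl
  let F : A →ₗ[𝒜 0] A :=
    { toFun := F₀
      map_add' := F₀.map_add
      map_smul' := fun c a => by
        change F₀ ((c : A) * a) = (c : A) * F₀ a
        induction a using DirectSum.Decomposition.inductionOn 𝒜 with
        | zero => simp
        | add x y hx hy => rw [mul_add, map_add, hx, hy, map_add, mul_add]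
        | @homogeneous n x =>
          have hcx : (c : A) * x ∈ 𝒜 n := by simpa using SetLike.mul_mem_graded c.2 x.2
          by_cases hn : n = 0
          · subst hn; rw [F₀z hcx, F₀z x.2, mul_zero]
          · rw [F₀h hcx hn, F₀h x.2 hn, show (c : A) * (x : A) = c • (x : A) from rfl, map_smul, map_smul]
            exact πc c n _ }
  have hF : W ≤ LinearMap.ker F := by
    refine Submodule.span_le.2 ?_
    rintro x (rfl | ⟨i, j, b, c, hi, hj, hb, hc, rfl⟩)
    · exact F₀z (SetLike.one_mem_graded _)
    · change F₀ (b * c) = 0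
      rw [F₀h (SetLike.mul_mem_graded hb hc) (fun h => hi (hsharp i (IsAddUnit.of_add_eq_zero j h))),
        mkW (Submodule.subset_span (show b * c ∈ G from Or.inr ⟨i, j, b, c, hi, hj, hb, hc, rfl⟩)), map_zero, map_zero]
  let s : P →ₗ[𝒜 0] A := W.liftQ F hF
  have hs : ∀ x, mk (s x) = x := by
    intro x
    obtain ⟨a, rfl⟩ := W.mkQ_surjective x
    change mk (F₀ a) = mk a
    induction a using DirectSum.Decomposition.inductionOn 𝒜 with
    | zero => simp
    | add x y hx hy => rw [map_add, map_add, hx, hy, map_add]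
    | @homogeneous n a =>
      by_cases hn : n = 0
      · subst hn; rw [F₀z a.2, map_zero, mkW (hWc a)]
      · rw [F₀h a.2 hn]
        have h1 : r (mk (a : A)) - a ∈ W := (Submodule.Quotient.eq W).1 (LinearMap.congr_fun hr (mk (a : A)))
        have h2 := hWπ n _ h1
        rw [map_sub, πsame a.2] at h2
        exact (Submodule.Quotient.eq W).2 h2
  have hρs : ∀ x, ρ (s x) = 0 := by
    intro x
    obtain ⟨a, rfl⟩ := W.mkQ_surjective x
    change ρ (F₀ a) = 0
    induction a using DirectSum.Decomposition.inductionOn 𝒜 with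
    | zero => simp
    | add x y hx hy => rw [map_add, map_add, hx, hy, add_zero]
    | @homogeneous n a =>
      by_cases hn : n = 0
      · subst hn; rw [F₀z a.2, map_zero]
      · rw [F₀h a.2 hn]; exact ρne (πmem _ _) hn
  let Φ : SymmetricAlgebra (𝒜 0) P →ₐ[𝒜 0] A := SymmetricAlgebra.lift s
  -- surjectivity
  have hsurj : Function.Surjective Φ := by
    suffices h : ∀ n, ∀ a ∈ 𝒜 n, a ∈ Φ.range by
      intro a
      refine Φ.mem_range.1 ?_
      induction a using DirectSum.Decomposition.inductionOn 𝒜 with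
      | zero => exact zero_mem _
      | add x y hx hy => exact add_mem hx hy
      | @homogeneous n x => exact h n x x.2
    intro n
    induction n using (wellFounded_lt N hsharp).induction with
    | _ n ih =>
      intro a ha
      by_cases hn : n = 0
      · subst hn
        exact Φ.range.algebraMap_mem ⟨a, ha⟩
      have hsa : s (mk a) = π n (r (mk a)) := F₀h ha hn
      have h1 : a - s (mk a) ∈ W := (Submodule.Quotient.eq W).1 (hs (mk a)).symm
      have h2 : ∀ x ∈ W, π n x ∈ Φ.range := by
        intro x hx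
        induction hx using Submodule.span_induction with
        | zero => rw [map_zero]; exact zero_mem _
        | add u v _ _ hu hv => rw [map_add]; exact add_mem hu hv
        | smul c u _ hu => rw [show c • u = (c : A) * u from rfl, πc]; exact mul_mem (Φ.range.algebraMap_mem c) hu
        | mem u hu =>
          rcases hu with rfl | ⟨i, j, b, c, hi, hj, hb, hc, rfl⟩
          · rw [πne (SetLike.one_mem_graded _) (Ne.symm hn)]; exact zero_mem _
          · by_cases h : i + j = n
            · rw [πsame (h ▸ SetLike.mul_mem_graded hb hc)]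
              exact mul_mem (ih i ⟨j, hj, h⟩ b hb) (ih j ⟨i, hi, add_comm j i ▸ h⟩ c hc)
            · rw [πne (SetLike.mul_mem_graded hb hc) h]; exact zero_mem _
      have h3 := h2 _ h1
      rw [map_sub, πsame ha, hsa, πsame (πmem _ _), ← hsa] at h3
      have := add_mem h3 (Φ.mem_range.2 ⟨SymmetricAlgebra.ι (𝒜 0) P (mk a), SymmetricAlgebra.lift_ι_apply s _⟩)
      rwa [sub_add_cancel] at this
  exact ⟨P, inferInstance, inferInstance, hfin, hproj,
    ⟨(AlgEquiv.ofBijective Φ ⟨injective_lift R (𝒜 0) A ρ ρc' W hWc hWK s hs hρs, hsurj⟩).symm⟩⟩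

end Groth.Agent.S18239
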