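import Groth.Statements.S18241
import Groth.Agent.L09.MagnetSmooth.RepFace

set_option autoImplicit false
universe u
open CategoryTheory MonoidalCategory CartesianMonoidalCategory AlgebraicGeometry Opposite
open Magnet

namespace Groth.Agent.S18241

/-- Let S be a scheme, M a finitely generated abelian group, N a submonoid of M and F a face of N, and X
an S-scheme smooth over S with an action of the diagonalizable group scheme D(M)_S. If the
attractors X^N and X^F are represented by S-schemes Z_N and Z_F, and j : Z_N → Z_F is the S-morphism
that corresponds to the canonical map X^N → X^F under the two representing bijections, then j is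
smooth. (Stated for schemes; the published statement is for algebraic spaces over S.) -/
theorem result (S : Scheme.{u}) (M : Type) [AddCommGroup M] [AddGroup.FG M]
    {N F : AddSubmonoid M} (hF : Magnet.IsFace N F) {X : Over S} [Smooth X.hom]
    (a : Magnet.MonAct (Magnet.AMonS S M) X) {ZN ZF : Over S} (eN : (Magnet.attr a N).RepresentableBy ZN)
    (eF : (Magnet.attr a F).RepresentableBy ZF) (j : ZN ⟶ ZF)
    (hj : ∀ (T : Over S) (z : T ⟶ ZN), eF.homEquiv (z ≫ j) = (Magnet.attrFace a hF).app (op T) (eN.homEquiv z)) :
    Smooth j.left := by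
  refine Groth.L09.MagnetSmooth.smooth_of_lifts eN eF (Magnet.attrFace a hF) j hj ?_ ?_
  · intro A _ I hI str x y h
    obtain ⟨l, h₁, h₂⟩ := Groth.L09.MagnetSmooth.exists_attr_lift_face N I hI str a hF x y
      (congrArg Subtype.val h)
    exact ⟨l, h₁, Subtype.ext h₂⟩
  · intro I _ _ D c hc hD hpt φ i ζ h
    obtain ⟨k, t, φk, h₁, h₂⟩ := Groth.L09.MagnetSmooth.exists_stage_face a hF D c hc hD hpt φ i ζ
      (congrArg Subtype.val h)
    exact ⟨k, t, φk, Subtype.ext h₁, Subtype.ext h₂⟩

end Groth.Agent.S18241
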