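import Groth.Statements.S18243
import Groth.Agent.L09.MagnetSmooth.FacePushout

set_option autoImplicit false
universe u
open CategoryTheory MonoidalCategory CartesianMonoidalCategory AlgebraicGeometry Opposite
open Magnet

namespace Groth.Agent.S18243

/-- Let T be an affine scheme and T̄ → T a first-order thickening, M a finitely generated abelian group,
N a submonoid of M and F a face of N. Consider the span A(F)_T ← A(F)_T ×_T T̄ → A(N)_T ×_T T̄
formed by the first projection and by the face closed immersion A(F) → A(N) times T̄, everything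
with its action of the diagonalizable group scheme D(M)_T (acting trivially on T̄). Then there are a
T-scheme P, affine, with morphisms ν₁ : A(F)_T → P and ν₂ : A(N)_T ×_T T̄ → P forming a push-out
square in T-schemes, and an action of D(M)_T on P for which ν₁ and ν₂ are equivariant, such that P
is also a push-out for equivariant morphisms: for every T-scheme X with an action of D(M)_T and
equivariant f₁ : A(F)_T → X, f₂ : A(N)_T ×_T T̄ → X agreeing on A(F)_T ×_T T̄, the induced morphism
P → X is equivariant. (Stated for schemes over T; the published statement is in algebraic spaces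
over T.) -/
theorem result (T : Scheme.{u}) [IsAffine T] (M : Type) [AddCommGroup M]
    [AddGroup.FG M] {N F : AddSubmonoid M} (hF : Magnet.IsFace N F) (Tb : Over T)
    (hTb : MoreMor.IsFirstOrderThickening Tb.hom) :
    ∃ (P : Over T) (ν₁ : Magnet.AMonS T F ⟶ P) (ν₂ : Magnet.AMonS T N ⊗ Tb ⟶ P)
      (hP : IsPushout (CartesianMonoidalCategory.fst (Magnet.AMonS T F) Tb) (Magnet.AMonS.faceMap T hF ▷ Tb) ν₁ ν₂)
      (aP : Magnet.MonAct (Magnet.AMonS T M) P),
      IsAffine P.left ∧ Magnet.MonAct.IsEquivariant (Magnet.subAct T M F) aP ν₁ ∧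
      Magnet.MonAct.IsEquivariant ((Magnet.subAct T M N).prod (Magnet.MonAct.trivial (Magnet.AMonS T M) Tb)) aP ν₂ ∧
      ∀ (X : Over T) (aX : Magnet.MonAct (Magnet.AMonS T M) X) (f₁ : Magnet.AMonS T F ⟶ X)
        (f₂ : Magnet.AMonS T N ⊗ Tb ⟶ X)
        (w : CartesianMonoidalCategory.fst (Magnet.AMonS T F) Tb ≫ f₁ = (Magnet.AMonS.faceMap T hF ▷ Tb) ≫ f₂),
        Magnet.MonAct.IsEquivariant (Magnet.subAct T M F) aX f₁ →
        Magnet.MonAct.IsEquivariant ((Magnet.subAct T M N).prod (Magnet.MonAct.trivial (Magnet.AMonS T M) Tb)) aX f₂ →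
        Magnet.MonAct.IsEquivariant aP aX (hP.desc f₁ f₂ w) := by
  obtain ⟨P, ν₁, ν₂, hAff, ⟨hsq⟩⟩ := Groth.L09.MagnetSmooth.exists_facePushout hF Tb hTb
  have h₁ : Magnet.MonAct.IsEquivariant
      ((Magnet.subAct T M F).prod (Magnet.MonAct.trivial (Magnet.AMonS T M) Tb)) (Magnet.subAct T M F)
      (CartesianMonoidalCategory.fst (Magnet.AMonS T F) Tb) := by
    rw [Magnet.MonAct.isEquivariant_iff]
    intro T' g z
    rw [← lift_comp_fst_snd z]
    simp only [Magnet.MonAct.lift_prod_act_assoc, lift_fst]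
  obtain ⟨aP, e₁, e₂, hu⟩ := Groth.L09.MagnetSmooth.exists_act hsq _ _ _ h₁
    (Groth.L09.MagnetSmooth.whiskerRight_equivariant (Magnet.AMonS.faceMap T hF)
      (Magnet.isEquivariant_faceMapS T hF))
  refine ⟨P, ν₁, ν₂, hsq.isPushout, aP, hAff, e₁, e₂, fun X aX f₁ f₂ w hf₁ hf₂ => hu X aX _ ?_ ?_⟩
  · rw [hsq.isPushout.inl_desc]; exact hf₁
  · rw [hsq.isPushout.inr_desc]; exact hf₂

end Groth.Agent.S18243
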