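import Groth.Statements.S18248
import Groth.Agent.L21.UCurve.UIso
import Mathlib.RingTheory.Ideal.Cotangent
import Mathlib.Algebra.TrivSqZeroExt.Basic
import Mathlib.LinearAlgebra.Dimension.Constructions
import Mathlib.Algebra.BigOperators.Intervals
import Mathlib.Tactic.Abel
import Mathlib.Tactic.Convert

set_option autoImplicit false
universe u
open W4c5m1nsnscurves
open Curves

namespace Groth.Agent.S18248

variable {m : ℕ}

open Groth.Agent.L21.UCurve

/-- Index set of the weight-one generators. -/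
abbrev G (m : ℕ) : Type := Unit ⊕ (Fin m ⊕ (Fin m ⊕ {q : Fin m × Fin m // q.1 < q.2}))

/-- The generator of an index. -/
def gen : G m → UGen m
  | .inl _ => .a
  | .inr (.inl i) => .ci i
  | .inr (.inr (.inl i)) => .cbi i
  | .inr (.inr (.inr q)) => .cij q.1.1 q.1.2 (ne_of_lt q.2)

lemma card_G (m : ℕ) : Fintype.card (G m) = (m + 2) * (m + 1) / 2 := by
  let e : {q : Fin m × Fin m // q.1 < q.2} ≃ Σ j : Fin m, Fin j.1 :=
    { toFun := fun q => ⟨q.1.2, ⟨q.1.1.1, q.2⟩⟩
      invFun := fun p => ⟨(⟨p.2.1, p.2.2.trans p.1.2⟩, p.1), p.2.2⟩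
      left_inv := fun q => rfl
      right_inv := fun p => rfl }
  simp only [Fintype.card_sum, Fintype.card_unit, Fintype.card_fin, Fintype.card_congr e,
    Fintype.card_sigma]
  rw [Fin.sum_univ_eq_sum_range (fun j => j) m]
  have h := Finset.sum_range_id_mul_two m
  have h2 : (m + 2) * (m + 1) = (∑ i ∈ Finset.range m, i) * 2 + 4 * m + 2 := by
    rw [h]
    rcases m with _ | m
    · rfl
    · simp only [Nat.add_sub_cancel]; ring
  rw [h2]
  omega

section Lin

variable (k : Type u) [Field k]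

open scoped Classical

/-- Linear part of a generator. -/
noncomputable def lin : UGen m → (G m → k)
  | .a => Pi.single (.inl ()) 1
  | .c => 0
  | .cb => 0
  | .ci i => Pi.single (.inr (.inl i)) 1
  | .cbi i => Pi.single (.inr (.inr (.inl i))) 1
  | .cij i j _ =>
    if h' : i < j then Pi.single (.inr (.inr (.inr ⟨(i, j), h'⟩))) 1
    else if h'' : j < i then
      Pi.single (.inl ()) 1 + Pi.single (.inr (.inl i)) 1 + Pi.single (.inr (.inr (.inl i))) 1
        + Pi.single (.inr (.inl j)) 1 + Pi.single (.inr (.inr (.inl j))) 1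
        - Pi.single (.inr (.inr (.inr ⟨(j, i), h''⟩))) 1
    else 0

lemma lin_gen (g : G m) : lin k (gen g) = Pi.single g 1 := by
  rcases g with _ | i | i | ⟨q, hq⟩ <;> simp [gen, lin]
  simp [hq]

lemma solves_lin :
    Solves (fun g : UGen m => (TrivSqZeroExt.inr (lin k g) : TrivSqZeroExt k (G m → k))) := by
  refine ⟨fun i j h => ?_, fun i j h => ?_, fun i j h => ?_, fun i j l a b c => ?_⟩
  · simp only [← TrivSqZeroExt.inr_add]
    congr 1
    rcases lt_or_gt_of_ne h with h' | h'
    · simp only [lin, dif_pos h', dif_neg (not_lt_of_gt h')]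
      abel
    · simp only [lin, dif_pos h', dif_neg (not_lt_of_gt h')]
      abel
  · simp [lin, TrivSqZeroExt.inr_mul_inr]
  · simp [lin, TrivSqZeroExt.inr_mul_inr]
  · simp only [← TrivSqZeroExt.inr_add, TrivSqZeroExt.inr_mul_inr]
    simp [lin]

/-- The weight-one elements. -/
noncomputable def yv : (G m → k) →ₗ[k] URing k m :=
  ∑ g : G m, (LinearMap.proj g).smulRight (ugen k m (gen g))

lemma yv_apply (v : G m → k) : yv k v = ∑ g : G m, v g • ugen k m (gen g) := by
  simp [yv]

lemma ugen_mem_origin (g : UGen m) : ugen k m g ∈ uorigin k m := Ideal.subset_span ⟨g, rfl⟩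

lemma yv_mem (v : G m → k) : yv k v ∈ uorigin k m := by
  rw [yv_apply]
  exact Ideal.sum_mem _ fun g _ => Submodule.smul_of_tower_mem _ _ (ugen_mem_origin k _)

lemma yv_inj (v : G m → k) (h : yv k v ∈ uorigin k m ^ 2) : v = 0 := by
  let φ := ulift (R := k) (solves_lin (m := m) k)
  have h2 : uorigin k m ^ 2 ≤ RingHom.ker φ := by
    rw [pow_two, uorigin, Ideal.span_mul_span', Ideal.span_le]
    rintro _ ⟨_, ⟨a, rfl⟩, _, ⟨b, rfl⟩, rfl⟩
    show φ (ugen k m a * ugen k m b) = 0
    rw [map_mul, ulift_ugen, ulift_ugen, TrivSqZeroExt.inr_mul_inr]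
  have h3 : φ (yv k v) = TrivSqZeroExt.inr v := by
    rw [yv_apply, map_sum]
    simp only [map_smul, φ, ulift_ugen, lin_gen, ← TrivSqZeroExt.inr_smul, ← TrivSqZeroExt.inr_sum]
    congr 1
    ext g
    simp [Finset.sum_apply, Pi.single_apply]
  have h4 : φ (yv k v) = 0 := h2 h
  rw [h3] at h4
  exact TrivSqZeroExt.inr_injective (h4.trans (TrivSqZeroExt.inr_zero k).symm)

lemma decomp (r : URing k m) : ∃ c : k, r - algebraMap k (URing k m) c ∈ uorigin k m := by
  obtain ⟨p, rfl⟩ := Ideal.Quotient.mk_surjective r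
  induction p using MvPolynomial.induction_on with
  | C c => exact ⟨c, by
      rw [show Ideal.Quotient.mk _ (MvPolynomial.C c) = algebraMap k (URing k m) c from rfl, sub_self]
      exact zero_mem _⟩
  | add p q hp hq =>
    obtain ⟨c, hc⟩ := hp
    obtain ⟨d, hd⟩ := hq
    exact ⟨c + d, by rw [map_add, map_add, add_sub_add_comm]; exact add_mem hc hd⟩
  | mul_X p g _ =>
    exact ⟨0, by rw [map_zero, sub_zero, map_mul]; exact Ideal.mul_mem_left _ _ (ugen_mem_origin k g)⟩

lemma yv_surj (hm : 2 ≤ m) {x : URing k m} (hx : x ∈ uorigin k m) :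
    ∃ v, x - yv k v ∈ uorigin k m ^ 2 := by
  have hS := ugen_solves (R := k) (m := m)
  have hs : ∀ g : G m, yv k (Pi.single g 1) = ugen k m (gen g) := fun g => by
    rw [yv_apply, Finset.sum_eq_single g (fun b _ hb => by simp [hb]) (fun h => absurd (Finset.mem_univ g) h)]
    simp
  have hsq : ∀ a b : UGen m, ugen k m a * ugen k m b ∈ uorigin k m ^ 2 := fun a b => by
    rw [pow_two]; exact Ideal.mul_mem_mul (ugen_mem_origin k a) (ugen_mem_origin k b)
  have h01 : (⟨0, by omega⟩ : Fin m) ≠ ⟨1, by omega⟩ := by simp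
  induction hx using Submodule.span_induction with
  | mem x hx =>
    obtain ⟨g, rfl⟩ := hx
    have hg : ∀ a : G m, gen a = g → ∃ v, ugen k m g - yv k v ∈ uorigin k m ^ 2 := fun a e =>
      ⟨Pi.single a 1, by rw [hs, e, sub_self]; exact zero_mem _⟩
    cases g with
    | a => exact hg (.inl ()) rfl
    | ci i => exact hg (.inr (.inl i)) rfl
    | cbi i => exact hg (.inr (.inr (.inl i))) rfl
    | c =>
      refine ⟨0, ?_⟩
      rw [map_zero, sub_zero, hS.qc _ _ h01]
      exact sub_mem (add_mem (hsq _ _) (hsq _ _)) (hsq _ _)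
    | cb =>
      refine ⟨0, ?_⟩
      rw [map_zero, sub_zero, hS.qb _ _ h01]
      exact sub_mem (add_mem (hsq _ _) (hsq _ _)) (hsq _ _)
    | cij i j h =>
      rcases lt_or_gt_of_ne h with h' | h'
      · exact hg (.inr (.inr (.inr ⟨(i, j), h'⟩))) rfl
      · refine ⟨Pi.single (.inl ()) 1 + Pi.single (.inr (.inl i)) 1 + Pi.single (.inr (.inr (.inl i))) 1
          + Pi.single (.inr (.inl j)) 1 + Pi.single (.inr (.inr (.inl j))) 1
          - Pi.single (.inr (.inr (.inr ⟨(j, i), h'⟩))) 1, ?_⟩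
        simp only [map_add, map_sub, hs, gen]
        convert zero_mem (uorigin k m ^ 2) using 1
        linear_combination hS.lin i j h
  | zero => exact ⟨0, by rw [map_zero, sub_zero]; exact zero_mem _⟩
  | add x y _ _ hx hy =>
    obtain ⟨v, hv⟩ := hx
    obtain ⟨w, hw⟩ := hy
    exact ⟨v + w, by rw [map_add, add_sub_add_comm]; exact add_mem hv hw⟩
  | smul r x hx' hx =>
    obtain ⟨v, hv⟩ := hx
    obtain ⟨c, hc⟩ := decomp k r
    refine ⟨c • v, ?_⟩
    have e : r • x - yv k (c • v) = (r - algebraMap k _ c) * x + algebraMap k _ c * (x - yv k v) := by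
      have sd : ∀ (t : k) (u : URing k m), t • u = algebraMap k _ t * u := fun t u => Algebra.smul_def t u
      rw [map_smul, sd, smul_eq_mul]; ring
    rw [e]
    refine add_mem ?_ (Ideal.mul_mem_left _ _ hv)
    rw [pow_two]
    exact Ideal.mul_mem_mul hc hx'

lemma finrank_cot (hm : 2 ≤ m) :
    Module.finrank k (uorigin k m).Cotangent = (m + 2) * (m + 1) / 2 := by
  let Ψ : (G m → k) →ₗ[k] (uorigin k m).Cotangent :=
    { toFun := fun v => (uorigin k m).toCotangent ⟨yv k v, yv_mem k v⟩
      map_add' := fun v w => by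
        rw [← map_add]
        exact congrArg _ (Subtype.ext ((yv k).map_add v w))
      map_smul' := fun c v => by
        rw [RingHom.id_apply, ← algebraMap_smul (URing k m) c ((uorigin k m).toCotangent _), ← map_smul]
        refine congrArg _ (Subtype.ext ?_)
        show yv k (c • v) = algebraMap k (URing k m) c • yv k v
        rw [map_smul, algebraMap_smul] }
  have hinj : Function.Injective Ψ := by
    rw [injective_iff_map_eq_zero]
    intro v hv
    exact yv_inj k v ((Ideal.toCotangent_eq_zero _ _).1 hv)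
  have hsurj : Function.Surjective Ψ := by
    intro c
    obtain ⟨⟨x, hx⟩, rfl⟩ := (uorigin k m).toCotangent_surjective c
    obtain ⟨v, hv⟩ := yv_surj k hm hx
    refine ⟨v, (Ideal.toCotangent_eq (I := uorigin k m)).2 ?_⟩
    have := neg_mem hv
    simpa using this
  rw [← LinearEquiv.finrank_eq (LinearEquiv.ofBijective Ψ ⟨hinj, hsurj⟩), Module.finrank_pi, card_G]

end Lin

open W4c5m1nsnscurves in
open Curves in


/-- Let m ≥ 2, so that n = m + 3 ≥ 5 points are marked. For every field k, the Zariski cotangent space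
of U_n over k at the origin, that is I/I² for the ideal I of the coordinate ring of U_n over k
generated by the classes of all the generators a, c, c̄, c_i, c̄_i, c_{ij}, has dimension (n − 1)(n
− 2)/2 = (m + 2)(m + 1)/2 over k; and the weight-one classes a, c_i, c̄_i (all indices i) and c_{ij}
(i < j) generate the coordinate ring of U_n over ℤ as a ℤ-algebra (so they form a minimal generating
set). -/
theorem result (m : ℕ) (hm : 2 ≤ m) :
    (∀ (k : Type u) [Field k], Module.finrank k (uorigin k m).Cotangent = (m + 2) * (m + 1) / 2) ∧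
    Algebra.adjoin ℤ ({ugen ℤ m .a} ∪ Set.range (fun i : Fin m => ugen ℤ m (.ci i)) ∪
        Set.range (fun i : Fin m => ugen ℤ m (.cbi i)) ∪
        Set.range (fun q : {q : Fin m × Fin m // q.1 < q.2} => ugen ℤ m (.cij q.1.1 q.1.2 (ne_of_lt q.2)))) = ⊤ := by
  refine ⟨fun k _ => finrank_cot k hm, ?_⟩
  have hS := Groth.Agent.L21.UCurve.ugen_solves (R := ℤ) (m := m)
  set S := Algebra.adjoin ℤ ({ugen ℤ m .a} ∪ Set.range (fun i : Fin m => ugen ℤ m (.ci i)) ∪
        Set.range (fun i : Fin m => ugen ℤ m (.cbi i)) ∪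
        Set.range (fun q : {q : Fin m × Fin m // q.1 < q.2} => ugen ℤ m (.cij q.1.1 q.1.2 (ne_of_lt q.2))))
  have ha : ugen ℤ m .a ∈ S := Algebra.subset_adjoin (Or.inl (Or.inl (Or.inl rfl)))
  have hci : ∀ i, ugen ℤ m (.ci i) ∈ S := fun i => Algebra.subset_adjoin (Or.inl (Or.inl (Or.inr ⟨i, rfl⟩)))
  have hcbi : ∀ i, ugen ℤ m (.cbi i) ∈ S := fun i => Algebra.subset_adjoin (Or.inl (Or.inr ⟨i, rfl⟩))
  have hcij : ∀ i j h, ugen ℤ m (.cij i j h) ∈ S := by
    intro i j h
    rcases lt_or_gt_of_ne h with h' | h'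
    · exact Algebra.subset_adjoin (Or.inr ⟨⟨(i, j), h'⟩, rfl⟩)
    · rw [eq_sub_of_add_eq (hS.lin i j h)]
      exact sub_mem (add_mem (add_mem (add_mem (add_mem ha (hci i)) (hcbi i)) (hci j)) (hcbi j))
        (Algebra.subset_adjoin (Or.inr ⟨⟨(j, i), h'⟩, rfl⟩))
  have h01 : (⟨0, by omega⟩ : Fin m) ≠ ⟨1, by omega⟩ := by simp
  rw [eq_top_iff]
  intro x _
  obtain ⟨p, rfl⟩ := Ideal.Quotient.mk_surjective x
  induction p using MvPolynomial.induction_on with
  | C c => exact S.algebraMap_mem c
  | add p q hp hq => rw [map_add]; exact add_mem (hp trivial) (hq trivial)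
  | mul_X p g hp =>
    rw [map_mul]
    refine mul_mem (hp trivial) ?_
    show ugen ℤ m g ∈ S
    cases g with
    | a => exact ha
    | c => rw [hS.qc _ _ h01]; exact sub_mem (add_mem (mul_mem (hcij _ _ _) (hci _)) (mul_mem (hcij _ _ _) (hci _))) (mul_mem (hci _) (hci _))
    | cb => rw [hS.qb _ _ h01]; exact sub_mem (add_mem (mul_mem (hcij _ _ _) (hcbi _)) (mul_mem (hcij _ _ _) (hcbi _))) (mul_mem (hcbi _) (hcbi _))
    | ci i => exact hci i
    | cbi i => exact hcbi i
    | cij i j h => exact hcij i j h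


end Groth.Agent.S18248
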