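import Groth.Statements.S18249
import Groth.Agent.L21.UCurve.Hilbert
import Mathlib.LinearAlgebra.Dimension.Finrank
import Mathlib.RingTheory.FiniteType
import Mathlib.LinearAlgebra.Dimension.StrongRankCondition

set_option autoImplicit false
universe u
open W4c5m1nsnscurves
open Curves

namespace Groth.Agent.S18249

/-- Let m ≥ 2, so that n = m + 3 ≥ 5 points are marked. Grade the coordinate ring of U_n over ℤ by
giving the generators a, c_i, c̄_i, c_{ij} weight 1 and c, c̄ weight 2 (the defining relations are
weighted-homogeneous). Then the coordinate ring of U_n is a free ℤ-module, it is the internal direct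
sum of its weight pieces (the weight-d piece being the image of the weighted-homogeneous polynomials
of weight d), and the weight-d piece has rank the coefficient of t^d in the power series (1 −
t)^{−(n+1)} ∏_{k=3}^{n−3} (1 + k t + t²). -/
theorem result (m : ℕ) (hm : 2 ≤ m) :
    Module.Free ℤ (URing ℤ m) ∧ DirectSum.IsInternal (upiece ℤ m) ∧
      ∀ d : ℕ, (Module.finrank ℤ (upiece ℤ m d) : ℤ) = PowerSeries.coeff d (uhilb m) := by
  classical
  obtain ⟨H⟩ := Groth.Agent.L21.UCurve.exists_hbasis m hm
  obtain ⟨hint, hspan⟩ := Groth.Agent.L21.UCurve.pieces_of_basis H.b H.wt H.hb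
  refine ⟨Module.Free.of_basis H.b, hint, fun d => ?_⟩
  rw [← H.card_fib d, hspan d]
  have hs : H.b '' {i | H.wt i = d} = Set.range (fun i : (H.fib d) => H.b i.1) := by
    ext x
    simp [H.mem_fib]
  rw [hs, finrank_span_eq_card (R := ℤ) (b := fun i : (H.fib d) => H.b i.1)
    (H.b.linearIndependent.comp _ Subtype.val_injective), Fintype.card_coe]


end Groth.Agent.S18249
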