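import Groth.Statements.S18250
import Groth.Agent.L21.GenusOne.SmoothPointSection

set_option autoImplicit false
set_option backward.isDefEq.respectTransparency false
set_option linter.style.haveILetI false
universe u
open AlgebraicGeometry CategoryTheory CategoryTheory.Limits
open Curves

namespace Groth.Agent.S18250

/-- Let k be an algebraically closed field and C a reduced, connected scheme, proper over k and of
dimension one (a reduced connected projective curve), of arithmetic genus 1, i.e. dim_k H^1(C, O_C)
= 1. Let (ω, tr) be a 1-dualizing pair for C over k (ω a dualizing sheaf with its trace on H^1), let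
p be a closed point of C whose local ring is regular (a smooth point), and let L be an invertible
O_C-module inverse to the ideal sheaf of the reduced point p (L = O_C(p)). Then dim_k H^0(C, L) = 1
if and only if H^1(C, L) = 0; and H^1(C, L) = 0 if and only if every nonzero global section s of ω
generates ω near p, i.e. p lies in the open C_s (equivalently, since H^0(C, ω) and the fibre of ω at
p are one-dimensional, the restriction map from H^0(C, ω) to the fibre of ω at p is an isomorphism). -/
theorem result
    (k : Type u) [Field k] [IsAlgClosed k] (C : Scheme.{u}) [C.Over (Spec (CommRingCat.of k))]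
    [IsProper (C ↘ Spec (CommRingCat.of k))] [AlgebraicGeometry.IsReduced C] [ConnectedSpace C]
    (hdim : topologicalKrullDim C = 1) (hg : Curv2.genus k C = 1)
    (ω : C.Modules) (tr : Coh.HH C ω 1 →ₗ[k] k) (hω : Canon.IsRDualOver k C 1 ω tr)
    (p : C) (hp : IsClosed ({p} : Set C)) (hreg : IsRegularLocalRing (C.presheaf.stalk p))
    (L : C.Modules)
    (hL : ClSub.IsInverseOf L (ClSub.idealMod (Scheme.IdealSheafData.vanishingIdeal ⟨{p}, hp⟩))) :
    (Module.finrank k (Coh.HH C L 0) = 1 ↔ Subsingleton (Coh.HH C L 1)) ∧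
      (Subsingleton (Coh.HH C L 1) ↔
        ∀ s : Coh.structureModule C ⟶ ω, s ≠ 0 → p ∈ CohB1.genLocus ω s) := by
  classical
  haveI := Groth.L21.RR.isNoetherian_of_proper (X := C) k
  obtain ⟨-, S⟩ := Groth.L21.CurveAdj.setup_of_reduced hdim hω
  have hI : PicF.IsInvertible (Groth.L21.PointIdeal.mI hp) := by
    haveI := hreg
    haveI : IsDomain (C.presheaf.stalk p) := Groth.L01.isDomain_of_regular _
    have hpr := Groth.L21.SmoothDescent.isPrincipal_of_dim_le_one (B := C.presheaf.stalk p)
      ((Groth.L21.SmoothDescent.ringKrullDim_stalk_le p).trans hdim.le)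
    obtain ⟨ϖ, hϖ⟩ := hpr.principal
    have hϖ0 : ϖ ≠ 0 := fun h0 => S.hnf p hp (IsLocalRing.isField_iff_maximalIdeal_eq.2 (by
      rw [hϖ, h0]; exact Submodule.span_singleton_eq_bot.2 rfl))
    refine (Groth.L21.PointIdeal.isInvertible_iff hp).2 ⟨LinearEquiv.symm ?_⟩
    refine (LinearEquiv.toSpanNonzeroSingleton (C.presheaf.stalk p) (C.presheaf.stalk p) ϖ hϖ0).trans
      (LinearEquiv.ofEq _ _ hϖ.symm)
  obtain ⟨e⟩ := hL
  have hLinv : PicF.IsInvertible L :=
    Groth.L22.EnrSev.isInvertible_of_inverse hI (Groth.L00.Tensor.tensorComm _ _ ≪≫ e)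
  have h0 : Groth.L21.RR.h k 0 (Coh.structureModule C) = 1 := Groth.L21.CurveAdj.h0_eq_one_of_connected
  have hg1 : Groth.L21.RR.h k 1 (Coh.structureModule C) = 1 := hg
  have heul : Curv2.euler k C L = 1 := by
    rw [Groth.L21.GenusOnePt.euler_inverse hp hdim.le hLinv e, Groth.L21.RR.euler_eq k hdim.le, h0, hg1]
    norm_num
  rw [Groth.L21.RR.euler_eq k hdim.le] at heul
  have hqc := (Groth.L16.ProperFinite.isCoh_of_isInvertible hLinv)
  haveI := Groth.L21.RR.finite_HH' k hqc 1
  refine ⟨⟨fun h => ?_, fun h => ?_⟩, ⟨fun h s hs => ?_, fun h => ?_⟩⟩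
  · have h1 : Groth.L21.RR.h k 1 L = 0 := by
      have : Groth.L21.RR.h k 0 L = 1 := h
      omega
    exact Module.finrank_zero_iff.1 h1
  · have h1 : Groth.L21.RR.h k 1 L = 0 := Module.finrank_zero_of_subsingleton
    have : Groth.L21.RR.h k 0 L = 1 := by omega
    exact this
  · by_contra hps
    obtain ⟨φ, hφ⟩ := Groth.L21.GenusOnePt.exists_hom_of_not_mem hp S hreg hLinv e s hs hps
    exact hφ ((Groth.L21.CurveDual.subsingleton_h1_iff hω hqc.1).1 h φ)
  · refine (Groth.L21.CurveDual.subsingleton_h1_iff hω hqc.1).2 fun φ => ?_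
    by_contra hφ
    obtain ⟨s, hs, hps⟩ := Groth.L21.GenusOnePt.exists_not_mem_of_hom hp S hreg hLinv e φ hφ
    exact hps (h s hs)

end Groth.Agent.S18250
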