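import Groth.Statements.S18252
import Groth.Agent.L21.UCurve.UIso

set_option autoImplicit false
universe u
open W4c5m1nsnscurves
open Curves

namespace Groth.Agent.S18252

/-- Let R be a commutative ring and m ≥ 1, so that n = m + 3 ≥ 4. Consider the projection U_{n+1} → U_n
forgetting the coordinates c_{n+1}, c̄_{n+1}, c_{i,n+1}, c_{n+1,i}, i.e. the ring map O(U_n) →
O(U_{n+1}) sending each generator to the generator with the same indices, and the affine curve C_n →
U_n, i.e. the curve algebra over O(U_n) whose constants a, c, c̄, c_i, c̄_i, c_{ij} are the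
generators of O(U_n) themselves. Then x_2 ↦ c_{n+1}, x_3 ↦ a + c_{n+1} + c̄_{n+1}, x_i ↦ c_{i,n+1}
defines an isomorphism O(C_n) ≅ O(U_{n+1}) over O(U_n): there is a ring isomorphism with these
values on the variables whose composite with the structure map O(U_n) → O(C_n) is the projection's
ring map. -/
theorem result (R : Type u) [CommRing R] (m : ℕ) (hm : 1 ≤ m) :
    ∃ e : CurveAlg (URing R m) m (ugen R m) ≃+* URing R (m + 1),
      (∀ r : URing R m, e (algebraMap (URing R m) (CurveAlg (URing R m) m (ugen R m)) r) = uincl R m r) ∧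
      e (Ideal.Quotient.mk (Ideal.span (CRel (URing R m) m (ugen R m))) (MvPolynomial.X CVar.x2)) =
        ugen R (m + 1) (UGen.ci (Fin.last m)) ∧
      e (Ideal.Quotient.mk (Ideal.span (CRel (URing R m) m (ugen R m))) (MvPolynomial.X CVar.x3)) =
        ugen R (m + 1) UGen.a + ugen R (m + 1) (UGen.ci (Fin.last m)) + ugen R (m + 1) (UGen.cbi (Fin.last m)) ∧
      ∀ i : Fin m, e (Ideal.Quotient.mk (Ideal.span (CRel (URing R m) m (ugen R m))) (MvPolynomial.X (CVar.xi i))) =
        ugen R (m + 1) (UGen.cij i.castSucc (Fin.last m) (Fin.castSucc_lt_last i).ne) := by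
  obtain ⟨e, h1, h2⟩ := Groth.Agent.L21.UCurve.exists_iso R m
  exact ⟨e, h1, h2 .x2, h2 .x3, fun i => h2 (.xi i)⟩


end Groth.Agent.S18252
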