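import Groth.Statements.S18253
import Groth.Agent.L07.BlowLib.LocalSpread

set_option autoImplicit false
set_option linter.style.haveILetI false
universe u
open BlowUp

namespace Groth.Agent.S18253

open AlgebraicGeometry CategoryTheory in
/-- Let Z be a locally Noetherian scheme and W, Y ⊆ Z closed subschemes with quasi-coherent ideals I_W
and I_Y such that the four closed immersions W → Z, Y → Z, W ∩ Y → Y and W ∩ Y → W are regular (each
ideal is generated, on some affine open around every point of the subscheme, by a regular sequence).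
Let b : Z' → Z be a blowing up of Z in I_W, let b' : Y' → Y be a blowing up of Y in the inverse
image ideal I_W·O_Y (the blowing up of Y along W ∩ Y), and let k : Y' → Z' be the morphism with k ≫
b = b' ≫ (Y → Z); its image is the strict transform of Y. Then k is a regular immersion: an
immersion whose ideal is generated, on some affine open of Z' around every point of Y', by a regular
sequence. (The published statement is for schemes of finite type over a field; this row assumes only
that Z is locally Noetherian.) -/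
theorem result
    {Z Z' Y' : Scheme.{u}} [IsLocallyNoetherian Z] (𝓘W 𝓘Y : Z.IdealSheafData)
    (hW : RegImm.IsRegularIdeal RegImm.Kind.regular 𝓘W)
    (hY : RegImm.IsRegularIdeal RegImm.Kind.regular 𝓘Y)
    (hXY : RegImm.IsRegularIdeal RegImm.Kind.regular (𝓘W.comap 𝓘Y.subschemeι))
    (hXW : RegImm.IsRegularIdeal RegImm.Kind.regular (𝓘Y.comap 𝓘W.subschemeι))
    (b : Z' ⟶ Z) (hb : BlowUp.IsBlowUp b 𝓘W)
    (b' : Y' ⟶ 𝓘Y.subscheme) (hb' : BlowUp.IsBlowUp b' (𝓘W.comap 𝓘Y.subschemeι))
    (k : Y' ⟶ Z') (hk : k ≫ b = b' ≫ 𝓘Y.subschemeι) :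
    RegImm.IsRegularImmersion RegImm.Kind.regular k := by
  classical
  haveI := Groth.L07.BlowLib.isClosedImmersion_strictTransform 𝓘W 𝓘Y.subschemeι hb hb' k hk
  refine ⟨inferInstance, fun y' => ?_⟩
  have hzY : b (k y') ∈ 𝓘Y.support := by
    rw [← SetLike.mem_coe, ← Scheme.IdealSheafData.range_subschemeι]
    exact ⟨b' y', (Groth.L07.BlowLib.apply_comm hk y').symm⟩
  have hsI : ∀ {R : Type u} [CommRing R] (l : List R), Ideal.ofList l = Ideal.span (Set.range l.get) :=
    fun l => Groth.L07.BlowLib.ofList_eq_span_get l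
  by_cases hzW : b (k y') ∈ 𝓘W.support
  · obtain ⟨U, hzU, a, c, b₀, hI, hrac, hJ, hrcb, hrb⟩ :=
      Groth.L07.BlowLib.exists_adapted_affine 𝓘W 𝓘Y hW hY hXY hXW _ hzW hzY
    let l : List (Fin (a ++ c).length) := List.ofFn fun i : Fin c.length =>
      Fin.cast List.length_append.symm (Fin.natAdd a.length i)
    have hl : l.map (a ++ c).get = c := by
      apply List.ext_getElem <;> simp [l]
    obtain ⟨W, hW', hcl, rs, -, hrs, hker⟩ := Groth.L07.BlowLib.regularAt_strictTransform 𝓘W 𝓘Y.subschemeι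
      hb hb' k hk U (a ++ c).get (hI.trans (hsI _))
      (Groth.L07.QReg.isQuasiRegular_of_isWeaklyRegular (by
        rw [List.ofFn_get]; exact Groth.L07.BlowLib.isWeaklyRegular_of_regMod hrac))
      l (List.nodup_ofFn.2 fun i j h => by simpa [Fin.ext_iff] using h) b₀
      (by rw [hl, Scheme.IdealSheafData.ker_subschemeι]; exact hJ) (by rw [hl]; exact hrcb)
      (by unfold Groth.L11.BlowSmooth.sI; rw [← hsI]; exact hrb) y' hzU
    exact ⟨W, hW', hcl, rs, hrs, hker⟩
  · obtain ⟨U, hzU, rs, hrs, hJ⟩ := hY _ hzY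
    obtain ⟨g, hgle, hzg⟩ := U.2.exists_basicOpen_le (V := U.1 ⊓ 𝓘W.support.compl) ⟨_, hzU, hzW⟩ hzU
    let D : Z.affineOpens := Z.affineBasicOpen (U := U) g
    have hD : D ≤ U := Z.affineBasicOpen_le (V := U) g
    letI : Algebra Γ(Z, U.1) Γ(Z, D.1) := (Z.presheaf.map (homOfLE (Z.basicOpen_le g)).op).hom.toAlgebra
    haveI : IsLocalization.Away g Γ(Z, D.1) := U.2.isLocalization_basicOpen g
    haveI : Module.Flat Γ(Z, U.1) Γ(Z, D.1) := IsLocalization.flat _ (Submonoid.powers g)
    have htop : 𝓘W.ideal D = ⊤ := by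
      by_contra h
      obtain ⟨m, hm, hle⟩ := Ideal.exists_le_maximal _ h
      have h1 : (⟨m, hm.isPrime⟩ : PrimeSpectrum Γ(Z, D.1)) ∈
          D.2.fromSpec ⁻¹' Z.zeroLocus (U := D.1) (𝓘W.ideal D : Set Γ(Z, D.1)) := by
        rw [D.2.fromSpec_preimage_zeroLocus]; exact hle
      have h2 : D.2.fromSpec ⟨m, hm.isPrime⟩ ∈ (D.1 : Set Z) := by
        rw [← D.2.range_fromSpec]; exact ⟨_, rfl⟩
      exact (hgle h2).2 ((Set.ext_iff.1 (𝓘W.coe_support_inter D) _).2 ⟨h1, h2⟩).1
    have hF : Groth.L11.BlowSmooth.sI (fun _ : Fin 1 => (1 : Γ(Z, D.1))) = ⊤ := by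
      rw [Ideal.eq_top_iff_one]; exact Ideal.subset_span ⟨0, rfl⟩
    obtain ⟨W, hW', hcl, rs', -, hrs', hker⟩ := Groth.L07.BlowLib.regularAt_strictTransform 𝓘W 𝓘Y.subschemeι
      hb hb' k hk D (fun _ : Fin 1 => (1 : Γ(Z, D.1))) (htop.trans hF.symm)
      (fun n P _ _ d => by
        rw [show Ideal.span (Set.range fun _ : Fin 1 => (1 : Γ(Z, D.1))) = ⊤ from hF]; exact Submodule.mem_top)
      [] List.nodup_nil (rs.map (algebraMap Γ(Z, U.1) Γ(Z, D.1)))
      (by
        rw [Scheme.IdealSheafData.ker_subschemeι, ← 𝓘Y.map_ideal hD, hJ, Ideal.map_ofList]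
        rfl)
      (Groth.L07.BlowLib.regMod_bot_of_isWeaklyRegular hrs.toIsWeaklyRegular.of_flat)
      (by intro n hn z _; rw [hF, top_sup_eq]; exact Submodule.mem_top) y' hzg
    exact ⟨W, hW', hcl, rs', hrs', hker⟩

end Groth.Agent.S18253
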