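import Mathlib.RingTheory.LocalRing.Module
import Mathlib.LinearAlgebra.TensorProduct.RightExactness
import Groth.Statements.S18256
import Groth.Agent.L12.ArtBasic


set_option autoImplicit false
universe u
open ArtFun

namespace Groth.Agent.S18256

open CategoryTheory TensorProduct in
/-- Let R be an Artinian local ring with residue field k and M a finitely generated R-module. Suppose
that for every small extension p : A' → A of local Artinian R-algebras with residue field k (p
surjective, its kernel I a nonzero principal ideal killed by the maximal ideal of A'), the map M ⊗_R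
I → M ⊗_R A' induced by the inclusion I ⊆ A' is injective (equivalently, the sequence 0 → M ⊗_R I →
M ⊗_R A' → M ⊗_R A → 0 is exact). Then M is a free R-module. (The printed conclusion reads free over
the residue field; the proof establishes freeness over R, which is what is stated here.) -/
theorem result
    (R : Type u) [CommRing R] [IsArtinianRing R] [IsLocalRing R]
    (k : Type u) [Field k] [Algebra R k] (hk : Function.Surjective (algebraMap R k))
    (M : Type u) [AddCommGroup M] [Module R M] [Module.Finite R M]
    (h : ∀ (A' A : ArtFun.Art R k) (p : A' ⟶ A), ArtFun.Art.IsSmallExt p →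
      Function.Injective
        (LinearMap.lTensor M (((RingHom.ker p.toAlgHom).restrictScalars R).subtype))) :
    Module.Free R M := by
  classical
  let R₀ : ArtFun.Art R k := Art.of R (Algebra.ofId R k) hk
  suffices H : ∀ (A : ArtFun.Art R k) (K : Ideal A), K ≤ IsLocalRing.maximalIdeal A →
      Function.Injective (LinearMap.lTensor M (K.restrictScalars R).subtype) →
      Function.Injective (LinearMap.lTensor M ((IsLocalRing.maximalIdeal A).restrictScalars R).subtype) by
    haveI : Subsingleton ↥((⊥ : Ideal R₀).restrictScalars R) :=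
      ⟨fun x y => Subtype.ext (((Submodule.mem_bot _).1 x.2).trans ((Submodule.mem_bot _).1 y.2).symm)⟩
    have h1 := H R₀ ⊥ bot_le fun x y _ => by
      have : ∀ z : TensorProduct R M ↥((⊥ : Ideal R₀).restrictScalars R), z = 0 := fun z => by
        induction z using TensorProduct.induction_on with
        | zero => rfl
        | tmul a b => rw [Subsingleton.elim b 0, TensorProduct.tmul_zero]
        | add a b ha hb => rw [ha, hb, add_zero]
      rw [this x, this y]
    haveI : Module.FinitePresentation R M := Module.finitePresentation_of_finite R M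
    exact Module.free_of_maximalIdeal_rTensor_injective
      ((LinearMap.lTensor_inj_iff_rTensor_inj M _).1 h1)
  intro A K
  induction K using WellFoundedGT.induction with
  | ind K ih =>
    intro hK hinj
    rcases eq_or_lt_of_le hK with heq | hlt
    · subst heq; exact hinj
    obtain ⟨t, htm, htK, hts⟩ := Groth.L12.exists_socle A (K := K) hlt
    set K' : Ideal A := K ⊔ Ideal.span {t} with hK'
    have hK'm : K' ≤ IsLocalRing.maximalIdeal A := sup_le hK ((Ideal.span_singleton_le_iff_mem _).2 htm)
    have hlt' : K < K' := lt_of_le_of_ne le_sup_left fun e =>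
      htK (e ▸ Ideal.mem_sup_right (Ideal.mem_span_singleton_self t))
    refine ih K' hlt' hK'm ?_
    let q : Art.quot A K hK ⟶ Art.quot A K' hK'm :=
      Art.quotFactor hK (Art.quotMk A K' hK'm) (fun x hx => Ideal.Quotient.eq_zero_iff_mem.2 (Ideal.mem_sup_left hx))
    have hq : Art.IsSmallExt q := by
      refine Groth.L12.isSmallExt_of_gen ?_ (t := (Ideal.Quotient.mk K t : A ⧸ K)) ?_ ?_ ?_
      · intro x
        obtain ⟨a, rfl⟩ := Ideal.Quotient.mk_surjective x
        exact ⟨Ideal.Quotient.mk _ a, rfl⟩
      · exact fun h => htK (Ideal.Quotient.eq_zero_iff_mem.1 h)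
      · apply le_antisymm
        · intro x hx
          obtain ⟨a, rfl⟩ := Ideal.Quotient.mk_surjective (I := K) x
          obtain ⟨y, hy, z, hz, rfl⟩ := Submodule.mem_sup.1 (Ideal.Quotient.eq_zero_iff_mem.1 hx : a ∈ K')
          obtain ⟨c, rfl⟩ := Ideal.mem_span_singleton'.1 hz
          refine Ideal.mem_span_singleton'.2 ⟨Ideal.Quotient.mk K c, ?_⟩
          rw [map_add, Ideal.Quotient.eq_zero_iff_mem.2 hy, zero_add, map_mul]
          rfl
        · refine (Ideal.span_singleton_le_iff_mem _).2 ?_
          exact Ideal.Quotient.eq_zero_iff_mem.2 (Ideal.mem_sup_right (Ideal.mem_span_singleton_self t))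
      · intro a ha
        obtain ⟨b, rfl⟩ := Ideal.Quotient.mk_surjective (I := K) a
        refine (map_mul (Ideal.Quotient.mk K) b t).symm.trans (Ideal.Quotient.eq_zero_iff_mem.2 (hts b ?_))
        rw [A.mem_maximalIdeal_iff]
        exact ((Art.quot A K hK).mem_maximalIdeal_iff _).1 ha
    have hinj' := h _ _ q hq
    let f : ↥(K'.restrictScalars R) →ₗ[R] ↥((RingHom.ker q.toAlgHom).restrictScalars R) :=
      { toFun := fun x => ⟨Ideal.Quotient.mk K (x : A), Ideal.Quotient.eq_zero_iff_mem.2 x.2⟩
        map_add' := fun x y => Subtype.ext (map_add _ _ _)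
        map_smul' := fun r x => Subtype.ext (map_smul (Ideal.Quotient.mkₐ R K) r (x : A)) }
    let i : ↥(K.restrictScalars R) →ₗ[R] ↥(K'.restrictScalars R) := Submodule.inclusion fun x hx => Ideal.mem_sup_left hx
    have hex : Function.Exact i f := fun x => by
      constructor
      · intro hx
        exact ⟨⟨x, Ideal.Quotient.eq_zero_iff_mem.1 (congrArg Subtype.val hx)⟩, rfl⟩
      · rintro ⟨y, rfl⟩
        exact Subtype.ext (Ideal.Quotient.eq_zero_iff_mem.2 y.2)
    have hfs : Function.Surjective f := fun z => by
      obtain ⟨z, hz⟩ := z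
      obtain ⟨a, rfl⟩ := Ideal.Quotient.mk_surjective (I := K) z
      exact ⟨⟨a, Ideal.Quotient.eq_zero_iff_mem.1 hz⟩, rfl⟩
    have hw : ((RingHom.ker q.toAlgHom).restrictScalars R).subtype.comp f =
        (Art.quotMk A K hK).toAlgHom.toLinearMap.comp (K'.restrictScalars R).subtype := rfl
    refine (injective_iff_map_eq_zero _).2 fun z hz => ?_
    have h1 : LinearMap.lTensor M f z = 0 := by
      refine hinj' ?_
      rw [map_zero, ← LinearMap.lTensor_comp_apply, hw, LinearMap.lTensor_comp_apply, hz, map_zero]
    obtain ⟨w, rfl⟩ := ((lTensor_exact M hex hfs) z).1 h1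
    rw [← LinearMap.lTensor_comp_apply] at hz
    rw [(injective_iff_map_eq_zero _).1 hinj w hz, map_zero]
end Groth.Agent.S18256
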