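import Groth.Statements.S18257
import Groth.Agent.L10.UnitsThick.Coh

set_option autoImplicit false
set_option backward.defeqAttrib.useBackward true
set_option backward.isDefEq.respectTransparency false
universe u
open UnitsSh

namespace Groth.Agent.S18257

open CategoryTheory CategoryTheory.Limits AlgebraicGeometry in
/-- In the case of the multiplicative group, for schemes and with Zariski cohomology of the sheaf of
units. Let A be a local ring with maximal ideal m, t a nonzero element of m with m·t = 0, and X' a
scheme flat over Spec A; let i : X ⟶ X' be the closed subscheme cut out by t (base change to A/(t))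
and X₀ the closed fibre (base change to the residue field). If H^{q+1}(X₀, O_{X₀}) = 0, then the map
H^q(X', O_{X'}^×) → H^q(X', i_* O_X^×) induced by the units map of i is surjective. (The published
statement covers any smooth commutative group scheme in place of the multiplicative group, with the
Lie algebra of its closed fibre in place of O_{X₀}, uses étale cohomology, and takes A Artinian;
this row allows any local ring A with t as stated.) -/
theorem result
    (A : Type u) [CommRing A] [IsLocalRing A]
    (t : A) (ht0 : t ≠ 0) (ht : t ∈ IsLocalRing.maximalIdeal A)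
    (hmt : ∀ x ∈ IsLocalRing.maximalIdeal A, x * t = 0)
    (X' : Scheme.{u}) [X'.Over (Spec (CommRingCat.of A))] [Flat (X' ↘ Spec (CommRingCat.of A))]
    (q : ℕ)
    (hvan : Subsingleton (Coh.HH
      (pullback (X' ↘ Spec (CommRingCat.of A)) (Spec.map (CommRingCat.ofHom (IsLocalRing.residue A))))
      (Coh.structureModule _) (q + 1))) :
    Function.Surjective (Sheaf.H.map (UnitsSh.comap
      (pullback.fst (X' ↘ Spec (CommRingCat.of A))
        (Spec.map (CommRingCat.ofHom (Ideal.Quotient.mk (Ideal.span ({t} : Set A))))))) q) := by
  let f := X' ↘ Spec (CommRingCat.of A)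
  let φ := Ideal.Quotient.mk (Ideal.span ({t} : Set A))
  let g := pullback.fst f (Spec.map (CommRingCat.ofHom φ))
  let g₀ := pullback.fst f (Spec.map (CommRingCat.ofHom (IsLocalRing.residue A)))
  have hc : Groth.L10.UnitsThick.IsCut f g (Ideal.span {t}) := by
    simpa only [φ, Ideal.mk_ker] using
      Groth.L10.UnitsThick.isCut_of_sq f φ Ideal.Quotient.mk_surjective (IsPullback.of_hasPullback _ _)
  have h₀ : Groth.L10.UnitsThick.IsCut f g₀ (IsLocalRing.maximalIdeal A) := by
    simpa only [IsLocalRing.ker_residue] using
      Groth.L10.UnitsThick.isCut_of_sq f (IsLocalRing.residue A) IsLocalRing.residue_surjective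
        (IsPullback.of_hasPullback _ _)
  haveI : IsClosedImmersion g₀ := Groth.L10.UnitsThick.isClosedImmersion_of_sq f (IsLocalRing.residue A)
    IsLocalRing.residue_surjective (IsPullback.of_hasPullback _ _)
  have htt : t * t = 0 := hmt t ht
  have hm : ∀ x, x * t = 0 ↔ x ∈ IsLocalRing.maximalIdeal A := fun x => by
    refine ⟨fun h => ?_, hmt x⟩
    by_contra hx
    exact ht0 ((IsUnit.mul_right_eq_zero (not_not.1 fun hu => hx ((IsLocalRing.mem_maximalIdeal x).2 hu))).1 h)
  have hn : ∀ x ∈ Ideal.span {t}, IsNilpotent x := fun x hx => by
    obtain ⟨c, rfl⟩ := Ideal.mem_span_singleton'.1 hx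
    exact ⟨2, by rw [mul_pow, pow_two t, htt, mul_zero]⟩
  obtain ⟨e⟩ := Groth.L10.UnitsThick.nonempty_P_iso hc t rfl htt h₀ hm
  exact Groth.L10.UnitsThick.H_map_surjective (hc.shortExact hn) q
    (Groth.L10.UnitsThick.subsingleton_H_of_iso e.symm (q + 1)
      (Groth.L10.UnitsThick.subsingleton_H_push g₀ (q + 1) hvan))

end Groth.Agent.S18257
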