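import Groth.Statements.S18258
import Groth.Agent.L10.UnitsThick.Split
import Groth.Agent.L17.AffinePush

set_option autoImplicit false
set_option backward.defeqAttrib.useBackward true
set_option backward.isDefEq.respectTransparency false
universe u
open UnitsSh

namespace Groth.Agent.S18258

open CategoryTheory CategoryTheory.Limits AlgebraicGeometry in
/-- In the case of the multiplicative group, for schemes and with Zariski cohomology of the sheaf of
units. Let k be a field, X₀ a k-scheme, X' = X₀ ×_k Spec k[ε] (k[ε] the dual numbers) and i : X ⟶ X'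
the closed subscheme ε = 0 (base change of X' along k[ε] → k, a copy of X₀). Then for every q the
kernel of the map H^q(X', O_{X'}^×) → H^q(X', i_* O_X^×) induced by the units map of i — the tangent
space at the origin of the functor A ↦ H^q(X₀ ⊗_k A, O^×) on local Artinian k-algebras — is
isomorphic, as an additive group, to H^q(X, O_X). (Existence of an isomorphism only. The published
statement covers any smooth commutative group scheme in place of the multiplicative group, with the
Lie algebra of its closed fibre in place of the structure sheaf, and uses étale cohomology.) -/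
theorem result
    (k : Type u) [Field k] (X₀ : Scheme.{u}) [X₀.Over (Spec (CommRingCat.of k))] (q : ℕ) :
    Nonempty ((Sheaf.H.map (UnitsSh.comap (pullback.fst (pullback.snd (X₀ ↘ Spec (CommRingCat.of k)) (Spec.map (CommRingCat.ofHom (algebraMap k (DualNumber k))))) (Spec.map (CommRingCat.ofHom (TrivSqZeroExt.fstHom k k k).toRingHom)))) q).ker ≃+
      Coh.HH (pullback (pullback.snd (X₀ ↘ Spec (CommRingCat.of k)) (Spec.map (CommRingCat.ofHom (algebraMap k (DualNumber k))))) (Spec.map (CommRingCat.ofHom (TrivSqZeroExt.fstHom k k k).toRingHom))) (Coh.structureModule (pullback (pullback.snd (X₀ ↘ Spec (CommRingCat.of k)) (Spec.map (CommRingCat.ofHom (algebraMap k (DualNumber k))))) (Spec.map (CommRingCat.ofHom (TrivSqZeroExt.fstHom k k k).toRingHom)))) q) := by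
  let φ : DualNumber k →+* k := (TrivSqZeroExt.fstHom k k k).toRingHom
  let X' := pullback (X₀ ↘ Spec (CommRingCat.of k)) (Spec.map (CommRingCat.ofHom (algebraMap k (DualNumber k))))
  let f : X' ⟶ Spec (CommRingCat.of (DualNumber k)) := pullback.snd _ _
  let g := pullback.fst f (Spec.map (CommRingCat.ofHom φ))
  have sq : IsPullback g (pullback.snd f (Spec.map (CommRingCat.ofHom φ))) f (Spec.map (CommRingCat.ofHom φ)) :=
    IsPullback.of_hasPullback _ _
  have hφ : Function.Surjective φ := fun c => ⟨(TrivSqZeroExt.inl c : TrivSqZeroExt k k), rfl⟩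
  have hc := Groth.L10.UnitsThick.isCut_of_sq f φ hφ sq
  haveI : IsClosedImmersion g := Groth.L10.UnitsThick.isClosedImmersion_of_sq f φ hφ sq
  let t : DualNumber k := DualNumber.eps
  have hker : ∀ x, x ∈ RingHom.ker φ ↔ TrivSqZeroExt.fst x = 0 := fun x => Iff.rfl
  have hI : RingHom.ker φ = Ideal.span {t} := by
    ext x
    rw [hker, Ideal.mem_span_singleton']
    constructor
    · intro hx
      refine ⟨TrivSqZeroExt.inl (TrivSqZeroExt.snd x), ?_⟩
      ext <;> simp [t, hx]
    · rintro ⟨a, rfl⟩
      simp [t]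
  have hm : ∀ x, x * t = 0 ↔ x ∈ RingHom.ker φ := fun x => by
    rw [hker]
    constructor
    · intro h
      simpa [t] using congrArg TrivSqZeroExt.snd h
    · intro h
      ext <;> simp [t, h]
  have htt : t * t = 0 := DualNumber.eps_mul_eps
  obtain ⟨e⟩ := Groth.L10.UnitsThick.nonempty_P_iso hc t hI htt hc hm
  have hn : ∀ x ∈ RingHom.ker φ, IsNilpotent x := fun x hx => by
    rw [hI] at hx
    obtain ⟨c, rfl⟩ := Ideal.mem_span_singleton'.1 hx
    exact ⟨2, by rw [mul_pow, pow_two t, htt, mul_zero]⟩
  haveI : Surjective (Spec.map (CommRingCat.ofHom φ)) := ⟨fun p => by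
    obtain ⟨q, hq⟩ : p ∈ Set.range (PrimeSpectrum.comap φ) := by
      rw [range_comap_of_surjective _ φ hφ]
      exact fun x hx => p.isPrime.mem_of_pow_mem (hn x hx).choose (by rw [(hn x hx).choose_spec]; exact zero_mem _)
    exact ⟨q, hq⟩⟩
  haveI : Surjective g := inferInstance
  have h1 : IsPullback (g ≫ pullback.fst _ _) (pullback.snd f (Spec.map (CommRingCat.ofHom φ)))
      (X₀ ↘ Spec (CommRingCat.of k))
      (Spec.map (CommRingCat.ofHom φ) ≫ Spec.map (CommRingCat.ofHom (algebraMap k (DualNumber k)))) :=
    sq.paste_horiz (IsPullback.of_hasPullback _ _)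
  have h2 : Spec.map (CommRingCat.ofHom φ) ≫ Spec.map (CommRingCat.ofHom (algebraMap k (DualNumber k))) = 𝟙 _ := by
    rw [← Spec.map_comp, ← Spec.map_id]
    congr 1
  rw [h2] at h1
  haveI : IsIso (g ≫ pullback.fst (X₀ ↘ Spec (CommRingCat.of k)) (Spec.map (CommRingCat.ofHom (algebraMap k (DualNumber k))))) :=
    h1.isIso_fst_of_isIso
  let s : X' ⟶ pullback f (Spec.map (CommRingCat.ofHom φ)) :=
    pullback.fst _ _ ≫ inv (g ≫ pullback.fst (X₀ ↘ Spec (CommRingCat.of k)) (Spec.map (CommRingCat.ofHom (algebraMap k (DualNumber k)))))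
  have hs : g ≫ s = 𝟙 _ := by rw [← Category.assoc, IsIso.hom_inv_id]
  obtain ⟨a⟩ := Groth.L10.UnitsThick.nonempty_ker_addEquiv (hc.shortExact hn)
    (Groth.L10.UnitsThick.unitsSection g s hs) (Groth.L10.UnitsThick.unitsSection_comap g s hs) q
  obtain ⟨b⟩ := Groth.L17.nonempty_HH_push_of_isClosedImmersion g (Coh.structureModule _) q
  let c := Groth.L10.UnitsThick.addEquivOfIso e q
  exact ⟨a.trans (c.trans b.symm)⟩

end Groth.Agent.S18258
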