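import Groth.Statements.S18259
import Groth.Agent.L10.UnitsThick.Coh

set_option autoImplicit false
set_option backward.defeqAttrib.useBackward true
set_option backward.isDefEq.respectTransparency false
universe u
open UnitsSh

namespace Groth.Agent.S18259

open CategoryTheory CategoryTheory.Limits AlgebraicGeometry in
/-- In the case of the multiplicative group, for schemes and with Zariski cohomology of the sheaf of
units, in the form 'the functor A ↦ H^q(X ⊗ A, O^×) on local Artinian algebras is formally smooth'.
Let A be an Artinian local ring with maximal ideal m, J ⊆ m an ideal, X' a scheme flat over Spec A,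
i : X ⟶ X' the closed subscheme defined by J (base change to A/J) and X₀ the closed fibre (base
change to A/m). If H^{q+1}(X₀, O_{X₀}) = 0, then the map H^q(X', O_{X'}^×) → H^q(X', i_* O_X^×)
induced by the units map of i is surjective. (The published statement asserts formal smoothness for
any smooth commutative group scheme in place of the multiplicative group, with the Lie algebra of
its closed fibre in place of O_{X₀}, and uses étale cohomology.) -/
theorem result
    (A : Type u) [CommRing A] [IsArtinianRing A] [IsLocalRing A]
    (J : Ideal A) (hJ : J ≤ IsLocalRing.maximalIdeal A)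
    (X' : Scheme.{u}) [X'.Over (Spec (CommRingCat.of A))] [Flat (X' ↘ Spec (CommRingCat.of A))]
    (q : ℕ)
    (hvan : Subsingleton (Coh.HH (pullback (X' ↘ Spec (CommRingCat.of A)) (Spec.map (CommRingCat.ofHom (IsLocalRing.residue A)))) (Coh.structureModule _) (q + 1))) :
    Function.Surjective (Sheaf.H.map (UnitsSh.comap
      (pullback.fst (X' ↘ Spec (CommRingCat.of A)) (Spec.map (CommRingCat.ofHom (Ideal.Quotient.mk J))))) q) := by
  let f := X' ↘ Spec (CommRingCat.of A)
  let gs : ∀ I : Ideal A, pullback f (Spec.map (CommRingCat.ofHom (Ideal.Quotient.mk I))) ⟶ X' :=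
    fun I => pullback.fst f (Spec.map (CommRingCat.ofHom (Ideal.Quotient.mk I)))
  let g₀ := pullback.fst f (Spec.map (CommRingCat.ofHom (IsLocalRing.residue A)))
  have hc : ∀ I, Groth.L10.UnitsThick.IsCut f (gs I) I := fun I => by
    simpa only [Ideal.mk_ker] using Groth.L10.UnitsThick.isCut_of_sq f (Ideal.Quotient.mk I)
      Ideal.Quotient.mk_surjective (IsPullback.of_hasPullback _ _)
  have h₀ : Groth.L10.UnitsThick.IsCut f g₀ (IsLocalRing.maximalIdeal A) := by
    simpa only [IsLocalRing.ker_residue] using
      Groth.L10.UnitsThick.isCut_of_sq f (IsLocalRing.residue A) IsLocalRing.residue_surjective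
        (IsPullback.of_hasPullback _ _)
  haveI : IsClosedImmersion g₀ := Groth.L10.UnitsThick.isClosedImmersion_of_sq f (IsLocalRing.residue A)
    IsLocalRing.residue_surjective (IsPullback.of_hasPullback _ _)
  refine Groth.L10.UnitsThick.H_map_surjective ((hc J).shortExact fun x hx => mem_nilradical.1 (by
    rw [Ring.KrullDimLE.nilradical_eq_maximalIdeal]; exact hJ hx)) q ?_
  exact Groth.L10.UnitsThick.subsingleton_H_P_artinian _ gs hc h₀ (q + 1) hvan J hJ

end Groth.Agent.S18259
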