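import Groth.Statements.S18260
import Groth.Agent.L10.UnitsThick.Coh

set_option autoImplicit false
set_option backward.defeqAttrib.useBackward true
set_option backward.isDefEq.respectTransparency false
universe u
open UnitsSh

namespace Groth.Agent.S18260

open CategoryTheory CategoryTheory.Limits AlgebraicGeometry in
/-- For schemes and with Zariski cohomology of the sheaf of units. Let A be an Artinian local ring with
maximal ideal m, X' a scheme flat over Spec A and i₀ : X₀ ⟶ X' its closed fibre (base change to the
residue field). If H^q(X₀, O_{X₀}) = 0, then the q-th cohomology group of the kernel of the units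
map O_{X'}^× → i₀_* O_{X₀}^× (the sheaf of principal units 1 + m·O_{X'}) vanishes. (The published
claim is the vanishing, on local Artinian algebras A with residue field k, of the deformation
functor of H^q of the multiplicative group for the trivial deformations X₀ ⊗_k A of a scheme X₀ over
a field k, and uses étale cohomology; this row allows any scheme X' flat over an Artinian local ring
A and uses Zariski cohomology.) -/
theorem result
    (A : Type u) [CommRing A] [IsArtinianRing A] [IsLocalRing A]
    (X' : Scheme.{u}) [X'.Over (Spec (CommRingCat.of A))] [Flat (X' ↘ Spec (CommRingCat.of A))]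
    (q : ℕ)
    (hvan : Subsingleton (Coh.HH (pullback (X' ↘ Spec (CommRingCat.of A)) (Spec.map (CommRingCat.ofHom (IsLocalRing.residue A)))) (Coh.structureModule _) q)) :
    Subsingleton (Sheaf.H (kernel (UnitsSh.comap
      (pullback.fst (X' ↘ Spec (CommRingCat.of A)) (Spec.map (CommRingCat.ofHom (IsLocalRing.residue A)))))) q) := by
  let f := X' ↘ Spec (CommRingCat.of A)
  let gs : ∀ I : Ideal A, pullback f (Spec.map (CommRingCat.ofHom (Ideal.Quotient.mk I))) ⟶ X' :=
    fun I => pullback.fst f (Spec.map (CommRingCat.ofHom (Ideal.Quotient.mk I)))
  let g₀ := pullback.fst f (Spec.map (CommRingCat.ofHom (IsLocalRing.residue A)))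
  have hc : ∀ I, Groth.L10.UnitsThick.IsCut f (gs I) I := fun I => by
    simpa only [Ideal.mk_ker] using Groth.L10.UnitsThick.isCut_of_sq f (Ideal.Quotient.mk I)
      Ideal.Quotient.mk_surjective (IsPullback.of_hasPullback _ _)
  have h₀ : Groth.L10.UnitsThick.IsCut f g₀ (IsLocalRing.maximalIdeal A) := by
    simpa only [IsLocalRing.ker_residue] using
      Groth.L10.UnitsThick.isCut_of_sq f (IsLocalRing.residue A) IsLocalRing.residue_surjective
        (IsPullback.of_hasPullback _ _)
  haveI : IsClosedImmersion g₀ := Groth.L10.UnitsThick.isClosedImmersion_of_sq f (IsLocalRing.residue A)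
    IsLocalRing.residue_surjective (IsPullback.of_hasPullback _ _)
  exact Groth.L10.UnitsThick.subsingleton_H_P_artinian _ gs hc h₀ q hvan (IsLocalRing.maximalIdeal A) le_rfl

end Groth.Agent.S18260
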