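import Groth.Statements.S18265
import Groth.Agent.L08.InvNormal
import Mathlib.RingTheory.Polynomial.UniqueFactorization
import Mathlib.RingTheory.Polynomial.GaussLemma
import Mathlib.RingTheory.Polynomial.RationalRoot

set_option autoImplicit false
universe u
open InvQ

namespace Groth.Agent.S18265

/-- Let k be an algebraically closed field and n, m natural numbers, and let R be the ring of polynomial
functions of m vectors of k^(n+1) invariant under the special linear group SL(n+1, k) acting on all
the vectors at once and under the rescalings of the individual vectors by units with product 1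
(equivalently: invariant and homogeneous of one and the same degree in each vector) — the graded
ring of invariant sections whose Proj is the quotient variety of ordered m-point sets in projective
n-space. Then R is integrally closed in its field of fractions; hence that quotient variety is
normal. (Only the normality assertion of the source's statement is given here; its dimension,
rationality and singular-locus assertions are not.) -/
theorem result (k : Type u) [Field k] [IsAlgClosed k] (n m : ℕ) :
    IsIntegrallyClosed (W4c5pointsetsdelpezzo.invRing k n m) := by
  set E := W4c5pointsetsdelpezzo.invRing k n m with hE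
  rw [isIntegrallyClosed_iff (FractionRing E)]
  intro z hz
  obtain ⟨x, y, hy, rfl⟩ := IsFractionRing.div_surjective (A := E) z
  have hy0 : y ≠ 0 := nonZeroDivisors.ne_zero hy
  obtain ⟨s, hs⟩ := Groth.L08.InvNormal.exists_mul_eq E.val.toRingHom Subtype.val_injective x y hy0 hz
  have hsy : s * (y : W4c5pointsetsdelpezzo.TupleRing k n m) = x := hs
  have hy' : (y : W4c5pointsetsdelpezzo.TupleRing k n m) ≠ 0 := fun h => hy0 (Subtype.ext h)
  have key : ∀ φ : W4c5pointsetsdelpezzo.TupleRing k n m →ₐ[k] W4c5pointsetsdelpezzo.TupleRing k n m,
      φ y = y → φ x = x → φ s = s := by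
    intro φ h1 h2
    apply mul_right_cancel₀ hy'
    calc φ s * y = φ (s * y) := by rw [map_mul, h1]
      _ = s * y := by rw [hsy, h2]
  have hmem : s ∈ E := by
    have hx' := x.2
    have hy'' := y.2
    simp only [hE, W4c5pointsetsdelpezzo.invRing, Algebra.mem_inf, Algebra.mem_iInf, AlgHom.mem_equalizer,
      AlgHom.id_apply] at hx' hy'' ⊢
    exact ⟨fun g => key _ (hy''.1 g) (hx'.1 g), fun g => key _ (hy''.2 g) (hx'.2 g)⟩
  refine ⟨⟨s, hmem⟩, ?_⟩
  rw [eq_div_iff (IsFractionRing.to_map_ne_zero_of_mem_nonZeroDivisors hy), ← map_mul]
  exact congrArg _ (Subtype.ext hsy)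

end Groth.Agent.S18265
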