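import Groth.Statements.S18267
import Groth.Agent.L07.CorrespondenceCurve
import Groth.Agent.L16.ProjSpace.Basic
import Groth.Agent.L21.Smooth.Scheme

set_option autoImplicit false
set_option linter.style.haveILetI false
open CategoryTheory CategoryTheory.Limits AlgebraicGeometry
open ZCorr

namespace Groth.Agent.S18267

/-- Over the complex numbers, suppose C is a quasi-projective curve that is smooth and irreducible and X
is a projective variety that is smooth and irreducible; take Z to be an integral closed subscheme of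
C × X of dimension one whose projection to C is surjective (a non-vertical irreducible component of
a correspondence from C to X). Then the projection Z → C is finite and flat. -/
theorem result
    (C X : Scheme.{0}) [C.Over (Spec (CommRingCat.of ℂ))] [X.Over (Spec (CommRingCat.of ℂ))]
    [AlgebraicGeometry.IsIntegral C] [Smooth (C ↘ Spec (CommRingCat.of ℂ))] (hC : RelProj.IsHQuasiProjective (C ↘ Spec (CommRingCat.of ℂ)))
    (hdimC : topologicalKrullDim C = 1)
    [AlgebraicGeometry.IsIntegral X] [Smooth (X ↘ Spec (CommRingCat.of ℂ))] (hX : RelProj.IsHProjective (X ↘ Spec (CommRingCat.of ℂ)))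
    {Z : Scheme.{0}} (i : Z ⟶ pullback (C ↘ Spec (CommRingCat.of ℂ)) (X ↘ Spec (CommRingCat.of ℂ))) [IsClosedImmersion i]
    [AlgebraicGeometry.IsIntegral Z] (hdimZ : topologicalKrullDim Z = 1)
    (hsurj : Function.Surjective ⇑(i ≫ pullback.fst (C ↘ Spec (CommRingCat.of ℂ)) (X ↘ Spec (CommRingCat.of ℂ)))) :
    IsFinite (i ≫ pullback.fst (C ↘ Spec (CommRingCat.of ℂ)) (X ↘ Spec (CommRingCat.of ℂ))) ∧
      Flat (i ≫ pullback.fst (C ↘ Spec (CommRingCat.of ℂ)) (X ↘ Spec (CommRingCat.of ℂ))) := by
  haveI : IsProper (X ↘ Spec (CommRingCat.of ℂ)) := by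
    obtain ⟨m, j, hj, e⟩ := hX
    haveI := hj
    rw [← e]
    infer_instance
  obtain ⟨m, j, hj, hjq, e⟩ := hC
  haveI := hj
  haveI := hjq
  haveI : QuasiCompact (C ↘ Spec (CommRingCat.of ℂ)) := by rw [← e]; infer_instance
  haveI : CompactSpace C := QuasiCompact.compactSpace_of_compactSpace (C ↘ Spec (CommRingCat.of ℂ))
  haveI : IsLocallyNoetherian C := LocallyOfFiniteType.isLocallyNoetherian (C ↘ Spec (CommRingCat.of ℂ))
  haveI : IsNoetherian C := {}
  haveI : IsProper (i ≫ pullback.fst (C ↘ Spec (CommRingCat.of ℂ)) (X ↘ Spec (CommRingCat.of ℂ))) := inferInstance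
  haveI : IsDominant (i ≫ pullback.fst (C ↘ Spec (CommRingCat.of ℂ)) (X ↘ Spec (CommRingCat.of ℂ))) := ⟨hsurj.denseRange⟩
  exact Groth.L07.Correspondence.isFinite_and_flat_curve _ hdimC hdimZ
    (fun w => Groth.L21.Smooth.regular_stalk (C ↘ Spec (CommRingCat.of ℂ)) w)

end Groth.Agent.S18267
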