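import Groth.Statements.S18272
import Groth.Agent.L26.AV.Generated
import Mathlib.Analysis.Complex.Polynomial.Basic
import Groth.Agent.L08.Cube.RelCubical

set_option autoImplicit false
open CategoryTheory MonoidalCategory CartesianMonoidalCategory MonObj GrpObj AlgebraicGeometry
open AbVar

namespace Groth.Agent.S18272

/-- Let A be an abelian variety over the complex numbers (a proper integral group scheme over Spec of
the complex numbers), G an abstract group and f : A(ℂ) → G a homomorphism from the group of complex
points. If V ⊂ A is an irreducible closed subset containing the neutral element and every complex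
point lying in V is in the kernel of f, then there is an abelian subvariety A' ⊂ A (an integral
closed subgroup scheme) containing V and with all its complex points in the kernel of f. -/
theorem result
    (A : Over (Spec (CommRingCat.of ℂ))) [GrpObj A] [IsProper A.hom] [AlgebraicGeometry.IsIntegral A.left]
    (G : Type) [Group G] (f : (𝟙_ (Over (Spec (CommRingCat.of ℂ))) ⟶ A) →* G)
    (V : Set ↥A.left) (hVcl : IsClosed V) (hVirr : IsIrreducible V)
    (hV1 : Set.range ⇑(η[A]).left ⊆ V)
    (hVker : ∀ a : 𝟙_ (Over (Spec (CommRingCat.of ℂ))) ⟶ A, Set.range ⇑a.left ⊆ V → f a = 1) :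
    ∃ (B : Over (Spec (CommRingCat.of ℂ))) (_ : GrpObj B) (incl : B ⟶ A), IsMonHom incl ∧ IsClosedImmersion incl.left ∧
      AlgebraicGeometry.IsIntegral B.left ∧ V ⊆ Set.range ⇑incl.left ∧
      ∀ b : 𝟙_ (Over (Spec (CommRingCat.of ℂ))) ⟶ B, f (b ≫ incl) = 1 := by
  haveI : GeometricallyIntegral A.hom := Groth.L08.Cube.geometricallyIntegral_of_isAlgClosed A.hom
  haveI : IsCommMonObj A := isCommMonObj_of_isProper_of_geometricallyIntegral A
  haveI : Subsingleton ↥(𝟙_ (Over (Spec (CommRingCat.of ℂ)))).left := inferInstanceAs (Subsingleton (PrimeSpectrum ℂ))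
  refine Groth.Agent.AV.Generated.exists_subgroup V hVcl hVirr ?_ fun a ha => hVker a ?_
  · refine hV1 ⟨IsLocalRing.closedPoint ℂ, ?_⟩
    show η[A].left _ = ((1 : 𝟙_ (Over (Spec (CommRingCat.of ℂ))) ⟶ A)).left _
    rw [Hom.one_def, toUnit_unique (toUnit _) (𝟙 _), Category.id_comp]
  · rintro _ ⟨x, rfl⟩
    rw [Subsingleton.elim x (IsLocalRing.closedPoint ℂ)]
    exact ha

end Groth.Agent.S18272
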