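import Groth.Statements.S18276
import Groth.Agent.L22.SymCorr.Fam
import Mathlib.Analysis.Complex.Polynomial.Basic

set_option autoImplicit false
open CategoryTheory CategoryTheory.Limits AlgebraicGeometry
open ZCorr

namespace Groth.Agent.S18276

/-- Over the complex numbers let X be a smooth irreducible projective variety, with symmetric products
Sym^n X (quotients of the fibre powers X^n by the symmetric groups) for all n, and let α, β be
effective 0-cycles of degree d on X. Then α and β are rationally equivalent if and only if there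
exist m ≥ 0, an effective 0-cycle γ of degree m, a morphism f : P^1 → Sym^{d+m} X over the base and
complex points t₀, t₁ of P^1 with f(t₀) the point of α + γ and f(t₁) the point of β + γ. (The
zero-cycle attached to a complex point of Sym^n X is the sum of the coordinates of a lift to X^n;
the source takes t₀ = 0 and t₁ = ∞, which is the same condition up to an automorphism of P^1.) -/
theorem result
    (X : Scheme.{0}) [X.Over (Spec (CommRingCat.of ℂ))]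
    [AlgebraicGeometry.IsIntegral X] [Smooth (X ↘ Spec (CommRingCat.of ℂ))] (hX : RelProj.IsHProjective (X ↘ Spec (CommRingCat.of ℂ)))
    (Sy : ℕ → Scheme.{0}) (q : (n : ℕ) → (SymProd.fibPow (X ↘ Spec (CommRingCat.of ℂ)) n ⟶ Sy n))
    (g : (n : ℕ) → (Sy n ⟶ Spec (CommRingCat.of ℂ))) (hS : ∀ n, SymProd.IsSymProd (X ↘ Spec (CommRingCat.of ℂ)) n (q n) (g n))
    (δ : X → ℤ) (hδ : Cyc.DeltaCompat (X ↘ Spec (CommRingCat.of ℂ)) δ (fun _ => 0))
    (d : ℕ) (α β : AlgebraicCycle X ℤ) (hα : α ∈ Cyc.Zk X δ 0) (hβ : β ∈ Cyc.Zk X δ 0)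
    (hα0 : ∀ x, 0 ≤ α x) (hβ0 : ∀ x, 0 ≤ β x) (hαd : ∑ᶠ x, α x = (d : ℤ)) (hβd : ∑ᶠ x, β x = (d : ℤ)) :
    Cyc.RatEquiv δ 0 α β ↔
      ∃ (m : ℕ) (γ : AlgebraicCycle X ℤ), γ ∈ Cyc.Zk X δ 0 ∧ (∀ x, 0 ≤ γ x) ∧ ∑ᶠ x, γ x = (m : ℤ) ∧
        ∃ (f : CohB1.ProjSpace 1 ℂ ⟶ Sy (d + m)) (t₀ t₁ : Spec (CommRingCat.of ℂ) ⟶ CohB1.ProjSpace 1 ℂ),
          f ≫ g (d + m) = CohB1.ProjSpace.toSpec 1 ℂ ∧ t₀ ≫ CohB1.ProjSpace.toSpec 1 ℂ = 𝟙 _ ∧ t₁ ≫ CohB1.ProjSpace.toSpec 1 ℂ = 𝟙 _ ∧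
          ZCorr.IsCycleOfSymPt (X ↘ Spec (CommRingCat.of ℂ)) (d + m) (q (d + m)) (t₀ ≫ f) ⇑(α + γ) ∧
          ZCorr.IsCycleOfSymPt (X ↘ Spec (CommRingCat.of ℂ)) (d + m) (q (d + m)) (t₁ ≫ f) ⇑(β + γ) := by
  haveI : IsProper (X ↘ Spec (CommRingCat.of ℂ)) := by
    obtain ⟨m, j, hj, e⟩ := hX
    haveI := hj
    rw [← e]
    infer_instance
  constructor
  · intro h
    exact Groth.L22.SymCorr.exists_morphism_of_ratEquiv (X ↘ Spec (CommRingCat.of ℂ)) hδ Sy q g hS d α β hβ hβ0 hβd h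
  · rintro ⟨m, γ, -, -, -, f, t₀, t₁, hf, h₀, h₁, hc₀, hc₁⟩
    have h := Groth.L22.SymCorr.ratEquiv_of_morphism (X ↘ Spec (CommRingCat.of ℂ)) hδ (q (d + m)) (g (d + m))
      (hS (d + m)) f hf t₀ t₁ h₀ h₁ (α + γ) (β + γ) hc₀ hc₁
    unfold Cyc.RatEquiv at h ⊢
    rwa [add_sub_add_right_eq_sub] at h

end Groth.Agent.S18276
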