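import Groth.Statements.S18281
import Groth.Agent.L07.CorrespondenceLoci
import Groth.Agent.L16.ProjSpace.Basic

set_option autoImplicit false
set_option linter.style.haveILetI false
open CategoryTheory CategoryTheory.Limits AlgebraicGeometry
open ZCorr

namespace Groth.Agent.S18281

/-- Over the complex numbers let W be a smooth irreducible quasi-projective variety of dimension n, X a
smooth irreducible projective variety, and Z an integral closed subscheme of X × W of dimension n
(an irreducible component of a correspondence from W to X), with projection π : Z → W. (a) The set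
of points of W over which π is flat (flat at every point of the fibre) is open and nonempty. (b) The
set U of points of W with finite fibre is open and nonempty, and π restricted over U is finite. -/
theorem result
    (W X : Scheme.{0}) [W.Over (Spec (CommRingCat.of ℂ))] [X.Over (Spec (CommRingCat.of ℂ))]
    [AlgebraicGeometry.IsIntegral W] [Smooth (W ↘ Spec (CommRingCat.of ℂ))] (hW : RelProj.IsHQuasiProjective (W ↘ Spec (CommRingCat.of ℂ)))
    (n : ℕ) (hdimW : topologicalKrullDim W = n)
    [AlgebraicGeometry.IsIntegral X] [Smooth (X ↘ Spec (CommRingCat.of ℂ))] (hX : RelProj.IsHProjective (X ↘ Spec (CommRingCat.of ℂ)))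
    {Z : Scheme.{0}} (i : Z ⟶ pullback (X ↘ Spec (CommRingCat.of ℂ)) (W ↘ Spec (CommRingCat.of ℂ))) [IsClosedImmersion i]
    [AlgebraicGeometry.IsIntegral Z] (hdimZ : topologicalKrullDim Z = n) :
    (IsOpen {w : W | ∀ z : Z, (i ≫ pullback.snd (X ↘ Spec (CommRingCat.of ℂ)) (W ↘ Spec (CommRingCat.of ℂ))) z = w →
        ((i ≫ pullback.snd (X ↘ Spec (CommRingCat.of ℂ)) (W ↘ Spec (CommRingCat.of ℂ))).stalkMap z).hom.Flat} ∧
      {w : W | ∀ z : Z, (i ≫ pullback.snd (X ↘ Spec (CommRingCat.of ℂ)) (W ↘ Spec (CommRingCat.of ℂ))) z = w →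
        ((i ≫ pullback.snd (X ↘ Spec (CommRingCat.of ℂ)) (W ↘ Spec (CommRingCat.of ℂ))).stalkMap z).hom.Flat}.Nonempty) ∧
    ∃ U : W.Opens, (U : Set W) = {w : W | ((i ≫ pullback.snd (X ↘ Spec (CommRingCat.of ℂ)) (W ↘ Spec (CommRingCat.of ℂ))) ⁻¹' {w}).Finite} ∧
      (U : Set W).Nonempty ∧ IsFinite ((i ≫ pullback.snd (X ↘ Spec (CommRingCat.of ℂ)) (W ↘ Spec (CommRingCat.of ℂ))) ∣_ U) := by
  haveI : IsLocallyNoetherian W := LocallyOfFiniteType.isLocallyNoetherian (W ↘ Spec (CommRingCat.of ℂ))
  haveI : IsProper (X ↘ Spec (CommRingCat.of ℂ)) := by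
    obtain ⟨m, j, hj, e⟩ := hX
    haveI := hj
    rw [← e]
    infer_instance
  haveI : IsProper (i ≫ pullback.snd (X ↘ Spec (CommRingCat.of ℂ)) (W ↘ Spec (CommRingCat.of ℂ))) := inferInstance
  exact ⟨⟨Groth.L07.Correspondence.isOpen_flat_over _,
    ⟨genericPoint W, fun z hz => Groth.L07.Correspondence.flat_over_genericPoint _ z hz⟩⟩,
    Groth.L07.Correspondence.exists_finite_open _ n hdimW hdimZ⟩

end Groth.Agent.S18281
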