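import Groth.Statements.S18283
import Mathlib.LinearAlgebra.ExteriorPower.Basic
import Mathlib.LinearAlgebra.Matrix.Determinant.Basic
import Mathlib.LinearAlgebra.StdBasis

set_option autoImplicit false
universe u v
open CAlgX

namespace Groth.Agent.S18283

/-- Let A be a commutative ring, ι a finite index type, H a finite set of indices (the head indices) and
c : ι → ι → A a table of coefficients; for j ∈ H put f_j = e_j − Σ_{i ∉ H} c_{ji} e_i in the free
module A^ι, so that each f_j has head e_j with coefficient 1 and tail supported outside H. If a
submodule M of A^ι contains every f_j with j ∈ H, then M is the A-span of these f_j if and only if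
every wedge product of |H|+1 elements of M vanishes in the (|H|+1)-st exterior power of A^ι
(equivalently, every (|H|+1)-minor of every matrix whose rows lie in M vanishes). The published
statement is the case where A is a Noetherian algebra over a field of characteristic zero, A^ι is
the degree-(m+1) part of the polynomial ring over A with its basis of terms, H is the set of
degree-(m+1) terms of a strongly stable monomial ideal generated in degree m, and M is the
degree-(m+1) part of an ideal generated by a marked set on that monomial ideal; this row allows any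
commutative ring and any submodule containing the marked polynomials. -/
theorem result
    {A : Type u} [CommRing A] {ι : Type v} [Fintype ι] [DecidableEq ι]
    (H : Finset ι) (c : ι → ι → A) (M : Submodule A (ι → A))
    (hf : ∀ j ∈ H, (Pi.single j (1 : A) - ∑ i ∈ Hᶜ, c j i • Pi.single i (1 : A)) ∈ M) :
    M = Submodule.span A ((fun j => Pi.single j (1 : A) - ∑ i ∈ Hᶜ, c j i • Pi.single i (1 : A)) '' ↑H)
      ↔ ∀ v : Fin (H.card + 1) → ι → A, (∀ k, v k ∈ M) →
          exteriorPower.ιMulti A (H.card + 1) v = 0 := by
  classical
  set f : ι → ι → A := fun j => Pi.single j (1 : A) - ∑ i ∈ Hᶜ, c j i • Pi.single i (1 : A) with hfdef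
  let e : Fin H.card ≃ H := H.equivFin.symm
  let g : Fin H.card → ι → A := fun a => f (e a)
  have hrange : Set.range g = f '' (H : Set ι) := by
    ext x
    constructor
    · rintro ⟨a, rfl⟩
      exact ⟨e a, (e a).2, rfl⟩
    · rintro ⟨j, hj, rfl⟩
      exact ⟨e.symm ⟨j, hj⟩, by simp [g]⟩
  constructor
  · intro hM v hv
    have hv' : ∀ k, ∃ w : Fin H.card → A, Fintype.linearCombination A g w = v k := fun k => by
      have h := hv k
      rw [hM, ← hrange] at h
      obtain ⟨w, hw⟩ := (Submodule.mem_span_range_iff_exists_fun A).1 h
      exact ⟨w, by simpa [Fintype.linearCombination_apply] using hw⟩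
    choose w hw using hv'
    have h0 : (exteriorPower.ιMulti A (H.card + 1)).compLinearMap (Fintype.linearCombination A g) = 0 := by
      refine Module.Basis.ext_alternating (Pi.basisFun A (Fin H.card)) fun u hu => ?_
      exact absurd (Fintype.card_le_of_injective u hu) (by simp)
    have h1 := DFunLike.congr_fun h0 w
    rw [AlternatingMap.compLinearMap_apply, AlternatingMap.zero_apply] at h1
    rw [show v = fun k => Fintype.linearCombination A g (w k) from funext fun k => (hw k).symm]
    exact h1
  · intro hwedge
    refine le_antisymm (fun m hm => ?_) (Submodule.span_le.2 (by rintro _ ⟨j, hj, rfl⟩; exact hf j hj))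
    set m' := m - ∑ j ∈ H, m j • f j with hm'def
    have hm' : m' ∈ M := M.sub_mem hm (M.sum_mem fun j hj => M.smul_mem _ (hf j hj))
    have hfH : ∀ j, ∀ l ∈ H, f j l = if l = j then 1 else 0 := fun j l hl => by
      simp [hfdef, Finset.sum_apply, Pi.single_apply, hl]
    have hH : ∀ l ∈ H, m' l = 0 := fun l hl => by
      simp [hm'def, Finset.sum_apply, hfH _ l hl, hl]
    have hzero : m' = 0 := by
      funext i
      by_cases hi : i ∈ H
      · exact hH i hi
      let π : (ι → A) →ₗ[A] (Fin (H.card + 1) → A) :=
        LinearMap.pi (Fin.cons (LinearMap.proj i) fun a => LinearMap.proj (e a).1)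
      let alt : (ι → A) [⋀^Fin (H.card + 1)]→ₗ[A] A := Matrix.detRowAlternating.compLinearMap π
      have hv := hwedge (Fin.cons m' g) (Fin.cases hm' fun a => hf _ (e a).2)
      have h0 := congrArg (exteriorPower.alternatingMapLinearEquiv alt) hv
      rw [exteriorPower.alternatingMapLinearEquiv_apply_ιMulti, map_zero] at h0
      change Matrix.det (Matrix.of fun k => π ((Fin.cons m' g : Fin (H.card + 1) → ι → A) k)) = 0 at h0
      rw [Matrix.det_succ_row_zero, Finset.sum_eq_single (0 : Fin (H.card + 1))] at h0
      · have hsub : (Matrix.of fun k => π ((Fin.cons m' g : Fin (H.card + 1) → ι → A) k)).submatrix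
            Fin.succ (Fin.succAbove 0) = 1 := by
          ext a b
          simp [π, g, hfH _ _ (e b).2, Matrix.one_apply, eq_comm]
        rw [hsub] at h0
        simpa [π] using h0
      · intro b _ hb
        obtain ⟨b, rfl⟩ := Fin.exists_succ_eq.2 hb
        simp [π, hH _ (e b).2]
      · simp
    rw [hm'def, sub_eq_zero] at hzero
    rw [hzero]
    exact Submodule.sum_mem _ fun j hj => Submodule.smul_mem _ _ (Submodule.subset_span ⟨j, hj, rfl⟩)

end Groth.Agent.S18283
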