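import Groth.Statements.S18288
import Groth.Agent.L11.Magnet.Orbit

set_option autoImplicit false
universe u
open CategoryTheory MonoidalCategory CartesianMonoidalCategory MonObj AlgebraicGeometry Opposite
open Magnet

namespace Groth.Agent.S18288

/-- Let M be a commutative monoid with an injective homomorphism f : M → Z into a commutative group Z
(so M is cancellative; the published statement takes Z to be the group completion of M, and the same
argument applies to any such Z), let Y be a submonoid of Z contained in the image of M, and let X be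
an S-scheme separated over S with an action of the diagonalizable monoid scheme A(M)_S. Regard X as
a D(Z)_S-scheme through D(Z)_S → A(M)_S. Then the canonical map of attractors X^{f⁻¹Y ⊂ M} → X^{Y ⊂
Z} is an isomorphism: a D(Z)_S-equivariant family out of A(Y)_S is automatically A(M)_S-equivariant.
(The published statement allows X to be an algebraic space; here X is a scheme.) -/
theorem result (S : Scheme.{u}) (M Z : Type) [AddCommMonoid M]
    [AddCommGroup Z] (f : M →+ Z) (hf : Function.Injective f) (Y : AddSubmonoid Z)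
    (hY : Y ≤ AddMonoidHom.mrange f) (X : Over S) [IsSeparated X.hom]
    (a : Magnet.MonAct (Magnet.AMonS S M) X) :
    IsIso (Magnet.attrComap a f Y) := by
  have hcomapmem : ∀ y : Y, ∃ n : Y.comap f, f n.1 = y.1 := fun y => by
    obtain ⟨m, hm⟩ := hY y.2
    exact ⟨⟨m, show f m ∈ Y from hm ▸ y.2⟩, hm⟩
  choose g hg using hcomapmem
  have hid : ∀ (P : Type) [AddCommMonoid P], AMonS.map S (AddMonoidHom.id P) = 𝟙 (AMonS S P) := fun P _ => by
    apply Groth.L11.Magnet.MPts.char_injective
    refine MonoidHom.ext fun n => ?_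
    rw [← Category.id_comp (AMonS.map S (AddMonoidHom.id P)), Groth.L11.Magnet.MPts.char_map]
    rfl
  let γ : Y.comap f →+ Y := (f.comp (Y.comap f).subtype).codRestrict Y (fun x => x.2)
  have hγinj : Function.Injective γ := fun x x' h => Subtype.ext (hf (congrArg Subtype.val h))
  let γ' : Y →+ Y.comap f :=
    { toFun := g
      map_zero' := hγinj (Subtype.ext ((hg 0).trans (map_zero γ ▸ rfl)))
      map_add' := fun y y' => hγinj (Subtype.ext (by
        show f (g (y + y')).1 = f ((g y).1 + (g y').1)
        rw [map_add, hg, hg, hg]; rfl)) }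
  have h1 : AMonS.map S γ ≫ AMonS.map S γ' = 𝟙 _ := by
    rw [← AMonS.map_comp, show γ.comp γ' = AddMonoidHom.id _ from AddMonoidHom.ext fun y => Subtype.ext (hg y)]
    exact hid _
  have h2 : AMonS.map S γ' ≫ AMonS.map S γ = 𝟙 _ := by
    rw [← AMonS.map_comp,
      show γ'.comp γ = AddMonoidHom.id _ from AddMonoidHom.ext fun x => hγinj (Subtype.ext (hg (γ x)))]
    exact hid _
  suffices h : ∀ T : (Over S)ᵒᵖ, IsIso ((Magnet.attrComap a f Y).app T) from NatIso.isIso_of_isIso_app _
  intro T
  rw [isIso_iff_bijective]
  refine ⟨fun φ φ' h => Subtype.ext ?_, fun ψ => ?_⟩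
  · have h' := congrArg (fun z => (AMonS.map S γ' ▷ unop T) ≫ z) (congrArg Subtype.val h)
    simp only [attrComap_app_coe] at h'
    rw [← comp_whiskerRight_assoc, ← comp_whiskerRight_assoc, h2, id_whiskerRight, Category.id_comp, Category.id_comp] at h'
    exact h'
  · let x := (attrToX (a.restrict (AMonS.map S f)) Y).app (op (unop T)) ψ
    let φ₀ : AMonS S (Y.comap f) ⊗ unop T ⟶ X := (AMonS.map S γ' ▷ unop T) ≫ ψ.1
    have horb : (AMonS.map S (Y.comap f).subtype ▷ unop T) ≫ φ₀ = (AMonS S M ◁ x) ≫ a.act := by
      refine Groth.L11.Magnet.cancel_map f hf ?_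
      have e : AMonS.map S f ≫ AMonS.map S (Y.comap f).subtype = AMonS.map S Y.subtype ≫ AMonS.map S γ := by
        rw [← AMonS.map_comp, ← AMonS.map_comp]; rfl
      rw [← comp_whiskerRight_assoc, e, comp_whiskerRight_assoc, ← comp_whiskerRight_assoc (AMonS.map S γ), h1,
        id_whiskerRight, Category.id_comp, Groth.L11.Magnet.orbit_eq (T := unop T) ψ, ← whisker_exchange_assoc,
        MonAct.restrict_act]
    obtain ⟨φ, hφ, -⟩ := Groth.L11.Magnet.equivariant_of_orbit a φ₀ x horb
    refine ⟨φ, Subtype.ext ?_⟩
    rw [attrComap_app_coe, hφ, ← comp_whiskerRight_assoc, h1, id_whiskerRight, Category.id_comp]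

end Groth.Agent.S18288
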