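import Groth.Statements.S1829
import Groth.Agent.L29.Dual.GorensteinFlatBC
import Groth.Agent.S1830

set_option autoImplicit false
set_option backward.isDefEq.respectTransparency false
universe u
open CategoryTheory
attribute [local instance] HasDerivedCategory.standard
open Dual
open scoped TensorProduct

namespace Groth.Agent.S1829

/-- Let A → B be a faithfully flat local complete intersection homomorphism of Noetherian rings and K an
object of D(A); assume the derived base change functor D(A) → D(B) exists. Then K is a dualizing
complex for A if and only if its base change is a dualizing complex for B. -/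
theorem result (A B : Type u) [CommRing A] [CommRing B] [Algebra A B] [IsNoetherianRing A] [IsNoetherianRing B] [Module.FaithfullyFlat A B] (hl : LCI.IsLCI A B) [DRing.HasLBaseChange (algebraMap A B)] (K : Dual.D A) : Dual.IsDualizing A K ↔ Dual.IsDualizing B ((DRing.LBaseChange (algebraMap A B)).obj K) := by
  haveI := hl.1
  let e := (Groth.L29.FlatBC.lbcIso (A := A) (B := B)).app K
  refine ⟨fun h => Groth.L29.HomD.isDualizing_of_iso e.symm
    (Groth.L29.GorBC.isDualizing_L_of_gorenstein_fibres (fun p hp => ?_) h), fun h =>
    Groth.L29.GorBC.isDualizing_of_faithfullyFlat (Groth.L29.HomD.isDualizing_of_iso e h)⟩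
  haveI : IsNoetherianRing (p.ResidueField ⊗[A] B) := Algebra.FiniteType.isNoetherianRing p.ResidueField _
  haveI : IsNoetherianRing (B ⊗[A] p.ResidueField) :=
    isNoetherianRing_of_ringEquiv _ (Algebra.TensorProduct.comm A p.ResidueField B).toRingEquiv
  refine Groth.L21.GorensteinFieldExt.locGor_of_ringEquiv (A := B ⊗[A] p.ResidueField)
    (Algebra.TensorProduct.comm A B p.ResidueField).toRingEquiv fun P _ => ?_
  exact (Groth.Agent.S1830.result A B hl ⟨p, hp⟩).isGorensteinLocalRing_localization P

end Groth.Agent.S1829
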