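import Groth.Statements.S18290
import Groth.Agent.L11.Magnet.Limit

set_option autoImplicit false
universe u
open CategoryTheory MonoidalCategory CartesianMonoidalCategory MonObj AlgebraicGeometry Opposite
open Magnet

namespace Groth.Agent.S18290

/-- Let X be an S-scheme locally of finite presentation and separated over S with an action of the
diagonalizable monoid scheme A(M)_S of a commutative monoid M, and let N be the union of a nonempty
directed family of submonoids N_i of M. Then for every S-scheme T whose underlying scheme is affine,
every element of X^N(T) comes from X^{N_i}(T) for some i, so that X^N(T) is the directed union of
the X^{N_i}(T) (the maps X^{N_i}(T) → X^N(T) are injective since X is separated). (The published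
statement takes T an arbitrary S-scheme and X an algebraic space; for T an infinite disjoint union
of points and X an infinite disjoint union of affine lines, the n-th with coordinate of degree the
n-th basis vector of a free commutative monoid M, the element of X^N(T) that is the n-th coordinate
inclusion on the n-th point comes from no single X^{N_i}(T) when N_i is generated by the first i
basis vectors, so T is taken affine here, the case the limit argument proves.) -/
theorem result (S : Scheme.{u}) (M : Type) [AddCommMonoid M]
    (X : Over S) [IsSeparated X.hom] [LocallyOfFinitePresentation X.hom]
    (a : Magnet.MonAct (Magnet.AMonS S M) X) {J : Type} [Preorder J] [IsDirected J (· ≤ ·)] [Nonempty J]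
    (N : J → AddSubmonoid M) (hN : Monotone N) (T : Over S) [IsAffine T.left]
    (φ : (Magnet.attr a (⨆ i, N i)).obj (op T)) :
    ∃ (i : J) (ψ : (Magnet.attr a (N i)).obj (op T)), (Magnet.attrMap a (le_iSup N i)).app (op T) ψ = φ := by
  exact Groth.L11.Magnet.exists_attrMap_eq' a N hN T φ

end Groth.Agent.S18290
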