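import Groth.Statements.S18295
import Groth.Agent.L11.Magnet.AffineRep

set_option autoImplicit false
universe u
open CategoryTheory MonoidalCategory CartesianMonoidalCategory MonObj AlgebraicGeometry Opposite
open Magnet

namespace Groth.Agent.S18295

/-- Let X be an S-scheme affine over S with an action of the diagonalizable monoid scheme A(M)_S of a
commutative monoid M, and N a submonoid (magnet) of M. Then X^N is represented by a closed subscheme
Z of X: there are a closed immersion i : Z → X over S and an isomorphism of the functor of points of
Z with X^N under which the canonical map X^N → X (evaluation at the unit section) is composition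
with i. (Over an affine base the ideal of Z is generated by the homogeneous components of degree
outside N; that description is a separate statement.) -/
theorem result (S : Scheme.{u}) (M : Type)
    [AddCommMonoid M] (N : AddSubmonoid M) (X : Over S) [IsAffineHom X.hom]
    (a : Magnet.MonAct (Magnet.AMonS S M) X) :
    ∃ (Z : Over S) (i : Z ⟶ X) (e : (Magnet.attr a N).RepresentableBy Z), IsClosedImmersion i.left ∧
      ∀ (T : Over S) (z : T ⟶ Z), (Magnet.attrToX a N).app (op T) (e.homEquiv z) = z ≫ i := by
  exact Groth.L11.Magnet.exists_representable_attr a N

end Groth.Agent.S18295
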