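import Groth.Statements.S18298
import Groth.Agent.L11.Magnet.ComapGrp

set_option autoImplicit false
universe u
open CategoryTheory MonoidalCategory CartesianMonoidalCategory MonObj AlgebraicGeometry Opposite
open Magnet

namespace Groth.Agent.S18298

/-- Let f : M → Z be a homomorphism of finitely generated commutative groups, Y a submonoid of Z
contained in the image f(M), N = f⁻¹(Y), and X an S-scheme with an action of the diagonalizable
group scheme D(M)_S. Regard X as a D(Z)_S-scheme through D(Z)_S → D(M)_S. Then the canonical map of
attractors X^{N ⊂ M} → X^{Y ⊂ Z} (precomposition with A(Y)_S → A(N)_S) is an isomorphism. (The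
published statement has no condition on Y; its argument passes through a quotient of D(M)_T ×_T
A(Y)_T by the diagonalizable group of f(M) + Y^gp, whose action is not free in general — for f
multiplication by 2 on the integers and Y the natural numbers the points over the vertex of A(Y)
have stabilizer μ₂ — but is free when Y lies in f(M), so the statement is given here under that
condition. X may be an algebraic space in the source; here it is a scheme.) -/
theorem result (S : Scheme.{u}) (M Z : Type) [AddCommGroup M] [AddCommGroup Z]
    [AddGroup.FG M] [AddGroup.FG Z] (f : M →+ Z) (Y : AddSubmonoid Z) (hY : Y ≤ AddMonoidHom.mrange f)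
    (X : Over S) (a : AlgGrp.Action (Red.DS S M) X) :
    IsIso (Magnet.attrComap (Magnet.MonAct.ofAction a) f Y) := by
  exact Groth.L11.Magnet.isIso_attrComap_group f Y hY (Magnet.MonAct.ofAction a)

end Groth.Agent.S18298
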