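import Groth.Statements.S18300
import Groth.Agent.L11.Magnet.BaseChange

set_option autoImplicit false
universe u
open CategoryTheory MonoidalCategory CartesianMonoidalCategory MonObj AlgebraicGeometry Opposite
open Magnet

namespace Groth.Agent.S18300

/-- Let X be an S-scheme with an action of the diagonalizable monoid scheme A(M)_S of a commutative
monoid M, N a submonoid of M, and T an S-scheme; X_T = X ×_S T carries the base-changed action of
A(M)_T. Then X^N ×_S T = (X_T)^N objectwise: for every scheme T'' over T, the value of the attractor
X^N at T'' (regarded over S) is in bijection with the value at T'' of the attractor of X_T, namely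
the maps A(N)_T ×_T T'' → X_T equivariant for the base-changed actions; the bijection is pinned by
requiring that, under the identifications of both sides with equivariant morphisms between base
changes to T'', it is conjugation by the canonical isomorphisms (Y ×_S T) ×_T T'' ≅ Y ×_S T'' for Y
= A(N)_S and Y = X. (Naturality in T'' is not part of this statement; X may be an algebraic space in
the source, here it is a scheme.) -/
theorem result (S : Scheme.{u}) (M : Type) [AddCommMonoid M] (N : AddSubmonoid M)
    (X : Over S) (a : Magnet.MonAct (Magnet.AMonS S M) X) (T : Over S) (T'' : Over T.left) :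
    ∃ Φ : (Magnet.attr a N).obj (op ((Over.map T.hom).obj T'')) ≃
        (Magnet.MonAct.eqvHom ((Magnet.subAct S M N).bc T.hom) (a.bc T.hom)).obj (op T''),
      ∀ φ, (Magnet.eqvHomEquivBc T'' ((Magnet.subAct S M N).bc T.hom) (a.bc T.hom) (Φ φ)).1 ≫
          (ActBC.bcCompIso T''.hom T.hom X rfl).hom =
        (ActBC.bcCompIso T''.hom T.hom (Magnet.AMonS S N) rfl).hom ≫
          (Magnet.eqvHomEquivBc ((Over.map T.hom).obj T'') (Magnet.subAct S M N) a φ).1 := by
  exact ⟨Groth.L11.Magnet.eqvHomBcEquiv T T'' _ a, fun φ => Groth.L11.Magnet.eqvHomBcEquiv_spec T T'' _ a φ⟩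

end Groth.Agent.S18300
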