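
import Groth.Statements.S1831
import Groth.Agent.L22.Herbrand

set_option autoImplicit false
universe u v
open CycAlg

namespace Groth.Agent.S1831

theorem aux {R : Type u} [CommRing R] {M : Type v} [AddCommGroup M] [Module R M] :
    CycAlg.FinCoh R (1 : Module.End R M) 0 ∧ CycAlg.herbrand R (1 : Module.End R M) 0 = 0 := by
  have h1 : Subsingleton (CycAlg.perH (1 : Module.End R M) 0) := by
    refine ⟨fun a b => ?_⟩
    obtain ⟨⟨x, hx⟩, rfl⟩ := Submodule.mkQ_surjective _ a
    obtain ⟨⟨y, hy⟩, rfl⟩ := Submodule.mkQ_surjective _ b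
    rw [LinearMap.mem_ker] at hx hy
    simp only [Module.End.one_apply] at hx hy
    subst hx hy; rfl
  have h2 : Subsingleton (CycAlg.perH (0 : Module.End R M) 1) := by
    refine ⟨fun a b => ?_⟩
    obtain ⟨x, rfl⟩ := Submodule.mkQ_surjective _ a
    obtain ⟨y, rfl⟩ := Submodule.mkQ_surjective _ b
    exact (Submodule.Quotient.eq _).2 ⟨(x : M) - y, rfl⟩
  constructor
  · constructor <;> rw [Module.length_eq_zero] <;> exact ENat.top_pos
  · simp [CycAlg.herbrand, Module.length_eq_zero]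

/-- `H(φ^(n-1), φ)` is finite when `H(φ, φ^(n-1))` is: every step `H(φ^(j+1)) ≤ H(φ^j) + H(φ)`. -/
theorem fin_swap {R : Type u} [CommRing R] {M : Type v} [AddCommGroup M] [Module R M]
    (φ : Module.End R M) (n : ℕ) (hn : 0 < n) (hφ : φ ^ n = 0)
    (hfin : Module.length R (CycAlg.perH φ (φ ^ (n - 1))) < ⊤) :
    Module.length R (CycAlg.perH (φ ^ (n - 1)) φ) < ⊤ := by
  have step : ∀ j, j < n →
      Module.length R (CycAlg.perH (φ ^ j) (φ ^ (n - j))) < ⊤ := by
    intro j hj
    induction j with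
    | zero =>
      have h := (aux (R := R) (M := M)).1.1
      have h' : ∀ a b : Module.End R M, a = 1 → b = 0 →
          Module.length R (CycAlg.perH a b) < ⊤ := by
        rintro _ _ rfl rfl; exact h
      exact h' _ _ (pow_zero φ) (by rw [Nat.sub_zero, hφ])
    | succ j ih =>
      have hpow : φ * φ ^ (n - (j + 1)) = φ ^ (n - j) := by
        rw [← pow_succ']; congr 1; omega
      have hex := Groth.L22.hmap_exact (φ := φ) (ψ := φ ^ (n - 1)) (φ' := φ ^ (j + 1))
        (ψ' := φ ^ (n - (j + 1))) (φ'' := φ ^ j) (ψ'' := φ ^ (n - j)) LinearMap.id φ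
        (fun x hx => by rw [pow_succ, Module.End.mul_apply, LinearMap.id_apply, hx, map_zero])
        (fun y => ⟨(φ ^ j) y, by
          rw [LinearMap.id_apply, ← Module.End.mul_apply, ← pow_add]; congr 2; omega⟩)
        (fun x hx => by rwa [pow_succ, Module.End.mul_apply] at hx)
        (fun y => ⟨y, by rw [← hpow]; rfl⟩)
        (fun x hx => by simp [hx])
        (fun x _ hx => by
          obtain ⟨w, hw⟩ := hx
          refine ⟨x - (φ ^ (n - (j + 1))) w, ?_, w, ?_⟩
          · rw [map_sub, ← hw, ← hpow]; exact sub_self _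
          · simp)
      exact Groth.L22.length_lt_top_of_exact hex hfin (ih (by omega))
  have := step (n - 1) (by omega)
  rwa [show n - (n - 1) = 1 by omega, pow_one] at this

/-- If φ is an endomorphism of M with φ^n = 0 (n > 0) and ker φ / im φ^(n-1) has finite length, then for
each 0 ≤ i ≤ n the (2,1)-periodic complex (M, φ^i, φ^(n-i)) has finite-length cohomology modules and
its Herbrand quotient vanishes. -/
theorem result {R : Type u} [CommRing R] {M : Type v} [AddCommGroup M] [Module R M] (φ : M →ₗ[R] M) (n : ℕ) (hn : 0 < n) (hφ : φ ^ n = 0) (hfin : Module.length R (CycAlg.perH φ (φ ^ (n - 1))) < ⊤) (i : ℕ) (hi : i ≤ n) : CycAlg.FinCoh R (φ ^ i) (φ ^ (n - i)) ∧ CycAlg.herbrand R (φ ^ i) (φ ^ (n - i)) = 0 := by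
  rcases Nat.eq_zero_or_pos i with rfl | hi0
  · simp only [pow_zero, Nat.sub_zero, hφ]
    exact ⟨(aux (R := R) (M := M)).1, (aux (R := R) (M := M)).2⟩
  have f1 : CycAlg.FinCoh R φ (φ ^ (n - 1)) := by
    refine ⟨hfin, ?_⟩
    exact fin_swap φ n hn hφ hfin
  have step : ∀ j, j < n → CycAlg.FinCoh R (φ ^ (j + 1)) (φ ^ (n - (j + 1))) ∧
      CycAlg.herbrand R (φ ^ (j + 1)) (φ ^ (n - (j + 1))) =
        (j + 1 : ℤ) * CycAlg.herbrand R φ (φ ^ (n - 1)) := by
    intro j hj
    induction j with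
    | zero => simpa using f1
    | succ j ih =>
      obtain ⟨fj, ej⟩ := ih (by omega)
      have e₁ : φ ^ (j + 1) * φ ^ (n - (j + 2)) = φ ^ (n - 1) := by
        rw [← pow_add]; congr 1; omega
      have e₂ : φ ^ (n - (j + 2)) * φ = φ ^ (n - (j + 1)) := by
        rw [← pow_succ]; congr 1; omega
      have hz : φ * φ ^ (j + 1) * φ ^ (n - (j + 2)) = 0 := by
        rw [mul_assoc, e₁, ← pow_succ', show n - 1 + 1 = n by omega, hφ]
      obtain ⟨g, eg⟩ := Groth.L22.herbrand_comp φ (φ ^ (j + 1)) (φ ^ (n - (j + 2))) hz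
        (Commute.self_pow φ _).eq ((Commute.refl φ).pow_pow _ _).eq
        (Commute.self_pow φ _).eq (by rw [e₁]; exact f1) (by rw [e₂]; exact fj)
      rw [e₁, e₂, ej, ← pow_succ'] at eg
      rw [← pow_succ'] at g
      refine ⟨g, eg.trans ?_⟩
      push_cast
      ring
  have last := step (n - 1) (by omega)
  rw [show n - 1 + 1 = n by omega, Nat.sub_self, pow_zero, hφ] at last
  have z0 : CycAlg.herbrand R (0 : Module.End R M) 1 = 0 := by
    rw [Groth.L22.herbrand_swap, (aux (R := R) (M := M)).2, neg_zero]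
  rw [z0] at last
  have e0 : CycAlg.herbrand R φ (φ ^ (n - 1)) = 0 := by
    rcases mul_eq_zero.1 last.2.symm with h | h
    · omega
    · exact h
  obtain ⟨j, rfl⟩ : ∃ j, i = j + 1 := ⟨i - 1, by omega⟩
  obtain ⟨g, eg⟩ := step j (by omega)
  exact ⟨g, by rw [eg, e0, mul_zero]⟩

end Groth.Agent.S1831
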