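import Groth.Statements.S18310
import Groth.Agent.L24.Multi.HenselLift

set_option autoImplicit false
set_option backward.isDefEq.respectTransparency.types false
universe u
open AlgSt

namespace Groth.Agent.S18310

open CategoryTheory AlgebraicGeometry in
/-- Let S be a scheme, 𝒵 an algebraic stack over (Sch/S) for the fppf topology whose diagonal 𝒵 → 𝒵
×_{(Sch/S)} 𝒵 is separated (representable by algebraic spaces with closed-immersion relative
diagonal; no quasi-compactness is assumed), R a Henselian local ring with a structure morphism Spec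
R → S, and z : (Sch/Spec R) → 𝒵 a functor over (Sch/S) (an R-point of 𝒵). Then there are an affine
scheme Z over S, a functor p : (Sch/Z) → 𝒵 over (Sch/S) which is representable by algebraic spaces
and smooth, and an S-morphism g : Spec R → Z such that g followed by p is isomorphic to z over
(Sch/S). The source assumes only that the fibre of the diagonal over the image in S of the closed
point of Spec R is separated; the diagonal itself is taken separated here. -/
theorem result {S : Scheme.{u}} (𝒵 : AlgSt.Cat S)
    (h𝒵 : AlgSt.IsAlgStack Scheme.fppfPrecoverage 𝒵)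
    (hΔ : AlgSt.RepByAlgSpWith AlgSp.IsSeparatedMor (FibCat.diag (FibCat.toSelf 𝒵)))
    (R : Type u) [CommRing R] [HenselianLocalRing R] (str : Spec (CommRingCat.of R) ⟶ S)
    (z : FibCat.overCat (Over.mk str) ⥤ᵇ 𝒵) :
    ∃ (Z : Over S) (_ : IsAffine Z.left) (p : FibCat.overCat Z ⥤ᵇ 𝒵) (g : Over.mk str ⟶ Z),
      AlgSt.RepByAlgSpWith (AlgSp.LocP @Smooth) p ∧
        Nonempty (BasedFunctor.comp (AlgSt.overMap g) p ≅ z) := by
  obtain ⟨I, A, p, hA, hp, hlift⟩ := Groth.L24.Multi.exists_affine_charts_lift_henselian h𝒵
  obtain ⟨i, g, e⟩ := hlift R str z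
  exact ⟨A i, hA i, p i, g, hp i, e⟩

end Groth.Agent.S18310
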