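import Groth.Statements.S18316
import Groth.Agent.L09.Artin.Apps.SpQuot

set_option autoImplicit false
universe u
open CategoryTheory AlgebraicGeometry MonoidalCategory
open AlgSt

set_option backward.isDefEq.respectTransparency false
set_option backward.isDefEq.respectTransparency.types false

namespace Groth.Agent.S18316

/-- Let S be a scheme and G a group algebraic space over S, given as a group object over the terminal
fppf sheaf h_S on schemes over S whose underlying sheaf is an algebraic space, with G → h_S flat and
locally of finite presentation (étale locally on the source and target). Then the classifying stack
BG over (Sch/S), whose objects over T are the fppf G_T-torsors given as fppf sheaves, is smooth over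
S in the chart sense: there are schemes U, V over S, a functor (Sch/U) → BG over (Sch/S) which is
representable by algebraic spaces, smooth and surjective, a smooth (Sch/V) → (Sch/S) and a smooth
S-morphism U → V making the square commute up to isomorphism. -/
theorem result (S : Scheme.{u})
    (G : Over ((AlgSp.yon S).obj (Over.mk (𝟙 S)))) [GrpObj G] (hG : AlgSp.IsAlgSpace G.left)
    (hf : AlgSp.LocP (@Flat ⊓ @LocallyOfFinitePresentation) G.hom) :
    AlgSt.LocQ (AlgSp.LocP @Smooth) (FibCat.toSelf (AlgSt.SpBG Scheme.fppfPrecoverage G)) := by
  exact Groth.L09.Artin.Model.locQ_smooth_spBG hG hf

end Groth.Agent.S18316
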