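import Groth.Statements.S18317
import Groth.Agent.L09.FiniteConnected
import Mathlib.AlgebraicGeometry.Morphisms.Etale
import Mathlib.RingTheory.Unramified.Field

set_option autoImplicit false
universe u
open CategoryTheory AlgebraicGeometry
open NonAbH1

set_option backward.isDefEq.respectTransparency.types false
set_option linter.style.haveILetI false

namespace Groth.Agent.S18317

/-- Let K be a field and G a finite connected K-group scheme (G → Spec K finite, G connected as a
topological space). Then every G-torsor X over Spec K for the étale topology (a K-scheme with an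
action of G whose shear map G ×_K X → X ×_K X is an isomorphism and which acquires a section over
the members of some étale covering of Spec K) is trivial: X has a K-point. -/
theorem result (K : Type u) [Field K]
    (G X : Over (Spec (CommRingCat.of K))) [GrpObj G] [IsFinite G.hom] [ConnectedSpace G.left]
    (a : AlgGrp.Action G X) (h : NonAbH1.IsTorsorFor Scheme.etalePrecoverage a) :
    NonAbH1.HasSectionOver X (𝟙 (Spec (CommRingCat.of K))) := by
  obtain ⟨hps, R, hR, hs⟩ := h
  obtain ⟨κ, Z, g, rfl⟩ := R.exists_eq_ofArrows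
  obtain ⟨hcov, hP⟩ := (Scheme.ofArrows_mem_precoverage_iff _).mp hR
  have hfppf : Presieve.ofArrows Z g ∈ Scheme.fppfPrecoverage (Spec (CommRingCat.of K)) := by
    refine (Scheme.ofArrows_mem_precoverage_iff _).mpr ⟨hcov, fun i => ?_⟩
    haveI : Etale (g i) := hP i
    exact ⟨inferInstance, inferInstance⟩
  obtain ⟨L, _, _, _, -, hsec, hpt⟩ := Groth.L09.FiniteConnected.hasSectionOver_of_point (a := a)
    ⟨hps, _, Scheme.fppfPrecoverage_le_fpqcPrecoverage _ hfppf, hs⟩
  apply hsec
  obtain ⟨i, w, -⟩ := hcov (default : PrimeSpectrum K)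
  haveI : Etale (g i) := hP i
  obtain ⟨s, hsX⟩ := hs (g i) (Presieve.ofArrows.mk i)
  obtain ⟨V, hV, hwV, -⟩ := exists_isAffineOpen_mem_and_subset (X := Z i) (x := w) (U := ⊤)
    (TopologicalSpace.Opens.mem_top _)
  obtain ⟨ψ, hψ⟩ := Spec.map_surjective (hV.fromSpec ≫ g i)
  have hEt : Etale (Spec.map ψ) := by rw [hψ]; infer_instance
  rw [HasRingHomProperty.Spec_iff (P := @Etale)] at hEt
  letI : Algebra K Γ(Z i, V) := ψ.hom.toAlgebra
  haveI : Algebra.Etale K Γ(Z i, V) := RingHom.etale_algebraMap.mp hEt
  haveI : Nontrivial Γ(Z i, V) := PrimeSpectrum.nonempty_iff_nontrivial.mp ⟨hV.primeIdealOf ⟨w, hwV⟩⟩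
  obtain ⟨m, hm⟩ := Ideal.exists_maximal Γ(Z i, V)
  let L' := Γ(Z i, V) ⧸ m
  letI : Field L' := Ideal.Quotient.field m
  haveI : Algebra.FormallyUnramified K L' :=
    Algebra.FormallyUnramified.comp K Γ(Z i, V) L'
  haveI : Algebra.IsSeparable K L' := Algebra.FormallyUnramified.isSeparable K L'
  obtain ⟨φ⟩ := hpt L' (Spec.map (CommRingCat.ofHom (Ideal.Quotient.mk m)) ≫ hV.fromSpec ≫ s) (by
    rw [Category.assoc, Category.assoc, hsX, ← hψ, ← Spec.map_comp]
    rfl)
  exact Algebra.IsSeparable.of_algHom K L' φ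

end Groth.Agent.S18317
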