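import Groth.Statements.S18318
import Groth.Agent.L19.ConnTorsorInsep

set_option autoImplicit false
set_option backward.isDefEq.respectTransparency.types false
set_option backward.isDefEq.respectTransparency false
set_option linter.style.haveILetI false
universe u
open CategoryTheory AlgebraicGeometry
open NonAbH1

namespace Groth.Agent.S18318

/-- Let K be a field of exponential characteristic p and G a finite connected K-group scheme. Then there
is an integer n ≥ 0 such that every G-torsor X over Spec K for the fppf topology (simply transitive
action, a section over the members of some fppf covering) becomes trivial over the purely
inseparable extension K^{1/p^n} of K: equivalently, X admits a K-morphism from Spec K regarded as a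
K-scheme through the n-th iterate x ↦ x^(p^n) of the Frobenius endomorphism of K. The source
moreover bounds n by p^n ≤ (#G)!; only the existence of a uniform n is stated here. In particular (p
= 1, characteristic zero) every such torsor is trivial. -/
theorem result (K : Type u) [Field K]
    (p : ℕ) [ExpChar K p] (G : Over (Spec (CommRingCat.of K))) [GrpObj G] [IsFinite G.hom] [ConnectedSpace G.left] :
    ∃ n : ℕ, ∀ (X : Over (Spec (CommRingCat.of K))) (a : AlgGrp.Action G X), NonAbH1.IsTorsorFor Scheme.fppfPrecoverage a →
      NonAbH1.HasSectionOver X (Spec.map (CommRingCat.ofHom (iterateFrobenius K p n))) := by
  exact Groth.L19.ConnTorsorInsep.result K p G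

end Groth.Agent.S18318
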