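import Groth.Statements.S18319
import Groth.Agent.L09.FiniteConnected

set_option autoImplicit false
universe u
open CategoryTheory AlgebraicGeometry
open NonAbH1

set_option backward.isDefEq.respectTransparency.types false
set_option linter.style.haveILetI false

namespace Groth.Agent.S18319

/-- Let K be a perfect field and G a finite connected K-group scheme (G → Spec K finite, G connected).
Then every G-torsor X over Spec K for the fppf topology (simply transitive action, a section over
the members of some fppf covering of Spec K) is trivial: X has a K-point. -/
theorem result (K : Type u) [Field K]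
    [PerfectField K] (G X : Over (Spec (CommRingCat.of K))) [GrpObj G] [IsFinite G.hom] [ConnectedSpace G.left]
    (a : AlgGrp.Action G X) (h : NonAbH1.IsTorsorFor Scheme.fppfPrecoverage a) :
    NonAbH1.HasSectionOver X (𝟙 (Spec (CommRingCat.of K))) := by
  obtain ⟨L, _, _, _, -, hsec, -⟩ := Groth.L09.FiniteConnected.hasSectionOver_of_point (a := a)
    ⟨h.1, h.2.imp fun R hR => ⟨Scheme.fppfPrecoverage_le_fpqcPrecoverage _ hR.1, hR.2⟩⟩
  exact hsec inferInstance

end Groth.Agent.S18319
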