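
import Groth.Statements.S1832
import Groth.Agent.L22.Herbrand
import Groth.Agent.L22.FiniteLength

set_option autoImplicit false
universe u v
open Pointwise
open CycAlg

namespace Groth.Agent.S1832

open Pointwise in
theorem key {R : Type u} [CommRing R] [IsNoetherianRing R] [IsLocalRing R] {M : Type v}
    [AddCommGroup M] [Module R M] [Module.Finite R M] (φ ψ : M →ₗ[R] M)
    (hper : CycAlg.IsPeriodic φ ψ) (hfin : CycAlg.FinCoh R φ ψ) (x : R)
    (hx : Module.supportDim R (M ⧸ x • (⊤ : Submodule R M)) ≤ 0) :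
    CycAlg.FinCoh R (x • φ) ψ ∧ CycAlg.herbrand R (x • φ) ψ = CycAlg.herbrand R φ ψ -
      CycAlg.herbrand R (0 : ↥(LinearMap.range φ) →ₗ[R] ↥(LinearMap.range φ))
        (x • LinearMap.id) := by
  set I := LinearMap.range φ with hI
  set z : I →ₗ[R] I := 0 with hz
  set m : I →ₗ[R] I := x • LinearMap.id with hm
  -- supports of the two cohomology modules of `(I, 0, x)`
  have hsupp : ∀ (P : Type v) [AddCommGroup P] [Module R P], Module.Finite R P →
      (∀ p : P, x • p = 0) → Module.support R P ⊆ Module.support R M →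
      Module.length R P < ⊤ := by
    intro P _ _ hP h0 hs
    haveI := hP
    apply Groth.L22.length_lt_top_of_supportDim_le_zero
    refine le_trans ?_ hx
    refine Order.krullDim_le_of_strictMono
      (fun p => ⟨p.1, ?_⟩) (fun a b h => h)
    have hq : Module.support R (M ⧸ x • (⊤ : Submodule R M)) =
        Module.support R M ∩ PrimeSpectrum.zeroLocus {x} := Module.support_quotSMulTop x
    rw [hq]
    refine ⟨hs p.2, ?_⟩
    rw [PrimeSpectrum.mem_zeroLocus, Set.singleton_subset_iff]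
    exact Module.annihilator_le_of_mem_support p.2 (Module.mem_annihilator.2 h0)
  have hIM : Module.support R I ⊆ Module.support R M :=
    Module.support_subset_of_injective I.subtype I.injective_subtype
  have hIx : Module.length R (CycAlg.perH z m) < ⊤ := by
    refine hsupp _ inferInstance ?_ ?_
    · intro p
      obtain ⟨y, rfl⟩ := Groth.L22.hmk_surjective p
      rw [← map_smul, Groth.L22.hmk_eq_zero]
      exact ⟨y, rfl⟩
    · exact ((Module.support_subset_of_surjective _ Groth.L22.hmk_surjective).trans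
        (Module.support_subset_of_injective _ (Submodule.injective_subtype _))).trans hIM
  have hIt : Module.length R (CycAlg.perH m z) < ⊤ := by
    refine hsupp _ inferInstance ?_ ?_
    · intro p
      obtain ⟨y, rfl⟩ := Groth.L22.hmk_surjective p
      have : x • y = 0 := Subtype.ext (LinearMap.mem_ker.1 y.2)
      rw [← map_smul, this, map_zero]
    · exact ((Module.support_subset_of_surjective _ Groth.L22.hmk_surjective).trans
        (Module.support_subset_of_injective _ (Submodule.injective_subtype _))).trans hIM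
  have hpφ : ∀ w, φ (ψ w) = 0 := fun w => LinearMap.congr_fun hper.1 w
  have hpψ : ∀ w, ψ (φ w) = 0 := fun w => LinearMap.congr_fun hper.2 w
  -- 0 → ker φ/im ψ → ker xφ/im ψ → I[x] → 0
  let u : CycAlg.perH φ ψ →ₗ[R] CycAlg.perH (x • φ) ψ :=
    Groth.L22.hmap φ ψ (x • φ) ψ LinearMap.id
      (fun y hy => by simp [hy]) (fun y => ⟨y, rfl⟩)
  let v : CycAlg.perH (x • φ) ψ →ₗ[R] CycAlg.perH m z :=
    Groth.L22.hmap (x • φ) ψ m z φ.rangeRestrict
      (fun y hy => Subtype.ext hy)
      (fun y => ⟨0, by rw [map_zero]; exact Subtype.ext (hpφ y).symm⟩)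
  have huv : Function.Exact u v := by
    apply Groth.L22.hmap_exact
    · intro y hy; exact ⟨0, by rw [map_zero]; exact Subtype.ext hy.symm⟩
    · rintro y - ⟨w, hw⟩
      exact ⟨y, by simpa [z] using (congrArg Subtype.val hw).symm, by simp⟩
  have hu : Function.Injective u := by
    rw [injective_iff_map_eq_zero]
    intro p
    obtain ⟨y, rfl⟩ := Groth.L22.hmk_surjective p
    intro hy
    simp only [u, Groth.L22.hmap_hmk, Groth.L22.hmk_eq_zero] at hy
    exact Groth.L22.hmk_eq_zero.2 hy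
  have hv : Function.Surjective v := by
    intro p
    obtain ⟨⟨⟨_, w, rfl⟩, hw⟩, rfl⟩ := Groth.L22.hmk_surjective p
    exact ⟨Groth.L22.hmk (x • φ) ψ ⟨w, congrArg Subtype.val (LinearMap.mem_ker.1 hw)⟩, rfl⟩
  -- 0 → I/xI → ker ψ/x I → ker ψ/I → 0
  let u' : CycAlg.perH z m →ₗ[R] CycAlg.perH ψ (x • φ) :=
    Groth.L22.hmap z m ψ (x • φ) I.subtype
      (by rintro ⟨_, w, rfl⟩ -; exact hpψ w)
      (by rintro ⟨_, w, rfl⟩; exact ⟨w, rfl⟩)
  let v' : CycAlg.perH ψ (x • φ) →ₗ[R] CycAlg.perH ψ φ :=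
    Groth.L22.hmap ψ (x • φ) ψ φ LinearMap.id (fun y hy => hy) (fun y => ⟨x • y, by simp⟩)
  have huv' : Function.Exact u' v' := by
    apply Groth.L22.hmap_exact
    · intro y _; exact y.2
    · intro y _ hy; exact ⟨⟨y, hy⟩, rfl, by simp⟩
  have hu' : Function.Injective u' := by
    rw [injective_iff_map_eq_zero]
    intro p
    obtain ⟨y, rfl⟩ := Groth.L22.hmk_surjective p
    intro hy
    simp only [u', Groth.L22.hmap_hmk, Groth.L22.hmk_eq_zero] at hy
    obtain ⟨w, hw⟩ := hy
    exact Groth.L22.hmk_eq_zero.2 ⟨⟨φ w, w, rfl⟩, Subtype.ext hw⟩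
  have hv' : Function.Surjective v' := by
    intro p
    obtain ⟨y, rfl⟩ := Groth.L22.hmk_surjective p
    exact ⟨Groth.L22.hmk ψ (x • φ) y, rfl⟩
  have e1 := Module.length_eq_add_of_exact u v hu hv huv
  have e2 := Module.length_eq_add_of_exact u' v' hu' hv' huv'
  refine ⟨⟨?_, ?_⟩, ?_⟩
  · rw [e1]; exact WithTop.add_lt_top.2 ⟨hfin.1, hIt⟩
  · rw [e2]; exact WithTop.add_lt_top.2 ⟨hIx, hfin.2⟩
  · unfold CycAlg.herbrand
    rw [e1, e2, ENat.toNat_add hfin.1.ne hIt.ne, ENat.toNat_add hIx.ne hfin.2.ne]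
    push_cast
    ring

/-- Over a Noetherian local ring, let (M, φ, ψ) be a (2,1)-periodic complex with M finite and cohomology
of finite length, and let x be a ring element with M/xM supported in dimension ≤ 0. Then (M, xφ, ψ)
and (M, φ, xψ) again have finite-length cohomology, and their Herbrand quotients differ from that of
(M, φ, ψ) by the Herbrand quotient of (im φ, 0, x), respectively (im ψ, 0, x). -/
theorem result {R : Type u} [CommRing R] [IsNoetherianRing R] [IsLocalRing R] {M : Type v} [AddCommGroup M] [Module R M] [Module.Finite R M] (φ ψ : M →ₗ[R] M) (hper : CycAlg.IsPeriodic φ ψ) (hfin : CycAlg.FinCoh R φ ψ) (x : R) (hx : Module.supportDim R (M ⧸ x • (⊤ : Submodule R M)) ≤ 0) : (CycAlg.FinCoh R (x • φ) ψ ∧ CycAlg.herbrand R (x • φ) ψ = CycAlg.herbrand R φ ψ - CycAlg.herbrand R (0 : ↥(LinearMap.range φ) →ₗ[R] ↥(LinearMap.range φ)) (x • LinearMap.id)) ∧ (CycAlg.FinCoh R φ (x • ψ) ∧ CycAlg.herbrand R φ (x • ψ) = CycAlg.herbrand R φ ψ + CycAlg.herbrand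 R (0 : ↥(LinearMap.range ψ) →ₗ[R] ↥(LinearMap.range ψ)) (x • LinearMap.id)) := by
  obtain ⟨a1, a2⟩ := key φ ψ hper hfin x hx
  refine ⟨⟨a1, a2⟩, ?_⟩
  obtain ⟨b1, b2⟩ := key ψ φ ⟨hper.2, hper.1⟩ ⟨hfin.2, hfin.1⟩ x hx
  refine ⟨⟨b1.2, b1.1⟩, ?_⟩
  rw [Groth.L22.herbrand_swap φ (x • ψ), b2, Groth.L22.herbrand_swap ψ φ]
  ring

end Groth.Agent.S1832
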