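import Groth.Statements.S18320
import Groth.Agent.L19.FrobKernel

set_option autoImplicit false
set_option backward.isDefEq.respectTransparency.types false
set_option backward.isDefEq.respectTransparency false
set_option linter.style.haveILetI false
universe u
open CategoryTheory AlgebraicGeometry
open AlgGrp

namespace Groth.Agent.S18320

open CategoryTheory MonoidalCategory CartesianMonoidalCategory MonObj

/-- Let K be a field and G a K-group scheme whose structure morphism is locally of finite type. Then G
is an extension of a smooth K-group scheme by a finite connected one: there are a K-group scheme H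
with H → Spec K finite and H connected, a K-group scheme Q with Q → Spec K smooth, and homomorphisms
i : H → G and v : G → Q with i a closed immersion, such that 1 → H → G → Q → 1 is exact for the fppf
topology (i followed by v is trivial, G with H acting through i is a pseudo-torsor over Q, and v
acquires sections over the members of some fppf covering of Q). -/
theorem result (K : Type u) [Field K]
    (G : Over (Spec (CommRingCat.of K))) [GrpObj G] [LocallyOfFiniteType G.hom] :
    ∃ (H Q : Over (Spec (CommRingCat.of K))) (_ : GrpObj H) (_ : GrpObj Q) (i : H ⟶ G) (v : G ⟶ Q),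
      IsFinite H.hom ∧ ConnectedSpace H.left ∧ Smooth Q.hom ∧ IsClosedImmersion i.left ∧
        NonAbH1.IsExactSeq Scheme.fppfPrecoverage i v := by
  rcases CharP.exists' K with h0 | ⟨p, hp, hc⟩
  · haveI := h0
    letI : GrpObj (Over.mk G.hom) := ‹GrpObj G›
    haveI : Smooth G.hom := Groth.L25.GrpDeriv.smooth_of_charZero G.hom
    haveI : Mono (η[G] : 𝟙_ (Over (Spec (CommRingCat.of K))) ⟶ G) := (SplitMono.mk (toUnit G) (toUnit_unique _ _)).mono
    haveI : IsClosedImmersion (η[G] : 𝟙_ (Over (Spec (CommRingCat.of K))) ⟶ G).left := by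
      haveI : IsSeparated G.hom := Groth.Agent.AV.isSeparated_of_grpObj _
      haveI : IsClosedImmersion ((η[G] : 𝟙_ (Over (Spec (CommRingCat.of K))) ⟶ G).left ≫ G.hom) := by
        rw [Over.w]; exact inferInstanceAs (IsClosedImmersion (𝟙 _))
      exact IsClosedImmersion.of_comp _ G.hom
    haveI : IsMonHom (η[G] : 𝟙_ (Over (Spec (CommRingCat.of K))) ⟶ G) := inferInstance
    haveI : Surjective (𝟙 G : G ⟶ G).left := inferInstanceAs (Surjective (𝟙 G.left))
    haveI : Flat (𝟙 G : G ⟶ G).left := inferInstanceAs (Flat (𝟙 G.left))
    haveI : LocallyOfFinitePresentation (𝟙 G : G ⟶ G).left := inferInstanceAs (LocallyOfFinitePresentation (𝟙 G.left))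
    haveI : Subsingleton ↥(Spec (CommRingCat.of K)) := inferInstanceAs (Subsingleton (PrimeSpectrum K))
    refine ⟨𝟙_ _, G, inferInstance, inferInstance, η[G], 𝟙 G, inferInstanceAs (IsFinite (𝟙 _)), ?_, ‹_›, ‹_›,
      Groth.L19.FrobKernel.isExactSeq_of_kernel _ _ ?_⟩
    · exact inferInstanceAs (ConnectedSpace ↥(Spec (CommRingCat.of K)))
    · have e : toUnit (𝟙_ (Over (Spec (CommRingCat.of K)))) = 𝟙 _ := toUnit_unique _ _
      unfold AlgGrp.IsKernel
      rw [e]
      exact IsPullback.of_vert_isIso ⟨by simp⟩
  · haveI := hp
    haveI := hc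
    obtain ⟨H, Q, gH, gQ, ι', v, h1, h2, h3, h4, hm, hv, hs, hf, hfp, hk⟩ :=
      Groth.L19.FrobKernel.exists_finite_kernel p G
    haveI := hm
    haveI := hv
    haveI := h4
    haveI : Mono ι' := Over.mono_of_mono_left ι'
    haveI : Surjective v.left := hs
    haveI : Flat v.left := hf
    haveI : LocallyOfFinitePresentation v.left := hfp
    exact ⟨H, Q, gH, gQ, ι', v, h1, h2, h3, h4, Groth.L19.FrobKernel.isExactSeq_of_kernel ι' v hk⟩

end Groth.Agent.S18320
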