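import Groth.Statements.S18324
import Groth.Agent.L24.Multi.HenselLift
import Groth.Agent.L24.Multi.SmoothBase
import Groth.Agent.L06.NormalHensel

set_option autoImplicit false
set_option backward.isDefEq.respectTransparency.types false
universe u
open AlgSt

namespace Groth.Agent.S18324

open CategoryTheory AlgebraicGeometry in
/-- Let R be a Henselian local ring, S = Spec R, and 𝒵 an algebraic stack over (Sch/S) for the fppf
topology which is smooth over S (in the chart sense: a smooth surjective scheme chart U of 𝒵 and a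
smooth V → S with a smooth U → V compatible up to isomorphism) and whose diagonal 𝒵 → 𝒵 ×_{(Sch/S)}
𝒵 is separated (representable by algebraic spaces with closed-immersion relative diagonal). Then for
every ideal a ≠ R, with q : Spec (R/a) → S the closed immersion, the restriction functor 𝒵(R) →
𝒵(R/a) is essentially surjective: every functor z₀ : (Sch/Spec (R/a)) → 𝒵 over (Sch/S) is isomorphic
to the composite of (Sch/q) with some functor z : (Sch/S) → 𝒵 over (Sch/S). The source assumes only
that the fibre of the diagonal over the closed point is separated; the diagonal itself is taken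
separated here. -/
theorem result (R : Type u) [CommRing R]
    [HenselianLocalRing R] (𝒵 : AlgSt.Cat (Spec (CommRingCat.of R)))
    (h𝒵 : AlgSt.IsAlgStack Scheme.fppfPrecoverage 𝒵)
    (hsm : AlgSt.LocQ (AlgSp.LocP @Smooth) (FibCat.toSelf 𝒵))
    (hΔ : AlgSt.RepByAlgSpWith AlgSp.IsSeparatedMor (FibCat.diag (FibCat.toSelf 𝒵)))
    (a : Ideal R) (ha : a ≠ ⊤)
    (z₀ : FibCat.overCat (Over.mk (Spec.map (CommRingCat.ofHom (Ideal.Quotient.mk a)))) ⥤ᵇ 𝒵) :
    ∃ z : FibCat.overCat (Over.mk (𝟙 (Spec (CommRingCat.of R)))) ⥤ᵇ 𝒵,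
      Nonempty (BasedFunctor.comp (AlgSt.overMap (Over.homMk (Spec.map (CommRingCat.ofHom (Ideal.Quotient.mk a)))
        (Category.comp_id _) : Over.mk (Spec.map (CommRingCat.ofHom (Ideal.Quotient.mk a))) ⟶ Over.mk (𝟙 _))) z ≅ z₀) := by
  obtain ⟨I, A, p, hA, hp, hlift⟩ := Groth.L24.Multi.exists_affine_charts_lift_henselian h𝒵
  have : Nontrivial (R ⧸ a) := Ideal.Quotient.nontrivial_iff.2 ha
  have : IsLocalRing (R ⧸ a) := IsLocalRing.of_surjective' _ Ideal.Quotient.mk_surjective
  have : HenselianLocalRing (R ⧸ a) := Groth.L06.NormalHensel.henselianLocalRing_quotient a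
  obtain ⟨i, g, ⟨e⟩⟩ := hlift (R ⧸ a) (Spec.map (CommRingCat.ofHom (Ideal.Quotient.mk a))) z₀
  have := Groth.L24.Multi.smooth_hom_of_locQ h𝒵.isStack.1 hsm (hp i)
  let j : Groth.L24.Hensel.quotOver (𝟙 (Spec (CommRingCat.of R))) a ⟶
      Over.mk (Spec.map (CommRingCat.ofHom (Ideal.Quotient.mk a))) :=
    Over.homMk (𝟙 _) (by show 𝟙 _ ≫ Spec.map _ = Spec.map _ ≫ 𝟙 _; simp)
  let t : A i ⟶ Over.mk (𝟙 (Spec (CommRingCat.of R))) := Over.homMk (A i).hom (Category.comp_id _)
  have : Smooth t.left := this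
  obtain ⟨w, -, hw⟩ := Groth.L24.Hensel.exists_section_over ha t (j ≫ g) (Over.OverMorphism.ext (by
    show (_ ≫ g.left) ≫ (A i).hom = Spec.map (CommRingCat.ofHom (Ideal.Quotient.mk a))
    rw [Category.assoc, Over.w g]
    exact Category.id_comp _))
  refine ⟨BasedFunctor.comp (AlgSt.overMap w) (p i), ⟨?_⟩⟩
  have hl : (Over.homMk (Spec.map (CommRingCat.ofHom (Ideal.Quotient.mk a))) (Category.comp_id _) :
      Over.mk (Spec.map (CommRingCat.ofHom (Ideal.Quotient.mk a))) ⟶ Over.mk (𝟙 _)) ≫ w = g := by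
    apply Over.OverMorphism.ext
    have := congrArg CommaMorphism.left hw
    simp only [Over.comp_left] at this ⊢
    exact this.trans (Category.id_comp _)
  exact (Groth.L24.St.whiskerR (Groth.L24.St.overMapCompIso _ w) (p i)).symm ≪≫ eqToIso (by rw [hl]) ≪≫ e

end Groth.Agent.S18324
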