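import Groth.Statements.S18325
import Groth.Agent.L24.Hensel.StackLift

set_option autoImplicit false
set_option backward.isDefEq.respectTransparency.types false
universe u
open AlgSt

namespace Groth.Agent.S18325

open CategoryTheory AlgebraicGeometry in
/-- Let S be a scheme, 𝒵 an algebraic stack over (Sch/S) for the fppf topology, Z an algebraic space
over S and f : Z → 𝒵 a functor over (Sch/S) (from the category of points of Z) which is
representable by algebraic spaces and smooth. Let R be a Henselian local ring with residue field k =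
R/m and structure morphism Spec R → S, let z : (Sch/Spec R) → 𝒵 be an object of 𝒵 over Spec R, and
let z₀' : h_{Spec k} → Z be a k-point of Z whose image under f is isomorphic, over (Sch/S), to the
restriction of z to Spec k. Then there is an R-point z' : h_{Spec R} → Z whose restriction to Spec k
is z₀' and whose image under f is isomorphic to z over (Sch/S). -/
theorem result {S : Scheme.{u}} (𝒵 : AlgSt.Cat S)
    (h𝒵 : AlgSt.IsAlgStack Scheme.fppfPrecoverage 𝒵) (Z : AlgSp.Space S)
    (f : AlgSt.ofSp Z.obj ⥤ᵇ 𝒵) (hf : AlgSt.RepByAlgSpWith (AlgSp.LocP @Smooth) f)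
    (R : Type u) [CommRing R] [HenselianLocalRing R] (str : Spec (CommRingCat.of R) ⟶ S)
    (z : FibCat.overCat (Over.mk str) ⥤ᵇ 𝒵)
    (z₀ : (AlgSp.yon S).obj (Over.mk ((Spec.map (CommRingCat.ofHom (IsLocalRing.residue R))) ≫ str)) ⟶ Z.obj)
    (w : Nonempty (BasedFunctor.comp (BasedFunctor.comp (AlgSt.ofOverCat (Over.mk ((Spec.map (CommRingCat.ofHom (IsLocalRing.residue R))) ≫ str))) (AlgSt.ofSpMap z₀)) f ≅
      BasedFunctor.comp (AlgSt.overMap (Over.homMk (Spec.map (CommRingCat.ofHom (IsLocalRing.residue R))) rfl : Over.mk ((Spec.map (CommRingCat.ofHom (IsLocalRing.residue R))) ≫ str) ⟶ Over.mk str)) z)) :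
    ∃ z' : (AlgSp.yon S).obj (Over.mk str) ⟶ Z.obj,
      (AlgSp.yon S).map (Over.homMk (Spec.map (CommRingCat.ofHom (IsLocalRing.residue R))) rfl : Over.mk ((Spec.map (CommRingCat.ofHom (IsLocalRing.residue R))) ≫ str) ⟶ Over.mk str) ≫ z' = z₀ ∧
        Nonempty (BasedFunctor.comp (BasedFunctor.comp (AlgSt.ofOverCat (Over.mk str)) (AlgSt.ofSpMap z')) f ≅ z) := by
  obtain ⟨F, e, he, hP⟩ := hf (Over.mk str) z
  let qh := Groth.L24.Hensel.quotHom str (IsLocalRing.maximalIdeal R)
  obtain ⟨α⟩ := w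
  obtain ⟨σ₀, hσ₁, hσ₂⟩ := Groth.L24.Hensel.exists_section_of_point he qh z₀ α
  obtain ⟨s, hs₁, hs₂⟩ := Groth.L24.Hensel.exists_section_of_locP_smooth F.property _ hP σ₀ hσ₁
  refine ⟨s ≫ Groth.L24.Hensel.sndMap e, ?_, ?_⟩
  · rw [← Category.assoc]
    exact (congrArg (fun t => t ≫ Groth.L24.Hensel.sndMap e) hs₂).trans hσ₂
  · obtain ⟨i⟩ := Groth.L24.Hensel.iso_of_point e (𝟙 _) s (by rw [hs₁, (AlgSp.yon S).map_id])
    exact ⟨i ≪≫ Groth.L24.St.whiskerR (Groth.L24.Hensel.overMapIdIso (Over.mk str)) z⟩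

end Groth.Agent.S18325
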