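import Groth.Statements.S18326
import Groth.Agent.L24.Multi.HenselLift
import Groth.Agent.L24.Multi.Glue
import Groth.Agent.L24.Hensel.Chart
import Groth.Agent.L06.NormalHensel

set_option autoImplicit false
set_option backward.isDefEq.respectTransparency.types false
universe u
open AlgSt

namespace Groth.Agent.S18326

open CategoryTheory AlgebraicGeometry in
/-- Let S be a scheme, 𝒵 an algebraic stack over (Sch/S) for the fppf topology whose diagonal 𝒵 → 𝒵
×_{(Sch/S)} 𝒵 is separated (representable by algebraic spaces with closed-immersion relative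
diagonal), and R a Henselian local ring with a structure morphism Spec R → S. Then there are a
scheme Z separated over S and a functor p : (Sch/Z) → 𝒵 over (Sch/S) which is representable by
algebraic spaces and smooth, such that for every ideal a of R (Spec (R/a) mapping to S through Spec
R) every functor (Sch/Spec (R/a)) → 𝒵 over (Sch/S) is isomorphic to (Sch/g) followed by p for some
S-morphism g : Spec (R/a) → Z. The source assumes only that the fibre of the diagonal over the image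
of the closed point is separated; the diagonal itself is taken separated here. -/
theorem result {S : Scheme.{u}} (𝒵 : AlgSt.Cat S)
    (h𝒵 : AlgSt.IsAlgStack Scheme.fppfPrecoverage 𝒵)
    (hΔ : AlgSt.RepByAlgSpWith AlgSp.IsSeparatedMor (FibCat.diag (FibCat.toSelf 𝒵)))
    (R : Type u) [CommRing R] [HenselianLocalRing R] (str : Spec (CommRingCat.of R) ⟶ S) :
    ∃ (Z : Over S) (p : FibCat.overCat Z ⥤ᵇ 𝒵), IsSeparated Z.hom ∧ AlgSt.RepByAlgSpWith (AlgSp.LocP @Smooth) p ∧
      ∀ (a : Ideal R) (x : FibCat.overCat (Over.mk (Spec.map (CommRingCat.ofHom (Ideal.Quotient.mk a)) ≫ str)) ⥤ᵇ 𝒵),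
        ∃ g : Over.mk (Spec.map (CommRingCat.ofHom (Ideal.Quotient.mk a)) ≫ str) ⟶ Z,
          Nonempty (BasedFunctor.comp (AlgSt.overMap g) p ≅ x) := by
  obtain ⟨I, A, p, hA, hp, hlift⟩ := Groth.L24.Multi.exists_affine_charts_lift_henselian h𝒵
  obtain ⟨D⟩ := Groth.L24.Boot.exists_sigma A
  obtain ⟨q, hq⟩ := Groth.L24.Multi.exists_glue p D h𝒵.isStack
  refine ⟨D.V, q, Groth.L24.Hensel.isSeparated_sigmaData D hA, Groth.L24.Multi.smooth_glue p D h𝒵 hq hp, fun a x => ?_⟩
  rcases eq_or_ne a ⊤ with rfl | ha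
  · let T : Over S := Over.mk (Spec.map (CommRingCat.ofHom (Ideal.Quotient.mk (⊤ : Ideal R))) ≫ str)
    have : Subsingleton (R ⧸ (⊤ : Ideal R)) := Ideal.Quotient.subsingleton_iff.2 rfl
    have hE : IsEmpty ↥T.left := inferInstanceAs (IsEmpty (PrimeSpectrum (R ⧸ (⊤ : Ideal R))))
    have hI := isInitialOfIsEmpty (X := T.left)
    let g : T ⟶ D.V := Over.homMk (hI.to D.V.left) (hI.hom_ext _ _)
    obtain ⟨φ, hφ, -⟩ := Groth.L24.Multi.exists_unique_overId h𝒵.isStack hE
      ((BasedFunctor.comp (AlgSt.overMap g) q).obj (Groth.L24.St.idObj T)) (x.obj (Groth.L24.St.idObj T))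
      ((BasedFunctor.comp (AlgSt.overMap g) q).w_obj _) (x.w_obj _)
    have : IsIso φ := by
      have : 𝒵.p.IsHomLift (𝟙 T) φ := hφ.lift ((BasedFunctor.comp (AlgSt.overMap g) q).w_obj _)
      exact Groth.L09.Fib.isIso_of_isFibGrpd 𝒵.p h𝒵.isStack.1 (𝟙 T) φ
    obtain ⟨e, -⟩ := Groth.L24.St.exists_iso_of_evalId h𝒵.isStack.1 (asIso φ) hφ
    exact ⟨g, ⟨e⟩⟩
  · have : Nontrivial (R ⧸ a) := Ideal.Quotient.nontrivial_iff.2 ha
    have : IsLocalRing (R ⧸ a) := IsLocalRing.of_surjective' _ Ideal.Quotient.mk_surjective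
    have : HenselianLocalRing (R ⧸ a) := Groth.L06.NormalHensel.henselianLocalRing_quotient a
    obtain ⟨i, g, ⟨e⟩⟩ := hlift (R ⧸ a) (Spec.map (CommRingCat.ofHom (Ideal.Quotient.mk a)) ≫ str) x
    obtain ⟨qi⟩ := hq i
    exact ⟨g ≫ D.inj i, ⟨Groth.L24.St.whiskerR (Groth.L24.St.overMapCompIso g (D.inj i)) q ≪≫
      Groth.L24.St.whiskerL (AlgSt.overMap g) qi ≪≫ e⟩⟩

end Groth.Agent.S18326
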